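import Groth.Statements.S13781
import Groth.Agent.CycCovLib.Regular

set_option autoImplicit false
universe u
open CAlg

namespace Groth.Agent.S13781

open Polynomial

theorem exists_quot (A : Type u) [CommRing A] (s : A) (e : ℕ) (he : 0 < e) :
    ∃ φ : AdjoinRoot (X ^ e - C s) →+* A ⧸ Ideal.span {s},
      Function.Surjective φ ∧ RingHom.ker φ = Ideal.span {AdjoinRoot.root (X ^ e - C s)} := by
  let π := Ideal.Quotient.mk (Ideal.span {s})
  have hπs : π s = 0 := Ideal.Quotient.eq_zero_iff_mem.2 (Ideal.mem_span_singleton_self _)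
  let φ : AdjoinRoot (X ^ e - C s) →+* A ⧸ Ideal.span {s} :=
    AdjoinRoot.lift π 0 (by rw [eval₂_sub, eval₂_X_pow, eval₂_C, hπs, sub_zero]; exact zero_pow he.ne')
  refine ⟨φ, fun y => ?_, le_antisymm (fun x hx => ?_) ((Ideal.span_singleton_le_iff_mem _).2 (AdjoinRoot.lift_root _))⟩
  · obtain ⟨c, rfl⟩ := Ideal.Quotient.mk_surjective y
    exact ⟨algebraMap _ _ c, AdjoinRoot.lift_of _⟩
  · obtain ⟨P, rfl⟩ := AdjoinRoot.mk_surjective x
    rw [RingHom.mem_ker, AdjoinRoot.lift_mk, eval₂_at_zero, Ideal.Quotient.eq_zero_iff_mem,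
      Ideal.mem_span_singleton] at hx
    obtain ⟨b, hb⟩ := hx
    obtain ⟨Z, hZ⟩ := X_dvd_iff.2 (show (P - C (P.coeff 0)).coeff 0 = 0 by simp)
    rw [sub_eq_iff_eq_add] at hZ
    have hroot : AdjoinRoot.root (X ^ e - C s) ^ e = AdjoinRoot.of _ s := by
      have := AdjoinRoot.eval₂_root (X ^ e - C s)
      rwa [eval₂_sub, eval₂_X_pow, eval₂_C, sub_eq_zero] at this
    rw [Ideal.mem_span_singleton, hZ, map_add, map_mul (AdjoinRoot.mk _) X Z, AdjoinRoot.mk_X, AdjoinRoot.mk_C, hb,
      map_mul (AdjoinRoot.of _), ← hroot]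
    exact dvd_add (dvd_mul_right _ _) ((dvd_pow_self _ he.ne').mul_right _)

/-- Let A be a regular local ring, s a non-zero element of A such that A/(s) is regular, and e a
positive integer invertible in A. Then A[t]/(t^e - s) is regular. (Regularity of a ring is taken
throughout as: Noetherian, with every localization at a prime ideal a regular local ring; the
hypotheses on A and on A/(s) and the conclusion on A[t]/(t^e - s) are all read this way, which for
the local rings A and A/(s) is the usual notion once localizations of regular local rings are known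
to be regular.) -/
theorem result (A : Type u) [CommRing A] [IsLocalRing A]
    [IsRegularRing A] (s : A) (hs : s ≠ 0) (hreg : IsRegularRing (A ⧸ Ideal.span {s}))
    (e : ℕ) (he : 0 < e) (heu : IsUnit (e : A)) :
    IsRegularRing (AdjoinRoot (Polynomial.X ^ e - Polynomial.C s)) := by
  haveI := hreg
  haveI : IsRegularLocalRing A := by
    haveI : IsRegularLocalRing (Localization.AtPrime (IsLocalRing.maximalIdeal A)) :=
      IsRegularRing.isRegularLocalRing_localization _
    refine IsRegularLocalRing.of_ringEquiv (IsLocalization.atUnits A (IsLocalRing.maximalIdeal A).primeCompl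
      (S := Localization.AtPrime (IsLocalRing.maximalIdeal A)) ?_).symm.toRingEquiv
    intro x hx
    exact (IsLocalRing.notMem_maximalIdeal).1 hx
  haveI := RegLoc6.isDomain_of_isRegularLocalRing A
  haveI : IsNoetherianRing (AdjoinRoot (Polynomial.X ^ e - Polynomial.C s)) :=
    isNoetherianRing_of_surjective _ _ (AdjoinRoot.mk _) AdjoinRoot.mk_surjective
  rw [isRegularRing_iff]
  intro Q _
  by_cases hs' : AdjoinRoot.root (Polynomial.X ^ e - Polynomial.C s) ∈ Q
  · obtain ⟨φ, hφ, hker⟩ := exists_quot A s e he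
    haveI : Module.Free A (AdjoinRoot (Polynomial.X ^ e - Polynomial.C s)) :=
      (Polynomial.monic_X_pow_sub_C s he.ne').free_adjoinRoot
    refine CycCovLib.isRegular_lift φ hφ _ hker ?_ Q hs'
    refine isSMulRegular_iff_right_eq_zero_of_smul.mpr fun y hy => ?_
    have h1 : AdjoinRoot.root (Polynomial.X ^ e - Polynomial.C s) ^ e * y = 0 := by
      calc _ = AdjoinRoot.root (Polynomial.X ^ e - Polynomial.C s) ^ (e - 1) *
            (AdjoinRoot.root (Polynomial.X ^ e - Polynomial.C s) • y) := by
              rw [smul_eq_mul, ← mul_assoc, pow_sub_one_mul he.ne']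
        _ = 0 := by rw [hy, mul_zero]
    have := AdjoinRoot.eval₂_root (Polynomial.X ^ e - Polynomial.C s)
    rw [Polynomial.eval₂_sub, Polynomial.eval₂_X_pow, Polynomial.eval₂_C, sub_eq_zero] at this
    rw [this, ← AdjoinRoot.algebraMap_eq, ← Algebra.smul_def] at h1
    exact (smul_eq_zero.1 h1).resolve_left hs
  · refine CycCovLib.isRegular_of_derivative (AdjoinRoot.mk _) AdjoinRoot.mk_surjective _ Ideal.mk_ker Q ?_
    rw [Polynomial.derivative_sub, Polynomial.derivative_C, sub_zero, Polynomial.derivative_X_pow, map_mul (AdjoinRoot.mk _),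
      map_pow, AdjoinRoot.mk_C, AdjoinRoot.mk_X]
    exact fun h => hs' (Ideal.IsPrime.mem_of_pow_mem ‹_› _ ((Ideal.unit_mul_mem_iff_mem _ (heu.map _)).1 h))

end Groth.Agent.S13781
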