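import Groth.Statements.S13782
import Groth.Agent.CycCovLib.Regular
import Groth.Agent.CotTLib.SmoothField
import Mathlib.RingTheory.Etale.Descent
import Mathlib.LinearAlgebra.TensorProduct.RightExactness

set_option autoImplicit false
universe u
open CAlg

namespace Groth.Agent.S13782

open Polynomial TensorProduct IsLocalRing

theorem not_mem_sq_of_regular_quot {R : Type u} [CommRing R] [IsRegularLocalRing R] {x : R}
    (hx : x ∈ maximalIdeal R) (hx0 : x ≠ 0) [IsRegularLocalRing (R ⧸ Ideal.span {x})] :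
    x ∉ maximalIdeal R ^ 2 := by
  classical
  intro hx2
  haveI := RegLoc6.isDomain_of_isRegularLocalRing R
  have hreg : IsSMulRegular R x :=
    isSMulRegular_iff_right_eq_zero_of_smul.mpr fun y hy => (mul_eq_zero.mp hy).resolve_left hx0
  have fg := (maximalIdeal (R ⧸ Ideal.span {x})).fg_of_isNoetherianRing
  have fin := Submodule.FG.finite_generators fg
  let t : Set R := Function.surjInv (Ideal.Quotient.mk_surjective (I := Ideal.span {x})) ''
    (maximalIdeal (R ⧸ Ideal.span {x})).generators
  have h1 : (Ideal.span t).map (Ideal.Quotient.mk (Ideal.span {x})) =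
      (maximalIdeal R).map (Ideal.Quotient.mk (Ideal.span {x})) := by
    rw [Ideal.map_span, show Ideal.Quotient.mk (Ideal.span {x}) '' t = (maximalIdeal (R ⧸ Ideal.span {x})).generators by
      simp only [t, Set.image_image, Function.surjInv_eq, Set.image_id'], RegLoc6.map_maximalIdeal_quot]
    exact (maximalIdeal (R ⧸ Ideal.span {x})).span_generators
  have h2 := congrArg (Ideal.comap (Ideal.Quotient.mk (Ideal.span {x}))) h1
  rw [Ideal.comap_map_of_surjective _ Ideal.Quotient.mk_surjective,
    Ideal.comap_map_of_surjective _ Ideal.Quotient.mk_surjective, ← RingHom.ker_eq_comap_bot,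
    Ideal.mk_ker, sup_eq_left.mpr ((Ideal.span_singleton_le_iff_mem _).mpr hx)] at h2
  have hm : maximalIdeal R ≤ Ideal.span t := by
    refine Submodule.le_of_le_smul_of_le_jacobson_bot (maximalIdeal R).fg_of_isNoetherianRing
      (IsLocalRing.maximalIdeal_le_jacobson _) ?_
    rw [smul_eq_mul, ← sq]
    exact h2.ge.trans (sup_le_sup_left ((Ideal.span_singleton_le_iff_mem _).mpr hx2) _)
  have hm' : maximalIdeal R = Ideal.span t := le_antisymm hm (h2 ▸ le_sup_left)
  have hle : (maximalIdeal R).spanFinrank ≤ (maximalIdeal (R ⧸ Ideal.span {x})).spanFinrank := by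
    rw [hm']
    exact (Submodule.spanFinrank_span_le_ncard_of_finite (fin.image _)).trans
      ((Set.ncard_image_le fin).trans (Submodule.FG.generators_ncard fg).le)
  have hR := (isRegularLocalRing_iff R).mp inferInstance
  have hQ := (isRegularLocalRing_iff (R ⧸ Ideal.span {x})).mp inferInstance
  have hd := ringKrullDim_quotient_span_singleton_succ_eq_ringKrullDim hreg hx
  rw [← hR, ← hQ] at hd
  norm_cast at hd
  omega

theorem smul_not_mem_sq {R S : Type u} [CommRing R] [CommRing S] (φ : R →+* S) (hφ : Function.Surjective φ) (P : R)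
    (hker : RingHom.ker φ = Ideal.span {P}) (hP : IsSMulRegular R P) (Q : Ideal S) [Q.IsPrime]
    [IsRegularLocalRing (Localization.AtPrime (Q.comap φ))] [IsRegularLocalRing (Localization.AtPrime Q)] :
    ∀ x ∉ Q.comap φ, x * P ∉ Q.comap φ ^ 2 := by
  intro x hx hxP
  obtain ⟨e⟩ := CycCovLib.exists_quotEquiv φ hφ P hker Q
  haveI := IsRegularLocalRing.of_ringEquiv e.symm
  refine not_mem_sq_of_regular_quot (CycCovLib.algebraMap_mem_maximal φ hker Q) ?_ ?_
  · intro h
    obtain ⟨m, hm⟩ := (IsLocalization.map_eq_zero_iff (Q.comap φ).primeCompl _ P).1 h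
    have : (m : R) = 0 := hP (by simp only [smul_eq_mul, mul_zero]; rw [mul_comm]; exact hm)
    exact m.2 (this ▸ Ideal.zero_mem _)
  · rw [← Localization.AtPrime.map_eq_maximalIdeal, ← Ideal.map_pow,
      IsLocalization.algebraMap_mem_map_algebraMap_iff (Q.comap φ).primeCompl]
    exact ⟨x, hx, hxP⟩

variable (k : Type u) [Field k]

theorem regular_baseChange (A : Type u) [CommRing A] [Algebra k A] [Algebra.Smooth k A]
    (Q : Ideal (AlgebraicClosure k ⊗[k] A)) [Q.IsPrime] : IsRegularLocalRing (Localization.AtPrime Q) := by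
  haveI : Algebra.IsSmoothAt (AlgebraicClosure k) Q :=
    Algebra.FormallySmooth.comp (AlgebraicClosure k) (AlgebraicClosure k ⊗[k] A) _
  exact CotTLib.isRegularLocalRing_of_isSmoothAt (k := AlgebraicClosure k) Q

theorem smooth_of_regular_baseChange (A : Type u) [CommRing A] [Algebra k A] [Algebra.FiniteType k A]
    (h : ∀ (Q : Ideal (AlgebraicClosure k ⊗[k] A)) [Q.IsPrime], IsRegularLocalRing (Localization.AtPrime Q)) :
    Algebra.Smooth k A := by
  haveI : Algebra.Smooth (AlgebraicClosure k) (AlgebraicClosure k ⊗[k] A) :=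
    CotTLib.smooth_of_isSmoothAt_maximal fun m _ => CotTLib.isSmoothAt_of_isRegularLocalRing m (h m)
  exact Algebra.Smooth.of_smooth_tensorProduct_of_faithfullyFlat (AlgebraicClosure k)

variable {k}

theorem isSMulRegular_one_tmul {M : Type u} [CommRing M] [Algebra k M] (K : Type u) [CommRing K] [Algebra k K]
    [Module.Flat k K] {x : M} (hx : IsSMulRegular M x) : IsSMulRegular (K ⊗[k] M) ((1 : K) ⊗ₜ[k] x) := by
  have h : Function.Injective (LinearMap.lTensor K (LinearMap.mulLeft k x)) :=
    Module.Flat.lTensor_preserves_injective_linearMap _ hx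
  intro a b hab
  refine h ?_
  have : ∀ z : K ⊗[k] M, LinearMap.lTensor K (LinearMap.mulLeft k x) z = ((1 : K) ⊗ₜ[k] x) * z := fun z => by
    induction z using TensorProduct.induction_on with
    | zero => simp
    | add u v hu hv => rw [map_add, hu, hv, mul_add]
    | tmul c m => simp
  rw [this, this]; exact hab

theorem isSMulRegular_of_irreducible {A : Type u} [CommRing A] [IsNoetherianRing A]
    (hloc : ∀ (M : Ideal A) [M.IsPrime], IsDomain (Localization.AtPrime M)) {s : A} (hs : Irreducible s) :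
    IsSMulRegular A s := by
  obtain ⟨J, hJ⟩ : ∃ J : Ideal A, J = LinearMap.ker (LinearMap.mulLeft A s) := ⟨_, rfl⟩
  have hmem : ∀ y, y ∈ J ↔ s * y = 0 := fun y => by rw [hJ]; simp
  have hsq : J * J = J := by
    refine le_antisymm Ideal.mul_le_left fun y hy => ?_
    let C : Ideal A := Submodule.comap (LinearMap.mulRight A y) (J * J)
    suffices hC : C = ⊤ by simpa [C] using (hC ▸ Submodule.mem_top : (1 : A) ∈ C)
    by_contra h
    obtain ⟨M, hM, hle⟩ := Ideal.exists_le_maximal C h
    by_cases hJM : J ≤ M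
    · haveI := hloc M
      have h0 : algebraMap A (Localization.AtPrime M) s * algebraMap A _ y = 0 := by
        rw [← map_mul, (hmem y).1 hy, map_zero]
      rcases mul_eq_zero.1 h0 with h0 | h0 <;>
        obtain ⟨c, hc⟩ := (IsLocalization.map_eq_zero_iff M.primeCompl _ _).1 h0
      · exact c.2 (hJM ((hmem _).2 (by rw [mul_comm]; exact hc)))
      · exact c.2 (hle (show (c : A) ∈ C by show (c : A) * y ∈ J * J; rw [hc]; exact Ideal.zero_mem _))
    · obtain ⟨j, hj, hjM⟩ := SetLike.not_le_iff_exists.1 hJM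
      exact hjM (hle (show j ∈ C from Ideal.mul_mem_mul hj hy))
  obtain ⟨ε, hε, hJε⟩ := (Ideal.isIdempotentElem_iff_of_fg J J.fg_of_isNoetherianRing).1 hsq
  refine isSMulRegular_iff_right_eq_zero_of_smul.mpr fun y hy => ?_
  have hy' : y ∈ J := (hmem y).2 hy
  have hsε : s = (1 - ε) * s := by
    have h := (hmem ε).1 (hJε ▸ Submodule.mem_span_singleton_self _)
    linear_combination h
  rcases hs.isUnit_or_isUnit hsε with h | h
  · have h1 : ε = 0 := h.mul_right_eq_zero.1 (by rw [sub_mul, one_mul, hε.eq, sub_self])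
    rw [hJε, h1] at hy'
    simpa using hy'
  · exact absurd h hs.not_isUnit

section Setup

variable {A : Type u} [CommRing A] [Algebra k A] (K : Type u) [CommRing K] [Algebra k K]

/-- The derivative on the polynomial ring after extending scalars. -/
noncomputable def dK : K ⊗[k] A[X] →ₗ[k] K ⊗[k] A[X] :=
  LinearMap.lTensor K ((Polynomial.derivative (R := A)).restrictScalars k)

theorem dK_mul (x y : K ⊗[k] A[X]) : dK (k := k) K (x * y) = dK K x * y + x * dK K y := by
  induction x using TensorProduct.induction_on with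
  | zero => simp
  | add u v hu hv => rw [add_mul, map_add, hu, hv, map_add]; ring
  | tmul c f =>
    induction y using TensorProduct.induction_on with
    | zero => simp
    | add u v hu hv => rw [mul_add, map_add, hu, hv, map_add]; ring
    | tmul d g => simp [dK, derivative_mul, tmul_add, mul_comm]

theorem dK_mem {p : Ideal (K ⊗[k] A[X])} {x : K ⊗[k] A[X]} (hx : x ∈ p ^ 2) : dK (k := k) K x ∈ p := by
  rw [pow_two] at hx
  induction hx using Submodule.mul_induction_on' with
  | mem_mul_mem a ha b hb => rw [dK_mul]; exact p.add_mem (p.mul_mem_left _ hb) (p.mul_mem_right _ ha)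
  | add a _ b _ ha hb => rw [map_add]; exact p.add_mem ha hb

theorem exists_maps (s : A) (e : ℕ) (he : 0 < e) :
    ∃ (φT : A[X] →ₐ[k] AdjoinRoot (X ^ e - C s)) (φB : AdjoinRoot (X ^ e - C s) →ₐ[k] A ⧸ Ideal.span {s}),
      Function.Surjective φT ∧ RingHom.ker φT = Ideal.span {X ^ e - C s} ∧ φT X = AdjoinRoot.root _ ∧
      Function.Surjective φB ∧ RingHom.ker φB = Ideal.span {AdjoinRoot.root (X ^ e - C s)} ∧
      ∀ a, φB (φT (C a)) = Ideal.Quotient.mk _ a := by
  let π := Ideal.Quotient.mk (Ideal.span {s})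
  have hπs : π s = 0 := Ideal.Quotient.eq_zero_iff_mem.2 (Ideal.mem_span_singleton_self _)
  let φ : AdjoinRoot (X ^ e - C s) →+* A ⧸ Ideal.span {s} :=
    AdjoinRoot.lift π 0 (by rw [eval₂_sub, eval₂_X_pow, eval₂_C, hπs, sub_zero]; exact zero_pow he.ne')
  let φT : A[X] →ₐ[k] AdjoinRoot (X ^ e - C s) := AlgHom.mk (AdjoinRoot.mk (X ^ e - C s)) fun c => by
      show AdjoinRoot.mk (X ^ e - C s) (algebraMap k A[X] c) = _
      rw [IsScalarTower.algebraMap_apply k A A[X], IsScalarTower.algebraMap_apply k A (AdjoinRoot (X ^ e - C s))]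
      exact AdjoinRoot.mk_C _
  let φB : AdjoinRoot (X ^ e - C s) →ₐ[k] A ⧸ Ideal.span {s} := AlgHom.mk φ fun c => by
      show φ (algebraMap k _ c) = _
      rw [IsScalarTower.algebraMap_apply k A (AdjoinRoot (X ^ e - C s))]
      exact AdjoinRoot.lift_of (by rw [eval₂_sub, eval₂_X_pow, eval₂_C, hπs, sub_zero]; exact zero_pow he.ne')
  refine ⟨φT, φB, AdjoinRoot.mk_surjective, Ideal.mk_ker, AdjoinRoot.mk_X, fun y => ?_,
    le_antisymm (fun x hx => ?_) ((Ideal.span_singleton_le_iff_mem _).2 (by rw [RingHom.mem_ker]; exact AdjoinRoot.lift_root (by rw [eval₂_sub, eval₂_X_pow, eval₂_C, hπs, sub_zero]; exact zero_pow he.ne'))),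
    fun a => ?_⟩
  · obtain ⟨c, rfl⟩ := Ideal.Quotient.mk_surjective y
    exact ⟨algebraMap _ _ c, AdjoinRoot.lift_of (by rw [eval₂_sub, eval₂_X_pow, eval₂_C, hπs, sub_zero]; exact zero_pow he.ne')⟩
  · obtain ⟨P, rfl⟩ := AdjoinRoot.mk_surjective x
    replace hx : φ (AdjoinRoot.mk _ P) = 0 := hx
    rw [AdjoinRoot.lift_mk, eval₂_at_zero, Ideal.Quotient.eq_zero_iff_mem, Ideal.mem_span_singleton] at hx
    obtain ⟨b, hb⟩ := hx
    obtain ⟨Z, hZ⟩ := X_dvd_iff.2 (show (P - C (P.coeff 0)).coeff 0 = 0 by simp)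
    rw [sub_eq_iff_eq_add] at hZ
    have hroot : AdjoinRoot.root (X ^ e - C s) ^ e = AdjoinRoot.of _ s := by
      have := AdjoinRoot.eval₂_root (X ^ e - C s)
      rwa [eval₂_sub, eval₂_X_pow, eval₂_C, sub_eq_zero] at this
    rw [Ideal.mem_span_singleton, hZ, map_add, map_mul (AdjoinRoot.mk _) X Z, AdjoinRoot.mk_X, AdjoinRoot.mk_C, hb,
      map_mul (AdjoinRoot.of _), ← hroot]
    exact dvd_add (dvd_mul_right _ _) ((dvd_pow_self _ he.ne').mul_right _)
  · show φ (AdjoinRoot.mk _ (C a)) = _
    rw [AdjoinRoot.mk_C, AdjoinRoot.lift_of]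

end Setup

/-- Let k be a field, A a smooth k-algebra, s an irreducible element of A and e an integer, at least 2,
that is invertible in k. Then the k-algebra A[t]/(t^e - s) is smooth exactly when the quotient ring
A/(s) is a smooth k-algebra. (Smooth over k means formally smooth and of finite presentation over
k.) -/
theorem result (k A : Type u) [Field k] [CommRing A] [Algebra k A]
    [Algebra.Smooth k A] (s : A) (hs : Irreducible s) (e : ℕ) (he : 2 ≤ e) (hek : (e : k) ≠ 0) :
    Algebra.Smooth k (AdjoinRoot (Polynomial.X ^ e - Polynomial.C s)) ↔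
      Algebra.Smooth k (A ⧸ Ideal.span {s}) := by
  have he0 : 0 < e := by omega
  obtain ⟨φT, φB, hTs, hTk, hTX, hBs, hBk, hBC⟩ := exists_maps (k := k) s e he0
  let K := AlgebraicClosure k
  let KT := Algebra.TensorProduct.map (AlgHom.id K K) φT
  let KB := Algebra.TensorProduct.map (AlgHom.id K K) φB
  let q : A →ₐ[k] A ⧸ Ideal.span {s} := Ideal.Quotient.mkₐ k _
  let KA := Algebra.TensorProduct.map (AlgHom.id K K) q
  let cA : A →ₐ[k] A[X] := IsScalarTower.toAlgHom k A A[X]
  let ι := Algebra.TensorProduct.map (AlgHom.id K K) cA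
  have hKT : Function.Surjective KT := LinearMap.lTensor_surjective K (g := φT.toLinearMap) hTs
  have hKB : Function.Surjective KB := LinearMap.lTensor_surjective K (g := φB.toLinearMap) hBs
  have hKA : Function.Surjective KA := LinearMap.lTensor_surjective K (g := q.toLinearMap) Ideal.Quotient.mk_surjective
  have kerK : ∀ (M N : Type u) [CommRing M] [Algebra k M] [CommRing N] [Algebra k N] (f : M →ₐ[k] N)
      (hf : Function.Surjective f) (x : M), RingHom.ker f = Ideal.span {x} →
      RingHom.ker (Algebra.TensorProduct.map (AlgHom.id K K) f).toRingHom = Ideal.span {(1 : K) ⊗ₜ[k] x} := by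
    intro M N _ _ _ _ f hf x hx
    have := Algebra.TensorProduct.lTensor_ker (R := k) (A := K) f hf
    rw [hx, Ideal.map_span, Set.image_singleton] at this
    exact this
  have hP : IsSMulRegular A[X] (X ^ e - C s) :=
    (Polynomial.monic_X_pow_sub_C s he0.ne').isRegular.left
  haveI : Algebra.Smooth A A[X] := ⟨inferInstance, inferInstance⟩
  haveI : Algebra.Smooth k A[X] := Algebra.Smooth.comp k A A[X]
  haveI : Algebra.FiniteType k (AdjoinRoot (X ^ e - C s)) := Algebra.FiniteType.of_surjective φT hTs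
  haveI : Algebra.FiniteType k (A ⧸ Ideal.span {s}) := Algebra.FiniteType.of_surjective q Ideal.Quotient.mk_surjective
  have hroot : AdjoinRoot.root (X ^ e - C s) ^ e = AdjoinRoot.of _ s := by
    have := AdjoinRoot.eval₂_root (X ^ e - C s)
    rwa [eval₂_sub, eval₂_X_pow, eval₂_C, sub_eq_zero] at this
  constructor
  · intro hB
    refine smooth_of_regular_baseChange k _ fun Q _ => ?_
    let Q' : Ideal (K ⊗[k] AdjoinRoot (X ^ e - C s)) := Q.comap KB.toRingHom
    haveI : IsRegularLocalRing (Localization.AtPrime Q') := regular_baseChange k _ Q'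
    haveI : IsRegularLocalRing (Localization.AtPrime (Q'.comap KT.toRingHom)) := regular_baseChange k _ _
    haveI : IsNoetherianRing (K ⊗[k] A) := Algebra.FiniteType.isNoetherianRing K _
    haveI : IsRegularRing (K ⊗[k] A) := isRegularRing_iff.2 fun p _ => regular_baseChange k A p
    have hno := smul_not_mem_sq KT.toRingHom hKT ((1 : K) ⊗ₜ[k] (X ^ e - C s)) (kerK _ _ φT hTs _ hTk)
      (isSMulRegular_one_tmul K hP) Q'
    refine CycCovLib.isRegular_of_not_mem_sq KA.toRingHom hKA ((1 : K) ⊗ₜ[k] s)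
      (kerK _ _ q Ideal.Quotient.mk_surjective s Ideal.mk_ker) Q fun x hx hxs => ?_
    have hcomp : ∀ y, KB (KT (ι y)) = KA y := fun y => by
      induction y using TensorProduct.induction_on with
      | zero => simp
      | add u v hu hv => simp only [map_add, hu, hv]
      | tmul c a => simp only [KB, KT, KA, ι, Algebra.TensorProduct.map_tmul, AlgHom.id_apply]; exact congrArg (c ⊗ₜ[k] ·) (hBC a)
    have hX : (1 : K) ⊗ₜ[k] (X : A[X]) ∈ Q'.comap KT.toRingHom := by
      show KB (KT ((1 : K) ⊗ₜ[k] X)) ∈ Q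
      simp only [KB, KT, Algebra.TensorProduct.map_tmul, AlgHom.id_apply, hTX]
      rw [show φB (AdjoinRoot.root (X ^ e - C s)) = 0 from by
        rw [← RingHom.mem_ker, hBk]; exact Ideal.mem_span_singleton_self _, tmul_zero]
      exact Q.zero_mem
    have hxn : ι x ∉ Q'.comap KT.toRingHom := fun h => hx (by
      show KA x ∈ Q
      rw [← hcomp]; exact h)
    refine hno (ι x) hxn ?_
    have e1 : ι x * ((1 : K) ⊗ₜ[k] (X ^ e - C s)) =
        ι x * ((1 : K) ⊗ₜ[k] (X : A[X])) ^ e - ι (x * ((1 : K) ⊗ₜ[k] s)) := by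
      rw [map_mul, show ι ((1 : K) ⊗ₜ[k] s) = (1 : K) ⊗ₜ[k] (C s : A[X]) from rfl, Algebra.TensorProduct.tmul_pow,
        one_pow, tmul_sub, mul_sub]
    rw [e1]
    refine Ideal.sub_mem _ (Ideal.mul_mem_left _ _ (Ideal.pow_le_pow_right he (Ideal.pow_mem_pow hX e))) ?_
    have h2 : ι (x * ((1 : K) ⊗ₜ[k] s)) ∈ ((Q.comap KA.toRingHom) ^ 2).map ι.toRingHom := Ideal.mem_map_of_mem _ hxs
    rw [Ideal.map_pow] at h2
    refine Ideal.pow_right_mono (Ideal.map_le_iff_le_comap.2 fun y hy => ?_) 2 h2
    show KB (KT (ι y)) ∈ Q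
    rw [hcomp]; exact hy
  · intro hq
    refine smooth_of_regular_baseChange k _ fun Q _ => ?_
    by_cases hQ : (1 : K) ⊗ₜ[k] AdjoinRoot.root (X ^ e - C s) ∈ Q
    · haveI : IsNoetherianRing (K ⊗[k] AdjoinRoot (X ^ e - C s)) := Algebra.FiniteType.isNoetherianRing K _
      haveI : IsNoetherianRing (K ⊗[k] (A ⧸ Ideal.span {s})) := Algebra.FiniteType.isNoetherianRing K _
      haveI : IsRegularRing (K ⊗[k] (A ⧸ Ideal.span {s})) := isRegularRing_iff.2 fun p _ => regular_baseChange k _ p
      haveI : IsNoetherianRing A := Algebra.FiniteType.isNoetherianRing k A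
      have hsreg : IsSMulRegular A s := isSMulRegular_of_irreducible (fun M _ => by
        haveI : Algebra.IsSmoothAt k M := Algebra.FormallySmooth.comp k A _
        haveI := CotTLib.isRegularLocalRing_of_isSmoothAt (k := k) M
        exact RegLoc6.isDomain_of_isRegularLocalRing _) hs
      haveI : Module.Free A (AdjoinRoot (X ^ e - C s)) := (Polynomial.monic_X_pow_sub_C s he0.ne').free_adjoinRoot
      have hsB : IsSMulRegular (AdjoinRoot (X ^ e - C s)) s := IsSMulRegular.of_flat hsreg |> fun h => by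
        intro u v huv
        exact h (by simpa [Algebra.smul_def] using huv)
      have hrootreg : IsSMulRegular (AdjoinRoot (X ^ e - C s)) (AdjoinRoot.root (X ^ e - C s)) := by
        refine IsSMulRegular.of_mul (a := AdjoinRoot.root (X ^ e - C s) ^ (e - 1)) ?_
        rw [pow_sub_one_mul he0.ne', hroot]
        intro u v huv
        exact hsB (by simpa [Algebra.smul_def] using huv)
      exact CycCovLib.isRegular_lift KB.toRingHom hKB _ (kerK _ _ φB hBs _ hBk)
        (isSMulRegular_one_tmul K hrootreg) Q hQ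
    · haveI : IsNoetherianRing (K ⊗[k] A[X]) := Algebra.FiniteType.isNoetherianRing K _
      haveI : IsRegularRing (K ⊗[k] A[X]) := isRegularRing_iff.2 fun p _ => regular_baseChange k _ p
      refine CycCovLib.isRegular_of_not_mem_sq KT.toRingHom hKT ((1 : K) ⊗ₜ[k] (X ^ e - C s))
        (kerK _ _ φT hTs _ hTk) Q fun x hx hxP => ?_
      have h := dK_mem K hxP
      have h0 : KT ((1 : K) ⊗ₜ[k] (X ^ e - C s)) = 0 := by
        show (1 : K) ⊗ₜ[k] φT (X ^ e - C s) = 0
        rw [show φT (X ^ e - C s) = 0 from by rw [← RingHom.mem_ker, hTk]; exact Ideal.mem_span_singleton_self _,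
          tmul_zero]
      rw [dK_mul, Ideal.mem_comap] at h
      change KT _ ∈ Q at h
      rw [map_add, map_mul, map_mul, h0, mul_zero, zero_add,
        show dK K ((1 : K) ⊗ₜ[k] (X ^ e - C s)) = (1 : K) ⊗ₜ[k] (C (e : A) * X ^ (e - 1)) by
          simp [dK, derivative_X_pow],
        show KT ((1 : K) ⊗ₜ[k] (C (e : A) * X ^ (e - 1))) =
          ((1 : K) ⊗ₜ[k] φT (C (e : A))) * ((1 : K) ⊗ₜ[k] AdjoinRoot.root (X ^ e - C s)) ^ (e - 1) by
            simp [KT, hTX, map_mul, map_pow]] at h
      have heA : IsUnit (e : A) := by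
        have := (isUnit_iff_ne_zero.2 hek).map (algebraMap k A)
        rwa [map_natCast] at this
      have hu : IsUnit ((1 : K) ⊗ₜ[k] φT (C (e : A))) :=
        ((heA.map C).map φT).map (Algebra.TensorProduct.includeRight (R := k) (A := K))
      exact hQ (Ideal.IsPrime.mem_of_pow_mem ‹_› _
        ((Ideal.unit_mul_mem_iff_mem _ hu).1 ((Ideal.IsPrime.mem_or_mem ‹_› h).resolve_left hx)))

end Groth.Agent.S13782
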