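import Groth.Statements.S13783
import Mathlib.FieldTheory.Galois.Basic
import Mathlib.LinearAlgebra.Projectivization.Action
import Mathlib.LinearAlgebra.Projectivization.Independence
import Mathlib.LinearAlgebra.FiniteDimensional.Lemmas

set_option autoImplicit false
universe u
open Curves

namespace Groth.Agent.S13783

open Projectivization Matrix
open scoped LinearAlgebra.Projectivization

variable {k : Type u} {K : Type u} [Field k] [Field K] [Algebra k K] [FiniteDimensional k K] [IsGalois k K]

local notation "P" => Projectivization K (Fin 2 → K)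

theorem exists_smul_rep {v : Fin 2 → K} (hv : v ≠ 0) : ∃ a : K, a ≠ 0 ∧ v = a • (mk K v hv).rep := by
  obtain ⟨a, ha⟩ := (mk_eq_mk_iff K v (mk K v hv).rep hv (rep_nonzero _)).1 (mk_rep _).symm
  exact ⟨a, a.ne_zero, ha.symm⟩

theorem galP_eq (σ : K ≃ₐ[k] K) {x x' : P} (h : W4c1stackycurves.galP σ x = x') :
    ∃ a : K, a ≠ 0 ∧ (fun i => σ (x.rep i)) = a • x'.rep := by
  conv at h => lhs; rw [← mk_rep x]
  rw [W4c1stackycurves.galP, map_mk] at h
  subst h
  exact exists_smul_rep _

theorem rep_li {x y : P} (h : x ≠ y) : LinearIndependent K ![x.rep, y.rep] := by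
  have := (independent_pair_iff_ne x y).2 h
  rw [independent_iff] at this
  have e : Projectivization.rep ∘ ![x, y] = ![x.rep, y.rep] := by
    funext i
    fin_cases i <;> rfl
  rw [e] at this
  exact this

/-- Exists and is unique up to scalars. -/
theorem exists_matrix (x y : Fin 3 → P) (hx : Function.Injective x) (hy : Function.Injective y) :
    ∃ M : Matrix (Fin 2) (Fin 2) K, IsUnit M.det ∧
      (∀ i, ∃ c : K, M.mulVec (x i).rep = c • (y i).rep) ∧
      ∀ N : Matrix (Fin 2) (Fin 2) K, (∀ i, ∃ c : K, N.mulVec (x i).rep = c • (y i).rep) → ∃ c : K, N = c • M := by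
  classical
  have hv := rep_li (hx.ne (show (0 : Fin 3) ≠ 1 by decide))
  have hw := rep_li (hy.ne (show (0 : Fin 3) ≠ 1 by decide))
  let B := basisOfLinearIndependentOfCardEqFinrank hv (by simp)
  have hB : ∀ i, B i = ![(x 0).rep, (x 1).rep] i := fun i => congrFun (coe_basisOfLinearIndependentOfCardEqFinrank _ _) i
  let C := basisOfLinearIndependentOfCardEqFinrank hw (by simp)
  have hC : ∀ i, C i = ![(y 0).rep, (y 1).rep] i := fun i => congrFun (coe_basisOfLinearIndependentOfCardEqFinrank _ _) i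
  have hne : ∀ (z : Fin 3 → P) (hz : Function.Injective z) (a b : K), a • (z 0).rep + b • (z 1).rep = (z 2).rep →
      a ≠ 0 ∧ b ≠ 0 := by
    intro z hz a b h
    have key : ∀ (p : Fin 3) (c : K), c • (z p).rep = (z 2).rep → p = 2 := fun p c hc => by
      apply hz
      rw [← mk_rep (z p), ← mk_rep (z 2), mk_eq_mk_iff']
      refine ⟨c⁻¹, ?_⟩
      rw [← hc, inv_smul_smul₀]
      rintro rfl
      exact rep_nonzero _ (hc.symm.trans (zero_smul _ _))
    constructor
    · rintro rfl
      rw [zero_smul, zero_add] at h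
      exact absurd (key 1 b h) (by decide)
    · rintro rfl
      rw [zero_smul, add_zero] at h
      exact absurd (key 0 a h) (by decide)
  have hexp : ∀ (z : Fin 3 → P) (Z : Module.Basis (Fin 2) K (Fin 2 → K)), (∀ i, Z i = ![(z 0).rep, (z 1).rep] i) →
      ∃ a b : K, a • (z 0).rep + b • (z 1).rep = (z 2).rep := fun z Z hZ =>
    ⟨Z.repr (z 2).rep 0, Z.repr (z 2).rep 1, by
      conv_rhs => rw [← Z.sum_repr (z 2).rep]
      simp [Fin.sum_univ_two, hZ]⟩
  obtain ⟨α, β, hαβ⟩ := hexp x B hB
  obtain ⟨γ, δ, hγδ⟩ := hexp y C hC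
  obtain ⟨hα, hβ⟩ := hne x hx α β hαβ
  obtain ⟨hγ, hδ⟩ := hne y hy γ δ hγδ
  let f : (Fin 2 → K) →ₗ[K] (Fin 2 → K) := B.constr K ![(γ / α) • (y 0).rep, (δ / β) • (y 1).rep]
  have hf0 : f (x 0).rep = (γ / α) • (y 0).rep := by
    have := B.constr_basis K ![(γ / α) • (y 0).rep, (δ / β) • (y 1).rep] 0
    rw [hB] at this
    exact this
  have hf1 : f (x 1).rep = (δ / β) • (y 1).rep := by
    have := B.constr_basis K ![(γ / α) • (y 0).rep, (δ / β) • (y 1).rep] 1
    rw [hB] at this
    exact this
  have hf2 : f (x 2).rep = (y 2).rep := by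
    rw [← hαβ, map_add, map_smul, map_smul, hf0, hf1, smul_smul, smul_smul, mul_div_cancel₀ _ hα,
      mul_div_cancel₀ _ hβ, hγδ]
  have hM : ∀ v, (LinearMap.toMatrix' f).mulVec v = f v := fun v => LinearMap.toMatrix'_mulVec f v
  refine ⟨LinearMap.toMatrix' f, ?_, ?_, ?_⟩
  · rw [← Matrix.isUnit_iff_isUnit_det, ← Matrix.mulVec_injective_iff_isUnit]
    intro v w h
    simp only [hM] at h
    refine sub_eq_zero.1 (?_ : v - w = 0)
    have h0 : f (v - w) = 0 := by rw [map_sub, h, sub_self]
    rw [← B.sum_repr (v - w)] at h0 ⊢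
    simp only [Fin.sum_univ_two, hB, cons_val_zero, cons_val_one, map_add, map_smul, hf0, hf1, smul_smul] at h0 ⊢
    obtain ⟨e0, e1⟩ := LinearIndependent.pair_iff.1 hw _ _ h0
    rw [(mul_eq_zero.1 e0).resolve_right (div_ne_zero hγ hα), (mul_eq_zero.1 e1).resolve_right (div_ne_zero hδ hβ)]
    simp
  · intro i
    fin_cases i
    · exact ⟨_, (hM _).trans hf0⟩
    · exact ⟨_, (hM _).trans hf1⟩
    · exact ⟨1, ((hM _).trans hf2).trans (one_smul _ _).symm⟩
  · intro N hN
    obtain ⟨a, ha⟩ := hN 0
    obtain ⟨b, hb⟩ := hN 1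
    obtain ⟨t, ht⟩ := hN 2
    rw [← hαβ, mulVec_add, mulVec_smul, mulVec_smul, ha, hb, ← hγδ, smul_add, smul_smul, smul_smul, smul_smul,
      smul_smul] at ht
    obtain ⟨e0, e1⟩ := LinearIndependent.pair_iff.1 hw (α * a - t * γ) (β * b - t * δ) (by
      rw [sub_smul, sub_smul]; linear_combination (norm := module) ht)
    refine ⟨t, Matrix.toLin'.injective (B.ext fun i => ?_)⟩
    rw [Matrix.toLin'_apply, Matrix.toLin'_apply, smul_mulVec, hM, hB]
    fin_cases i
    · show N.mulVec (x 0).rep = t • f (x 0).rep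
      rw [ha, hf0, smul_smul, ← mul_div_assoc, ← sub_eq_zero.1 e0, mul_div_cancel_left₀ _ hα]
    · show N.mulVec (x 1).rep = t • f (x 1).rep
      rw [hb, hf1, smul_smul, ← mul_div_assoc, ← sub_eq_zero.1 e1, mul_div_cancel_left₀ _ hβ]

theorem galP_injective (σ : K ≃ₐ[k] K) : Function.Injective (W4c1stackycurves.galP σ : P → P) :=
  Function.LeftInverse.injective (g := W4c1stackycurves.galP σ.symm) fun p => by
    induction p using Projectivization.ind with
    | h v hv =>
      show Projectivization.map _ _ (Projectivization.map _ _ (mk K v hv)) = _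
      rw [map_mk, map_mk]
      congr 1
      funext i
      exact σ.symm_apply_apply (v i)

theorem main_three (x y : Fin 3 → P) (hx : Function.Injective x) (hy : Function.Injective y)
    (heq : ∀ (σ : K ≃ₐ[k] K) i, ∃ j, W4c1stackycurves.galP σ (x i) = x j ∧ W4c1stackycurves.galP σ (y i) = y j) :
    ∃ g : GeneralLinearGroup (Fin 2) k,
      ∀ i, (GeneralLinearGroup.toLin ((GeneralLinearGroup.map (algebraMap k K)) g)) • x i = y i := by
  obtain ⟨M, hM, hMc, huniq⟩ := exists_matrix x y hx hy
  have hgal : ∀ σ : K ≃ₐ[k] K, ∃ c : K, M.map σ = c • M := by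
    intro σ
    refine huniq _ fun j => ?_
    choose π hπx hπy using heq σ
    have hπ : Function.Surjective π := Finite.injective_iff_surjective.1 fun i i' h =>
      hx (galP_injective σ (by rw [hπx, hπx, h]))
    obtain ⟨i, rfl⟩ := hπ j
    obtain ⟨a, ha0, ha⟩ := galP_eq σ (hπx i)
    obtain ⟨b, -, hb⟩ := galP_eq σ (hπy i)
    obtain ⟨c, hc⟩ := hMc i
    refine ⟨a⁻¹ * (σ c * b), ?_⟩
    have h1 : (M.map σ).mulVec (fun l => σ ((x i).rep l)) = σ c • fun l => σ ((y i).rep l) := by
      funext l
      exact ((RingHom.map_mulVec (σ : K →+* K) M _ l).symm.trans (congrArg σ (congrFun hc l))).trans (map_mul σ _ _)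
    rw [ha, hb, mulVec_smul, smul_smul] at h1
    rw [mul_smul, ← h1, inv_smul_smul₀ ha0]
  obtain ⟨p, q, hpq⟩ : ∃ p q, M p q ≠ 0 := by
    by_contra! h
    apply hM.ne_zero
    rw [det_fin_two]
    simp [h]
  set M' := (M p q)⁻¹ • M with hM'
  have hdet : IsUnit M'.det := by
    rw [hM', det_smul]
    exact ((IsUnit.mk0 _ (inv_ne_zero hpq)).pow _).mul hM
  have hfix : ∀ (σ : K ≃ₐ[k] K) l m, σ (M' l m) = M' l m := by
    intro σ l m
    obtain ⟨c, hc⟩ := hgal σ
    have h : ∀ l m, σ (M l m) = c * M l m := fun l m => congrFun (congrFun hc l) m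
    have hc0 : c ≠ 0 := fun h0 => hpq (σ.injective (by rw [h, h0, zero_mul, map_zero]))
    simp only [hM', Matrix.smul_apply, smul_eq_mul, map_mul, map_inv₀, h]
    field_simp
  choose G hG using fun l m => (IsGalois.mem_range_algebraMap_iff_fixed (M' l m)).2 fun σ => hfix σ l m
  have hGmap : (Matrix.of G).map (algebraMap k K) = M' := Matrix.ext hG
  have hGdet : IsUnit (Matrix.of G).det := by
    rw [isUnit_iff_ne_zero]
    intro h0
    apply hdet.ne_zero
    rw [← hGmap, ← RingHom.mapMatrix_apply, ← RingHom.map_det, h0, map_zero]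
  refine ⟨GeneralLinearGroup.mkOfDetNeZero (Matrix.of G) hGdet.ne_zero, fun i => ?_⟩
  obtain ⟨c, hc⟩ := hMc i
  conv_lhs => arg 2; rw [← mk_rep (x i)]
  rw [smul_mk, ← mk_rep (y i), mk_eq_mk_iff']
  refine ⟨(M p q)⁻¹ * c, ?_⟩
  show _ = ((Matrix.of G).map (algebraMap k K)).mulVec (x i).rep
  rw [hGmap, hM', smul_mulVec, hc, smul_smul]

theorem exists_rational_notMem {n : ℕ} (hn : n < 3) (x : Fin n → P) :
    ∃ p : P, (∀ σ : K ≃ₐ[k] K, W4c1stackycurves.galP σ p = p) ∧ p ∉ Set.range x := by
  classical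
  let t : Fin 3 → (Fin 2 → K) := ![![1, 0], ![0, 1], ![1, 1]]
  have ht : ∀ a, t a ≠ 0 := fun a => by fin_cases a <;> simp [t, funext_iff, Fin.forall_fin_two]
  let p : Fin 3 → P := fun a => mk K (t a) (ht a)
  have hinj : Function.Injective p := by
    intro a b h
    obtain ⟨c, hc⟩ := (mk_eq_mk_iff' K _ _ (ht a) (ht b)).1 h
    have h0 := congrFun hc 0
    have h1 := congrFun hc 1
    fin_cases a <;> fin_cases b <;> simp [t] at h0 h1 ⊢ <;> simp_all
  obtain ⟨a, ha⟩ : ∃ a, p a ∉ Set.range x := by
    by_contra! h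
    choose f hf using h
    have := Fintype.card_le_of_injective f fun a b e => hinj (by rw [← hf a, ← hf b, e])
    simp at this
    omega
  refine ⟨p a, fun σ => ?_, ha⟩
  show Projectivization.map _ _ (mk K (t a) (ht a)) = _
  rw [map_mk]
  congr 1
  funext l
  rw [W4c1stackycurves.galVec_apply]
  fin_cases a <;> fin_cases l <;> simp [t]

theorem main (m : ℕ) : ∀ (n : ℕ), n + m = 3 → ∀ (x y : Fin n → P), Function.Injective x → Function.Injective y →
    (∀ (σ : K ≃ₐ[k] K) i, ∃ j, W4c1stackycurves.galP σ (x i) = x j ∧ W4c1stackycurves.galP σ (y i) = y j) →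
    ∃ g : GeneralLinearGroup (Fin 2) k,
      ∀ i, (GeneralLinearGroup.toLin ((GeneralLinearGroup.map (algebraMap k K)) g)) • x i = y i := by
  induction m with
  | zero =>
    intro n hn
    obtain rfl : n = 3 := hn
    exact main_three
  | succ m ih =>
    intro n hn x y hx hy heq
    obtain ⟨p, hp, hpx⟩ := exists_rational_notMem (k := k) (show n < 3 by omega) x
    obtain ⟨q, hq, hqy⟩ := exists_rational_notMem (k := k) (show n < 3 by omega) y
    obtain ⟨g, hg⟩ := ih (n + 1) (by omega) (Fin.cons p x) (Fin.cons q y)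
      (Fin.cons_injective_iff.2 ⟨hpx, hx⟩) (Fin.cons_injective_iff.2 ⟨hqy, hy⟩) (fun σ i => by
        cases i using Fin.cases with
        | zero => exact ⟨0, by simpa using hp σ, by simpa using hq σ⟩
        | succ i =>
          obtain ⟨j, hj⟩ := heq σ i
          exact ⟨j.succ, by simpa using hj⟩)
    exact ⟨g, fun i => by simpa using hg i.succ⟩


/-- Let k be a field and K a finite Galois extension of k. Let S be a finite set of at most three
K-points of the projective line that is stable under the Galois group of K over k, and let b be a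
Galois-equivariant bijection from S onto another set S' of K-points. Then some element of GL_2(k)
maps S onto S'. (This is the statement that two closed subschemes of the projective line over k
which are etale over k of the same degree at most 3 and have isomorphic k-algebras of functions are
exchanged by a k-automorphism of the line, written for their sets of points over a finite Galois
extension K of k splitting both; an isomorphism of the function algebras is the same as a
Galois-equivariant bijection of these point sets.) -/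
theorem result (k K : Type u) [Field k] [Field K]
    [Algebra k K] [FiniteDimensional k K] [IsGalois k K]
    (S S' : Set (Projectivization K (Fin 2 → K))) (hfin : S.Finite) (h3 : S.ncard ≤ 3)
    (hS : ∀ (σ : K ≃ₐ[k] K) (x : Projectivization K (Fin 2 → K)), x ∈ S → W4c1stackycurves.galP σ x ∈ S)
    (b : S ≃ S')
    (hb : ∀ (σ : K ≃ₐ[k] K) (x : S),
      (b ⟨W4c1stackycurves.galP σ x.1, hS σ x.1 x.2⟩ : Projectivization K (Fin 2 → K)) =
        W4c1stackycurves.galP σ (b x).1) :
    ∃ g : Matrix.GeneralLinearGroup (Fin 2) k,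
      (fun x => (Matrix.GeneralLinearGroup.toLin ((Matrix.GeneralLinearGroup.map (algebraMap k K)) g)) • x) '' S = S' := by
  classical
  haveI : Finite ↥S := hfin.to_subtype
  let e : Fin S.ncard ≃ ↥S := (Finite.equivFinOfCardEq (Nat.card_coe_set_eq S)).symm
  obtain ⟨g, hg⟩ := main (3 - S.ncard) S.ncard (by omega) (fun i => (e i).1) (fun i => (b (e i)).1)
    (Subtype.val_injective.comp e.injective) (Subtype.val_injective.comp (b.injective.comp e.injective))
    (fun σ i => ⟨e.symm ⟨_, hS σ _ (e i).2⟩, by simp, by simp [← hb]⟩)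
  refine ⟨g, Set.ext fun z => ⟨?_, fun hz => ⟨(b.symm ⟨z, hz⟩).1, (b.symm ⟨z, hz⟩).2, ?_⟩⟩⟩
  · rintro ⟨w, hw, rfl⟩
    have := hg (e.symm ⟨w, hw⟩)
    simp only [Equiv.apply_symm_apply] at this
    show _ • w ∈ S'
    rw [this]
    exact (b ⟨w, hw⟩).2
  · have := hg (e.symm (b.symm ⟨z, hz⟩))
    simpa using this

end Groth.Agent.S13783
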