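import Groth.Statements.S13784
import Mathlib.RingTheory.IntegralDomain
import Mathlib.RingTheory.LocalRing.ResidueField.Basic

set_option autoImplicit false
universe u
open CAlg

namespace Groth.Agent.S13784

/-- Let A be a commutative local ring and G a finite subgroup of Aˣ. If the order of G is invertible in
A, then G is cyclic. -/
theorem result {A : Type u} [CommRing A] [IsLocalRing A]
    (G : Subgroup Aˣ) [Finite G] (hG : IsUnit ((Nat.card G : ℕ) : A)) : IsCyclic G := by
  refine isCyclic_of_injective_ringHom (((IsLocalRing.residue A).toMonoidHom.comp (Units.coeHom A)).comp G.subtype) ?_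
  rw [injective_iff_map_eq_one]
  intro g hg
  replace hg : IsLocalRing.residue A ((g : Aˣ) : A) = 1 := hg
  have hN : ((g : Aˣ) : A) ^ Nat.card G = 1 := by
    rw [← Units.val_pow_eq_pow_val, ← SubmonoidClass.coe_pow, pow_card_eq_one']
    rfl
  have hu : IsUnit (∑ i ∈ Finset.range (Nat.card G), ((g : Aˣ) : A) ^ i) := by
    rw [← IsLocalRing.residue_ne_zero_iff_isUnit, map_sum]
    simp only [map_pow, hg, one_pow, Finset.sum_const, Finset.card_range, nsmul_one]
    rw [← map_natCast (IsLocalRing.residue A)]
    exact (IsLocalRing.residue_ne_zero_iff_isUnit _).2 hG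
  have := geom_sum_mul ((g : Aˣ) : A) (Nat.card G)
  rw [hN, sub_self, hu.mul_right_eq_zero, sub_eq_zero] at this
  ext; exact this

end Groth.Agent.S13784
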