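import Groth.Statements.S13785
import Mathlib

set_option autoImplicit false
universe u
open CAlg

namespace Groth.Agent.S13785

/-- For any commutative ring A, the determinant of the generic n × n matrix is a nonzerodivisor of the
polynomial ring over A in the n² matrix entries. -/
theorem result (A : Type u) [CommRing A] (n : ℕ) :
    (Matrix.mvPolynomialX (Fin n) (Fin n) A).det ∈ nonZeroDivisors (MvPolynomial (Fin n × Fin n) A) := by
  classical
  refine mem_nonZeroDivisors_iff_right.2 fun f hf => ?_
  let Φ : MvPolynomial (Fin n × Fin n) A →ₐ[A] Polynomial (MvPolynomial (Fin n × Fin n) A) :=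
    MvPolynomial.aeval fun p => Polynomial.C (MvPolynomial.X p) + if p.1 = p.2 then Polynomial.X else 0
  have hdet : Φ (Matrix.mvPolynomialX (Fin n) (Fin n) A).det =
      (-(Matrix.mvPolynomialX (Fin n) (Fin n) A)).charpoly := by
    rw [AlgHom.map_det, Matrix.charpoly]
    congr 1
    ext i j
    by_cases h : i = j
    · subst h; simp [Φ, Matrix.mvPolynomialX, Matrix.charmatrix_apply, add_comm]
    · simp [Φ, Matrix.mvPolynomialX, Matrix.charmatrix_apply, h]
  have h0 := congrArg Φ hf
  rw [map_mul, hdet, map_zero] at h0
  have h1 : Φ f = 0 := ((Matrix.charpoly_monic _).mul_left_eq_zero_iff).1 h0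
  have h2 : (Polynomial.evalRingHom (0 : MvPolynomial (Fin n × Fin n) A)).comp Φ.toRingHom = RingHom.id _ := by
    refine MvPolynomial.ringHom_ext (fun a => by simp [Φ]) fun p => ?_
    by_cases h : p.1 = p.2 <;> simp [Φ, h]
  have := RingHom.congr_fun h2 f
  simp only [RingHom.coe_comp, Function.comp_apply, RingHom.id_apply] at this
  rw [← this]
  show Polynomial.eval 0 (Φ f) = 0
  rw [h1, Polynomial.eval_zero]

end Groth.Agent.S13785
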