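import Groth.Statements.S13786
import Groth.Agent.ArtFlat.Regular
import Groth.Agent.S13785
import Mathlib.RingTheory.Flat.FaithfullyFlat.Basic
import Mathlib.RingTheory.Polynomial.Basic
import Mathlib.RingTheory.Flat.Stability

set_option autoImplicit false
universe u
open CAlg

namespace Groth.Agent.S13786
open MvPolynomial

/-- For a commutative ring A and n ≥ 1, with det the determinant of the generic n × n matrix in the
polynomial ring A[X] in n² indeterminates, the A-algebra A[X]/(det) is faithfully flat over A. (For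
n = 0 the determinant is 1 and the quotient is the zero ring, so n ≥ 1 is required.) -/
theorem result (A : Type u) [CommRing A] (n : ℕ) (hn : 0 < n) :
    Module.FaithfullyFlat A
      (MvPolynomial (Fin n × Fin n) A ⧸ Ideal.span {(Matrix.mvPolynomialX (Fin n) (Fin n) A).det}) := by
  classical
  let D := (Matrix.mvPolynomialX (Fin n) (Fin n) A).det
  haveI : Module.Flat A (MvPolynomial (Fin n × Fin n) A) := inferInstance
  haveI hflat : Module.Flat A (MvPolynomial (Fin n × Fin n) A ⧸ Ideal.span {D}) := by
    haveI := Groth.Agent.ArtFlat.flat_quotient_range (LinearMap.mulLeft A D) fun J x hx => by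
      rw [Ideal.smul_top_eq_map, Submodule.restrictScalars_mem] at hx ⊢
      have hk : (RingHom.ker (MvPolynomial.map (σ := Fin n × Fin n) (Ideal.Quotient.mk J))) =
          J.map (algebraMap A (MvPolynomial (Fin n × Fin n) A)) := by
        rw [MvPolynomial.ker_map, Ideal.mk_ker]; rfl
      rw [← hk, RingHom.mem_ker] at hx ⊢
      have hD : MvPolynomial.map (Ideal.Quotient.mk J) D = (Matrix.mvPolynomialX (Fin n) (Fin n) (A ⧸ J)).det := by
        rw [RingHom.map_det]; congr 1; ext i j; simp [Matrix.mvPolynomialX]
      rw [LinearMap.mulLeft_apply, map_mul, hD] at hx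
      exact (mem_nonZeroDivisors_iff_left.1 (Groth.Agent.S13785.result (A ⧸ J) n)) _ hx
    refine Module.Flat.of_linearEquiv (M := MvPolynomial (Fin n × Fin n) A ⧸ LinearMap.range (LinearMap.mulLeft A D))
      ((Submodule.quotEquivOfEq _ ((Ideal.span {D}).restrictScalars A) ?_).trans (Submodule.Quotient.restrictScalarsEquiv A _)).symm
    ext x
    simp only [LinearMap.mem_range, LinearMap.mulLeft_apply, Submodule.restrictScalars_mem, Ideal.mem_span_singleton']
    exact exists_congr fun a => by rw [mul_comm]
  have hD0 : MvPolynomial.aeval (fun _ : Fin n × Fin n => (0 : A)) D = 0 := by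
    haveI : Nonempty (Fin n) := ⟨⟨0, hn⟩⟩
    rw [AlgHom.map_det, show (MvPolynomial.aeval fun _ : Fin n × Fin n => (0 : A)).mapMatrix
      (Matrix.mvPolynomialX (Fin n) (Fin n) A) = 0 by ext i j; simp [Matrix.mvPolynomialX], Matrix.det_zero]
  let ε : (MvPolynomial (Fin n × Fin n) A ⧸ Ideal.span {D}) →ₐ[A] A :=
    Ideal.Quotient.liftₐ _ (MvPolynomial.aeval fun _ : Fin n × Fin n => (0 : A)) fun a ha => by
      obtain ⟨c, rfl⟩ := Ideal.mem_span_singleton'.1 ha
      rw [map_mul, hD0, mul_zero]
  refine (Module.FaithfullyFlat.iff_flat_and_proper_ideal A _).2 ⟨hflat, fun J hJ htop => hJ ?_⟩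
  have h1 := congrArg (Submodule.map ε.toLinearMap) htop
  rw [Submodule.map_smul'', Submodule.map_top] at h1
  have h2 : LinearMap.range ε.toLinearMap = ⊤ :=
    LinearMap.range_eq_top.2 fun a => ⟨algebraMap A _ a, ε.commutes a⟩
  rw [h2] at h1
  simpa using h1

end Groth.Agent.S13786
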