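import Groth.Statements.S13787
import Groth.Agent.DetPoly.Basic
import Mathlib

set_option autoImplicit false
universe u
open CAlg

namespace Groth.Agent.S13787
theorem coeff_C_mul_T {B : Type u} [CommRing B] (a : B) (e j : ℤ) :
    (LaurentPolynomial.C a * LaurentPolynomial.T e).coeff j = if e = j then a else 0 := by
  rw [← LaurentPolynomial.single_eq_C_mul_T, AddMonoidAlgebra.coeff_single]
  exact Finsupp.single_apply



/-- Let A be a nonzero commutative ring and n ≥ 1, let det be the determinant of the generic n × n
matrix in the polynomial ring A[X] in its n² entries, and let A[X, 1/det] be the localization at det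
(the coordinate ring of GL_n over A). The homomorphism Aˣ × ℤ → (A[X, 1/det])ˣ sending (a, e) to a ·
det^e is injective. (The published statement takes the exponent in the group of locally constant
ℤ-valued functions on Spec A, which also covers A = 0; with integer exponents as here, A must be
nonzero and n ≥ 1.) -/
theorem result (A : Type u) [CommRing A] [Nontrivial A] (n : ℕ) (hn : 0 < n) :
    Function.Injective (fun p : Aˣ × ℤ =>
        Units.map (algebraMap A (Localization.Away (Matrix.mvPolynomialX (Fin n) (Fin n) A).det)).toMonoidHom p.1 *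
          (IsLocalization.Away.algebraMap_isUnit (S := Localization.Away (Matrix.mvPolynomialX (Fin n) (Fin n) A).det)
            (Matrix.mvPolynomialX (Fin n) (Fin n) A).det).unit ^ p.2) := by
  classical
  obtain ⟨m, rfl⟩ : ∃ m, n = m + 1 := ⟨n - 1, by omega⟩
  set δ := (Matrix.mvPolynomialX (Fin (m + 1)) (Fin (m + 1)) A).det with hδ
  set L := Localization.Away δ
  set uδ : Lˣ := (IsLocalization.Away.algebraMap_isUnit (S := L) δ).unit with huδ
  have huδv : (uδ : L) = algebraMap _ L δ := IsUnit.unit_spec _
  let diag : Fin (m + 1) × Fin (m + 1) → LaurentPolynomial A := fun p =>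
    if p.1 = p.2 then (if p.1 = 0 then LaurentPolynomial.T 1 else 1) else 0
  let θ0 : MvPolynomial (Fin (m + 1) × Fin (m + 1)) A →ₐ[A] LaurentPolynomial A := MvPolynomial.aeval diag
  have hθδ : θ0 δ = LaurentPolynomial.T 1 := by
    rw [hδ, AlgHom.map_det, show θ0.mapMatrix (Matrix.mvPolynomialX (Fin (m + 1)) (Fin (m + 1)) A) =
      Matrix.diagonal (fun i : Fin (m + 1) => if i = 0 then LaurentPolynomial.T 1 else 1) from ?_, Matrix.det_diagonal]
    · simp
    · ext i j
      simp only [AlgHom.mapMatrix_apply, Matrix.map_apply, Matrix.mvPolynomialX_apply, θ0, MvPolynomial.aeval_X,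
        Matrix.diagonal_apply, diag]
  let θ : L →+* LaurentPolynomial A := IsLocalization.Away.lift δ (g := θ0.toRingHom) (by
    show IsUnit (θ0 δ)
    rw [hθδ]; exact LaurentPolynomial.isUnit_T 1)
  have hθ : ∀ x, θ (algebraMap _ L x) = θ0 x := fun x => IsLocalization.Away.lift_eq δ _ x
  let val : Aˣ × ℤ → Lˣ := fun p => Units.map (algebraMap A L).toMonoidHom p.1 * uδ ^ p.2
  have hzpow : ∀ e : ℤ, θ ((uδ ^ e : Lˣ) : L) = LaurentPolynomial.T e := fun e => by
    have h1 : Units.map θ.toMonoidHom uδ = (LaurentPolynomial.isUnit_T 1).unit := Units.ext (by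
      show θ (uδ : L) = _
      rw [huδv, hθ, hθδ]
      exact (IsUnit.unit_spec _).symm)
    have h2 : θ ((uδ ^ e : Lˣ) : L) = (((LaurentPolynomial.isUnit_T (R := A) 1).unit ^ e : (LaurentPolynomial A)ˣ) : LaurentPolynomial A) := by
      rw [← h1, ← map_zpow]; rfl
    rw [h2]
    induction e using Int.induction_on with
    | zero => simp
    | succ i ih =>
      rw [zpow_add_one, Units.val_mul, ih ?_, IsUnit.unit_spec, LaurentPolynomial.T_add]
      rw [← h1, ← map_zpow]; rfl
    | pred i ih =>
      rw [zpow_sub_one, Units.val_mul, ih ?_, sub_eq_add_neg, LaurentPolynomial.T_add]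
      · congr 1
        refine (Units.eq_inv_of_mul_eq_one_left ?_).symm
        rw [IsUnit.unit_spec, ← LaurentPolynomial.T_add]; simp
      · rw [← h1, ← map_zpow]; rfl
  have hC : ∀ a : A, algebraMap A (LaurentPolynomial A) a = LaurentPolynomial.C a := fun a => (LaurentPolynomial.C_eq_algebraMap a).symm
  have hval : ∀ (a : Aˣ) (e : ℤ), θ (val (a, e) : L) = LaurentPolynomial.C (a : A) * LaurentPolynomial.T e := fun a e => by
    show θ (algebraMap A L a * ((uδ ^ e : Lˣ) : L)) = _
    rw [map_mul, hzpow, IsScalarTower.algebraMap_apply A (MvPolynomial (Fin (m + 1) × Fin (m + 1)) A) L, hθ]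
    simp only [θ0, MvPolynomial.algebraMap_eq, MvPolynomial.aeval_C, hC]
  have hcoef : ∀ (a : A) (e j : ℤ), (LaurentPolynomial.C a * LaurentPolynomial.T e).coeff j = if e = j then a else 0 :=
    fun a e j => coeff_C_mul_T a e j
  show Function.Injective val
  rintro ⟨a, e⟩ ⟨a', e'⟩ h
  have h' := congrArg (fun w : Lˣ => θ (w : L)) h
  simp only [hval] at h'
  have c := congrArg (fun w : LaurentPolynomial A => w.coeff e) h'
  simp only [hcoef, if_pos rfl] at c
  have hee : e' = e := by
    by_contra hne
    rw [if_neg hne] at c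
    exact a.ne_zero c
  rw [if_pos hee] at c
  exact Prod.ext (Units.ext c) hee.symm

end Groth.Agent.S13787
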