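import Groth.Statements.S13788
import Groth.Agent.DetPoly.Basic
import Mathlib

set_option autoImplicit false
universe u
open CAlg

namespace Groth.Agent.S13788

theorem coeff_C_mul_T {B : Type u} [CommRing B] (a : B) (e j : ℤ) :
    (LaurentPolynomial.C a * LaurentPolynomial.T e).coeff j = if e = j then a else 0 := by
  rw [← LaurentPolynomial.single_eq_C_mul_T, AddMonoidAlgebra.coeff_single]
  exact Finsupp.single_apply

/-- Units of GL_n: let A be a nonzero commutative ring whose only idempotents are 0 and 1, let n ≥ 1,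
let det be the determinant of the generic n × n matrix in the polynomial ring A[X] in its n²
entries, and let A[X, 1/det] be the coordinate ring of GL_n over A. The homomorphism Aˣ × ℤ → (A[X,
1/det])ˣ, (a, e) ↦ a · det^e, is bijective if and only if A is reduced. (The published statement
allows Spec A disconnected, with exponents locally constant ℤ-valued functions on Spec A; this row
is the connected case, to which the published proof reduces.) -/
theorem result (A : Type u) [CommRing A] [Nontrivial A]
    (hconn : ∀ e : A, IsIdempotentElem e → e = 0 ∨ e = 1) (n : ℕ) (hn : 0 < n) :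
    Function.Bijective (fun p : Aˣ × ℤ =>
        Units.map (algebraMap A (Localization.Away (Matrix.mvPolynomialX (Fin n) (Fin n) A).det)).toMonoidHom p.1 *
          (IsLocalization.Away.algebraMap_isUnit (S := Localization.Away (Matrix.mvPolynomialX (Fin n) (Fin n) A).det)
            (Matrix.mvPolynomialX (Fin n) (Fin n) A).det).unit ^ p.2) ↔ IsReduced A := by
  classical
  obtain ⟨m, rfl⟩ : ∃ m, n = m + 1 := ⟨n - 1, by omega⟩
  set δ := (Matrix.mvPolynomialX (Fin (m + 1)) (Fin (m + 1)) A).det with hδ
  set L := Localization.Away δ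
  set uδ : Lˣ := (IsLocalization.Away.algebraMap_isUnit (S := L) δ).unit with huδ
  have huδv : (uδ : L) = algebraMap _ L δ := IsUnit.unit_spec _
  let diag : Fin (m + 1) × Fin (m + 1) → LaurentPolynomial A := fun p =>
    if p.1 = p.2 then (if p.1 = 0 then LaurentPolynomial.T 1 else 1) else 0
  let θ0 : MvPolynomial (Fin (m + 1) × Fin (m + 1)) A →ₐ[A] LaurentPolynomial A := MvPolynomial.aeval diag
  have hθδ : θ0 δ = LaurentPolynomial.T 1 := by
    rw [hδ, AlgHom.map_det, show θ0.mapMatrix (Matrix.mvPolynomialX (Fin (m + 1)) (Fin (m + 1)) A) =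
      Matrix.diagonal (fun i : Fin (m + 1) => if i = 0 then LaurentPolynomial.T 1 else 1) from ?_, Matrix.det_diagonal]
    · simp
    · ext i j
      simp only [AlgHom.mapMatrix_apply, Matrix.map_apply, Matrix.mvPolynomialX_apply, θ0, MvPolynomial.aeval_X,
        Matrix.diagonal_apply, diag]
  let θ : L →+* LaurentPolynomial A := IsLocalization.Away.lift δ (g := θ0.toRingHom) (by
    show IsUnit (θ0 δ)
    rw [hθδ]; exact LaurentPolynomial.isUnit_T 1)
  have hθ : ∀ x, θ (algebraMap _ L x) = θ0 x := fun x => IsLocalization.Away.lift_eq δ _ x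
  let val : Aˣ × ℤ → Lˣ := fun p => Units.map (algebraMap A L).toMonoidHom p.1 * uδ ^ p.2
  have hzpow : ∀ e : ℤ, θ ((uδ ^ e : Lˣ) : L) = LaurentPolynomial.T e := fun e => by
    have h1 : Units.map θ.toMonoidHom uδ = (LaurentPolynomial.isUnit_T 1).unit := Units.ext (by
      show θ (uδ : L) = _
      rw [huδv, hθ, hθδ]
      exact (IsUnit.unit_spec _).symm)
    have h2 : θ ((uδ ^ e : Lˣ) : L) = (((LaurentPolynomial.isUnit_T (R := A) 1).unit ^ e : (LaurentPolynomial A)ˣ) : LaurentPolynomial A) := by
      rw [← h1, ← map_zpow]; rfl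
    rw [h2]
    induction e using Int.induction_on with
    | zero => simp
    | succ i ih =>
      rw [zpow_add_one, Units.val_mul, ih ?_, IsUnit.unit_spec, LaurentPolynomial.T_add]
      rw [← h1, ← map_zpow]; rfl
    | pred i ih =>
      rw [zpow_sub_one, Units.val_mul, ih ?_, sub_eq_add_neg, LaurentPolynomial.T_add]
      · congr 1
        refine (Units.eq_inv_of_mul_eq_one_left ?_).symm
        rw [IsUnit.unit_spec, ← LaurentPolynomial.T_add]; simp
      · rw [← h1, ← map_zpow]; rfl
  have hC : ∀ a : A, algebraMap A (LaurentPolynomial A) a = LaurentPolynomial.C a := fun a => (LaurentPolynomial.C_eq_algebraMap a).symm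
  have hval : ∀ (a : Aˣ) (e : ℤ), θ (val (a, e) : L) = LaurentPolynomial.C (a : A) * LaurentPolynomial.T e := fun a e => by
    show θ (algebraMap A L a * ((uδ ^ e : Lˣ) : L)) = _
    rw [map_mul, hzpow, IsScalarTower.algebraMap_apply A (MvPolynomial (Fin (m + 1) × Fin (m + 1)) A) L, hθ]
    simp only [θ0, MvPolynomial.algebraMap_eq, MvPolynomial.aeval_C, hC]
  have hcoef : ∀ (a : A) (e j : ℤ), (LaurentPolynomial.C a * LaurentPolynomial.T e).coeff j = if e = j then a else 0 :=
    fun a e j => coeff_C_mul_T a e j
  show Function.Bijective val ↔ IsReduced A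
  constructor
  · intro hbij
    refine ⟨fun ε hε => ?_⟩
    let x00 : MvPolynomial (Fin (m + 1) × Fin (m + 1)) A := MvPolynomial.X (0, 0)
    have hu : IsUnit (1 + MvPolynomial.C ε * x00) :=
      ((Commute.all _ _).isNilpotent_mul_right (IsNilpotent.map hε MvPolynomial.C)).isUnit_one_add
    obtain ⟨⟨a, e⟩, hae⟩ := hbij.2 (hu.map (algebraMap _ L)).unit
    have h := congrArg (fun w : Lˣ => θ (w : L)) hae
    simp only [IsUnit.unit_spec, hval] at h
    rw [hθ] at h
    have h' : LaurentPolynomial.C (a : A) * LaurentPolynomial.T e = 1 + LaurentPolynomial.C ε * LaurentPolynomial.T 1 :=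
      h.trans (by simp [θ0, x00, diag, hC, -LaurentPolynomial.single_eq_C_mul_T])
    rw [show (1 : LaurentPolynomial A) = LaurentPolynomial.C 1 * LaurentPolynomial.T 0 by simp] at h'
    have c0 := congrArg (fun w : LaurentPolynomial A => w.coeff 0) h'
    have c1 := congrArg (fun w : LaurentPolynomial A => w.coeff 1) h'
    simp only [AddMonoidAlgebra.coeff_add, Finsupp.add_apply, hcoef] at c0 c1
    rcases eq_or_ne e 0 with rfl | he
    · simpa using c1.symm
    · simp [he] at c0
  · intro hred
    constructor
    · rintro ⟨a, e⟩ ⟨a', e'⟩ h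
      have h' := congrArg (fun w : Lˣ => θ (w : L)) h
      simp only [hval] at h'
      have c := congrArg (fun w : LaurentPolynomial A => w.coeff e) h'
      simp only [hcoef, if_pos rfl] at c
      have hee : e' = e := by
        by_contra hne
        rw [if_neg hne] at c
        exact a.ne_zero c
      rw [if_pos hee] at c
      exact Prod.ext (Units.ext c) hee.symm
    · intro u
      obtain ⟨⟨f, ⟨_, i, rfl⟩⟩, hf⟩ := IsLocalization.surj (Submonoid.powers δ) (u : L)
      obtain ⟨⟨g, ⟨_, j, rfl⟩⟩, hg⟩ := IsLocalization.surj (Submonoid.powers δ) ((u⁻¹ : Lˣ) : L)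
      have hfg : algebraMap _ L (f * g) = algebraMap _ L (δ ^ (i + j)) := by
        rw [map_mul, ← hf, ← hg, map_pow, map_pow, map_pow, pow_add]
        calc _ = ((u : L) * ((u⁻¹ : Lˣ) : L)) * (algebraMap _ L δ ^ i * algebraMap _ L δ ^ j) := by ring
          _ = _ := by rw [Units.mul_inv, one_mul]
      obtain ⟨⟨_, c, rfl⟩, hc⟩ := IsLocalization.exists_of_eq (M := Submonoid.powers δ) hfg
      set N := c + (i + j)
      have hN : f * (g * δ ^ c) = δ ^ N := by
        rw [show N = c + (i + j) from rfl, pow_add, ← hc]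
        ring
      set one' : Fin (m + 1) × Fin (m + 1) → A := fun p => if p.1 = p.2 then 1 else 0 with hone
      set a0 := MvPolynomial.eval one' f with ha0
      have ha : IsUnit a0 := by
        refine IsUnit.of_mul_eq_one (MvPolynomial.eval one' (g * δ ^ c)) ?_
        rw [← map_mul, hN, map_pow, hδ, Groth.Agent.DetPoly.eval_one_det, one_pow]
      let Se : ℕ → Set (PrimeSpectrum A) := fun e => {P | ∀ d, (f - MvPolynomial.C a0 * δ ^ e).coeff d ∈ P.asIdeal}
      have hcl : ∀ e, IsClosed (Se e) := fun e => by
        rw [show Se e = ⋂ d, PrimeSpectrum.zeroLocus {(f - MvPolynomial.C a0 * δ ^ e).coeff d} from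
          Set.ext fun P => by simp [Se]]
        exact isClosed_iInter fun d => PrimeSpectrum.isClosed_zeroLocus _
      have hcov : ∀ P : PrimeSpectrum A, ∃ e ≤ N, P ∈ Se e := fun P => by
        let K := FractionRing (A ⧸ P.asIdeal)
        let ρ : A →+* K := (algebraMap (A ⧸ P.asIdeal) K).comp (Ideal.Quotient.mk P.asIdeal)
        have hmδ : MvPolynomial.map ρ δ = (Matrix.mvPolynomialX (Fin (m + 1)) (Fin (m + 1)) K).det := by
          rw [hδ, RingHom.map_det]
          congr 1
          ext i j
          simp [Matrix.mvPolynomialX]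
        obtain ⟨e, he, hfe⟩ := Groth.Agent.DetPoly.exists_eq_of_mul_eq_pow m K (MvPolynomial.map ρ f)
          (MvPolynomial.map ρ (g * δ ^ c)) N (by rw [← map_mul, hN, map_pow, hmδ])
        refine ⟨e, he, fun d => ?_⟩
        have hev : MvPolynomial.eval (fun p : Fin (m + 1) × Fin (m + 1) => if p.1 = p.2 then (1 : K) else 0)
            (MvPolynomial.map ρ f) = ρ a0 := by
          rw [ha0, MvPolynomial.eval_map]
          rw [show (fun p : Fin (m + 1) × Fin (m + 1) => if p.1 = p.2 then (1 : K) else 0) = ρ ∘ one' from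
            funext fun p => by simp [hone, apply_ite ρ]]
          exact (MvPolynomial.eval₂_comp ρ one' f).symm
        rw [hev] at hfe
        have h0 : MvPolynomial.map ρ (f - MvPolynomial.C a0 * δ ^ e) = 0 := by
          rw [map_sub, map_mul, MvPolynomial.map_C, map_pow, hmδ, ← hfe, sub_self]
        have h1 := congrArg (fun w => MvPolynomial.coeff d w) h0
        simp only [MvPolynomial.coeff_map, MvPolynomial.coeff_zero] at h1
        exact Ideal.Quotient.eq_zero_iff_mem.1 ((map_eq_zero_iff _ (IsFractionRing.injective (A ⧸ P.asIdeal) K)).1 h1)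
      have hdisj : ∀ e e' P, P ∈ Se e → P ∈ Se e' → e = e' := fun e e' P h1 h2 => by
        by_contra hne
        have hd : ∀ d, (MvPolynomial.C a0 * δ ^ e - MvPolynomial.C a0 * δ ^ e').coeff d ∈ P.asIdeal := fun d => by
          have := sub_mem (h2 d) (h1 d)
          rw [← MvPolynomial.coeff_sub] at this
          rwa [show (f - MvPolynomial.C a0 * δ ^ e') - (f - MvPolynomial.C a0 * δ ^ e) =
            MvPolynomial.C a0 * δ ^ e - MvPolynomial.C a0 * δ ^ e' by ring] at this
        have h3 : MvPolynomial.map (Ideal.Quotient.mk P.asIdeal) (MvPolynomial.C a0 * δ ^ e - MvPolynomial.C a0 * δ ^ e') = 0 :=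
          MvPolynomial.ext _ _ fun d => by
            rw [MvPolynomial.coeff_map, MvPolynomial.coeff_zero]
            exact Ideal.Quotient.eq_zero_iff_mem.2 (hd d)
        let d' : Fin (m + 1) × Fin (m + 1) → LaurentPolynomial (A ⧸ P.asIdeal) := fun p =>
          if p.1 = p.2 then (if p.1 = 0 then LaurentPolynomial.T 1 else 1) else 0
        have hev : ∀ k : ℕ, MvPolynomial.aeval d' (MvPolynomial.map (Ideal.Quotient.mk P.asIdeal) (MvPolynomial.C a0 * δ ^ k)) =
            LaurentPolynomial.C (Ideal.Quotient.mk P.asIdeal a0) * LaurentPolynomial.T (k : ℤ) := fun k => by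
          rw [map_mul, map_pow, MvPolynomial.map_C, map_mul, map_pow, MvPolynomial.aeval_C, hδ, RingHom.map_det,
            AlgHom.map_det, show (MvPolynomial.aeval d').mapMatrix ((MvPolynomial.map (Ideal.Quotient.mk P.asIdeal)).mapMatrix
              (Matrix.mvPolynomialX (Fin (m + 1)) (Fin (m + 1)) A)) =
              Matrix.diagonal (fun i : Fin (m + 1) => if i = 0 then LaurentPolynomial.T 1 else 1) from ?_, Matrix.det_diagonal]
          · rw [← LaurentPolynomial.C_eq_algebraMap]; simp [LaurentPolynomial.T_pow]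
          · ext i j
            simp [Matrix.mvPolynomialX, Matrix.diagonal_apply, d']
        have h4 := congrArg (MvPolynomial.aeval d') h3
        rw [map_sub, map_sub, hev, hev, map_zero, sub_eq_zero] at h4
        have h5 := congrArg (fun w : LaurentPolynomial (A ⧸ P.asIdeal) => w.coeff (e : ℤ)) h4
        simp only [coeff_C_mul_T, if_pos rfl, if_neg (show ¬((e' : ℤ) = (e : ℤ)) from fun hh => hne (Int.ofNat.inj hh).symm)] at h5
        exact P.isPrime.ne_top (Ideal.eq_top_of_isUnit_mem _ (Ideal.Quotient.eq_zero_iff_mem.1 h5) ha)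
      obtain ⟨P0⟩ := PrimeSpectrum.nonempty_iff_nontrivial.2 (inferInstance : Nontrivial A)
      obtain ⟨e, heN, hP0⟩ := hcov P0
      have hclopen : IsClopen (Se e) := by
        refine ⟨hcl e, ?_⟩
        rw [← isClosed_compl_iff, show (Se e)ᶜ = ⋃ e' ∈ (Finset.range (N + 1)).erase e, Se e' from ?_]
        · exact isClosed_biUnion_finset fun e' _ => hcl e'
        · ext P
          simp only [Set.mem_compl_iff, Set.mem_iUnion, Finset.mem_erase, Finset.mem_range, exists_prop]
          constructor
          · intro hP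
            obtain ⟨e', he', hPe'⟩ := hcov P
            exact ⟨e', ⟨fun hh => hP (hh ▸ hPe'), by omega⟩, hPe'⟩
          · rintro ⟨e', ⟨hne, -⟩, hPe'⟩ hP
            exact hne (hdisj e' e P hPe' hP)
      obtain ⟨ee, hidem, hee⟩ := PrimeSpectrum.isClopen_iff.1 hclopen
      have hall : ∀ P, P ∈ Se e := by
        rcases hconn ee hidem with rfl | rfl
        · rw [hee] at hP0
          simp at hP0
        · intro P
          rw [hee]
          simp
      have hfe : f = MvPolynomial.C a0 * δ ^ e := sub_eq_zero.1 (MvPolynomial.ext _ _ fun d => by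
        rw [MvPolynomial.coeff_zero]
        exact (nilpotent_iff_mem_prime.2 fun J hJ => hall ⟨J, hJ⟩ d).eq_zero)
      refine ⟨(ha.unit, (e : ℤ) - (i : ℤ)), Units.ext ?_⟩
      show algebraMap A L (ha.unit : A) * ((uδ ^ ((e : ℤ) - (i : ℤ)) : Lˣ) : L) = u
      refine (uδ ^ i).isUnit.mul_right_cancel ?_
      rw [mul_assoc, ← Units.val_mul, ← zpow_natCast uδ i, ← zpow_add, sub_add_cancel, zpow_natCast, zpow_natCast,
        Units.val_pow_eq_pow_val, Units.val_pow_eq_pow_val, huδv, IsUnit.unit_spec,
        IsScalarTower.algebraMap_apply A (MvPolynomial (Fin (m + 1) × Fin (m + 1)) A) L, ← map_pow, ← map_mul,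
        MvPolynomial.algebraMap_eq, ← hfe, ← map_pow]
      exact hf.symm

end Groth.Agent.S13788
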