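import Groth.Statements.S13789
-- imports

set_option autoImplicit false
universe u
open CAlg

namespace Groth.Agent.S13789

/-- Let A be a commutative ring with total ring of fractions Q and let B be a ring with A ⊆ B ⊆ Q. Then
the inclusion A ⊆ B carries nonzerodivisors of A to nonzerodivisors of B, and every nonzerodivisor
of B has the form r/u with r and u nonzerodivisors of A. -/
theorem result {A Q : Type u} [CommRing A] [CommRing Q] [Algebra A Q] [IsFractionRing A Q] (B : Subalgebra A Q) :
    (∀ a : A, a ∈ nonZeroDivisors A → algebraMap A B a ∈ nonZeroDivisors B) ∧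
    (∀ b : B, b ∈ nonZeroDivisors B → ∃ r u : A, r ∈ nonZeroDivisors A ∧ u ∈ nonZeroDivisors A ∧
      (b : Q) * algebraMap A Q u = algebraMap A Q r) := by
  have hinj : Function.Injective (algebraMap A Q) := IsFractionRing.injective A Q
  refine ⟨fun a ha => ?_, fun b hb => ?_⟩
  · rw [mem_nonZeroDivisors_iff_right]
    intro x hx
    have h1 : (x : Q) * algebraMap A Q a = 0 := congrArg Subtype.val hx
    exact Subtype.ext ((IsLocalization.map_units Q (⟨a, ha⟩ : nonZeroDivisors A)).mul_left_eq_zero.1 h1)
  · obtain ⟨⟨r, u⟩, hru⟩ := IsLocalization.surj (nonZeroDivisors A) (b : Q)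
    refine ⟨r, u, ?_, u.2, hru⟩
    rw [mem_nonZeroDivisors_iff_right]
    intro s hs
    have h0 : algebraMap A B ((u : A) * s) * b = 0 := by
      apply Subtype.ext
      show algebraMap A Q ((u : A) * s) * (b : Q) = 0
      rw [map_mul, mul_comm (algebraMap A Q (u : A)), mul_assoc, mul_comm _ (b : Q), hru, ← map_mul, hs, map_zero]
    have h1 : algebraMap A Q ((u : A) * s) = 0 := congrArg Subtype.val (mem_nonZeroDivisors_iff_right.1 hb _ h0)
    exact mem_nonZeroDivisors_iff_left.1 u.2 s (hinj (by rw [h1, map_zero]))

end Groth.Agent.S13789
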