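import Groth.Statements.S1379
import Groth.Agent.FppfRefine.Scheme

set_option autoImplicit false
universe u
open FlatMor

namespace Groth.Agent.S1379

open AlgebraicGeometry CategoryTheory Limits in
/-- Let S₁ → S be flat, locally of finite presentation and surjective (an fppf cover by one morphism).
Then for every point s of S there are an étale morphism S' → S whose image contains s and a
surjective, finite, flat morphism of finite presentation V → S' such that V → S factors through S₁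
Zariski locally on V. -/
theorem result {S₁ S : Scheme.{u}} (g : S₁ ⟶ S) [Flat g] [LocallyOfFinitePresentation g] [Surjective g] (s : S) :
    ∃ (S' V : Scheme.{u}) (e : S' ⟶ S) (π : V ⟶ S'), Etale e ∧ s ∈ Set.range ⇑e ∧ Surjective π ∧ IsFinite π ∧ Flat π ∧ LocallyOfFinitePresentation π ∧
      ∀ v : ↑V, ∃ (W : V.Opens) (r : ↑W ⟶ S₁), v ∈ W ∧ r ≫ g = W.ι ≫ π ≫ e := by
  open Groth.Agent FppfRefine in
  obtain ⟨x, rfl⟩ := g.surjective s
  obtain ⟨D, hD, hxD, -⟩ := exists_isAffineOpen_mem_and_subset (U := ⊤) (x := g x) trivial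
  obtain ⟨U, hU, hxU, hUD⟩ := exists_isAffineOpen_mem_and_subset (U := g ⁻¹ᵁ D) (x := x) hxD
  let B := Γ(S, D)
  let B' := Γ(S₁, U)
  letI : Algebra B B' := (g.appLE D U hUD).hom.toAlgebra
  haveI : Module.Flat B B' := HasRingHomProperty.appLE @Flat g inferInstance ⟨D, hD⟩ ⟨U, hU⟩ hUD
  haveI : Algebra.FinitePresentation B B' :=
    HasRingHomProperty.appLE @LocallyOfFinitePresentation g inferInstance ⟨D, hD⟩ ⟨U, hU⟩ hUD
  let q : PrimeSpectrum B' := hU.primeIdealOf ⟨x, hxU⟩
  obtain ⟨h, hh, C, _, _, P, _, T, _, _, j, hC, hPq, hT1, hT2, hT3, hT4, hj⟩ :=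
    exists_away_etale_finite_projective (B := B) q
  haveI := hC
  haveI := hT1
  haveI := hT3
  haveI := hT4
  let Bh := Localization.Away h
  let e₁ : Spec (CommRingCat.of C) ⟶ Spec (CommRingCat.of Bh) := Spec.map (CommRingCat.ofHom (algebraMap Bh C))
  let e₂ : Spec (CommRingCat.of Bh) ⟶ Spec Γ(S, D) := Spec.map (CommRingCat.ofHom (algebraMap B Bh))
  haveI : Etale e₁ := by
    rw [HasRingHomProperty.Spec_iff (P := @Etale), CommRingCat.hom_ofHom, RingHom.etale_algebraMap]
    infer_instance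
  haveI : IsOpenImmersion e₂ := IsOpenImmersion.of_isLocalization h
  haveI : IsOpenImmersion hD.fromSpec := hD.isOpenImmersion_fromSpec
  obtain ⟨h1, h2, h3, h4⟩ := specMap_props C T
  refine ⟨Spec (CommRingCat.of C), Spec (CommRingCat.of T), e₁ ≫ e₂ ≫ hD.fromSpec,
    Spec.map (CommRingCat.ofHom (algebraMap C T)), inferInstance, ⟨⟨P, ‹_›⟩, ?_⟩, h1, h2, h3, h4, fun v =>
      ⟨⊤, (⊤ : (Spec (CommRingCat.of T)).Opens).ι ≫ Spec.map (CommRingCat.ofHom j) ≫ hU.fromSpec, trivial, ?_⟩⟩
  · have h5 : e₂ (e₁ (⟨P, ‹_›⟩ : PrimeSpectrum C)) = hD.primeIdealOf ⟨g x, hxD⟩ := by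
      apply PrimeSpectrum.ext
      exact hPq.trans (congrArg PrimeSpectrum.asIdeal
        (IsAffineOpen.comap_primeIdealOf_appLE (f := g) D hD U hU hUD hxU))
    simp only [Scheme.Hom.comp_apply]
    exact (congrArg hD.fromSpec h5).trans (hD.fromSpec_primeIdealOf _)
  · simp only [e₁, e₂, Category.assoc, ← IsAffineOpen.SpecMap_appLE_fromSpec g hD hU hUD, ← Spec.map_comp_assoc]
    congr 2
    refine congrArg Spec.map ?_
    ext z
    exact RingHom.congr_fun hj z

end Groth.Agent.S1379
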