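import Groth.Statements.S13790
-- imports

set_option autoImplicit false
universe u
open CAlg

namespace Groth.Agent.S13790

/-- Let A be a commutative ring with total ring of fractions Q and let B be a ring with A ⊆ B ⊆ Q. Then
Q, with the inclusion B ⊆ Q, is the total ring of fractions of B. -/
theorem result {A Q : Type u} [CommRing A] [CommRing Q] [Algebra A Q] [IsFractionRing A Q] (B : Subalgebra A Q) :
    IsFractionRing B Q := by
  refine (isLocalization_iff _ _).2 ⟨?_, ?_, ?_⟩
  · rintro ⟨b, hb⟩
    obtain ⟨⟨r, u⟩, hru⟩ := IsLocalization.surj (nonZeroDivisors A) (b : Q)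
    have hr : r ∈ nonZeroDivisors A := by
      rw [mem_nonZeroDivisors_iff_right]
      intro s hs
      have h0 : algebraMap A B ((u : A) * s) * b = 0 := by
        apply Subtype.ext
        show algebraMap A Q ((u : A) * s) * (b : Q) = 0
        rw [map_mul, mul_comm (algebraMap A Q (u : A)), mul_assoc, mul_comm _ (b : Q), hru, ← map_mul, hs, map_zero]
      have h1 : algebraMap A Q ((u : A) * s) = 0 := congrArg Subtype.val (mem_nonZeroDivisors_iff_right.1 hb _ h0)
      exact mem_nonZeroDivisors_iff_left.1 u.2 s (IsFractionRing.injective A Q (by rw [h1, map_zero]))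
    have := IsLocalization.map_units Q (⟨r, hr⟩ : nonZeroDivisors A)
    rw [← hru] at this
    exact isUnit_of_mul_isUnit_left this
  · intro z
    obtain ⟨⟨r, u⟩, hru⟩ := IsLocalization.surj (nonZeroDivisors A) z
    refine ⟨⟨algebraMap A B r, ⟨algebraMap A B u, ?_⟩⟩, hru⟩
    rw [mem_nonZeroDivisors_iff_right]
    intro x hx
    have h1 : (x : Q) * algebraMap A Q u = 0 := congrArg Subtype.val hx
    exact Subtype.ext ((IsLocalization.map_units Q u).mul_left_eq_zero.1 h1)
  · intro x y h
    exact ⟨1, by rw [Subtype.ext h]⟩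

end Groth.Agent.S13790
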