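import Groth.Statements.S13791
import Groth.Agent.SiteBase.ConstExact

set_option autoImplicit false
universe u
open CategoryTheory
open CohSite

namespace Groth.Agent.S13791

open CategoryTheory.Limits in
/-- On a site, for a short exact sequence 0 → A → B → C → 0 of abelian groups the map H¹(A) → H¹(B) on
the first cohomology of the associated constant sheaves is injective. Stated for an injective
homomorphism f : A → B (C being its cokernel), with H¹ the Ext-based sheaf cohomology of the site. -/
theorem result {C : Type u} [SmallCategory C] (J : GrothendieckTopology C)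
    {A B : Type u} [AddCommGroup A] [AddCommGroup B] (f : A →+ B) (hf : Function.Injective f) :
    Function.Injective
      (Sheaf.H.map ((constantSheaf J AddCommGrpCat.{u}).map (AddCommGrpCat.ofHom f)) 1) := by
  let F := constantSheaf J AddCommGrpCat.{u}
  have : PreservesFiniteLimits F := comp_preservesFiniteLimits _ _
  have := Functor.preservesZeroMorphisms_of_preserves_terminal_object (F := F)
  let i := AddCommGrpCat.ofHom f
  have : Mono i := (AddCommGrpCat.mono_iff_injective _).2 hf
  let S := ShortComplex.mk i (Limits.cokernel.π i) (Limits.cokernel.condition i)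
  have hS : S.ShortExact := ShortComplex.ShortExact.mk'
    (ShortComplex.exact_of_g_is_cokernel _ (Limits.cokernelIsCokernel i)) (inferInstanceAs (Mono i))
    (inferInstanceAs (Epi (Limits.cokernel.π i)))
  have h := Groth.Agent.SiteBase.shortExact_constantSheaf J hS
  refine (injective_iff_map_eq_zero _).2 fun x hx => ?_
  obtain ⟨y, hy⟩ := Abelian.Ext.covariant_sequence_exact₁ _ h x hx (n₀ := 0) rfl
  obtain ⟨φ, rfl⟩ := (Abelian.Ext.mk₀_bijective _ _).2 y
  obtain ⟨ψ, hψ⟩ := Groth.Agent.SiteBase.exists_lift_hom_constantSheaf J (Limits.cokernel.π i)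
    ((AddCommGrpCat.epi_iff_surjective _).1 inferInstance) φ
  refine hy.symm.trans ?_
  refine (congrArg (fun t => (Abelian.Ext.mk₀ t).comp h.extClass (zero_add 1)) hψ.symm).trans ?_
  refine (congrArg (fun t => Abelian.Ext.comp t h.extClass (zero_add 1))
    (Abelian.Ext.mk₀_comp_mk₀ ψ (S.map (constantSheaf J AddCommGrpCat.{u})).g).symm).trans ?_
  refine (Abelian.Ext.comp_assoc_of_second_deg_zero _ _ _ _).trans ?_
  exact (congrArg (fun t => (Abelian.Ext.mk₀ ψ).comp t (zero_add 1)) h.comp_extClass).trans
    (Abelian.Ext.comp_zero _ _ _ _ _)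

end Groth.Agent.S13791
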