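import Groth.Statements.S13792
import Mathlib.AlgebraicGeometry.Noetherian
import Mathlib.Topology.KrullDimension
import Mathlib.Topology.Sober
import Mathlib.AlgebraicGeometry.Morphisms.QuasiFinite
import Mathlib.AlgebraicGeometry.Morphisms.ClosedImmersion

set_option autoImplicit false
universe u
open CategoryTheory AlgebraicGeometry
open Curves

namespace Groth.Agent.S13792

open AlgebraicGeometry CategoryTheory

theorem finite_of_closedPoints {X : Scheme.{u}} [IsNoetherian X] {S : Set X} (hS : IsClosed S)
    (h0 : ∀ x ∈ S, IsClosed ({x} : Set X)) : S.Finite := by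
  obtain ⟨Fs, hFs, hcl, hirr, hU⟩ := TopologicalSpace.NoetherianSpace.exists_finite_set_isClosed_irreducible (α := X) hS
  rw [hU]
  refine hFs.sUnion fun t ht => ?_
  obtain ⟨g, hg⟩ := QuasiSober.sober (hirr t ht) (hcl t ht)
  have hgS : g ∈ S := hU.ge ⟨t, ht, hg.mem⟩
  rw [← hg.def, (h0 g hgS).closure_eq]
  exact Set.finite_singleton g

theorem isClosed_singleton_of_ne_top {X : Scheme.{u}} [IrreducibleSpace X] (hdim : topologicalKrullDim X ≤ 1)
    {Z : Set X} (hZ : IsClosed Z) (hne : Z ≠ Set.univ) {y : X} (hy : y ∈ Z) : IsClosed ({y} : Set X) := by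
  rw [← closure_eq_iff_isClosed]
  refine subset_antisymm (fun z hz => ?_) subset_closure
  by_contra hzy
  let a : TopologicalSpace.IrreducibleCloseds X := ⟨closure {z}, isIrreducible_singleton.closure, isClosed_closure⟩
  let b : TopologicalSpace.IrreducibleCloseds X := ⟨closure {y}, isIrreducible_singleton.closure, isClosed_closure⟩
  let c : TopologicalSpace.IrreducibleCloseds X := ⟨Set.univ, IrreducibleSpace.isIrreducible_univ X, isClosed_univ⟩
  have hab : a < b := by
    rw [← SetLike.coe_ssubset_coe]
    refine ⟨isClosed_closure.closure_subset_iff.2 (by simpa using hz), fun hle => hzy ?_⟩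
    have hyz : y ∈ closure ({z} : Set X) := hle (subset_closure rfl)
    exact (((specializes_iff_mem_closure.2 hz).antisymm (specializes_iff_mem_closure.2 hyz)).eq).symm
  have hbc : b < c := by
    rw [← SetLike.coe_ssubset_coe]
    refine ⟨Set.subset_univ _, fun hle => hne (Set.eq_univ_of_univ_subset (hle.trans ?_))⟩
    exact hZ.closure_subset_iff.2 (by simpa using hy)
  let s : LTSeries (TopologicalSpace.IrreducibleCloseds X) :=
    RelSeries.cons ((RelSeries.singleton _ c).cons b hbc) a (by simp only [RelSeries.head_cons]; exact hab)
  have h2 : (2 : WithBot ℕ∞) ≤ topologicalKrullDim X := by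
    refine le_trans (le_of_eq ?_) (Order.LTSeries.length_le_krullDim s)
    simp only [s, RelSeries.cons_length, RelSeries.singleton_length]
    rfl
  exact absurd (h2.trans hdim) (by decide)


/-- Let k be a field and E an integral k-scheme of finite type whose underlying space has dimension 1,
and let ι : G → E be a closed immersion. Then either ι is an isomorphism or G is finite over k. (The
published statement is about a closed subgroup scheme of an elliptic curve and its proof states this
fact for E geometrically integral; this row assumes only that E is integral.) -/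
theorem result {k : Type u} [Field k]
    {E G : Scheme.{u}} (f : E ⟶ Spec (CommRingCat.of k)) [LocallyOfFiniteType f] [QuasiCompact f]
    [IsIntegral E] (hdim : topologicalKrullDim ↥E = 1) (ι : G ⟶ E) [IsClosedImmersion ι] :
    IsIso ι ∨ IsFinite (ι ≫ f) := by
  by_cases h : Function.Surjective ι
  · haveI : Surjective ι := ⟨h⟩
    exact Or.inl (isIso_of_isClosedImmersion_of_surjective ι)
  refine Or.inr ?_
  haveI : IsLocallyNoetherian E := LocallyOfFiniteType.isLocallyNoetherian f
  haveI : CompactSpace E := QuasiCompact.compactSpace_of_compactSpace f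
  haveI : IsNoetherian E := {}
  have hcl : IsClosed (Set.range ι) := ι.isClosedEmbedding.isClosed_range
  have hne : Set.range ι ≠ Set.univ := fun he => h (Set.range_eq_univ.1 he)
  have hfin : (Set.range ι).Finite :=
    finite_of_closedPoints hcl fun y hy => isClosed_singleton_of_ne_top hdim.le hcl hne hy
  haveI := hfin.to_subtype
  haveI : Finite G := Finite.of_injective (Set.rangeFactorization ι)
    (fun a b hab => ι.isClosedEmbedding.injective (congrArg Subtype.val hab))
  haveI : LocallyQuasiFinite (ι ≫ f) :=
    LocallyQuasiFinite.of_finite_preimage_singleton _ fun y => Set.toFinite _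
  exact IsFinite.of_locallyQuasiFinite _

end Groth.Agent.S13792
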