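import Groth.Statements.S13793
import Mathlib

set_option autoImplicit false
universe u
open CAlg

namespace Groth.Agent.S13793

open AddMonoidAlgebra

/-- Units of a group algebra of `ℤ^d` over a domain are monomials. -/
theorem isUnit_eq_single {A : Type u} [CommRing A] [IsDomain A] {d : ℕ} (f g : AddMonoidAlgebra A (Fin d → ℤ))
    (h : f * g = 1) : ∃ (a : Fin d → ℤ) (c : A), c ≠ 0 ∧ f = single a c := by
  classical
  have hf : f ≠ 0 := by rintro rfl; simp at h
  have hg : g ≠ 0 := by rintro rfl; simp at h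
  have hfs : f.coeff.support.Nonempty :=
    Finsupp.support_nonempty_iff.2 fun h0 => hf (AddMonoidAlgebra.ext h0)
  have hgs : g.coeff.support.Nonempty :=
    Finsupp.support_nonempty_iff.2 fun h0 => hg (AddMonoidAlgebra.ext h0)
  by_cases hcard : 1 < f.coeff.support.card * g.coeff.support.card
  · exfalso
    obtain ⟨p1, hp1, p2, hp2, hne, u1, u2⟩ := TwoUniqueSums.uniqueAdd_of_one_lt_card hcard
    have key : ∀ p ∈ f.coeff.support ×ˢ g.coeff.support, UniqueAdd f.coeff.support g.coeff.support p.1 p.2 →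
        p.1 + p.2 = 0 := by
      intro p hp u
      by_contra hne0
      have h1 := AddMonoidAlgebra.coeff_mul_add_of_uniqueAdd (f := f) (g := g) u
      rw [h, AddMonoidAlgebra.one_def, AddMonoidAlgebra.coeff_single, Finsupp.single_eq_of_ne hne0] at h1
      obtain ⟨hp₁, hp₂⟩ := Finset.mem_product.1 hp
      exact mul_ne_zero (Finsupp.mem_support_iff.1 hp₁) (Finsupp.mem_support_iff.1 hp₂) h1.symm
    obtain ⟨e1, e2⟩ := u1 (Finset.mem_product.1 hp2).1 (Finset.mem_product.1 hp2).2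
      ((key p2 hp2 u2).trans (key p1 hp1 u1).symm)
    exact hne (Prod.ext e1 e2).symm
  · have : f.coeff.support.card = 1 := by
      have h1 := hfs.card_pos
      have h2 := hgs.card_pos
      nlinarith
    obtain ⟨a, ha⟩ := Finsupp.card_support_eq_one'.1 this
    obtain ⟨c, hc, hfc⟩ := ha
    exact ⟨a, c, hc, AddMonoidAlgebra.ext (by rw [hfc, AddMonoidAlgebra.coeff_single])⟩

variable (A : Type u) [CommRing A]

local notation "R1" => AddMonoidAlgebra A (Fin 1 → ℤ)
local notation "R2" => AddMonoidAlgebra A (Fin 2 → ℤ)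
local notation "R3" => AddMonoidAlgebra A (Fin 3 → ℤ)

/-- The map of group algebras attached to an integer matrix. -/
noncomputable def μ {a b : ℕ} (M : Matrix (Fin b) (Fin a) ℤ) :
    AddMonoidAlgebra A (Fin a → ℤ) →+* AddMonoidAlgebra A (Fin b → ℤ) :=
  AddMonoidAlgebra.mapDomainRingHom A (Matrix.mulVecLin M).toAddMonoidHom

lemma μ_single {a b : ℕ} (M : Matrix (Fin b) (Fin a) ℤ) (v : Fin a → ℤ) (r : A) :
    μ A M (single v r) = single (M.mulVec v) r := by simp [μ]

lemma μ_μ {a b c : ℕ} (M : Matrix (Fin c) (Fin b) ℤ) (N : Matrix (Fin b) (Fin a) ℤ) (x : AddMonoidAlgebra A (Fin a → ℤ)) :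
    μ A M (μ A N x) = μ A (M * N) x := by
  induction x using AddMonoidAlgebra.induction_linear with
  | zero => simp
  | add x y hx hy => simp [hx, hy]
  | single v r => rw [μ_single, μ_single, μ_single, Matrix.mulVec_mulVec]

lemma μ_coeff_apply {a b : ℕ} (M : Matrix (Fin b) (Fin a) ℤ) (hM : Function.Injective M.mulVec)
    (x : AddMonoidAlgebra A (Fin a → ℤ)) (v : Fin a → ℤ) : (μ A M x).coeff (M.mulVec v) = x.coeff v := by
  induction x using AddMonoidAlgebra.induction_linear with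
  | zero => simp
  | add x y hx hy => simp [hx, hy]
  | single w r =>
    rw [μ_single, AddMonoidAlgebra.coeff_single, AddMonoidAlgebra.coeff_single]
    exact Finsupp.single_apply_left hM _ _ _

lemma μ_coeff_of_notMem {a b : ℕ} (M : Matrix (Fin b) (Fin a) ℤ) (t : Fin b → ℤ) (ht : ∀ v, M.mulVec v ≠ t)
    (x : AddMonoidAlgebra A (Fin a → ℤ)) : (μ A M x).coeff t = 0 := by
  induction x using AddMonoidAlgebra.induction_linear with
  | zero => simp
  | add x y hx hy => simp [hx, hy]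
  | single w r =>
    rw [μ_single, AddMonoidAlgebra.coeff_single, Finsupp.single_eq_of_ne (ht w).symm]

/-- Elements with all coefficients in `I`. -/
noncomputable def cI {d : ℕ} (I : Ideal A) : Ideal (AddMonoidAlgebra A (Fin d → ℤ)) :=
  RingHom.ker (AddMonoidAlgebra.mapRingHom (Fin d → ℤ) (Ideal.Quotient.mk I))

lemma mem_cI {d : ℕ} (I : Ideal A) (x : AddMonoidAlgebra A (Fin d → ℤ)) :
    x ∈ cI A I ↔ ∀ v, x.coeff v ∈ I := by
  rw [cI, RingHom.mem_ker]
  constructor
  · intro h v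
    rw [← Ideal.Quotient.eq_zero_iff_mem, ← AddMonoidAlgebra.coeff_mapRingHom, h]
    rfl
  · intro h
    ext v
    rw [AddMonoidAlgebra.coeff_mapRingHom, Ideal.Quotient.eq_zero_iff_mem.2 (h v)]
    rfl

lemma cI_mul {d : ℕ} (I J : Ideal A) {x y : AddMonoidAlgebra A (Fin d → ℤ)} (hx : x ∈ cI A I) (hy : y ∈ cI A J) :
    x * y ∈ cI A (I * J) := by
  classical
  rw [mem_cI] at hx hy ⊢
  intro v
  rw [AddMonoidAlgebra.coeff_mul]
  refine Ideal.sum_mem _ fun a _ => Ideal.sum_mem _ fun b _ => ?_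
  dsimp only
  split_ifs
  · exact Ideal.mul_mem_mul (hx a) (hy b)
  · exact zero_mem _

lemma μ_cI {a b : ℕ} (M : Matrix (Fin b) (Fin a) ℤ) (hM : Function.Injective M.mulVec) (I : Ideal A)
    {x : AddMonoidAlgebra A (Fin a → ℤ)} (hx : x ∈ cI A I) : μ A M x ∈ cI A I := by
  rw [mem_cI] at hx ⊢
  intro t
  by_cases ht : ∃ v, M.mulVec v = t
  · obtain ⟨v, rfl⟩ := ht
    rw [μ_coeff_apply A M hM]
    exact hx v
  · push Not at ht
    rw [μ_coeff_of_notMem A M t ht]
    exact zero_mem _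

abbrev F0 : Matrix (Fin 3) (Fin 2) ℤ := !![0, 0; 1, 0; 0, 1]
abbrev F1 : Matrix (Fin 3) (Fin 2) ℤ := !![1, 0; 1, 0; 0, 1]
abbrev F2 : Matrix (Fin 3) (Fin 2) ℤ := !![1, 0; 0, 1; 0, 1]
abbrev F3 : Matrix (Fin 3) (Fin 2) ℤ := !![1, 0; 0, 1; 0, 0]
abbrev G0 : Matrix (Fin 2) (Fin 1) ℤ := !![0; 1]
abbrev G1 : Matrix (Fin 2) (Fin 1) ℤ := !![1; 1]
abbrev G2 : Matrix (Fin 2) (Fin 1) ℤ := !![1; 0]

lemma F0v (w : Fin 2 → ℤ) : F0.mulVec w = ![0, w 0, w 1] := by ext i; fin_cases i <;> simp [F0, Matrix.mulVec, dotProduct, Fin.sum_univ_two]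
lemma F1v (w : Fin 2 → ℤ) : F1.mulVec w = ![w 0, w 0, w 1] := by ext i; fin_cases i <;> simp [F1, Matrix.mulVec, dotProduct, Fin.sum_univ_two]
lemma F2v (w : Fin 2 → ℤ) : F2.mulVec w = ![w 0, w 1, w 1] := by ext i; fin_cases i <;> simp [F2, Matrix.mulVec, dotProduct, Fin.sum_univ_two]
lemma F3v (w : Fin 2 → ℤ) : F3.mulVec w = ![w 0, w 1, 0] := by ext i; fin_cases i <;> simp [F3, Matrix.mulVec, dotProduct, Fin.sum_univ_two]
lemma G0v (w : Fin 1 → ℤ) : G0.mulVec w = ![0, w 0] := by ext i; fin_cases i <;> simp [G0, Matrix.mulVec, dotProduct]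
lemma G1v (w : Fin 1 → ℤ) : G1.mulVec w = ![w 0, w 0] := by ext i; fin_cases i <;> simp [G1, Matrix.mulVec, dotProduct]
lemma G2v (w : Fin 1 → ℤ) : G2.mulVec w = ![w 0, 0] := by ext i; fin_cases i <;> simp [G2, Matrix.mulVec, dotProduct]

lemma injF : Function.Injective F0.mulVec ∧ Function.Injective F1.mulVec ∧ Function.Injective F2.mulVec ∧
    Function.Injective F3.mulVec := by
  refine ⟨?_, ?_, ?_, ?_⟩ <;> intro v w h <;>
    simp only [F0v, F1v, F2v, F3v] at h <;> ext i <;>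
    have h0 := congrFun h 0 <;> have h1 := congrFun h 1 <;> have h2 := congrFun h 2 <;>
    simp at h0 h1 h2 <;> fin_cases i <;> simp <;> assumption

lemma injG : Function.Injective G0.mulVec ∧ Function.Injective G1.mulVec ∧ Function.Injective G2.mulVec := by
  refine ⟨?_, ?_, ?_⟩ <;> intro v w h <;>
    simp only [G0v, G1v, G2v] at h <;> ext i <;>
    have h0 := congrFun h 0 <;> have h1 := congrFun h 1 <;>
    simp at h0 h1 <;> fin_cases i <;> assumption

/-- `η(y) η(xy)⁻¹ η(x)` -/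
noncomputable def d1 (η : (AddMonoidAlgebra A (Fin 1 → ℤ))ˣ) : (AddMonoidAlgebra A (Fin 2 → ℤ))ˣ :=
  Units.map (μ A G0).toMonoidHom η * (Units.map (μ A G1).toMonoidHom η)⁻¹ * Units.map (μ A G2).toMonoidHom η

lemma d1_mul (η θ : (AddMonoidAlgebra A (Fin 1 → ℤ))ˣ) : d1 A (η * θ) = d1 A η * d1 A θ := by
  apply Additive.ofMul.injective
  simp only [d1, map_mul, mul_inv, ofMul_mul, ofMul_inv]
  abel

/-- The cocycle condition. -/
def IsCocycle (ξ : (AddMonoidAlgebra A (Fin 2 → ℤ))ˣ) : Prop :=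
  μ A F0 (ξ : R2) * μ A F2 (ξ : R2) = μ A F1 (ξ : R2) * μ A F3 (ξ : R2)

lemma IsCocycle.mul {ξ ξ' : (AddMonoidAlgebra A (Fin 2 → ℤ))ˣ} (h : IsCocycle A ξ) (h' : IsCocycle A ξ') :
    IsCocycle A (ξ * ξ') := by
  show μ A F0 ((ξ : R2) * ξ') * μ A F2 ((ξ : R2) * ξ') = μ A F1 ((ξ : R2) * ξ') * μ A F3 ((ξ : R2) * ξ')
  simp only [map_mul]
  have h1 : μ A F0 (ξ : R2) * μ A F2 (ξ : R2) = _ := h
  have h2 : μ A F0 (ξ' : R2) * μ A F2 (ξ' : R2) = _ := h'
  linear_combination (μ A F0 (ξ' : R2) * μ A F2 (ξ' : R2)) * h1 + (μ A F1 (ξ : R2) * μ A F3 (ξ : R2)) * h2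

lemma IsCocycle.d1 (η : (AddMonoidAlgebra A (Fin 1 → ℤ))ˣ) : IsCocycle A (d1 A η) := by
  have e1 : F0 * G0 = F1 * G0 := by decide
  have e2 : F0 * G1 = F2 * G0 := by decide
  have e3 : F0 * G2 = F3 * G0 := by decide
  have e4 : F1 * G1 = F2 * G1 := by decide
  have e5 : F1 * G2 = F3 * G1 := by decide
  have e6 : F2 * G2 = F3 * G2 := by decide
  let φ (F : Matrix (Fin 3) (Fin 2) ℤ) := Units.map (μ A F).toMonoidHom
  let ψ (H : Matrix (Fin 3) (Fin 1) ℤ) := Units.map (μ A H).toMonoidHom η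
  have hφ : ∀ F, φ F (Groth.Agent.S13793.d1 A η) = ψ (F * G0) * (ψ (F * G1))⁻¹ * ψ (F * G2) := by
    intro F
    simp only [Groth.Agent.S13793.d1, map_mul, map_inv]
    congr 1
    · congr 1
      · exact Units.ext (μ_μ A F G0 _)
      · exact congrArg _ (Units.ext (μ_μ A F G1 _))
    · exact Units.ext (μ_μ A F G2 _)
  have hu : φ F0 (Groth.Agent.S13793.d1 A η) * φ F2 (Groth.Agent.S13793.d1 A η) =
      φ F1 (Groth.Agent.S13793.d1 A η) * φ F3 (Groth.Agent.S13793.d1 A η) := by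
    rw [hφ, hφ, hφ, hφ, e1, e2, e3, e4, e5, e6]
    apply Additive.ofMul.injective
    simp only [ofMul_mul, ofMul_inv]
    abel
  exact congrArg Units.val hu


/-- For any commutative ring A, the second cohomology of the complex of unit groups A[t₁^±]ˣ → A[t₁^±,
t₂^±]ˣ → A[t₁^±, t₂^±, t₃^±]ˣ → ⋯ attached to the cosimplicial ring of Laurent polynomial rings
(coface maps (t₁, t₂) ↦ (t₂, t₃), (t₁t₂, t₃), (t₁, t₂t₃), (t₁, t₂) and t₁ ↦ t₂, t₁t₂, t₁) vanishes:
every unit ξ of A[t₁^±, t₂^±] with ξ(t₂,t₃) ξ(t₁t₂,t₃)⁻¹ ξ(t₁,t₂t₃) ξ(t₁,t₂)⁻¹ = 1 is of the form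
η(t₂) η(t₁t₂)⁻¹ η(t₁) for a unit η of A[t^±]. Laurent polynomial rings are written as group algebras
of ℤ^p and the coface maps as the maps induced by the corresponding additive maps ℤ^p → ℤ^(p+1). -/
theorem result (A : Type u) [CommRing A] (ξ : (AddMonoidAlgebra A (Fin 2 → ℤ))ˣ)
    (hξ : Units.map (AddMonoidAlgebra.mapDomainRingHom A
          (Matrix.mulVecLin (!![0, 0; 1, 0; 0, 1] : Matrix (Fin 3) (Fin 2) ℤ)).toAddMonoidHom).toMonoidHom ξ *
        (Units.map (AddMonoidAlgebra.mapDomainRingHom A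
          (Matrix.mulVecLin (!![1, 0; 1, 0; 0, 1] : Matrix (Fin 3) (Fin 2) ℤ)).toAddMonoidHom).toMonoidHom ξ)⁻¹ *
        Units.map (AddMonoidAlgebra.mapDomainRingHom A
          (Matrix.mulVecLin (!![1, 0; 0, 1; 0, 1] : Matrix (Fin 3) (Fin 2) ℤ)).toAddMonoidHom).toMonoidHom ξ *
        (Units.map (AddMonoidAlgebra.mapDomainRingHom A
          (Matrix.mulVecLin (!![1, 0; 0, 1; 0, 0] : Matrix (Fin 3) (Fin 2) ℤ)).toAddMonoidHom).toMonoidHom ξ)⁻¹ = 1) :
    ∃ η : (AddMonoidAlgebra A (Fin 1 → ℤ))ˣ,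
      ξ = Units.map (AddMonoidAlgebra.mapDomainRingHom A
          (Matrix.mulVecLin (!![0; 1] : Matrix (Fin 2) (Fin 1) ℤ)).toAddMonoidHom).toMonoidHom η *
        (Units.map (AddMonoidAlgebra.mapDomainRingHom A
          (Matrix.mulVecLin (!![1; 1] : Matrix (Fin 2) (Fin 1) ℤ)).toAddMonoidHom).toMonoidHom η)⁻¹ *
        Units.map (AddMonoidAlgebra.mapDomainRingHom A
          (Matrix.mulVecLin (!![1; 0] : Matrix (Fin 2) (Fin 1) ℤ)).toAddMonoidHom).toMonoidHom η := by
  classical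
  change ∃ η, ξ = Groth.Agent.S13793.d1 A η
  have hξc : IsCocycle A ξ := by
    show ((Units.map (μ A F0).toMonoidHom ξ * Units.map (μ A F2).toMonoidHom ξ : (AddMonoidAlgebra A (Fin 3 → ℤ))ˣ) : AddMonoidAlgebra A (Fin 3 → ℤ)) =
      ((Units.map (μ A F1).toMonoidHom ξ * Units.map (μ A F3).toMonoidHom ξ : (AddMonoidAlgebra A (Fin 3 → ℤ))ˣ) : AddMonoidAlgebra A (Fin 3 → ℤ))
    refine congrArg Units.val ?_
    change Units.map (μ A F0).toMonoidHom ξ * (Units.map (μ A F1).toMonoidHom ξ)⁻¹ *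
      Units.map (μ A F2).toMonoidHom ξ * (Units.map (μ A F3).toMonoidHom ξ)⁻¹ = 1 at hξ
    apply Additive.ofMul.injective
    have h := congrArg Additive.ofMul hξ
    simp only [ofMul_mul, ofMul_inv, ofMul_one] at h ⊢
    rw [← sub_eq_zero, ← h]
    abel
  -- nonconstant coefficients lie in every prime
  have hprime : ∀ (P : Ideal A), P.IsPrime → (∀ v : Fin 2 → ℤ, v ≠ 0 → (ξ : AddMonoidAlgebra A (Fin 2 → ℤ)).coeff v ∈ P) ∧
      (ξ : AddMonoidAlgebra A (Fin 2 → ℤ)).coeff 0 ∉ P := by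
    intro P hP
    let q : A →+* A ⧸ P := Ideal.Quotient.mk P
    let ρ : ∀ d : ℕ, AddMonoidAlgebra A (Fin d → ℤ) →+* AddMonoidAlgebra (A ⧸ P) (Fin d → ℤ) := fun d => AddMonoidAlgebra.mapRingHom _ q
    have hρ : ∀ {a b : ℕ} (M : Matrix (Fin b) (Fin a) ℤ) x, ρ b (μ A M x) = μ (A ⧸ P) M (ρ a x) := by
      intro a b M x
      induction x using AddMonoidAlgebra.induction_linear with
      | zero => simp
      | add x y hx hy => simp [hx, hy]
      | single v r => simp [ρ, μ_single]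
    obtain ⟨v₀, c, hc, hsingle⟩ := isUnit_eq_single (ρ 2 ξ) (ρ 2 ↑ξ⁻¹) (by
      rw [← map_mul, Units.mul_inv, map_one])
    have hcc := congrArg (ρ 3) hξc
    simp only [map_mul, hρ, hsingle, μ_single, AddMonoidAlgebra.single_mul_single] at hcc
    have hv : v₀ = 0 := by
      have h' := (Finsupp.single_eq_single_iff _ _ _ _).1 (by simpa only [AddMonoidAlgebra.coeff_single] using congrArg AddMonoidAlgebra.coeff hcc)
      rcases h' with ⟨h1, -⟩ | ⟨h1, -⟩
      · rw [F0v, F1v, F2v, F3v] at h1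
        have a := congrFun h1 0
        have b := congrFun h1 2
        simp at a b
        funext i
        fin_cases i <;> simp <;> omega
      · exact absurd h1 (mul_ne_zero hc hc)
    subst hv
    have hco : ∀ v, q ((ξ : AddMonoidAlgebra A (Fin 2 → ℤ)).coeff v) = (single 0 c : AddMonoidAlgebra (A ⧸ P) (Fin 2 → ℤ)).coeff v := fun v => by
      rw [← hsingle]; exact (AddMonoidAlgebra.coeff_mapRingHom _ _ _).symm
    refine ⟨fun v hv => ?_, fun h0 => ?_⟩
    · rw [← Ideal.Quotient.eq_zero_iff_mem]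
      refine (hco v).trans ?_
      rw [AddMonoidAlgebra.coeff_single, Finsupp.single_eq_of_ne hv]
    · have := hco 0
      rw [AddMonoidAlgebra.coeff_single, Finsupp.single_eq_same] at this
      exact hc (this.symm.trans (Ideal.Quotient.eq_zero_iff_mem.2 h0))
  obtain ⟨c, hc⟩ : IsUnit ((ξ : AddMonoidAlgebra A (Fin 2 → ℤ)).coeff 0) := by
    by_contra h
    obtain ⟨m, hm, hmem⟩ := exists_max_ideal_of_mem_nonunits h
    exact (hprime m hm.isPrime).2 hmem
  let C : ∀ d : ℕ, Aˣ →* (AddMonoidAlgebra A (Fin d → ℤ))ˣ := fun d =>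
    Units.map (AddMonoidAlgebra.singleZeroRingHom (R := A) (M := Fin d → ℤ)).toMonoidHom
  let ξ₁ := ξ * (Groth.Agent.S13793.d1 A (C 1 c⁻¹))
  let J : Ideal A := Ideal.span (Set.range fun v : ((ξ₁ : AddMonoidAlgebra A (Fin 2 → ℤ)) - 1).coeff.support =>
    ((ξ₁ : AddMonoidAlgebra A (Fin 2 → ℤ)) - 1).coeff v)
  have hJmem : ∀ v, ((ξ₁ : AddMonoidAlgebra A (Fin 2 → ℤ)) - 1).coeff v ∈ J := fun v => by
    by_cases h : v ∈ ((ξ₁ : AddMonoidAlgebra A (Fin 2 → ℤ)) - 1).coeff.support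
    · exact Ideal.subset_span ⟨⟨v, h⟩, rfl⟩
    · rw [Finsupp.notMem_support_iff.1 h]; exact zero_mem _
  have hξ₁ : ∀ v, ((ξ₁ : AddMonoidAlgebra A (Fin 2 → ℤ)) - 1).coeff v =
      (↑c⁻¹ : A) * (ξ : AddMonoidAlgebra A (Fin 2 → ℤ)).coeff v - (1 : AddMonoidAlgebra A (Fin 2 → ℤ)).coeff v := by
    intro v
    have hinv : Groth.Agent.S13793.d1 A (C 1 c⁻¹) = C 2 c⁻¹ := by
      have hG : ∀ G : Matrix (Fin 2) (Fin 1) ℤ, Units.map (μ A G).toMonoidHom (C 1 c⁻¹) = C 2 c⁻¹ := fun G => Units.ext (by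
        show μ A G (single 0 ((c⁻¹ : Aˣ) : A)) = single 0 ((c⁻¹ : Aˣ) : A)
        rw [μ_single, Matrix.mulVec_zero])
      simp only [Groth.Agent.S13793.d1, hG, mul_inv_cancel, one_mul]
    simp only [ξ₁, hinv, Units.val_mul, AddMonoidAlgebra.coeff_sub, Finsupp.sub_apply]
    congr 1
    show ((ξ : AddMonoidAlgebra A (Fin 2 → ℤ)) * single 0 (↑c⁻¹ : A)).coeff v = _
    rw [AddMonoidAlgebra.coeff_mul_single_zero, mul_comm]
  have hJnil : IsNilpotent J := by
    rw [Ideal.FG.isNilpotent_iff_le_nilradical (Submodule.fg_span (Set.finite_range _)), Ideal.span_le]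
    rintro _ ⟨⟨v, -⟩, rfl⟩
    show _ ∈ nilradical A
    rw [nilradical_eq_sInf, Submodule.mem_sInf]
    intro P hP
    show ((ξ₁ : AddMonoidAlgebra A (Fin 2 → ℤ)) - 1).coeff v ∈ P
    rw [hξ₁ v, AddMonoidAlgebra.one_def, AddMonoidAlgebra.coeff_single]
    by_cases hv : v = 0
    · subst hv
      rw [Finsupp.single_eq_same, ← hc, Units.inv_mul, sub_self]
      exact zero_mem _
    · rw [Finsupp.single_eq_of_ne hv, sub_zero]
      exact Ideal.mul_mem_left P _ ((hprime P hP).1 v hv)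
  obtain ⟨N, hN⟩ := hJnil
  have hξ₁c : IsCocycle A ξ₁ := hξc.mul A (IsCocycle.d1 A _)
  have hstep : ∀ k : ℕ, ∃ η, (((ξ₁ * Groth.Agent.S13793.d1 A η : (AddMonoidAlgebra A (Fin 2 → ℤ))ˣ) : AddMonoidAlgebra A (Fin 2 → ℤ)) - 1) ∈
      cI A (J ^ 2 ^ k) := by
    intro k
    induction k with
    | zero =>
      refine ⟨1, ?_⟩
      have : Groth.Agent.S13793.d1 A (1 : (AddMonoidAlgebra A (Fin 1 → ℤ))ˣ) = 1 := by simp [Groth.Agent.S13793.d1]
      rw [this, mul_one, pow_zero, pow_one, mem_cI]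
      exact hJmem
    | succ k ih =>
      obtain ⟨η₀, hη₀⟩ := ih
      let ζ := ξ₁ * Groth.Agent.S13793.d1 A η₀
      let K := J ^ 2 ^ k
      have hKK : J ^ 2 ^ (k + 1) = K * K := by rw [pow_succ, pow_mul, pow_two]
      have hζc : IsCocycle A ζ := hξ₁c.mul A (IsCocycle.d1 A η₀)
      let f : AddMonoidAlgebra A (Fin 2 → ℤ) := (ζ : AddMonoidAlgebra A (Fin 2 → ℤ)) - 1
      have hf : f ∈ cI A K := hη₀
      obtain ⟨iF0, iF1, iF2, iF3⟩ := injF
      obtain ⟨iG0, iG1, iG2⟩ := injG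
      -- linearised cocycle relation
      have hlin : μ A F0 f + μ A F2 f - μ A F1 f - μ A F3 f ∈ cI A (K * K) := by
        have hz : (ζ : AddMonoidAlgebra A (Fin 2 → ℤ)) = 1 + f := by simp [f]
        have h : μ A F0 (ζ : AddMonoidAlgebra A (Fin 2 → ℤ)) * μ A F2 (ζ : AddMonoidAlgebra A (Fin 2 → ℤ)) = _ := hζc
        rw [hz] at h
        simp only [map_add, map_one] at h
        have e : μ A F0 f + μ A F2 f - μ A F1 f - μ A F3 f = μ A F1 f * μ A F3 f - μ A F0 f * μ A F2 f := by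
          linear_combination h
        rw [e]
        exact sub_mem (cI_mul A K K (μ_cI A _ iF1 K hf) (μ_cI A _ iF3 K hf))
          (cI_mul A K K (μ_cI A _ iF0 K hf) (μ_cI A _ iF2 K hf))
      have hco := (mem_cI A _ _).1 hlin
      simp only [AddMonoidAlgebra.coeff_sub, AddMonoidAlgebra.coeff_add, Finsupp.sub_apply, Finsupp.add_apply] at hco
      have n0 : ∀ {t : Fin 3 → ℤ}, t 0 ≠ 0 → (μ A F0 f).coeff t = 0 := fun {t} h =>
        μ_coeff_of_notMem A _ _ (fun v e => h (by rw [← e, F0v]; simp)) f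
      have n1 : ∀ {t : Fin 3 → ℤ}, t 0 ≠ t 1 → (μ A F1 f).coeff t = 0 := fun {t} h =>
        μ_coeff_of_notMem A _ _ (fun v e => h (by rw [← e, F1v]; simp)) f
      have n2 : ∀ {t : Fin 3 → ℤ}, t 1 ≠ t 2 → (μ A F2 f).coeff t = 0 := fun {t} h =>
        μ_coeff_of_notMem A _ _ (fun v e => h (by rw [← e, F2v]; simp)) f
      have n3 : ∀ {t : Fin 3 → ℤ}, t 2 ≠ 0 → (μ A F3 f).coeff t = 0 := fun {t} h =>
        μ_coeff_of_notMem A _ _ (fun v e => h (by rw [← e, F3v]; simp)) f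
      have v0 : ∀ a b : ℤ, (μ A F0 f).coeff ![0, a, b] = f.coeff ![a, b] := fun a b => by
        rw [← μ_coeff_apply A F0 iF0 f ![a, b], F0v]; simp
      have v1 : ∀ a b : ℤ, (μ A F1 f).coeff ![a, a, b] = f.coeff ![a, b] := fun a b => by
        rw [← μ_coeff_apply A F1 iF1 f ![a, b], F1v]; simp
      have v2 : ∀ a b : ℤ, (μ A F2 f).coeff ![a, b, b] = f.coeff ![a, b] := fun a b => by
        rw [← μ_coeff_apply A F2 iF2 f ![a, b], F2v]; simp
      have v3 : ∀ a b : ℤ, (μ A F3 f).coeff ![a, b, 0] = f.coeff ![a, b] := fun a b => by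
        rw [← μ_coeff_apply A F3 iF3 f ![a, b], F3v]; simp
      have r1 : ∀ a b : ℤ, a ≠ 0 → b ≠ 0 → a ≠ b → f.coeff ![a, b] ∈ K * K := fun a b ha hb hab => by
        have := hco ![a, a, b]
        rw [n0 (by simpa using ha), n2 (by simpa using hab), n3 (by simpa using hb), v1] at this
        simpa using this
      have r2 : ∀ a : ℤ, a ≠ 0 → f.coeff ![a, 0] + f.coeff ![a, a] ∈ K * K := fun a ha => by
        have := hco ![a, a, 0]
        rw [n0 (by simpa using ha), n2 (by simpa using ha), v1, v3] at this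
        have h2 := neg_mem this
        simp only [zero_add, add_zero] at h2
        convert h2 using 1
        ring
      have r3 : ∀ a : ℤ, a ≠ 0 → f.coeff ![0, a] + f.coeff ![a, a] ∈ K * K := fun a ha => by
        have := hco ![0, a, a]
        rw [n1 (by simpa using ha.symm), n3 (by simpa using ha), v0, v2] at this
        simp only [sub_zero] at this
        rwa [add_comm]
      let g : AddMonoidAlgebra A (Fin 1 → ℤ) := AddMonoidAlgebra.comapDomain G2.mulVec iG2 f
      have hgv : ∀ v, g.coeff v = f.coeff (G2.mulVec v) := fun v => by simp [g]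
      have hg : g ∈ cI A K := (mem_cI A _ _).2 fun v => by rw [hgv]; exact (mem_cI A _ _).1 hf _
      have hg' : f + μ A G1 g - μ A G0 g - μ A G2 g ∈ cI A (K * K) := by
        rw [mem_cI]
        intro t
        obtain ⟨a, b, rfl⟩ : ∃ a b : ℤ, t = ![a, b] := ⟨t 0, t 1, by ext i; fin_cases i <;> rfl⟩
        simp only [AddMonoidAlgebra.coeff_sub, AddMonoidAlgebra.coeff_add, Finsupp.sub_apply, Finsupp.add_apply]
        have m0 : (μ A G0 g).coeff ![a, b] = if a = 0 then f.coeff ![b, 0] else 0 := by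
          split_ifs with h
          · subst h
            have e : (![0, b] : Fin 2 → ℤ) = G0.mulVec ![b] := by rw [G0v]; rfl
            rw [e, μ_coeff_apply A G0 iG0, hgv, G2v]
            rfl
          · exact μ_coeff_of_notMem A _ _ (fun v e => h (by have := congrFun e 0; rw [G0v] at this; simpa using this.symm)) g
        have m1 : (μ A G1 g).coeff ![a, b] = if a = b then f.coeff ![a, 0] else 0 := by
          split_ifs with h
          · subst h
            have e : (![a, a] : Fin 2 → ℤ) = G1.mulVec ![a] := by rw [G1v]; rfl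
            rw [e, μ_coeff_apply A G1 iG1, hgv, G2v]
            rfl
          · exact μ_coeff_of_notMem A _ _ (fun v e => h (by
              have h0 := congrFun e 0
              have h1 := congrFun e 1
              rw [G1v] at h0 h1
              simp at h0 h1
              omega)) g
        have m2 : (μ A G2 g).coeff ![a, b] = if b = 0 then f.coeff ![a, 0] else 0 := by
          split_ifs with h
          · subst h
            have e : (![a, 0] : Fin 2 → ℤ) = G2.mulVec ![a] := by rw [G2v]; rfl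
            rw [e, μ_coeff_apply A G2 iG2, hgv]
          · exact μ_coeff_of_notMem A _ _ (fun v e => h (by have := congrFun e 1; rw [G2v] at this; simpa using this.symm)) g
        rw [m0, m1, m2]
        by_cases ha : a = 0
        · subst ha
          by_cases hb : b = 0
          · subst hb; simp
          · rw [if_neg (Ne.symm hb), if_pos rfl, if_neg hb]
            have := sub_mem (r3 b hb) (r2 b hb)
            convert this using 1
            ring
        · rw [if_neg ha]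
          by_cases hb : b = 0
          · subst hb; rw [if_neg ha, if_pos rfl]; simp
          · rw [if_neg hb]
            by_cases hab : a = b
            · subst hab; rw [if_pos rfl]
              have := r2 a ha
              convert this using 1
              ring
            · rw [if_neg hab]; simpa using r1 a b ha hb hab
      -- `1 + g` is a unit
      have hgnil : IsNilpotent g := by
        refine ⟨N, ?_⟩
        have : ∀ j : ℕ, g ^ (j + 1) ∈ cI A (K ^ (j + 1)) := fun j => by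
          induction j with
          | zero => simpa using hg
          | succ j ih => rw [pow_succ, pow_succ K]; exact cI_mul A _ _ ih hg
        rcases Nat.eq_zero_or_pos N with hN0 | hN0
        · subst hN0
          rw [pow_zero] at hN
          haveI : Subsingleton A := by
            have h1 : (1 : A) ∈ (0 : Ideal A) := by rw [← hN, Ideal.one_eq_top]; exact Submodule.mem_top
            exact subsingleton_of_zero_eq_one ((Submodule.mem_bot A).1 h1).symm
          exact AddMonoidAlgebra.ext (Finsupp.ext fun v => Subsingleton.elim _ _)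
        · obtain ⟨j, rfl⟩ := Nat.exists_eq_add_of_le' hN0
          have hle : K ^ (j + 1) ≤ (0 : Ideal A) := by
            rw [← hN, ← pow_mul]
            exact Ideal.pow_le_pow_right (Nat.le_mul_of_pos_left _ (pow_pos two_pos k))
          exact AddMonoidAlgebra.ext (Finsupp.ext fun v => (Submodule.mem_bot A).1 (hle ((mem_cI A _ _).1 (this j) v)))
      let η₁ : (AddMonoidAlgebra A (Fin 1 → ℤ))ˣ := hgnil.isUnit_one_add.unit
      have hη₁ : (η₁ : AddMonoidAlgebra A (Fin 1 → ℤ)) = 1 + g := hgnil.isUnit_one_add.unit_spec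
      refine ⟨η₀ * η₁⁻¹, ?_⟩
      rw [d1_mul, ← mul_assoc, hKK]
      show ((ζ * Groth.Agent.S13793.d1 A η₁⁻¹ : (AddMonoidAlgebra A (Fin 2 → ℤ))ˣ) : AddMonoidAlgebra A (Fin 2 → ℤ)) - 1 ∈ _
      have key : (((ζ * Groth.Agent.S13793.d1 A η₁⁻¹ : (AddMonoidAlgebra A (Fin 2 → ℤ))ˣ) : AddMonoidAlgebra A (Fin 2 → ℤ)) - 1) *
          (μ A G0 (η₁ : AddMonoidAlgebra A (Fin 1 → ℤ)) * μ A G2 (η₁ : AddMonoidAlgebra A (Fin 1 → ℤ))) =
          (ζ : AddMonoidAlgebra A (Fin 2 → ℤ)) * μ A G1 (η₁ : AddMonoidAlgebra A (Fin 1 → ℤ)) -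
            μ A G0 (η₁ : AddMonoidAlgebra A (Fin 1 → ℤ)) * μ A G2 (η₁ : AddMonoidAlgebra A (Fin 1 → ℤ)) := by
        have h : ζ * Groth.Agent.S13793.d1 A η₁⁻¹ * (Units.map (μ A G0).toMonoidHom η₁ * Units.map (μ A G2).toMonoidHom η₁) =
            ζ * Units.map (μ A G1).toMonoidHom η₁ := by
          simp only [Groth.Agent.S13793.d1, map_inv, inv_inv]
          apply Additive.ofMul.injective
          simp only [ofMul_mul, ofMul_inv]
          abel
        rw [sub_mul, one_mul]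
        exact congrArg (· - _) (congrArg Units.val h)
      have hmem : (((ζ * Groth.Agent.S13793.d1 A η₁⁻¹ : (AddMonoidAlgebra A (Fin 2 → ℤ))ˣ) : AddMonoidAlgebra A (Fin 2 → ℤ)) - 1) *
          (μ A G0 (η₁ : AddMonoidAlgebra A (Fin 1 → ℤ)) * μ A G2 (η₁ : AddMonoidAlgebra A (Fin 1 → ℤ))) ∈ cI A (K * K) := by
        rw [key, hη₁]
        simp only [map_add, map_one]
        have e : (ζ : AddMonoidAlgebra A (Fin 2 → ℤ)) * (1 + μ A G1 g) - (1 + μ A G0 g) * (1 + μ A G2 g) =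
            (f + μ A G1 g - μ A G0 g - μ A G2 g) + (f * μ A G1 g - μ A G0 g * μ A G2 g) := by
          simp only [f]; ring
        rw [e]
        exact add_mem hg' (sub_mem (cI_mul A K K hf (μ_cI A _ iG1 K hg))
          (cI_mul A K K (μ_cI A _ iG0 K hg) (μ_cI A _ iG2 K hg)))
      exact (Ideal.mul_unit_mem_iff_mem _ ((Units.map (μ A G0).toMonoidHom η₁).isUnit.mul
        (Units.map (μ A G2).toMonoidHom η₁).isUnit)).1 hmem
  obtain ⟨η, hη⟩ := hstep N
  have hle : J ^ 2 ^ N ≤ (0 : Ideal A) := hN ▸ Ideal.pow_le_pow_right N.lt_two_pow_self.le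
  have hone : ξ₁ * Groth.Agent.S13793.d1 A η = 1 := Units.ext (sub_eq_zero.1
    (AddMonoidAlgebra.ext (Finsupp.ext fun v => (Submodule.mem_bot A).1 (hle ((mem_cI A _ _).1 hη v)))))
  refine ⟨(C 1 c⁻¹ * η)⁻¹, ?_⟩
  have hinv : Groth.Agent.S13793.d1 A (C 1 c⁻¹ * η)⁻¹ = (Groth.Agent.S13793.d1 A (C 1 c⁻¹ * η))⁻¹ := by
    refine eq_inv_of_mul_eq_one_left ?_
    rw [← d1_mul, inv_mul_cancel]
    simp [Groth.Agent.S13793.d1]
  rw [hinv, d1_mul]
  refine eq_inv_of_mul_eq_one_left ?_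
  rw [← mul_assoc]
  exact hone

end Groth.Agent.S13793
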