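import Groth.Statements.S13794
import Mathlib

set_option autoImplicit false
universe u
open Polynomial
open Curves

namespace Groth.Agent.S13794

/-- Let k be a field of characteristic not 3 and β ∈ k. If a line ax + by + c = 0 with a³ ≠ b³ is the
tangent line at a flex point of the affine cubic x³ + y³ + β = 3xy, then β is a cube in k. Here the
line is normalised to b ≠ 0 (the roles of x and y are symmetric) and the flex-tangency is expressed
by the restriction of the cubic to the line being λ (x − x₀)³. -/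
theorem result {k : Type u} [Field k] (h3 : (3 : k) ≠ 0)
    (β a b c : k) (hb : b ≠ 0) (hab : a ^ 3 ≠ b ^ 3) (lam x₀ : k)
    (hflex : (X : k[X]) ^ 3 + (C (-a / b) * X + C (-c / b)) ^ 3 + C β - 3 * X * (C (-a / b) * X + C (-c / b)) =
      C lam * (X - C x₀) ^ 3) :
    ∃ γ : k, β = γ ^ 3 := by
  obtain ⟨p, hp⟩ : ∃ p : k, p = -a / b := ⟨_, rfl⟩
  obtain ⟨q, hq⟩ : ∃ q : k, q = -c / b := ⟨_, rfl⟩
  rw [← hp, ← hq] at hflex
  have e := fun n => congrArg (fun f => Polynomial.coeff f n) hflex
  have l : (X : k[X]) ^ 3 + (C p * X + C q) ^ 3 + C β - 3 * X * (C p * X + C q) =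
      C (1 + p ^ 3) * X ^ 3 + C (3 * (p ^ 2 * q - p)) * X ^ 2 + C (3 * (p * q ^ 2 - q)) * X ^ 1 +
        C (q ^ 3 + β) * X ^ 0 := by
    simp only [map_add, map_mul, map_sub, map_pow, map_one, map_ofNat]; ring
  have r : C lam * (X - C x₀) ^ 3 =
      C lam * X ^ 3 + C (3 * -(lam * x₀)) * X ^ 2 + C (3 * (lam * x₀ ^ 2)) * X ^ 1 +
        C (-(lam * x₀ ^ 3)) * X ^ 0 := by
    simp only [map_mul, map_neg, map_pow, map_ofNat]; ring
  simp only [l, r, Polynomial.coeff_add, Polynomial.coeff_C_mul_X_pow] at e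
  have e3 := e 3
  have e2 := e 2
  have e1 := e 1
  have e0 := e 0
  norm_num at e0 e1 e2 e3
  replace e2 : p ^ 2 * q - p = -(lam * x₀) := mul_left_cancel₀ h3 (by linear_combination e2)
  replace e1 : p * q ^ 2 - q = lam * x₀ ^ 2 := e1.resolve_right h3
  have hlam : lam ≠ 0 := by
    intro h
    apply hab
    have : (1 + p ^ 3) * b ^ 3 = 0 := by rw [e3, h, zero_mul]
    rw [hp] at this
    field_simp at this
    linear_combination -this
  have key : (p * q - 1) * (q + p ^ 2) = 0 := by
    have h1 : (p ^ 2 * q - p) ^ 2 = lam * (p * q ^ 2 - q) := by rw [e2, e1]; ring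
    linear_combination -h1 + (p * q ^ 2 - q) * e3
  rcases mul_eq_zero.1 key with h | h
  · have hx : x₀ = 0 := by
      have : lam * x₀ = 0 := by linear_combination e2 - p * h
      exact (mul_eq_zero.1 this).resolve_left hlam
    exact ⟨-q, by subst hx; linear_combination e0⟩
  · have hx : x₀ = p := by
      have : lam * (x₀ - p) = 0 := by linear_combination e2 - p ^ 2 * h + p * e3
      exact sub_eq_zero.1 ((mul_eq_zero.1 this).resolve_left hlam)
    refine ⟨-p, ?_⟩
    rw [hx] at e0
    linear_combination e0 - (q ^ 2 - q * p ^ 2 + p ^ 4) * h + p ^ 3 * e3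

end Groth.Agent.S13794
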