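import Groth.Statements.S13795
import Groth.Agent.AzumayaX.Morita

set_option autoImplicit false
universe u
open TensorProduct
open Brauer

namespace Groth.Agent.S13795

/-- In the case of an affine scheme — let A be a commutative ring, F and G finitely generated projective
A-modules of everywhere positive rank, and φ an A-algebra isomorphism from End_A(F) to End_A(G).
Then there are an invertible A-module L and an A-linear isomorphism ξ : F ⊗ L ≅ G which induces φ:
for every endomorphism f of F, φ(f) = ξ ∘ (f ⊗ 1) ∘ ξ⁻¹. (The published statement is for finite
locally free modules of positive rank on any locally ringed site; this row is the case of the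
Zariski site of Spec A, written in terms of modules.) -/
theorem result (A : Type u) [CommRing A]
    (F G : Type u) [AddCommGroup F] [Module A F] [Module.Finite A F] [Module.Projective A F] [Module.FaithfullyFlat A F]
    [AddCommGroup G] [Module A G] [Module.Finite A G] [Module.Projective A G] [Module.FaithfullyFlat A G]
    (φ : Module.End A F ≃ₐ[A] Module.End A G) :
    ∃ (L : Type u) (_ : AddCommGroup L) (_ : Module A L), Module.Invertible A L ∧
      ∃ ξ : F ⊗[A] L ≃ₗ[A] G, ∀ f : Module.End A F, φ f = ξ.conj (TensorProduct.map f LinearMap.id) := by
  let ξ := LinearEquiv.ofBijective _ (Groth.Agent.AzumayaX.evalIntertwiner_bijective φ.toAlgHom)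
  refine ⟨_, inferInstance, inferInstance, Groth.Agent.AzumayaX.invertible_intertwiners φ, ξ, fun f => ?_⟩
  refine LinearMap.ext fun g => ?_
  obtain ⟨z, rfl⟩ := ξ.surjective g
  rw [LinearEquiv.conj_apply_apply, LinearEquiv.symm_apply_apply]
  exact Groth.Agent.AzumayaX.evalIntertwiner_equivariant φ.toAlgHom f z

end Groth.Agent.S13795
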