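import Groth.Statements.S13796
import Groth.Agent.AzumayaX.TensorPower

set_option autoImplicit false
universe u
open scoped TensorProduct
open Brauer

namespace Groth.Agent.S13796

/-- In the case of an affine scheme — let R be a commutative ring and A an Azumaya R-algebra of constant
rank n². Then there exist a finitely generated projective R-module E of constant rank n^n and an
R-algebra isomorphism from the n-fold tensor power A ⊗ ⋯ ⊗ A to End_R(E) (existence of an
isomorphism only), so the Brauer class of A is n-torsion. For n = 0 the hypotheses force R = 0,
where the statement holds trivially. (The published statement is for Azumaya algebras of constant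
rank n² on any locally ringed site; this row is the case of the étale site of Spec R, written in
terms of modules: an Azumaya algebra here is one in the usual, étale-local sense.) -/
theorem result (R : Type u) [CommRing R] (A : Type u) [Ring A] [Algebra R A]
    [IsAzumaya R A] (n : ℕ) (hrk : ∀ p : PrimeSpectrum R, Module.rankAtStalk (R := R) A p = n ^ 2) :
    ∃ (E : Type u) (_ : AddCommGroup E) (_ : Module R E), Module.Finite R E ∧ Module.Projective R E ∧
      (∀ p : PrimeSpectrum R, Module.rankAtStalk (R := R) E p = n ^ n) ∧
      Nonempty ((⨂[R] _ : Fin n, A) ≃ₐ[R] Module.End R E) := by
  rcases Nat.eq_zero_or_pos n with hn | hn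
  · subst hn
    have hsub : Subsingleton R := by
      by_contra hc
      rw [not_subsingleton_iff_nontrivial] at hc
      obtain ⟨m, hm⟩ := Ideal.exists_maximal R
      haveI : Subsingleton A := by
        rw [← Module.rankAtStalk_eq_zero_iff_subsingleton (R := R)]
        funext p
        simp [hrk p]
      exact zero_ne_one (FaithfulSMul.algebraMap_injective R A (Subsingleton.elim _ _) : (0 : R) = 1)
    haveI := Module.subsingleton R (⨂[R] _ : Fin 0, A)
    haveI := Module.subsingleton R (Module.End R R)
    exact ⟨R, inferInstance, inferInstance, inferInstance, inferInstance,
      fun p => (p.isPrime.ne_top (Subsingleton.elim _ _)).elim,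
      ⟨{ toFun := 0, invFun := 0, left_inv := fun _ => Subsingleton.elim _ _,
         right_inv := fun _ => Subsingleton.elim _ _, map_mul' := fun _ _ => Subsingleton.elim _ _,
         map_add' := fun _ _ => Subsingleton.elim _ _, commutes' := fun _ => Subsingleton.elim _ _ }⟩⟩
  · exact Groth.Agent.AzumayaX.tensorPower_algEquiv_end R A hn hrk

end Groth.Agent.S13796
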