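import Groth.Statements.S13797
import Groth.Agent.AzumayaX.Morita
import Mathlib.LinearAlgebra.Matrix.ToLin
import Mathlib.LinearAlgebra.Matrix.Determinant.Basic
import Mathlib.LinearAlgebra.Matrix.NonsingularInverse
import Mathlib.LinearAlgebra.Matrix.ToLinearEquiv
import Mathlib.LinearAlgebra.PiTensorProduct.Basic

set_option autoImplicit false
universe u
open scoped TensorProduct
open Brauer

namespace Groth.Agent.S13797

theorem invertible_pi (A : Type u) [CommRing A] (M : Type u) [AddCommGroup M] [Module A M]
    [Module.Invertible A M] : ∀ m, Module.Invertible A (⨂[A] _ : Fin m, M)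
  | 0 => .congr (PiTensorProduct.isEmptyEquiv (Fin 0)).symm
  | m + 1 => by
    haveI := invertible_pi A M m
    haveI : Module.Invertible A (⨂[A] _ : Fin 1, M) :=
      .congr (PiTensorProduct.subsingletonEquiv (R := A) (s := fun _ : Fin 1 => M) 0).symm
    exact .congr ((PiTensorProduct.tmulEquiv A M (ι := Fin m) (ι₂ := Fin 1)).trans
      (PiTensorProduct.reindex A (fun _ => M) finSumFinEquiv))

/-- In the case of an affine scheme — let A be a commutative ring, n ≥ 1 and α an A-algebra automorphism
of the n × n matrix algebra over A. The A-module L of matrices M with M N = α(N) M for every matrix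
N (the module of sections of the line bundle attached to the torsor of liftings of α to GL_n) is
invertible, and its class in the Picard group of A is n-torsion: the n-fold tensor power of L is
isomorphic to A (existence of an isomorphism only). (The published statement is for an automorphism
of End(O^n) on any locally ringed site, in the form: the sheaf of liftings is a 𝔾_m-torsor whose
class in Pic is n-torsion; this row is the affine case.) -/
theorem result (A : Type u) [CommRing A] (n : ℕ) (hn : 0 < n)
    (α : Matrix (Fin n) (Fin n) A ≃ₐ[A] Matrix (Fin n) (Fin n) A) :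
    Module.Invertible A
        (LinearMap.ker (LinearMap.mul A (Matrix (Fin n) (Fin n) A) -
          (LinearMap.lcomp A (Matrix (Fin n) (Fin n) A) α.toLinearMap).comp (LinearMap.mul A (Matrix (Fin n) (Fin n) A)).flip)) ∧
      Nonempty ((⨂[A] _ : Fin n,
          LinearMap.ker (LinearMap.mul A (Matrix (Fin n) (Fin n) A) -
            (LinearMap.lcomp A (Matrix (Fin n) (Fin n) A) α.toLinearMap).comp (LinearMap.mul A (Matrix (Fin n) (Fin n) A)).flip)) ≃ₗ[A] A) := by
  classical
  set L := LinearMap.ker (LinearMap.mul A (Matrix (Fin n) (Fin n) A) -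
    (LinearMap.lcomp A (Matrix (Fin n) (Fin n) A) α.toLinearMap).comp
      (LinearMap.mul A (Matrix (Fin n) (Fin n) A)).flip) with hLdef
  have hmem : ∀ M, M ∈ L ↔ ∀ N, M * N = α N * M := fun M => by
    simp only [hLdef, LinearMap.mem_ker, LinearMap.ext_iff, LinearMap.sub_apply, LinearMap.zero_apply,
      LinearMap.comp_apply, LinearMap.lcomp_apply, LinearMap.flip_apply, LinearMap.mul_apply',
      sub_eq_zero, AlgEquiv.toLinearMap_apply]
  let T : Matrix (Fin n) (Fin n) A ≃ₐ[A] Module.End A (Fin n → A) := Matrix.toLinAlgEquiv'
  let e := T.symm.trans (α.trans T)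
  have : Nonempty (Fin n) := ⟨⟨0, hn⟩⟩
  have : Module.FaithfullyFlat A (Fin n → A) := by
    rcases subsingleton_or_nontrivial A with h | h
    · exact { submodule_ne_top := fun m hm => (hm.ne_top (Subsingleton.elim _ _)).elim }
    · infer_instance
  have hinv := Groth.Agent.AzumayaX.invertible_intertwiners e
  have hiff : ∀ M, T M ∈ Groth.Agent.AzumayaX.intertwiners e.toAlgHom ↔ M ∈ L := fun M => by
    rw [hmem]
    constructor
    · intro h N
      have h1 : e (T N) * T M = T M * T N := h (T N)
      rw [show e (T N) = T (α N) by simp [e], ← map_mul, ← map_mul] at h1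
      exact (T.injective h1).symm
    · intro h f
      obtain ⟨N, rfl⟩ := T.surjective f
      show e (T N) * T M = T M * T N
      rw [show e (T N) = T (α N) by simp [e], ← map_mul, ← map_mul, h N]
  let eqv : L ≃ₗ[A] Groth.Agent.AzumayaX.intertwiners e.toAlgHom :=
    { toFun := fun M => ⟨T M, (hiff M).2 M.2⟩
      map_add' := fun a b => Subtype.ext (map_add T a.1 b.1)
      map_smul' := fun r a => Subtype.ext (map_smul T r a.1)
      invFun := fun l => ⟨T.symm l.1, (hiff _).1 (by rw [AlgEquiv.apply_symm_apply]; exact l.2)⟩
      left_inv := fun M => Subtype.ext (T.symm_apply_apply M.1)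
      right_inv := fun l => Subtype.ext (T.apply_symm_apply l.1) }
  have hL : Module.Invertible A L := Module.Invertible.congr eqv.symm
  refine ⟨hL, ?_⟩
  -- the determinant, read as a multilinear form on `L`
  let ψ : MultilinearMap A (fun _ : Fin n => L) A :=
    (Matrix.detRowAlternating (R := A) (n := Fin n)).toMultilinearMap.compLinearMap
      fun j => (LinearMap.proj j).comp L.subtype
  have hψ : ∀ M : L, ψ (fun _ => M) = Matrix.det (M : Matrix (Fin n) (Fin n) A) := fun M => rfl
  let Ψ := PiTensorProduct.lift ψ
  have hsurj : Function.Surjective Ψ := by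
    rw [← LinearMap.range_eq_top]
    by_contra hne
    obtain ⟨m, hm, hle⟩ := Ideal.exists_le_maximal (LinearMap.range Ψ) hne
    have : m.IsPrime := hm.isPrime
    let π := Ideal.Quotient.mk m
    letI : Field (A ⧸ m) := Ideal.Quotient.field m
    -- every member of `L` dies modulo `m`
    have hzero : ∀ M : L, (M : Matrix (Fin n) (Fin n) A).map π = 0 := by
      intro M
      by_contra hM0
      have hdet : ((M : Matrix (Fin n) (Fin n) A).map π).det = 0 := by
        rw [← RingHom.mapMatrix_apply, ← RingHom.map_det, Ideal.Quotient.eq_zero_iff_mem]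
        exact hle ⟨PiTensorProduct.tprod A fun _ => M, by simp [Ψ, hψ]⟩
      obtain ⟨v, hv0, hv⟩ := Matrix.exists_mulVec_eq_zero_iff.2 hdet
      have hker : ∀ N : Matrix (Fin n) (Fin n) (A ⧸ m),
          ((M : Matrix (Fin n) (Fin n) A).map π).mulVec (N.mulVec v) = 0 := by
        intro N
        obtain ⟨N, rfl⟩ : ∃ N' : Matrix (Fin n) (Fin n) A, N'.map π = N := by
          choose g hg using fun i j => Ideal.Quotient.mk_surjective (N i j)
          exact ⟨g, by ext i j; exact hg i j⟩
        rw [Matrix.mulVec_mulVec, ← Matrix.map_mul, (hmem _).1 M.2 N, Matrix.map_mul,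
          ← Matrix.mulVec_mulVec, hv, Matrix.mulVec_zero]
      obtain ⟨i₀, hi₀⟩ := Function.ne_iff.1 hv0
      refine hM0 (Matrix.ext fun i j => ?_)
      have := congrFun (hker (Matrix.single j i₀ (v i₀)⁻¹)) i
      rw [show (Matrix.single j i₀ (v i₀)⁻¹).mulVec v = Pi.single j 1 from by
        ext l
        rcases eq_or_ne l j with rfl | hl
        · simp [Matrix.mulVec, dotProduct, Matrix.single, inv_mul_cancel₀ hi₀]
        · simp [Matrix.mulVec, dotProduct, Matrix.single, Ne.symm hl, hl]] at this
      simpa using this
    -- but the evaluations of `L` fill `A ^ n`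
    obtain ⟨z, hz⟩ := (Groth.Agent.AzumayaX.evalIntertwiner_bijective e.toAlgHom).2
      (Pi.single ⟨0, hn⟩ 1)
    have hall : ∀ w, ∀ i, π (Groth.Agent.AzumayaX.evalIntertwiner e.toAlgHom w i) = 0 := by
      intro w
      induction w using TensorProduct.induction_on with
      | zero => simp
      | add a b ha hb => intro i; simp [ha i, hb i]
      | tmul x l =>
        intro i
        obtain ⟨M, rfl⟩ := eqv.surjective l
        have h2 := RingHom.map_mulVec π (M : Matrix (Fin n) (Fin n) A) x i
        simp only [hzero M, Matrix.zero_mulVec, Pi.zero_apply] at h2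
        rw [Groth.Agent.AzumayaX.evalIntertwiner_tmul]
        simpa [eqv, T] using h2
    have h1 := hall z ⟨0, hn⟩
    rw [hz, Pi.single_eq_same, map_one] at h1
    exact one_ne_zero h1
  have hpi := invertible_pi A L n
  exact ⟨LinearEquiv.ofBijective Ψ (Module.Invertible.bijective_of_surjective hsurj)⟩

end Groth.Agent.S13797
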