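import Groth.Statements.S13798
import Mathlib.AlgebraicGeometry.FunctionField
import Mathlib.AlgebraicGeometry.PullbackCarrier
import Mathlib.Algebra.MonoidAlgebra.MapDomain
import Mathlib.Algebra.MonoidAlgebra.NoZeroDivisors
import Mathlib.Algebra.Group.UniqueProds.Basic

set_option autoImplicit false
universe u
open CategoryTheory CategoryTheory.Limits AlgebraicGeometry Opposite
open Curves

namespace Groth.Agent.S13798

open AddMonoidAlgebra

/-- Units of a group algebra of `ℤ^d` over a domain are monomials (as in `S13793`). -/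
theorem isUnit_eq_single {A : Type u} [CommRing A] [IsDomain A] {d : ℕ} (f g : AddMonoidAlgebra A (Fin d → ℤ))
    (h : f * g = 1) : ∃ (a : Fin d → ℤ) (c : A), c ≠ 0 ∧ f = single a c := by
  classical
  have hf : f ≠ 0 := by rintro rfl; simp at h
  have hg : g ≠ 0 := by rintro rfl; simp at h
  have hfs : f.coeff.support.Nonempty :=
    Finsupp.support_nonempty_iff.2 fun h0 => hf (AddMonoidAlgebra.ext h0)
  have hgs : g.coeff.support.Nonempty :=
    Finsupp.support_nonempty_iff.2 fun h0 => hg (AddMonoidAlgebra.ext h0)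
  by_cases hcard : 1 < f.coeff.support.card * g.coeff.support.card
  · exfalso
    obtain ⟨p1, hp1, p2, hp2, hne, u1, u2⟩ := TwoUniqueSums.uniqueAdd_of_one_lt_card hcard
    have key : ∀ p ∈ f.coeff.support ×ˢ g.coeff.support, UniqueAdd f.coeff.support g.coeff.support p.1 p.2 →
        p.1 + p.2 = 0 := by
      intro p hp u
      by_contra hne0
      have h1 := AddMonoidAlgebra.coeff_mul_add_of_uniqueAdd (f := f) (g := g) u
      rw [h, AddMonoidAlgebra.one_def, AddMonoidAlgebra.coeff_single, Finsupp.single_eq_of_ne hne0] at h1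
      obtain ⟨hp₁, hp₂⟩ := Finset.mem_product.1 hp
      exact mul_ne_zero (Finsupp.mem_support_iff.1 hp₁) (Finsupp.mem_support_iff.1 hp₂) h1.symm
    obtain ⟨e1, e2⟩ := u1 (Finset.mem_product.1 hp2).1 (Finset.mem_product.1 hp2).2
      ((key p2 hp2 u2).trans (key p1 hp1 u1).symm)
    exact hne (Prod.ext e1 e2).symm
  · have : f.coeff.support.card = 1 := by
      have h1 := hfs.card_pos
      have h2 := hgs.card_pos
      have h3 := Nat.le_mul_of_pos_right f.coeff.support.card h2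
      omega
    obtain ⟨a, ha⟩ := Finsupp.card_support_eq_one'.1 this
    obtain ⟨c, hc, hfc⟩ := ha
    exact ⟨a, c, hc, AddMonoidAlgebra.ext (by rw [hfc, AddMonoidAlgebra.coeff_single])⟩

noncomputable abbrev R0 (n : ℕ) := ULift.{u} (AddMonoidAlgebra ℤ (Fin n → ℤ))
noncomputable abbrev T (n : ℕ) : Scheme.{u} := Spec (CommRingCat.of (R0.{u} n))
noncomputable abbrev LA (A : Type u) [CommRing A] (n : ℕ) := AddMonoidAlgebra A (Fin n → ℤ)

/-- The ring map classified by a morphism to a spectrum. -/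
noncomputable def chi {Y : Scheme.{u}} {R : Type u} [CommRing R] (f : Y ⟶ Spec (CommRingCat.of R)) : R →+* Γ(Y, ⊤) :=
  ((Scheme.ΓSpecIso (CommRingCat.of R)).inv ≫ f.appTop).hom

theorem chi_ext {Y : Scheme.{u}} {R : Type u} [CommRing R] {f g : Y ⟶ Spec (CommRingCat.of R)} (h : chi f = chi g) :
    f = g := ext_to_Spec (CommRingCat.hom_ext h)

theorem chi_comp {Y Y' : Scheme.{u}} {R : Type u} [CommRing R] (g : Y' ⟶ Y) (f : Y ⟶ Spec (CommRingCat.of R)) (r : R) :
    chi (g ≫ f) r = g.appTop.hom (chi f r) := rfl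

theorem chi_SpecMap {R S : Type u} [CommRing R] [CommRing S] (h : R →+* S) (r : R) :
    chi (Spec.map (CommRingCat.ofHom h)) r = (Scheme.ΓSpecIso (CommRingCat.of S)).inv.hom (h r) :=
  (ConcreteCategory.congr_hom (Scheme.ΓSpecIso_inv_naturality (CommRingCat.ofHom h)) r).symm

noncomputable def toSpec {Y : Scheme.{u}} {R : Type u} [CommRing R] (h : R →+* Γ(Y, ⊤)) : Y ⟶ Spec (CommRingCat.of R) :=
  Y.toSpecΓ ≫ Spec.map (CommRingCat.ofHom h)

theorem chi_toSpec {Y : Scheme.{u}} {R : Type u} [CommRing R] (h : R →+* Γ(Y, ⊤)) (r : R) : chi (toSpec h) r = h r := by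
  rw [toSpec, chi_comp, chi_SpecMap, Scheme.toSpecΓ_appTop]
  exact Iso.inv_hom_id_apply (Scheme.ΓSpecIso (CommRingCat.of Γ(Y, ⊤))) (h r)

noncomputable def bar (A : Type u) [CommRing A] (n : ℕ) : R0.{u} n →+* LA A n :=
  (mapRingHom (Fin n → ℤ) (Int.castRingHom A)).comp ULift.ringEquiv.toRingHom

theorem bar_single (A : Type u) [CommRing A] (n : ℕ) (e : Fin n → ℤ) :
    bar A n (ULift.up (single e 1)) = single e 1 := by
  change mapRingHom (Fin n → ℤ) (Int.castRingHom A) (single e (1 : ℤ)) = _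
  rw [mapRingHom_single, map_one]

noncomputable def coord1 {A : Type u} [CommRing A] (n : ℕ) : A →+* LA A n := singleZeroRingHom

theorem hom_ext' {A S : Type u} [CommRing A] [CommRing S] {n : ℕ} {f g : LA A n →+* S}
    (h1 : f.comp (coord1 n) = g.comp (coord1 n)) (h2 : f.comp (bar A n) = g.comp (bar A n)) : f = g := by
  refine AddMonoidAlgebra.ringHom_ext' h1 (MonoidHom.ext fun m => ?_)
  have h := RingHom.congr_fun h2 (ULift.up (single (Multiplicative.toAdd m) 1))
  simpa [bar_single, AddMonoidAlgebra.of] using h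

theorem R0_ext {S : Type u} [CommRing S] {n : ℕ} {f g : R0.{u} n →+* S}
    (h : ∀ e, f (ULift.up (single e 1)) = g (ULift.up (single e 1))) : f = g := by
  refine RingHom.cancel_right (f := (ULift.ringEquiv : R0.{u} n ≃+* _).symm.toRingHom) (RingEquiv.surjective _) |>.1 ?_
  refine AddMonoidAlgebra.ringHom_ext' (Subsingleton.elim _ _) (MonoidHom.ext fun m => h _)

/-- The point `t = 1`. -/
noncomputable def augm (S : Type u) [CommRing S] (n : ℕ) : LA S n →+* S :=
  AddMonoidAlgebra.liftNCRingHom (RingHom.id S) 1 fun _ _ => Commute.all _ _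

theorem augm_single (S : Type u) [CommRing S] (n : ℕ) (e : Fin n → ℤ) (a : S) : augm S n (single e a) = a := by
  simp [augm]

noncomputable def psi (A : Type u) [CommRing A] (n : ℕ) :
    Spec (CommRingCat.of (LA A n)) ⟶ Spec (CommRingCat.of A) ⨯ T.{u} n :=
  prod.lift (Spec.map (CommRingCat.ofHom (coord1 n))) (Spec.map (CommRingCat.ofHom (bar A n)))

theorem isIso_psi (A : Type u) [CommRing A] (n : ℕ) : IsIso (psi A n) := by
  let a : A →+* Γ(Spec (CommRingCat.of A) ⨯ T.{u} n, ⊤) := chi prod.fst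
  let b : R0.{u} n →+* Γ(Spec (CommRingCat.of A) ⨯ T.{u} n, ⊤) := chi prod.snd
  let gen : Multiplicative (Fin n → ℤ) →* R0.{u} n :=
    ((ULift.ringEquiv : R0.{u} n ≃+* _).symm.toRingHom : _ →* _).comp (AddMonoidAlgebra.of ℤ (Fin n → ℤ))
  let l : LA A n →+* Γ(Spec (CommRingCat.of A) ⨯ T.{u} n, ⊤) :=
    AddMonoidAlgebra.liftNCRingHom a (b.toMonoidHom.comp gen) fun _ _ => Commute.all _ _
  have hl1 : ∀ x, l (coord1 n x) = a x := fun x => by
    rw [show coord1 n x = single 0 x from rfl]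
    simp [l, gen, ← AddMonoidAlgebra.one_def]
  have hl2 : l.comp (bar A n) = b := R0_ext fun e => by
    rw [RingHom.comp_apply, bar_single]
    simp [l, gen, AddMonoidAlgebra.of]
    rfl
  refine ⟨toSpec l, chi_ext (hom_ext' (RingHom.ext fun x => ?_) (R0_ext fun e => ?_)), ?_⟩
  · rw [RingHom.comp_apply, chi_comp, chi_toSpec, hl1, RingHom.comp_apply]
    rw [show 𝟙 (Spec (CommRingCat.of (LA A n))) = Spec.map (CommRingCat.ofHom (RingHom.id _)) by simp, chi_SpecMap,
      ← chi_comp, psi, prod.lift_fst, chi_SpecMap]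
    rfl
  · rw [RingHom.comp_apply, chi_comp, chi_toSpec, RingHom.comp_apply]
    rw [show 𝟙 (Spec (CommRingCat.of (LA A n))) = Spec.map (CommRingCat.ofHom (RingHom.id _)) by simp, chi_SpecMap,
      show l (bar A n (ULift.up (single e 1))) = b (ULift.up (single e 1)) from RingHom.congr_fun hl2 _,
      ← chi_comp, psi, prod.lift_snd, chi_SpecMap]
    rfl
  · refine prod.hom_ext (chi_ext (RingHom.ext fun x => ?_)) (chi_ext (RingHom.ext fun x => ?_))
    · rw [Category.assoc, psi, prod.lift_fst, chi_comp, chi_SpecMap, Category.id_comp]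
      exact (chi_toSpec l _).trans (hl1 x)
    · rw [Category.assoc, psi, prod.lift_snd, chi_comp, chi_SpecMap, Category.id_comp]
      exact (chi_toSpec l _).trans (RingHom.congr_fun hl2 x)

/-- The chart of the torus over `X` attached to an affine chart `g`. -/
noncomputable def phi {X : Scheme.{u}} {A : Type u} [CommRing A] (n : ℕ) (g : Spec (CommRingCat.of A) ⟶ X) :
    Spec (CommRingCat.of (LA A n)) ⟶ X ⨯ T.{u} n :=
  psi A n ≫ prod.map g (𝟙 _)

theorem phi_fst {X : Scheme.{u}} {A : Type u} [CommRing A] (n : ℕ) (g : Spec (CommRingCat.of A) ⟶ X) :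
    phi n g ≫ prod.fst = Spec.map (CommRingCat.ofHom (coord1 n)) ≫ g := by
  rw [phi, psi, Category.assoc, prod.map_fst]
  exact prod.lift_fst_assoc _ _ g

theorem phi_snd {X : Scheme.{u}} {A : Type u} [CommRing A] (n : ℕ) (g : Spec (CommRingCat.of A) ⟶ X) :
    phi n g ≫ prod.snd = Spec.map (CommRingCat.ofHom (bar A n)) := by
  rw [phi, psi, Category.assoc, prod.map_snd, Category.comp_id]
  exact prod.lift_snd _ _

theorem isOpenImmersion_phi {X : Scheme.{u}} {A : Type u} [CommRing A] (n : ℕ) (g : Spec (CommRingCat.of A) ⟶ X)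
    [IsOpenImmersion g] : IsOpenImmersion (phi n g) := by
  haveI := isIso_psi A n
  haveI : IsOpenImmersion (prod.map g (𝟙 (T.{u} n))) :=
    MorphismProperty.of_isPullback (IsPullback.of_prod_fst_with_id g (T.{u} n)) inferInstance
  unfold phi
  infer_instance

theorem mem_range_phi {X : Scheme.{u}} {A : Type u} [CommRing A] (n : ℕ) (g : Spec (CommRingCat.of A) ⟶ X)
    (p : (X ⨯ T.{u} n : Scheme.{u})) (a : Spec (CommRingCat.of A)) (h : g a = (prod.fst : X ⨯ T.{u} n ⟶ X) p) :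
    p ∈ Set.range (phi n g) := by
  haveI := isIso_psi A n
  obtain ⟨z, -, hz⟩ := Scheme.exists_preimage_of_isPullback (IsPullback.of_prod_fst_with_id g (T.{u} n)) a p h
  exact ⟨(inv (psi A n)) z, by simp [phi, ← Scheme.Hom.comp_apply, hz]⟩

/-- Pull a global function back to a chart. -/
noncomputable def W {X : Scheme.{u}} {A : Type u} [CommRing A] {n : ℕ} (g : Spec (CommRingCat.of A) ⟶ X) :
    Γ(X ⨯ T.{u} n, ⊤) →+* LA A n :=
  ((phi n g).appTop ≫ (Scheme.ΓSpecIso (CommRingCat.of (LA A n))).hom).hom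

theorem W_nat {X : Scheme.{u}} {A B : Type u} [CommRing A] [CommRing B] {n : ℕ} (h : A →+* B)
    (g : Spec (CommRingCat.of A) ⟶ X) (v : Γ(X ⨯ T.{u} n, ⊤)) :
    mapRingHom (Fin n → ℤ) h (W g v) = W (Spec.map (CommRingCat.ofHom h) ≫ g) v := by
  have hphi : phi n (Spec.map (CommRingCat.ofHom h) ≫ g) = Spec.map (CommRingCat.ofHom (mapRingHom (Fin n → ℤ) h)) ≫ phi n g := by
    refine prod.hom_ext ?_ ?_
    · rw [phi_fst, Category.assoc, phi_fst, ← Category.assoc, ← Category.assoc, ← Spec.map_comp, ← Spec.map_comp,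
        ← CommRingCat.ofHom_comp, ← CommRingCat.ofHom_comp]
      congr 3
      ext x : 1
      simp [coord1, singleZeroRingHom]
    · rw [phi_snd, Category.assoc, phi_snd, ← Spec.map_comp, ← CommRingCat.ofHom_comp]
      congr 2
      refine R0_ext fun e => ?_
      simp [bar_single]
  rw [W, W, hphi, Scheme.Hom.comp_appTop, Category.assoc]
  exact (ConcreteCategory.congr_hom (Scheme.ΓSpecIso_naturality (CommRingCat.ofHom (mapRingHom (Fin n → ℤ) h))) _).symm

theorem W_fst {X : Scheme.{u}} {A : Type u} [CommRing A] {n : ℕ} (g : Spec (CommRingCat.of A) ⟶ X) (u' : Γ(X, ⊤)) :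
    W (n := n) g ((prod.fst : X ⨯ T.{u} n ⟶ X).appTop.hom u') =
      single 0 ((Scheme.ΓSpecIso (CommRingCat.of A)).hom.hom (g.appTop.hom u')) := by
  have h1 : (prod.fst : X ⨯ T.{u} n ⟶ X).appTop ≫ (phi n g).appTop =
      g.appTop ≫ (Spec.map (CommRingCat.ofHom (coord1 (A := A) n))).appTop := by
    rw [← Scheme.Hom.comp_appTop, ← Scheme.Hom.comp_appTop, phi_fst]
  change (Scheme.ΓSpecIso _).hom.hom (((prod.fst : X ⨯ T.{u} n ⟶ X).appTop ≫ (phi n g).appTop).hom u') = _
  rw [h1]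
  exact ConcreteCategory.congr_hom (Scheme.ΓSpecIso_naturality (CommRingCat.ofHom (coord1 (A := A) n))) _

theorem W_snd {X : Scheme.{u}} {A : Type u} [CommRing A] {n : ℕ} (g : Spec (CommRingCat.of A) ⟶ X) (e : Fin n → ℤ) :
    W (n := n) g ((prod.snd : X ⨯ T.{u} n ⟶ T.{u} n).appTop.hom
      ((Scheme.ΓSpecIso (CommRingCat.of (R0.{u} n))).inv.hom (ULift.up (single e 1)))) = single e 1 := by
  have h1 : (prod.snd : X ⨯ T.{u} n ⟶ T.{u} n).appTop ≫ (phi n g).appTop =
      (Spec.map (CommRingCat.ofHom (bar A n))).appTop := by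
    rw [← Scheme.Hom.comp_appTop, phi_snd]
  change (Scheme.ΓSpecIso _).hom.hom (((prod.snd : X ⨯ T.{u} n ⟶ T.{u} n).appTop ≫ (phi n g).appTop).hom _) = _
  rw [h1]
  refine (ConcreteCategory.congr_hom (Scheme.ΓSpecIso_naturality (CommRingCat.ofHom (bar A n))) _).trans ?_
  change bar A n ((Scheme.ΓSpecIso (CommRingCat.of (R0.{u} n))).hom.hom ((Scheme.ΓSpecIso (CommRingCat.of (R0.{u} n))).inv.hom _)) = _
  rw [show (Scheme.ΓSpecIso (CommRingCat.of (R0.{u} n))).hom.hom ((Scheme.ΓSpecIso _).inv.hom (ULift.up (single e 1))) = ULift.up (single e 1)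
    from Iso.inv_hom_id_apply _ _]
  exact bar_single A n e

theorem res_eq_of_appTop_eq {Y P : Scheme.{u}} (f : Y ⟶ P) [IsOpenImmersion f] {s t : Γ(P, ⊤)}
    (h : f.appTop.hom s = f.appTop.hom t) :
    (P.presheaf.map (homOfLE (le_top : f ''ᵁ ⊤ ≤ ⊤)).op).hom s = (P.presheaf.map (homOfLE (le_top : f ''ᵁ ⊤ ≤ ⊤)).op).hom t := by
  refine (ConcreteCategory.bijective_of_isIso (f.appIso ⊤).hom).1 ?_
  have key : P.presheaf.map (homOfLE (le_top : f ''ᵁ ⊤ ≤ ⊤)).op ≫ (f.appIso ⊤).hom = f.appTop := by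
    rw [Scheme.Hom.appIso_hom', Scheme.Hom.map_appLE, Scheme.Hom.appTop, Scheme.Hom.app_eq_appLE]
    rfl
  rw [← key] at h
  exact h



/-- Units on tori: let X be an integral scheme and P = X × 𝔾_mⁿ, the product with the n-dimensional
split torus Spec ℤ[ℤⁿ] = Spec ℤ[t₁^±, …, t_n^±]. The canonical map Γ(X, O_X)ˣ × ℤⁿ → Γ(P, O_P)ˣ, (u,
e) ↦ pr₁^*(u) · pr₂^*(t^e), is an isomorphism: every invertible global function on P is uniquely of
this form. -/
theorem result (X : Scheme.{u}) [IsIntegral X] (n : ℕ)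
    (v : Γ(X ⨯ Spec (CommRingCat.of (ULift.{u} (AddMonoidAlgebra ℤ (Fin n → ℤ)))), ⊤)) (hv : IsUnit v) :
    ∃! p : (Γ(X, ⊤))ˣ × (Fin n → ℤ),
      v = (prod.fst : X ⨯ Spec (CommRingCat.of (ULift.{u} (AddMonoidAlgebra ℤ (Fin n → ℤ)))) ⟶ X).appTop (p.1 : Γ(X, ⊤)) *
        (prod.snd : X ⨯ Spec (CommRingCat.of (ULift.{u} (AddMonoidAlgebra ℤ (Fin n → ℤ)))) ⟶ Spec (CommRingCat.of (ULift.{u} (AddMonoidAlgebra ℤ (Fin n → ℤ))))).appTop
          ((Scheme.ΓSpecIso (CommRingCat.of (ULift.{u} (AddMonoidAlgebra ℤ (Fin n → ℤ))))).inv (ULift.up (AddMonoidAlgebra.single p.2 1))) := by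
  classical
  let sec : X ⟶ X ⨯ T.{u} n := prod.lift (𝟙 X)
    (toSpec ((augm Γ(X, ⊤) n).comp (bar Γ(X, ⊤) n)))
  have hfst : ∀ a : Γ(X, ⊤), sec.appTop.hom ((prod.fst : X ⨯ T.{u} n ⟶ X).appTop.hom a) = a := fun a => by
    change (((prod.fst : X ⨯ T.{u} n ⟶ X)).appTop ≫ sec.appTop).hom a = a
    rw [← Scheme.Hom.comp_appTop, prod.lift_fst, Scheme.Hom.id_appTop]
    rfl
  let mono : (Fin n → ℤ) → Γ(X ⨯ T.{u} n, ⊤) := fun e => (prod.snd : X ⨯ T.{u} n ⟶ T.{u} n).appTop.hom
    ((Scheme.ΓSpecIso (CommRingCat.of (R0.{u} n))).inv.hom (ULift.up (single e 1)))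
  have hsnd : ∀ e, sec.appTop.hom (mono e) = 1 := fun e => by
    change chi (sec ≫ prod.snd) (ULift.up (single e 1)) = 1
    rw [prod.lift_snd, chi_toSpec, RingHom.comp_apply, bar_single, augm_single]
  -- charts: the value at `t = 1`
  have hsec : ∀ {A : Type u} [CommRing A] (g : Spec (CommRingCat.of A) ⟶ X) (w : Γ(X ⨯ T.{u} n, ⊤)),
      augm A n (W g w) = (Scheme.ΓSpecIso (CommRingCat.of A)).hom.hom (g.appTop.hom (sec.appTop.hom w)) := by
    intro A _ g w
    have hg : g ≫ sec = Spec.map (CommRingCat.ofHom (augm A n)) ≫ phi n g := by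
      refine prod.hom_ext ?_ ?_
      · rw [Category.assoc, prod.lift_fst, Category.comp_id, Category.assoc, phi_fst, ← Category.assoc, ← Spec.map_comp,
          ← CommRingCat.ofHom_comp, show (augm A n).comp (coord1 n) = RingHom.id A from RingHom.ext fun x => augm_single A n 0 x]
        simp
      · rw [Category.assoc, prod.lift_snd, Category.assoc, phi_snd, ← Spec.map_comp, ← CommRingCat.ofHom_comp]
        refine chi_ext (R0_ext fun e => ?_)
        rw [chi_comp, chi_toSpec, chi_SpecMap, RingHom.comp_apply, RingHom.comp_apply, bar_single, bar_single,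
          augm_single, augm_single, map_one, map_one]
    have h1 : sec.appTop ≫ g.appTop = (phi n g).appTop ≫ (Spec.map (CommRingCat.ofHom (augm A n))).appTop := by
      rw [← Scheme.Hom.comp_appTop, ← Scheme.Hom.comp_appTop, hg]
    change _ = (Scheme.ΓSpecIso _).hom.hom ((sec.appTop ≫ g.appTop).hom w)
    rw [h1]
    exact (ConcreteCategory.congr_hom (Scheme.ΓSpecIso_naturality (CommRingCat.ofHom (augm A n))) _).symm
  let u0 : (Γ(X, ⊤))ˣ := (hv.map sec.appTop.hom).unit
  let v' : Γ(X ⨯ T.{u} n, ⊤) := v * (prod.fst : X ⨯ T.{u} n ⟶ X).appTop.hom ((u0⁻¹ : (Γ(X, ⊤))ˣ) : Γ(X, ⊤))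
  have hv'u : IsUnit v' := hv.mul ((u0⁻¹).isUnit.map _)
  have hv'1 : sec.appTop.hom v' = 1 := by
    rw [map_mul, hfst]
    exact u0.mul_inv
  have hmono : ∀ {A : Type u} [CommRing A] [IsDomain A] (g : Spec (CommRingCat.of A) ⟶ X),
      ∃ e, W g v' = single e 1 := by
    intro A _ _ g
    obtain ⟨y, hy⟩ := (hv'u.map (W g)).exists_right_inv
    obtain ⟨e, c, -, he⟩ := isUnit_eq_single _ _ hy
    have h1 := hsec g v'
    rw [he, augm_single, hv'1, map_one, map_one] at h1
    exact ⟨e, by rw [he, h1]⟩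
  let K : Type u := X.functionField
  let gK : Spec (CommRingCat.of K) ⟶ X := X.fromSpecStalk (genericPoint X)
  obtain ⟨e, he⟩ := hmono gK
  have hchart : ∀ (U : X.Opens) (hU : IsAffineOpen U) [Nonempty U], W hU.fromSpec v' = single e 1 := by
    intro U hU _
    obtain ⟨eU, heU⟩ := hmono (A := Γ(X, U)) hU.fromSpec
    have hη : genericPoint X ∈ U :=
      ((genericPoint_spec X).mem_open_set_iff U.isOpen).2 (by simpa using Set.nonempty_coe_sort.1 ‹Nonempty U›)
    have h := W_nat (X.presheaf.germ U (genericPoint X) hη).hom hU.fromSpec v'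
    have hg : Spec.map (CommRingCat.ofHom (X.presheaf.germ U (genericPoint X) hη).hom) ≫ hU.fromSpec = gK := by
      rw [show CommRingCat.ofHom (X.presheaf.germ U (genericPoint X) hη).hom = X.presheaf.germ U (genericPoint X) hη from rfl]
      exact hU.fromSpecStalk_eq_fromSpecStalk hη
    rw [heU, mapRingHom_single, map_one, hg] at h
    have h2 := congrArg (fun x : LA K n => x.coeff eU) (h.trans he)
    simp only [coeff_single] at h2
    by_cases hee : eU = e
    · rw [heU, hee]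
    · rw [Finsupp.single_eq_same, Finsupp.single_eq_of_ne hee] at h2
      exact absurd h2 one_ne_zero
  have hv' : v' = mono e := by
    have : ∀ p : (X ⨯ T.{u} n : Scheme.{u}), ∃ U : X.Opens, IsAffineOpen U ∧ (prod.fst : X ⨯ T.{u} n ⟶ X) p ∈ U := fun p =>
      let ⟨U, hU, hm, _⟩ := exists_isAffineOpen_mem_and_subset (X := X) (x := (prod.fst : X ⨯ T.{u} n ⟶ X) p) (U := ⊤) trivial
      ⟨U, hU, hm⟩
    choose U hU hpU using this
    haveI : ∀ p, IsOpenImmersion (phi n (hU p).fromSpec) := fun p => isOpenImmersion_phi n _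
    refine (X ⨯ T.{u} n : Scheme.{u}).sheaf.eq_of_locally_eq' (fun p => (phi n (hU p).fromSpec) ''ᵁ ⊤) ⊤ (fun p => homOfLE le_top)
      (fun p _ => ?_) _ _ fun p => ?_
    · obtain ⟨a, ha⟩ : (prod.fst : X ⨯ T.{u} n ⟶ X) p ∈ Set.range (hU p).fromSpec := by
        rw [(hU p).range_fromSpec]; exact hpU p
      obtain ⟨z, hz⟩ := mem_range_phi n (hU p).fromSpec p a ha
      exact TopologicalSpace.Opens.mem_iSup.2 ⟨p, ⟨z, trivial, hz⟩⟩
    · haveI : Nonempty (U p) := ⟨⟨_, hpU p⟩⟩
      refine res_eq_of_appTop_eq (phi n (hU p).fromSpec) ?_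
      refine (ConcreteCategory.bijective_of_isIso (Scheme.ΓSpecIso (CommRingCat.of (LA Γ(X, U p) n))).hom).1 ?_
      exact (hchart (U p) (hU p)).trans (W_snd (hU p).fromSpec e).symm
  have hprod : v = (prod.fst : X ⨯ T.{u} n ⟶ X).appTop.hom (u0 : Γ(X, ⊤)) * mono e := by
    rw [← hv', mul_left_comm, ← map_mul]
    simp
  refine ⟨(u0, e), hprod, ?_⟩
  rintro ⟨u', e'⟩ h
  change v = (prod.fst : X ⨯ T.{u} n ⟶ X).appTop.hom (u' : Γ(X, ⊤)) * mono e' at h
  have hu' : u' = u0 := Units.ext (by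
    change _ = sec.appTop.hom v
    rw [h, map_mul, hfst, hsnd, mul_one])
  subst hu'
  have hm : mono e' = mono e := (u0.isUnit.map (prod.fst : X ⨯ T.{u} n ⟶ X).appTop.hom).mul_left_cancel (h.symm.trans hprod)
  have h3 := congrArg (W gK) hm
  rw [W_snd, W_snd] at h3
  have h4 := congrArg (fun x : LA K n => x.coeff e') h3
  simp only [coeff_single] at h4
  by_cases hee : e' = e
  · rw [hee]
  · rw [Finsupp.single_eq_same, Finsupp.single_eq_of_ne hee] at h4
    exact absurd h4 one_ne_zero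

end Groth.Agent.S13798
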