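import Groth.Statements.S1380
import Mathlib
import Groth.Agent.IntegralSplit.Basic

set_option autoImplicit false
universe u
open FlatMor

namespace Groth.Agent.S1380

open TensorProduct in
/-- Let R → S be integral and p a prime of R with only finitely many primes of S above it, such that for
each of them the separable closure of κ(p) in its residue field is finite over κ(p). Then there are
an étale R-algebra R' and a prime p' of R' over p such that R' ⊗ S is a finite product of
R'-algebras, each integral over R' with exactly one prime over p', whose residue field is purely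
inseparable over κ(p'). -/
theorem result {R S : Type u} [CommRing R] [CommRing S] [Algebra R S] [Algebra.IsIntegral R S]
    (p : Ideal R) [p.IsPrime] (hfin : {q : PrimeSpectrum S | q.asIdeal.comap (algebraMap R S) = p}.Finite)
    (hsep : ∀ (q : PrimeSpectrum S) (hq : q.asIdeal.comap (algebraMap R S) = p),
      letI := (Ideal.ResidueField.map p q.asIdeal (algebraMap R S) hq.symm).toAlgebra
      Module.Finite p.ResidueField (separableClosure p.ResidueField q.asIdeal.ResidueField)) :
    ∃ (R' : Type u) (_ : CommRing R') (_ : Algebra R R') (p' : PrimeSpectrum R'), Algebra.Etale R R' ∧ p'.asIdeal.comap (algebraMap R R') = p ∧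
      ∃ (m : ℕ) (A : Fin m → Type u) (_ : ∀ j, CommRing (A j)) (_ : ∀ j, Algebra R' (A j)) (e : R' ⊗[R] S ≃ₐ[R'] (Π j, A j)),
        ∀ j, Algebra.IsIntegral R' (A j) ∧ ∃ (r : PrimeSpectrum (A j)) (hr : r.asIdeal.comap (algebraMap R' (A j)) = p'.asIdeal),
          (∀ r' : PrimeSpectrum (A j), r'.asIdeal.comap (algebraMap R' (A j)) = p'.asIdeal → r' = r) ∧
          letI := (Ideal.ResidueField.map p'.asIdeal r.asIdeal (algebraMap R' (A j)) hr.symm).toAlgebra
          IsPurelyInseparable p'.asIdeal.ResidueField r.asIdeal.ResidueField := by
  obtain ⟨R', _, _, p', het, hp', m, A, _, _, e, h⟩ :=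
    Groth.Agent.IntegralSplit.exists_split p hfin hsep
  exact ⟨R', inferInstance, inferInstance, p', het, hp', m, A, inferInstance, inferInstance, e, h⟩

end Groth.Agent.S1380
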