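import Groth.Statements.S13800
import Groth.Agent.Curve11.PuncturedH
import Groth.Agent.Curve11.MuAffineLine
import Groth.Agent.S13507

set_option autoImplicit false
universe u
open CategoryTheory AlgebraicGeometry Polynomial
open EtCoh

namespace Groth.Agent.S13800

/-- Let k be an algebraically closed field, ℓ ≥ 1 an integer invertible in k, and a₁, …, a_r (r ≥ 1)
distinct elements of k, viewed as k-points of the affine line 𝔸¹_k = Spec k[x]. Let j : U → 𝔸¹_k be
an open immersion whose image is the complement of these points (the basic open set of ∏ (x − a_i)),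
and let j_! μ_ℓ be the extension by zero of the sheaf of ℓ-th roots of unity on the small étale
site. Then H^s(𝔸¹_k, j_! μ_ℓ) = 0 for s ≠ 1, and H¹(𝔸¹_k, j_! μ_ℓ) is isomorphic to μ_ℓ(k)^(r−1)
(existence of an isomorphism of abelian groups). -/
theorem result {k : Type u} [Field k] [IsAlgClosed k]
    (ℓ : ℕ) (hℓ : (ℓ : k) ≠ 0) (r : ℕ) (hr : 0 < r) (a : Fin r → k) (ha : Function.Injective a)
    {U : Scheme.{u}} (j : U ⟶ Spec (CommRingCat.of k[X])) [IsOpenImmersion j] [Etale j] [EtShriek.JCont j]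
    (hj : j.opensRange = (Spec (CommRingCat.of k[X])).basicOpen ((Scheme.ΓSpecIso (CommRingCat.of k[X])).inv
      (Finset.univ.prod fun i => (X - C (a i))))) :
    (∀ s : ℕ, s ≠ 1 → Subsingleton (EtCoh.H (Spec (CommRingCat.of k[X])) ((EtShriek.extZero j).obj (EtCoh.mu U ℓ)) s)) ∧
      Nonempty (EtCoh.H (Spec (CommRingCat.of k[X])) ((EtShriek.extZero j).obj (EtCoh.mu U ℓ)) 1 ≃+
        (Fin (r - 1) → Additive (rootsOfUnity ℓ k))) := by
  obtain ⟨r, rfl⟩ : ∃ m, r = m + 1 := ⟨r - 1, by omega⟩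
  let X₀ : Scheme.{u} := Spec (CommRingCat.of k[X])
  let ξ : Fin (r + 1) → (Spec (CommRingCat.of k) ⟶ X₀) := fun i =>
    Spec.map (CommRingCat.ofHom (evalRingHom (a i)))
  haveI : ∀ i, IsClosedImmersion (ξ i) := fun i =>
    IsClosedImmersion.spec_of_surjective _ fun c => ⟨C c, eval_C⟩
  have hmem : ∀ i (p : X₀), p ∈ Set.range (ξ i).base ↔ (X - C (a i)) ∈ (p : PrimeSpectrum k[X]).asIdeal := by
    intro i p
    have hs : Function.Surjective (evalRingHom (a i)) := fun c => ⟨C c, eval_C⟩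
    have h := _root_.range_comap_of_surjective k (evalRingHom (a i)) hs
    show (p : PrimeSpectrum k[X]) ∈ Set.range (PrimeSpectrum.comap (evalRingHom (a i))) ↔ _
    rw [h]
    show ((RingHom.ker (evalRingHom (a i)) : Ideal k[X]) : Set k[X]) ⊆ (p : PrimeSpectrum k[X]).asIdeal ↔ _
    rw [Polynomial.ker_evalRingHom, SetLike.coe_subset_coe, Ideal.span_singleton_le_iff_mem]
  have hξ : Function.Injective fun i => (ξ i).base (default : Spec (CommRingCat.of k)) := by
    intro i l h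
    have h1 := (hmem i _).1 ⟨default, h⟩
    refine ha (Eq.symm ?_)
    have h2 : (evalRingHom (a l)) (X - C (a i)) = 0 := by
      let q : PrimeSpectrum k := (default : Spec (CommRingCat.of k))
      have h3 : (X - C (a i)) ∈ (PrimeSpectrum.comap (evalRingHom (a l)) q).asIdeal := h1
      rwa [PrimeSpectrum.comap_asIdeal, Ideal.mem_comap,
        (Ideal.eq_bot_or_top q.asIdeal).resolve_right q.isPrime.ne_top, Ideal.mem_bot] at h3
    simpa [sub_eq_zero] using h2
  have hU : Set.range j.base = (⋃ i, Set.range (ξ i).base)ᶜ := by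
    have h0 : Set.range j.base = (j.opensRange : Set X₀) := rfl
    rw [h0, hj]
    ext p
    rw [Set.mem_compl_iff, Set.mem_iUnion, SetLike.mem_coe, basicOpen_eq_of_affine]
    show (Finset.univ.prod fun i => (X - C (a i))) ∉ (p : PrimeSpectrum k[X]).asIdeal ↔ _
    rw [(p : PrimeSpectrum k[X]).isPrime.prod_mem_iff, not_iff_not]
    exact ⟨fun ⟨i, _, h⟩ => ⟨i, (hmem i p).2 h⟩, fun ⟨i, h⟩ => ⟨i, Finset.mem_univ _, (hmem i p).1 h⟩⟩
  have hℓ0 : 1 ≤ ℓ := Nat.one_le_iff_ne_zero.2 fun h => hℓ (by rw [h, Nat.cast_zero])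
  haveI : NeZero (ℓ : k) := ⟨hℓ⟩
  haveI : NeZero ℓ := ⟨by omega⟩
  obtain ⟨ζ, hζ⟩ := HasEnoughRootsOfUnity.exists_primitiveRoot k ℓ
  have hconst : ∀ (Y : Scheme.{u}) (_ : Y ⟶ X₀), Nonempty (EtCoh.mu Y ℓ ≅ EtCoh.const Y (ZMod ℓ)) := fun Y g => by
    let ψ : k →+* Γ(Y, ⊤) := (g.appTop.hom.comp
      (Scheme.ΓSpecIso (CommRingCat.of k[X])).inv.hom).comp C
    refine Groth.Agent.S13507.result Y ℓ hℓ0 ?_ (ψ ζ) ?_
    · rw [← map_natCast ψ]
      exact (IsUnit.mk0 _ hℓ).map ψ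
    · have h0 : Polynomial.aeval ζ (Polynomial.cyclotomic ℓ ℤ) = 0 := by
        rw [Polynomial.aeval_def, ← Polynomial.eval_map, Polynomial.map_cyclotomic]
        exact hζ.isRoot_cyclotomic (by omega)
      exact (Polynomial.aeval_algHom_apply ψ.toIntAlgHom ζ _).trans ((congrArg _ h0).trans (map_zero _))
  obtain ⟨eS⟩ := hconst X₀ (𝟙 _)
  obtain ⟨eU⟩ := hconst U j
  let A : AddCommGrpCat.{u + 1} := AddCommGrpCat.of (ULift.{u + 1} (ZMod ℓ))
  have hA : ∀ m, Subsingleton (EtCoh.H X₀ ((Curve11.cst X₀).obj A) (m + 1)) := fun m =>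
    @Equiv.subsingleton _ _ (((EtCoh.HF X₀ (m + 1)).mapIso eS).addCommGroupIsoToAddEquiv.symm.toEquiv)
      (Curve11.subsingleton_H_mu_affineLine k ℓ hℓ m)
  let s : X₀ ⟶ Spec (CommRingCat.of k) := Spec.map (CommRingCat.ofHom C)
  haveI : LocallyOfFiniteType s := by
    refine (HasRingHomProperty.Spec_iff (P := @LocallyOfFiniteType)).2 ?_
    exact RingHom.finiteType_algebraMap.2 (inferInstance : Algebra.FiniteType k k[X])
  obtain ⟨h0, ⟨h1⟩⟩ := Curve11.cohomology_punctured ξ A j s hξ hU hA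
  let E : (EtShriek.extZero j).obj ((EtShriek.restrAlong j).obj ((Curve11.cst X₀).obj A)) ≅
      (EtShriek.extZero j).obj (EtCoh.mu U ℓ) :=
    (EtShriek.extZero j).mapIso ((EtFound.restrPullIso j).app _ ≪≫ (EtCore.pullConstIso j).app A ≪≫ eU.symm)
  let T := fun q => ((EtCoh.HF X₀ q).mapIso E).addCommGroupIsoToAddEquiv
  refine ⟨fun q hq => @Equiv.subsingleton _ _ (T q).symm.toEquiv (h0 q hq), ⟨?_⟩⟩
  have hζu := hζ.isUnit_unit (by omega : ℓ ≠ 0)
  let e : ZMod ℓ ≃+ Additive (rootsOfUnity ℓ k) :=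
    hζu.zmodEquivZPowers.trans (MulEquiv.toAdditive (MulEquiv.subgroupCongr hζu.zpowers_eq))
  exact ((T 1).symm.trans h1).trans (AddEquiv.piCongrRight fun _ : Fin r =>
    ((Curve11.zGrpHomEquiv A).trans AddEquiv.ulift).trans e)


end Groth.Agent.S13800
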