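import Groth.Statements.S13801
import Groth.Agent.ZeroCycLib.Series
-- import your own Groth.Agent.* helpers here

set_option autoImplicit false
open ChowMon

namespace Groth.Agent.S13801

/-- For a prime p and positive natural numbers a_1, ..., a_k with sum n one has v_p(a_1!) + ... +
v_p(a_k!) ≤ v_p(n!), and the inequality is strict whenever some a_i is not divisible by p^(v_p(n)). -/
theorem result {k : ℕ} (p : ℕ) [Fact p.Prime]
    (a : Fin k → ℕ) (ha : ∀ i, 0 < a i) :
    (∑ i, padicValNat p (a i).factorial ≤ padicValNat p (∑ i, a i).factorial) ∧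
      ((∃ i, ¬ p ^ padicValNat p (∑ j, a j) ∣ a i) →
        ∑ i, padicValNat p (a i).factorial < padicValNat p (∑ i, a i).factorial) := by
  exact ⟨Groth.Agent.ZeroCycLib.padic_sum_factorial_le p _ a,
    fun ⟨i, hi⟩ => Groth.Agent.ZeroCycLib.padic_sum_factorial_lt p a ha i hi⟩

end Groth.Agent.S13801
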