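import Groth.Statements.S13802
import Groth.Agent.EtaPtLib.Rel


set_option autoImplicit false
universe u
open EtaPt

namespace Groth.Agent.S13802

open Groth.Agent.EtaPtLib

/-- For a commutative ring A with finitely many minimal prime ideals, the canonical map q_A from A to
the pointwise ring M_η(A) is integral. Here η is a natural transformation from the identity of the
category of fields to an endofunctor F with F(η_K) bijective and η_K purely inseparable for every
field K, N_η(A) is the product of the F(k(p)) over the primes p of A with diagonal map t_A, and
M_η(A) ⊆ N_η(A) is the subring of elements sent into the range of t_R by every ring map from A to a
valuation ring R at whose fraction field η is bijective; q_A : A → M_η(A) is the corestriction of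
t_A. -/
theorem result (η : EtaPt.FieldEndo.{u}) (A : Type u) [CommRing A]
    (hA : (minimalPrimes A).Finite) : (η.q A).IsIntegral := isIntegral_q η hA

end Groth.Agent.S13802
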