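import Groth.Statements.S13803
import Groth.Agent.EtaPtLib.Rel


set_option autoImplicit false
universe u
open EtaPt

namespace Groth.Agent.S13803

open Groth.Agent.EtaPtLib

/-- For a commutative ring A with finitely many minimal prime ideals, Spec of q_A : A → M_η(A) is a
bijection, and for a prime Q of M_η(A) over the prime P of A the map η at k(P), from k(P) to
F(k(P)), factors through the residue field map k(P) → k(Q). Here η is a natural transformation from
the identity of the category of fields to an endofunctor F with F(η_K) bijective and η_K purely
inseparable for every field K, N_η(A) is the product of the F(k(p)) over the primes p of A with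
diagonal map t_A, and M_η(A) ⊆ N_η(A) is the subring of elements sent into the range of t_R by every
ring map from A to a valuation ring R at whose fraction field η is bijective; q_A : A → M_η(A) is
the corestriction of t_A. -/
theorem result (η : EtaPt.FieldEndo.{u}) (A : Type u) [CommRing A]
    (hA : (minimalPrimes A).Finite) :
    Function.Bijective (PrimeSpectrum.comap (η.q A)) ∧
      ∀ Q : PrimeSpectrum (η.M A),
        ∃ φ : Q.asIdeal.ResidueField →+* η.obj (PrimeSpectrum.comap (η.q A) Q).asIdeal.ResidueField,
          φ.comp (Ideal.ResidueField.map (PrimeSpectrum.comap (η.q A) Q).asIdeal Q.asIdeal (η.q A) rfl) =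
            η.eta (PrimeSpectrum.comap (η.q A) Q).asIdeal.ResidueField := ⟨comap_q_bijective hA, rfac_q hA⟩

end Groth.Agent.S13803
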