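import Groth.Statements.S13810
import Groth.Agent.EtaPtLib.Rel


set_option autoImplicit false
universe u
open EtaPt

namespace Groth.Agent.S13810

open Groth.Agent.EtaPtLib

/-- For commutative rings A and B, the pair of maps N_η of the two projections restricts to a bijection
from M_η(A × B) onto M_η(A) × M_η(B). Here η is a natural transformation from the identity of the
category of fields to an endofunctor F with F(η_K) bijective and η_K purely inseparable for every
field K, N_η(A) is the product of the F(k(p)) over the primes p of A with diagonal map t_A, and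
M_η(A) ⊆ N_η(A) is the subring of elements sent into the range of t_R by every ring map from A to a
valuation ring R at whose fraction field η is bijective; q_A : A → M_η(A) is the corestriction of
t_A. -/
theorem result (η : EtaPt.FieldEndo.{u}) (A B : Type u) [CommRing A] [CommRing B] :
    Set.BijOn (fun x : η.N (A × B) => (η.Nmap (RingHom.fst A B) x, η.Nmap (RingHom.snd A B) x))
      (η.M (A × B)) ((η.M A : Set (η.N A)) ×ˢ (η.M B : Set (η.N B))) := by
  classical
  let p1 := RingHom.fst A B
  let p2 := RingHom.snd A B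
  have hs1 : Function.Surjective p1 := fun a => ⟨(a, 0), rfl⟩
  have hs2 : Function.Surjective p2 := fun b => ⟨(0, b), rfl⟩
  have hcover : ∀ P : PrimeSpectrum (A × B),
      (∃ q, PrimeSpectrum.comap p1 q = P) ∨ ∃ q, PrimeSpectrum.comap p2 q = P := by
    intro P
    rcases P.2.mem_or_mem (show ((0 : A), (1 : B)) * ((1 : A), (0 : B)) ∈ P.asIdeal by
        rw [Prod.mk_mul_mk, zero_mul, mul_zero]; exact zero_mem _) with h | h
    · refine Or.inl ?_
      have : P ∈ Set.range (PrimeSpectrum.comap p1) := by
        rw [range_comap_of_surjective _ p1 hs1, PrimeSpectrum.mem_zeroLocus]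
        rintro ⟨a, b⟩ hab
        have ha : a = 0 := hab
        have : ((a, b) : A × B) = ((0 : A), (1 : B)) * (0, b) := by simp [ha]
        rw [this]
        exact Ideal.mul_mem_right _ _ h
      exact this
    · refine Or.inr ?_
      have : P ∈ Set.range (PrimeSpectrum.comap p2) := by
        rw [range_comap_of_surjective _ p2 hs2, PrimeSpectrum.mem_zeroLocus]
        rintro ⟨a, b⟩ hab
        have hb : b = 0 := hab
        have : ((a, b) : A × B) = ((1 : A), (0 : B)) * (a, 0) := by simp [hb]
        rw [this]
        exact Ideal.mul_mem_right _ _ h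
      exact this
  have hdis : ∀ q₁ q₂, PrimeSpectrum.comap p1 q₁ ≠ PrimeSpectrum.comap p2 q₂ := by
    intro q₁ q₂ e
    have h1 : ((0 : A), (1 : B)) ∈ (PrimeSpectrum.comap p1 q₁).asIdeal := by
      change (0 : A) ∈ q₁.asIdeal
      exact zero_mem _
    have h2 : ((1 : A), (0 : B)) ∈ (PrimeSpectrum.comap p1 q₁).asIdeal := by
      rw [e]
      change (0 : B) ∈ q₂.asIdeal
      exact zero_mem _
    have := add_mem h1 h2
    rw [Prod.mk_add_mk, zero_add, add_zero] at this
    exact (PrimeSpectrum.comap p1 q₁).2.ne_top ((Ideal.eq_top_iff_one _).mpr this)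
  refine ⟨fun x hx => ⟨Nmap_mem_M η _ hx, Nmap_mem_M η _ hx⟩, fun x _ y _ e => ?_, ?_⟩
  · simp only [Prod.mk.injEq] at e
    funext P
    rcases hcover P with ⟨q, rfl⟩ | ⟨q, rfl⟩
    · exact (η.map _).injective (congrFun e.1 q)
    · exact (η.map _).injective (congrFun e.2 q)
  · rintro ⟨a, b⟩ ⟨ha, hb⟩
    have key : ∀ P : PrimeSpectrum (A × B), ∃ v : η.obj P.asIdeal.ResidueField,
        (∀ (q : PrimeSpectrum A) (σ : P.asIdeal.ResidueField →+* q.asIdeal.ResidueField),
          σ.comp (algebraMap (A × B) _) = (algebraMap _ _).comp p1 → η.map σ v = a q) ∧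
        ∀ (q : PrimeSpectrum B) (σ : P.asIdeal.ResidueField →+* q.asIdeal.ResidueField),
          σ.comp (algebraMap (A × B) _) = (algebraMap _ _).comp p2 → η.map σ v = b q := by
      intro P
      rcases hcover P with ⟨q₀, rfl⟩ | ⟨q₀, rfl⟩
      · obtain ⟨v, hv⟩ := (map_bijective_of_bijective η _
          ((RingHom.surjectiveOnStalks_of_surjective hs1).residueFieldMap_bijective
            (PrimeSpectrum.comap p1 q₀).asIdeal q₀.asIdeal rfl)).2 (a q₀)
        refine ⟨v, fun q σ hσ => ?_, fun q σ hσ => absurd (PrimeSpectrum.ext ?_) (hdis q₀ q)⟩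
        · have : PrimeSpectrum.comap p1 q₀ = PrimeSpectrum.comap p1 q := PrimeSpectrum.ext (by
            rw [← ker_of_factor _ σ, hσ, ← RingHom.comap_ker, Ideal.ker_algebraMap_residueField]
            rfl)
          obtain rfl := PrimeSpectrum.comap_injective_of_surjective _ hs1 this
          obtain rfl : σ = Ideal.ResidueField.map (PrimeSpectrum.comap p1 q₀).asIdeal q₀.asIdeal p1 rfl :=
            Ideal.ResidueField.ringHom_ext (hσ.trans (RingHom.ext fun a =>
              (Ideal.ResidueField.map_algebraMap (PrimeSpectrum.comap p1 q₀).asIdeal q₀.asIdeal p1 rfl a).symm))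
          exact hv
        · rw [← ker_of_factor _ σ, hσ, ← RingHom.comap_ker, Ideal.ker_algebraMap_residueField]
          rfl
      · obtain ⟨v, hv⟩ := (map_bijective_of_bijective η _
          ((RingHom.surjectiveOnStalks_of_surjective hs2).residueFieldMap_bijective
            (PrimeSpectrum.comap p2 q₀).asIdeal q₀.asIdeal rfl)).2 (b q₀)
        refine ⟨v, fun q σ hσ => absurd (PrimeSpectrum.ext ?_).symm (hdis q q₀), fun q σ hσ => ?_⟩
        · rw [← ker_of_factor _ σ, hσ, ← RingHom.comap_ker, Ideal.ker_algebraMap_residueField]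
          rfl
        · have : PrimeSpectrum.comap p2 q₀ = PrimeSpectrum.comap p2 q := PrimeSpectrum.ext (by
            rw [← ker_of_factor _ σ, hσ, ← RingHom.comap_ker, Ideal.ker_algebraMap_residueField]
            rfl)
          obtain rfl := PrimeSpectrum.comap_injective_of_surjective _ hs2 this
          obtain rfl : σ = Ideal.ResidueField.map (PrimeSpectrum.comap p2 q₀).asIdeal q₀.asIdeal p2 rfl :=
            Ideal.ResidueField.ringHom_ext (hσ.trans (RingHom.ext fun a =>
              (Ideal.ResidueField.map_algebraMap (PrimeSpectrum.comap p2 q₀).asIdeal q₀.asIdeal p2 rfl a).symm))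
          exact hv
    choose x hx1 hx2 using key
    have hxa : η.Nmap p1 x = a := funext fun q => hx1 _ q _ (RingHom.ext fun z =>
      Ideal.ResidueField.map_algebraMap (PrimeSpectrum.comap p1 q).asIdeal q.asIdeal p1 rfl z)
    have hxb : η.Nmap p2 x = b := funext fun q => hx2 _ q _ (RingHom.ext fun z =>
      Ideal.ResidueField.map_algebraMap (PrimeSpectrum.comap p2 q).asIdeal q.asIdeal p2 rfl z)
    refine ⟨x, fun R _ _ _ hR g => ?_, Prod.ext hxa hxb⟩
    have hzero : g (0, 1) * g (1, 0) = 0 := by
      rw [← map_mul, Prod.mk_mul_mk, zero_mul, mul_zero]; exact map_zero g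
    rcases mul_eq_zero.mp hzero with h | h
    · obtain ⟨g', rfl⟩ : ∃ g' : A →+* R, g = g'.comp p1 :=
        ⟨p1.liftOfRightInverse (Function.surjInv hs1) (Function.rightInverse_surjInv hs1) ⟨g, by
          rintro ⟨c, d⟩ hcd
          have hc : c = 0 := hcd
          rw [RingHom.mem_ker, show ((c, d) : A × B) = (0, 1) * (0, d) by simp [hc], map_mul, h, zero_mul]⟩,
        by symm; exact RingHom.liftOfRightInverse_comp _ _ _ _⟩
      rw [Nmap_comp, hxa]
      exact ha R hR g'
    · obtain ⟨g', rfl⟩ : ∃ g' : B →+* R, g = g'.comp p2 :=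
        ⟨p2.liftOfRightInverse (Function.surjInv hs2) (Function.rightInverse_surjInv hs2) ⟨g, by
          rintro ⟨c, d⟩ hcd
          have hd : d = 0 := hcd
          rw [RingHom.mem_ker, show ((c, d) : A × B) = (1, 0) * (c, 0) by simp [hd], map_mul, h, zero_mul]⟩,
        by symm; exact RingHom.liftOfRightInverse_comp _ _ _ _⟩
      rw [Nmap_comp, hxb]
      exact hb R hR g'

end Groth.Agent.S13810
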