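import Groth.Statements.S13813
import Groth.Agent.EtaPtLib.Valuation


set_option autoImplicit false
universe u
open EtaPt

namespace Groth.Agent.S13813

open Groth.Agent.EtaPtLib

/-- Let R be a valuation ring with fraction field K such that η is bijective at K, or such that every
field of the same characteristic as R at which η is bijective is perfect. Then evaluation at the
generic point maps M_η(R) injectively into F(K), with image exactly the elements of F(K) integral
over R (through η_K composed with R → K); here K is realised as the residue field of R at (0). (The
published statement assumes nothing about η beyond the standing conditions, and then fails: for the
endofunctor equal to the perfect closure on the fields of characteristic 2 and transcendence degree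
at least 2 over the prime field and to the identity on every other field, and R = F_2(s)[t]
localised at (t), the element s^(1/2) of F(K) is integral over R but is the generic component of no
element of M_η(R). This row assumes that η is bijective at Frac R, or that every field of the same
characteristic as R at which η is bijective is perfect; both the identity and the perfect closure
satisfy this.) Here η is a natural transformation from the identity of the category of fields to an
endofunctor F with F(η_K) bijective and η_K purely inseparable for every field K, N_η(A) is the
product of the F(k(p)) over the primes p of A with diagonal map t_A, and M_η(A) ⊆ N_η(A) is the
subring of elements sent into the range of t_R by every ring map from A to a valuation ring R at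
whose fraction field η is bijective; q_A : A → M_η(A) is the corestriction of t_A. -/
theorem result (η : EtaPt.FieldEndo.{u}) (R : Type u) [CommRing R] [IsDomain R] [ValuationRing R]
    (hη : η.InV R ∨ ∀ (k : Type u) [Field k], ringChar k = ringChar R →
      Function.Bijective (η.eta k) → PerfectField k) :
    Set.InjOn (fun x : η.N R => x ⟨⊥, Ideal.isPrime_bot⟩) (η.M R) ∧
      (fun x : η.N R => x ⟨⊥, Ideal.isPrime_bot⟩) '' (η.M R : Set (η.N R)) =
        {y | ((η.eta (⊥ : Ideal R).ResidueField).comp (algebraMap R (⊥ : Ideal R).ResidueField)).IsIntegralElem y} := ⟨injOn_generic R η, gen_image R hη⟩

end Groth.Agent.S13813
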