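import Groth.Statements.S13814
import Groth.Agent.EtaPtLib.Valuation


set_option autoImplicit false
universe u
open EtaPt

namespace Groth.Agent.S13814

open Groth.Agent.EtaPtLib

/-- Let R be a valuation ring with fraction field K = k((0)) such that η is bijective at K, or such that
every field of the same characteristic as R at which η is bijective is perfect. Then the ring M_η(R)
is again a valuation ring, every element of F(K) is a quotient of generic components of elements of
M_η(R), and an element of F(K) that is both the generic component of an element of M_η(R) and in the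
image of K comes from R. (The published statement assumes nothing about η beyond the standing
conditions, and then fails: for the endofunctor equal to the perfect closure on the fields of
characteristic 2 and transcendence degree at least 2 over the prime field and to the identity on
every other field, and R = F_2(s)[t] localised at (t), neither of the elements (s^(1/2) t, 0) and
(t, 0) of M_η(R) ⊆ F(K) × F_2(s) divides the other, so M_η(R) is not a valuation ring. This row
assumes that η is bijective at Frac R, or that every field of the same characteristic as R at which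
η is bijective is perfect; both the identity and the perfect closure satisfy this.) Here η is a
natural transformation from the identity of the category of fields to an endofunctor F with F(η_K)
bijective and η_K purely inseparable for every field K, N_η(A) is the product of the F(k(p)) over
the primes p of A with diagonal map t_A, and M_η(A) ⊆ N_η(A) is the subring of elements sent into
the range of t_R by every ring map from A to a valuation ring R at whose fraction field η is
bijective; q_A : A → M_η(A) is the corestriction of t_A. -/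
theorem result (η : EtaPt.FieldEndo.{u}) (R : Type u) [CommRing R] [IsDomain R] [ValuationRing R]
    (hη : η.InV R ∨ ∀ (k : Type u) [Field k], ringChar k = ringChar R →
      Function.Bijective (η.eta k) → PerfectField k) :
    IsDomain (η.M R) ∧ PreValuationRing (η.M R) ∧
      (∀ y : η.obj (⊥ : Ideal R).ResidueField, ∃ a b : η.M R,
        (b : η.N R) ⟨⊥, Ideal.isPrime_bot⟩ ≠ 0 ∧
          y * (b : η.N R) ⟨⊥, Ideal.isPrime_bot⟩ = (a : η.N R) ⟨⊥, Ideal.isPrime_bot⟩) ∧
      (fun x : η.N R => x ⟨⊥, Ideal.isPrime_bot⟩) '' (η.M R : Set (η.N R)) ∩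
          Set.range (η.eta (⊥ : Ideal R).ResidueField) =
        Set.range ((η.eta (⊥ : Ideal R).ResidueField).comp (algebraMap R (⊥ : Ideal R).ResidueField)) := by
  classical
  let P₀ : PrimeSpectrum R := ⟨⊥, Ideal.isPrime_bot⟩
  let L := (⊥ : Ideal R).ResidueField
  let ι := algebraMap R L
  let e := evP η P₀
  have he : Function.Injective e := fun a b h => Subtype.ext (injOn_generic R η a.2 b.2 h)
  letI := ((η.eta L).comp ι).toAlgebra
  have hmem : ∀ z : η.obj L, IsIntegral R z → ∃ m : η.M R, e m = z := by
    intro z hz
    have := (Set.ext_iff.mp (gen_image R hη) z).mpr hz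
    obtain ⟨m, hm, hmz⟩ := this
    exact ⟨⟨m, hm⟩, hmz⟩
  have hpow : ∀ (z : η.obj L) (d : ℕ) (r : R), 0 < d → z ^ d = η.eta L (ι r) → IsIntegral R z :=
    fun z d r hd hz => IsIntegral.of_pow hd (by rw [hz]; exact isIntegral_algebraMap)
  refine ⟨he.isDomain e, ⟨fun a b => ?_⟩, fun y => ?_, ?_⟩
  · by_cases ha : e a = 0
    · exact ⟨0, Or.inr (by rw [mul_zero]; exact (he (ha.trans (map_zero e).symm)).symm)⟩
    by_cases hb : e b = 0
    · exact ⟨0, Or.inl (by rw [mul_zero]; exact (he (hb.trans (map_zero e).symm)).symm)⟩
    let z := e b / e a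
    obtain ⟨n, c, hc⟩ := η.exists_pow_mem_range_eta L z
    have hq : 0 < ringExpChar L ^ n := pow_pos (expChar_pos L _) n
    rcases ValuationRing.isInteger_or_isInteger R c with ⟨r, hr⟩ | ⟨r, hr⟩
    · obtain ⟨m, hm⟩ := hmem z (hpow z _ r hq (by rw [← hc]; exact congrArg (η.eta L) hr.symm))
      exact ⟨m, Or.inl (he (by rw [map_mul, hm, mul_div_cancel₀ _ ha]))⟩
    · obtain ⟨m, hm⟩ := hmem z⁻¹ (hpow _ _ r hq (by
        rw [inv_pow, ← hc, ← map_inv₀]; exact congrArg (η.eta L) hr.symm))
      refine ⟨m, Or.inr (he ?_)⟩
      rw [map_mul, hm]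
      rw [inv_div, mul_div_cancel₀ _ hb]
  · obtain ⟨n, c, hc⟩ := η.exists_pow_mem_range_eta L y
    obtain ⟨u, v, hv, rfl⟩ := IsFractionRing.div_surjective (A := R) c
    have hv0 : ι v ≠ 0 := fun h0 => nonZeroDivisors.ne_zero hv (IsFractionRing.injective R L (h0.trans (map_zero ι).symm))
    have hq : 0 < ringExpChar L ^ n := pow_pos (expChar_pos L _) n
    obtain ⟨k, hk⟩ := Nat.exists_eq_succ_of_ne_zero hq.ne'
    obtain ⟨m, hm⟩ := hmem (y * η.eta L (ι v)) (hpow _ _ (u * v ^ k) hq (by
      rw [mul_pow, ← hc, ← map_pow, ← map_mul, hk, pow_succ, map_mul ι, map_pow]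
      congr 1
      change ι u / ι v * (ι v ^ k * ι v) = _
      rw [mul_comm (ι v ^ k), ← mul_assoc, div_mul_cancel₀ _ hv0]))
    exact ⟨m, η.q R v, fun h0 => hv0 ((η.eta L).injective (h0.trans (map_zero _).symm)), hm.symm⟩
  · rw [gen_image R hη]
    ext z
    constructor
    · rintro ⟨⟨p, hp, hp0⟩, c, rfl⟩
      obtain ⟨r, hr⟩ := IsIntegrallyClosed.isIntegral_iff.mp (⟨p, hp, (η.eta L).injective (by
        rw [Polynomial.hom_eval₂, map_zero]; exact hp0)⟩ : IsIntegral R c)
      exact ⟨r, congrArg (η.eta L) hr⟩
    · rintro ⟨r, rfl⟩
      exact ⟨RingHom.isIntegralElem_map _, _, rfl⟩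

end Groth.Agent.S13814
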