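import Groth.Statements.S13815
import Groth.Agent.EtaPtLib.Rel


set_option autoImplicit false
universe u
open EtaPt

namespace Groth.Agent.S13815

open Groth.Agent.EtaPtLib

/-- For a commutative ring A with finitely many minimal prime ideals, the two maps M_η(A) → M_η(M_η(A)),
namely q at the ring M_η(A) and the restriction of N_η(q_A), coincide, and this map is bijective.
Here η is a natural transformation from the identity of the category of fields to an endofunctor F
with F(η_K) bijective and η_K purely inseparable for every field K, N_η(A) is the product of the
F(k(p)) over the primes p of A with diagonal map t_A, and M_η(A) ⊆ N_η(A) is the subring of elements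
sent into the range of t_R by every ring map from A to a valuation ring R at whose fraction field η
is bijective; q_A : A → M_η(A) is the corestriction of t_A. -/
theorem result (η : EtaPt.FieldEndo.{u}) (A : Type u) [CommRing A] (hA : (minimalPrimes A).Finite) :
    (∀ x : η.M A, η.Nmap (η.q A) (x : η.N A) = η.t (η.M A) x) ∧ Function.Bijective (η.q (η.M A)) := ⟨Nmap_q_eq_t hA, q_bijective_of_M hA⟩

end Groth.Agent.S13815
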