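import Groth.Statements.S13820
import Groth.Agent.EtaPtLib.Rel


set_option autoImplicit false
universe u
open EtaPt

namespace Groth.Agent.S13820

open Groth.Agent.EtaPtLib

/-- Let A have finitely many minimal prime ideals and let B be an A-algebra with Spec B → Spec A
surjective, C the integral closure of A in B; then the inclusion C ⊆ B carries (C/A)_η onto (B/A)_η.
Here η is a natural transformation from the identity of the category of fields to an endofunctor F
with F(η_K) bijective and η_K purely inseparable for every field K, N_η(A) is the product of the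
F(k(p)) over the primes p of A with diagonal map t_A, and M_η(A) ⊆ N_η(A) is the subring of elements
sent into the range of t_R by every ring map from A to a valuation ring R at whose fraction field η
is bijective; q_A : A → M_η(A) is the corestriction of t_A. For a ring map f : A → B, (B/A)_η ⊆ B
denotes the subring of elements b with t_B(b) in N_η(f)(M_η(A)) (the image in B of the fibre product
of M_η(A) and B over M_η(B)), and q_{B/A} : A → (B/A)_η the corestriction of f. -/
theorem result (η : EtaPt.FieldEndo.{u}) (A B : Type u) [CommRing A] [CommRing B] [Algebra A B]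
    (hA : (minimalPrimes A).Finite) (hs : Function.Surjective (PrimeSpectrum.comap (algebraMap A B))) :
    (η.rel (algebraMap A (integralClosure A B))).map (integralClosure A B).val.toRingHom =
      η.rel (algebraMap A B) := by
  let C := integralClosure A B
  have hc : (C.val.toRingHom).comp (algebraMap A C) = algebraMap A B := rfl
  ext b
  constructor
  · rintro ⟨c, hc', rfl⟩
    exact map_mem_rel' η _ (RingHom.id A) C.val.toRingHom _ (by rw [RingHom.comp_id]; exact hc.symm) hc'
  · intro hb
    obtain ⟨hi, -⟩ := qRel_properties hA (algebraMap A B) hs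
    have hbC : b ∈ C := by
      obtain ⟨p, hp, hp0⟩ := hi ⟨b, hb⟩
      refine ⟨p, hp, ?_⟩
      have := congrArg (η.rel (algebraMap A B)).subtype hp0
      rw [Polynomial.hom_eval₂, map_zero] at this
      exact this
    refine ⟨⟨b, hbC⟩, ?_, rfl⟩
    obtain ⟨x, hx, he⟩ := hb
    refine ⟨x, hx, ?_⟩
    rw [← sub_eq_zero]
    refine eq_zero_of_minimal (sub_mem (Nmap_mem_M η _ hx) (η.t_mem_M _ _)) fun P hP => ?_
    obtain ⟨Q, hQ, hQP⟩ := Ideal.exists_comap_eq_of_mem_minimalPrimes_of_injective
      (f := C.val.toRingHom) Subtype.val_injective P.asIdeal hP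
    have h0 : η.Nmap C.val.toRingHom
        (η.Nmap (algebraMap A C) x - η.t C ⟨b, hbC⟩) ⟨Q, hQ⟩ = 0 := by
      rw [map_sub, ← Nmap_comp, hc, he, η.Nmap_t_apply]
      exact sub_self _
    rw [Nmap_apply', map_eq_zero] at h0
    obtain rfl : PrimeSpectrum.comap C.val.toRingHom ⟨Q, hQ⟩ = P := PrimeSpectrum.ext hQP
    exact h0

end Groth.Agent.S13820
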