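import Groth.Statements.S13822
import Groth.Agent.EtaPtLib.Loc
import Mathlib.RingTheory.Flat.FaithfullyFlat.Algebra
import Mathlib.RingTheory.TensorProduct.Quotient
import Mathlib.LinearAlgebra.TensorProduct.RightExactness


set_option autoImplicit false
universe u
open scoped TensorProduct
open EtaPt

namespace Groth.Agent.S13822

open Groth.Agent.EtaPtLib

/-- Let A → A' be faithfully flat with A and A' having finitely many minimal prime ideals, and B an
A-algebra with Spec B → Spec A surjective; if q_{(A' ⊗ B)/A'} is bijective then q_{B/A} is
bijective. Here η is a natural transformation from the identity of the category of fields to an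
endofunctor F with F(η_K) bijective and η_K purely inseparable for every field K, N_η(A) is the
product of the F(k(p)) over the primes p of A with diagonal map t_A, and M_η(A) ⊆ N_η(A) is the
subring of elements sent into the range of t_R by every ring map from A to a valuation ring R at
whose fraction field η is bijective; q_A : A → M_η(A) is the corestriction of t_A. For a ring map f
: A → B, (B/A)_η ⊆ B denotes the subring of elements b with t_B(b) in N_η(f)(M_η(A)) (the image in B
of the fibre product of M_η(A) and B over M_η(B)), and q_{B/A} : A → (B/A)_η the corestriction of f. -/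
theorem result (η : EtaPt.FieldEndo.{u}) (A A' B : Type u) [CommRing A] [CommRing A'] [CommRing B]
    [Algebra A A'] [Algebra A B] [Module.FaithfullyFlat A A']
    (hA : (minimalPrimes A).Finite) (hA' : (minimalPrimes A').Finite)
    (hs : Function.Surjective (PrimeSpectrum.comap (algebraMap A B)))
    (h : Function.Bijective (η.qRel (Algebra.TensorProduct.includeLeftRingHom : A' →+* A' ⊗[A] B))) :
    Function.Bijective (η.qRel (algebraMap A B)) := by
  rw [qRel_bijective_iff] at h ⊢
  obtain ⟨hi, hsur⟩ := h
  have hsq : (Algebra.TensorProduct.includeLeftRingHom : A' →+* TensorProduct A A' B).comp (algebraMap A A') =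
      (Algebra.TensorProduct.includeRight (R := A) (A := A') (B := B)).toRingHom.comp (algebraMap A B) :=
    RingHom.ext fun a => (Algebra.TensorProduct.tmul_one_eq_one_tmul a)
  constructor
  · intro a b e
    refine FaithfulSMul.algebraMap_injective A A' (hi ?_)
    rw [← RingHom.comp_apply, hsq, RingHom.comp_apply, e]
    exact (RingHom.congr_fun hsq b).symm
  · intro b hb
    obtain ⟨a', ha'⟩ := hsur _ (map_mem_rel' η _ _ _ _ hsq hb)
    let π := (LinearMap.range (Algebra.linearMap A B)).mkQ
    have h1 : π 1 = 0 := (Submodule.Quotient.mk_eq_zero _).mpr ⟨1, (algebraMap A B).map_one⟩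
    have h0 : TensorProduct.mk A A' _ 1 (π b) = TensorProduct.mk A A' _ 1 0 := by
      have := congrArg (π.lTensor A') ha'
      rw [Algebra.TensorProduct.includeLeftRingHom_apply, LinearMap.lTensor_tmul, h1, TensorProduct.tmul_zero] at this
      rw [map_zero]
      exact this.symm
    obtain ⟨a, ha⟩ := (Submodule.Quotient.mk_eq_zero _).mp
      (Module.FaithfullyFlat.tensorProduct_mk_injective _ h0)
    exact ⟨a, ha⟩

end Groth.Agent.S13822
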