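import Groth.Statements.S13823
import Groth.Agent.EtaPtLib.Loc
import Mathlib.RingTheory.Flat.FaithfullyFlat.Algebra
import Mathlib.RingTheory.TensorProduct.Quotient
import Mathlib.LinearAlgebra.TensorProduct.RightExactness


set_option autoImplicit false
universe u
open EtaPt

namespace Groth.Agent.S13823

open Groth.Agent.EtaPtLib

/-- Let A → A' be faithfully flat with A and A' having finitely many minimal prime ideals, and let Ā, Ā'
be the integral closures of A, A' in their total rings of fractions; if q_{Ā'/A'} is bijective then
q_{Ā/A} is bijective. Here η is a natural transformation from the identity of the category of fields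
to an endofunctor F with F(η_K) bijective and η_K purely inseparable for every field K, N_η(A) is
the product of the F(k(p)) over the primes p of A with diagonal map t_A, and M_η(A) ⊆ N_η(A) is the
subring of elements sent into the range of t_R by every ring map from A to a valuation ring R at
whose fraction field η is bijective; q_A : A → M_η(A) is the corestriction of t_A. For a ring map f
: A → B, (B/A)_η ⊆ B denotes the subring of elements b with t_B(b) in N_η(f)(M_η(A)) (the image in B
of the fibre product of M_η(A) and B over M_η(B)), and q_{B/A} : A → (B/A)_η the corestriction of f. -/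
theorem result (η : EtaPt.FieldEndo.{u}) (A A' : Type u) [CommRing A] [CommRing A'] [Algebra A A'] [Module.FaithfullyFlat A A']
    (hA : (minimalPrimes A).Finite) (hA' : (minimalPrimes A').Finite)
    (h : Function.Bijective (η.qRel (algebraMap A' (integralClosure A' (FractionRing A'))))) :
    Function.Bijective (η.qRel (algebraMap A (integralClosure A (FractionRing A)))) := by
  rw [qRel_bijective_iff] at h ⊢
  obtain ⟨-, hsur⟩ := h
  refine ⟨fun a b e => IsFractionRing.injective A (FractionRing A) (congrArg Subtype.val e), fun c hc => ?_⟩
  have hu : ∀ s : nonZeroDivisors A, IsUnit ((algebraMap A' (FractionRing A')).comp (algebraMap A A') s) := by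
    intro s
    have h1 : IsSMulRegular A (s : A) := fun u v e => (mul_cancel_left_mem_nonZeroDivisors s.2).mp e
    have h2 := h1.of_flat (S := A')
    exact IsLocalization.map_units (FractionRing A') (⟨algebraMap A A' s, mem_nonZeroDivisors_iff.mpr
      ⟨fun x hx => h2.right_eq_zero_of_smul hx,
        fun x hx => h2.right_eq_zero_of_smul (by rw [smul_eq_mul, mul_comm]; exact hx)⟩⟩ : nonZeroDivisors A')
  let i : FractionRing A →+* FractionRing A' := IsLocalization.lift hu
  have hi : ∀ a, i (algebraMap A _ a) = algebraMap A' _ (algebraMap A A' a) := IsLocalization.lift_eq hu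
  have hmem : ∀ z : integralClosure A (FractionRing A), i z.1 ∈ integralClosure A' (FractionRing A') := by
    rintro ⟨z, p, hp, hp0⟩
    refine ⟨p.map (algebraMap A A'), hp.map _, ?_⟩
    have := congrArg i hp0
    rw [Polynomial.hom_eval₂, map_zero] at this
    rw [Polynomial.eval₂_map, show (algebraMap A' (FractionRing A')).comp (algebraMap A A') =
      i.comp (algebraMap A (FractionRing A)) from RingHom.ext fun a => (hi a).symm]
    exact this
  let ψ : integralClosure A (FractionRing A) →+* integralClosure A' (FractionRing A') :=
    (i.comp (integralClosure A (FractionRing A)).val.toRingHom).codRestrict _ hmem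
  obtain ⟨a', ha'⟩ := hsur _ (map_mem_rel' η (algebraMap A (integralClosure A (FractionRing A)))
    (algebraMap A A') ψ (algebraMap A' (integralClosure A' (FractionRing A')))
    (RingHom.ext fun a => Subtype.ext (hi a).symm) hc)
  obtain ⟨x, s, hxs⟩ := IsLocalization.exists_mk'_eq (nonZeroDivisors A) (c : FractionRing A)
  have h3 : algebraMap A A' x = a' * algebraMap A A' s := by
    apply IsFractionRing.injective A' (FractionRing A')
    rw [map_mul, show algebraMap A' (FractionRing A') a' = i c from congrArg Subtype.val ha', ← hxs,
      ← hi, ← hi, ← map_mul, IsLocalization.mk'_spec]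
  have h4 : x ∈ ((Ideal.span {(s : A)}).map (algebraMap A A')).comap (algebraMap A A') := by
    rw [Ideal.mem_comap, h3]
    exact Ideal.mul_mem_left _ _ (Ideal.mem_map_of_mem _ (Ideal.mem_span_singleton_self _))
  rw [Ideal.comap_map_eq_self_of_faithfullyFlat, Ideal.mem_span_singleton'] at h4
  obtain ⟨a, ha⟩ := h4
  refine ⟨a, Subtype.ext ?_⟩
  rw [← hxs, eq_comm, IsLocalization.mk'_eq_iff_eq_mul, ← ha, map_mul]
  rfl

end Groth.Agent.S13823
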