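import Groth.Statements.S13827
import Groth.Agent.EtaPtLib.Loc
import Mathlib.RingTheory.LocalRing.ResidueField.Ideal


set_option autoImplicit false
universe u
open EtaPt

namespace Groth.Agent.S13827

open Groth.Agent.EtaPtLib

/-- For a normal ring A (every localization at a prime is an integrally closed domain) with finitely
many minimal prime ideals such that η is bijective at the residue field of every minimal prime, q_A
: A → M_η(A) is bijective. Here η is a natural transformation from the identity of the category of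
fields to an endofunctor F with F(η_K) bijective and η_K purely inseparable for every field K,
N_η(A) is the product of the F(k(p)) over the primes p of A with diagonal map t_A, and M_η(A) ⊆
N_η(A) is the subring of elements sent into the range of t_R by every ring map from A to a valuation
ring R at whose fraction field η is bijective; q_A : A → M_η(A) is the corestriction of t_A. -/
theorem result (η : EtaPt.FieldEndo.{u}) (A : Type u) [CommRing A] (hn : EGA4.IsNormalRing A)
    (hA : (minimalPrimes A).Finite)
    (hη : ∀ p : PrimeSpectrum A, p.asIdeal ∈ minimalPrimes A → Function.Bijective (η.eta p.asIdeal.ResidueField)) :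
    Function.Bijective (η.q A) := by
  classical
  have hred : IsReduced A := ⟨fun a ha => by
    let I : Ideal A := LinearMap.ker (LinearMap.toSpanSingleton A A a)
    have : I = ⊤ := by
      by_contra hI
      obtain ⟨m, hm, hIm⟩ := I.exists_le_maximal hI
      haveI := (hn m).1
      have h0 : algebraMap A (Localization.AtPrime m) a = 0 := (ha.map _).eq_zero
      obtain ⟨u, hu⟩ := (IsLocalization.map_eq_zero_iff m.primeCompl _ a).mp h0
      exact u.2 (hIm (LinearMap.mem_ker.mpr ((LinearMap.toSpanSingleton_apply A A a _).trans hu)))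
    rw [Ideal.eq_top_iff_one, LinearMap.mem_ker, LinearMap.toSpanSingleton_apply, one_smul] at this
    exact this⟩
  refine ⟨fun a b e => t_injective η (congrArg Subtype.val e), fun x => ?_⟩
  let I : Ideal A :=
    { carrier := {c | η.t A c * (x : η.N A) ∈ (η.t A).range}
      add_mem' := fun {c d} hc hd => by
        change η.t A (c + d) * _ ∈ (η.t A).range
        rw [map_add, add_mul]; exact add_mem hc hd
      zero_mem' := by change η.t A 0 * _ ∈ (η.t A).range; rw [map_zero, zero_mul]; exact zero_mem _
      smul_mem' := fun c d hd => by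
        change η.t A (c * d) * _ ∈ (η.t A).range
        rw [map_mul, mul_assoc]; exact mul_mem ⟨c, rfl⟩ hd }
  suffices I = ⊤ by
    obtain ⟨a, ha⟩ : (1 : A) ∈ I := this ▸ Submodule.mem_top
    exact ⟨a, Subtype.ext (by rw [coe_q, ha, map_one, one_mul])⟩
  by_contra hI
  obtain ⟨p, hp, hIp⟩ := I.exists_le_maximal hI
  let D := Localization.AtPrime p
  haveI : IsDomain D := (hn p).1
  haveI : IsIntegrallyClosed D := (hn p).2
  let ι := algebraMap A D
  let P : PrimeSpectrum A := PrimeSpectrum.comap ι ⟨⊥, Ideal.isPrime_bot⟩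
  have hmin := IsLocalization.minimalPrimes_map p.primeCompl D (⊥ : Ideal A)
  rw [Ideal.map_bot] at hmin
  have hD : (⊥ : Ideal D).minimalPrimes = {⊥} := IsDomain.minimalPrimes_eq_singleton_bot D
  have hP : P.asIdeal ∈ minimalPrimes A := by
    have : (⊥ : Ideal D) ∈ (⊥ : Ideal D).minimalPrimes := hD ▸ rfl
    rw [hmin] at this
    exact this
  have hinv : η.InV D := bijective_eta_of_ringEquiv η
    ((RingEquiv.ofBijective _ ((RingHom.surjectiveOnStalks_of_isLocalization p.primeCompl D).residueFieldMap_bijective
      P.asIdeal (⊥ : Ideal D) rfl)).trans (FractionRing.algEquiv D (⊥ : Ideal D).ResidueField).symm.toRingEquiv)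
    (hη P hP)
  obtain ⟨d, hd⟩ := (q_bijective_of_isIntegrallyClosed D hinv).2 ⟨η.Nmap ι x, Nmap_mem_M η ι x.2⟩
  obtain ⟨a, s, rfl⟩ := IsLocalization.exists_mk'_eq p.primeCompl d
  let z : η.N A := η.t A s * x - η.t A a
  have hz : z P = 0 := by
    have h0 : η.Nmap ι z = 0 := by
      simp only [z, map_sub, map_mul, η.Nmap_t_apply]
      rw [show η.Nmap ι (x : η.N A) = η.t D (IsLocalization.mk' D a s) from (congrArg Subtype.val hd).symm,
        ← map_mul, mul_comm, IsLocalization.mk'_spec, sub_self]
    exact (η.map _).injective ((congrFun h0 ⟨⊥, Ideal.isPrime_bot⟩).trans (map_zero _).symm)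
  have key : ∀ P' ∈ hA.toFinset, ∃ v : A, v ∉ p ∧ (P' = P.asIdeal ∨ v ∈ P') := by
    intro P' hP'
    rw [Set.Finite.mem_toFinset] at hP'
    by_cases hle : P' ≤ p
    · refine ⟨1, hp.isPrime.one_notMem, Or.inl ?_⟩
      have hdis : Disjoint (p.primeCompl : Set A) P' :=
        Set.disjoint_left.mpr fun v hv hv' => hv (hle hv')
      have hu := IsLocalization.under_map_of_isPrime_disjoint p.primeCompl D hP'.1.1 hdis
      have h2 : P'.map ι ∈ (⊥ : Ideal D).minimalPrimes := by
        rw [hmin, Set.mem_preimage, hu]
        exact hP'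
      rw [hD, Set.mem_singleton_iff] at h2
      exact hu.symm.trans (congrArg (Ideal.comap ι) h2)
    · obtain ⟨v, hv, hvp⟩ := SetLike.not_le_iff_exists.mp hle
      exact ⟨v, hvp, Or.inr hv⟩
  choose! v hvp hv using key
  have hu0 : η.t A (∏ P' ∈ hA.toFinset, v P') * z = 0 := by
    refine eq_zero_of_minimal (mul_mem (η.t_mem_M _ _) (sub_mem (mul_mem (η.t_mem_M _ _) x.2) (η.t_mem_M _ _))) ?_
    intro Q hQ
    rw [Pi.mul_apply, mul_eq_zero]
    rcases hv Q.asIdeal (hA.mem_toFinset.mpr hQ) with h | h
    · obtain rfl : Q = P := PrimeSpectrum.ext h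
      exact Or.inr hz
    · left
      change η.eta _ (algebraMap A Q.asIdeal.ResidueField _) = 0
      rw [map_eq_zero, Ideal.algebraMap_residueField_eq_zero]
      exact Ideal.mem_of_dvd _ (Finset.dvd_prod_of_mem _ (hA.mem_toFinset.mpr hQ)) h
  have hmem : (∏ P' ∈ hA.toFinset, v P') * (s : A) ∈ I := by
    refine ⟨(∏ P' ∈ hA.toFinset, v P') * a, ?_⟩
    rw [mul_sub, sub_eq_zero] at hu0
    rw [map_mul, map_mul, mul_assoc, hu0]
  rcases hp.isPrime.mem_or_mem (hIp hmem) with h | h
  · obtain ⟨P', hP', hPv⟩ := hp.isPrime.prod_mem_iff.mp h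
    exact hvp P' hP' hPv
  · exact s.2 h

end Groth.Agent.S13827
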