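import Groth.Statements.S13830
import Groth.Agent.EtaPtLib.Scheme


set_option autoImplicit false
universe u
open AlgebraicGeometry
open EtaPt

namespace Groth.Agent.S13830

open Groth.Agent.EtaPtLib

/-- For the identity endofunctor, a commutative ring A with finitely many minimal prime ideals and an
A-algebra B with Spec B → Spec A surjective, the subring (B/A) ⊆ B (elements b whose residue classes
(b mod q)_q come from a family in M(A) ⊆ ∏_p k(p), M(A) being the families that come from an element
of R after any base change to a valuation ring R) is the seminormalization of A in B: Spec (B/A) →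
Spec A is a universal homeomorphism with trivial residue field extensions, and every A-subalgebra C
of B with these two properties is contained in (B/A). -/
theorem result (A B : Type u) [CommRing A] [CommRing B] [Algebra A B] (hA : (minimalPrimes A).Finite)
    (hs : Function.Surjective (PrimeSpectrum.comap (algebraMap A B))) :
    (FlatMor.IsUnivHomeo (Spec.map (CommRingCat.ofHom (EtaPt.FieldEndo.ident.{u}.qRel (algebraMap A B)))) ∧
      HTop.ResidueFieldsIso (Spec.map (CommRingCat.ofHom (EtaPt.FieldEndo.ident.{u}.qRel (algebraMap A B))))) ∧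
    ∀ C : Subalgebra A B,
      FlatMor.IsUnivHomeo (Spec.map (CommRingCat.ofHom (algebraMap A C))) →
      HTop.ResidueFieldsIso (Spec.map (CommRingCat.ofHom (algebraMap A C))) →
      C.toSubring ≤ EtaPt.FieldEndo.ident.{u}.rel (algebraMap A B) := by
  obtain ⟨hi, hc, hr, -⟩ := qRel_properties (η := EtaPt.FieldEndo.ident.{u}) hA (algebraMap A B) hs
  refine ⟨⟨isUnivHomeo_of_rfac _ hi hc hr, residueFieldsIso_of_rfac _ hr⟩, fun C hu hres c hc => ?_⟩
  obtain ⟨hCi, hCN⟩ := props_of_univHomeo _ hu hres
  obtain ⟨x, hx, he⟩ := (bijOn_Nmap_M _ hCi hCN).surjOn (EtaPt.FieldEndo.ident.{u}.t_mem_M C ⟨c, hc⟩)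
  have hcomp : (C.val.toRingHom).comp (algebraMap A C) = algebraMap A B := rfl
  exact ⟨x, hx, by rw [← hcomp, Nmap_comp, he, FieldEndo.Nmap_t_apply]; rfl⟩

end Groth.Agent.S13830
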