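import Groth.Statements.S13834
import Groth.Agent.EtaPtLib.Components
import Mathlib.AlgebraicGeometry.Morphisms.UniversallyOpen
import Mathlib.RingTheory.RingHom.FiniteType


set_option autoImplicit false
universe u
open AlgebraicGeometry
open EtaPt

namespace Groth.Agent.S13834

open Groth.Agent.EtaPtLib

/-- If f : Y → X is faithfully flat and locally of finite presentation and each quasi-compact open
subset of X has only finitely many irreducible components, the same is true of each quasi-compact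
open subset of Y. -/
theorem result {Y X : Scheme.{u}} (f : Y ⟶ X) [Flat f] [LocallyOfFinitePresentation f] [Surjective f]
    (hX : ∀ U : X.Opens, IsCompact (U : Set X) → (irreducibleComponents (U : Type u)).Finite)
    (V : Y.Opens) (hV : IsCompact (V : Set Y)) : (irreducibleComponents (V : Type u)).Finite := by
  classical
  have hcov : ∀ y ∈ (V : Set Y), ∃ W : Y.affineOpens, y ∈ (W : Y.Opens) ∧ (W : Y.Opens) ≤ V ∧
      ∃ U : X.affineOpens, (W : Y.Opens) ≤ f ⁻¹ᵁ (U : X.Opens) := by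
    intro y hy
    obtain ⟨U, hU, hyU, -⟩ := exists_isAffineOpen_mem_and_subset (U := (⊤ : X.Opens)) (x := f y) trivial
    obtain ⟨W, hW, hyW, hWle⟩ := exists_isAffineOpen_mem_and_subset (U := V ⊓ f ⁻¹ᵁ U) (x := y) ⟨hy, hyU⟩
    exact ⟨⟨W, hW⟩, hyW, fun z hz => (hWle hz).1, ⟨U, hU⟩, fun z hz => (hWle hz).2⟩
  choose W hW hWV U hWU using hcov
  obtain ⟨s, hs⟩ := hV.elim_finite_subcover (fun y : (V : Set Y) => ((W y.1 y.2 : Y.Opens) : Set Y))
    (fun y => (W y.1 y.2 : Y.Opens).2) (fun y hy => Set.mem_iUnion.mpr ⟨⟨y, hy⟩, hW y hy⟩)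
  have hfin : ∀ y : (V : Set Y), (minimalPrimes Γ(Y, W y.1 y.2)).Finite := by
    intro y
    algebraize [(f.appLE _ _ (hWU y.1 y.2)).hom]
    haveI : Module.Flat Γ(X, U y.1 y.2) Γ(Y, W y.1 y.2) :=
      f.flat_appLE (U y.1 y.2).2 (W y.1 y.2).2 (hWU y.1 y.2)
    haveI : Algebra.FiniteType Γ(X, U y.1 y.2) Γ(Y, W y.1 y.2) :=
      f.finiteType_appLE (U y.1 y.2).2 (W y.1 y.2).2 (hWU y.1 y.2)
    exact finite_minimalPrimes_of_flat (finite_minimalPrimes_of_components (U y.1 y.2).2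
      (hX _ (U y.1 y.2).2.isCompact))
  refine finite_components_of_generators
    (G := {z : (V : Type u) | ∃ y ∈ s, ∃ P : PrimeSpectrum Γ(Y, W y.1 y.2),
      P.asIdeal ∈ minimalPrimes Γ(Y, W y.1 y.2) ∧ (W y.1 y.2).2.fromSpec P = z.1}) ?_ fun z => ?_
  · refine (s.finite_toSet.biUnion (t := fun y => {z : (V : Type u) | ∃ P : PrimeSpectrum Γ(Y, W y.1 y.2),
      P.asIdeal ∈ minimalPrimes Γ(Y, W y.1 y.2) ∧ (W y.1 y.2).2.fromSpec P = z.1}) fun y _ => ?_).subset
      fun z ⟨y, hy, hz⟩ => Set.mem_iUnion₂.mpr ⟨y, hy, hz⟩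
    have h1 : {P : PrimeSpectrum Γ(Y, W y.1 y.2) | P.asIdeal ∈ minimalPrimes Γ(Y, W y.1 y.2)}.Finite :=
      (hfin y).preimage fun P _ Q _ h => PrimeSpectrum.ext h
    refine ((h1.image (W y.1 y.2).2.fromSpec).preimage (f := fun z : (V : Type u) => z.1) Subtype.val_injective.injOn).subset ?_
    rintro z ⟨P, hP, he⟩
    exact ⟨P, hP, he⟩
  · obtain ⟨y, hy, hz⟩ := Set.mem_iUnion₂.mp (hs z.2)
    obtain ⟨Q, hQ⟩ : z.1 ∈ Set.range (W y.1 y.2).2.fromSpec := by
      exact (Set.ext_iff.mp (W y.1 y.2).2.range_fromSpec z.1).mpr hz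
    haveI := Q.2
    obtain ⟨P, hP, hPQ⟩ := Ideal.exists_minimalPrimes_le (I := (⊥ : Ideal Γ(Y, W y.1 y.2))) (J := Q.asIdeal) bot_le
    let P' : PrimeSpectrum Γ(Y, W y.1 y.2) := ⟨P, hP.1.1⟩
    have hmem : (W y.1 y.2).2.fromSpec P' ∈ (V : Set Y) := by
      apply hWV y.1 y.2
      exact (Set.ext_iff.mp (W y.1 y.2).2.range_fromSpec _).mp (Set.mem_range_self P')
    refine ⟨⟨_, hmem⟩, ⟨y, hy, P', hP, rfl⟩, ?_⟩
    refine Topology.IsInducing.subtypeVal.specializes_iff.mp ?_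
    exact hQ ▸ ((PrimeSpectrum.le_iff_specializes P' Q).mp hPQ).map (W y.1 y.2).2.fromSpec.continuous

end Groth.Agent.S13834
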