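import Groth.Statements.S13835
import Mathlib.AlgebraicGeometry.Morphisms.Separated
-- import your own Groth.Agent.* helpers here

set_option autoImplicit false
universe u
open AlgebraicGeometry CategoryTheory
open ChowMon

namespace Groth.Agent.S13835
open CategoryTheory CategoryTheory.Limits AlgebraicGeometry

/-- Let p : T' → T be a universal homeomorphism of separated schemes with T reduced and f' : T' → Y a
morphism (Y separated); if T has an open cover by affine opens U_i such that each restriction of f'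
to p⁻¹(U_i) factors through p⁻¹(U_i) → U_i, then f' factors through p. -/
theorem result {T' T Y : Scheme.{u}} (p : T' ⟶ T) (hp : FlatMor.IsUnivHomeo p) [IsReduced T]
    [T.IsSeparated] [T'.IsSeparated] [Y.IsSeparated] (f' : T' ⟶ Y)
    {ι : Type u} (U : ι → T.affineOpens) (hU : ⨆ i, (U i : T.Opens) = ⊤)
    (hloc : ∀ i, ∃ fi : ((U i : T.Opens) : Scheme.{u}) ⟶ Y, (p ⁻¹ᵁ (U i : T.Opens)).ι ≫ f' = (p ∣_ (U i : T.Opens)) ≫ fi) :
    ∃ f : T ⟶ Y, p ≫ f = f' := by
  choose fi hfi using hloc
  have hp0 : IsHomeomorph p.base := MorphismProperty.universally_le _ _ hp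
  let 𝒰 := T.openCoverOfIsOpenCover (fun i => (U i : T.Opens)) hU
  have key : ∀ i j, pullback.fst (𝒰.f i) (𝒰.f j) ≫ fi i = pullback.snd (𝒰.f i) (𝒰.f j) ≫ fi j := by
    intro i j
    have h1 : ∀ (k : ι) {W : Scheme.{u}} (a : W ⟶ T') (b : W ⟶ (U k : T.Opens).toScheme),
        a ≫ p = b ≫ (U k : T.Opens).ι → b ≫ fi k = a ≫ f' := by
      intro k W a b hab
      let a' : W ⟶ (p ⁻¹ᵁ (U k : T.Opens)).toScheme :=
        IsOpenImmersion.lift (p ⁻¹ᵁ (U k : T.Opens)).ι a (by
          rintro _ ⟨w, rfl⟩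
          simp only [Scheme.Opens.range_ι, SetLike.mem_coe, Scheme.Hom.mem_preimage, ← Scheme.Hom.comp_apply, hab]
          exact (b w).2)
      have hb : a' ≫ (p ∣_ (U k : T.Opens)) = b := by
        rw [← cancel_mono (U k : T.Opens).ι, Category.assoc, morphismRestrict_ι, IsOpenImmersion.lift_fac_assoc, hab]
      rw [← hb, Category.assoc, ← hfi k, IsOpenImmersion.lift_fac_assoc]
    let w := pullback.fst (𝒰.f i) (𝒰.f j) ≫ 𝒰.f i
    haveI : IsReduced (pullback (𝒰.f i) (𝒰.f j)) := isReduced_of_isOpenImmersion w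
    haveI : Surjective p := ⟨hp0.surjective⟩
    haveI : Surjective (pullback.fst w p) := MorphismProperty.pullback_fst _ _ inferInstance
    apply ext_of_isDominant (pullback.fst w p)
    rw [← Category.assoc, ← Category.assoc]
    refine (h1 i (pullback.snd w p) (pullback.fst w p ≫ pullback.fst _ _) ?_).trans
      (h1 j (pullback.snd w p) (pullback.fst w p ≫ pullback.snd _ _) ?_).symm
    · rw [← pullback.condition (f := w) (g := p), Category.assoc]
      rfl
    · rw [← pullback.condition (f := w) (g := p), Category.assoc]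
      exact congrArg (pullback.fst w p ≫ ·) (pullback.condition (f := 𝒰.f i) (g := 𝒰.f j))
  refine ⟨𝒰.glueMorphisms fi key, ?_⟩
  refine Scheme.Cover.hom_ext (𝒰.pullback₁ p) _ _ fun i => ?_
  show pullback.fst p (𝒰.f i) ≫ p ≫ _ = pullback.fst p (𝒰.f i) ≫ f'
  rw [← Category.assoc, pullback.condition, Category.assoc, Scheme.Cover.ι_glueMorphisms]
  let a := IsOpenImmersion.lift (p ⁻¹ᵁ (U i : T.Opens)).ι (pullback.fst p (𝒰.f i)) (by
      rintro _ ⟨w, rfl⟩
      simp only [Scheme.Opens.range_ι, SetLike.mem_coe, Scheme.Hom.mem_preimage, ← Scheme.Hom.comp_apply, pullback.condition]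
      exact (pullback.snd p (𝒰.f i) w).2)
  have hb : a ≫ (p ∣_ (U i : T.Opens)) = pullback.snd p (𝒰.f i) := by
    rw [← cancel_mono (U i : T.Opens).ι, Category.assoc, morphismRestrict_ι, IsOpenImmersion.lift_fac_assoc]
    exact pullback.condition
  show pullback.snd p (𝒰.f i) ≫ fi i = pullback.fst p (𝒰.f i) ≫ f'
  rw [← hb]
  exact (Category.assoc a (p ∣_ (U i : T.Opens)) (fi i)).trans ((congrArg (a ≫ ·) (hfi i).symm).trans
    (IsOpenImmersion.lift_fac_assoc _ _ _ _))

end Groth.Agent.S13835
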