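import Groth.Statements.S13837
import Groth.Agent.HTopAwn.Base


set_option autoImplicit false
universe u
open AlgebraicGeometry
open scoped TensorProduct
open HTop

namespace Groth.Agent.S13837

open Groth.Agent.HTopAwn Groth.Agent.MorLib.RUH

/-- Let A ⊆ B be an integral ring extension where A and B have finitely many minimal prime ideals; then
the weak normalization of A in B is the equaliser of the two maps B ⇉ (B ⊗_A B)_red: the
A-subalgebra E of elements b with b ⊗ 1 − 1 ⊗ b nilpotent in B ⊗_A B has Spec E → Spec A a universal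
homeomorphism, and every A-subalgebra C of B with Spec C → Spec A a universal homeomorphism is
contained in E. -/
theorem result (A B : Type u) [CommRing A] [CommRing B] [Algebra A B] (hinj : Function.Injective (algebraMap A B))
    [Algebra.IsIntegral A B] (hA : (minimalPrimes A).Finite) (hB : (minimalPrimes B).Finite) :
    ∃ E : Subalgebra A B, (∀ b : B, b ∈ E ↔ IsNilpotent (b ⊗ₜ[A] (1 : B) - (1 : B) ⊗ₜ[A] b)) ∧
      FlatMor.IsUnivHomeo (Spec.map (CommRingCat.ofHom (algebraMap A E))) ∧
      ∀ C : Subalgebra A B, FlatMor.IsUnivHomeo (Spec.map (CommRingCat.ofHom (algebraMap A C))) → C ≤ E := by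
  classical
  let i1 : B →ₐ[A] TensorProduct A B B := Algebra.TensorProduct.includeLeft
  let i2 : B →ₐ[A] TensorProduct A B B := Algebra.TensorProduct.includeRight
  let red := Ideal.Quotient.mkₐ A (nilradical (TensorProduct A B B))
  let E := AlgHom.equalizer (red.comp i1) (red.comp i2)
  have hE : ∀ b : B, b ∈ E ↔ IsNilpotent (b ⊗ₜ[A] (1 : B) - (1 : B) ⊗ₜ[A] b) := fun b => by
    rw [AlgHom.mem_equalizer]
    exact (Ideal.Quotient.eq).trans mem_nilradical
  refine ⟨E, hE, ?_, fun C hC c hc => (hE c).mpr ?_⟩
  · have hint : (algebraMap A B).IsIntegral := fun x => Algebra.IsIntegral.isIntegral x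
    have hEi : (algebraMap A E).IsIntegral := fun x =>
      (isIntegral_algHom_iff E.val Subtype.val_injective).mp (Algebra.IsIntegral.isIntegral (x : B))
    have hval : E.val.toRingHom.IsIntegral := RingHom.IsIntegral.tower_top (algebraMap A E) E.val.toRingHom hint
    refine isUnivHomeo_of_injective _ (fun a b h => hinj (congrArg Subtype.val h)) hEi fun K _ f g hfg => ?_
    obtain ⟨q, hq⟩ := hval.comap_surjective Subtype.val_injective ⟨_, RingHom.ker_isPrime ((algebraMap K (AlgebraicClosure K)).comp f)⟩
    obtain ⟨F, hF⟩ := exists_extension _ hval ((algebraMap K (AlgebraicClosure K)).comp f) ⟨q, congrArg PrimeSpectrum.asIdeal hq⟩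
    obtain ⟨q', hq'⟩ := hval.comap_surjective Subtype.val_injective ⟨_, RingHom.ker_isPrime ((algebraMap K (AlgebraicClosure K)).comp g)⟩
    obtain ⟨G, hG⟩ := exists_extension _ hval ((algebraMap K (AlgebraicClosure K)).comp g) ⟨q', congrArg PrimeSpectrum.asIdeal hq'⟩
    letI := (F.comp (algebraMap A B)).toAlgebra
    have hGA : G.comp (algebraMap A B) = F.comp (algebraMap A B) := by
      rw [show algebraMap A B = E.val.toRingHom.comp (algebraMap A E) from rfl, ← RingHom.comp_assoc, hG,
        ← RingHom.comp_assoc, hF, RingHom.comp_assoc, RingHom.comp_assoc, hfg]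
    let FG : TensorProduct A B B →ₐ[A] AlgebraicClosure K :=
      Algebra.TensorProduct.lift (R := A) (S := A)
        { F with commutes' := fun a => rfl } { G with commutes' := fun a => RingHom.congr_fun hGA a }
        (fun _ _ => Commute.all _ _)
    refine RingHom.ext fun e => (algebraMap K (AlgebraicClosure K)).injective ?_
    have h0 := ((hE e).mp e.2).map FG
    rw [map_sub] at h0
    have h1 := h0.eq_zero
    rw [sub_eq_zero, Algebra.TensorProduct.lift_tmul, Algebra.TensorProduct.lift_tmul, map_one, map_one, mul_one, one_mul] at h1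
    exact ((RingHom.congr_fun hF e).symm.trans h1).trans (RingHom.congr_fun hG e)
  · obtain ⟨-, hr⟩ := good_of_isUnivHomeo hC
    refine nilpotent_iff_mem_prime.mpr fun J hJ => ?_
    rw [← Ideal.algebraMap_residueField_eq_zero (I := J), map_sub, sub_eq_zero]
    let Φ := algebraMap (TensorProduct A B B) J.ResidueField
    exact RingHom.congr_fun (hr J.ResidueField
      ((Φ.comp i1.toRingHom).comp C.val.toRingHom) ((Φ.comp i2.toRingHom).comp C.val.toRingHom)
      (RingHom.ext fun a => congrArg Φ (Algebra.TensorProduct.tmul_one_eq_one_tmul a))) ⟨c, hc⟩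

end Groth.Agent.S13837
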