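import Groth.Statements.S13838
import Groth.Agent.HTopAwn.Base


set_option autoImplicit false
universe u
open AlgebraicGeometry
open HTop

namespace Groth.Agent.S13838

open Groth.Agent.HTopAwn Groth.Agent.MorLib.RUH

/-- Let A ⊆ B be an integral ring extension where A and B have finitely many minimal prime ideals, such
that every prime p of A has a prime q of B above it for which k(p) is closed under extracting
p-power roots inside k(q) (the purely inseparable closure of k(p) in k(q) is k(p)); then the semi-
and weak normalizations of A in B coincide: every A-subalgebra C of B with Spec C → Spec A a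
universal homeomorphism already induces isomorphisms on residue fields. -/
theorem result (A B : Type u) [CommRing A] [CommRing B] [Algebra A B] (hinj : Function.Injective (algebraMap A B))
    [Algebra.IsIntegral A B] (hA : (minimalPrimes A).Finite) (hB : (minimalPrimes B).Finite)
    (hpi : ∀ p : PrimeSpectrum A, ∃ q : PrimeSpectrum B, ∃ hq : p.asIdeal = Ideal.comap (algebraMap A B) q.asIdeal,
      ∀ x : q.asIdeal.ResidueField,
        (∃ n : ℕ, x ^ ringExpChar p.asIdeal.ResidueField ^ n ∈
            Set.range (Ideal.ResidueField.map p.asIdeal q.asIdeal (algebraMap A B) hq)) →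
        x ∈ Set.range (Ideal.ResidueField.map p.asIdeal q.asIdeal (algebraMap A B) hq)) :
    ∀ C : Subalgebra A B, FlatMor.IsUnivHomeo (Spec.map (CommRingCat.ofHom (algebraMap A C))) →
      HTop.ResidueFieldsIso (Spec.map (CommRingCat.ofHom (algebraMap A C))) := by
  intro C hC
  obtain ⟨hCi, hCr, -⟩ := (isUnivHomeo_SpecMap_iff _).mp hC
  intro Q
  refine (CategoryTheory.ConcreteCategory.isIso_iff_bijective _).mpr
    ⟨RingHom.injective _, (residueFieldMap_surjective_iff (algebraMap A C) Q).mpr fun c => ?_⟩
  obtain ⟨q, hq, hpi'⟩ := hpi (PrimeSpectrum.comap (algebraMap A C) Q)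
  let p := PrimeSpectrum.comap (algebraMap A C) Q
  have hQq : PrimeSpectrum.comap C.val.toRingHom q = Q :=
    injective_comap_of_radicial hCr (PrimeSpectrum.ext (by rw [hq]; rfl))
  let ι := Ideal.ResidueField.map p.asIdeal q.asIdeal (algebraMap A B) hq
  have hι : ∀ a, ι (algebraMap A _ a) = algebraMap B _ (algebraMap A B a) :=
    fun a => Ideal.ResidueField.map_algebraMap p.asIdeal q.asIdeal (algebraMap A B) hq a
  let x := algebraMap B q.asIdeal.ResidueField (c : B)
  have hdesc : ∀ z, ι z = x → ∃ a s : A, algebraMap A C s ∉ Q.asIdeal ∧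
      algebraMap A C s * c - algebraMap A C a ∈ Q.asIdeal := by
    intro z hz
    obtain ⟨a, s, hs, rfl⟩ := IsFractionRing.div_surjective (A := A ⧸ p.asIdeal) z
    obtain ⟨a, rfl⟩ := Ideal.Quotient.mk_surjective a
    obtain ⟨s, rfl⟩ := Ideal.Quotient.mk_surjective s
    have hs' : s ∉ p.asIdeal := fun h => nonZeroDivisors.ne_zero hs (Ideal.Quotient.eq_zero_iff_mem.mpr h)
    refine ⟨a, s, hs', ?_⟩
    rw [← hQq]
    change algebraMap A B s * (c : B) - algebraMap A B a ∈ q.asIdeal
    rw [← Ideal.algebraMap_residueField_eq_zero, map_sub, map_mul, ← hι, ← hι, sub_eq_zero]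
    change ι _ * x = ι _
    rw [← hz, ← map_mul, Ideal.algebraMap_quotient_residueField_mk, Ideal.algebraMap_quotient_residueField_mk,
      mul_div_cancel₀ _ (fun h0 => hs' (Ideal.algebraMap_residueField_eq_zero.mp h0))]
  obtain ⟨e, he, n, a, s, hs, hmem⟩ := exists_pow_of_radicial _ hCr Q c
  have hs' : algebraMap A p.asIdeal.ResidueField s ≠ 0 := fun h0 =>
    hs ((Ideal.algebraMap_residueField_eq_zero (I := p.asIdeal)).mp h0)
  have hxe : x ^ e ^ n = ι (algebraMap A _ a / algebraMap A _ s) := by
    rw [← hQq] at hmem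
    change algebraMap A B s * (c : B) ^ e ^ n - algebraMap A B a ∈ q.asIdeal at hmem
    rw [← Ideal.algebraMap_residueField_eq_zero, map_sub, map_mul, map_pow, ← hι, ← hι, sub_eq_zero] at hmem
    rw [map_div₀, eq_div_iff (fun h0 => hs' (ι.injective (h0.trans (map_zero ι).symm))), mul_comm]
    exact hmem
  rcases he with rfl | ⟨heprime, heQ⟩
  · exact hdesc _ (by rw [one_pow, pow_one] at hxe; exact hxe.symm)
  · have he0 : (e : p.asIdeal.ResidueField) = 0 := by
      rw [← map_natCast (algebraMap A p.asIdeal.ResidueField), Ideal.algebraMap_residueField_eq_zero]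
      change algebraMap A C (e : A) ∈ Q.asIdeal
      rw [map_natCast]
      exact heQ
    haveI : CharP p.asIdeal.ResidueField e := (CharP.charP_iff_prime_eq_zero heprime).mpr he0
    haveI : ExpChar p.asIdeal.ResidueField e := ExpChar.prime heprime
    obtain ⟨z, hz⟩ := hpi' x ⟨n, _, by rw [ringExpChar.eq _ e]; exact hxe.symm⟩
    exact hdesc z hz

end Groth.Agent.S13838
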