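import Groth.Statements.S13841
import Groth.Agent.CSALib.Index

set_option autoImplicit false
universe u v
open scoped TensorProduct
open Brauer

namespace Groth.Agent.S13841

/-- Let k be a field and A a finite-dimensional central simple k-algebra of period n. Then A has index n
if and only if there is a finite field extension k' of k of degree coprime to n such that the index
of the k'-algebra k' ⊗_k A divides n. (The published statement is for a class of period n in H²(X,
G_m) on a scheme X over k; this row is the case where X is the spectrum of k.) -/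
theorem result (k : Type u) [Field k] (A : Type v) [Ring A] [Algebra k A]
    [Algebra.IsCentral k A] [IsSimpleRing A] [FiniteDimensional k A] (n : ℕ) (hper : CSAGal.IsPeriod k A n) :
    CSAGal.IsIndex k A n ↔
      ∃ (k' : Type u) (_ : Field k') (_ : Algebra k k') (_ : FiniteDimensional k k'),
        Nat.Coprime n (Module.finrank k k') ∧ ∃ d' : ℕ, CSAGal.IsIndex k' (k' ⊗[k] A) d' ∧ d' ∣ n := by
  have hiff := CSALib.isPeriod_iff hper
  obtain ⟨d, hd⟩ := CSALib.exists_isIndex k A
  constructor
  · intro hn
    have := CSALib.isCentral_baseChange k A k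
    have := CSALib.isSimpleRing_baseChange k A k
    refine ⟨k, inferInstance, inferInstance, inferInstance, by simp, n, ?_, dvd_rfl⟩
    exact CSALib.isIndex_congr hn CSALib.similar_tensor_self_left
  · rintro ⟨L, _, _, _, hcop, d', hd', hn'⟩
    have hc : Nat.Coprime d (Module.finrank k L) := Nat.coprime_of_dvd fun q hq hqd hqL =>
      hq.not_dvd_one (hcop ▸ Nat.dvd_gcd
        (CSALib.prime_dvd_of_pow_split hd ((hiff n).mpr dvd_rfl) hq hqd) hqL)
    have h1 : d ∣ n :=
      (hc.dvd_of_dvd_mul_left (CSALib.index_dvd_index_baseChange_mul hd L hd')).trans hn'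
    exact Nat.dvd_antisymm h1 ((hiff d).mp (CSALib.similar_pow_index hd)) ▸ hd

end Groth.Agent.S13841
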