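import Groth.Statements.S13843
import Groth.Agent.EtTrace.Coh
import Mathlib.GroupTheory.Sylow
import Mathlib.FieldTheory.Galois.Basic
-- import your own Groth.Agent.* helpers here

set_option autoImplicit false
set_option backward.isDefEq.respectTransparency false
set_option backward.isDefEq.respectTransparency.types false
set_option linter.style.haveILetI false
universe u
open CategoryTheory CategoryTheory.Limits AlgebraicGeometry
open GalCoh

open CategoryTheory CategoryTheory.Limits CategoryTheory.Abelian AlgebraicGeometry Groth.Agent.EtTrace

namespace Groth.Agent.S13843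

/-- Let K be a field, F an abelian sheaf on the small étale site of Spec K, i > 0 and α a class in
H^i(Spec K, F) which pulls back to zero over some finite separable field extension L of K. If p is a
prime not dividing the order of α, then there is a finite separable field extension L' of K whose
degree is not divisible by p and over which α pulls back to zero. Hence the period and the index of
α have the same prime factors. (Exactness of pullback of abelian sheaves, which always holds, is
carried as an instance hypothesis, in the conclusion for every such instance.) -/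
theorem result (K : Type u) [Field K] (F : EtCoh.Ab (Spec (CommRingCat.of K))) (i : ℕ)
    (hi : 0 < i) (α : EtCoh.H (Spec (CommRingCat.of K)) F i) (L : Type u) [Field L] [Algebra K L] [FiniteDimensional K L]
    [Algebra.IsSeparable K L] [PreservesFiniteLimits (EtCoh.pull (Spec.map (CommRingCat.ofHom (algebraMap K L))))]
    (hα : EtCore.Hpull (Spec.map (CommRingCat.ofHom (algebraMap K L))) F i α = 0) (p : ℕ) (hp : p.Prime) (hpα : ¬ p ∣ addOrderOf α) :
    ∃ (L' : Type u) (_ : Field L') (_ : Algebra K L') (_ : FiniteDimensional K L') (_ : Algebra.IsSeparable K L'),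
      ¬ p ∣ Module.finrank K L' ∧
        ∀ [PreservesFiniteLimits (EtCoh.pull (Spec.map (CommRingCat.ofHom (algebraMap K L'))))],
          EtCore.Hpull (Spec.map (CommRingCat.ofHom (algebraMap K L'))) F i α = 0 := by
  classical
  haveI : Fact p.Prime := ⟨hp⟩
  let A := SeparableClosure L
  haveI : Algebra.IsSeparable K A := Algebra.IsSeparable.trans K L A
  haveI : IsSepClosure K A := ⟨inferInstance, inferInstance⟩
  let M := IntermediateField.normalClosure K L A
  haveI : IsGalois K M := IsGalois.normalClosure K L A
  let φ : L →ₐ[K] M := (IntermediateField.inclusion (IsScalarTower.toAlgHom K L A).fieldRange_le_normalClosure).comp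
    (IsScalarTower.toAlgHom K L A).rangeRestrict
  let P : Sylow p Gal(M/K) := default
  let L' := IntermediateField.fixedField (P : Subgroup Gal(M/K))
  refine ⟨L', inferInstance, inferInstance, inferInstance, inferInstance, ?_, ?_⟩
  · have h1 := Module.finrank_mul_finrank K L' M
    rw [IntermediateField.finrank_fixedField_eq_card, ← IsGalois.card_aut_eq_finrank K M,
      ← (P : Subgroup Gal(M/K)).index_mul_card] at h1
    rw [Nat.eq_of_mul_eq_mul_right Nat.card_pos h1]
    exact P.not_dvd_index
  intro _
  haveI : AlgebraicGeometry.Etale (Spec.map (CommRingCat.ofHom (algebraMap K L))) := (obj K L).prop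
  haveI : AlgebraicGeometry.Etale (Spec.map (CommRingCat.ofHom (algebraMap K L'))) := (obj K L').prop
  have hL := (Hpull_eq_zero_iff (Spec.map (CommRingCat.ofHom (algebraMap K L))) (obj K L) (𝟙 _) (Category.id_comp _) F i α).1 hα
  have hM : (Ext.mk₀ (aug (obj K M))).comp α (zero_add i) = 0 := by
    rw [← freeMap_aug (homOf φ), ← Ext.mk₀_comp_mk₀_assoc, hL, Ext.comp_zero]
  have hy := nsmul_aug_eq_zero (L₀ := L') α hM
  refine (Hpull_eq_zero_iff (Spec.map (CommRingCat.ofHom (algebraMap K L'))) (obj K L') (𝟙 _) (Category.id_comp _) F i α).2 ?_
  set y := (Ext.mk₀ (aug (obj K L'))).comp α (zero_add i) with hydef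
  have hα' : addOrderOf α • y = 0 := by
    have h := congrArg ((Ext.mk₀ (aug (obj K L'))).precomp F (zero_add i)) (addOrderOf_nsmul_eq_zero α)
    rw [map_nsmul, map_zero] at h
    exact h
  obtain ⟨a, ha⟩ := P.isPGroup'.exists_card_eq
  rw [IntermediateField.finrank_fixedField_eq_card, ha] at hy
  have hc : Nat.Coprime (p ^ a) (addOrderOf α) := Nat.Coprime.pow_left _ ((Nat.Prime.coprime_iff_not_dvd hp).2 hpα)
  have hd : addOrderOf y ∣ 1 := by
    rw [← hc]
    exact Nat.dvd_gcd (addOrderOf_dvd_of_nsmul_eq_zero hy) (addOrderOf_dvd_of_nsmul_eq_zero hα')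
  exact AddMonoid.addOrderOf_eq_one_iff.1 (Nat.dvd_one.1 hd)

end Groth.Agent.S13843
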