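import Groth.Statements.S1556
import Groth.Agent.SmoothReg.Scheme

set_option autoImplicit false
universe u
open CategoryTheory CategoryTheory.Limits AlgebraicGeometry
attribute [local instance] Curv2.resAlgebra
open Variety

namespace Groth.Agent.S1556

/-- Let X be a curve over k (integral, separated, of finite type, of dimension one) and x a closed point
whose residue field is separable over k. Then the local ring at x is a discrete valuation ring if
and only if x lies in the smooth locus of X → Spec k. -/
theorem result (k : Type u) [Field k] (X : Scheme.{u}) [X.Over (Spec (CommRingCat.of k))] [IsIntegral X]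
    [IsSeparated (X ↘ (Spec (CommRingCat.of k)))] [LocallyOfFinitePresentation (X ↘ (Spec (CommRingCat.of k)))] [QuasiCompact (X ↘ (Spec (CommRingCat.of k)))]
    (hdim : topologicalKrullDim X = 1) (x : X) (hx : IsClosed ({x} : Set X))
    [Algebra.IsSeparable k (X.residueField x)] :
    IsDiscreteValuationRing (X.presheaf.stalk x) ↔ x ∈ (X ↘ (Spec (CommRingCat.of k))).smoothLocus := by
  have hd : ringKrullDim (X.presheaf.stalk x) = 1 :=
    (Groth.Agent.SmoothReg.ringKrullDim_stalk_closedPoint (X ↘ Spec (CommRingCat.of k)) hx).trans hdim
  haveI := LocallyOfFiniteType.isLocallyNoetherian (X ↘ Spec (CommRingCat.of k))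
  constructor
  · intro h
    refine Groth.Agent.SmoothReg.mem_smoothLocus_of_isSeparable _ x (fun c => rfl) ?_
    rw [IsRegularLocalRing.iff_finrank_cotangentSpace, IsLocalRing.finrank_CotangentSpace_eq_one, hd]
    rfl
  · intro h
    have hreg := Groth.Agent.SmoothReg.isRegularLocalRing_stalk_of_mem_smoothLocus _ h
    rw [IsRegularLocalRing.iff_finrank_cotangentSpace, hd] at hreg
    refine IsLocalRing.finrank_CotangentSpace_eq_one_iff.mp ?_
    exact_mod_cast hreg

end Groth.Agent.S1556
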