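import Groth.Statements.S13844
import Groth.Agent.SmoothReg.Scheme
import Groth.Agent.S1556
import Groth.Agent.CDiv6.Normal

set_option autoImplicit false
universe u
open CategoryTheory CategoryTheory.Limits AlgebraicGeometry
attribute [local instance] Curv2.resAlgebra
open Curves

namespace Groth.Agent.S13844

/-- Let K be a field and C a normal curve over K, namely an integral normal separated K-scheme of finite
type of dimension one, and let S be a set of closed points of C whose residue fields are separable
over K. If the structure morphism of C is smooth at every point outside S, then it is smooth. (The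
published statement takes S to be a closed subscheme finite étale over K, that is finitely many such
points; this row allows any set of closed points with separable residue fields.) -/
theorem result (K : Type u) [Field K] (C : Scheme.{u}) [C.Over (Spec (CommRingCat.of K))]
    [IsIntegral C] [IsSeparated (C ↘ (Spec (CommRingCat.of K)))] [LocallyOfFinitePresentation (C ↘ (Spec (CommRingCat.of K)))]
    [QuasiCompact (C ↘ (Spec (CommRingCat.of K)))] (hN : ∀ x : C, IsIntegrallyClosed (C.presheaf.stalk x))
    (hdim : topologicalKrullDim C = 1) (S : Set C)
    (hS : ∀ x ∈ S, IsClosed ({x} : Set C) ∧ Algebra.IsSeparable K (C.residueField x))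
    (hsm : ∀ x : C, x ∉ S → x ∈ (C ↘ (Spec (CommRingCat.of K))).smoothLocus) :
    AlgebraicGeometry.Smooth (C ↘ (Spec (CommRingCat.of K))) := by
  refine Scheme.Hom.smoothLocus_eq_top_iff.1 (eq_top_iff.2 fun x _ => ?_)
  by_cases hxS : x ∈ S
  · obtain ⟨hc, hsep⟩ := hS x hxS
    haveI := hsep
    haveI := LocallyOfFiniteType.isLocallyNoetherian (C ↘ Spec (CommRingCat.of K))
    haveI := hN x
    refine (S1556.result K C hdim x hc).1 ?_
    exact Groth.Agent.CDiv6.isDVR_of_dim_eq_one _
      ((Groth.Agent.SmoothReg.ringKrullDim_stalk_closedPoint (C ↘ Spec (CommRingCat.of K)) hc).trans hdim)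
  · exact hsm x hxS

end Groth.Agent.S13844
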