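import Groth.Statements.S13846
import Mathlib.LinearAlgebra.GeneralLinearGroup.AlgEquiv
import Mathlib.Algebra.Central.End

set_option backward.isDefEq.respectTransparency false
set_option backward.isDefEq.respectTransparency.types false
-- import your own Groth.Agent.* helpers here

set_option autoImplicit false
universe u v
open TwSh

namespace Groth.Agent.S13846

/-- Let k be a field and V, W finite-dimensional ℤ-graded k-vector spaces, V = ⊕ V_i with V ≠ 0 and W =
⊕ W_i. Let φ : End_k(V) ≃ End_k(W) be a k-algebra isomorphism which sends every endomorphism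
homogeneous of degree d (one mapping V_i into V_{i+d} for all i) to an endomorphism homogeneous of
degree d. Then there are an integer n and a k-linear isomorphism g : V ≅ W with g(V_i) = W_{i+n} for
every i such that φ(f) = g ∘ f ∘ g⁻¹ for all f; moreover n is unique and g is unique up to a nonzero
scalar: if g' : V ≅ W satisfies g'(V_i) = W_{i+n'} for all i and φ(f) = g' ∘ f ∘ g'⁻¹ for all f,
then n' = n and g' = c·g for some c ∈ kˣ. (The published statement is about non-zero perfect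
complexes over k: an isomorphism of their derived endomorphism algebras, as algebra objects of the
derived category, is induced by an isomorphism from the first complex to a shift of the second, for
a unique shift and up to a unit; this row is its form for finite-dimensional ℤ-graded vector spaces,
to which the bounded derived category of a field is equivalent by taking cohomology.) -/
theorem result (k : Type u) [Field k] (V W : Type v) [AddCommGroup V] [Module k V] [FiniteDimensional k V] [Nontrivial V] [AddCommGroup W] [Module k W] [FiniteDimensional k W] (𝒱 : ℤ → Submodule k V) (h𝒱 : DirectSum.IsInternal 𝒱) (𝒲 : ℤ → Submodule k W) (h𝒲 : DirectSum.IsInternal 𝒲) (φ : Module.End k V ≃ₐ[k] Module.End k W) (hφ : ∀ (d : ℤ) (f : Module.End k V), (∀ (i : ℤ) (x : V), x ∈ 𝒱 i → f x ∈ 𝒱 (i + d)) → ∀ (i : ℤ) (y : W), y ∈ 𝒲 i → φ f y ∈ 𝒲 (i + d)) : ∃ (n : ℤ) (g : V ≃ₗ[k] W), (∀ i : ℤ, Submodule.map (g : V →ₗ[k] W) (𝒱 i) = 𝒲 (i + n)) ∧ (∀ f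 : Module.End k V, φ f = (g : V →ₗ[k] W) ∘ₗ f ∘ₗ (g.symm : W →ₗ[k] V)) ∧ ∀ (n' : ℤ) (g' : V ≃ₗ[k] W), (∀ i : ℤ, Submodule.map (g' : V →ₗ[k] W) (𝒱 i) = 𝒲 (i + n')) → (∀ f : Module.End k V, φ f = (g' : V →ₗ[k] W) ∘ₗ f ∘ₗ (g'.symm : W →ₗ[k] V)) → n' = n ∧ ∃ c : kˣ, ∀ x : V, g' x = c • g x :=  by
  classical
  obtain ⟨g, rfl⟩ := φ.eq_linearEquivConjAlgEquiv
  have hVsup : iSup 𝒱 = ⊤ := h𝒱.submodule_iSup_eq_top
  have hWsup : iSup 𝒲 = ⊤ := h𝒲.submodule_iSup_eq_top
  obtain ⟨a, v₀, hv₀, hne⟩ : ∃ (a : ℤ) (v : V), v ∈ 𝒱 a ∧ v ≠ 0 := by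
    by_contra h
    push Not at h
    refine bot_ne_top (α := Submodule k V) (hVsup ▸ (iSup_eq_bot.2 fun i => ?_).symm)
    exact (Submodule.eq_bot_iff _).2 fun x hx => h i x hx
  obtain ⟨ξ₀, hξne, hξbot⟩ := Submodule.exists_dual_map_eq_bot_of_notMem (p := ⨆ (l : ℤ) (_ : l ≠ a), 𝒱 l) (x := v₀)
    (fun h => hne (Submodule.disjoint_def.1 (h𝒱.submodule_iSupIndep a) v₀ hv₀ h)) inferInstance
  let ξ : V →ₗ[k] k := (ξ₀ v₀)⁻¹ • ξ₀
  have hξ1 : ξ v₀ = 1 := by simp [ξ, hξne]
  have hξ0 : ∀ l, l ≠ a → ∀ x ∈ 𝒱 l, ξ x = 0 := fun l hl x hx => by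
    have h1 : ξ₀ x ∈ (⨆ (l : ℤ) (_ : l ≠ a), 𝒱 l).map ξ₀ :=
      Submodule.mem_map_of_mem (Submodule.mem_iSup_of_mem l (Submodule.mem_iSup_of_mem hl hx))
    rw [hξbot, Submodule.mem_bot] at h1
    simp [ξ, h1]
  have hdeg : ∀ i, ∀ v ∈ 𝒱 i, ∀ (l : ℤ) (x : V), x ∈ 𝒱 l → ξ.smulRight v x ∈ 𝒱 (l + (i - a)) := by
    intro i v hv l x hx
    rcases eq_or_ne l a with rfl | hl
    · rw [add_sub_cancel]
      exact Submodule.smul_mem _ _ hv
    · simp [hξ0 l hl x hx]
  have hconj : ∀ (f : Module.End k V) (y : W), g.conjAlgEquiv k f y = g (f (g.symm y)) := fun _ _ => rfl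
  obtain ⟨b, hb⟩ : ∃ b, g v₀ ∈ 𝒲 b := by
    obtain ⟨b, y, hy, hqy⟩ : ∃ b, ∃ y ∈ 𝒲 b, g.conjAlgEquiv k (ξ.smulRight v₀) y ≠ 0 := by
      by_contra h
      push Not at h
      have h1 : (⊤ : Submodule k W) ≤ LinearMap.ker (g.conjAlgEquiv k (ξ.smulRight v₀)) :=
        hWsup ▸ iSup_le fun b y hy => h b y hy
      have h2 := h1 (Submodule.mem_top (x := g v₀))
      rw [LinearMap.mem_ker, hconj, g.symm_apply_apply] at h2
      exact hne (g.map_eq_zero_iff.1 (by simpa [hξ1] using h2))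
    refine ⟨b, ?_⟩
    have hmem := hφ 0 (ξ.smulRight v₀) (fun l x hx => by simpa using hdeg a v₀ hv₀ l x hx) b y hy
    rw [add_zero] at hmem
    have e : g.conjAlgEquiv k (ξ.smulRight v₀) y = ξ (g.symm y) • g v₀ := by
      rw [hconj, LinearMap.smulRight_apply, map_smul]
    rw [e] at hmem hqy
    exact (Submodule.smul_mem_iff _ (left_ne_zero_of_smul hqy)).1 hmem
  have hle : ∀ i, Submodule.map (g : V →ₗ[k] W) (𝒱 i) ≤ 𝒲 (i + (b - a)) := by
    rintro i _ ⟨v, hv, rfl⟩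
    have := hφ (i - a) (ξ.smulRight v) (hdeg i v hv) b (g v₀) hb
    rw [hconj, g.symm_apply_apply, LinearMap.smulRight_apply, hξ1, one_smul] at this
    rw [show i + (b - a) = b + (i - a) by ring]
    exact this
  refine ⟨b - a, g, fun i => le_antisymm (hle i) fun y hy => ?_, fun f => rfl, ?_⟩
  · have htop : g.symm y ∈ 𝒱 i ⊔ ⨆ (l : ℤ) (_ : l ≠ i), 𝒱 l := by
      rw [← iSup_split_single, hVsup]
      trivial
    obtain ⟨x₁, hx₁, x₂, hx₂, hx⟩ := Submodule.mem_sup.1 htop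
    have hy' : y = g x₁ + g x₂ := by rw [← map_add, hx, g.apply_symm_apply]
    have h1 : g x₂ ∈ 𝒲 (i + (b - a)) := by
      have := sub_mem hy (hle i (Submodule.mem_map_of_mem hx₁))
      rw [hy'] at this
      simpa using this
    have h2 : g x₂ ∈ ⨆ (l : ℤ) (_ : l ≠ i + (b - a)), 𝒲 l := by
      have := Submodule.mem_map_of_mem (f := (g : V →ₗ[k] W)) hx₂
      rw [Submodule.map_iSup] at this
      revert this
      refine fun this => SetLike.le_def.1 (iSup_le fun l => ?_) this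
      rw [Submodule.map_iSup]
      exact iSup_le fun hl => (hle l).trans (le_iSup₂_of_le (l + (b - a)) (fun h => hl (add_right_cancel h)) le_rfl)
    rw [hy', Submodule.disjoint_def.1 (h𝒲.submodule_iSupIndep _) _ h1 h2, add_zero]
    exact Submodule.mem_map_of_mem hx₁
  · intro n' g' hn' hf'
    obtain ⟨c, hc⟩ := (LinearEquiv.conjAlgEquiv_ext_iff' (S := k) g' g).1 (AlgEquiv.ext fun f => (hf' f).symm)
    refine ⟨?_, c, fun x => by rw [hc]; rfl⟩
    by_contra hnn
    have h1 : g' v₀ ∈ 𝒲 (a + n') := hn' a ▸ Submodule.mem_map_of_mem (f := (g' : V →ₗ[k] W)) hv₀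
    have h2 : g' v₀ ∈ ⨆ (l : ℤ) (_ : l ≠ a + n'), 𝒲 l := by
      refine Submodule.mem_iSup_of_mem b (Submodule.mem_iSup_of_mem (fun h => hnn (by omega)) ?_)
      rw [hc]
      exact Submodule.smul_mem _ _ hb
    exact hne (g'.map_eq_zero_iff.1 (Submodule.disjoint_def.1 (h𝒲.submodule_iSupIndep _) _ h1 h2))
end Groth.Agent.S13846
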