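import Groth.Statements.S13847
import Groth.Agent.TwShAlg.StronglyLocal

set_option backward.isDefEq.respectTransparency false
set_option backward.isDefEq.respectTransparency.types false
-- import your own Groth.Agent.* helpers here

set_option autoImplicit false
universe u v
open TwSh

namespace Groth.Agent.S13847

/-- Let A be a ring which is strongly local, that is, the quotient of A by its Jacobson radical J is a
simple left-Artinian ring, and let P and Q be finitely generated projective left A-modules. If
End_A(P) and End_A(Q) are isomorphic as rings, then P ≅ Q as A-modules. (The published assertion
says more, that every ring isomorphism End_A(P) ≅ End_A(Q) is induced by an isomorphism P ≅ Q; that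
is not correct for isomorphisms which are not linear over the centre — complex conjugation is a ring
automorphism of End_ℂ(ℂ) = ℂ induced by no ℂ-linear map — and this row keeps the existence of an
isomorphism P ≅ Q, which is what the first part of the printed proof establishes.) -/
theorem result (A : Type u) [Ring A] [IsSimpleRing (A ⧸ Ring.jacobson A)] [IsArtinianRing (A ⧸ Ring.jacobson A)] (P Q : Type v) [AddCommGroup P] [Module A P] [Module.Finite A P] [Module.Projective A P] [AddCommGroup Q] [Module A Q] [Module.Finite A Q] [Module.Projective A Q] (e : Module.End A P ≃+* Module.End A Q) : Nonempty (P ≃ₗ[A] Q) :=  Groth.Agent.TwShAlg.nonempty_linearEquiv_of_ringEquiv_end e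
end Groth.Agent.S13847
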