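import Groth.Statements.S13848
import Mathlib

set_option backward.isDefEq.respectTransparency false
set_option backward.isDefEq.respectTransparency.types false
-- import your own Groth.Agent.* helpers here

set_option autoImplicit false
universe u v
open TwSh

namespace Groth.Agent.S13848

/-- Let A be a ring with A/J a simple left-Artinian ring, J the Jacobson radical, and let P be a
non-zero finitely generated projective left A-module. An A-linear automorphism u of P which commutes
with every A-linear endomorphism of P (equivalently, induces the identity on End_A(P) by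
conjugation) is scalar multiplication by a unique central element a of A: u(x) = a·x for all x ∈ P,
and a is determined by u. (So the automorphisms of P acting trivially on End_A(P) are exactly the
central units of A acting by scalars; the published assertion does not exclude P = 0, where
uniqueness fails.) -/
theorem result (A : Type u) [Ring A] [IsSimpleRing (A ⧸ Ring.jacobson A)] [IsArtinianRing (A ⧸ Ring.jacobson A)] (P : Type v) [AddCommGroup P] [Module A P] [Module.Finite A P] [Module.Projective A P] [Nontrivial P] (u : P ≃ₗ[A] P) (hu : ∀ f : Module.End A P, (u : P →ₗ[A] P) ∘ₗ f = f ∘ₗ (u : P →ₗ[A] P)) : ∃! a : A, (∀ b : A, a * b = b * a) ∧ ∀ x : P, u x = a • x := by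
  classical
  let T : Submodule A A := ⨆ φ : P →ₗ[A] A, LinearMap.range φ
  have hTr : ∀ x ∈ T, ∀ b : A, x * b ∈ T := by
    intro x hx b
    refine Submodule.iSup_induction _ (motive := fun x => x * b ∈ T) hx ?_ (by simp) ?_
    · rintro φ y ⟨p, rfl⟩
      exact Submodule.mem_iSup_of_mem ((LinearMap.toSpanSingleton A A b).comp φ) ⟨p, rfl⟩
    · intro y z hy hz; rw [add_mul]; exact add_mem hy hz
  let J := Ring.jacobson A
  let π : A →+* A ⧸ J := Ideal.Quotient.mk J
  let I : TwoSidedIdeal (A ⧸ J) := TwoSidedIdeal.mk' (π '' (T : Set A)) ⟨0, T.zero_mem, map_zero π⟩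
    (by rintro _ _ ⟨x, hx, rfl⟩ ⟨y, hy, rfl⟩; exact ⟨x + y, T.add_mem hx hy, map_add π x y⟩)
    (by rintro _ ⟨x, hx, rfl⟩; exact ⟨-x, T.neg_mem hx, map_neg π x⟩)
    (by
      rintro c _ ⟨x, hx, rfl⟩
      obtain ⟨c, rfl⟩ := Ideal.Quotient.mk_surjective c
      exact ⟨c * x, T.smul_mem c hx, map_mul π c x⟩)
    (by
      rintro _ c ⟨x, hx, rfl⟩
      obtain ⟨c, rfl⟩ := Ideal.Quotient.mk_surjective c
      exact ⟨x * c, hTr x hx c, map_mul π x c⟩)
  have hI : ∀ y, y ∈ I ↔ y ∈ π '' (T : Set A) := fun y => TwoSidedIdeal.mem_mk' _ _ _ _ _ _ y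
  obtain ⟨s, hs⟩ := (Module.Projective.out (R := A) (P := P))
  have hTP : (⊤ : Submodule A P) ≤ T • (⊤ : Submodule A P) := by
    intro p _
    rw [← hs p, Finsupp.linearCombination_apply]
    refine Submodule.sum_mem _ fun q _ => Submodule.smul_mem_smul ?_ trivial
    exact Submodule.mem_iSup_of_mem ((Finsupp.lapply q).comp s) ⟨p, rfl⟩
  have h1 : (1 : A) ∈ T := by
    rcases IsSimpleOrder.eq_bot_or_eq_top I with hb | ht
    · exfalso
      have hTJ : T ≤ J := fun x hx => Ideal.Quotient.eq_zero_iff_mem.1 (by
        have : π x ∈ I := (hI _).2 ⟨x, hx, rfl⟩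
        rwa [hb, TwoSidedIdeal.mem_bot] at this)
      have hle : (⊤ : Submodule A P) ≤ J • ⊤ := hTP.trans (Submodule.smul_mono_left hTJ)
      have hbot : (⊤ : Submodule A P) = ⊥ :=
        Submodule.FG.eq_bot_of_le_jacobson_smul Module.Finite.fg_top hle
      exact top_ne_bot hbot
    · obtain ⟨x, hx, hx1⟩ := (hI 1).1 (ht ▸ trivial)
      rw [← map_one π] at hx1
      have hmem : x - 1 ∈ J := Ideal.Quotient.eq.1 hx1
      have hspan : Submodule.span A {x} = (⊤ : Submodule A A) := by
        by_contra hne
        obtain ⟨m, hm, hle⟩ := Ideal.exists_le_maximal (Ideal.span {x}) hne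
        have hJm : J ≤ m := sInf_le hm.out
        refine hm.out.1 ((Ideal.eq_top_iff_one m).2 ?_)
        simpa using m.sub_mem (hle (Ideal.subset_span rfl)) (hJm hmem)
      exact (hspan ▸ Submodule.span_le.2 (Set.singleton_subset_iff.2 hx) : (⊤ : Submodule A A) ≤ T) trivial
  obtain ⟨f, hf, hf1⟩ := (Submodule.mem_iSup_iff_exists_finsupp _ _).1 h1
  choose q hq using hf
  let a : A := ∑ φ ∈ f.support, φ (u (q φ))
  have hux : ∀ x : P, u x = a • x := by
    intro x
    calc u x = (∑ φ ∈ f.support, f φ) • u x := by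
          rw [show (∑ φ ∈ f.support, f φ) = 1 from hf1, one_smul]
      _ = _ := by
          rw [Finset.sum_smul, Finset.sum_smul]
          refine Finset.sum_congr rfl fun φ _ => ?_
          have := LinearMap.congr_fun (hu ((LinearMap.toSpanSingleton A P x).comp φ)) (q φ)
          simp only [LinearMap.comp_apply, LinearMap.toSpanSingleton_apply, LinearEquiv.coe_coe, map_smul] at this
          rwa [hq φ] at this
  have hfaith : ∀ b : A, (∀ x : P, b • x = 0) → b = 0 := by
    intro b hb
    calc b = b * (f.sum fun _ x => x) := by rw [hf1, mul_one]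
      _ = 0 := by
        rw [Finsupp.sum, Finset.mul_sum]
        refine Finset.sum_eq_zero fun φ _ => ?_
        rw [← hq φ, ← smul_eq_mul, ← map_smul, hb, map_zero]
  refine ⟨a, ⟨fun b => ?_, hux⟩, fun c hc => ?_⟩
  · refine sub_eq_zero.1 (hfaith _ fun x => ?_)
    rw [sub_smul, mul_smul, mul_smul, ← hux, ← hux, map_smul, sub_self]
  · refine sub_eq_zero.1 (hfaith _ fun x => ?_)
    rw [sub_smul, ← hux, ← hc.2, sub_self]
end Groth.Agent.S13848
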