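import Groth.Statements.S13860
import Mathlib

set_option autoImplicit false
universe u v w
open ModRep

namespace Groth.Agent.S13860

/-- For k a field of characteristic p > 0, G a finite group and P a Sylow p-subgroup of G, a short exact
sequence of k[G]-modules has a k[G]-linear splitting exactly when it has a k[P]-linear one. Stated
here for the surjection of the sequence: a G-equivariant k-linear map g : B → C between k-linear
representations of G admits a G-equivariant k-linear section if and only if it admits a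
P-equivariant k-linear section. -/
theorem result {k : Type u} [Field k] (p : ℕ) [Fact p.Prime]
    [CharP k p] {G : Type v} [Group G] [Finite G] (P : Sylow p G)
    {B C : Type w} [AddCommGroup B] [Module k B] [AddCommGroup C] [Module k C]
    (ρB : Representation k G B) (ρC : Representation k G C)
    (g : B →ₗ[k] C) (hg : ∀ x : G, g ∘ₗ ρB x = ρC x ∘ₗ g) :
    (∃ s : C →ₗ[k] B, g ∘ₗ s = LinearMap.id ∧ ∀ x : G, s ∘ₗ ρC x = ρB x ∘ₗ s) ↔
      (∃ s : C →ₗ[k] B, g ∘ₗ s = LinearMap.id ∧ ∀ x : G, x ∈ P → s ∘ₗ ρC x = ρB x ∘ₗ s) := by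
  refine ⟨fun ⟨s, h1, h2⟩ => ⟨s, h1, fun x _ => h2 x⟩, fun ⟨s, h1, h2⟩ => ?_⟩
  have hP : ∀ (a : G) (x : G), x ∈ P →
      ρB (a * x) ∘ₗ s ∘ₗ ρC (a * x)⁻¹ = ρB a ∘ₗ s ∘ₗ ρC a⁻¹ := by
    intro a x hx
    have e : s ∘ₗ ρC x⁻¹ = ρB x⁻¹ ∘ₗ s := h2 _ (inv_mem hx)
    ext v
    simp only [LinearMap.comp_apply, mul_inv_rev, map_mul, Module.End.mul_apply]
    rw [← LinearMap.comp_apply s, e, LinearMap.comp_apply]
    congr 1
    rw [← Module.End.mul_apply, ← map_mul, mul_inv_cancel, map_one, Module.End.one_apply]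
  let term : G ⧸ (P : Subgroup G) → (C →ₗ[k] B) := fun q =>
    Quotient.liftOn' q (fun a => ρB a ∘ₗ s ∘ₗ ρC a⁻¹) (fun a b hab => by
      rw [QuotientGroup.leftRel_apply] at hab
      have := hP a (a⁻¹ * b) hab
      rwa [mul_inv_cancel_left, eq_comm] at this)
  have : Fintype (G ⧸ (P : Subgroup G)) := Fintype.ofFinite _
  have hidx : ((Fintype.card (G ⧸ (P : Subgroup G)) : ℕ) : k) ≠ 0 := by
    rw [Ne, CharP.cast_eq_zero_iff k p]
    rw [← Nat.card_eq_fintype_card]
    exact P.not_dvd_index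
  let c : k := (Fintype.card (G ⧸ (P : Subgroup G)) : k)
  refine ⟨c⁻¹ • ∑ q, term q, ?_, fun a => ?_⟩
  · rw [LinearMap.comp_smul,
      show g ∘ₗ ∑ q, term q = ∑ q, g ∘ₗ term q from LinearMap.ext fun v => by simp]
    have ht : ∀ q, g ∘ₗ term q = LinearMap.id := by
      intro q
      induction q using QuotientGroup.induction_on with
      | H b =>
        change g ∘ₗ ρB b ∘ₗ s ∘ₗ ρC b⁻¹ = LinearMap.id
        rw [← LinearMap.comp_assoc, hg b, LinearMap.comp_assoc, ← LinearMap.comp_assoc (ρC b⁻¹), h1,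
          LinearMap.id_comp]
        change ρC b * ρC b⁻¹ = 1
        rw [← map_mul, mul_inv_cancel, map_one]
    simp only [ht, Finset.sum_const, Finset.card_univ]
    rw [← Nat.cast_smul_eq_nsmul k, smul_smul, inv_mul_cancel₀ hidx, one_smul]
  · rw [LinearMap.smul_comp, LinearMap.comp_smul]
    congr 1
    have ht : ∀ q, term (a • q) ∘ₗ ρC a = ρB a ∘ₗ term q := by
      intro q
      induction q using QuotientGroup.induction_on with
      | H b =>
        change (ρB (a * b) ∘ₗ s ∘ₗ ρC (a * b)⁻¹) ∘ₗ ρC a = ρB a ∘ₗ ρB b ∘ₗ s ∘ₗ ρC b⁻¹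
        ext v
        simp only [LinearMap.comp_apply, mul_inv_rev, map_mul, Module.End.mul_apply]
        congr 4
        rw [← Module.End.mul_apply, ← map_mul, inv_mul_cancel, map_one, Module.End.one_apply]
    calc (∑ q, term q) ∘ₗ ρC a = (∑ q, term (a • q)) ∘ₗ ρC a := by
          rw [← Equiv.sum_comp (MulAction.toPerm a) term]; rfl
      _ = ∑ q, (term (a • q) ∘ₗ ρC a) := LinearMap.ext fun v => by simp
      _ = ρB a ∘ₗ ∑ q, term q := by simp only [ht]; exact LinearMap.ext fun v => by simp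

end Groth.Agent.S13860
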