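import Groth.Statements.S13863
import Groth.Agent.ASCov.Coords

set_option autoImplicit false
universe u
open ASCover

namespace Groth.Agent.S13863

/-- For k an algebraically closed field of characteristic p > 0, n ≥ 1 an integer prime to p, and u ∈
k[[t]] the power series with constant term 1 and u^n · (1 + t^n) = 1, the substitution σ(t) = t·u is
a k-automorphism of k((t)) of order p and, for an integer a, σ acts on the fractional ideal I =
t^a·k[[t]]; transported to B = k[[t]] along h ↦ t^a·h this action is h ↦ u^a · h(t·u). For an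
integer i with a − n ≤ i ≤ a − 1 the element σ(t^i) − t^i lies in I, so t^i defines a class in
H^1(⟨σ⟩, I); the classes with p ∤ i form a basis of this H^1, and when p divides i the class
vanishes, i.e. σ(t^i) − t^i = σ(w) − w for some w ∈ I. (The published statement of this vanishing is
printed with the condition p ∤ i, which contradicts the basis assertion of the same lemma; its proof
treats p | i, and this row states that case.) In transported form, with m = a − i ∈ [1, n] and c ∈
k[[t]] defined by t^m · c = u^i − 1: there is h ∈ k[[t]] with u^a · h(t·u) − h = c. -/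
theorem result {k : Type u} [Field k] [IsAlgClosed k] (p : ℕ)
    [Fact p.Prime] [CharP k p] (n : ℕ) (hn : 0 < n) (hpn : ¬ p ∣ n)
    (u : PowerSeries k) (hu1 : PowerSeries.constantCoeff u = 1)
    (hun : u ^ n * (1 + PowerSeries.X ^ n) = 1) (hu : IsUnit u) (a : ℤ) (m : ℕ)
    (hm1 : 1 ≤ m) (hmn : m ≤ n) (hdvd : (p : ℤ) ∣ a - m) (c : PowerSeries k)
    (hc : PowerSeries.X ^ m * c = ((hu.unit ^ (a - m) : (PowerSeries k)ˣ) : PowerSeries k) - 1) :
    ∃ h : PowerSeries k,
      ((hu.unit ^ a : (PowerSeries k)ˣ) : PowerSeries k) * PowerSeries.subst (PowerSeries.X * u) h - h = c := by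
  classical
  have hU : ASCov.Good p n hu.unit := ⟨hn, hpn, hu1, hun⟩
  have hz : ((a - m : ℤ) : k) = 0 := (CharP.intCast_eq_zero_iff k p _).mpr hdvd
  have hlow : PowerSeries.X ^ n ∣ c := by
    rw [PowerSeries.X_pow_dvd_iff]
    intro e he
    rw [ASCov.cocycle_coeff p n hu.unit hU a m hc (by omega), hz, zero_div, neg_zero, ite_self]
  obtain ⟨h, hh⟩ := ASCov.solve p n hu.unit hU a (ASCov.cocycle_mem p n hu.unit hU a m hc) hlow
  refine ⟨h, ?_⟩
  rw [← hh, ASCov.D_apply, ASCov.sig_apply, IsUnit.unit_spec]

end Groth.Agent.S13863
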