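import Groth.Statements.S1387
import Mathlib
import Groth.Agent.LocDimFormula.Vertical

set_option autoImplicit false
universe u
open FlatMor

namespace Groth.Agent.S1387

open AlgebraicGeometry CategoryTheory Limits in
/-- Let f : X → S be dominant and locally of finite type with X and S irreducible, let η be the generic
point of S and s a point with dim X_s ≤ dim X_η, and let Z be a locally principal closed subscheme
of X (its ideal sheaf is generated by one section on an affine neighbourhood of each point) whose
generic fibre is empty. Then, set-theoretically, the fibre of Z over s is a union of irreducible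
components of the fibre of X over s. -/
theorem result {X S : Scheme.{u}} (f : X ⟶ S) [IrreducibleSpace ↑S] [IrreducibleSpace ↑X] [IsDominant f] [LocallyOfFiniteType f]
    (s : S) (hdim : topologicalKrullDim ↑(f.fiber s) ≤ topologicalKrullDim ↑(f.fiber (genericPoint ↑S)))
    (Z : X.IdealSheafData) (hZ : ∀ x : X, ∃ (U : X.Opens) (hU : IsAffineOpen U) (g : Γ(X, U)), x ∈ U ∧ Z.ideal ⟨U, hU⟩ = Ideal.span {g})
    (hη : ∀ x ∈ (Z.support : Set ↑X), f x ≠ genericPoint ↑S) :
    ∀ x : ↑(f ⁻¹' {s}), (x : ↑X) ∈ (Z.support : Set ↑X) →
      ∃ C ∈ irreducibleComponents ↑(f ⁻¹' {s}), x ∈ C ∧ Subtype.val '' C ⊆ (Z.support : Set ↑X) := by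
  intro x hxZ
  obtain ⟨z, hz, hfz, hmax, hzZ⟩ :=
    Groth.Agent.LocDimFormula.exists_component f s hdim Z hZ hη x.1 x.2 hxZ
  exact Groth.Agent.LocDimFormula.exists_irreducibleComponent f s Z x z hz hfz hmax hzZ

end Groth.Agent.S1387
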