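import Groth.Statements.S13874
import Groth.Agent.PolLib.UnivHomeo
import Groth.Agent.MorLib.RingUnivHomeo
-- import your own Groth.Agent.* helpers here

set_option autoImplicit false
universe u
open scoped TensorProduct
open AlgebraicGeometry
open ZeroCyc

namespace Groth.Agent.S13874

/-- Affine form. Let A be a commutative ring, B an A-algebra and d ≥ 1; let (C, γ) be the degree-d
divided power algebra Γ^d_A(B) with its universal multiplicative law γ : B → C of degree d (every
multiplicative law of degree d out of B factors uniquely through γ), and let φ : Γ^d_A(B) →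
TS^d_A(B) be the canonical homomorphism to the symmetric tensors, taken as data characterised by:
after any base change S, φ ∘ γ sends Σ_j s_j ⊗ b_j to Σ_{c : [d] → [n]} (∏_i s_{c(i)}) ⊗ (b_{c(1)} ⊗
⋯ ⊗ b_{c(d)}), i.e. φ corresponds to the law x ↦ x ⊗ ⋯ ⊗ x. Then the morphism Spec TS^d_A(B) → Spec
Γ^d_A(B) induced by φ (the comparison map from the d-th symmetric product of Spec B over Spec A to
the scheme of degree-d divided powers) is a universal homeomorphism inducing an isomorphism on every
residue field. (The published statement is for a separated algebraic space X over an algebraic space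
S; this row is its content for X = Spec B over S = Spec A. The second assertion of the published
statement, that the map is an isomorphism when B is flat over A or A contains the rationals, is not
part of this row.) -/
theorem result {A B C : Type u} [CommRing A] [CommRing B] [Algebra A B] [CommRing C] [Algebra A C] (d : ℕ) (hd : 0 < d)
    (γ : PolLaw.MulLaw A B C d) (hγ : PolLaw.IsGammaD γ) (φ : C →ₐ[A] SymTen.TS A B d)
    (hφ : ∀ (S : Type u) [CommSemiring S] [Algebra A S] (n : ℕ) (s : Fin n → S) (b : Fin n → B),
      ((SymTen.TS A B d).val.comp φ).toLinearMap.lTensor S (γ.law.toFun' S (∑ j, s j ⊗ₜ[A] b j)) =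
        ∑ c : Fin d → Fin n, (∏ i, s (c i)) ⊗ₜ[A] PiTensorProduct.tprod A (fun i => b (c i))) :
    FlatMor.IsUnivHomeo (Spec.map (CommRingCat.ofHom φ.toRingHom)) ∧
      ∀ x : ↥(Spec (CommRingCat.of (SymTen.TS A B d))),
        Function.Surjective ((Spec.map (CommRingCat.ofHom φ.toRingHom)).residueFieldMap x).hom := by
  obtain ⟨hk, hp⟩ := Groth.Agent.PolLib.pow_factorial_spec γ hγ φ hφ
  have hfr := fun (P : Ideal (SymTen.TS A B d)) [P.IsPrime] (t : SymTen.TS A B d) =>
    Groth.Agent.PolLib.exists_fraction' γ φ hφ P t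
  have hint : φ.toRingHom.IsIntegral := fun y => by
    obtain ⟨c, hc⟩ := hp y
    refine ⟨Polynomial.X ^ d.factorial - Polynomial.C c,
      Polynomial.monic_X_pow_sub_C c d.factorial_ne_zero, ?_⟩
    rw [Polynomial.eval₂_sub, Polynomial.eval₂_pow, Polynomial.eval₂_X, Polynomial.eval₂_C]
    exact sub_eq_zero.mpr hc.symm
  have hrad : Groth.Agent.MorLib.RUH.Radicial φ.toRingHom := by
    intro K _ f g hfg
    have hfg' : ∀ c, f (φ c) = g (φ c) := fun c => RingHom.congr_fun hfg c
    have : (RingHom.ker f).IsPrime := RingHom.ker_isPrime f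
    have hker : ∀ u, f u = 0 → g u = 0 := fun u hu => by
      obtain ⟨c, hc⟩ := hp u
      have := hfg' c
      rw [hc, map_pow, map_pow, hu, zero_pow d.factorial_ne_zero] at this
      exact pow_eq_zero_iff d.factorial_ne_zero |>.mp this.symm
    refine RingHom.ext fun y => ?_
    obtain ⟨a, s, hs, h⟩ := hfr (RingHom.ker f) y
    have hf0 : f (φ s * y - φ a) = 0 := h
    have hg0 := hker _ hf0
    rw [map_sub, map_mul, sub_eq_zero] at hf0 hg0
    have hs' : g (φ s) ≠ 0 := fun e => hs (by rw [RingHom.mem_ker, hfg', e])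
    rw [← hfg' a, ← hf0, hfg' s] at hg0
    exact (mul_left_cancel₀ hs' hg0).symm
  refine ⟨(Groth.Agent.MorLib.RUH.isUnivHomeo_SpecMap_iff φ.toRingHom).mpr ⟨hint, hrad, ?_⟩,
    fun x => (Groth.Agent.MorLib.RUH.residueFieldMap_surjective_iff φ.toRingHom x).mpr fun b => ?_⟩
  · intro Q
    let _ : Algebra C (SymTen.TS A B d) := φ.toRingHom.toAlgebra
    have : Algebra.IsIntegral C (SymTen.TS A B d) := ⟨hint⟩
    obtain ⟨P, -, hP, hPQ⟩ := Ideal.exists_ideal_over_prime_of_isIntegral Q.asIdeal
      (⊥ : Ideal (SymTen.TS A B d)) (fun x hx => Q.isPrime.mem_of_pow_mem d.factorial (by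
        rw [hk x hx]
        exact zero_mem _))
    exact ⟨⟨P, hP⟩, PrimeSpectrum.ext hPQ⟩
  · have := x.isPrime
    exact hfr x.asIdeal b

end Groth.Agent.S13874
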