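import Groth.Statements.S13877
import Mathlib.RingTheory.Discriminant
import Mathlib.LinearAlgebra.FreeModule.Finite.Quotient
import Mathlib.RingTheory.OrderOfVanishing.Basic
import Mathlib.RingTheory.PowerSeries.Inverse

set_option autoImplicit false
universe u v
open Crimp

namespace Groth.Agent.S13877

open Matrix in
theorem associated_discr {R B ι : Type*} [CommRing R] [CommRing B] [Algebra R B] [Fintype ι]
    [DecidableEq ι] (b b' : Module.Basis ι R B) :
    Associated (Algebra.discr R b) (Algebra.discr R b') := by
  have h := Algebra.discr_of_matrix_vecMul (b' : ι → B) (b'.toMatrix b)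
  rw [Module.Basis.toMatrix_map_vecMul] at h
  have : IsUnit (b'.toMatrix b).det :=
    (Matrix.isUnit_iff_isUnit_det _).mp ⟨⟨b'.toMatrix b, b.toMatrix b', b'.toMatrix_mul_toMatrix_flip b,
      b.toMatrix_mul_toMatrix_flip b'⟩, rfl⟩
  rw [h, mul_comm]
  exact associated_mul_unit_left _ _ (this.pow 2)



/-- Over R = k⟦t⟧ with k an algebraically closed field of characteristic zero, let S' be a commutative
R-algebra with an R-basis of size d whose discriminant generates the ideal (t ^ a) (a finite cover
of the formal disk of degree d, unramified over the punctured disk, with branch divisor (t ^ a)),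
and let S be an R-subalgebra of S' with an R-basis of size d whose discriminant generates (t ^ b) (a
crimp with branch divisor (t ^ b)). Then t ^ b annihilates S' / S and twice the R-length of S' / S
plus a equals b. (The published statement is for a family of such subalgebras over a k-scheme T and
also asserts T-flatness of the quotient; this row is its restriction to T a point.) -/
theorem result {k : Type u} [Field k] [IsAlgClosed k] [CharZero k]
    {St : Type v} [CommRing St] [Algebra (PowerSeries k) St] (d a b : ℕ)
    (bt : Module.Basis (Fin d) (PowerSeries k) St)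
    (ha : Ideal.span {Algebra.discr (PowerSeries k) ⇑bt} = Ideal.span {(PowerSeries.X : PowerSeries k) ^ a})
    (S : Subalgebra (PowerSeries k) St) (bS : Module.Basis (Fin d) (PowerSeries k) S)
    (hb : Ideal.span {Algebra.discr (PowerSeries k) ⇑bS} = Ideal.span {(PowerSeries.X : PowerSeries k) ^ b}) :
    (∀ q : St ⧸ Subalgebra.toSubmodule S, ((PowerSeries.X : PowerSeries k) ^ b) • q = 0) ∧
    2 * Module.length (PowerSeries k) (St ⧸ Subalgebra.toSubmodule S) + (a : ℕ∞) = (b : ℕ∞) := by
  classical
  let N := Subalgebra.toSubmodule S
  let bN : Module.Basis (Fin d) (PowerSeries k) N := bS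
  have h : Module.finrank (PowerSeries k) N = Module.finrank (PowerSeries k) St := by
    rw [Module.finrank_eq_card_basis bN, Module.finrank_eq_card_basis bt]
  let c := Submodule.smithNormalFormCoeffs bt h
  let t := Submodule.smithNormalFormTopBasis bt h
  let s : Module.Basis (Fin d) (PowerSeries k) S := Submodule.smithNormalFormBotBasis bt h
  have hs : ∀ i, (s i : St) = c i • t i := Submodule.smithNormalFormBotBasis_def bt h
  have hc : ∀ i, c i ≠ 0 := Submodule.smithNormalFormCoeffs_ne_zero bt h
  -- the trace of `S` is that of `St`
  have htr : ∀ x : S, Algebra.trace (PowerSeries k) S x = Algebra.trace (PowerSeries k) St (x : St) := by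
    intro x
    rw [Algebra.trace_eq_matrix_trace s, Algebra.trace_eq_matrix_trace t]
    refine Finset.sum_congr rfl fun i _ => mul_left_cancel₀ (hc i) ?_
    rw [Matrix.diag_apply, Matrix.diag_apply, Algebra.leftMulMatrix_eq_repr_mul,
      Algebra.leftMulMatrix_eq_repr_mul]
    calc c i * s.repr (x * s i) i
        = t.repr (((x * s i : S) : St)) i := by
          conv_rhs => rw [← s.sum_repr (x * s i)]
          simp only [AddSubmonoidClass.coe_finset_sum, SetLike.val_smul, hs, smul_smul,
            t.repr_sum_self]
          ring
      _ = c i * t.repr ((x : St) * t i) i := by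
          rw [MulMemClass.coe_mul, hs, mul_smul_comm, map_smul, Finsupp.smul_apply, smul_eq_mul]
  have hdisc : Algebra.discr (PowerSeries k) s =
      (∏ i, c i) ^ 2 * Algebra.discr (PowerSeries k) t := by
    have hvm : Matrix.vecMul (t : Fin d → St)
        ((Matrix.diagonal c).map (algebraMap (PowerSeries k) St)) = fun i => c i • t i := by
      funext i
      rw [Matrix.diagonal_map (map_zero _), Matrix.vecMul_diagonal, Algebra.smul_def, mul_comm]
    rw [← Matrix.det_diagonal, ← Algebra.discr_of_matrix_vecMul, hvm, Algebra.discr_def,
      Algebra.discr_def]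
    congr 1
    ext i j
    rw [Algebra.traceMatrix_apply, Algebra.traceMatrix_apply, Algebra.traceForm_apply,
      Algebra.traceForm_apply, htr, MulMemClass.coe_mul, hs, hs]
  have hX : (PowerSeries.X : PowerSeries k) ∈ nonZeroDivisors (PowerSeries k) :=
    mem_nonZeroDivisors_of_ne_zero PowerSeries.X_ne_zero
  have h1 : Associated ((PowerSeries.X : PowerSeries k) ^ b)
      ((∏ i, c i) ^ 2 * (PowerSeries.X : PowerSeries k) ^ a) := by
    refine (Ideal.span_singleton_eq_span_singleton.mp hb).symm.trans ?_
    refine (associated_discr bS s).trans ?_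
    rw [hdisc]
    exact ((associated_discr t bt).trans (Ideal.span_singleton_eq_span_singleton.mp ha)).mul_left _
  have hdvd : ∀ i, c i ∣ (PowerSeries.X : PowerSeries k) ^ b := fun i =>
    (((Finset.dvd_prod_of_mem c (Finset.mem_univ i)).trans (dvd_pow_self _ two_ne_zero)).trans
      (dvd_mul_right _ _)).trans h1.symm.dvd
  let e := Submodule.quotientEquivPiSpan N bt h
  constructor
  · intro q
    refine e.injective ?_
    rw [map_smul, map_zero]
    funext i
    obtain ⟨y, hy⟩ := Ideal.Quotient.mk_surjective (e q i)
    rw [Pi.smul_apply, ← hy]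
    exact Ideal.Quotient.eq_zero_iff_mem.mpr
      (Ideal.mem_span_singleton.mpr ((hdvd i).trans (dvd_mul_right _ _)))
  · have hordX : Ring.ord (PowerSeries k) (PowerSeries.X : PowerSeries k) = 1 := by
      refine Module.length_eq_one_iff.mpr (isSimpleModule_iff_isCoatom.mpr (Ideal.isMaximal_def.mp ?_))
      rw [← PowerSeries.maximalIdeal_eq_span_X]
      infer_instance
    have hmem : ∀ i, c i ∈ nonZeroDivisors (PowerSeries k) := fun i =>
      mem_nonZeroDivisors_of_ne_zero (hc i)
    have hprod : ∀ T : Finset (Fin d),
        Ring.ord (PowerSeries k) (∏ i ∈ T, c i) = ∑ i ∈ T, Ring.ord (PowerSeries k) (c i) := by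
      intro T
      induction T using Finset.induction_on with
      | empty => simp [Ring.ord_one]
      | insert i T hiT ih =>
        rw [Finset.prod_insert hiT, Finset.sum_insert hiT,
          Ring.ord_mul (PowerSeries k) (prod_mem fun j _ => hmem j), ih]
    have hlen : Module.length (PowerSeries k) (St ⧸ N) = Ring.ord (PowerSeries k) (∏ i, c i) := by
      rw [e.length_eq, Module.length_pi_of_fintype, hprod]
      rfl
    have h2 : Ring.ord (PowerSeries k) ((PowerSeries.X : PowerSeries k) ^ b) =
        Ring.ord (PowerSeries k) ((∏ i, c i) ^ 2 * (PowerSeries.X : PowerSeries k) ^ a) := by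
      unfold Ring.ord
      rw [Ideal.span_singleton_eq_span_singleton.mpr h1]
    rw [Ring.ord_mul _ (pow_mem hX a), Ring.ord_pow hX, Ring.ord_pow hX,
      Ring.ord_pow (prod_mem fun j _ => hmem j), hordX, ← hlen] at h2
    simp only [nsmul_eq_mul, mul_one, Nat.cast_ofNat] at h2
    exact h2.symm

end Groth.Agent.S13877
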