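import Groth.Statements.S13878
import Mathlib.LinearAlgebra.Matrix.ToLinearEquiv
import Mathlib.LinearAlgebra.Matrix.NonsingularInverse
import Mathlib.RingTheory.PowerSeries.Inverse
import Mathlib.LinearAlgebra.Dimension.Constructions

set_option autoImplicit false
universe u
open Crimp

namespace Groth.Agent.S13878

open PowerSeries
/-- Three vectors independent modulo `X` span the free module of rank three. -/
theorem exists_coords {k : Type*} [Field k] (v : Fin 3 → Fin 3 → PowerSeries k)
    (h : LinearIndependent k fun j => fun i => constantCoeff (v j i)) (x : Fin 3 → PowerSeries k) :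
    ∃ c : Fin 3 → PowerSeries k, ∑ j, c j • v j = x := by
  let M : Matrix (Fin 3) (Fin 3) (PowerSeries k) := Matrix.of v
  have hu : IsUnit M.det := by
    rw [PowerSeries.isUnit_iff_constantCoeff, RingHom.map_det]
    exact (Matrix.isUnit_iff_isUnit_det _).mp (Matrix.linearIndependent_rows_iff_isUnit.mp h)
  refine ⟨Matrix.vecMul x M⁻¹, ?_⟩
  have h1 : Matrix.vecMul (Matrix.vecMul x M⁻¹) M = x := by
    rw [Matrix.vecMul_vecMul, Matrix.nonsing_inv_mul _ hu, Matrix.vecMul_one]
  refine Eq.trans ?_ h1
  rw [Matrix.vecMul_eq_sum]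
  rfl



/-- Over R = k⟦t⟧ with k an algebraically closed field of characteristic zero, let S' = R × R × R (the
unramified triple cover of the formal disk) and let S be an R-submodule of S' containing 1 such that
S' / S is isomorphic to R / (t ^ m) ⊕ R / (t ^ n) with m ≤ n. Then t ^ n S' is contained in S, and
there is f in S', not lying in R·1 + t S', such that S = R·1 + R·(t ^ m f) + t ^ n S'. -/
theorem result {k : Type u} [Field k] [IsAlgClosed k] [CharZero k] (m n : ℕ) (hmn : m ≤ n)
    (S : Submodule (PowerSeries k) (Fin 3 → PowerSeries k))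
    (h1 : (1 : (Fin 3 → PowerSeries k)) ∈ S)
    (e : ((Fin 3 → PowerSeries k) ⧸ S) ≃ₗ[PowerSeries k]
      ((PowerSeries k ⧸ Ideal.span {(PowerSeries.X : PowerSeries k) ^ m}) × (PowerSeries k ⧸ Ideal.span {(PowerSeries.X : PowerSeries k) ^ n}))) :
    Ideal.span {(PowerSeries.X : PowerSeries k) ^ n} • (⊤ : Submodule (PowerSeries k) (Fin 3 → PowerSeries k)) ≤ S ∧
    ∃ f : (Fin 3 → PowerSeries k),
      f ∉ Submodule.span (PowerSeries k) {(1 : (Fin 3 → PowerSeries k))} ⊔ Ideal.span {(PowerSeries.X : PowerSeries k)} • (⊤ : Submodule (PowerSeries k) (Fin 3 → PowerSeries k)) ∧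
      S = Submodule.span (PowerSeries k) {(1 : (Fin 3 → PowerSeries k)), ((PowerSeries.X : PowerSeries k) ^ m) • f} ⊔
        Ideal.span {(PowerSeries.X : PowerSeries k) ^ n} • (⊤ : Submodule (PowerSeries k) (Fin 3 → PowerSeries k)) := by
  set q : (Fin 3 → PowerSeries k) →ₗ[PowerSeries k]
      ((PowerSeries k ⧸ Ideal.span {(X : PowerSeries k) ^ m}) ×
        (PowerSeries k ⧸ Ideal.span {(X : PowerSeries k) ^ n})) :=
    e.toLinearMap ∘ₗ S.mkQ with hqdef
  have hker : ∀ x, x ∈ S ↔ q x = 0 := fun x => by simp [hqdef]
  have hkill : ∀ p : (PowerSeries k ⧸ Ideal.span {(X : PowerSeries k) ^ m}) ×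
      (PowerSeries k ⧸ Ideal.span {(X : PowerSeries k) ^ n}), ((X : PowerSeries k) ^ n) • p = 0 := by
    rintro ⟨p₁, p₂⟩
    obtain ⟨a, rfl⟩ := Ideal.Quotient.mk_surjective p₁
    obtain ⟨b, rfl⟩ := Ideal.Quotient.mk_surjective p₂
    refine Prod.ext ?_ ?_
    · show Ideal.Quotient.mk _ ((X : PowerSeries k) ^ n * a) = 0
      exact Ideal.Quotient.eq_zero_iff_mem.mpr
        (Ideal.mem_span_singleton.mpr (dvd_mul_of_dvd_left (pow_dvd_pow _ hmn) _))
    · show Ideal.Quotient.mk _ ((X : PowerSeries k) ^ n * b) = 0
      exact Ideal.Quotient.eq_zero_iff_mem.mpr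
        (Ideal.mem_span_singleton.mpr (dvd_mul_right _ _))
  have hle : Ideal.span {(X : PowerSeries k) ^ n} • (⊤ : Submodule (PowerSeries k) (Fin 3 → PowerSeries k)) ≤ S := by
    rw [Submodule.smul_le]
    intro r hr x _
    obtain ⟨c, rfl⟩ := Ideal.mem_span_singleton'.mp hr
    rw [mul_smul, hker, map_smul, map_smul, hkill, smul_zero]
  refine ⟨hle, ?_⟩
  set W := Submodule.span (PowerSeries k) {(1 : Fin 3 → PowerSeries k)} ⊔
    Ideal.span {(X : PowerSeries k)} • (⊤ : Submodule (PowerSeries k) (Fin 3 → PowerSeries k)) with hW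
  let C : (Fin 3 → PowerSeries k) → (Fin 3 → k) := fun x i => constantCoeff (x i)
  have hmemW : ∀ x ∈ W, C x ∈ Submodule.span k {(1 : Fin 3 → k)} := by
    intro x hx
    obtain ⟨y, hy, z, hz, rfl⟩ := Submodule.mem_sup.mp hx
    obtain ⟨a, rfl⟩ := Submodule.mem_span_singleton.mp hy
    rw [Submodule.ideal_span_singleton_smul] at hz
    obtain ⟨z, -, rfl⟩ := hz
    refine Submodule.mem_span_singleton.mpr ⟨constantCoeff a, ?_⟩
    funext i
    simp [C]
  -- the endgame
  have final : ∀ f u : Fin 3 → PowerSeries k, LinearIndependent k ![C 1, C f, C u] →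
      q f = (1, 0) → q u = (0, 1) → S = Submodule.span (PowerSeries k)
        {(1 : (Fin 3 → PowerSeries k)), ((X : PowerSeries k) ^ m) • f} ⊔
        Ideal.span {(X : PowerSeries k) ^ n} • (⊤ : Submodule (PowerSeries k) (Fin 3 → PowerSeries k)) := by
    intro f u hind hf hu
    refine le_antisymm (fun x hx => ?_) (sup_le (Submodule.span_le.mpr ?_) hle)
    · obtain ⟨c, hc⟩ := exists_coords ![1, f, u] (by
        convert hind using 1
        funext j i
        fin_cases j <;> rfl) x
      simp only [Fin.sum_univ_three, Matrix.cons_val_zero, Matrix.cons_val_one, Matrix.cons_val] at hc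
      have h0 := (hker x).mp hx
      rw [← hc, map_add, map_add, map_smul, map_smul, map_smul, hf, hu,
        (hker 1).mp h1, smul_zero, zero_add] at h0
      have hb : Ideal.Quotient.mk (Ideal.span {(X : PowerSeries k) ^ m}) (c 1) = 0 := by
        have := congrArg Prod.fst h0
        simp only [Prod.fst_add, Prod.smul_fst, smul_zero, add_zero, Prod.fst_zero] at this
        rw [← mul_one (c 1)]
        exact this
      have hd : Ideal.Quotient.mk (Ideal.span {(X : PowerSeries k) ^ n}) (c 2) = 0 := by
        have := congrArg Prod.snd h0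
        simp only [Prod.snd_add, Prod.smul_snd, smul_zero, zero_add, Prod.snd_zero] at this
        rw [← mul_one (c 2)]
        exact this
      obtain ⟨b, hb⟩ := Ideal.mem_span_singleton'.mp (Ideal.Quotient.eq_zero_iff_mem.mp hb)
      rw [← hc]
      refine add_mem (add_mem ?_ ?_) ?_
      · exact Submodule.mem_sup_left (Submodule.smul_mem _ _ (Submodule.subset_span (by simp)))
      · rw [← hb, mul_smul]
        exact Submodule.mem_sup_left (Submodule.smul_mem _ _ (Submodule.subset_span (by simp)))
      · exact Submodule.mem_sup_right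
          (Submodule.smul_mem_smul (Ideal.Quotient.eq_zero_iff_mem.mp hd) trivial)
    · rintro z (rfl | rfl)
      · exact h1
      · show _ ∈ S
        rw [hker, map_smul, hf]
        refine Prod.ext ?_ ?_
        · show Ideal.Quotient.mk _ ((X : PowerSeries k) ^ m * 1) = 0
          exact Ideal.Quotient.eq_zero_iff_mem.mpr (Ideal.mem_span_singleton.mpr (dvd_mul_right _ _))
        · exact smul_zero _
  have hone : C 1 ≠ 0 := fun hC => one_ne_zero (α := k) (by simpa [C] using congrFun hC 0)
  -- existence of a vector outside any plane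
  have hplane : ∀ s : Set (Fin 3 → k), s.Finite → s.ncard ≤ 2 →
      ∃ w : Fin 3 → PowerSeries k, C w ∉ Submodule.span k s := by
    intro s hs hcard
    have hne : Submodule.span k s ≠ ⊤ := by
      intro htop
      have := hs.fintype
      have h3 := finrank_span_le_card (R := k) s
      rw [htop, finrank_top, Module.finrank_fin_fun, ← Set.ncard_eq_toFinset_card'] at h3
      omega
    obtain ⟨v, -, hv⟩ := SetLike.exists_of_lt (lt_top_iff_ne_top.mpr hne)
    refine ⟨fun i => PowerSeries.C (v i), ?_⟩
    convert hv
    funext i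
    simp [C]
  by_cases hn : n = 0
  · subst hn
    obtain ⟨w, hw⟩ := hplane {1} (Set.finite_singleton _) (by simp)
    refine ⟨w, fun h => hw (hmemW w h), ?_⟩
    rw [pow_zero, Ideal.span_singleton_one, Submodule.top_smul] at hle ⊢
    rw [sup_top_eq]
    exact top_le_iff.mp hle
  obtain ⟨u, hu⟩ : ∃ u, q u = (0, 1) :=
    ((e.surjective.comp S.mkQ_surjective) (0, 1))
  have indep2 : ∀ a c : k, a • C 1 + c • C u = 0 → c = 0 := by
    intro a c hac
    by_contra hc
    set y := PowerSeries.C a • (1 : Fin 3 → PowerSeries k) + PowerSeries.C c • u with hy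
    have : ∀ i, (X : PowerSeries k) ∣ y i := fun i => by
      rw [X_dvd_iff]
      simpa [hy, C] using congrFun hac i
    choose z hz using this
    have hyz : y = (X : PowerSeries k) • z := funext fun i => hz i
    have h2 := congrArg Prod.snd (congrArg q hyz)
    rw [hy, map_add, map_smul, map_smul, map_smul, (hker 1).mp h1, hu, smul_zero, zero_add] at h2
    obtain ⟨d, hd⟩ := Ideal.Quotient.mk_surjective (q z).2
    simp only [Prod.smul_snd, ← hd] at h2
    have h4 : PowerSeries.C c * 1 - X * d ∈ Ideal.span {(X : PowerSeries k) ^ n} :=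
      Ideal.Quotient.eq.mp h2
    have h5 := X_dvd_iff.mp ((dvd_pow_self X hn).trans (Ideal.mem_span_singleton.mp h4))
    simp at h5
    exact hc h5
  by_cases hm : m = 0
  · obtain ⟨w, hw⟩ := hplane {C 1, C u} (Set.toFinite _)
      (le_trans (Set.ncard_insert_le _ _) (by simp))
    obtain ⟨c, hc⟩ := Ideal.Quotient.mk_surjective (q w).2
    have hsub : ∀ p p' : PowerSeries k ⧸ Ideal.span {(X : PowerSeries k) ^ m}, p = p' := by
      intro p p'
      obtain ⟨p, rfl⟩ := Ideal.Quotient.mk_surjective p
      obtain ⟨p', rfl⟩ := Ideal.Quotient.mk_surjective p'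
      exact Ideal.Quotient.eq.mpr (by simp [hm])
    set f := w - c • u
    have hqf : q f = (1, 0) := by
      refine Prod.ext (hsub _ _) ?_
      show (q (w - c • u)).2 = 0
      rw [map_sub, map_smul, hu, Prod.snd_sub, Prod.smul_snd, ← hc]
      show Ideal.Quotient.mk _ c - Ideal.Quotient.mk _ (c * 1) = 0
      rw [mul_one, sub_self]
    have hCf : C f = C w - constantCoeff c • C u := by funext i; simp [C, f]
    have hind : LinearIndependent k ![C 1, C f, C u] := by
      rw [Fintype.linearIndependent_iff]
      intro g hg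
      simp only [Fin.sum_univ_three, Matrix.cons_val_zero, Matrix.cons_val_one, Matrix.cons_val,
        hCf] at hg
      have hg1 : g 1 = 0 := by
        by_contra hg1
        apply hw
        have hw' : C w = (-(g 0) / g 1) • C 1 + ((g 1 * constantCoeff c - g 2) / g 1) • C u := by
          funext i
          have := congrFun hg i
          simp only [Pi.add_apply, Pi.smul_apply, smul_eq_mul, Pi.sub_apply, Pi.zero_apply] at this ⊢
          field_simp
          linear_combination this
        rw [hw']
        exact add_mem (Submodule.smul_mem _ _ (Submodule.subset_span (by simp)))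
          (Submodule.smul_mem _ _ (Submodule.subset_span (by simp)))
      rw [hg1, zero_smul, add_zero] at hg
      have hg2 := indep2 _ _ hg
      rw [hg2, zero_smul, add_zero, smul_eq_zero] at hg
      intro j; fin_cases j
      · exact hg.resolve_right hone
      · exact hg1
      · exact hg2
    refine ⟨f, fun hf => ?_, final f u hind hqf hu⟩
    obtain ⟨a, ha⟩ := Submodule.mem_span_singleton.mp (hmemW f hf)
    apply hw
    have hC1 : C 1 = 1 := by funext i; simp [C]
    have hw' : C w = a • C 1 + constantCoeff c • C u := by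
      rw [hC1, ha, hCf, sub_add_cancel]
    rw [hw']
    exact add_mem (Submodule.smul_mem _ _ (Submodule.subset_span (by simp)))
      (Submodule.smul_mem _ _ (Submodule.subset_span (by simp)))
  obtain ⟨f, hf⟩ : ∃ f, q f = (1, 0) :=
    ((e.surjective.comp S.mkQ_surjective) (1, 0))
  have indep1 : ∀ a b c : k, a • C 1 + b • C f + c • C u = 0 → b = 0 := by
    intro a b c hac
    by_contra hb
    set y := PowerSeries.C a • (1 : Fin 3 → PowerSeries k) + PowerSeries.C b • f + PowerSeries.C c • u
      with hy
    have : ∀ i, (X : PowerSeries k) ∣ y i := fun i => by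
      rw [X_dvd_iff]
      simpa [hy, C] using congrFun hac i
    choose z hz using this
    have hyz : y = (X : PowerSeries k) • z := funext fun i => hz i
    have h2 := congrArg Prod.fst (congrArg q hyz)
    rw [hy, map_add, map_add, map_smul, map_smul, map_smul, map_smul, (hker 1).mp h1, hu, hf,
      smul_zero, zero_add] at h2
    obtain ⟨d, hd⟩ := Ideal.Quotient.mk_surjective (q z).1
    simp only [Prod.fst_add, Prod.smul_fst, ← hd, smul_zero, add_zero] at h2
    have h4 : PowerSeries.C b * 1 - X * d ∈ Ideal.span {(X : PowerSeries k) ^ m} :=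
      Ideal.Quotient.eq.mp h2
    have h5 := X_dvd_iff.mp ((dvd_pow_self X hm).trans (Ideal.mem_span_singleton.mp h4))
    simp at h5
    exact hb h5
  have hind : LinearIndependent k ![C 1, C f, C u] := by
    rw [Fintype.linearIndependent_iff]
    intro g hg
    simp only [Fin.sum_univ_three, Matrix.cons_val_zero, Matrix.cons_val_one, Matrix.cons_val] at hg
    have hg1 := indep1 _ _ _ hg
    rw [hg1, zero_smul, add_zero] at hg
    have hg2 := indep2 _ _ hg
    rw [hg2, zero_smul, add_zero, smul_eq_zero] at hg
    intro j; fin_cases j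
    · exact hg.resolve_right hone
    · exact hg1
    · exact hg2
  refine ⟨f, fun hfW => ?_, final f u hind hf hu⟩
  obtain ⟨a, ha⟩ := Submodule.mem_span_singleton.mp (hmemW f hfW)
  have hC1 : C 1 = 1 := by funext i; simp [C]
  have := indep1 (-a) 1 0 (by rw [hC1, ← ha]; simp)
  exact one_ne_zero this

end Groth.Agent.S13878
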