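import Groth.Statements.S13879


set_option autoImplicit false
universe u
open Crimp

namespace Groth.Agent.S13879

/-- Over R = k⟦t⟧ with k an algebraically closed field of characteristic zero, let S' = R × R × R and
let S be the R-submodule R·1 + R·(t ^ m f) + t ^ n S' of S' for some f in S' and natural numbers m,
n. Then S is closed under multiplication (equivalently, is an R-subalgebra of S') if and only if t ^
(2m) f ^ 2 lies in S. (The published statement has m ≤ n and S' / S isomorphic to R / (t ^ m) ⊕ R /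
(t ^ n), under which S has this shape; this row states the criterion for every submodule of this
shape.) -/
theorem result {k : Type u} [Field k] [IsAlgClosed k] [CharZero k] (m n : ℕ) (f : (Fin 3 → PowerSeries k))
    (S : Submodule (PowerSeries k) (Fin 3 → PowerSeries k))
    (hS : S = Submodule.span (PowerSeries k) {(1 : (Fin 3 → PowerSeries k)), ((PowerSeries.X : PowerSeries k) ^ m) • f} ⊔
        Ideal.span {(PowerSeries.X : PowerSeries k) ^ n} • (⊤ : Submodule (PowerSeries k) (Fin 3 → PowerSeries k))) :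
    (∀ x ∈ S, ∀ y ∈ S, x * y ∈ S) ↔ ((PowerSeries.X : PowerSeries k) ^ (2 * m)) • (f * f) ∈ S := by
  let u : Fin 3 → PowerSeries k := ((PowerSeries.X : PowerSeries k) ^ m) • f
  let P := Ideal.span {(PowerSeries.X : PowerSeries k) ^ n} • (⊤ : Submodule (PowerSeries k) (Fin 3 → PowerSeries k))
  have hu : u * u = ((PowerSeries.X : PowerSeries k) ^ (2 * m)) • (f * f) := by
    simp only [u, smul_mul_assoc, mul_smul_comm, smul_smul, two_mul, pow_add]
  have hu' : u ∈ S := hS ▸ Submodule.mem_sup_left (Submodule.subset_span (Or.inr rfl))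
  refine ⟨fun h => hu ▸ h u hu' u hu', fun h x hx y hy => ?_⟩
  have hP : ∀ z ∈ P, ∀ w : Fin 3 → PowerSeries k, z * w ∈ P := fun z hz w => by
    change z ∈ Ideal.span {(PowerSeries.X : PowerSeries k) ^ n} • (⊤ : Submodule (PowerSeries k) (Fin 3 → PowerSeries k)) at hz
    rw [Submodule.ideal_span_singleton_smul, Submodule.mem_smul_pointwise_iff_exists] at hz
    obtain ⟨a, -, rfl⟩ := hz
    rw [smul_mul_assoc]
    exact Submodule.smul_mem_smul (Ideal.mem_span_singleton_self _) Submodule.mem_top
  rw [hS] at hx hy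
  obtain ⟨a, ha, b, hb, rfl⟩ := Submodule.mem_sup.1 hx
  obtain ⟨c, hc, e, he, rfl⟩ := Submodule.mem_sup.1 hy
  obtain ⟨a₁, a₂, rfl⟩ := Submodule.mem_span_pair.1 ha
  obtain ⟨c₁, c₂, rfl⟩ := Submodule.mem_span_pair.1 hc
  have key : ∀ z ∈ P, z ∈ S := fun z hz => hS ▸ Submodule.mem_sup_right hz
  have h1 : (1 : Fin 3 → PowerSeries k) ∈ S := hS ▸ Submodule.mem_sup_left (Submodule.subset_span (Or.inl rfl))
  rw [add_mul]
  refine add_mem ?_ (key _ (hP b hb _))
  rw [mul_add]
  refine add_mem ?_ (key _ (mul_comm e _ ▸ hP e he _))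
  rw [show ((PowerSeries.X : PowerSeries k) ^ m) • f = u from rfl]
  simp only [add_mul, mul_add, smul_mul_assoc, mul_smul_comm, one_mul, mul_one, smul_smul, smul_add]
  exact add_mem (add_mem (S.smul_mem _ h1) (S.smul_mem _ hu'))
    (add_mem (S.smul_mem _ hu') (S.smul_mem _ (hu ▸ h)))

end Groth.Agent.S13879
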