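import Groth.Statements.S13880
import Groth.Agent.CrimpLib.Double

set_option autoImplicit false
universe u
open Crimp

namespace Groth.Agent.S13880

/-- Over R = k⟦t⟧ with k an algebraically closed field of characteristic zero, let S' = R × R, the
trivial double cover of the formal disk (branch divisor (t ^ 0)). An R-subalgebra S of S' admits an
R-basis of size 2 whose discriminant generates (t ^ b), that is, S is a crimp with branch divisor (t
^ b), if and only if b = 2n for some n and S = R·1 + t ^ n S'. So there is exactly one such crimp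
when b is even and none when b is odd; moreover the subalgebra R·1 + t ^ n S' is isomorphic as an
R-algebra to R[y] / (y ^ 2 - t ^ (2n)) (existence of an isomorphism; y ↦ (t ^ n, -t ^ n)). (The
published statement also gives the space of crimps its reduced one-point scheme structure; this row
classifies its k-points.) -/
theorem result {k : Type u} [Field k] [IsAlgClosed k] [CharZero k] (b : ℕ) (S : Subalgebra (PowerSeries k) (Fin 2 → PowerSeries k)) :
    ((∃ bS : Module.Basis (Fin 2) (PowerSeries k) S,
      Ideal.span {Algebra.discr (PowerSeries k) ⇑bS} = Ideal.span {(PowerSeries.X : PowerSeries k) ^ b}) ↔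
    ∃ n : ℕ, b = 2 * n ∧
      Subalgebra.toSubmodule S = Submodule.span (PowerSeries k) {(1 : (Fin 2 → PowerSeries k))} ⊔
        Ideal.span {(PowerSeries.X : PowerSeries k) ^ n} • (⊤ : Submodule (PowerSeries k) (Fin 2 → PowerSeries k))) ∧
    (∀ n : ℕ, Subalgebra.toSubmodule S = Submodule.span (PowerSeries k) {(1 : (Fin 2 → PowerSeries k))} ⊔
        Ideal.span {(PowerSeries.X : PowerSeries k) ^ n} • (⊤ : Submodule (PowerSeries k) (Fin 2 → PowerSeries k)) →
      Nonempty (S ≃ₐ[PowerSeries k] AdjoinRoot (Polynomial.X ^ 2 - Polynomial.C ((PowerSeries.X : PowerSeries k) ^ (2 * n))))) := by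
  have hh : (PowerSeries.C (1 / 2 : k)) * 2 = (1 : PowerSeries k) := by
    rw [show (2 : PowerSeries k) = PowerSeries.C (2 : k) from (map_ofNat _ 2).symm, ← map_mul]; norm_num
  let w : Fin 2 → PowerSeries k := ![1, -1]
  have hli : LinearIndependent (PowerSeries k) ![(1 : Fin 2 → PowerSeries k), w] := by
    rw [LinearIndependent.pair_iff]
    intro a c h
    have e0 := congrFun h 0
    have e1 := congrFun h 1
    simp [w] at e0 e1
    constructor
    · linear_combination (PowerSeries.C (1 / 2 : k)) * e0 + (PowerSeries.C (1 / 2 : k)) * e1 - a * hh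
    · linear_combination (PowerSeries.C (1 / 2 : k)) * e0 - (PowerSeries.C (1 / 2 : k)) * e1 - c * hh
  have hsp : ⊤ ≤ Submodule.span (PowerSeries k) (Set.range ![(1 : Fin 2 → PowerSeries k), w]) := by
    rintro z -
    rw [Submodule.mem_span_range_iff_exists_fun]
    refine ⟨![PowerSeries.C (1 / 2 : k) * (z 0 + z 1), PowerSeries.C (1 / 2 : k) * (z 0 - z 1)], ?_⟩
    funext l
    fin_cases l <;> simp [Fin.sum_univ_two, w] <;>
      simp only [one_div] at hh
    · linear_combination z 0 * hh
    · linear_combination z 1 * hh
  have := Groth.Agent.CrimpLib.double_crimp (Module.Basis.mk hli hsp) (by simp) 0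
    (by simp only [Module.Basis.mk_apply, pow_zero, map_one]; funext l; fin_cases l <;> simp [w]) b S
  exact ⟨by simpa only [add_zero] using this.1, fun n h => by have e := this.2 n h; rwa [show 2 * n + 0 = 2 * n from rfl] at e⟩

end Groth.Agent.S13880
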