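import Groth.Statements.S13882
import Mathlib.RingTheory.MvPolynomial.Basic
import Mathlib.RingTheory.Ideal.Quotient.Operations

set_option autoImplicit false
universe u
open FinCov

namespace Groth.Agent.S13882

/-- Over a field K of characteristic zero, the functor that sends a K-scheme S to the set of isomorphism
classes of pairs (A, τ) of an O_S-algebra A and an O_S-module isomorphism τ from A to the free
module of rank d, equivalently to the set of commutative unital algebra structures on the rank-d
free module with its standard basis, is represented by an affine K-scheme of finite type. Stated on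
affine K-schemes in one universe: there is a finitely generated commutative K-algebra B with
bijections between K-algebra maps B → A and based algebra structures of rank d over A, natural in
the commutative K-algebra A. -/
theorem result (K : Type u) [Field K] [CharZero K] (d : ℕ) :
    ∃ (B : Type u) (_ : CommRing B) (_ : Algebra K B) (_ : Algebra.FiniteType K B)
      (η : ∀ (A : Type u) [CommRing A] [Algebra K A], (B →ₐ[K] A) ≃ W4c1hurwitzcpt.BasedAlg d A),
      ∀ (A A' : Type u) [CommRing A] [Algebra K A] [CommRing A'] [Algebra K A']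
        (f : A →ₐ[K] A') (g : B →ₐ[K] A),
        η A' (f.comp g) = (η A g).map f.toRingHom := by
  classical
  let C : Fin d → Fin d → Fin d → MvPolynomial ((Fin d × Fin d × Fin d) ⊕ Fin d) K := fun i j k => MvPolynomial.X (Sum.inl (i, j, k))
  let U : Fin d → MvPolynomial ((Fin d × Fin d × Fin d) ⊕ Fin d) K := fun i => MvPolynomial.X (Sum.inr i)
  let J : Ideal (MvPolynomial ((Fin d × Fin d × Fin d) ⊕ Fin d) K) := Ideal.span
    ((Set.range fun t : Fin d × Fin d × Fin d => C t.1 t.2.1 t.2.2 - C t.2.1 t.1 t.2.2) ∪
      (Set.range fun t : Fin d × Fin d × Fin d × Fin d =>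
        (∑ k, C t.1 t.2.1 k * C k t.2.2.1 t.2.2.2) - ∑ k, C t.2.1 t.2.2.1 k * C t.1 k t.2.2.2) ∪
      (Set.range fun t : Fin d × Fin d => (∑ i, U i * C i t.1 t.2) - if t.1 = t.2 then 1 else 0))
  have hJ : ∀ (A : Type u) [CommRing A] [Algebra K A] (s : W4c1hurwitzcpt.BasedAlg d A), ∀ p ∈ J,
      MvPolynomial.aeval (R := K) (Sum.elim (fun t : Fin d × Fin d × Fin d => s.c t.1 t.2.1 t.2.2) s.u) p = 0 := by
    intro A _ _ s p hp
    have hle : J ≤ RingHom.ker (MvPolynomial.aeval (R := K)
        (Sum.elim (fun t : Fin d × Fin d × Fin d => s.c t.1 t.2.1 t.2.2) s.u)) := by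
      refine Ideal.span_le.mpr ?_
      rintro _ ((⟨t, rfl⟩ | ⟨t, rfl⟩) | ⟨t, rfl⟩) <;> rw [SetLike.mem_coe, RingHom.mem_ker, map_sub, sub_eq_zero]
      · simpa [C] using s.comm t.1 t.2.1 t.2.2
      · simpa [C] using s.assoc t.1 t.2.1 t.2.2.1 t.2.2.2
      · have h := s.unit t.1 t.2
        split_ifs with h1
        · simpa [C, U, h1] using h
        · simpa [C, U, h1] using h
    exact hle hp
  refine ⟨MvPolynomial ((Fin d × Fin d × Fin d) ⊕ Fin d) K ⧸ J, inferInstance, inferInstance, inferInstance, fun A _ _ =>
    { toFun := fun g =>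
        { c := fun i j k => g (Ideal.Quotient.mk J (C i j k))
          u := fun i => g (Ideal.Quotient.mk J (U i))
          comm := fun i j k => by
            congr 1
            exact Ideal.Quotient.eq.mpr (Ideal.subset_span (Or.inl (Or.inl ⟨(i, j, k), rfl⟩)))
          assoc := fun i j l m => by
            simp only [← map_mul, ← map_sum]
            congr 1
            exact Ideal.Quotient.eq.mpr (Ideal.subset_span (Or.inl (Or.inr ⟨(i, j, l, m), rfl⟩)))
          unit := fun j m => by
            simp only [← map_mul, ← map_sum]
            have h : Ideal.Quotient.mk J (∑ i, U i * C i j m) = Ideal.Quotient.mk J (if j = m then 1 else 0) :=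
              Ideal.Quotient.eq.mpr (Ideal.subset_span (Or.inr ⟨(j, m), rfl⟩))
            rw [h]; split <;> simp }
      invFun := fun s => Ideal.Quotient.liftₐ J
        (MvPolynomial.aeval (Sum.elim (fun t : Fin d × Fin d × Fin d => s.c t.1 t.2.1 t.2.2) s.u)) (hJ A s)
      left_inv := fun g => by
        apply Ideal.Quotient.algHom_ext
        apply MvPolynomial.algHom_ext
        rintro (⟨i, j, k⟩ | i) <;> simp [C, U]
      right_inv := fun s => by
        apply W4c1hurwitzcpt.BasedAlg.ext
        · funext i j k; simp [C]
        · funext i; simp [U] }, fun A A' _ _ _ _ f g => rfl⟩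


end Groth.Agent.S13882
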