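import Groth.Statements.S13883
import Groth.Agent.BlowPush22.Push
import Groth.Agent.H9Misc.RelExtTwistVanish
-- import your own Groth.Agent.* helpers here

set_option autoImplicit false
universe u
open AlgebraicGeometry CategoryTheory CategoryTheory.Limits
open SurfBl

namespace Groth.Agent.S13883

/-- Let k be an algebraically closed field of characteristic zero, X a k-scheme smooth of relative
dimension 2 over k, s a closed point of X, β : B → X a blowing up of X in the reduced point s
(universal property), E ⊆ B the exceptional divisor, i.e. the closed subscheme cut out by the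
inverse image ideal I_E of the ideal of s, and V a finite locally free O_B-module; write e : β^*β_*V
→ V for the counit of the pull-back / direct-image adjunction. Then: (1) β_*V is torsion free in the
sense that there is no non-zero map from the skyscraper κ(s) at s to β_*V; (2) if H^0(E, (V ⊗ L)|_E)
= 0 for every O_B-module L with L ⊗ I_E ≅ O_B (such L is O_B(E), and (V ⊗ L)|_E is V|_E ⊗ O_E(-1)),
then β_*V is finite locally free and e is a monomorphism; (3) if V|_E is generated by its global
sections then R^i β_*V = 0 for all i > 0 and e is an epimorphism. -/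
theorem result
    {k : Type u} [Field k] [IsAlgClosed k] [CharZero k]
    (X : Scheme.{u}) [X.Over (Spec (CommRingCat.of k))] [SmoothOfRelativeDimension 2 (X ↘ Spec (CommRingCat.of k))]
    (s : X) (hs : IsClosed ({s} : Set X))
    {B : Scheme.{u}} (β : B ⟶ X) (hβ : BlowUp.IsBlowUp β (Scheme.IdealSheafData.vanishingIdeal ⟨{s}, hs⟩))
    (V : B.Modules) (hV : FlatMod.IsFinLocFree V) [HasInjectiveResolutions B.Modules] :
    Subsingleton ((Scheme.Modules.pushforward (X.fromSpecResidueField s)).obj
        (Coh.structureModule (Spec (X.residueField s))) ⟶ (Scheme.Modules.pushforward β).obj V) ∧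
    ((∀ L : B.Modules, ClSub.IsInverseOf L (ClSub.idealMod (BlowUp.exceptional β (Scheme.IdealSheafData.vanishingIdeal ⟨{s}, hs⟩))) →
        Subsingleton (Coh.HH (BlowUp.exceptional β (Scheme.IdealSheafData.vanishingIdeal ⟨{s}, hs⟩)).subscheme
          ((Scheme.Modules.pullback (BlowUp.exceptional β (Scheme.IdealSheafData.vanishingIdeal ⟨{s}, hs⟩)).subschemeι).obj (CohB1.tensorMod V L)) 0)) →
      FlatMod.IsFinLocFree ((Scheme.Modules.pushforward β).obj V) ∧
        Mono ((Scheme.Modules.pullbackPushforwardAdjunction β).counit.app V)) ∧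
    (Curv2.IsGloballyGenerated ((Scheme.Modules.pullback (BlowUp.exceptional β (Scheme.IdealSheafData.vanishingIdeal ⟨{s}, hs⟩)).subschemeι).obj V) →
      (∀ i : ℕ, 0 < i → IsZero ((Coh.Rpush β i).obj V)) ∧
        Epi ((Scheme.Modules.pullbackPushforwardAdjunction β).counit.app V)) := by
  have hfin : (({s} : Set X)).Finite := Set.finite_singleton s
  have hpts : ∀ z ∈ ({s} : Set X), IsClosed ({z} : Set X) := fun z hz => by
    cases (Set.mem_singleton_iff.1 hz); exact hs
  refine ⟨⟨fun φ ψ => ?_⟩, fun h0 => ?_, fun hg => ⟨fun i hi => ?_, ?_⟩⟩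
  · rw [Groth.Agent.BlowPush22.hom_eq_zero β ⟨{s}, hs⟩ hβ hV _ (fun t => Scheme.fromSpecResidueField_apply s t) _ φ,
      Groth.Agent.BlowPush22.hom_eq_zero β ⟨{s}, hs⟩ hβ hV _ (fun t => Scheme.fromSpecResidueField_apply s t) _ ψ]
  · obtain ⟨L, hL⟩ := Groth.Agent.BlowPush22.exists_isInverseOf hβ.1
    have hlf := Groth.Agent.BlowPush22.isFinLocFree_push (X ↘ Spec (CommRingCat.of k)) β ⟨{s}, hs⟩ hfin hpts hβ hV hL (h0 L hL)
    exact ⟨hlf, Groth.Agent.BlowPush22.mono_counit β ⟨{s}, hs⟩ hβ hV hlf⟩
  · obtain ⟨q, rfl⟩ : ∃ q, i = q + 1 := ⟨i - 1, by omega⟩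
    exact Groth.Agent.H9Misc.RelExtTwistVanish.isZero_Rpush_of_RpushAb β V q
      (Groth.Agent.BlowPush22.isZero_RpushAb_of_gg (X ↘ Spec (CommRingCat.of k)) β ⟨{s}, hs⟩ hfin hpts hβ hV hg
        (q + 1) (by omega))
  · exact Groth.Agent.BlowPush22.epi_counit_of_gg (X ↘ Spec (CommRingCat.of k)) β ⟨{s}, hs⟩ hfin hpts hβ hV hg

end Groth.Agent.S13883
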