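import Groth.Statements.S13884
import Groth.Agent.CrimpLib.Val

set_option autoImplicit false
universe u
open Crimp

namespace Groth.Agent.S13884

/-- Over R = k⟦t⟧ with k an algebraically closed field of characteristic zero, let S' = k⟦x⟧ regarded as
an R-algebra through t ↦ x ^ 3, that is S' = R[x] / (x ^ 3 - t), the smooth totally ramified triple
cover of the formal disk. If M is an R-submodule of S' which is free of rank 3, then M has an
R-basis consisting of three power series whose x-adic valuations are pairwise distinct modulo 3.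
(Items (2) and (3) of the published proposition, on the base change of M to R[s] / (s ^ 3 - t), are
not restated.) -/
theorem result {k : Type u} [Field k] [IsAlgClosed k] [CharZero k]
    (M : Submodule (PowerSeries k) (W4c1hurwitzcpt.RootDisk 3 k))
    (bM : Module.Basis (Fin 3) (PowerSeries k) M) :
    ∃ g : Module.Basis (Fin 3) (PowerSeries k) M, ∀ i j : Fin 3, i ≠ j →
      ¬ Nat.ModEq 3 (PowerSeries.order (W4c1hurwitzcpt.RootDisk.val (((g i : M) : (W4c1hurwitzcpt.RootDisk 3 k)) : W4c1hurwitzcpt.RootDisk 3 k))).toNat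
        (PowerSeries.order (W4c1hurwitzcpt.RootDisk.val (((g j : M) : (W4c1hurwitzcpt.RootDisk 3 k)) : W4c1hurwitzcpt.RootDisk 3 k))).toNat := by
  obtain ⟨B₀⟩ := Groth.Agent.CrimpLib.exists_rootDisk_basis (k := k) (p := 3)
  obtain ⟨e, he⟩ := Groth.Agent.CrimpLib.exists_pow_smul_mem B₀ M bM
  obtain ⟨g, hg, hsp⟩ := Groth.Agent.CrimpLib.exists_val_generators M e he
  let φ : M →ₗ[PowerSeries k] M := bM.constr ℕ g
  have hs : Function.Surjective φ := by
    rw [← LinearMap.range_eq_top, bM.constr_range, hsp]
  haveI : Module.Finite (PowerSeries k) M := Module.Finite.of_basis bM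
  refine ⟨bM.map (LinearEquiv.ofBijective φ
    ⟨OrzechProperty.injective_of_surjective_endomorphism φ hs, hs⟩), fun i j hij hmod => ?_⟩
  have hb : ∀ l, bM.map (LinearEquiv.ofBijective φ
      ⟨OrzechProperty.injective_of_surjective_endomorphism φ hs, hs⟩) l = g l := fun l => by
    change φ (bM l) = g l; exact bM.constr_basis ℕ g l
  rw [hb, hb] at hmod
  obtain ⟨d, hd, hdo⟩ := hg i
  obtain ⟨d', hd', hdo'⟩ := hg j
  rw [hdo, hdo', ENat.toNat_coe, ENat.toNat_coe, Nat.ModEq, hd, hd'] at hmod
  exact hij (Fin.ext hmod)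

end Groth.Agent.S13884
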