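import Groth.Statements.S13885
import Groth.Agent.CrimpLib.Val

set_option autoImplicit false
universe u
open Crimp

namespace Groth.Agent.S13885

/-- Over R = k⟦t⟧ with k an algebraically closed field of characteristic zero, let S' = k⟦x⟧ × R, where
k⟦x⟧ is regarded as an R-algebra through t ↦ x ^ 2, that is S' = R[x] / (x ^ 2 - t) ⊕ R, the smooth
simply ramified triple cover of the formal disk, with R embedded diagonally. If M is an R-submodule
of S' containing 1 which is free of rank 3, then M is spanned by 1, (f₁, 0) and (f₂, 0) for some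
power series f₁, f₂ whose x-adic valuations are distinct modulo 2. (Items (2) and (3) of the
published proposition, on the base change of M to R[s] / (s ^ 2 - t), are not restated.) -/
theorem result {k : Type u} [Field k] [IsAlgClosed k] [CharZero k]
    (M : Submodule (PowerSeries k) (W4c1hurwitzcpt.RootDisk 2 k × PowerSeries k))
    (h1 : (1 : (W4c1hurwitzcpt.RootDisk 2 k × PowerSeries k)) ∈ M)
    (bM : Module.Basis (Fin 3) (PowerSeries k) M) :
    ∃ f₁ f₂ : W4c1hurwitzcpt.RootDisk 2 k,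
      ¬ Nat.ModEq 2 (PowerSeries.order (W4c1hurwitzcpt.RootDisk.val (f₁ : W4c1hurwitzcpt.RootDisk 2 k))).toNat (PowerSeries.order (W4c1hurwitzcpt.RootDisk.val (f₂ : W4c1hurwitzcpt.RootDisk 2 k))).toNat ∧
      M = Submodule.span (PowerSeries k) {(1 : (W4c1hurwitzcpt.RootDisk 2 k × PowerSeries k)), (f₁, 0), (f₂, 0)} := by
  obtain ⟨B₂⟩ := Groth.Agent.CrimpLib.exists_rootDisk_basis (k := k) (p := 2)
  let B₀ : Module.Basis (Fin 3) (PowerSeries k) (W4c1hurwitzcpt.RootDisk 2 k × PowerSeries k) :=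
    (B₂.prod (Module.Basis.singleton (Fin 1) (PowerSeries k))).reindex finSumFinEquiv
  obtain ⟨e, he⟩ := Groth.Agent.CrimpLib.exists_pow_smul_mem B₀ M bM
  let N := M.comap (LinearMap.inl (PowerSeries k) (W4c1hurwitzcpt.RootDisk 2 k) (PowerSeries k))
  obtain ⟨g, hg, hsp⟩ := Groth.Agent.CrimpLib.exists_val_generators N e (fun z => by
    change ((PowerSeries.X : PowerSeries k) ^ e • z, (0 : PowerSeries k)) ∈ M
    have := he (z, 0)
    rwa [Prod.smul_mk, smul_zero] at this)
  refine ⟨(g 0).1, (g 1).1, fun hmod => ?_, le_antisymm (fun z hz => ?_) ?_⟩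
  · obtain ⟨d, hd, hdo⟩ := hg 0
    obtain ⟨d', hd', hdo'⟩ := hg 1
    rw [hdo, hdo', ENat.toNat_coe, ENat.toNat_coe, Nat.ModEq, hd, hd'] at hmod
    exact absurd hmod (by decide)
  · have hf : z.1 - z.2 • (1 : W4c1hurwitzcpt.RootDisk 2 k) ∈ N := by
      change (z.1 - z.2 • (1 : W4c1hurwitzcpt.RootDisk 2 k), (0 : PowerSeries k)) ∈ M
      have := M.sub_mem hz (M.smul_mem z.2 h1)
      rwa [show z - z.2 • (1 : W4c1hurwitzcpt.RootDisk 2 k × PowerSeries k) =
        (z.1 - z.2 • (1 : W4c1hurwitzcpt.RootDisk 2 k), 0) from Prod.ext rfl (by simp)] at this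
    obtain ⟨c, hc⟩ := (Submodule.mem_span_range_iff_exists_fun (PowerSeries k)).1
      (hsp.ge (Submodule.mem_top (x := (⟨_, hf⟩ : N))))
    rw [Fin.sum_univ_two] at hc
    have hc' : c 0 • (g 0).1 + c 1 • (g 1).1 = z.1 - z.2 • (1 : W4c1hurwitzcpt.RootDisk 2 k) :=
      congrArg Subtype.val hc
    rw [show z = z.2 • (1 : W4c1hurwitzcpt.RootDisk 2 k × PowerSeries k) +
        (c 0 • ((g 0).1, (0 : PowerSeries k)) + c 1 • ((g 1).1, (0 : PowerSeries k))) from
      Prod.ext (by simp [hc']) (by simp)]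
    exact add_mem (Submodule.smul_mem _ _ (Submodule.subset_span (by simp)))
      (add_mem (Submodule.smul_mem _ _ (Submodule.subset_span (by simp)))
        (Submodule.smul_mem _ _ (Submodule.subset_span (by simp))))
  · rw [Submodule.span_le]
    rintro _ (rfl | rfl | rfl)
    exacts [h1, (g 0).2, (g 1).2]

end Groth.Agent.S13885
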