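import Groth.Statements.S13886
import Mathlib


set_option autoImplicit false
universe u
open Crimp

namespace Groth.Agent.S13886

/-- Over R = k⟦t⟧ with k an algebraically closed field of characteristic zero, let S' = R × R × R be the
unramified triple cover of the formal disk and let m ≤ n ≤ 2m be natural numbers. For every f in S'
not lying in R·1 + t S', the R-submodule S = R·1 + R·(t ^ m f) + t ^ n S' is closed under
multiplication, hence an R-subalgebra (a crimp), and S' / S is isomorphic to R / (t ^ m) ⊕ R / (t ^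
n) (so the crimp has μ-invariant n - m and branch divisor (t ^ (2(m+n)))). Together with the
structure result for submodules with this quotient, this identifies the k-points of the space of
crimps of splitting type (m, n), 2m ≥ n, with the submodules of this shape. (The published statement
moreover asserts that this stratum is an irreducible variety of dimension n - m; that part is not
restated.) -/
theorem result {k : Type u} [Field k] [IsAlgClosed k] [CharZero k]
    (m n : ℕ) (hmn : m ≤ n) (hn : n ≤ 2 * m)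
    (f : (Fin 3 → PowerSeries k)) (hf : f ∉ Submodule.span (PowerSeries k) {(1 : (Fin 3 → PowerSeries k))} ⊔ Ideal.span {(PowerSeries.X : PowerSeries k)} • (⊤ : Submodule (PowerSeries k) (Fin 3 → PowerSeries k)))
    (S : Submodule (PowerSeries k) (Fin 3 → PowerSeries k))
    (hS : S = Submodule.span (PowerSeries k) {(1 : (Fin 3 → PowerSeries k)), ((PowerSeries.X : PowerSeries k) ^ m) • f} ⊔
        Ideal.span {(PowerSeries.X : PowerSeries k) ^ n} • (⊤ : Submodule (PowerSeries k) (Fin 3 → PowerSeries k))) :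
    (∀ x ∈ S, ∀ y ∈ S, x * y ∈ S) ∧
    Nonempty (((Fin 3 → PowerSeries k) ⧸ S) ≃ₗ[PowerSeries k]
      ((PowerSeries k ⧸ Ideal.span {(PowerSeries.X : PowerSeries k) ^ m}) × (PowerSeries k ⧸ Ideal.span {(PowerSeries.X : PowerSeries k) ^ n}))) := by
  let P := Ideal.span {(PowerSeries.X : PowerSeries k) ^ n} • (⊤ : Submodule (PowerSeries k) (Fin 3 → PowerSeries k))
  have hP : ∀ z, z ∈ P ↔ ∀ l, (PowerSeries.X : PowerSeries k) ^ n ∣ z l := fun z => by
    change z ∈ Ideal.span {(PowerSeries.X : PowerSeries k) ^ n} • (⊤ : Submodule (PowerSeries k) (Fin 3 → PowerSeries k)) ↔ _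
    rw [Submodule.ideal_span_singleton_smul, Submodule.mem_smul_pointwise_iff_exists]
    refine ⟨?_, fun h => ?_⟩
    · rintro ⟨a, -, rfl⟩ l; exact ⟨a l, rfl⟩
    · choose a ha using h
      exact ⟨a, Submodule.mem_top, funext fun l => (ha l).symm⟩
  let u : Fin 3 → PowerSeries k := ((PowerSeries.X : PowerSeries k) ^ m) • f
  have h1S : (1 : Fin 3 → PowerSeries k) ∈ S := hS ▸ Submodule.mem_sup_left (Submodule.subset_span (Or.inl rfl))
  have huS : u ∈ S := hS ▸ Submodule.mem_sup_left (Submodule.subset_span (Or.inr rfl))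
  have hPS : ∀ z ∈ P, z ∈ S := fun z hz => hS ▸ Submodule.mem_sup_right hz
  refine ⟨fun x hx y hy => ?_, ?_⟩
  · rw [hS] at hx hy
    obtain ⟨a, ha, b, hb, rfl⟩ := Submodule.mem_sup.1 hx
    obtain ⟨c, hc, e, he, rfl⟩ := Submodule.mem_sup.1 hy
    obtain ⟨a₁, a₂, rfl⟩ := Submodule.mem_span_pair.1 ha
    obtain ⟨c₁, c₂, rfl⟩ := Submodule.mem_span_pair.1 hc
    rw [show (a₁ • 1 + a₂ • ((PowerSeries.X : PowerSeries k) ^ m • f) + b) *
        (c₁ • 1 + c₂ • ((PowerSeries.X : PowerSeries k) ^ m • f) + e) =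
        ((a₁ * c₁) • (1 : Fin 3 → PowerSeries k) + (a₁ * c₂ + a₂ * c₁) • u) +
          ((a₂ * c₂) • (u * u) + (b * (c₁ • 1 + c₂ • u + e) + (a₁ • 1 + a₂ • u) * e)) by
      funext l; simp [u]; ring]
    refine add_mem (add_mem (S.smul_mem _ h1S) (S.smul_mem _ huS)) (hPS _ ((hP _).2 fun l => ?_))
    have hb' := (hP b).1 hb l
    have he' := (hP e).1 he l
    simp only [Pi.add_apply, Pi.mul_apply, Pi.smul_apply, smul_eq_mul]
    refine dvd_add (dvd_mul_of_dvd_right ?_ _) (dvd_add (dvd_mul_of_dvd_left hb' _) (dvd_mul_of_dvd_right he' _))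
    simp only [u, Pi.smul_apply, smul_eq_mul]
    rw [show (PowerSeries.X : PowerSeries k) ^ m * f l * (PowerSeries.X ^ m * f l) =
      PowerSeries.X ^ (m + m) * (f l * f l) by ring]
    exact dvd_mul_of_dvd_left (pow_dvd_pow _ (by omega)) _
  obtain ⟨i, l, hil⟩ : ∃ i l, PowerSeries.constantCoeff (f i) ≠ PowerSeries.constantCoeff (f l) := by
    by_contra h
    push_neg at h
    refine hf ?_
    rw [show f = (PowerSeries.C (PowerSeries.constantCoeff (f 0))) • (1 : Fin 3 → PowerSeries k) +
      (f - (PowerSeries.C (PowerSeries.constantCoeff (f 0))) • (1 : Fin 3 → PowerSeries k)) by abel]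
    refine add_mem (Submodule.mem_sup_left (Submodule.smul_mem _ _ (Submodule.subset_span rfl)))
      (Submodule.mem_sup_right ?_)
    rw [Submodule.ideal_span_singleton_smul, Submodule.mem_smul_pointwise_iff_exists]
    have hd : ∀ j, (PowerSeries.X : PowerSeries k) ∣
        (f - (PowerSeries.C (PowerSeries.constantCoeff (f 0))) • (1 : Fin 3 → PowerSeries k)) j := fun j => by
      rw [PowerSeries.X_dvd_iff]; simp [h j 0]
    choose a ha using hd
    exact ⟨a, Submodule.mem_top, funext fun j => (ha j).symm⟩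
  obtain ⟨j, hji, hjl⟩ : ∃ j : Fin 3, j ≠ i ∧ j ≠ l :=
    (show ∀ p q : Fin 3, ∃ r, r ≠ p ∧ r ≠ q by decide) i l
  have hne : i ≠ l := fun h => hil (h ▸ rfl)
  have hcases : ∀ r : Fin 3, r = i ∨ r = l ∨ r = j := fun r =>
    (show ∀ a b c r : Fin 3, a ≠ b → c ≠ a → c ≠ b → r = a ∨ r = b ∨ r = c by decide) i l j r hne hji hjl
  obtain ⟨d, hd⟩ : IsUnit (f l - f i) := PowerSeries.isUnit_iff_constantCoeff.2 (by
    rw [isUnit_iff_ne_zero, map_sub, sub_ne_zero]; exact hil.symm)
  let β : (Fin 3 → PowerSeries k) →ₗ[PowerSeries k] PowerSeries k :=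
    (↑d⁻¹ : PowerSeries k) • ((LinearMap.proj l : (Fin 3 → PowerSeries k) →ₗ[PowerSeries k] PowerSeries k) - LinearMap.proj i)
  let γ : (Fin 3 → PowerSeries k) →ₗ[PowerSeries k] PowerSeries k :=
    (LinearMap.proj j : (Fin 3 → PowerSeries k) →ₗ[PowerSeries k] PowerSeries k) - LinearMap.proj i - (f j - f i) • β
  have hβ : ∀ z, β z = (↑d⁻¹ : PowerSeries k) * (z l - z i) := fun z => rfl
  have hγ : ∀ z, γ z = z j - z i - (f j - f i) * β z := fun z => rfl
  have hdd : (↑d⁻¹ : PowerSeries k) * (f l - f i) = 1 := by rw [← hd, Units.inv_mul]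
  let π : (Fin 3 → PowerSeries k) →ₗ[PowerSeries k]
      (PowerSeries k ⧸ Ideal.span {(PowerSeries.X : PowerSeries k) ^ m}) ×
      (PowerSeries k ⧸ Ideal.span {(PowerSeries.X : PowerSeries k) ^ n}) :=
    ((Submodule.mkQ _).comp β).prod ((Submodule.mkQ _).comp γ)
  have hsurj : Function.Surjective π := by
    rintro ⟨p, q⟩
    obtain ⟨b, rfl⟩ := Submodule.mkQ_surjective _ p
    obtain ⟨c, rfl⟩ := Submodule.mkQ_surjective _ q
    refine ⟨b • f + c • Pi.single j 1, ?_⟩
    have e1 : β (b • f + c • Pi.single j 1) = b := by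
      rw [hβ]; simp [hji.symm, hjl.symm]
      linear_combination b * hdd
    exact Prod.ext (congrArg (Submodule.mkQ _) e1) (congrArg (Submodule.mkQ _) (by
      rw [hγ, e1]; simp [hji.symm]; ring))
  have hker : LinearMap.ker π = S := by
    refine le_antisymm (fun z hz => ?_) (hS ▸ sup_le ?_ ?_)
    · obtain ⟨h1, h2⟩ := Prod.ext_iff.1 (LinearMap.mem_ker.1 hz)
      obtain ⟨b, hb⟩ := Ideal.mem_span_singleton.1 ((Submodule.Quotient.mk_eq_zero _).1 h1)
      obtain ⟨c, hc⟩ := Ideal.mem_span_singleton.1 ((Submodule.Quotient.mk_eq_zero _).1 h2)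
      rw [hγ, hb] at hc
      rw [hβ] at hb
      have hb' : z l - z i = PowerSeries.X ^ m * b * (f l - f i) := by
        linear_combination (f l - f i) * hb - (z l - z i) * hdd
      rw [show z = (z i - PowerSeries.X ^ m * b * f i) • (1 : Fin 3 → PowerSeries k) + b • u +
          ((PowerSeries.X : PowerSeries k) ^ n * c) • Pi.single j 1 by
        funext r
        rcases hcases r with rfl | rfl | rfl
        · simp [u, hji.symm]; ring
        · simp [u, hjl.symm]; linear_combination hb'
        · simp [u]; linear_combination hc]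
      exact add_mem (add_mem (S.smul_mem _ h1S) (S.smul_mem _ huS))
        (hPS _ ((hP _).2 fun r => by simp only [Pi.smul_apply, smul_eq_mul, mul_assoc]; exact dvd_mul_right _ _))
    · rw [Submodule.span_le]
      rintro _ (rfl | rfl)
      · refine LinearMap.mem_ker.2 (Prod.ext ?_ ?_) <;> refine (Submodule.Quotient.mk_eq_zero _).2 ?_
        · simp [hβ]
        · simp [hγ, hβ]
      · have e : β ((PowerSeries.X : PowerSeries k) ^ m • f) = PowerSeries.X ^ m := by
          rw [hβ]; simp; linear_combination (PowerSeries.X : PowerSeries k) ^ m * hdd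
        refine LinearMap.mem_ker.2 (Prod.ext ?_ ?_) <;> refine (Submodule.Quotient.mk_eq_zero _).2 ?_
        · rw [e]; exact Ideal.mem_span_singleton_self _
        · rw [hγ, e, show ((PowerSeries.X : PowerSeries k) ^ m • f) j - ((PowerSeries.X : PowerSeries k) ^ m • f) i -
            (f j - f i) * PowerSeries.X ^ m = 0 by simp; ring]
          exact zero_mem _
    · intro z hz
      have hz' := (hP z).1 hz
      refine LinearMap.mem_ker.2 (Prod.ext ?_ ?_) <;>
        refine (Submodule.Quotient.mk_eq_zero _).2 (Ideal.mem_span_singleton.2 ?_)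
      · exact (pow_dvd_pow _ hmn).trans (dvd_mul_of_dvd_right (dvd_sub (hz' l) (hz' i)) _)
      · exact dvd_sub (dvd_sub (hz' j) (hz' i)) (dvd_mul_of_dvd_right (dvd_mul_of_dvd_right (dvd_sub (hz' l) (hz' i)) _) _)
  exact ⟨(Submodule.quotEquivOfEq _ _ hker.symm).trans (π.quotKerEquivOfSurjective hsurj)⟩

end Groth.Agent.S13886
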