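import Groth.Statements.S13887
import Groth.Agent.BlowPush22.Annihilate
-- import your own Groth.Agent.* helpers here

set_option autoImplicit false
universe u
open AlgebraicGeometry CategoryTheory CategoryTheory.Limits
open SurfBl

namespace Groth.Agent.S13887

/-- Let k be an algebraically closed field of characteristic zero, X a k-scheme smooth of relative
dimension 2 over k, s a closed point of X, β : B → X a blowing up of X in the reduced point s, E ⊆ B
the exceptional divisor with ideal I_E (the inverse image ideal of the ideal of s), V a finite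
locally free O_B-module and e : β^*β_*V → V the counit of the pull-back / direct-image adjunction.
If l ≥ 0 is such that (I_E ^ l ⊗ V)|_E, which is V|_E ⊗ O_E(l), is generated by its global sections,
then the cokernel of e is annihilated by I_E ^ l: over every affine open U of B, every section of
I_E ^ l over U multiplies every section of coker(e) over U to zero. -/
theorem result
    {k : Type u} [Field k] [IsAlgClosed k] [CharZero k]
    (X : Scheme.{u}) [X.Over (Spec (CommRingCat.of k))] [SmoothOfRelativeDimension 2 (X ↘ Spec (CommRingCat.of k))]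
    (s : X) (hs : IsClosed ({s} : Set X))
    {B : Scheme.{u}} (β : B ⟶ X) (hβ : BlowUp.IsBlowUp β (Scheme.IdealSheafData.vanishingIdeal ⟨{s}, hs⟩))
    (V : B.Modules) (hV : FlatMod.IsFinLocFree V) (l : ℕ)
    (hgen : Curv2.IsGloballyGenerated ((Scheme.Modules.pullback (BlowUp.exceptional β (Scheme.IdealSheafData.vanishingIdeal ⟨{s}, hs⟩)).subschemeι).obj
      (CohB1.tensorMod (ClSub.idealMod ((BlowUp.exceptional β (Scheme.IdealSheafData.vanishingIdeal ⟨{s}, hs⟩)) ^ l)) V))) :
    ∀ (U : B.affineOpens)
      (q : (cokernel ((Scheme.Modules.pullbackPushforwardAdjunction β).counit.app V)).presheaf.obj (Opposite.op U.1))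
      (a : Γ(B, U.1)), a ∈ ((BlowUp.exceptional β (Scheme.IdealSheafData.vanishingIdeal ⟨{s}, hs⟩)) ^ l).ideal U → a • q = 0 := by
  intro U q a ha
  have hI : PicF.IsInvertible (ClSub.idealMod
      ((BlowUp.exceptional β (Scheme.IdealSheafData.vanishingIdeal ⟨{s}, hs⟩)) ^ l)) := by
    obtain ⟨en⟩ := Groth.Agent.BlowPush22.nonempty_idealMod_pow (Groth.Agent.H26.IdealCl.isInvertible_idealMod hβ.1) l
    exact Groth.Agent.H23.PicMul.isInvertible_of_iso en.symm
      (Groth.Agent.InvX.isInvertible_tensorPow (Groth.Agent.H26.IdealCl.isInvertible_idealMod hβ.1) l)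
  let J := (BlowUp.exceptional β (Scheme.IdealSheafData.vanishingIdeal ⟨{s}, hs⟩)) ^ l
  have hc : Nonempty (CohB1.tensorMod (ClSub.idealMod J) V ≅ CohB1.tensorMod V (ClSub.idealMod J)) := by
    letI := Groth.Agent.H23.PicMul.clMonoid B
    refine Groth.Agent.H23.PicMul.cl_eq_iff.1 ?_
    rw [Groth.Agent.H23.PicMul.cl_tensor, Groth.Agent.H23.PicMul.cl_tensor, mul_comm]
  obtain ⟨e⟩ := hc
  refine Groth.Agent.BlowPush22.ideal_smul_cokernel_counit β J V ?_ U q a ha
  exact Groth.Agent.BlowPush22.epi_counit_of_gg (X ↘ Spec (CommRingCat.of k)) β ⟨{s}, hs⟩ (Set.finite_singleton s)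
    (fun z hz => by cases (Set.mem_singleton_iff.1 hz); exact hs) hβ
    (Groth.Agent.Synt29.PnEuler.isFinLocFree_tensorMod hV (Groth.Agent.H23.PullPush.isFinLocFree_of_isInvertible hI))
    (Groth.Agent.BiRegQ.gg_of_iso ((Scheme.Modules.pullback _).mapIso e) hgen)

end Groth.Agent.S13887
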