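import Groth.Statements.S13888
import Groth.Prelude.Def_DTen3
import Mathlib.CategoryTheory.Yoneda
-- import your own Groth.Agent.* helpers here

set_option autoImplicit false
universe u
open CategoryTheory CategoryTheory.Limits MonoidalCategory
attribute [local instance] HasDerivedCategory.standard
open DTen

namespace Groth.Agent.S13888


lemma assocNat {A : Type u} [CommRing A] [DTen.HasLTen A] [DTen.HasLTen₃ A] [DTen.IsSymMonoidal A]
    {T T' : Dual.D A} (g : T ⟶ T') (K L : Dual.D A) :
    (DTen.tensorRightD A L).map ((DTen.tensorRightD A K).map g) ≫ (DTen.associator T' K L).hom =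
      (DTen.associator T K L).hom ≫ (DTen.tensorRightD A ((DTen.LTen₂ A).obj (K, L))).map g := by
  have e1 := (DTen.assocL A).naturality (Prod.mkHom g (Prod.mkHom (𝟙 K) (𝟙 L)))
  have e2 := (DTen.assocR A).naturality (Prod.mkHom g (Prod.mkHom (𝟙 K) (𝟙 L)))
  rw [← cancel_mono ((DTen.assocR A).app (T', (K, L))), Category.assoc, Category.assoc,
    DTen.associator_hom_assocR]
  dsimp at e1 e2 ⊢
  erw [CategoryTheory.Functor.map_id] at e2
  erw [e1, e2, DTen.associator_hom_assocR_assoc]
  rfl

/-- For a commutative ring `A` (assuming the derived tensor product on `D(A)` with its triple version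
exists, that its symmetry, unit and associativity maps are isomorphisms, and that every `- ⊗^L L`
has a right adjoint `RHom(L, -)`) and objects `K`, `L`, `M` of `D(A)`, the canonical morphism
`RHom(K ⊗^L L, M) ⟶ RHom(K, RHom(L, M))`, namely the double adjunct of the associativity isomorphism
followed by evaluation at `K ⊗^L L`, is an isomorphism. (Functoriality in the three objects is built
into the construction; the identification on `H^0` with the hom bijection of the adjunction is not
part of this row.) -/
theorem result (A : Type u) [CommRing A] [DTen.HasLTen A] [DTen.HasLTen₃ A]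
    [DTen.IsSymMonoidal A] [DTen.HasRHom A] (K L M : Dual.D A) :
    IsIso (DTen.curryHom K L M) := by
  refine isIso_of_yoneda_map_bijective _ fun T => ?_
  let e : (T ⟶ (DTen.RHomR A ((DTen.LTen₂ A).obj (K, L))).obj M) ≃
      (T ⟶ (DTen.RHomR A K).obj ((DTen.RHomR A L).obj M)) :=
    (DTen.rhomHomEquiv T ((DTen.LTen₂ A).obj (K, L)) M).symm.trans
      ((Iso.homCongr (DTen.associator T K L).symm (Iso.refl M)).trans
        ((DTen.rhomHomEquiv ((DTen.LTen₂ A).obj (T, K)) L M).trans
          (DTen.rhomHomEquiv T K ((DTen.RHomR A L).obj M))))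
  convert e.bijective using 1
  funext g
  refine ((DTen.rhomAdj A K).homEquiv_naturality_left g _).symm.trans ?_
  refine congrArg (DTen.rhomHomEquiv T K _) ?_
  refine ((DTen.rhomAdj A L).homEquiv_naturality_left _ _).symm.trans ?_
  refine congrArg (DTen.rhomHomEquiv _ L M) ?_
  dsimp only [DTen.curryHomAux]
  rw [← Category.assoc, assocNat, Category.assoc]
  simp [Iso.homCongr, Adjunction.homEquiv_counit]


end Groth.Agent.S13888
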