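import Groth.Statements.S13895
import Groth.Agent.KFlatLib.Ring.RelPerfectIso
-- import your own Groth.Agent.* helpers here

set_option autoImplicit false
universe u
open CategoryTheory CategoryTheory.Limits MonoidalCategory
attribute [local instance] HasDerivedCategory.standard
open DTen

namespace Groth.Agent.S13895

/-- For a map of commutative rings `φ : R → A` with `A` perfect as an `R`-module (its image `A[0]` in
`D(R)` is isomorphic to a bounded complex of finite projective modules), the right adjoint `RHom(A,
-) : D(R) ⥤ D(A)` of restriction is isomorphic, as a functor, to `K ↦ K ⊗^L_R M` where `M = RHom(A,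
R) ∈ D(A)` and `⊗^L_R` is the mixed derived tensor product `D(R) × D(A) ⥤ D(A)`. Existence of an
isomorphism of functors only: the published statement names no map. (Existence of the right adjoint
and of the mixed derived tensor product is assumed as hypotheses.) -/
theorem result (R A : Type u) [CommRing R] [CommRing A]
    (φ : R →+* A) [DTen.HasRHomRel φ] [DTen.HasLTenMix φ]
    (hA : DRing.IsPerfect R ((DRing.restrictD φ).obj (DTen.unit A))) :
    Nonempty (DTen.RHomRel φ ≅
      (Functor.curry.obj (DTen.LTenMix φ)).flip.obj ((DTen.RHomRel φ).obj (DTen.unit R))) := Groth.Agent.KFlatLib.nonempty_RHomRel_iso φ hA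

end Groth.Agent.S13895
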