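import Groth.Statements.S1390
import Groth.Agent.FppfRefine.Scheme

set_option autoImplicit false
universe u
open FlatMor

namespace Groth.Agent.S1390

open AlgebraicGeometry CategoryTheory Limits in
/-- Let (U, u) be an étale neighbourhood of (S, s), i.e. U → S étale with u over s. Then there are an
affine open neighbourhood V of s and a surjective, finite, flat morphism of finite presentation π :
T → V such that every point t of T over s has an open neighbourhood W_t with an S-morphism W_t → U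
sending t to u. -/
theorem result {U S : Scheme.{u}} (e : U ⟶ S) [Etale e] (u : U) (s : S) (hu : e u = s) :
    ∃ (V : S.Opens) (T : Scheme.{u}) (π : T ⟶ (V : Scheme.{u})), s ∈ V ∧ IsAffineOpen V ∧ Surjective π ∧ IsFinite π ∧ Flat π ∧ LocallyOfFinitePresentation π ∧
      ∀ t : T, V.ι (π t) = s → ∃ (W : T.Opens) (h : (W : Scheme.{u}) ⟶ U), t ∈ W ∧ h ≫ e = W.ι ≫ π ≫ V.ι ∧ ∀ ht : t ∈ W, h ⟨t, ht⟩ = u := by
  open Groth.Agent FppfRefine in
  subst hu
  obtain ⟨V, hV, hxV, -⟩ := exists_isAffineOpen_mem_and_subset (U := ⊤) (x := e u) trivial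
  obtain ⟨U₀, hU₀, huU₀, hUV⟩ := exists_isAffineOpen_mem_and_subset (U := e ⁻¹ᵁ V) (x := u) hxV
  let B := Γ(S, V)
  let C₀ := Γ(U, U₀)
  letI : Algebra B C₀ := (e.appLE V U₀ hUV).hom.toAlgebra
  haveI : Algebra.Etale B C₀ := RingHom.etale_algebraMap.1 (e.etale_appLE hV hU₀ hUV)
  let P₀ : Ideal C₀ := (hU₀.primeIdealOf ⟨u, huU₀⟩).asIdeal
  haveI : P₀.IsPrime := (hU₀.primeIdealOf ⟨u, huU₀⟩).2
  obtain ⟨g, hg, hstd⟩ := Algebra.IsEtaleAt.exists_isStandardEtale (R := B) P₀
  haveI := hstd
  let C := Localization.Away g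
  have hd : Disjoint (Submonoid.powers g : Set C₀) P₀ := (Ideal.disjoint_powers_iff_notMem_of_isPrime _).2 hg
  haveI hP : (P₀.map (algebraMap C₀ C)).IsPrime :=
    IsLocalization.isPrime_of_isPrime_disjoint (Submonoid.powers g) _ _ inferInstance hd
  have hPc : (P₀.map (algebraMap C₀ C)).comap (algebraMap C₀ C) = P₀ :=
    IsLocalization.comap_map_of_isPrime_disjoint (Submonoid.powers g) C inferInstance hd
  obtain ⟨W, _, _, hfin, hfree, hff, hW⟩ := exists_finite_free_cover (B := B) (P₀.map (algebraMap C₀ C))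
  haveI := hfin
  haveI := hfree
  haveI := hff
  haveI := finitePresentation_of_free B W
  obtain ⟨h1, h2, h3, h4⟩ := specMap_props B W
  let π : Spec (CommRingCat.of W) ⟶ (V : Scheme.{u}) :=
    Spec.map (CommRingCat.ofHom (algebraMap B W)) ≫ hV.isoSpec.inv
  have hπι : π ≫ V.ι = Spec.map (CommRingCat.ofHom (algebraMap B W)) ≫ hV.fromSpec := by
    simp [π]
  haveI : Surjective π := inferInstanceAs (Surjective (_ ≫ _))
  haveI : IsFinite π := inferInstanceAs (IsFinite (_ ≫ _))
  haveI : Flat π := inferInstanceAs (Flat (_ ≫ _))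
  haveI : LocallyOfFinitePresentation π := inferInstanceAs (LocallyOfFinitePresentation (_ ≫ _))
  refine ⟨V, Spec (CommRingCat.of W), π, hxV, hV, inferInstance, inferInstance, inferInstance, inferInstance,
    fun t ht => ?_⟩
  let w : PrimeSpectrum W := t
  have hw : w.asIdeal.comap (algebraMap B W) = (P₀.map (algebraMap C₀ C)).comap (algebraMap B C) := by
    rw [IsScalarTower.algebraMap_eq B C₀ C, ← Ideal.comap_comap, hPc]
    have h5 : Spec.map (CommRingCat.ofHom (algebraMap B W)) w = hV.primeIdealOf ⟨e u, hxV⟩ := by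
      apply hV.isOpenImmersion_fromSpec.base_open.injective
      show hV.fromSpec (Spec.map (CommRingCat.ofHom (algebraMap B W)) t) = hV.fromSpec (hV.primeIdealOf ⟨e u, hxV⟩)
      refine Eq.trans ?_ (hV.fromSpec_primeIdealOf ⟨e u, hxV⟩).symm
      rw [← Scheme.Hom.comp_apply, ← hπι, Scheme.Hom.comp_apply]
      exact ht
    exact (congrArg PrimeSpectrum.asIdeal h5).trans (congrArg PrimeSpectrum.asIdeal
      (IsAffineOpen.comap_primeIdealOf_appLE (f := e) V hV U₀ hU₀ hUV huU₀)).symm
  obtain ⟨a, ha, γ, hγ⟩ := hW w.asIdeal hw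
  let ja : Spec (CommRingCat.of (Localization.Away a)) ⟶ Spec (CommRingCat.of W) :=
    Spec.map (CommRingCat.ofHom (algebraMap W (Localization.Away a)))
  haveI : IsOpenImmersion ja := IsOpenImmersion.of_isLocalization a
  let hC : Spec (CommRingCat.of C) ⟶ U :=
    Spec.map (CommRingCat.ofHom (algebraMap C₀ C)) ≫ hU₀.fromSpec
  let hom : Spec (CommRingCat.of (Localization.Away a)) ⟶ U := Spec.map (CommRingCat.ofHom γ.toRingHom) ≫ hC
  have hdw : Disjoint (Submonoid.powers a : Set W) w.asIdeal :=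
    (Ideal.disjoint_powers_iff_notMem_of_isPrime _).2 ha
  let w' : PrimeSpectrum (Localization.Away a) := ⟨w.asIdeal.map (algebraMap W _),
    IsLocalization.isPrime_of_isPrime_disjoint (Submonoid.powers a) _ _ inferInstance hdw⟩
  have hw' : ja w' = w := by
    apply PrimeSpectrum.ext
    exact IsLocalization.comap_map_of_isPrime_disjoint (Submonoid.powers a) _ inferInstance hdw
  refine ⟨ja.opensRange, ja.isoOpensRange.inv ≫ hom, ⟨w', hw'⟩, ?_, fun ht => ?_⟩
  · rw [Category.assoc, Iso.inv_comp_eq, ← Category.assoc ja.isoOpensRange.hom,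
      show ja.isoOpensRange.hom ≫ ja.opensRange.ι = ja from ja.isoOpensRange_hom_ι, hπι]
    simp only [hom, hC, ja, Category.assoc, ← IsAffineOpen.SpecMap_appLE_fromSpec e hV hU₀ hUV,
      ← Spec.map_comp_assoc]
    refine congrArg (fun m => m ≫ hV.fromSpec) (congrArg Spec.map ?_)
    ext z
    exact (congrArg γ (IsScalarTower.algebraMap_apply B C₀ C z).symm).trans
      ((γ.commutes z).trans (IsScalarTower.algebraMap_apply B W (Localization.Away a) z))
  · have h6 : ja.isoOpensRange.inv (⟨t, ht⟩ : (ja.opensRange : Scheme.{u})) = w' := by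
      apply ja.isOpenEmbedding.injective
      show (ja.isoOpensRange.inv ≫ ja) (⟨t, ht⟩ : (ja.opensRange : Scheme.{u})) = ja w'
      rw [ja.isoOpensRange_inv_comp]
      exact hw'.symm
    show hom (ja.isoOpensRange.inv (⟨t, ht⟩ : (ja.opensRange : Scheme.{u}))) = u
    rw [h6]
    have h7 : Spec.map (CommRingCat.ofHom (algebraMap C₀ C)) (Spec.map (CommRingCat.ofHom γ.toRingHom) w') =
        hU₀.primeIdealOf ⟨u, huU₀⟩ := by
      apply PrimeSpectrum.ext
      exact (congrArg (Ideal.comap (algebraMap C₀ C)) hγ).trans hPc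
    simp only [hom, hC, Scheme.Hom.comp_apply]
    exact (congrArg hU₀.fromSpec h7).trans (hU₀.fromSpec_primeIdealOf _)

end Groth.Agent.S1390
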