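import Groth.Statements.S13901
import Groth.Agent.H23.P1Conn
-- import your own Groth.Agent.* helpers here

set_option autoImplicit false
universe u
open P1Fin

namespace Groth.Agent.S13901

open AlgebraicGeometry CategoryTheory in
/-- Let S be a scheme with preconnected underlying space and f : X → P^1_S a finite, flat, locally
finitely presented morphism (finite locally free). Then f restricted to any connected component of X
is surjective onto P^1_S. (The published statement allows an arbitrary base S; over a base with two
points and X a copy of the projective line over one of them, mapped identically into P^1_S, the
connected X misses the other fibre, so the base is taken connected here.) -/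
theorem result (S X : Scheme.{u}) [PreconnectedSpace S]
    (f : X ⟶ CohB1.ProjSpaceOver 1 S) [IsFinite f] [Flat f] [LocallyOfFinitePresentation f]
    (x : X) (p : CohB1.ProjSpaceOver 1 S) : ∃ y ∈ connectedComponent x, f y = p := by
  exact Groth.Agent.H23.P1Conn.exists_mem_connectedComponent f x p

end Groth.Agent.S13901
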