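import Groth.Statements.S13904
import Mathlib.RingTheory.Ideal.GoingUp
import Mathlib.RingTheory.KrullDimension.NonZeroDivisors
import Mathlib.RingTheory.KrullDimension.Polynomial
import Mathlib.RingTheory.KrullDimension.Field
import Mathlib.RingTheory.Polynomial.Basic

set_option autoImplicit false
universe u
open CAlg

namespace Groth.Agent.S13904
/-- An integral extension does not increase the Krull dimension. -/
theorem ringKrullDim_le_of_integral {R S : Type*} [CommRing R] [CommRing S] [Algebra R S] [Algebra.IsIntegral R S] :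
    ringKrullDim S ≤ ringKrullDim R := by
  refine Order.krullDim_le_of_strictMono (fun q => PrimeSpectrum.comap (algebraMap R S) q) fun p q hlt => ?_
  obtain ⟨hle, hnle⟩ : p.asIdeal ≤ q.asIdeal ∧ ¬ q.asIdeal ≤ p.asIdeal := hlt
  obtain ⟨x, hxq, hxp⟩ := SetLike.not_le_iff_exists.1 hnle
  exact Ideal.comap_lt_comap_of_integral_mem_sdiff hle ⟨hxq, hxp⟩ (Algebra.IsIntegral.isIntegral x)

/-- Let k be a field, A a commutative k-algebra and φ : k[x_1, …, x_r] → A a finite k-algebra map such
that A/p has Krull dimension r for every minimal prime p of A (an equidimensional affine scheme of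
dimension r, finite over affine r-space). Then for every minimal prime p of A and every prime q of
k[x_1, …, x_r] there is a prime P ⊇ p of A with φ⁻¹(P) = q: the finite map restricted to each
irreducible component of Spec A is surjective onto affine r-space. (The published statement is over
an algebraically closed field with φ a Noether normalisation; this row allows any field and any
finite k-algebra map φ.) -/
theorem result (k : Type u) [Field k] (r : ℕ)
    (A : Type u) [CommRing A] [Algebra k A] (φ : MvPolynomial (Fin r) k →ₐ[k] A)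
    (hφ : φ.toRingHom.Finite)
    (hdim : ∀ p ∈ minimalPrimes A, ringKrullDim (A ⧸ p) = r)
    (p : Ideal A) (hp : p ∈ minimalPrimes A)
    (q : Ideal (MvPolynomial (Fin r) k)) [q.IsPrime] :
    ∃ P : Ideal A, P.IsPrime ∧ p ≤ P ∧ P.comap φ.toRingHom = q := by
  letI : Algebra (MvPolynomial (Fin r) k) A := φ.toRingHom.toAlgebra
  haveI : Module.Finite (MvPolynomial (Fin r) k) A := hφ
  haveI := hp.isPrime
  let J : Ideal (MvPolynomial (Fin r) k) := p.comap φ.toRingHom
  have hJ : J = ⊥ := by
    by_contra hne
    obtain ⟨a, ha, ha0⟩ := Submodule.exists_mem_ne_zero_of_ne_bot hne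
    have hdimP : ringKrullDim (MvPolynomial (Fin r) k) = r := by
      rw [MvPolynomial.ringKrullDim_of_isNoetherianRing, ringKrullDim_eq_zero_of_field, zero_add, Nat.card_fin]
    have h1 : ringKrullDim (MvPolynomial (Fin r) k ⧸ Ideal.span {a}) + 1 ≤ ringKrullDim (MvPolynomial (Fin r) k) :=
      ringKrullDim_quotient_succ_le_of_nonZeroDivisor (mem_nonZeroDivisors_of_ne_zero ha0)
    have h2 : ringKrullDim (MvPolynomial (Fin r) k ⧸ J) ≤ ringKrullDim (MvPolynomial (Fin r) k ⧸ Ideal.span {a}) :=
      ringKrullDim_le_of_surjective (Ideal.Quotient.factor ((Ideal.span_singleton_le_iff_mem J).2 ha))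
        (Ideal.Quotient.factor_surjective _)
    letI : Algebra (MvPolynomial (Fin r) k ⧸ J) (A ⧸ p) :=
      (Ideal.quotientMap p φ.toRingHom le_rfl).toAlgebra
    haveI : IsScalarTower (MvPolynomial (Fin r) k) (MvPolynomial (Fin r) k ⧸ J) (A ⧸ p) :=
      IsScalarTower.of_algebraMap_eq (R := MvPolynomial (Fin r) k) (S := MvPolynomial (Fin r) k ⧸ J) (A := A ⧸ p) fun x => rfl
    haveI : Module.Finite (MvPolynomial (Fin r) k) (A ⧸ p) :=
      Module.Finite.of_surjective (Ideal.Quotient.mkₐ (MvPolynomial (Fin r) k) p).toLinearMap Ideal.Quotient.mk_surjective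
    haveI : Module.Finite (MvPolynomial (Fin r) k ⧸ J) (A ⧸ p) :=
      Module.Finite.of_restrictScalars_finite (MvPolynomial (Fin r) k) _ _
    have h3 := ringKrullDim_le_of_integral (R := MvPolynomial (Fin r) k ⧸ J) (S := A ⧸ p)
    rw [hdim p hp] at h3
    rw [hdimP] at h1
    have h4 : ((r : WithBot ℕ∞)) + 1 ≤ r := le_trans (by gcongr; exact h3.trans h2) h1
    have : r + 1 ≤ r := by exact_mod_cast h4
    omega
  obtain ⟨P, hPle, hP, hPq⟩ := Ideal.exists_ideal_over_prime_of_isIntegral q p
    (by rw [show p.comap (algebraMap (MvPolynomial (Fin r) k) A) = J from rfl, hJ]; exact bot_le)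
  exact ⟨P, hP, hPle, hPq⟩

end Groth.Agent.S13904
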