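import Groth.Statements.S13905
import Mathlib.LinearAlgebra.Dimension.FreeAndStrongRankCondition
import Mathlib.LinearAlgebra.FiniteDimensional.Basic
import Mathlib.LinearAlgebra.Dimension.Finite
import Mathlib.LinearAlgebra.FiniteDimensional.Lemmas


set_option autoImplicit false
universe u
open ProjGeom

namespace Groth.Agent.S13905

open W4c1etcurveeff3b in
/-- Hyperplanes of projective n-space in general position, in linear-algebra form (V of dimension n + 1
over a field k, hyperplanes as n-dimensional subspaces, points as nonzero vectors): if S is a finite
set of hyperplanes in general position with at least n members and H is a hyperplane containing none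
of the lines cut out by n members of S, then S with H added is again in general position. (The
published statement is for hyperplanes of P^n_k and closed points; a closed point lying on n + 1
members is automatically one of the rational points cut out by n of them, so the condition on
nonzero vectors of V is the same condition.) -/
theorem result (k V : Type u) [Field k]
    [AddCommGroup V] [Module k V] [DecidableEq (Submodule k V)] (n : ℕ) (S : Finset (Submodule k V))
    (hS : InGeneralPosition k V n S) (hn : n ≤ S.card) (H : Submodule k V)
    (hH : Module.finrank k H = n)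
    (havoid : ∀ T ⊆ S, T.card = n → ¬ (T.inf id ≤ H)) :
    InGeneralPosition k V n (insert H S) := by
  classical
  obtain ⟨hV, hHS, hT, hv⟩ := hS
  haveI : Module.Finite k V := Module.finite_of_finrank_eq_succ hV
  by_cases hHmem : H ∈ S
  · rw [Finset.insert_eq_self.mpr hHmem]
    exact ⟨hV, hHS, hT, hv⟩
  have hnot : ∀ T ⊆ S, T.card < n → ¬ T.inf id ≤ H := by
    intro T hTS hc hle
    obtain ⟨T', hTT', hT'S, hc'⟩ := Finset.exists_subsuperset_card_eq hTS hc.le hn
    exact havoid T' hT'S hc' ((Finset.inf_mono hTT').trans hle)
  refine ⟨hV, fun H' hH' => (Finset.mem_insert.mp hH').elim (fun h => h ▸ hH) (hHS H'), ?_, ?_⟩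
  · intro T hTs hc
    by_cases hHT : H ∈ T
    · have hT'S : T.erase H ⊆ S := fun x hx =>
        (Finset.mem_insert.mp (hTs (Finset.mem_of_mem_erase hx))).resolve_left (Finset.ne_of_mem_erase hx)
      have hcard : (T.erase H).card + 1 = T.card := Finset.card_erase_add_one hHT
      have hTeq : T.inf id = (T.erase H).inf id ⊓ H := by
        conv_lhs => rw [← Finset.insert_erase hHT]
        rw [Finset.inf_insert, id_eq, inf_comm]
      rw [hTeq]
      have hW := hT _ hT'S (by omega)
      have hnle := hnot _ hT'S (by omega)
      have hlt : H < (T.erase H).inf id ⊔ H := right_lt_sup.mpr hnle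
      have h1 := Submodule.finrank_lt_finrank_of_lt hlt
      have h2 := Submodule.finrank_le ((T.erase H).inf id ⊔ H)
      have h3 := Submodule.finrank_sup_add_finrank_inf_eq ((T.erase H).inf id) H
      omega
    · exact hT T (fun x hx => (Finset.mem_insert.mp (hTs hx)).resolve_left (fun h => hHT (h ▸ hx))) hc
  · intro v hv0 T hTs hvT
    by_cases hHT : H ∈ T
    · have hT'S : T.erase H ⊆ S := fun x hx =>
        (Finset.mem_insert.mp (hTs (Finset.mem_of_mem_erase hx))).resolve_left (Finset.ne_of_mem_erase hx)
      have hcard : (T.erase H).card + 1 = T.card := Finset.card_erase_add_one hHT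
      have hle := hv v hv0 _ hT'S (fun H' hH' => hvT H' (Finset.mem_of_mem_erase hH'))
      by_contra hgt
      have heq : (T.erase H).card = n := by omega
      have hline := hT _ hT'S heq.le
      refine havoid _ hT'S heq ?_
      have hvmem : v ∈ (T.erase H).inf id := by
        rw [Finset.inf_eq_iInf]
        simp only [Submodule.mem_iInf, id_eq]
        exact fun H' hH' => hvT H' (Finset.mem_of_mem_erase hH')
      have hspan : (k ∙ v) = (T.erase H).inf id := Submodule.eq_of_le_of_finrank_eq
        ((Submodule.span_singleton_le_iff_mem v _).mpr hvmem)
        (by rw [finrank_span_singleton hv0, hline]; omega)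
      rw [← hspan, Submodule.span_singleton_le_iff_mem]
      exact hvT H hHT
    · exact hv v hv0 T (fun x hx => (Finset.mem_insert.mp (hTs hx)).resolve_left (fun h => hHT (h ▸ hx))) hvT

end Groth.Agent.S13905
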