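import Groth.Statements.S13906
import Groth.Agent.H23.P1Conn
-- import your own Groth.Agent.* helpers here

set_option autoImplicit false
universe u
open P1Fin

namespace Groth.Agent.S13906

open AlgebraicGeometry CategoryTheory in
/-- Let S be a scheme and g : X → P^1_S a finite, flat, locally finitely presented morphism. An open and
closed subset W of X that contains every point of X lying over the zero section of P^1_S → S is all
of X. (In the published corollary W is the locus over which a given equivariant etale morphism T → X
of constant rank is a torsor under a finite group, an open and closed subset of X; that
open-and-closed locus is taken as the hypothesis here, and the conclusion W = X is the corollary's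
content.) -/
theorem result (S X : Scheme.{u})
    (g : X ⟶ CohB1.ProjSpaceOver 1 S) [IsFinite g] [Flat g] [LocallyOfFinitePresentation g]
    (W : Set X) (hW : IsClopen W)
    (h0 : ∀ x : X, g x ∈ Set.range (P1.sect S 0) → x ∈ W) : W = Set.univ := by
  exact Groth.Agent.H23.P1Conn.eq_univ_of_zero_section g hW h0

end Groth.Agent.S13906
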