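import Groth.Statements.S13907
import Groth.Agent.ProjDimZero7.Basic
-- import your own Groth.Agent.* helpers here

set_option autoImplicit false
universe u
open ProjGeom

namespace Groth.Agent.S13907

/-- Over an algebraically closed field k, let C be a nonempty irreducible closed subset of the
underlying space of projective n-space with homogeneous coordinates x_0, …, x_n, and for i ≤ n let
L_i be the linear subspace where x_1, …, x_i vanish. Then there is an index i ≤ n with C ∩ L_i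
nonempty and of topological Krull dimension zero. -/
theorem result (k : Type u) [Field k]
    [IsAlgClosed k] (n : ℕ) (C : Set (ProjectiveSpectrum (CohB1.polyGrading n k)))
    (hC : IsClosed C) (hirr : IsIrreducible C) :
    ∃ i : ℕ, i ≤ n ∧
      (C ∩ ProjectiveSpectrum.zeroLocus (CohB1.polyGrading n k)
          ((fun j : Fin (n + 1) => (MvPolynomial.X j : MvPolynomial (Fin (n + 1)) k)) ''
            {j : Fin (n + 1) | 1 ≤ j.val ∧ j.val ≤ i})).Nonempty ∧
      topologicalKrullDim ↥(C ∩ ProjectiveSpectrum.zeroLocus (CohB1.polyGrading n k)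
          ((fun j : Fin (n + 1) => (MvPolynomial.X j : MvPolynomial (Fin (n + 1)) k)) ''
            {j : Fin (n + 1) | 1 ≤ j.val ∧ j.val ≤ i})) = 0 := by
  classical
  have hX : ∀ j, (MvPolynomial.X j : MvPolynomial (Fin (n + 1)) k) ∈ CohB1.polyGrading n k 1 :=
    fun j => Groth.Agent.ProjDimZero7.X_mem j
  let Z : ℕ → Set (ProjectiveSpectrum (CohB1.polyGrading n k)) := fun i =>
    C ∩ ProjectiveSpectrum.zeroLocus (CohB1.polyGrading n k)
      ((fun j : Fin (n + 1) => (MvPolynomial.X j : MvPolynomial (Fin (n + 1)) k)) '' {j : Fin (n + 1) | 1 ≤ j.val ∧ j.val ≤ i})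
  have hZ0 : (Z 0).Nonempty := by
    obtain ⟨p, hp⟩ := hirr.nonempty
    refine ⟨p, hp, ?_⟩
    rw [ProjectiveSpectrum.mem_zeroLocus]
    rintro _ ⟨j, ⟨h1, h2⟩, rfl⟩
    omega
  let s := (Finset.range (n + 1)).filter fun i => (Z i).Nonempty
  have hs : s.Nonempty := ⟨0, by simp [s, hZ0]⟩
  let i := s.max' hs
  obtain ⟨hin, hi⟩ := Finset.mem_filter.1 (s.max'_mem hs)
  have hin' : i ≤ n := Nat.lt_succ_iff.1 (Finset.mem_range.1 hin)
  have hcl : IsClosed (Z i) := hC.inter (ProjectiveSpectrum.isClosed_zeroLocus _ _)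
  refine ⟨i, hin', hi, ?_⟩
  rcases Nat.lt_or_ge i n with hlt | hge
  · refine Groth.Agent.ProjDimZero7.dim_eq_zero hcl hi (hX ⟨i + 1, by omega⟩) (Set.disjoint_left.2 fun p hp hp' => ?_)
    have : i + 1 ≤ i := Finset.le_max' s _ (Finset.mem_filter.2 ⟨Finset.mem_range.2 (by omega), p, hp.1, ?_⟩)
    · omega
    rw [ProjectiveSpectrum.mem_zeroLocus]
    rintro _ ⟨j, ⟨h1, h2⟩, rfl⟩
    rcases Nat.lt_or_ge i j.val with hj | hj
    · have : j = ⟨i + 1, by omega⟩ := Fin.ext (by simp only; omega)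
      exact this ▸ hp' rfl
    · exact hp.2 ⟨j, ⟨h1, hj⟩, rfl⟩
  · refine Groth.Agent.ProjDimZero7.dim_eq_zero hcl hi (hX 0) (Set.disjoint_left.2 fun p hp hp' => ?_)
    obtain ⟨l, hl⟩ := Groth.Agent.ProjDimZero7.exists_X_notMem p
    apply hl
    rcases Nat.eq_zero_or_pos l.val with h0 | h0
    · exact (Fin.ext h0 : l = 0) ▸ hp' rfl
    · exact hp.2 ⟨l, ⟨h0, by omega⟩, rfl⟩

end Groth.Agent.S13907
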