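import Groth.Statements.S13909
import Groth.Agent.BlowPush22.Higher
-- import your own Groth.Agent.* helpers here

set_option autoImplicit false
universe u
open CategoryTheory CategoryTheory.Limits AlgebraicGeometry
open BlowUp
set_option backward.isDefEq.respectTransparency false
set_option backward.isDefEq.respectTransparency.types false
set_option maxHeartbeats 800000

namespace Groth.Agent.S13909

/-- For the blowing up σ : X ⟶ Y of a smooth separated finite-type scheme over a characteristic-zero
algebraically closed field along a closed subscheme regularly immersed of constant codimension d ≥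
2, and a finite locally free O_Y-module E, the unit E ⟶ σ_* σ^* E is an isomorphism and R^p σ_*(σ^*
E) = 0 for all p ≥ 1 (higher direct images of the underlying abelian sheaf). -/
theorem result (k : Type u) [Field k] [IsAlgClosed k] [CharZero k]
    {S Y X : Scheme.{u}} [Y.Over (Spec (CommRingCat.of k))] [Smooth (Y ↘ Spec (CommRingCat.of k))]
    [IsSeparated (Y ↘ Spec (CommRingCat.of k))] [QuasiCompact (Y ↘ Spec (CommRingCat.of k))]
    (i : S ⟶ Y) [IsClosedImmersion i] (d : ℕ) (hd : 2 ≤ d) (hi : RegImm.IsRegularImmersionOfCodim .regular d i)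
    (σ : X ⟶ Y) (hσ : BlowUp.IsBlowUp σ i.ker)
    (E : Y.Modules) (hE : FlatMod.IsFinLocFree E) :
    IsIso ((Scheme.Modules.pullbackPushforwardAdjunction σ).unit.app E) ∧
    ∀ p : ℕ, 1 ≤ p → IsZero ((Coh.RpushAb σ p).obj (Coh.toAb ((Scheme.Modules.pullback σ).obj E))) := by
  haveI : IsLocallyNoetherian Y := LocallyOfFiniteType.isLocallyNoetherian (Y ↘ Spec (CommRingCat.of k))
  haveI : IsProper σ := Groth.Agent.BlowUpLib.isProper_of_isBlowUp i.ker hσ fun U => by
    haveI := IsLocallyNoetherian.component_noetherian U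
    exact IsNoetherian.noetherian _
  have hC : ∀ y ∈ (i.ker.support : Set Y), (2 : ℕ∞) ≤ LocCoh.depth (Y.presheaf.stalk y) (Y.presheaf.stalk y) := by
    intro y hy
    obtain ⟨z, rfl⟩ : y ∈ Set.range i := by
      rw [Scheme.Hom.support_ker] at hy
      exact (i.isClosedEmbedding.isClosed_range.closure_eq).le hy
    exact le_trans (by exact_mod_cast hd) (Groth.Agent.BlowPush22.le_depth_of_regular i d hi z)
  refine ⟨Groth.Agent.H23.PullPush.isIso_unit_of_isFinLocFree σ
    (Groth.Agent.BlowPush22.bijective_app i.ker σ hσ hC) E hE, fun p hp => ?_⟩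
  obtain ⟨q, rfl⟩ : ∃ q, p = q + 1 := Nat.exists_eq_add_of_le' hp
  haveI : HasInjectiveResolutions X.Modules := Groth.Agent.KFlatLib.hasInjectiveResolutions_modules
  obtain ⟨e⟩ := Groth.Agent.S0927.result σ (Coh.structureModule X) E hE (q + 1)
  obtain ⟨eu⟩ := Groth.Agent.H23.PicMul.unit ((Scheme.Modules.pullback σ).obj E)
  refine Groth.Agent.H28.BlowExact.rz_of_isZero_Rpush σ q
    (IsZero.of_iso ?_ ((Coh.Rpush σ (q + 1)).mapIso eu.symm ≪≫ e.symm))
  exact (DCoh.tensorBi.obj E).map_isZero (Groth.Agent.H28.BlowExact.isZero_Rpush_of_rz σ q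
    (Groth.Agent.BlowPush22.isZero_RpushAb i (le_trans one_le_two hd) hi σ hσ (q + 1) hp))

end Groth.Agent.S13909
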