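import Groth.Statements.S13910
import Groth.Agent.S13909
import Groth.Agent.H28.RKoszul
-- import your own Groth.Agent.* helpers here

set_option autoImplicit false
universe u
open CategoryTheory CategoryTheory.Limits AlgebraicGeometry
open BlowUp
set_option backward.isDefEq.respectTransparency false
set_option backward.isDefEq.respectTransparency.types false
set_option maxHeartbeats 800000

namespace Groth.Agent.S13910

/-- For the blowing up σ : X ⟶ Y of a smooth separated finite-type scheme over a characteristic-zero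
algebraically closed field along a closed subscheme regularly immersed of constant codimension d ≥
2, and a short exact sequence 0 ⟶ E₁ ⟶ E₀ ⟶ F ⟶ 0 of O_Y-modules with E₀, E₁ finite locally free and
F quasi-coherent of finite type whose pull-back along σ is again short exact, the unit F ⟶ σ_* σ^* F
is an isomorphism and R^p σ_*(σ^* F) = 0 for all p ≥ 1 (underlying abelian sheaves). -/
theorem result (k : Type u) [Field k] [IsAlgClosed k] [CharZero k]
    {S Y X : Scheme.{u}} [Y.Over (Spec (CommRingCat.of k))] [Smooth (Y ↘ Spec (CommRingCat.of k))]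
    [IsSeparated (Y ↘ Spec (CommRingCat.of k))] [QuasiCompact (Y ↘ Spec (CommRingCat.of k))]
    (i : S ⟶ Y) [IsClosedImmersion i] (d : ℕ) (hd : 2 ≤ d) (hi : RegImm.IsRegularImmersionOfCodim .regular d i)
    (σ : X ⟶ Y) (hσ : BlowUp.IsBlowUp σ i.ker)
    (T : ShortComplex Y.Modules) (hT : T.ShortExact) (h₁ : FlatMod.IsFinLocFree T.X₁) (h₀ : FlatMod.IsFinLocFree T.X₂)
    (hF : Coh.IsCoh T.X₃) (hpull : (T.map (Scheme.Modules.pullback σ)).ShortExact) :
    IsIso ((Scheme.Modules.pullbackPushforwardAdjunction σ).unit.app T.X₃) ∧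
    ∀ p : ℕ, 1 ≤ p → IsZero ((Coh.RpushAb σ p).obj (Coh.toAb ((Scheme.Modules.pullback σ).obj T.X₃))) := by
  obtain ⟨hu₁, hv₁⟩ := Groth.Agent.S13909.result k i d hd hi σ hσ T.X₁ h₁
  obtain ⟨hu₀, hv₀⟩ := Groth.Agent.S13909.result k i d hd hi σ hσ T.X₂ h₀
  refine ⟨?_, fun p hp => Groth.Agent.H28.RKoszul.rz_quot σ hpull p (hv₀ p hp) (hv₁ (p + 1) (by omega))⟩
  let η := (Scheme.Modules.pullbackPushforwardAdjunction σ).unit
  let P := Scheme.Modules.pullback σ
  let Q := Scheme.Modules.pushforward σ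
  haveI := hu₁; haveI := hu₀
  haveI := hT.epi_g
  haveI : Epi (Q.map (P.map T.g)) := Groth.Agent.H28.RKoszul.epi_push_map σ hpull (hv₁ 1 le_rfl)
  have n₁ : T.f ≫ η.app T.X₂ = η.app T.X₁ ≫ Q.map (P.map T.f) := η.naturality T.f
  have n₂ : T.g ≫ η.app T.X₃ = η.app T.X₂ ≫ Q.map (P.map T.g) := η.naturality T.g
  -- the pushed sequence is right exact
  have hex : ((T.map P).map Q).Exact := by
    haveI := (Scheme.Modules.pullbackPushforwardAdjunction σ).isRightAdjoint
    haveI : PreservesFiniteLimits Q := inferInstance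
    have h3 := ((Functor.preservesFiniteLimits_tfae Q).out 3 1 rfl rfl).1 ‹PreservesFiniteLimits Q›
    exact (h3 (T.map P) ⟨hpull.exact, hpull.mono_f⟩).1
  have hzero : Q.map (P.map T.f) ≫ inv (η.app T.X₂) ≫ T.g = 0 := by
    rw [← cancel_epi (η.app T.X₁), ← Category.assoc, ← n₁, Category.assoc, IsIso.hom_inv_id_assoc, T.zero, comp_zero]
  haveI : Epi ((T.map P).map Q).g := (inferInstance : Epi (Q.map (P.map T.g)))
  let v : Q.obj (P.obj T.X₃) ⟶ T.X₃ := hex.desc (inv (η.app T.X₂) ≫ T.g) hzero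
  have hv : Q.map (P.map T.g) ≫ v = inv (η.app T.X₂) ≫ T.g := hex.g_desc _ _
  refine ⟨v, ?_, ?_⟩
  · rw [← cancel_epi T.g, reassoc_of% n₂, hv, IsIso.hom_inv_id_assoc]
    exact (Category.comp_id _).symm
  · rw [← cancel_epi (Q.map (P.map T.g)), reassoc_of% hv, n₂, IsIso.inv_hom_id_assoc]
    exact (Category.comp_id _).symm

end Groth.Agent.S13910
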