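import Mathlib
import Groth.Statements.S13911
-- import your own Groth.Agent.* helpers here

set_option autoImplicit false
universe u
open PlaneConic

namespace Groth.Agent.S13911

open MvPolynomial Matrix

variable {k : Type u} [Field k] [CharZero k]

local notation "V" => Fin 3 → k

/-- The quadratic form of a matrix, as a polynomial. -/
noncomputable def quad (Q : Matrix (Fin 3) (Fin 3) k) : MvPolynomial (Fin 3) k :=
  ∑ i, ∑ j, Q i j • (X i * X j)

/-- The linear form of a vector. -/
noncomputable def lin (a : Fin 3 → k) : MvPolynomial (Fin 3) k := ∑ i, a i • X i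

lemma eval_quad (Q : Matrix (Fin 3) (Fin 3) k) (u : V) : eval u (quad Q) = u ⬝ᵥ Q.mulVec u := by
  simp [quad, dotProduct, Matrix.mulVec, Finset.mul_sum, smul_eval]
  exact Finset.sum_congr rfl fun i _ => Finset.sum_congr rfl fun j _ => by ring

lemma eval_lin (a u : V) : eval u (lin a) = a ⬝ᵥ u := by simp [lin, dotProduct, smul_eval]

lemma quad_inj {A B : Matrix (Fin 3) (Fin 3) k} (hA : A.IsSymm) (hB : B.IsSymm)
    (h : ∀ u : V, u ⬝ᵥ A.mulVec u = u ⬝ᵥ B.mulVec u) : A = B := by
  ext i j
  have h1 := h (Pi.single i 1 + Pi.single j 1)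
  have h2 := h (Pi.single i 1)
  have h3 := h (Pi.single j 1)
  simp [mulVec_add, add_dotProduct, dotProduct_add] at h1 h2 h3
  have h4 := hA.apply i j
  have h5 := hB.apply i j
  have h6 : (2 : k) * A i j = 2 * B i j := by linear_combination h1 - h2 - h3 - h4 + h5
  exact mul_left_cancel₀ two_ne_zero h6

lemma quad_eq_of_eval (Q : Matrix (Fin 3) (Fin 3) k) (g : MvPolynomial (Fin 3) k)
    (h : ∀ u : V, u ⬝ᵥ Q.mulVec u = eval u g) : quad Q = g :=
  MvPolynomial.funext fun u => (eval_quad Q u).trans (h u)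

/-- The symmetric product of two vectors. -/
noncomputable def symProd (a b : V) : Matrix (Fin 3) (Fin 3) k := (2 : k)⁻¹ • (vecMulVec a b + vecMulVec b a)

lemma symProd_mulVec (a b x : V) : (symProd a b).mulVec x = ((2 : k)⁻¹ * (b ⬝ᵥ x)) • a + ((2 : k)⁻¹ * (a ⬝ᵥ x)) • b := by
  simp only [symProd, smul_mulVec, add_mulVec, vecMulVec_mulVec, op_smul_eq_smul, smul_add, smul_smul]

lemma eq_symProd {Q : Matrix (Fin 3) (Fin 3) k} (hQ : Q.IsSymm) {a b : V} (h : quad Q = lin a * lin b) :
    Q = symProd a b := by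
  refine quad_inj hQ ?_ fun u => ?_
  · exact (by show _ᵀ = _; rw [transpose_add, transpose_vecMulVec, transpose_vecMulVec, add_comm] : (vecMulVec a b + vecMulVec b a).IsSymm).smul _
  · rw [← eval_quad, h, map_mul, eval_lin, eval_lin, symProd_mulVec, dotProduct_add, dotProduct_smul, dotProduct_smul,
      dotProduct_comm u a, dotProduct_comm u b, smul_eq_mul, smul_eq_mul]
    field_simp
    ring

lemma rank_eq (Q : Matrix (Fin 3) (Fin 3) k) : Q.rank = Module.finrank k (LinearMap.range Q.mulVecLin) := rfl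

lemma range_symProd_le (a b : V) : LinearMap.range (symProd a b).mulVecLin ≤ Submodule.span k {a, b} := by
  rintro _ ⟨x, rfl⟩
  rw [mulVecLin_apply, symProd_mulVec]
  exact Submodule.mem_span_pair.2 ⟨_, _, rfl⟩

lemma rank_symProd_le (a b : V) : (symProd a b).rank ≤ 2 := by
  rw [rank_eq]
  refine (Submodule.finrank_mono (range_symProd_le a b)).trans ?_
  classical
  refine (finrank_span_le_card _).trans ?_
  simp only [Set.toFinset_insert, Set.toFinset_singleton]
  exact (Finset.card_insert_le _ _).trans (by simp)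

lemma rank_symProd_eq_two {a b : V} (h : LinearIndependent k ![a, b]) : (symProd a b).rank = 2 := by
  refine le_antisymm (rank_symProd_le a b) ?_
  rw [rank_eq]
  have hab := LinearIndependent.pair_iff.1 h
  have hx : ∀ s t : k, ∃ x : V, a ⬝ᵥ x = s ∧ b ⬝ᵥ x = t := by
    intro s t
    let A : Matrix (Fin 2) (Fin 3) k := ![a, b]
    have : Function.Surjective A.mulVec := by
      have hrk : A.rank = 2 := by
        rw [Matrix.rank_eq_finrank_span_row]
        exact (finrank_span_eq_card h).trans (by simp)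
      exact (LinearMap.range_eq_top (f := A.mulVecLin)).1 (Submodule.eq_top_of_finrank_eq (hrk.trans (by simp)))
    obtain ⟨x, hx⟩ := this ![s, t]
    exact ⟨x, congrFun hx 0, congrFun hx 1⟩
  have hmem : Submodule.span k (Set.range ![a, b]) ≤ LinearMap.range (symProd a b).mulVecLin := by
    rw [Submodule.span_le]
    rintro _ ⟨i, rfl⟩
    fin_cases i
    · obtain ⟨x, h1, h2⟩ := hx 0 2
      exact ⟨x, by simp [symProd_mulVec, h1, h2]⟩
    · obtain ⟨x, h1, h2⟩ := hx 2 0
      exact ⟨x, by simp [symProd_mulVec, h1, h2]⟩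
  exact le_of_eq_of_le (by rw [finrank_span_eq_card h]; rfl) (Submodule.finrank_mono hmem)

lemma exists_split [IsAlgClosed k] {Q : Matrix (Fin 3) (Fin 3) k} (hQ : Q.IsSymm) (h0 : Q ≠ 0) :
    ∃ (v : V) (Q' : Matrix (Fin 3) (Fin 3) k), Q'.IsSymm ∧ Q = Q' + vecMulVec v v ∧ Q'.rank + 1 = Q.rank := by
  obtain ⟨w, hw⟩ : ∃ w : V, w ⬝ᵥ Q.mulVec w ≠ 0 := by
    by_contra! hall
    exact h0 (quad_inj hQ (by simp [IsSymm]) fun u => by simp [hall u])
  obtain ⟨c, hc⟩ := IsAlgClosed.exists_pow_nat_eq (w ⬝ᵥ Q.mulVec w) (Nat.zero_lt_two)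
  have hc0 : c ≠ 0 := fun e => hw (by rw [← hc, e]; simp)
  let v : V := c⁻¹ • Q.mulVec w
  let Q' := Q - vecMulVec v v
  have hwv : w ⬝ᵥ v = c := by
    simp only [v, dotProduct_smul, smul_eq_mul, ← hc]; field_simp
  have hQ' : Q'.IsSymm := hQ.sub (by simp [IsSymm, transpose_vecMulVec])
  have hwQ' : ∀ x, w ⬝ᵥ Q'.mulVec x = 0 := by
    intro x
    rw [dotProduct_mulVec, ← hQ'.eq, vecMul_transpose]
    have hz : Q'.mulVec w = 0 := by
      simp only [Q', sub_mulVec, vecMulVec_mulVec, op_smul_eq_smul, dotProduct_comm v w, hwv, v, smul_smul,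
        mul_inv_cancel₀ hc0, one_smul, sub_self]
    rw [hz, zero_dotProduct]
  refine ⟨v, Q', hQ', (sub_add_cancel _ _).symm, ?_⟩
  have hv0 : v ≠ 0 := fun e => hc0 (by rw [← hwv, e, dotProduct_zero])
  have hdisj : LinearMap.range Q'.mulVecLin ⊓ (k ∙ v) = ⊥ := by
    rw [Submodule.eq_bot_iff]
    rintro _ ⟨⟨x, rfl⟩, hy⟩
    obtain ⟨t, ht⟩ := Submodule.mem_span_singleton.1 hy
    have := hwQ' x
    rw [← mulVecLin_apply, ← ht, dotProduct_smul, hwv, smul_eq_mul, mul_eq_zero, or_iff_left hc0] at this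
    rw [← ht, this, zero_smul]
  have hsup : LinearMap.range Q'.mulVecLin ⊔ (k ∙ v) = LinearMap.range Q.mulVecLin := by
    have hvQ : v ∈ LinearMap.range Q.mulVecLin := ⟨c⁻¹ • w, by simp [v, mulVec_smul]⟩
    refine le_antisymm (sup_le ?_ ((Submodule.span_singleton_le_iff_mem _ _).2 hvQ)) ?_
    · rintro _ ⟨x, rfl⟩
      rw [mulVecLin_apply, sub_mulVec, vecMulVec_mulVec, op_smul_eq_smul]
      exact sub_mem ⟨x, rfl⟩ (Submodule.smul_mem _ _ hvQ)
    · rintro _ ⟨x, rfl⟩
      rw [mulVecLin_apply, show Q = Q' + vecMulVec v v from (sub_add_cancel _ _).symm, add_mulVec, vecMulVec_mulVec,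
        op_smul_eq_smul]
      exact Submodule.add_mem_sup ⟨x, rfl⟩ (Submodule.smul_mem _ _ (Submodule.mem_span_singleton_self v))
  have := Submodule.finrank_sup_add_finrank_inf_eq (LinearMap.range Q'.mulVecLin) (k ∙ v)
  rw [hdisj, hsup, finrank_bot, add_zero, finrank_span_singleton hv0] at this
  rw [rank_eq, rank_eq]; exact this.symm

lemma eq_zero_of_rank {Q : Matrix (Fin 3) (Fin 3) k} (h : Q.rank = 0) : Q = 0 := by
  rw [rank_eq, Submodule.finrank_eq_zero, LinearMap.range_eq_bot] at h
  exact Matrix.mulVec_injective (funext fun x => (LinearMap.congr_fun h x).trans (by simp))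

lemma quad_vecMulVec (v : V) : quad (vecMulVec v v) = lin v ^ 2 := by
  refine quad_eq_of_eval _ _ fun u => ?_
  rw [map_pow, eval_lin, vecMulVec_mulVec, op_smul_eq_smul, dotProduct_smul, smul_eq_mul, dotProduct_comm u v, sq]

lemma rank_square {Q : Matrix (Fin 3) (Fin 3) k} (hQ : Q.IsSymm) (h0 : Q ≠ 0) {a : V}
    (h : quad Q = lin a ^ 2) : Q.rank = 1 := by
  have hQa : Q = vecMulVec a a := quad_inj hQ (by simp [IsSymm, transpose_vecMulVec]) fun u => by
    rw [← eval_quad, ← eval_quad, h, quad_vecMulVec]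
  refine le_antisymm (hQa ▸ rank_vecMulVec_le a a) (Nat.one_le_iff_ne_zero.2 fun h1 => h0 (eq_zero_of_rank h1))

/-- Reducible quadratic forms are products of linear forms. -/
lemma exists_linear_factors {f g h : MvPolynomial (Fin 3) k} (hf : f.IsHomogeneous 2)
    (hg : g.totalDegree ≤ 1) (hh : h.totalDegree ≤ 1) (e : f = g * h) :
    ∃ a b : V, f = lin a * lin b := by
  have key : ∀ p : MvPolynomial (Fin 3) k, p.totalDegree ≤ 1 →
      ∃ a : V, p = homogeneousComponent 0 p + lin a ∧ (lin a).IsHomogeneous 1 := by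
    intro p hp
    obtain ⟨a, ha⟩ := (Submodule.mem_span_range_iff_exists_fun k).1
      (homogeneousSubmodule_one_eq_span_X.le (homogeneousComponent_mem 1 p))
    refine ⟨a, ?_, (show lin a = homogeneousComponent 1 p from ha) ▸ homogeneousComponent_mem 1 p⟩
    show p = _ + ∑ i, a i • X i
    rw [ha]
    conv_lhs => rw [← sum_homogeneousComponent p]
    have : p.totalDegree = 0 ∨ p.totalDegree = 1 := by omega
    rcases this with h | h <;> rw [h]
    · simp [homogeneousComponent_eq_zero 1 p (by omega)]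
    · simp [Finset.sum_range_succ]
  obtain ⟨a, ha, ha1⟩ := key g hg
  obtain ⟨b, hb, hb1⟩ := key h hh
  refine ⟨a, b, ?_⟩
  have h2 : homogeneousComponent 2 f = f := by simp [homogeneousComponent_of_mem hf]
  rw [← h2, e, ha, hb, homogeneousComponent_zero g, homogeneousComponent_zero h, add_mul, mul_add, mul_add]
  simp only [map_add]
  have c0 : homogeneousComponent 2 (C (coeff 0 g) * C (coeff 0 h) : MvPolynomial (Fin 3) k) = 0 := by
    rw [homogeneousComponent_of_mem ((isHomogeneous_C (Fin 3) (coeff 0 g)).mul (isHomogeneous_C _ (coeff 0 h))), if_neg (by norm_num)]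
  have c1 : homogeneousComponent 2 (C (coeff 0 g) * lin b) = 0 := by
    rw [homogeneousComponent_of_mem ((isHomogeneous_C (Fin 3) (coeff 0 g)).mul hb1), if_neg (by norm_num)]
  have c2 : homogeneousComponent 2 (lin a * C (coeff 0 h)) = 0 := by
    rw [homogeneousComponent_of_mem (ha1.mul (isHomogeneous_C (Fin 3) (coeff 0 h))), if_neg (by norm_num)]
  rw [c0, c1, c2, homogeneousComponent_of_mem (ha1.mul hb1)]
  simp

lemma lin_isHomogeneous (a : V) : (lin a).IsHomogeneous 1 :=
  IsHomogeneous.sum _ _ _ fun i _ => by rw [smul_eq_C_mul]; exact (isHomogeneous_X k i).C_mul _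

/-- For an algebraically closed field k of characteristic zero, a nonzero symmetric 3 × 3 matrix Q over
k and the ternary quadratic form f = Σ Q_ij X_i X_j in k[X_0, X_1, X_2] (the equation of a plane
conic): (1) f is irreducible iff det Q ≠ 0; (2) the conic has a singular point, that is a nonzero
vector at which all partial derivatives of f vanish, iff det Q = 0 (so smooth conics are exactly the
irreducible ones); (3) f is the product of two linearly independent linear forms (two distinct
lines) iff rank Q = 2; (4) f is the square of a linear form (a double line) iff rank Q = 1. -/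
theorem result (k : Type u) [Field k] [IsAlgClosed k] [CharZero k]
    (Q : Matrix (Fin 3) (Fin 3) k) (hQ : Q.IsSymm) (hQ0 : Q ≠ 0) (f : MvPolynomial (Fin 3) k)
    (hf : f = ∑ i : Fin 3, ∑ j : Fin 3, Q i j • (MvPolynomial.X i * MvPolynomial.X j)) :
    (Irreducible f ↔ Q.det ≠ 0) ∧
    ((∃ u : Fin 3 → k, u ≠ 0 ∧ ∀ i : Fin 3, MvPolynomial.eval u (MvPolynomial.pderiv i f) = 0) ↔ Q.det = 0) ∧
    ((∃ a b : Fin 3 → k, LinearIndependent k ![a, b] ∧
        f = (∑ i : Fin 3, a i • MvPolynomial.X i) * (∑ i : Fin 3, b i • MvPolynomial.X i)) ↔ Q.rank = 2) ∧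
    ((∃ a : Fin 3 → k, f = (∑ i : Fin 3, a i • MvPolynomial.X i) ^ 2) ↔ Q.rank = 1) := by
  subst hf
  change (Irreducible (quad Q) ↔ _) ∧ ((∃ u : Fin 3 → k, u ≠ 0 ∧ ∀ i : Fin 3, MvPolynomial.eval u (MvPolynomial.pderiv i (quad Q)) = 0) ↔ _) ∧
    ((∃ a b : Fin 3 → k, LinearIndependent k ![a, b] ∧ quad Q = lin a * lin b) ↔ _) ∧
    ((∃ a : Fin 3 → k, quad Q = lin a ^ 2) ↔ _)
  have hpos : 1 ≤ Q.rank := Nat.one_le_iff_ne_zero.2 fun h => hQ0 (eq_zero_of_rank h)
  have hsq : Q.rank = 1 → ∃ a : Fin 3 → k, quad Q = lin a ^ 2 := by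
    intro h
    obtain ⟨v, Q', -, hQQ, hr⟩ := exists_split hQ hQ0
    rw [eq_zero_of_rank (show Q'.rank = 0 by omega), zero_add] at hQQ
    exact ⟨v, by rw [hQQ, quad_vecMulVec]⟩
  have htwo : Q.rank = 2 → ∃ a b : Fin 3 → k, LinearIndependent k ![a, b] ∧ quad Q = lin a * lin b := by
    intro h
    obtain ⟨v, Q', hQ', hQQ, hr⟩ := exists_split hQ hQ0
    have hQ'0 : Q' ≠ 0 := fun e => by rw [e, Matrix.rank_zero] at hr; omega
    obtain ⟨w, Q'', -, hQQ', hr'⟩ := exists_split hQ' hQ'0
    rw [eq_zero_of_rank (show Q''.rank = 0 by omega), zero_add] at hQQ'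
    subst hQQ'
    obtain ⟨i, hi⟩ := IsAlgClosed.exists_pow_nat_eq (-1 : k) Nat.zero_lt_two
    have hf : quad Q = lin (v + i • w) * lin (v - i • w) := by
      refine quad_eq_of_eval _ _ fun u => ?_
      rw [map_mul, eval_lin, eval_lin, hQQ, Matrix.add_mulVec, dotProduct_add, ← eval_quad, ← eval_quad,
        quad_vecMulVec, quad_vecMulVec, map_pow, map_pow, eval_lin, eval_lin, add_dotProduct, sub_dotProduct,
        smul_dotProduct, smul_eq_mul]
      linear_combination (w ⬝ᵥ u) ^ 2 * hi
    refine ⟨_, _, ?_, hf⟩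
    by_contra hdep
    have hQs := eq_symProd hQ hf
    set a := v + i • w
    set b := v - i • w
    have hle : Q.rank ≤ 1 := by
      rw [hQs, rank_eq]
      refine (Submodule.finrank_mono (range_symProd_le a b)).trans ?_
      have h2 : Module.finrank k (Submodule.span k (Set.range ![a, b])) < 2 := by
        refine lt_of_le_of_ne ?_ fun e => hdep ?_
        · exact (finrank_range_le_card (R := k) ![a, b]).trans (by simp)
        · exact linearIndependent_iff_card_eq_finrank_span.2 (by simpa [Set.finrank] using e.symm)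
      rw [Matrix.range_cons, Matrix.range_cons, Matrix.range_empty, Set.union_empty, Set.singleton_union] at h2
      omega
    omega
  have hdet : Q.det = 0 ↔ Q.rank ≤ 2 := by
    constructor
    · intro h
      by_contra h3
      have h4 : Q.rank = 3 := le_antisymm (by simpa using Q.rank_le_card_width) (by omega)
      have : Function.Surjective Q.mulVecLin := LinearMap.range_eq_top.1
        (Submodule.eq_top_of_finrank_eq (by rw [← rank_eq, h4]; simp))
      exact (Matrix.isUnit_iff_isUnit_det Q).1 (Matrix.mulVec_surjective_iff_isUnit.1 this) |>.ne_zero h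
    · intro h
      by_contra h3
      rw [Matrix.rank_of_isUnit Q ((Matrix.isUnit_iff_isUnit_det Q).2 (isUnit_iff_ne_zero.2 h3))] at h
      simp at h
  refine ⟨?_, ?_, ⟨fun ⟨a, b, hab, e⟩ => eq_symProd hQ e ▸ rank_symProd_eq_two hab, htwo⟩,
    ⟨fun ⟨a, e⟩ => rank_square hQ hQ0 e, hsq⟩⟩
  · constructor
    · intro hirr h0
      obtain ⟨a, b, e⟩ : ∃ a b : Fin 3 → k, quad Q = lin a * lin b := by
        rcases (show Q.rank = 1 ∨ Q.rank = 2 by have := hdet.1 h0; omega) with h | h
        · obtain ⟨a, ha⟩ := hsq h; exact ⟨a, a, ha.trans (sq _)⟩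
        · obtain ⟨a, b, -, hab⟩ := htwo h; exact ⟨a, b, hab⟩
      have hnu : ∀ a : Fin 3 → k, ¬ IsUnit (lin a) := fun a hu => by
        have h1 := (hu.map (MvPolynomial.eval (0 : Fin 3 → k))).ne_zero
        rw [eval_lin, dotProduct_zero] at h1
        exact h1 rfl
      rcases hirr.isUnit_or_isUnit e with h | h
      · exact hnu a h
      · exact hnu b h
    · intro h0
      have hf2 : (quad Q).IsHomogeneous 2 := MvPolynomial.IsHomogeneous.sum _ _ _ fun i _ =>
        MvPolynomial.IsHomogeneous.sum _ _ _ fun j _ => by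
          rw [MvPolynomial.smul_eq_C_mul]
          exact ((MvPolynomial.isHomogeneous_X k i).mul (MvPolynomial.isHomogeneous_X k j)).C_mul _
      have hne : quad Q ≠ 0 := fun e => hQ0 (quad_inj hQ (by simp [Matrix.IsSymm]) fun u => by
        rw [← eval_quad, e]; simp)
      have hdeg := hf2.totalDegree hne
      refine ⟨fun hu => ?_, fun g h e => ?_⟩
      · rw [MvPolynomial.isUnit_iff_totalDegree_of_isReduced, hdeg] at hu
        exact absurd hu.2 (by norm_num)
      · by_contra! hc
        have hg0 : g ≠ 0 := fun z => hne (by rw [e, z, zero_mul])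
        have hh0 : h ≠ 0 := fun z => hne (by rw [e, z, mul_zero])
        have hd : g.totalDegree + h.totalDegree = 2 := by
          rw [← MvPolynomial.totalDegree_mul_of_isDomain hg0 hh0, ← e, hdeg]
        have hpos' : ∀ p : MvPolynomial (Fin 3) k, p ≠ 0 → ¬ IsUnit p → 1 ≤ p.totalDegree := by
          intro p hp hu
          by_contra hlt
          obtain hC := MvPolynomial.totalDegree_eq_zero_iff_eq_C.1 (show p.totalDegree = 0 by omega)
          exact hu (hC ▸ (isUnit_iff_ne_zero.2 fun z => hp (by rw [hC, z, map_zero])).map _)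
        have := hpos' g hg0 hc.1
        have := hpos' h hh0 hc.2
        obtain ⟨a, b, hab⟩ := exists_linear_factors hf2 (by omega) (by omega) e
        exact h0 (hdet.2 (eq_symProd hQ hab ▸ rank_symProd_le a b))
  · have hpd : ∀ (u : Fin 3 → k) (i : Fin 3),
        MvPolynomial.eval u (MvPolynomial.pderiv i (quad Q)) = 2 * Q.mulVec u i := by
      intro u i
      have := hQ.apply
      simp only [quad, map_sum, Derivation.map_smul, Derivation.leibniz, MvPolynomial.pderiv_X, smul_eq_mul,
        MvPolynomial.smul_eval, map_add, map_mul, MvPolynomial.eval_X, Matrix.mulVec, dotProduct]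
      fin_cases i <;>
      · simp [Fin.sum_univ_three, Pi.single_apply]
        simp only [this 1 0, this 2 0, this 2 1]
        have e1 := this 0 1; have e2 := this 0 2; have e3 := this 1 2
        linear_combination (0 : k) * e1
    rw [← Matrix.exists_mulVec_eq_zero_iff]
    exact exists_congr fun u => and_congr_right fun _ => by simp [hpd, funext_iff]

end Groth.Agent.S13911
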