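import Mathlib
import Groth.Statements.S13912
-- import your own Groth.Agent.* helpers here

set_option autoImplicit false
universe u
open PlaneConic

namespace Groth.Agent.S13912

open MvPolynomial

variable {k : Type u} [Field k]

local notation "P" => MvPolynomial (Fin 3) k

lemma exists_coeff {L : P} (hL : L.IsHomogeneous 1) : ∃ c : Fin 3 → k, ∑ i, c i • X i = L :=
  (Submodule.mem_span_range_iff_exists_fun k).1 (homogeneousSubmodule_one_eq_span_X.le hL)

lemma prime_of_linear {a : P} (ha : a.IsHomogeneous 1) (h0 : a ≠ 0) : Prime a := by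
  refine (irreducible_of_totalDegree_eq_one (ha.totalDegree h0) fun x hx => ?_).prime
  refine isUnit_iff_ne_zero.2 fun hx0 => h0 ?_
  ext m
  have := hx m
  simpa [hx0] using this

lemma exists_smul_of_dvd {a b : P} (ha : a.IsHomogeneous 1) (hb : b.IsHomogeneous 1) (h0 : a ≠ 0) (h : a ∣ b) :
    ∃ t : k, b = C t * a := by
  obtain ⟨q, rfl⟩ := h
  by_cases hq : q = 0
  · exact ⟨0, by simp [hq]⟩
  refine ⟨q.coeff 0, ?_⟩
  have h1 := hb.totalDegree (mul_ne_zero h0 hq)
  rw [totalDegree_mul_of_isDomain h0 hq, ha.totalDegree h0] at h1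
  rw [mul_comm, ← totalDegree_eq_zero_iff_eq_C.1 (show q.totalDegree = 0 by omega)]

/-- A matrix of linear forms with zero determinant has dependent rows or dependent columns. -/
lemma rank_one_forms {a b c d : P} (ha : a.IsHomogeneous 1) (hb : b.IsHomogeneous 1) (hc : c.IsHomogeneous 1)
    (h : a * d = b * c) :
    ∃ x y : k, (x ≠ 0 ∨ y ≠ 0) ∧ ((C x * a + C y * c = 0 ∧ C x * b + C y * d = 0) ∨
      (C x * a + C y * b = 0 ∧ C x * c + C y * d = 0)) := by
  by_cases h0 : a = 0
  · subst h0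
    rw [zero_mul, eq_comm, mul_eq_zero] at h
    rcases h with rfl | rfl
    · exact ⟨1, 0, Or.inl one_ne_zero, Or.inl ⟨by simp, by simp⟩⟩
    · exact ⟨1, 0, Or.inl one_ne_zero, Or.inr ⟨by simp, by simp⟩⟩
  rcases (prime_of_linear ha h0).dvd_or_dvd ⟨d, h.symm⟩ with hd | hd
  · obtain ⟨t, rfl⟩ := exists_smul_of_dvd ha hb h0 hd
    have hd' : d = C t * c := mul_left_cancel₀ h0 (by rw [h]; ring)
    exact ⟨t, -1, Or.inr (by simp), Or.inr ⟨by simp, by simp [hd']⟩⟩
  · obtain ⟨t, rfl⟩ := exists_smul_of_dvd ha hc h0 hd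
    have hd' : d = C t * b := mul_left_cancel₀ h0 (by rw [h]; ring)
    exact ⟨t, -1, Or.inr (by simp), Or.inl ⟨by simp, by simp [hd']⟩⟩

/-- Setting a nonzero linear form to zero, within linear forms. -/
lemma exists_proj {l : P} (hl : l.IsHomogeneous 1) (h0 : l ≠ 0) :
    ∃ φ : P →ₐ[k] P, φ l = 0 ∧ (∀ L : P, L.IsHomogeneous 1 → (φ L).IsHomogeneous 1) ∧
      ∀ L : P, L.IsHomogeneous 1 → φ L = 0 → ∃ t : k, L = C t * l := by
  obtain ⟨c, hc⟩ := exists_coeff hl
  obtain ⟨j, hj⟩ : ∃ j, c j ≠ 0 := by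
    by_contra hall
    push_neg at hall
    exact h0 (by rw [← hc]; simp [hall])
  let φ : P →ₐ[k] P := aeval fun i => if i = j then X j - C (c j)⁻¹ * l else X i
  have key : ∀ L : P, L.IsHomogeneous 1 → ∃ t : k, φ L = L - C t * l := by
    intro L hL
    obtain ⟨e, rfl⟩ := exists_coeff hL
    refine ⟨e j * (c j)⁻¹, ?_⟩
    rw [map_sum, ← Finset.add_sum_erase _ _ (Finset.mem_univ j), ← Finset.add_sum_erase _ _ (Finset.mem_univ j)]
    have hrest : ∑ i ∈ Finset.univ.erase j, φ (e i • X i) = ∑ i ∈ Finset.univ.erase j, e i • X i :=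
      Finset.sum_congr rfl fun i hi => by simp [φ, (Finset.mem_erase.1 hi).1]
    rw [hrest]
    simp [φ, smul_eq_C_mul]
    ring
  refine ⟨φ, ?_, fun L hL => ?_, fun L hL h => ?_⟩
  · have h1 : φ (∑ i, c i • X i) = (∑ i, c i • X i) - C (c j * (c j)⁻¹) * l := by
      rw [map_sum, ← Finset.add_sum_erase _ _ (Finset.mem_univ j), ← Finset.add_sum_erase _ _ (Finset.mem_univ j)]
      have hrest : ∑ i ∈ Finset.univ.erase j, φ (c i • X i) = ∑ i ∈ Finset.univ.erase j, c i • X i :=
        Finset.sum_congr rfl fun i hi => by simp [φ, (Finset.mem_erase.1 hi).1]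
      rw [hrest]
      simp [φ, smul_eq_C_mul]
      ring
    rw [hc] at h1
    rw [h1, mul_inv_cancel₀ hj, map_one, one_mul, sub_self]
  · obtain ⟨t, ht⟩ := key L hL
    rw [ht]; exact hL.sub (by simpa using (isHomogeneous_C _ t).mul hl)
  · obtain ⟨t, ht⟩ := key L hL
    exact ⟨t, by rwa [h, eq_comm, sub_eq_zero] at ht⟩

lemma exists_gl {x y : k} (h : x ≠ 0 ∨ y ≠ 0) : ∃ g : GL (Fin 2) k, g.val 0 0 = x ∧ g.val 0 1 = y := by
  rcases h with h | h
  · exact ⟨Matrix.GeneralLinearGroup.mkOfDetNeZero !![x, y; 0, 1] (by simpa [Matrix.det_fin_two] using h),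
      by simp [Matrix.GeneralLinearGroup.mkOfDetNeZero, Matrix.GeneralLinearGroup.mk', Matrix.unitOfDetInvertible], by simp [Matrix.GeneralLinearGroup.mkOfDetNeZero, Matrix.GeneralLinearGroup.mk', Matrix.unitOfDetInvertible]⟩
  · exact ⟨Matrix.GeneralLinearGroup.mkOfDetNeZero !![x, y; 1, 0] (by simpa [Matrix.det_fin_two] using h),
      by simp [Matrix.GeneralLinearGroup.mkOfDetNeZero, Matrix.GeneralLinearGroup.mk', Matrix.unitOfDetInvertible], by simp [Matrix.GeneralLinearGroup.mkOfDetNeZero, Matrix.GeneralLinearGroup.mk', Matrix.unitOfDetInvertible]⟩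

lemma exists_gl_col {x y : k} (h : x ≠ 0 ∨ y ≠ 0) : ∃ g : GL (Fin 2) k, g.val 0 1 = x ∧ g.val 1 1 = y := by
  rcases h with h | h
  · exact ⟨Matrix.GeneralLinearGroup.mkOfDetNeZero !![0, x; 1, y] (by simpa [Matrix.det_fin_two] using h),
      by simp [Matrix.GeneralLinearGroup.mkOfDetNeZero, Matrix.GeneralLinearGroup.mk', Matrix.unitOfDetInvertible], by simp [Matrix.GeneralLinearGroup.mkOfDetNeZero, Matrix.GeneralLinearGroup.mk', Matrix.unitOfDetInvertible]⟩
  · exact ⟨Matrix.GeneralLinearGroup.mkOfDetNeZero !![1, x; 0, y] (by simpa [Matrix.det_fin_two] using h),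
      by simp [Matrix.GeneralLinearGroup.mkOfDetNeZero, Matrix.GeneralLinearGroup.mk', Matrix.unitOfDetInvertible], by simp [Matrix.GeneralLinearGroup.mkOfDetNeZero, Matrix.GeneralLinearGroup.mk', Matrix.unitOfDetInvertible]⟩

lemma exists_comb (s t : k) : ∃ x y : k, (x ≠ 0 ∨ y ≠ 0) ∧ x * s + y * t = 0 := by
  by_cases ht : t = 0
  · exact ⟨0, 1, Or.inr one_ne_zero, by simp [ht]⟩
  · exact ⟨t, -s, Or.inl ht, by ring⟩

/-- Over an algebraically closed field k of characteristic zero, for a 2 × 2 matrix M of linear forms in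
k[X_0, X_1, X_2] (entries homogeneous of degree 1, zero allowed), det M is a product of two linear
forms if and only if M can be brought by invertible scalar row and column operations g M h, with g,
h in GL_2(k), to a matrix with zero upper-right entry. (The published statement concerns matrices
with nonzero determinant; this row also allows determinant zero, where both sides hold.) -/
theorem result (k : Type u) [Field k] [IsAlgClosed k] [CharZero k]
    (M : Matrix (Fin 2) (Fin 2) (MvPolynomial (Fin 3) k)) (hM : ∀ a b : Fin 2, (M a b).IsHomogeneous 1) :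
    (∃ l₁ l₂ : MvPolynomial (Fin 3) k, l₁.IsHomogeneous 1 ∧ l₂.IsHomogeneous 1 ∧ M.det = l₁ * l₂) ↔
    ∃ g h : GL (Fin 2) k,
      ((MvPolynomial.C : k →+* MvPolynomial (Fin 3) k).mapMatrix g.val * M *
        (MvPolynomial.C : k →+* MvPolynomial (Fin 3) k).mapMatrix h.val) 0 1 = 0 := by
  constructor
  · rintro ⟨l₁, l₂, h₁, h₂, hdet⟩
    obtain ⟨l, r, hl, hl0, hdet⟩ : ∃ l r : MvPolynomial (Fin 3) k, l.IsHomogeneous 1 ∧ l ≠ 0 ∧ M.det = l * r := by
      by_cases h : l₁ = 0
      · exact ⟨MvPolynomial.X 0, 0, MvPolynomial.isHomogeneous_X _ _, MvPolynomial.X_ne_zero _, by simp [hdet, h]⟩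
      · exact ⟨l₁, l₂, h₁, h, hdet⟩
    obtain ⟨φ, hφl, hφh, hφ⟩ := exists_proj hl hl0
    have h0 : φ (M 0 0) * φ (M 1 1) = φ (M 0 1) * φ (M 1 0) := by
      rw [← map_mul, ← map_mul, ← sub_eq_zero, ← map_sub, ← Matrix.det_fin_two, hdet, map_mul, hφl, zero_mul]
    obtain ⟨x, y, hxy, hcase⟩ := rank_one_forms (hφh _ (hM 0 0)) (hφh _ (hM 0 1)) (hφh _ (hM 1 0)) h0
    have hlin : ∀ a b : MvPolynomial (Fin 3) k, a.IsHomogeneous 1 → b.IsHomogeneous 1 →
        MvPolynomial.C x * φ a + MvPolynomial.C y * φ b = 0 →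
        ∃ t, MvPolynomial.C x * a + MvPolynomial.C y * b = MvPolynomial.C t * l := by
      intro a b ha hb h
      refine hφ _ (.add (by simpa using (MvPolynomial.isHomogeneous_C _ x).mul ha)
        (by simpa using (MvPolynomial.isHomogeneous_C _ y).mul hb)) ?_
      simpa using h
    rcases hcase with ⟨e₁, e₂⟩ | ⟨e₁, e₂⟩
    · obtain ⟨s, hs⟩ := hlin _ _ (hM 0 0) (hM 1 0) e₁
      obtain ⟨t, ht⟩ := hlin _ _ (hM 0 1) (hM 1 1) e₂
      obtain ⟨g, hg0, hg1⟩ := exists_gl hxy
      obtain ⟨x', y', hxy', hst⟩ := exists_comb s t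
      obtain ⟨h, hh0, hh1⟩ := exists_gl_col hxy'
      refine ⟨g, h, ?_⟩
      simp only [Matrix.mul_apply, Fin.sum_univ_two, RingHom.mapMatrix_apply, Matrix.map_apply, hg0, hg1, hh0, hh1]
      rw [hs, ht]
      have hC := congrArg (MvPolynomial.C : k → MvPolynomial (Fin 3) k) hst
      simp only [map_add, map_mul, map_zero] at hC
      linear_combination l * hC
    · obtain ⟨s, hs⟩ := hlin _ _ (hM 0 0) (hM 0 1) e₁
      obtain ⟨t, ht⟩ := hlin _ _ (hM 1 0) (hM 1 1) e₂
      obtain ⟨h, hh0, hh1⟩ := exists_gl_col hxy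
      obtain ⟨x', y', hxy', hst⟩ := exists_comb s t
      obtain ⟨g, hg0, hg1⟩ := exists_gl hxy'
      refine ⟨g, h, ?_⟩
      simp only [Matrix.mul_apply, Fin.sum_univ_two, RingHom.mapMatrix_apply, Matrix.map_apply, hg0, hg1, hh0, hh1]
      have hC := congrArg (MvPolynomial.C : k → MvPolynomial (Fin 3) k) hst
      simp only [map_add, map_mul, map_zero] at hC
      linear_combination (MvPolynomial.C x') * hs + (MvPolynomial.C y') * ht + l * hC
  · rintro ⟨g, h, h0⟩
    set N := (MvPolynomial.C : k →+* MvPolynomial (Fin 3) k).mapMatrix g.val * M *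
        (MvPolynomial.C : k →+* MvPolynomial (Fin 3) k).mapMatrix h.val with hN
    have hlinN : ∀ i j, (N i j).IsHomogeneous 1 := by
      intro i j
      simp only [hN, Matrix.mul_apply, RingHom.mapMatrix_apply, Matrix.map_apply, Finset.sum_mul]
      refine MvPolynomial.IsHomogeneous.sum _ _ _ fun b _ => MvPolynomial.IsHomogeneous.sum _ _ _ fun a _ => ?_
      simpa using ((MvPolynomial.isHomogeneous_C _ _).mul (hM a b)).mul (MvPolynomial.isHomogeneous_C _ (h.val b j))
    have hdet : N.det = MvPolynomial.C g.val.det * M.det * MvPolynomial.C h.val.det := by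
      rw [hN, Matrix.det_mul, Matrix.det_mul, RingHom.map_det, RingHom.map_det]
    clear_value N
    have hg : g.val.det ≠ 0 := (g.isUnit.map Matrix.detMonoidHom).ne_zero
    have hh : h.val.det ≠ 0 := (h.isUnit.map Matrix.detMonoidHom).ne_zero
    refine ⟨MvPolynomial.C (g.val.det * h.val.det)⁻¹ * N 0 0, N 1 1,
      (hlinN 0 0).C_mul _, hlinN 1 1, ?_⟩
    have h2 : N.det = N 0 0 * N 1 1 := by rw [Matrix.det_fin_two, h0, zero_mul, sub_zero]
    rw [mul_assoc, ← h2, hdet]
    calc M.det = MvPolynomial.C ((g.val.det * h.val.det)⁻¹ * (g.val.det * h.val.det)) * M.det := by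
          rw [inv_mul_cancel₀ (mul_ne_zero hg hh), map_one, one_mul]
      _ = _ := by rw [map_mul, map_mul]; ring

end Groth.Agent.S13912
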