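import Groth.Statements.S13913
import Mathlib


set_option autoImplicit false
universe u
open PlaneCubic

namespace Groth.Agent.S13913

/-- Over an algebraically closed field of characteristic zero, for linearly independent linear forms z₁,
z₂ and quadratic forms q₁, q₂ in three variables and a nonzero common zero p of z₁ and z₂, the point
p is a singular point of the plane cubic z₁q₂ − z₂q₁ = 0 (all three partial derivatives vanish at p)
if and only if q₁ and q₂ both vanish at p. -/
theorem result (k : Type u) [Field k] [IsAlgClosed k] [CharZero k]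
    (z₁ z₂ q₁ q₂ : MvPolynomial (Fin 3) k) (hz₁ : z₁.IsHomogeneous 1) (hz₂ : z₂.IsHomogeneous 1)
    (hq₁ : q₁.IsHomogeneous 2) (hq₂ : q₂.IsHomogeneous 2) (hind : LinearIndependent k ![z₁, z₂])
    (p : Fin 3 → k) (hp : p ≠ 0) (hp₁ : MvPolynomial.eval p z₁ = 0) (hp₂ : MvPolynomial.eval p z₂ = 0) :
    (∀ i : Fin 3, MvPolynomial.eval p (MvPolynomial.pderiv i (z₁ * q₂ - z₂ * q₁)) = 0) ↔
      (MvPolynomial.eval p q₁ = 0 ∧ MvPolynomial.eval p q₂ = 0) := by
  classical
  constructor
  · intro h
    set l : MvPolynomial (Fin 3) k := MvPolynomial.eval p q₂ • z₁ - MvPolynomial.eval p q₁ • z₂ with hl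
    have hlh : l.IsHomogeneous 1 := by
      have a : ∀ (c : k) (z : MvPolynomial (Fin 3) k), z.IsHomogeneous 1 → (c • z).IsHomogeneous 1 := by
        intro c z hz
        rw [MvPolynomial.smul_eq_C_mul]
        simpa using (MvPolynomial.isHomogeneous_C _ c).mul hz
      exact (a _ _ hz₁).sub (a _ _ hz₂)
    have hd : ∀ i, MvPolynomial.pderiv i l = 0 := by
      intro i
      have e : MvPolynomial.eval p (MvPolynomial.pderiv i l) = 0 := by
        have := h i
        simp only [map_sub, MvPolynomial.pderiv_mul, map_add, map_mul, hp₁, hp₂, zero_mul, add_zero] at this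
        simp only [hl, map_sub, Derivation.map_smul, MvPolynomial.smul_eval]
        rw [← this]; ring
      have h0 : (MvPolynomial.pderiv i l).IsHomogeneous 0 := hlh.pderiv
      obtain ⟨c, hc⟩ :=
        Submodule.mem_one.mp (show MvPolynomial.pderiv i l ∈ (1 : Submodule k (MvPolynomial (Fin 3) k)) by
          rw [← MvPolynomial.homogeneousSubmodule_zero]; exact h0)
      rw [← hc] at e ⊢
      rw [MvPolynomial.algebraMap_eq, MvPolynomial.eval_C] at e
      simp [e]
    have hl0 : l = 0 := by
      have := hlh.sum_X_mul_pderiv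
      simp [hd] at this
      exact this.symm
    have := Fintype.linearIndependent_iff.mp hind ![MvPolynomial.eval p q₂, - MvPolynomial.eval p q₁]
      (by simpa [Fin.sum_univ_two, hl, sub_eq_add_neg] using hl0)
    exact ⟨by simpa using this 1, by simpa using this 0⟩
  · rintro ⟨h1, h2⟩ i
    simp [MvPolynomial.pderiv_mul, hp₁, hp₂, h1, h2]


end Groth.Agent.S13913
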