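import Groth.Statements.S13914
import Mathlib

set_option autoImplicit false
universe u
open PlaneConic

namespace Groth.Agent.S13914

/-- Over an algebraically closed field of characteristic zero, an invertible 3 × 3 matrix g, acting on
row vectors and so on the projective plane, fixes every point of the line u_0 = 0 if and only if g
is a nonzero scalar multiple of a matrix with rows (α, β, γ), (0, 1, 0), (0, 0, 1). -/
theorem result (k : Type u) [Field k] [IsAlgClosed k] [CharZero k]
    (g : Matrix (Fin 3) (Fin 3) k) (hg : IsUnit g.det) :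
    (∀ v : Fin 3 → k, v 0 = 0 → ∃ c : k, Matrix.vecMul v g = c • v) ↔
      ∃ c α β γ : k, c ≠ 0 ∧ g = c • !![α, β, γ; 0, 1, 0; 0, 0, 1] := by
  constructor
  · intro h
    obtain ⟨c₁, h1⟩ := h (Pi.single 1 1) (by simp)
    obtain ⟨c₂, h2⟩ := h (Pi.single 2 1) (by simp)
    obtain ⟨c₃, h3⟩ := h (Pi.single 1 1 + Pi.single 2 1) (by simp)
    rw [Matrix.add_vecMul, h1, h2] at h3
    have e1 : c₁ = c₃ := by simpa using congrFun h3 1
    have e2 : c₂ = c₃ := by simpa using congrFun h3 2
    have r1 : ∀ j, g 1 j = c₃ * (Pi.single 1 1 : Fin 3 → k) j := fun j => by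
      have := congrFun h1 j
      rwa [e1, Matrix.single_one_vecMul] at this
    have r2 : ∀ j, g 2 j = c₃ * (Pi.single 2 1 : Fin 3 → k) j := fun j => by
      have := congrFun h2 j
      rwa [e2, Matrix.single_one_vecMul] at this
    have hc : c₃ ≠ 0 := fun h0 => hg.ne_zero (Matrix.det_eq_zero_of_row_eq_zero 1 fun j => by
      rw [r1, h0, zero_mul])
    refine ⟨c₃, g 0 0 / c₃, g 0 1 / c₃, g 0 2 / c₃, hc, ?_⟩
    ext i j
    fin_cases i <;> fin_cases j <;> simp [r1, r2, mul_div_cancel₀, hc]
  · rintro ⟨c, α, β, γ, -, rfl⟩ v hv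
    refine ⟨c, ?_⟩
    ext j
    fin_cases j <;> simp [Matrix.vecMul, dotProduct, Fin.sum_univ_three, hv, mul_comm]

end Groth.Agent.S13914
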