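import Groth.Statements.S13916
import Mathlib.LinearAlgebra.Matrix.GeneralLinearGroup.Defs
import Mathlib.Algebra.MvPolynomial.Eval
import Mathlib.LinearAlgebra.Matrix.Notation
import Mathlib.Tactic.LinearCombination
import Mathlib.Tactic.FieldSimp

set_option autoImplicit false
universe u
open PlaneConic

namespace Groth.Agent.S13916
open MvPolynomial

/-- Over an algebraically closed field k of characteristic zero, with u_0, u_1, u_2 the coordinate
linear forms of k[X_0, X_1, X_2] and 2 × 2 matrices of linear forms compared up to M ↦ g M h with g,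
h invertible scalar matrices: (1) the matrices with rows (u_1, 0), (u_0, u_2) and (u_2, 0), (u_0,
u_1) are not equivalent; (2) for α ≠ 0 the matrix with rows (u_1, 0), (αu_0 + βu_1 + γu_2, u_2) is
equivalent to the one with rows (u_1, 0), (u_0, u_2). -/
theorem result (k : Type u) [Field k] [IsAlgClosed k] [CharZero k] :
    (¬ ∃ g h : GL (Fin 2) k,
      (MvPolynomial.C : k →+* MvPolynomial (Fin 3) k).mapMatrix g.val *
          !![MvPolynomial.X 1, 0; MvPolynomial.X 0, MvPolynomial.X 2] *
        (MvPolynomial.C : k →+* MvPolynomial (Fin 3) k).mapMatrix h.val =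
      !![MvPolynomial.X 2, 0; MvPolynomial.X 0, MvPolynomial.X 1]) ∧
    (∀ α β γ : k, α ≠ 0 → ∃ g h : GL (Fin 2) k,
      (MvPolynomial.C : k →+* MvPolynomial (Fin 3) k).mapMatrix g.val *
          !![MvPolynomial.X 1, 0;
             MvPolynomial.C α * MvPolynomial.X 0 + MvPolynomial.C β * MvPolynomial.X 1 + MvPolynomial.C γ * MvPolynomial.X 2,
             MvPolynomial.X 2] *
        (MvPolynomial.C : k →+* MvPolynomial (Fin 3) k).mapMatrix h.val =
      !![MvPolynomial.X 1, 0; MvPolynomial.X 0, MvPolynomial.X 2]) := by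
  constructor
  · rintro ⟨g, h, e⟩
    have ev : ∀ (v : Fin 3 → k), g.val * !![v 1, 0; v 0, v 2] * h.val = !![v 2, 0; v 0, v 1] := by
      intro v
      have := congrArg (fun M => M.map (MvPolynomial.eval v)) e
      rw [Matrix.map_mul, Matrix.map_mul] at this
      have hc : ∀ A : Matrix (Fin 2) (Fin 2) k, ((MvPolynomial.C : k →+* MvPolynomial (Fin 3) k).mapMatrix A).map (MvPolynomial.eval v) = A := by
        intro A; ext i j; simp
      rw [hc, hc] at this
      have hM : ∀ x y z : Fin 3, (!![(X x : MvPolynomial (Fin 3) k), 0; X y, X z]).map (MvPolynomial.eval v) = !![v x, 0; v y, v z] := by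
        intro x y z; ext i j; fin_cases i <;> fin_cases j <;> simp
      rwa [hM, hM] at this
    have A := ev ![0, 1, 0]
    have B := ev ![0, 0, 1]
    have C' := ev ![1, 0, 0]
    have a11 := congrFun (congrFun A 1) 1
    have b00 := congrFun (congrFun B 0) 0
    have c01 := congrFun (congrFun C' 0) 1
    simp [Matrix.mul_apply, Fin.sum_univ_two] at a11 b00 c01
    rcases c01 with h1 | h1
    · rw [h1, zero_mul] at b00; exact zero_ne_one b00
    · rw [h1, mul_zero] at a11; exact zero_ne_one a11
  · intro α β γ hα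
    refine ⟨Matrix.GeneralLinearGroup.mkOfDetNeZero !![1, 0; -β / α, α⁻¹] (by simp [Matrix.det_fin_two, hα]),
      Matrix.GeneralLinearGroup.mkOfDetNeZero !![1, 0; -γ, α] (by simp [Matrix.det_fin_two, hα]), ?_⟩
    have h1 : (MvPolynomial.C α⁻¹ : MvPolynomial (Fin 3) k) * MvPolynomial.C α = 1 := by
      rw [← map_mul, inv_mul_cancel₀ hα, map_one]
    ext1 i j
    fin_cases i <;> fin_cases j <;> simp [Matrix.mul_apply, Fin.sum_univ_two, Matrix.GeneralLinearGroup.mkOfDetNeZero, div_eq_mul_inv]
    · linear_combination (MvPolynomial.X 0) * h1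
    · linear_combination (MvPolynomial.X 2) * h1

end Groth.Agent.S13916
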