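import Groth.Statements.S13937
import Mathlib

set_option autoImplicit false
universe u
open W4c1limliniiii

namespace Groth.Agent.S13937

open Polynomial in
/-- Over an algebraically closed field of characteristic p (zero allowed), fix three distinct points
P_1, P_2, P_3 of the affine line and admissible indices (2 ≤ e_i ≤ d, e_i prime to p, ∑ (e_i − 1) =
2d − 2). The two-dimensional spaces V of polynomials of degree at most d that contain, for each i, a
non-zero member vanishing to order at least e_i at P_i (the intersection of the three Schubert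
cycles in the Grassmannian of pencils) form a projective space of some dimension m ≥ 0: there is a
non-zero linear space L of pairs of polynomials such that sending a non-zero pair (F, G) ∈ L to the
span of F and G is a surjection onto that set of spaces under which two non-zero pairs have the same
image exactly when they are proportional. -/
theorem result (k : Type u) [Field k]
    [IsAlgClosed k] (p : ℕ) [CharP k p] (d : ℕ) (P : Fin 3 → k) (hP : Function.Injective P)
    (e : Fin 3 → ℕ) (he : W4c1limliniiii.Admissible p d e) :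
    ∃ L : Submodule k (k[X] × k[X]), L ≠ ⊥ ∧
      (∀ v ∈ L, v ≠ 0 →
        Submodule.span k {v.1, v.2} ≤ Polynomial.degreeLE k d ∧
          Module.finrank k (Submodule.span k {v.1, v.2}) = 2 ∧
          ∀ i, ∃ s ∈ Submodule.span k {v.1, v.2}, s ≠ 0 ∧
            e i ≤ Polynomial.rootMultiplicity (P i) s) ∧
      (∀ V : Submodule k k[X], V ≤ Polynomial.degreeLE k d → Module.finrank k V = 2 →
        (∀ i, ∃ s ∈ V, s ≠ 0 ∧ e i ≤ Polynomial.rootMultiplicity (P i) s) →
          ∃ v ∈ L, v ≠ 0 ∧ Submodule.span k {v.1, v.2} = V) ∧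
      (∀ v ∈ L, ∀ w ∈ L, v ≠ 0 → w ≠ 0 →
        Submodule.span k {v.1, v.2} = Submodule.span k {w.1, w.2} → ∃ c : k, w = c • v) := by
  
  classical
  have hsum := he.2
  rw [Fin.sum_univ_three] at hsum
  let φ : Fin 3 → k[X] := fun i => (X - C (P i)) ^ e i
  have hφm : ∀ i, (φ i).Monic := fun i => (monic_X_sub_C _).pow _
  have hφd : ∀ i, (φ i).natDegree = e i := fun i => by simp [φ]
  have hco : ∀ i j, i ≠ j → IsCoprime (φ i) (φ j) := fun i j hij =>
    (isCoprime_X_sub_C_of_isUnit_sub (sub_ne_zero.2 fun h => hij (hP h)).isUnit).pow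
  have hmult : ∀ (F : k[X]) i, F ≠ 0 → (φ i ∣ F ↔ e i ≤ F.rootMultiplicity (P i)) := fun F i hF =>
    (le_rootMultiplicity_iff hF).symm
  have hkey : ∀ i j, i ≠ j → ∀ F ∈ degreeLE k d, φ i ∣ F → φ j ∣ F → F = 0 := by
    intro i j hij F hF hi hj
    by_contra h0
    have h := natDegree_le_of_dvd ((hco i j hij).mul_dvd hi hj) h0
    rw [Polynomial.natDegree_mul (hφm i).ne_zero (hφm j).ne_zero, hφd, hφd] at h
    have hd : F.natDegree ≤ d := natDegree_le_of_degree_le (mem_degreeLE.1 hF)
    have := (he.1 0).2.1; have := (he.1 1).2.1; have := (he.1 2).2.1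
    fin_cases i <;> fin_cases j <;> simp_all <;> omega
  have hcases : ∀ F : k[X] × k[X], F.1 ∈ degreeLE k d → F.2 ∈ degreeLE k d → φ 0 ∣ F.1 → φ 1 ∣ F.2 →
      φ 2 ∣ F.1 + F.2 → F ≠ 0 → F.1 ≠ 0 ∧ F.2 ≠ 0 ∧ F.1 + F.2 ≠ 0 := by
    rintro ⟨F, G⟩ hF hG h0 h1 h2 hne
    refine ⟨fun h => ?_, fun h => ?_, fun h => ?_⟩
    · simp only at h
      subst h
      exact hne (Prod.ext rfl (hkey 1 2 (by decide) G hG h1 (by simpa using h2)))
    · simp only at h
      subst h
      exact hne (Prod.ext (hkey 0 2 (by decide) F hF h0 (by simpa using h2)) rfl)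
    · simp only at h
      have hFG : G = -F := eq_neg_of_add_eq_zero_right h
      have hF0 := hkey 0 1 (by decide) F hF h0 (by simpa [hFG] using h1)
      exact hne (Prod.ext hF0 (by simp [hFG, hF0]))
  let L : Submodule k (k[X] × k[X]) :=
    { carrier := {F | F.1 ∈ degreeLE k d ∧ F.2 ∈ degreeLE k d ∧ φ 0 ∣ F.1 ∧ φ 1 ∣ F.2 ∧ φ 2 ∣ F.1 + F.2}
      zero_mem' := ⟨zero_mem _, zero_mem _, dvd_zero _, dvd_zero _, by simp⟩
      add_mem' := fun {a b} ha hb => ⟨add_mem ha.1 hb.1, add_mem ha.2.1 hb.2.1, dvd_add ha.2.2.1 hb.2.2.1,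
        dvd_add ha.2.2.2.1 hb.2.2.2.1, by
          rw [Prod.fst_add, Prod.snd_add, add_add_add_comm]; exact dvd_add ha.2.2.2.2 hb.2.2.2.2⟩
      smul_mem' := fun c a ha => ⟨Submodule.smul_mem _ c ha.1, Submodule.smul_mem _ c ha.2.1, by
          show φ 0 ∣ c • a.1; rw [smul_eq_C_mul]; exact ha.2.2.1.mul_left _, by
          show φ 1 ∣ c • a.2; rw [smul_eq_C_mul]; exact ha.2.2.2.1.mul_left _, by
          show φ 2 ∣ c • a.1 + c • a.2; rw [← smul_add, smul_eq_C_mul]; exact ha.2.2.2.2.mul_left _⟩ }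
  have hL : L ≠ ⊥ := by
    let n₀ := d + 1 - e 0
    let n₁ := d + 1 - e 1
    let comb : (degreeLT k n₀ × degreeLT k n₁) →ₗ[k] k[X] :=
      ((LinearMap.mulRight k (φ 0)).comp (degreeLT k n₀).subtype).coprod
        ((LinearMap.mulRight k (φ 1)).comp (degreeLT k n₁).subtype)
    let T : (degreeLT k n₀ × degreeLT k n₁) →ₗ[k] degreeLT k (e 2) :=
      LinearMap.codRestrict _ ((modByMonicHom (φ 2)).comp comb) fun x => by
        rw [mem_degreeLT]
        refine (degree_modByMonic_lt _ (hφm 2)).trans_le ?_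
        rw [degree_eq_natDegree (hφm 2).ne_zero, hφd]
    have hfin : ∀ m, Module.Finite k (degreeLT k m) := fun m => Module.Finite.equiv (degreeLTEquiv k m).symm
    have hrk : ∀ m, Module.finrank k (degreeLT k m) = m := fun m => by
      rw [(degreeLTEquiv k m).finrank_eq, Module.finrank_fin_fun]
    have := hfin n₀; have := hfin n₁; have := hfin (e 2)
    have hne : ¬ Function.Injective T := fun hT => by
      have := LinearMap.finrank_le_finrank_of_injective hT
      rw [Module.finrank_prod, hrk, hrk, hrk] at this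
      have := (he.1 0).2.1; have := (he.1 1).2.1; have := (he.1 2).2.1
      omega
    rw [← LinearMap.ker_eq_bot] at hne
    obtain ⟨⟨a, b⟩, hab, hne⟩ := Submodule.exists_mem_ne_zero_of_ne_bot hne
    have hdeg : ∀ (i : Fin 3) (c : degreeLT k (d + 1 - e i)), (c : k[X]) * φ i ∈ degreeLE k d := fun i c => by
      by_cases hc : (c : k[X]) = 0
      · rw [hc, zero_mul]; exact zero_mem _
      have hc' := mem_degreeLT.1 c.2
      rw [degree_eq_natDegree hc, Nat.cast_lt] at hc'
      refine mem_degreeLE.2 (degree_le_of_natDegree_le ((natDegree_mul_le).trans ?_))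
      rw [hφd]
      omega
    intro hbot
    have hmem : ((a : k[X]) * φ 0, (b : k[X]) * φ 1) ∈ L := ⟨hdeg 0 a, hdeg 1 b, dvd_mul_left _ _, dvd_mul_left _ _,
      (modByMonic_eq_zero_iff_dvd (hφm 2)).1 (congrArg Subtype.val hab)⟩
    rw [hbot, Submodule.mem_bot, Prod.mk_eq_zero, mul_eq_zero, mul_eq_zero] at hmem
    exact hne (Prod.ext (Subtype.ext (hmem.1.resolve_right (hφm 0).ne_zero))
      (Subtype.ext (hmem.2.resolve_right (hφm 1).ne_zero)))
  refine ⟨L, hL, fun v hv hne => ?_, fun V hV hV2 hs => ?_, fun v hv w hw hv0 hw0 hspan => ?_⟩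
  · obtain ⟨hv1, hv2, hd0, hd1, hd2⟩ := hv
    obtain ⟨n0, n1, n2⟩ := hcases v hv1 hv2 hd0 hd1 hd2 hne
    refine ⟨Submodule.span_le.2 (by rintro x (rfl | rfl) <;> assumption), ?_, fun i => ?_⟩
    · have hli : LinearIndependent k ![v.1, v.2] := by
        rw [LinearIndependent.pair_iff]
        intro a b hab
        have ha : a = 0 := by
          by_contra ha
          refine n0 (hkey 0 1 (by decide) _ hv1 hd0 ?_)
          have : v.1 = C (-b / a) * v.2 := by
            rw [← smul_eq_C_mul, div_eq_inv_mul, mul_smul, neg_smul, ← eq_neg_of_add_eq_zero_left hab,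
              inv_smul_smul₀ ha]
          rw [this]
          exact hd1.mul_left _
        subst ha
        rw [zero_smul, zero_add, smul_eq_zero] at hab
        exact ⟨rfl, hab.resolve_right n1⟩
      have := finrank_span_eq_card hli
      rw [Matrix.range_cons_cons_empty] at this
      simpa using this
    · fin_cases i
      · exact ⟨v.1, Submodule.subset_span (by simp), n0, (hmult _ 0 n0).1 hd0⟩
      · exact ⟨v.2, Submodule.subset_span (by simp), n1, (hmult _ 1 n1).1 hd1⟩
      · exact ⟨v.1 + v.2, add_mem (Submodule.subset_span (by simp)) (Submodule.subset_span (by simp)), n2,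
          (hmult _ 2 n2).1 hd2⟩
  · choose s hsV hs0 hsm using hs
    have hsd : ∀ i, φ i ∣ s i := fun i => (hmult _ i (hs0 i)).2 (hsm i)
    have hli : LinearIndependent k ![s 0, s 1] := by
      rw [LinearIndependent.pair_iff]
      intro a b hab
      have h1 : a • s 0 = 0 := hkey 0 1 (by decide) _ (hV (V.smul_mem a (hsV 0)))
        (by rw [smul_eq_C_mul]; exact (hsd 0).mul_left _)
        (by rw [eq_neg_of_add_eq_zero_left hab, smul_eq_C_mul, dvd_neg]; exact (hsd 1).mul_left _)
      have ha : a = 0 := (smul_eq_zero.1 h1).resolve_right (hs0 0)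
      subst ha
      rw [zero_smul, zero_add, smul_eq_zero] at hab
      exact ⟨rfl, hab.resolve_right (hs0 1)⟩
    have : Module.Finite k V := Module.finite_of_finrank_eq_succ hV2
    have hspan : Submodule.span k {s 0, s 1} = V := by
      refine Submodule.eq_of_le_of_finrank_le (Submodule.span_le.2 (by rintro x (rfl | rfl) <;> exact hsV _)) ?_
      have := finrank_span_eq_card hli
      rw [Matrix.range_cons_cons_empty, Fintype.card_fin] at this
      omega
    obtain ⟨α, β, hαβ⟩ := Submodule.mem_span_pair.1 (hspan ▸ hsV 2)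
    have hα : α ≠ 0 := fun h => by
      rw [h, zero_smul, zero_add] at hαβ
      refine hs0 2 (hkey 1 2 (by decide) _ (hV (hsV 2)) ?_ (hsd 2))
      rw [← hαβ, smul_eq_C_mul]; exact (hsd 1).mul_left _
    have hβ : β ≠ 0 := fun h => by
      rw [h, zero_smul, add_zero] at hαβ
      refine hs0 2 (hkey 0 2 (by decide) _ (hV (hsV 2)) ?_ (hsd 2))
      rw [← hαβ, smul_eq_C_mul]; exact (hsd 0).mul_left _
    refine ⟨(α • s 0, β • s 1), ⟨hV (V.smul_mem α (hsV 0)), hV (V.smul_mem β (hsV 1)), ?_, ?_, ?_⟩, ?_, ?_⟩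
    · show φ 0 ∣ α • s 0; rw [smul_eq_C_mul]; exact (hsd 0).mul_left _
    · show φ 1 ∣ β • s 1; rw [smul_eq_C_mul]; exact (hsd 1).mul_left _
    · show φ 2 ∣ α • s 0 + β • s 1; rw [hαβ]; exact hsd 2
    · simp [Prod.ext_iff, hα, hs0 0]
    · show Submodule.span k {α • s 0, β • s 1} = V
      rw [← hspan, Submodule.span_insert, Submodule.span_insert, Submodule.span_singleton_smul_eq hα.isUnit,
        Submodule.span_singleton_smul_eq hβ.isUnit]
  · obtain ⟨hv1, hv2, hd0, hd1, hd2⟩ := hv
    obtain ⟨hw1, hw2, he0, he1, he2⟩ := hw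
    obtain ⟨n0, n1, n2⟩ := hcases v hv1 hv2 hd0 hd1 hd2 hv0
    obtain ⟨a, b, hab⟩ := Submodule.mem_span_pair.1 (hspan.ge (Submodule.subset_span (by simp : w.1 ∈ ({w.1, w.2} : Set k[X]))))
    obtain ⟨a', b', hab'⟩ := Submodule.mem_span_pair.1 (hspan.ge (Submodule.subset_span (by simp : w.2 ∈ ({w.1, w.2} : Set k[X]))))
    have hb : b • v.2 = 0 := hkey 0 1 (by decide) _ (Submodule.smul_mem _ b hv2)
      (by rw [show b • v.2 = w.1 - a • v.1 by rw [← hab]; abel, smul_eq_C_mul]; exact dvd_sub he0 (hd0.mul_left _))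
      (by rw [smul_eq_C_mul]; exact hd1.mul_left _)
    have ha' : a' • v.1 = 0 := hkey 0 1 (by decide) _ (Submodule.smul_mem _ a' hv1)
      (by rw [smul_eq_C_mul]; exact hd0.mul_left _)
      (by rw [show a' • v.1 = w.2 - b' • v.2 by rw [← hab']; abel, smul_eq_C_mul]; exact dvd_sub he1 (hd1.mul_left _))
    rw [hb, add_zero] at hab
    rw [ha', zero_add] at hab'
    have hdiff : (b' - a) • v.2 = 0 := hkey 1 2 (by decide) _ (Submodule.smul_mem _ _ hv2)
      (by rw [smul_eq_C_mul]; exact hd1.mul_left _)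
      (by
        rw [show (b' - a) • v.2 = (w.1 + w.2) - a • (v.1 + v.2) by rw [← hab, ← hab', sub_smul, smul_add]; abel,
          smul_eq_C_mul]
        exact dvd_sub he2 (hd2.mul_left _))
    have : b' = a := sub_eq_zero.1 ((smul_eq_zero.1 hdiff).resolve_right n1)
    exact ⟨a, Prod.ext hab.symm (by rw [← hab', this]; rfl)⟩


end Groth.Agent.S13937
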