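import Groth.Statements.S13918
import Groth.Agent.Synt29.ThreePoint
import Groth.Agent.S13937

set_option autoImplicit false
universe u
open W4c1limliniiii

namespace Groth.Agent.S13918

open Polynomial in
/-- Over an algebraically closed field of characteristic p (zero allowed), fix three distinct points of
the affine line, an integer d and ramification indices e_i with 2 ≤ e_i ≤ d, each e_i prime to p,
and ∑ (e_i − 1) = 2d − 2. Then there is at most one separable self-map of the projective line of
degree d, taken up to automorphisms of the target, with ramification index exactly e_i at the i-th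
point — such maps being encoded as base-point-free separable pencils of polynomials of degree at
most d — and there is none precisely when some two-dimensional space of polynomials of degree at
most d with identically vanishing Wronskian contains, for each i, a non-zero member vanishing to
order at least e_i at the i-th point (an inseparable pencil, base points allowed, with at least the
required ramification). (The three points are taken on the affine line, which is no restriction up
to a change of coordinate; the assertion that the solution, when it exists, is a reduced point of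
the parameter scheme is not restated.) -/
theorem result (k : Type u) [Field k] [IsAlgClosed k]
    (p : ℕ) [CharP k p] (d : ℕ) (P : Fin 3 → k) (hP : Function.Injective P)
    (e : Fin 3 → ℕ) (he : W4c1limliniiii.Admissible p d e) :
    (W4c1limliniiii.ramMaps d P e).Subsingleton ∧
      (W4c1limliniiii.ramMaps d P e = ∅ ↔
        ∃ V : Submodule k k[X], V ≤ Polynomial.degreeLE k d ∧ Module.finrank k V = 2 ∧
          ¬ W4c1limliniiii.IsSeparable V ∧
          ∀ i, ∃ s ∈ V, s ≠ 0 ∧ e i ≤ Polynomial.rootMultiplicity (P i) s) := by
  
  have h1 : ∀ i, 1 ≤ e i ∧ e i ≤ d := fun i => ⟨le_trans (by norm_num) (he.1 i).1, (he.1 i).2.1⟩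
  have huniq : ∀ V ∈ W4c1limliniiii.ramMaps d P e, ∀ V' : Submodule k k[X], V' ≤ Polynomial.degreeLE k d →
      Module.finrank k V' = 2 → (∀ i, ∃ s ∈ V', s ≠ 0 ∧ e i ≤ Polynomial.rootMultiplicity (P i) s) → V' = V :=
    fun V hV V' hV' h2' hc' => Groth.Agent.Synt29.ThreePoint.eq_of_isSeparable hP he.2 h1 hV.1.1 hV.1.2.1 hV.2.1
      (fun i => (hV.2.2 i).1) hV' h2' hc'
  refine ⟨fun V hV V' hV' => (huniq V hV V' hV'.1.1 hV'.1.2.1 fun i => (hV'.2.2 i).1).symm, fun hemp => ?_,
    fun ⟨V₀, hV₀, h20, hins, hc0⟩ => ?_⟩
  · obtain ⟨L, hL, hLp, -, -⟩ := Groth.Agent.S13937.result k p d P hP e he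
    obtain ⟨v, hv, hv0⟩ := Submodule.exists_mem_ne_zero_of_ne_bot hL
    obtain ⟨hle, h2, hc⟩ := hLp v hv hv0
    refine ⟨_, hle, h2, fun hsep => ?_, hc⟩
    have := Groth.Agent.Synt29.Pencil.mem_ramMaps hP he.2 (fun i => (h1 i).1) hle h2 hsep hc
    rw [hemp] at this
    exact this
  · refine Set.eq_empty_iff_forall_notMem.2 fun V hV => hins ?_
    rw [huniq V hV V₀ hV₀ h20 hc0]
    exact hV.2.1


end Groth.Agent.S13918
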