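import Groth.Statements.S13919
import Groth.Agent.Synt29.ThreePoint
import Groth.Agent.S13937

set_option autoImplicit false
universe u
open W4c1limliniiii

namespace Groth.Agent.S13919

open Polynomial in
/-- Over an algebraically closed field of characteristic p (zero allowed), fix three distinct points of
the affine line and indices 2 ≤ e_i ≤ d prime to p with ∑ (e_i − 1) = 2d − 2, and encode self-maps
of the projective line up to automorphisms of the target as base-point-free separable pencils of
polynomials of degree at most d. If p is positive, the first two indices are less than p and p ≤ d,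
then there is no separable degree-d self-map of the projective line with ramification index exactly
e_i at the i-th point; if p = 0 or d < p there is exactly one up to automorphisms of the target.
(The first clause includes the case d = p; with it, when all e_i are less than p, the three-point
count is one map if p = 0 or p > d and none otherwise.) -/
theorem result (k : Type u) [Field k] [IsAlgClosed k]
    (p : ℕ) [CharP k p] (d : ℕ) (P : Fin 3 → k) (hP : Function.Injective P)
    (e : Fin 3 → ℕ) (he : W4c1limliniiii.Admissible p d e) :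
    (p ≠ 0 → e 0 < p → e 1 < p → p ≤ d → W4c1limliniiii.ramMaps d P e = ∅) ∧
      (p = 0 ∨ d < p → ∃ V : Submodule k k[X], W4c1limliniiii.ramMaps d P e = {V}) := by
  
  have h1 : ∀ i, 1 ≤ e i ∧ e i ≤ d := fun i => ⟨le_trans (by norm_num) (he.1 i).1, (he.1 i).2.1⟩
  have huniq : ∀ V ∈ W4c1limliniiii.ramMaps d P e, ∀ V' : Submodule k k[X], V' ≤ Polynomial.degreeLE k d →
      Module.finrank k V' = 2 → (∀ i, ∃ s ∈ V', s ≠ 0 ∧ e i ≤ Polynomial.rootMultiplicity (P i) s) → V' = V :=
    fun V hV V' hV' h2' hc' => Groth.Agent.Synt29.ThreePoint.eq_of_isSeparable hP he.2 h1 hV.1.1 hV.1.2.1 hV.2.1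
      (fun i => (hV.2.2 i).1) hV' h2' hc'
  refine ⟨fun hp0 he0 he1 hpd => ?_, fun hp => ?_⟩
  · have hpr : p.Prime := (CharP.char_is_prime_or_zero k p).resolve_right hp0
    have : Fact p.Prime := ⟨hpr⟩
    let h : k[X] := (X - C (P 2)) ^ (d - p)
    let F : Fin 3 → k[X] := fun i => h * (X - C (P i)) ^ p
    have hF : ∀ i, F i = h * X ^ p - C (P i ^ p) * h := fun i => by
      simp only [F, sub_pow_char, ← map_pow]
      ring
    have hmem : ∀ i, F i ∈ Submodule.span k ({F 0, F 1} : Set k[X]) := by
      intro i
      have hne : (P 1 ^ p - P 0 ^ p : k) ≠ 0 := by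
        rw [sub_ne_zero]
        exact fun he => absurd (hP (frobenius_inj k p (by simpa [frobenius_def] using he))) (by decide)
      refine Submodule.mem_span_pair.2 ⟨1 - (P i ^ p - P 0 ^ p) / (P 1 ^ p - P 0 ^ p), (P i ^ p - P 0 ^ p) / (P 1 ^ p - P 0 ^ p), ?_⟩
      have key : C ((P i ^ p - P 0 ^ p) / (P 1 ^ p - P 0 ^ p)) * (C (P 1 ^ p) - C (P 0 ^ p)) = C (P i ^ p) - C (P 0 ^ p) := by
        rw [← map_sub, ← map_mul, div_mul_cancel₀ _ hne, map_sub]
      simp only [smul_eq_C_mul, hF, map_sub, map_one]
      linear_combination -h * key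
    have hFd : ∀ i, (F i).natDegree = d := fun i => by
      simp only [F, h]
      rw [Polynomial.natDegree_mul (pow_ne_zero _ (X_sub_C_ne_zero _)) (pow_ne_zero _ (X_sub_C_ne_zero _))]
      simp
      omega
    have hF0 : ∀ i, F i ≠ 0 := fun i h0 => by
      have := hFd i; rw [h0, natDegree_zero] at this; have := hpr.pos; omega
    refine Set.eq_empty_iff_forall_notMem.2 fun V hV => ?_
    have hli : LinearIndependent k ![F 0, F 1] := by
      rw [LinearIndependent.pair_iff]
      intro a b hab
      have hh : h ≠ 0 := pow_ne_zero _ (X_sub_C_ne_zero _)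
      have h2 : (a + b) • X ^ p - C (a * P 0 ^ p + b * P 1 ^ p) = (0 : k[X]) := by
        refine mul_left_cancel₀ hh ?_
        rw [mul_zero, ← hab, hF, hF]
        simp only [smul_eq_C_mul, map_add, map_mul]
        ring
      have e1 := congrArg (fun f : k[X] => f.coeff p) h2
      have e2 := congrArg (fun f : k[X] => f.coeff 0) h2
      simp only [coeff_sub, coeff_smul, coeff_X_pow, coeff_C, coeff_zero, if_true, if_neg hpr.ne_zero,
        if_neg (Ne.symm hpr.ne_zero), smul_eq_mul, mul_one, mul_zero, sub_zero, zero_sub, neg_eq_zero] at e1 e2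
      have hb : b = -a := eq_neg_of_add_eq_zero_right e1
      subst hb
      have hne : (P 0 ^ p - P 1 ^ p : k) ≠ 0 := by
        rw [sub_ne_zero]
        exact fun he => absurd (hP (frobenius_inj k p (by simpa [frobenius_def] using he))) (by decide)
      have : a = 0 := (mul_eq_zero.1 (show a * (P 0 ^ p - P 1 ^ p) = 0 by linear_combination e2)).resolve_right hne
      simp [this]
    have h20 : Module.finrank k (Submodule.span k ({F 0, F 1} : Set k[X])) = 2 := by
      have := finrank_span_eq_card hli
      rwa [Matrix.range_cons_cons_empty, Fintype.card_fin] at this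
    have hle : Submodule.span k ({F 0, F 1} : Set k[X]) ≤ Polynomial.degreeLE k d := Submodule.span_le.2 (by
      rintro x (rfl | rfl) <;> exact mem_degreeLE.2 (degree_le_of_natDegree_le (hFd _).le))
    have hV' := huniq V hV _ hle h20 fun i => ⟨F i, hmem i, hF0 i, by
      refine (le_rootMultiplicity_iff (hF0 i)).2 ?_
      fin_cases i
      · exact (pow_dvd_pow _ he0.le).trans (dvd_mul_left _ _)
      · exact (pow_dvd_pow _ he1.le).trans (dvd_mul_left _ _)
      · show (X - C (P 2)) ^ e 2 ∣ (X - C (P 2)) ^ (d - p) * (X - C (P 2)) ^ p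
        rw [← pow_add]
        exact pow_dvd_pow _ (by have := (h1 2).2; omega)⟩
    obtain ⟨G₁, hG₁, G₂, hG₂, hW⟩ := hV.2.1
    rw [← hV'] at hG₁ hG₂
    obtain ⟨a, b, rfl⟩ := Submodule.mem_span_pair.1 hG₁
    obtain ⟨a', b', rfl⟩ := Submodule.mem_span_pair.1 hG₂
    refine hW ?_
    simp only [Polynomial.wronskian, hF, smul_eq_C_mul, derivative_add, derivative_sub, derivative_mul, derivative_C,
      derivative_X_pow, CharP.cast_eq_zero, map_zero, zero_mul, mul_zero, add_zero, zero_add]
    ring
  · obtain ⟨L, hL, hLp, -, -⟩ := Groth.Agent.S13937.result k p d P hP e he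
    obtain ⟨v, hv, hv0⟩ := Submodule.exists_mem_ne_zero_of_ne_bot hL
    obtain ⟨hle, h2, hc⟩ := hLp v hv hv0
    have hmem := Groth.Agent.Synt29.Pencil.mem_ramMaps hP he.2 (fun i => (h1 i).1) hle h2
      (Groth.Agent.Synt29.Pencil.isSeparable_of_lt p hp hle h2) hc
    exact ⟨_, Set.eq_singleton_iff_unique_mem.2 ⟨hmem, fun V hV => (huniq V hV _ hle h2 hc).symm⟩⟩


end Groth.Agent.S13919
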