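import Groth.Statements.S13920
import Groth.Agent.Synt29.PencilFamily

set_option autoImplicit false
universe u
open W4c1limliniiii

namespace Groth.Agent.S13920

open Polynomial in
/-- Over an algebraically closed field of prime characteristic p, fix n points of the affine line with
ramification indices e_i < p, and at infinity an index E with p < E and E prime to p, the datum (E,
e_1, …, e_n) being admissible for degree d (each index between 2 and d, ∑ (index − 1) = 2d − 2). If
one separable degree-d self-map of the projective line (up to automorphisms of the target, encoded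
as a base-point-free separable pencil of polynomials of degree at most d) has ramification index
exactly e_i at the i-th point and exactly E at infinity, then infinitely many do: the set of such
pencils is empty or infinite. (The consequence for general points, that no such map exists, is not
restated.) -/
theorem result
    (k : Type u) [Field k] [IsAlgClosed k] (p : ℕ) [Fact p.Prime] [CharP k p]
    (d n : ℕ) (P : Fin n → k) (e : Fin n → ℕ) (E : ℕ)
    (he : W4c1limliniiii.Admissible p d (Fin.cons E e : Fin (n + 1) → ℕ))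
    (hlt : ∀ i, e i < p) (hE : p < E) :
    {V : Submodule k k[X] | V ∈ W4c1limliniiii.ramMaps d P e ∧ W4c1limliniiii.HasRamIdxInf d V E} = ∅ ∨
      {V : Submodule k k[X] | V ∈ W4c1limliniiii.ramMaps d P e ∧
        W4c1limliniiii.HasRamIdxInf d V E}.Infinite := by
  
  classical
  refine or_iff_not_imp_left.2 fun hne => ?_
  obtain ⟨V, ⟨⟨hV, h2, ⟨F, hF, hFd⟩, hbp⟩, hsep, hram⟩, ⟨G, hG, hG0, hGd⟩, hinf⟩ := Set.nonempty_iff_ne_empty.2 hne
  have hpos := Nat.Prime.pos (Fact.out : p.Prime)
  have hE2 : 2 ≤ E ∧ E ≤ d := by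
    have := he.1 0
    simp only [Fin.cons_zero] at this
    exact ⟨this.1, this.2.1⟩
  have hGd' : G.natDegree + E = d := le_antisymm hGd (hinf G hG hG0)
  have hF0 : F ≠ 0 := fun h => by rw [h, natDegree_zero] at hFd; omega
  -- the two members have non-zero Wronskian
  obtain ⟨U, hU, hUW⟩ := Groth.Agent.Synt29.Pencil.exists_partner h2 hsep G hG hG0
  have hFG : wronskian F G ≠ 0 := by
    intro hz
    obtain ⟨x, y, hxy⟩ := Submodule.mem_span_pair.1
      ((Groth.Agent.Synt29.Pencil.span_eq_of_wronskian_ne_zero h2 hG hU hUW).symm ▸ hF)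
    have hz' : y • wronskian U G = 0 := by
      rw [← hxy, ← wronskianBilin_apply, map_add, map_smul, map_smul, LinearMap.add_apply, LinearMap.smul_apply,
        LinearMap.smul_apply, wronskianBilin_apply, wronskianBilin_apply, wronskian_self_eq_zero, smul_zero, zero_add] at hz
      exact hz
    rw [← wronskian_neg_eq] at hz'
    have hy : y = 0 := (smul_eq_zero.1 hz').resolve_right (by simpa using hUW)
    rw [hy, zero_smul, add_zero] at hxy
    have := congrArg Polynomial.natDegree hxy
    rw [hFd] at this
    have := natDegree_smul_le x G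
    omega
  let Ft : k → k[X] := fun t => F + C t * (X ^ p * G)
  have hWt : ∀ t, wronskian (Ft t) G = wronskian F G := fun t => by
    simp only [Ft, wronskian, derivative_add, derivative_mul, derivative_C, derivative_X_pow, CharP.cast_eq_zero,
      map_zero, zero_mul, zero_add, add_zero]
    ring
  let Vt : k → Submodule k k[X] := fun t => Submodule.span k {Ft t, G}
  have hmem1 : ∀ t, Ft t ∈ Vt t := fun t => Submodule.subset_span (by simp)
  have hmem2 : ∀ t, G ∈ Vt t := fun t => Submodule.subset_span (by simp)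
  have h2t : ∀ t, Module.finrank k (Vt t) = 2 := fun t =>
    Groth.Agent.Synt29.Pencil.finrank_span_pair (by rw [hWt]; exact hFG)
  have hXG : (X ^ p * G).natDegree = p + G.natDegree := by
    rw [natDegree_mul (pow_ne_zero _ X_ne_zero) hG0, natDegree_X_pow]
  have hFtd : ∀ t, (Ft t).natDegree = d := fun t => by
    rw [← hFd]
    refine natDegree_add_eq_left_of_natDegree_lt ?_
    refine (natDegree_C_mul_le t _).trans_lt ?_
    omega
  have hdeg : ∀ t, ∀ s ∈ Vt t, s = 0 ∨ s.natDegree = d ∨ s.natDegree = G.natDegree := fun t s hs => by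
    obtain ⟨a, b, rfl⟩ := Submodule.mem_span_pair.1 hs
    rcases eq_or_ne a 0 with rfl | ha
    · rcases eq_or_ne b 0 with rfl | hb
      · simp
      · exact Or.inr (Or.inr (by rw [zero_smul, zero_add, natDegree_smul _ hb]))
    · refine Or.inr (Or.inl ?_)
      rw [natDegree_add_eq_left_of_natDegree_lt] <;> rw [natDegree_smul _ ha, hFtd]
      exact (natDegree_smul_le b G).trans_lt (by omega)
  have hbpt : ∀ t a, ∃ s ∈ Vt t, s.eval a ≠ 0 := fun t a => by
    by_cases hGa : G.eval a = 0
    · refine ⟨Ft t, hmem1 t, ?_⟩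
      obtain ⟨u, hu, hua⟩ := hbp a
      rw [← Groth.Agent.Synt29.Pencil.span_eq_of_wronskian_ne_zero h2 hF hG hFG] at hu
      obtain ⟨x, y, rfl⟩ := Submodule.mem_span_pair.1 hu
      intro h
      simp [Ft, hGa] at h
      simp [hGa, h] at hua
    · exact ⟨G, hmem2 t, hGa⟩
  have hcast : ∀ a : ℕ, a ≠ 0 → a < p → (a : k) ≠ 0 := fun a ha hap h =>
    ha (Nat.eq_zero_of_dvd_of_lt ((CharP.cast_eq_zero_iff k p a).1 h) hap)
  have he2 : ∀ i, 2 ≤ e i := fun i => by
    have := (he.1 i.succ).1
    simpa using this
  have hW : ∀ i, (wronskian F G).rootMultiplicity (P i) = e i - 1 := fun i => by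
    obtain ⟨⟨s, hs, hs0, hsm⟩, hmax⟩ := hram i
    have hse : s.rootMultiplicity (P i) = e i := le_antisymm (hmax s hs hs0) hsm
    rw [← hse]
    refine Groth.Agent.Synt29.Pencil.rootMultiplicity_wronskian_of_pencil h2 (hbp _) hF hG hFG hs hs0 ?_ ?_
    · exact dvd_iff_isRoot.1 ((dvd_pow_self _ (by have := he2 i; omega)).trans ((le_rootMultiplicity_iff hs0).1 hsm))
    · rw [hse]
      exact hcast _ (by have := he2 i; omega) (hlt i)
  have hall : ∀ t, Vt t ∈ {V : Submodule k k[X] | V ∈ W4c1limliniiii.ramMaps d P e ∧ W4c1limliniiii.HasRamIdxInf d V E} := by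
    intro t
    refine ⟨⟨⟨Submodule.span_le.2 ?_, h2t t, ⟨Ft t, hmem1 t, hFtd t⟩, hbpt t⟩,
      ⟨Ft t, hmem1 t, G, hmem2 t, by rw [hWt]; exact hFG⟩, fun i => ?_⟩, ⟨G, hmem2 t, hG0, hGd⟩, fun s hs hs0 => ?_⟩
    · rintro x (rfl | rfl)
      · exact mem_degreeLE.2 (degree_le_of_natDegree_le (hFtd t).le)
      · exact hV hG
    · have hWi : (wronskian (Ft t) G).rootMultiplicity (P i) = e i - 1 := by rw [hWt]; exact hW i
      have hbound : ∀ s ∈ Vt t, s ≠ 0 → s.rootMultiplicity (P i) ≤ e i := fun s hs hs0 => by
        obtain ⟨u, hu, hsu⟩ := Groth.Agent.Synt29.Pencil.exists_partner (h2t t)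
          ⟨Ft t, hmem1 t, G, hmem2 t, by rw [hWt]; exact hFG⟩ s hs hs0
        have h := (le_rootMultiplicity_iff (a := P i) hsu).2 (Groth.Agent.Synt29.Pencil.pow_pred_dvd_wronskian u
          ((le_rootMultiplicity_iff (a := P i) hs0).1 le_rfl))
        rw [Groth.Agent.Synt29.Pencil.rootMultiplicity_eq_of_ne_zero (h2t t) (hmem1 t) (hmem2 t) hs hu
          (by rw [hWt]; exact hFG) hsu, hWi] at h
        have := he2 i
        omega
      refine ⟨?_, hbound⟩
      let s := C (G.eval (P i)) * Ft t - C ((Ft t).eval (P i)) * G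
      have hs : s ∈ Vt t := by
        simp only [s, ← smul_eq_C_mul]
        exact sub_mem (Submodule.smul_mem _ _ (hmem1 t)) (Submodule.smul_mem _ _ (hmem2 t))
      have hs0 : s ≠ 0 := by
        intro h
        have := congrArg (fun z => wronskianBilin k z G) h
        simp only [s, ← smul_eq_C_mul, map_sub, map_smul, LinearMap.sub_apply, LinearMap.smul_apply,
          wronskianBilin_apply, wronskian_self_eq_zero, smul_zero, sub_zero, map_zero, LinearMap.zero_apply] at this
        have hGe : G.eval (P i) = 0 := (smul_eq_zero.1 this).resolve_right (by rw [hWt]; exact hFG)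
        have h' := congrArg (fun z => wronskianBilin k (Ft t) z) h
        simp only [s, ← smul_eq_C_mul, map_sub, map_smul, wronskianBilin_apply, wronskian_self_eq_zero, smul_zero,
          zero_sub, map_zero, neg_eq_zero] at h'
        have hFe : (Ft t).eval (P i) = 0 := (smul_eq_zero.1 h').resolve_right (by rw [hWt]; exact hFG)
        obtain ⟨u, hu, hua⟩ := hbpt t (P i)
        obtain ⟨x, y, rfl⟩ := Submodule.mem_span_pair.1 hu
        simp [hFe, hGe] at hua
      have hse : s.eval (P i) = 0 := by simp [s]; ring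
      refine ⟨s, hs, hs0, le_of_eq ?_⟩
      have hpos' : 0 < s.rootMultiplicity (P i) := (rootMultiplicity_pos hs0).2 hse
      have hle := hbound s hs hs0
      have h := Groth.Agent.Synt29.Pencil.rootMultiplicity_wronskian_of_pencil (h2t t) (hbpt t _) (hmem1 t) (hmem2 t)
        (by rw [hWt]; exact hFG) hs hs0 hse (hcast _ (by omega) (lt_of_le_of_lt hle (hlt i)))
      rw [hWi] at h
      have := he2 i
      omega
    · rcases hdeg t s hs with h | h | h
      · exact absurd h hs0
      · omega
      · omega
  refine (Set.infinite_range_of_injective (f := Vt) fun t t' htt => ?_).mono (Set.range_subset_iff.2 hall)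
  by_contra hne
  have hmem : C (t - t') * (X ^ p * G) ∈ Vt t := by
    have h1 : Ft t' ∈ Vt t := htt ▸ hmem1 t'
    rw [show C (t - t') * (X ^ p * G) = Ft t - Ft t' by simp [Ft]; ring]
    exact sub_mem (hmem1 t) h1
  have hC : C (t - t') ≠ 0 := C_ne_zero.2 (sub_ne_zero.2 hne)
  have hd' : (C (t - t') * (X ^ p * G)).natDegree = p + G.natDegree := by
    rw [natDegree_C_mul (sub_ne_zero.2 hne), hXG]
  rcases hdeg t _ hmem with h | h | h
  · exact mul_ne_zero hC (mul_ne_zero (pow_ne_zero _ X_ne_zero) hG0) h
  · omega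
  · omega


end Groth.Agent.S13920
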