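import Groth.Statements.S13922
import Groth.Agent.Synt29.Flip

set_option autoImplicit false
universe u
open W4c1limliniiii

namespace Groth.Agent.S13922

open Polynomial in
/-- Over an algebraically closed field of prime characteristic p, let (d; e_1, …, e_n) be admissible
ramification data (2 ≤ e_i ≤ d, ∑ (e_i − 1) = 2d − 2) with every e_i < p, and for two distinct
indices i ≠ j replace e_i, e_j by p − e_i, p − e_j and d by d + p − e_i − e_j. Then the number of
separable self-maps of the projective line with the prescribed ramification at general points, up to
automorphisms of the target (counted as base-point-free separable pencils of polynomials, for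
configurations of points of the affine line off the zero set of a non-zero polynomial), is the same
for the two data: a number is the general count for one if and only if it is the general count for
the other. -/
theorem result (k : Type u) [Field k] [IsAlgClosed k]
    (p : ℕ) [Fact p.Prime] [CharP k p] (d n : ℕ) (e : Fin n → ℕ)
    (he : W4c1limliniiii.Admissible p d e) (hlt : ∀ l, e l < p) (i j : Fin n) (hij : i ≠ j)
    (m : ℕ) :
    W4c1limliniiii.HasGenericCount (k := k) d e m ↔
      W4c1limliniiii.HasGenericCount (k := k) (d + p - e i - e j)
        (Function.update (Function.update e i (p - e i)) j (p - e j)) m := by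
  

  classical
  have hbd : ∀ l, 1 ≤ e l ∧ e l < p := fun l => ⟨le_trans (by norm_num) (he.1 l).1, hlt l⟩
  have hbi := he.1 i
  have hbj := he.1 j
  have hli := hlt i
  have hlj := hlt j
  have hfi : Function.update (Function.update e i (p - e i)) j (p - e j) i = p - e i := by
    rw [Function.update_of_ne hij, Function.update_self]
  have hfj : Function.update (Function.update e i (p - e i)) j (p - e j) j = p - e j := Function.update_self _ _ _
  have hfo : ∀ l, l ≠ i → l ≠ j → Function.update (Function.update e i (p - e i)) j (p - e j) l = e l :=
    fun l a b => by rw [Function.update_of_ne b, Function.update_of_ne a]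
  have hsum' : (∑ l, Function.update (Function.update e i (p - e i)) j (p - e j) l) + 2 =
      2 * (d + p - e i - e j) + n := by
    have key : ∀ f : Fin n → ℕ, ∑ l, f l = f i + (f j + ∑ l ∈ (Finset.univ.erase i).erase j, f l) := fun f => by
      rw [Finset.add_sum_erase _ f (Finset.mem_erase.2 ⟨hij.symm, Finset.mem_univ j⟩),
        Finset.add_sum_erase _ f (Finset.mem_univ i)]
    have h0 : ∑ l ∈ (Finset.univ.erase i).erase j, Function.update (Function.update e i (p - e i)) j (p - e j) l =
        ∑ l ∈ (Finset.univ.erase i).erase j, e l :=
      Finset.sum_congr rfl fun l hl => by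
        obtain ⟨h1, h2⟩ : l ≠ j ∧ l ≠ i := by simpa using hl
        exact hfo l h2 h1
    have h := he.2
    rw [key e] at h
    rw [key _, h0, hfi, hfj]
    omega
  refine ⟨fun h => Groth.Agent.Synt29.Flip.hasGenericCount_flip (p := p) (i := i) (j := j) he.2 hbd hij
    (by omega) hfi hfj hfo (by omega) (by omega) m h,
    fun h => Groth.Agent.Synt29.Flip.hasGenericCount_flip (p := p) (i := i) (j := j) hsum' (fun l => ?_) hij
      (by rw [hfi, hfj]; omega) (by rw [hfi]; omega) (by rw [hfj]; omega) (fun l a b => (hfo l a b).symm)
      (by omega) (by omega) m h⟩
  by_cases hl : l = j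
  · subst hl; rw [hfj]; omega
  by_cases hl' : l = i
  · subst hl'; rw [hfi]; omega
  rw [hfo l hl' hl]; exact hbd l


end Groth.Agent.S13922
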