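import Groth.Statements.S13925
import Mathlib.Tactic.FinCases
import Mathlib.Tactic.Abel

set_option autoImplicit false
universe u v w x
open W4c1limliniiii

namespace Groth.Agent.S13925

/-- Let k be a field and U, E, W vector spaces over k with linear maps f : U → E, g' : E → U, f₂ : E → W
and g : W → E such that g' ∘ f = 0, the kernel of f₂ is contained in the image of g, and the image
of g meets the kernel of g' only in 0 — the conditions holding at a point of a linked Grassmannian
at which the linking scalar vanishes. Let V₁ ≤ U and V₂ ≤ E be subspaces and let C' ≤ V₂ be a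
subspace contained in the kernel of g' and meeting f(V₁) only in 0. Then the subspaces f(V₁), ker f₂
∩ V₂ and C' of E are independent: their sum is direct. (The published statement is for two
consecutive members V_{i-1}, V_i of a point of a linked Grassmannian at which the linking scalar
vanishes and adds the decomposition V_i = f(V_{i-1}) ⊕ (ker f_i ∩ V_i) ⊕ C with C ⊇ C'; this row
states the independence, with only the three conditions the argument uses.) -/
theorem result (k : Type u) [Field k]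
    (U : Type v) (E : Type w) (W : Type x) [AddCommGroup U] [Module k U] [AddCommGroup E]
    [Module k E] [AddCommGroup W] [Module k W]
    (f : U →ₗ[k] E) (g' : E →ₗ[k] U) (f₂ : E →ₗ[k] W) (g : W →ₗ[k] E)
    (hgf : g'.comp f = 0) (hII : LinearMap.ker f₂ ≤ LinearMap.range g)
    (hIII : LinearMap.range g ⊓ LinearMap.ker g' = ⊥)
    (V₁ : Submodule k U) (V₂ : Submodule k E) (C' : Submodule k E) (hC : C' ≤ V₂)
    (hCg : C' ≤ LinearMap.ker g') (hCf : Submodule.map f V₁ ⊓ C' = ⊥) :
    iSupIndep ![Submodule.map f V₁, LinearMap.ker f₂ ⊓ V₂, C'] := by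
  rw [iSupIndep_def]
  intro i
  have key : ∀ a ∈ Submodule.map f V₁, ∀ b ∈ LinearMap.ker f₂ ⊓ V₂, ∀ c ∈ C',
      a + b + c = 0 → a = 0 ∧ b = 0 ∧ c = 0 := by
    rintro a ⟨x, hx, rfl⟩ b ⟨hb, hb2⟩ c hc h
    have hga : g' (f x) = 0 := LinearMap.congr_fun hgf x
    have hgc : g' c = 0 := hCg hc
    have hgb : g' b = 0 := by
      have := congrArg g' h
      simpa [hga, hgc] using this
    have hb0 : b = 0 := by
      have : b ∈ LinearMap.range g ⊓ LinearMap.ker g' := ⟨hII hb, hgb⟩
      rwa [hIII, Submodule.mem_bot] at this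
    subst hb0
    rw [add_zero] at h
    have hc0 : c = 0 := by
      have : c ∈ Submodule.map f V₁ ⊓ C' :=
        ⟨(Submodule.neg_mem_iff _).1 (by rw [← eq_neg_of_add_eq_zero_left h]; exact ⟨x, hx, rfl⟩), hc⟩
      rwa [hCf, Submodule.mem_bot] at this
    subst hc0
    exact ⟨by simpa using h, rfl, rfl⟩
  rw [disjoint_iff_inf_le]
  rintro y ⟨hy, hy'⟩
  rw [Submodule.mem_bot]
  have hdec : ∀ (P Q : Submodule k E), (⨆ j, ⨆ (_ : j ≠ i), ![Submodule.map f V₁, LinearMap.ker f₂ ⊓ V₂, C'] j) ≤ P ⊔ Q →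
      ∃ p ∈ P, ∃ q ∈ Q, p + q = y := fun P Q hle => Submodule.mem_sup.1 (hle hy')
  fin_cases i
  · obtain ⟨p, hp, q, hq, hpq⟩ := hdec (LinearMap.ker f₂ ⊓ V₂) C' (iSup₂_le (by intro j hj; fin_cases j <;> simp_all))
    obtain ⟨h1, -, -⟩ := key y hy (-p) (neg_mem hp) (-q) (neg_mem hq) (by rw [← hpq]; abel)
    exact h1
  · obtain ⟨p, hp, q, hq, hpq⟩ := hdec (Submodule.map f V₁) C' (iSup₂_le (by intro j hj; fin_cases j <;> simp_all))
    obtain ⟨-, h1, -⟩ := key (-p) (neg_mem hp) y hy (-q) (neg_mem hq) (by rw [← hpq]; abel)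
    exact h1
  · obtain ⟨p, hp, q, hq, hpq⟩ := hdec (Submodule.map f V₁) (LinearMap.ker f₂ ⊓ V₂) (iSup₂_le (by intro j hj; fin_cases j <;> simp_all))
    obtain ⟨-, -, h1⟩ := key (-p) (neg_mem hp) (-q) (neg_mem hq) y hy (by rw [← hpq]; abel)
    exact h1

end Groth.Agent.S13925
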