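import Groth.Statements.S13926
import Groth.Agent.SmallAlg.LinAlg

set_option autoImplicit false
universe u v w
open W4c1limliniiii

namespace Groth.Agent.S13926

/-- Let k be a field, E₁ and E₂ finite-dimensional vector spaces over k of the same dimension, f : E₁ →
E₂ and g : E₂ → E₁ linear maps whose composite g ∘ f is multiplication by a scalar s, and V₁ a
subspace of E₁. Then there is a subspace V₂ of E₂ of the same dimension as V₁ with f(V₁) ≤ V₂ and
g(V₂) ≤ V₁. (The published statement is the surjectivity of the truncation morphisms of a linked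
Grassmannian, with a further assertion on lifting families; this row is the lifting step over a
field — over a point the chain of linked subspaces V_1, …, V_{n'} extends one index at a time — and
assumes only g ∘ f = s.) -/
theorem result (k : Type u) [Field k]
    (E₁ : Type v) (E₂ : Type w) [AddCommGroup E₁] [Module k E₁] [FiniteDimensional k E₁]
    [AddCommGroup E₂] [Module k E₂] [FiniteDimensional k E₂]
    (hdim : Module.finrank k E₁ = Module.finrank k E₂)
    (f : E₁ →ₗ[k] E₂) (g : E₂ →ₗ[k] E₁) (s : k) (hgf : g.comp f = s • LinearMap.id)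
    (V₁ : Submodule k E₁) :
    ∃ V₂ : Submodule k E₂, Module.finrank k V₂ = Module.finrank k V₁ ∧
      Submodule.map f V₁ ≤ V₂ ∧ Submodule.map g V₂ ≤ V₁ := by
  classical
  have hgf' : ∀ x, g (f x) = s • x := fun x => LinearMap.congr_fun hgf x
  by_cases hs : s = 0
  · have hle : Submodule.map f V₁ ≤ V₁.comap g := by
      rintro _ ⟨x, _, rfl⟩; simp [hgf', hs]
    have h1 : Module.finrank k (Submodule.map f V₁) ≤ Module.finrank k V₁ := Submodule.finrank_map_le f V₁
    have h2 : Module.finrank k V₁ ≤ Module.finrank k (V₁.comap g) := by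
      let q : E₂ →ₗ[k] E₁ ⧸ V₁ := V₁.mkQ ∘ₗ g
      have hq : LinearMap.ker q = V₁.comap g := by rw [LinearMap.ker_comp, Submodule.ker_mkQ]
      have := q.finrank_range_add_finrank_ker
      have h3 := Submodule.finrank_le (LinearMap.range q)
      have h4 := V₁.finrank_quotient_add_finrank
      rw [hq] at this
      omega
    obtain ⟨P, hP1, hP2, hP3⟩ := Groth.Agent.SmallAlg.exists_between hle h1 h2
    exact ⟨P, hP3, hP1, Submodule.map_le_iff_le_comap.2 hP2⟩
  · have hf : Function.Injective f := fun a b h => by
      have := congrArg g h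
      rw [hgf', hgf'] at this
      exact smul_right_injective _ hs this
    refine ⟨Submodule.map f V₁, ?_, le_rfl, ?_⟩
    · exact ((Submodule.equivMapOfInjective f hf V₁).finrank_eq).symm
    · rintro _ ⟨_, ⟨x, hx, rfl⟩, rfl⟩
      rw [hgf']; exact V₁.smul_mem s hx

end Groth.Agent.S13926
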