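import Groth.Statements.S13929
import Groth.Agent.Synt29.WronskiMap

set_option autoImplicit false
universe u
open W4c1limliniiii

namespace Groth.Agent.S13929

open Polynomial in
/-- Over an algebraically closed field of characteristic p with p = 0 or d < p, fix n distinct points of
the affine line and admissible ramification indices (2 ≤ e_i ≤ d, e_i prime to p, ∑ (e_i − 1) = 2d −
2). Then there are only finitely many separable self-maps of the projective line of degree d, up to
automorphisms of the target, with ramification index exactly e_i at the i-th point: the set of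
base-point-free separable pencils of polynomials of degree at most d with this ramification is
finite. (This is the case of a fully specified ramification divisor; the points are arbitrary
distinct points, not only general ones.) -/
theorem result (k : Type u) [Field k] [IsAlgClosed k]
    (p : ℕ) [CharP k p] (d n : ℕ) (P : Fin n → k) (hP : Function.Injective P)
    (e : Fin n → ℕ) (he : W4c1limliniiii.Admissible p d e) (hp : p = 0 ∨ d < p) :
    (W4c1limliniiii.ramMaps d P e).Finite := by
  
  classical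
  open Groth.Agent.Synt29 in
  have h1 : ∀ i, 1 ≤ e i := fun i => le_trans (by norm_num) (he.1 i).1
  have hsum : ∑ i, (e i - 1) + 2 = 2 * d := by
    have h : ∑ i, (e i - 1) + n = ∑ i, e i := by
      have h := Finset.sum_congr (s₁ := Finset.univ) rfl fun i _ => Nat.sub_add_cancel (h1 i)
      rw [Finset.sum_add_distrib] at h
      simpa using h
    have := he.2
    omega
  obtain ⟨d', rfl⟩ : ∃ d', d = d' + 1 := ⟨d - 1, by omega⟩
  let Q : k[X] := ∏ i, (X - C (P i)) ^ (e i - 1)
  have hQm : Q.Monic := monic_prod_of_monic _ _ fun i _ => (monic_X_sub_C _).pow _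
  have hQd : Q.natDegree + 2 = 2 * (d' + 1) := by
    rw [natDegree_prod_of_monic _ _ fun i _ => (monic_X_sub_C _).pow _]
    simpa [natDegree_pow] using hsum
  refine ((WronskiMap.finite_pairs p d' hp (-Q)).image fun x =>
    Submodule.span k {WronskiMap.spec x 0 (d' + 1), WronskiMap.spec x 1 d'}).subset ?_
  rintro V ⟨⟨hV, h2, ⟨F₀, hF₀, hF₀d⟩, -⟩, hsep, hram⟩
  have hdeg : ∀ s ∈ V, s.natDegree ≤ d' + 1 := fun s hs => natDegree_le_of_degree_le (mem_degreeLE.1 (hV hs))
  have hF₀0 : F₀ ≠ 0 := fun h => by rw [h, natDegree_zero] at hF₀d; omega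
  obtain ⟨t, ht, hFt⟩ := Pencil.exists_partner h2 hsep F₀ hF₀ hF₀0
  let F₁ := C F₀.leadingCoeff⁻¹ * F₀
  have hF₁ : F₁ ∈ V := by simp only [F₁, ← smul_eq_C_mul]; exact V.smul_mem _ hF₀
  have hF₁d : F₁.natDegree = d' + 1 := by
    rw [natDegree_C_mul (inv_ne_zero (leadingCoeff_ne_zero.2 hF₀0)), hF₀d]
  have hF₁m : F₁.Monic := monic_C_mul_of_mul_leadingCoeff_eq_one (inv_mul_cancel₀ (leadingCoeff_ne_zero.2 hF₀0))
  -- a second member of lower degree
  let G₀ := t - C (t.coeff (d' + 1)) * F₁
  have hG₀ : G₀ ∈ V := by simp only [G₀, ← smul_eq_C_mul]; exact V.sub_mem ht (V.smul_mem _ hF₁)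
  have hW₁ : wronskian F₁ G₀ ≠ 0 := by
    have e1 : wronskian F₁ G₀ = C F₀.leadingCoeff⁻¹ * wronskian F₀ t := by
      simp only [F₁, G₀, wronskian, derivative_sub, derivative_mul, derivative_C]; ring
    rw [e1]
    exact mul_ne_zero (C_ne_zero.2 (inv_ne_zero (leadingCoeff_ne_zero.2 hF₀0))) hFt
  have hG₀d : G₀.natDegree ≤ d' := natDegree_le_iff_coeff_eq_zero.2 fun j hj => by
    rcases eq_or_lt_of_le (show d' + 1 ≤ j by omega) with rfl | h
    · have : F₁.coeff (d' + 1) = 1 := by rw [← hF₁d, coeff_natDegree]; exact hF₁m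
      simp only [G₀, coeff_sub, coeff_C_mul, this, mul_one, sub_self]
    · rw [coeff_eq_zero_of_natDegree_lt]
      exact lt_of_le_of_lt (hdeg _ hG₀) h
  have hG₀0 : G₀ ≠ 0 := fun h => hW₁ (by rw [h, wronskian_zero_right])
  -- the Wronskian is fixed up to a constant
  have hdvd : Q ∣ wronskian F₁ G₀ := Finset.prod_dvd_of_coprime (fun i _ j _ hij =>
    (isCoprime_X_sub_C_of_isUnit_sub (sub_ne_zero.2 fun h => hij (hP h)).isUnit).pow) fun i _ => by
      obtain ⟨s, hs, hs0, hsm⟩ := (hram i).1
      obtain ⟨u, hu, hsu⟩ := Pencil.exists_partner h2 hsep s hs hs0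
      refine (le_rootMultiplicity_iff hW₁).1 ?_
      rw [← Pencil.rootMultiplicity_eq_of_ne_zero h2 hF₁ hG₀ hs hu hW₁ hsu]
      exact (le_rootMultiplicity_iff hsu).2 (Pencil.pow_pred_dvd_wronskian u ((le_rootMultiplicity_iff hs0).1 hsm))
  have hne : F₁.natDegree % p ≠ G₀.natDegree % p := by
    rw [hF₁d]
    rcases hp with rfl | hp
    · simp; omega
    · rw [Nat.mod_eq_of_lt hp, Nat.mod_eq_of_lt (by omega)]; omega
  obtain ⟨-, hWd⟩ := InsepLimit.natDegree_wronskian p (fun h => hW₁ (by rw [h, wronskian_zero_left])) hG₀0 hne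
  have hle := natDegree_le_of_dvd hdvd hW₁
  rw [hWd, hF₁d] at hle
  have hG₀e : G₀.natDegree = d' := by omega
  let G₁ := C G₀.leadingCoeff⁻¹ * G₀
  have hG₁ : G₁ ∈ V := by simp only [G₁, ← smul_eq_C_mul]; exact V.smul_mem _ hG₀
  have hG₁d : G₁.natDegree = d' := by rw [natDegree_C_mul (inv_ne_zero (leadingCoeff_ne_zero.2 hG₀0)), hG₀e]
  have hG₁m : G₁.Monic := monic_C_mul_of_mul_leadingCoeff_eq_one (inv_mul_cancel₀ (leadingCoeff_ne_zero.2 hG₀0))
  let F₂ := F₁ - C (F₁.coeff d') * G₁
  have hF₂ : F₂ ∈ V := by simp only [F₂, ← smul_eq_C_mul]; exact V.sub_mem hF₁ (V.smul_mem _ hG₁)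
  have hW₂ : wronskian F₂ G₁ = C G₀.leadingCoeff⁻¹ * wronskian F₁ G₀ := by
    simp only [F₂, G₁, wronskian, derivative_sub, derivative_mul, derivative_C]; ring
  have hW₂0 : wronskian F₂ G₁ ≠ 0 := by
    rw [hW₂]; exact mul_ne_zero (C_ne_zero.2 (inv_ne_zero (leadingCoeff_ne_zero.2 hG₀0))) hW₁
  let x : Fin 2 × Fin d' → k := fun v => if v.1 = 0 then F₂.coeff v.2 else G₁.coeff v.2
  have hxF : WronskiMap.spec x 0 (d' + 1) = F₂ := by
    ext j
    rw [WronskiMap.coeff_spec]
    rcases lt_trichotomy j d' with h | h | h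
    · rw [if_neg (by omega), dif_pos h, zero_add]
      simp [x]
    · subst h
      rw [if_neg (by omega), dif_neg (lt_irrefl j), zero_add]
      simp only [F₂, coeff_sub, coeff_C_mul]
      rw [← hG₁d, coeff_natDegree, hG₁m, mul_one, sub_self]
    · rw [dif_neg (by omega), add_zero]
      simp only [F₂, coeff_sub, coeff_C_mul, coeff_eq_zero_of_natDegree_lt (hG₁d ▸ h), mul_zero, sub_zero]
      rcases eq_or_lt_of_le (show d' + 1 ≤ j by omega) with rfl | h'
      · rw [if_pos rfl, ← hF₁d, coeff_natDegree, hF₁m]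
      · rw [if_neg h'.ne', coeff_eq_zero_of_natDegree_lt (by omega)]
  have hxG : WronskiMap.spec x 1 d' = G₁ := by
    ext j
    rw [WronskiMap.coeff_spec]
    rcases lt_trichotomy j d' with h | h | h
    · rw [if_neg h.ne, dif_pos h, zero_add]
      simp [x]
    · subst h
      rw [if_pos rfl, dif_neg (lt_irrefl j), add_zero, ← hG₁d, coeff_natDegree, hG₁m]
    · rw [if_neg h.ne', dif_neg (by omega), add_zero, coeff_eq_zero_of_natDegree_lt (by omega)]
  refine ⟨x, ?_, ?_⟩
  · show wronskian _ _ = -Q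
    rw [hxF, hxG]
    have hsF := WronskiMap.natDegree_spec x (0 : Fin 2) (D := d' + 1) (by omega)
    rw [hxF] at hsF
    have hne₂ : F₂.natDegree % p ≠ G₁.natDegree % p := by
      have h := hne; rw [hF₁d, hG₀e] at h; rwa [hsF.1, hG₁d]
    obtain ⟨-, hd₂⟩ := InsepLimit.natDegree_wronskian p (hsF.2.ne_zero) hG₁m.ne_zero hne₂
    rw [hsF.1, hG₁d] at hd₂
    have hd2 : Q ∣ wronskian F₂ G₁ := by rw [hW₂]; exact hdvd.mul_left _
    obtain ⟨u, hu⟩ := hd2
    have hu0 : u ≠ 0 := fun h => hW₂0 (by rw [hu, h, mul_zero])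
    have hud : u.natDegree = 0 := by
      rw [hu, natDegree_mul hQm.ne_zero hu0] at hd₂
      omega
    have hc : (wronskian F₂ G₁).coeff (2 * d') = -1 := by
      rw [wronskian, coeff_sub]
      rcases Nat.eq_zero_or_pos d' with h0 | h0
      · have hG1 : G₁ = 1 := hG₁m.natDegree_eq_zero.1 (hG₁d.trans h0)
        subst h0
        have : F₂.coeff 1 = 1 := by
          have h := hsF.1.trans (zero_add 1); rw [← h, coeff_natDegree]; exact hsF.2
        simp [hG1, coeff_derivative, this]
      · rw [show 2 * d' = (d' + 1) + (d' - 1) by omega, coeff_mul_add_eq_of_natDegree_le hsF.1.le (by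
            have := natDegree_derivative_le G₁; omega),
          show (d' + 1) + (d' - 1) = d' + d' by omega, coeff_mul_add_eq_of_natDegree_le (by
            have := natDegree_derivative_le F₂; omega) hG₁d.le, coeff_derivative, coeff_derivative,
          show d' - 1 + 1 = d' by omega]
        have e1 : F₂.coeff (d' + 1) = 1 := by rw [← hsF.1, coeff_natDegree]; exact hsF.2
        have e2 : G₁.coeff d' = 1 := by rw [← hG₁d, coeff_natDegree]; exact hG₁m
        rw [e1, e2, show ((d' - 1 : ℕ) : k) + 1 = (d' : k) by rw [← Nat.cast_succ, Nat.succ_eq_add_one, Nat.sub_add_cancel h0]]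
        ring
    rw [hu, eq_C_of_natDegree_eq_zero hud, coeff_mul_C, show 2 * d' = Q.natDegree by omega, coeff_natDegree, hQm,
      one_mul] at hc
    rw [hu, eq_C_of_natDegree_eq_zero hud, hc, map_neg, map_one, mul_neg, mul_one]
  · show Submodule.span k _ = V
    rw [hxF, hxG]
    exact Pencil.span_eq_of_wronskian_ne_zero h2 hF₂ hG₁ hW₂0


end Groth.Agent.S13929
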