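import Groth.Statements.S13934
import Groth.Agent.CurveCohLib.Stable
import Groth.Agent.CurveCohLib.SubBundle
import Groth.Agent.Lib.InvEnd

set_option autoImplicit false
universe u
open CategoryTheory CategoryTheory.Limits AlgebraicGeometry
open W4c1limliniiii

namespace Groth.Agent.S13934

/-- On a smooth proper integral curve over an algebraically closed field (any characteristic), let 0 → L
→ E → M → 0 be a short exact sequence of O_X-modules with E finite locally free of rank 2 and degree
0, L and M invertible and deg L > 0 (so M is det E ⊗ L⁻¹). Then: every invertible sheaf N admitting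
a non-zero map N → E has deg N ≤ deg L, so L is the line bundle of maximal degree in E; every
invertible subsheaf N of E of positive degree with invertible quotient E/N coincides with L (some
isomorphism N ≅ L commutes with the inclusions); and E is not an extension of two invertible sheaves
of degree 0. Degrees are χ(−) minus rank times χ(O_X). (The published lemma is stated on a curve of
genus 2 in characteristic p; its argument uses neither, and this row assumes neither.) -/
theorem result (k : Type u) [Field k] [IsAlgClosed k] (X : Scheme.{u}) [X.Over (Spec (CommRingCat.of k))]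
    [IsIntegral X] [IsProper (X ↘ Spec (CommRingCat.of k))] [Smooth (X ↘ Spec (CommRingCat.of k))]
    (hdim : topologicalKrullDim X = 1)
    (S : ShortComplex X.Modules) (hS : S.ShortExact)
    (hE : FlatMod.IsFinLocFreeOfRank 2 S.X₂) (hE0 : Curv2.deg k X S.X₂ 2 = 0)
    (hL : PicF.IsInvertible S.X₁) (hM : PicF.IsInvertible S.X₃) (hpos : 0 < Curv2.deg k X S.X₁ 1) :
    (∀ (N : X.Modules), PicF.IsInvertible N → ∀ j : N ⟶ S.X₂, j ≠ 0 →
        Curv2.deg k X N 1 ≤ Curv2.deg k X S.X₁ 1) ∧
    (∀ (N : X.Modules), PicF.IsInvertible N → ∀ (j : N ⟶ S.X₂), Mono j →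
        PicF.IsInvertible (cokernel j) → 0 < Curv2.deg k X N 1 → ∃ φ : N ≅ S.X₁, φ.hom ≫ S.f = j) ∧
    (∀ (N N' : X.Modules), PicF.IsInvertible N → PicF.IsInvertible N' →
        Curv2.deg k X N 1 = 0 → Curv2.deg k X N' 1 = 0 →
        ∀ (a : N ⟶ S.X₂) (b : S.X₂ ⟶ N') (w : a ≫ b = 0), ¬ (ShortComplex.mk a b w).ShortExact) := by
  haveI : IsLocallyNoetherian X := LocallyOfFiniteType.isLocallyNoetherian (X ↘ Spec (CommRingCat.of k))
  have hpid := CurveCohLib.isPrincipalIdealRing_stalk_of_smooth (X ↘ Spec (CommRingCat.of k)) hdim.le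
  -- a nonzero map of invertible sheaves does not lower the degree
  have key : ∀ {A B : X.Modules}, PicF.IsInvertible A → PicF.IsInvertible B → ∀ φ : A ⟶ B, φ ≠ 0 →
      Curv2.deg k X A 1 ≤ Curv2.deg k X B 1 := by
    intro A B hA hB φ hφ
    obtain ⟨a, b, hab, hK, hG, -⟩ := CurveCohLib.exists_ker_image k hpid φ (InvEnd.isFinLocFreeOfRank_one hA)
      (InvEnd.isFinLocFreeOfRank_one hB)
    rcases Nat.eq_zero_or_pos b with rfl | hb
    · refine absurd ?_ hφ
      rw [← Abelian.image.fac φ, (CurveCohLib.isZero_of_isFinLocFreeOfRank_zero hG).eq_of_tgt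
        (Abelian.factorThruImage φ) 0, zero_comp]
    obtain rfl : a = 0 := by omega
    haveI : Mono φ := Preadditive.mono_of_isZero_kernel φ (CurveCohLib.isZero_of_isFinLocFreeOfRank_zero hK)
    exact (CurveCohLib.deg_le_of_mono k hdim φ (InvEnd.isFinLocFreeOfRank_one hA)
      (InvEnd.isFinLocFreeOfRank_one hB)).1
  haveI := hS.mono_f
  haveI := hS.epi_g
  have hcoh : ∀ {A : X.Modules}, FlatMod.IsFinLocFree A → Coh.IsCoh A := fun h =>
    QCoh.isCoh_iff_isFP.2 (QCoh.isFP_of_isFinLocFree h)
  have hLr := InvEnd.isFinLocFreeOfRank_one hL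
  have hMr := InvEnd.isFinLocFreeOfRank_one hM
  have hEc : Coh.IsCoh S.X₂ := hcoh (ConsPropLib.isFinLocFreeOfRank_iff.1 hE).1
  have hdegM : Curv2.deg k X S.X₃ 1 = - Curv2.deg k X S.X₁ 1 := by
    have h := CurveCohLib.deg_add k hS (hcoh (ConsPropLib.isFinLocFreeOfRank_iff.1 hLr).1) hEc
      (hcoh (ConsPropLib.isFinLocFreeOfRank_iff.1 hMr).1) 1 1
    rw [show (1 : ℕ) + 1 = 2 from rfl, hE0] at h
    omega
  have hA : ∀ {A : X.Modules}, PicF.IsInvertible A → ∀ j : A ⟶ S.X₂, - Curv2.deg k X S.X₁ 1 < Curv2.deg k X A 1 →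
      ∃ φ : A ⟶ S.X₁, φ ≫ S.f = j := by
    intro A hA j hd
    have h0 : j ≫ S.g = 0 := by
      by_contra h
      have := key hA hM _ h
      omega
    exact ⟨hS.exact.lift j h0, hS.exact.lift_f j h0⟩
  refine ⟨fun N hN j hj => ?_, fun N hN j _ hQ hd => ?_, fun N N' hN hN' hd hd' a b w hab => ?_⟩
  · by_contra hlt
    obtain ⟨φ, hφ⟩ := hA hN j (by omega)
    have := key hN hL φ (fun h => hj (by rw [← hφ, h, zero_comp]))
    omega
  · obtain ⟨φ, hφ⟩ := hA hN j (by omega)
    have hT : (ShortComplex.mk j (cokernel.π j) (cokernel.condition j)).ShortExact :=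
      { exact := ShortComplex.exact_of_g_is_cokernel _ (cokernelIsCokernel j) }
    have hQd : Curv2.deg k X (cokernel j) 1 = - Curv2.deg k X N 1 := by
      have h := CurveCohLib.deg_add k hT (hcoh (ConsPropLib.isFinLocFreeOfRank_iff.1 (InvEnd.isFinLocFreeOfRank_one hN)).1) hEc
        (hcoh (ConsPropLib.isFinLocFreeOfRank_iff.1 (InvEnd.isFinLocFreeOfRank_one hQ)).1) 1 1
      change Curv2.deg k X S.X₂ (1 + 1) = _ at h
      rw [show (1 : ℕ) + 1 = 2 from rfl, hE0] at h
      change 0 = Curv2.deg k X N 1 + Curv2.deg k X (cokernel j) 1 at h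
      omega
    have h0 : S.f ≫ cokernel.π j = 0 := by
      by_contra h
      have := key hL hQ _ h
      omega
    let ψ : S.X₁ ⟶ N := hT.exact.lift S.f h0
    have hψ : ψ ≫ j = S.f := hT.exact.lift_f _ _
    exact ⟨⟨φ, ψ, by rw [← cancel_mono j, Category.assoc, hψ, hφ, Category.id_comp],
      by rw [← cancel_mono S.f, Category.assoc, hφ, hψ, Category.id_comp]⟩, hφ⟩
  · haveI : Mono a := hab.mono_f
    have h0 : S.f ≫ b = 0 := by
      by_contra h
      have := key hL hN' _ h
      omega
    let ψ : S.X₁ ⟶ N := hab.exact.lift S.f h0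
    have hψ : ψ ≫ a = S.f := hab.exact.lift_f _ _
    haveI : Mono ψ := mono_of_mono_fac hψ
    have hle := (CurveCohLib.deg_le_of_mono k hdim ψ hLr (InvEnd.isFinLocFreeOfRank_one hN)).1
    omega


end Groth.Agent.S13934
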