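import Groth.Statements.S13935
import Groth.Agent.Synt29.InsepLimit

set_option autoImplicit false
universe u
open W4c1limliniiii

namespace Groth.Agent.S13935

set_option maxHeartbeats 3200000 in
open Polynomial in
/-- Let A be a discrete valuation ring of prime characteristic p containing a coefficient field — a
subfield k₀ ⊆ A mapping isomorphically onto the residue field k, which is algebraically closed —
with fraction field K. Let F, G ∈ A[x] have degree at most d and k-linearly independent reductions,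
so that ⟨F, G⟩ is a family of pencils over Spec A; suppose F and G are coprime over K and the
generic member ⟨F, G⟩ ⊗ K is a base-point-free separable pencil of degree d with ramification index
exactly e_i at points P_1, …, P_n ∈ A of the affine line (admissible data: 2 ≤ e_i ≤ d, ∑ (e_i − 1)
= 2d − 2, and every e_i < p), while its special member ⟨F̄, Ḡ⟩ over k is inseparable. If the
reductions P̄_i ∈ k are pairwise distinct, then they are in special position in the following sense:
for some integer m ≥ 1 with mp ≤ d and some ε ∈ {0, 1} there is a base-point-free separable pencil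
over k of degree d + mp − 1 + ε with ramification index exactly e_i at P̄_i for each i and exactly
2mp − 1 + 2ε at infinity. (The companion case in which two of the sections meet in the special fibre
is not restated.) -/
theorem result
    (p : ℕ) [Fact p.Prime] (k₀ : Type u) [Field k₀]
    (A : Type u) [CommRing A] [IsDomain A] [IsDiscreteValuationRing A] [CharP A p] [Algebra k₀ A]
    (hcoef : Function.Bijective (algebraMap k₀ (IsLocalRing.ResidueField A)))
    [IsAlgClosed (IsLocalRing.ResidueField A)]
    (K : Type u) [Field K] [Algebra A K] [IsFractionRing A K]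
    (d n : ℕ) (e : Fin n → ℕ) (he : W4c1limliniiii.Admissible p d e) (hlt : ∀ i, e i < p)
    (P : Fin n → A) (F G : A[X]) (hF : F.natDegree ≤ d) (hG : G.natDegree ≤ d)
    (hind : LinearIndependent (IsLocalRing.ResidueField A)
      ![F.map (IsLocalRing.residue A), G.map (IsLocalRing.residue A)])
    (hcop : IsCoprime (F.map (algebraMap A K)) (G.map (algebraMap A K)))
    (hgen : Submodule.span K {F.map (algebraMap A K), G.map (algebraMap A K)} ∈
      W4c1limliniiii.ramMaps d (fun i => algebraMap A K (P i)) e)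
    (hinsep : ¬ W4c1limliniiii.IsSeparable
      (Submodule.span (IsLocalRing.ResidueField A)
        {F.map (IsLocalRing.residue A), G.map (IsLocalRing.residue A)}))
    (hdist : Function.Injective (fun i => IsLocalRing.residue A (P i))) :
    ∃ m ε : ℕ, 1 ≤ m ∧ m * p ≤ d ∧ ε ≤ 1 ∧
      ∃ V ∈ W4c1limliniiii.ramMaps (d + m * p - 1 + ε) (fun i => IsLocalRing.residue A (P i)) e,
        W4c1limliniiii.HasRamIdxInf (d + m * p - 1 + ε) V (2 * m * p - 1 + 2 * ε) := by
  
  classical
  open Groth.Agent.Synt29 W4c1limliniiii in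
  have hp : p.Prime := Fact.out
  have hp2 := hp.two_le
  have hinj : Function.Injective (algebraMap A K) := IsFractionRing.injective A K
  have : CharP K p := charP_of_injective_algebraMap hinj p
  have : CharP (IsLocalRing.ResidueField A) p := by
    refine (CharP.charP_iff_prime_eq_zero hp).2 ?_
    have h := congrArg (IsLocalRing.residue A) (CharP.cast_eq_zero A p)
    rwa [map_natCast, map_zero] at h
  let FK := F.map (algebraMap A K)
  let GK := G.map (algebraMap A K)
  let PK : Fin n → K := fun i => algebraMap A K (P i)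
  let Pk : Fin n → (IsLocalRing.ResidueField A) := fun i => IsLocalRing.residue A (P i)
  have hPA : Function.Injective P := fun i j h => hdist (congrArg (IsLocalRing.residue A) h)
  have hPK : Function.Injective PK := hinj.comp hPA
  obtain ⟨⟨hVK, h2K, -, hbpK⟩, hsepK, hramK⟩ := hgen
  have he2 : ∀ i, 2 ≤ e i := fun i => (he.1 i).1
  have hsum : ∑ i, (e i - 1) + 2 = 2 * d := by
    have h : ∑ i, (e i - 1) + n = ∑ i, e i := by
      have h := Finset.sum_congr (s₁ := Finset.univ) rfl fun i _ => Nat.sub_add_cancel (show 1 ≤ e i by have := he2 i; omega)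
      rw [Finset.sum_add_distrib] at h
      simpa using h
    have := he.2
    omega
  -- the Wronskian over the fraction field
  let QA : A[X] := ∏ i, (X - C (P i)) ^ (e i - 1)
  have hQm : QA.Monic := monic_prod_of_monic _ _ fun i _ => (monic_X_sub_C _).pow _
  have hQd : QA.natDegree + 2 = 2 * d := by
    rw [natDegree_prod_of_monic _ _ fun i _ => (monic_X_sub_C _).pow _]
    simpa [natDegree_pow] using hsum
  have hWFG : wronskian FK GK ≠ 0 := by
    obtain ⟨F', hF', G', hG', hW⟩ := hsepK
    obtain ⟨x, y, rfl⟩ := Submodule.mem_span_pair.1 hF'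
    obtain ⟨z, w, rfl⟩ := Submodule.mem_span_pair.1 hG'
    intro h0
    refine hW ?_
    have : wronskian (x • FK + y • GK) (z • FK + w • GK) = C (x * w - y * z) * wronskian FK GK := by
      simp only [smul_eq_C_mul, wronskian, derivative_add, derivative_mul, derivative_C, map_sub, map_mul]
      ring
    rw [this, h0, mul_zero]
  have hFKd : FK.natDegree ≤ d := natDegree_map_le.trans hF
  have hGKd : GK.natDegree ≤ d := natDegree_map_le.trans hG
  have hFKm : FK ∈ Submodule.span K ({FK, GK} : Set K[X]) := Submodule.subset_span (by simp)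
  have hGKm : GK ∈ Submodule.span K ({FK, GK} : Set K[X]) := Submodule.subset_span (by simp)
  obtain ⟨c, hc0, hWK⟩ : ∃ c : K, c ≠ 0 ∧ wronskian FK GK = C c * QA.map (algebraMap A K) := by
    have hdvd : ∀ i, (X - C (PK i)) ^ (e i - 1) ∣ wronskian FK GK := fun i => by
      obtain ⟨s, hs, hs0, hsm⟩ := (hramK i).1
      obtain ⟨t, ht, hst⟩ := Pencil.exists_partner h2K hsepK s hs hs0
      refine (le_rootMultiplicity_iff hWFG).1 ?_
      rw [← Pencil.rootMultiplicity_eq_of_ne_zero h2K hFKm hGKm hs ht hWFG hst]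
      exact (le_rootMultiplicity_iff hst).2 (Pencil.pow_pred_dvd_wronskian t ((le_rootMultiplicity_iff hs0).1 hsm))
    have hQK : QA.map (algebraMap A K) = ∏ i, (X - C (PK i)) ^ (e i - 1) := by
      simp [QA, PK, Polynomial.map_prod]
    have hdiv : QA.map (algebraMap A K) ∣ wronskian FK GK := by
      rw [hQK]
      exact Finset.prod_dvd_of_coprime (fun i _ j _ hij =>
        (isCoprime_X_sub_C_of_isUnit_sub (sub_ne_zero.2 fun h => hij (hPK h)).isUnit).pow) fun i _ => hdvd i
    obtain ⟨u, hu⟩ := hdiv
    have hu0 : u ≠ 0 := fun h => hWFG (by rw [hu, h, mul_zero])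
    have hdeg := Pencil.natDegree_wronskian_add_two_le hFKd hGKd hWFG
    rw [hu, natDegree_mul (hQm.map _).ne_zero hu0, hQm.natDegree_map] at hdeg
    refine ⟨u.coeff 0, fun h => hu0 ?_, ?_⟩
    · rw [eq_C_of_natDegree_eq_zero (show u.natDegree = 0 by omega), h, map_zero]
    · rw [hu, mul_comm, ← eq_C_of_natDegree_eq_zero (show u.natDegree = 0 by omega)]
  have hde : ∀ {R : Type u} [CommRing R] [CharP R p] (f : R[X]), derivative (expand R p f) = 0 := fun f => by
    rw [derivative_expand, CharP.cast_eq_zero, zero_mul, mul_zero]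
  -- the saturated module
  let Ψ : (K[X] × K[X]) →ₗ[K] K[X] :=
    ((LinearMap.mulRight K FK).comp (expand K p).toLinearMap).coprod
      ((LinearMap.mulRight K GK).comp (expand K p).toLinearMap)
  have hΨ : ∀ v, Ψ v = expand K p v.1 * FK + expand K p v.2 * GK := fun v => rfl
  have hΨW : ∀ v w, wronskian (Ψ v) (Ψ w) = expand K p (v.1 * w.2 - v.2 * w.1) * wronskian FK GK := fun v w => by
    simp only [hΨ, wronskian, derivative_add, derivative_mul, hde, map_sub, map_mul]
    ring
  have hΨinj : Function.Injective Ψ := (injective_iff_map_eq_zero Ψ).2 fun v hv => by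
    have h1 := hΨW v (0, 1)
    have h2 := hΨW v (1, 0)
    rw [hv, wronskian_zero_left] at h1 h2
    simp only [mul_one, mul_zero, sub_zero, zero_sub, eq_comm (a := (0 : K[X])), mul_eq_zero, hWFG, or_false,
      map_neg, neg_eq_zero, expand_eq_zero hp.pos] at h1 h2
    exact Prod.ext h1 h2
  let M : Submodule (IsLocalRing.ResidueField A) (IsLocalRing.ResidueField A)[X] := InsepLimit.red (A := A) K (LinearMap.range Ψ)
  let Fk := F.map (IsLocalRing.residue A)
  let Gk := G.map (IsLocalRing.residue A)
  have hFkM : Fk ∈ M := ⟨F, ⟨(1, 0), by simp [hΨ, FK]⟩, rfl⟩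
  have hGkM : Gk ∈ M := ⟨G, ⟨(0, 1), by simp [hΨ, GK]⟩, rfl⟩
  have hFk0 : Fk ≠ 0 := fun h => by
    have := hind.ne_zero 0
    simp [show F.map (IsLocalRing.residue A) = 0 from h] at this
  have hFkd : Fk.natDegree ≤ d := natDegree_map_le.trans hF
  have hGkd : Gk.natDegree ≤ d := natDegree_map_le.trans hG
  let Qk : (IsLocalRing.ResidueField A)[X] := QA.map (IsLocalRing.residue A)
  have hQk : Qk.Monic := hQm.map _
  have hQkd : Qk.natDegree + 2 = 2 * d := by rw [hQm.natDegree_map]; exact hQd
  have hQ0 : Qk ≠ 0 := hQk.ne_zero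
  have hWM : ∀ z ∈ M, ∀ z' ∈ M, ∃ δ : (IsLocalRing.ResidueField A)[X], wronskian z z' = expand (IsLocalRing.ResidueField A) p δ * Qk := by
    rintro _ ⟨v, ⟨x, hx⟩, rfl⟩ _ ⟨w, ⟨y, hy⟩, rfl⟩
    have hm : (wronskian v w).map (algebraMap A K) =
        C c * expand K p (x.1 * y.2 - x.2 * y.1) * QA.map (algebraMap A K) := by
      have : (wronskian v w).map (algebraMap A K) = wronskian (v.map (algebraMap A K)) (w.map (algebraMap A K)) := by
        simp [wronskian, derivative_map]
      rw [this, ← hx, ← hy, hΨW, hWK]; ring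
    obtain ⟨η, hη⟩ : QA ∣ wronskian v w := (map_dvd_map _ hinj hQm).1 ⟨_, hm.trans (mul_comm _ _)⟩
    have hd0 : derivative η = 0 := by
      refine map_injective _ hinj ?_
      rw [Polynomial.map_zero, ← derivative_map]
      have h := hm
      rw [hη, Polynomial.map_mul, mul_comm] at h
      rw [mul_right_cancel₀ (hQm.map _).ne_zero h, derivative_mul, derivative_C, hde]
      ring
    refine ⟨contract p (η.map (IsLocalRing.residue A)), ?_⟩
    rw [expand_contract p (by rw [derivative_map, hd0, Polynomial.map_zero]) hp.ne_zero]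
    have h := congrArg (Polynomial.map (IsLocalRing.residue A)) hη
    rw [Polynomial.map_mul, mul_comm] at h
    rw [← h]
    simp [wronskian, derivative_map]
  -- the filtration by degree
  let Nq : ℕ → Submodule K K[X] := fun q => ((degreeLT K (q + 1)).prod (degreeLT K (q + 1))).map Ψ
  have hNq : ∀ q, Nq q ≤ degreeLE K (d + q * p : ℕ) := fun q => by
    rintro _ ⟨⟨α, β⟩, ⟨hα, hβ⟩, rfl⟩
    have hnd : ∀ γ ∈ degreeLT K (q + 1), γ.natDegree ≤ q := fun γ hγ => natDegree_le_iff_coeff_eq_zero.2 fun N hN =>
      coeff_eq_zero_of_degree_lt ((mem_degreeLT.1 hγ).trans_le (by exact_mod_cast hN))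
    refine mem_degreeLE.2 (degree_le_of_natDegree_le ((natDegree_add_le _ _).trans (max_le ?_ ?_)))
    · refine natDegree_mul_le.trans ?_
      show (expand K p α).natDegree + _ ≤ _
      rw [natDegree_expand]
      have := Nat.mul_le_mul_right p (hnd α hα); omega
    · refine natDegree_mul_le.trans ?_
      show (expand K p β).natDegree + _ ≤ _
      rw [natDegree_expand]
      have := Nat.mul_le_mul_right p (hnd β hβ); omega
  have hfin : ∀ q, Module.Finite K (degreeLT K q) := fun q => Module.Finite.equiv (degreeLTEquiv K q).symm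
  have hrkT : ∀ q, Module.finrank K (degreeLT K q) = q := fun q => by
    rw [(degreeLTEquiv K q).finrank_eq, Module.finrank_fin_fun]
  have hprod : ∀ q, Module.Finite K ((degreeLT K q).prod (degreeLT K q)) ∧
      Module.finrank K ((degreeLT K q).prod (degreeLT K q)) = 2 * q := fun q => by
    have := hfin q
    let eq : ((degreeLT K q).prod (degreeLT K q)) ≃ₗ[K] (degreeLT K q) × (degreeLT K q) :=
      { toFun := fun x => (⟨x.1.1, x.2.1⟩, ⟨x.1.2, x.2.2⟩)
        invFun := fun x => ⟨(x.1.1, x.2.1), x.1.2, x.2.2⟩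
        map_add' := fun x y => rfl
        map_smul' := fun c x => rfl
        left_inv := fun x => rfl
        right_inv := fun x => rfl }
    refine ⟨Module.Finite.equiv eq.symm, ?_⟩
    rw [eq.finrank_eq, Module.finrank_prod, hrkT]
    ring
  have hMq : ∀ q, InsepLimit.red (A := A) K (Nq q) ≤ M ⊓ degreeLE (IsLocalRing.ResidueField A) (d + q * p : ℕ) := fun q => by
    refine le_inf ?_ (InsepLimit.red_le_degreeLE (hNq q))
    rintro _ ⟨v, hv, rfl⟩
    exact ⟨v, LinearMap.map_le_range hv, rfl⟩
  have hMqr : ∀ q, 2 * q + 2 ≤ Module.finrank (IsLocalRing.ResidueField A) (InsepLimit.red (A := A) K (Nq q)) := fun q => by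
    have := (hprod (q + 1)).1
    have h := InsepLimit.finrank_le_finrank_red (A := A) (hNq q)
    rw [← (Submodule.equivMapOfInjective Ψ hΨinj _).finrank_eq, (hprod (q + 1)).2] at h
    exact le_of_eq_of_le (by ring) h
  have hcount : ∀ (q : ℕ) (S : Finset ℕ), (∀ z ∈ M, z ≠ 0 → z.natDegree ≤ d + q * p → z.natDegree ∈ S) →
      2 * q + 2 ≤ S.card := fun q S hS => by
    have h := InsepLimit.finrank_le_card (M := M ⊓ degreeLE (IsLocalRing.ResidueField A) (d + q * p : ℕ)) (S := S) fun z hz hz0 =>
      hS z hz.1 hz0 (natDegree_le_of_degree_le (mem_degreeLE.1 hz.2))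
    have := h.1
    exact ((hMqr q).trans (Submodule.finrank_mono (hMq q))).trans h.2
  -- the lowest degrees in the two residue classes
  have hexb : ∃ b, ∃ z ∈ M, z ≠ 0 ∧ z.natDegree = b := ⟨_, Fk, hFkM, hFk0, rfl⟩
  obtain ⟨V, hVM, hV0, hVd⟩ := Nat.find_spec hexb
  generalize hb : Nat.find hexb = b at hVd
  have hbmin : ∀ z ∈ M, z ≠ 0 → b ≤ z.natDegree := fun z hz hz0 => hb ▸ Nat.find_min' hexb ⟨z, hz, hz0, rfl⟩
  have hbd : b ≤ d := (hbmin Fk hFkM hFk0).trans hFkd
  have hexa : ∃ a, ∃ z ∈ M, z ≠ 0 ∧ z.natDegree = a ∧ a % p ≠ b % p := by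
    by_contra hno
    have h := hcount (d + 1) ((Finset.range ((d + (d + 1) * p - b) / p + 1)).image fun l => b + p * l)
      fun z hz hz0 hzd => by
        have hmod : z.natDegree % p = b % p := by
          by_contra hne
          exact hno ⟨_, z, hz, hz0, rfl, hne⟩
        have hbz := hbmin z hz hz0
        refine Finset.mem_image.2 ⟨(z.natDegree - b) / p, Finset.mem_range.2 (Nat.lt_succ_of_le
          (Nat.div_le_div_right (by omega))), ?_⟩
        rw [Nat.mul_div_cancel' (Nat.dvd_of_mod_eq_zero (Nat.sub_mod_eq_zero_of_mod_eq hmod))]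
        omega
    have h' := h.trans (Finset.card_image_le.trans (Finset.card_range _).le)
    have hdiv : (d + (d + 1) * p - b) / p ≤ d / p + (d + 1) :=
      (Nat.div_le_div_right (Nat.sub_le _ b)).trans (Nat.add_mul_div_right _ _ hp.pos).le
    have := Nat.div_le_self d p
    omega
  obtain ⟨U, hUM, hU0, hUd, hab⟩ := Nat.find_spec hexa
  generalize ha : Nat.find hexa = a at hUd hab
  have hamin : ∀ z ∈ M, z ≠ 0 → z.natDegree % p ≠ b % p → a ≤ z.natDegree := fun z hz hz0 hne =>
    ha ▸ Nat.find_min' hexa ⟨z, hz, hz0, rfl, hne⟩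
  have hba : b ≤ a := hUd ▸ hbmin U hUM hU0
  obtain ⟨hW0, hWd⟩ := InsepLimit.natDegree_wronskian (k := IsLocalRing.ResidueField A) p hU0 hV0 (by rw [hUd, hVd]; exact hab)
  obtain ⟨δ, hδ⟩ := hWM U hUM V hVM
  have hδ0 : δ ≠ 0 := fun h => hW0 (by rw [hδ, h, map_zero, zero_mul])
  have hExp0 : expand (IsLocalRing.ResidueField A) p δ ≠ 0 := fun h => hδ0 ((expand_eq_zero hp.pos).1 h)
  rw [hδ, natDegree_mul hExp0 hQ0, natDegree_expand, hUd, hVd] at hWd
  have hres : ∀ z ∈ M, z ≠ 0 → z.natDegree % p = a % p ∨ z.natDegree % p = b % p := by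
    intro z hz hz0
    obtain ⟨δ₁, h₁⟩ := hWM z hz V hVM
    obtain ⟨δ₂, h₂⟩ := hWM U hUM z hz
    have h := InsepLimit.plucker U V z
    rw [hδ, h₁, h₂] at h
    have h' : expand (IsLocalRing.ResidueField A) p δ * z = expand (IsLocalRing.ResidueField A) p δ₁ * U + expand (IsLocalRing.ResidueField A) p δ₂ * V := mul_left_cancel₀ hQ0 (by linear_combination h)
    have hL : (expand (IsLocalRing.ResidueField A) p δ * z).natDegree % p = z.natDegree % p := by
      rw [natDegree_mul hExp0 hz0, natDegree_expand, Nat.mul_add_mod_self_right]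
    rw [h'] at hL
    rcases eq_or_ne δ₁ 0 with rfl | h10
    · rcases eq_or_ne δ₂ 0 with rfl | h20
      · simp [hExp0, hz0] at h'
      · right
        rw [← hL, map_zero, zero_mul, zero_add, natDegree_mul (fun h => h20 ((expand_eq_zero hp.pos).1 h)) hV0,
          natDegree_expand, Nat.mul_add_mod_self_right, hVd]
    · have e1 : (expand (IsLocalRing.ResidueField A) p δ₁ * U).natDegree % p = a % p := by
        rw [natDegree_mul (fun h => h10 ((expand_eq_zero hp.pos).1 h)) hU0, natDegree_expand,
          Nat.mul_add_mod_self_right, hUd]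
      rcases eq_or_ne δ₂ 0 with rfl | h20
      · left
        rw [← hL, map_zero, zero_mul, add_zero, e1]
      · have e2 : (expand (IsLocalRing.ResidueField A) p δ₂ * V).natDegree % p = b % p := by
          rw [natDegree_mul (fun h => h20 ((expand_eq_zero hp.pos).1 h)) hV0, natDegree_expand,
            Nat.mul_add_mod_self_right, hVd]
        rcases lt_trichotomy (expand (IsLocalRing.ResidueField A) p δ₁ * U).natDegree (expand (IsLocalRing.ResidueField A) p δ₂ * V).natDegree with h | h | h
        · rw [natDegree_add_eq_right_of_natDegree_lt h, e2] at hL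
          exact Or.inr hL.symm
        · exact absurd (e1.symm.trans ((congrArg (· % p) h).trans e2)) hab
        · rw [natDegree_add_eq_left_of_natDegree_lt h, e1] at hL
          exact Or.inl hL.symm
  -- the count
  let S : ℕ → Finset ℕ := fun D => (Finset.range ((D - b) / p + 1)).image (fun l => b + p * l) ∪
    (Finset.range ((D - a) / p + 1)).image (fun l => a + p * l)
  have hS : ∀ D, ∀ z ∈ M, z ≠ 0 → z.natDegree ≤ D → z.natDegree ∈ S D := by
    intro D z hz hz0 hzd
    have hbz := hbmin z hz hz0
    rcases hres z hz hz0 with hm | hm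
    · have haz := hamin z hz hz0 (hm ▸ hab)
      refine Finset.mem_union_right _ (Finset.mem_image.2 ⟨(z.natDegree - a) / p, Finset.mem_range.2
        (Nat.lt_succ_of_le (Nat.div_le_div_right (by omega))), ?_⟩)
      rw [Nat.mul_div_cancel' (Nat.dvd_of_mod_eq_zero (Nat.sub_mod_eq_zero_of_mod_eq hm))]
      omega
    · refine Finset.mem_union_left _ (Finset.mem_image.2 ⟨(z.natDegree - b) / p, Finset.mem_range.2
        (Nat.lt_succ_of_le (Nat.div_le_div_right (by omega))), ?_⟩)
      rw [Nat.mul_div_cancel' (Nat.dvd_of_mod_eq_zero (Nat.sub_mod_eq_zero_of_mod_eq hm))]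
      omega
  have hScard : ∀ D, (S D).card ≤ (D - b) / p + (D - a) / p + 2 := fun D => by
    refine (Finset.card_union_le _ _).trans ?_
    have h1 := (Finset.card_image_le (s := Finset.range ((D - b) / p + 1)) (f := fun l => b + p * l))
    have h2 := (Finset.card_image_le (s := Finset.range ((D - a) / p + 1)) (f := fun l => a + p * l))
    rw [Finset.card_range] at h1 h2
    omega
  obtain ⟨q, hq⟩ : ∃ q, q = a + b + d + 1 := ⟨_, rfl⟩
  have hqp : q ≤ q * p := Nat.le_mul_of_pos_right q hp.pos
  have hxy := (hcount q (S (d + q * p)) fun z hz hz0 hzd => hS _ z hz hz0 hzd).trans (hScard _)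
  have hx := Nat.div_add_mod (d + q * p - b) p
  have hy := Nat.div_add_mod (d + q * p - a) p
  have hrx := Nat.mod_lt (d + q * p - b) hp.pos
  have hry := Nat.mod_lt (d + q * p - a) hp.pos
  generalize hxdef : (d + q * p - b) / p = x at hx hxy
  generalize hydef : (d + q * p - a) / p = y at hy hxy
  generalize hrxdef : (d + q * p - b) % p = rx at hx hrx
  generalize hrydef : (d + q * p - a) % p = ry at hy hry
  have hsum2 : a + b + 1 = δ.natDegree * p + 2 * d := by
    have : a + b ≥ 1 := by
      by_contra h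
      have h1 : a = 0 := by omega
      have h2 : b = 0 := by omega
      exact hab (by rw [h1, h2])
    omega
  have hxy' : p * (2 * q) ≤ p * x + p * y := by rw [← mul_add]; exact Nat.mul_le_mul_left p (by omega)
  have hqq : p * (2 * q) = 2 * (q * p) := by ring
  have hδd : δ.natDegree * p = 0 := by
    rcases Nat.eq_zero_or_pos δ.natDegree with h | h
    · simp [h]
    · have := Nat.le_mul_of_pos_left p h
      omega
  have hrx1 : rx ≤ 1 := by omega
  have hab2 : a + b + 1 = 2 * d := by omega
  have hxy2 : x + y = 2 * q := by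
    refine le_antisymm (Nat.lt_succ_iff.1 (Nat.lt_of_mul_lt_mul_left (a := p) ?_)) (by omega)
    rw [Nat.succ_eq_add_one, mul_add, mul_add, mul_one]
    omega
  have hdbe : d + q * p - b = d - b + q * p := by omega
  have hmod : (d - b) % p ≤ 1 := by
    rw [← Nat.add_mul_mod_self_right (d - b) q p, ← hdbe, hrxdef]
    exact hrx1
  have hjj := Nat.div_add_mod (d - b) p
  generalize hm : (d - b) / p = m at hjj
  generalize hε : (d - b) % p = ε at hjj hmod
  -- everything of degree at most `d + qp` in the module is a reduction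
  have hMd : InsepLimit.red (A := A) K (Nq q) = M ⊓ degreeLE (IsLocalRing.ResidueField A) (d + q * p : ℕ) := by
    have h := InsepLimit.finrank_le_card (M := M ⊓ degreeLE (IsLocalRing.ResidueField A) (d + q * p : ℕ)) (S := S (d + q * p)) fun z hz hz0 =>
      hS _ z hz.1 hz0 (natDegree_le_of_degree_le (mem_degreeLE.1 hz.2))
    have := h.1
    refine Submodule.eq_of_le_of_finrank_le (hMq q) (h.2.trans ?_)
    have h1 := hScard (d + q * p)
    rw [hxdef, hydef, hxy2] at h1
    exact h1.trans (hMqr q)
  have hm1 : 1 ≤ m := by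
    by_contra hm0
    have hmz : m = 0 := by omega
    rw [hmz, mul_zero, zero_add] at hjj
    have hsmall : ∀ z ∈ M ⊓ degreeLE (IsLocalRing.ResidueField A) d, z ≠ 0 → z.natDegree ∈ ({a, b} : Finset ℕ) := by
      rintro z ⟨hz, hzd⟩ hz0
      have hzd' : z.natDegree ≤ d := natDegree_le_of_degree_le (mem_degreeLE.1 hzd)
      have hbz := hbmin z hz hz0
      simp only [Finset.mem_insert, Finset.mem_singleton]
      rcases hres z hz hz0 with hmm | hmm
      · exact Or.inl (by have := hamin z hz hz0 (hmm ▸ hab); omega)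
      · right
        obtain ⟨l, hl⟩ := Nat.dvd_of_mod_eq_zero (Nat.sub_mod_eq_zero_of_mod_eq hmm)
        rcases Nat.eq_zero_or_pos l with rfl | hl0
        · omega
        · have := Nat.le_mul_of_pos_right p hl0
          omega
    obtain ⟨hfi, hle2⟩ := InsepLimit.finrank_le_card hsmall
    have hFG2 : Submodule.span (IsLocalRing.ResidueField A) ({Fk, Gk} : Set (IsLocalRing.ResidueField A)[X]) = M ⊓ degreeLE (IsLocalRing.ResidueField A) d := by
      refine Submodule.eq_of_le_of_finrank_le (Submodule.span_le.2 ?_) ?_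
      · rintro z (rfl | rfl)
        · exact ⟨hFkM, mem_degreeLE.2 (degree_le_of_natDegree_le hFkd)⟩
        · exact ⟨hGkM, mem_degreeLE.2 (degree_le_of_natDegree_le hGkd)⟩
      · have := finrank_span_eq_card hind
        rw [Matrix.range_cons_cons_empty, Fintype.card_fin] at this
        exact (hle2.trans (Finset.card_le_two)).trans this.ge
    refine hinsep ⟨U, hFG2.ge ⟨hUM, mem_degreeLE.2 (degree_le_of_natDegree_le ?_)⟩, V,
      hFG2.ge ⟨hVM, mem_degreeLE.2 (degree_le_of_natDegree_le (hVd ▸ hbd))⟩, hW0⟩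
    omega
  have hmp : m * p = p * m := mul_comm m p
  have hmp1 : p ≤ p * m := Nat.le_mul_of_pos_right p hm1
  refine ⟨m, ε, hm1, by omega, hmod, ?_⟩
  have hD : d + m * p - 1 + ε = a := by omega
  have hE : 2 * m * p - 1 + 2 * ε = a - b := by rw [mul_assoc 2 m p]; omega
  rw [hD, hE]
  -- the pencil
  let T : Submodule (IsLocalRing.ResidueField A) (IsLocalRing.ResidueField A)[X] := Submodule.span (IsLocalRing.ResidueField A) {U, V}
  have hUT : U ∈ T := Submodule.subset_span (by simp)
  have hVT : V ∈ T := Submodule.subset_span (by simp)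
  have h2T : Module.finrank (IsLocalRing.ResidueField A) T = 2 := Pencil.finrank_span_pair hW0
  have hsepT : W4c1limliniiii.IsSeparable T := ⟨U, hUT, V, hVT, hW0⟩
  have hTdeg : ∀ s ∈ T, s ≠ 0 → s.natDegree = a ∨ s.natDegree = b := by
    intro s hs hs0
    obtain ⟨x, y, rfl⟩ := Submodule.mem_span_pair.1 hs
    rcases eq_or_ne x 0 with rfl | hx0
    · rcases eq_or_ne y 0 with rfl | hy0
      · simp at hs0
      · exact Or.inr (by rw [zero_smul, zero_add, natDegree_smul _ hy0, hVd])
    · refine Or.inl ?_
      rw [natDegree_add_eq_left_of_natDegree_lt] <;> rw [natDegree_smul _ hx0, hUd]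
      refine (natDegree_smul_le y V).trans_lt ?_
      rw [hVd]
      exact lt_of_le_of_ne hba fun h => hab (by rw [h])
  have hTle : T ≤ M ⊓ degreeLE (IsLocalRing.ResidueField A) (d + q * p : ℕ) := Submodule.span_le.2 (by
    rintro z (rfl | rfl)
    · exact ⟨hUM, mem_degreeLE.2 (degree_le_of_natDegree_le (by rw [hUd]; omega))⟩
    · exact ⟨hVM, mem_degreeLE.2 (degree_le_of_natDegree_le (by rw [hVd]; omega))⟩)
  have hWT : wronskian U V ≠ 0 ∧ (wronskian U V).natDegree + 2 = 2 * d := ⟨hW0, by
    rw [hδ, natDegree_mul hExp0 hQ0, natDegree_expand, hδd, zero_add]; exact hQkd⟩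
  have hlow : ∀ i, e i - 1 ≤ (wronskian U V).rootMultiplicity (Pk i) := fun i => by
    refine (le_rootMultiplicity_iff hW0).2 ?_
    rw [hδ]
    refine (Dvd.dvd.trans ?_ (Finset.dvd_prod_of_mem _ (Finset.mem_univ i) : _ ∣ ∏ j, (X - C (Pk j)) ^ (e j - 1))).trans
      (dvd_mul_of_dvd_right (dvd_of_eq ?_) _)
    · exact dvd_rfl
    · simp [Qk, QA, Pk, Polynomial.map_prod]
  have hle := Pencil.sum_le_natDegree hW0 Finset.univ Pk hdist.injOn
  have hexact : ∀ i, (wronskian U V).rootMultiplicity (Pk i) = e i - 1 := fun i => by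
    have h1 := Finset.sum_le_sum fun j (_ : j ∈ Finset.univ) => hlow j
    exact ((Finset.sum_eq_sum_iff_of_le fun j _ => hlow j).1 (by have := hWT.2; omega) i (Finset.mem_univ i)).symm
  have hother : ∀ r, r ∉ Set.range Pk → (wronskian U V).rootMultiplicity r = 0 := fun r hr => by
    have h := Pencil.sum_le_natDegree hW0 Finset.univ (Fin.cons r Pk : Fin (n + 1) → (IsLocalRing.ResidueField A))
      (Fin.cons_injective_iff.2 ⟨hr, hdist⟩).injOn
    rw [Fin.sum_univ_succ] at h
    simp only [Fin.cons_zero, Fin.cons_succ, hexact] at h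
    have := hWT.2
    omega
  have hspecial : ∀ i, ∃ s ∈ T, s ≠ 0 ∧ e i ≤ s.rootMultiplicity (Pk i) := by
    intro i
    obtain ⟨s₀, hs₀, hs₀0, hs₀m⟩ := (hramK i).1
    have hs₀d : (X - C (PK i)) ^ e i ∣ s₀ := (le_rootMultiplicity_iff hs₀0).1 hs₀m
    obtain ⟨x₀, y₀, hs₀e⟩ := Submodule.mem_span_pair.1 hs₀
    let lam : (K[X] × K[X]) →ₗ[K] K := y₀ • (leval (PK i ^ p)).comp (LinearMap.fst K K[X] K[X]) -
      x₀ • (leval (PK i ^ p)).comp (LinearMap.snd K K[X] K[X])
    have hroot : ∀ γ : K[X], γ.eval (PK i ^ p) = 0 → (X - C (PK i)) ^ e i ∣ expand K p γ := by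
      intro γ hγ
      refine (pow_dvd_pow _ (hlt i).le).trans ?_
      obtain ⟨t, rfl⟩ := dvd_iff_isRoot.2 (show γ.IsRoot (PK i ^ p) from hγ)
      rw [map_mul, map_sub, expand_X, expand_C, sub_pow_char, map_pow]
      exact dvd_mul_right _ _
    have hdiv : ∀ v, lam v = 0 → (X - C (PK i)) ^ e i ∣ Ψ v := by
      intro v hv
      simp only [lam, LinearMap.sub_apply, LinearMap.smul_apply, LinearMap.comp_apply, LinearMap.fst_apply,
        LinearMap.snd_apply, leval_apply, smul_eq_mul] at hv
      rcases eq_or_ne y₀ 0 with hy0 | hy0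
      · have hx0 : x₀ ≠ 0 := fun h => hs₀0 (by rw [← hs₀e, h, hy0]; simp)
        rw [hy0, zero_mul, zero_sub, neg_eq_zero] at hv
        have hb0 := (mul_eq_zero.1 hv).resolve_left hx0
        have e1 : C x₀ * Ψ v = expand K p v.1 * s₀ + C x₀ * (expand K p v.2 * GK) := by
          rw [hΨ, ← hs₀e, hy0, zero_smul, add_zero, smul_eq_C_mul]; ring
        rw [← IsUnit.dvd_mul_left (isUnit_C.2 hx0.isUnit), e1]
        exact dvd_add (hs₀d.mul_left _) (((hroot _ hb0).mul_right _).mul_left _)
      · have hg : (C y₀ * v.1 - C x₀ * v.2).eval (PK i ^ p) = 0 := by simp; linear_combination hv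
        have e1 : C y₀ * Ψ v = expand K p (C y₀ * v.1 - C x₀ * v.2) * FK + expand K p v.2 * s₀ := by
          rw [hΨ, ← hs₀e, map_sub, map_mul, map_mul, expand_C, expand_C, smul_eq_C_mul, smul_eq_C_mul]; ring
        rw [← IsUnit.dvd_mul_left (isUnit_C.2 hy0.isUnit), e1]
        exact dvd_add ((hroot _ hg).mul_right _) (hs₀d.mul_left _)
    let D2 := (degreeLT K (q + 1)).prod (degreeLT K (q + 1))
    obtain ⟨hD2, hD2r⟩ := hprod (q + 1)
    let Nker : Submodule K K[X] := (D2 ⊓ LinearMap.ker lam).map Ψ
    have hNker : Nker ≤ Nq q := Submodule.map_mono inf_le_left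
    have : Module.Finite K (D2 ⊓ LinearMap.ker lam : Submodule K (K[X] × K[X])) :=
      Module.Finite.of_injective (Submodule.inclusion inf_le_left) (Submodule.inclusion_injective _)
    have hker : 2 * q + 1 ≤ Module.finrank K Nker := by
      rw [← (Submodule.equivMapOfInjective Ψ hΨinj _).finrank_eq]
      have h1 := LinearMap.finrank_range_add_finrank_ker (lam.comp D2.subtype)
      have h2 := Submodule.finrank_le (LinearMap.range (lam.comp D2.subtype))
      rw [Module.finrank_self] at h2
      rw [hD2r, LinearMap.ker_comp] at h1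
      rw [(Submodule.comapSubtypeEquivOfLe (inf_le_left : D2 ⊓ LinearMap.ker lam ≤ D2)).finrank_eq.symm,
        Submodule.comap_inf, Submodule.comap_subtype_self, top_inf_eq]
      omega
    have hred : ∀ z ∈ InsepLimit.red (A := A) K Nker, (X - C (Pk i)) ^ e i ∣ z := by
      rintro _ ⟨v, ⟨w, ⟨hw1, hw2⟩, hw⟩, rfl⟩
      have h := hdiv w hw2
      rw [hw, show (X - C (PK i)) ^ e i = ((X - C (P i)) ^ e i).map (algebraMap A K) by simp [PK],
        map_dvd_map _ hinj ((monic_X_sub_C _).pow _)] at h
      simpa [Pk] using Polynomial.map_dvd (IsLocalRing.residue A) h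
    have hredle : InsepLimit.red (A := A) K Nker ≤ M ⊓ degreeLE (IsLocalRing.ResidueField A) (d + q * p : ℕ) := by
      refine le_trans ?_ (hMq q)
      rintro _ ⟨v, hv, rfl⟩
      exact ⟨v, hNker hv, rfl⟩
    have hcard := InsepLimit.finrank_le_card (M := M ⊓ degreeLE (IsLocalRing.ResidueField A) (d + q * p : ℕ)) (S := S (d + q * p)) fun z hz hz0 =>
      hS _ z hz.1 hz0 (natDegree_le_of_degree_le (mem_degreeLE.1 hz.2))
    have := hcard.1
    have : Module.Finite K Nker := Module.Finite.map _ Ψ
    have hr1 := hker.trans (InsepLimit.finrank_le_finrank_red (A := A) (hNker.trans (hNq q)))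
    have : Module.Finite (IsLocalRing.ResidueField A) (InsepLimit.red (A := A) K Nker) :=
      Module.Finite.of_injective (Submodule.inclusion hredle) (Submodule.inclusion_injective _)
    have : Module.Finite (IsLocalRing.ResidueField A) T := Module.Finite.of_injective (Submodule.inclusion hTle) (Submodule.inclusion_injective _)
    have hsi := Submodule.finrank_sup_add_finrank_inf_eq (InsepLimit.red (A := A) K Nker) T
    have hsup := Submodule.finrank_mono (sup_le hredle hTle)
    have hub := hcard.2.trans (hScard (d + q * p))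
    rw [hxdef, hydef] at hub
    have hne : InsepLimit.red (A := A) K Nker ⊓ T ≠ ⊥ := fun h => by
      rw [h, finrank_bot] at hsi
      omega
    obtain ⟨s, hs, hs0⟩ := Submodule.exists_mem_ne_zero_of_ne_bot hne
    exact ⟨s, hs.2, hs0, (le_rootMultiplicity_iff hs0).2 (hred s hs.1)⟩
  have hbound : ∀ i, ∀ s ∈ T, s ≠ 0 → s.rootMultiplicity (Pk i) ≤ e i := fun i s hs hs0 => by
    obtain ⟨t, ht, hst⟩ := Pencil.exists_partner h2T hsepT s hs hs0
    have h := (le_rootMultiplicity_iff (a := Pk i) hst).2
      (Pencil.pow_pred_dvd_wronskian t ((le_rootMultiplicity_iff (a := Pk i) hs0).1 le_rfl))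
    rw [Pencil.rootMultiplicity_eq_of_ne_zero h2T hUT hVT hs ht hW0 hst, hexact] at h
    have := he2 i
    omega
  refine ⟨T, ⟨⟨Submodule.span_le.2 ?_, h2T, ⟨U, hUT, hUd⟩, fun r => ?_⟩, hsepT,
    fun i => ⟨hspecial i, hbound i⟩⟩, ⟨V, hVT, hV0, by omega⟩, fun s hs hs0 => ?_⟩
  · rintro z (rfl | rfl)
    · exact mem_degreeLE.2 (degree_le_of_natDegree_le hUd.le)
    · exact mem_degreeLE.2 (degree_le_of_natDegree_le (by omega))
  · by_contra hne
    push Not at hne
    have hb' : ∀ s ∈ T, X - C r ∣ s := fun s hs => dvd_iff_isRoot.2 (hne s hs)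
    by_cases hr : r ∈ Set.range Pk
    · obtain ⟨i, rfl⟩ := hr
      obtain ⟨s, hs, hs0, hsm⟩ := hspecial i
      obtain ⟨t, ht, hst⟩ := Pencil.exists_partner h2T hsepT s hs hs0
      have h := (le_rootMultiplicity_iff hst).2 (Pencil.pow_dvd_wronskian ((le_rootMultiplicity_iff hs0).1 hsm) (hb' t ht))
      rw [Pencil.rootMultiplicity_eq_of_ne_zero h2T hUT hVT hs ht hW0 hst, hexact] at h
      have := he2 i
      omega
    · have h := (le_rootMultiplicity_iff hW0).2 (Pencil.pow_dvd_wronskian (m := 1) (by simpa using hb' U hUT) (hb' V hVT))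
      rw [hother r hr] at h
      omega
  · rcases hTdeg s hs hs0 with h | h <;> omega


end Groth.Agent.S13935
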