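import Groth.Statements.S13936
import Mathlib

set_option autoImplicit false
universe u
open W4c1limliniiii

namespace Groth.Agent.S13936

open TensorProduct

/-- The functional `x ⊗ y ↦ σ(x) y`. -/
noncomputable def chi {R S : Type u} [CommRing R] [CommRing S] [Algebra R S] (σ : S →ₐ[R] R) : S ⊗[R] S →ₐ[R] S :=
  Algebra.TensorProduct.lift ((Algebra.ofId R S).comp σ) (AlgHom.id R S) (fun _ _ => Commute.all _ _)

lemma chi_tmul {R S : Type u} [CommRing R] [CommRing S] [Algebra R S] (σ : S →ₐ[R] R) (x y : S) :
    chi σ (x ⊗ₜ[R] y) = algebraMap R S (σ x) * y :=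
  Algebra.TensorProduct.lift_tmul _ _ _ _ _

lemma chi_ideal_le {R S : Type u} [CommRing R] [CommRing S] [Algebra R S] (σ : S →ₐ[R] R) :
    (KaehlerDifferential.ideal R S).map (chi σ) ≤ RingHom.ker σ.toRingHom := by
  rw [← KaehlerDifferential.span_range_eq_ideal, Ideal.map_span, Ideal.span_le]
  rintro _ ⟨_, ⟨s, rfl⟩, rfl⟩
  show σ (chi σ ((1 : S) ⊗ₜ[R] s - s ⊗ₜ[R] (1 : S))) = 0
  rw [map_sub, chi_tmul, chi_tmul, map_one, map_one, one_mul, mul_one, map_sub, AlgHom.commutes,
    Algebra.algebraMap_self, RingHom.id_apply, sub_self]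

/-- Let R be a commutative ring, S_Y → S_X a homomorphism of R-algebras (an affine piece of a morphism f
: X → Y of schemes over Spec R) and σ : S_X → R an R-algebra retraction (a section of X over the
base) with kernel I. For e ≥ 1 write T^{e−1} for the augmentation ideal of the ring of principal
parts of order e − 1 (the kernel of P^{e−1} → the algebra; for e = 2 this is the module of
differentials). Then the natural map T^{e−1}(S_Y/R) → T^{e−1}(S_X/R) takes values in I ·
T^{e−1}(S_X/R) — that is, the induced map f^*T^{e−1}_Y → T^{e−1}_X vanishes at the section σ — if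
and only if every element of S_Y whose image in S_X lies in I has image in I^e, which says that the
fibre of f through σ contains the e-th order thickening of σ. (The published statement is for a
morphism of separated schemes over a base and sections over an arbitrary base change; this row is
the affine computation it reduces to.) -/
theorem result (R SY SX : Type u)
    [CommRing R] [CommRing SY] [CommRing SX] [Algebra R SY] [Algebra R SX] [Algebra SY SX]
    [IsScalarTower R SY SX] (σ : SX →ₐ[R] R) (e : ℕ) (he : 1 ≤ e) :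
    (∀ y ∈ PP16.augIdeal (e - 1) R SY,
        PP16.map (e - 1) R SY R SX y ∈
          RingHom.ker σ.toRingHom • (PP16.augIdeal (e - 1) R SX).restrictScalars SX) ↔
      (∀ b : SY, algebraMap SY SX b ∈ RingHom.ker σ.toRingHom →
        algebraMap SY SX b ∈ RingHom.ker σ.toRingHom ^ e) := by
  classical
  let n := e - 1
  let Q := PP16.P n R SX
  let mk' := Ideal.Quotient.mk (KaehlerDifferential.ideal R SX ^ (n + 1))
  let J : Ideal Q := PP16.augIdeal n R SX
  let m : Ideal SX := RingHom.ker σ.toRingHom
  let T : Submodule SX Q := m • J.restrictScalars SX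
  have hTideal : ∀ (a : Q) (z : Q), z ∈ T → a * z ∈ T := by
    intro a z hz
    refine Submodule.smul_induction_on hz (fun r hr x hx => ?_) (fun x y hx hy => by rw [mul_add]; exact add_mem hx hy)
    rw [mul_smul_comm]
    exact Submodule.smul_mem_smul hr (J.mul_mem_left a hx)
  let g : SX → Q := fun x => mk' ((1 : SX) ⊗ₜ[R] x - x ⊗ₜ[R] (1 : SX))
  have hgJ : ∀ x, g x ∈ J := fun x =>
    Ideal.mem_map_of_mem _ (KaehlerDifferential.one_smul_sub_smul_one_mem_ideal R x)
  have hgmul : ∀ x y, g (x * y) = x • g y + y • g x + g x * g y := fun x y => by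
    have hx : x • g y = mk' (x ⊗ₜ[R] (1 : SX)) * g y := Algebra.smul_def x (g y)
    have hy : y • g x = mk' (y ⊗ₜ[R] (1 : SX)) * g x := Algebra.smul_def y (g x)
    rw [hx, hy]
    show mk' _ = mk' _ * mk' _ + mk' _ * mk' _ + mk' _ * mk' _
    rw [← map_mul, ← map_mul, ← map_mul, ← map_add, ← map_add]
    congr 1
    simp only [mul_sub, sub_mul, Algebra.TensorProduct.tmul_mul_tmul, one_mul, mul_one, mul_comm y x]
    abel
  have hgadd : ∀ x y, g (x + y) = g x + g y := fun x y => by
    show mk' _ = mk' _ + mk' _
    rw [← map_add, TensorProduct.tmul_add, TensorProduct.add_tmul]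
    congr 1
    abel
  constructor
  · intro h b hb
    have hy : Ideal.Quotient.mk _ ((1 : SY) ⊗ₜ[R] b - b ⊗ₜ[R] (1 : SY)) ∈ PP16.augIdeal n R SY :=
      Ideal.mem_map_of_mem _ (KaehlerDifferential.one_smul_sub_smul_one_mem_ideal R b)
    have h1 := h _ hy
    rw [PP16.map_mk, map_sub, PP16.tensorMap_tmul, PP16.tensorMap_tmul, map_one] at h1
    have hpow : ∀ z ∈ KaehlerDifferential.ideal R SX ^ (n + 1), (Ideal.Quotient.mkₐ R (m ^ e)).comp (chi σ) z = 0 := by
      intro z hz
      show Ideal.Quotient.mk (m ^ e) (chi σ z) = 0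
      rw [Ideal.Quotient.eq_zero_iff_mem]
      have h2 := Ideal.pow_right_mono (chi_ideal_le σ) (n + 1)
      rw [← Ideal.map_pow] at h2
      have h3 := h2 (Ideal.mem_map_of_mem _ hz)
      rwa [show n + 1 = e by omega] at h3
    let χ : Q →ₐ[R] SX ⧸ m ^ e := Ideal.Quotient.liftₐ _ _ hpow
    have hχT : ∀ z ∈ T, χ z = 0 := by
      intro z hz
      refine Submodule.smul_induction_on hz (fun r hr x _ => ?_) (fun x y hx hy => by rw [map_add, hx, hy, add_zero])
      rw [Algebra.smul_def, map_mul]
      have : χ (algebraMap SX Q r) = 0 := by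
        show Ideal.Quotient.mk (m ^ e) (chi σ (r ⊗ₜ[R] (1 : SX))) = 0
        rw [chi_tmul, show σ r = 0 from hr, map_zero, zero_mul, map_zero]
      rw [this, zero_mul]
    have h4 := hχT _ h1
    change Ideal.Quotient.mk (m ^ e) (chi σ ((1 : SX) ⊗ₜ[R] algebraMap SY SX b - algebraMap SY SX b ⊗ₜ[R] (1 : SX))) = 0 at h4
    rw [map_sub, chi_tmul, chi_tmul, show σ (algebraMap SY SX b) = 0 from hb, map_one, map_one, map_zero, one_mul,
      zero_mul, sub_zero, Ideal.Quotient.eq_zero_iff_mem] at h4
    exact h4
  · intro h y hy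
    have hT1 : ∀ j : ℕ, 1 ≤ j → ∀ z ∈ m ^ j, g z ∈ T ⊔ (J ^ j).restrictScalars SX := by
      intro j hj
      induction j, hj using Nat.le_induction with
      | base => intro z _; exact Submodule.mem_sup_right (show g z ∈ J ^ 1 from (Submodule.pow_one J).symm ▸ hgJ z)
      | succ j hj ih =>
        intro z hz
        rw [pow_succ'] at hz
        refine Submodule.mul_induction_on hz (fun x hx w hw => ?_) (fun x w hx hw => by rw [hgadd]; exact add_mem hx hw)
        rw [hgmul]
        have hwm : w ∈ m := Ideal.pow_le_self (by omega) hw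
        refine add_mem (add_mem (Submodule.mem_sup_left (Submodule.smul_mem_smul hx (hgJ w)))
          (Submodule.mem_sup_left (Submodule.smul_mem_smul hwm (hgJ x)))) ?_
        obtain ⟨t, ht, q, hq, htq⟩ := Submodule.mem_sup.1 (ih w hw)
        rw [← htq, mul_add, show J ^ (j + 1) = J * J ^ j from pow_succ' J j]
        exact add_mem (Submodule.mem_sup_left (hTideal _ t ht)) (Submodule.mem_sup_right (Ideal.mul_mem_mul (hgJ x) hq))
    have hJe : J ^ e = ⊥ := by
      show ((KaehlerDifferential.ideal R SX).map mk') ^ e = ⊥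
      rw [← Ideal.map_pow, Ideal.map_eq_bot_iff_le_ker, Ideal.mk_ker, show n + 1 = e by omega]
    have hgen : ∀ b : SY, g (algebraMap SY SX b) ∈ T := by
      intro b
      let r := σ (algebraMap SY SX b)
      have hb' : algebraMap SY SX (b - algebraMap R SY r) ∈ RingHom.ker σ.toRingHom := by
        show σ (algebraMap SY SX (b - algebraMap R SY r)) = 0
        rw [map_sub, ← IsScalarTower.algebraMap_apply, map_sub, AlgHom.commutes, Algebra.algebraMap_self,
          RingHom.id_apply, sub_self]
      have h0 : g (algebraMap R SX r) = 0 := by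
        show mk' _ = 0
        rw [Algebra.algebraMap_eq_smul_one, TensorProduct.tmul_smul, TensorProduct.smul_tmul', sub_self, map_zero]
      have h1 := hT1 e he _ (h _ hb')
      rw [hJe] at h1
      have h2 : g (algebraMap SY SX b) = g (algebraMap SY SX (b - algebraMap R SY r)) := by
        have := hgadd (algebraMap SY SX (b - algebraMap R SY r)) (algebraMap R SX r)
        rw [h0, add_zero, IsScalarTower.algebraMap_apply R SY SX, ← map_add, sub_add_cancel] at this
        exact this
      rw [h2]
      simpa using h1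
    obtain ⟨z, hz, rfl⟩ := (Ideal.mem_map_iff_of_surjective _ Ideal.Quotient.mk_surjective).1 hy
    rw [← KaehlerDifferential.span_range_eq_ideal] at hz
    rw [PP16.map_mk]
    induction hz using Submodule.span_induction with
    | mem z hz =>
      obtain ⟨b, rfl⟩ := hz
      rw [map_sub, PP16.tensorMap_tmul, PP16.tensorMap_tmul, map_one]
      exact hgen b
    | zero => simp
    | add x w _ _ hx hw =>
      rw [map_add, map_add]
      exact add_mem (hx (Ideal.mem_map_of_mem _ (by rw [← KaehlerDifferential.span_range_eq_ideal]; assumption)))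
        (hw (Ideal.mem_map_of_mem _ (by rw [← KaehlerDifferential.span_range_eq_ideal]; assumption)))
    | smul c x _ hx =>
      rw [smul_eq_mul, map_mul, map_mul]
      exact hTideal _ _ (hx (Ideal.mem_map_of_mem _ (by rw [← KaehlerDifferential.span_range_eq_ideal]; assumption)))

end Groth.Agent.S13936
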