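import Groth.Statements.S1394
import Mathlib
import Groth.Agent.FlatMisc.QFSlice

set_option autoImplicit false
universe u
open FlatMor

namespace Groth.Agent.S1394

/-- Let A → B be a local homomorphism of local rings with A Noetherian, B essentially of finite type
over A, and the residue field of B finite over that of A. Let V ⊆ Spec B be an open subset
containing some prime that does not lie over the maximal ideal of A. Then V contains a prime q, not
lying over the maximal ideal of A, such that B/q is quasi-finite over A in the sense that every
fibre ring of A → B/q is finite over the corresponding residue field of A. (The published statement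
is stronger: there B/q is moreover a localization of a quasi-finite A-algebra of finite type, which
implies this.) -/
theorem result {A B : Type u} [CommRing A] [CommRing B] [IsLocalRing A] [IsLocalRing B] [IsNoetherianRing A]
    [Algebra A B] [IsLocalHom (algebraMap A B)] [Algebra.EssFiniteType A B]
    [Module.Finite (IsLocalRing.ResidueField A) (IsLocalRing.ResidueField B)]
    (V : Set (PrimeSpectrum B)) (hV : IsOpen V) (hne : ∃ q ∈ V, q.asIdeal.comap (algebraMap A B) ≠ IsLocalRing.maximalIdeal A) :
    ∃ q ∈ V, q.asIdeal.comap (algebraMap A B) ≠ IsLocalRing.maximalIdeal A ∧ Algebra.QuasiFinite A (B ⧸ q.asIdeal) := by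
  exact Groth.Agent.QFSlice.exists_qf_quotient V hV hne

end Groth.Agent.S1394
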