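import Groth.Statements.S1395
import Groth.Agent.ValTriv17.Basic
-- import your own Groth.Agent.* helpers here

set_option backward.isDefEq.respectTransparency false
set_option backward.isDefEq.respectTransparency.types false
set_option linter.style.haveILetI false

set_option autoImplicit false
universe u
open FlatMor

namespace Groth.Agent.S1395

open AlgebraicGeometry CategoryTheory Limits Groth.Agent.H23.PicMul in
/-- Over a valuation ring A consider a proper, flat morphism of finite presentation f : X → Spec A and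
an invertible O_X-module L. If L is trivial on the generic fibre, the closed fibre is integral, and
the global functions of the generic fibre are just the fraction field (the residue field of the
generic point), then L is trivial. -/
theorem result {A : Type u} [CommRing A] [IsDomain A] [ValuationRing A] {X : Scheme.{u}}
    (f : X ⟶ Spec (CommRingCat.of A)) [IsProper f] [Flat f] [LocallyOfFinitePresentation f] (L : X.Modules) (hL : PicF.IsInvertible L)
    (htriv : Nonempty ((Scheme.Modules.pullback (f.fiberι (genericPoint ↑(Spec (CommRingCat.of A))))).obj L ≅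
      Coh.structureModule (f.fiber (genericPoint ↑(Spec (CommRingCat.of A))))))
    (hint : IsIntegral (f.fiber (IsLocalRing.closedPoint A)))
    (h0 : Function.Bijective ((f.fiberToSpecResidueField (genericPoint ↑(Spec (CommRingCat.of A)))).appTop)) :
    Nonempty (L ≅ Coh.structureModule X) := by
  classical
  let η := genericPoint ↥(Spec (CommRingCat.of A))
  let s₀ := IsLocalRing.closedPoint A
  -- the generic point
  obtain ⟨χ, hχ⟩ := Spec.map_surjective ((Spec (CommRingCat.of A)).fromSpecResidueField η)
  have hχinj : Function.Injective χ.hom := by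
    rw [injective_iff_map_eq_zero]
    intro a ha
    by_contra hne
    let P : ↥(Spec (CommRingCat.of A)) := (⟨⊥, Ideal.isPrime_bot⟩ : PrimeSpectrum A)
    have hP : P ∈ PrimeSpectrum.basicOpen a := fun h => hne ((Submodule.mem_bot A).1 h)
    have hη : η ∈ PrimeSpectrum.basicOpen a :=
      (genericPoint_specializes P).mem_open (PrimeSpectrum.basicOpen a).2 hP
    obtain ⟨w, hw⟩ : η ∈ Set.range (Spec.map χ) := by
      rw [hχ, Scheme.range_fromSpecResidueField]; rfl
    refine hη ?_
    rw [← hw]
    show χ.hom a ∈ (w : PrimeSpectrum _).asIdeal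
    rw [ha]
    exact zero_mem _
  have hg : IsPullback (f.fiberι η) (f.fiberToSpecResidueField η) f (Spec.map (CommRingCat.ofHom χ.hom)) := by
    rw [CommRingCat.ofHom_hom, hχ]
    exact IsPullback.of_hasPullback f _
  -- the closed point
  let sk : Spec (CommRingCat.of (IsLocalRing.ResidueField A)) ⟶ Spec (CommRingCat.of A) :=
    Spec.map (CommRingCat.ofHom (IsLocalRing.residue A))
  haveI : IsClosedImmersion sk := IsClosedImmersion.spec_of_surjective _ IsLocalRing.residue_surjective
  have hsk : sk (IsLocalRing.closedPoint (IsLocalRing.ResidueField A)) = s₀ :=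
    PrimeSpectrum.ext (by
      show Ideal.comap (IsLocalRing.residue A) (IsLocalRing.maximalIdeal _) = IsLocalRing.maximalIdeal A
      rw [IsLocalRing.maximalIdeal_eq_bot]
      exact IsLocalRing.ker_residue)
  obtain ⟨c, hc⟩ : ∃ c : Spec (CommRingCat.of (IsLocalRing.ResidueField A)) ⟶
      Spec ((Spec (CommRingCat.of A)).residueField s₀), c ≫ (Spec (CommRingCat.of A)).fromSpecResidueField s₀ = sk := by
    rw [← hsk]
    exact ⟨_, Scheme.descResidueField_stalkClosedPointTo_fromSpecResidueField (IsLocalRing.ResidueField A) _ sk⟩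
  haveI : IsIso c := by
    obtain ⟨φ, hφ⟩ := Spec.map_surjective ((Spec (CommRingCat.of A)).fromSpecResidueField s₀)
    have hker : RingHom.ker (IsLocalRing.residue A) ≤ RingHom.ker φ.hom := fun a ha => by
      rw [IsLocalRing.ker_residue] at ha
      obtain ⟨w, hw⟩ : s₀ ∈ Set.range (Spec.map φ) := by
        rw [hφ, Scheme.range_fromSpecResidueField]; rfl
      haveI : Subsingleton ↥(Spec ((Spec (CommRingCat.of A)).residueField s₀)) :=
        inferInstanceAs (Subsingleton (PrimeSpectrum _))
      rw [RingHom.mem_ker]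
      have h1 : φ.hom a ∈ (w : PrimeSpectrum _).asIdeal := by
        have : a ∈ (Spec.map φ w : PrimeSpectrum A).asIdeal := by rw [hw]; exact ha
        exact this
      rwa [show (w : PrimeSpectrum _).asIdeal = ⊥ from
        ((Ideal.eq_bot_or_top _).resolve_right (w : PrimeSpectrum _).isPrime.ne_top) ] at h1
    let d := Spec.map (CommRingCat.ofHom (RingHom.liftOfSurjective (IsLocalRing.residue A) IsLocalRing.residue_surjective
      ⟨φ.hom, hker⟩))
    have hd : d ≫ sk = (Spec (CommRingCat.of A)).fromSpecResidueField s₀ := by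
      rw [← hφ, ← Spec.map_comp]
      congr 1
      exact CommRingCat.hom_ext (RingHom.ext fun a => RingHom.liftOfSurjective_comp_apply _ _ _ a)
    refine ⟨d, ?_, ?_⟩
    · rw [← cancel_mono sk, Category.assoc, hd, hc, Category.id_comp]
    · rw [← cancel_mono ((Spec (CommRingCat.of A)).fromSpecResidueField s₀), Category.assoc, hc, hd, Category.id_comp]
  let Y := pullback f sk
  let i : Y ⟶ X := pullback.fst f sk
  have hi : IsPullback i (pullback.snd f sk) f sk := IsPullback.of_hasPullback f sk
  haveI : IsIntegral Y := by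
    let e : Y ⟶ f.fiber s₀ := pullback.map f sk f _ (𝟙 X) c (𝟙 _) (by simp) (by rw [Category.comp_id, hc])
    haveI : IsIso e := inferInstanceAs (IsIso (pullback.map _ _ _ _ _ _ _ _ _))
    haveI : Nonempty ↥Y := ⟨inv e (Classical.arbitrary ↥(f.fiber s₀))⟩
    exact isIntegral_of_isOpenImmersion e
  have hΓ : IsField Γ(Y, ⊤) := isField_of_universallyClosed (IsLocalRing.ResidueField A) (pullback.snd f sk)
  haveI : Nonempty ↥(f.fiber η) := by
    haveI := h0
    by_contra hne
    haveI : IsEmpty ↥(f.fiber η) := not_nonempty_iff.1 hne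
    haveI : Subsingleton Γ(f.fiber η, ⊤) := inferInstance
    haveI : Subsingleton Γ(Spec ((Spec (CommRingCat.of A)).residueField η), ⊤) := h0.1.subsingleton
    haveI : Nonempty (⊤ : (Spec ((Spec (CommRingCat.of A)).residueField η)).Opens) :=
      ⟨⟨Classical.arbitrary _, trivial⟩⟩
    exact not_subsingleton Γ(Spec ((Spec (CommRingCat.of A)).residueField η), ⊤) inferInstance
  -- the inverse
  obtain ⟨⟨c', hcc⟩, hc'⟩ := H23.PicMul.exists_inv (X := X) ⟨PicF.cl L, L, rfl, hL⟩
  obtain ⟨M, rfl, hM⟩ := hcc
  replace hc' : PicF.cl L * PicF.cl M = 1 := (mul_comm _ _).trans hc'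
  have hMgen : Groth.Agent.H23.TrivBasic.Triv ((Scheme.Modules.pullback (f.fiberι η)).obj M) := by
    refine H23.TrivBasic.Triv.of_iso (Iso.refl _) (cl_eq_iff.1 ?_)
    have h1 : pullHom (f.fiberι η) (PicF.cl L) = 1 := cl_eq_iff.2 htriv
    have h2 := congrArg (pullHom (f.fiberι η)) hc'
    rw [map_mul, h1, one_mul, map_one] at h2
    exact h2
  obtain ⟨b, hb⟩ := ValTriv17.exists_section f hL χ.hom hχinj hg htriv i hi
  obtain ⟨b', hb'⟩ := ValTriv17.exists_section f hM χ.hom hχinj hg hMgen i hi
  obtain ⟨φ⟩ := (cl_eq_iff.1 (by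
    rw [cl_tensor]
    show pullHom i (PicF.cl L) * pullHom i (PicF.cl M) = 1
    rw [← map_mul, hc', map_one]) : Nonempty (CohB1.tensorMod ((Scheme.Modules.pullback i).obj L)
      ((Scheme.Modules.pullback i).obj M) ≅ Coh.structureModule Y))
  have hY : Groth.Agent.H23.TrivBasic.Triv ((Scheme.Modules.pullback i).obj L) := by
    refine SeesawX.triv_of_pair (PicClLib.isInvertible_pullback i hL) (PicClLib.isInvertible_pullback i hM) φ
      (fun d hd => ?_) hb hb'
    obtain ⟨d', hd'⟩ := hΓ.mul_inv_cancel hd
    exact IsUnit.of_mul_eq_one d' hd'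
  have hfr := H23.TrivBasic.isFrame_of_ne_zero hY hΓ hb
  refine H23.TrivBasic.triv_of_frame (e := b) (H23.TrivBasic.locus_eq_top_iff.1 ?_)
  refine top_le_iff.1 fun p _ => ?_
  by_contra hp
  have hcl : IsClosed (f '' ((H23.TrivBasic.locus b : Set X)ᶜ)) := f.isClosedMap _ (H23.TrivBasic.locus b).2.isClosed_compl
  obtain ⟨p', hp', hfp⟩ : s₀ ∈ f '' ((H23.TrivBasic.locus b : Set X)ᶜ) :=
    (IsLocalRing.specializes_closedPoint (f p)).mem_closed hcl ⟨p, hp, rfl⟩
  obtain ⟨y, hy, -⟩ := Scheme.Pullback.exists_preimage_pullback (f := f) (g := sk) p'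
    (IsLocalRing.closedPoint (IsLocalRing.ResidueField A)) (by rw [hfp, hsk])
  refine hp' (show p' ∈ H23.TrivBasic.locus b from ?_)
  rw [← hy]
  have : y ∈ H23.TrivBasic.locus (InvX.pullElt i b) := by rw [H23.TrivBasic.locus_eq_top_iff.2 hfr]; trivial
  rw [H23.TrivBasic.locus_pullElt hL i b] at this
  exact this

end Groth.Agent.S1395
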