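import Groth.Statements.S13951
import Groth.Agent.DescLib.Reduced

set_option autoImplicit false
universe u
open TateLoc

namespace Groth.Agent.S13951

open Groth.Agent CategoryTheory.MonoidalCategory CategoryTheory.CartesianMonoidalCategory CategoryTheory.MonObj

open CategoryTheory AlgebraicGeometry CategoryTheory.Limits in
/-- Let S be a reduced scheme and I a finite locally free commutative S-group scheme (finite, flat, of
finite presentation) whose fibres over all points of S are connected. Then the restriction of the
sheaf of points of I from the big fppf site of S to the small etale site of S is the zero sheaf. -/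
theorem result (S : Scheme.{u}) [IsReduced S]
    (I : Over S) [GrpObj I] [IsCommMonObj I] [IsFinite I.hom] [Flat I.hom] [LocallyOfFinitePresentation I.hom]
    (hconn : ∀ s : S, ConnectedSpace ↥(I.hom.fiber s)) :
    IsZero ((BigSite.resEt Scheme.fppfPrecoverage S).obj (CGrpSh.pts Scheme.fppfPrecoverage I)) := by

  classical
  haveI : IsFinite I.hom := inferInstance
  -- the unit section is surjective
  let e : S ⟶ I.left := (η[I] : 𝟙_ (Over S) ⟶ I).left
  have he : e ≫ I.hom = 𝟙 S := Over.w (η[I] : 𝟙_ (Over S) ⟶ I)
  haveI : IsClosedImmersion e := by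
    haveI : IsClosedImmersion (e ≫ I.hom) := by rw [he]; infer_instance
    exact IsClosedImmersion.of_comp e I.hom
  have hinj : ∀ x y : I.left, I.hom x = I.hom y → x = y := fun x y hxy => by
    haveI := hconn (I.hom y)
    haveI hd : DiscreteTopology (I.hom.fiber (I.hom y)) := by
      have h := I.hom.isDiscrete_preimage_singleton (I.hom y)
      rw [isDiscrete_iff_discreteTopology] at h
      exact (I.hom.fiberHomeo (I.hom y)).symm.discreteTopology
    haveI hs : Subsingleton (I.hom.fiber (I.hom y)) :=
      PreconnectedSpace.trivial_of_discrete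
    exact congrArg Subtype.val ((I.hom.fiberHomeo (I.hom y)).symm.injective
      (Subsingleton.elim ((I.hom.fiberHomeo (I.hom y)).symm ⟨x, hxy⟩)
        ((I.hom.fiberHomeo (I.hom y)).symm ⟨y, rfl⟩)))
  haveI : Surjective e := ⟨fun x => ⟨I.hom x, hinj _ _ (by rw [← Scheme.Hom.comp_apply, he]; rfl)⟩⟩
  have key : ∀ U : S.Etale, ∀ x : (EtFppf.a S).obj U ⟶ I, x = 1 := fun U x => by
    haveI : Etale U.hom := U.prop
    haveI : IsReduced ((EtFppf.a S).obj U).left :=
      @DescLib.isReduced_of_smooth_of_isReduced U.left S U.hom inferInstance ‹IsReduced S›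
    haveI : IsIso (pullback.fst x.left e) := isIso_of_isClosedImmersion_of_surjective _
    ext : 1
    have h1 : x.left = inv (pullback.fst x.left e) ≫ pullback.snd x.left e ≫ e := by
      rw [← pullback.condition, IsIso.inv_hom_id_assoc]
    have h2 : inv (pullback.fst x.left e) ≫ pullback.snd x.left e = U.hom := by
      have := congrArg (fun g => g ≫ I.hom) h1
      simp only [Category.assoc, he, Category.comp_id] at this
      rw [← this]
      exact Over.w x
    rw [h1, ← Category.assoc, h2]
    rfl
  refine (IsZero.iff_id_eq_zero _).2 (Sheaf.hom_ext (NatTrans.ext (funext fun U => AddCommGrpCat.ext fun z => ?_)))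
  exact ULift.ext _ _ (congrArg Additive.ofMul (key U.unop (Additive.toMul (ULift.down z))))

end Groth.Agent.S13951
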