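import Groth.Statements.S13953
import Mathlib

set_option autoImplicit false
universe u
open TateLoc

namespace Groth.Agent.S13953

/-- Let (R_i) be a family of local commutative rings and R = ∏ R_i. Any open cover of Spec R can be
refined by one coming from a finite partition of the index set: there is a map c from the index set
to a finite set such that, for each value m, the basic open subset of Spec R defined by the
idempotent which is 1 at the indices with c i = m and 0 elsewhere (this open is the spectrum of the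
product of the R_i over that class) is contained in some member of the cover. -/
theorem result {ι : Type u} (R : ι → Type u)
    [∀ i, CommRing (R i)] [∀ i, IsLocalRing (R i)] {J : Type u}
    (U : J → TopologicalSpace.Opens (PrimeSpectrum (∀ i, R i))) (hU : ⨆ j, U j = ⊤) :
    ∃ (n : ℕ) (c : ι → Fin n), ∀ m : Fin n, ∃ j : J,
      PrimeSpectrum.basicOpen (fun i => if c i = m then (1 : R i) else 0) ≤ U j := by
  classical
  have hbase : ∀ x : PrimeSpectrum (∀ i, R i), ∃ (f : ∀ i, R i) (j : J),
      x ∈ PrimeSpectrum.basicOpen f ∧ PrimeSpectrum.basicOpen f ≤ U j := fun x => by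
    obtain ⟨j, hj⟩ := TopologicalSpace.Opens.mem_iSup.mp (hU ▸ TopologicalSpace.Opens.mem_top x : x ∈ ⨆ j, U j)
    obtain ⟨_, ⟨f, rfl⟩, hxf, hf⟩ :=
      PrimeSpectrum.isTopologicalBasis_basic_opens.exists_subset_of_mem_open hj (U j).isOpen
    exact ⟨f, j, hxf, hf⟩
  choose f j hxf hfj using hbase
  obtain ⟨t, ht⟩ := isCompact_univ.elim_finite_subcover (fun x => (PrimeSpectrum.basicOpen (f x) : Set (PrimeSpectrum (∀ i, R i))))
    (fun x => (PrimeSpectrum.basicOpen (f x)).isOpen) (fun x _ => Set.mem_iUnion.mpr ⟨x, hxf x⟩)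
  have hunit : ∀ i, ∃ x : t, IsUnit (f x.1 i) := fun i => by
    let p : PrimeSpectrum (∀ i, R i) :=
      ⟨(IsLocalRing.maximalIdeal (R i)).comap (Pi.evalRingHom R i), Ideal.comap_isPrime _ _⟩
    obtain ⟨x, hxt, hx⟩ := Set.mem_iUnion₂.mp (ht (Set.mem_univ p))
    refine ⟨⟨x, hxt⟩, ?_⟩
    by_contra hn
    exact hx (show f x ∈ p.asIdeal from (IsLocalRing.mem_maximalIdeal _).mpr hn)
  choose c hc using hunit
  refine ⟨t.card, fun i => t.equivFin (c i), fun m => ⟨j (t.equivFin.symm m).1, le_trans ?_ (hfj _)⟩⟩
  let g : ∀ i, R i := fun i => if t.equivFin (c i) = m then Ring.inverse (f (c i).1 i) else 0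
  have hg : (fun i => if t.equivFin (c i) = m then (1 : R i) else 0) = f (t.equivFin.symm m).1 * g := by
    funext i
    simp only [Pi.mul_apply, g]
    split_ifs with h
    · rw [← h, Equiv.symm_apply_apply, Ring.mul_inverse_cancel _ (hc i)]
    · rw [mul_zero]
  rw [hg]
  exact PrimeSpectrum.basicOpen_mul_le_left _ _

end Groth.Agent.S13953
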