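import Groth.Statements.S13958
import Mathlib

set_option autoImplicit false
universe u
open TateLoc

namespace Groth.Agent.S13958

open CategoryTheory in
/-- Let A' be a finitely generated abelian group (written multiplicatively, discrete) and A a subgroup.
If the image of x ∈ A' in the profinite completion of A' lies in the image of the profinite
completion of A under the map induced by the inclusion, then x ∈ A. (The published statement says
that the square formed by the two completion maps and the two inclusions is Cartesian; given the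
injectivity of the induced map on completions, which holds here, that amounts to this membership
criterion.) -/
theorem result (A' : Type u) [CommGroup A'] [Group.FG A']
    (A : Subgroup A') (x : A')
    (hx : ProfiniteGrp.ProfiniteCompletion.etaFn (GrpCat.of A') x ∈
      Set.range ⇑(ProfiniteGrp.profiniteCompletion.map (GrpCat.ofHom A.subtype)).hom) :
    x ∈ A := by
  classical
  by_contra hxA
  haveI : Group.FG (A' ⧸ A) := QuotientGroup.fg A
  have hres : ∀ (B : Type u) [CommGroup B] [Group.FG B], ∀ b : B, b ≠ 1 → ∃ H : Subgroup B, H.FiniteIndex ∧ b ∉ H := by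
    intro B _ _ b hb
    haveI : AddGroup.FG (Additive B) := GroupFG.iff_add_fg.mp inferInstance
    obtain ⟨n, ι, _, p, hp, e, ⟨φ⟩⟩ := AddCommGroup.equiv_free_prod_directSum_zmod (Additive B)
    haveI : ∀ i, NeZero (p i ^ e i) := fun i => ⟨pow_ne_zero _ (hp i).ne_zero⟩
    let z := φ (Additive.ofMul b)
    have hz : z ≠ 0 := fun h => hb (Additive.ofMul.injective (φ.injective (h.trans (map_zero φ).symm)))
    suffices h : ∃ (T : Type u) (_ : AddCommGroup T) (_ : Finite T) (ψ : Additive B →+ T), ψ (Additive.ofMul b) ≠ 0 by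
      obtain ⟨T, _, _, ψ, hψ⟩ := h
      let ψ' : B →* Multiplicative T := AddMonoidHom.toMultiplicativeRight ψ
      refine ⟨ψ'.ker, Subgroup.finiteIndex_ker ψ', fun h => hψ ?_⟩
      exact Multiplicative.ofAdd.injective h
    by_cases h2 : z.2 = 0
    · have h1 : z.1 ≠ 0 := fun h => hz (Prod.ext h h2)
      obtain ⟨i, hi⟩ := Finsupp.ne_iff.mp h1
      let m := (z.1 i).natAbs + 1
      refine ⟨ULift.{u} (ZMod m), inferInstance, inferInstance, (AddEquiv.ulift.symm.toAddMonoidHom).comp
        (((Int.castAddHom (ZMod m)).comp ((Finsupp.applyAddHom i).comp (AddMonoidHom.fst _ _))).comp φ.toAddMonoidHom), ?_⟩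
      intro h
      have h' : ((z.1 i : ℤ) : ZMod m) = 0 := congrArg ULift.down h
      rw [ZMod.intCast_zmod_eq_zero_iff_dvd] at h'
      exact hi (Int.eq_zero_of_dvd_of_natAbs_lt_natAbs h' (by simp only [m, Int.natAbs_natCast]; exact Nat.lt_succ_self _))
    · haveI : ∀ i, Finite (ZMod (p i ^ e i)) := fun i => inferInstance
      haveI : Finite (DirectSum ι fun i => ZMod (p i ^ e i)) :=
        Finite.of_injective (fun x i => x i) DFunLike.coe_injective
      refine ⟨ULift.{u} (DirectSum ι fun i => ZMod (p i ^ e i)), inferInstance, inferInstance,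
        AddEquiv.ulift.symm.toAddMonoidHom.comp ((AddMonoidHom.snd _ _).comp φ.toAddMonoidHom), fun h => h2 ?_⟩
      exact congrArg ULift.down h
  obtain ⟨H, hH, hxH⟩ := hres (A' ⧸ A) (QuotientGroup.mk x) (fun h => hxA ((QuotientGroup.eq_one_iff x).mp h))
  let N : Subgroup A' := H.comap (QuotientGroup.mk' A)
  haveI : N.FiniteIndex := ⟨by rw [Subgroup.index_comap_of_surjective _ (QuotientGroup.mk'_surjective A)]; exact hH.index_ne_zero⟩
  let Nf : FiniteIndexNormalSubgroup A' := FiniteIndexNormalSubgroup.ofSubgroup N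
  obtain ⟨y, hy⟩ := hx
  let F := (ProfiniteGrp.profiniteCompletion.map (GrpCat.ofHom A.subtype)).hom
  have hcl : IsClosed {w | (F w).1 Nf = 1} :=
    isClosed_eq ((continuous_apply Nf).comp (continuous_subtype_val.comp (map_continuous F))) continuous_const
  have hsub : Set.range (ProfiniteGrp.ProfiniteCompletion.etaFn (GrpCat.of A)) ⊆ {w | (F w).1 Nf = 1} := by
    rintro _ ⟨a, rfl⟩
    have h := congrArg (fun (φ : GrpCat.of A ⟶ _) => φ.hom a) (ProfiniteGrp.ProfiniteCompletion.lift_eta
      (GrpCat.ofHom A.subtype ≫ ProfiniteGrp.ProfiniteCompletion.eta (GrpCat.of A')))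
    show (F (ProfiniteGrp.ProfiniteCompletion.etaFn (GrpCat.of A) a)).1 Nf = 1
    rw [show F (ProfiniteGrp.ProfiniteCompletion.etaFn (GrpCat.of A) a) =
      ProfiniteGrp.ProfiniteCompletion.etaFn (GrpCat.of A') (a : A') from h]
    refine (QuotientGroup.eq_one_iff _).mpr ?_
    show (QuotientGroup.mk (a : A') : A' ⧸ A) ∈ H
    erw [(QuotientGroup.eq_one_iff (N := A) (a : A')).mpr a.2]
    exact H.one_mem
  have h1 : (F y).1 Nf = 1 :=
    hcl.closure_subset_iff.mpr hsub ((ProfiniteGrp.ProfiniteCompletion.denseRange (GrpCat.of A)) y)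
  rw [show F y = _ from hy] at h1
  exact hxH ((QuotientGroup.eq_one_iff (N := N) x).mp h1)

end Groth.Agent.S13958
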