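import Groth.Statements.S13959
import Groth.Agent.SchTorsor.Point

set_option autoImplicit false
universe u
open TateLoc

namespace Groth.Agent.S13959

open Groth.Agent

open CategoryTheory AlgebraicGeometry in
/-- Let k be a field, L an extension field of k which is separable over k in the sense that L ⊗_k L is
reduced (not necessarily algebraic), and I an infinitesimal k-group scheme (finite over k with
one-point underlying space). If a k-scheme E with an action of I is an fppf torsor under I and
acquires a point over L, then E already has a k-point. (The published statement is the injectivity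
of H^1(k, I) → H^1(L, I); this row is its torsor form.) -/
theorem result (k : Type u) [Field k] (L : Type u) [Field L] [Algebra k L]
    [IsReduced (TensorProduct k L L)]
    (I E : Over (Spec (CommRingCat.of k))) [GrpObj I] [IsFinite I.hom] [Subsingleton ↥(I.left)]
    (a : AlgGrp.Action I E) (hE : NonAbH1.IsTorsorFor Scheme.fppfPrecoverage a)
    (hL : NonAbH1.HasSectionOver E (Spec.map (CommRingCat.ofHom (algebraMap k L)))) :
    NonAbH1.HasSectionOver E (𝟙 (Spec (CommRingCat.of k))) := by

  haveI : Nonempty ↥(I.left) := ⟨(MonObj.one (X := I)).left.base (IsLocalRing.closedPoint k)⟩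
  haveI : PreconnectedSpace ↥(I.left) := ⟨Set.subsingleton_univ.isPreconnected⟩
  haveI : ConnectedSpace ↥(I.left) := ⟨inferInstance⟩
  have ha : NonAbH1.IsTorsorFor Scheme.fpqcPrecoverage a :=
    ⟨hE.1, hE.2.choose, Scheme.fppfPrecoverage_le_fpqcPrecoverage _ hE.2.choose_spec.1, hE.2.choose_spec.2⟩
  haveI := Groth.Agent.SchTorsor.universallyInjective_hom ha
  obtain ⟨s, hs⟩ := hL
  let φ : E.left.residueField (s (IsLocalRing.closedPoint L)) ⟶ CommRingCat.of L :=
    E.left.descResidueField (Scheme.stalkClosedPointTo s)
  let e := s (IsLocalRing.closedPoint L)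
  refine Groth.Agent.SchTorsor.hasSectionOver_of_surjective e ?_
  have hpi := ((tfae_universallyInjective E.hom).out 0 2 rfl rfl).1 inferInstance |>.2 e
  set r := E.hom.residueFieldMap e
  let θ : CommRingCat.of k ⟶ (Spec (CommRingCat.of k)).residueField (E.hom e) :=
    Spec.preimage ((Spec (CommRingCat.of k)).fromSpecResidueField (E.hom e))
  have hθ : Spec.map θ = (Spec (CommRingCat.of k)).fromSpecResidueField (E.hom e) := Spec.map_preimage _
  have hcomp : θ ≫ r ≫ φ = CommRingCat.ofHom (algebraMap k L) := by
    apply Spec.map_injective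
    rw [← hs, Spec.map_comp, Spec.map_comp, hθ, Category.assoc,
      Scheme.Hom.SpecMap_residueFieldMap_fromSpecResidueField, ← Category.assoc]
    congr 1
    exact Scheme.descResidueField_stalkClosedPointTo_fromSpecResidueField L E.left s
  have hθs : Function.Surjective θ.hom := by
    haveI : IsIso (Spec.map θ) := by rw [hθ]; infer_instance
    haveI : IsIso θ := by
      obtain ⟨g, hg⟩ := Spec.map_surjective (inv (Spec.map θ))
      refine ⟨g, Spec.map_injective ?_, Spec.map_injective ?_⟩
      · rw [Spec.map_comp, Spec.map_id, hg, IsIso.inv_hom_id]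
      · rw [Spec.map_comp, Spec.map_id, hg, IsIso.hom_inv_id]
    exact ((ConcreteCategory.isIso_iff_bijective θ).1 inferInstance).2
  have happ : ∀ c, φ.hom (r.hom (θ.hom c)) = algebraMap k L c := fun c =>
    congrArg (fun f : CommRingCat.of k ⟶ CommRingCat.of L => f.hom c) hcomp
  intro x
  letI : Algebra ((Spec (CommRingCat.of k)).residueField (E.hom e)) (E.left.residueField e) := r.hom.toAlgebra
  haveI : IsPurelyInseparable ((Spec (CommRingCat.of k)).residueField (E.hom e)) (E.left.residueField e) := hpi
  obtain ⟨q, hq⟩ := ExpChar.exists k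
  haveI : ExpChar ((Spec (CommRingCat.of k)).residueField (E.hom e)) q :=
    expChar_of_injective_ringHom θ.hom.injective q
  obtain ⟨m, c, hc⟩ := IsPurelyInseparable.pow_mem ((Spec (CommRingCat.of k)).residueField (E.hom e)) q x
  obtain ⟨c, rfl⟩ := hθs c
  set b := φ.hom x with hb
  have hbq : b ^ q ^ m = algebraMap k L c := by
    rw [hb, ← map_pow, ← hc, ← happ]; rfl
  -- an element of `L` with a power in `k` lies in `k`
  have hT : (b ⊗ₜ[k] (1 : L)) - (1 : L) ⊗ₜ[k] b = 0 := by
    haveI : Nontrivial (TensorProduct k L L) :=
      (RingHom.injective (Algebra.TensorProduct.includeLeftRingHom : L →+* TensorProduct k L L)).nontrivial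
    haveI : ExpChar (TensorProduct k L L) q := expChar_of_injective_ringHom (algebraMap k (TensorProduct k L L)).injective q
    refine IsReduced.eq_zero _ ⟨q ^ m, ?_⟩
    rw [sub_pow_expChar_pow, Algebra.TensorProduct.tmul_pow, Algebra.TensorProduct.tmul_pow, one_pow, hbq,
      Algebra.algebraMap_eq_smul_one, TensorProduct.smul_tmul, sub_self]
  obtain ⟨b₀, hb₀⟩ : ∃ b₀ : k, algebraMap k L b₀ = b := by
    by_contra hno
    simp only [not_exists] at hno
    have hli : LinearIndependent k ![(1 : L), b] := by
      rw [LinearIndependent.pair_iff' one_ne_zero]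
      intro c h
      exact hno c (by rw [Algebra.algebraMap_eq_smul_one, h])
    obtain ⟨f, hf⟩ := LinearMap.exists_extend (Module.Basis.span hli |>.coord 1)
    have h1 := congrArg (TensorProduct.lid k L ∘ TensorProduct.map f LinearMap.id) hT
    simp only [Function.comp_apply, map_sub, TensorProduct.map_tmul, LinearMap.id_apply, TensorProduct.lid_tmul,
      map_zero] at h1
    have hfv : ∀ i, f (![(1 : L), b] i) = if i = 1 then 1 else 0 := fun i => by
      have := LinearMap.congr_fun hf (Module.Basis.span hli i)
      rw [Module.Basis.coord_apply, Module.Basis.repr_self, Finsupp.single_apply] at this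
      simp only [LinearMap.comp_apply, Submodule.subtype_apply, Module.Basis.span_apply] at this
      exact this
    have e1 : f b = 1 := by simpa using hfv 1
    have e0 : f 1 = 0 := by simpa using hfv 0
    rw [e1, e0, one_smul, zero_smul, sub_zero] at h1
    exact one_ne_zero h1
  refine ⟨θ.hom b₀, φ.hom.injective ?_⟩
  rw [happ, hb₀]


end Groth.Agent.S13959
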