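import Groth.Statements.S13963
import Mathlib

set_option autoImplicit false
universe u
open TateLoc

namespace Groth.Agent.S13963

/-- Let A' → A → A'' be continuous homomorphisms of locally compact, second-countable, Hausdorff abelian
topological groups which form a short exact sequence of abstract groups (the first injective, the
second surjective, image equal to kernel). If A' and A'' are compact, then A is compact. -/
theorem result (A' A A'' : Type u)
    [AddCommGroup A'] [TopologicalSpace A'] [IsTopologicalAddGroup A'] [SecondCountableTopology A'] [T2Space A']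
    [CompactSpace A']
    [AddCommGroup A] [TopologicalSpace A] [IsTopologicalAddGroup A] [LocallyCompactSpace A]
    [SecondCountableTopology A] [T2Space A]
    [AddCommGroup A''] [TopologicalSpace A''] [IsTopologicalAddGroup A''] [SecondCountableTopology A''] [T2Space A'']
    [CompactSpace A'']
    (f : A' →+ A) (g : A →+ A'') (hf : Continuous f) (hg : Continuous g)
    (hinj : Function.Injective f) (hsurj : Function.Surjective g) (hex : g.ker = f.range) :
    CompactSpace A := by
  haveI : CompactSpace A'' := inferInstance
  have hopen : IsOpenMap g := AddMonoidHom.isOpenMap_of_sigmaCompact g hsurj hg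
  choose K hK hK' using fun a : A => exists_compact_mem_nhds a
  obtain ⟨t, ht⟩ := isCompact_univ.elim_finite_subcover (fun a : A => g '' interior (K a))
    (fun a => hopen _ isOpen_interior) (fun b _ => by
      obtain ⟨a, rfl⟩ := hsurj b
      exact Set.mem_iUnion.mpr ⟨a, a, mem_interior_iff_mem_nhds.mpr (hK' a), rfl⟩)
  have hc : IsCompact ((fun p : A × A => p.1 + p.2) '' ((⋃ a ∈ t, K a) ×ˢ Set.range f)) :=
    ((t.isCompact_biUnion fun a _ => hK a).prod (isCompact_range hf)).image continuous_add
  refine ⟨hc.of_isClosed_subset isClosed_univ fun x _ => ?_⟩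
  obtain ⟨a, hat, y, hy, hyx⟩ := Set.mem_iUnion₂.mp (ht (Set.mem_univ (g x)))
  have : x - y ∈ g.ker := by rw [AddMonoidHom.mem_ker, map_sub, hyx, sub_self]
  rw [hex] at this
  obtain ⟨z, hz⟩ := this
  exact ⟨(y, f z), ⟨Set.mem_iUnion₂.mpr ⟨a, hat, interior_subset hy⟩, z, rfl⟩, by rw [hz]; exact add_sub_cancel y x⟩

end Groth.Agent.S13963
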