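import Groth.Statements.S13964
import Groth.Agent.H90Weil.Main

set_option autoImplicit false
universe u
open TateLoc

namespace Groth.Agent.S13964

open Groth.Agent

open CategoryTheory AlgebraicGeometry in
/-- Take fields k and k' with k' finite and separable over k. The Weil restriction of the multiplicative
group from k' to k, as an abelian sheaf on the big fppf site of Spec k, is the direct image of the
multiplicative group along Spec k' → Spec k; its first cohomology H^1(k, R_{k'/k}(𝔾_m)) vanishes.
(The published statement is for the Weil restriction of any split k'-torus, a finite product of
copies of this case.) -/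
theorem result (k k' : Type u) [Field k] [Field k'] [Algebra k k']
    [FiniteDimensional k k'] [Algebra.IsSeparable k k'] :
    Subsingleton (BigSite.H Scheme.fppfPrecoverage (Spec (CommRingCat.of k)) ((BigSite.pushBig Scheme.fppfPrecoverage (Spec.map (CommRingCat.ofHom (algebraMap k k'))) AddCommGrpCat.{u+1}).obj (CGrpSh2.Gm Scheme.fppfPrecoverage (Spec (CommRingCat.of k')))) 1) := by

  exact Groth.Agent.H90Weil.subsingleton_H_one k k'

end Groth.Agent.S13964
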