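import Groth.Statements.S8368
import Groth.Agent.KoszulFlatLib.SqZero
import Groth.Agent.KoszulFlatLib.OfExact

set_option autoImplicit false
universe u
open SGA3
open scoped TensorProduct

namespace Groth.Agent.S8368

/-- Let A be a commutative ring, J an ideal of A of square zero, B a flat A-algebra and f₁, …, f_d
elements of B (a linear map from a free B-module of rank d to B). If the reductions of the f_i to
B/JB form a Koszul-regular sequence and the quotient of B/JB by them is flat over A/J, then f₁, …,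
f_d is a Koszul-regular sequence in B and B/(f₁, …, f_d) is flat over A. -/
theorem result (A B : Type u) [CommRing A] [CommRing B] [Algebra A B]
    [Module.Flat A B] (J : Ideal A) (hJ : J * J = ⊥) (rs : List B)
    (hreg : LCI.IsKoszulRegularSeq (B ⧸ Ideal.map (algebraMap A B) J)
      (rs.map (Ideal.Quotient.mk (Ideal.map (algebraMap A B) J))))
    (hflat : Module.Flat (A ⧸ J) ((B ⧸ Ideal.map (algebraMap A B) J) ⧸
      Ideal.ofList (rs.map (Ideal.Quotient.mk (Ideal.map (algebraMap A B) J))))) :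
    LCI.IsKoszulRegularSeq B rs ∧ Module.Flat A (B ⧸ Ideal.ofList rs) := by
  obtain ⟨n, f, rfl⟩ : ∃ (n : ℕ) (f : Fin n → B), rs = List.ofFn f := ⟨_, _, (List.ofFn_get rs).symm⟩
  rw [List.map_ofFn] at hreg hflat
  set J' := Ideal.map (algebraMap A B) J with hJ'
  let mk := Ideal.Quotient.mk J'
  let C : ℕ → Type u := fun k => WiebeLib.Ko B n k
  have hflatC : ∀ k, Module.Flat A (C k) := fun k =>
    Module.Flat.of_linearEquiv (DFinsupp.linearEquivFunOnFintype (R := A) (ι := WiebeLib.Idx n k) (M := fun _ => B)).symm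
  let d : ∀ k, C (k + 1) →ₗ[A] C k := fun k => (WiebeLib.d n f k).restrictScalars A
  have hJB : ∀ x : B, x ∈ J' ↔ x ∈ J • (⊤ : Submodule A B) := fun x => by
    rw [Ideal.smul_top_eq_map]; rfl
  have hmem : ∀ (k : ℕ) (x : C k), x ∈ J • (⊤ : Submodule A (C k)) ↔ ∀ i, mk (x i) = 0 := by
    classical
    intro k x
    constructor
    · intro hx i
      refine Ideal.Quotient.eq_zero_iff_mem.mpr ((hJB _).mpr ?_)
      exact Submodule.mem_comap.mp
        ((Submodule.smul_top_le_comap_smul_top J (LinearMap.proj (R := A) (φ := fun _ => B) i)) hx)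
    · intro h
      rw [show x = ∑ i, Pi.single i (x i) from (Finset.univ_sum_single x).symm]
      refine sum_mem fun i _ => ?_
      exact Submodule.mem_comap.mp ((Submodule.smul_top_le_comap_smul_top J (LinearMap.single A (fun _ => B) i))
        ((hJB _).mp (Ideal.Quotient.eq_zero_iff_mem.mp (h i))))
  have hexmod : WiebeLib.IsExact (fun i => mk (f i)) :=
    WiebeLib.isExact_of_isKoszulRegularSeq _ hreg
  have hmod : ∀ k x, d k x ∈ J • (⊤ : Submodule A (C k)) →
      ∃ y, x - d (k + 1) y ∈ J • (⊤ : Submodule A (C (k + 1))) := by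
    intro k x hx
    obtain ⟨y, hy⟩ := hexmod k (fun i => mk (x i)) (by
      rw [WiebeLib.d_map mk]; funext i; exact (hmem k _).mp hx i)
    choose y' hy' using fun i => Ideal.Quotient.mk_surjective (y i)
    refine ⟨y', (hmem _ _).mpr fun i => ?_⟩
    have := congrFun hy i
    rw [show y = fun i => mk (y' i) from funext fun i => (hy' i).symm, WiebeLib.d_map mk] at this
    show mk (x i - WiebeLib.d n f (k + 1) y' i) = 0
    rw [map_sub, sub_eq_zero]
    exact this.symm
  -- the cokernel
  let Q := B ⧸ Ideal.ofList (List.ofFn f)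
  let Q' := (B ⧸ J') ⧸ Ideal.ofList (List.ofFn (mk ∘ f))
  have hI : Ideal.ofList (List.ofFn f) = Ideal.span (Set.range f) := by
    simp [Ideal.ofList, List.mem_ofFn', Set.range]
  let θ : C 0 →ₗ[A] Q :=
    (Ideal.Quotient.mkₐ A (Ideal.ofList (List.ofFn f))).toLinearMap ∘ₗ (WiebeLib.base (R := B) n).toLinearMap.restrictScalars A
  have hθ : Function.Surjective θ := Ideal.Quotient.mk_surjective.comp (WiebeLib.base (R := B) n).surjective
  have hker : LinearMap.range (d 0) = LinearMap.ker θ := by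
    ext x
    rw [LinearMap.mem_ker]
    show x ∈ LinearMap.range (d 0) ↔ Ideal.Quotient.mk _ (WiebeLib.base n x) = 0
    rw [Ideal.Quotient.eq_zero_iff_mem, hI, ← WiebeLib.mem_range_d_zero]
    exact Iff.rfl
  let eQ : (C 0 ⧸ LinearMap.range (d 0)) ≃ₗ[A] Q :=
    (Submodule.quotEquivOfEq _ _ hker).trans (θ.quotKerEquivOfSurjective hθ)
  have hJI : Ideal.ofList (List.ofFn (mk ∘ f)) = (Ideal.ofList (List.ofFn f)).map mk := by
    rw [Ideal.map_ofList, List.map_ofFn]
  let ν : Q →ₗ[A] Q' :=
    (Ideal.Quotient.liftₐ _ ((Ideal.Quotient.mkₐ A (Ideal.ofList (List.ofFn (mk ∘ f)))).comp (Ideal.Quotient.mkₐ A J'))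
      fun b hb => Ideal.Quotient.eq_zero_iff_mem.mpr (hJI ▸ Ideal.mem_map_of_mem mk hb)).toLinearMap
  have hν : Function.Surjective ν := fun z => by
    obtain ⟨z, rfl⟩ := Ideal.Quotient.mk_surjective z
    obtain ⟨z, rfl⟩ := Ideal.Quotient.mk_surjective z
    exact ⟨Ideal.Quotient.mk _ z, rfl⟩
  have hνk : J • (⊤ : Submodule A Q) = LinearMap.ker ν := by
    refine le_antisymm (Submodule.smul_le.mpr fun j hj q _ => ?_) fun q hq => ?_
    · obtain ⟨q, rfl⟩ := Ideal.Quotient.mk_surjective q
      rw [LinearMap.mem_ker, map_smul]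
      show Ideal.Quotient.mk _ (j • mk q) = 0
      rw [Algebra.smul_def, show algebraMap A (B ⧸ J') j = mk (algebraMap A B j) from rfl,
        Ideal.Quotient.eq_zero_iff_mem.mpr (Ideal.mem_map_of_mem (algebraMap A B) hj), zero_mul, map_zero]
    · obtain ⟨q, rfl⟩ := Ideal.Quotient.mk_surjective q
      have hq' : mk q ∈ (Ideal.ofList (List.ofFn f)).map mk := hJI ▸ Ideal.Quotient.eq_zero_iff_mem.mp hq
      rw [Ideal.mem_quotient_iff_mem_sup, Submodule.mem_sup] at hq'
      obtain ⟨a, ha, b, hb, rfl⟩ := hq'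
      rw [map_add, Ideal.Quotient.eq_zero_iff_mem.mpr ha, zero_add]
      exact Submodule.mem_comap.mp ((Submodule.smul_top_le_comap_smul_top J
        (Ideal.Quotient.mkₐ A (Ideal.ofList (List.ofFn f))).toLinearMap) ((hJB _).mp hb))
  haveI : Module.Flat (A ⧸ J) ((A ⧸ J) ⊗[A] (C 0 ⧸ LinearMap.range (d 0))) := by
    haveI := hflat
    let e : ((A ⧸ J) ⊗[A] (C 0 ⧸ LinearMap.range (d 0))) ≃ₗ[A] Q' :=
      (eQ.lTensor (A ⧸ J)).trans <| (TensorProduct.quotTensorEquivQuotSMul Q J).trans <|
        (Submodule.quotEquivOfEq _ _ hνk).trans (ν.quotKerEquivOfSurjective hν)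
    exact Module.Flat.of_linearEquiv (e.extendScalarsOfSurjective Ideal.Quotient.mk_surjective)
  obtain ⟨hex, hfl⟩ := KoszulFlatLib.exact_and_flat_of_mod_sq_zero J hJ C d
    (fun k x => WiebeLib.d_d n f k x) hmod
  exact ⟨KoszulFlatLib.isKoszulRegularSeq_of_isExact hex, Module.Flat.of_linearEquiv eQ.symm⟩

end Groth.Agent.S8368
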