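import Groth.Statements.S13972
import Groth.Agent.S8368
import Groth.Agent.WiebeLib.Koszul
import Groth.Agent.KoszulFlatLib.OfExact
import Groth.Agent.EtGlue7.Flat

set_option autoImplicit false
universe u
open LCI

namespace Groth.Agent.S13972
set_option maxHeartbeats 800000
set_option backward.isDefEq.respectTransparency.types false

open Groth.Agent in
theorem isExact_equiv {R S : Type u} [CommRing R] [CommRing S] (e : R ≃+* S) {n : ℕ} {f : Fin n → R}
    (hf : WiebeLib.IsExact f) : WiebeLib.IsExact fun i => e (f i) := by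
  letI : Algebra R S := e.toRingHom.toAlgebra
  haveI : Module.Flat R S := RingHom.Flat.of_bijective (f := e.toRingHom) e.bijective
  exact WiebeLib.isExact_map hf

/-- The data of the hypothesis at an ideal: exactness and flatness modulo the ideal. -/
def Hyp (A R : Type u) [CommRing A] [CommRing R] [Algebra A R] (I : Ideal A) {r : ℕ} (f : Fin r → R) : Prop :=
  Groth.Agent.WiebeLib.IsExact (fun i => Ideal.Quotient.mk (I.map (algebraMap A R)) (f i)) ∧
    (Ideal.quotientMap (I.map (algebraMap A R) ⊔ Ideal.span (Set.range f)) (algebraMap A R)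
      (Ideal.map_le_iff_le_comap.1 le_sup_left)).Flat

open Groth.Agent in
theorem of_sq_zero {A R : Type u} [CommRing A] [CommRing R] [Algebra A R] [Module.Flat A R] (J : Ideal A)
    (hJ : J * J = ⊥) {r : ℕ} (f : Fin r → R) (h : Hyp A R J f) :
    LCI.IsKoszulRegularSeq R (List.ofFn f) ∧ Module.Flat A (R ⧸ Ideal.span (Set.range f)) := by
  let JR := J.map (algebraMap A R)
  have hspan : Ideal.ofList (List.ofFn f) = Ideal.span (Set.range f) :=
    congrArg Ideal.span (Set.ext fun x => List.mem_ofFn)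
  have hmap : (Ideal.span (Set.range f)).map (Ideal.Quotient.mk JR) =
      Ideal.ofList ((List.ofFn f).map (Ideal.Quotient.mk JR)) := by
    rw [← Ideal.map_ofList, hspan]
  have hflat : Module.Flat (A ⧸ J) ((R ⧸ JR) ⧸ Ideal.ofList ((List.ofFn f).map (Ideal.Quotient.mk JR))) := by
    let e : (R ⧸ (JR ⊔ Ideal.span (Set.range f))) ≃+*
        (R ⧸ JR) ⧸ Ideal.ofList ((List.ofFn f).map (Ideal.Quotient.mk JR)) :=
      (DoubleQuot.quotQuotEquivQuotSup JR (Ideal.span (Set.range f))).symm.trans (Ideal.quotEquivOfEq hmap)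
    have hc : algebraMap (A ⧸ J) ((R ⧸ JR) ⧸ Ideal.ofList ((List.ofFn f).map (Ideal.Quotient.mk JR))) =
        e.toRingHom.comp (Ideal.quotientMap (JR ⊔ Ideal.span (Set.range f)) (algebraMap A R)
          (Ideal.map_le_iff_le_comap.1 le_sup_left)) :=
      Ideal.Quotient.ringHom_ext (RingHom.ext fun a => rfl)
    refine RingHom.flat_algebraMap_iff.1 ?_
    rw [hc]
    exact RingHom.Flat.comp h.2 (RingHom.Flat.of_bijective e.bijective)
  have hreg : LCI.IsKoszulRegularSeq (R ⧸ JR) ((List.ofFn f).map (Ideal.Quotient.mk JR)) := by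
    rw [List.map_ofFn]
    exact KoszulFlatLib.isKoszulRegularSeq_of_isExact h.1
  obtain ⟨h1, h2⟩ := S8368.result A R J hJ (List.ofFn f) hreg hflat
  exact ⟨h1, by rwa [hspan] at h2⟩

open Groth.Agent in
theorem of_nilpotent : ∀ (n : ℕ) (A R : Type u) [CommRing A] [CommRing R] [Algebra A R] [Module.Flat A R]
    (I : Ideal A), I ^ (n + 1) = ⊥ → ∀ {r : ℕ} (f : Fin r → R), Hyp A R I f →
    LCI.IsKoszulRegularSeq R (List.ofFn f) ∧ Module.Flat A (R ⧸ Ideal.span (Set.range f)) := by
  intro n
  induction n with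
  | zero =>
    intro A R _ _ _ _ I hI r f h
    rw [pow_one] at hI
    exact of_sq_zero I (by rw [hI, Ideal.mul_bot]) f h
  | succ n ih =>
    intro A R _ _ _ _ I hI r f h
    let J := I ^ (n + 1)
    have hJI : J ≤ I := Ideal.pow_le_self (Nat.succ_ne_zero n)
    have hJ : J * J = ⊥ := by
      rw [← pow_add, eq_bot_iff, ← hI]
      exact Ideal.pow_le_pow_right (by omega)
    let JR := J.map (algebraMap A R)
    let IR := I.map (algebraMap A R)
    let A₁ := A ⧸ J
    let R₁ := R ⧸ JR
    haveI : Module.Flat A₁ R₁ := Module.Flat.of_linearEquiv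
      (Algebra.TensorProduct.quotIdealMapEquivQuotTensor R J).toLinearEquiv
    let I₁ : Ideal A₁ := I.map (Ideal.Quotient.mk J)
    let f₁ : Fin r → R₁ := fun i => Ideal.Quotient.mk JR (f i)
    have hI₁ : I₁ ^ (n + 1) = ⊥ := by rw [← Ideal.map_pow]; exact Ideal.map_quotient_self J
    have hIR₁ : I₁.map (algebraMap A₁ R₁) = IR.map (Ideal.Quotient.mk JR) := by
      rw [Ideal.map_map, Ideal.map_map]
      rfl
    have hQ₁ : I₁.map (algebraMap A₁ R₁) ⊔ Ideal.span (Set.range f₁) =
        (IR ⊔ Ideal.span (Set.range f)).map (Ideal.Quotient.mk JR) := by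
      rw [hIR₁, Ideal.map_sup, Ideal.map_span, ← Set.range_comp]
      rfl
    have hJIR : JR ≤ IR := Ideal.map_mono hJI
    have hyp₁ : Hyp A₁ R₁ I₁ f₁ := by
      constructor
      · let e : (R ⧸ IR) ≃+* R₁ ⧸ I₁.map (algebraMap A₁ R₁) :=
          (DoubleQuot.quotQuotEquivQuotOfLE hJIR).symm.trans (Ideal.quotEquivOfEq hIR₁.symm)
        exact isExact_equiv e h.1
      · let eA : (A₁ ⧸ I₁) ≃+* A ⧸ I := DoubleQuot.quotQuotEquivQuotOfLE hJI
        let eR : (R ⧸ (IR ⊔ Ideal.span (Set.range f))) ≃+*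
            R₁ ⧸ (I₁.map (algebraMap A₁ R₁) ⊔ Ideal.span (Set.range f₁)) :=
          (DoubleQuot.quotQuotEquivQuotOfLE (hJIR.trans le_sup_left)).symm.trans (Ideal.quotEquivOfEq hQ₁.symm)
        have hc : Ideal.quotientMap (I₁.map (algebraMap A₁ R₁) ⊔ Ideal.span (Set.range f₁)) (algebraMap A₁ R₁)
            (Ideal.map_le_iff_le_comap.1 le_sup_left) = eR.toRingHom.comp
              ((Ideal.quotientMap (IR ⊔ Ideal.span (Set.range f)) (algebraMap A R)
                (Ideal.map_le_iff_le_comap.1 le_sup_left)).comp eA.toRingHom) :=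
          Ideal.Quotient.ringHom_ext (Ideal.Quotient.ringHom_ext (RingHom.ext fun a => rfl))
        rw [hc]
        exact RingHom.Flat.comp (RingHom.Flat.comp (RingHom.Flat.of_bijective eA.bijective) h.2)
          (RingHom.Flat.of_bijective eR.bijective)
    obtain ⟨h1, h2⟩ := ih A₁ R₁ I₁ hI₁ f₁ hyp₁
    refine of_sq_zero J hJ f ⟨WiebeLib.isExact_of_isKoszulRegularSeq _ h1, ?_⟩
    let eR : (R₁ ⧸ Ideal.span (Set.range f₁)) ≃+* R ⧸ (JR ⊔ Ideal.span (Set.range f)) :=
      (Ideal.quotEquivOfEq (show Ideal.span (Set.range f₁) = (Ideal.span (Set.range f)).map (Ideal.Quotient.mk JR) by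
        rw [Ideal.map_span, ← Set.range_comp]; rfl)).trans
        (DoubleQuot.quotQuotEquivQuotSup JR (Ideal.span (Set.range f)))
    have hc : Ideal.quotientMap (JR ⊔ Ideal.span (Set.range f)) (algebraMap A R)
        (Ideal.map_le_iff_le_comap.1 le_sup_left) =
        eR.toRingHom.comp (algebraMap A₁ (R₁ ⧸ Ideal.span (Set.range f₁))) :=
      Ideal.Quotient.ringHom_ext (RingHom.ext fun a => rfl)
    rw [hc]
    exact RingHom.Flat.comp (RingHom.flat_algebraMap_iff.2 h2) (RingHom.Flat.of_bijective eR.bijective)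

open Groth.Agent in
theorem inf_le_mul_of_flat {A R : Type u} [CommRing A] [CommRing R] [Algebra A R] (I : Ideal A) (J : Ideal R)
    [Module.Flat A (R ⧸ J)] : J ⊓ I.map (algebraMap A R) ≤ I.map (algebraMap A R) * J := by
  rintro x ⟨hxJ, hxI⟩
  have hz : ∀ {X : Type u} [AddCommGroup X] [Module A X] (x : X),
      x ⊗ₜ[A] (1 : A ⧸ I) = 0 ↔ x ∈ I • (⊤ : Submodule A X) := by
    intro X _ _ x
    have e := TensorProduct.tensorQuotEquivQuotSMul_tmul_mk I x (1 : A)
    rw [one_smul] at e
    rw [← Submodule.Quotient.mk_eq_zero (I • ⊤ : Submodule A X)]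
    exact (TensorProduct.tensorQuotEquivQuotSMul X I).map_eq_zero_iff.symm.trans
      (Iff.of_eq (congrArg (· = 0) e))
  let ι : ↥(J.restrictScalars A) →ₗ[A] R := (J.restrictScalars A).subtype
  let π : R →ₗ[A] R ⧸ J := (Ideal.Quotient.mkₐ A J).toLinearMap
  have hex : Function.Exact ι π := fun y =>
    ⟨fun h => ⟨⟨y, Ideal.Quotient.eq_zero_iff_mem.1 h⟩, rfl⟩,
      fun ⟨z, hz⟩ => hz ▸ Ideal.Quotient.eq_zero_iff_mem.2 z.2⟩
  have hinj := EtGlue7.rTensor_injective_of_flat ι π hex Ideal.Quotient.mk_surjective Subtype.val_injective (A ⧸ I)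
  have h1 : (⟨x, hxJ⟩ : ↥(J.restrictScalars A)) ⊗ₜ[A] (1 : A ⧸ I) = 0 := hinj (by
    rw [map_zero, LinearMap.rTensor_tmul]
    exact (hz _).2 (by rw [Ideal.smul_top_eq_map]; exact hxI))
  have h2 := Submodule.mem_map_of_mem (f := ι) ((hz _).1 h1)
  rw [Submodule.map_smul'', Submodule.map_subtype_top] at h2
  refine (Submodule.smul_le.2 fun a ha y hy => ?_ : I • J.restrictScalars A ≤
    (I.map (algebraMap A R) * J).restrictScalars A) h2
  rw [Submodule.restrictScalars_mem, Algebra.smul_def]
  exact Ideal.mul_mem_mul (Ideal.mem_map_of_mem _ ha) hy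


/-- Let A' be an Artinian local ring, I a proper ideal of A', A = A'/I, R' a Noetherian A'-algebra flat
over A' and R = R'/IR'. Let f₁, …, f_r ∈ R be a Koszul-regular sequence (its Koszul complex is
acyclic in nonzero degrees) such that R/(f₁, …, f_r) is flat over A. Then: (1) for every choice of
lifts f'₁, …, f'_r ∈ R' of the f_i, the quotient R'/(f'₁, …, f'_r) is flat over A' and f'₁, …, f'_r
is a Koszul-regular sequence in R'; (2) if J' ⊆ R' is an ideal with R'/J' flat over A' whose image
in R is the ideal (f₁, …, f_r), then J' is generated by any lifts f'₁, …, f'_r ∈ J' of the f_i. (The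
published statement takes R' = R₀ ⊗_Λ A' for a flat Λ-algebra R₀ and a surjection A' → A of Artinian
local Λ-algebras; this row assumes only that R' is Noetherian and flat over A' and that I is a
proper ideal, which is what its proof uses. Regularity of a sequence is taken there in every
localization at a prime containing the ideal it generates, which over a Noetherian ring is the
Koszul-acyclicity used in the proof and stated here.) -/
theorem result
    {A' : Type u} [CommRing A'] [IsLocalRing A'] [IsArtinianRing A'] (I : Ideal A') (hI : I ≠ ⊤)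
    {R' : Type u} [CommRing R'] [Algebra A' R'] [IsNoetherianRing R'] [Module.Flat A' R']
    (r : ℕ) (f : Fin r → R' ⧸ I.map (algebraMap A' R'))
    (hf : LCI.IsKoszulRegularSeq (R' ⧸ I.map (algebraMap A' R')) (List.ofFn f))
    [Module.Flat (A' ⧸ I) ((R' ⧸ I.map (algebraMap A' R')) ⧸ Ideal.span (Set.range f))] :
    (∀ f' : Fin r → R', (∀ i, Ideal.Quotient.mk (I.map (algebraMap A' R')) (f' i) = f i) →
        Module.Flat A' (R' ⧸ Ideal.span (Set.range f')) ∧ LCI.IsKoszulRegularSeq R' (List.ofFn f')) ∧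
    (∀ (J' : Ideal R'), Module.Flat A' (R' ⧸ J') →
        J'.map (Ideal.Quotient.mk (I.map (algebraMap A' R'))) = Ideal.span (Set.range f) →
        ∀ f' : Fin r → R', (∀ i, f' i ∈ J') →
          (∀ i, Ideal.Quotient.mk (I.map (algebraMap A' R')) (f' i) = f i) →
          J' = Ideal.span (Set.range f')) := by
  obtain ⟨N, hN⟩ := (isArtinianRing_iff_isNilpotent_maximalIdeal A').1 inferInstance
  have hIN : I ^ (N + 1) = ⊥ := by
    rw [eq_bot_iff]
    refine (Ideal.pow_right_mono (IsLocalRing.le_maximalIdeal hI) _).trans ?_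
    rw [pow_succ, hN, zero_mul]
    rfl
  let IR := I.map (algebraMap A' R')
  have main : ∀ f' : Fin r → R', (∀ i, Ideal.Quotient.mk IR (f' i) = f i) →
      Module.Flat A' (R' ⧸ Ideal.span (Set.range f')) ∧ LCI.IsKoszulRegularSeq R' (List.ofFn f') := by
    intro f' hf'
    refine (of_nilpotent N A' R' I hIN f' ⟨?_, ?_⟩).symm
    · rw [show (fun i => Ideal.Quotient.mk IR (f' i)) = f from funext hf']
      exact Groth.Agent.WiebeLib.isExact_of_isKoszulRegularSeq f hf
    · have hspan : Ideal.span (Set.range f) = (Ideal.span (Set.range f')).map (Ideal.Quotient.mk IR) := by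
        rw [Ideal.map_span, ← Set.range_comp]
        exact congrArg (fun g => Ideal.span (Set.range g)) (funext fun i => (hf' i).symm)
      let e : ((R' ⧸ IR) ⧸ Ideal.span (Set.range f)) ≃+* R' ⧸ (IR ⊔ Ideal.span (Set.range f')) :=
        (Ideal.quotEquivOfEq hspan).trans (DoubleQuot.quotQuotEquivQuotSup IR (Ideal.span (Set.range f')))
      have hc : Ideal.quotientMap (IR ⊔ Ideal.span (Set.range f')) (algebraMap A' R')
          (Ideal.map_le_iff_le_comap.1 le_sup_left) =
          e.toRingHom.comp (algebraMap (A' ⧸ I) ((R' ⧸ IR) ⧸ Ideal.span (Set.range f))) :=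
        Ideal.Quotient.ringHom_ext (RingHom.ext fun a => rfl)
      rw [hc]
      exact RingHom.Flat.comp (RingHom.flat_algebraMap_iff.2 inferInstance) (RingHom.Flat.of_bijective e.bijective)
  refine ⟨main, fun J' hJ' hmapJ f' hmem hf' => ?_⟩
  haveI := hJ'
  have hS : Ideal.span (Set.range f') ≤ J' := Ideal.span_le.2 (Set.range_subset_iff.2 hmem)
  have hstep : J' ≤ Ideal.span (Set.range f') ⊔ IR * J' := by
    intro x hx
    have h1 : Ideal.Quotient.mk IR x ∈ (Ideal.span (Set.range f')).map (Ideal.Quotient.mk IR) := by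
      rw [Ideal.map_span, ← Set.range_comp]
      rw [show (Ideal.Quotient.mk IR : R' → _) ∘ f' = f from funext hf', ← hmapJ]
      exact Ideal.mem_map_of_mem _ hx
    rw [Ideal.mem_quotient_iff_mem_sup] at h1
    obtain ⟨a, ha, b, hb, rfl⟩ := Submodule.mem_sup.1 h1
    refine Submodule.add_mem_sup ha (inf_le_mul_of_flat I J' ⟨?_, hb⟩)
    have := sub_mem hx (hS ha)
    rwa [add_sub_cancel_left] at this
  have hiter : ∀ k : ℕ, J' ≤ Ideal.span (Set.range f') ⊔ IR ^ k * J' := by
    intro k
    induction k with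
    | zero => rw [pow_zero, Ideal.one_eq_top, Ideal.top_mul]; exact le_sup_right
    | succ k ih =>
      refine ih.trans (sup_le le_sup_left ?_)
      refine (Ideal.mul_mono_right hstep).trans ?_
      rw [Ideal.mul_sup, ← mul_assoc, ← pow_succ]
      exact sup_le_sup_right Ideal.mul_le_right _
  refine le_antisymm ?_ hS
  have hlast := hiter (N + 1)
  rwa [← Ideal.map_pow, hIN, Ideal.map_bot, Ideal.bot_mul, sup_bot_eq] at hlast


end Groth.Agent.S13972
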