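import Groth.Statements.S13978
import Groth.Agent.ArtFunLib.Basic

set_option autoImplicit false
universe u v
open CategoryTheory
open scoped TensorProduct
open ArtFun ArtFun.ObsTheory

namespace Groth.Agent.S13978

/-- For obstruction theories of functors in the vector-space form, let k be a field, F a functor on
Artinian local k-algebras with residue field k and (V, ω) an obstruction theory for F — for each
surjection p : C' → C whose kernel J is killed by the maximal ideal and each u ∈ F(C) an obstruction
ω(p, u) ∈ V ⊗_k J, zero exactly when u lifts, and compatible with replacing C' → C by C'/K → C for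
ideals K ≤ J. Let Ω ⊆ V be the subspace spanned by the obstructions along tiny extensions (those p
whose kernel is one-dimensional), transported into V by the isomorphisms V ⊗ J ≅ V coming from
linear isomorphisms J ≅ k. Then for every p and u the obstruction ω(p, u) lies in the image of Ω ⊗_k
J → V ⊗_k J. (The published statement is for deformation categories and obstruction theories
functorial along all morphisms of extensions; this row assumes functoriality along quotients C'/K
only, which is all its proof uses, and no condition on F.) -/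
theorem result {k : Type u} [Field k]
    {F : ArtFun.Art k k ⥤ Type v} {V : Type u} [AddCommGroup V] [Module k V]
    (T : ArtFun.ObsTheory F V) {C' C : ArtFun.Art k k} (p : C' ⟶ C) (hp : ArtFun.Art.IsSemismallExt p)
    (u : F.obj C) :
    T.obs p hp u ∈ LinearMap.range (LinearMap.rTensor (↥(RingHom.ker p.toAlgHom))
      (Submodule.span k {v : V | ∃ (B' B : ArtFun.Art k k) (t : B' ⟶ B) (ht : ArtFun.Art.IsSmallExt t)
          (w : F.obj B) (φ : ↥(RingHom.ker t.toAlgHom) ≃ₗ[k] k),
          v = TensorProduct.rid k V (LinearMap.lTensor V φ.toLinearMap (T.obs t ht.isSemismallExt w))}).subtype) := by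
  classical
  haveI := Groth.Agent.ArtFunLib.isNoetherian_base C'
  haveI : Module.Finite k ↥(RingHom.ker p.toAlgHom) :=
    Module.Finite.of_injective ((RingHom.ker p.toAlgHom).restrictScalars k).subtype Subtype.val_injective
  let J := RingHom.ker p.toAlgHom
  let b := Module.finBasis k ↥J
  let t := T.obs p hp u
  let Ω := Submodule.span k {v : V | ∃ (B' B : ArtFun.Art k k) (t : B' ⟶ B) (ht : ArtFun.Art.IsSmallExt t)
          (w : F.obj B) (φ : ↥(RingHom.ker t.toAlgHom) ≃ₗ[k] k),
          v = TensorProduct.rid k V (LinearMap.lTensor V φ.toLinearMap (T.obs t ht.isSemismallExt w))}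
  have hsum : ∀ s : V ⊗[k] ↥J, s = ∑ i, (TensorProduct.rid k V (LinearMap.lTensor V (b.coord i) s)) ⊗ₜ[k] b i := by
    intro s
    induction s using TensorProduct.induction_on with
    | zero => simp
    | tmul v n =>
      simp only [LinearMap.lTensor_tmul, TensorProduct.rid_tmul, TensorProduct.smul_tmul]
      conv_lhs => rw [← b.sum_repr n, TensorProduct.tmul_sum]
      exact Finset.sum_congr rfl fun j _ => rfl
    | add x y hx hy =>
      simp only [map_add, TensorProduct.add_tmul, Finset.sum_add_distrib]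
      rw [← hx, ← hy]
  have key : ∀ i, TensorProduct.rid k V (LinearMap.lTensor V (b.coord i) t) ∈ Ω := by
    intro i
    have hres : ∀ (a : C') (x : ↥J), (⟨a * x.1, J.mul_mem_left a x.2⟩ : ↥J) = C'.res a • x := by
      intro a x
      refine Subtype.ext ?_
      show a * x.1 = C'.res a • x.1
      rw [Algebra.smul_def, ← sub_eq_zero, ← sub_mul, ← Ideal.mem_bot, ← hp.2]
      refine Ideal.mul_mem_mul ?_ x.2
      rw [ArtFun.Art.mem_maximalIdeal_iff, map_sub, AlgHom.commutes]
      exact sub_self _
    let K : Ideal C' :=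
      { carrier := {z | ∃ h : z ∈ J, b.coord i ⟨z, h⟩ = 0}
        zero_mem' := ⟨zero_mem _, (b.coord i).map_zero⟩
        add_mem' := fun {x y} ⟨hx, hx0⟩ ⟨hy, hy0⟩ => ⟨add_mem hx hy, by
          rw [show (⟨x + y, add_mem hx hy⟩ : ↥J) = ⟨x, hx⟩ + ⟨y, hy⟩ from rfl, map_add, hx0, hy0, add_zero]⟩
        smul_mem' := fun a x ⟨hx, hx0⟩ => ⟨J.mul_mem_left a hx, by
          show b.coord i ⟨a * x, _⟩ = 0
          rw [hres a ⟨x, hx⟩, map_smul, hx0, smul_zero]⟩ }
    have hKJ : K ≤ J := fun x hx => hx.1
    have hKm : K ≤ IsLocalRing.maximalIdeal C' := hKJ.trans (Groth.Agent.ArtFunLib.ker_le_maximalIdeal p)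
    let q := ArtFun.Art.quotFactor hKm p hKJ
    let κ : ↥J →ₗ[k] ↥(RingHom.ker q.toAlgHom) := (ArtFun.Art.kerToQuot hKm p hKJ).restrictScalars k
    have hκ : Function.Surjective κ := fun y => by
      obtain ⟨z, hz⟩ := ArtFun.Art.quotMk_surjective C' K hKm y.1
      have hzJ : z ∈ J := by
        have h1 := RingHom.mem_ker.1 y.2
        rw [← hz] at h1
        exact RingHom.mem_ker.2 h1
      exact ⟨⟨z, hzJ⟩, Subtype.ext hz⟩
    have hκker : LinearMap.ker κ = LinearMap.ker (b.coord i) := by
      ext x
      rw [LinearMap.mem_ker, LinearMap.mem_ker]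
      constructor
      · intro h
        exact (Ideal.Quotient.eq_zero_iff_mem.1 (congrArg Subtype.val h) : x.1 ∈ K).2
      · intro h
        exact Subtype.ext (Ideal.Quotient.eq_zero_iff_mem.2 (show x.1 ∈ K from ⟨x.2, h⟩))
    let e : (↥J ⧸ LinearMap.ker κ) ≃ₗ[k] ↥(RingHom.ker q.toAlgHom) := κ.quotKerEquivOfSurjective hκ
    have hcoord : Function.Surjective (b.coord i) := fun c =>
      ⟨c • b i, by rw [map_smul]; simp [Module.Basis.coord_apply]⟩
    let φ : ↥(RingHom.ker q.toAlgHom) ≃ₗ[k] k := e.symm.trans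
      ((Submodule.quotEquivOfEq _ _ hκker).trans ((b.coord i).quotKerEquivOfSurjective hcoord))
    have hφ : φ.toLinearMap ∘ₗ κ = b.coord i := by
      refine LinearMap.ext fun x => ?_
      have : e.symm (κ x) = Submodule.Quotient.mk x := by
        rw [LinearEquiv.symm_apply_eq]; rfl
      show ((b.coord i).quotKerEquivOfSurjective hcoord) (Submodule.quotEquivOfEq _ _ hκker (e.symm (κ x))) = _
      rw [this]
      rfl
    have hsmall : ArtFun.Art.IsSmallExt q := by
      refine ⟨fun y => ?_, ?_, ?_, ?_⟩
      · obtain ⟨z, hz⟩ := hp.1 y; exact ⟨ArtFun.Art.quotMk C' K hKm z, hz⟩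
      · intro h0
        have h1 : φ.symm 1 = 0 := Subtype.ext ((Ideal.mem_bot).1 (h0.le (φ.symm 1).2))
        exact one_ne_zero ((LinearEquiv.map_eq_zero_iff φ.symm).1 h1)
      · refine ⟨⟨(φ.symm 1).1, le_antisymm (fun y hy => ?_) ?_⟩⟩
        · refine Ideal.mem_span_singleton.2 ⟨algebraMap k _ (φ ⟨y, hy⟩), ?_⟩
          rw [mul_comm, ← Algebra.smul_def]
          have : (⟨y, hy⟩ : ↥(RingHom.ker q.toAlgHom)) = φ ⟨y, hy⟩ • φ.symm 1 := by
            rw [← map_smul, smul_eq_mul, mul_one, LinearEquiv.symm_apply_apply]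
          exact congrArg Subtype.val this
        · exact (Ideal.span_singleton_le_iff_mem _).2 (φ.symm 1).2
      · refine eq_bot_iff.2 (Ideal.mul_le.2 fun x hx y hy => ?_)
        obtain ⟨x, rfl⟩ := ArtFun.Art.quotMk_surjective C' K hKm x
        obtain ⟨y, rfl⟩ := ArtFun.Art.quotMk_surjective C' K hKm y
        have hxy : x * y = 0 := by
          rw [← Ideal.mem_bot, ← hp.2]
          refine Ideal.mul_mem_mul ?_ hy
          rw [ArtFun.Art.mem_maximalIdeal_iff] at hx ⊢
          exact hx
        rw [Ideal.mem_bot]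
        exact ((map_mul (ArtFun.Art.quotMk C' K hKm).toAlgHom x y).symm.trans (congrArg _ hxy)).trans (map_zero _)
    refine Submodule.subset_span ⟨_, _, q, hsmall, u, φ, ?_⟩
    rw [T.obs_quot p hp K hKm hKJ hsmall.isSemismallExt u, ← LinearMap.comp_apply, ← LinearMap.lTensor_comp]
    show _ = TensorProduct.rid k V (LinearMap.lTensor V (φ.toLinearMap ∘ₗ κ) t)
    rw [hφ]
  show t ∈ _
  rw [hsum t]
  refine Submodule.sum_mem _ fun i _ => ⟨(⟨_, key i⟩ : ↥Ω) ⊗ₜ[k] b i, ?_⟩
  exact LinearMap.rTensor_tmul _ _ _ _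

end Groth.Agent.S13978
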