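import Groth.Statements.S13979
import Groth.Agent.DefObs29.ObsTheory

set_option autoImplicit false
universe u
open CategoryTheory CategoryTheory.Limits AlgebraicGeometry
open ArtFun

namespace Groth.Agent.S13979

/-- Let k be a field and X₀ a smooth variety over k (smooth, separated and of finite type over Spec k),
with tangent sheaf T_{X₀} = Hom(Ω_{X₀/k}, O_{X₀}) (the sheaf Hom, assumed to exist as the right
adjoint of tensoring with Ω_{X₀/k}). Then the deformation functor Def_{X₀} (isomorphism classes of
schemes flat over Spec A with closed fibre X₀, A local Artinian with residue field k) has an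
obstruction theory with values in H²(X₀, T_{X₀}): to each surjection C' → C whose kernel J is killed
by the maximal ideal and each deformation over C is attached an element of H²(X₀, T_{X₀}) ⊗_k J,
zero exactly when the deformation lifts to C', compatibly with replacing C' by C'/K for ideals K ≤
J. (The published statement gives the finer functoriality along all morphisms of small extensions
and is for the deformation category; this row records the vector-space obstruction theory for the
functor of isomorphism classes, functorial along quotients C'/K.) -/
theorem result {k : Type u} [Field k]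
    (X₀ : Scheme.{u}) [X₀.Over (Spec (CommRingCat.of k))]
    [Smooth (X₀ ↘ Spec (CommRingCat.of k))] [IsSeparated (X₀ ↘ Spec (CommRingCat.of k))]
    [QuasiCompact (X₀ ↘ Spec (CommRingCat.of k))] [LocallyOfFiniteType (X₀ ↘ Spec (CommRingCat.of k))]
    [DCoh.HasSheafHom (Omega.sheaf (X₀ ↘ Spec (CommRingCat.of k)))] :
    ArtFun.HasObsTheory (ArtFun.defFunctor (Λ := k) X₀ (X₀ ↘ Spec (CommRingCat.of k)))
      (Coh.HH X₀ ((DCoh.sheafHom (Omega.sheaf (X₀ ↘ Spec (CommRingCat.of k)))).obj (Coh.structureModule X₀)) 2) := by
  haveI : X₀.IsSeparated :=
    ⟨by rw [← Subsingleton.elim ((X₀ ↘ Spec (CommRingCat.of k)) ≫ terminal.from _) (terminal.from X₀)]; infer_instance⟩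
  haveI : HasExt.{u} X₀.Modules := IsGrothendieckAbelian.hasExt _
  obtain ⟨e⟩ := DefTan29.nonempty_ext_tangentSheaf (k := k) (X := X₀) 2
  exact DefObs29.hasObsTheory k X₀ e

end Groth.Agent.S13979
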