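import Groth.Statements.S13981
import Groth.Agent.ArtFunLib.CompleteLift

set_option autoImplicit false
universe u v
open CategoryTheory
open ArtFun

namespace Groth.Agent.S13981

/-- Let F be a functor on Artinian local Λ-algebras with residue field k (Λ Noetherian, Λ → k finite and
surjective) satisfying (RS) — the comparison map for A₁ ×_A A₂ is bijective whenever A₂ → A is
surjective — and let ξ be a versal family of F over a complete local Noetherian Λ-algebra R with
residue field k. Then the lifting property defining versality also holds along surjections of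
complete local Noetherian algebras: if g : A' → A is such a surjection, η' is a formal element of F
over A' (a compatible system over the truncations A'/m^(n+1)) and φ : R → A is a map under which the
formal element of ξ becomes the pushforward of η' along g, then φ lifts to ψ : R → A' with g ∘ ψ = φ
and with ξ inducing η' along ψ. (The published statement takes Λ complete local Noetherian with
residue field k; its proof does not use completeness of Λ, and this row assumes only Λ Noetherian
with Λ → k surjective.) -/
theorem result {Λ : Type u} {k : Type u} [CommRing Λ] [Field k]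
    [Algebra Λ k] [IsNoetherianRing Λ] [Module.Finite Λ k] (hΛ : Function.Surjective (algebraMap Λ k))
    {F : ArtFun.Art Λ k ⥤ Type v}
    (hRS : ∀ ⦃B A A₁ A₂ : ArtFun.Art Λ k⦄ (p₁ : B ⟶ A₁) (p₂ : B ⟶ A₂) (f₁ : A₁ ⟶ A) (f₂ : A₂ ⟶ A)
        (h : ArtFun.Art.IsFibreProd p₁ p₂ f₁ f₂), Function.Surjective f₂ → Function.Bijective (ArtFun.cmp F h))
    (R : ArtFun.CRing Λ k) (ξ : ArtFun.Family R.carrier R.res F) (hξ : ArtFun.IsVersal ξ)
    (A' A : ArtFun.CRing Λ k) (g : A'.carrier →ₐ[Λ] A.carrier) (hg : A.res.comp g = A'.res)
    (hgs : Function.Surjective g) (η' : ArtFun.FormalElt F A')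
    (φ : R.carrier →ₐ[Λ] A.carrier) (hφ : A.res.comp φ = R.res)
    (hsq : (ξ.along φ hφ).toFormalElt = η'.push g hg) :
    ∃ (ψ : R.carrier →ₐ[Λ] A'.carrier) (hψ : A'.res.comp ψ = R.res),
      g.comp ψ = φ ∧ (ξ.along ψ hψ).toFormalElt = η' := by
  obtain ⟨η, hη⟩ := (Groth.Agent.ArtFunLib.bijective_toFormalElt A' F).2 η'
  obtain ⟨ψ, hψ, h₁, h₂⟩ := Groth.Agent.ArtFunLib.CompleteLift.exists_lift hRS R ξ hξ A' A g hg hgs η φ hφ
    ((Groth.Agent.ArtFunLib.bijective_toFormalElt A F).1 (by
      show (ξ.along φ hφ).toFormalElt = (η.along g hg).toFormalElt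
      rw [Groth.Agent.ArtFunLib.Minimal2.toFormalElt_along η g hg, hsq, ← hη]))
  exact ⟨ψ, hψ, h₁, by rw [h₂]; exact hη⟩

end Groth.Agent.S13981
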