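import Groth.Statements.S13985
import Mathlib.Tactic

set_option autoImplicit false
universe u
open CategoryTheory
open CohGab

namespace Groth.Agent.S13985

/-- For a ring A, the canonical map from the centre of A to the centre of the category of finitely
generated left A-modules (the endomorphism ring of its identity functor), sending a to
multiplication by a, is bijective: every natural endomorphism of the identity functor acts on each
finitely generated module as multiplication by a unique element of A, and that element is central.
(The published statement calls this map an isomorphism of commutative rings; this row states its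
bijectivity.) -/
theorem result (A : Type u) [Ring A]
    (φ : 𝟭 (FGModuleCat.{u} A) ⟶ 𝟭 (FGModuleCat.{u} A)) :
    ∃! a : A, a ∈ Subring.center A ∧
      ∀ (M : FGModuleCat.{u} A) (x : M), (φ.app M).hom.hom x = a • x := by
  let R := FGModuleCat.of A A
  let a : A := (φ.app R).hom.hom (show (R : Type u) from (1 : A))
  have key : ∀ (M : FGModuleCat.{u} A) (x : M), (φ.app M).hom.hom x = a • x := fun M x => by
    let g : R ⟶ M := FGModuleCat.ofHom (LinearMap.toSpanSingleton A M x)
    have h := congr($(φ.naturality g).hom.hom (1 : A))
    have e : g.hom.hom (1 : A) = x := one_smul A x
    refine (congrArg (φ.app M).hom.hom e).symm.trans (h.trans ?_)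
    rfl
  refine ⟨a, ⟨Subring.mem_center_iff.2 fun b => ?_, key⟩, fun b hb => ?_⟩
  · let one : R := (show A from 1)
    have h1 : (φ.app R).hom.hom (b • one) = b • (φ.app R).hom.hom one := map_smul _ b one
    have h2 : (φ.app R).hom.hom (b • one) = a • (b • one) := key R _
    have h3 : b * a = a * (b * 1) := h1.symm.trans h2
    simpa using h3
  · have h : a = b * 1 := hb.2 R (show A from 1)
    simpa using h.symm

end Groth.Agent.S13985
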