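import Groth.Statements.S13986
import Groth.Agent.QCoh.DevissageTheta
import Groth.Agent.QCoh.AnnIdeal

set_option autoImplicit false
universe u
open CategoryTheory AlgebraicGeometry
open CohGab

namespace Groth.Agent.S13986
set_option backward.isDefEq.respectTransparency false
set_option backward.isDefEq.respectTransparency.types false
open CategoryTheory CategoryTheory.Limits AlgebraicGeometry TopologicalSpace
namespace Aux
theorem se_id_zero {X : Scheme.{u}} (F : X.Modules) {M : X.Modules} (hM : IsZero M) :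
    (ShortComplex.mk (𝟙 F) (0 : F ⟶ M) (hM.eq_of_tgt _ _)).ShortExact :=
  { exact := (ShortComplex.exact_iff_epi _ rfl).2 (inferInstanceAs (Epi (𝟙 F)))
    mono_f := inferInstanceAs (Mono (𝟙 F))
    epi_g := ⟨fun _ _ _ => hM.eq_of_src _ _⟩ }

theorem se_zero_iso {X : Scheme.{u}} {M N : X.Modules} (e : M ≅ N) {Z : X.Modules} (hZ : IsZero Z) :
    (ShortComplex.mk (0 : Z ⟶ N) e.inv zero_comp).ShortExact :=
  { exact := (ShortComplex.exact_iff_mono _ rfl).2 (inferInstanceAs (Mono e.inv))
    mono_f := ⟨fun _ _ _ => hZ.eq_of_tgt _ _⟩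
    epi_g := inferInstanceAs (Epi e.inv) }

theorem unit_closed {X Z : Scheme.{u}} [IsNoetherian X] (i : Z ⟶ X) [IsClosedImmersion i] {F : X.Modules} (hF : Coh.IsCoh F) :
    Coh.IsCoh ((Scheme.Modules.pushforward i).obj ((Scheme.Modules.pullback i).obj F)) ∧
      Epi ((Scheme.Modules.pullbackPushforwardAdjunction i).unit.app F) := by
  let u := (Scheme.Modules.pullbackPushforwardAdjunction i).unit.app F
  have hN := QCoh.isQCoh_pushforward i (QCoh.isQCoh_pullback i hF.1)
  have hu : Epi u := by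
    refine Preadditive.epi_of_cokernel_zero (IsZero.eq_of_tgt (QCoh.isZero_of_app_eq_zero
      (QCoh.isQCoh_cokernel hF.1 hN u) fun V x => ?_) _ _)
    obtain ⟨y, rfl⟩ := QCoh.app_surjective_of_epi hN (QCoh.isQCoh_cokernel hF.1 hN u) (cokernel.π u) V.2 x
    obtain ⟨a, rfl⟩ := (QCoh.unit_app_closed i hF.1 V.2).1 y
    exact congr(($(cokernel.condition u)).app V.1 a)
  haveI := hu
  exact ⟨QCoh.isCoh_of_epi u hF hN, hu⟩

theorem mem_support_push {X Z : Scheme.{u}} (i : Z ⟶ X) [IsClosedImmersion i] {N : Z.Modules} (hN : Coh.IsQCoh N)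
    {z : Z} (hz : z ∈ CohB1.support N) :
    i z ∈ CohB1.support ((Scheme.Modules.pushforward i).obj N) := by
  obtain ⟨U, hU, hzU⟩ := QCoh.exists_affine_mem (i z)
  obtain ⟨y, hy⟩ := (QCoh.mem_support_iff hN (hU.preimage i) (show z ∈ i ⁻¹ᵁ U from hzU)).1 hz
  refine (QCoh.mem_support_iff (QCoh.isQCoh_pushforward i hN) hU hzU).2 ⟨y, fun f hf h0 => hy (i.app U f) ?_ ?_⟩
  · rw [← Scheme.preimage_basicOpen]
    exact hf
  · exact (QCoh.pushforward_smul i U f y).symm.trans h0
end Aux

/-- Let X be a Noetherian scheme and F, E coherent O_X-modules. Then E lies in the smallest Serre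
subcategory of Coh(X) containing F — that is, E has every property P of O_X-modules such that P
holds for F and P is a Serre class on coherent modules (for a short exact sequence of coherent
modules the middle term has P iff both outer terms do) — if and only if Supp(E) ⊆ Supp(F).
Equivalently: for a closed subset Z, the coherent modules supported in Z form the Serre subcategory
generated by any coherent module whose support is exactly Z. (The published statement is about
coherent sheaves twisted by a class in the second etale cohomology group of the units of the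
structure sheaf; this row is its case of the trivial class, ordinary coherent sheaves.) -/
theorem result (X : Scheme.{u}) [IsNoetherian X]
    (F E : X.Modules) (hF : Coh.IsCoh F) (hE : Coh.IsCoh E) :
    (∀ P : ObjectProperty X.Modules, P F →
      (∀ S : ShortComplex X.Modules, S.ShortExact → Coh.IsCoh S.X₁ → Coh.IsCoh S.X₂ →
        Coh.IsCoh S.X₃ → (P S.X₂ ↔ P S.X₁ ∧ P S.X₃)) → P E) ↔
    CohB1.support E ⊆ CohB1.support F := by
  haveI := QCoh.hasFiniteBiproducts
  constructor
  · intro h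
    refine (h (fun M => Coh.IsCoh M → CohB1.support M ⊆ CohB1.support F) (fun _ => le_rfl) ?_) hE
    intro S hS h1 h2 h3
    refine ⟨fun H => ⟨fun _ => ?_, fun _ => ?_⟩, fun H _ => ?_⟩
    · haveI := hS.mono_f
      exact (QCoh.mem_support_of_mono h1.1 h2.1 S.f).trans (H h2)
    · haveI := hS.epi_g
      exact (QCoh.support_of_epi h2.1 h3.1 S.g).trans (H h2)
    · exact (QCoh.support_subset_union hS h1.1 h2.1 h3.1).trans (Set.union_subset (H.1 h1) (H.2 h3))
  intro hsupp P hF' hP
  let Q : X.Modules → Prop := fun M => Coh.IsCoh M → P M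
  have h0 : ∀ M : X.Modules, IsZero M → Q M := fun M hM hc =>
    ((hP (ShortComplex.mk (𝟙 F) (0 : F ⟶ M) (hM.eq_of_tgt _ _)) (Aux.se_id_zero F hM) hF hF hc).1 hF').2
  have hiso : ∀ M N : X.Modules, Nonempty (M ≅ N) → Q M → Q N := fun M N ⟨e⟩ hM hN => by
    have hM' : Coh.IsCoh M := QCoh.isCoh_of_mono e.hom hN ((QCoh.isQCoh_iff_iso e).2 hN.1)
    have hz : IsZero (kernel (𝟙 M)) := isZero_kernel_of_mono _
    have hzc : Coh.IsCoh (kernel (𝟙 M)) := QCoh.isCoh_isZero hz hM'
    exact (hP (ShortComplex.mk (0 : kernel (𝟙 M) ⟶ N) e.inv zero_comp)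
      (Aux.se_zero_iso e hz) hzc hN hM').2 ⟨h0 _ hz hzc, hM hM'⟩
  refine QCoh.devissage Q hiso h0 (CohB1.support F) (fun S hS h1 h2 h3 _ p1 p3 _ => (hP S hS h1 h2 h3).2 ⟨p1 h1, p3 h3⟩)
    (fun ξ hξF hsmall Z i _ _ hr => ?_) (fun S hS h1 h2 h3 _ p2 _ _ => ((hP S hS h1 h2 h3).1 (p2 h2)).1) hE hsupp hE
  have hη : i (genericPoint Z) = ξ := (inseparable_iff_closure_eq.2 ((QCoh.range_eq_closure i).symm.trans hr)).eq
  let N := (Scheme.Modules.pullback i).obj F
  let u := (Scheme.Modules.pullbackPushforwardAdjunction i).unit.app F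
  obtain ⟨hG, hu⟩ := Aux.unit_closed i hF
  haveI := hu
  have hker : Coh.IsCoh (kernel u) := QCoh.isCoh_kernel hF hG u
  have hPG : Q ((Scheme.Modules.pushforward i).obj N) := fun hc =>
    ((hP (ShortComplex.mk (kernel.ι u) u (kernel.condition u))
      { exact := ShortComplex.exact_kernel u, mono_f := inferInstance, epi_g := hu } hker hF hc).1 hF').2
  have hNq : Coh.IsQCoh N := QCoh.isQCoh_pullback i hF.1
  have hGs : CohB1.support ((Scheme.Modules.pushforward i).obj N) ⊆ closure {ξ} :=
    (QCoh.support_push_subset i hNq).trans hr.le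
  have hξG : ξ ∈ CohB1.support ((Scheme.Modules.pushforward i).obj N) := by
    have hN : genericPoint Z ∈ CohB1.support N := by
      rw [QCoh.support_pullback i hF.1 hF.2]
      exact (hη ▸ hξF (subset_closure rfl) : i (genericPoint Z) ∈ CohB1.support F)
    exact hη ▸ Aux.mem_support_push i hNq hN
  have hkill : ∀ (V : X.affineOpens) (a : Γ(X, V.1)), ξ ∉ X.basicOpen a →
      ∀ m : Γ((Scheme.Modules.pushforward i).obj N, V.1), a • m = 0 := by
    intro V a ha m
    refine (QCoh.pushforward_smul i V.1 a m).trans ?_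
    have h0 : i.app V.1 a = 0 := by
      by_contra h
      have := (QCoh.ne_zero_iff_mem_basicOpen (i.app V.1 a)).1 h
      rw [← Scheme.preimage_basicOpen] at this
      exact ha (hη ▸ this)
    rw [h0]
    exact zero_smul Γ(Z, i ⁻¹ᵁ V.1) (show Γ(N, i ⁻¹ᵁ V.1) from m)
  obtain ⟨r, hr0, hsum⟩ := QCoh.exists_sum_structure Q ξ (fun S hS h1 h2 h3 _ =>
      ⟨fun _ p2 _ => ((hP S hS h1 h2 h3).1 (p2 h2)).2, fun p1 p3 _ => (hP S hS h1 h2 h3).2 ⟨p1 h1, p3 h3⟩,
        fun p2 _ _ => ((hP S hS h1 h2 h3).1 (p2 h2)).1⟩)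
    hsmall hG hGs hξG hkill hPG i hr
  intro hA
  let T := fun _ : ULift.{u} (Fin r) => (Coh.push i).obj (Coh.structureModule Z)
  have hT : Coh.IsCoh (⨁ T) := QCoh.isCoh_biproduct T fun _ => hA
  let k := biproduct.ι T ⟨⟨0, hr0⟩⟩
  exact ((hP (ShortComplex.mk k (cokernel.π k) (cokernel.condition k))
    (.mk' (ShortComplex.exact_of_g_is_cokernel _ (cokernelIsCokernel k)) inferInstance inferInstance)
    hA hT (QCoh.isCoh_cokernel hA.1 hT k)).1 (hsum hT)).1

end Groth.Agent.S13986
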