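import Groth.Statements.S13988
import Groth.Agent.QCoh.Support
import Groth.Agent.QCoh.DevissageP
import Groth.Agent.QCoh.Qcqs
import Groth.Agent.KZ.OpenExt
import Groth.Agent.H9Misc.SerreExtCriterion
import Groth.Agent.H23.ModLoc
-- import your own Groth.Agent.* helpers here

set_option autoImplicit false
universe u
open CategoryTheory AlgebraicGeometry
open CohGab

set_option backward.isDefEq.respectTransparency false
set_option backward.isDefEq.respectTransparency.types false
set_option linter.style.haveILetI false

namespace Groth.Agent.S13988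

open AlgebraicGeometry CategoryTheory CategoryTheory.Limits TopologicalSpace Opposite

/-- A section killed by a morphism of modules is a section of the kernel. -/
theorem exists_kernel_app {X : Scheme.{u}} {A B : X.Modules} (f : A ⟶ B) (U : X.Opens) (a : Γ(A, U))
    (ha : f.app U a = 0) : ∃ b, (kernel.ι f).app U b = a := by
  let F := Scheme.Modules.toPresheaf X ⋙ (evaluation _ AddCommGrpCat.{u}).obj (op U)
  haveI : PreservesLimits F := @comp_preservesLimits _ _ _ _ _ _ (Scheme.Modules.toPresheaf X) _ inferInstance (evaluationPreservesLimits _)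
  haveI : PreservesBinaryBiproducts F := preservesBinaryBiproducts_of_preservesBinaryProducts F
  haveI : F.Additive := Functor.additive_of_preservesBinaryBiproducts F
  let S := ShortComplex.mk (kernel.ι f) f (kernel.condition f)
  have hS : (S.map F).Exact :=
    (ShortComplex.exact_kernel f).map_of_mono_of_preservesKernel F (inferInstance : Mono (kernel.ι f)) inferInstance
  exact (ShortComplex.ab_exact_iff _).1 hS a ha

/-- A morphism out of the structure sheaf given by a global section, on the unit section. -/
theorem secHom_app_one {X : Scheme.{u}} (P : X.Modules) (q : Γ(P, ⊤)) (U : X.Opens) :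
    (H9Misc.SerreExtCriterion.secHom q).app U (show Γ(Coh.structureModule X, U) from (1 : Γ(X, U))) =
      P.presheaf.map (homOfLE (le_top : U ≤ ⊤)).op q := by
  refine (SheafOfModules.unitHomEquiv_apply_coe P (H9Misc.SerreExtCriterion.secHom q) (op U)).symm.trans ?_
  rw [H9Misc.SerreExtCriterion.secHom, Equiv.apply_symm_apply]

/-- On sections over an open the transformation is multiplication. -/
theorem app_eq_smul {X : Scheme.{u}} [AlgebraicGeometry.IsNoetherian X]
    (φ : 𝟭 (ObjectProperty.FullSubcategory (fun M : X.Modules => Coh.IsCoh M)) ⟶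
      𝟭 (ObjectProperty.FullSubcategory (fun M : X.Modules => Coh.IsCoh M)))
    (M : ObjectProperty.FullSubcategory (fun M : X.Modules => Coh.IsCoh M)) (U : X.Opens) (s : Γ(M.obj, U)) :
    (φ.app M).hom.app U s = X.presheaf.map (homOfLE (le_top : U ≤ ⊤)).op
      (H23.ModLoc.coeff (φ.app ⟨Coh.structureModule X, QCoh.isCoh_structureModule'⟩).hom) • s := by
  let O : ObjectProperty.FullSubcategory (fun M : X.Modules => Coh.IsCoh M) :=
    ⟨Coh.structureModule X, QCoh.isCoh_structureModule'⟩
  let P : X.Modules := (Scheme.Modules.pushforward U.ι).obj ((Scheme.Modules.restrictFunctor U.ι).obj M.obj)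
  let η : M.obj ⟶ P := (Scheme.Modules.restrictAdjunction U.ι).unit.app M.obj
  have hle : U.ι ''ᵁ (U.ι ⁻¹ᵁ ⊤) ≤ U := by
    rw [U.ι.image_preimage_eq_opensRange_inf, Scheme.Opens.opensRange_ι]
    exact inf_le_left
  let q : Γ(P, ⊤) := M.obj.presheaf.map (homOfLE hle).op s
  let σ : Coh.structureModule X ⟶ P := H9Misc.SerreExtCriterion.secHom q
  haveI : NoetherianSpace (U : Scheme.{u}) := U.ι.isOpenEmbedding.isInducing.noetherianSpace
  haveI : QuasiCompact U.ι := quasiCompact_of_noetherianSpace_source U.ι
  have hP : Coh.IsQCoh P := QCoh.isQCoh_pushforward U.ι (QCoh.isQCoh_restrict U.ι M.property.1)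
  let β : Coh.structureModule X ⊞ M.obj ⟶ P := biprod.desc σ (-η)
  have hAB : Coh.IsCoh (Coh.structureModule X ⊞ M.obj) :=
    KZ.isCoh_biprod QCoh.isCoh_structureModule' M.property
  let N : ObjectProperty.FullSubcategory (fun M : X.Modules => Coh.IsCoh M) :=
    ⟨kernel β, QCoh.isCoh_of_mono (kernel.ι β) hAB (QCoh.isQCoh_kernel hAB.1 hP β)⟩
  let one : Γ(Coh.structureModule X, U) := (show Γ(X, U) from 1)
  have hη : ∀ t : Γ(M.obj, U), η.app U t = M.obj.presheaf.map (homOfLE (U.ι.image_preimage_le U)).op t :=
    fun t => congr($(Scheme.Modules.restrictAdjunction_unit_app_app U.ι M.obj U) t)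
  have hσ : σ.app U one = η.app U s := by
    refine (secHom_app_one P q U).trans (Eq.trans ?_ (hη s).symm)
    show M.obj.presheaf.map ((Opens.map U.ι.base).map (homOfLE (le_top : U ≤ ⊤)) |> U.ι.opensFunctor.map).op
      (M.obj.presheaf.map (homOfLE hle).op s) = _
    rw [← ConcreteCategory.comp_apply, ← M.obj.presheaf.map_comp]
    rfl
  let z : Γ(Coh.structureModule X ⊞ M.obj, U) :=
    (biprod.inl : Coh.structureModule X ⟶ Coh.structureModule X ⊞ M.obj).app U one +
      (biprod.inr : M.obj ⟶ Coh.structureModule X ⊞ M.obj).app U s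
  have hz : β.app U z = 0 := by
    rw [map_add]
    show (biprod.inl ≫ β).app U one + (biprod.inr ≫ β).app U s = 0
    rw [biprod.inl_desc, biprod.inr_desc, hσ]
    exact add_neg_cancel _
  obtain ⟨y, hy⟩ := exists_kernel_app β U z hz
  let p1 : N ⟶ O := ObjectProperty.homMk (kernel.ι β ≫ biprod.fst)
  let p2 : N ⟶ M := ObjectProperty.homMk (kernel.ι β ≫ biprod.snd)
  have hp1 : p1.hom.app U y = one := by
    show (biprod.fst : Coh.structureModule X ⊞ M.obj ⟶ Coh.structureModule X).app U ((kernel.ι β).app U y) = one
    rw [hy, map_add]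
    show ((biprod.inl : Coh.structureModule X ⟶ Coh.structureModule X ⊞ M.obj) ≫ (biprod.fst : Coh.structureModule X ⊞ M.obj ⟶ Coh.structureModule X)).app U one + ((biprod.inr : M.obj ⟶ Coh.structureModule X ⊞ M.obj) ≫ (biprod.fst : Coh.structureModule X ⊞ M.obj ⟶ Coh.structureModule X)).app U s = one
    rw [biprod.inl_fst, biprod.inr_fst]
    exact add_zero _
  have hp2 : p2.hom.app U y = s := by
    show (biprod.snd : Coh.structureModule X ⊞ M.obj ⟶ M.obj).app U ((kernel.ι β).app U y) = s
    rw [hy, map_add]
    show ((biprod.inl : Coh.structureModule X ⟶ Coh.structureModule X ⊞ M.obj) ≫ (biprod.snd : Coh.structureModule X ⊞ M.obj ⟶ M.obj)).app U one + ((biprod.inr : M.obj ⟶ Coh.structureModule X ⊞ M.obj) ≫ (biprod.snd : Coh.structureModule X ⊞ M.obj ⟶ M.obj)).app U s = s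
    rw [biprod.inl_snd, biprod.inr_snd]
    exact zero_add _
  set y' := (φ.app N).hom.app U y
  have n1 : p1.hom.app U y' = (φ.app O).hom.app U one := by
    rw [← hp1]
    exact congr(($(φ.naturality p1).hom).app U y).symm
  have n2 : p2.hom.app U y' = (φ.app M).hom.app U s := by
    rw [← hp2]
    exact congr(($(φ.naturality p2).hom).app U y).symm
  have hrel : σ.app U ((φ.app O).hom.app U one) = η.app U ((φ.app M).hom.app U s) := by
    have h1 : kernel.ι β ≫ β = (kernel.ι β ≫ biprod.fst) ≫ σ - (kernel.ι β ≫ biprod.snd) ≫ η := by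
      rw [Category.assoc, Category.assoc, ← Preadditive.comp_sub]
      congr 1
      apply biprod.hom_ext' <;> simp [β]
    have h0 : ((kernel.ι β ≫ biprod.fst) ≫ σ - (kernel.ι β ≫ biprod.snd) ≫ η).app U y' = 0 := by
      rw [← h1, kernel.condition]; rfl
    rw [← n1, ← n2]
    exact sub_eq_zero.1 h0
  set r := X.presheaf.map (homOfLE (le_top : U ≤ ⊤)).op (H23.ModLoc.coeff (φ.app O).hom)
  have hO : (φ.app O).hom.app U one = r • one := by
    refine (H23.ModLoc.app_eq_mul (φ.app O).hom U 1).trans ((one_mul _).trans ?_)
    exact (mul_one r).symm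
  rw [hO, Scheme.Modules.Hom.app_smul, hσ, ← Scheme.Modules.Hom.app_smul] at hrel
  rw [hη, hη] at hrel
  have hge : U ≤ U.ι ''ᵁ (U.ι ⁻¹ᵁ U) := by
    rw [U.ι.image_preimage_eq_opensRange_inf, Scheme.Opens.opensRange_ι]
    exact le_inf le_rfl le_rfl
  have key : ∀ t : Γ(M.obj, U), M.obj.presheaf.map (homOfLE hge).op
      (M.obj.presheaf.map (homOfLE (U.ι.image_preimage_le U)).op t) = t := fun t => by
    rw [← ConcreteCategory.comp_apply, ← M.obj.presheaf.map_comp,
      show (homOfLE (U.ι.image_preimage_le U)).op ≫ (homOfLE hge).op = 𝟙 _ from Subsingleton.elim _ _,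
      M.obj.presheaf.map_id]
    rfl
  have h := congrArg (M.obj.presheaf.map (homOfLE hge).op) hrel
  rw [key, key] at h
  exact h.symm

/-- Let X be a Noetherian scheme. The canonical ring map from the global functions Γ(X, O_X) to the
centre of the category of coherent O_X-modules (the endomorphisms of its identity functor), sending
r to multiplication by r, is bijective: for every natural endomorphism φ of the identity functor of
Coh(X) there is a unique global function r such that, for every coherent module M, φ_M is
multiplication by r (compared as maps of the underlying abelian sheaves). (The published result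
builds a ringed space from Coh(X) — irreducible Serre subcategories of finite type, with the centres
of the categories Coh(U) as structure sheaf — and proves it isomorphic to X, for coherent sheaves
twisted by a class in the cohomological Brauer group and with X over a field, a hypothesis its proof
does not use; this row is the ring-theoretic content of that isomorphism on global sections, for the
trivial class; applied to the open subschemes of X it gives the statement on every open.) -/
theorem result (X : Scheme.{u}) [IsNoetherian X]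
    (φ : 𝟭 (ObjectProperty.FullSubcategory (fun M : X.Modules => Coh.IsCoh M)) ⟶ 𝟭 (ObjectProperty.FullSubcategory (fun M : X.Modules => Coh.IsCoh M))) :
    ∃! r : Coh.Γtop X, ∀ M : ObjectProperty.FullSubcategory (fun M : X.Modules => Coh.IsCoh M),
      (SheafOfModules.toSheaf X.ringCatSheaf).map (φ.app M).hom = Coh.smulAb M.obj r := by
  refine ⟨H23.ModLoc.coeff (φ.app ⟨Coh.structureModule X, QCoh.isCoh_structureModule'⟩).hom, fun M => ?_, ?_⟩
  · ext U m
    exact app_eq_smul φ M U.unop m
  · intro r hr
    have h := congr(($(hr ⟨Coh.structureModule X, QCoh.isCoh_structureModule'⟩)).hom.app (op ⊤)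
      (show (X.ringCatSheaf.obj.obj (op ⊤) : Type u) from 1))
    rw [Coh.smulAb_app] at h
    refine ((h.trans ?_)).symm
    show Coh.resTop X (op ⊤) r * 1 = r
    rw [mul_one]
    exact congr($(X.ringCatSheaf.obj.map_id (op ⊤)) r)

end Groth.Agent.S13988
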