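import Groth.Statements.S13989
import Mathlib.CategoryTheory.Localization.CalculusOfFractions.Fractions
import Mathlib.CategoryTheory.Abelian.SerreClass.Localization
-- import your own Groth.Agent.* helpers here

set_option autoImplicit false
universe v u v' u' v'' u''
open CategoryTheory CategoryTheory.Limits
open CohGab

namespace Groth.Agent.S13989

/-- Let A be an abelian category, A' a full abelian subcategory (given as a fully faithful exact functor
i : A' ⥤ A) and J a Serre subcategory of A, with J' = J ∩ A' (the preimage of J under i, a Serre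
subcategory of A'). Assume that every subobject and every quotient object, in A, of an object of A'
which belongs to J belongs to A' (lies in the essential image of i). Then the functor A'/J' ⥤ A/J
induced between the quotient categories is fully faithful: for L : A ⥤ Q and L' : A' ⥤ Q'
localization functors at the morphisms whose kernel and cokernel lie in J, resp. J', every functor Φ
: Q' ⥤ Q with L' ⋙ Φ ≅ i ⋙ L is full and faithful. -/
theorem result
    {A A' : Type u} [Category.{v} A] [Abelian A] [Category.{v} A'] [Abelian A']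
    (i : A' ⥤ A) [i.Full] [i.Faithful] [PreservesFiniteLimits i] [PreservesFiniteColimits i]
    (J : ObjectProperty A) [J.IsSerreClass] [(J.inverseImage i).IsSerreClass]
    (hsub : ∀ (M : A') (N : A) (f : N ⟶ i.obj M), Mono f → J N → i.essImage N)
    (hquot : ∀ (M : A') (N : A) (p : i.obj M ⟶ N), Epi p → J N → i.essImage N)
    {Q : Type u'} [Category.{v'} Q] (L : A ⥤ Q) [L.IsLocalization J.isoModSerre]
    {Q' : Type u''} [Category.{v''} Q'] (L' : A' ⥤ Q') [L'.IsLocalization (J.inverseImage i).isoModSerre]
    (Φ : Q' ⥤ Q) (e : L' ⋙ Φ ≅ i ⋙ L) : Φ.Full ∧ Φ.Faithful := by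
  haveI : i.Additive := Functor.additive_of_preserves_binary_products i
  obtain ⟨hFull, hFaith⟩ : ((∀ a b : A', Function.Surjective (fun φ : L'.obj a ⟶ L'.obj b => Φ.map φ)) ∧
      (∀ a b : A', Function.Injective (fun φ : L'.obj a ⟶ L'.obj b => Φ.map φ))) := by
    refine ⟨fun a b => ?_, fun a b => ?_⟩
    · intro ψ'
      let ψ : L.obj (i.obj a) ⟶ L.obj (i.obj b) := e.inv.app a ≫ ψ' ≫ e.hom.app b
      obtain ⟨r, hr⟩ := CategoryTheory.Localization.exists_rightFraction L J.isoModSerre ψ
      have hLs : IsIso (L.map r.s) := Localization.inverts L J.isoModSerre _ r.hs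
      have hψ : L.map r.s ≫ ψ = L.map r.f := by
        rw [hr, MorphismProperty.RightFraction.map_s_comp_map]
      -- the image of the denominator comes from `A'`
      have hC : J (cokernel r.s) := r.hs.2
      obtain ⟨c, ⟨ec⟩⟩ := hquot a (cokernel r.s) (cokernel.π r.s) inferInstance hC
      let q' : a ⟶ c := i.preimage (cokernel.π r.s ≫ ec.inv)
      have hq' : i.map q' = cokernel.π r.s ≫ ec.inv := i.map_preimage _
      let m : kernel q' ⟶ a := kernel.ι q'
      have hz : r.s ≫ i.map q' = 0 := by rw [hq']; simp
      let ek := PreservesKernel.iso i q'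
      let s₀ : r.X' ⟶ i.obj (kernel q') := kernel.lift (i.map q') r.s hz ≫ ek.inv
      have hs₀ : s₀ ≫ i.map m = r.s := by
        simp only [s₀, m, Category.assoc]
        rw [show ek.inv ≫ i.map (kernel.ι q') = kernel.ι (i.map q') by
          simp [ek, Iso.inv_comp_eq]]
        simp
      have hs₀epi : Epi s₀ := by
        have hex : (ShortComplex.mk r.s (i.map q') hz).Exact := by
          refine (ShortComplex.exact_iff_of_iso (ShortComplex.isoMk (Iso.refl _) (Iso.refl _) ec.symm
            (by simp) (by simp [hq']) :
              ShortComplex.mk r.s (cokernel.π r.s) (cokernel.condition _) ≅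
                ShortComplex.mk r.s (i.map q') hz)).1 ?_
          exact ShortComplex.exact_of_g_is_cokernel _ (cokernelIsCokernel r.s)
        have := hex.epi_kernelLift
        exact epi_comp _ _
      have hmMono : Mono (i.map m) := inferInstance
      have hJc : J (i.obj c) := J.prop_of_iso ec.symm hC
      have hm : (J.inverseImage i).isoModSerre m := by
        rw [ObjectProperty.isoModSerre_iff_of_mono]
        let g : cokernel m ⟶ c := cokernel.desc m q' (kernel.condition q')
        have : Mono g := (ShortComplex.exact_of_f_is_kernel (ShortComplex.mk m q' (kernel.condition q'))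
          (kernelIsKernel q')).mono_cokernelDesc
        exact (J.inverseImage i).prop_of_mono g hJc
      have him : J.isoModSerre (i.map m) := by
        refine ⟨ObjectProperty.monoModSerre_of_mono J _, ?_⟩
        exact J.prop_of_iso (PreservesCokernel.iso i m) hm.2
      have hLim : IsIso (L.map (i.map m)) := Localization.inverts L J.isoModSerre _ him
      have hLs₀ : IsIso (L.map s₀) := by
        have : IsIso (L.map s₀ ≫ L.map (i.map m)) := by rw [← L.map_comp, hs₀]; exact hLs
        exact IsIso.of_isIso_comp_right (L.map s₀) (L.map (i.map m))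
      -- the numerator after killing a subobject in `J`
      let κ : kernel r.s ⟶ i.obj b := kernel.ι r.s ≫ r.f
      have hI : J (Abelian.image κ) := J.prop_of_epi (Abelian.factorThruImage κ) r.hs.1
      obtain ⟨k, ⟨ek'⟩⟩ := hsub b (Abelian.image κ) (Abelian.image.ι κ) inferInstance hI
      let k' : k ⟶ b := i.preimage (ek'.hom ≫ Abelian.image.ι κ)
      have hk' : i.map k' = ek'.hom ≫ Abelian.image.ι κ := i.map_preimage _
      have hk'mono : Mono k' := by
        apply i.mono_of_mono_map
        rw [hk']
        infer_instance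
      let π : b ⟶ cokernel k' := cokernel.π k'
      have hπ : (J.inverseImage i).isoModSerre π := by
        rw [ObjectProperty.isoModSerre_iff_of_epi]
        have hk : (J.inverseImage i) k := J.prop_of_iso ek'.symm hI
        let h := kernel.lift π k' (cokernel.condition k')
        have : Epi h := (ShortComplex.exact_of_g_is_cokernel (ShortComplex.mk k' π (cokernel.condition k'))
          (cokernelIsCokernel k')).epi_kernelLift
        exact (J.inverseImage i).prop_of_epi h hk
      have hLπ' : IsIso (L'.map π) := Localization.inverts L' (J.inverseImage i).isoModSerre _ hπ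
      have hLm' : IsIso (L'.map m) := Localization.inverts L' (J.inverseImage i).isoModSerre _ hm
      have hkill : κ ≫ i.map π = 0 := by
        rw [← Abelian.image.fac κ, Category.assoc]
        have : Abelian.image.ι κ ≫ i.map π = 0 := by
          rw [← cancel_epi ek'.hom, ← Category.assoc, ← hk', ← i.map_comp, cokernel.condition,
            Functor.map_zero, comp_zero]
        rw [this, comp_zero]
      have hk0 : kernel.ι s₀ ≫ r.f ≫ i.map π = 0 := by
        have h1 : kernel.ι s₀ ≫ r.s = 0 :=
          (congrArg (kernel.ι s₀ ≫ ·) hs₀.symm).trans (by simp)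
        rw [← kernel.lift_ι r.s _ h1, Category.assoc]
        have : kernel.ι r.s ≫ r.f ≫ i.map π = 0 := by rw [← Category.assoc]; exact hkill
        rw [this, comp_zero]
      let g₀ := Abelian.epiDesc s₀ (r.f ≫ i.map π) hk0
      have hg₀ : s₀ ≫ g₀ = r.f ≫ i.map π := Abelian.comp_epiDesc _ _ _
      let g' : kernel q' ⟶ cokernel k' := i.preimage g₀
      refine ⟨inv (L'.map m) ≫ L'.map g' ≫ inv (L'.map π), ?_⟩
      have key : L.map (i.map m) ≫ ψ ≫ L.map (i.map π) = L.map (i.map g') := by
        rw [← cancel_epi (L.map s₀), ← Category.assoc, ← L.map_comp, hs₀, ← Category.assoc, hψ,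
          i.map_preimage, ← L.map_comp, ← L.map_comp, hg₀]
      have n1 : Φ.map (L'.map m) ≫ e.hom.app a = e.hom.app (kernel q') ≫ L.map (i.map m) :=
        e.hom.naturality m
      have n2 : Φ.map (L'.map π) ≫ e.hom.app (cokernel k') = e.hom.app b ≫ L.map (i.map π) :=
        e.hom.naturality π
      have n3 : Φ.map (L'.map g') ≫ e.hom.app (cokernel k') = e.hom.app (kernel q') ≫ L.map (i.map g') :=
        e.hom.naturality g'
      have h4 : Φ.map (L'.map m) ≫ ψ' ≫ Φ.map (L'.map π) = Φ.map (L'.map g') := by
        apply (cancel_mono (e.hom.app (cokernel k'))).1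
        rw [Category.assoc, Category.assoc, n2, n3, ← key]
        have : ψ' = e.hom.app a ≫ ψ ≫ e.inv.app b := by simp [ψ]
        rw [this]
        simp only [Category.assoc, Iso.inv_hom_id_app_assoc]
        rw [reassoc_of% n1]
      show Φ.map (inv (L'.map m) ≫ L'.map g' ≫ inv (L'.map π)) = ψ'
      rw [Functor.map_comp, Functor.map_comp, Functor.map_inv, Functor.map_inv, IsIso.inv_comp_eq,
        IsIso.comp_inv_eq, ← h4, Category.assoc]
    · intro φ ψ h
      obtain ⟨r1, h1⟩ := CategoryTheory.Localization.exists_rightFraction L' (J.inverseImage i).isoModSerre φ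
      obtain ⟨r2, h2⟩ := CategoryTheory.Localization.exists_rightFraction L' (J.inverseImage i).isoModSerre
        (L'.map r1.s ≫ ψ)
      let u := r2.s ≫ r1.s
      let f1 := r2.s ≫ r1.f
      have hi : IsIso (L'.map u) := Localization.inverts L' (J.inverseImage i).isoModSerre _
        (MorphismProperty.comp_mem _ _ _ r2.hs r1.hs)
      have e1 : L'.map u ≫ φ = L'.map f1 := by
        rw [h1, L'.map_comp, L'.map_comp, Category.assoc, MorphismProperty.RightFraction.map_s_comp_map]
      have e2 : L'.map u ≫ ψ = L'.map r2.f := by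
        rw [L'.map_comp, Category.assoc, h2, MorphismProperty.RightFraction.map_s_comp_map]
      have h3 : Φ.map (L'.map f1) = Φ.map (L'.map r2.f) := by
        rw [← e1, ← e2, Φ.map_comp, Φ.map_comp]
        exact congrArg (fun x => _ ≫ x) h
      have h4 : L.map (i.map f1) = L.map (i.map r2.f) := by
        apply (cancel_epi (e.hom.app r2.X')).1
        have na : Φ.map (L'.map f1) ≫ e.hom.app b = e.hom.app r2.X' ≫ L.map (i.map f1) := e.hom.naturality f1
        have nb : Φ.map (L'.map r2.f) ≫ e.hom.app b = e.hom.app r2.X' ≫ L.map (i.map r2.f) := e.hom.naturality r2.f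
        rw [← na, ← nb, h3]
      rw [MorphismProperty.map_eq_iff_precomp L J.isoModSerre] at h4
      obtain ⟨Z, t, ht, hte⟩ := h4
      have h5 : J (Abelian.image (i.map (f1 - r2.f))) :=
        (ObjectProperty.exists_isoModSerre_comp_eq_zero_iff J _).1
          ⟨Z, t, ht, by rw [i.map_sub, Preadditive.comp_sub, hte, sub_self]⟩
      have h6 : (J.inverseImage i) (Abelian.image (f1 - r2.f)) := by
        refine J.prop_of_iso ?_ h5
        exact (PreservesKernel.iso i (cokernel.π (f1 - r2.f)) ≪≫
          (kernelCompMono (i.map (cokernel.π (f1 - r2.f))) (PreservesCokernel.iso i (f1 - r2.f)).hom).symm ≪≫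
            kernelIsoOfEq (by rw [← Iso.eq_comp_inv, PreservesCokernel.iso_inv, π_comp_cokernelComparison])).symm
      obtain ⟨Z', t', ht', hte'⟩ :=
        (ObjectProperty.exists_isoModSerre_comp_eq_zero_iff (J.inverseImage i) _).2 h6
      have h7 : L'.map f1 = L'.map r2.f := by
        rw [MorphismProperty.map_eq_iff_precomp L' (J.inverseImage i).isoModSerre]
        exact ⟨Z', t', ht', by rwa [Preadditive.comp_sub, sub_eq_zero] at hte'⟩
      rw [← cancel_epi (L'.map u), e1, e2, h7]
  have := Localization.essSurj L' (J.inverseImage i).isoModSerre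
  refine ⟨⟨fun {X Y} ψ => ?_⟩, ⟨fun {X Y} φ ψ h => ?_⟩⟩
  · obtain ⟨φ, hφ⟩ := hFull (L'.objPreimage X) (L'.objPreimage Y)
      (Φ.map (L'.objObjPreimageIso X).hom ≫ ψ ≫ Φ.map (L'.objObjPreimageIso Y).inv)
    refine ⟨(L'.objObjPreimageIso X).inv ≫ φ ≫ (L'.objObjPreimageIso Y).hom, ?_⟩
    replace hφ : Φ.map φ = _ := hφ
    rw [Φ.map_comp, Φ.map_comp, hφ]
    simp [← Φ.map_comp, ← Φ.map_comp_assoc]
  · have h' := hFaith (L'.objPreimage X) (L'.objPreimage Y)
      (a₁ := (L'.objObjPreimageIso X).hom ≫ φ ≫ (L'.objObjPreimageIso Y).inv)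
      (a₂ := (L'.objObjPreimageIso X).hom ≫ ψ ≫ (L'.objObjPreimageIso Y).inv)
      (by simp only [Φ.map_comp, h])
    simpa using h'

end Groth.Agent.S13989
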