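import Groth.Statements.S13991
import Groth.Agent.Lib.SerreSupport
set_option autoImplicit false
universe u
open CategoryTheory AlgebraicGeometry
open CohGab

namespace Groth.Agent.S13991

/-- Let X be a Noetherian scheme and Z ⊆ X a closed subset. Then Z is irreducible (or empty) if and only
if Coh_Z(X), the coherent O_X-modules supported in Z, is an irreducible Serre subcategory of Coh(X),
i.e. it is not generated as a Serre subcategory by two Serre subcategories properly contained in it:
whenever J₁, J₂ are Serre classes on coherent modules (middle term of a short exact sequence of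
coherent modules belongs iff both outer terms do), both contained in Coh_Z, such that every Serre
class on coherent modules containing J₁ and J₂ contains Coh_Z, then J₁ or J₂ contains Coh_Z.
Consequently the points of X correspond to the irreducible Serre subcategories of finite type other
than the zero subcategory. (The published statement says 'Z is irreducible iff Coh_Z is irreducible'
and deduces a bijection between the points of X and all irreducible Serre subcategories of finite
type; the zero subcategory Coh_∅ is irreducible in this sense while ∅ is not an irreducible space,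
so irreducibility of Z is read here as 'irreducible or empty'. The published statement is also about
coherent sheaves twisted by a class in the second etale cohomology group of the units of the
structure sheaf; this row is its case of the trivial class.) -/
theorem result (X : Scheme.{u}) [IsNoetherian X]
    (Z : TopologicalSpace.Closeds X) :
    IsPreirreducible (↑Z : Set X) ↔
    ∀ J₁ J₂ : ObjectProperty X.Modules, (∀ S : ShortComplex X.Modules, S.ShortExact → Coh.IsCoh S.X₁ → Coh.IsCoh S.X₂ →
        Coh.IsCoh S.X₃ → (J₁ S.X₂ ↔ J₁ S.X₁ ∧ J₁ S.X₃)) → (∀ S : ShortComplex X.Modules, S.ShortExact → Coh.IsCoh S.X₁ → Coh.IsCoh S.X₂ →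
        Coh.IsCoh S.X₃ → (J₂ S.X₂ ↔ J₂ S.X₁ ∧ J₂ S.X₃)) →
      (∀ M : X.Modules, Coh.IsCoh M → J₁ M → CohB1.support M ⊆ (↑Z : Set X)) →
      (∀ M : X.Modules, Coh.IsCoh M → J₂ M → CohB1.support M ⊆ (↑Z : Set X)) →
      (∀ Q : ObjectProperty X.Modules, (∀ S : ShortComplex X.Modules, S.ShortExact → Coh.IsCoh S.X₁ → Coh.IsCoh S.X₂ →
        Coh.IsCoh S.X₃ → (Q S.X₂ ↔ Q S.X₁ ∧ Q S.X₃)) →
        (∀ M : X.Modules, Coh.IsCoh M → J₁ M → Q M) → (∀ M : X.Modules, Coh.IsCoh M → J₂ M → Q M) →
        ∀ M : X.Modules, Coh.IsCoh M → CohB1.support M ⊆ (↑Z : Set X) → Q M) →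
      (∀ M : X.Modules, Coh.IsCoh M → CohB1.support M ⊆ (↑Z : Set X) → J₁ M) ∨
        (∀ M : X.Modules, Coh.IsCoh M → CohB1.support M ⊆ (↑Z : Set X) → J₂ M) := by

    constructor
    · intro hZ J₁ J₂ hJ₁ hJ₂ hs₁ hs₂ hgen
      by_contra hcon
      push Not at hcon
      obtain ⟨⟨M₁, hM₁, hM₁Z, hn₁⟩, ⟨M₂, hM₂, hM₂Z, hn₂⟩⟩ := hcon
      obtain ⟨G, hG, hGs⟩ := Groth.Agent.SerreSupport.exists_support_eq Z
      rcases (↑Z : Set X).eq_empty_or_nonempty with he | hne
      · have hnone : ∀ (J : ObjectProperty X.Modules), Groth.Agent.SerreSupport.IsSerre J → ∀ M₀ : X.Modules, Coh.IsCoh M₀ →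
            CohB1.support M₀ ⊆ (↑Z : Set X) → ¬ J M₀ → ∀ M : X.Modules, Coh.IsCoh M → J M → False :=
          fun J hJ M₀ hM₀ hM₀Z hn M hM hJM => hn (Groth.Agent.SerreSupport.mem_of_support hJ hM hM₀ hJM
            (hM₀Z.trans (he.le.trans (Set.empty_subset _))))
        exact hgen (fun _ => False) (fun _ _ _ _ _ => ⟨False.elim, fun h => h.1⟩)
          (hnone J₁ hJ₁ M₁ hM₁ hM₁Z hn₁) (hnone J₂ hJ₂ M₂ hM₂ hM₂Z hn₂) G hG hGs.le
      obtain ⟨η, hη⟩ := QuasiSober.sober ⟨hne, hZ⟩ Z.isClosed
      have hmem : ∀ (J : ObjectProperty X.Modules), Groth.Agent.SerreSupport.IsSerre J → ∀ M₀ : X.Modules, Coh.IsCoh M₀ →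
          CohB1.support M₀ ⊆ (↑Z : Set X) → ¬ J M₀ → ∀ M : X.Modules, Coh.IsCoh M → J M →
            CohB1.support M ⊆ {η}ᶜ := fun J hJ M₀ hM₀ hM₀Z hn M hM hJM y hy hyη => hn
        (Groth.Agent.SerreSupport.mem_of_support hJ hM hM₀ hJM (hM₀Z.trans (hη.symm.le.trans
          ((Groth.Agent.QCoh.isClosed_support_of_isFT hM.1 hM.2).closure_subset_iff.2
            (Set.singleton_subset_iff.2 (Set.mem_singleton_iff.1 hyη ▸ hy))))))
      exact hgen (fun M => CohB1.support M ⊆ {η}ᶜ) (Groth.Agent.SerreSupport.isSerre_support _)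
        (hmem J₁ hJ₁ M₁ hM₁ hM₁Z hn₁) (hmem J₂ hJ₂ M₂ hM₂ hM₂Z hn₂) G hG hGs.le
        (hGs.ge (hη.mem)) rfl
    · intro h
      rw [isPreirreducible_iff_isClosed_union_isClosed]
      intro A B hA hB hAB
      let ZA : TopologicalSpace.Closeds X := ⟨(↑Z : Set X) ∩ A, Z.isClosed.inter hA⟩
      let ZB : TopologicalSpace.Closeds X := ⟨(↑Z : Set X) ∩ B, Z.isClosed.inter hB⟩
      obtain ⟨G, hG, hGs⟩ := Groth.Agent.SerreSupport.exists_support_eq Z
      obtain ⟨EA, hEA, hEAs⟩ := Groth.Agent.SerreSupport.exists_support_eq ZA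
      obtain ⟨EB, hEB, hEBs⟩ := Groth.Agent.SerreSupport.exists_support_eq ZB
      rcases h (fun M => CohB1.support M ⊆ (↑ZA : Set X)) (fun M => CohB1.support M ⊆ (↑ZB : Set X))
        (Groth.Agent.SerreSupport.isSerre_support _) (Groth.Agent.SerreSupport.isSerre_support _)
        (fun M _ hM => hM.trans Set.inter_subset_left) (fun M _ hM => hM.trans Set.inter_subset_left)
        (fun Q hQ h₁ h₂ M hM hMZ => by
          obtain ⟨W, hW, hQW, hWs⟩ := Groth.Agent.SerreSupport.exists_union hQ hEA hEB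
            (h₁ EA hEA hEAs.le) (h₂ EB hEB hEBs.le)
          refine Groth.Agent.SerreSupport.mem_of_support hQ hW hM hQW (fun y hy => hWs ?_)
          rcases hAB (hMZ hy) with ha | hb
          · exact Or.inl (hEAs.ge ⟨hMZ hy, ha⟩)
          · exact Or.inr (hEBs.ge ⟨hMZ hy, hb⟩)) with h' | h'
      · exact Or.inl ((hGs.ge.trans (h' G hG hGs.le)).trans Set.inter_subset_right)
      · exact Or.inr ((hGs.ge.trans (h' G hG hGs.le)).trans Set.inter_subset_right)

end Groth.Agent.S13991
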