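import Groth.Statements.S13992
import Groth.Agent.PlanarExt.Basic

set_option autoImplicit false
universe u
open CategoryTheory
open CAlg

namespace Groth.Agent.S13992

/-- Let S be a regular local ring of Krull dimension two, f a non-zero element of S and R the quotient
of S by f, assumed reduced (the local ring of a reduced planar curve singularity). Let M and N be
finitely generated R-modules, each admitting a non-zero-divisor in the maximal ideal of R,
annihilated by ideals I and J respectively, where I + J contains a power of the maximal ideal. Then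
Ext²_R(M, N) = 0. (The published statement is global: Ext²(F, F') = 0 for torsion-free coherent
sheaves F and F' on a reduced projective curve over a characteristic-zero algebraically closed
field, supported on subcurves with no common irreducible component that meet only at points with
planar singularities; this row is the vanishing on stalks to which it reduces, stated over an
arbitrary two-dimensional regular local ring.) -/
theorem result (S : Type u) [CommRing S] [IsRegularLocalRing S] (hS : ringKrullDim S = 2) (f : S) (hf : f ≠ 0) (R : Type u) [CommRing R] [IsLocalRing R] [IsReduced R] (π : S →+* R) (hπ : Function.Surjective π) (hker : RingHom.ker π = Ideal.span {f}) (I J : Ideal R) (n : ℕ) (hIJ : IsLocalRing.maximalIdeal R ^ n ≤ I ⊔ J) (M N : Type u) [AddCommGroup M] [Module R M] [Module.Finite R M] [AddCommGroup N] [Module R N] [Module.Finite R N] (hI : I ≤ Module.annihilator R M) (hJ : J ≤ Module.annihilator R N) (x : R) (hx : x ∈ IsLocalRing.maximalIdeal R) (hxM : IsSMulRegular M x) (y : R) (hy : y ∈ IsLocalRing.maximalIdeal R) (hyN : IsSMulRegular N y) : Subsingleton (Abelian.Ext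 (ModuleCat.of R M) (ModuleCat.of R N) 2) := by
  classical
  obtain ⟨r, φ, p, hp, hφp⟩ := Groth.Agent.PlanarExt.exists_square_presentation hS hf π hπ hker M hx hxM
  let K1 := LinearMap.ker p
  let φ' : (Fin r → R) →ₗ[R] K1 := φ.codRestrict _ fun v => LinearMap.mem_ker.2 (hφp.apply_apply_eq_zero v)
  have hφ' : Function.Surjective φ' := by
    rintro ⟨v, hv⟩
    obtain ⟨w, rfl⟩ := (hφp v).1 hv
    exact ⟨w, rfl⟩
  let K2 := LinearMap.ker φ'
  have hzero : ∀ g : K2 →ₗ[R] N, g = 0 := by
    intro g
    refine LinearMap.ext fun v => ?_
    rw [LinearMap.zero_apply]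
    have hle : I ⊔ J ≤ (Submodule.span R {g v}).annihilator.radical := by
      refine sup_le (fun a ha => ?_) fun b hb => Ideal.le_radical (Submodule.mem_annihilator_span_singleton _ _ |>.2 ?_)
      · obtain ⟨ω, hω⟩ := Groth.Agent.PlanarExt.exists_left_inverse_pow φ a fun w => by
          refine (hφp (a • w)).1 ?_
          rw [map_smul, Module.mem_annihilator.1 (hI ha) (p w)]
        refine ⟨r, (Submodule.mem_annihilator_span_singleton _ _).2 ?_⟩
        have h0 : φ (v : Fin r → R) = 0 := congrArg Subtype.val (LinearMap.mem_ker.1 v.2)
        have h1 := LinearMap.congr_fun hω (v : Fin r → R)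
        rw [LinearMap.comp_apply, h0, map_zero, LinearMap.smul_apply, LinearMap.id_apply] at h1
        rw [← map_smul, show a ^ r • v = 0 from Subtype.ext h1.symm, map_zero]
      · exact Module.mem_annihilator.1 (hJ hb) (g v)
    have hy1 : y ∈ (Submodule.span R {g v}).annihilator.radical := by
      obtain ⟨k, hk⟩ := hle (hIJ (Ideal.pow_mem_pow hy n))
      exact ⟨n * k, by rwa [pow_mul]⟩
    obtain ⟨k, hk⟩ := hy1
    rw [Submodule.mem_annihilator_span_singleton] at hk
    exact (hyN.pow k) (show y ^ k • g v = y ^ k • (0 : N) by rw [hk, smul_zero])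
  have hS1 := LinearMap.shortExact_shortComplexKer hp
  have hS2 := LinearMap.shortExact_shortComplexKer hφ'
  have hproj : CategoryTheory.Projective (ModuleCat.of R (Fin r → R)) :=
    (IsProjective.iff_projective (R := R) (Fin r → R)).1 inferInstance
  haveI : CategoryTheory.Projective p.shortComplexKer.X₂ := hproj
  haveI : CategoryTheory.Projective φ'.shortComplexKer.X₂ := hproj
  have h1 : Subsingleton (Abelian.Ext (ModuleCat.of R K1) (ModuleCat.of R N) 1) := by
    refine subsingleton_of_forall_eq 0 fun e => ?_
    obtain ⟨z, hz⟩ := Abelian.Ext.contravariant_sequence_exact₃ hS2 (ModuleCat.of R N) e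
      (Abelian.Ext.eq_zero_of_projective _) (n₀ := 0) rfl
    obtain ⟨g, rfl⟩ := (Abelian.Ext.mk₀_bijective _ _).2 z
    have : g = 0 := ModuleCat.hom_ext (hzero g.hom)
    rw [← hz, this, Abelian.Ext.mk₀_zero, Abelian.Ext.comp_zero]
  refine subsingleton_of_forall_eq 0 fun e => ?_
  obtain ⟨z, hz⟩ := Abelian.Ext.contravariant_sequence_exact₃ hS1 (ModuleCat.of R N) e
    (Abelian.Ext.eq_zero_of_projective _) (n₀ := 1) rfl
  rw [← hz, show z = 0 from @Subsingleton.elim _ h1 _ _, Abelian.Ext.comp_zero]

end Groth.Agent.S13992
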