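import Groth.Statements.S13993
import Mathlib

set_option autoImplicit false
universe u
open CategoryTheory
open CAlg

namespace Groth.Agent.S13993

open CategoryTheory in
theorem finrank_ext_one {k : Type u} [Field k] {A : Type u} [CommRing A] [Algebra k A] (a b : A)
    (hann : ∀ c, a * c = 0 → c ∈ Ideal.span {b})
    (hdec : ∀ c : A, ∃ (r : k) (c' : A), c - algebraMap k A r - a * c' ∈ Ideal.span {b})
    (hab : (1 : A) ∉ Ideal.span {a, b}) :
    Module.finrank k (Abelian.Ext (ModuleCat.of A (A ⧸ Ideal.span {a})) (ModuleCat.of A (A ⧸ Ideal.span {b})) 1) = 1 := by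
  classical
  let p : A →ₗ[A] A ⧸ Ideal.span {a} := (Ideal.span {a}).mkQ
  have hp : Function.Surjective p := Submodule.mkQ_surjective _
  have hS := LinearMap.shortExact_shortComplexKer hp
  have hmem : ∀ v : LinearMap.ker p, ∃ c, a * c = (v : A) := fun v => by
    obtain ⟨c, hc⟩ := Ideal.mem_span_singleton'.1 ((Submodule.Quotient.mk_eq_zero _).1 (LinearMap.mem_ker.1 v.2))
    exact ⟨c, by rw [mul_comm, hc]⟩
  choose co hco using hmem
  have hwd : ∀ (v : LinearMap.ker p) (c : A), a * c = (v : A) →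
      Ideal.Quotient.mk (Ideal.span {b}) (co v) = Ideal.Quotient.mk (Ideal.span {b}) c := fun v c h =>
    Ideal.Quotient.eq.2 (hann _ (by rw [mul_sub, hco, h, sub_self]))
  let g0 : LinearMap.ker p →ₗ[A] A ⧸ Ideal.span {b} :=
    { toFun := fun v => Ideal.Quotient.mk _ (co v)
      map_add' := fun v w => by
        rw [hwd (v + w) (co v + co w) (by rw [mul_add, hco, hco]; rfl), map_add]
      map_smul' := fun r v => by
        rw [hwd (r • v) (r * co v) (by rw [mul_left_comm, hco]; rfl), map_mul]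
        rfl }
  let δ : (LinearMap.ker p →ₗ[A] A ⧸ Ideal.span {b}) →
      Abelian.Ext (ModuleCat.of A (A ⧸ Ideal.span {a})) (ModuleCat.of A (A ⧸ Ideal.span {b})) 1 := fun g =>
    hS.extClass.comp (Abelian.Ext.mk₀ (ModuleCat.ofHom g)) (add_zero 1)
  haveI : Projective p.shortComplexKer.X₂ := (IsProjective.iff_projective (R := A) A).1 inferInstance
  have hres : ∀ φ : A →ₗ[A] A ⧸ Ideal.span {b}, δ (φ ∘ₗ (LinearMap.ker p).subtype) = 0 := fun φ => by
    show hS.extClass.comp (Abelian.Ext.mk₀ (p.shortComplexKer.f ≫ ModuleCat.ofHom φ)) (add_zero 1) = 0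
    rw [← Abelian.Ext.mk₀_comp_mk₀]
    exact hS.extClass_comp_assoc _
  have hadd : ∀ g h, δ (g + h) = δ g + δ h := fun g h => by
    show hS.extClass.comp (Abelian.Ext.mk₀ (ModuleCat.ofHom g + ModuleCat.ofHom h)) _ = _
    rw [Abelian.Ext.mk₀_add, Abelian.Ext.comp_add]
  have hsmul : ∀ (r : k) g, r • δ g = δ (algebraMap k A r • g) := fun r g => by
    show r • hS.extClass.comp (Abelian.Ext.mk₀ (ModuleCat.ofHom g)) _ = _
    rw [← Abelian.Ext.comp_smul, ← Abelian.Ext.mk₀_smul]
    rfl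
  have hsurj : ∀ e, ∃ g, δ g = e := fun e => by
    obtain ⟨z, hz⟩ := Abelian.Ext.contravariant_sequence_exact₃ hS _ e
      (Abelian.Ext.eq_zero_of_projective _) (n₀ := 0) rfl
    obtain ⟨g, rfl⟩ := (Abelian.Ext.mk₀_bijective _ _).2 z
    exact ⟨g.hom, hz⟩
  have hinj : ∀ g, δ g = 0 → ∃ φ : A →ₗ[A] A ⧸ Ideal.span {b}, g = φ ∘ₗ (LinearMap.ker p).subtype := fun g hg => by
    obtain ⟨z, hz⟩ := Abelian.Ext.contravariant_sequence_exact₁ hS _ (Abelian.Ext.mk₀ (ModuleCat.ofHom g))
      (show 1 + 0 = 1 from rfl) hg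
    obtain ⟨φ, rfl⟩ := (Abelian.Ext.mk₀_bijective _ _).2 z
    rw [Abelian.Ext.mk₀_comp_mk₀] at hz
    exact ⟨φ.hom, (congrArg ModuleCat.Hom.hom ((Abelian.Ext.mk₀_bijective _ _).1 hz)).symm⟩
  refine finrank_eq_one_iff'.2 ⟨δ g0, fun h0 => ?_, fun e => ?_⟩
  · obtain ⟨φ, hφ⟩ := hinj g0 h0
    have ha : a ∈ LinearMap.ker p := LinearMap.mem_ker.2 ((Submodule.Quotient.mk_eq_zero _).2 (Ideal.mem_span_singleton_self a))
    obtain ⟨c, hc⟩ := Ideal.Quotient.mk_surjective (φ 1)
    have h1 := LinearMap.congr_fun hφ ⟨a, ha⟩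
    rw [LinearMap.comp_apply, Submodule.subtype_apply, show φ a = a • φ 1 by rw [← map_smul, smul_eq_mul, mul_one], ← hc] at h1
    have h2 : Ideal.Quotient.mk (Ideal.span {b}) 1 = Ideal.Quotient.mk (Ideal.span {b}) (a * c) :=
      ((hwd ⟨a, ha⟩ 1 (mul_one a)).symm.trans h1).trans rfl
    refine hab ?_
    rw [Ideal.span_insert, ← sub_add_cancel (1 : A) (a * c), add_comm]
    exact Submodule.add_mem_sup (Ideal.mul_mem_right _ _ (Ideal.mem_span_singleton_self a)) (Ideal.Quotient.eq.1 h2)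
  · obtain ⟨g, rfl⟩ := hsurj e
    have ha : a ∈ LinearMap.ker p := LinearMap.mem_ker.2 ((Submodule.Quotient.mk_eq_zero _).2 (Ideal.mem_span_singleton_self a))
    obtain ⟨c, hc⟩ := Ideal.Quotient.mk_surjective (g ⟨a, ha⟩)
    obtain ⟨r, c', hrc⟩ := hdec c
    refine ⟨r, ?_⟩
    rw [hsmul]
    let φ : A →ₗ[A] A ⧸ Ideal.span {b} := LinearMap.toSpanSingleton A _ (Ideal.Quotient.mk _ c')
    have hg : g = algebraMap k A r • g0 + φ ∘ₗ (LinearMap.ker p).subtype := LinearMap.ext fun v => by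
      have hv : v = co v • ⟨a, ha⟩ := Subtype.ext (by simp [mul_comm, hco])
      rw [hv, map_smul, map_smul]
      congr 1
      rw [← hc, LinearMap.add_apply, LinearMap.smul_apply, LinearMap.comp_apply,
        show g0 ⟨a, ha⟩ = Ideal.Quotient.mk _ 1 from hwd ⟨a, ha⟩ 1 (mul_one a)]
      show Ideal.Quotient.mk _ c = Ideal.Quotient.mk _ (algebraMap k A r * 1) + Ideal.Quotient.mk _ (a * c')
      rw [← map_add, Ideal.Quotient.eq, mul_one, ← sub_sub]
      exact hrc
    rw [hg, hadd, hres, add_zero]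


/-- Let k be a field and A = k[[x,y]]/(xy) the complete local ring of a node, with branch rings A/(y)
and A/(x) viewed as A-modules. Then the first Ext group Ext¹_A(A/(y), A/(x)) has dimension one over
k. (The published statement is for the local ring at a node of a reduced curve over an algebraically
closed field of characteristic zero, a node being a point whose complete local ring is A; this row
states the case of the complete local ring A itself, over an arbitrary field.) -/
theorem result (k : Type u) [Field k] : Module.finrank k (Abelian.Ext (ModuleCat.of (MvPowerSeries (Fin 2) k ⧸ Ideal.span {(MvPowerSeries.X (0 : Fin 2) : MvPowerSeries (Fin 2) k) * MvPowerSeries.X (1 : Fin 2)}) ((MvPowerSeries (Fin 2) k ⧸ Ideal.span {(MvPowerSeries.X (0 : Fin 2) : MvPowerSeries (Fin 2) k) * MvPowerSeries.X (1 : Fin 2)}) ⧸ Ideal.span {Ideal.Quotient.mk (Ideal.span {(MvPowerSeries.X (0 : Fin 2) : MvPowerSeries (Fin 2) k) * MvPowerSeries.X (1 : Fin 2)}) (MvPowerSeries.X (1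 : Fin 2))})) (ModuleCat.of (MvPowerSeries (Fin 2) k ⧸ Ideal.span {(MvPowerSeries.X (0 : Fin 2) : MvPowerSeries (Fin 2) k) * MvPowerSeries.X (1 : Fin 2)}) ((MvPowerSeries (Fin 2) k ⧸ Ideal.span {(MvPowerSeries.X (0 : Fin 2) : MvPowerSeries (Fin 2) k) * MvPowerSeries.X (1 : Fin 2)}) ⧸ Ideal.span {Ideal.Quotient.mk (Ideal.span {(MvPowerSeries.X (0 : Fin 2) : MvPowerSeries (Fin 2) k) * MvPowerSeries.X (1 : Fin 2)}) (MvPowerSeries.X (0 : Fin 2))})) 1) = 1 := by
  classical
  set xx : MvPowerSeries (Fin 2) k := MvPowerSeries.X 0 with hxx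
  set yy : MvPowerSeries (Fin 2) k := MvPowerSeries.X 1 with hyy
  set mk := Ideal.Quotient.mk (Ideal.span {xx * yy}) with hmk
  refine finrank_ext_one (mk yy) (mk xx) (fun c hc => ?_) (fun c => ?_) fun h => ?_
  · obtain ⟨c, rfl⟩ := Ideal.Quotient.mk_surjective c
    rw [← map_mul, Ideal.Quotient.eq_zero_iff_mem, Ideal.mem_span_singleton'] at hc
    obtain ⟨d, hd⟩ := hc
    haveI : IsDomain (MvPowerSeries (Fin 2) k) := NoZeroDivisors.to_isDomain _
    have hne : yy ≠ 0 := fun h => one_ne_zero (by simpa [hyy, MvPowerSeries.coeff_X] using congrArg (MvPowerSeries.coeff (Finsupp.single (1 : Fin 2) 1)) h : (1 : k) = 0)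
    rw [show c = d * xx from mul_left_cancel₀ hne (by rw [← hd]; ring), map_mul]
    exact Ideal.mul_mem_left _ _ (Ideal.mem_span_singleton_self _)
  · obtain ⟨f, rfl⟩ := Ideal.Quotient.mk_surjective c
    let g : MvPowerSeries (Fin 2) k := fun d => MvPowerSeries.coeff (d + Finsupp.single 1 1) f
    refine ⟨MvPowerSeries.constantCoeff f, mk g, ?_⟩
    have hdvd : xx ∣ f - MvPowerSeries.C (MvPowerSeries.constantCoeff f) - yy * g := by
      rw [hxx, MvPowerSeries.X_dvd_iff]
      intro m hm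
      rw [map_sub, map_sub, MvPowerSeries.coeff_C, hyy, MvPowerSeries.X_def, MvPowerSeries.coeff_monomial_mul]
      by_cases h1 : Finsupp.single (1 : Fin 2) 1 ≤ m
      · rw [if_pos h1, one_mul, if_neg (fun h => by simp [h] at h1)]
        show _ - 0 - MvPowerSeries.coeff (m - Finsupp.single 1 1 + Finsupp.single 1 1) f = 0
        rw [tsub_add_cancel_of_le h1, sub_zero, sub_self]
      · have h0 : m = 0 := by
          ext i
          fin_cases i
          · simpa using hm
          · simpa [Finsupp.single_le_iff, Nat.one_le_iff_ne_zero] using h1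
        subst h0
        rw [if_neg h1, if_pos rfl, sub_zero]
        exact sub_self _
    obtain ⟨d, hd⟩ := hdvd
    rw [Ideal.mem_span_singleton]
    refine ⟨mk d, ?_⟩
    rw [← map_mul mk xx d, ← hd, map_sub, map_sub, map_mul]
    rfl
  · rw [Ideal.mem_span_pair] at h
    obtain ⟨u, v, huv⟩ := h
    obtain ⟨u, rfl⟩ := Ideal.Quotient.mk_surjective u
    obtain ⟨v, rfl⟩ := Ideal.Quotient.mk_surjective v
    rw [← map_mul, ← map_mul, ← map_add, ← map_one mk, Ideal.Quotient.eq, Ideal.mem_span_singleton'] at huv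
    obtain ⟨d, hd⟩ := huv
    have := congrArg MvPowerSeries.constantCoeff hd
    simp [hxx, hyy] at this

end Groth.Agent.S13993
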