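import Groth.Statements.S13994
import Groth.Agent.PlanarExt.Basic
import Groth.Agent.TorBridge.Basic

set_option autoImplicit false
universe u
open CategoryTheory
open CAlg

namespace Groth.Agent.S13994

/-- Let S be a regular local ring of Krull dimension two, f a non-zero element of S and R the quotient
of S by f, assumed reduced. Let M and N be finitely generated R-modules, each admitting a
non-zero-divisor in the maximal ideal of R, annihilated by ideals I and J respectively, where I + J
contains a power of the maximal ideal. Then Tor₁^R(M, Hom_R(N, R)) = 0. (The published claim is made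
for the stalks at a common point of two subcurves without common component of a reduced projective
curve over a characteristic-zero algebraically closed field, the point being a planar singularity,
and the stalks of torsion-free sheaves supported on them; this row states it over an arbitrary
two-dimensional regular local ring. Tor is computed by resolving the second argument.) -/
theorem result (S : Type u) [CommRing S] [IsRegularLocalRing S] (hS : ringKrullDim S = 2) (f : S) (hf : f ≠ 0) (R : Type u) [CommRing R] [IsLocalRing R] [IsReduced R] (π : S →+* R) (hπ : Function.Surjective π) (hker : RingHom.ker π = Ideal.span {f}) (I J : Ideal R) (n : ℕ) (hIJ : IsLocalRing.maximalIdeal R ^ n ≤ I ⊔ J) (M N : Type u) [AddCommGroup M] [Module R M] [Module.Finite R M] [AddCommGroup N] [Module R N] [Module.Finite R N] (hI : I ≤ Module.annihilator R M) (hJ : J ≤ Module.annihilator R N) (x : R) (hx : x ∈ IsLocalRing.maximalIdeal R) (hxM : IsSMulRegular M x) (y : R) (hy : y ∈ IsLocalRing.maximalIdeal R) (hyN : IsSMulRegular N y) : Limits.IsZero (((Tor (ModuleCat.{u} R) 1).obj (ModuleCat.of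 R M)).obj (ModuleCat.of R (Module.Dual R N))) := by
  classical
  haveI : IsNoetherianRing R := isNoetherianRing_of_surjective S R π hπ
  obtain ⟨k, q, hq⟩ := Module.Finite.exists_fin' R M
  rw [Groth.Agent.TorBridge.isZero_tor_one_iff (Module.Dual R N) M q hq]
  by_cases hz : ∃ z ∈ IsLocalRing.maximalIdeal R, IsSMulRegular R z
  swap
  · have hass : IsLocalRing.maximalIdeal R ∈ associatedPrimes R R := by
      by_contra h
      obtain ⟨z, hz', hzreg⟩ := (Groth.Agent.Alg6.exists_isSMulRegular_mem_iff (M := R) (IsLocalRing.maximalIdeal R)).2 (by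
        intro P hP hle
        exact h (((IsLocalRing.maximalIdeal.isMaximal R).eq_of_le hP.isPrime.ne_top hle).symm ▸ hP))
      exact hz ⟨z, hz', hzreg⟩
    obtain ⟨-, c, hc⟩ := (isAssociatedPrime_iff_exists_injective_linearMap (IsLocalRing.maximalIdeal R) R).1 hass
    have hc0 : c (Ideal.Quotient.mk _ 1) ≠ 0 := fun h => by
      have := hc (h.trans (map_zero c).symm)
      rw [Ideal.Quotient.eq_zero_iff_mem] at this
      exact (IsLocalRing.maximalIdeal.isMaximal R).ne_top ((Ideal.eq_top_iff_one _).2 this)
    have hkill : ∀ a ∈ IsLocalRing.maximalIdeal R, a * c (Ideal.Quotient.mk _ 1) = 0 := fun a ha => by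
      rw [← smul_eq_mul, ← map_smul]
      have : a • (Ideal.Quotient.mk (IsLocalRing.maximalIdeal R) 1) = 0 := by
        show Ideal.Quotient.mk _ (a • 1) = 0
        rw [smul_eq_mul, mul_one, Ideal.Quotient.eq_zero_iff_mem]
        exact ha
      rw [this, map_zero]
    have hunit : IsUnit (c (Ideal.Quotient.mk _ 1)) := by
      by_contra h
      exact hc0 (IsReduced.eq_zero _ ⟨2, by rw [pow_two]; exact hkill _ h⟩)
    have hx0 : x = 0 := hunit.mul_left_eq_zero.1 (hkill x hx)
    subst hx0
    haveI : Subsingleton M := ⟨fun a b => hxM (by simp)⟩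
    let j : (Fin k → R) →ₗ[R] LinearMap.ker q :=
      LinearMap.id.codRestrict _ fun v => LinearMap.mem_ker.2 (Subsingleton.elim _ _)
    have hj : j ∘ₗ (LinearMap.ker q).subtype = LinearMap.id := rfl
    have hcomp : ∀ t, j.rTensor (Module.Dual R N) ((LinearMap.ker q).subtype.rTensor (Module.Dual R N) t) = t := fun t => by
      rw [← LinearMap.comp_apply, ← LinearMap.rTensor_comp, hj, LinearMap.rTensor_id, LinearMap.id_apply]
    exact Function.LeftInverse.injective hcomp
  obtain ⟨z, hz, hzreg⟩ := hz
  have hzD : IsSMulRegular (Module.Dual R N) z := fun g h e => LinearMap.ext fun v => hzreg (LinearMap.congr_fun e v)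
  obtain ⟨r, φ, p, hp, hφp⟩ := Groth.Agent.PlanarExt.exists_square_presentation hS hf π hπ hker (Module.Dual R N) hz hzD
  rw [Groth.Agent.TorBridge.rTensor_injective_iff_lTensor_injective p hp q hq]
  let φ' : (Fin r → R) →ₗ[R] LinearMap.ker p := φ.codRestrict _ fun v => LinearMap.mem_ker.2 (hφp.apply_apply_eq_zero v)
  have hφ' : Function.Surjective φ' := by
    rintro ⟨v, hv⟩
    obtain ⟨w, rfl⟩ := (hφp v).1 hv
    exact ⟨w, rfl⟩
  rw [injective_iff_map_eq_zero]
  intro t ht
  obtain ⟨v, rfl⟩ := LinearMap.lTensor_surjective M hφ' t
  have hv : φ.lTensor M v = 0 := by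
    rw [← LinearMap.comp_apply, ← LinearMap.lTensor_comp] at ht
    exact ht
  suffices v = 0 by rw [this, map_zero]
  have hle : I ⊔ J ≤ (Submodule.span R {v}).annihilator.radical := by
    refine sup_le (fun a ha => Ideal.le_radical ((Submodule.mem_annihilator_span_singleton _ _).2 ?_)) fun b hb => ?_
    · clear hv ht
      induction v with
      | zero => rw [smul_zero]
      | tmul m w => rw [TensorProduct.smul_tmul', Module.mem_annihilator.1 (hI ha) m, TensorProduct.zero_tmul]
      | add s t hs ht => rw [smul_add, hs, ht, add_zero]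
    · obtain ⟨ω, hω⟩ := Groth.Agent.PlanarExt.exists_left_inverse_pow φ b fun w => by
        refine (hφp (b • w)).1 ?_
        rw [map_smul]
        exact LinearMap.ext fun u => by
          rw [LinearMap.smul_apply, LinearMap.zero_apply, ← map_smul, Module.mem_annihilator.1 (hJ hb) u, map_zero]
      refine ⟨r, (Submodule.mem_annihilator_span_singleton _ _).2 ?_⟩
      have h1 := LinearMap.congr_fun (congrArg (LinearMap.lTensor M) hω) v
      rw [LinearMap.lTensor_comp, LinearMap.comp_apply, hv, map_zero, LinearMap.lTensor_smul,
        LinearMap.lTensor_id, LinearMap.smul_apply, LinearMap.id_apply] at h1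
      exact h1.symm
  have hx1 : x ∈ (Submodule.span R {v}).annihilator.radical := by
    obtain ⟨j, hj⟩ := hle (hIJ (Ideal.pow_mem_pow hx n))
    exact ⟨n * j, by rwa [pow_mul]⟩
  obtain ⟨j, hj⟩ := hx1
  rw [Submodule.mem_annihilator_span_singleton] at hj
  let e := TensorProduct.piScalarRight R R M (Fin r)
  refine e.injective (funext fun i => (hxM.pow j) ?_)
  show x ^ j • e v i = x ^ j • e 0 i
  rw [map_zero, Pi.zero_apply, smul_zero, ← Pi.smul_apply, ← map_smul, hj, map_zero, Pi.zero_apply]

end Groth.Agent.S13994
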