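import Groth.Statements.S6295
import Mathlib

set_option autoImplicit false
universe u
open CAlg

namespace Groth.Agent.S6295

/-- Let R be a reduced ring. Then every localization R_p at a minimal prime p is a field and the map R →
∏_{p minimal} R_p is injective (so R is a subring of a product of fields); moreover the set of
zerodivisors of R is the union of the minimal primes. -/
theorem result (R : Type u) [CommRing R] [IsReduced R] : (∀ p : PrimeSpectrum R, p.asIdeal ∈ minimalPrimes R → IsField (Localization.AtPrime p.asIdeal)) ∧ Function.Injective (algebraMap R (∀ p : {p : PrimeSpectrum R // p.asIdeal ∈ minimalPrimes R}, Localization.AtPrime p.1.asIdeal)) ∧ (∀ x : R, x ∉ nonZeroDivisors R ↔ ∃ p ∈ minimalPrimes R, x ∈ p) := by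
  classical
  refine ⟨fun p hp => ?_, ?_, fun x => ?_⟩
  · have hbot : IsLocalRing.maximalIdeal (Localization.AtPrime p.asIdeal) = ⊥ := by
      rw [eq_bot_iff]
      intro a ha
      refine (IsReduced.eq_zero a ?_ : a = 0)
      rw [← mem_nilradical, nilradical_eq_sInf, Ideal.mem_sInf]
      intro P hP
      haveI : P.IsPrime := hP
      have hle : P.comap (algebraMap R (Localization.AtPrime p.asIdeal)) ≤ p.asIdeal := by
        intro r hr
        by_contra hrj
        exact (inferInstance : P.IsPrime).ne_top (Ideal.eq_top_of_isUnit_mem _ hr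
          (IsLocalization.map_units (M := p.asIdeal.primeCompl) _ ⟨r, hrj⟩))
      have heq := le_antisymm hle (hp.2 ⟨Ideal.IsPrime.comap _, bot_le⟩ hle)
      rw [← IsLocalization.map_comap p.asIdeal.primeCompl _ P, show P.under R = p.asIdeal from heq,
        Localization.AtPrime.map_eq_maximalIdeal]
      exact ha
    exact IsLocalRing.isField_iff_maximalIdeal_eq.mpr hbot
  · rw [injective_iff_map_eq_zero]
    intro x hx
    refine (IsReduced.eq_zero x ?_ : x = 0)
    rw [← mem_nilradical, nilradical_eq_sInf, Ideal.mem_sInf]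
    intro P hP
    haveI : P.IsPrime := hP
    obtain ⟨q, hq, hqP⟩ := Ideal.exists_minimalPrimes_le (I := ⊥) (J := P) bot_le
    haveI : q.IsPrime := hq.1.1
    have h := congrFun hx ⟨⟨q, hq.1.1⟩, hq⟩
    obtain ⟨s, hs⟩ := (IsLocalization.map_eq_zero_iff q.primeCompl _ _).mp h
    exact hqP ((hq.1.1.mem_or_mem (show (s : R) * x ∈ q by rw [hs]; exact q.zero_mem)).resolve_left s.2)
  · have h : x ∈ ⋃ p ∈ (⊥ : Ideal R).minimalPrimes, (p : Set R) ↔
        x ∈ {x : R | ∃ y ∉ (⊥ : Ideal R).radical, x * y ∈ (⊥ : Ideal R).radical} := by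
      rw [Ideal.iUnion_minimalPrimes]
    have hrad : (⊥ : Ideal R).radical = ⊥ := by
      rw [eq_bot_iff]
      intro a ha
      obtain ⟨n, hn⟩ := ha
      exact (IsReduced.eq_zero a ⟨n, by simpa using hn⟩ : a = 0)
    simp only [Set.mem_iUnion, SetLike.mem_coe, exists_prop, Set.mem_ofPred_eq, hrad, Ideal.mem_bot]
      at h
    rw [mem_nonZeroDivisors_iff_right]
    simp only [not_forall]
    constructor
    · rintro ⟨y, hy, hne⟩
      obtain ⟨p, hp, hxp⟩ := h.mpr ⟨y, hne, by rw [mul_comm, hy]⟩
      exact ⟨p, hp, hxp⟩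
    · rintro ⟨p, hp, hxp⟩
      obtain ⟨y, hne, hy⟩ := h.mp ⟨p, hp, hxp⟩
      exact ⟨y, by rw [mul_comm, hy], hne⟩

end Groth.Agent.S6295
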