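import Groth.Statements.S13995
import Groth.Agent.S6295
import Mathlib.RingTheory.Ideal.AssociatedPrime.Localization
import Mathlib.RingTheory.Support

set_option autoImplicit false
universe u
open CAlg

namespace Groth.Agent.S13995
/-- A surjection from a one-dimensional space onto a nonzero space is injective. -/
theorem injective_of_rank_one {F V W : Type*} [CommRing F] (hF : IsField F) [AddCommGroup V] [Module F V]
    [AddCommGroup W] [Module F W] [Nontrivial W] (h : Module.finrank F V = 1) (f : V →ₗ[F] W)
    (hf : Function.Surjective f) : Function.Injective f := by
  letI := hF.toField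
  haveI : FiniteDimensional F V := Module.finite_of_finrank_pos (by omega)
  haveI : FiniteDimensional F W := Module.Finite.of_surjective f hf
  have h1 : 0 < Module.finrank F W := Module.finrank_pos
  have h2 := f.finrank_range_add_finrank_ker
  rw [LinearMap.range_eq_top.2 hf, finrank_top] at h2
  exact LinearMap.ker_eq_bot.1 (Submodule.finrank_eq_zero.1 (by omega))

/-- Let R be a reduced Noetherian ring, M a finitely generated R-module all of whose associated primes
are minimal primes of R and whose localization at each minimal prime p is one-dimensional over the
field R_p, and let g : M → Q be a surjection onto a finitely generated R-module Q all of whose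
associated primes are minimal primes of R. Then the kernel of g is the intersection, over the
minimal primes p of R lying in the support of Q, of the kernels of the localization maps M → M_p.
(The published statement is for a torsion-free coherent sheaf F of uniform rank one on a reduced
connected projective curve over a characteristic-zero algebraically closed field: its non-zero
torsion-free quotients are exactly the maximal torsion-free quotients F_D of the restrictions of F
to subcurves D; this row is the corresponding statement for modules over a reduced Noetherian ring,
a subcurve being a set of minimal primes, and identifies each torsion-free quotient with F_D for D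
the set of generic points of its support.) -/
theorem result (R : Type u) [CommRing R] [IsNoetherianRing R] [IsReduced R] (M : Type u) [AddCommGroup M] [Module R M] [Module.Finite R M] (hM : associatedPrimes R M ⊆ minimalPrimes R) (hrk : ∀ p : PrimeSpectrum R, p.asIdeal ∈ minimalPrimes R → Module.finrank (Localization.AtPrime p.asIdeal) (LocalizedModule p.asIdeal.primeCompl M) = 1) (Q : Type u) [AddCommGroup Q] [Module R Q] [Module.Finite R Q] (hQ : associatedPrimes R Q ⊆ minimalPrimes R) (g : M →ₗ[R] Q) (hg : Function.Surjective g) : LinearMap.ker g = ⨅ p ∈ {p : PrimeSpectrum R | p.asIdeal ∈ minimalPrimes R ∧ p ∈ Module.support R Q}, LinearMap.ker (LocalizedModule.mkLinearMap p.asIdeal.primeCompl M) := by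
  refine le_antisymm (le_iInf₂ fun p hp x hx => ?_) fun x hx => ?_
  · obtain ⟨hmin, hsupp⟩ := hp
    haveI : Nontrivial (LocalizedModule p.asIdeal.primeCompl Q) := Module.mem_support_iff.1 hsupp
    have hinj := injective_of_rank_one ((Groth.Agent.S6295.result R).1 p hmin) (hrk p hmin)
      (LocalizedModule.map p.asIdeal.primeCompl g) (LocalizedModule.map_surjective _ g hg)
    rw [LinearMap.mem_ker] at hx ⊢
    apply hinj
    rw [map_zero, LocalizedModule.mkLinearMap_apply, LocalizedModule.map_mk, hx, LocalizedModule.zero_mk]
  · rw [LinearMap.mem_ker]
    by_contra hy
    obtain ⟨P, hP, hle⟩ := exists_le_isAssociatedPrime_of_isNoetherianRing R (g x) hy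
    have hPprime := hP.isPrime
    have hmin := hQ hP
    have hloc : ∀ s : R, s ∉ P → s • g x ≠ 0 := fun s hs h0 =>
      hs (hle (by simpa [Submodule.mem_colon_singleton] using h0))
    have hsupp : (⟨P, hPprime⟩ : PrimeSpectrum R) ∈ Module.support R Q :=
      Module.mem_support_iff'.2 ⟨g x, hloc⟩
    have hk : x ∈ LinearMap.ker (LocalizedModule.mkLinearMap P.primeCompl M) := by
      have := (Submodule.mem_iInf _).1 hx ⟨P, hPprime⟩
      exact (Submodule.mem_iInf _).1 this ⟨hmin, hsupp⟩
    obtain ⟨s, hs⟩ := (IsLocalizedModule.eq_zero_iff P.primeCompl _).1 (LinearMap.mem_ker.1 hk)
    exact hloc s s.2 (by rw [← map_smul, show (s : R) • x = 0 from hs, map_zero])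

end Groth.Agent.S13995
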