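import Groth.Statements.S13996
import Mathlib.RingTheory.Ideal.AssociatedPrime.Finiteness
import Mathlib.RingTheory.KrullDimension.Basic
import Mathlib.RingTheory.Ideal.MinimalPrime.Localization
import Mathlib.RingTheory.Regular.RegularSequence
import Mathlib.RingTheory.Ideal.Height

set_option autoImplicit false
universe u
open CAlg

namespace Groth.Agent.S13996
open IsLocalRing

theorem exists_regular {R : Type u} [CommRing R] [IsLocalRing R] [IsNoetherianRing R] [IsReduced R]
    (hdim : ringKrullDim R = 1) : ∃ r ∈ maximalIdeal R, IsSMulRegular R r := by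
  by_contra! h
  have hsub : (maximalIdeal R : Set R) ⊆ ⋃ p ∈ (⊥ : Ideal R).minimalPrimes, (p : Set R) := fun r hr => by
    have := h r hr
    rw [isSMulRegular_iff_right_eq_zero_of_smul] at this
    push_neg at this
    obtain ⟨x, hx, hx0⟩ := this
    have hrad : x ∉ sInf ((⊥ : Ideal R).minimalPrimes) := by
      rw [Ideal.sInf_minimalPrimes, show (⊥ : Ideal R).radical = ⊥ from nilradical_eq_zero R]
      exact hx0
    simp only [Ideal.mem_sInf, not_forall] at hrad
    obtain ⟨q, hq, hxq⟩ := hrad
    simp only [Set.mem_iUnion]
    refine ⟨q, hq, ?_⟩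
    have : r * x ∈ q := by rw [← smul_eq_mul, hx]; exact q.zero_mem
    exact (hq.isPrime.mem_or_mem this).resolve_right hxq
  obtain ⟨p, hp, hle⟩ := (Ideal.subset_union_prime_finite (minimalPrimes.finite_of_isNoetherianRing R) ⊥ ⊥
    (fun p hp _ _ => hp.isPrime)).1 hsub
  haveI := hp.isPrime
  have hpm : p = maximalIdeal R := le_antisymm (IsLocalRing.le_maximalIdeal hp.isPrime.ne_top) hle
  have h0 : (maximalIdeal R).height = 0 := Ideal.height_eq_zero_iff.2 (hpm ▸ hp)
  rw [← IsLocalRing.maximalIdeal_height_eq_ringKrullDim, h0] at hdim
  exact zero_ne_one (WithBot.coe_inj.1 hdim)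

/-- Let R be a reduced Noetherian local ring of Krull dimension one with maximal ideal m, and M a
non-zero finitely generated R-module. Then M is torsion-free in the sense that no element of m which
is a non-zero-divisor on R is a zero-divisor on M, if and only if M has depth one, i.e. some element
of m is a non-zero-divisor on M. (The published statement is for a non-zero coherent sheaf F on a
connected reduced projective curve over a characteristic-zero algebraically closed field and asserts
the equivalence of: F torsion-free in the above sense at every closed point; F pure of dimension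
one; depth of F_p equal to one at every closed point p. This row is the equivalence of the first and
third conditions at a single closed point p with F_p ≠ 0; at points outside the support the third
condition as published cannot hold, so the row assumes the stalk non-zero.) -/
theorem result (R : Type u) [CommRing R] [IsLocalRing R] [IsNoetherianRing R] [IsReduced R] (hdim : ringKrullDim R = 1) (M : Type u) [AddCommGroup M] [Module R M] [Module.Finite R M] [Nontrivial M] : (∀ r : R, r ∈ IsLocalRing.maximalIdeal R → IsSMulRegular R r → IsSMulRegular M r) ↔ (∃ x : R, x ∈ IsLocalRing.maximalIdeal R ∧ IsSMulRegular M x) := by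
  constructor
  · intro h
    obtain ⟨r, hr, hreg⟩ := exists_regular hdim
    exact ⟨r, hr, h r hr hreg⟩
  · rintro ⟨x, hx, hxM⟩ r hr hreg
    by_contra hrM
    rw [isSMulRegular_iff_right_eq_zero_of_smul] at hrM
    push_neg at hrM
    obtain ⟨v, hv, hv0⟩ := hrM
    have : r ∈ ⋃ p ∈ associatedPrimes R M, (p : Set R) := by
      rw [biUnion_associatedPrimes_eq_zero_divisors]; exact ⟨v, hv0, hv⟩
    simp only [Set.mem_iUnion] at this
    obtain ⟨p, hp, hrp⟩ := this
    haveI := hp.isPrime
    have hpmin : p ∉ minimalPrimes R := fun hpm =>
      Set.disjoint_left.1 (Ideal.disjoint_nonZeroDivisors_of_mem_minimalPrimes hpm) hrp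
        (mem_nonZeroDivisors_iff_right.2 fun y hy =>
          (isSMulRegular_iff_right_eq_zero_of_smul.1 hreg) y (by rw [smul_eq_mul, mul_comm]; exact hy))
    have hpm : p = maximalIdeal R := by
      haveI : Ring.KrullDimLE 1 R := Ring.krullDimLE_iff.2 (by rw [hdim]; rfl)
      rcases Ring.krullDimLE_one_iff.1 ‹_› p hp.isPrime with h | h
      · exact absurd h hpmin
      · exact IsLocalRing.eq_maximalIdeal h
    have hxz : x ∈ ⋃ p ∈ associatedPrimes R M, (p : Set R) :=
      Set.mem_biUnion hp (hpm ▸ hx : x ∈ p)
    rw [biUnion_associatedPrimes_eq_zero_divisors] at hxz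
    obtain ⟨w, hw0, hw⟩ := hxz
    exact hw0 ((isSMulRegular_iff_right_eq_zero_of_smul.1 hxM) w hw)

end Groth.Agent.S13996
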