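import Groth.Statements.S13998
import Groth.Agent.S1305
import Groth.Agent.S13997
import Groth.Agent.MorLib.IdealFG2
import Mathlib

set_option autoImplicit false
universe u
open FlatMor

namespace Groth.Agent.S13998

open AlgebraicGeometry CategoryTheory in
/-- Consider a cartesian square of schemes F₀ ≫ j = i ≫ F (so Y₀ = Y ×_X X₀) in which i : Y₀ ⟶ Y and j :
X₀ ⟶ X are closed immersions surjective on points whose ideals are locally nilpotent (nilpotent on
every affine open), and suppose moreover that the ideal of j is of finite type (finitely generated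
on every affine open of X). Then F : Y ⟶ X is finite if and only if F₀ : Y₀ ⟶ X₀ is finite. -/
theorem result {X X₀ Y Y₀ : Scheme.{u}}
    (F : Y ⟶ X) (F₀ : Y₀ ⟶ X₀) (i : Y₀ ⟶ Y) (j : X₀ ⟶ X)
    (hi : MoreMor.IsThickening i) (hj : MoreMor.IsThickening j)
    (hinil : ∀ U : Y.affineOpens, IsNilpotent (i.ker.ideal U))
    (hjnil : ∀ U : X.affineOpens, IsNilpotent (j.ker.ideal U))
    (hfg : ∀ U : X.affineOpens, (j.ker.ideal U).FG)
    (hc : IsPullback F₀ i j F) :
    IsFinite F ↔ IsFinite F₀ := by
  have := hj.1
  rw [IsFinite.iff_isIntegralHom_and_locallyOfFiniteType,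
    IsFinite.iff_isIntegralHom_and_locallyOfFiniteType,
    Groth.Agent.S1305.result i j F₀ F hi hj hc.w.symm]
  refine and_congr_right fun _ => Groth.Agent.S13997.result F F₀ i j hi hj hinil hjnil ?_ hc.w
  have h1 : i.ker = j.ker.comap F := by
    have h2 : IsPullback i (F₀ ≫ j.toImage) F j.imageι :=
      IsPullback.of_iso hc.flip (Iso.refl _) (Iso.refl _) (asIso j.toImage) (Iso.refl _)
        (by simp) (by simp) (by simp) (by simp)
    show i.ker = (Limits.pullback.fst F j.imageι).ker
    rw [← h2.isoPullback_hom_fst, Scheme.Hom.ker_comp_of_isIso]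
  rw [h1]
  exact MorLib.IdealFG.isFG_comap hfg F

end Groth.Agent.S13998
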