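import Groth.Statements.S14000
import Mathlib.Algebra.Homology.ShortComplex.ModuleCat
import Mathlib.RingTheory.Spectrum.Prime.FreeLocus
import Mathlib.RingTheory.LocalRing.Module
-- import your own Groth.Agent.* helpers here

set_option autoImplicit false
set_option linter.style.haveILetI false
universe u
open Perf

namespace Groth.Agent.S14000

/-- The Euler characteristic of a bounded exact complex of finite projective modules over a local ring. -/
lemma euler_exact {R : Type u} [CommRing R] [IsLocalRing R] (L : ℤ → Type u) [∀ i, AddCommGroup (L i)]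
    [∀ i, Module R (L i)] [∀ i, Module.Finite R (L i)] [∀ i, Module.Projective R (L i)]
    (d : ∀ i, L i →ₗ[R] L (i + 1)) (hex : ∀ i, Function.Exact (d i) (d (i + 1))) (a : ℤ) (n : ℕ)
    (hz : ∀ i, i < a ∨ a + n ≤ i → Subsingleton (L i)) :
    ∑ k ∈ Finset.range n, ((((a + k).negOnePow : ℤˣ) : ℤ) * (Module.finrank R (L (a + k)) : ℤ)) = 0 := by
  have key : ∀ (k : ℕ) (i : ℤ), a + n - k ≤ i →
      Module.Projective R (LinearMap.ker (d i)) ∧ Module.Finite R (LinearMap.ker (d i)) ∧
      Module.finrank R (L i) = Module.finrank R (LinearMap.ker (d i)) + Module.finrank R (LinearMap.ker (d (i + 1))) := by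
    intro k
    induction k with
    | zero =>
      intro i hi
      haveI := hz i (Or.inr (by omega))
      haveI := hz (i + 1) (Or.inr (by omega))
      refine ⟨inferInstance, inferInstance, ?_⟩
      rw [Module.finrank_zero_of_subsingleton, Module.finrank_zero_of_subsingleton,
        Module.finrank_zero_of_subsingleton]
    | succ k ih =>
      intro i hi
      obtain ⟨hp, hf, -⟩ := ih (i + 1) (by omega)
      haveI := hp
      haveI := hf
      haveI : Module.Free R (LinearMap.ker (d (i + 1))) := Module.free_of_flat_of_isLocalRing
      let p : L i →ₗ[R] LinearMap.ker (d (i + 1)) :=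
        (d i).codRestrict _ fun x => (hex i).apply_apply_eq_zero x
      have hps : Function.Surjective p := fun y => by
        obtain ⟨x, hx⟩ := (hex i y.1).1 y.2
        exact ⟨x, Subtype.ext hx⟩
      obtain ⟨s, hs⟩ := Module.projective_lifting_property p LinearMap.id hps
      have hker : LinearMap.ker p = LinearMap.ker (d i) := LinearMap.ker_codRestrict _ _ _
      let r : L i →ₗ[R] LinearMap.ker p := (LinearMap.id - s.comp p).codRestrict _ fun x => by
        simp [map_sub, show p (s (p x)) = p x from LinearMap.congr_fun hs (p x)]
      have hr : r.comp (LinearMap.ker p).subtype = LinearMap.id := LinearMap.ext fun x => Subtype.ext (by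
        simp [r])
      haveI : Module.Projective R (LinearMap.ker p) := Module.Projective.of_split (LinearMap.ker p).subtype r hr
      haveI : Module.Finite R (LinearMap.ker p) := Module.Finite.of_surjective r fun x =>
        ⟨x, LinearMap.congr_fun hr x⟩
      haveI : Module.Free R (LinearMap.ker p) := Module.free_of_flat_of_isLocalRing
      let e : L i ≃ₗ[R] LinearMap.ker p × LinearMap.ker (d (i + 1)) :=
        LinearEquiv.ofLinear (r.prod p) ((LinearMap.ker p).subtype.coprod s)
          (LinearMap.ext fun x => by
            have h1 : p (s x.2) = x.2 := LinearMap.congr_fun hs x.2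
            have h2 : p x.1.1 = 0 := x.1.2
            refine Prod.ext (Subtype.ext ?_) ?_
            · simp [r, h1, h2]
            · simp [h1])
          (LinearMap.ext fun x => by simp [r])
      rw [hker] at *
      refine ⟨inferInstance, inferInstance, ?_⟩
      rw [e.finrank_eq, Module.finrank_prod]
  have hc : ∀ i : ℤ, a ≤ i → Module.finrank R (L i) =
      Module.finrank R (LinearMap.ker (d i)) + Module.finrank R (LinearMap.ker (d (i + 1))) :=
    fun i hi => (key n i (by omega)).2.2
  let z : ℤ → ℤ := fun i => (Module.finrank R (LinearMap.ker (d i)) : ℤ)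
  have hsum : ∀ m : ℕ, ∑ k ∈ Finset.range m, ((((a + k).negOnePow : ℤˣ) : ℤ) *
      (Module.finrank R (L (a + k)) : ℤ)) =
        ((a.negOnePow : ℤˣ) : ℤ) * z a - (((a + m).negOnePow : ℤˣ) : ℤ) * z (a + m) := by
    intro m
    induction m with
    | zero => simp
    | succ m ihm =>
      rw [Finset.sum_range_succ, ihm, hc (a + m) (by omega)]
      rw [show a + ((m + 1 : ℕ) : ℤ) = a + m + 1 by push_cast; ring, Int.negOnePow_succ]
      simp only [z, Units.val_neg, Nat.cast_add]
      ring
  have h₁ : z a = 0 := by
    haveI := hz (a - 1) (Or.inl (by omega))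
    haveI : Subsingleton (LinearMap.ker (d a)) := by
      refine subsingleton_of_forall_eq 0 fun x => ?_
      obtain ⟨y, hy⟩ : ∃ y : L (a - 1), (a - 1) + 1 = a := ⟨0, by omega⟩
      have h := hex (a - 1)
      revert x
      generalize hb : a - 1 = b at h
      obtain rfl : a = b + 1 := by omega
      intro x
      haveI := hz b (Or.inl (by omega))
      obtain ⟨w, hw⟩ := (h x.1).1 x.2
      refine Subtype.ext ?_
      rw [← hw, Subsingleton.elim w 0, map_zero]
      rfl
    simp [z, Module.finrank_zero_of_subsingleton]
  have h₂ : z (a + n) = 0 := by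
    haveI := hz (a + n) (Or.inr le_rfl)
    simp [z, Module.finrank_zero_of_subsingleton]
  rw [hsum, h₁, h₂, mul_zero, mul_zero, sub_zero]


open CategoryTheory CategoryTheory.Limits in
/-- Let A be a commutative ring and P a strictly perfect complex over A, that is a cochain complex of
finitely generated projective A-modules which is zero outside a finite set s of degrees. Suppose the
cohomological support of P has positive codimension: for every minimal prime q of A and every degree
i the localization at q of the cohomology module H^i(P) is zero. Then the Euler characteristic of P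
vanishes identically: at every prime of A the alternating sum over i ∈ s of the ranks of the P^i is
zero. -/
theorem result {A : Type u} [CommRing A]
    (P : CochainComplex (ModuleCat.{u} A) ℤ) (s : Finset ℤ)
    (hP : ∀ i : ℤ, Module.Finite A (P.X i) ∧ Module.Projective A (P.X i))
    (hs : ∀ i : ℤ, i ∉ s → IsZero (P.X i))
    (hsupp : ∀ q : PrimeSpectrum A, q.asIdeal ∈ minimalPrimes A →
      ∀ i : ℤ, Subsingleton (LocalizedModule q.asIdeal.primeCompl (P.homology i))) :
    ∀ x : PrimeSpectrum A,
      (s.sum fun i => ((i.negOnePow : ℤˣ) : ℤ) * (Module.rankAtStalk (R := A) (P.X i) x : ℤ)) = 0 := by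
  intro x
  obtain ⟨Q, hQ, hQx⟩ := Ideal.exists_minimalPrimes_le (I := (⊥ : Ideal A)) (J := x.asIdeal) bot_le
  let q : PrimeSpectrum A := ⟨Q, hQ.1.1⟩
  haveI : q.asIdeal.IsPrime := q.2
  have hxq : q ⤳ x := (PrimeSpectrum.le_iff_specializes q x).1 hQx
  have hrk : ∀ i : ℤ, Module.rankAtStalk (R := A) (P.X i) x = Module.rankAtStalk (R := A) (P.X i) q := fun i => by
    haveI := (hP i).1
    haveI := (hP i).2
    haveI : Module.FinitePresentation A (P.X i) := Module.finitePresentation_of_projective A (P.X i)
    exact ((hxq.mem_open
      ((Module.isLocallyConstant_rankAtStalk (R := A) (M := P.X i)).isOpen_fiber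
        (Module.rankAtStalk (R := A) (P.X i) x)) rfl)).symm
  obtain ⟨a, n, hsub⟩ : ∃ (a : ℤ) (n : ℕ), ∀ i ∈ s, a ≤ i ∧ i < a + n := by
    refine ⟨-((∑ j ∈ s, j.natAbs : ℕ) : ℤ), 2 * (∑ j ∈ s, j.natAbs) + 1, fun i hi => ?_⟩
    have h : i.natAbs ≤ ∑ j ∈ s, j.natAbs := Finset.single_le_sum (fun _ _ => Nat.zero_le _) hi
    omega
  let S := q.asIdeal.primeCompl
  let L := fun i : ℤ => LocalizedModule S (P.X i)
  haveI : ∀ i, Module.Finite (Localization S) (L i) := fun i => by haveI := (hP i).1; infer_instance
  haveI : ∀ i, Module.Projective (Localization S) (L i) := fun i => by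
    haveI := (hP i).2
    exact Module.Projective.of_equiv (LocalizedModule.equivTensorProduct S (P.X i)).symm
  have hz : ∀ i, i < a ∨ a + n ≤ i → Subsingleton (P.X i) := fun i hi =>
    ModuleCat.subsingleton_of_isZero (hs i fun h => by have := hsub i h; omega)
  have key := euler_exact (R := Localization.AtPrime q.asIdeal) L
    (fun i => LocalizedModule.map S (P.d i (i + 1)).hom)
    (fun i y => by
      induction y using LocalizedModule.induction_on with
      | h m t =>
        constructor
        · intro h
          rw [LocalizedModule.map_mk] at h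
          obtain ⟨⟨c, hc⟩, hcm⟩ := LocalizedModule.mk_eq.1 (h.trans (LocalizedModule.zero_mk (1 : S)).symm)
          have hc0 : (P.d (i + 1) (i + 1 + 1)).hom (c • m) = 0 := by
            rw [map_smul]
            simpa [Submonoid.smul_def] using hcm
          let T := P.sc' i (i + 1) (i + 1 + 1)
          have e : P.homology (i + 1) ≅ T.moduleCatLeftHomologyData.H :=
            P.homologyIsoSc' i (i + 1) (i + 1 + 1) (by simp) (by simp) ≪≫ T.moduleCatHomologyIso
          haveI : Subsingleton (LocalizedModule S T.moduleCatLeftHomologyData.H) := by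
            haveI := hsupp q hQ (i + 1)
            exact (IsLocalizedModule.linearEquiv S (LocalizedModule.mkLinearMap S T.moduleCatLeftHomologyData.H)
              ((LocalizedModule.mkLinearMap S (P.homology (i + 1))) ∘ₗ e.toLinearEquiv.symm.toLinearMap)).toEquiv.subsingleton
          obtain ⟨r, hr, hr0⟩ := LocalizedModule.subsingleton_iff.1 this
            (T.moduleCatLeftHomologyData.π (⟨c • m, hc0⟩ : LinearMap.ker T.g.hom))
          obtain ⟨w, hw⟩ : r • (⟨c • m, hc0⟩ : LinearMap.ker T.g.hom) ∈ LinearMap.range T.moduleCatToCycles :=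
            (Submodule.Quotient.mk_eq_zero _).1 hr0
          have hw' : (P.d i (i + 1)).hom w = r • c • m := congrArg Subtype.val hw
          refine ⟨LocalizedModule.mk w (⟨r, hr⟩ * ⟨c, hc⟩ * t), ?_⟩
          rw [LocalizedModule.map_mk, hw', smul_smul]
          exact LocalizedModule.mk_cancel_common_left (⟨r, hr⟩ * ⟨c, hc⟩) t m
        · rintro ⟨w, hw⟩
          rw [← hw]
          induction w using LocalizedModule.induction_on with
          | h w t' =>
            rw [LocalizedModule.map_mk, LocalizedModule.map_mk, ← ModuleCat.comp_apply, P.d_comp_d]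
            exact LocalizedModule.zero_mk _) a n
    (fun i hi => by haveI := hz i hi; infer_instance)
  rw [Finset.sum_congr rfl fun i _ => by rw [hrk i]]
  have h0 : ∀ i ∈ Finset.image (fun k : ℕ => a + (k : ℤ)) (Finset.range n), i ∉ s →
      ((i.negOnePow : ℤˣ) : ℤ) * (Module.rankAtStalk (R := A) (P.X i) q : ℤ) = 0 := fun i _ hi => by
    haveI : Subsingleton (P.X i) := ModuleCat.subsingleton_of_isZero (hs i hi)
    simp [Module.rankAtStalk, Module.finrank_zero_of_subsingleton]
  rw [Finset.sum_subset (fun i hi => by
    have := hsub i hi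
    exact Finset.mem_image.2 ⟨(i - a).toNat, Finset.mem_range.2 (by omega), by omega⟩) h0,
    Finset.sum_image (fun k _ k' _ h => by simpa using h)]
  exact key

end Groth.Agent.S14000
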