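import Groth.Statements.S14001
import Groth.Agent.KZ.Koszul

set_option autoImplicit false
universe u
open CategoryTheory
attribute [local instance] HasDerivedCategory.standard
open KZero
open scoped ZeroObject

namespace Groth.Agent.S14001

/-- Let R be a Noetherian local ring whose maximal ideal is generated by an R-regular sequence f_1, …,
f_n. Let K_0 be the Grothendieck group of the full triangulated subcategory of D(R) consisting of
the perfect complexes all of whose cohomology modules are supported at the closed point (the perfect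
complexes acyclic off the closed point): the free abelian group on these objects modulo the
relations of distinguished triangles with all three vertices in the subcategory. Then K_0 is
generated by the class of the Koszul complex of f_1, …, f_n. -/
theorem result (R : Type u) [CommRing R]
    [IsNoetherianRing R] [IsLocalRing R] (fs : List R) (hreg : RingTheory.Sequence.IsRegular R fs)
    (hgen : Ideal.ofList fs = IsLocalRing.maximalIdeal R) :
    AddSubgroup.closure
        {KZero.clTr (fun K : Dual.D R => DRing.IsPerfect R K ∧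
            ∀ i : ℤ, Module.support R (Dual.HD R K i) ⊆ {IsLocalRing.closedPoint R})
          (DRing.toD (Koszul.koszul R fs))} = ⊤ := by
  let Q : ObjectProperty (Dual.D R) := fun K => DRing.IsPerfect R K ∧
    ∀ i : ℤ, Module.support R (Dual.HD R K i) ⊆ {IsLocalRing.closedPoint R}
  let κ := KZero.clTr Q (DRing.toD (Koszul.koszul R fs))
  let G := AddSubgroup.closure {κ}
  have hP := KZ.projClass_FP R
  have hperf : ∀ K : Dual.D R, DRing.IsPerfect R K ↔ KZ.IsPerf (KZ.FP R) K := fun K =>
    ⟨fun ⟨E, a, b, hz, ht, e⟩ => ⟨E, ⟨ht, a, b, hz⟩, e⟩,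
      fun ⟨E, ⟨ht, a, b, hz⟩, e⟩ => ⟨E, a, b, hz, ht, e⟩⟩
  -- the residue field and its resolution
  obtain ⟨eK⟩ := KZ.koszul_iso (R := R) fs (KZ.kRegular_of_isWeaklyRegular fs
    (IsLocalRing.isRegular_of_perm hreg fs.reverse_perm.symm).1)
  have hk : ∀ {X : ModuleCat.{u} R}, IsSimpleModule R X →
      Nonempty (DRing.toD (Koszul.koszul R fs) ≅
        (DerivedCategory.singleFunctor (ModuleCat.{u} R) 0).obj X) := by
    intro X hs
    obtain ⟨m, hm, ⟨e⟩⟩ := isSimpleModule_iff_quot_maximal.1 hs
    have e' : (R ⧸ Ideal.ofList fs) ≃ₗ[R] X :=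
      (Submodule.quotEquivOfEq _ _ (hgen.trans (IsLocalRing.eq_maximalIdeal hm).symm)).trans e.symm
    exact ⟨eK ≪≫ (DerivedCategory.singleFunctor (ModuleCat.{u} R) 0).mapIso e'.toModuleIso⟩
  have hperf0 : ∀ (X : Type u) [AddCommGroup X] [Module R X], IsFiniteLength R X →
      KZ.IsPerf (KZ.FP R) ((DerivedCategory.singleFunctor (ModuleCat.{u} R) 0).obj
        (ModuleCat.of R X)) := by
    intro X _ _ hX
    induction hX with
    | @of_subsingleton M _ _ _ =>
      exact KZ.IsPerf.of_isZero hP (Functor.map_isZero _ (ModuleCat.isZero_of_subsingleton _))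
    | @of_simple_quotient M _ _ N hs hN ih =>
      obtain ⟨e⟩ := hk (X := ModuleCat.of R (M ⧸ N)) hs
      let S : ShortComplex (ModuleCat.{u} R) := ShortComplex.mk (ModuleCat.ofHom N.subtype)
        (ModuleCat.ofHom N.mkQ) (ModuleCat.hom_ext (LinearMap.ext fun x =>
          (Submodule.Quotient.mk_eq_zero N).2 x.2))
      have hS : S.ShortExact :=
        { exact := (ShortComplex.ShortExact.moduleCat_exact_iff_function_exact _).2
            (LinearMap.exact_subtype_mkQ N)
          mono_f := (ModuleCat.mono_iff_injective _).2 Subtype.val_injective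
          epi_g := (ModuleCat.epi_iff_surjective _).2 (Submodule.mkQ_surjective N) }
      exact KZ.IsPerf.middle hP hS.singleTriangle_distinguished ih
        ⟨_, KZ.bdP_koszul R fs, ⟨e⟩⟩
  -- `Q` is "bounded with homology of finite length"
  have hQ : ∀ K, Q K ↔ KZ.HBdd (KZ.FL R) K := by
    intro K
    refine ⟨fun ⟨hp, hs⟩ => ⟨fun i => ?_, KZ.bounded_of_isPerf ((hperf K).1 hp)⟩, fun hK => ?_⟩
    · have := KZ.finite_homology_of_isPerf ((hperf K).1 hp) i
      exact KZ.isFiniteLength_of_support_subset _ (hs i)
    · refine ⟨(hperf K).2 ?_, fun i => KZ.support_subset_of_isFiniteLength (hK.1 i)⟩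
      refine KZ.HBdd.induction (motive := KZ.IsPerf (KZ.FP R)) (fun e h => h.of_iso e)
        (fun K h => KZ.IsPerf.of_isZero hP h) (fun X hX n => KZ.IsPerf.single (hperf0 X hX) n)
        (fun T hT _ _ _ a b => KZ.IsPerf.middle hP hT a b) hK
  obtain ⟨φ, hφ⟩ := KZ.exists_equiv (KZ.FL R) Q hQ
  have hcl : ∀ (X : Type u) [AddCommGroup X] [Module R X], IsFiniteLength R X →
      KZero.clTr Q ((DerivedCategory.singleFunctor (ModuleCat.{u} R) 0).obj
        (ModuleCat.of R X)) ∈ G := by
    intro X _ _ hX
    induction hX with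
    | @of_subsingleton M _ _ _ =>
      rw [KZ.clTr_isZero Q (Functor.map_isZero _ (ModuleCat.isZero_of_subsingleton _))]
      exact zero_mem G
    | @of_simple_quotient M _ _ N hs hN ih =>
      obtain ⟨e⟩ := hk (X := ModuleCat.of R (M ⧸ N)) hs
      let S : ShortComplex (ModuleCat.{u} R) := ShortComplex.mk (ModuleCat.ofHom N.subtype)
        (ModuleCat.ofHom N.mkQ) (ModuleCat.hom_ext (LinearMap.ext fun x =>
          (Submodule.Quotient.mk_eq_zero N).2 x.2))
      have hS : S.ShortExact :=
        { exact := (ShortComplex.ShortExact.moduleCat_exact_iff_function_exact _).2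
            (LinearMap.exact_subtype_mkQ N)
          mono_f := (ModuleCat.mono_iff_injective _).2 Subtype.val_injective
          epi_g := (ModuleCat.epi_iff_surjective _).2 (Submodule.mkQ_surjective N) }
      have hMN : IsFiniteLength R (M ⧸ N) := by
        have : IsSimpleModule R ((M ⧸ N) ⧸ (⊥ : Submodule R (M ⧸ N))) :=
          IsSimpleModule.congr (Submodule.quotEquivOfEqBot _ rfl)
        exact .of_simple_quotient (N := (⊥ : Submodule R (M ⧸ N))) .of_subsingleton
      have q1 : Q ((DerivedCategory.singleFunctor (ModuleCat.{u} R) 0).obj (ModuleCat.of R N)) :=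
        (hQ _).2 (KZ.HBdd.single _ (X := ModuleCat.of R N) hN 0)
      have q2 : Q ((DerivedCategory.singleFunctor (ModuleCat.{u} R) 0).obj (ModuleCat.of R M)) :=
        (hQ _).2 (KZ.HBdd.single _ (X := ModuleCat.of R M) (.of_simple_quotient hN) 0)
      have q3 : Q ((DerivedCategory.singleFunctor (ModuleCat.{u} R) 0).obj (ModuleCat.of R (M ⧸ N))) :=
        (hQ _).2 (KZ.HBdd.single _ (X := ModuleCat.of R (M ⧸ N)) hMN 0)
      have qK : Q (DRing.toD (Koszul.koszul R fs)) := by
        rw [hQ]
        obtain ⟨hP3, a, b, ha, hb⟩ := (hQ _).1 q3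
        exact ⟨fun i => ((DerivedCategory.homologyFunctor _ i).mapIso e).toLinearEquiv.symm.isFiniteLength
          (hP3 i), a, b, DerivedCategory.TStructure.t.isGE_of_iso e.symm a,
          DerivedCategory.TStructure.t.isLE_of_iso e.symm b⟩
      have hz : Q (0 : Dual.D R) := (hQ _).2 (KZ.HBdd.of_isZero _ (Limits.isZero_zero _))
      have h3 : KZero.clTr Q ((DerivedCategory.singleFunctor (ModuleCat.{u} R) 0).obj
          (ModuleCat.of R (M ⧸ N))) ∈ G := by
        rw [← KZ.clTr_iso Q e qK q3 (Limits.isZero_zero _) hz]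
        exact AddSubgroup.subset_closure rfl
      have := KZ.clTr_triangle Q hS.singleTriangle_distinguished q1 q2 q3
      change KZero.clTr Q ((DerivedCategory.singleFunctor (ModuleCat.{u} R) 0).obj (ModuleCat.of R M))
        ∈ G
      refine this.symm ▸ add_mem ih h3
  rw [AddSubgroup.eq_top_iff']
  intro y
  obtain ⟨x, rfl⟩ := φ.surjective y
  induction x using QuotientAddGroup.induction_on with
  | H z =>
    induction z using FreeAbelianGroup.induction_on with
    | zero =>
      rw [QuotientAddGroup.mk_zero, map_zero]; exact zero_mem G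
    | of X =>
      rw [← KZ.clSub_of_prop (KZ.FL R) X.2, hφ X.1 X.2]
      exact hcl X.1 X.2
    | neg X hX => rw [QuotientAddGroup.mk_neg, map_neg]; exact neg_mem hX
    | add a b ha hb => rw [QuotientAddGroup.mk_add, map_add]; exact add_mem ha hb

end Groth.Agent.S14001
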