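import Groth.Statements.S14002
import Groth.Agent.LocalCrit.Flatness
import Mathlib.RingTheory.Flat.Stability
import Mathlib.RingTheory.AdicCompletion.Basic


set_option autoImplicit false
universe u
open CAlg

namespace Groth.Agent.S14002

open TensorProduct in
/-- Flatness of an adic morphism of locally Noetherian formal schemes is detected on the truncations.
Let B → A be a homomorphism of Noetherian rings and J an ideal of B such that A is adically
separated and complete with respect to the extended ideal JA. Then A is a flat B-module if and only
if for every n ≥ 1 the base change (B/Jⁿ) ⊗_B A = A/JⁿA is a flat (B/Jⁿ)-module. The ring B is not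
assumed separated or complete for the J-adic topology. (The published statement is about an adic
morphism of locally Noetherian formal schemes, so that both rings are adic there; the criterion
holds without that assumption on B.) -/
theorem result (B A : Type u) [CommRing B] [CommRing A]
    [IsNoetherianRing B] [IsNoetherianRing A] [Algebra B A] (J : Ideal B)
    [IsAdicComplete (J.map (algebraMap B A)) A] :
    Module.Flat B A ↔ ∀ n : ℕ, 0 < n → Module.Flat (B ⧸ J ^ n) ((B ⧸ J ^ n) ⊗[B] A) := by
  refine ⟨fun h n _ => inferInstance, fun h => ?_⟩
  refine LocalCrit.flat_of_forall_quotient_pow (B := A) J (IsAdicComplete.le_jacobson_bot _) fun n => ?_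
  rcases n with _ | n
  · rw [pow_zero, Ideal.one_eq_top]
    intro N N' _ _ _ _ g hN _ _
    have : Subsingleton N := ⟨fun x y => by
      have hx := @hN x ⟨1, trivial⟩
      have hy := @hN y ⟨1, trivial⟩
      rw [one_smul] at hx hy
      rw [hx, hy]⟩
    exact Function.injective_of_subsingleton _
  · have := h (n + 1) n.succ_pos
    exact LocalCrit.keepsInjective_of_flat _ A

end Groth.Agent.S14002
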