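import Groth.Statements.S14004
import Groth.Agent.FComplLib.SmoothLevel
-- import your own Groth.Agent.* helpers here

set_option autoImplicit false
universe u
open CategoryTheory AlgebraicGeometry
open FSch

namespace Groth.Agent.S14004

/-- Formal schemes are modelled as ℕ-indexed systems of thickenings. Let 𝔛 and 𝔜 be locally Noetherian
adic formal systems and f : 𝔛 ⟶ 𝔜 an adic morphism (every square X_n → X_{n+1}, Y_n → Y_{n+1}
cartesian) all of whose levels f_n : X_n ⟶ Y_n are flat. Then f is smooth, in the sense that every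
level f_n is smooth, if and only if the bottom level f_0 is smooth. -/
theorem result (𝔛 𝔜 : FSch.Sys.{u})
    (h𝔛 : 𝔛.IsLocNoethFormal) (h𝔜 : 𝔜.IsLocNoethFormal) (f : 𝔛 ⟶ 𝔜) (hf : FSch.IsAdicHom f)
    (hflat : ∀ n : ℕ, Flat ((f : FSch.Hom 𝔛 𝔜).app n)) :
    (∀ n : ℕ, AlgebraicGeometry.Smooth ((f : FSch.Hom 𝔛 𝔜).app n)) ↔
      AlgebraicGeometry.Smooth ((f : FSch.Hom 𝔛 𝔜).app 0) := by
    refine ⟨fun h => h 0, fun h n => ?_⟩
    have := FComplLib.isClosedImmersion_toX h𝔜.1 n
    have := FComplLib.surjective_toX h𝔜.1 n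
    have := h𝔜.2.2 n
    have := h
    have := hflat n
    have := FComplLib.locallyOfFiniteType_of_thickening (FComplLib.isPullback_toX hf n)
    have : LocallyOfFinitePresentation ((f : FSch.Hom 𝔛 𝔜).app n) := inferInstance
    exact FComplLib.smooth_of_thickening (FComplLib.isPullback_toX hf n)

end Groth.Agent.S14004
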