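import Groth.Statements.S14005
import Mathlib.AlgebraicGeometry.Properties
import Mathlib.Topology.NoetherianSpace


set_option autoImplicit false
universe u
open CategoryTheory AlgebraicGeometry
open CohTop

namespace Groth.Agent.S14005

/-- Take a scheme X with a locally Noetherian underlying topological space, F a sheaf of abelian groups
on X, x a point of X and s an element of the stalk F_x. Then the following are equivalent: (i) s is
the germ of a section t over some open neighbourhood U of x whose support in U is contained in the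
closure of {x} (that is, s belongs to the subgroup Γ_x(F) of F_x); (ii) for every generization y ≠ x
of x the image of s under the cospecialisation map F_x → F_y is zero (that is, viewed as a global
section of the inverse image of F on Spec O_{X,x}, s is supported at the closed point). -/
theorem result {X : Scheme.{u}}
    (hX : ∀ x : X, ∃ U : X.Opens, x ∈ U ∧ TopologicalSpace.NoetherianSpace U)
    (F : TopCat.Sheaf AddCommGrpCat.{u} X.carrier) (x : X) (s : F.presheaf.stalk x) :
    (∃ (U : X.Opens) (hx : x ∈ U) (t : F.presheaf.obj (Opposite.op U)),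
        F.presheaf.germ U x hx t = s ∧
          ∀ (u : X) (hu : u ∈ U), F.presheaf.germ U u hu t ≠ 0 → u ∈ closure ({x} : Set X)) ↔
      ∀ (y : X) (h : y ⤳ x), y ≠ x → F.presheaf.stalkSpecializes h s = 0 := by
  constructor
  · rintro ⟨U, hx, t, rfl, hsupp⟩ y h hne
    rw [TopCat.Presheaf.germ_stalkSpecializes_apply]
    by_contra hy
    have h' : x ⤳ y := specializes_iff_mem_closure.2 (hsupp y (h.mem_open U.2 hx) hy)
    exact hne (h.antisymm h').eq
  · intro hgen
    obtain ⟨U₀, hx₀, hU₀⟩ := hX x
    obtain ⟨U₁, hx₁, t₁, rfl⟩ := TopCat.Presheaf.exists_germ_eq F.presheaf s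
    let W : X.Opens := U₀ ⊓ U₁
    have hxW : x ∈ W := ⟨hx₀, hx₁⟩
    let t := F.presheaf.map (homOfLE (inf_le_right : W ≤ U₁)).op t₁
    have ht : ∀ u (hu : u ∈ W), F.presheaf.germ W u hu t = F.presheaf.germ U₁ u hu.2 t₁ := fun u hu =>
      TopCat.Presheaf.germ_res_apply F.presheaf _ u hu t₁
    have : TopologicalSpace.NoetherianSpace W :=
      @Topology.IsInducing.noetherianSpace _ _ _ _ hU₀ _
        (Topology.IsEmbedding.inclusion (Set.inter_subset_left : (W : Set X) ⊆ U₀)).isInducing
    have : QuasiSober W := W.2.isOpenEmbedding_subtypeVal.quasiSober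
    let Z : Set W := {u | F.presheaf.germ W u.1 u.2 t ≠ 0}
    have hZ : IsClosed Z := by
      rw [← isOpen_compl_iff, isOpen_iff_forall_mem_open]
      intro u hu
      obtain ⟨V, huV, i₁, i₂, e⟩ := TopCat.Presheaf.germ_eq F.presheaf u.1 u.2 u.2 t 0
        ((not_not.1 hu).trans (map_zero _).symm)
      refine ⟨Subtype.val ⁻¹' (V : Set X), fun v hv => ?_, V.2.preimage continuous_subtype_val, huV⟩
      refine not_not.2 ?_
      rw [← TopCat.Presheaf.germ_res_apply F.presheaf i₁ v.1 hv t, e, map_zero, map_zero]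
    obtain ⟨S, hSf, hSc, hSi, hSeq⟩ := TopologicalSpace.NoetherianSpace.exists_finite_set_isClosed_irreducible hZ
    let B : Set W := ⋃₀ {T ∈ S | (⟨x, hxW⟩ : W) ∉ T}
    have hB : IsClosed B := by
      show IsClosed (⋃₀ {T ∈ S | (⟨x, hxW⟩ : W) ∉ T})
      rw [Set.sUnion_eq_biUnion]
      exact (hSf.subset (Set.sep_subset _ _)).isClosed_biUnion fun T hT => hSc T hT.1
    let V : X.Opens := ⟨Subtype.val '' Bᶜ, W.2.isOpenMap_subtype_val _ hB.isOpen_compl⟩
    have hVW : V ≤ W := by
      rintro _ ⟨v, -, rfl⟩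
      exact v.2
    have hxV : x ∈ V := ⟨⟨x, hxW⟩, fun ⟨T, hT, hxT⟩ => hT.2 hxT, rfl⟩
    refine ⟨V, hxV, F.presheaf.map (homOfLE hVW).op t, ?_, ?_⟩
    · rw [TopCat.Presheaf.germ_res_apply, ht]
    · intro u hu hne
      rw [TopCat.Presheaf.germ_res_apply] at hne
      obtain ⟨v, hv, rfl⟩ := hu
      have hvZ : v ∈ Z := hne
      rw [hSeq] at hvZ
      obtain ⟨T, hT, hvT⟩ := hvZ
      have hxT : (⟨x, hxW⟩ : W) ∈ T := by
        by_contra h
        exact hv ⟨T, ⟨hT, h⟩, hvT⟩
      obtain ⟨η, hη⟩ := QuasiSober.sober (hSi T hT) (hSc T hT)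
      have h1 : η.1 ⤳ x := (hη.specializes hxT).map continuous_subtype_val
      have h2 : η.1 ⤳ v.1 := (hη.specializes hvT).map continuous_subtype_val
      have hηZ : η ∈ Z := by
        rw [hSeq]
        exact ⟨T, hT, hη.mem⟩
      have e : η.1 = x := by
        by_contra h
        refine hηZ ?_
        show F.presheaf.germ W η.1 η.2 t = 0
        rw [ht, ← hgen η.1 h1 h, TopCat.Presheaf.germ_stalkSpecializes_apply]
      rw [e] at h2
      exact specializes_iff_mem_closure.1 h2

end Groth.Agent.S14005
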