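import Groth.Statements.S14006
import Groth.Agent.H26.FormalLift
import Mathlib.AlgebraicGeometry.Morphisms.FiniteType

set_option autoImplicit false
universe u
open CategoryTheory AlgebraicGeometry
open FSch

namespace Groth.Agent.S14006

/-- Formal schemes are modelled as ℕ-indexed systems of thickenings. Let S be a locally Noetherian
scheme, 𝒥 a quasi-coherent ideal of O_S, 𝔖 the completion of S along 𝒥 (the system of the closed
subschemes defined by the powers 𝒥^{n+1}) and S₀ its bottom level. Let X₀ and Y₀ be schemes smooth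
over S₀ via a and b, f : X₀ ⟶ Y₀ a morphism with f ≫ b = a, and x a point of X₀. Then there are an
open neighbourhood U₀ of x and an open V₀ of Y₀ with f(U₀) ⊆ V₀, systems 𝔘 and 𝔙 with adic morphisms
p : 𝔘 ⟶ 𝔖 and q : 𝔙 ⟶ 𝔖 (all squares cartesian) all of whose levels are smooth, a morphism Φ : 𝔘 ⟶ 𝔙
with Φ ≫ q = p, and isomorphisms of the bottom levels of 𝔘 and 𝔙 with U₀ and V₀, compatible with the
maps to S₀, under which the bottom level of Φ is the restriction U₀ ⟶ V₀ of f. In words: locally on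
X₀ the morphism f has a smooth formal lifting over 𝔖. -/
theorem result (S : Scheme.{u}) [IsLocallyNoetherian S]
    (𝒥 : S.IdealSheafData) {X₀ Y₀ : Scheme.{u}}
    (a : X₀ ⟶ (FSch.completionAlong S 𝒥).X 0) (b : Y₀ ⟶ (FSch.completionAlong S 𝒥).X 0)
    [AlgebraicGeometry.Smooth a] [AlgebraicGeometry.Smooth b] (f : X₀ ⟶ Y₀) (w : f ≫ b = a) (x : X₀) :
    ∃ (U₀ : X₀.Opens) (V₀ : Y₀.Opens) (hU : x ∈ U₀) (hUV : U₀ ≤ f ⁻¹ᵁ V₀)
      (𝔘 𝔙 : FSch.Sys.{u}) (p : 𝔘 ⟶ FSch.completionAlong S 𝒥) (q : 𝔙 ⟶ FSch.completionAlong S 𝒥)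
      (Φ : 𝔘 ⟶ 𝔙) (eU : 𝔘.X 0 ≅ U₀.toScheme) (eV : 𝔙.X 0 ≅ V₀.toScheme),
      Φ ≫ q = p ∧ FSch.IsAdicHom p ∧ FSch.IsAdicHom q ∧
      (∀ n : ℕ, AlgebraicGeometry.Smooth ((p : FSch.Hom 𝔘 _).app n)) ∧
      (∀ n : ℕ, AlgebraicGeometry.Smooth ((q : FSch.Hom 𝔙 _).app n)) ∧
      eU.hom ≫ U₀.ι ≫ a = (p : FSch.Hom 𝔘 _).app 0 ∧
      eV.hom ≫ V₀.ι ≫ b = (q : FSch.Hom 𝔙 _).app 0 ∧
      (Φ : FSch.Hom 𝔘 𝔙).app 0 ≫ eV.hom = eU.hom ≫ f.resLE V₀ U₀ hUV := by
  classical
  let s := FSch.completionToX S 𝒥 0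
  haveI : IsClosedImmersion s := inferInstanceAs (IsClosedImmersion (𝒥 ^ (0 + 1)).subschemeι)
  obtain ⟨W, hW, hsW, -⟩ := exists_isAffineOpen_mem_and_subset (U := (⊤ : S.Opens)) (x := s.base (a.base x))
    (by trivial)
  obtain ⟨V₀, hV, hfV, hVW⟩ := exists_isAffineOpen_mem_and_subset (U := b ⁻¹ᵁ (s ⁻¹ᵁ W)) (x := f.base x)
    (by
      show s.base (b.base (f.base x)) ∈ W
      rw [← Scheme.Hom.comp_apply f b, w]; exact hsW)
  obtain ⟨U₀, hU, hxU, hUV⟩ := exists_isAffineOpen_mem_and_subset (U := f ⁻¹ᵁ V₀) (x := x) hfV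
  have hUW : U₀ ≤ a ⁻¹ᵁ (s ⁻¹ᵁ W) := by
    refine le_trans hUV ?_
    rw [← w]
    exact fun z hz => hVW hz
  obtain ⟨BU, φU, jU, hφU, hsqU⟩ := H26.FormalLift.exists_smooth_affine_lift s a W hW U₀ hU hUW
  obtain ⟨BV, φV, jV, hφV, hsqV⟩ := H26.FormalLift.exists_smooth_affine_lift s b W hW V₀ hV hVW
  let qU : Spec BU ⟶ S := Spec.map φU ≫ hW.fromSpec
  let qV : Spec BV ⟶ S := Spec.map φV ≫ hW.fromSpec
  haveI hqU : AlgebraicGeometry.Smooth qU := by
    haveI : AlgebraicGeometry.Smooth (Spec.map φU) := (HasRingHomProperty.Spec_iff (P := @AlgebraicGeometry.Smooth)).mpr hφU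
    infer_instance
  haveI hqV : AlgebraicGeometry.Smooth qV := by
    haveI : AlgebraicGeometry.Smooth (Spec.map φV) := (HasRingHomProperty.Spec_iff (P := @AlgebraicGeometry.Smooth)).mpr hφV
    infer_instance
  let K := FSch.completionAlong S 𝒥
  let c : ∀ n, K.X n ⟶ S := fun n => FSch.completionToX S 𝒥 n
  haveI : ∀ n, IsClosedImmersion (c n) := fun n => inferInstanceAs (IsClosedImmersion (𝒥 ^ (n + 1)).subschemeι)
  have hc : ∀ n, K.ι n ≫ c (n + 1) = c n := fun n => Scheme.IdealSheafData.inclusion_subschemeι _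
  haveI hci : ∀ n, IsClosedImmersion (K.ι n) := fun n =>
    haveI : IsClosedImmersion (K.ι n ≫ c (n + 1)) := by rw [hc n]; infer_instance
    IsClosedImmersion.of_comp (K.ι n) (c (n + 1))
  let U : ℕ → Scheme.{u} := fun n => Limits.pullback qU (c n)
  let V : ℕ → Scheme.{u} := fun n => Limits.pullback qV (c n)
  let tU : ∀ n, U n ⟶ U (n + 1) := fun n => Limits.pullback.lift (Limits.pullback.fst _ _) (Limits.pullback.snd _ _ ≫ K.ι n)
    (by rw [Category.assoc, hc, Limits.pullback.condition])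
  let tV : ∀ n, V n ⟶ V (n + 1) := fun n => Limits.pullback.lift (Limits.pullback.fst _ _) (Limits.pullback.snd _ _ ≫ K.ι n)
    (by rw [Category.assoc, hc, Limits.pullback.condition])
  have adU : ∀ n, IsPullback (tU n) (Limits.pullback.snd qU (c n)) (Limits.pullback.snd qU (c (n + 1))) (K.ι n) := fun n =>
    IsPullback.of_right (by rw [Limits.pullback.lift_fst, hc]; exact IsPullback.of_hasPullback qU (c n))
      (Limits.pullback.lift_snd _ _ _) (IsPullback.of_hasPullback qU (c (n + 1)))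
  have adV : ∀ n, IsPullback (tV n) (Limits.pullback.snd qV (c n)) (Limits.pullback.snd qV (c (n + 1))) (K.ι n) := fun n =>
    IsPullback.of_right (by rw [Limits.pullback.lift_fst, hc]; exact IsPullback.of_hasPullback qV (c n))
      (Limits.pullback.lift_snd _ _ _) (IsPullback.of_hasPullback qV (c (n + 1)))
  have surjι : ∀ n, Surjective (K.ι n) := by
    intro n
    constructor
    intro z
    have h1 : ((c n).base '' Set.univ) = ((c (n + 1)).base '' Set.univ) := by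
      rw [Set.image_univ, Set.image_univ]
      show Set.range ((𝒥 ^ (n + 1)).subschemeι) = Set.range ((𝒥 ^ (n + 1 + 1)).subschemeι)
      rw [Scheme.IdealSheafData.range_subschemeι, Scheme.IdealSheafData.range_subschemeι,
        Scheme.IdealSheafData.support_pow_succ, Scheme.IdealSheafData.support_pow_succ]
    obtain ⟨y, -, hy⟩ := h1.ge ⟨z, trivial, rfl⟩
    refine ⟨y, (c (n + 1)).isClosedEmbedding.injective ?_⟩
    rw [← Scheme.Hom.comp_apply, hc, hy]
  have surjt : ∀ n, Function.Surjective (tU n).base := fun n =>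
    (MorphismProperty.of_isPullback (P := @Surjective) (adU n).flip (surjι n)).1
  haveI hUci : ∀ n, IsClosedImmersion (tU n) := fun n => MorphismProperty.of_isPullback (P := @IsClosedImmersion) (adU n).flip (hci n)
  haveI hUaff : ∀ n, IsAffine (U n) := fun n => isAffine_of_isAffineHom (Limits.pullback.fst qU (c n))
  haveI hUnoeth : ∀ n, IsNoetherianRing Γ(U n, ⊤) := by
    intro n
    haveI : IsNoetherianRing Γ(S, W) := IsLocallyNoetherian.component_noetherian ⟨W, hW⟩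
    have hft : φU.hom.FiniteType := RingHom.FiniteType.of_finitePresentation hφU.finitePresentation
    letI := φU.hom.toAlgebra
    haveI : Algebra.FiniteType Γ(S, W) BU := hft
    haveI : IsNoetherianRing BU := Algebra.FiniteType.isNoetherianRing Γ(S, W) BU
    have h := (Limits.pullback.fst qU (c n)).app_surjective ⊤ (isAffineOpen_top _)
    haveI : IsNoetherianRing Γ(Spec BU, ⊤) :=
      isNoetherianRing_of_ringEquiv _ (Scheme.ΓSpecIso BU).symm.commRingCatIsoToRingEquiv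
    exact isNoetherianRing_of_surjective _ _ (Limits.pullback.fst qU (c n)).appTop.hom h
  let i₀ : U 0 ≅ (U₀ : Scheme.{u}) := hsqU.isoPullback.symm
  let j₀ : V 0 ≅ (V₀ : Scheme.{u}) := hsqV.isoPullback.symm
  let Φ₀ : U 0 ⟶ Spec BV := i₀.hom ≫ f.resLE V₀ U₀ hUV ≫ jV
  have hres : f.resLE V₀ U₀ hUV ≫ V₀.ι ≫ b = U₀.ι ≫ a := by
    rw [← Category.assoc, Scheme.Hom.resLE_comp_ι, Category.assoc, w]
  have hΦ₀ : Φ₀ ≫ Spec.map φV = Limits.pullback.fst qU (c 0) ≫ Spec.map φU := by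
    rw [← cancel_mono hW.fromSpec]
    simp only [Category.assoc, Φ₀]
    rw [hsqV.w]
    change i₀.hom ≫ _ = Limits.pullback.fst qU (c 0) ≫ qU
    rw [Limits.pullback.condition (f := qU) (g := c 0)]
    have : i₀.hom ≫ U₀.ι ≫ a = Limits.pullback.snd qU (c 0) := by
      rw [Iso.symm_hom, IsPullback.isoPullback_inv_snd]
    rw [← this]
    simp only [Category.assoc]
    rw [reassoc_of% hres]
  have step : ∀ n (φ : {l : U n ⟶ Spec BV // l ≫ Spec.map φV = Limits.pullback.fst qU (c n) ≫ Spec.map φU}),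
      ∃ ψ : {l : U (n + 1) ⟶ Spec BV // l ≫ Spec.map φV = Limits.pullback.fst qU (c (n + 1)) ≫ Spec.map φU},
        tU n ≫ ψ.1 = φ.1 := by
    intro n φ
    obtain ⟨l, hl1, hl2⟩ := H26.FormalLift.exists_lift_of_thickening φV hφV.formallySmooth (tU n) (surjt n) φ.1
      (Limits.pullback.fst qU (c (n + 1)) ≫ Spec.map φU) (by
        rw [φ.2, ← Category.assoc]
        congr 1
        exact Limits.pullback.lift_fst _ _ _)
    exact ⟨⟨l, hl2⟩, hl1⟩
  choose nxt hnxt using step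
  let φs : ∀ n, {l : U n ⟶ Spec BV // l ≫ Spec.map φV = Limits.pullback.fst qU (c n) ≫ Spec.map φU} :=
    fun n => Nat.rec ⟨Φ₀, hΦ₀⟩ (fun n p => nxt n p) n
  have hφs : ∀ n, tU n ≫ (φs (n + 1)).1 = (φs n).1 := fun n => hnxt n (φs n)
  let 𝔘 : FSch.Sys.{u} := ⟨U, tU⟩
  let 𝔙 : FSch.Sys.{u} := ⟨V, tV⟩
  let p : FSch.Hom 𝔘 K := ⟨fun n => Limits.pullback.snd qU (c n), fun n => (adU n).w.symm⟩
  let q : FSch.Hom 𝔙 K := ⟨fun n => Limits.pullback.snd qV (c n), fun n => (adV n).w.symm⟩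
  let Φ : FSch.Hom 𝔘 𝔙 := ⟨fun n => Limits.pullback.lift (φs n).1 (Limits.pullback.snd qU (c n)) (by
      rw [← Category.assoc, (φs n).2, Category.assoc]; exact Limits.pullback.condition), fun n => by
      apply Limits.pullback.hom_ext
      · show (_ ≫ tV n) ≫ _ = (tU n ≫ _) ≫ _
        simp only [Category.assoc, tV, Limits.pullback.lift_fst]
        exact (hφs n).symm
      · show (_ ≫ tV n) ≫ _ = (tU n ≫ _) ≫ _
        simp only [Category.assoc, tV, Limits.pullback.lift_snd, Limits.pullback.lift_snd_assoc]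
        exact (Limits.pullback.lift_snd _ _ _).symm⟩
  refine ⟨U₀, V₀, hxU, hUV, 𝔘, 𝔙, p, q, Φ, i₀, j₀, ?_, adU, adV, fun n => ?_, fun n => ?_, ?_, ?_, ?_⟩
  · exact FSch.Hom.ext (funext fun n => Limits.pullback.lift_snd _ _ _)
  · exact MorphismProperty.pullback_snd (P := @AlgebraicGeometry.Smooth) qU (c n) hqU
  · exact MorphismProperty.pullback_snd (P := @AlgebraicGeometry.Smooth) qV (c n) hqV
  · show i₀.hom ≫ U₀.ι ≫ a = _
    rw [Iso.symm_hom, IsPullback.isoPullback_inv_snd]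
  · show j₀.hom ≫ V₀.ι ≫ b = _
    rw [Iso.symm_hom, IsPullback.isoPullback_inv_snd]
  · show Limits.pullback.lift (φs 0).1 _ _ ≫ j₀.hom = i₀.hom ≫ _
    refine (cancel_mono j₀.inv).1 ?_
    simp only [Category.assoc, Iso.hom_inv_id, Category.comp_id]
    apply Limits.pullback.hom_ext
    · rw [Limits.pullback.lift_fst]
      exact congrArg (fun t => i₀.hom ≫ f.resLE V₀ U₀ hUV ≫ t) hsqV.isoPullback_hom_fst.symm
    · rw [Limits.pullback.lift_snd]
      exact ((congrArg (fun t => i₀.hom ≫ f.resLE V₀ U₀ hUV ≫ t) hsqV.isoPullback_hom_snd).trans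
        ((congrArg (fun t => i₀.hom ≫ t) hres).trans hsqU.isoPullback_inv_snd)).symm

end Groth.Agent.S14006
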