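import Groth.Statements.S14008
import Groth.Agent.S13997


set_option autoImplicit false
set_option linter.style.haveILetI false
universe u
open FlatMor

namespace Groth.Agent.S14008
open AlgebraicGeometry in
theorem lfp_of_lft {X Y : Scheme.{u}} (f : X ⟶ Y) [IsLocallyNoetherian Y] (h : LocallyOfFiniteType f) :
    LocallyOfFinitePresentation f := by
  rw [HasRingHomProperty.iff_appLE (P := @LocallyOfFinitePresentation)]
  intro U V e
  have hU : IsNoetherianRing Γ(Y, U) := IsLocallyNoetherian.component_noetherian U
  exact (RingHom.FinitePresentation.of_finiteType).1 (HasRingHomProperty.appLE @LocallyOfFiniteType f h U V e)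


open AlgebraicGeometry CategoryTheory in
/-- Consider a commutative square of schemes F₀ ≫ j = i ≫ F in which i : Y₀ ⟶ Y and j : X₀ ⟶ X are
closed immersions surjective on points whose ideals are nilpotent on every affine open, the ideal of
i being moreover finitely generated on every affine open of Y, and assume that X is locally
Noetherian. Then F : Y ⟶ X is locally of finite presentation if and only if F₀ : Y₀ ⟶ X₀ is. The
square is not assumed cartesian. -/
theorem result
    {X X₀ Y Y₀ : Scheme.{u}} [IsLocallyNoetherian X]
    (F : Y ⟶ X) (F₀ : Y₀ ⟶ X₀) (i : Y₀ ⟶ Y) (j : X₀ ⟶ X)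
    (hi : MoreMor.IsThickening i) (hj : MoreMor.IsThickening j)
    (hinil : ∀ U : Y.affineOpens, IsNilpotent (i.ker.ideal U))
    (hjnil : ∀ U : X.affineOpens, IsNilpotent (j.ker.ideal U))
    (hfg : ∀ U : Y.affineOpens, (i.ker.ideal U).FG)
    (w : F₀ ≫ j = i ≫ F) :
    LocallyOfFinitePresentation F ↔ LocallyOfFinitePresentation F₀ := by
  have hX₀ : IsLocallyNoetherian X₀ := by
    haveI := hj.1
    exact LocallyOfFiniteType.isLocallyNoetherian j
  have key := Groth.Agent.S13997.result F F₀ i j hi hj hinil hjnil hfg w
  constructor
  · intro h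
    exact lfp_of_lft F₀ (key.1 inferInstance)
  · intro h
    exact lfp_of_lft F (key.2 inferInstance)

end Groth.Agent.S14008
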