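import Groth.Statements.S1401
import Groth.Agent.ConsPropLib.QuasiAffine
-- import your own Groth.Agent.* helpers here

set_option autoImplicit false
set_option backward.isDefEq.respectTransparency.types false
universe u
open FlatMor

namespace Groth.Agent.S1401

open AlgebraicGeometry CategoryTheory Limits in
/-- Let S' → S be flat, surjective and quasi-compact and let f' be the base change of f : X → S to S'.
If f' is ind-quasi-affine then so is f. -/
theorem result {X S X' S' : Scheme.{u}} (f : X ⟶ S) (f' : X' ⟶ S') (g' : X' ⟶ X) (g : S' ⟶ S)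
    [Flat g] [Surjective g] [QuasiCompact g] (hc : IsPullback g' f' f g) (hf' : MoreMor.IsIndQuasiAffineHom f') : MoreMor.IsIndQuasiAffineHom f := by
  refine (MorLib.IQA.indQA_iff f).2 fun V hV U hU hle => ?_
  haveI : IsAffine (V : Scheme.{u}) := hV
  haveI : CompactSpace (U : Scheme.{u}) := isCompact_iff_compactSpace.mp hU
  let a : (U : Scheme.{u}) ⟶ (V : Scheme.{u}) := f.resLE V U hle
  let b : (g ⁻¹ᵁ V : Scheme.{u}) ⟶ (V : Scheme.{u}) := g ∣_ V
  haveI := ConsPropLib.fpqc_qa.{u}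
  have hb : (@Surjective ⊓ @Flat ⊓ @QuasiCompact : MorphismProperty Scheme.{u}) b :=
    ⟨⟨IsZariskiLocalAtTarget.restrict ‹Surjective g› V, IsZariskiLocalAtTarget.restrict ‹Flat g› V⟩,
      IsZariskiLocalAtTarget.restrict ‹QuasiCompact g› V⟩
  refine (ConsPropLib.qa_iff_of_isAffine a).1 (MorphismProperty.of_pullback_snd_of_descendsAlong
    (Q := (@Surjective ⊓ @Flat ⊓ @QuasiCompact : MorphismProperty Scheme.{u})) hb ?_)
  haveI : QuasiCompact a := quasiCompact_of_compactSpace a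
  have hout : IsPullback (pullback.fst a b) (pullback.snd a b ≫ (g ⁻¹ᵁ V).ι) (a ≫ V.ι) g :=
    (IsPullback.of_hasPullback a b).paste_vert (isPullback_morphismRestrict g V)
  have w : pullback.fst a b ≫ U.ι ≫ f = (pullback.snd a b ≫ (g ⁻¹ᵁ V).ι) ≫ g := by
    rw [← hout.w, Scheme.Hom.resLE_comp_ι]
  let m : pullback a b ⟶ X' := hc.lift (pullback.fst a b ≫ U.ι) (pullback.snd a b ≫ (g ⁻¹ᵁ V).ι)
    (by rw [Category.assoc, w])
  have hm : IsPullback (pullback.fst a b) m U.ι g' := by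
    refine IsPullback.of_bot ?_ (hc.lift_fst _ _ _).symm hc
    rw [hc.lift_snd, ← Scheme.Hom.resLE_comp_ι f hle]
    exact hout
  haveI : IsOpenImmersion m :=
    MorphismProperty.of_isPullback (P := (@IsOpenImmersion : MorphismProperty Scheme.{u})) hm inferInstance
  rw [IsZariskiLocalAtTarget.iff_of_iSup_eq_top (P := ConsPropLib.qa.{u}) _
    (iSup_affineOpens_eq_top (g ⁻¹ᵁ V).toScheme)]
  intro W
  haveI : IsAffine (W.1 : Scheme.{u}) := W.2
  refine (ConsPropLib.qa_iff_of_isAffine _).2 ?_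
  let P₀ : (pullback a b).Opens := pullback.snd a b ⁻¹ᵁ W.1
  have hP₀ : IsCompact (P₀ : Set ↥(pullback a b)) :=
    QuasiCompact.isCompact_preimage _ W.1.2 W.2.isCompact
  have hW : IsAffineOpen ((g ⁻¹ᵁ V).ι ''ᵁ W.1) := W.2.image_of_isOpenImmersion _
  haveI := (MorLib.IQA.indQA_iff f').1 hf' _ hW (m ''ᵁ P₀) (hP₀.image m.continuous) (by
    rintro _ ⟨z, hz, rfl⟩
    refine ⟨pullback.snd a b z, hz, ?_⟩
    have h2 : m ≫ f' = pullback.snd a b ≫ (g ⁻¹ᵁ V).ι := hc.lift_snd _ _ _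
    show (pullback.snd a b ≫ (g ⁻¹ᵁ V).ι).base z = (m ≫ f').base z
    rw [h2])
  exact MorLib.IQA.qa_of_iso (m.isoImage P₀)

end Groth.Agent.S1401
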