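import Groth.Statements.S14016
import Groth.Agent.EtFound.ExtRealize
import Groth.Agent.ProEtLib.EpsExt
-- import your own Groth.Agent.* helpers here

set_option autoImplicit false
open CategoryTheory CategoryTheory.Limits AlgebraicGeometry Opposite
universe u
open ProEtS

namespace Groth.Agent.S14016

/-- Let X be a scheme and S a weak Serre subcategory of the abelian sheaves on the small étale site of
X, i.e. a property of objects holding for a zero object and closed under kernels, cokernels and
extensions. Then the essential image of S under the pullback ε⁻¹ to the small pro-étale site (the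
abelian pro-étale sheaves isomorphic to ε⁻¹G for some G satisfying S) is again a weak Serre
subcategory, now of the abelian sheaves on the small pro-étale site of X. (Continuity of the
inclusion of the étale site into the pro-étale site is carried as a binder.) -/
theorem result
    (X : Scheme.{u}) [ProEtS.EpsCont X]
    (S : ObjectProperty (EtCoh.Ab X)) [WSerre.IsWeakSerre S] :
    WSerre.IsWeakSerre (fun F : ProEtS.AbP X => ∃ G : EtCoh.Ab X, S G ∧ Nonempty ((ProEtS.epsPull X).obj G ≅ F)) := by
  haveI := ProEtLib.preservesFiniteLimits_epsPull (X := X)
  haveI : Limits.PreservesColimitsOfSize.{0, 0} (ProEtS.epsPull X) := (ProEtS.epsAdj X).leftAdjoint_preservesColimits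
  haveI : IsIso (ProEtS.epsAdj X).unit :=
    haveI := ProEtLib.isIso_unit_eps (X := X)
    NatIso.isIso_of_isIso_app _
  haveI := (ProEtS.epsAdj X).fullyFaithfulLOfIsIsoUnit.full
  haveI := (ProEtS.epsAdj X).fullyFaithfulLOfIsIsoUnit.faithful
  exact EtFound.isWeakSerre_image (ProEtS.epsPull X)
    (fun Q F => (ProEtLib.mapExt_epsPull_bijective Q F 1).2) S

end Groth.Agent.S14016
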