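import Groth.Statements.S14017
import Groth.Agent.SiteBase.RightExact
import Mathlib.CategoryTheory.Sites.EpiMono
import Mathlib.CategoryTheory.Limits.Shapes.Biproducts
import Mathlib.Algebra.Homology.ShortComplex.ModuleCat
import Mathlib.CategoryTheory.Sites.Abelian
import Mathlib.RingTheory.Finiteness.Basic

set_option autoImplicit false
open CategoryTheory CategoryTheory.Limits AlgebraicGeometry Opposite
universe u
open EtModW

namespace Groth.Agent.S14017

/-- Let X be a scheme, Λ a commutative ring and I a finitely generated ideal of Λ; let F be a sheaf of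
Λ-modules on the small pro-étale site of X and p : F ⟶ Q a quotient map modulo I (Q is killed by I
and every morphism out of F killed by I factors uniquely through p, so Q = F/IF); let U be a weakly
contractible object of the pro-étale site. Then the map on sections F(U) → Q(U) is surjective and
its kernel is exactly the submodule I·F(U): sections over a weakly contractible object commute with
forming IF and F/IF. (The published lemma is for sheaves of Λ-modules on an arbitrary site and a
weakly contractible object of it; this row states the case of the small pro-étale site of a scheme.) -/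
theorem result
    (Λ : Type (u + 1)) [CommRing Λ] (I : Ideal Λ) (hI : I.FG)
    (X : Scheme.{u}) (F Q : EtModW.ModP Λ X) (p : F ⟶ Q) (hp : ARSys.IsQuot I p)
    (U : X.ProEt) (hU : ProEtS.IsWC U) :
    Function.Surjective (p.hom.app (op U)).hom ∧
      LinearMap.ker (p.hom.app (op U)).hom = I • (⊤ : Submodule Λ (F.obj.obj (op U))) := by
  classical
  have : HasFiniteBiproducts (EtModW.ModP Λ X) := Abelian.hasFiniteBiproducts
  obtain ⟨s, hs⟩ := hI
  let g : (⨁ fun _ : (s : Set Λ) => F) ⟶ F := biproduct.desc fun a => (a.1 : Λ) • 𝟙 F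
  have hkilled : ∀ {Y : EtModW.ModP Λ X} (φ : F ⟶ Y), g ≫ φ = 0 → ARSys.HomKilledBy I φ := fun φ h a ha => by
    rw [← hs] at ha
    refine Submodule.span_induction (fun b hb => ?_) (zero_smul _ _) (fun b c _ _ hb hc => ?_) (fun c b _ hb => ?_) ha
    · have := congrArg (biproduct.ι (fun _ : (s : Set Λ) => F) ⟨b, hb⟩ ≫ ·) h
      simpa [g, Linear.smul_comp] using this
    · rw [add_smul, hb, hc, add_zero]
    · rw [smul_eq_mul, mul_smul, hb, smul_zero]
  have hgp : g ≫ p = 0 := biproduct.hom_ext' _ _ fun a => by
    have h := congrArg (p ≫ ·) (hp.1 a.1 (hs ▸ Submodule.subset_span a.2))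
    simpa [g, Linear.comp_smul, Linear.smul_comp] using h
  have hcolim : IsColimit (CokernelCofork.ofπ p hgp) :=
    CokernelCofork.IsColimit.ofπ _ _ (fun φ hφ => (hp.2 _ φ (hkilled φ hφ)).exists.choose)
      (fun φ hφ => (hp.2 _ φ (hkilled φ hφ)).exists.choose_spec)
      (fun φ hφ m hm => (hp.2 _ φ (hkilled φ hφ)).unique hm (hp.2 _ φ (hkilled φ hφ)).exists.choose_spec)
  let S := ShortComplex.mk g p hgp
  have hS : S.Exact := ShortComplex.exact_of_g_is_cokernel _ hcolim
  let ev := sheafToPresheaf (Scheme.ProEt.topology X) (ModuleCat.{u + 1} Λ) ⋙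
    (evaluation _ (ModuleCat.{u + 1} Λ)).obj (op U)
  have hep : ev.PreservesEpimorphisms := ⟨fun {A B} φ _ => (ModuleCat.epi_iff_surjective _).2 <| by
    have h := (Sheaf.isLocallySurjective_iff_epi' _ φ).2 inferInstance
    let ψ := (sheafCompose (Scheme.ProEt.topology X) (forget (ModuleCat.{u + 1} Λ))).map φ
    have : Sheaf.IsLocallySurjective ψ :=
      (Presheaf.isLocallySurjective_iff_whisker_forget (Scheme.ProEt.topology X) φ.hom).1 h
    exact hU _ _ ψ (Sheaf.epi_of_isLocallySurjective _)⟩
  have : PreservesFiniteColimits ev := SiteBase.preservesFiniteColimits_of_preservesEpis ev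
  have hepi : Epi p := Cofork.IsColimit.epi hcolim
  have hsurj : Function.Surjective (ev.map p).hom := (ModuleCat.epi_iff_surjective _).1 (hep.preserves p)
  have hex : (S.map ev).Exact := hS.map_of_epi_of_preservesCokernel ev hepi inferInstance
  refine ⟨hsurj, le_antisymm (fun x hx => ?_) (Submodule.smul_le.2 fun a ha x _ => ?_)⟩
  · obtain ⟨y, hy⟩ := (ShortComplex.moduleCat_exact_iff _).1 hex x hx
    have hy' : (ev.map g).hom y = x := hy
    rw [← hy']
    have e : g = ∑ a : (s : Set Λ), biproduct.π (fun _ : (s : Set Λ) => F) a ≫ (a.1 • 𝟙 F) := by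
      refine biproduct.hom_ext' _ _ fun a => ?_
      simp only [g, biproduct.ι_desc, Preadditive.comp_sum]
      rw [Finset.sum_eq_single a]
      · simp
      · intro b _ hb; simp [biproduct.ι_π_ne _ (Ne.symm hb)]
      · simp
    rw [e, ev.map_sum, ModuleCat.hom_sum, LinearMap.sum_apply]
    refine Submodule.sum_mem _ fun a _ => ?_
    show (a.1 • (ev.map (biproduct.π (fun _ : (s : Set Λ) => F) a)).hom y) ∈ _
    exact Submodule.smul_mem_smul (hs ▸ Submodule.subset_span a.2) trivial
  · show (ev.map p).hom (a • x) = 0
    rw [map_smul]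
    have h := congrArg (fun φ => (ev.map φ).hom ((ev.map p).hom x)) (hp.1 a ha)
    exact h.trans rfl

end Groth.Agent.S14017
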