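import Mathlib.CategoryTheory.Sites.EpiMono
import Mathlib.CategoryTheory.Sites.Limits
import Mathlib.CategoryTheory.Limits.Types.Limits
import Groth.Statements.S14018


set_option autoImplicit false
open CategoryTheory CategoryTheory.Limits Opposite
universe w v u
open CohSite

namespace Groth.Agent.S14018

/-- Let (C, J) be a site with enough weakly contractible objects — every object V has a covering sieve
all of whose arrows factor through some weakly contractible object, an object U being weakly
contractible when every epimorphism of sheaves of sets (valued in a fixed universe) is surjective on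
sections over U. Then the topos of sheaves of sets is replete: if (F_n) is an inverse system of
sheaves of sets indexed by ℕ with every transition map F_(n+1) ⟶ F_n an epimorphism, then each
projection lim_n F_n ⟶ F_n is an epimorphism; the limit is taken as any limit cone. (The small
pro-étale site of a scheme is such a site.) -/
theorem result
    {C : Type u} [Category.{v} C] (J : GrothendieckTopology C)
    (hwc : ∀ V : C, ∃ S : Sieve V, S ∈ J V ∧ ∀ ⦃W : C⦄ (f : W ⟶ V), S.arrows f →
      ∃ (U : C) (g : W ⟶ U) (h : U ⟶ V), (∀ (A B : Sheaf J (Type w)) (ψ : A ⟶ B), Epi ψ → Function.Surjective (ψ.hom.app (op U))) ∧ g ≫ h = f)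
    (F : ℕᵒᵖ ⥤ Sheaf J (Type w))
    (hF : ∀ n : ℕ, Epi (F.map (homOfLE (Nat.le_succ n)).op))
    (c : Cone F) (hc : IsLimit c) (n : ℕ) :
    Epi (c.π.app (op n)) := by
  have : Sheaf.IsLocallySurjective (c.π.app (op n)) := ⟨fun {V} s => by
    obtain ⟨S, hS, hfac⟩ := hwc V
    refine J.superset_covering (fun W f hf => ?_) hS
    obtain ⟨U, g, h, hU, rfl⟩ := hfac f hf
    let G : ℕᵒᵖ ⥤ Type w := F ⋙ sheafToPresheaf J (Type w) ⋙ (evaluation Cᵒᵖ (Type w)).obj (op U)
    have hs : ∀ m : ℕ, Function.Surjective (G.map (homOfLE (Nat.le_succ m)).op) := fun m => hU _ _ _ (hF m)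
    let t : G.obj (op n) := (F.obj (op n)).obj.map h.op s
    -- a compatible family through `t`
    let up : ∀ k : ℕ, G.obj (op (n + k)) := fun k => Nat.rec t (fun j x => (hs (n + j) x).choose) k
    have hup : ∀ k, G.map (homOfLE (Nat.le_succ (n + k))).op (up (k + 1)) = up k := fun k =>
      (hs (n + k) (up k)).choose_spec
    have hup' : ∀ (a b : ℕ) (hab : a ≤ b), G.map (homOfLE (Nat.add_le_add_left hab n)).op (up b) = up a := by
      intro a b hab
      induction hab with
      | refl => simp
      | @step b hab ih =>
        rw [← ih, ← hup b, ← Functor.map_comp_apply]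
        rfl
    let sec : ∀ m : ℕᵒᵖ, G.obj m := fun m => G.map (homOfLE (Nat.le_add_left m.unop n)).op (up m.unop)
    have hsec : ∀ {a b : ℕᵒᵖ} (q : a ⟶ b), G.map q (sec a) = sec b := by
      intro a b q
      have hba : b.unop ≤ a.unop := leOfHom q.unop
      show G.map q (G.map _ (up a.unop)) = G.map _ (up b.unop)
      rw [← hup' b.unop a.unop hba, ← Functor.map_comp_apply, ← Functor.map_comp_apply]
      rfl
    have hl : IsLimit ((sheafToPresheaf J (Type w) ⋙ (evaluation Cᵒᵖ (Type w)).obj (op U)).mapCone c) :=
      isLimitOfPreserves _ hc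
    let e := Types.isLimitEquivSections hl
    let x := e.symm ⟨sec, fun q => hsec q⟩
    have hx : (c.π.app (op n)).hom.app (op U) x = t := by
      refine (Types.isLimitEquivSections_symm_apply hl ⟨sec, fun q => hsec q⟩ (op n)).trans ?_
      exact hup' 0 n (Nat.zero_le n)
    refine ⟨c.pt.obj.map g.op x, ?_⟩
    show (c.π.app (op n)).hom.app (op W) (c.pt.obj.map g.op x) = (F.obj (op n)).obj.map (g ≫ h).op s
    refine (ConcreteCategory.congr_hom ((c.π.app (op n)).hom.naturality g.op) x).trans ?_
    refine (congrArg (fun z => (F.obj (op n)).obj.map g.op z) hx).trans ?_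
    exact ((congrArg (fun q => (F.obj (op n)).obj.map q s) (op_comp (f := g) (g := h))).trans
      (Functor.map_comp_apply _ _ _ _)).symm⟩
  exact Sheaf.epi_of_isLocallySurjective _

end Groth.Agent.S14018
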