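import Groth.Statements.S1402
import Groth.Agent.MorLib.IndQA

set_option autoImplicit false
universe u
open FlatMor

namespace Groth.Agent.S1402

open AlgebraicGeometry CategoryTheory Limits in
/-- A separated, locally quasi-finite morphism is ind-quasi-affine. -/
theorem result {X Y : Scheme.{u}} (f : X ⟶ Y) [IsSeparated f] [LocallyQuasiFinite f] [LocallyOfFiniteType f] :
    MoreMor.IsIndQuasiAffineHom f := by
  exact Groth.Agent.MorLib.IQA.indQA_of_locallyQuasiFinite f

end Groth.Agent.S1402
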