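import Groth.Statements.S14020
import Mathlib

set_option autoImplicit false
universe u
open CAlg

namespace Groth.Agent.S14020

/-- Let R be a commutative ring and I a finitely generated ideal such that the quotient ring R/I is
artinian. Then R/I^n is artinian for every n. -/
theorem result
    (R : Type u) [CommRing R] (I : Ideal R) (hI : I.FG) [IsArtinianRing (R ⧸ I)] (n : ℕ) :
    IsArtinianRing (R ⧸ I ^ n) := by
  rcases Nat.eq_zero_or_pos n with rfl | hn
  · rw [pow_zero, Ideal.one_eq_top]; infer_instance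
  have hle : ∀ P : Ideal (R ⧸ I ^ n), P.IsPrime → I ≤ P.comap (Ideal.Quotient.mk (I ^ n)) := by
    intro P hP
    refine (hP.comap (Ideal.Quotient.mk (I ^ n))).le_of_pow_le (n := n) fun x hx => ?_
    rw [Ideal.mem_comap, Ideal.Quotient.eq_zero_iff_mem.2 hx]
    exact zero_mem _
  have : IsNoetherianRing (R ⧸ I ^ n) := by
    refine IsNoetherianRing.of_prime fun P hP => ?_
    have hfg : (P.comap (Ideal.Quotient.mk (I ^ n))).FG := by
      refine Submodule.fg_of_fg_map_of_fg_inf_ker I.mkQ ?_ ?_
      · let N : Submodule (R ⧸ I) (R ⧸ I) :=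
          { toAddSubmonoid := (Submodule.map I.mkQ (P.comap (Ideal.Quotient.mk (I ^ n)))).toAddSubmonoid
            smul_mem' := fun c x hx => by
              obtain ⟨c, rfl⟩ := Ideal.Quotient.mk_surjective c
              exact (Submodule.map I.mkQ (P.comap (Ideal.Quotient.mk (I ^ n)))).smul_mem c hx }
        obtain ⟨t, ht⟩ := (IsNoetherian.noetherian N : N.FG)
        refine ⟨t, ?_⟩
        rw [← Submodule.restrictScalars_span R (R ⧸ I) Ideal.Quotient.mk_surjective, ht]
        rfl
      · rw [Submodule.ker_mkQ]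
        exact (inf_eq_right.2 (hle P hP)).symm ▸ hI
    have := hfg.map (Ideal.Quotient.mk (I ^ n))
    rwa [Ideal.map_comap_of_surjective _ Ideal.Quotient.mk_surjective] at this
  refine isArtinianRing_iff_isNoetherianRing_krullDimLE_zero.2 ⟨this, ?_⟩
  rw [Ring.krullDimLE_zero_iff]
  intro P hP
  have hQ := hP.comap (Ideal.Quotient.mk (I ^ n))
  have hmax : ((P.comap (Ideal.Quotient.mk (I ^ n))).map (Ideal.Quotient.mk I)).IsMaximal :=
    haveI := Ideal.map_isPrime_of_surjective (f := Ideal.Quotient.mk I) Ideal.Quotient.mk_surjective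
      (I := P.comap (Ideal.Quotient.mk (I ^ n))) (by rw [Ideal.mk_ker]; exact hle P hP)
    IsArtinianRing.isMaximal_of_isPrime _
  have hmax2 : (P.comap (Ideal.Quotient.mk (I ^ n))).IsMaximal := by
    have h := Ideal.comap_isMaximal_of_surjective (Ideal.Quotient.mk I) Ideal.Quotient.mk_surjective (K := (P.comap (Ideal.Quotient.mk (I ^ n))).map (Ideal.Quotient.mk I))
    rwa [Ideal.comap_map_of_surjective _ Ideal.Quotient.mk_surjective, ← RingHom.ker_eq_comap_bot, Ideal.mk_ker,
      sup_eq_left.2 (hle P hP)] at h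
  have h2 := Ideal.map_eq_top_or_isMaximal_of_surjective (Ideal.Quotient.mk (I ^ n)) Ideal.Quotient.mk_surjective hmax2
  rw [Ideal.map_comap_of_surjective _ Ideal.Quotient.mk_surjective] at h2
  exact h2.resolve_left hP.ne_top

end Groth.Agent.S14020
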