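import Groth.Statements.S14029
import Groth.Agent.SiteBase.SubterminalOver

set_option autoImplicit false
open CategoryTheory CategoryTheory.Limits Opposite
universe v u
open CohSite

namespace Groth.Agent.S14029

/-- Let (C, J) be a site and U an object such that every object has at most one morphism to U; assume
extension by the empty set j_! from sheaves of sets on the localized site C/U to sheaves of sets on
C exists (through sheafification on C and left Kan extensions along C/U → C). If V is weakly
contractible in C — every epimorphism of sheaves of sets on C is surjective on sections over V —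
then for any morphism a : V ⟶ U the object V → U of C/U is weakly contractible in C/U: every
epimorphism of sheaves of sets on C/U is surjective on sections over it. Hence C/U has enough weakly
contractible objects when C does. -/
theorem result
    {C : Type u} [Category.{v} C] (J : GrothendieckTopology C) (U : C)
    (hU : ∀ W : C, Subsingleton (W ⟶ U))
    [HasWeakSheafify J (Type (max u v))]
    [∀ (P : (Over U)ᵒᵖ ⥤ Type (max u v)), (Over.forget U).op.HasLeftKanExtension P]
    (V : C) (hV : (∀ (A B : Sheaf J (Type (max u v))) (ψ : A ⟶ B), Epi ψ → Function.Surjective (ψ.hom.app (op V)))) (a : V ⟶ U) :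
    ∀ (A B : Sheaf (J.over U) (Type (max u v))) (ψ : A ⟶ B), Epi ψ →
      Function.Surjective (ψ.hom.app (op (Over.mk a))) := by
  intro A B ψ hψ y
  let adj := (Over.forget U).sheafAdjunctionContinuous (Type (max u v)) (J.over U) J
  let L := (Over.forget U).sheafPullback (Type (max u v)) (J.over U) J
  have : L.IsLeftAdjoint := adj.isLeftAdjoint
  have hi : IsIso adj.unit :=
    Groth.Agent.SiteBase.isIso_unit_forget_of_subsingleton J U (Type (max u v)) hU
  obtain ⟨x, hx⟩ := hV (L.obj A) (L.obj B) (L.map ψ) (L.map_epi ψ)
    ((adj.unit.app B).hom.app (op (Over.mk a)) y)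
  refine ⟨(inv (adj.unit.app A)).hom.app (op (Over.mk a)) x, ?_⟩
  have e : ψ = adj.unit.app A ≫ ((Over.forget U).sheafPushforwardContinuous (Type (max u v)) (J.over U) J).map (L.map ψ) ≫
      inv (adj.unit.app B) := by
    rw [← Category.assoc, IsIso.eq_comp_inv]
    exact (adj.unit_naturality ψ).symm
  have h1 : ((inv (adj.unit.app A)) ≫ adj.unit.app A).hom.app (op (Over.mk a)) x = x := by
    rw [IsIso.inv_hom_id]
    rfl
  have h2 : ((adj.unit.app B) ≫ inv (adj.unit.app B)).hom.app (op (Over.mk a)) y = y := by
    rw [IsIso.hom_inv_id]
    rfl
  rw [e]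
  show (inv (adj.unit.app B)).hom.app (op (Over.mk a)) ((L.map ψ).hom.app (op V)
    (((inv (adj.unit.app A)) ≫ adj.unit.app A).hom.app (op (Over.mk a)) x)) = y
  refine (congrArg (fun z => (inv (adj.unit.app B)).hom.app (op (Over.mk a)) ((L.map ψ).hom.app (op V) z)) h1).trans ?_
  exact (congrArg (fun z => (inv (adj.unit.app B)).hom.app (op (Over.mk a)) z) hx).trans h2

end Groth.Agent.S14029
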