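import Groth.Statements.S14031
import Groth.Agent.EtModWLib.AdicP.Recollement

set_option autoImplicit false
open CategoryTheory CategoryTheory.Limits AlgebraicGeometry Opposite
universe u
open EtModW

namespace Groth.Agent.S14031

/-- Let X be a Noetherian scheme, Λ a Noetherian commutative ring and I = (a) a principal ideal of Λ;
let j : U ⟶ X be an open immersion and i : Z ⟶ X a closed immersion with complementary images.
Assume that étale extension by zero along j and étale direct image along i send constructible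
sheaves of Λ-modules to constructible sheaves (standard facts, carried as hypotheses). If F is a
sheaf of Λ-modules on the small pro-étale site of X whose pullbacks to the small pro-étale sites of
U and of Z are both I-adic pro-étale sheaves (each has a compatible tower of quotient maps modulo
I^(n+1) with targets isomorphic to pro-étale pullbacks of constructible étale sheaves and is the
limit of its tower by the canonical map), then F itself is an I-adic pro-étale sheaf. (The published
statement allows an arbitrary ideal; this row states the case of a principal ideal I = (a).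
Continuity of the site functors involved and existence of the étale extension by zero are carried as
binders.) -/
theorem result
    (Λ : Type (u + 1)) [CommRing Λ] [IsNoetherianRing Λ] (a : Λ)
    {U Z X : Scheme.{u}} [IsNoetherian X]
    (j : U ⟶ X) [IsOpenImmersion j] [QuasiCompact j] [hje : Etale j] [WeaklyEtale j]
    (i : Z ⟶ X) [IsClosedImmersion i]
    (hUZ : Set.range (fun z => i.base z) = (Set.range (fun t => j.base t))ᶜ)
    [ProEtS.EpsCont U] [ProEtS.EpsCont Z] [ProEtS.EpsCont X]
    [ProEtS.JPCont j] [ProEtS.PCont j] [ProEtS.PCont i]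
    [(MorphismProperty.Over.map (P := EtCoh.etaleMP.{u}) ⊤ (f := j) hje).IsContinuous U.smallEtaleTopology X.smallEtaleTopology]
    [((MorphismProperty.Over.map (P := EtCoh.etaleMP.{u}) ⊤ (f := j) hje).sheafPushforwardContinuous (ModuleCat.{u + 1} Λ) U.smallEtaleTopology X.smallEtaleTopology).IsRightAdjoint]
    (hext : ∀ E : EtModW.Mod Λ U, EtModW.IsConstructible Λ E →
      EtModW.IsConstructible Λ (((MorphismProperty.Over.map (P := EtCoh.etaleMP.{u}) ⊤ (f := j) hje).sheafPullback (ModuleCat.{u + 1} Λ) U.smallEtaleTopology X.smallEtaleTopology).obj E))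
    (hpush : ∀ E : EtModW.Mod Λ Z, EtModW.IsConstructible Λ E →
      EtModW.IsConstructible Λ ((EtModW.push Λ i).obj E))
    (F : EtModW.ModP Λ X)
    (hU : (∃ (Q : ℕᵒᵖ ⥤ EtModW.ModP Λ U) (p : (Functor.const ℕᵒᵖ).obj (((ProEtS.bcP j).sheafPullback (ModuleCat.{u + 1} Λ) (Scheme.ProEt.topology X) (Scheme.ProEt.topology U)).obj F) ⟶ Q),
        (∀ n : ℕ, ARSys.IsQuot ((Ideal.span {a}) ^ (n + 1)) (p.app (op n))) ∧
        (∀ n : ℕ, ∃ E : EtModW.Mod Λ U, EtModW.IsConstructible Λ E ∧
          Nonempty ((EtModW.epsPullMod Λ U).obj E ≅ Q.obj (op n))) ∧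
        IsIso (limit.lift Q (Cone.mk (((ProEtS.bcP j).sheafPullback (ModuleCat.{u + 1} Λ) (Scheme.ProEt.topology X) (Scheme.ProEt.topology U)).obj F) p))))
    (hZ : (∃ (Q : ℕᵒᵖ ⥤ EtModW.ModP Λ Z) (p : (Functor.const ℕᵒᵖ).obj (((ProEtS.bcP i).sheafPullback (ModuleCat.{u + 1} Λ) (Scheme.ProEt.topology X) (Scheme.ProEt.topology Z)).obj F) ⟶ Q),
        (∀ n : ℕ, ARSys.IsQuot ((Ideal.span {a}) ^ (n + 1)) (p.app (op n))) ∧
        (∀ n : ℕ, ∃ E : EtModW.Mod Λ Z, EtModW.IsConstructible Λ E ∧
          Nonempty ((EtModW.epsPullMod Λ Z).obj E ≅ Q.obj (op n))) ∧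
        IsIso (limit.lift Q (Cone.mk (((ProEtS.bcP i).sheafPullback (ModuleCat.{u + 1} Λ) (Scheme.ProEt.topology X) (Scheme.ProEt.topology Z)).obj F) p)))) :
    (∃ (Q : ℕᵒᵖ ⥤ EtModW.ModP Λ X) (p : (Functor.const ℕᵒᵖ).obj F ⟶ Q),
      (∀ n : ℕ, ARSys.IsQuot ((Ideal.span {a}) ^ (n + 1)) (p.app (op n))) ∧
      (∀ n : ℕ, ∃ E : EtModW.Mod Λ X, EtModW.IsConstructible Λ E ∧
        Nonempty ((EtModW.epsPullMod Λ X).obj E ≅ Q.obj (op n))) ∧
      IsIso (limit.lift Q (Cone.mk F p))) := by
  have hc : Set.range j.base = (Set.range i.base)ᶜ :=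
    (compl_compl _).symm.trans (congrArg (fun s => sᶜ) hUZ.symm)
  have hI : (Ideal.span {a}).FG := IsNoetherian.noetherian _
  obtain ⟨w, hS⟩ := EtModWLib.recollementPM (j := j) (i := i) hc F
  exact EtModWLib.isAdicP_of_shortExact hS
    (EtModWLib.isAdicP_extPM hext (EtModWLib.isAdicP_of_iso hI hU ((EtModWLib.restrPullIso Λ j).app F).symm))
    (EtModWLib.isAdicP_pushPM
      (ProEtPush13.keepsWC_closedImmersion i (ProEtPush13.isRetrocompact_compl hc)) hpush hZ)


end Groth.Agent.S14031
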