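import Groth.Statements.S14032
import Mathlib.RingTheory.Noetherian.Nilpotent
import Mathlib.LinearAlgebra.TensorProduct.Quotient
import Mathlib.RingTheory.Noetherian.Basic
import Mathlib.RingTheory.Nilpotent.Lemmas
import Mathlib.LinearAlgebra.Basis.Basic
-- import your own Groth.Agent.* helpers here

set_option autoImplicit false
universe u v
open W4c1frobunstiva

namespace Groth.Agent.S14032

open TensorProduct in
/-- Let R be a commutative Noetherian ring with nilradical n, M an R-module and r a natural number. Then
M is NR-free of rank r — generated by r elements such that every linear relation among them has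
nilpotent coefficients — if and only if (R/n) ⊗_R M is free of rank r over R/n, in the sense of
admitting a basis indexed by r elements. (The published statement assumes M finitely generated and
also gives the converse when R is local; over a Noetherian ring the nilradical is nilpotent, the
case used here, and finite generation is not needed.) -/
theorem result (R : Type u) [CommRing R]
    [IsNoetherianRing R] (M : Type v) [AddCommGroup M] [Module R M] (r : ℕ) :
    W4c1frobunstiva.IsNRFree R M r ↔
      Nonempty (Module.Basis (Fin r) (R ⧸ nilradical R) ((R ⧸ nilradical R) ⊗[R] M)) := by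
  classical
  set N := nilradical R with hN
  let S := (R ⧸ N)
  let ι : M → (R ⧸ N) ⊗[R] M := fun m => 1 ⊗ₜ[R] m
  have hι0 : ∀ m : M, ι m = 0 → m ∈ N • (⊤ : Submodule R M) := by
    intro m hm
    have := congrArg (TensorProduct.quotTensorEquivQuotSMul M N) hm
    rw [map_zero, show ι m = Ideal.Quotient.mk N 1 ⊗ₜ[R] m from rfl,
      TensorProduct.quotTensorEquivQuotSMul_mk_tmul, one_smul, Submodule.Quotient.mk_eq_zero] at this
    exact this
  have hιN : ∀ (a : R) (m : M), ι (a • m) = Ideal.Quotient.mk N a • ι m := fun a m => by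
    change (1 : R ⧸ N) ⊗ₜ[R] (a • m) = _
    rw [← TensorProduct.smul_tmul, TensorProduct.smul_tmul', smul_eq_mul, mul_one,
      show a • (1 : R ⧸ N) = Ideal.Quotient.mk N (a • 1) from rfl, smul_eq_mul, mul_one]
  have hιadd : ∀ (s : Finset (Fin r)) (v : Fin r → M), ι (∑ i ∈ s, v i) = ∑ i ∈ s, ι (v i) := fun s v =>
    TensorProduct.tmul_sum _ _ _
  constructor
  · rintro ⟨m, hspan, hrel⟩
    refine ⟨Module.Basis.mk (v := fun i => ι (m i)) ?_ ?_⟩
    · rw [Fintype.linearIndependent_iff]
      intro c hc i
      choose a ha using fun j => Ideal.Quotient.mk_surjective (c j)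
      have h1 : ι (∑ j, a j • m j) = 0 := by
        rw [hιadd]; simpa [hιN, ha] using hc
      obtain ⟨d, hd⟩ := Submodule.mem_ideal_smul_span_iff_exists_sum N m _ |>.1 (hspan.symm ▸ hι0 _ h1)
      obtain ⟨hd1, hd2⟩ := hd
      rw [Finsupp.sum_fintype _ _ (fun j => zero_smul R (m j))] at hd2
      have h2 : ∑ j, (a j - d j) • m j = 0 := by
        simp only [sub_smul, Finset.sum_sub_distrib]
        rw [hd2, sub_self]
      have h3 : a i - d i ∈ N := mem_nilradical.2 (hrel _ h2 i)
      have h4 : a i ∈ N := by simpa using add_mem h3 (hd1 i)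
      rw [← ha i, Ideal.Quotient.eq_zero_iff_mem]
      exact h4
    · rintro t -
      induction t with
      | zero => exact zero_mem _
      | tmul c x =>
        obtain ⟨c, rfl⟩ := Ideal.Quotient.mk_surjective c
        have : Ideal.Quotient.mk N c ⊗ₜ[R] x = Ideal.Quotient.mk N c • ι x := by
          change _ = Ideal.Quotient.mk N c • ((1 : R ⧸ N) ⊗ₜ[R] x)
          rw [TensorProduct.smul_tmul', smul_eq_mul, mul_one]
        rw [this]
        refine Submodule.smul_mem _ _ ?_
        have hx : x ∈ Submodule.span R (Set.range m) := hspan ▸ Submodule.mem_top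
        obtain ⟨d, rfl⟩ := (Submodule.mem_span_range_iff_exists_fun R).1 hx
        rw [hιadd]
        refine Submodule.sum_mem _ fun j _ => ?_
        rw [hιN]
        exact Submodule.smul_mem _ _ (Submodule.subset_span ⟨j, rfl⟩)
      | add x y hx hy => exact add_mem hx hy
  · rintro ⟨b⟩
    have hsurj : ∀ t : (R ⧸ N) ⊗[R] M, ∃ x, ι x = t := by
      intro t
      induction t with
      | zero => exact ⟨0, TensorProduct.tmul_zero _ _⟩
      | tmul c x =>
        obtain ⟨c, rfl⟩ := Ideal.Quotient.mk_surjective c
        refine ⟨c • x, ?_⟩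
        rw [hιN]
        change Ideal.Quotient.mk N c • ((1 : R ⧸ N) ⊗ₜ[R] x) = _
        rw [TensorProduct.smul_tmul', smul_eq_mul, mul_one]
      | add x y hx hy =>
        obtain ⟨a, rfl⟩ := hx; obtain ⟨c, rfl⟩ := hy
        exact ⟨a + c, TensorProduct.tmul_add _ _ _⟩
    choose m hm using fun i => hsurj (b i)
    refine ⟨m, ?_, fun a ha i => ?_⟩
    · set P := Submodule.span R (Set.range m)
      have hstep : ⊤ ≤ P ⊔ N • (⊤ : Submodule R M) := by
        rintro x -
        choose a ha using fun j => Ideal.Quotient.mk_surjective (b.repr (ι x) j)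
        have h1 : ι (x - ∑ j, a j • m j) = 0 := by
          change (1 : R ⧸ N) ⊗ₜ[R] (x - ∑ j, a j • m j) = 0
          rw [TensorProduct.tmul_sub, sub_eq_zero]
          refine (Eq.trans ?_ (hιadd _ _).symm : ι x = ι (∑ j, a j • m j))
          conv_lhs => rw [← b.sum_repr (ι x)]
          simp [hιN, hm, ha]
        refine Submodule.mem_sup.2 ⟨∑ j, a j • m j, ?_, x - ∑ j, a j • m j, hι0 _ h1, add_sub_cancel _ _⟩
        exact Submodule.sum_mem _ fun j _ => P.smul_mem _ (Submodule.subset_span ⟨j, rfl⟩)
      obtain ⟨k, hk⟩ := IsNoetherianRing.isNilpotent_nilradical R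
      have hall : ∀ n, ⊤ ≤ P ⊔ (N ^ n) • (⊤ : Submodule R M) := by
        intro n
        induction n with
        | zero => simp
        | succ n ih =>
          refine ih.trans (sup_le le_sup_left ?_)
          calc N ^ n • (⊤ : Submodule R M) ≤ N ^ n • (P ⊔ N • ⊤) := Submodule.smul_mono le_rfl hstep
            _ ≤ P ⊔ N ^ (n + 1) • ⊤ := by
              rw [Submodule.smul_sup, ← Submodule.smul_assoc, smul_eq_mul, ← pow_succ]
              exact sup_le_sup_right Submodule.smul_le_right _
      have := hall k
      rw [show N ^ k = 0 from hk, Ideal.zero_eq_bot, Submodule.bot_smul, sup_bot_eq] at this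
      exact top_le_iff.1 this
    · have h1 : ∑ j, Ideal.Quotient.mk N (a j) • b j = 0 := by
        simp only [← hm, ← hιN]
        rw [← hιadd, ha]
        exact TensorProduct.tmul_zero _ _
      exact mem_nilradical.1 (Ideal.Quotient.eq_zero_iff_mem.1
        (Fintype.linearIndependent_iff.1 b.linearIndependent _ h1 i))

end Groth.Agent.S14032
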