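import Groth.Statements.S14033
import Mathlib.LinearAlgebra.Dimension.OrzechProperty
import Mathlib.LinearAlgebra.Dimension.Constructions
import Mathlib.RingTheory.FiniteType
-- import your own Groth.Agent.* helpers here

set_option autoImplicit false
universe u v
open W4c1frobunstiva

namespace Groth.Agent.S14033

open DualNumber Pointwise in
/-- Let R be a commutative ring, R[ε] its ring of dual numbers (ε² = 0), M an R[ε]-module and r a
natural number. Then M is free of rank r over R[ε] (admits a basis of r elements) if and only if the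
R-modules M/εM and εM are both free of rank r. (The published statement concerns a coherent sheaf on
the product of a scheme S with Spec ℤ[ε] and local freeness of rank r; that assertion is local, and
this row is its form over one ring, with no finiteness assumption on M and no hypothesis on R.) -/
theorem result (R : Type u) [CommRing R] (M : Type v)
    [AddCommGroup M] [Module R[ε] M] [Module R M] [IsScalarTower R R[ε] M] (r : ℕ) :
    Nonempty (Module.Basis (Fin r) R[ε] M) ↔
      (Nonempty (Module.Basis (Fin r) R (M ⧸ ((ε : R[ε]) • (⊤ : Submodule R[ε] M)))) ∧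
        Nonempty (Module.Basis (Fin r) R (((ε : R[ε]) • (⊤ : Submodule R[ε] M)).restrictScalars R))) := by
  classical
  set P : Submodule R[ε] M := (ε : R[ε]) • (⊤ : Submodule R[ε] M) with hP
  have hmemP : ∀ m : M, m ∈ P ↔ ∃ y, (ε : R[ε]) • y = m := fun m => by
    rw [hP, ← SetLike.mem_coe, Submodule.coe_pointwise_smul]
    simp [Set.mem_smul_set]
  have hsplit : ∀ (x : R[ε]) (m : M),
      x • m = TrivSqZeroExt.fst x • m + TrivSqZeroExt.snd x • ((ε : R[ε]) • m) := fun x m => by
    have e : x = algebraMap R R[ε] (TrivSqZeroExt.fst x) + algebraMap R R[ε] (TrivSqZeroExt.snd x) * ε :=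
      TrivSqZeroExt.ext (by simp [TrivSqZeroExt.algebraMap_eq_inl]) (by simp [TrivSqZeroExt.algebraMap_eq_inl])
    conv_lhs => rw [e]
    rw [add_smul, mul_smul, algebraMap_smul, algebraMap_smul]
  have hεε : ∀ m : M, (ε : R[ε]) • (ε : R[ε]) • m = 0 := fun m => by
    rw [← mul_smul, DualNumber.eps_mul_eps, zero_smul]
  have hεR : ∀ (c : R) (m : M), (ε : R[ε]) • c • m = c • (ε : R[ε]) • m := fun c m => by
    rw [← algebraMap_smul R[ε] c m, ← algebraMap_smul R[ε] c ((ε : R[ε]) • m), smul_comm]
  have hmkR : ∀ (c : R) (m : M), (Submodule.Quotient.mk (c • m) : M ⧸ P) = c • Submodule.Quotient.mk m :=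
    fun c m => rfl
  constructor
  · rintro ⟨b⟩
    have hεb : ∀ m : M, (ε : R[ε]) • m = ∑ i, TrivSqZeroExt.fst (b.repr m i) • ((ε : R[ε]) • b i) := by
      intro m
      conv_lhs => rw [← b.sum_repr m]
      rw [Finset.smul_sum]
      refine Finset.sum_congr rfl fun i _ => ?_
      rw [hsplit (b.repr m i), smul_add, hεR, hεR, hεε, smul_zero, add_zero]
    refine ⟨⟨Module.Basis.mk (v := fun i => (Submodule.Quotient.mk (b i) : M ⧸ P)) ?_ ?_⟩,
      ⟨Module.Basis.mk (v := fun i => (⟨(ε : R[ε]) • b i, (hmemP _).2 ⟨_, rfl⟩⟩ : P.restrictScalars R)) ?_ ?_⟩⟩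
    · rw [Fintype.linearIndependent_iff]
      intro c hc i
      have hc' : (Submodule.Quotient.mk (∑ j, c j • b j) : M ⧸ P) = 0 := by
        rw [← Submodule.mkQ_apply, map_sum]; exact hc
      obtain ⟨y, hy⟩ := (hmemP _).1 ((Submodule.Quotient.mk_eq_zero P).1 hc')
      have h : ∑ i, algebraMap R R[ε] (c i) • b i = (ε : R[ε]) • y := by simp [hy]
      have := congrArg (fun m => TrivSqZeroExt.fst (b.repr m i)) h
      simp only [map_sum, map_smul, Finsupp.finsetSum_apply, Finsupp.smul_apply,
        Module.Basis.repr_self, Finsupp.single_apply, smul_eq_mul] at this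
      simpa [TrivSqZeroExt.algebraMap_eq_inl] using this
    · rintro q -
      obtain ⟨m, rfl⟩ := Submodule.Quotient.mk_surjective P q
      rw [Submodule.mem_span_range_iff_exists_fun]
      refine ⟨fun i => TrivSqZeroExt.fst (b.repr m i), ?_⟩
      conv_rhs => rw [← b.sum_repr m]
      simp only [← hmkR, ← Submodule.mkQ_apply, map_sum]
      refine Finset.sum_congr rfl fun i _ => ?_
      refine ((Submodule.Quotient.eq P).2 ((hmemP _).2 ⟨TrivSqZeroExt.snd (b.repr m i) • b i, ?_⟩)).symm
      rw [hεR, hsplit (b.repr m i)]; abel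
    · rw [Fintype.linearIndependent_iff]
      intro c hc i
      have h : ∑ i, (algebraMap R R[ε] (c i) * ε) • b i = 0 := by
        have := congrArg Subtype.val hc
        simpa [mul_smul] using this
      have := congrArg TrivSqZeroExt.snd (Fintype.linearIndependent_iff.1 b.linearIndependent _ h i)
      simpa [TrivSqZeroExt.algebraMap_eq_inl] using this
    · rintro ⟨q, hq⟩ -
      obtain ⟨y, rfl⟩ := (hmemP q).1 hq
      rw [Submodule.mem_span_range_iff_exists_fun]
      exact ⟨_, Subtype.ext (by simpa using (hεb y).symm)⟩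
  · rintro ⟨⟨b1⟩, ⟨b2⟩⟩
    choose m hm using fun i => Submodule.Quotient.mk_surjective P (b1 i)
    let v : Fin r → P.restrictScalars R := fun i => ⟨(ε : R[ε]) • m i, (hmemP _).2 ⟨_, rfl⟩⟩
    have hdec : ∀ x : M, ∃ (a : Fin r → R) (y : M), x = ∑ i, a i • m i + (ε : R[ε]) • y := by
      intro x
      refine ⟨fun i => b1.repr (Submodule.Quotient.mk x) i, ?_⟩
      have h : x - ∑ i, b1.repr (Submodule.Quotient.mk x) i • m i ∈ P := by
        refine (Submodule.Quotient.eq P).1 ?_
        simp only [← Submodule.mkQ_apply, map_sum]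
        simp only [Submodule.mkQ_apply, hmkR, hm]
        exact (b1.sum_repr _).symm
      obtain ⟨y, hy⟩ := (hmemP _).1 h
      exact ⟨y, by rw [hy]; abel⟩
    have hv : Submodule.span R (Set.range v) = ⊤ := by
      rw [eq_top_iff]
      rintro ⟨q, hq⟩ -
      obtain ⟨x, rfl⟩ := (hmemP q).1 hq
      obtain ⟨a, y, rfl⟩ := hdec x
      rw [Submodule.mem_span_range_iff_exists_fun]
      exact ⟨a, Subtype.ext (by simp [v, Finset.smul_sum, hεR, hεε])⟩
    let φ : (P.restrictScalars R) →ₗ[R] (P.restrictScalars R) := b2.constr R v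
    haveI : Module.Finite R (P.restrictScalars R) := Module.Finite.of_basis b2
    have hφ : Function.Injective φ := OrzechProperty.injective_of_surjective_endomorphism φ (by
      rw [← LinearMap.range_eq_top, Module.Basis.constr_range, hv])
    have hvli : LinearIndependent R v := by
      have := b2.linearIndependent.map' φ (LinearMap.ker_eq_bot.2 hφ)
      rwa [show (φ ∘ b2) = v from funext fun i => b2.constr_basis R v i] at this
    refine ⟨Module.Basis.mk (v := m) ?_ ?_⟩
    · rw [Fintype.linearIndependent_iff]
      intro c hc i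
      have hfst : ∀ i, TrivSqZeroExt.fst (c i) = 0 := by
        intro i
        have h := congrArg (Submodule.Quotient.mk (p := P)) hc
        rw [Submodule.Quotient.mk_zero, ← Submodule.mkQ_apply, map_sum] at h
        have h' : ∑ j, TrivSqZeroExt.fst (c j) • b1 j = 0 := by
          rw [← h]
          refine Finset.sum_congr rfl fun j _ => ?_
          rw [hsplit, Submodule.mkQ_apply, Submodule.Quotient.mk_add, hmkR, hmkR, hm,
            (Submodule.Quotient.mk_eq_zero P).2 ((hmemP _).2 ⟨m j, rfl⟩), smul_zero, add_zero]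
        exact Fintype.linearIndependent_iff.1 b1.linearIndependent _ h' i
      have h2 : ∑ j, TrivSqZeroExt.snd (c j) • v j = 0 := Subtype.ext (by
        rw [Submodule.coe_sum, Submodule.coe_zero, ← hc]
        refine Finset.sum_congr rfl fun j _ => ?_
        rw [hsplit (c j), hfst, zero_smul, zero_add]
        rfl)
      exact TrivSqZeroExt.ext (by simp [hfst]) (by simpa using Fintype.linearIndependent_iff.1 hvli _ h2 i)
    · rintro x -
      obtain ⟨a, y, rfl⟩ := hdec x
      obtain ⟨a', y', rfl⟩ := hdec y
      rw [Submodule.mem_span_range_iff_exists_fun]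
      refine ⟨fun i => algebraMap R R[ε] (a i) + algebraMap R R[ε] (a' i) * ε, ?_⟩
      simp [add_smul, mul_smul, Finset.sum_add_distrib, Finset.smul_sum, hεR, hεε]

end Groth.Agent.S14033
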