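import Groth.Statements.S14034
import Mathlib.RingTheory.LocalRing.Module
import Mathlib.LinearAlgebra.Dimension.Constructions
import Mathlib.RingTheory.Flat.Basic
import Mathlib.LinearAlgebra.FiniteDimensional.Basic
import Mathlib.RingTheory.Jacobson.Ideal
import Mathlib.RingTheory.Nakayama
-- import your own Groth.Agent.* helpers here

set_option autoImplicit false
universe u
open W4c1frobunstiva

namespace Groth.Agent.S14034

/-- Let R be a Noetherian local ring and f an element of R whose annihilator consists of nilpotent
elements (a f = 0 forces a nilpotent), r, s and l ≤ s natural numbers, N the quotient of the free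
module R^s by the submodule spanned by f e_1, …, f e_l (e_i the standard basis vectors), and φ : R^r
→ N a surjective linear map. Then the kernel of φ is NR-free of rank r + l − s: it is generated by r
+ l − s elements every linear relation among which has nilpotent coefficients; and when l = 0 the
kernel is free of rank r − s. (The published statement takes R Noetherian with irreducible spectrum
and R_red a domain, not necessarily local, and f arbitrary. Over the coordinate ring of the real
2-sphere the kernel of (x, y, z) : R³ → R is not free, and over k[x, y]/(y², xy) localised at (x, y)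
with f = y the kernel of R → R/(y) is spanned by y with the non-nilpotent relation x·y = 0. The
published argument uses that the kernel of a surjection of free modules is free, true over a local
ring, and that a f = 0 forces a nilpotent, which is the hypothesis taken here; it holds when R_red
is a domain and f is not nilpotent, and also for f = ε in A[ε] with A a domain, so primality of the
nilradical is not assumed.) -/
theorem result (R : Type u)
    [CommRing R] [IsNoetherianRing R] [IsLocalRing R] (f : R)
    (hann : ∀ a : R, a * f = 0 → IsNilpotent a) (r s l : ℕ) (hls : l ≤ s)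
    (φ : (Fin r → R) →ₗ[R]
      ((Fin s → R) ⧸ Submodule.span R (Set.range fun i : Fin l => (Pi.single (Fin.castLE hls i) f : Fin s → R))))
    (hφ : Function.Surjective φ) :
    W4c1frobunstiva.IsNRFree R (LinearMap.ker φ) (r + l - s) ∧
      (l = 0 → Nonempty (Module.Basis (Fin (r - s)) R (LinearMap.ker φ))) := by
  classical
  revert φ hφ
  set U : Submodule R (Fin s → R) :=
    Submodule.span R (Set.range fun i : Fin l => (Pi.single (Fin.castLE hls i) f : Fin s → R)) with hU
  intro φ hφ
  -- splitting a surjection onto a finite free module over a local ring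
  have hsplit : ∀ (t : ℕ) (ψ : (Fin r → R) →ₗ[R] (Fin t → R)), Function.Surjective ψ →
      t ≤ r ∧ Nonempty (Module.Basis (Fin (r - t)) R (LinearMap.ker ψ)) ∧
        ∃ σ : (Fin t → R) →ₗ[R] (Fin r → R), ∀ y, ψ (σ y) = y := by
    intro t ψ hψ
    obtain ⟨σ, hσ⟩ := Module.projective_lifting_property ψ LinearMap.id hψ
    have hσ' : ∀ y, ψ (σ y) = y := fun y => LinearMap.congr_fun hσ y
    let P : (Fin r → R) →ₗ[R] LinearMap.ker ψ :=
      (LinearMap.id - σ ∘ₗ ψ).codRestrict _ fun x => by simp [hσ']
    have hP : ∀ x : LinearMap.ker ψ, P x = x := fun x => Subtype.ext (by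
      simp [P, LinearMap.mem_ker.1 x.2])
    haveI : Module.Projective R (LinearMap.ker ψ) :=
      Module.Projective.of_split (LinearMap.ker ψ).subtype P (LinearMap.ext hP)
    haveI : Module.Finite R (LinearMap.ker ψ) :=
      Module.Finite.of_surjective P fun x => ⟨_, hP x⟩
    haveI : Module.Free R (LinearMap.ker ψ) := Module.free_of_flat_of_isLocalRing
    let e : (Fin r → R) ≃ₗ[R] LinearMap.ker ψ × (Fin t → R) :=
      { P.prod ψ with
        invFun := fun z => (z.1 : Fin r → R) + σ z.2
        left_inv := fun x => by simp [P]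
        right_inv := fun z => by
          refine Prod.ext (Subtype.ext ?_) ?_
          · simp [P, hσ', LinearMap.mem_ker.1 z.1.2]
          · simp [hσ', LinearMap.mem_ker.1 z.1.2] }
    have hd := e.finrank_eq
    rw [Module.finrank_fin_fun, Module.finrank_prod, Module.finrank_fin_fun] at hd
    refine ⟨by omega, ⟨Module.finBasisOfFinrankEq R _ (by omega)⟩, σ, hσ'⟩
  -- a basis is an NR-basis
  have hbasis : ∀ (K : Submodule R (Fin r → R)) (t : ℕ), Module.Basis (Fin t) R K →
      W4c1frobunstiva.IsNRFree R K t := fun K t b =>
    ⟨b, b.span_eq, fun a ha i => by rw [Fintype.linearIndependent_iff.1 b.linearIndependent a ha i]; exact IsNilpotent.zero⟩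
  let ψ : (Fin r → R) →ₗ[R] (Fin s → R) := (Pi.basisFun R (Fin r)).constr R fun i =>
    Classical.choose (Submodule.mkQ_surjective U (φ (Pi.basisFun R (Fin r) i)))
  have hψ : U.mkQ ∘ₗ ψ = φ := (Pi.basisFun R (Fin r)).ext fun i => by
    rw [LinearMap.comp_apply, Module.Basis.constr_basis]
    exact Classical.choose_spec (Submodule.mkQ_surjective U (φ (Pi.basisFun R (Fin r) i)))
  have hker : ∀ x, x ∈ LinearMap.ker φ ↔ ψ x ∈ U := fun x => by
    rw [← hψ, LinearMap.mem_ker, LinearMap.comp_apply, Submodule.mkQ_apply, Submodule.Quotient.mk_eq_zero]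
  have hUmem : ∀ y, y ∈ U ↔ ∃ c : Fin l → R, y = ∑ i, c i • (Pi.single (Fin.castLE hls i) f : Fin s → R) :=
    fun y => by
    rw [hU, Submodule.mem_span_range_iff_exists_fun]
    exact ⟨fun ⟨c, hc⟩ => ⟨c, hc.symm⟩, fun ⟨c, hc⟩ => ⟨c, hc.symm⟩⟩
  by_cases hf : IsUnit f
  · -- the span is that of the first `l` coordinate vectors
    let idx : Fin (s - l) → Fin s := fun j => ⟨l + j.val, by omega⟩
    let q : (Fin s → R) →ₗ[R] (Fin (s - l) → R) := LinearMap.funLeft R R idx
    have hq : ∀ y, q y = 0 ↔ y ∈ U := by
      intro y
      rw [hUmem]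
      constructor
      · intro hy
        refine ⟨fun i => y (Fin.castLE hls i) * ↑hf.unit⁻¹, funext fun j => ?_⟩
        rw [Finset.sum_apply]
        by_cases hj : j.val < l
        · rw [Finset.sum_eq_single (⟨j.val, hj⟩ : Fin l)]
          · simp [Fin.castLE, mul_assoc, show (↑hf.unit⁻¹ : R) * f = 1 from hf.val_inv_mul]
          · intro b _ hb
            have : j ≠ Fin.castLE hls b := fun e => hb (Fin.ext (by simp [e]))
            simp [this]
          · simp
        · rw [Finset.sum_eq_zero]
          · have h0 : y (idx ⟨j.val - l, by omega⟩) = 0 := congrFun hy _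
            rwa [show idx ⟨j.val - l, by omega⟩ = j from Fin.ext (by simp [idx]; omega)] at h0
          · intro b _
            have : j ≠ Fin.castLE hls b := fun e => hj (by simp [e])
            simp [this]
      · rintro ⟨c, rfl⟩
        funext j
        simp only [q, LinearMap.funLeft_apply, Finset.sum_apply, Pi.zero_apply]
        refine Finset.sum_eq_zero fun b _ => ?_
        have : idx j ≠ Fin.castLE hls b := fun e => by
          have := congrArg Fin.val e; simp [idx] at this; omega
        simp [this]
    have hqs : Function.Surjective (q ∘ₗ ψ) := by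
      intro z
      let y : Fin s → R := fun j => if h : l ≤ j.val then z ⟨j.val - l, by omega⟩ else 0
      obtain ⟨x, hx⟩ := hφ (U.mkQ y)
      refine ⟨x, ?_⟩
      rw [← hψ] at hx
      have := (hq _).2 ((Submodule.Quotient.eq U).1 hx)
      rw [map_sub, sub_eq_zero] at this
      rw [LinearMap.comp_apply, this]
      funext j
      simp [q, y, idx]
    obtain ⟨hle, ⟨b⟩, -⟩ := hsplit (s - l) (q ∘ₗ ψ) hqs
    have hK : LinearMap.ker (q ∘ₗ ψ) = LinearMap.ker φ := Submodule.ext fun x => by
      rw [hker, ← hq, LinearMap.mem_ker, LinearMap.comp_apply]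
    refine ⟨hbasis _ _ ((b.reindex (finCongr (by omega))).map (LinearEquiv.ofEq _ _ hK)), fun hl => ?_⟩
    exact ⟨(b.reindex (finCongr (by omega))).map (LinearEquiv.ofEq _ _ hK)⟩
  · have hfm : f ∈ IsLocalRing.maximalIdeal R := hf
    have hψs : Function.Surjective ψ := by
      rw [← LinearMap.range_eq_top]
      refine top_le_iff.1 (Submodule.le_of_le_smul_of_le_jacobson_bot
        (I := IsLocalRing.maximalIdeal R) Module.Finite.fg_top
        (IsLocalRing.jacobson_eq_maximalIdeal ⊥ bot_ne_top).ge ?_)
      intro y _
      obtain ⟨x, hx⟩ := hφ (U.mkQ y)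
      rw [← hψ] at hx
      obtain ⟨c, hc⟩ := (hUmem _).1 ((Submodule.Quotient.eq U).1 hx.symm)
      refine Submodule.mem_sup.2 ⟨ψ x, ⟨x, rfl⟩, y - ψ x, ?_, add_sub_cancel _ _⟩
      rw [hc]
      refine Submodule.sum_mem _ fun i _ => ?_
      rw [show c i • (Pi.single (Fin.castLE hls i) f : Fin s → R) =
        (c i * f) • (Pi.single (Fin.castLE hls i) 1 : Fin s → R) from by
          funext j; simp [Pi.single_apply]]
      exact Submodule.smul_mem_smul (Ideal.mul_mem_left _ _ hfm) Submodule.mem_top
    obtain ⟨hle, ⟨b⟩, σ, hσ⟩ := hsplit s ψ hψs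
    let u : Fin l → LinearMap.ker φ := fun i =>
      ⟨f • σ (Pi.single (Fin.castLE hls i) 1), (hker _).2 (by
        rw [map_smul, hσ]
        exact (hUmem _).2 ⟨Pi.single i 1, by
          rw [Finset.sum_eq_single i (fun j _ hj => by simp [hj]) (by simp)]
          funext j; simp [Pi.single_apply]⟩)⟩
    have hsub : LinearMap.ker ψ ≤ LinearMap.ker φ := fun x hx => (hker x).2 (by
      rw [LinearMap.mem_ker.1 hx]; exact zero_mem _)
    let k : Fin (r - s) → LinearMap.ker φ := fun j => Submodule.inclusion hsub (b j)
    let g : Fin ((r - s) + l) → LinearMap.ker φ := Fin.append k u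
    have hmem : ∀ (a : Fin l → R), ψ ((∑ i, a i • u i : LinearMap.ker φ) : Fin r → R) =
        ∑ i, a i • (Pi.single (Fin.castLE hls i) f : Fin s → R) := by
      intro a
      simp only [Submodule.coe_sum, Submodule.coe_smul, map_sum, map_smul, u, hσ]
      refine Finset.sum_congr rfl fun i _ => ?_
      funext j; simp [Pi.single_apply]
    have hspan : ∀ x : LinearMap.ker φ, ∃ (a : Fin (r - s) → R) (c : Fin l → R),
        x = (∑ j, a j • k j) + ∑ i, c i • u i := by
      intro x
      obtain ⟨c, hc⟩ := (hUmem _).1 ((hker _).1 x.2)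
      have hx : ((x - ∑ i, c i • u i : LinearMap.ker φ) : Fin r → R) ∈ LinearMap.ker ψ := by
        rw [LinearMap.mem_ker, Submodule.coe_sub, map_sub, hmem, hc, sub_self]
      refine ⟨fun j => b.repr ⟨_, hx⟩ j, c, ?_⟩
      have := congrArg (Submodule.inclusion hsub) (b.sum_repr ⟨_, hx⟩)
      simp only [map_sum, map_smul] at this
      rw [show (∑ j, (b.repr ⟨_, hx⟩ j) • k j) = x - ∑ i, c i • u i from this]
      abel
    have hrel : ∀ (a : Fin (r - s) → R) (c : Fin l → R),
        (∑ j, a j • k j) + ∑ i, c i • u i = 0 → (∀ j, a j = 0) ∧ ∀ i, IsNilpotent (c i) := by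
      intro a c h
      have h1 : ψ ((∑ i, c i • u i : LinearMap.ker φ) : Fin r → R) = 0 := by
        rw [eq_neg_of_add_eq_zero_right h, Submodule.coe_neg, map_neg, neg_eq_zero]
        simp only [Submodule.coe_sum, Submodule.coe_smul, map_sum, map_smul, k, Submodule.coe_inclusion]
        exact Finset.sum_eq_zero fun j _ => by rw [LinearMap.mem_ker.1 (b j).2, smul_zero]
      rw [hmem] at h1
      have hc0 : ∀ i, c i * f = 0 := by
        intro i
        have h1' := congrFun h1 (Fin.castLE hls i)
        rw [Finset.sum_apply, Finset.sum_eq_single i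
          (fun j _ hj => by simp [show Fin.castLE hls i ≠ Fin.castLE hls j from
            fun e => hj (Fin.ext (by simpa using congrArg Fin.val e.symm))]) (by simp)] at h1'
        simpa using h1'
      refine ⟨fun j => ?_, fun i => hann _ (hc0 i)⟩
      have hu0 : ∑ i, c i • u i = 0 := Finset.sum_eq_zero fun i _ => Subtype.ext (by
        simp [u, smul_smul, hc0])
      rw [hu0, add_zero] at h
      refine Fintype.linearIndependent_iff.1 b.linearIndependent a ?_ j
      apply Submodule.inclusion_injective hsub
      rw [map_sum, map_zero, ← h]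
      simp [k]
    have hNR : W4c1frobunstiva.IsNRFree R (LinearMap.ker φ) ((r - s) + l) := by
      refine ⟨g, ?_, fun a ha => ?_⟩
      · rw [eq_top_iff]
        rintro x -
        obtain ⟨a, c, rfl⟩ := hspan x
        refine add_mem (Submodule.sum_mem _ fun j _ => ?_) (Submodule.sum_mem _ fun i _ => ?_)
        · exact Submodule.smul_mem _ _ (Submodule.subset_span ⟨Fin.castAdd l j, by simp [g]⟩)
        · exact Submodule.smul_mem _ _ (Submodule.subset_span ⟨Fin.natAdd (r - s) i, by simp [g]⟩)
      · rw [Fin.sum_univ_add] at ha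
        simp only [g, Fin.append_left, Fin.append_right] at ha
        obtain ⟨h1, h2⟩ := hrel _ _ ha
        exact fun i => Fin.addCases (fun j => by simp [h1 j]) h2 i
    refine ⟨by rwa [show r + l - s = (r - s) + l by omega], fun hl => ?_⟩
    subst hl
    have hK : LinearMap.ker ψ = LinearMap.ker φ := le_antisymm hsub fun x hx => by
      obtain ⟨c, hc⟩ := (hUmem _).1 ((hker x).1 hx)
      rw [LinearMap.mem_ker, hc]; simp
    exact ⟨b.map (LinearEquiv.ofEq _ _ hK)⟩

end Groth.Agent.S14034
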