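import Groth.Statements.S14035
import Mathlib.RingTheory.Nilpotent.Basic
import Mathlib.RingTheory.Spectrum.Prime.RingHom
import Mathlib.RingTheory.LocalRing.ResidueField.Ideal
import Groth.Agent.W4Lib.Flat
import Mathlib.RingTheory.LocalRing.Module
import Mathlib.RingTheory.TensorProduct.Maps
-- import your own Groth.Agent.* helpers here

set_option autoImplicit false
universe u v
open W4c1frobunstiva

namespace Groth.Agent.S14035

open TensorProduct in
/-- Let A → B be a ring homomorphism with B Noetherian. If B modulo its nilradical is flat over A and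
every fibre ring κ(p) ⊗_A B, p a prime of A, is reduced, then B is reduced. (This is the affine form
of the statement for a morphism of schemes X → Y all of whose fibres are reduced and whose
restriction to the reduced closed subscheme X_red is flat. The published statement does not say X is
locally Noetherian, but its proof applies Nakayama's lemma to the nilradical as a finitely generated
ideal; without it the square-zero extension of a discrete valuation ring A by Frac(A)/A is a
counterexample.) -/
theorem result (A : Type u) (B : Type v)
    [CommRing A] [CommRing B] [Algebra A B] [IsNoetherianRing B]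
    [Module.Flat A (B ⧸ nilradical B)]
    (hfib : ∀ p : PrimeSpectrum A, IsReduced (p.asIdeal.ResidueField ⊗[A] B)) :
    IsReduced B := by
  set N := nilradical B with hN
  let f : N →ₗ[A] B := N.subtype.restrictScalars A
  let g : B →ₗ[A] B ⧸ N := (Ideal.Quotient.mkₐ A N).toLinearMap
  have hex : Function.Exact f g := fun b => by
    rw [show g b = Ideal.Quotient.mk N b from rfl, Ideal.Quotient.eq_zero_iff_mem]
    exact ⟨fun h => ⟨⟨b, h⟩, rfl⟩, fun ⟨n, hn⟩ => hn ▸ n.2⟩
  have hzero : ∀ (p : PrimeSpectrum A) (t : p.asIdeal.ResidueField ⊗[A] N), t = 0 := by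
    intro p t
    haveI := hfib p
    have hinj := W4Lib.lTensor_injective_of_flat_quotient (f := f) (g := g) Subtype.val_injective hex
      Ideal.Quotient.mk_surjective p.asIdeal.ResidueField
    refine hinj ?_
    rw [map_zero]
    refine IsNilpotent.eq_zero ?_
    induction t with
    | zero => simp
    | tmul c n =>
      obtain ⟨m, hm⟩ := (mem_nilradical.1 n.2 : IsNilpotent (n : B))
      refine ⟨m, ?_⟩
      rw [LinearMap.lTensor_tmul, show f n = (n : B) from rfl, Algebra.TensorProduct.tmul_pow, hm,
        TensorProduct.tmul_zero]
    | add x y hx hy => rw [map_add]; exact Commute.isNilpotent_add (Commute.all _ _) hx hy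
  suffices hbot : Subsingleton N by
    refine ⟨fun b hb => ?_⟩
    exact congrArg Subtype.val (Subsingleton.elim (⟨b, mem_nilradical.2 hb⟩ : N) 0)
  rw [← Module.support_eq_empty_iff (R := B), Set.eq_empty_iff_forall_notMem]
  intro Q hQ
  rw [Module.mem_support_iff_nontrivial_residueField_tensorProduct] at hQ
  apply not_subsingleton_iff_nontrivial.2 hQ
  refine ⟨fun x y => ?_⟩
  have hz : ∀ z : Q.asIdeal.ResidueField ⊗[B] N, z = 0 := by
    intro z
    induction z with
    | zero => rfl
    | tmul c n =>
      let P : PrimeSpectrum A := PrimeSpectrum.comap (algebraMap A B) Q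
      let φ : P.asIdeal.ResidueField →ₐ[A] Q.asIdeal.ResidueField :=
        Ideal.ResidueField.mapₐ P.asIdeal Q.asIdeal (Algebra.ofId A B) rfl
      let ψ : P.asIdeal.ResidueField ⊗[A] N →ₗ[A] Q.asIdeal.ResidueField ⊗[B] N :=
        TensorProduct.lift
          (((TensorProduct.mk B Q.asIdeal.ResidueField N).restrictScalars₁₂ A A).comp φ.toLinearMap)
      have h1 : (1 : Q.asIdeal.ResidueField) ⊗ₜ[B] n = 0 := by
        have := congrArg ψ (hzero P (1 ⊗ₜ[A] n))
        simpa [ψ] using this
      have : c ⊗ₜ[B] n = c • ((1 : Q.asIdeal.ResidueField) ⊗ₜ[B] n) := by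
        rw [TensorProduct.smul_tmul', smul_eq_mul, mul_one]
      rw [this, h1, smul_zero]
    | add u v hu hv => rw [hu, hv, add_zero]
  rw [hz x, hz y]

end Groth.Agent.S14035
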