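import Groth.Statements.S14040
import Groth.Agent.S14035
import Mathlib.RingTheory.Flat.TorsionFree
-- import your own Groth.Agent.* helpers here

set_option autoImplicit false
universe u v
open W4c1frobunstiva

namespace Groth.Agent.S14040

open TensorProduct in
/-- Let A be a discrete valuation ring and B a Noetherian A-algebra such that the nilradical of B is
prime and meets the image of A only in 0 — the spectrum of B is irreducible and its generic point
lies over the generic point of A. If every fibre ring κ(p) ⊗_A B, p a prime of A, is reduced, then B
is reduced and flat over A. (Affine form of the statement for a dominant morphism from an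
irreducible scheme to the spectrum of a discrete valuation ring with reduced fibres. The published
statement also covers a scheme that is already reduced and does not assume it locally Noetherian;
this row treats reduced fibres with B Noetherian, without which the square-zero extension A ⊕
Frac(A)/A is a counterexample.) -/
theorem result (A : Type u) [CommRing A]
    [IsDomain A] [IsDiscreteValuationRing A] (B : Type v) [CommRing B] [Algebra A B]
    [IsNoetherianRing B] (hirr : (nilradical B).IsPrime)
    (hdom : (nilradical B).comap (algebraMap A B) = ⊥)
    (hfib : ∀ p : PrimeSpectrum A, IsReduced (p.asIdeal.ResidueField ⊗[A] B)) :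
    IsReduced B ∧ Module.Flat A B := by
  classical
  set N := nilradical B with hN
  haveI : IsDomain (B ⧸ N) := Ideal.Quotient.isDomain N
  have hinj : Function.Injective (algebraMap A (B ⧸ N)) := by
    rw [injective_iff_map_eq_zero]
    intro a ha
    rw [IsScalarTower.algebraMap_apply A B (B ⧸ N), Ideal.Quotient.algebraMap_eq, Ideal.Quotient.eq_zero_iff_mem] at ha
    have : a ∈ N.comap (algebraMap A B) := ha
    rw [hdom] at this
    exact this
  haveI : Module.IsTorsionFree A (B ⧸ N) :=
    ⟨fun a ha x y h => by
      simp only [Algebra.smul_def] at h
      exact mul_left_cancel₀ (fun h0 => ha.ne_zero ((injective_iff_map_eq_zero _).1 hinj _ h0)) h⟩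
  haveI hflat : Module.Flat A (B ⧸ N) := inferInstance
  haveI hred : IsReduced B := Groth.Agent.S14035.result A B hfib
  refine ⟨hred, ?_⟩
  have e : N = ⊥ := nilradical_eq_zero B
  exact Module.Flat.of_linearEquiv
    ((Submodule.quotEquivOfEqBot N e).restrictScalars A).symm

end Groth.Agent.S14040
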