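import Groth.Statements.S14041
import Groth.Agent.H26.GenDeg

set_option autoImplicit false
universe u
open CategoryTheory CategoryTheory.Limits AlgebraicGeometry
open W4c1frobunstiva

namespace Groth.Agent.S14041

/-- Let k be a field, X and Y integral schemes of finite type over k of the same (topological Krull)
dimension, and f : X → Y a dominant k-morphism, so that f sends the generic point ξ of X to the
generic point of Y. Then κ(ξ) is a finite extension of the residue field at f(ξ), say of degree d,
and there is a non-empty open subset U of Y such that for every point y of U the fibre X_y = X ×_Y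
Spec κ(y) is finite over κ(y) and its ring of global sections has dimension exactly d over κ(y).
(The published statement speaks of the length of X_y; the κ(y)-dimension of Γ(X_y, O) is the
invariant for which the equality holds on U, including at the generic point.) -/
theorem result (k : Type u) [Field k] {X Y : Scheme.{u}}
    [X.Over (Spec (CommRingCat.of k))] [Y.Over (Spec (CommRingCat.of k))]
    [LocallyOfFiniteType (X ↘ Spec (CommRingCat.of k))] [QuasiCompact (X ↘ Spec (CommRingCat.of k))]
    [LocallyOfFiniteType (Y ↘ Spec (CommRingCat.of k))] [QuasiCompact (Y ↘ Spec (CommRingCat.of k))]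
    [IsIntegral X] [IsIntegral Y] (f : X ⟶ Y) [IsDominant f]
    (hf : f ≫ (Y ↘ Spec (CommRingCat.of k)) = X ↘ Spec (CommRingCat.of k))
    (hdim : topologicalKrullDim ↥X = topologicalKrullDim ↥Y) :
    (letI := (f.residueFieldMap (genericPoint ↥X)).hom.toAlgebra;
      Module.Finite (Y.residueField (f.base (genericPoint ↥X))) (X.residueField (genericPoint ↥X))) ∧
    ∃ U : Y.Opens, Nonempty ↥U ∧ ∀ y : Y, y ∈ U →
      IsFinite (pullback.snd f (Y.fromSpecResidueField y)) ∧
        (letI := ((Scheme.ΓSpecIso (CommRingCat.of (Y.residueField y))).inv ≫
            (pullback.snd f (Y.fromSpecResidueField y)).appTop).hom.toAlgebra;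
          Module.finrank (Y.residueField y) ↑(Γ(pullback f (Y.fromSpecResidueField y), ⊤))) =
        (letI := (f.residueFieldMap (genericPoint ↥X)).hom.toAlgebra;
          Module.finrank (Y.residueField (f.base (genericPoint ↥X))) (X.residueField (genericPoint ↥X))) := by
  set p := X ↘ Spec (CommRingCat.of k)
  set q := Y ↘ Spec (CommRingCat.of k)
  have : LocallyOfFiniteType (f ≫ q) := by rw [hf]; infer_instance
  have : LocallyOfFiniteType f := locallyOfFiniteType_of_comp f q
  have : IsLocallyNoetherian Y := LocallyOfFiniteType.isLocallyNoetherian q
  have : IsLocallyNoetherian X := LocallyOfFiniteType.isLocallyNoetherian p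
  have : QuasiCompact (f ≫ q) := by rw [hf]; infer_instance
  have : QuasiCompact f := QuasiCompact.of_comp f q
  have h0 := H26.GenDeg.rd_genericPoint_eq_zero f p q hf hdim
  exact ⟨CycLib.finite_residueFieldMap_of_rd_eq_zero f _ h0, H26.GenDeg.exists_open_constant_degree f h0⟩

end Groth.Agent.S14041
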