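import Groth.Statements.S14043
import Mathlib.RingTheory.Nilpotent.Basic
import Mathlib.RingTheory.Nilpotent.Lemmas
import Mathlib.LinearAlgebra.Matrix.NonsingularInverse
import Mathlib.RingTheory.Ideal.Quotient.Operations
-- import your own Groth.Agent.* helpers here

set_option autoImplicit false
universe u v
open W4c1frobunstiva

namespace Groth.Agent.S14043

/-- Let R be a commutative Noetherian ring, M an R-module that is NR-free of rank r — generated by some
r elements all of whose linear relations have nilpotent coefficients — and m, m' two generating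
families of M, each indexed by the same finite set of size r. Then some invertible r × r matrix T
over R expresses m' in terms of m, m'_j = Σ_i T_{ji} m_i; reducing modulo the nilradical n, such a T
induces the change-of-basis matrix between the bases of M/nM given by the images of m and m' (an
r-element generating family of M is itself an NR-basis), so only the existence of an invertible T is
asserted here. (T is not unique.) -/
theorem result (R : Type u) [CommRing R]
    [IsNoetherianRing R] (M : Type v) [AddCommGroup M] [Module R M] (r : ℕ)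
    (hM : W4c1frobunstiva.IsNRFree R M r) (m m' : Fin r → M)
    (hm : Submodule.span R (Set.range m) = ⊤) (hm' : Submodule.span R (Set.range m') = ⊤) :
    ∃ T : Matrix (Fin r) (Fin r) R, IsUnit T ∧ ∀ j, m' j = ∑ i, T j i • m i := by
  classical
  obtain ⟨b, hb, hrel⟩ := hM
  have hex : ∀ u v : Fin r → M, Submodule.span R (Set.range u) = ⊤ →
      ∃ T : Matrix (Fin r) (Fin r) R, ∀ j, v j = ∑ i, T j i • u i := by
    intro u v hu
    choose c hc using fun j => (Submodule.mem_span_range_iff_exists_fun R).1 (hu ▸ Submodule.mem_top : v j ∈ Submodule.span R (Set.range u))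
    exact ⟨Matrix.of c, fun j => (hc j).symm⟩
  obtain ⟨A, hA⟩ := hex b m hb
  obtain ⟨A', hA'⟩ := hex m b hm
  obtain ⟨B, hB⟩ := hex b m' hb
  obtain ⟨B', hB'⟩ := hex m' b hm'
  let π := Ideal.Quotient.mk (nilradical R)
  have hunit : ∀ (u : Fin r → M) (A A' : Matrix (Fin r) (Fin r) R),
      (∀ j, u j = ∑ i, A j i • b i) → (∀ j, b j = ∑ i, A' j i • u i) → IsUnit A.det := by
    intro u A A' hA hA'
    have h : ∀ j i, IsNilpotent ((A' * A) j i - (1 : Matrix (Fin r) (Fin r) R) j i) := by
      intro j
      apply hrel
      simp only [sub_smul, Finset.sum_sub_distrib, Matrix.mul_apply, Finset.sum_smul, mul_smul]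
      rw [Finset.sum_comm]
      simp only [← Finset.smul_sum, ← hA]
      simp [← hA', Matrix.one_apply]
    have h1 : π.mapMatrix (A' * A) = 1 := by
      ext j i
      have e := Ideal.Quotient.eq.2 (mem_nilradical.2 (h j i))
      simp only [RingHom.mapMatrix_apply, Matrix.map_apply]
      refine e.trans ?_
      rw [Matrix.one_apply, Matrix.one_apply]
      split_ifs <;> simp
    have h2 : π (A' * A).det = 1 := by rw [RingHom.map_det, h1, Matrix.det_one]
    have hn : IsNilpotent ((A' * A).det - 1) :=
      mem_nilradical.1 (Ideal.Quotient.eq.1 (h2.trans (map_one π).symm))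
    have h3 : IsUnit ((A' * A).det - 1 + 1) := IsNilpotent.isUnit_add_one hn
    rw [sub_add_cancel, Matrix.det_mul] at h3
    exact isUnit_of_mul_isUnit_right h3
  obtain ⟨C, hC⟩ := (Matrix.isUnit_iff_isUnit_det A).2 (hunit m A A' hA hA')
  have hb' : ∀ j, b j = ∑ i, (↑C⁻¹ : Matrix (Fin r) (Fin r) R) j i • m i := by
    intro j
    simp only [hA, Finset.smul_sum, smul_smul]
    rw [Finset.sum_comm]
    simp only [← Finset.sum_smul, ← Matrix.mul_apply, ← hC, Units.inv_mul]
    simp [Matrix.one_apply]
  refine ⟨B * (↑C⁻¹ : Matrix (Fin r) (Fin r) R), ((Matrix.isUnit_iff_isUnit_det B).2 (hunit m' B B' hB hB')).mul C⁻¹.isUnit, fun j => ?_⟩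
  simp only [hB, hb', Finset.smul_sum, smul_smul, Matrix.mul_apply, Finset.sum_smul]
  rw [Finset.sum_comm]

end Groth.Agent.S14043
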