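import Groth.Statements.S14046
import Mathlib.Tactic.LinearCombination
import Groth.Agent.W4Lib.Flat
import Mathlib.LinearAlgebra.TensorProduct.Prod
import Mathlib.RingTheory.TensorProduct.Maps
import Mathlib.RingTheory.Ideal.Quotient.Operations
-- import your own Groth.Agent.* helpers here

set_option autoImplicit false
universe u v w
open W4c1frobunstiva

namespace Groth.Agent.S14046

open TensorProduct in
/-- Let R → A be a homomorphism of commutative rings and I, J ideals of A with I ∩ J = 0 — so that A is
the fibre product of A/I and A/J over A/(I + J), i.e. Spec A is the union of the two closed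
subschemes in the strong sense — and suppose A/(I + J) is flat over R. Then this persists under
every base change: for every commutative R-algebra R', the ideals generated by I and J in R' ⊗_R A
again meet in 0. (This is the ideal-theoretic, affine form of the base-change step; the exact
sequence of unit sheaves deduced from it in the published statement — restriction of units to a
closed subscheme being surjective locally — is not restated. Without flatness of A/(I + J) the
conclusion fails: for A = k[x, y]/(xy) over R = k[u] with u ↦ x + y, I = (x) and J = (y), the base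
change to R/(u) gives k[x]/(x²), in which both ideals become (x).) -/
theorem result (R : Type u) (A : Type v)
    [CommRing R] [CommRing A] [Algebra R A] (I J : Ideal A) (hIJ : I ⊓ J = ⊥)
    [Module.Flat R (A ⧸ (I ⊔ J))] (R' : Type w) [CommRing R'] [Algebra R R'] :
    I.map (Algebra.TensorProduct.includeRight : A →ₐ[R] R' ⊗[R] A) ⊓
      J.map (Algebra.TensorProduct.includeRight : A →ₐ[R] R' ⊗[R] A) = ⊥ := by
  let q := fun (K : Ideal A) => (Ideal.Quotient.mkₐ R K).toLinearMap
  let f : A →ₗ[R] (A ⧸ I) × (A ⧸ J) := (q I).prod (q J)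
  let g : (A ⧸ I) × (A ⧸ J) →ₗ[R] A ⧸ (I ⊔ J) :=
    (Ideal.Quotient.factorₐ R (le_sup_left : I ≤ I ⊔ J)).toLinearMap.coprod
      (-(Ideal.Quotient.factorₐ R (le_sup_right : J ≤ I ⊔ J)).toLinearMap)
  have hf : Function.Injective f := by
    rw [injective_iff_map_eq_zero]
    intro a ha
    have h1 : a ∈ I := Ideal.Quotient.eq_zero_iff_mem.1 (congrArg Prod.fst ha)
    have h2 : a ∈ J := Ideal.Quotient.eq_zero_iff_mem.1 (congrArg Prod.snd ha)
    have : a ∈ I ⊓ J := ⟨h1, h2⟩
    rwa [hIJ] at this
  have hg : Function.Surjective g := fun z => by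
    obtain ⟨a, rfl⟩ := Ideal.Quotient.mk_surjective z
    exact ⟨(Ideal.Quotient.mk I a, 0), by simp [g]⟩
  have hex : Function.Exact f g := by
    intro z
    constructor
    · intro hz
      obtain ⟨x, y⟩ := z
      obtain ⟨a, rfl⟩ := Ideal.Quotient.mk_surjective x
      obtain ⟨b, rfl⟩ := Ideal.Quotient.mk_surjective y
      have : a - b ∈ I ⊔ J := by
        rw [← Ideal.Quotient.eq_zero_iff_mem, map_sub]
        simpa [g, sub_eq_add_neg] using hz
      obtain ⟨i, hi, j, hj, e⟩ := Submodule.mem_sup.1 this
      refine ⟨a - i, Prod.ext (Ideal.Quotient.eq.2 (by simpa using hi)) (Ideal.Quotient.eq.2 ?_)⟩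
      rwa [show a - i - b = j by linear_combination -e]
    · rintro ⟨a, rfl⟩
      simp [f, g, q]
  have hinj := W4Lib.lTensor_injective_of_flat_quotient (f := f) (g := g) hf hex hg R'
  rw [eq_bot_iff]
  rintro z ⟨hzI, hzJ⟩
  have hzero : ∀ K : Ideal A, ∀ z ∈ K.map (Algebra.TensorProduct.includeRight : A →ₐ[R] R' ⊗[R] A),
      (q K).lTensor R' z = 0 := by
    intro K z hz
    have hle : K.map (Algebra.TensorProduct.includeRight : A →ₐ[R] R' ⊗[R] A) ≤
        RingHom.ker (Algebra.TensorProduct.map (AlgHom.id R' R') (Ideal.Quotient.mkₐ R K)) := by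
      rw [Ideal.map_le_iff_le_comap]
      intro a ha
      simp [Ideal.Quotient.eq_zero_iff_mem.2 ha]
    have := hle hz
    rw [RingHom.mem_ker] at this
    rw [← this]
    clear this hle hz
    induction z with
    | zero => simp
    | tmul r a => simp [q]
    | add x y hx hy => simp [hx, hy]
  refine hinj (?_ : f.lTensor R' z = f.lTensor R' 0)
  rw [map_zero]
  apply (TensorProduct.prodRight R R R' (A ⧸ I) (A ⧸ J)).injective
  rw [map_zero]
  have key : ∀ w, TensorProduct.prodRight R R R' (A ⧸ I) (A ⧸ J) (f.lTensor R' w) =
      ((q I).lTensor R' w, (q J).lTensor R' w) := by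
    intro w
    induction w with
    | zero => simp only [map_zero]; rfl
    | tmul r a => simp [f]
    | add x y hx hy => simp [hx, hy]
  rw [key, hzero I z hzI, hzero J z hzJ]
  rfl

end Groth.Agent.S14046
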