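import Groth.Statements.S14047
import Groth.Agent.H26.NodeFitt.Sch
import Groth.Agent.FittX.Sheaf
import Groth.Agent.OmegaUniv.Unram
import Mathlib.AlgebraicGeometry.ZariskisMainTheorem
import Mathlib.AlgebraicGeometry.Morphisms.FormallyUnramified

set_option autoImplicit false
universe u
open CategoryTheory AlgebraicGeometry
open W4c1frobunstiva

namespace Groth.Agent.S14047

/-- Let f : X → B be a proper family of nodal curves — flat, locally of finite presentation, each fibre
having all its irreducible components of dimension one and at worst nodes as singularities. Let Ω be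
an O_X-module equipped with a universal B-derivation (a sheaf of relative differentials of X over B)
and let Z be the closed subscheme of X cut out by the first Fitting ideal sheaf of Ω, the singular
locus of f. Then the composite Z → X → B is finite and formally unramified, so unramified. -/
theorem result {X B : Scheme.{u}}
    (f : X ⟶ B) (hf : Curv2.IsNodalFamily f) [IsProper f] (Ω : X.Modules) (d : OmegaSh.Der f Ω)
    (hd : OmegaSh.IsUniversal d) :
    IsFinite ((Fitt.sheafIdeal Ω 1).subschemeι ≫ f) ∧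
      FormallyUnramified ((Fitt.sheafIdeal Ω 1).subschemeι ≫ f) := by
  haveI : LocallyOfFinitePresentation f := hf.2.1
  haveI : LocallyOfFiniteType f := inferInstance
  have hQ : Coh.IsQCoh Ω := Synt29.OmegaStalk.isQCoh_of_isUniversal hd
  have hFT : CohB1.IsFT Ω := by
    choose U hU V hV hxU e using Synt29.OmegaStalk.exists_charts f
    refine QCoh.isFT_of_finite hQ U
      (eq_top_iff.mpr fun x _ => TopologicalSpace.Opens.mem_iSup.mpr ⟨x, hxU x⟩) hU fun x => ?_
    let _ := (f.appLE (V x) (U x) (e x)).hom.toAlgebra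
    haveI : Algebra.FiniteType Γ(B, V x) Γ(X, U x) := by
      rw [← RingHom.finiteType_algebraMap, RingHom.algebraMap_toAlgebra]
      exact HasRingHomProperty.appLE (P := @LocallyOfFiniteType) f ‹_› ⟨V x, hV x⟩ ⟨U x, hU x⟩ (e x)
    obtain ⟨l⟩ := Synt29.OmegaStalk.exists_linearEquiv_sections hd (hU x) (hV x) (e x)
    exact Module.Finite.equiv l.symm
  set I := Fitt.sheafIdeal Ω 1 with hI
  choose U hU V hV hxU e using Synt29.OmegaStalk.exists_charts f
  have hcov : iSup (fun z : I.subscheme => (I.subschemeCover.f ⟨U (I.subschemeι z), hU _⟩).opensRange) = ⊤ :=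
    eq_top_iff.2 fun z _ => TopologicalSpace.Opens.mem_iSup.2 ⟨z, by
      rw [Scheme.IdealSheafData.opensRange_subschemeCover_map]; exact hxU _⟩
  have hchart : ∀ z : I.subscheme,
      FormallyUnramified (I.subschemeCover.f ⟨U (I.subschemeι z), hU _⟩ ≫ I.subschemeι ≫ f) ∧
        LocallyQuasiFinite (I.subschemeCover.f ⟨U (I.subschemeι z), hU _⟩ ≫ I.subschemeι ≫ f) := by
    intro z
    set x := I.subschemeι z
    have e1 : I.subschemeCover.f ⟨U x, hU x⟩ ≫ I.subschemeι ≫ f =
        Spec.map (f.appLE (V x) (U x) (e x) ≫ CommRingCat.ofHom (Ideal.Quotient.mk (I.ideal ⟨U x, hU x⟩))) ≫ (hV x).fromSpec := by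
      rw [← Category.assoc, Scheme.IdealSheafData.subschemeCover_map_subschemeι, Scheme.IdealSheafData.glueDataObjι_ι]
      refine (Category.assoc _ _ _).trans ?_
      rw [← (hV x).SpecMap_appLE_fromSpec f (hU x) (e x), Spec.map_comp, Category.assoc]
      rfl
    rw [e1]
    letI := (f.appLE (V x) (U x) (e x)).hom.toAlgebra
    haveI : Algebra.FiniteType Γ(B, V x) Γ(X, U x) := by
      rw [← RingHom.finiteType_algebraMap, RingHom.algebraMap_toAlgebra]
      exact HasRingHomProperty.appLE (P := @LocallyOfFiniteType) f ‹_› ⟨V x, hV x⟩ ⟨U x, hU x⟩ (e x)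
    have hnod : Curv2.IsNodalFamily (Spec.map (CommRingCat.ofHom (algebraMap Γ(B, V x) Γ(X, U x)))) :=
      H26.NodeFitt.isNodalFamily_chart f hf (hV x) (hU x) (e x)
    have hun := H26.NodeFitt.formallyUnramified_of_fibres (R := Γ(B, V x)) (A := Γ(X, U x))
      fun K _ _ _ M hM => H26.NodeFitt.planeSing_fibre hnod K M hM
    obtain ⟨l⟩ := Synt29.OmegaStalk.exists_linearEquiv_sections hd (hU x) (hV x) (e x)
    have hid : I.ideal ⟨U x, hU x⟩ =
        Fitt.ideal Γ(X, U x) Ω[Γ(X, U x)⁄Γ(B, V x)] 1 := by
      haveI := QCoh.finite_of_isFT hQ hFT (hU x)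
      rw [hI, FittX.sheafIdeal_ideal hQ hFT 1 ⟨U x, hU x⟩]
      exact FittX.ideal_congr l 1
    rw [← hid] at hun
    haveI := hun
    refine ⟨?_, ?_⟩
    · haveI : FormallyUnramified (Spec.map (f.appLE (V x) (U x) (e x) ≫
          CommRingCat.ofHom (Ideal.Quotient.mk (I.ideal ⟨U x, hU x⟩)))) :=
        (HasRingHomProperty.Spec_iff (P := @FormallyUnramified)).2 hun
      haveI := (hV x).isOpenImmersion_fromSpec
      exact MorphismProperty.comp_mem @FormallyUnramified _ _ ‹FormallyUnramified (Spec.map _)› inferInstance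
    · haveI : Algebra.QuasiFinite Γ(B, V x) (Γ(X, U x) ⧸ I.ideal ⟨U x, hU x⟩) := inferInstance
      haveI : LocallyQuasiFinite (Spec.map (f.appLE (V x) (U x) (e x) ≫
          CommRingCat.ofHom (Ideal.Quotient.mk (I.ideal ⟨U x, hU x⟩)))) :=
        (HasRingHomProperty.Spec_iff (P := @LocallyQuasiFinite)).2 (RingHom.quasiFinite_algebraMap.2 this)
      haveI := (hV x).isOpenImmersion_fromSpec
      exact MorphismProperty.comp_mem @LocallyQuasiFinite _ _ ‹LocallyQuasiFinite (Spec.map _)› inferInstance
  have hu : FormallyUnramified (I.subschemeι ≫ f) :=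
    (IsZariskiLocalAtSource.iff_of_iSup_eq_top (P := @FormallyUnramified) _ hcov).2 fun z => by
      rw [← MorphismProperty.cancel_left_of_respectsIso @FormallyUnramified
        (I.subschemeCover.f ⟨U (I.subschemeι z), hU _⟩).isoOpensRange.hom, Scheme.Hom.isoOpensRange_hom_ι_assoc]
      exact (hchart z).1
  have hq : LocallyQuasiFinite (I.subschemeι ≫ f) :=
    (IsZariskiLocalAtSource.iff_of_iSup_eq_top (P := @LocallyQuasiFinite) _ hcov).2 fun z => by
      rw [← MorphismProperty.cancel_left_of_respectsIso @LocallyQuasiFinite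
        (I.subschemeCover.f ⟨U (I.subschemeι z), hU _⟩).isoOpensRange.hom, Scheme.Hom.isoOpensRange_hom_ι_assoc]
      exact (hchart z).2
  exact ⟨IsFinite.of_isProper_of_locallyQuasiFinite _, hu⟩

end Groth.Agent.S14047
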