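import Groth.Statements.S14048
import Mathlib.Data.Rat.Lemmas
import Mathlib.RingTheory.TensorProduct.Maps
import Mathlib.Data.Nat.Prime.Infinite
import Mathlib.Algebra.Polynomial.Eval.Degree

set_option autoImplicit false
universe u
open TensorProduct
open CAlg

namespace Groth.Agent.S14048

/-- Let A be an integral domain in which 2 is invertible and let t be an element of A, so that Spec A is
a scheme over the affine line Spec ℤ[1/2][t]. Assume that (1) the ℚ-algebra map ℚ[X] → ℚ ⊗_ℤ A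
sending X to 1 ⊗ t is bijective (the map Spec A → Spec ℤ[1/2][t] becomes an isomorphism after base
change to ℚ); (2) every prime number is invertible in A/(t) (the fibre over t = 0 is of pure
characteristic zero); and (3) there is a ring homomorphism s : A → ℤ[1/2] with s(t) = 1 (the fibre
over t = 1 admits a section). Then A is not Noetherian. -/
theorem result (A : Type u) [CommRing A]
    [IsDomain A] (h2 : IsUnit (2 : A)) (t : A)
    (h1 : Function.Bijective (Polynomial.aeval (R := ℚ) ((1 : ℚ) ⊗ₜ[ℤ] t : ℚ ⊗[ℤ] A)))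
    (h0 : ∀ p : ℕ, p.Prime → IsUnit ((p : ℕ) : A ⧸ Ideal.span ({t} : Set A)))
    (s : A →+* Localization.Away (2 : ℤ)) (hs : s t = 1) :
    ¬ IsNoetherianRing A := by
  intro hN
  let T : Submonoid ℤ := Submonoid.powers (2 : ℤ)
  have h2Q : IsUnit (algebraMap ℤ ℚ 2) := isUnit_iff_ne_zero.2 (by norm_num)
  have h2A : IsUnit (algebraMap ℤ A 2) := by simpa using h2
  let can : Localization.Away (2 : ℤ) →+* ℚ := IsLocalization.Away.lift (2 : ℤ) h2Q
  let c : Localization.Away (2 : ℤ) →+* A := IsLocalization.Away.lift (2 : ℤ) h2A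
  let e : Polynomial ℚ ≃ₐ[ℚ] ℚ ⊗[ℤ] A := AlgEquiv.ofBijective _ h1
  let ι : A →+* Polynomial ℚ := e.symm.toRingEquiv.toRingHom.comp
    (Algebra.TensorProduct.includeRight (R := ℤ) (A := ℚ) (B := A)).toRingHom
  have hιt : ι t = Polynomial.X := by
    show e.symm ((1 : ℚ) ⊗ₜ[ℤ] t) = _
    rw [AlgEquiv.symm_apply_eq]
    show _ = Polynomial.aeval _ Polynomial.X
    rw [Polynomial.aeval_X]
  let σ : Polynomial ℚ →+* Polynomial ℚ := (Polynomial.aeval (Polynomial.X + 1 : Polynomial ℚ)).toRingHom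
  let ψ : A →+* Polynomial ℚ := σ.comp ι
  have h0' : ∀ f, (ψ f).coeff 0 = can (s f) := fun f => by
    let H : ℚ ⊗[ℤ] A →ₐ[ℚ] ℚ := Algebra.TensorProduct.lift (AlgHom.id ℚ ℚ) (can.comp s).toIntAlgHom
      (fun _ _ => Commute.all _ _)
    have hH : H.comp e.toAlgHom = Polynomial.aeval (1 : ℚ) := Polynomial.algHom_ext (by
      rw [AlgHom.comp_apply]
      show H (Polynomial.aeval _ Polynomial.X) = _
      rw [Polynomial.aeval_X, Polynomial.aeval_X]
      show Algebra.TensorProduct.lift _ _ _ ((1 : ℚ) ⊗ₜ[ℤ] t) = 1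
      simp [hs])
    have h := AlgHom.congr_fun hH (ι f)
    rw [AlgHom.comp_apply, show e.toAlgHom (ι f) = (1 : ℚ) ⊗ₜ[ℤ] f from e.apply_symm_apply _] at h
    rw [show H ((1 : ℚ) ⊗ₜ[ℤ] f) = can (s f) by simp [H]] at h
    rw [h, Polynomial.coeff_zero_eq_eval_zero]
    show (Polynomial.aeval (Polynomial.X + 1 : Polynomial ℚ) (ι f)).eval 0 = _
    rw [← Polynomial.coe_aeval_eq_eval, ← Polynomial.aeval_algHom_apply]
    simp
  have hsc : ∀ x, s (c x) = x := RingHom.congr_fun (IsLocalization.ringHom_ext T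
    (show (s.comp c).comp (algebraMap ℤ _) = (RingHom.id _).comp (algebraMap ℤ _) from RingHom.ext_int _ _))
  have hψc : ∀ x, ψ (c x) = Polynomial.C (can x) := RingHom.congr_fun (IsLocalization.ringHom_ext T
    (show (ψ.comp c).comp (algebraMap ℤ _) = (Polynomial.C.comp can).comp (algebraMap ℤ _) from RingHom.ext_int _ _))
  obtain ⟨m, g, hg⟩ : ∃ (m : ℕ) (g : Fin m → A), Ideal.span (Set.range g) = RingHom.ker s :=
    Submodule.fg_iff_exists_fin_generating_family.1 (IsNoetherian.noetherian _)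
  have hg0 : ∀ i, (ψ (g i)).coeff 0 = 0 := fun i => by
    have : s (g i) = 0 := RingHom.mem_ker.1 (hg ▸ Ideal.subset_span ⟨i, rfl⟩)
    rw [h0', this, map_zero]
  let S : Subring ℚ := can.range
  obtain ⟨N, hN0, hNg⟩ : ∃ N : ℕ, N ≠ 0 ∧ ∀ i j, (N : ℚ) * (ψ (g i)).coeff j ∈ S := by
    let s' : Finset ℚ := Finset.univ.biUnion fun i => (ψ (g i)).support.image fun j => (ψ (g i)).coeff j
    refine ⟨∏ q ∈ s', q.den, Finset.prod_ne_zero_iff.2 fun q _ => q.den_nz, fun i j => ?_⟩
    by_cases hz : (ψ (g i)).coeff j = 0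
    · rw [hz, mul_zero]; exact S.zero_mem
    have hq : (ψ (g i)).coeff j ∈ s' := Finset.mem_biUnion.2 ⟨i, Finset.mem_univ i,
      Finset.mem_image.2 ⟨j, Polynomial.mem_support_iff.2 hz, rfl⟩⟩
    rw [← Finset.mul_prod_erase s' (fun q => q.den) hq, Nat.cast_mul, mul_right_comm, mul_comm (((ψ (g i)).coeff j).den : ℚ),
      Rat.mul_den_eq_num]
    exact S.mul_mem (intCast_mem _ _) (natCast_mem _ _)
  have key : ∀ (k : ℕ) (f : A), (N : ℚ) ^ k * (ψ f).coeff k ∈ S := by
    intro k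
    induction k using Nat.strong_induction_on with
    | _ k ih =>
      intro f
      rcases Nat.eq_zero_or_pos k with rfl | hk
      · rw [pow_zero, one_mul, h0']; exact ⟨s f, rfl⟩
      have hmem : f - c (s f) ∈ Ideal.span (Set.range g) := by
        rw [hg, RingHom.mem_ker, map_sub, hsc, sub_self]
      obtain ⟨a, ha⟩ := Ideal.mem_span_range_iff_exists_fun.1 hmem
      have hf : f = c (s f) + ∑ i, a i * g i := by rw [ha]; ring
      rw [hf, map_add, hψc, map_sum, Polynomial.coeff_add, Polynomial.coeff_C_ne_zero hk.ne', zero_add,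
        Polynomial.finsetSum_coeff, Finset.mul_sum]
      refine S.sum_mem fun i _ => ?_
      rw [map_mul, Polynomial.coeff_mul, Finset.mul_sum]
      refine S.sum_mem fun x hx => ?_
      rw [Finset.mem_antidiagonal] at hx
      rcases Nat.eq_zero_or_pos x.2 with h | h
      · rw [h, hg0]; simp [S.zero_mem]
      · have hx1 : x.1 < k := by omega
        have e1 : (N : ℚ) ^ k * ((ψ (a i)).coeff x.1 * (ψ (g i)).coeff x.2) =
            (N : ℚ) ^ (k - 1 - x.1) * (((N : ℚ) ^ x.1 * (ψ (a i)).coeff x.1) * ((N : ℚ) * (ψ (g i)).coeff x.2)) := by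
          conv_lhs => rw [show k = (k - 1 - x.1) + x.1 + 1 by omega]
          ring
        rw [e1]
        exact S.mul_mem (S.pow_mem (natCast_mem _ _) _) (S.mul_mem (ih _ hx1 _) (hNg _ _))
  obtain ⟨p, hp1, hp⟩ := Nat.exists_infinite_primes (2 * N + 3)
  obtain ⟨u, hu⟩ := (h0 p hp).exists_right_inv
  obtain ⟨a, rfl⟩ := Ideal.Quotient.mk_surjective u
  rw [← map_natCast (Ideal.Quotient.mk (Ideal.span ({t} : Set A))), ← map_mul,
    ← map_one (Ideal.Quotient.mk (Ideal.span ({t} : Set A))), Ideal.Quotient.mk_eq_mk_iff_sub_mem,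
    Ideal.mem_span_singleton'] at hu
  obtain ⟨b, hb⟩ := hu
  let D : ℕ := (ψ a).natDegree
  have he : (p : ℚ) * (ψ a).eval (-1) = 1 := by
    have h := congrArg (fun x => (ψ x).eval (-1)) hb
    have hψt : ψ t = Polynomial.X + 1 := by
      show σ (ι t) = _
      rw [hιt]; exact Polynomial.aeval_X _
    simp only [map_mul, map_sub, map_natCast, map_one, hψt, Polynomial.eval_mul, Polynomial.eval_sub,
      Polynomial.eval_natCast, Polynomial.eval_one, Polynomial.eval_add, Polynomial.eval_X, neg_add_cancel, mul_zero] at h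
    linarith
  have hS : (N : ℚ) ^ D * (ψ a).eval (-1) ∈ S := by
    rw [Polynomial.eval_eq_sum_range, Finset.mul_sum]
    refine S.sum_mem fun k hk => ?_
    rw [Finset.mem_range] at hk
    rw [show (N : ℚ) ^ D * ((ψ a).coeff k * (-1) ^ k) = (N : ℚ) ^ (D - k) * ((N : ℚ) ^ k * (ψ a).coeff k) * (-1) ^ k by
      rw [← mul_assoc, ← mul_assoc, ← pow_add, show D - k + k = D by omega]]
    exact S.mul_mem (S.mul_mem (S.pow_mem (natCast_mem _ _) _) (key k a)) (S.pow_mem (S.neg_mem S.one_mem) _)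
  obtain ⟨z, hz⟩ := hS
  obtain ⟨⟨w, ⟨_, r, rfl⟩⟩, hw⟩ := IsLocalization.surj T z
  have hw' := congrArg can hw
  rw [map_mul, hz, IsLocalization.Away.lift_eq, IsLocalization.Away.lift_eq] at hw'
  simp only [algebraMap_int_eq, eq_intCast, Int.cast_pow, Int.cast_ofNat] at hw'
  have hz' : ((N : ℤ) ^ D * 2 ^ r : ℤ) = (p : ℤ) * w := by
    have : ((N : ℚ) ^ D * 2 ^ r) = (p : ℚ) * (w : ℚ) := by
      rw [← hw']
      calc _ = ((p : ℚ) * (ψ a).eval (-1)) * ((N : ℚ) ^ D * 2 ^ r) := by rw [he, one_mul]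
        _ = _ := by ring
    exact_mod_cast this
  have hdvd : p ∣ N ^ D * 2 ^ r := by
    have : (p : ℤ) ∣ ((N ^ D * 2 ^ r : ℕ) : ℤ) := ⟨w, by push_cast; exact hz'⟩
    exact_mod_cast this
  rcases hp.dvd_mul.1 hdvd with h | h
  · have := Nat.le_of_dvd (Nat.pos_of_ne_zero hN0) ((Nat.prime_iff.1 hp).dvd_of_dvd_pow h)
    omega
  · have := Nat.le_of_dvd two_pos ((Nat.prime_iff.1 hp).dvd_of_dvd_pow h)
    omega

end Groth.Agent.S14048
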