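import Groth.Statements.S14049
import Groth.Agent.Small12.NilClosed

set_option autoImplicit false
set_option backward.isDefEq.respectTransparency false
set_option backward.isDefEq.respectTransparency.types false
universe u
open CategoryTheory AlgebraicGeometry
open LocStr

namespace Groth.Agent.S14049

/-- For schemes. Let f : X → Y be a morphism of schemes and let I be a quasi-coherent sheaf of ideals on
X which is nilpotent (some power of I is zero). Let X₁ ⊆ X be the closed subscheme defined by I².
Then f is a closed immersion as soon as the composite X₁ → X → Y is one. (The published statement is
the same assertion for a morphism of algebraic stacks; it is stated here for schemes.) -/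
theorem result (X Y : Scheme.{u}) (f : X ⟶ Y)
    (I : X.IdealSheafData) (hI : IsNilpotent I)
    (h : IsClosedImmersion ((I ^ 2).subschemeι ≫ f)) :
    IsClosedImmersion f := by
  exact Groth.Agent.Small12.isClosedImmersion_of_sq f I hI h

end Groth.Agent.S14049
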