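import Groth.Statements.S14051
import Mathlib

set_option autoImplicit false
universe u
open CAlg

namespace Groth.Agent.S14051

/-- Let A be a commutative ℕ-graded algebra over a base ring R which is generated by A_1 as an
A_0-algebra, written as A_{n+1} = A_1 · A_n for every n, and let M be a graded A-module: an A-module
with R-submodules M_n giving a direct-sum decomposition and A_i · M_j ⊆ M_{i+j}. If M is spanned
over A by a set of homogeneous elements all of degree at most n₀, then for every n ≥ n₀ and every k
≥ 0 the degree-(n+k) part of M is A_k · M_n. -/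
theorem result
    (R : Type u) [CommRing R] (A : Type u) [CommRing A] [Algebra R A]
    (𝒜 : ℕ → Submodule R A) [GradedAlgebra 𝒜]
    (hA : ∀ n : ℕ, 𝒜 (n + 1) = 𝒜 1 * 𝒜 n)
    (M : Type u) [AddCommGroup M] [Module R M] [Module A M] [IsScalarTower R A M]
    (ℳ : ℕ → Submodule R M) [DirectSum.Decomposition ℳ] [SetLike.GradedSMul 𝒜 ℳ]
    (s : Set M) (n₀ : ℕ) (hs : ∀ y ∈ s, ∃ d : ℕ, d ≤ n₀ ∧ y ∈ ℳ d)
    (hspan : Submodule.span A s = ⊤)
    (n k : ℕ) (hn : n₀ ≤ n) :
    ℳ (n + k) = 𝒜 k • ℳ n := by
  classical
  have hadd : ∀ a b, 𝒜 (a + b) = 𝒜 a * 𝒜 b := by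
    intro a
    induction a with
    | zero =>
      intro b
      rw [zero_add]
      refine le_antisymm (fun z hz => ?_) (Submodule.mul_le.2 fun p hp q hq => zero_add b ▸ SetLike.mul_mem_graded hp hq)
      simpa using Submodule.mul_mem_mul (SetLike.one_mem_graded 𝒜) hz
    | succ a ih => intro b; rw [Nat.add_right_comm, hA, ih, hA a, mul_assoc]
  apply le_antisymm
  · intro y hy
    have key : ∀ z ∈ Submodule.span A s, ∀ a : A, (DirectSum.decompose ℳ (a • z) (n + k) : M) ∈ 𝒜 k • ℳ n := by
      intro z hz
      induction hz using Submodule.span_induction with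
      | mem z hz =>
        intro a
        obtain ⟨d, hd, hzd⟩ := hs z hz
        rw [← DirectSum.sum_support_decompose 𝒜 a, Finset.sum_smul, DirectSum.decompose_sum, DFinsupp.finsetSum_apply,
          AddSubmonoidClass.coe_finsetSum]
        refine Submodule.sum_mem _ fun i _ => ?_
        have hmem : (DirectSum.decompose 𝒜 a i : A) • z ∈ ℳ (i + d) := by
          have := SetLike.GradedSMul.smul_mem (A := 𝒜) (B := ℳ) (SetLike.coe_mem (DirectSum.decompose 𝒜 a i)) hzd
          rwa [vadd_eq_add] at this
        rcases eq_or_ne (i + d) (n + k) with he | hne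
        · rw [← he, DirectSum.decompose_of_mem_same ℳ hmem]
          have hi : i = k + (n - d) := by omega
          have h1 : (DirectSum.decompose 𝒜 a i : A) ∈ 𝒜 k * 𝒜 (n - d) := by
            rw [← hadd, ← hi]; exact SetLike.coe_mem _
          clear hmem
          generalize (DirectSum.decompose 𝒜 a i : A) = w at h1 ⊢
          induction h1 using Submodule.mul_induction_on' with
          | mem_mul_mem p hp q hq =>
            rw [mul_smul]
            refine Submodule.smul_mem_smul hp ?_
            have := SetLike.GradedSMul.smul_mem (A := 𝒜) (B := ℳ) hq hzd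
            rwa [vadd_eq_add, Nat.sub_add_cancel (hd.trans hn)] at this
          | add p _ q _ hp hq => rw [add_smul]; exact add_mem hp hq
        · rw [DirectSum.decompose_of_mem_ne ℳ hmem hne]; exact zero_mem _
      | zero => intro a; simp
      | add p q _ _ hp hq =>
        intro a
        rw [smul_add, DirectSum.decompose_add, DirectSum.add_apply, Submodule.coe_add]
        exact add_mem (hp a) (hq a)
      | smul c p _ ih => intro a; rw [← mul_smul]; exact ih _
    have := key y (hspan ▸ trivial) 1
    rwa [one_smul, DirectSum.decompose_of_mem_same ℳ hy] at this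
  · rw [Submodule.smul_le]
    intro a ha m hm
    rw [add_comm n k]
    have := SetLike.GradedSMul.smul_mem (A := 𝒜) (B := ℳ) ha hm
    rwa [vadd_eq_add] at this

end Groth.Agent.S14051
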