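import Groth.Statements.S14053
import Mathlib

set_option autoImplicit false
universe u
open CAlg

namespace Groth.Agent.S14053

/-- Let k be a field and R a commutative ℕ-graded k-algebra with R_0 = k · 1 which is generated as a
k-algebra by R_1, R_2 and R_3, each a finite-dimensional k-vector space, of dimensions d_1, d_2,
d_3. Then for every natural number e ≥ 5 d_1 + 4 d_2 + 3 d_3 the (6e)-th Veronese subring of R is
generated in degree one over k: R_{6em} = (R_{6e})^m for every m > 0. -/
theorem result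
    (k : Type u) [Field k] (R : Type u) [CommRing R] [Algebra k R]
    (ℛ : ℕ → Submodule k R) [GradedAlgebra ℛ]
    (h0 : ℛ 0 = 1)
    (hgen : Algebra.adjoin k ((ℛ 1 : Set R) ∪ (ℛ 2 : Set R) ∪ (ℛ 3 : Set R)) = ⊤)
    [Module.Finite k (ℛ 1)] [Module.Finite k (ℛ 2)] [Module.Finite k (ℛ 3)]
    (e : ℕ) (he : 5 * Module.finrank k (ℛ 1) + 4 * Module.finrank k (ℛ 2) + 3 * Module.finrank k (ℛ 3) ≤ e)
    (m : ℕ) (hm : 0 < m) :
    ℛ (m * (6 * e)) = ℛ (6 * e) ^ m := by
  classical
  refine le_antisymm ?_ ?_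
  swap
  · clear hm
    induction m with
    | zero => rw [pow_zero, zero_mul, h0]
    | succ m ih =>
      rw [pow_succ]
      refine Submodule.mul_le.2 fun x hx y hy => ?_
      have hx := ih hx
      rw [add_mul, one_mul]
      exact SetLike.mul_mem_graded hx hy
  let b1 := Module.finBasis k (ℛ 1)
  let b2 := Module.finBasis k (ℛ 2)
  let b3 := Module.finBasis k (ℛ 3)
  let σ := Fin (Module.finrank k (ℛ 1)) ⊕ Fin (Module.finrank k (ℛ 2)) ⊕ Fin (Module.finrank k (ℛ 3))
  let v : σ → R := Sum.elim (fun i => (b1 i : R)) (Sum.elim (fun i => (b2 i : R)) (fun i => (b3 i : R)))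
  let w : σ → ℕ := Sum.elim (fun _ => 1) (Sum.elim (fun _ => 2) (fun _ => 3))
  have hv : ∀ s, v s ∈ ℛ (w s) := by
    rintro (i | i | i)
    · exact (b1 i).2
    · exact (b2 i).2
    · exact (b3 i).2
  have hw6 : ∀ s, (6 / w s) * w s = 6 := by rintro (i | i | i) <;> simp [w]
  have hspan : ∀ (d : ℕ) {ι : Type} (b : Module.Basis ι k (ℛ d)) (f : ι → σ),
      (∀ i, v (f i) = (b i : R)) → ∀ x ∈ ℛ d, x ∈ Algebra.adjoin k (Set.range v) := by
    intro d ι b f hf x hx
    have h : (⟨x, hx⟩ : ℛ d) ∈ Submodule.span k (Set.range b) := by rw [b.span_eq]; exact Submodule.mem_top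
    have h' := Submodule.mem_map_of_mem (f := (ℛ d).subtype) h
    rw [Submodule.map_span] at h'
    refine Algebra.span_le_adjoin k _ (Submodule.span_mono ?_ h')
    rintro _ ⟨_, ⟨i, rfl⟩, rfl⟩
    exact ⟨f i, hf i⟩
  have htop : Algebra.adjoin k (Set.range v) = ⊤ := by
    rw [eq_top_iff, ← hgen]
    refine Algebra.adjoin_le ?_
    rintro x ((hx | hx) | hx)
    · exact hspan 1 b1 Sum.inl (fun i => rfl) x hx
    · exact hspan 2 b2 (fun i => Sum.inr (Sum.inl i)) (fun i => rfl) x hx
    · exact hspan 3 b3 (fun i => Sum.inr (Sum.inr i)) (fun i => rfl) x hx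
  let mon : (σ → ℕ) → R := fun a => ∏ s, v s ^ a s
  have hmon : ∀ a, mon a ∈ ℛ (∑ s, a s * w s) := fun a => by
    refine SetLike.prod_mem_graded (A := ℛ) (i := fun s => a s * w s) (g := fun s => v s ^ a s) (fun s _ => ?_)
    rw [← smul_eq_mul]
    exact SetLike.pow_mem_graded _ (hv s)
  have hmonadd : ∀ a b, mon (a + b) = mon a * mon b := fun a b => by
    simp only [mon, Pi.add_apply, pow_add, Finset.prod_mul_distrib]
  have hsel : ∀ (q : σ → ℕ) (j : ℕ), j ≤ ∑ s, q s → ∃ g : σ → ℕ, (∀ s, g s ≤ q s) ∧ ∑ s, g s = j := by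
    intro q j
    induction j with
    | zero => exact fun _ => ⟨0, fun s => Nat.zero_le _, by simp⟩
    | succ j ih =>
      intro hj
      obtain ⟨g, hg, hgs⟩ := ih (by omega)
      obtain ⟨s₀, -, hs₀⟩ := Finset.exists_lt_of_sum_lt (s := (Finset.univ : Finset σ)) (f := g) (g := q) (by omega)
      refine ⟨g + Pi.single s₀ 1, fun s => ?_, ?_⟩
      · by_cases hs : s = s₀
        · subst hs; simpa using hs₀
        · simpa [hs] using hg s
      · simp [Finset.sum_add_distrib, hgs]
  -- every monomial of weight m * 6e is a product of m monomials of weight 6e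
  have hmain : ∀ j, ∀ a : σ → ℕ, ∑ s, a s * w s = (j + 1) * (6 * e) → mon a ∈ ℛ (6 * e) ^ (j + 1) := by
    intro j
    induction j with
    | zero =>
      intro a ha
      rw [zero_add, pow_one]
      have := hmon a
      rwa [ha, zero_add, one_mul] at this
    | succ j ih =>
      intro a ha
      let q : σ → ℕ := fun s => a s / (6 / w s)
      let r : σ → ℕ := fun s => a s % (6 / w s)
      have hsplit : ∑ s, a s * w s = ∑ s, r s * w s + 6 * ∑ s, q s := by
        rw [Finset.mul_sum, ← Finset.sum_add_distrib]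
        refine Finset.sum_congr rfl fun s _ => ?_
        conv_lhs => rw [← Nat.mod_add_div (a s) (6 / w s), add_mul, mul_right_comm, hw6]
      have hr : ∑ s, r s * w s ≤ e := by
        refine le_trans (le_trans (Finset.sum_le_sum (g := fun s => 6 - w s) fun s _ => ?_) (le_of_eq ?_)) he
        · rcases s with i | i | i
          · simp only [r, w, Sum.elim_inl, Sum.elim_inr]
            omega
          · simp only [r, w, Sum.elim_inl, Sum.elim_inr]
            omega
          · simp only [r, w, Sum.elim_inl, Sum.elim_inr]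
            omega
        · simp only [σ, Fintype.sum_sum_type, w, Sum.elim_inl, Sum.elim_inr, Finset.sum_const,
            Finset.card_univ, Fintype.card_fin, smul_eq_mul]
          ring
      have htot : ∑ s, r s * w s + 6 * ∑ s, q s = 6 * ((j + 1) * e + e) := by
        rw [← hsplit, ha]; ring
      obtain ⟨g, hg, hgs⟩ := hsel q (e - (∑ s, r s * w s) / 6) (by omega)
      let a1 : σ → ℕ := fun s => r s + g s * (6 / w s)
      let a2 : σ → ℕ := fun s => (q s - g s) * (6 / w s)
      have haa : a = a1 + a2 := funext fun s => by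
        simp only [Pi.add_apply, a1, a2]
        rw [add_assoc, ← add_mul, Nat.add_sub_cancel' (hg s), mul_comm (q s)]
        exact (Nat.mod_add_div _ _).symm
      have hw1 : ∑ s, a1 s * w s = 6 * e := by
        simp only [a1, add_mul, mul_assoc, hw6, Finset.sum_add_distrib, ← Finset.sum_mul, hgs]
        omega
      have hw2 : ∑ s, a2 s * w s = (j + 1) * (6 * e) := by
        have : ∑ s, a s * w s = ∑ s, a1 s * w s + ∑ s, a2 s * w s := by
          rw [haa, ← Finset.sum_add_distrib]
          simp [add_mul]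
        rw [ha, hw1] at this
        linarith
      rw [haa, hmonadd, pow_succ']
      exact Submodule.mul_mem_mul (hw1 ▸ hmon a1) (ih a2 hw2)
  intro x hx
  obtain ⟨j, rfl⟩ := Nat.exists_eq_add_of_lt hm
  rw [zero_add] at hx ⊢
  obtain ⟨P, hP⟩ : ∃ P : MvPolynomial σ k, MvPolynomial.aeval v P = x := by
    have h : x ∈ Algebra.adjoin k (Set.range v) := htop ▸ Algebra.mem_top
    rwa [Algebra.adjoin_range_eq_range_aeval] at h
  have hx' : GradedAlgebra.proj ℛ ((j + 1) * (6 * e)) x = x := by
    rw [GradedAlgebra.proj_apply, DirectSum.decompose_of_mem_same ℛ hx]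
  rw [← hx', ← hP, MvPolynomial.as_sum P, map_sum, map_sum]
  refine Submodule.sum_mem _ fun d _ => ?_
  rw [MvPolynomial.aeval_monomial, ← Algebra.smul_def, map_smul]
  refine Submodule.smul_mem _ _ ?_
  rw [Finsupp.prod_fintype _ _ (fun s => pow_zero _)]
  show GradedAlgebra.proj ℛ _ (mon d) ∈ _
  rw [GradedAlgebra.proj_apply]
  by_cases hd : ∑ s, d s * w s = (j + 1) * (6 * e)
  · rw [DirectSum.decompose_of_mem_same ℛ (hd ▸ hmon d)]
    exact hmain j d hd
  · rw [DirectSum.decompose_of_mem_ne ℛ (hmon d) hd]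
    exact zero_mem _

end Groth.Agent.S14053
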