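import Groth.Statements.S14054
import Groth.Agent.KoszulGG.Main
import Groth.Agent.CurveCover.Cover

set_option autoImplicit false
universe u
open CategoryTheory CategoryTheory.Limits AlgebraicGeometry TopologicalSpace
open Variety

namespace Groth.Agent.S14054

/-- Let X be a proper scheme over a field k, L a globally generated invertible O_X-module with tensor
inverse M, r = dim_k H⁰(X, L), and b ≥ 1 an integer such that H^q(X, L^{⊗(b−q)}) = 0 whenever 1 ≤ q
≤ r − 1, where for q > b the module L^{⊗(b−q)} is the tensor power M^{⊗(q−b)}. Then the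
multiplication map H⁰(X, L^{⊗b}) ⊗ H⁰(X, L) → H⁰(X, L^{⊗(b+1)}) is surjective. The map is written as
the canonical map from the global sections of the sectionwise tensor product presheaf of L^{⊗b} and
L (these are H⁰(L^{⊗b}) ⊗ H⁰(L), tensor over the global functions) to the global sections of its
sheafification L^{⊗b} ⊗ L = L^{⊗(b+1)}. The base field is arbitrary. -/
theorem result (k : Type u) [Field k]
    (X : Scheme.{u}) [X.Over (Spec (CommRingCat.of k))] [IsProper (X ↘ (Spec (CommRingCat.of k)))]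
    (L : X.Modules) (hL : PicF.IsInvertible L) (hgg : Curv2.IsGloballyGenerated L)
    (M : X.Modules) (hM : ClSub.IsInverseOf M L)
    (b : ℕ) (hb : 1 ≤ b)
    (hvan₁ : ∀ q : ℕ, 1 ≤ q → q ≤ b → q < Module.finrank k (Coh.HH X L 0) →
      Subsingleton (Coh.HH X (CohB1.tensorPow L (b - q)) q))
    (hvan₂ : ∀ q : ℕ, b < q → q < Module.finrank k (Coh.HH X L 0) →
      Subsingleton (Coh.HH X (CohB1.tensorPow M (q - b)) q)) :
    Function.Surjective
      ((toSheafify (Opens.grothendieckTopology X) (CohB1.tensorPre (CohB1.tensorPow L b) L).presheaf).app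
        (Opposite.op ⊤)) := by
  classical
  let _ := Groth.Agent.H23.PicMul.clMonoid X
  haveI := Groth.Agent.CurveCohLib.isNoetherian_of_proper (k := k) (X := X)
  haveI := Groth.Agent.CurveCohLib.finite_HH (k := k) (Groth.Agent.CurveDeg.isCoh_of_isInvertible hL) 0
  let B := Module.finBasis k (Coh.HH X L 0)
  let t : List Γ(L, ⊤) := List.ofFn fun j => (Sheaf.H.equiv₀ (Coh.toAb L) isTerminalTop (B j) : Γ(L, ⊤))
  refine Groth.Agent.KoszulGG.surjective_mul hL hM t (fun x => ?_) b fun q hq1 hq N _ hN => ?_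
  · obtain ⟨j, hj⟩ := Groth.Agent.CurveCover.exists_mem_locus_basis k hL hgg B x
    exact ⟨_, List.mem_ofFn.2 ⟨j, rfl⟩, hj⟩
  have hq' : q < Module.finrank k (Coh.HH X L 0) := by simpa [t] using hq
  have hc : PicF.cl L * PicF.cl M = 1 := by
    rw [mul_comm, ← Groth.Agent.H23.PicMul.cl_tensor]
    exact Groth.Agent.H23.PicMul.cl_eq_iff.2 hM
  have hq0 : PicF.cl L ^ q * PicF.cl M ^ q = 1 := by rw [← mul_pow, hc, one_pow]
  have hN' : PicF.cl N = PicF.cl L ^ b * PicF.cl M ^ q := by rw [← hN, mul_assoc, hq0, mul_one]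
  by_cases hqb : q ≤ b
  · obtain ⟨w⟩ : Nonempty (CohB1.tensorPow L (b - q) ≅ N) := Groth.Agent.H23.PicMul.cl_eq_iff.1 (by
      rw [Groth.Agent.H23.PicMul.cl_tensorPow, hN']
      conv_rhs => rw [← Nat.sub_add_cancel hqb, pow_add, mul_assoc, hq0, mul_one])
    exact Groth.Agent.QCoh.subsingleton_HH_of_iso w q (hvan₁ q hq1 hqb hq')
  · obtain ⟨w⟩ : Nonempty (CohB1.tensorPow M (q - b) ≅ N) := Groth.Agent.H23.PicMul.cl_eq_iff.1 (by
      rw [Groth.Agent.H23.PicMul.cl_tensorPow, hN']
      conv_rhs => rw [← Nat.add_sub_cancel' (not_le.1 hqb).le, pow_add, ← mul_assoc, ← mul_pow, hc, one_pow, one_mul])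
    exact Groth.Agent.QCoh.subsingleton_HH_of_iso w q (hvan₂ q (not_le.1 hqb) hq')


end Groth.Agent.S14054
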