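import Groth.Statements.S14056
import Groth.Agent.Lib.SurfNef

set_option autoImplicit false
set_option backward.isDefEq.respectTransparency false
set_option backward.isDefEq.respectTransparency.types false
set_option linter.style.haveILetI false
set_option linter.unusedSectionVars false
set_option maxHeartbeats 400000
universe u
open CategoryTheory CategoryTheory.Limits AlgebraicGeometry TopologicalSpace
open Surf

namespace Groth.Agent.S14056

open Groth.Agent.H23 Groth.Agent.H23.TrivBasic
attribute [local instance] PicMul.clMonoid

/-- Let k be an algebraically closed field and X a smooth surface over k: an integral scheme, proper and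
smooth over k, of dimension 2; let W be its canonical module, a second exterior power of Ω_{X/k}.
For an invertible module L and an integral closed one-dimensional subscheme C ⊆ X write (L·C) =
χ(O_C ⊗ L) − χ(O_C). Suppose that X has non-negative Kodaira dimension, that is some tensor power
W^{⊗m} with m > 0 has a nonzero global section, and that X is minimal: it contains no (−1)-curve,
where a (−1)-curve is taken, through its numerical characterization, to be an integral closed
one-dimensional subscheme E with H¹(E, O_E) = 0 and (O_X(E)·E) = −1, O_X(E) being a tensor inverse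
of the ideal sheaf of E. Then W is nef: (W·C) ≥ 0 for every integral closed one-dimensional C ⊆ X.
(Together with the first assertion: under non-negative Kodaira dimension, X is minimal if and only
if W is nef.) -/
theorem result (k : Type u) [Field k] [IsAlgClosed k] (X : Scheme.{u})
    [X.Over (Spec (CommRingCat.of k))] [IsProper (X ↘ (Spec (CommRingCat.of k)))] [Smooth (X ↘ (Spec (CommRingCat.of k)))]
    [IsIntegral X] (hdim : topologicalKrullDim X = 2)
    (W : X.Modules) (hW : ExtPow.IsExtPow 2 (Omega.sheaf (X ↘ (Spec (CommRingCat.of k)))) W)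
    (m : ℕ) (hm : 0 < m) (hsec : Nontrivial (Coh.HH X (CohB1.tensorPow W m) 0))
    (hmin : (∀ (E : X.IdealSheafData) (N : X.Modules), IsIntegral E.subscheme →
      topologicalKrullDim (E.support : Set X) = 1 → ClSub.IsInverseOf N (ClSub.idealMod E) →
      Subsingleton (Coh.HH E.subscheme (Coh.structureModule E.subscheme) 1) →
      Curv2.euler k X (CohB1.tensorMod (ClSub.quotMod E) N) - Curv2.euler k X (ClSub.quotMod E) ≠ -1)) :
    (∀ C : X.IdealSheafData, IsIntegral C.subscheme → topologicalKrullDim (C.support : Set X) = 1 →
      0 ≤ Curv2.euler k X (CohB1.tensorMod (ClSub.quotMod C) W) - Curv2.euler k X (ClSub.quotMod C)) := by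
  have hWi := SurfAdj.isInvertible_W k hdim hW
  intro C hC hd
  haveI := hC
  by_contra hneg
  have hI := SurfNef.invertible_ideal k hdim hC hd
  rw [SurfNegDef.euler_quot_tensor (k := k) C hI hWi, neg_nonneg, not_le] at hneg
  obtain ⟨H, hH⟩ := SurfAdj.exists_ample k hdim
  set I := ClSub.idealMod C
  set q := SurfPairing.pair k (PicF.cl I) (PicF.cl I)
  -- the curve has negative square
  have hq : q < 0 := by
    by_contra hq
    rw [not_lt] at hq
    have key : ∀ (n : ℕ) (L : X.Modules), PicF.IsInvertible L → ∀ (s : Γ(L, ⊤)), s ≠ 0 →
        0 < SurfPairing.pair k (PicF.cl I) (PicF.cl L) → n ≤ SurfPairing.pair k (PicF.cl L) (PicF.cl H) := by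
      intro n
      induction n with
      | zero => exact fun L hL s hs _ => by simpa using SurfAmple.pair_nonneg (k := k) hdim.le hL hH hs
      | succ n ih =>
        intro L hL s hs hpos
        obtain ⟨t, ht⟩ := SurfAmple.exists_lift_section C hL hs (SurfNef.subset_of_pair_pos k hdim hL hC hd hpos)
        have h1 := ih _ (PicMul.isInvertible_tensor hL hI) t ht (by
          rw [PicMul.cl_tensor, SurfPairing.pair_mul k hdim.le hI hL hI]
          linarith)
        rw [PicMul.cl_tensor, SurfPairing.pair_comm k _ (PicF.cl H), SurfPairing.pair_mul k hdim.le hH.1 hL hI,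
          SurfPairing.pair_comm k (PicF.cl H) (PicF.cl L), SurfPairing.pair_comm k (PicF.cl H)] at h1
        have h2 := SurfNegDef.pair_curve_ample_neg (k := k) hdim (SurfHodge.regular k) hd hH
        push_cast
        linarith
    obtain ⟨s, hs⟩ := CurveAmple.exists_section_ne_zero hsec
    have hm' := PicMul.isInvertible_tensorPow hWi m
    have := key ((SurfPairing.pair k (PicF.cl (CohB1.tensorPow W m)) (PicF.cl H)).toNat + 1) _ hm' s hs
      (by rw [SurfAmple.pair_pow hdim.le hI hWi]; positivity)
    push_cast at this
    omega
  let i := C.subschemeι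
  letI : C.subscheme.Over (Spec (CommRingCat.of k)) := ⟨i ≫ (X ↘ (Spec (CommRingCat.of k)))⟩
  haveI : IsProper (C.subscheme ↘ Spec (CommRingCat.of k)) :=
    inferInstanceAs (IsProper (i ≫ (X ↘ Spec (CommRingCat.of k))))
  obtain ⟨-, h⟩ := SurfAdj.adjunction k hdim hW hd (C := C)
  have hd1 : topologicalKrullDim C.subscheme ≤ 1 := by
    rw [IsHomeomorph.topologicalKrullDim_eq _
      ((i.isEmbedding.toHomeomorph).trans (Homeomorph.setCongr C.range_subschemeι)).isHomeomorph, hd]
  have h2 := SurfAdj.euler_curve_eq k C.subscheme hd1
  obtain ⟨N, hNi, hN⟩ := PicInv.exists_inverse hI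
  have hIN : PicF.cl I * PicF.cl N = 1 := by
    rw [← PicMul.cl_tensor, PicMul.one_def]
    exact PicMul.cl_eq_iff.2 hN
  set p := Module.finrank k (Coh.HH C.subscheme (Coh.structureModule C.subscheme) 1) with hp
  have hp0 : p = 0 := by
    by_contra hp0
    have : (1 : ℤ) ≤ p := by omega
    linarith
  haveI : Subsingleton (Coh.HH C.subscheme (Coh.structureModule C.subscheme) 1) := by
    haveI := CurveCohLib.isNoetherian_of_proper (k := k) (X := C.subscheme)
    haveI := CurveCohLib.finite_HH (k := k) (X := C.subscheme) (AmpleVan.isCoh_invertible InvX.isInvertible_structureModule) 1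
    exact Module.finrank_zero_iff.1 hp0
  refine hmin C N hC hd ?_ inferInstance ?_
  · exact PicMul.cl_eq_iff.1 (by rw [PicMul.cl_tensor, ← PicMul.one_def, mul_comm]; exact hIN)
  · rw [SurfNegDef.euler_quot_tensor (k := k) C hI hNi, SurfPairing.pair_inv k hdim.le hI hI hNi hIN]
    rw [hp0] at h2
    push_cast at h2
    change _ = SurfPairing.pair k (PicF.cl I) (PicF.cl W) - q at h
    omega

end Groth.Agent.S14056
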