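import Groth.Statements.S14057
import Groth.Agent.Lib.SurfAdj

set_option autoImplicit false
set_option backward.isDefEq.respectTransparency false
set_option backward.isDefEq.respectTransparency.types false
set_option linter.style.haveILetI false
set_option linter.unusedSectionVars false
set_option maxHeartbeats 400000
universe u
open CategoryTheory CategoryTheory.Limits AlgebraicGeometry TopologicalSpace
open Surf

namespace Groth.Agent.S14057

open Groth.Agent.H23
attribute [local instance] PicMul.clMonoid

/-- Let k be an algebraically closed field and X a smooth surface over k: an integral scheme, proper and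
smooth over k, of dimension 2; let W be its canonical module, a second exterior power of Ω_{X/k}.
For an invertible module L and an integral closed one-dimensional subscheme C ⊆ X write (L·C) =
χ(O_C ⊗ L) − χ(O_C), and (W·W) for the self-intersection number of W (the alternating sum χ(O_X) −
2χ(W) + χ(W ⊗ W)). Suppose W is nef and (W·W) > 0. Then W is ample if and only if X contains no
(−2)-curve, where a (−2)-curve is taken, through its numerical characterization, to be an integral
closed one-dimensional subscheme E with H¹(E, O_E) = 0 and (O_X(E)·E) = −2, O_X(E) being a tensor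
inverse of the ideal sheaf of E. (The published statement is for a minimal surface of general type;
its proof uses exactly that the canonical module is nef with positive self-intersection, which is
how the hypothesis is written here.) -/
theorem result (k : Type u) [Field k] [IsAlgClosed k] (X : Scheme.{u})
    [X.Over (Spec (CommRingCat.of k))] [IsProper (X ↘ (Spec (CommRingCat.of k)))] [Smooth (X ↘ (Spec (CommRingCat.of k)))]
    [IsIntegral X] (hdim : topologicalKrullDim X = 2)
    (W : X.Modules) (hW : ExtPow.IsExtPow 2 (Omega.sheaf (X ↘ (Spec (CommRingCat.of k)))) W)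
    (hnef : (∀ C : X.IdealSheafData, IsIntegral C.subscheme → topologicalKrullDim (C.support : Set X) = 1 →
      0 ≤ Curv2.euler k X (CohB1.tensorMod (ClSub.quotMod C) W) - Curv2.euler k X (ClSub.quotMod C)))
    (hpos : 0 < FGA.intNum k X 2 ![W, W] (Coh.structureModule X)) :
    CohB1.IsAmple W ↔
    (∀ (E : X.IdealSheafData) (N : X.Modules), IsIntegral E.subscheme →
      topologicalKrullDim (E.support : Set X) = 1 → ClSub.IsInverseOf N (ClSub.idealMod E) →
      Subsingleton (Coh.HH E.subscheme (Coh.structureModule E.subscheme) 1) →
      Curv2.euler k X (CohB1.tensorMod (ClSub.quotMod E) N) - Curv2.euler k X (ClSub.quotMod E) ≠ -2) := by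
  have hWi := SurfAdj.isInvertible_W k hdim hW
  have hreg : ∀ x : X, IsRegularLocalRing (X.presheaf.stalk x) := SurfHodge.regular k
  rw [SurfPairing.intNum_eq_pair k hdim.le hWi hWi] at hpos
  constructor
  · intro hA E N hE hE1 hN hsub heq
    haveI := hE
    let i := E.subschemeι
    letI : E.subscheme.Over (Spec (CommRingCat.of k)) := ⟨i ≫ (X ↘ (Spec (CommRingCat.of k)))⟩
    haveI : IsProper (E.subscheme ↘ Spec (CommRingCat.of k)) :=
      inferInstanceAs (IsProper (i ≫ (X ↘ Spec (CommRingCat.of k))))
    obtain ⟨hI, h⟩ := SurfAdj.adjunction k hdim hW hE1 (C := E)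
    obtain ⟨hNi, hNI⟩ := CurveOnSurf.isInvertible_of_inverse hI hN
    rw [SurfNegDef.euler_quot_tensor (k := k) E hI hNi,
      SurfPairing.pair_inv k hdim.le hI hI hNi ((mul_comm _ _).trans hNI)] at heq
    have hd : topologicalKrullDim E.subscheme ≤ 1 := by
      rw [IsHomeomorph.topologicalKrullDim_eq _
        ((i.isEmbedding.toHomeomorph).trans (Homeomorph.setCongr E.range_subschemeι)).isHomeomorph, hE1]
    have h2 := SurfAdj.euler_curve_eq k E.subscheme hd
    haveI := hsub
    rw [Module.finrank_zero_of_subsingleton] at h2
    have hneg := SurfNegDef.pair_curve_ample_neg (k := k) hdim hreg hE1 hA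
    push_cast at h2
    linarith
  · intro hno
    refine Nakai.isAmple_of_surface k hdim hWi hpos fun Z hZ hZd => ?_
    haveI := hZ
    let i := Z.subschemeι
    letI : Z.subscheme.Over (Spec (CommRingCat.of k)) := ⟨i ≫ (X ↘ (Spec (CommRingCat.of k)))⟩
    haveI : IsProper (Z.subscheme ↘ Spec (CommRingCat.of k)) :=
      inferInstanceAs (IsProper (i ≫ (X ↘ Spec (CommRingCat.of k))))
    obtain ⟨hI, h⟩ := SurfAdj.adjunction k hdim hW hZd (C := Z)
    have hdeg : Curv2.deg k Z.subscheme ((Scheme.Modules.pullback i).obj W) 1 =
        -SurfPairing.pair k (PicF.cl (ClSub.idealMod Z)) (PicF.cl W) := by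
      have h0 := CurveOnSurf.pair_ideal (k := k) i hWi (by rw [Scheme.IdealSheafData.ker_subschemeι]; exact hI)
      rw [Scheme.IdealSheafData.ker_subschemeι] at h0
      linarith
    rw [hdeg]
    have hnn := hnef Z hZ hZd
    rw [SurfNegDef.euler_quot_tensor (k := k) Z hI hWi] at hnn
    rcases hnn.lt_or_eq with hlt | heq
    · exact hlt
    exfalso
    obtain ⟨N, hNi, hN⟩ := PicInv.exists_inverse hI
    have hIN : PicF.cl (ClSub.idealMod Z) * PicF.cl N = 1 := by
      rw [← PicMul.cl_tensor, PicMul.one_def]
      exact PicMul.cl_eq_iff.2 hN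
    obtain ⟨H, hH⟩ := SurfAdj.exists_ample k hdim
    have hneg := SurfNegDef.pair_curve_ample_neg (k := k) hdim hreg hZd hH
    have hd : topologicalKrullDim Z.subscheme ≤ 1 := by
      rw [IsHomeomorph.topologicalKrullDim_eq _
        ((i.isEmbedding.toHomeomorph).trans (Homeomorph.setCongr Z.range_subschemeι)).isHomeomorph, hZd]
    have h2 := SurfAdj.euler_curve_eq k Z.subscheme hd
    have hWI : SurfPairing.pair k (PicF.cl W) (PicF.cl (ClSub.idealMod Z)) = 0 := by
      rw [SurfPairing.pair_comm]; linarith
    have hII := SurfHodge.hodge_index' (k := k) hdim hH hWi hI hpos hWI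
    have hne : SurfPairing.pair k (PicF.cl (ClSub.idealMod Z)) (PicF.cl (ClSub.idealMod Z)) ≠ 0 := fun h0 => by
      have := SurfAdj.pair_ample_eq_zero k hdim hH hWi hI hpos hWI h0
      omega
    set p := Module.finrank k (Coh.HH Z.subscheme (Coh.structureModule Z.subscheme) 1) with hp
    have hp0 : p = 0 := by
      by_contra hp0
      exact hne (le_antisymm hII (by
        have : (1 : ℤ) ≤ p := by omega
        linarith))
    haveI : Subsingleton (Coh.HH Z.subscheme (Coh.structureModule Z.subscheme) 1) := by
      haveI := CurveCohLib.isNoetherian_of_proper (k := k) (X := Z.subscheme)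
      haveI := CurveCohLib.finite_HH (k := k) (X := Z.subscheme) (AmpleVan.isCoh_invertible InvX.isInvertible_structureModule) 1
      exact Module.finrank_zero_iff.1 hp0
    refine hno Z N hZ hZd ?_ inferInstance ?_
    · exact PicMul.cl_eq_iff.1 (by rw [PicMul.cl_tensor, ← PicMul.one_def, mul_comm]; exact hIN)
    · rw [SurfNegDef.euler_quot_tensor (k := k) Z hI hNi, SurfPairing.pair_inv k hdim.le hI hI hNi hIN]
      rw [hp0] at h2
      push_cast at h2
      linarith

end Groth.Agent.S14057
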