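import Groth.Statements.S14058
import Groth.Agent.SurfRows.R1Resolution
import Groth.Agent.GrpSchLib.SmoothReduced

set_option autoImplicit false
set_option backward.isDefEq.respectTransparency false
set_option backward.isDefEq.respectTransparency.types false
set_option linter.style.haveILetI false
set_option linter.unusedSectionVars false
set_option maxHeartbeats 800000
universe u
open CategoryTheory CategoryTheory.Limits AlgebraicGeometry TopologicalSpace
open Surf

namespace Groth.Agent.S14058

open CategoryTheory CategoryTheory.Limits Groth.Agent Groth.Agent.H23
attribute [local instance] PicMul.clMonoid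

/-- Let k be an algebraically closed field and X a normal surface over k: an integral normal scheme,
proper over k, of dimension 2. Let π : S → X be a resolution of X: S is an integral scheme of
dimension 2 smooth over k, π is proper, the map O_X → π_*O_S is an isomorphism, and π restricts to
an isomorphism over the open subset of regular points of X. Then R¹π_*O_S = 0 if and only if χ(S,
O_S) = χ(X, O_X). Here R¹π_* is the first right derived functor of the direct image on abelian
sheaves, applied to the abelian sheaf underlying O_S. -/
theorem result (k : Type u) [Field k] [IsAlgClosed k]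
    (X : Scheme.{u}) [X.Over (Spec (CommRingCat.of k))] [IsProper (X ↘ (Spec (CommRingCat.of k)))] [IsIntegral X]
    (hdimX : topologicalKrullDim X = 2) (hnorm : Pi1.IsNormalScheme X)
    (S : Scheme.{u}) (π : S ⟶ X) [IsProper π] [IsIntegral S] (hdimS : topologicalKrullDim S = 2)
    [Smooth (π ≫ (X ↘ (Spec (CommRingCat.of k))))]
    (hO : IsIso (ClSub.unitToPush π))
    (U : X.Opens) (hU : ∀ x : X, x ∈ U ↔ IsRegularLocalRing (X.presheaf.stalk x)) (hiso : IsIso (π ∣_ U)) :
    letI : S.Over (Spec (CommRingCat.of k)) := ⟨π ≫ (X ↘ (Spec (CommRingCat.of k)))⟩
    IsZero ((Coh.RpushAb π 1).obj (Coh.toAb (Coh.structureModule S))) ↔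
      Curv2.euler k S (Coh.structureModule S) = Curv2.euler k X (Coh.structureModule X) := by
  haveI := hiso
  letI : S.Over (Spec (CommRingCat.of k)) := ⟨π ≫ (X ↘ (Spec (CommRingCat.of k)))⟩
  refine SurfRows.R1_zero_iff_euler k hdimX hnorm π rfl U ⟨genericPoint X, (hU _).2 ?_⟩
  letI : Field (X.presheaf.stalk (genericPoint X)) := inferInstanceAs (Field X.functionField)
  infer_instance

end Groth.Agent.S14058
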