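import Groth.Statements.S14059
import Groth.Agent.GrpSchLib.FieldTop
import Mathlib.AlgebraicGeometry.AlgClosed.Basic
import Mathlib.RingTheory.Ideal.Cotangent
-- import your own Groth.Agent.* helpers here

set_option autoImplicit false
universe u
open CategoryTheory MonoidalCategory CartesianMonoidalCategory MonObj GrpObj AlgebraicGeometry
open GrpSch

namespace Groth.Agent.S14059

/-- Let k be an algebraically closed field and G a group scheme of finite type over k, with unit point e
(the image of the unit section). Then the tangent space of G at e is zero, that is the cotangent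
space m_e/m_e² of the local ring O_{G,e} vanishes, if and only if G is isomorphic over k to a finite
disjoint union of copies of Spec k, stated as: the underlying space of G is finite and discrete and
the structure map k → O_{G,g} is bijective for every point g. (The published statement is over an
arbitrary field; the group scheme of cube roots of unity over the rationals has zero tangent space
at the unit but a point with residue field larger than the base field, and the printed argument
translates by rational points, so the base field is taken algebraically closed here.) -/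
theorem result (k : Type u) [Field k] [IsAlgClosed k]
    (G : Over (Spec (CommRingCat.of k))) [GrpObj G] [LocallyOfFiniteType G.hom] [QuasiCompact G.hom]
    (e : G.left) (he : e ∈ Set.range (η[G]).left.base) :
    letI : G.left.Over (Spec (CommRingCat.of k)) := ⟨G.hom⟩
    Subsingleton (IsLocalRing.CotangentSpace (G.left.presheaf.stalk e)) ↔
      (Finite G.left ∧ DiscreteTopology G.left ∧
        ∀ g : G.left, Function.Bijective (Curv2.stalkMap k G.left g)) := by
  letI : G.left.Over (Spec (CommRingCat.of k)) := ⟨G.hom⟩
  have : IsLocallyNoetherian G.left := LocallyOfFiniteType.isLocallyNoetherian G.hom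
  constructor
  · intro hsub
    have hJ := LocallyOfFiniteType.jacobsonSpace G.hom
    have hfe : IsField (G.left.presheaf.stalk e) := IsLocalRing.subsingleton_cotangentSpace_iff.mp hsub
    obtain ⟨z, hz⟩ := he
    -- stalks at closed points are fields
    have hfield : ∀ x : G.left, IsClosed ({x} : Set G.left) → IsField (G.left.presheaf.stalk x) := by
      intro x hx
      let x' : 𝟙_ _ ⟶ G := Over.homMk _ ((pointEquivClosedPoint G.hom).symm ⟨x, hx⟩).2
      have hx' : x'.left (IsLocalRing.closedPoint k) = x := by
        simp only [x', pointEquivClosedPoint]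
        exact pointOfClosedPoint_apply _ _ _ _
      let f := (GrpSchLib.divIso x').hom.left
      have hf : f x = e := by
        have h1 := GrpSchLib.divIso_hom_apply_self x'
        rw [hx'] at h1
        rw [← hz]
        exact h1.trans (congrArg η[G].left (@Subsingleton.elim (Spec (CommRingCat.of k)) inferInstance _ _))
      have : IsField (G.left.presheaf.stalk (f x)) := hf ▸ hfe
      exact MulEquiv.isField this (asIso (f.stalkMap x)).commRingCatIsoToRingEquiv.symm.toMulEquiv
    have hgen : ∀ y : G.left, IsClosed ({y} : Set G.left) := by
      intro y
      obtain ⟨x, hyx, hx⟩ := nonempty_inter_closedPoints (X := G.left) (Z := closure {y})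
        ⟨y, subset_closure rfl⟩ isClosed_closure.isLocallyClosed
      rw [mem_closedPoints_iff] at hx
      have hsp : y ⤳ x := specializes_iff_mem_closure.mpr hyx
      obtain ⟨a, ha⟩ : y ∈ Set.range (G.left.fromSpecStalk x) := by
        rw [Scheme.range_fromSpecStalk]; exact hsp
      have hbot : IsLocalRing.maximalIdeal (G.left.presheaf.stalk x) = ⊥ :=
        IsLocalRing.isField_iff_maximalIdeal_eq.mp (hfield x hx)
      have hle : a.asIdeal ≤ IsLocalRing.maximalIdeal (G.left.presheaf.stalk x) :=
        IsLocalRing.le_maximalIdeal a.2.ne_top
      have haeq : a = IsLocalRing.closedPoint (G.left.presheaf.stalk x) :=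
        PrimeSpectrum.ext (le_antisymm hle (hbot.le.trans bot_le))
      have := congrArg (G.left.fromSpecStalk x) haeq
      rw [ha, Scheme.fromSpecStalk_closedPoint] at this
      rwa [this]
    have : T1Space G.left := ⟨hgen⟩
    have : CompactSpace G.left := QuasiCompact.compactSpace_of_compactSpace G.hom
    have : AlgebraicGeometry.IsNoetherian G.left := ⟨⟩
    have hdisc : DiscreteTopology G.left := by
      have : Finite G.left := by
        have hfin := TopologicalSpace.NoetherianSpace.finite_irreducibleComponents (α := G.left)
        refine Set.finite_univ_iff.mp (Set.Finite.subset (hfin.biUnion fun Z hZ => ?_)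
          (fun x _ => Set.mem_biUnion (t := fun Z => Z) (irreducibleComponent_mem_irreducibleComponents x)
            mem_irreducibleComponent))
        have hc := isClosed_of_mem_irreducibleComponents Z hZ
        have hg := hZ.1.isGenericPoint_genericPoint hc
        rw [IsGenericPoint, IsClosed.closure_eq (hgen _)] at hg
        exact hg ▸ Set.finite_singleton _
      infer_instance
    refine ⟨finite_of_compact_of_discrete, hdisc, fun g => ?_⟩
    obtain ⟨⟨s, hs⟩, hsg⟩ := (pointEquivClosedPoint G.hom).surjective ⟨g, mem_closedPoints_iff.mpr (hgen g)⟩
    obtain rfl : s (IsLocalRing.closedPoint k) = g := congrArg Subtype.val hsg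
    let ρ := (Scheme.stalkClosedPointTo s).hom
    have hρ : ρ.comp (Curv2.stalkMap k G.left (s (IsLocalRing.closedPoint k))) = RingHom.id k := by
      have h1 := Scheme.germ_stalkClosedPointTo (f := s) ⊤ trivial
      have h2 : (Scheme.ΓSpecIso (CommRingCat.of k)).inv ≫ G.hom.appTop ≫
          G.left.presheaf.germ ⊤ (s (IsLocalRing.closedPoint k)) trivial ≫ Scheme.stalkClosedPointTo s = 𝟙 _ := by
        rw [h1]
        have h3 : G.hom.appTop ≫ s.appTop = (s ≫ G.hom).appTop := (Scheme.Hom.comp_appTop _ _).symm
        have h4 : G.hom.appTop ≫ s.app ⊤ = 𝟙 _ := by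
          show G.hom.appTop ≫ s.appTop = 𝟙 _
          rw [h3, hs]; rfl
        erw [reassoc_of% h4]
        have h5 : ∀ m : (⊤ : (Spec (CommRingCat.of k)).Opens) ⟶ ⊤,
            (Scheme.ΓSpecIso (CommRingCat.of k)).inv ≫ (Spec (CommRingCat.of k)).presheaf.map m.op ≫
              (Scheme.ΓSpecIso (CommRingCat.of k)).hom = 𝟙 _ := fun m => by
          rw [Subsingleton.elim m (𝟙 _), op_id, CategoryTheory.Functor.map_id, Category.id_comp,
            Iso.inv_hom_id]
        simp only [Functor.mapIso_hom, Iso.trans_hom, Iso.op_hom]
        exact h5 (𝟙 _)
      exact congrArg CommRingCat.Hom.hom h2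
    let := (hfield _ (hgen (s (IsLocalRing.closedPoint k)))).toField
    exact ⟨(Curv2.stalkMap k G.left _).injective,
      fun o => ⟨ρ o, ρ.injective (RingHom.congr_fun hρ (ρ o))⟩⟩
  · rintro ⟨-, -, hbij⟩
    exact IsLocalRing.subsingleton_cotangentSpace_iff.mpr
      (MulEquiv.isField (Field.toIsField k)
        (RingEquiv.ofBijective _ (hbij e)).symm.toMulEquiv)

end Groth.Agent.S14059
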