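import Groth.Statements.S14061
import Groth.Agent.SurfMin.Res

set_option autoImplicit false
set_option backward.isDefEq.respectTransparency false
set_option backward.isDefEq.respectTransparency.types false
set_option linter.style.haveILetI false
set_option linter.unusedSectionVars false
set_option maxHeartbeats 800000
universe u
open CategoryTheory CategoryTheory.Limits AlgebraicGeometry TopologicalSpace
open Surf

namespace Groth.Agent.S14061

open Groth.Agent.H23
attribute [local instance] PicMul.clMonoid

/-- Let k be an algebraically closed field and X a normal surface over k (an integral normal scheme,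
proper over k, of dimension 2), with U its open subset of regular points. Here a resolution of X is
a proper morphism π : S → X from an integral scheme S of dimension 2 smooth over k such that O_X →
π_*O_S is an isomorphism and π is an isomorphism over the open subset U of regular points of X; it
is minimal when every resolution π' : S' → X factors as π' = π ∘ u for a unique morphism u : S' → S.
Then a resolution π : S → X is minimal if and only if no (−1)-curve of S is contracted to a point by
π, where a (−1)-curve is taken, through its numerical characterization, to be an integral closed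
one-dimensional subscheme E ⊆ S with H¹(E, O_E) = 0 and (N·E) = χ(O_E ⊗ N) − χ(O_E) = −1 for a
tensor inverse N of the ideal sheaf of E. The published statement asks that no component of the
reduced fibre over a singular point be an exceptional curve of the first kind; an integral curve
mapped to a point lies over a singular point and is such a component, so the two conditions agree. -/
theorem result (k : Type u) [Field k] [IsAlgClosed k]
    (X : Scheme.{u}) [X.Over (Spec (CommRingCat.of k))] [IsProper (X ↘ (Spec (CommRingCat.of k)))] [IsIntegral X]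
    (hdimX : topologicalKrullDim X = 2) (hnorm : Pi1.IsNormalScheme X)
    (U : X.Opens) (hU : ∀ x : X, x ∈ U ↔ IsRegularLocalRing (X.presheaf.stalk x))
    (S : Scheme.{u}) (π : S ⟶ X) [IsProper π] [IsIntegral S] (hdimS : topologicalKrullDim S = 2)
    [Smooth (π ≫ (X ↘ (Spec (CommRingCat.of k))))] (hO : IsIso (ClSub.unitToPush π)) (hiso : IsIso (π ∣_ U)) :
    letI : S.Over (Spec (CommRingCat.of k)) := ⟨π ≫ (X ↘ (Spec (CommRingCat.of k)))⟩
    (∀ (S' : Scheme.{u}) (π' : S' ⟶ X), (IsProper π' ∧ IsIntegral S' ∧ topologicalKrullDim S' = 2 ∧ Smooth (π' ≫ (X ↘ (Spec (CommRingCat.of k)))) ∧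
        IsIso (ClSub.unitToPush π') ∧ IsIso (π' ∣_ U)) → ∃! u : S' ⟶ S, u ≫ π = π') ↔
      (∀ (E : S.IdealSheafData) (N : S.Modules), IsIntegral E.subscheme →
        topologicalKrullDim (E.support : Set S) = 1 → ClSub.IsInverseOf N (ClSub.idealMod E) →
        Subsingleton (Coh.HH E.subscheme (Coh.structureModule E.subscheme) 1) →
        Curv2.euler k S (CohB1.tensorMod (ClSub.quotMod E) N) - Curv2.euler k S (ClSub.quotMod E) = -1 →
        ¬ ∃ x : X, π.base '' (E.support : Set S) = {x}) := by
  letI : S.Over (Spec (CommRingCat.of k)) := ⟨π ≫ (X ↘ (Spec (CommRingCat.of k)))⟩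
  have hR : Groth.Agent.SurfMin.IsRes k (X ↘ (Spec (CommRingCat.of k))) U π :=
    ⟨inferInstance, inferInstance, hdimS, inferInstance, hO, hiso⟩
  have hS := Groth.Agent.SurfMin.IsRes.isSurf k (X ↘ (Spec (CommRingCat.of k))) U hR
  haveI := hS.proper
  haveI := hS.smooth
  haveI := hS.noeth k
  haveI : IsLocallyNoetherian X := LocallyOfFiniteType.isLocallyNoetherian (X ↘ (Spec (CommRingCat.of k)))
  have hUne := Groth.Agent.SurfMin.regular_nonempty hnorm U hU
  haveI := hiso
  constructor
  · intro hmin E N hE hE1 hN hH1 hself hx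
    obtain ⟨x, hx⟩ := hx
    have hEc : Groth.Agent.SurfMin.IsCurve E := ⟨hE, hE1⟩
    have hM1 : Groth.Agent.SurfMin.IsM1 k E :=
      ⟨hEc, (Groth.Agent.SurfMin.euler_form k hdimS hEc hN).symm.trans hself, hH1⟩
    obtain ⟨S₁, π₁, b, h₁, hbπ, hb⟩ :=
      Groth.Agent.SurfMin.exists_contract k (X ↘ (Spec (CommRingCat.of k))) U hnorm hUne hR hM1 hx
    obtain ⟨u, hu, -⟩ := hmin S₁ π₁ h₁.to_and
    obtain ⟨v, -, huniq⟩ := hmin S π ⟨inferInstance, inferInstance, hdimS, inferInstance, hO, hiso⟩
    have hid : b ≫ u = 𝟙 S := (huniq _ (by show (b ≫ u) ≫ π = π; rw [Category.assoc, hu, hbπ])).trans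
      (huniq _ (Category.id_comp π)).symm
    obtain ⟨a, ha, a', ha', hne⟩ := Groth.Agent.SurfMin.curve_nontrivial k hEc
    obtain ⟨-, -, P, hP, hrange, -⟩ := hb
    have hP' : ∀ z ∈ (E.support : Set S), b z = P := fun z hz => by
      obtain ⟨c, rfl⟩ : z ∈ Set.range E.subschemeι := by rw [E.range_subschemeι]; exact hz
      exact hrange.le ⟨c, rfl⟩
    apply hne
    have e1 : (b ≫ u) a = (b ≫ u) a' := by
      rw [Scheme.Hom.comp_apply, Scheme.Hom.comp_apply, hP' a ha, hP' a' ha']
    rw [hid] at e1
    exact e1
  · intro hno S' π' h'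
    obtain ⟨hP', hI', hd', hs', -, hi'⟩ := h'
    haveI := hP'
    haveI := hI'
    haveI := hi'
    letI : S'.Over (Spec (CommRingCat.of k)) := ⟨π' ≫ (X ↘ (Spec (CommRingCat.of k)))⟩
    refine Groth.Agent.SurfMin.existsUnique_hom k (X ↘ (Spec (CommRingCat.of k))) hdimX hnorm π rfl hS U hUne
      (fun E hE hx => ?_) ⟨inferInstanceAs (IsProper (π' ≫ (X ↘ (Spec (CommRingCat.of k))))), hs', hI', hd'⟩ π' rfl
    obtain ⟨N, hN⟩ := Groth.Agent.SurfMin.exists_inverse k hdimS hE.curve
    exact hno E N hE.curve.1 hE.curve.2 hN hE.h1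
      ((Groth.Agent.SurfMin.euler_form k hdimS hE.curve hN).trans hE.self) hx

end Groth.Agent.S14061
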