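import Groth.Statements.S14062
import Groth.Agent.SurfMin.Res

set_option autoImplicit false
set_option backward.isDefEq.respectTransparency false
set_option backward.isDefEq.respectTransparency.types false
set_option linter.style.haveILetI false
set_option linter.unusedSectionVars false
set_option maxHeartbeats 800000
universe u
open CategoryTheory CategoryTheory.Limits AlgebraicGeometry TopologicalSpace
open Surf

namespace Groth.Agent.S14062

open Groth.Agent.H23
attribute [local instance] PicMul.clMonoid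

/-- Let k be an algebraically closed field and X a normal surface over k (an integral normal scheme,
proper over k, of dimension 2), with U its open subset of regular points. Here a resolution of X is
a proper morphism π : S → X from an integral scheme S of dimension 2 smooth over k such that O_X →
π_*O_S is an isomorphism and π is an isomorphism over the open subset U of regular points of X; it
is minimal when every resolution π' : S' → X factors as π' = π ∘ u for a unique morphism u : S' → S.
If X admits some resolution, then X admits a minimal resolution. (The published statement asserts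
the existence of a minimal resolution outright, taking the existence of a resolution of the normal
surface from the literature at the start of its proof; that existence is carried as the hypothesis
here.) -/
theorem result (k : Type u) [Field k] [IsAlgClosed k]
    (X : Scheme.{u}) [X.Over (Spec (CommRingCat.of k))] [IsProper (X ↘ (Spec (CommRingCat.of k)))] [IsIntegral X]
    (hdimX : topologicalKrullDim X = 2) (hnorm : Pi1.IsNormalScheme X)
    (U : X.Opens) (hU : ∀ x : X, x ∈ U ↔ IsRegularLocalRing (X.presheaf.stalk x))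
    (hex : ∃ (S₀ : Scheme.{u}) (π₀ : S₀ ⟶ X), (IsProper π₀ ∧ IsIntegral S₀ ∧ topologicalKrullDim S₀ = 2 ∧ Smooth (π₀ ≫ (X ↘ (Spec (CommRingCat.of k)))) ∧
        IsIso (ClSub.unitToPush π₀) ∧ IsIso (π₀ ∣_ U))) :
    ∃ (S : Scheme.{u}) (π : S ⟶ X), (IsProper π ∧ IsIntegral S ∧ topologicalKrullDim S = 2 ∧ Smooth (π ≫ (X ↘ (Spec (CommRingCat.of k)))) ∧
        IsIso (ClSub.unitToPush π) ∧ IsIso (π ∣_ U)) ∧
      (∀ (S' : Scheme.{u}) (π' : S' ⟶ X), (IsProper π' ∧ IsIntegral S' ∧ topologicalKrullDim S' = 2 ∧ Smooth (π' ≫ (X ↘ (Spec (CommRingCat.of k)))) ∧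
        IsIso (ClSub.unitToPush π') ∧ IsIso (π' ∣_ U)) → ∃! u : S' ⟶ S, u ≫ π = π') := by
  classical
  haveI : IsLocallyNoetherian X := LocallyOfFiniteType.isLocallyNoetherian (X ↘ (Spec (CommRingCat.of k)))
  have hUne := Groth.Agent.SurfMin.regular_nonempty hnorm U hU
  have hPex : ∃ n : ℕ, ∃ (S : Scheme.{u}) (π : S ⟶ X),
      Groth.Agent.SurfMin.IsRes k (X ↘ (Spec (CommRingCat.of k))) U π ∧ (Groth.Agent.SurfMin.badPts π).ncard = n := by
    obtain ⟨S₀, π₀, h₀⟩ := hex
    exact ⟨_, S₀, π₀, Groth.Agent.SurfMin.IsRes.of_and k _ U h₀, rfl⟩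
  obtain ⟨S, π, hR, hn0⟩ := Nat.find_spec hPex
  refine ⟨S, π, hR.to_and, fun S' π' h' => ?_⟩
  letI : S.Over (Spec (CommRingCat.of k)) := ⟨π ≫ (X ↘ (Spec (CommRingCat.of k)))⟩
  have hS := Groth.Agent.SurfMin.IsRes.isSurf k (X ↘ (Spec (CommRingCat.of k))) U hR
  haveI := hR.proper
  haveI := hR.int
  haveI := hR.iso
  obtain ⟨hP', hI', hd', hs', -, hi'⟩ := h'
  haveI := hP'
  haveI := hI'
  haveI := hi'
  letI : S'.Over (Spec (CommRingCat.of k)) := ⟨π' ≫ (X ↘ (Spec (CommRingCat.of k)))⟩
  refine Groth.Agent.SurfMin.existsUnique_hom k (X ↘ (Spec (CommRingCat.of k))) hdimX hnorm π rfl hS U hUne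
    (fun E hE hx => ?_) ⟨inferInstanceAs (IsProper (π' ≫ (X ↘ (Spec (CommRingCat.of k))))), hs', hI', hd'⟩ π' rfl
  obtain ⟨x, hx⟩ := hx
  obtain ⟨S₁, π₁, b, h₁, hbπ, hb⟩ :=
    Groth.Agent.SurfMin.exists_contract k (X ↘ (Spec (CommRingCat.of k))) U hnorm hUne hR hE hx
  have hlt := Groth.Agent.SurfMin.badPts_lt k (X ↘ (Spec (CommRingCat.of k))) U hUne hR h₁ hbπ hE hb
  rw [hn0] at hlt
  exact absurd hlt (not_lt.2 (Nat.find_min' hPex ⟨S₁, π₁, h₁, rfl⟩))

end Groth.Agent.S14062
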