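import Groth.Statements.S14064
import Groth.Agent.Lib.CurveAmple
import Groth.Agent.Nakai.SurfProj

set_option autoImplicit false
set_option linter.style.haveILetI false
set_option backward.isDefEq.respectTransparency false
set_option backward.isDefEq.respectTransparency.types false
set_option maxHeartbeats 1000000
universe u
open CategoryTheory CategoryTheory.Limits AlgebraicGeometry TopologicalSpace
open Surf

open TopologicalSpace
open Groth.Agent Groth.Agent.H23

namespace Groth.Agent.S14064

attribute [local instance] PicMul.clMonoid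

open Groth.Agent.H23.TrivBasic

/-- The product of two nonzero sections is nonzero. -/
theorem tmul_ne_zero {X : Scheme.{u}} [IsIntegral X] {A B : X.Modules} (hA : PicF.IsInvertible A)
    (hB : PicF.IsInvertible B) {a : Γ(A, ⊤)} {b : Γ(B, ⊤)} (ha : a ≠ 0) (hb : b ≠ 0) : InvX.tmul a b ≠ 0 := by
  obtain ⟨y, hy⟩ := (Opens.ne_bot_iff_nonempty _).1 (locus_ne_bot hA ha)
  obtain ⟨z, hz⟩ := (Opens.ne_bot_iff_nonempty _).1 (locus_ne_bot hB hb)
  obtain ⟨U₁, h₁, f₁⟩ := mem_locus_iff.1 ((genericPoint_specializes y).mem_open (locus a).isOpen hy)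
  obtain ⟨U₂, h₂, f₂⟩ := mem_locus_iff.1 ((genericPoint_specializes z).mem_open (locus b).isOpen hz)
  have hf₁ := f₁.res (inf_le_left : U₁ ⊓ U₂ ≤ U₁)
  have hf₂ := f₂.res (inf_le_right : U₁ ⊓ U₂ ≤ U₂)
  rw [AModX.res_res] at hf₁ hf₂
  have hf := InvX.isFrame_tmul hf₁ hf₂
  rw [← InvX.res_tmul] at hf
  exact Nakai.ne_zero_of_mem_locus (x := genericPoint X) (mem_locus_iff.2 ⟨U₁ ⊓ U₂, ⟨h₁, h₂⟩, hf⟩)

/-- If a product of sections is a frame, so is each factor. -/
theorem isFrame_right {X : Scheme.{u}} {A B : X.Modules} (hA : PicF.IsInvertible A) (hB : PicF.IsInvertible B)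
    {a : Γ(A, ⊤)} {b : Γ(B, ⊤)} (h : InvX.IsFrame (InvX.tmul a b)) : InvX.IsFrame b := by
  refine locus_eq_top_iff.1 (top_le_iff.1 fun x _ => ?_)
  obtain ⟨U₁, h₁, e₀, he₀⟩ := InvX.exists_frame hA x
  obtain ⟨U₂, h₂, g₀, hg₀⟩ := InvX.exists_frame hB x
  let U := U₁ ⊓ U₂
  have he := he₀.res (inf_le_left : U ≤ U₁)
  have hg := hg₀.res (inf_le_right : U ≤ U₂)
  obtain ⟨c, hc⟩ := he.exists_coord le_rfl (AModX.res A (le_top : U ≤ ⊤) a)
  obtain ⟨d, hd⟩ := hg.exists_coord le_rfl (AModX.res B (le_top : U ≤ ⊤) b)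
  rw [AModX.res_self] at hc hd
  have hab : AModX.res _ (le_top : U ≤ ⊤) (InvX.tmul a b) =
      (c * d) • InvX.tmul (AModX.res A (inf_le_left : U ≤ U₁) e₀) (AModX.res B (inf_le_right : U ≤ U₂) g₀) := by
    rw [InvX.res_tmul, hc, hd, InvX.tmul_smul_left, InvX.tmul_smul_right, mul_smul]
  have h3 := locus_eq_basicOpen (InvX.isFrame_tmul he hg) hab
  have hx : x ∈ X.basicOpen (c * d) := h3.le ⟨(locus_eq_top_iff.2 h).ge trivial, h₁, h₂⟩
  rw [Scheme.basicOpen_mul] at hx
  exact ((locus_eq_basicOpen hg hd).ge hx.2).1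

/-- Fix a field k, an integral proper k-scheme X, and an invertible O_X-module L with tensor inverse M.
Suppose that L^{⊗j} has a nonzero global section for every j ≥ 4 and that no tensor power L^{⊗j}
with j ≥ 1 is isomorphic to O_X. Then H⁰(X, M^{⊗i}) = 0 for every i ≥ 1: the negative powers of L
have no nonzero global sections. (The published statement is for the canonical module of a minimal
surface of general type over an algebraically closed field, where the fourth and higher powers are
globally generated by a deep result quoted without proof, and non-triviality of the positive powers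
comes from bigness; the published deduction of this part uses exactly the two hypotheses carried
here, on an integral proper X.) -/
theorem result (k : Type u) [Field k]
    (X : Scheme.{u}) [X.Over (Spec (CommRingCat.of k))] [IsProper (X ↘ (Spec (CommRingCat.of k)))] [IsIntegral X]
    (L M : X.Modules) (hL : PicF.IsInvertible L) (hM : ClSub.IsInverseOf M L)
    (hsec : ∀ j : ℕ, 4 ≤ j → Nontrivial (Coh.HH X (CohB1.tensorPow L j) 0))
    (hnt : ∀ j : ℕ, 1 ≤ j → IsEmpty (CohB1.tensorPow L j ≅ Coh.structureModule X))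
    (i : ℕ) (hi : 1 ≤ i) :
    Subsingleton (Coh.HH X (CohB1.tensorPow M i) 0) := by
  obtain ⟨w⟩ := hM
  have hMi : PicF.IsInvertible M := by
    obtain ⟨D, hDi, e⟩ := PicInv.exists_inverse hL
    have h1 : PicF.cl L * PicF.cl D = 1 := PicMul.cl_eq_iff.2 e
    have h2 : PicF.cl M * PicF.cl L = 1 := PicMul.cl_eq_iff.2 ⟨w⟩
    obtain ⟨q⟩ := PicMul.cl_eq_iff.1 (left_inv_eq_right_inv h2 h1).symm
    exact PicMul.isInvertible_of_iso q hDi
  by_contra hcon
  rw [not_subsingleton_iff_nontrivial] at hcon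
  obtain ⟨a, ha⟩ := CurveAmple.exists_section_ne_zero hcon
  obtain ⟨t, ht⟩ := CurveAmple.exists_section_ne_zero (hsec (i + i + (i + i)) (by omega))
  let A := CohB1.tensorPow M i
  let B := CohB1.tensorPow L (i + i + (i + i))
  have hA : PicF.IsInvertible A := PicMul.isInvertible_tensorPow hMi i
  have hB : PicF.IsInvertible B := PicMul.isInvertible_tensorPow hL _
  have hAA := PicMul.isInvertible_tensor hA hA
  have ha2 := tmul_ne_zero hA hA ha ha
  have hA4 := PicMul.isInvertible_tensor hAA hAA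
  have ha4 := tmul_ne_zero hAA hAA ha2 ha2
  have hw := tmul_ne_zero hA4 hB ha4 ht
  have htriv : TrivBasic.Triv (CohB1.tensorMod (CohB1.tensorMod (CohB1.tensorMod A A) (CohB1.tensorMod A A)) B) := by
    refine PicMul.cl_eq_iff.1 ?_
    simp only [A, B, PicMul.cl_tensor, PicMul.cl_tensorPow, ← PicMul.one_def, ← pow_add, ← mul_pow]
    rw [← PicMul.cl_tensor, PicMul.cl_eq_iff.2 ⟨w⟩, ← PicMul.one_def, one_pow]
  have hf := isFrame_of_ne_zero htriv (isField_of_universallyClosed k (X ↘ Spec (CommRingCat.of k))) hw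
  obtain ⟨q⟩ := triv_of_frame (isFrame_right hA4 hB hf)
  exact (hnt _ (by omega)).false q

end Groth.Agent.S14064
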