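import Groth.Statements.S14065
import Groth.Agent.CurveFF.Facts
import Groth.Agent.CurveCohLib.RegularCurve
-- import your own Groth.Agent.* helpers here

set_option autoImplicit false
universe u
open CategoryTheory CategoryTheory.Limits AlgebraicGeometry TopologicalSpace
open Curves

namespace Groth.Agent.S14065

/-- Let k be an algebraically closed field and C a smooth projective connected curve over k — an
integral scheme, proper and smooth over k, of dimension 1 — of genus g = dim_k H¹(C, O_C) with g ≥
2, and let T be the tangent module of C, a tensor inverse of the module of differentials Ω_{C/k}.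
Then dim_k H¹(C, T) = 3g − 3. (The published proof makes this computation, together with the
vanishing of H⁰(C, T), to find the dimension of the tangent space of the moduli stack of genus-g
curves at C; only the dimension of H¹(C, T) is stated here.) -/
theorem result (k : Type u) [Field k] [IsAlgClosed k]
    (C : Scheme.{u}) [C.Over (Spec (CommRingCat.of k))] [IsProper (C ↘ (Spec (CommRingCat.of k)))] [Smooth (C ↘ (Spec (CommRingCat.of k)))] [IsIntegral C]
    (hdim : topologicalKrullDim C = 1) (g : ℕ) (hg : Curv2.genus k C = g) (h2 : 2 ≤ g)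
    (T : C.Modules) (hT : ClSub.IsInverseOf T (Omega.sheaf (C ↘ (Spec (CommRingCat.of k))))) :
    Module.finrank k (Coh.HH C T 1) = 3 * g - 3 := by
  haveI := Groth.Agent.CurveCohLib.isNoetherian_of_proper (k := k) (X := C)
  have hΩ := Groth.Agent.CurveFF.isInvertible_Ωm k C hdim
  obtain ⟨eT⟩ := hT
  have hT' : ClSub.IsInverseOf (Groth.Agent.CurveFF.Ωm k C) T :=
    ⟨Groth.Agent.CurveTensor.commIso (Groth.Agent.CurveFF.Ωm k C) T ≪≫ eT⟩
  have hTi := Groth.Agent.CurveFF.isInvertible_of_inverse k hdim hΩ hT'
  have hd := Groth.Agent.CurveFF.deg_inverse k hdim hΩ hTi hT'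
  rw [(Groth.Agent.CurveFF.canonical_invariants k C hdim).2] at hd
  have h0 := Groth.Agent.CurveFF.finrank_h0_of_deg_neg k hdim hTi (by rw [hd]; omega)
  have h := Groth.Agent.CurveCohLib.Clifford.deg_eq k hdim hTi
  rw [hd, h0] at h
  omega

end Groth.Agent.S14065
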