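import Groth.Statements.S14068
import Groth.Agent.FamCycEt.QuasiSecDense
import Groth.Agent.SepFlat5.Scheme

set_option autoImplicit false
universe u
open CategoryTheory AlgebraicGeometry
open FamCyc

namespace Groth.Agent.S14068

theorem dominant_bridge {X X' : Scheme.{u}} {A : Type u} {B : A → Type u} {C : ∀ a, B a → Type u}
    (Z : ∀ a b, C a b → Scheme.{u}) (f : ∀ a b c, Z a b c ⟶ X) (P : ∀ a b, C a b → Prop)
    (q : X' ⟶ X) [Flat q] [LocallyOfFinitePresentation q]
    (hdom : ∀ (V : X.Opens) (t : Γ(X, V)), (∀ a b c, P a b c → (f a b c).app V t = 0) → t = 0)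
    (V : X'.Opens) (t : Γ(X', V))
    (h : ∀ a b c, P a b c → (Limits.pullback.snd (f a b c) q).app V t = 0) : t = 0 :=
  Groth.Agent.SepFlat5.schDominant_pullback (ι := (a : A) × (b : B a) × {c : C a b // P a b c}) _
    (fun i => f i.1 i.2.1 i.2.2.1) q (fun V' t' ht' => hdom V' t' fun a b c hp => ht' ⟨a, b, c, hp⟩) V t
    fun i => h i.1 i.2.1 i.2.2.1 i.2.2.2

/-- Let g : S' ⟶ S be a smooth morphism and q : B' ⟶ S' a flat morphism locally of finite presentation.
Then the family of base changes Z ×_{S'} B' ⟶ B' of all immersions j : Z ⟶ S' with Z étale over S is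
schematically dominant: a section of the structure sheaf of B' over an open V whose pullback along
every member of the family is zero is itself zero. -/
theorem result {S S' B' : Scheme.{u}} (g : S' ⟶ S) [Smooth g]
    (q : B' ⟶ S') [Flat q] [LocallyOfFinitePresentation q] (V : B'.Opens) (t : Γ(B', V))
    (h : ∀ (Z : Scheme.{u}) (j : Z ⟶ S'), IsImmersion j → Etale (j ≫ g) →
      (Limits.pullback.snd j q).app V t = 0) : t = 0 := by
  exact dominant_bridge (A := ↑S'.affineOpens) (B := fun W => ↑Γ(S', W.1)) (C := fun W c => Ideal (Localization.Away c))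
    (fun W c I => Spec (CommRingCat.of (Localization.Away c ⧸ I))) Groth.Agent.FamCycEt.emb
    (fun W c I => Etale (Groth.Agent.FamCycEt.emb W c I ≫ g)) q
    (Groth.Agent.FamCycEt.eq_zero_of_forall_emb g) V t
    (fun W c I hE => h _ _ (Groth.Agent.FamCycEt.isImmersion_emb W c I) hE)

end Groth.Agent.S14068
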