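import Groth.Statements.S2043
import Mathlib
import Groth.Agent.CAlgOdd.PairLift
import Groth.Agent.Hensel.SmoothLift

set_option autoImplicit false
universe u
open CAlg

namespace Groth.Agent.S2043

/-- Let `I ⊆ A` be an ideal, `B` a smooth `A`-algebra and `B → A/I` an `A`-algebra map. Then there is an
étale `A`-algebra `A'` with `A/I → A'/IA'` bijective and an `A`-algebra map `B → A'` lifting the
given map. -/
theorem result {A B : Type u} [CommRing A] [CommRing B] [Algebra A B]
    [Algebra.Smooth A B] (I : Ideal A) (σ : B →ₐ[A] A ⧸ I) :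
    ∃ (A' : Type u) (_ : CommRing A') (_ : Algebra A A'), Algebra.Etale A A' ∧
      Function.Bijective (algebraMap (A ⧸ I) (A' ⧸ I.map (algebraMap A A'))) ∧
      ∃ τ : B →ₐ[A] A', ∀ b : B,
        Ideal.Quotient.mk (I.map (algebraMap A A')) (τ b) =
          algebraMap (A ⧸ I) (A' ⧸ I.map (algebraMap A A')) (σ b) := by
  let H := Groth.Agent.Hensel.PairHenz A I
  have hH := Groth.Agent.Hensel.isPairHenselization_pairHenz A I
  have hHens : HenselianRing H (I.map (algebraMap A H)) := hH.1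
  let q : (A ⧸ I) →ₐ[A] H ⧸ I.map (algebraMap A H) :=
    Ideal.Quotient.liftₐ I (Algebra.ofId A _) fun a ha =>
      Ideal.Quotient.eq_zero_iff_mem.mpr (Ideal.mem_map_of_mem (algebraMap A H) ha)
  obtain ⟨τ, hτ⟩ := Groth.Agent.Hensel.exists_smooth_lift (I.map (algebraMap A H)) (q.comp σ)
  obtain ⟨U, iU, iAU, hE, hU, φU, ψ, hψ⟩ :=
    Groth.Agent.CAlgOdd.PairLift.exists_algHom_descend I hH τ
  refine ⟨U, iU, iAU, hE, hU, ψ, fun b => ?_⟩
  obtain ⟨τU, -⟩ := Groth.Agent.Hensel.exists_toQuot_of_isPairNbhd I hU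
  rw [Groth.Agent.Hensel.mk_eq_quotientMap I hU τU]
  refine congrArg (Ideal.quotientMap (I.map (algebraMap A U)) (algebraMap A U) Ideal.le_comap_map) ?_
  have hproj : (Groth.Agent.Hensel.Henz.proj A (A ⧸ I)).comp φU = τU :=
    Groth.Agent.Hensel.toQuot_unique_of_isPairNbhd I hU _ _
  rw [← hproj, AlgHom.comp_apply, ← AlgHom.comp_apply φU ψ, hψ]
  obtain ⟨a, ha⟩ := Ideal.Quotient.mk_surjective (σ b)
  have h1 : Ideal.Quotient.mk (I.map (algebraMap A H)) (τ b) =
      Ideal.Quotient.mk (I.map (algebraMap A H)) (algebraMap A H a) := by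
    have := AlgHom.congr_fun hτ b
    rw [AlgHom.comp_apply, AlgHom.comp_apply, ← ha] at this
    exact this.trans (Ideal.Quotient.lift_mk I _ _)
  rw [Ideal.Quotient.eq, ← Groth.Agent.Hensel.ker_proj_pairHenz, RingHom.mem_ker, map_sub,
    AlgHom.commutes, sub_eq_zero] at h1
  rw [← ha]
  exact h1

end Groth.Agent.S2043
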