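import Groth.Statements.S14069
import Groth.Agent.S2043
-- import your own Groth.Agent.* helpers here

set_option autoImplicit false
universe u
open CategoryTheory AlgebraicGeometry
open FamCyc

open scoped TensorProduct
open CategoryTheory.Limits

namespace Groth.Agent.S14069

/-- Let i : S₀ ⟶ S be a closed immersion, p : X ⟶ S a scheme over S, q : Y ⟶ S a smooth morphism, X₀ = X
×_S S₀, x₀ a point of X₀ and f₀ : X₀ ⟶ Y a morphism over S. Then there are a scheme U, an étale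
morphism e : U ⟶ X whose base change U ×_X X₀ ⟶ X₀ is an open immersion whose image contains x₀, and
a morphism f : U ⟶ Y over S whose restriction to U ×_X X₀ equals the restriction of f₀. -/
theorem result {S S₀ X Y : Scheme.{u}} (i : S₀ ⟶ S) [IsClosedImmersion i]
    (p : X ⟶ S) (q : Y ⟶ S) [Smooth q] (f₀ : Limits.pullback p i ⟶ Y)
    (hf₀ : f₀ ≫ q = Limits.pullback.fst p i ≫ p) (x₀ : ↥(Limits.pullback p i)) :
    ∃ (U : Scheme.{u}) (e : U ⟶ X) (f : U ⟶ Y), Etale e ∧ f ≫ q = e ≫ p ∧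
      IsOpenImmersion (Limits.pullback.snd e (Limits.pullback.fst p i)) ∧
      x₀ ∈ Set.range (Limits.pullback.snd e (Limits.pullback.fst p i)).base ∧
      Limits.pullback.snd e (Limits.pullback.fst p i) ≫ f₀ =
        Limits.pullback.fst e (Limits.pullback.fst p i) ≫ f := by
  -- charts
  let π := pullback.fst p i
  let y := f₀ x₀
  obtain ⟨V, hV, hyV, -⟩ := exists_isAffineOpen_mem_and_subset (x := q y) (U := ⊤) trivial
  obtain ⟨W, hW, hyW, hWV⟩ := exists_isAffineOpen_mem_and_subset (x := y) (U := q ⁻¹ᵁ V) hyV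
  replace hWV : W ≤ q ⁻¹ᵁ V := hWV
  obtain ⟨O, hOo, hO⟩ := π.isClosedEmbedding.isInducing.isOpen_iff.1 (f₀ ⁻¹ᵁ W).isOpen
  have hxV : p (π x₀) ∈ V := by
    rw [← Scheme.Hom.comp_apply, ← hf₀, Scheme.Hom.comp_apply]
    exact hyV
  obtain ⟨X₁, hX₁, hxX₁, hX₁O⟩ := exists_isAffineOpen_mem_and_subset (x := π x₀) (U := ⟨O, hOo⟩ ⊓ p ⁻¹ᵁ V)
    ⟨(hO.ge (show x₀ ∈ f₀ ⁻¹ᵁ W from hyW) :), hxV⟩
  let P₁ := π ⁻¹ᵁ X₁
  have hP₁ : IsAffineOpen P₁ := hX₁.preimage π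
  have hP₁W : P₁ ≤ f₀ ⁻¹ᵁ W := fun z hz => hO.le (hX₁O hz).1
  have hX₁V : X₁ ≤ p ⁻¹ᵁ V := fun z hz => (hX₁O hz).2
  let φ := π.appLE X₁ P₁ le_rfl
  have hφ : Function.Surjective φ := by
    have h := π.app_surjective X₁ hX₁
    rw [Scheme.Hom.app_eq_appLE] at h
    exact h
  -- the algebra
  letI : Algebra Γ(S, V) Γ(X, X₁) := (p.appLE V X₁ hX₁V).hom.toAlgebra
  letI : Algebra Γ(S, V) Γ(Y, W) := (q.appLE V W hWV).hom.toAlgebra
  haveI : Algebra.Smooth Γ(S, V) Γ(Y, W) :=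
    RingHom.smooth_algebraMap.1 (Smooth.smooth_appLE q hV hW hWV)
  let J : Ideal Γ(X, X₁) := RingHom.ker φ.hom
  let eJ : (Γ(X, X₁) ⧸ J) ≃+* Γ(pullback p i, P₁) := RingHom.quotientKerEquivOfSurjective hφ
  let σ₀ : Γ(Y, W) →+* Γ(X, X₁) ⧸ J := eJ.symm.toRingHom.comp (f₀.appLE W P₁ hP₁W).hom
  have hpV : P₁ ≤ π ⁻¹ᵁ (p ⁻¹ᵁ V) := fun z hz => hX₁V hz
  have hσ₀ : ∀ a, σ₀ (q.appLE V W hWV a) = Ideal.Quotient.mk J (p.appLE V X₁ hX₁V a) := by
    intro a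
    refine eJ.injective ?_
    show eJ (eJ.symm (f₀.appLE W P₁ hP₁W (q.appLE V W hWV a))) = φ (p.appLE V X₁ hX₁V a)
    rw [RingEquiv.apply_symm_apply]
    show (q.appLE V W hWV ≫ f₀.appLE W P₁ hP₁W) a = (p.appLE V X₁ hX₁V ≫ φ) a
    simp only [φ, Scheme.Hom.appLE_comp_appLE]
    simp only [hf₀]
    rfl
  let σA : Γ(Y, W) →ₐ[Γ(S, V)] Γ(X, X₁) ⧸ J := { σ₀ with commutes' := hσ₀ }
  let B := Γ(X, X₁) ⊗[Γ(S, V)] Γ(Y, W)
  let σ : B →ₐ[Γ(X, X₁)] Γ(X, X₁) ⧸ J :=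
    Algebra.TensorProduct.lift (Algebra.ofId Γ(X, X₁) (Γ(X, X₁) ⧸ J)) σA fun _ _ => Commute.all _ _
  obtain ⟨R', _, _, hR', hbij, τ, hτ⟩ := Groth.Agent.S2043.result J σ
  let ℓ : Γ(X, X₁) ⟶ CommRingCat.of R' := CommRingCat.ofHom (algebraMap Γ(X, X₁) R')
  let J' := J.map (algebraMap Γ(X, X₁) R')
  let mk' : CommRingCat.of R' ⟶ CommRingCat.of (R' ⧸ J') := CommRingCat.ofHom (Ideal.Quotient.mk J')
  let β : Γ(pullback p i, P₁) ⟶ CommRingCat.of (R' ⧸ J') :=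
    CommRingCat.ofHom ((algebraMap (Γ(X, X₁) ⧸ J) (R' ⧸ J')).comp eJ.symm.toRingHom)
  have hβ : ∀ r, β (φ r) = mk' (ℓ r) := fun r => by
    have h : eJ.symm (φ r) = Ideal.Quotient.mk J r := eJ.symm_apply_eq.2 rfl
    show algebraMap (Γ(X, X₁) ⧸ J) (R' ⧸ J') (eJ.symm (φ r)) = _
    rw [h]
    rfl
  haveI : IsIso β := (ConcreteCategory.isIso_iff_bijective β).2 (hbij.comp eJ.symm.bijective)
  let a : Γ(Y, W) ⟶ CommRingCat.of R' :=
    CommRingCat.ofHom (τ.toRingHom.comp (Algebra.TensorProduct.includeRight : Γ(Y, W) →ₐ[Γ(S, V)] B).toRingHom)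
  have ha : q.appLE V W hWV ≫ a = p.appLE V X₁ hX₁V ≫ ℓ := by
    ext s
    show τ ((1 : Γ(X, X₁)) ⊗ₜ[Γ(S, V)] (algebraMap Γ(S, V) Γ(Y, W) s)) = algebraMap Γ(X, X₁) R' (algebraMap Γ(S, V) Γ(X, X₁) s)
    rw [← τ.commutes, Algebra.algebraMap_eq_smul_one, TensorProduct.tmul_smul, Algebra.TensorProduct.algebraMap_apply,
      TensorProduct.smul_tmul']
    congr 2
    rw [Algebra.smul_def, mul_one]
    rfl
  have haσ : a ≫ mk' = f₀.appLE W P₁ hP₁W ≫ β := by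
    ext c
    show Ideal.Quotient.mk J' (τ ((1 : Γ(X, X₁)) ⊗ₜ[Γ(S, V)] c)) = algebraMap (Γ(X, X₁) ⧸ J) (R' ⧸ J') (σ₀ c)
    rw [hτ]
    congr 1
    show σ ((1 : Γ(X, X₁)) ⊗ₜ[Γ(S, V)] c) = σA c
    rw [Algebra.TensorProduct.lift_tmul, map_one, one_mul]
  have hpo : IsPushout φ ℓ β mk' := by
    refine IsPushout.of_isColimit' ⟨CommRingCat.hom_ext (RingHom.ext hβ)⟩ (PushoutCocone.IsColimit.mk
      (show φ ≫ β = ℓ ≫ mk' from CommRingCat.hom_ext (RingHom.ext hβ))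
      (fun c => CommRingCat.ofHom (Ideal.Quotient.lift J' c.inr.hom ?_)) (fun c => ?_) (fun c => ?_) (fun c m h1 h2 => ?_))
    · suffices J' ≤ RingHom.ker c.inr.hom from fun z hz => this hz
      refine Ideal.map_le_iff_le_comap.2 fun z hz => ?_
      have h : c.inl (φ z) = c.inr (ℓ z) := congrArg (fun w : Γ(X, X₁) ⟶ c.pt => w z) c.condition
      show c.inr (ℓ z) = 0
      rw [← h, show φ z = 0 from hz, map_zero]
    · ext w
      obtain ⟨r, rfl⟩ := hφ w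
      refine Eq.trans ?_ (congrArg (fun w : Γ(X, X₁) ⟶ c.pt => w r) c.condition).symm
      rw [CommRingCat.hom_comp, RingHom.comp_apply, hβ]
      rfl
    · ext r
      rfl
    · ext w
      exact congrArg (fun v : CommRingCat.of R' ⟶ c.pt => v w) h2
  -- the geometry
  let e : Spec (CommRingCat.of R') ⟶ X := Spec.map ℓ ≫ hX₁.fromSpec
  haveI : Etale (Spec.map ℓ) := HasRingHomProperty.Spec_iff.2 (RingHom.etale_algebraMap.2 hR')
  let f : Spec (CommRingCat.of R') ⟶ Y := Spec.map a ≫ hW.fromSpec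
  have hsq₁ : IsPullback (Spec.map φ) hP₁.fromSpec hX₁.fromSpec π :=
    IsOpenImmersion.isPullback _ _ _ _ (hX₁.SpecMap_appLE_fromSpec π hP₁ le_rfl).symm
      (by rw [hX₁.opensRange_fromSpec, hP₁.opensRange_fromSpec])
  have hsq₂ : IsPullback (Spec.map mk') (Spec.map β) (Spec.map ℓ) (Spec.map φ) :=
    (isPullback_SpecMap_of_isPushout _ _ _ _ hpo).flip
  have hsq : IsPullback (Spec.map mk') (Spec.map β ≫ hP₁.fromSpec) e π := hsq₂.paste_vert hsq₁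
  refine ⟨Spec (CommRingCat.of R'), e, f, inferInstanceAs (Etale (Spec.map ℓ ≫ hX₁.fromSpec)), ?_, ?_, ?_, ?_⟩
  · show (Spec.map a ≫ hW.fromSpec) ≫ q = (Spec.map ℓ ≫ hX₁.fromSpec) ≫ p
    rw [Category.assoc, Category.assoc, ← hV.SpecMap_appLE_fromSpec q hW hWV,
      ← hV.SpecMap_appLE_fromSpec p hX₁ hX₁V, ← Spec.map_comp_assoc, ← Spec.map_comp_assoc, ha]
  · rw [← hsq.isoPullback_inv_snd]
    infer_instance
  · obtain ⟨z, hz⟩ : x₀ ∈ Set.range hP₁.fromSpec := by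
      rw [hP₁.range_fromSpec]
      exact hxX₁
    refine ⟨hsq.isoPullback.hom ((inv (Spec.map β)) z), ?_⟩
    rw [← Scheme.Hom.comp_apply, hsq.isoPullback_hom_snd, ← Scheme.Hom.comp_apply, IsIso.inv_hom_id_assoc, hz]
  · rw [← cancel_epi hsq.isoPullback.hom, hsq.isoPullback_hom_snd_assoc, hsq.isoPullback_hom_fst_assoc]
    show (Spec.map β ≫ hP₁.fromSpec) ≫ f₀ = Spec.map mk' ≫ Spec.map a ≫ hW.fromSpec
    rw [Category.assoc, ← hW.SpecMap_appLE_fromSpec f₀ hP₁ hP₁W, ← Spec.map_comp_assoc, ← Spec.map_comp_assoc, haσ]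

end Groth.Agent.S14069
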