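import Groth.Statements.S1407
import Groth.Agent.Triage.CMFppf
import Groth.Agent.S1345
import Groth.Agent.S1347

set_option autoImplicit false
universe u
open FlatMor

set_option backward.isDefEq.respectTransparency false
set_option backward.isDefEq.respectTransparency.types false

namespace Groth.Agent.S1407

open AlgebraicGeometry CategoryTheory Limits in
/-- Let Y' → Y be flat, locally of finite presentation and surjective and f' the base change of f : X →
Y. Then f has locally Noetherian fibres and is Cohen–Macaulay at every point if and only if the same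
holds for f'. -/
theorem result {X Y X' Y' : Scheme.{u}} (f : X ⟶ Y) (f' : X' ⟶ Y') (g' : X' ⟶ X) (g : Y' ⟶ Y) [Flat g] [LocallyOfFinitePresentation g] [Surjective g]
    (hc : IsPullback g' f' f g) :
    ((∀ y : Y, IsLocallyNoetherian (f.fiber y)) ∧ ∀ x : X, MoreMor.IsCMAt f x) ↔
      (∀ y' : Y', IsLocallyNoetherian (f'.fiber y')) ∧ ∀ x' : X', MoreMor.IsCMAt f' x' := by
  haveI : Surjective g' := MorphismProperty.of_isPullback (P := @Surjective) hc.flip inferInstance
  have hLN : (∀ y' : Y', IsLocallyNoetherian (f.fiber (g y')) → IsLocallyNoetherian (f'.fiber y')) ∧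
      ∀ y' : Y', IsLocallyNoetherian (f'.fiber y') → IsLocallyNoetherian (f.fiber (g y')) := by
    refine ⟨fun y' h => ?_, fun y' h => ?_⟩ <;> obtain ⟨e, he, -⟩ := ConsPropLib.exists_fibre_pullback hc y'
    · exact (Triage.CMBC.isLocallyNoetherian_field_pullback (Field.toIsField (Y.residueField (g y'))) _ he).1
        (Triage.CMBC.essFiniteType_residueFieldMap g y') h
    · exact (Triage.CMBC.isLocallyNoetherian_field_pullback (Field.toIsField (Y.residueField (g y'))) _ he).2 h
  constructor
  · rintro ⟨hN, hCM⟩
    exact ⟨fun y' => hLN.1 y' (hN _), fun x' => S1345.result f hN f' g' g hc x' (hCM _)⟩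
  · rintro ⟨hN', hCM'⟩
    have hN : ∀ y : Y, IsLocallyNoetherian (f.fiber y) := fun y => by
      obtain ⟨y', rfl⟩ := g.surjective y
      exact hLN.2 y' (hN' y')
    refine ⟨hN, fun x => ?_⟩
    obtain ⟨x', rfl⟩ := g'.surjective x
    exact S1347.result f hN f' g' g hc x' (Flat.stalkMap g (f' x')) (hCM' x')

end Groth.Agent.S1407
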