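import Groth.Statements.S3386
import Groth.Agent.FibDim.AffineSpaceFibre
import Groth.Agent.FibDim.AffineChart
import Groth.Agent.DimFormula.Equidim
import Groth.Agent.FibDim.GenerizeDim
import Mathlib.AlgebraicGeometry.ZariskisMainTheorem

set_option autoImplicit false
open CategoryTheory AlgebraicGeometry
universe u
open EGA43

namespace Groth.Agent.S3386

open CategoryTheory.Limits in
/-- Conditions a) and b): let f : X ⟶ Y be locally of finite type and fix a point x of X. Condition a)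
is equidimensionality of f at x (the definition used here); condition b): there are a natural number
e, an open neighbourhood U of x and a Y-morphism g from U to the affine space of dimension e over Y
which is locally quasi-finite and sends the generic point of every irreducible component of U to the
generic point of an irreducible component of the affine space. Then a) implies b); and b) implies a)
when Y is locally Noetherian. (The source states the equivalence over an arbitrary base; the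
implication b) ⟹ a) uses that irreducible components are locally finite and fails without some such
hypothesis.) -/
theorem result {X Y : Scheme.{u}}
    (f : X ⟶ Y) [LocallyOfFiniteType f] (x : X) :
    (EGA43.IsEquidimAt f x → (∃ (e : ℕ) (U : X.Opens) (g : (U : Scheme.{u}) ⟶ 𝔸(ULift.{u} (Fin e); Y)),
        x ∈ U ∧ g ≫ (𝔸(ULift.{u} (Fin e); Y) ↘ Y) = U.ι ≫ f ∧ LocallyQuasiFinite g ∧
        ∀ Z ∈ irreducibleComponents (↥U : Type u),
          closure (g.base '' Z) ∈ irreducibleComponents (↥𝔸(ULift.{u} (Fin e); Y) : Type u))) ∧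
    (IsLocallyNoetherian Y → (∃ (e : ℕ) (U : X.Opens) (g : (U : Scheme.{u}) ⟶ 𝔸(ULift.{u} (Fin e); Y)),
        x ∈ U ∧ g ≫ (𝔸(ULift.{u} (Fin e); Y) ↘ Y) = U.ι ≫ f ∧ LocallyQuasiFinite g ∧
        ∀ Z ∈ irreducibleComponents (↥U : Type u),
          closure (g.base '' Z) ∈ irreducibleComponents (↥𝔸(ULift.{u} (Fin e); Y) : Type u)) → EGA43.IsEquidimAt f x) := by
  refine ⟨fun h => ?_, fun hY => ?_⟩
  · obtain ⟨e, U, hxU, h1, h2⟩ := (FibDim.isEquidimAt_iff f x).1 h
    obtain ⟨V, hV, hxV, -⟩ := exists_isAffineOpen_mem_and_subset (x := f x) (U := ⊤) trivial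
    obtain ⟨U₁, hU₁, hxU₁, hsub⟩ := exists_isAffineOpen_mem_and_subset (x := x) (U := f ⁻¹ᵁ V ⊓ U) ⟨hxV, hxU⟩
    have hUV : U₁ ≤ f ⁻¹ᵁ V := fun z hz => (hsub hz).1
    haveI : IsAffine (U₁ : Scheme.{u}) := hU₁
    haveI : IsAffine (V : Scheme.{u}) := hV
    haveI : LocallyOfFiniteType (f.resLE V U₁ hUV ≫ V.ι) := by rw [Scheme.Hom.resLE_comp_ι]; infer_instance
    haveI : LocallyOfFiniteType (f.resLE V U₁ hUV) := locallyOfFiniteType_of_comp _ V.ι
    let f₁ := f.resLE V U₁ hUV
    have hrd : ∀ z, FibDim.rd f₁ z = FibDim.rd f (U₁.ι z) := fun z => by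
      have h3 := FibDim.rd_comp f₁ V.ι z
      rw [FibDim.rd_eq_zero_of_quasiFinite V.ι, zero_add] at h3
      rw [← h3, ← FibDim.rd_opens f U₁ z]
      simp only [f₁, Scheme.Hom.resLE_comp_ι]
    have hfix : ∀ z, (f₁ z).1 = f (U₁.ι z) := fun z => FibDim.fiber_apply_resLE f hUV z
    let x₁ : (U₁ : Scheme.{u}) := ⟨x, hxU₁⟩
    have hrde : ∀ w ∈ U, FibDim.rd f w ≤ e := fun w hw => by
      obtain ⟨z, hz, hfz, hzm, -⟩ := FibDim.exists_fibMax_generization f w
      exact (FibDim.rd_le_of_specializes f hz hfz).trans (h2 z (hz.mem_open U.isOpen hw) hzm).le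
    have hdim : topologicalKrullDim ↥(f₁.fiber (f₁ x₁)) = e := by
      refine le_antisymm ((FibDim.topologicalKrullDim_fiber_le_iff f₁ _ e).2 fun z _ => ?_) ?_
      · rw [hrd]; exact hrde _ (hsub z.2).2
      · obtain ⟨z, hz, hfz, hzm, -⟩ := FibDim.exists_fibMax_generization f x
        refine (FibDim.le_topologicalKrullDim_fiber_iff f₁ _ e).2
          ⟨⟨z, hz.mem_open U₁.isOpen hxU₁⟩, Subtype.ext ?_, ?_⟩
        · rw [hfix, hfix]; exact hfz
        · rw [hrd]; exact (h2 z (hz.mem_open U.isOpen hxU) hzm).ge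
    obtain ⟨g₁, hg₁, hfin⟩ := FibDim.exists_chart_finite f₁ (f₁ x₁) ⟨x₁, rfl⟩ e hdim
    haveI : LocallyOfFiniteType g₁ := by
      haveI : LocallyOfFiniteType (g₁ ≫ (𝔸(ULift.{u} (Fin e); (V : Scheme.{u})) ↘ (V : Scheme.{u}))) := by rw [hg₁]; infer_instance
      exact locallyOfFiniteType_of_comp g₁ (𝔸(ULift.{u} (Fin e); (V : Scheme.{u})) ↘ (V : Scheme.{u}))
    have hqf : g₁.QuasiFiniteAt x₁ := by
      rw [Scheme.Hom.quasiFiniteAt_iff_isOpen_singleton_asFiber]
      haveI : IsLocallyNoetherian (g₁.fiber (g₁ x₁)) :=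
        LocallyOfFiniteType.isLocallyNoetherian (g₁.fiberToSpecResidueField _)
      haveI : IsNoetherian (g₁.fiber (g₁ x₁)) := {}
      obtain ⟨p', hp'⟩ : g₁ x₁ ∈ Set.range ((𝔸(ULift.{u} (Fin e); (V : Scheme.{u})) ↘ (V : Scheme.{u})).fiberι (f₁ x₁)) := by
        rw [Scheme.Hom.range_fiberι]
        show (g₁ ≫ (𝔸(ULift.{u} (Fin e); (V : Scheme.{u})) ↘ (V : Scheme.{u}))) x₁ = f₁ x₁
        rw [hg₁]
      have hzero : ∀ w, g₁ w = g₁ x₁ → FibDim.rd g₁ w = 0 := fun w hw => by
        haveI := hfin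
        obtain ⟨w', -, -, hw'⟩ := FibDim.exists_rd_baseChange_eq
          (IsPullback.of_hasPullback g₁ ((𝔸(ULift.{u} (Fin e); (V : Scheme.{u})) ↘ (V : Scheme.{u})).fiberι (f₁ x₁))) w p'
          (hw.trans hp'.symm)
        rw [← hw']
        exact FibDim.rd_eq_zero_of_quasiFinite _ w'
      haveI : T1Space ↥(g₁.fiber (g₁ x₁)) := t1Space_iff_specializes_imp_eq.2 fun a b hab => by
        refine (g₁.fiberι (g₁ x₁)).isEmbedding.injective ?_
        by_contra hne
        have h3 := FibDim.rd_lt g₁ (hab.map (g₁.fiberι (g₁ x₁)).continuous) hne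
          ((FibDim.fiber_apply_fiberι g₁ a).trans (FibDim.fiber_apply_fiberι g₁ b).symm)
        rw [hzero _ (FibDim.fiber_apply_fiberι g₁ a), hzero _ (FibDim.fiber_apply_fiberι g₁ b)] at h3
        omega
      obtain ⟨P, -, hP⟩ := FibDim.exists_finite_generic (Z := g₁.fiber (g₁ x₁)) (S := Set.univ) isClosed_univ
      haveI : Finite ↥(g₁.fiber (g₁ x₁)) := Set.finite_univ_iff.1 (P.finite_toSet.subset fun a _ => by
        obtain ⟨p, hp, hpa⟩ := Set.mem_iUnion₂.1 (hP (Set.mem_univ a))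
        rw [closure_singleton] at hpa
        exact (Set.mem_singleton_iff.1 hpa) ▸ hp)
      exact isOpen_discrete _
    obtain ⟨W, -, hxW, hWsub⟩ := exists_isAffineOpen_mem_and_subset (x := x) (U := U₁.ι ''ᵁ g₁.quasiFiniteLocus) ⟨x₁, hqf, rfl⟩
    have hWU₁ : W ≤ U₁ := fun z hz => by
      obtain ⟨a, -, rfl⟩ := hWsub hz
      exact a.2
    let j := AffineSpace.map (ULift.{u} (Fin e)) V.ι
    haveI : IsOpenImmersion j :=
      MorphismProperty.of_isPullback (P := @IsOpenImmersion) (AffineSpace.isPullback_map V.ι).flip inferInstance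
    haveI : LocallyQuasiFinite (X.homOfLE hWU₁ ≫ g₁) := by
      rw [← Scheme.Hom.quasiFiniteLocus_eq_top_iff, Scheme.Hom.quasiFiniteLocus_comp]
      refine top_le_iff.1 fun w _ => ?_
      obtain ⟨a, ha, hae⟩ := hWsub w.2
      have : a = X.homOfLE hWU₁ w := Subtype.ext (hae.trans (by simp))
      rw [this] at ha
      exact ha
    refine ⟨e, W, (X.homOfLE hWU₁ ≫ g₁) ≫ j, hxW, ?_, inferInstance, fun Z hZ => ?_⟩
    · rw [Category.assoc, AffineSpace.map_over, Category.assoc, reassoc_of% hg₁, Scheme.Hom.resLE_comp_ι,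
        Scheme.homOfLE_ι_assoc]
    · haveI : QuasiSober ↥W := W.2.isOpenEmbedding_subtypeVal.quasiSober
      obtain ⟨η, rfl, hη⟩ := FDescent.exists_maximal_of_mem_irreducibleComponents hZ
      let g := (X.homOfLE hWU₁ ≫ g₁) ≫ j
      have hgπ : g ≫ (𝔸(ULift.{u} (Fin e); Y) ↘ Y) = W.ι ≫ f := by
        simp only [g]
        rw [Category.assoc, AffineSpace.map_over, Category.assoc, reassoc_of% hg₁, Scheme.Hom.resLE_comp_ι,
          Scheme.homOfLE_ι_assoc]
      have hηU : W.ι η ∈ U := (hsub (hWU₁ η.2)).2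
      have hmax : ∀ z, z ⤳ W.ι η → z = W.ι η := fun z hz => by
        obtain ⟨v, rfl⟩ : z ∈ Set.range W.ι := by rw [Scheme.Opens.range_ι]; exact hz.mem_open W.isOpen η.2
        rw [hη v (W.ι.isOpenEmbedding.isInducing.specializes_iff.1 hz)]
      haveI : LocallyOfFiniteType g := inferInstance
      have h3 := FibDim.rd_comp g (𝔸(ULift.{u} (Fin e); Y) ↘ Y) η
      rw [FibDim.rd_eq_zero_of_quasiFinite g, add_zero] at h3
      have h4 : FibDim.rd (g ≫ (𝔸(ULift.{u} (Fin e); Y) ↘ Y)) η = e := by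
        simp only [hgπ]
        rw [FibDim.rd_opens]
        exact h2 _ hηU (FibDim.fibMax_of_maximal f hmax)
      rw [h4] at h3
      show closure (g '' closure {η}) ∈ _
      rw [closure_image_closure g.continuous]
      erw [Set.image_singleton]
      refine FDescent.closure_mem_irreducibleComponents fun z hz => ?_
      by_contra hne
      have hπ : (𝔸(ULift.{u} (Fin e); Y) ↘ Y) (g η) = f (W.ι η) := by
        show (g ≫ (𝔸(ULift.{u} (Fin e); Y) ↘ Y)) η = _
        rw [hgπ]; rfl
      have h5 := FibDim.rd_lt _ hz hne (((h1 _ hηU hmax).1 _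
        ((hz.map (𝔸(ULift.{u} (Fin e); Y) ↘ Y).continuous).trans (specializes_of_eq hπ))).trans hπ.symm)
      have h6 := FibDim.rd_affineSpace_le e z
      omega
  · rintro ⟨e, U, g, hxU, hg, hqf, hcomp⟩
    haveI := hqf
    haveI : LocallyOfFiniteType g := by
      haveI : LocallyOfFiniteType (g ≫ (𝔸(ULift.{u} (Fin e); Y) ↘ Y)) := by rw [hg]; infer_instance
      exact locallyOfFiniteType_of_comp g (𝔸(ULift.{u} (Fin e); Y) ↘ Y)
    have key : ∀ w : (U : Scheme.{u}), FibDim.rd f (U.ι w) = FibDim.rd (𝔸(ULift.{u} (Fin e); Y) ↘ Y) (g w) := fun w => by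
      have h3 := FibDim.rd_comp g (𝔸(ULift.{u} (Fin e); Y) ↘ Y) w
      rw [FibDim.rd_eq_zero_of_quasiFinite g, add_zero] at h3
      simp only [hg, FibDim.rd_opens] at h3
      exact h3
    refine DimFormula.isEquidimAt_of f fun η hη hmax => ?_
    let η' : (U : Scheme.{u}) := ⟨η, hη.mem_open U.isOpen hxU⟩
    have hmax' : ∀ z, z ⤳ η' → z = η' := fun z hz => U.ι.isOpenEmbedding.injective (hmax _ (hz.map U.ι.continuous))
    have hga := hcomp _ (FDescent.closure_mem_irreducibleComponents (X := ↥(U : Scheme.{u})) hmax')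
    rw [closure_image_closure g.continuous, Set.image_singleton] at hga
    have hgm : ∀ z, z ⤳ g η' → z = g η' := fun z hz => FDescent.maximal_of_closure_mem_irreducibleComponents hga hz
    have hπ : (𝔸(ULift.{u} (Fin e); Y) ↘ Y) (g η') = f η := by
      show (g ≫ (𝔸(ULift.{u} (Fin e); Y) ↘ Y)) η' = _
      rw [hg]; rfl
    refine ⟨fun y hy => ?_, ?_⟩
    · obtain ⟨ζ, hζ, hfζ⟩ := FibDim.exists_generization_of_isOpenAt (𝔸(ULift.{u} (Fin e); Y) ↘ Y)
        (x := g η') (fun V hV => (AffineSpace.isOpenMap_over Y).image_mem_nhds hV) (hy.trans (specializes_of_eq hπ.symm))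
      rw [← hfζ, hgm ζ hζ, hπ]
    · have he : FibDim.rd f η = e :=
        (key η').trans (FibDim.rd_affineSpace_fibMax e (FibDim.fibMax_of_maximal _ hgm))
      refine le_antisymm (DimFormula.rd_le_of_specializes' f hη) ?_
      obtain ⟨z, hz, hfz, -, -, hzr⟩ := DimFormula.exists_fibMax_top f x
      rw [← hzr, he, show z = U.ι ⟨z, hz.mem_open U.isOpen hxU⟩ from rfl, key]
      exact FibDim.rd_affineSpace_le e _

end Groth.Agent.S3386
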