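import Groth.Statements.S14070
import Groth.Agent.UnivOpen.Normal.Equidim
-- import your own Groth.Agent.* helpers here

set_option autoImplicit false
open CategoryTheory AlgebraicGeometry
universe u
open FamCyc

namespace Groth.Agent.S14070

/-- Let S be a scheme all of whose local rings are geometrically unibranch and which has only finitely
many irreducible components, and let f : X ⟶ S be a morphism locally of finite type such that every
point x of X lies on an irreducible component W of X (given its reduced subscheme structure) with W
⟶ S equidimensional at x. Then f is universally open. (No Noetherian hypothesis on S: finiteness of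
its set of irreducible components is what is used, and the statement fails without it.) -/
theorem result {X S : Scheme.{u}}
    (hS : ∀ s : S, CAlg2.IsGeomUnibranch (S.presheaf.stalk s))
    (hfin : (irreducibleComponents (S : Type u)).Finite)
    (f : X ⟶ S) [LocallyOfFiniteType f]
    (hT : ∀ x : X, ∃ W : TopologicalSpace.Closeds X, (W : Set X) ∈ irreducibleComponents (X : Type u) ∧
      ∃ w : ↥((Scheme.IdealSheafData.vanishingIdeal W).subscheme),
        (Scheme.IdealSheafData.vanishingIdeal W).subschemeι.base w = x ∧
        EGA43.IsEquidimAt ((Scheme.IdealSheafData.vanishingIdeal W).subschemeι ≫ f) w) :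
    UniversallyOpen f := by
  refine (Groth.Agent.UnivOpen.universallyOpen_iff_forall f).2 fun x => ?_
  obtain ⟨W, hW, w, rfl, hw⟩ := hT x
  haveI : IsReduced (Scheme.IdealSheafData.vanishingIdeal W).subscheme := Groth.Agent.H23.RedSub.isReduced_vanishingIdeal W
  let j := (Scheme.IdealSheafData.vanishingIdeal W).subschemeι
  haveI : IrreducibleSpace ↥(Scheme.IdealSheafData.vanishingIdeal W).subscheme := by
    haveI : IrreducibleSpace ↥(Set.range j) := by
      rw [Groth.Agent.DimFormula.range_vanishingIdeal W]
      exact Subtype.irreducibleSpace ⟨hW.1.1, hW.1.2⟩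
    exact j.isClosedEmbedding.isEmbedding.toHomeomorph.symm.surjective.irreducibleSpace
      j.isClosedEmbedding.isEmbedding.toHomeomorph.symm.continuous
  haveI : IsIntegral (Scheme.IdealSheafData.vanishingIdeal W).subscheme :=
    isIntegral_of_irreducibleSpace_of_isReduced _
  obtain ⟨T, i, ⟨t, rfl⟩, hopen⟩ := Groth.Agent.UnivOpen.exists_univOpen_of_equidim hS hfin (j ≫ f) w hw
  exact Groth.Agent.QHomeo.univOpenAt_of_comp (Groth.Agent.QHomeo.univOpenAt_of_comp
    ((Groth.Agent.UnivOpen.universallyOpen_iff_forall _).1 hopen t))

end Groth.Agent.S14070
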