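import Groth.Statements.S14073
import Groth.Agent.FamCycDet.Basic

set_option autoImplicit false
universe u
open FamCyc

namespace Groth.Agent.S14073

/-- Let A be a Noetherian ring, M an A-module with a finite resolution by finite free modules, and φ an
endomorphism of M. Then there is a unique element of A (the determinant of φ) whose image in A_p is
the determinant of the localized endomorphism φ_p of the free A_p-module M_p, for every prime p of A
at which M_p is free. -/
theorem result (A : Type u) [CommRing A] [IsNoetherianRing A]
    (M : Type u) [AddCommGroup M] [Module A M] (n : ℕ) (hM : FamCyc.HasFiniteFreeResolutionLE A n M)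
    (φ : M →ₗ[A] M) :
    ∃! a : A, ∀ (p : Ideal A) [p.IsPrime],
      Module.Free (Localization.AtPrime p) (LocalizedModule p.primeCompl M) →
        algebraMap A (Localization.AtPrime p) a =
          LinearMap.det (LocalizedModule.map p.primeCompl φ) := by
  exact FamCycDet.existsUnique_det A M n hM φ

end Groth.Agent.S14073
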