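import Groth.Statements.S14074
import Groth.Agent.KSixRel.AmpSmooth
import Groth.Prelude.Def_DerSch2
-- import your own Groth.Agent.* helpers here

set_option autoImplicit false
open CategoryTheory AlgebraicGeometry
universe u
attribute [local instance] HasDerivedCategory.standard
open FamCyc

namespace Groth.Agent.S14074

set_option linter.style.haveILetI false
set_option backward.isDefEq.respectTransparency false
set_option backward.isDefEq.respectTransparency.types false

attribute [local instance] HasDerivedCategory.standard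

open Groth.Agent.KSixRel Groth.Agent.KFlatLib Groth.Agent.RelPC17 Groth.Agent.H9Misc.DRingTor

/-- Along a smooth morphism tor amplitude over the base gives tor amplitude over the local ring of the
source, losing a bounded amount. -/
theorem amp_stalk_of_smooth {X Y : Scheme.{u}} (g : X ⟶ Y) [Smooth g] (x : X) :
    ∃ n : ℕ, ∀ (a b : ℤ) (K : DRing.Cx (X.presheaf.stalk x)),
      DRing.HasTorAmplitudeIn (Y.presheaf.stalk (g x)) a b
        (DRing.toD ((DRing.restrictCx (g.stalkMap x).hom).obj K)) →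
      DRing.HasTorAmplitudeIn (X.presheaf.stalk x) (a - n) b (DRing.toD K) := by
  obtain ⟨U, hU, V, hV, hxV, e, hs⟩ := (Smooth.iff_forall_exists_isStandardSmooth g).mp inferInstance x
  obtain ⟨n, hn⟩ : ∃ n, (g.appLE U V e).hom.IsStandardSmoothOfRelativeDimension n := by
    letI := (g.appLE U V e).hom.toAlgebra
    haveI : Algebra.IsStandardSmooth Γ(Y, U) Γ(X, V) := hs
    obtain ⟨ι, σ, hσ, hι, ⟨P⟩⟩ := ‹Algebra.IsStandardSmooth Γ(Y, U) Γ(X, V)›.out
    exact ⟨P.dimension, ⟨ι, σ, hσ, hι, P, rfl⟩⟩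
  obtain ⟨q, hqC, hq⟩ := hn.exists_etale_mvPolynomial
  refine ⟨n, fun a b K h => ?_⟩
  let ρ : Γ(Y, U) →+* Y.presheaf.stalk (g x) := (Y.presheaf.germ U (g x) (e hxV)).hom
  let τ : Γ(X, V) →+* X.presheaf.stalk x := (X.presheaf.germ V x hxV).hom
  have hρ : ρ.Flat := by
    letI := Y.presheaf.algebra_section_stalk ⟨g x, e hxV⟩
    haveI := IsAffineOpen.isLocalization_stalk hU ⟨g x, e hxV⟩
    exact IsLocalization.flat (Y.presheaf.stalk (g x)) (IsAffineOpen.primeIdealOf hU ⟨g x, e hxV⟩).asIdeal.primeCompl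
  have hτ : letI := τ.toAlgebra; Algebra.WeaklyEtale Γ(X, V) (X.presheaf.stalk x) := by
    letI := X.presheaf.algebra_section_stalk ⟨x, hxV⟩
    haveI := IsAffineOpen.isLocalization_stalk hV ⟨x, hxV⟩
    exact weaklyEtale_of_isLocalization (IsAffineOpen.primeIdealOf hV ⟨x, hxV⟩).asIdeal.primeCompl
  have hsq : (g.stalkMap x).hom.comp ρ = τ.comp (g.appLE U V e).hom := by
    refine RingHom.ext fun r => ?_
    show g.stalkMap x (Y.presheaf.germ U (g x) (e hxV) r) = X.presheaf.germ V x hxV ((g.appLE U V e).hom r)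
    rw [Scheme.Hom.germ_stalkMap_apply]
    exact (X.presheaf.germ_res_apply (homOfLE e) x hxV (g.app U r)).symm
  have h₁ : DRing.HasTorAmplitudeIn Γ(Y, U) a b (DRing.toD ((DRing.restrictCx MvPolynomial.C).obj
      ((DRing.restrictCx q).obj ((DRing.restrictCx τ).obj K)))) := by
    rw [amp_res_comp _ q (g.appLE U V e).hom hqC.symm, amp_res_comp _ τ _ hsq]
    exact (amp_res_comp ρ _ _ rfl K).1 (amp_res_flat ρ hρ _ h)
  have h₂ := amp_mvPolynomial Γ(Y, U) n a b _ h₁
  have hq' : letI := q.toAlgebra; Algebra.WeaklyEtale (MvPolynomial (Fin n) Γ(Y, U)) Γ(X, V) := by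
    letI := q.toAlgebra
    haveI : Algebra.Etale (MvPolynomial (Fin n) Γ(Y, U)) Γ(X, V) := hq
    infer_instance
  exact amp_of_we τ hτ K (amp_of_we q hq' _ h₂)

/-- Let h : B ⟶ S be a smooth morphism, φ : X ⟶ B a morphism locally of finite type and F a
quasi-coherent O_X-module of pointwise finite tor dimension over S, i.e. at every point x of X the
stalk F_x is, over the local ring of S below x, isomorphic in the derived category to a bounded
complex of flat modules. Then F has finite tor dimension over B pointwise in the same sense. -/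
theorem result {X B S : Scheme.{u}} (h : B ⟶ S) [Smooth h]
    (φ : X ⟶ B) [LocallyOfFiniteType φ] (F : X.Modules) (hF : Coh.IsQCoh F)
    (hS : ∀ x : X, ∃ a b : ℤ,
      DerSch.HasTorAmplitudeAt (φ ≫ h) a b ((HomologicalComplex.single X.Modules (ComplexShape.up ℤ) 0).obj F) x) :
    ∀ x : X, ∃ a b : ℤ,
      DerSch.HasTorAmplitudeAt φ a b ((HomologicalComplex.single X.Modules (ComplexShape.up ℤ) 0).obj F) x := by
  intro x
  obtain ⟨a, b, hab⟩ := hS x
  obtain ⟨n, hn⟩ := amp_stalk_of_smooth h (φ x)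
  let G := (HomologicalComplex.single X.Modules (ComplexShape.up ℤ) 0).obj F
  let K₀ : DRing.Cx (X.presheaf.stalk x) :=
    ((DerSch.stalkFunctor X x).mapHomologicalComplex (ComplexShape.up ℤ)).obj G
  let e₁ := (Functor.mapHomologicalComplexCompIso (F := DerSch.stalkFunctor X x)
    (G := ModuleCat.restrictScalars (φ.stalkMap x).hom) (Iso.refl (DerSch.stalkOver φ x))
    (ComplexShape.up ℤ)).app G
  let e₂ := (Functor.mapHomologicalComplexCompIso (F := DerSch.stalkFunctor X x)
    (G := ModuleCat.restrictScalars ((φ ≫ h).stalkMap x).hom) (Iso.refl (DerSch.stalkOver (φ ≫ h) x))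
    (ComplexShape.up ℤ)).app G
  refine ⟨a - n, b, of_iso (DerivedCategory.Q.mapIso e₁) (hn a b ((DRing.restrictCx (φ.stalkMap x).hom).obj K₀) ?_)⟩
  refine (amp_res_comp (h.stalkMap (φ x)).hom (φ.stalkMap x).hom ((φ ≫ h).stalkMap x).hom
    (by rw [Scheme.Hom.stalkMap_comp]; rfl) K₀).2 ?_
  exact of_iso (DerivedCategory.Q.mapIso e₂.symm) hab

end Groth.Agent.S14074
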