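import Groth.Statements.S14075
import Groth.Agent.UnivOpen.Normal.GenerizeRd
-- import your own Groth.Agent.* helpers here

set_option autoImplicit false
open CategoryTheory AlgebraicGeometry
universe u
open FamCyc

namespace Groth.Agent.S14075

/-- Let f : X ⟶ S be locally of finite type and universally open. Then every point x of X lies on an
irreducible component W of X, given its reduced subscheme structure, such that W ⟶ S is
equidimensional at x. -/
theorem result {X S : Scheme.{u}} (f : X ⟶ S) [LocallyOfFiniteType f]
    [UniversallyOpen f] (x : X) :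
    ∃ W : TopologicalSpace.Closeds X, (W : Set X) ∈ irreducibleComponents (X : Type u) ∧
      ∃ w : ↥((Scheme.IdealSheafData.vanishingIdeal W).subscheme),
        (Scheme.IdealSheafData.vanishingIdeal W).subschemeι.base w = x ∧
        EGA43.IsEquidimAt ((Scheme.IdealSheafData.vanishingIdeal W).subschemeι ≫ f) w := by
  obtain ⟨z, hz, hfz, hzm, hdim⟩ := Groth.Agent.FibDim.exists_fibMax_generization f x
  obtain ⟨a, ha, ham⟩ := Groth.Agent.FibDim.exists_maximal_generization (f z)
  obtain ⟨ζ, hζ, hfζ, hr⟩ := Groth.Agent.UnivOpen.exists_generization_rd_ge_of_universallyOpen f ha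
  obtain ⟨η, hη, hmax⟩ := Groth.Agent.FibDim.exists_maximal_generization ζ
  have hfη : f η = a := ham _ ((hη.map f.continuous).trans (specializes_of_eq hfζ))
  have hle : FlatMor.fibreDimAt f x ≤ ((Groth.Agent.FibDim.rd f η : ℕ) : WithBot ℕ∞) := by
    rw [hdim]
    exact_mod_cast hr.trans (Groth.Agent.FibDim.rd_le_of_specializes f hη (hfη.trans hfζ.symm))
  obtain ⟨U, hxU, hU⟩ := Groth.Agent.FibDim.exists_nhd_rd_le f x _ hle
  exact Groth.Agent.UnivOpen.conditionT_of_bound f ((hη.trans hζ).trans hz) hmax (hfη ▸ ham) U hxU hU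

end Groth.Agent.S14075
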