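import Groth.Statements.S14076
import Groth.Agent.UnivOpen.Normal.ConditionT
-- import your own Groth.Agent.* helpers here

set_option autoImplicit false
open CategoryTheory AlgebraicGeometry
universe u
open FamCyc

namespace Groth.Agent.S14076

/-- Let f : X ⟶ S be locally of finite type and equidimensional at every point of X. Then every point x
of X lies on an irreducible component W of X, given its reduced subscheme structure, such that W ⟶ S
is equidimensional at x. -/
theorem result {X S : Scheme.{u}} (f : X ⟶ S) [LocallyOfFiniteType f]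
    (h : ∀ x : X, EGA43.IsEquidimAt f x) (x : X) :
    ∃ W : TopologicalSpace.Closeds X, (W : Set X) ∈ irreducibleComponents (X : Type u) ∧
      ∃ w : ↥((Scheme.IdealSheafData.vanishingIdeal W).subscheme),
        (Scheme.IdealSheafData.vanishingIdeal W).subschemeι.base w = x ∧
        EGA43.IsEquidimAt ((Scheme.IdealSheafData.vanishingIdeal W).subschemeι ≫ f) w := by
  obtain ⟨e, U, hxU, h1, h2⟩ := (Groth.Agent.FibDim.isEquidimAt_iff f x).1 (h x)
  obtain ⟨η, hη, hmax⟩ := Groth.Agent.FibDim.exists_maximal_generization x
  refine Groth.Agent.UnivOpen.conditionT_of_bound f hη hmax (h1 η (hη.mem_open U.isOpen hxU) hmax).1 U hxU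
    fun z hz => ?_
  obtain ⟨v, hv, hfv, hvm, -⟩ := Groth.Agent.FibDim.exists_fibMax_generization f z
  rw [h2 η (hη.mem_open U.isOpen hxU) (Groth.Agent.FibDim.fibMax_of_maximal f hmax)]
  exact (Groth.Agent.FibDim.rd_le_of_specializes f hv hfv).trans (h2 v (hv.mem_open U.isOpen hz) hvm).le

end Groth.Agent.S14076
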