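import Groth.Statements.S14079
import Groth.Agent.UnivOpen.Normal.ConditionT
-- import your own Groth.Agent.* helpers here

set_option autoImplicit false
open CategoryTheory AlgebraicGeometry
universe u
open FamCyc

namespace Groth.Agent.S14079

/-- (iv) ⇒ (iii): let f : X ⟶ S be locally of finite type. Suppose that every point x of X which is a
maximal point of its fibre (no other point of the fibre over f x specializes to x) lies on an
irreducible component W of X, given its reduced subscheme structure, with W ⟶ S equidimensional at
x. Then every point of X lies on such an irreducible component. -/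
theorem result {X S : Scheme.{u}} (f : X ⟶ S) [LocallyOfFiniteType f]
    (h : ∀ x : X, (∀ x' : X, f.base x' = f.base x → x ∈ closure ({x'} : Set X) → x' = x) →
      ∃ W : TopologicalSpace.Closeds X, (W : Set X) ∈ irreducibleComponents (X : Type u) ∧
      ∃ w : ↥((Scheme.IdealSheafData.vanishingIdeal W).subscheme),
        (Scheme.IdealSheafData.vanishingIdeal W).subschemeι.base w = x ∧
        EGA43.IsEquidimAt ((Scheme.IdealSheafData.vanishingIdeal W).subschemeι ≫ f) w)
    (x : X) :
    ∃ W : TopologicalSpace.Closeds X, (W : Set X) ∈ irreducibleComponents (X : Type u) ∧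
      ∃ w : ↥((Scheme.IdealSheafData.vanishingIdeal W).subscheme),
        (Scheme.IdealSheafData.vanishingIdeal W).subschemeι.base w = x ∧
        EGA43.IsEquidimAt ((Scheme.IdealSheafData.vanishingIdeal W).subschemeι ≫ f) w := Groth.Agent.UnivOpen.conditionT_of_fibMax f x fun z hz =>
  h z fun x' hx' hmem => hz x' (specializes_iff_mem_closure.2 hmem) hx'

end Groth.Agent.S14079
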