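import Groth.Statements.S14080
import Mathlib
import Groth.Agent.ArSingLib.Fixed

set_option autoImplicit false
universe u
open ArSing

namespace Groth.Agent.S14080

/-- Let k be a field in which 2 is invertible and σ an involutive k-algebra automorphism of the power
series ring k[[t]], with ξ the coefficient of t in σ(t). Then ξ^2 = 1, the k-algebra endomorphism φ
with φ(t) = (t + ξ σ(t))/2 is an automorphism, and φ⁻¹ σ φ is the automorphism t ↦ ξ t. (The
published statement is over an algebraically closed field of characteristic prime to 2; only the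
invertibility of 2 is used, so any field with 2 ≠ 0 is allowed here.) -/
theorem result (k : Type u) [Field k] (h2 : (2 : k) ≠ 0)
    (σ : PowerSeries k ≃ₐ[k] PowerSeries k) (hσ : ∀ f, σ (σ f) = f) :
    (PowerSeries.coeff 1 (σ PowerSeries.X)) ^ 2 = 1 ∧
    ∃ φ : PowerSeries k ≃ₐ[k] PowerSeries k,
      φ PowerSeries.X = PowerSeries.C (2⁻¹ : k) *
        (PowerSeries.X + PowerSeries.C (PowerSeries.coeff 1 (σ PowerSeries.X)) * σ PowerSeries.X) ∧
      ∀ f, φ.symm (σ (φ f)) = PowerSeries.rescale (PowerSeries.coeff 1 (σ PowerSeries.X)) f := by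
  open Groth.Agent.ArSingLib in
  have hconst : ∀ f, PowerSeries.constantCoeff (σ f) = PowerSeries.constantCoeff f := by
    intro f
    have hX : PowerSeries.constantCoeff (σ PowerSeries.X) = 0 := by
      by_contra h
      have h1 := (PowerSeries.isUnit_iff_constantCoeff.2 (isUnit_iff_ne_zero.2 h)).map σ.symm
      rw [AlgEquiv.symm_apply_apply, PowerSeries.isUnit_iff_constantCoeff, PowerSeries.constantCoeff_X] at h1
      exact not_isUnit_zero h1
    conv_lhs => rw [PowerSeries.eq_X_mul_shift_add_const f]
    rw [show (PowerSeries.C (PowerSeries.constantCoeff f) : PowerSeries k) =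
      algebraMap k (PowerSeries k) (PowerSeries.constantCoeff f) by simp [PowerSeries.algebraMap_apply],
      map_add, map_mul, AlgEquiv.commutes, map_add, map_mul, hX, zero_mul, zero_add]
    simp [PowerSeries.algebraMap_apply]
  obtain ⟨a, ha⟩ : (PowerSeries.X : PowerSeries k) ∣ σ PowerSeries.X :=
    PowerSeries.X_dvd_iff.2 ((hconst _).trans PowerSeries.constantCoeff_X)
  set ξ := PowerSeries.coeff 1 (σ PowerSeries.X) with hξ
  have hξa : ξ = PowerSeries.constantCoeff a := by
    rw [hξ, ha, PowerSeries.coeff_succ_X_mul, PowerSeries.coeff_zero_eq_constantCoeff_apply]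
  have hsq : ξ ^ 2 = 1 := by
    have h1 := congrArg (PowerSeries.coeff 1) (hσ PowerSeries.X)
    rw [ha, map_mul, ha, mul_assoc, PowerSeries.coeff_succ_X_mul, PowerSeries.coeff_one_X,
      PowerSeries.coeff_zero_eq_constantCoeff_apply, map_mul, hconst, ← hξa] at h1
    rw [sq, h1]
  refine ⟨hsq, ?_⟩
  set w := PowerSeries.C (2⁻¹ : k) * (PowerSeries.X + PowerSeries.C ξ * σ PowerSeries.X) with hw
  have hw' : w = PowerSeries.X * (PowerSeries.C (2⁻¹ : k) * (1 + PowerSeries.C ξ * a)) := by
    rw [hw, ha]; ring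
  have hu : IsUnit (PowerSeries.C (2⁻¹ : k) * (1 + PowerSeries.C ξ * a)) := by
    rw [PowerSeries.isUnit_iff_constantCoeff, map_mul, map_add, map_mul, map_one,
      PowerSeries.constantCoeff_C, PowerSeries.constantCoeff_C, ← hξa, ← sq, hsq, one_add_one_eq_two,
      inv_mul_cancel₀ h2]
    exact isUnit_one
  have hw0 : PowerSeries.constantCoeff w = 0 := by rw [hw', map_mul, PowerSeries.constantCoeff_X, zero_mul]
  let φ₀ : PowerSeries k →ₐ[k] PowerSeries k :=
    PowerSeries.substAlgHom (PowerSeries.HasSubst.of_constantCoeff_zero' hw0)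
  have hφX : φ₀ PowerSeries.X = w := PowerSeries.substAlgHom_X _
  have hI : (Ideal.span {(PowerSeries.X : PowerSeries k)}).map φ₀.toRingHom =
      IsLocalRing.maximalIdeal (PowerSeries k) := by
    rw [Ideal.map_span, Set.image_singleton, PowerSeries.maximalIdeal_eq_span_X]
    show Ideal.span {φ₀ PowerSeries.X} = _
    rw [hφX, hw', Ideal.span_singleton_mul_right_unit hu]
  have hs : Function.Surjective φ₀ := by
    have : IsHausdorff ((Ideal.span {(PowerSeries.X : PowerSeries k)}).map φ₀.toRingHom) (PowerSeries k) := by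
      rw [hI]; infer_instance
    refine surjective_of_mk_map_comp_surjective φ₀.toRingHom (I := Ideal.span {PowerSeries.X}) fun z => ?_
    obtain ⟨b, rfl⟩ := Ideal.Quotient.mk_surjective z
    refine ⟨algebraMap k _ (PowerSeries.constantCoeff b), ?_⟩
    rw [RingHom.comp_apply, Ideal.Quotient.eq, hI, PowerSeries.maximalIdeal_eq_span_X,
      Ideal.mem_span_singleton, PowerSeries.X_dvd_iff]
    show PowerSeries.constantCoeff (φ₀ (algebraMap k _ (PowerSeries.constantCoeff b)) - b) = 0
    rw [AlgHom.commutes, map_sub]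
    simp [PowerSeries.algebraMap_apply]
  let φ := AlgEquiv.ofBijective φ₀
    ⟨Groth.Agent.ArSingLib.injective_of_surjective_endo φ₀.toRingHom hs, hs⟩
  refine ⟨φ, hφX, fun f => ?_⟩
  have hσw : σ w = algebraMap k (PowerSeries k) ξ * w := by
    rw [hw, show ∀ c : k, (PowerSeries.C c : PowerSeries k) = algebraMap k (PowerSeries k) c from
      fun c => by simp [PowerSeries.algebraMap_apply], show ∀ c : k, (PowerSeries.C c : PowerSeries k) = algebraMap k (PowerSeries k) c from
      fun c => by simp [PowerSeries.algebraMap_apply], map_mul, map_add, map_mul, hσ, AlgEquiv.commutes, AlgEquiv.commutes]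
    have h1 : algebraMap k (PowerSeries k) ξ * algebraMap k (PowerSeries k) ξ = 1 := by
      rw [← map_mul, ← sq, hsq, map_one]
    linear_combination -(algebraMap k (PowerSeries k) (2⁻¹ : k) * σ PowerSeries.X) * h1
  have key := DFunLike.congr_fun (Groth.Agent.ArSingLib.ps_hom_ext (IsLocalRing.maximalIdeal (PowerSeries k))
    (φ := φ.symm.toAlgHom.comp (σ.toAlgHom.comp φ.toAlgHom)) (ψ := PowerSeries.rescaleAlgHom ξ) ?_ ?_) f
  · rw [← PowerSeries.coe_rescaleAlgHom]
    exact key
  · show φ.symm (σ (φ₀ PowerSeries.X)) = _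
    rw [hφX, hσw, map_mul, AlgEquiv.commutes, Groth.Agent.ArSingLib.rescale_alg_X,
      show w = φ PowerSeries.X from hφX.symm, AlgEquiv.symm_apply_apply]
  · show φ.symm (σ (φ₀ PowerSeries.X)) ∈ _
    rw [hφX, hσw, map_mul, AlgEquiv.commutes, show w = φ PowerSeries.X from hφX.symm,
      AlgEquiv.symm_apply_apply, PowerSeries.maximalIdeal_eq_span_X]
    exact Ideal.mul_mem_left _ _ (Ideal.mem_span_singleton_self _)

end Groth.Agent.S14080
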