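import Groth.Statements.S14081
import Mathlib
import Groth.Agent.ArSingLib.Node

set_option autoImplicit false
universe u
open ArSing

namespace Groth.Agent.S14081

/-- Over an algebraically closed field k of characteristic prime to 2 and to r+1, with r even, every
non-trivial k-algebra involution σ of A_r = k[[x,y]]/(y^2 - x^(r+1)) is conjugate, by a k-algebra
automorphism φ of A_r, to the involution x ↦ x, y ↦ -y (that is, φ⁻¹σφ fixes the class of x and
negates the class of y). -/
theorem result (k : Type u) [Field k] [IsAlgClosed k] (r : ℕ)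
    (h2 : (2 : k) ≠ 0) (hr : ((r + 1 : ℕ) : k) ≠ 0) (hev : Even r)
    (σ : ArSing.ring k r ≃ₐ[k] ArSing.ring k r) (hσ : ∀ a, σ (σ a) = a) (hne : σ ≠ AlgEquiv.refl) :
    ∃ φ : ArSing.ring k r ≃ₐ[k] ArSing.ring k r,
      φ.symm (σ (φ (ArSing.x k r))) = ArSing.x k r ∧
      φ.symm (σ (φ (ArSing.y k r))) = -ArSing.y k r := by
  open Groth.Agent.ArSingLib in
  rcases Nat.eq_zero_or_pos r with rfl | hr0
  · have hsum : PowerSeries.constantCoeff (im (ArSing.y k 0 + σ (ArSing.y k 0))) +
        PowerSeries.constantCoeff (im (ArSing.y k 0 - σ (ArSing.y k 0))) = 2 := by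
      rw [(re_im_add h2 _ _).2, (re_im_sub h2 _ _).2, (re_im_y h2).2, map_add, map_sub, map_one]
      ring
    obtain ⟨v, hv0, hσv, hv1⟩ : ∃ v, cst v = 0 ∧ (σ v = v ∨ σ v = -v) ∧
        PowerSeries.constantCoeff (im v) ≠ 0 := by
      by_cases h : PowerSeries.constantCoeff (im (ArSing.y k 0 + σ (ArSing.y k 0))) = 0
      · refine ⟨_, ?_, Or.inr ?_, fun h' => h2 (by rw [← hsum, h, h', add_zero])⟩
        · rw [map_sub, cst_alg, sub_self]
        · rw [map_sub, hσ, neg_sub]
      · refine ⟨_, ?_, Or.inl ?_, h⟩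
        · rw [map_add, cst_alg, cst_y, add_zero]
        · rw [map_add, hσ, add_comm]
    obtain ⟨α, β, hv, -, hβ⟩ := linear_part hv0
    have hxy : ArSing.x k 0 = ArSing.y k 0 ^ 2 := by rw [y_sq, zero_add, pow_one]
    have hγ : IsUnit (α * ArSing.y k 0 + β) := isUnit_iff.2 (by
      rw [map_add, map_mul, cst_y, mul_zero, zero_add, hβ]; exact hv1)
    have hgen : IsLocalRing.maximalIdeal (ArSing.ring k 0) = Ideal.span {v ^ 2, v} := by
      obtain ⟨g, hg⟩ := hγ
      have hve : v = ArSing.y k 0 * ↑g := by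
        rw [hg, hv, hxy]; ring
      have hy : ArSing.y k 0 ∈ Ideal.span {v ^ 2, v} := by
        have e : ArSing.y k 0 = v * ↑g⁻¹ := by rw [hve, mul_assoc, Units.mul_inv, mul_one]
        rw [e]
        exact Ideal.mul_mem_right _ _ (Ideal.subset_span (Or.inr rfl))
      refine le_antisymm (maximalIdeal_eq.le.trans (Ideal.span_le.2 ?_)) (Ideal.span_le.2 ?_)
      · rintro z (rfl | rfl)
        · rw [SetLike.mem_coe, hxy, pow_two (ArSing.y k 0)]
          exact Ideal.mul_mem_left _ _ hy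
        · exact hy
      · rintro z (rfl | rfl)
        · exact mem_maximalIdeal_iff.2 (by simp [hv0])
        · exact mem_maximalIdeal_iff.2 hv0
    obtain ⟨φ, hφx, hφy⟩ := exists_aut (v ^ 2) v (by ring) hgen
    rcases hσv with h | h
    · refine absurd (eq_refl_of_fix (conj φ σ) ?_ ?_) (conj_ne_refl hne)
      · rw [conj_apply, hφx, map_pow, h, ← hφx, AlgEquiv.symm_apply_apply]
      · rw [conj_apply, hφy, h, ← hφy, AlgEquiv.symm_apply_apply]
    · refine ⟨φ, ?_, ?_⟩
      · rw [hφx, map_pow, h, show (-v) ^ 2 = v ^ 2 by ring, ← hφx, AlgEquiv.symm_apply_apply]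
      · rw [hφy, h, map_neg, ← hφy, AlgEquiv.symm_apply_apply]
  · have hr2 : 2 ≤ r := by rcases hev with ⟨c, hc⟩; omega
    obtain ⟨φ, hφ⟩ := Groth.Agent.ArSingLib.exists_conj h2 hr2 σ hσ
    open Groth.Agent.ArSingLib in
    obtain ⟨hx, hy⟩ := classify h2 (conj φ σ) (conj_invol hσ) hφ
    open Groth.Agent.ArSingLib in
    have hx' : conj φ σ (ArSing.x k r) = ArSing.x k r :=
      hx.resolve_right fun h => Nat.not_even_iff_odd.2 h.1 hev
    open Groth.Agent.ArSingLib in
    refine ⟨φ, hx', hy.resolve_left fun h => conj_ne_refl hne (eq_refl_of_fix _ hx' h)⟩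

end Groth.Agent.S14081
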