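import Groth.Statements.S14082
import Mathlib
import Groth.Agent.ArSingLib.Node

set_option autoImplicit false
universe u
open ArSing

namespace Groth.Agent.S14082

/-- Over an algebraically closed field k of characteristic prime to 2 and to r+1, with r odd and r ≥ 3,
every non-trivial k-algebra involution σ of A_r = k[[x,y]]/(y^2 - x^(r+1)) is conjugate, by a
k-algebra automorphism φ of A_r, to one of the three involutions (x, y) ↦ (x, -y), (x, y) ↦ (-x, y),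
(x, y) ↦ (-x, -y). -/
theorem result (k : Type u) [Field k] [IsAlgClosed k] (r : ℕ)
    (h2 : (2 : k) ≠ 0) (hr : ((r + 1 : ℕ) : k) ≠ 0) (hodd : Odd r) (h3 : 3 ≤ r)
    (σ : ArSing.ring k r ≃ₐ[k] ArSing.ring k r) (hσ : ∀ a, σ (σ a) = a) (hne : σ ≠ AlgEquiv.refl) :
    ∃ φ : ArSing.ring k r ≃ₐ[k] ArSing.ring k r,
      (φ.symm (σ (φ (ArSing.x k r))) = ArSing.x k r ∧ φ.symm (σ (φ (ArSing.y k r))) = -ArSing.y k r) ∨
      (φ.symm (σ (φ (ArSing.x k r))) = -ArSing.x k r ∧ φ.symm (σ (φ (ArSing.y k r))) = ArSing.y k r) ∨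
      (φ.symm (σ (φ (ArSing.x k r))) = -ArSing.x k r ∧ φ.symm (σ (φ (ArSing.y k r))) = -ArSing.y k r) := by
  open Groth.Agent.ArSingLib in
  obtain ⟨φ, hφ⟩ := exists_conj h2 (by omega) σ hσ
  open Groth.Agent.ArSingLib in
  obtain ⟨hx, hy⟩ := classify h2 (conj φ σ) (conj_invol hσ) hφ
  refine ⟨φ, ?_⟩
  rcases hx with hx | ⟨-, hx⟩ <;> rcases hy with hy | hy
  · exact absurd (Groth.Agent.ArSingLib.eq_refl_of_fix _ hx hy) (Groth.Agent.ArSingLib.conj_ne_refl hne)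
  · exact Or.inl ⟨hx, hy⟩
  · exact Or.inr (Or.inl ⟨hx, hy⟩)
  · exact Or.inr (Or.inr ⟨hx, hy⟩)

end Groth.Agent.S14082
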