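import Groth.Statements.S14083
import Mathlib
import Groth.Agent.ArSingLib.Node

set_option autoImplicit false
universe u
open ArSing

namespace Groth.Agent.S14083

open Groth.Agent.ArSingLib in
theorem exists_node_aut {k : Type u} [Field k] (h2 : (2 : k) ≠ 0) (a b : ArSing.ring k 1) (hab : a * b = 0)
    (hgen : IsLocalRing.maximalIdeal (ArSing.ring k 1) = Ideal.span {a, b}) :
    ∃ φ : ArSing.ring k 1 ≃ₐ[k] ArSing.ring k 1,
      φ (ArSing.x k 1) + φ (ArSing.y k 1) = a ∧ φ (ArSing.y k 1) - φ (ArSing.x k 1) = b := by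
  obtain ⟨t, ht⟩ := isUnit_two (r := 1) h2
  have htt : (↑t⁻¹ : ArSing.ring k 1) * 2 = 1 := by rw [← ht, Units.inv_mul]
  obtain ⟨φ, hx, hy⟩ := exists_aut ((↑t⁻¹ : ArSing.ring k 1) * (a - b)) ((↑t⁻¹ : ArSing.ring k 1) * (a + b)) (by
    linear_combination (4 * (↑t⁻¹ : ArSing.ring k 1) ^ 2) * hab) (by
    rw [hgen]
    refine le_antisymm (Ideal.span_le.2 ?_) (Ideal.span_le.2 ?_) <;>
      rintro z (rfl | rfl) <;> rw [SetLike.mem_coe, Ideal.mem_span_pair]
    · exact ⟨1, 1, by linear_combination z * htt⟩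
    · exact ⟨-1, 1, by linear_combination z * htt⟩
    · exact ⟨↑t⁻¹, -↑t⁻¹, by ring⟩
    · exact ⟨↑t⁻¹, ↑t⁻¹, by ring⟩)
  refine ⟨φ, ?_, ?_⟩
  · rw [hx, hy]; linear_combination a * htt
  · rw [hx, hy]; linear_combination b * htt

open Groth.Agent.ArSingLib in
theorem exists_eigen {k : Type u} [Field k] (h2 : (2 : k) ≠ 0)
    (σ : ArSing.ring k 1 ≃ₐ[k] ArSing.ring k 1) (hσ : ∀ a, σ (σ a) = a) (u ε : ArSing.ring k 1)
    (hu : σ u = ε * u) : ∃ c : ArSing.ring k 1, IsUnit c ∧ (σ (c * u) = c * u ∨ σ (c * u) = -(c * u)) := by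
  by_cases h : IsUnit (1 + ε)
  · refine ⟨1 + ε, h, Or.inl ?_⟩
    rw [show (1 + ε) * u = u + σ u by rw [hu]; ring, map_add, hσ, add_comm]
  · refine ⟨1 - ε, ?_, Or.inr ?_⟩
    · by_contra h'
      refine (IsLocalRing.mem_maximalIdeal _).1 ?_ (isUnit_two (r := 1) h2)
      have := Ideal.add_mem _ ((IsLocalRing.mem_maximalIdeal _).2 h) ((IsLocalRing.mem_maximalIdeal _).2 h')
      rwa [show (1 + ε) + (1 - ε) = 2 by ring] at this
    · rw [show (1 - ε) * u = u - σ u by rw [hu]; ring, map_sub, hσ, neg_sub]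


/-- Over an algebraically closed field k of characteristic different from 2, every non-trivial k-algebra
involution σ of the node algebra A_1 = k[[x,y]]/(y^2 - x^2) is conjugate, by a k-algebra
automorphism φ of A_1, to one of the three involutions (x, y) ↦ (x, -y), (x, y) ↦ (-x, -y), (x, y) ↦
(y, x). -/
theorem result (k : Type u) [Field k] [IsAlgClosed k]
    (h2 : (2 : k) ≠ 0)
    (σ : ArSing.ring k 1 ≃ₐ[k] ArSing.ring k 1) (hσ : ∀ a, σ (σ a) = a) (hne : σ ≠ AlgEquiv.refl) :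
    ∃ φ : ArSing.ring k 1 ≃ₐ[k] ArSing.ring k 1,
      (φ.symm (σ (φ (ArSing.x k 1))) = ArSing.x k 1 ∧ φ.symm (σ (φ (ArSing.y k 1))) = -ArSing.y k 1) ∨
      (φ.symm (σ (φ (ArSing.x k 1))) = -ArSing.x k 1 ∧ φ.symm (σ (φ (ArSing.y k 1))) = -ArSing.y k 1) ∨
      (φ.symm (σ (φ (ArSing.x k 1))) = ArSing.y k 1 ∧ φ.symm (σ (φ (ArSing.y k 1))) = ArSing.x k 1) := by
  open Groth.Agent.ArSingLib in
  obtain ⟨t, ht⟩ := isUnit_two (r := 1) h2
  have htt : (↑t⁻¹ : ArSing.ring k 1) * 2 = 1 := by rw [← ht, Units.inv_mul]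
  have key : ∀ (φ : ArSing.ring k 1 ≃ₐ[k] ArSing.ring k 1) (a b p q : ArSing.ring k 1),
      φ (ArSing.x k 1) + φ (ArSing.y k 1) = a → φ (ArSing.y k 1) - φ (ArSing.x k 1) = b →
      σ a = φ p → σ b = φ q →
      φ.symm (σ (φ (ArSing.x k 1))) = ↑t⁻¹ * (p - q) ∧
        φ.symm (σ (φ (ArSing.y k 1))) = ↑t⁻¹ * (p + q) := by
    intro φ a b p q ha hb hp hq
    have e1 := congrArg φ.symm hp
    have e2 := congrArg φ.symm hq
    rw [← ha, map_add, map_add, AlgEquiv.symm_apply_apply] at e1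
    rw [← hb, map_sub, map_sub, AlgEquiv.symm_apply_apply] at e2
    constructor
    · linear_combination (↑t⁻¹ : ArSing.ring k 1) * e1 - (↑t⁻¹ : ArSing.ring k 1) * e2 -
        φ.symm (σ (φ (ArSing.x k 1))) * htt
    · linear_combination (↑t⁻¹ : ArSing.ring k 1) * e1 + (↑t⁻¹ : ArSing.ring k 1) * e2 -
        φ.symm (σ (φ (ArSing.y k 1))) * htt
  open Groth.Agent.ArSingLib in
  have hU := prime_u (k := k)
  open Groth.Agent.ArSingLib in
  have hV := prime_v (k := k)
  set u := ArSing.x k 1 + ArSing.y k 1 with hu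
  set v := ArSing.y k 1 - ArSing.x k 1 with hv
  have huv : u * v = 0 := Groth.Agent.ArSingLib.node_mul
  have hu0 : u ≠ 0 := fun h => Groth.Agent.ArSingLib.u_notMem h2 (show u ∈ _ by rw [h]; exact zero_mem _)
  have hv0 : v ≠ 0 := fun h => Groth.Agent.ArSingLib.v_notMem h2 (show v ∈ _ by rw [h]; exact zero_mem _)
  have hmul : σ u * σ v = 0 := by rw [← map_mul, huv, map_zero]
  have hmax := Groth.Agent.ArSingLib.node_max (k := k) h2
  rw [← hu, ← hv] at hmax
  by_cases hI : σ u ∈ Ideal.span {u}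
  · have h1 : σ u ∉ Ideal.span {v} := fun h =>
      hu0 (σ.injective ((Groth.Agent.ArSingLib.node_inter h2 hI h).trans (map_zero σ).symm))
    have h4 : σ v ∈ Ideal.span {v} :=
      (hV.mem_or_mem (by rw [hmul]; exact zero_mem _)).resolve_left h1
    obtain ⟨ε, hε⟩ := Ideal.mem_span_singleton'.1 hI
    obtain ⟨δ, hδ⟩ := Ideal.mem_span_singleton'.1 h4
    obtain ⟨c, hc, hcu⟩ := exists_eigen h2 σ hσ u ε hε.symm
    obtain ⟨d, hd, hdv⟩ := exists_eigen h2 σ hσ v δ hδ.symm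
    have hprod : c * u * (d * v) = 0 := by linear_combination c * d * huv
    have hgen : IsLocalRing.maximalIdeal (ArSing.ring k 1) = Ideal.span {c * u, d * v} := by
      rw [hmax, Ideal.span_insert, Ideal.span_insert (c * u), Ideal.span_singleton_mul_left_unit hc,
        Ideal.span_singleton_mul_left_unit hd]
    rcases hcu with hcu | hcu <;> rcases hdv with hdv | hdv
    · obtain ⟨φ, ha, hb⟩ := exists_node_aut h2 _ _ hprod hgen
      obtain ⟨ex, ey⟩ := key φ _ _ u v ha hb (by rw [hcu, ← ha, hu, map_add])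
        (by rw [hdv, ← hb, hv, map_sub])
      refine absurd (Groth.Agent.ArSingLib.eq_refl_of_fix (Groth.Agent.ArSingLib.conj φ σ) ?_ ?_)
        (Groth.Agent.ArSingLib.conj_ne_refl hne)
      · rw [Groth.Agent.ArSingLib.conj_apply, ex, hu, hv]; linear_combination ArSing.x k 1 * htt
      · rw [Groth.Agent.ArSingLib.conj_apply, ey, hu, hv]; linear_combination ArSing.y k 1 * htt
    · obtain ⟨φ, ha, hb⟩ := exists_node_aut h2 _ _ hprod hgen
      obtain ⟨ex, ey⟩ := key φ _ _ u (-v) ha hb (by rw [hcu, ← ha, hu, map_add])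
        (by rw [hdv, ← hb, map_neg, hv, map_sub])
      refine ⟨φ, Or.inr (Or.inr ⟨?_, ?_⟩)⟩
      · rw [ex, hu, hv]; linear_combination ArSing.y k 1 * htt
      · rw [ey, hu, hv]; linear_combination ArSing.x k 1 * htt
    · obtain ⟨φ, ha, hb⟩ := exists_node_aut h2 (d * v) (c * u) (by rw [mul_comm, hprod])
        (by rw [hgen, Ideal.span_pair_comm])
      obtain ⟨ex, ey⟩ := key φ _ _ u (-v) ha hb (by rw [hdv, ← ha, hu, map_add])
        (by rw [hcu, ← hb, map_neg, hv, map_sub])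
      refine ⟨φ, Or.inr (Or.inr ⟨?_, ?_⟩)⟩
      · rw [ex, hu, hv]; linear_combination ArSing.y k 1 * htt
      · rw [ey, hu, hv]; linear_combination ArSing.x k 1 * htt
    · obtain ⟨φ, ha, hb⟩ := exists_node_aut h2 _ _ hprod hgen
      obtain ⟨ex, ey⟩ := key φ _ _ (-u) (-v) ha hb (by rw [hcu, ← ha, map_neg, hu, map_add])
        (by rw [hdv, ← hb, map_neg, hv, map_sub])
      refine ⟨φ, Or.inr (Or.inl ⟨?_, ?_⟩)⟩
      · rw [ex, hu, hv]; linear_combination -ArSing.x k 1 * htt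
      · rw [ey, hu, hv]; linear_combination -ArSing.y k 1 * htt
  · have h4 : σ v ∈ Ideal.span {u} :=
      (hU.mem_or_mem (by rw [hmul]; exact zero_mem _)).resolve_left hI
    have h5 : σ v ∉ Ideal.span {v} := fun h =>
      hv0 (σ.injective ((Groth.Agent.ArSingLib.node_inter h2 h4 h).trans (map_zero σ).symm))
    have h1 : σ u ∈ Ideal.span {v} :=
      (hV.mem_or_mem (by rw [hmul]; exact zero_mem _)).resolve_right h5
    obtain ⟨ε, hε⟩ := Ideal.mem_span_singleton'.1 h1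
    obtain ⟨δ, hδ⟩ := Ideal.mem_span_singleton'.1 h4
    have hεu : IsUnit ε := by
      by_contra h
      have h6 : u = σ ε * δ * u := by
        conv_lhs => rw [← hσ u, ← hε, map_mul, ← hδ]
        ring
      have h7 : IsUnit (1 - σ ε * δ) := IsLocalRing.isUnit_one_sub_self_of_mem_nonunits _
        ((IsLocalRing.mem_maximalIdeal _).1 (Ideal.mul_mem_right _ _
          ((IsLocalRing.mem_maximalIdeal _).2 (fun hh => h (by simpa [hσ] using hh.map σ)))))
      exact hu0 (h7.mul_right_eq_zero.1 (by linear_combination h6))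
    have hgen : IsLocalRing.maximalIdeal (ArSing.ring k 1) = Ideal.span {u, -σ u} := by
      rw [hmax, ← hε, show -(ε * v) = (-ε) * v by ring, Ideal.span_insert, Ideal.span_insert u,
        Ideal.span_singleton_mul_left_unit hεu.neg]
    have hprod : u * -σ u = 0 := by rw [← hε]; linear_combination -ε * huv
    obtain ⟨φ, ha, hb⟩ := exists_node_aut h2 _ _ hprod hgen
    obtain ⟨ex, ey⟩ := key φ _ _ (-v) (-u) ha hb (by rw [map_neg, hv, map_sub, hb, neg_neg])
      (by rw [map_neg σ, hσ, map_neg φ, hu, map_add, ha])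
    refine ⟨φ, Or.inl ⟨?_, ?_⟩⟩
    · rw [ex, hu, hv]; linear_combination ArSing.x k 1 * htt
    · rw [ey, hu, hv]; linear_combination -ArSing.y k 1 * htt

end Groth.Agent.S14083
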