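import Groth.Statements.S14085
import Mathlib
import Groth.Agent.FlatMisc.RingPullback

set_option autoImplicit false
universe u
open FlatMor

namespace Groth.Agent.S14085

/-- Let R be a ring, A and B flat R-algebras, I an ideal of A and B → A/I an injective finite flat map
of R-algebras. Then the fibre product ring B ×_{A/I} A, realised as the subalgebra of B × A of pairs
with equal image in A/I, is flat over R. (This is the affine statement behind flatness over the base
of the pushout of a closed immersion along a finite flat morphism.) -/
theorem result (R A B : Type u) [CommRing R] [CommRing A] [CommRing B]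
    [Algebra R A] [Algebra R B] [Module.Flat R A] [Module.Flat R B] (I : Ideal A)
    [Algebra B (A ⧸ I)] [IsScalarTower R B (A ⧸ I)] [Module.Finite B (A ⧸ I)] [Module.Flat B (A ⧸ I)]
    (hinj : Function.Injective (algebraMap B (A ⧸ I))) :
    Module.Flat R ↥(AlgHom.equalizer ((IsScalarTower.toAlgHom R B (A ⧸ I)).comp (AlgHom.fst R B A))
          ((Ideal.Quotient.mkₐ R I).comp (AlgHom.snd R B A))) := by
  exact FlatMisc.flat_ringPullback R A B I

end Groth.Agent.S14085
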