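import Groth.Statements.S14091
import Mathlib.RingTheory.Ideal.Cotangent
import Mathlib.RingTheory.Artinian.Ring
import Mathlib.RingTheory.HopkinsLevitzki
import Mathlib.RingTheory.AdjoinRoot
import Mathlib.RingTheory.Jacobson.Ideal
import Mathlib.FieldTheory.IsAlgClosed.Basic

set_option autoImplicit false
universe u
open ArSing

namespace Groth.Agent.S14091
open Polynomial IsLocalRing

open Polynomial in
/-- Over an algebraically closed field k, a finite local k-algebra B whose cotangent space m/m^2 has
dimension at most one over the residue field is isomorphic, as a k-algebra, to k[t]/(t^n) with n =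
dim_k B (curvilinear pointed algebras of degree n have a single isomorphism class). -/
theorem result (k B : Type u) [Field k] [IsAlgClosed k]
    [CommRing B] [IsLocalRing B] [Algebra k B] [Module.Finite k B]
    (hcurv : Module.finrank (IsLocalRing.ResidueField B) (IsLocalRing.CotangentSpace B) ≤ 1) :
    Nonempty (B ≃ₐ[k] (Polynomial k ⧸ Ideal.span {(X : Polynomial k) ^ Module.finrank k B})) := by
  haveI : IsArtinianRing B := IsArtinianRing.of_finite k B
  obtain ⟨t, ht⟩ := ((finrank_cotangentSpace_le_one_iff (R := B)).1 hcurv).principal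
  haveI : Module.Finite k (ResidueField B) := Module.Finite.of_surjective (IsScalarTower.toAlgHom k B (ResidueField B)).toLinearMap IsLocalRing.residue_surjective
  have hres : Function.Surjective (algebraMap k (ResidueField B)) :=
    IsAlgClosed.algebraMap_bijective_of_isIntegral.2
  obtain ⟨N, hN⟩ := IsArtinianRing.isNilpotent_jacobson_bot (R := B)
  rw [IsLocalRing.jacobson_eq_maximalIdeal ⊥ bot_ne_top] at hN
  have htN : t ^ N = 0 := by
    have : t ^ N ∈ maximalIdeal B ^ N := Ideal.pow_mem_pow (ht ▸ Submodule.mem_span_singleton_self t) N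
    rw [hN] at this
    exact (Submodule.mem_bot B).1 this
  let π : k[X] →ₐ[k] B := aeval t
  have key : ∀ m : ℕ, ∀ b : B, ∃ (q : k[X]) (c : B), b = π q + t ^ m * c := by
    intro m
    induction m with
    | zero => exact fun b => ⟨0, b, by simp⟩
    | succ m ih =>
      intro b
      obtain ⟨q, c, rfl⟩ := ih b
      obtain ⟨a, ha⟩ := hres (residue B c)
      have : c - algebraMap k B a ∈ maximalIdeal B := by
        rw [← residue_eq_zero_iff, map_sub, ← ha]
        exact sub_self _
      rw [ht] at this
      obtain ⟨d, hd⟩ := Ideal.mem_span_singleton'.1 this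
      refine ⟨q + C a * X ^ m, d, ?_⟩
      rw [map_add, map_mul, map_pow, aeval_C, aeval_X]
      linear_combination (t ^ m) * (-hd)
  have hπ : Function.Surjective π := fun b => by
    obtain ⟨q, c, hqc⟩ := key N b
    exact ⟨q, by rw [hqc, htN, zero_mul, add_zero]⟩
  obtain ⟨g, hg⟩ := (IsPrincipalIdealRing.principal (RingHom.ker π.toRingHom)).principal
  have hXN : (X : k[X]) ^ N ∈ RingHom.ker π.toRingHom := by
    show π ((X : k[X]) ^ N) = 0
    rw [map_pow, aeval_X, htN]
  rw [hg] at hXN
  obtain ⟨c, hc⟩ := Ideal.mem_span_singleton'.1 hXN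
  obtain ⟨m, -, hm⟩ := (dvd_prime_pow (Polynomial.prime_X (R := k)) N).1 ⟨c, by rw [mul_comm]; exact hc.symm⟩
  have hker : RingHom.ker π.toRingHom = Ideal.span {(X : k[X]) ^ m} := by
    rw [hg]
    exact Ideal.span_singleton_eq_span_singleton.2 hm
  let e : (k[X] ⧸ Ideal.span {(X : k[X]) ^ m}) ≃ₐ[k] B :=
    (Ideal.quotientEquivAlgOfEq k hker.symm).trans (Ideal.quotientKerAlgEquivOfSurjective hπ)
  have hfin : Module.finrank k B = m := by
    rw [← e.toLinearEquiv.finrank_eq, finrank_quotient_span_eq_natDegree]
    simp
  rw [hfin]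
  exact ⟨e.symm⟩

end Groth.Agent.S14091
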