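import Groth.Statements.S14087
import Groth.Agent.S14091
import Mathlib.RingTheory.Artinian.Ring
import Mathlib.RingTheory.Flat.FaithfullyFlat.Algebra
import Mathlib.RingTheory.LocalRing.Module
import Mathlib.LinearAlgebra.FiniteDimensional.Basic

set_option autoImplicit false
universe u
open ArSing

namespace Groth.Agent.S14087
open Polynomial IsLocalRing

open Polynomial in
/-- Over an algebraically closed field k, if B = k[t]/(t^n) with n ≥ 1 is flat over a k-subalgebra A ⊆ B
(a finite flat extension of pointed finite algebras with curvilinear top), then A is curvilinear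
too: A is isomorphic as a k-algebra to k[t]/(t^m) for some m. -/
theorem result (k : Type u) [Field k] [IsAlgClosed k]
    (n : ℕ) (hn : 0 < n)
    (A : Subalgebra k (Polynomial k ⧸ Ideal.span {(X : Polynomial k) ^ n}))
    [Module.Flat A (Polynomial k ⧸ Ideal.span {(X : Polynomial k) ^ n})] :
    ∃ m : ℕ, Nonempty (A ≃ₐ[k] (Polynomial k ⧸ Ideal.span {(X : Polynomial k) ^ m})) := by
  let J : Ideal k[X] := Ideal.span {(X : k[X]) ^ n}
  let t : k[X] ⧸ J := Ideal.Quotient.mk J X
  haveI hfin : Module.Finite k (k[X] ⧸ J) := Polynomial.Monic.finite_quotient (Polynomial.monic_X_pow n)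
  haveI : Nontrivial (k[X] ⧸ J) := Ideal.Quotient.nontrivial_iff.2 fun h => by
    rw [Ideal.span_singleton_eq_top, isUnit_pow_iff hn.ne'] at h
    exact Polynomial.not_isUnit_X h
  have htn : t ^ n = 0 := by
    rw [← map_pow, Ideal.Quotient.eq_zero_iff_mem]
    exact Ideal.mem_span_singleton_self _
  -- every element is a unit times a power of `t`
  have hdec : ∀ b : k[X] ⧸ J, ∃ (e : ℕ) (w : k[X] ⧸ J), IsUnit w ∧ e ≤ n ∧ b = t ^ e * w := by
    have hun : ∀ q : k[X], q.coeff 0 ≠ 0 → IsUnit (Ideal.Quotient.mk J q) := by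
      intro q hq
      have hco : IsCoprime q ((X : k[X]) ^ n) :=
        (((Polynomial.irreducible_X (R := k)).coprime_iff_not_dvd).2 fun h => hq (Polynomial.X_dvd_iff.1 h)).pow_left.symm
      obtain ⟨a, b, hab⟩ := hco
      refine IsUnit.of_mul_eq_one (Ideal.Quotient.mk J a) ?_
      rw [← map_mul, ← map_one (Ideal.Quotient.mk J), Ideal.Quotient.eq]
      exact Ideal.mem_span_singleton'.2 ⟨-b, by linear_combination -hab⟩
    intro b
    obtain ⟨q, rfl⟩ := Ideal.Quotient.mk_surjective b
    by_cases hq : q = 0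
    · exact ⟨n, 1, isUnit_one, le_rfl, by simp [hq, htn]⟩
    obtain ⟨e, r, hr, rfl⟩ := WfDvdMonoid.max_power_factor hq (Polynomial.irreducible_X (R := k))
    rcases le_or_gt e n with he | he
    · exact ⟨e, _, hun r (fun h => hr (Polynomial.X_dvd_iff.2 h)), he, by simp [t]⟩
    · refine ⟨n, 1, isUnit_one, le_rfl, ?_⟩
      rw [map_mul, map_pow, show e = n + (e - n) by omega, pow_add]
      show t ^ n * t ^ (e - n) * _ = _
      rw [htn]
      simp
  haveI : Module.Finite k A := inferInstanceAs (Module.Finite k A.toSubmodule)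
  haveI : IsArtinianRing A := IsArtinianRing.of_finite k A
  haveI : IsArtinianRing (k[X] ⧸ J) := IsArtinianRing.of_finite k _
  have hlocB : IsLocalRing (k[X] ⧸ J) := by
    refine IsLocalRing.of_isUnit_or_isUnit_one_sub_self fun b => ?_
    obtain ⟨e, w, hw, -, rfl⟩ := hdec b
    rcases Nat.eq_zero_or_pos e with rfl | he
    · exact Or.inl (by simpa using hw)
    · exact Or.inr (IsNilpotent.isUnit_one_sub ⟨n, by
        rw [mul_pow, ← pow_mul, (Nat.add_sub_cancel' (Nat.le_mul_of_pos_left n he)).symm, pow_add, htn]; simp⟩)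
  have hunit : ∀ a : A, IsUnit (a : k[X] ⧸ J) → IsUnit a := by
    intro a ha
    have hinj : Function.Injective (LinearMap.mulLeft k a) := fun x y h =>
      Subtype.ext (ha.mul_left_cancel (congrArg Subtype.val h :))
    obtain ⟨b, hb⟩ := LinearMap.surjective_of_injective hinj 1
    exact IsUnit.of_mul_eq_one b hb
  haveI : IsLocalHom (algebraMap A (k[X] ⧸ J)) := ⟨hunit⟩
  haveI : IsLocalRing A := by
    haveI : Nontrivial A := inferInstance
    refine IsLocalRing.of_isUnit_or_isUnit_one_sub_self fun a => ?_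
    exact (IsLocalRing.isUnit_or_isUnit_one_sub_self (a : k[X] ⧸ J)).imp (hunit a) fun h => hunit (1 - a) (by simpa using h)
  haveI : Module.Finite A (k[X] ⧸ J) := Module.Finite.of_restrictScalars_finite k A _
  haveI : Module.Free A (k[X] ⧸ J) := Module.free_of_flat_of_isLocalRing
  haveI : Module.FaithfullyFlat A (k[X] ⧸ J) := inferInstance
  refine ⟨Module.finrank k A, Groth.Agent.S14091.result k A (finrank_cotangentSpace_le_one_iff.2 ⟨?_⟩)⟩
  -- a generator: an element of minimal order
  classical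
  have hex : ∃ e, ∃ a : A, a ∈ maximalIdeal A ∧ ∃ w, IsUnit w ∧ (a : k[X] ⧸ J) = t ^ e * w :=
    ⟨n, 0, zero_mem _, 1, isUnit_one, by simp [htn]⟩
  obtain ⟨a, ham, w, hw, haw⟩ := Nat.find_spec hex
  refine ⟨a, le_antisymm (fun c hc => ?_) ((Ideal.span_singleton_le_iff_mem _).2 ham)⟩
  obtain ⟨e, v, hv, -, hcv⟩ := hdec (c : k[X] ⧸ J)
  have he : Nat.find hex ≤ e := Nat.find_min' hex ⟨c, hc, v, hv, hcv⟩
  have hmem : algebraMap A (k[X] ⧸ J) c ∈ (Ideal.span {a}).map (algebraMap A (k[X] ⧸ J)) := by
    rw [Ideal.map_span, Set.image_singleton, Ideal.mem_span_singleton]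
    show (a : k[X] ⧸ J) ∣ (c : k[X] ⧸ J)
    rw [haw, hw.mul_right_dvd, hcv]
    exact (pow_dvd_pow t he).mul_right v
  rw [← Ideal.mem_comap, Ideal.comap_map_eq_self_of_faithfullyFlat] at hmem
  exact hmem

end Groth.Agent.S14087
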