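import Groth.Statements.S14088
import Mathlib.Data.Nat.Choose.Basic
import Mathlib.Algebra.BigOperators.Ring.Finset
import Mathlib.Algebra.BigOperators.Intervals
import Mathlib.Tactic.Ring
import Mathlib.Tactic.LinearCombination

set_option autoImplicit false
universe u
open ArSing

namespace Groth.Agent.S14088
theorem choose_cast {A : Type u} [CommRing A] (m s : ℕ) :
    ((m : A) - s) * (Nat.choose m s : A) = (s + 1) * (Nat.choose m (s + 1) : A) := by
  rcases le_or_gt s m with h | h
  · have h1 := congrArg (Nat.cast (R := A)) (Nat.choose_succ_right_eq m s)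
    push_cast [h] at h1
    linear_combination -h1
  · simp [Nat.choose_eq_zero_of_lt h, Nat.choose_eq_zero_of_lt (h.trans (Nat.lt_succ_self s))]

theorem prod_mul_prod {A : Type u} [CommRing A] (h τ : A) (n m : ℕ) :
    (∏ i ∈ Finset.range n, (h + (i : A) * τ)) * ∏ i ∈ Finset.range m, (h + (i : A) * τ) =
      ∑ s ∈ Finset.range (n + 1), (-1 : A) ^ s * (Nat.factorial s : A) * (Nat.choose n s : A) *
        (Nat.choose m s : A) * τ ^ s * ∏ i ∈ Finset.range (m + n - s), (h + (i : A) * τ) := by
  set P : ℕ → A := fun k => ∏ i ∈ Finset.range k, (h + (i : A) * τ) with hP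
  induction n with
  | zero => simp
  | succ n ih =>
    change P (n + 1) * P m = ∑ s ∈ Finset.range (n + 1 + 1), _ * P (m + (n + 1) - s)
    rw [show P (n + 1) = P n * (h + (n : A) * τ) from Finset.prod_range_succ _ _,
      mul_right_comm, show P n * P m = _ from ih, Finset.sum_mul]
    let a : ℕ → ℕ → A := fun k s =>
      (-1 : A) ^ s * (Nat.factorial s : A) * (Nat.choose k s : A) * (Nat.choose m s : A) * τ ^ s
    have hterm : ∀ s ∈ Finset.range (n + 1), a n s * P (m + n - s) * (h + (n : A) * τ) =
        a n s * P (m + (n + 1) - s) - a n s * ((m : A) - s) * τ * P (m + n - s) := by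
      intro s hs
      have hs' : s ≤ n := Nat.lt_succ_iff.1 (Finset.mem_range.1 hs)
      rw [show m + (n + 1) - s = (m + n - s) + 1 by omega,
        show P (m + n - s + 1) = P (m + n - s) * (h + ((m + n - s : ℕ) : A) * τ) from
          Finset.prod_range_succ _ _, Nat.cast_sub (by omega)]
      push_cast
      ring
    change ∑ s ∈ Finset.range (n + 1), a n s * P (m + n - s) * (h + (n : A) * τ) =
      ∑ s ∈ Finset.range (n + 1 + 1), a (n + 1) s * P (m + (n + 1) - s)
    rw [Finset.sum_congr rfl hterm, Finset.sum_sub_distrib]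
    have hext : ∑ s ∈ Finset.range (n + 1), a n s * P (m + (n + 1) - s) =
        ∑ s ∈ Finset.range (n + 1 + 1), a n s * P (m + (n + 1) - s) := by
      rw [Finset.sum_range_succ _ (n + 1)]
      simp [a]
    rw [hext, Finset.sum_range_succ' (fun s => a n s * P (m + (n + 1) - s)),
      Finset.sum_range_succ' (fun s => a (n + 1) s * P (m + (n + 1) - s))]
    rw [add_sub_right_comm, ← Finset.sum_sub_distrib]
    congr 1
    · refine Finset.sum_congr rfl fun s _ => ?_
      rw [show m + (n + 1) - (s + 1) = m + n - s by omega, ← sub_mul]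
      congr 1
      simp only [a, Nat.choose_succ_succ', Nat.factorial_succ]
      push_cast
      rw [pow_succ, pow_succ]
      linear_combination (-((-1 : A) ^ s * (Nat.factorial s : A) * (Nat.choose n s : A) * τ ^ s * τ)) *
        choose_cast (A := A) m s
    · simp [a]

/-- The identity behind the torus-equivariant classes h_i = h_0 + i τ of the coordinate hyperplanes of a
projective space of binary forms, stated in an arbitrary commutative ring: for n ≤ m, (h_0 ⋯
h_(n-1))^2 · h_n ⋯ h_(m-1) equals the sum over s = 0, …, n of (-1)^s s! (n choose s) (m choose s)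
τ^s h_0 ⋯ h_(m+n-s-1), where h_i = h + i τ. (The published statement is in the equivariant Chow ring
of that projective space; only the relations h_i = h_j + (j - i) τ are used, so it holds in any
commutative ring.) -/
theorem result (A : Type u) [CommRing A] (h τ : A) (n m : ℕ) (hnm : n ≤ m) :
    (∏ i ∈ Finset.range n, (h + (i : A) * τ) ^ 2) * ∏ i ∈ Finset.Ico n m, (h + (i : A) * τ) =
      ∑ s ∈ Finset.range (n + 1), (-1 : A) ^ s * (Nat.factorial s : A) * (Nat.choose n s : A) *
        (Nat.choose m s : A) * τ ^ s * ∏ i ∈ Finset.range (m + n - s), (h + (i : A) * τ) := by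
  rw [← prod_mul_prod, Finset.prod_pow, sq, mul_assoc, Finset.prod_range_mul_prod_Ico _ hnm]

end Groth.Agent.S14088
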