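import Groth.Statements.S1409
import Mathlib

set_option autoImplicit false
universe u
open FlatMor

namespace Groth.Agent.S1409

/-- Let (R_i) be a directed system of commutative rings whose transition maps are faithfully flat, with
colimit R. Then, counting in the extended natural numbers, the minimal primes of R are exactly as
numerous as the supremum over i of the count of minimal primes of R_i. -/
theorem result {ι : Type u} [Preorder ι] [IsDirected ι (· ≤ ·)] [Nonempty ι] (G : ι → Type u) [∀ i, CommRing (G i)]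
    (f : ∀ i j, i ≤ j → G i →+* G j) [DirectedSystem G fun i j h => f i j h]
    (hf : ∀ i j (h : i ≤ j), letI := (f i j h).toAlgebra
      Module.FaithfullyFlat (G i) (G j)) :
    (minimalPrimes (Ring.DirectLimit G fun i j h => ⇑(f i j h))).encard = ⨆ i, (minimalPrimes (G i)).encard := by
  classical
  let R := Ring.DirectLimit G fun i j h => ⇑(f i j h)
  let of : ∀ i, G i →+* R := fun i => Ring.DirectLimit.of G (fun i j h => ⇑(f i j h)) i
  have hinjf : ∀ i j (h : i ≤ j), Function.Injective (f i j h) := by
    intro i j h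
    letI := (f i j h).toAlgebra
    haveI := hf i j h
    exact FaithfulSMul.algebraMap_injective (G i) (G j)
  have hinj : ∀ i, Function.Injective (of i) := fun i => Ring.DirectLimit.of_injective f hinjf i
  have hoff : ∀ i j (h : i ≤ j) (x : G i), of j (f i j h x) = of i x := fun i j h x => Ring.DirectLimit.of_f h x
  have hcomap : ∀ q ∈ minimalPrimes R, ∀ i, q.comap (of i) ∈ minimalPrimes (G i) := by
    intro q hq i
    haveI hqp : q.IsPrime := hq.1.1
    haveI := Ideal.IsPrime.comap (of i) (hK := hqp)
    refine ⟨⟨inferInstance, bot_le⟩, fun p hp hpq => ?_⟩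
    haveI := hp.1
    intro x hx
    have hz : (0 : R) ∈ (q.primeCompl ⊔ Submonoid.powers (of i x) : Submonoid R) := by
      by_contra hcon
      obtain ⟨P, hP, -, hdisj⟩ := Ideal.exists_le_prime_disjoint (⊥ : Ideal R) (q.primeCompl ⊔ Submonoid.powers (of i x))
        (Set.disjoint_left.mpr (fun a ha => by simp only [SetLike.mem_coe, Ideal.mem_bot] at ha; subst ha; exact hcon))
      have hPq : P ≤ q := fun a ha => by
        by_contra h
        exact Set.disjoint_left.mp hdisj ha ((le_sup_left : q.primeCompl ≤ q.primeCompl ⊔ Submonoid.powers (of i x)) h)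
      have hxP : of i x ∈ P := hq.2 ⟨hP, bot_le⟩ hPq hx
      exact Set.disjoint_left.mp hdisj hxP ((le_sup_right : Submonoid.powers (of i x) ≤ q.primeCompl ⊔ Submonoid.powers (of i x)) (Submonoid.mem_powers _))
    obtain ⟨y, hy, w, ⟨n, rfl⟩, hzero⟩ := Submonoid.mem_sup.mp hz
    obtain ⟨j, yj, rfl⟩ := Ring.DirectLimit.exists_of y
    obtain ⟨k, hik, hjk⟩ := exists_ge_ge i j
    have hk0 : f j k hjk yj * (f i k hik x) ^ n = 0 := hinj k (by
      rw [map_mul, map_pow, hoff, hoff, map_zero]; exact hzero)
    letI := (f i k hik).toAlgebra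
    haveI := hf i k hik
    haveI : (q.comap (of k)).IsPrime := Ideal.IsPrime.comap (of k) (hK := hqp)
    haveI : (q.comap (of k)).LiesOver (q.comap (of i)) := ⟨by
      rw [Ideal.under_def, Ideal.comap_comap]
      congr 1
      exact RingHom.ext (fun a => (hoff i k hik a).symm)⟩
    obtain ⟨P, hPle, hPp, hPo⟩ := Ideal.exists_ideal_le_liesOver_of_le (p := p) (q := q.comap (of i)) (q.comap (of k)) hpq
    have hmem : f i k hik x ∈ P := by
      have h0 : f j k hjk yj * (f i k hik x) ^ n ∈ P := hk0 ▸ P.zero_mem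
      rcases hPp.mem_or_mem h0 with h | h
      · exact absurd (hPle h) (fun h' => hy (by rw [Ideal.mem_comap, hoff] at h'; exact h'))
      · exact hPp.mem_of_pow_mem _ h
    rw [hPo.over]
    exact hmem
  have hsurj : ∀ i, ∀ p ∈ minimalPrimes (G i), ∃ q ∈ minimalPrimes R, q.comap (of i) = p := by
    intro i p hp
    refine Ideal.exists_minimalPrimes_comap_eq (of i) p ?_
    rw [show (⊥ : Ideal R).comap (of i) = ⊥ from (RingHom.injective_iff_ker_eq_bot _).mp (hinj i)]
    exact hp
  refine le_antisymm ?_ (iSup_le fun i => ?_)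
  · by_contra hcon
    push_neg at hcon
    obtain ⟨n, hn⟩ := ENat.ne_top_iff_exists.mp hcon.ne_top
    obtain ⟨t, ht, htc⟩ := Set.exists_subset_encard_eq (k := (n : ℕ∞) + 1) (s := minimalPrimes R)
      (Order.add_one_le_of_lt (hn ▸ hcon))
    have htfin : t.Finite := Set.finite_of_encard_eq_coe (k := n + 1) (by rw [htc]; push_cast; rfl)
    haveI : Finite t := htfin
    have hsep : ∀ ab : t × t, ∃ i, ∀ j, i ≤ j → ab.1.1.comap (of j) = ab.2.1.comap (of j) → ab.1 = ab.2 := by
      rintro ⟨a, b⟩
      by_cases hab : a = b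
      · exact ⟨Classical.arbitrary ι, fun _ _ _ => hab⟩
      · have hne : (a.1 : Ideal R) ≠ b.1 := fun h => hab (Subtype.ext h)
        obtain ⟨z, hz⟩ : ∃ z, ¬ (z ∈ (a.1 : Ideal R) ↔ z ∈ (b.1 : Ideal R)) := not_forall.mp (fun h => hne (Ideal.ext h))
        obtain ⟨i, x, rfl⟩ := Ring.DirectLimit.exists_of z
        refine ⟨i, fun j hij heq => absurd ?_ hz⟩
        have := SetLike.ext_iff.mp heq (f i j hij x)
        rwa [Ideal.mem_comap, Ideal.mem_comap, hoff] at this
    choose idx hidx using hsep
    obtain ⟨j, hj⟩ := Finite.exists_le idx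
    have hinjOn : Set.InjOn (fun q : Ideal R => q.comap (of j)) t := fun a ha b hb hab =>
      congrArg Subtype.val (hidx (⟨a, ha⟩, ⟨b, hb⟩) j (hj _) hab)
    have h1 : t.encard ≤ (minimalPrimes (G j)).encard :=
      Set.encard_le_encard_of_injOn (fun q hq => hcomap q (ht hq) j) hinjOn
    have h2 : (minimalPrimes (G j)).encard ≤ (n : ℕ∞) := hn ▸ le_iSup (fun i => (minimalPrimes (G i)).encard) j
    have h3 := htc ▸ h1.trans h2
    norm_cast at h3
    omega
  · calc (minimalPrimes (G i)).encard ≤ ((fun q : Ideal R => q.comap (of i)) '' minimalPrimes R).encard :=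
          Set.encard_le_encard (fun p hp => hsurj i p hp)
      _ ≤ _ := Set.encard_image_le _ _

end Groth.Agent.S1409
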