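import Groth.Statements.S14093
import Mathlib
import Groth.Agent.ArSingLib.Fixed

set_option autoImplicit false
universe u
open ArSing

namespace Groth.Agent.S14093

open Groth.Agent.ArSingLib in
theorem coords {k : Type u} [Field k] {r : ℕ} (h2 : (2 : k) ≠ 0)
    (σ : ArSing.ring k r ≃ₐ[k] ArSing.ring k r) (hx : σ (ArSing.x k r) = ArSing.x k r)
    (hy : σ (ArSing.y k r) = -ArSing.y k r) (a : ArSing.ring k r) :
    re (σ a) = re a ∧ im (σ a) = - im a := by
  obtain ⟨e1, e2⟩ := sigma_coords h2 σ 1 (-1) (by simp [hx]) (by rw [hy, map_neg, map_one]; ring) a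
  have h1 : ∀ f : PowerSeries k, PowerSeries.rescaleAlgHom (1 : k) f = f := fun f =>
    PowerSeries.ext fun n => by rw [coeff_rescale_alg, one_pow, one_mul]
  rw [h1] at e1 e2
  exact ⟨e1, e2.trans (by rw [map_neg, map_one]; ring)⟩


/-- For an algebraically closed field k of characteristic prime to 2 and to r+1 and the involution σ of
A_r = k[[x,y]]/(y^2 - x^(r+1)) with σ(x) = x, σ(y) = -y: the invariant subalgebra is k[[x]] (the
image of t ↦ x from k[[t]]), the inclusion k[[x]] → A_r is faithfully flat (flat, and the maximal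
ideal of k[[t]] does not generate the unit ideal of A_r), and the fixed locus (the closed subscheme
cut out by all σ(a) - a) is a Cartier divisor of length r + 1, i.e. its ideal is generated by one
nonzerodivisor and the quotient has length r + 1. -/
theorem result (k : Type u) [Field k] [IsAlgClosed k] (r : ℕ)
    (h2 : (2 : k) ≠ 0) (hr : ((r + 1 : ℕ) : k) ≠ 0)
    (σ : ArSing.ring k r ≃ₐ[k] ArSing.ring k r) (hx : σ (ArSing.x k r) = ArSing.x k r)
    (hy : σ (ArSing.y k r) = -ArSing.y k r) :
    (∀ a : ArSing.ring k r, σ a = a ↔ a ∈ (ArSing.xMap k r).range) ∧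
    ((ArSing.xMap k r).toRingHom.Flat ∧
      Ideal.map (ArSing.xMap k r) (IsLocalRing.maximalIdeal (PowerSeries k)) ≠ ⊤) ∧
    (∃ g : ArSing.ring k r, g ∈ nonZeroDivisors (ArSing.ring k r) ∧
      Ideal.span (Set.range fun a : ArSing.ring k r => σ a - a) = Ideal.span {g}) ∧
    Module.length (ArSing.ring k r)
      (ArSing.ring k r ⧸ Ideal.span (Set.range fun a : ArSing.ring k r => σ a - a)) = r + 1 := by
  open Groth.Agent.ArSingLib in
  have hc := coords h2 σ hx hy
  have hspan : Ideal.span (Set.range fun a : ArSing.ring k r => σ a - a) = Ideal.span {ArSing.y k r} := by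
    refine le_antisymm (Ideal.span_le.2 ?_) (Ideal.span_le.2 ?_)
    · rintro _ ⟨a, rfl⟩
      refine Ideal.mem_span_singleton'.2 ⟨ArSing.xMap k r (-2 * Groth.Agent.ArSingLib.im a), ?_⟩
      show _ = σ a - a
      have h1 := Groth.Agent.ArSingLib.re_add_im (σ a)
      rw [(hc a).1, (hc a).2, map_neg] at h1
      rw [map_mul, map_neg, map_ofNat]
      linear_combination Groth.Agent.ArSingLib.re_add_im a - h1
    · rintro _ rfl
      obtain ⟨t, ht⟩ := Groth.Agent.ArSingLib.isUnit_two (r := r) h2
      have htt : (↑t⁻¹ : ArSing.ring k r) * 2 = 1 := by rw [← ht, Units.inv_mul]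
      have e : ArSing.y k r = -↑t⁻¹ * (σ (ArSing.y k r) - ArSing.y k r) := by
        rw [hy]; linear_combination -ArSing.y k r * htt
      rw [SetLike.mem_coe, e]
      exact Ideal.mul_mem_left _ _ (Ideal.subset_span ⟨_, rfl⟩)
  have hker : ∀ f : PowerSeries k, ArSing.xMap k r f ∈ Ideal.span {ArSing.y k r} ↔
      f ∈ IsLocalRing.maximalIdeal (PowerSeries k) ^ (r + 1) := by
    intro f
    rw [PowerSeries.maximalIdeal_eq_span_X, Ideal.span_singleton_pow, Ideal.mem_span_singleton']
    constructor
    · rintro ⟨c, hc'⟩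
      have h1 := (Groth.Agent.ArSingLib.re_im_mul h2 c (ArSing.y k r)).1
      rw [hc', (Groth.Agent.ArSingLib.re_im_xMap h2 _).1, (Groth.Agent.ArSingLib.re_im_y h2).1,
        (Groth.Agent.ArSingLib.re_im_y h2).2] at h1
      rw [Ideal.mem_span_singleton', h1]
      exact ⟨Groth.Agent.ArSingLib.im c, by ring⟩
    · intro hf
      obtain ⟨g, rfl⟩ := Ideal.mem_span_singleton'.1 hf
      refine ⟨ArSing.xMap k r g * ArSing.y k r, ?_⟩
      rw [map_mul, map_pow, Groth.Agent.ArSingLib.xMap_X, ← Groth.Agent.ArSingLib.y_sq]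
      ring
  refine ⟨fun a => ⟨fun h => ?_, ?_⟩, ⟨?_, ?_⟩, ⟨ArSing.y k r, ?_, hspan⟩, ?_⟩
  · refine ⟨Groth.Agent.ArSingLib.re a, ?_⟩
    have h1 := (hc a).2
    rw [h] at h1
    have h0 : Groth.Agent.ArSingLib.im a = 0 :=
      (mul_eq_zero.1 (show (2 : PowerSeries k) * Groth.Agent.ArSingLib.im a = 0 by linear_combination h1)).resolve_left
        (Groth.Agent.ArSingLib.two_ne_zero_ps h2)
    show ArSing.xMap k r _ = a
    conv_rhs => rw [Groth.Agent.ArSingLib.re_add_im a, h0, map_zero, zero_mul, add_zero]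
  · rintro ⟨f, rfl⟩
    show σ (ArSing.xMap k r f) = ArSing.xMap k r f
    obtain ⟨e1, e2⟩ := hc (ArSing.xMap k r f)
    rw [(Groth.Agent.ArSingLib.re_im_xMap h2 f).1] at e1
    rw [(Groth.Agent.ArSingLib.re_im_xMap h2 f).2, neg_zero] at e2
    rw [Groth.Agent.ArSingLib.re_add_im (σ (ArSing.xMap k r f)), e1, e2, map_zero, zero_mul, add_zero]
  · letI : Algebra (PowerSeries k) (ArSing.ring k r) := (ArSing.xMap k r).toRingHom.toAlgebra
    let L : (PowerSeries k × PowerSeries k) →ₗ[PowerSeries k] ArSing.ring k r :=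
      { toFun := fun p => ArSing.xMap k r p.1 + ArSing.xMap k r p.2 * ArSing.y k r
        map_add' := fun p q => by simp only [Prod.fst_add, Prod.snd_add, map_add]; ring
        map_smul' := fun c p => by
          show ArSing.xMap k r (c * p.1) + ArSing.xMap k r (c * p.2) * ArSing.y k r =
            ArSing.xMap k r c * (ArSing.xMap k r p.1 + ArSing.xMap k r p.2 * ArSing.y k r)
          rw [map_mul, map_mul]; ring }
    have hL : Function.Bijective L :=
      ⟨fun p q h => Prod.ext (Groth.Agent.ArSingLib.repr_unique h2 h).1 (Groth.Agent.ArSingLib.repr_unique h2 h).2,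
        fun a => ⟨(_, _), (Groth.Agent.ArSingLib.re_add_im a).symm⟩⟩
    show Module.Flat (PowerSeries k) (ArSing.ring k r)
    exact Module.Flat.of_linearEquiv (LinearEquiv.ofBijective L hL).symm
  · refine ne_top_of_le_ne_top (IsLocalRing.maximalIdeal.isMaximal (ArSing.ring k r)).ne_top
      (Ideal.map_le_iff_le_comap.2 fun f hf => ?_)
    rw [PowerSeries.maximalIdeal_eq_span_X, Ideal.mem_span_singleton, PowerSeries.X_dvd_iff] at hf
    exact Groth.Agent.ArSingLib.mem_maximalIdeal_iff.2 (by rw [Groth.Agent.ArSingLib.cst_xMap, hf])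
  · rw [mem_nonZeroDivisors_iff_right]
    intro a ha
    obtain ⟨e1, e2⟩ := Groth.Agent.ArSingLib.re_im_mul h2 a (ArSing.y k r)
    rw [ha, ← map_zero (ArSing.xMap k r)] at e1 e2
    rw [(Groth.Agent.ArSingLib.re_im_xMap h2 _).1, (Groth.Agent.ArSingLib.re_im_y h2).1,
      (Groth.Agent.ArSingLib.re_im_y h2).2, mul_zero, zero_add, mul_one] at e1
    rw [(Groth.Agent.ArSingLib.re_im_xMap h2 _).2, (Groth.Agent.ArSingLib.re_im_y h2).1,
      (Groth.Agent.ArSingLib.re_im_y h2).2, mul_one, mul_zero, add_zero] at e2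
    rw [Groth.Agent.ArSingLib.re_add_im a, ← e2,
      (mul_eq_zero.1 e1.symm).resolve_left (pow_ne_zero _ PowerSeries.X_ne_zero)]
    simp
  · rw [hspan]
    letI : Algebra (PowerSeries k) (ArSing.ring k r) := (ArSing.xMap k r).toRingHom.toAlgebra
    let J : Ideal (ArSing.ring k r) := Ideal.span {ArSing.y k r}
    let A' := ArSing.ring k r ⧸ J
    have hsur : Function.Surjective
        ⇑(algebraMap (PowerSeries k) (ArSing.ring k r ⧸ J) : PowerSeries k →+* ArSing.ring k r ⧸ J) := by
      intro z
      obtain ⟨a, rfl⟩ := Ideal.Quotient.mk_surjective z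
      refine ⟨Groth.Agent.ArSingLib.re a, ?_⟩
      show Ideal.Quotient.mk _ (ArSing.xMap k r _) = _
      rw [Ideal.Quotient.eq]
      refine Ideal.mem_span_singleton'.2 ⟨-ArSing.xMap k r (Groth.Agent.ArSingLib.im a), ?_⟩
      linear_combination Groth.Agent.ArSingLib.re_add_im a
    have hA : Module.length (ArSing.ring k r) A' = Module.length A' A' :=
      Module.length_eq_of_surjective Ideal.Quotient.mk_surjective
    have hB : Module.length (PowerSeries k) A' = Module.length A' A' :=
      Module.length_eq_of_surjective hsur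
    rw [hA, ← hB]
    have hk : LinearMap.ker (Algebra.linearMap (PowerSeries k) A') =
        IsLocalRing.maximalIdeal (PowerSeries k) ^ (r + 1) := by
      refine Submodule.ext fun f => ?_
      rw [LinearMap.mem_ker]
      exact Ideal.Quotient.eq_zero_iff_mem.trans (hker f)
    rw [← ((Algebra.linearMap (PowerSeries k) A').quotKerEquivOfSurjective hsur).length_eq,
      (Submodule.quotEquivOfEq _ _ hk).length_eq, IsDiscreteValuationRing.length_quotient_pow_maximalIdeal]
    norm_cast

end Groth.Agent.S14093
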