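import Groth.Statements.S14094
import Mathlib
import Groth.Agent.ArSingLib.Fixed

set_option autoImplicit false
universe u
open ArSing

namespace Groth.Agent.S14094

open Groth.Agent.ArSingLib in
theorem phi_coords {k : Type u} [Field k] {r r' : ℕ} (h2 : (2 : k) ≠ 0)
    (φ : ArSing.ring k r' →ₐ[k] ArSing.ring k r) (hφx : φ (ArSing.x k r') = ArSing.x k r ^ 2)
    (hφy : φ (ArSing.y k r') = ArSing.y k r) (F : ArSing.ring k r') :
    re (φ F) = PowerSeries.expand 2 two_ne_zero (re F) ∧
      im (φ F) = PowerSeries.expand 2 two_ne_zero (im F) := by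
  have e := hom_xMap φ (PowerSeries.expand 2 two_ne_zero)
    (by rw [PowerSeries.expand_X, map_pow, xMap_X, hφx]) (by simp)
  refine re_im_eq h2 ?_
  conv_lhs => rw [re_add_im F]
  rw [map_add, map_mul, e, e, hφy]


/-- K algebraically closed of characteristic prime to 2 and to r+1, r = 2m - 1 with m ≥ 2, σ the
involution x ↦ -x, y ↦ y of A_r = k[[x,y]]/(y^2 - x^(r+1)), and φ : A_(m-1) → A_r the k-algebra map
x ↦ x^2, y ↦ y. Then the invariant subalgebra of σ is the image of φ (so A_r^σ ≅ A_(m-1)), φ is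
faithfully flat (flat, and the maximal ideal of A_(m-1) does not generate the unit ideal), and the
fixed locus of σ is a Cartier divisor of length 2: its ideal, generated by the elements σ(a) - a, is
generated by one nonzerodivisor and has quotient of length 2. -/
theorem result (k : Type u) [Field k] [IsAlgClosed k] (m r : ℕ)
    (hm : 2 ≤ m) (hr : r = 2 * m - 1) (h2 : (2 : k) ≠ 0) (hr1 : ((r + 1 : ℕ) : k) ≠ 0)
    (σ : ArSing.ring k r ≃ₐ[k] ArSing.ring k r) (hx : σ (ArSing.x k r) = -ArSing.x k r)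
    (hy : σ (ArSing.y k r) = ArSing.y k r)
    (φ : ArSing.ring k (m - 1) →ₐ[k] ArSing.ring k r) (hφx : φ (ArSing.x k (m - 1)) = ArSing.x k r ^ 2)
    (hφy : φ (ArSing.y k (m - 1)) = ArSing.y k r) :
    (∀ a : ArSing.ring k r, σ a = a ↔ a ∈ φ.range) ∧
    (φ.toRingHom.Flat ∧ ∀ I : Ideal (ArSing.ring k (m - 1)), I.IsMaximal → Ideal.map φ I ≠ ⊤) ∧
    (∃ g : ArSing.ring k r, g ∈ nonZeroDivisors (ArSing.ring k r) ∧ Ideal.span (Set.range fun a : ArSing.ring k r => σ a - a) = Ideal.span {g}) ∧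
    Module.length (ArSing.ring k r) (ArSing.ring k r ⧸ Ideal.span (Set.range fun a : ArSing.ring k r => σ a - a)) = 2 := by
  open Groth.Agent.ArSingLib in
  have hc := phi_coords h2 φ hφx hφy
  open Groth.Agent.ArSingLib in
  have hs := sigma_coords h2 σ (-1) 1 (by rw [hx, map_neg, map_one]; ring) (by rw [hy, map_one, one_mul])
  open Groth.Agent.ArSingLib in
  have hmax : maximalIdeal_eq (k := k) (r := r) = maximalIdeal_eq := rfl
  have hspan : Ideal.span (Set.range fun a : ArSing.ring k r => σ a - a) = Ideal.span {ArSing.x k r} := by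
    refine le_antisymm (Ideal.span_le.2 ?_) (Ideal.span_le.2 ?_)
    · rintro _ ⟨a, rfl⟩
      have hd : ∀ f : PowerSeries k, (PowerSeries.X : PowerSeries k) ∣
          PowerSeries.rescaleAlgHom (-1 : k) f - f := fun f => by
        rw [PowerSeries.X_dvd_iff, map_sub, ← PowerSeries.coeff_zero_eq_constantCoeff_apply,
          ← PowerSeries.coeff_zero_eq_constantCoeff_apply, Groth.Agent.ArSingLib.coeff_rescale_alg,
          pow_zero, one_mul, sub_self]
      obtain ⟨g, hg⟩ := hd (Groth.Agent.ArSingLib.re a)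
      obtain ⟨h, hh⟩ := hd (Groth.Agent.ArSingLib.im a)
      refine Ideal.mem_span_singleton'.2 ⟨ArSing.xMap k r g + ArSing.xMap k r h * ArSing.y k r, ?_⟩
      have h1 := Groth.Agent.ArSingLib.re_add_im (σ a)
      rw [(hs a).1, (hs a).2, map_one, one_mul] at h1
      have eg := congrArg (ArSing.xMap k r) hg
      have eh := congrArg (ArSing.xMap k r) hh
      rw [map_sub, map_mul, Groth.Agent.ArSingLib.xMap_X] at eg eh
      linear_combination -eg - ArSing.y k r * eh + Groth.Agent.ArSingLib.re_add_im a - h1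
    · rintro _ rfl
      obtain ⟨t, ht⟩ := Groth.Agent.ArSingLib.isUnit_two (r := r) h2
      have htt : (↑t⁻¹ : ArSing.ring k r) * 2 = 1 := by rw [← ht, Units.inv_mul]
      have e : ArSing.x k r = -↑t⁻¹ * (σ (ArSing.x k r) - ArSing.x k r) := by
        rw [hx]; linear_combination -ArSing.x k r * htt
      rw [SetLike.mem_coe, e]
      exact Ideal.mul_mem_left _ _ (Ideal.subset_span ⟨_, rfl⟩)
  refine ⟨fun a => ⟨fun h => ?_, ?_⟩, ⟨?_, ?_⟩,
    ⟨ArSing.x k r, Groth.Agent.ArSingLib.x_mem_nonZeroDivisors h2, hspan⟩, ?_⟩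
  · obtain ⟨e1, e2⟩ := hs a
    rw [h] at e1 e2
    rw [map_one, one_mul] at e2
    obtain ⟨g₁, hg₁⟩ := Groth.Agent.ArSingLib.even_series h2 e1.symm
    obtain ⟨g₂, hg₂⟩ := Groth.Agent.ArSingLib.even_series h2 e2.symm
    refine ⟨ArSing.xMap k (m - 1) g₁ + ArSing.xMap k (m - 1) g₂ * ArSing.y k (m - 1), ?_⟩
    obtain ⟨f1, f2⟩ := hc (ArSing.xMap k (m - 1) g₁ + ArSing.xMap k (m - 1) g₂ * ArSing.y k (m - 1))
    obtain ⟨r1, r2⟩ := Groth.Agent.ArSingLib.re_im_eq h2
      (a := ArSing.xMap k (m - 1) g₁ + ArSing.xMap k (m - 1) g₂ * ArSing.y k (m - 1)) rfl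
    rw [r1] at f1
    rw [r2] at f2
    show φ _ = a
    rw [Groth.Agent.ArSingLib.re_add_im (φ _), f1, f2, ← hg₁, ← hg₂]
    exact (Groth.Agent.ArSingLib.re_add_im a).symm
  · rintro ⟨F, rfl⟩
    show σ (φ F) = φ F
    obtain ⟨e1, e2⟩ := hs (φ F)
    rw [(hc F).1, Groth.Agent.ArSingLib.rescale_neg_expand, ← (hc F).1] at e1
    rw [(hc F).2, Groth.Agent.ArSingLib.rescale_neg_expand, map_one, one_mul, ← (hc F).2] at e2
    rw [Groth.Agent.ArSingLib.re_add_im (σ (φ F)), e1, e2]
    exact (Groth.Agent.ArSingLib.re_add_im (φ F)).symm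
  · letI : Algebra (ArSing.ring k (m - 1)) (ArSing.ring k r) := φ.toRingHom.toAlgebra
    let L : (ArSing.ring k (m - 1) × ArSing.ring k (m - 1)) →ₗ[ArSing.ring k (m - 1)] ArSing.ring k r :=
      { toFun := fun p => φ p.1 + φ p.2 * ArSing.x k r
        map_add' := fun p q => by simp only [Prod.fst_add, Prod.snd_add, map_add]; ring
        map_smul' := fun c p => by
          show φ (c * p.1) + φ (c * p.2) * ArSing.x k r = φ c * (φ p.1 + φ p.2 * ArSing.x k r)
          rw [map_mul, map_mul]; ring }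
    have hLc : ∀ p, L p = ArSing.xMap k r (PowerSeries.expand 2 two_ne_zero (Groth.Agent.ArSingLib.re p.1) +
        PowerSeries.X * PowerSeries.expand 2 two_ne_zero (Groth.Agent.ArSingLib.re p.2)) +
        ArSing.xMap k r (PowerSeries.expand 2 two_ne_zero (Groth.Agent.ArSingLib.im p.1) +
        PowerSeries.X * PowerSeries.expand 2 two_ne_zero (Groth.Agent.ArSingLib.im p.2)) * ArSing.y k r := by
      intro p
      show φ p.1 + φ p.2 * ArSing.x k r = _
      conv_lhs => rw [Groth.Agent.ArSingLib.re_add_im (φ p.1), Groth.Agent.ArSingLib.re_add_im (φ p.2)]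
      rw [(hc p.1).1, (hc p.1).2, (hc p.2).1, (hc p.2).2, map_add, map_add, map_mul, map_mul,
        Groth.Agent.ArSingLib.xMap_X]
      ring
    have hL : Function.Bijective L := by
      refine ⟨?_, fun a => ?_⟩
      · rw [injective_iff_map_eq_zero]
        intro p hp
        rw [hLc] at hp
        obtain ⟨z1, z2⟩ := Groth.Agent.ArSingLib.repr_unique h2
          (f' := 0) (g' := 0) (hp.trans (by simp))
        obtain ⟨a1, a2⟩ := Groth.Agent.ArSingLib.parity_unique h2 z1
        obtain ⟨b1, b2⟩ := Groth.Agent.ArSingLib.parity_unique h2 z2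
        refine Prod.ext ?_ ?_
        · rw [Groth.Agent.ArSingLib.re_add_im p.1, a1, b1]; simp
        · rw [Groth.Agent.ArSingLib.re_add_im p.2, a2, b2]; simp
      · obtain ⟨f0, f1, hf⟩ := Groth.Agent.ArSingLib.parity (Groth.Agent.ArSingLib.re a)
        obtain ⟨g0, g1, hg⟩ := Groth.Agent.ArSingLib.parity (Groth.Agent.ArSingLib.im a)
        refine ⟨(ArSing.xMap k (m - 1) f0 + ArSing.xMap k (m - 1) g0 * ArSing.y k (m - 1),
          ArSing.xMap k (m - 1) f1 + ArSing.xMap k (m - 1) g1 * ArSing.y k (m - 1)), ?_⟩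
        obtain ⟨r1, r2⟩ := Groth.Agent.ArSingLib.re_im_eq h2
          (a := ArSing.xMap k (m - 1) f0 + ArSing.xMap k (m - 1) g0 * ArSing.y k (m - 1)) rfl
        obtain ⟨r3, r4⟩ := Groth.Agent.ArSingLib.re_im_eq h2
          (a := ArSing.xMap k (m - 1) f1 + ArSing.xMap k (m - 1) g1 * ArSing.y k (m - 1)) rfl
        rw [hLc, r1, r2, r3, r4, ← hf, ← hg]
        exact (Groth.Agent.ArSingLib.re_add_im a).symm
    show Module.Flat (ArSing.ring k (m - 1)) (ArSing.ring k r)
    exact Module.Flat.of_linearEquiv (LinearEquiv.ofBijective L hL).symm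
  · intro I hI
    refine ne_top_of_le_ne_top (IsLocalRing.maximalIdeal.isMaximal (ArSing.ring k r)).ne_top
      (Ideal.map_le_iff_le_comap.2 fun F hF => ?_)
    rw [IsLocalRing.eq_maximalIdeal hI] at hF
    refine Groth.Agent.ArSingLib.mem_maximalIdeal_iff.2 ?_
    rw [Groth.Agent.ArSingLib.cst_hom φ (by rw [hφx, map_pow, Groth.Agent.ArSingLib.cst_x]; ring)
      (by rw [hφy, Groth.Agent.ArSingLib.cst_y])]
    exact Groth.Agent.ArSingLib.mem_maximalIdeal_iff.1 hF
  · rw [hspan]
    let A := ArSing.ring k r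
    let J : Ideal (ArSing.ring k r) := Ideal.span {ArSing.x k r}
    let M : Ideal (ArSing.ring k r) := Ideal.span {ArSing.x k r, ArSing.y k r}
    have hJM : J ≤ M := Ideal.span_mono (by simp)
    have hmemJ : ∀ g, g * ArSing.y k r ∈ J → g ∈ M := by
      intro g hg
      obtain ⟨c, hc'⟩ := Ideal.mem_span_singleton'.1 hg
      have e := congrArg (fun z => PowerSeries.constantCoeff (Groth.Agent.ArSingLib.im z)) hc'
      replace e : PowerSeries.constantCoeff (Groth.Agent.ArSingLib.im (c * ArSing.x k r)) =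
          PowerSeries.constantCoeff (Groth.Agent.ArSingLib.im (g * ArSing.y k r)) := e
      rw [(Groth.Agent.ArSingLib.re_im_mul h2 _ _).2, (Groth.Agent.ArSingLib.re_im_mul h2 _ _).2,
        (Groth.Agent.ArSingLib.re_im_x h2).1, (Groth.Agent.ArSingLib.re_im_x h2).2,
        (Groth.Agent.ArSingLib.re_im_y h2).1, (Groth.Agent.ArSingLib.re_im_y h2).2] at e
      simp at e
      show g ∈ Ideal.span {ArSing.x k r, ArSing.y k r}
      rw [← Groth.Agent.ArSingLib.maximalIdeal_eq, Groth.Agent.ArSingLib.mem_maximalIdeal_iff,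
        Groth.Agent.ArSingLib.cst_eq]
      exact e.symm
    let f₀ : A →ₗ[A] A ⧸ J := (Submodule.mkQ J).comp (LinearMap.mulRight A (ArSing.y k r))
    have hker : LinearMap.ker f₀ = M := by
      refine Submodule.ext fun g => ⟨fun hg => hmemJ g ((Submodule.Quotient.mk_eq_zero J).1 hg), fun hg => ?_⟩
      obtain ⟨a, b, rfl⟩ := Ideal.mem_span_pair.1 hg
      refine (Submodule.Quotient.mk_eq_zero J).2 (Ideal.mem_span_singleton'.2
        ⟨a * ArSing.y k r + b * ArSing.x k r ^ r, ?_⟩)
      show _ = (a * ArSing.x k r + b * ArSing.y k r) * ArSing.y k r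
      linear_combination -b * (Groth.Agent.ArSingLib.y_sq (k := k) (r := r))
    let f : (A ⧸ M) →ₗ[A] A ⧸ J := Submodule.liftQ M f₀ hker.ge
    have hf : Function.Injective f := by
      rw [← LinearMap.ker_eq_bot, Submodule.ker_liftQ_eq_bot _ _ _ hker.le]
    let g : (A ⧸ J) →ₗ[A] A ⧸ M := Submodule.liftQ J (Submodule.mkQ M)
      (by rw [Submodule.ker_mkQ]; exact hJM)
    have hg : Function.Surjective g := fun z => by
      obtain ⟨a, rfl⟩ := Submodule.mkQ_surjective M z
      exact ⟨Submodule.Quotient.mk a, rfl⟩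
    have hex : Function.Exact f g := by
      intro z
      obtain ⟨a, rfl⟩ := Submodule.mkQ_surjective J z
      constructor
      · intro ha
        have ha' : a ∈ M := (Submodule.Quotient.mk_eq_zero M).1 ha
        obtain ⟨c, d, rfl⟩ := Ideal.mem_span_pair.1 ha'
        refine ⟨Submodule.Quotient.mk d, ?_⟩
        show Submodule.Quotient.mk (d * ArSing.y k r) = Submodule.Quotient.mk (c * ArSing.x k r + d * ArSing.y k r)
        rw [Submodule.Quotient.eq]
        exact Ideal.mem_span_singleton'.2 ⟨-c, by ring⟩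
      · rintro ⟨w, hw⟩
        obtain ⟨d, rfl⟩ := Submodule.mkQ_surjective M w
        rw [← hw]
        exact (Submodule.Quotient.mk_eq_zero M).2
          (Ideal.mul_mem_left _ _ (Ideal.subset_span (Or.inr rfl)))
    show Module.length A (A ⧸ J) = 2
    rw [Module.length_eq_add_of_exact f g hf hg hex,
      Groth.Agent.ArSingLib.length_residue M Groth.Agent.ArSingLib.span_max, one_add_one_eq_two]

end Groth.Agent.S14094
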