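import Groth.Statements.S14095
import Mathlib
import Groth.Agent.ArSingLib.Fixed

set_option autoImplicit false
universe u
open ArSing

namespace Groth.Agent.S14095

/-- The equational criterion for one relation in two terms. -/
theorem mem_of_flat {B : Type u} {A : Type u} [CommRing B] [CommRing A] (ψ : B →+* A) (hflat : ψ.Flat)
    (p q : B) (x y : A) (J : Ideal A) (h : ψ p * x + ψ q * y = 0)
    (hJ : ∀ F G : B, p * F + q * G = 0 → ψ F ∈ J) : x ∈ J := by
  letI : Algebra B A := ψ.toAlgebra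
  haveI : Module.Flat B A := hflat
  have hrel : ∑ i : Fin 2, (![p, q] : Fin 2 → B) i • (![x, y] : Fin 2 → A) i = 0 := by
    simpa [Fin.sum_univ_two, Algebra.smul_def, RingHom.algebraMap_toAlgebra] using h
  obtain ⟨κ, a, z, hv, ha⟩ := Module.Flat.isTrivialRelation_of_sum_smul_eq_zero
    (R := B) (M := A) (f := (![p, q] : Fin 2 → B)) (x := (![x, y] : Fin 2 → A)) hrel
  have h0 := hv 0
  simp only [Matrix.cons_val_zero, Algebra.smul_def, RingHom.algebraMap_toAlgebra] at h0
  rw [h0]
  refine Ideal.sum_mem _ fun j _ => Ideal.mul_mem_right _ _ (hJ _ (a 1 j) ?_)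
  simpa [Fin.sum_univ_two] using ha j

open Groth.Agent.ArSingLib in
theorem phi_coords {k : Type u} [Field k] {r r' : ℕ} (h2 : (2 : k) ≠ 0)
    (φ : ArSing.ring k r' →ₐ[k] ArSing.ring k r) (hφx : φ (ArSing.x k r') = ArSing.x k r ^ 2)
    (hφy : φ (ArSing.y k r') = ArSing.x k r * ArSing.y k r) (F : ArSing.ring k r') :
    re (φ F) = PowerSeries.expand 2 two_ne_zero (re F) ∧
      im (φ F) = PowerSeries.X * PowerSeries.expand 2 two_ne_zero (im F) := by
  have e := hom_xMap φ (PowerSeries.expand 2 two_ne_zero)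
    (by rw [PowerSeries.expand_X, map_pow, xMap_X, hφx]) (by simp)
  refine re_im_eq h2 ?_
  conv_lhs => rw [re_add_im F]
  rw [map_add, map_mul, e, e, hφy, map_mul, xMap_X]
  ring


/-- K algebraically closed of characteristic prime to 2 and to r+1, r = 2m - 1 with m ≥ 1, σ the
involution x ↦ -x, y ↦ -y of A_r = k[[x,y]]/(y^2 - x^(r+1)), and φ : A_m → A_r the k-algebra map x ↦
x^2, y ↦ xy. Then the invariant subalgebra of σ is the image of φ and φ is injective (so A_r^σ ≅
A_m), φ is not flat, and the fixed locus of σ is the reduced closed point and is not a Cartier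
divisor: the ideal generated by the elements σ(a) - a has quotient of length 1 and is not generated
by one nonzerodivisor. -/
theorem result (k : Type u) [Field k] [IsAlgClosed k] (m r : ℕ)
    (hm : 1 ≤ m) (hr : r = 2 * m - 1) (h2 : (2 : k) ≠ 0) (hr1 : ((r + 1 : ℕ) : k) ≠ 0)
    (σ : ArSing.ring k r ≃ₐ[k] ArSing.ring k r) (hx : σ (ArSing.x k r) = -ArSing.x k r)
    (hy : σ (ArSing.y k r) = -ArSing.y k r)
    (φ : ArSing.ring k m →ₐ[k] ArSing.ring k r) (hφx : φ (ArSing.x k m) = ArSing.x k r ^ 2)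
    (hφy : φ (ArSing.y k m) = ArSing.x k r * ArSing.y k r) :
    (∀ a : ArSing.ring k r, σ a = a ↔ a ∈ φ.range) ∧ Function.Injective φ ∧
    ¬ φ.toRingHom.Flat ∧
    Module.length (ArSing.ring k r) (ArSing.ring k r ⧸ Ideal.span (Set.range fun a : ArSing.ring k r => σ a - a)) = 1 ∧
    ¬ (∃ g : ArSing.ring k r, g ∈ nonZeroDivisors (ArSing.ring k r) ∧ Ideal.span (Set.range fun a : ArSing.ring k r => σ a - a) = Ideal.span {g}) := by
  open Groth.Agent.ArSingLib in
  have hc := phi_coords h2 φ hφx hφy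
  open Groth.Agent.ArSingLib in
  have hs := sigma_coords h2 σ (-1) (-1) (by rw [hx, map_neg, map_one]; ring)
    (by rw [hy, map_neg, map_one]; ring)
  have hm1 : algebraMap k (PowerSeries k) (-1) = -1 := by rw [map_neg, map_one]
  have hr1' : r + 1 = 2 * m := by omega
  let M : Ideal (ArSing.ring k r) := Ideal.span {ArSing.x k r, ArSing.y k r}
  have hspan : Ideal.span (Set.range fun a : ArSing.ring k r => σ a - a) = M := by
    refine le_antisymm (Ideal.span_le.2 ?_) (Ideal.span_le.2 ?_)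
    · rintro _ ⟨a, rfl⟩
      show σ a - a ∈ Ideal.span {ArSing.x k r, ArSing.y k r}
      rw [← Groth.Agent.ArSingLib.maximalIdeal_eq, Groth.Agent.ArSingLib.mem_maximalIdeal_iff, map_sub,
        Groth.Agent.ArSingLib.cst_alg, sub_self]
    · obtain ⟨t, ht⟩ := Groth.Agent.ArSingLib.isUnit_two (r := r) h2
      have htt : (↑t⁻¹ : ArSing.ring k r) * 2 = 1 := by rw [← ht, Units.inv_mul]
      rintro z (rfl | rfl)
      · have e : ArSing.x k r = -↑t⁻¹ * (σ (ArSing.x k r) - ArSing.x k r) := by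
          rw [hx]; linear_combination -ArSing.x k r * htt
        rw [SetLike.mem_coe, e]
        exact Ideal.mul_mem_left _ _ (Ideal.subset_span ⟨_, rfl⟩)
      · have e : ArSing.y k r = -↑t⁻¹ * (σ (ArSing.y k r) - ArSing.y k r) := by
          rw [hy]; linear_combination -ArSing.y k r * htt
        rw [SetLike.mem_coe, e]
        exact Ideal.mul_mem_left _ _ (Ideal.subset_span ⟨_, rfl⟩)
  refine ⟨fun a => ⟨fun h => ?_, ?_⟩, ?_, ?_, ?_, ?_⟩
  · obtain ⟨e1, e2⟩ := hs a
    rw [h] at e1 e2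
    rw [hm1, neg_one_mul] at e2
    obtain ⟨g₁, hg₁⟩ := Groth.Agent.ArSingLib.even_series h2 e1.symm
    obtain ⟨g₂, hg₂⟩ := Groth.Agent.ArSingLib.odd_series h2 (eq_neg_iff_add_eq_zero.2 (by linear_combination e2))
    refine ⟨ArSing.xMap k m g₁ + ArSing.xMap k m g₂ * ArSing.y k m, ?_⟩
    obtain ⟨f1, f2⟩ := hc (ArSing.xMap k m g₁ + ArSing.xMap k m g₂ * ArSing.y k m)
    obtain ⟨r1, r2⟩ := Groth.Agent.ArSingLib.re_im_eq h2
      (a := ArSing.xMap k m g₁ + ArSing.xMap k m g₂ * ArSing.y k m) rfl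
    rw [r1] at f1
    rw [r2] at f2
    show φ _ = a
    rw [Groth.Agent.ArSingLib.re_add_im (φ _), f1, f2, ← hg₁, ← hg₂]
    exact (Groth.Agent.ArSingLib.re_add_im a).symm
  · rintro ⟨F, rfl⟩
    show σ (φ F) = φ F
    obtain ⟨e1, e2⟩ := hs (φ F)
    rw [(hc F).1, Groth.Agent.ArSingLib.rescale_neg_expand, ← (hc F).1] at e1
    rw [(hc F).2, map_mul, Groth.Agent.ArSingLib.rescale_neg_expand, Groth.Agent.ArSingLib.rescale_alg_X,
      hm1, show (-1 : PowerSeries k) * (-1 * PowerSeries.X *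
        PowerSeries.expand 2 two_ne_zero (Groth.Agent.ArSingLib.im F)) = PowerSeries.X *
        PowerSeries.expand 2 two_ne_zero (Groth.Agent.ArSingLib.im F) by ring, ← (hc F).2] at e2
    rw [Groth.Agent.ArSingLib.re_add_im (σ (φ F)), e1, e2]
    exact (Groth.Agent.ArSingLib.re_add_im (φ F)).symm
  · rw [injective_iff_map_eq_zero]
    intro F hF
    obtain ⟨f1, f2⟩ := hc F
    rw [hF, ← map_zero (ArSing.xMap k r)] at f1 f2
    rw [(Groth.Agent.ArSingLib.re_im_xMap h2 _).1] at f1
    rw [(Groth.Agent.ArSingLib.re_im_xMap h2 _).2] at f2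
    have z1 : Groth.Agent.ArSingLib.re F = 0 :=
      Groth.Agent.ArSingLib.expand_injective (f1.symm.trans (map_zero _).symm)
    have z2 : Groth.Agent.ArSingLib.im F = 0 :=
      Groth.Agent.ArSingLib.expand_injective
        (((mul_eq_zero.1 f2.symm).resolve_left PowerSeries.X_ne_zero).trans (map_zero _).symm)
    rw [Groth.Agent.ArSingLib.re_add_im F, z1, z2]
    simp
  · intro hflat
    have hxmem : ArSing.x k r ∈ Ideal.span {ArSing.x k r ^ 2, ArSing.x k r * ArSing.y k r} := by
      refine mem_of_flat φ.toRingHom hflat (ArSing.y k m) (-ArSing.x k m) (ArSing.x k r) (ArSing.y k r) _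
        (by show φ _ * _ + φ _ * _ = 0; rw [map_neg, hφx, hφy]; ring) (fun F G h => ?_)
      have h' : ArSing.y k m * F = ArSing.x k m * G := by linear_combination h
      have e := congrArg Groth.Agent.ArSingLib.im h'
      rw [(Groth.Agent.ArSingLib.re_im_mul h2 _ _).2, (Groth.Agent.ArSingLib.re_im_mul h2 _ _).2,
        (Groth.Agent.ArSingLib.re_im_x h2).1, (Groth.Agent.ArSingLib.re_im_x h2).2,
        (Groth.Agent.ArSingLib.re_im_y h2).1, (Groth.Agent.ArSingLib.re_im_y h2).2] at e
      have hF : Groth.Agent.ArSingLib.cst F = 0 := by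
        simpa [Groth.Agent.ArSingLib.cst_eq] using congrArg PowerSeries.constantCoeff e
      show φ F ∈ _
      obtain ⟨α, β, e', -, -⟩ := Groth.Agent.ArSingLib.linear_part hF
      rw [e', map_add, map_mul, map_mul, hφx, hφy]
      exact add_mem (Ideal.mul_mem_left _ _ (Ideal.subset_span (Or.inl rfl)))
        (Ideal.mul_mem_left _ _ (Ideal.subset_span (Or.inr rfl)))
    obtain ⟨c, d, hcd⟩ := Ideal.mem_span_pair.1 hxmem
    have hu : IsUnit (1 - (c * ArSing.x k r + d * ArSing.y k r)) := Groth.Agent.ArSingLib.isUnit_iff.2 (by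
      simp)
    exact Groth.Agent.ArSingLib.x_ne_zero h2 (hu.mul_right_eq_zero.1 (by linear_combination -hcd))
  · rw [hspan]
    exact Groth.Agent.ArSingLib.length_residue M Groth.Agent.ArSingLib.span_max
  · rintro ⟨g, hg, hgM⟩
    rw [hspan] at hgM
    have hgm : Groth.Agent.ArSingLib.cst g = 0 := by
      rw [← Groth.Agent.ArSingLib.mem_maximalIdeal_iff, Groth.Agent.ArSingLib.maximalIdeal_eq]
      exact hgM.ge (Ideal.mem_span_singleton_self g)
    have hg0 : PowerSeries.constantCoeff (Groth.Agent.ArSingLib.re g) = 0 :=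
      (Groth.Agent.ArSingLib.cst_eq g).symm.trans hgm
    obtain ⟨a, ha⟩ := Ideal.mem_span_singleton'.1 (hgM.le (Ideal.subset_span (Or.inl rfl)))
    obtain ⟨b, hb⟩ := Ideal.mem_span_singleton'.1 (hgM.le (Ideal.subset_span (Or.inr rfl)))
    obtain ⟨j, rfl⟩ : ∃ j, r = j + 1 := ⟨r - 1, by omega⟩
    have key : ∀ c : ArSing.ring k (j + 1),
        PowerSeries.coeff 1 (Groth.Agent.ArSingLib.re (c * g)) =
          PowerSeries.constantCoeff (Groth.Agent.ArSingLib.re c) * PowerSeries.coeff 1 (Groth.Agent.ArSingLib.re g) ∧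
        PowerSeries.constantCoeff (Groth.Agent.ArSingLib.im (c * g)) =
          PowerSeries.constantCoeff (Groth.Agent.ArSingLib.re c) *
            PowerSeries.constantCoeff (Groth.Agent.ArSingLib.im g) := by
      intro c
      obtain ⟨e1, e2⟩ := Groth.Agent.ArSingLib.re_im_mul h2 c g
      rw [e1, e2]
      constructor
      · rw [map_add, PowerSeries.coeff_X_pow_mul', if_neg (by omega), add_zero]
        obtain ⟨g', hg'⟩ := PowerSeries.X_dvd_iff.2 hg0
        rw [hg', mul_left_comm, PowerSeries.coeff_succ_X_mul, PowerSeries.coeff_succ_X_mul,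
          PowerSeries.coeff_zero_eq_constantCoeff_apply, map_mul,
          PowerSeries.coeff_zero_eq_constantCoeff_apply]
      · rw [map_add, map_mul, map_mul, hg0, mul_zero, add_zero]
    obtain ⟨a1, a2⟩ := key a
    obtain ⟨b1, b2⟩ := key b
    rw [ha, (Groth.Agent.ArSingLib.re_im_x h2).1, PowerSeries.coeff_one_X] at a1
    rw [hb, (Groth.Agent.ArSingLib.re_im_y h2).2, map_one] at b2
    rw [ha, (Groth.Agent.ArSingLib.re_im_x h2).2, map_zero] at a2
    have hA : PowerSeries.constantCoeff (Groth.Agent.ArSingLib.re a) ≠ 0 := fun h => by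
      rw [h, zero_mul] at a1; exact one_ne_zero a1
    rw [(mul_eq_zero.1 a2.symm).resolve_left hA, mul_zero] at b2
    exact one_ne_zero b2

end Groth.Agent.S14095
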