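import Groth.Statements.S14096
import Mathlib
import Groth.Agent.ArSingLib.Fixed
import Groth.Agent.S14095

set_option autoImplicit false
universe u
open ArSing

namespace Groth.Agent.S14096

open Groth.Agent.ArSingLib in
/-- The linear branches of the node. -/
theorem branches {k : Type u} [Field k] (s : k) (hs : s * s = 1) :
    ∃ p : ArSing.ring k 1 →ₐ[k] PowerSeries k, p (ArSing.x k 1) = PowerSeries.X ∧
      p (ArSing.y k 1) = algebraMap k (PowerSeries k) s * PowerSeries.X ∧
      ∀ f, p (ArSing.xMap k 1 f) = f := by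
  have hsub : MvPowerSeries.HasSubst (![PowerSeries.X,
      algebraMap k (PowerSeries k) s * PowerSeries.X] : Fin 2 → MvPowerSeries Unit k) :=
    MvPowerSeries.hasSubst_of_constantCoeff_zero fun i => by
      fin_cases i
      · show PowerSeries.constantCoeff (PowerSeries.X : PowerSeries k) = 0
        simp
      · show PowerSeries.constantCoeff (algebraMap k (PowerSeries k) s * PowerSeries.X : PowerSeries k) = 0
        simp
  let Φ : MvPowerSeries (Fin 2) k →ₐ[k] PowerSeries k := MvPowerSeries.substAlgHom hsub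
  have h0 : Φ (MvPowerSeries.X 0) = PowerSeries.X := MvPowerSeries.substAlgHom_X hsub 0
  have h1 : Φ (MvPowerSeries.X 1) = algebraMap k (PowerSeries k) s * PowerSeries.X :=
    MvPowerSeries.substAlgHom_X hsub 1
  let p : ArSing.ring k 1 →ₐ[k] PowerSeries k := Ideal.Quotient.liftₐ _ Φ fun z hz => by
    obtain ⟨c, rfl⟩ := Ideal.mem_span_singleton'.1 hz
    rw [map_mul, show ArSing.eqn k 1 = MvPowerSeries.X 1 ^ 2 - MvPowerSeries.X 0 ^ (1 + 1) from rfl,
      map_sub, map_pow, map_pow, h0, h1, mul_pow, ← map_pow, sq s, hs, map_one, one_mul, sub_self,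
      mul_zero]
  have hx : p (ArSing.x k 1) = PowerSeries.X := h0
  refine ⟨p, hx, h1, fun f => ?_⟩
  refine DFunLike.congr_fun (ps_hom_ext (IsLocalRing.maximalIdeal (PowerSeries k))
    (φ := p.comp (ArSing.xMap k 1)) (ψ := AlgHom.id k _) ?_ ?_) f
  · simp [hx]
  · rw [AlgHom.comp_apply, xMap_X, hx, PowerSeries.maximalIdeal_eq_span_X]
    exact Ideal.mem_span_singleton_self _


/-- K algebraically closed of characteristic ≠ 2, σ the involution of the node algebra A_1 =
k[[x,y]]/(y^2 - x^2) exchanging x and y, and φ : A_1 → A_1 the k-algebra map with φ(x + y) = x + y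
and φ(y - x) = (y - x)^2 (in the branch coordinates u = x + y, v = y - x with uv = 0: u ↦ u, v ↦
v^2). Then the invariant subalgebra of σ is the image of φ and φ is injective (so A_1^σ ≅ A_1), and
the fixed locus of σ is the branch v = 0: the ideal generated by the elements σ(a) - a is the ideal
(y - x), a minimal prime ideal generated by a zero-divisor (so not a Cartier divisor). Moreover φ is
not flat. (The published statement asserts that this extension is faithfully flat; it is not: as a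
module over the invariant subalgebra B = k[[u,w]]/(uw), w = v^2, A_1 is B ⊕ (B/uB)·v, and B/uB is
not flat over B — equivalently the fibre length jumps from 1 on the branch w = 0 to 2 at the closed
point.) -/
theorem result (k : Type u) [Field k] [IsAlgClosed k]
    (h2 : (2 : k) ≠ 0)
    (σ : ArSing.ring k 1 ≃ₐ[k] ArSing.ring k 1) (hx : σ (ArSing.x k 1) = ArSing.y k 1)
    (hy : σ (ArSing.y k 1) = ArSing.x k 1)
    (φ : ArSing.ring k 1 →ₐ[k] ArSing.ring k 1) (hφu : φ (ArSing.x k 1 + ArSing.y k 1) = ArSing.x k 1 + ArSing.y k 1)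
    (hφv : φ (ArSing.y k 1 - ArSing.x k 1) = (ArSing.y k 1 - ArSing.x k 1) ^ 2) :
    (∀ a : ArSing.ring k 1, σ a = a ↔ a ∈ φ.range) ∧ Function.Injective φ ∧
    Ideal.span (Set.range fun a : ArSing.ring k 1 => σ a - a) = Ideal.span {ArSing.y k 1 - ArSing.x k 1} ∧
    (ArSing.y k 1 - ArSing.x k 1) ∉ nonZeroDivisors (ArSing.ring k 1) ∧
    Ideal.span {ArSing.y k 1 - ArSing.x k 1} ∈ minimalPrimes (ArSing.ring k 1) ∧
    ¬ φ.toRingHom.Flat := by
  open Groth.Agent.ArSingLib in
  obtain ⟨P, hPx, hPy, hPf⟩ := branches (1 : k) (by ring)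
  open Groth.Agent.ArSingLib in
  obtain ⟨Q, hQx, hQy, hQf⟩ := branches (-1 : k) (by ring)
  rw [map_one, one_mul] at hPy
  rw [map_neg, map_one, neg_one_mul] at hQy
  set u := ArSing.x k 1 + ArSing.y k 1 with hu
  set v := ArSing.y k 1 - ArSing.x k 1 with hv
  have hP : ∀ a, P a = Groth.Agent.ArSingLib.re a + PowerSeries.X * Groth.Agent.ArSingLib.im a := fun a => by
    conv_lhs => rw [Groth.Agent.ArSingLib.re_add_im a]
    rw [map_add, map_mul, hPf, hPf, hPy, mul_comm]
  have hQ : ∀ a, Q a = Groth.Agent.ArSingLib.re a - PowerSeries.X * Groth.Agent.ArSingLib.im a := fun a => by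
    conv_lhs => rw [Groth.Agent.ArSingLib.re_add_im a]
    rw [map_add, map_mul, hQf, hQf, hQy]
    ring
  have h2' := Groth.Agent.ArSingLib.two_ne_zero_ps h2
  have hinj : ∀ a b, P a = P b → Q a = Q b → a = b := by
    intro a b h1 h3
    rw [hP, hP] at h1
    rw [hQ, hQ] at h3
    rw [Groth.Agent.ArSingLib.re_add_im a, Groth.Agent.ArSingLib.re_add_im b,
      mul_left_cancel₀ h2' (show 2 * Groth.Agent.ArSingLib.re a = 2 * Groth.Agent.ArSingLib.re b by
        linear_combination h1 + h3),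
      mul_left_cancel₀ PowerSeries.X_ne_zero (mul_left_cancel₀ h2'
        (show 2 * (PowerSeries.X * Groth.Agent.ArSingLib.im a) = 2 * (PowerSeries.X * Groth.Agent.ArSingLib.im b) by
          linear_combination h1 - h3))]
  have hm : IsLocalRing.maximalIdeal (PowerSeries k) = Ideal.span {PowerSeries.X} :=
    PowerSeries.maximalIdeal_eq_span_X
  have hXm : ∀ c, c * (PowerSeries.X : PowerSeries k) ∈ IsLocalRing.maximalIdeal (PowerSeries k) := fun c => by
    rw [hm]; exact Ideal.mul_mem_left _ _ (Ideal.mem_span_singleton_self _)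
  have hPσ : ∀ a, P (σ a) = P a := fun a => by
    refine DFunLike.congr_fun (Groth.Agent.ArSingLib.hom_ext (IsLocalRing.maximalIdeal (PowerSeries k))
      (φ := P.comp σ.toAlgHom) (ψ := P) ?_ ?_ ?_ ?_) a
    · show P (σ (ArSing.x k 1)) = P (ArSing.x k 1)
      rw [hx, hPy, hPx]
    · show P (σ (ArSing.y k 1)) = P (ArSing.y k 1)
      rw [hy, hPy, hPx]
    · show P (σ (ArSing.x k 1)) ∈ _
      rw [hx, hPy]; simpa using hXm 1
    · show P (σ (ArSing.y k 1)) ∈ _
      rw [hy, hPx]; simpa using hXm 1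
  have hQσ : ∀ a, Q (σ a) = PowerSeries.rescaleAlgHom (-1 : k) (Q a) := fun a => by
    refine DFunLike.congr_fun (Groth.Agent.ArSingLib.hom_ext (IsLocalRing.maximalIdeal (PowerSeries k))
      (φ := Q.comp σ.toAlgHom) (ψ := (PowerSeries.rescaleAlgHom (-1 : k)).comp Q) ?_ ?_ ?_ ?_) a
    · show Q (σ (ArSing.x k 1)) = PowerSeries.rescaleAlgHom (-1 : k) (Q (ArSing.x k 1))
      rw [hx, hQy, hQx, Groth.Agent.ArSingLib.rescale_alg_X, map_neg, map_one, neg_one_mul]
    · show Q (σ (ArSing.y k 1)) = PowerSeries.rescaleAlgHom (-1 : k) (Q (ArSing.y k 1))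
      rw [hy, hQy, hQx, map_neg, Groth.Agent.ArSingLib.rescale_alg_X, map_neg, map_one, neg_one_mul, neg_neg]
    · show Q (σ (ArSing.x k 1)) ∈ _
      rw [hx, hQy]; simpa using hXm 1
    · show Q (σ (ArSing.y k 1)) ∈ _
      rw [hy, hQx]; simpa using hXm 1
  obtain ⟨t, ht⟩ := Groth.Agent.ArSingLib.isUnit_two (r := 1) h2
  have htt : (↑t⁻¹ : ArSing.ring k 1) * 2 = 1 := by rw [← ht, Units.inv_mul]
  have hxe : φ (ArSing.x k 1) = ↑t⁻¹ * (u - v ^ 2) := by
    rw [map_add] at hφu
    rw [map_sub] at hφv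
    linear_combination (↑t⁻¹ : ArSing.ring k 1) * hφu - (↑t⁻¹ : ArSing.ring k 1) * hφv -
      φ (ArSing.x k 1) * htt
  have hye : φ (ArSing.y k 1) = ↑t⁻¹ * (u + v ^ 2) := by
    rw [map_add] at hφu
    rw [map_sub] at hφv
    linear_combination (↑t⁻¹ : ArSing.ring k 1) * hφu + (↑t⁻¹ : ArSing.ring k 1) * hφv -
      φ (ArSing.y k 1) * htt
  have hPt : P (↑t⁻¹ : ArSing.ring k 1) * 2 = 1 := by
    have := congrArg P htt
    rwa [map_mul, map_ofNat, map_one] at this
  have hQt : Q (↑t⁻¹ : ArSing.ring k 1) * 2 = 1 := by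
    have := congrArg Q htt
    rwa [map_mul, map_ofNat, map_one] at this
  have hPu : P u = 2 * PowerSeries.X := by rw [hu, map_add, hPx, hPy]; ring
  have hPv : P v = 0 := by rw [hv, map_sub, hPx, hPy, sub_self]
  have hQu : Q u = 0 := by rw [hu, map_add, hQx, hQy]; ring
  have hQv : Q v = -2 * PowerSeries.X := by rw [hv, map_sub, hQx, hQy]; ring
  have hPφ : ∀ a, P (φ a) = P a := fun a => by
    refine DFunLike.congr_fun (Groth.Agent.ArSingLib.hom_ext (IsLocalRing.maximalIdeal (PowerSeries k))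
      (φ := P.comp φ) (ψ := P) ?_ ?_ ?_ ?_) a
    · show P (φ (ArSing.x k 1)) = P (ArSing.x k 1)
      rw [hxe, map_mul, map_sub, map_pow, hPu, hPv, hPx]
      linear_combination PowerSeries.X * hPt
    · show P (φ (ArSing.y k 1)) = P (ArSing.y k 1)
      rw [hye, map_mul, map_add, map_pow, hPu, hPv, hPy]
      linear_combination PowerSeries.X * hPt
    · show P (φ (ArSing.x k 1)) ∈ _
      rw [hxe, map_mul, map_sub, map_pow, hPu, hPv]
      convert hXm (P ↑t⁻¹ * 2) using 1; ring
    · show P (φ (ArSing.y k 1)) ∈ _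
      rw [hye, map_mul, map_add, map_pow, hPu, hPv]
      convert hXm (P ↑t⁻¹ * 2) using 1; ring
  let ν : PowerSeries k →ₐ[k] PowerSeries k :=
    ((PowerSeries.expand 2 two_ne_zero : PowerSeries k →ₐ[k] PowerSeries k)).comp
      (PowerSeries.rescaleAlgHom (-2 : k))
  have hνX : ν PowerSeries.X = -2 * PowerSeries.X ^ 2 := by
    show PowerSeries.expand 2 two_ne_zero (PowerSeries.rescaleAlgHom (-2 : k) PowerSeries.X) = _
    rw [Groth.Agent.ArSingLib.rescale_alg_X, map_mul, PowerSeries.expand_X, AlgHom.commutes, map_neg,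
      map_ofNat]
  have hQφ : ∀ a, Q (φ a) = ν (Q a) := fun a => by
    refine DFunLike.congr_fun (Groth.Agent.ArSingLib.hom_ext (IsLocalRing.maximalIdeal (PowerSeries k))
      (φ := Q.comp φ) (ψ := ν.comp Q) ?_ ?_ ?_ ?_) a
    · show Q (φ (ArSing.x k 1)) = ν (Q (ArSing.x k 1))
      rw [hxe, map_mul, map_sub, map_pow, hQu, hQv, hQx, hνX]
      linear_combination (-2 * PowerSeries.X ^ 2) * hQt
    · show Q (φ (ArSing.y k 1)) = ν (Q (ArSing.y k 1))
      rw [hye, map_mul, map_add, map_pow, hQu, hQv, hQy, map_neg, hνX]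
      linear_combination (2 * PowerSeries.X ^ 2) * hQt
    · show Q (φ (ArSing.x k 1)) ∈ _
      rw [hxe, map_mul, map_sub, map_pow, hQu, hQv]
      convert hXm (-(Q ↑t⁻¹ * 4 * PowerSeries.X)) using 1; ring
    · show Q (φ (ArSing.y k 1)) ∈ _
      rw [hye, map_mul, map_add, map_pow, hQu, hQv]
      convert hXm (Q ↑t⁻¹ * 4 * PowerSeries.X) using 1; ring
  have hνinj : Function.Injective ν := fun f g h => by
    have h' : PowerSeries.rescaleAlgHom (-2 : k) f = PowerSeries.rescaleAlgHom (-2 : k) g :=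
      Groth.Agent.ArSingLib.expand_injective h
    refine PowerSeries.ext fun n => ?_
    have := congrArg (PowerSeries.coeff n) h'
    rw [Groth.Agent.ArSingLib.coeff_rescale_alg, Groth.Agent.ArSingLib.coeff_rescale_alg] at this
    exact mul_left_cancel₀ (pow_ne_zero n (neg_ne_zero.2 h2)) this
  have hkerP : ∀ a, P a = 0 → a ∈ Ideal.span {v} := by
    intro a ha
    rw [hP] at ha
    refine Ideal.mem_span_singleton'.2 ⟨ArSing.xMap k 1 (Groth.Agent.ArSingLib.im a), ?_⟩
    conv_rhs => rw [Groth.Agent.ArSingLib.re_add_im a, eq_neg_of_add_eq_zero_left ha]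
    rw [map_neg, map_mul, Groth.Agent.ArSingLib.xMap_X, hv]
    ring
  have hQ0 : ∀ a, PowerSeries.constantCoeff (Q a) = PowerSeries.constantCoeff (P a) := fun a => by
    rw [hP, hQ, map_sub, map_add, map_mul, PowerSeries.constantCoeff_X, zero_mul, add_zero, sub_zero]
  have hv0 : v ≠ 0 := fun h => by
    have := congrArg Q h
    rw [hQv, map_zero] at this
    exact mul_ne_zero (neg_ne_zero.2 h2') PowerSeries.X_ne_zero this
  have huv : u * v = 0 := Groth.Agent.ArSingLib.node_mul
  have hu0 : u ≠ 0 := fun h => by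
    have := congrArg P h
    rw [hPu, map_zero] at this
    exact mul_ne_zero h2' PowerSeries.X_ne_zero this
  refine ⟨fun a => ⟨fun h => ?_, ?_⟩, ?_, ?_, ?_, ?_, ?_⟩
  · obtain ⟨g, hg⟩ := Groth.Agent.ArSingLib.even_series h2 ((hQσ a).symm.trans (by rw [h]))
    let g' := PowerSeries.rescaleAlgHom ((-2 : k)⁻¹) g
    have hg' : ν g' = Q a := by
      rw [hg]
      show PowerSeries.expand 2 two_ne_zero (PowerSeries.rescaleAlgHom (-2 : k) g') = _
      congr 1
      refine PowerSeries.ext fun n => ?_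
      rw [Groth.Agent.ArSingLib.coeff_rescale_alg, Groth.Agent.ArSingLib.coeff_rescale_alg, ← mul_assoc,
        ← mul_pow, mul_inv_cancel₀ (neg_ne_zero.2 h2), one_pow, one_mul]
    have hc : PowerSeries.constantCoeff g' = PowerSeries.constantCoeff (P a) := by
      rw [← hQ0 a, hg, PowerSeries.constantCoeff_expand, ← PowerSeries.coeff_zero_eq_constantCoeff_apply,
        ← PowerSeries.coeff_zero_eq_constantCoeff_apply, Groth.Agent.ArSingLib.coeff_rescale_alg, pow_zero, one_mul]
    obtain ⟨d, hd⟩ : (PowerSeries.X : PowerSeries k) ∣ P a - g' := by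
      rw [PowerSeries.X_dvd_iff, map_sub, hc, sub_self]
    have hh : (2 : PowerSeries k) * PowerSeries.C (2⁻¹ : k) = 1 := by
      rw [← map_ofNat (PowerSeries.C : k →+* PowerSeries k) 2, ← map_mul, mul_inv_cancel₀ h2, map_one]
    let b := ArSing.xMap k 1 (g' + PowerSeries.X * (PowerSeries.C (2⁻¹ : k) * d)) +
      ArSing.xMap k 1 (PowerSeries.C (2⁻¹ : k) * d) * ArSing.y k 1
    obtain ⟨b1, b2⟩ := Groth.Agent.ArSingLib.re_im_eq h2 (a := b) rfl
    refine ⟨b, hinj _ _ ?_ ?_⟩
    · show P (φ b) = P a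
      rw [hPφ, hP, b1, b2]
      linear_combination PowerSeries.X * d * hh - hd
    · show Q (φ b) = Q a
      rw [hQφ, hQ, b1, b2, add_sub_cancel_right, hg']
  · rintro ⟨b, rfl⟩
    refine hinj _ _ (hPσ _) ?_
    show Q (σ (φ b)) = Q (φ b)
    rw [hQσ, hQφ]
    exact Groth.Agent.ArSingLib.rescale_neg_expand _
  · intro a b h
    exact hinj a b (by rw [← hPφ a, ← hPφ b, h]) (hνinj (by rw [← hQφ, ← hQφ, h]))
  · refine le_antisymm (Ideal.span_le.2 ?_) (Ideal.span_le.2 ?_)
    · rintro _ ⟨a, rfl⟩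
      exact hkerP _ (by rw [map_sub, hPσ, sub_self])
    · rintro _ rfl
      have e : v = -↑t⁻¹ * (σ v - v) := by
        rw [hv, map_sub, hx, hy]
        linear_combination -(ArSing.y k 1 - ArSing.x k 1) * htt
      rw [SetLike.mem_coe, e]
      exact Ideal.mul_mem_left _ _ (Ideal.subset_span ⟨_, rfl⟩)
  · intro h
    exact hu0 ((mem_nonZeroDivisors_iff_right.1 h) u huv)
  · refine ⟨⟨Groth.Agent.ArSingLib.prime_v, bot_le⟩, fun q hq hle => ?_⟩
    rw [Ideal.span_le, Set.singleton_subset_iff, SetLike.mem_coe]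
    refine (hq.1.mem_or_mem (by rw [huv]; exact zero_mem _)).resolve_left fun h => ?_
    exact Groth.Agent.ArSingLib.u_notMem h2 (hle h)
  · intro hflat
    have hmem := Groth.Agent.S14095.mem_of_flat φ.toRingHom hflat u 0 v 0 (Ideal.span {v ^ 2})
      (by show φ u * v + φ 0 * 0 = 0; rw [hφu, map_zero, mul_zero, add_zero, huv]) fun F G h => by
      rw [zero_mul, add_zero] at h
      have hF : P F = 0 := by
        have e := congrArg P h
        rw [map_mul, hPu, map_zero] at e
        exact (mul_eq_zero.1 e).resolve_left (mul_ne_zero h2' PowerSeries.X_ne_zero)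
      obtain ⟨c, rfl⟩ := Ideal.mem_span_singleton'.1 (hkerP F hF)
      show φ (c * v) ∈ _
      rw [map_mul, hφv]
      exact Ideal.mul_mem_left _ _ (Ideal.mem_span_singleton_self _)
    obtain ⟨c, hc⟩ := Ideal.mem_span_singleton'.1 hmem
    have hunit : IsUnit (1 - c * v) := Groth.Agent.ArSingLib.isUnit_iff.2 (by rw [hv]; simp)
    exact hv0 (hunit.mul_right_eq_zero.1 (by linear_combination -hc))

end Groth.Agent.S14096
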