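import Groth.Statements.S14097
import Mathlib

set_option autoImplicit false
universe u
open ArSing

namespace Groth.Agent.S14097

/-- In any commutative ring, if h_0, …, h_(k-1) (k ≥ 2) and τ satisfy h_i^2 + τ h_i = 0, then ∏_(i ≤
k-2) (h_i + h_(i+1) + τ) = Σ_(j ≤ k-1) τ^(k-1-j) e_j(h), e_j the elementary symmetric functions.
(The published statement is the resulting formula for the class of the small diagonal in the Chow
ring of (P^1)^k, where the h_i are the hyperplane classes of the factors and satisfy these
relations; only the ring identity is asserted here.) -/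
theorem result (A : Type u) [CommRing A] (k : ℕ) (hk : 2 ≤ k) (τ : A)
    (h : ℕ → A) (hrel : ∀ i, i < k → h i ^ 2 + τ * h i = 0) :
    ∏ i ∈ Finset.range (k - 1), (h i + h (i + 1) + τ) =
      ∑ j ∈ Finset.range k, τ ^ (k - 1 - j) * (((Finset.range k).val.map h).esymm j) := by
  classical
  let E : ℕ → ℕ → A := fun k j => ((Finset.range k).val.map h).esymm j
  let S : ℕ → A := fun k => ∑ j ∈ Finset.range k, τ ^ (k - 1 - j) * E k j
  have hE0 : ∀ k, E k 0 = 1 := fun k => by simp [E, Multiset.esymm]
  have hEs : ∀ k j, E (k + 1) (j + 1) = E k (j + 1) + h k * E k j := fun k j => by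
    have : (Finset.range (k + 1)).val.map h = h k ::ₘ (Finset.range k).val.map h := by
      rw [Finset.range_val, Finset.range_val, Multiset.range_succ, Multiset.map_cons]
    simp [E, this, Multiset.esymm, Multiset.powersetCard_cons, Multiset.sum_map_mul_left]
  have hS : ∀ k, 0 < k → S (k + 1) = (τ + h k) * S k + E k k := by
    intro k hk
    show ∑ j ∈ Finset.range (k + 1), _ = _
    rw [Finset.sum_range_succ']
    simp only [hE0, hEs, mul_add, Finset.sum_add_distrib, Nat.add_sub_cancel, Nat.sub_zero]
    have e1 : ∑ x ∈ Finset.range k, τ ^ (k - (x + 1)) * (h k * E k x) = h k * S k := by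
      rw [Finset.mul_sum]
      refine Finset.sum_congr rfl fun x _ => ?_
      rw [show k - (x + 1) = k - 1 - x by omega]; ring
    have e2 : ∑ x ∈ Finset.range k, τ ^ (k - (x + 1)) * E k (x + 1) + τ ^ k * 1 =
        τ * S k + E k k := by
      have h3 : ∑ x ∈ Finset.range k, τ ^ (k - (x + 1)) * E k (x + 1) + τ ^ (k - 0) * E k 0 =
          ∑ x ∈ Finset.range (k + 1), τ ^ (k - x) * E k x := (Finset.sum_range_succ' (fun x => τ ^ (k - x) * E k x) k).symm
      rw [Nat.sub_zero, hE0] at h3
      rw [h3, Finset.sum_range_succ, Nat.sub_self, pow_zero, one_mul, Finset.mul_sum]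
      congr 1
      refine Finset.sum_congr rfl fun x hx => ?_
      have := Finset.mem_range.1 hx
      rw [show k - x = (k - 1 - x) + 1 by omega, pow_succ]; ring
    rw [e1]
    linear_combination e2
  have hEtop : ∀ k, (∀ j, k < j → E k j = 0) := fun k j hj => by
    rw [show E k j = ((Finset.range k).val.map h).esymm j from rfl, Multiset.esymm,
      Multiset.powersetCard_eq_empty _ (by simpa using hj)]
    simp
  have main : ∀ m, m + 1 ≤ k → S (m + 1) = ∏ i ∈ Finset.range m, (h i + h (i + 1) + τ) ∧
      h m * S (m + 1) = E (m + 1) (m + 1) := by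
    intro m
    induction m with
    | zero =>
      intro _
      have : E 1 1 = h 0 := by rw [hEs, hE0, hEtop 0 1 Nat.one_pos, zero_add, mul_one]
      simp [S, hE0, this]
    | succ m ih =>
      intro hm
      obtain ⟨h1, h2⟩ := ih (by omega)
      have hE : E (m + 1 + 1) (m + 1 + 1) = h (m + 1) * E (m + 1) (m + 1) := by
        rw [hEs, hEtop (m + 1) (m + 1 + 1) (Nat.lt_succ_self _), zero_add]
      have hr := hrel (m + 1) (by omega)
      refine ⟨?_, ?_⟩
      · rw [hS _ m.succ_pos, Finset.prod_range_succ, ← h1]
        linear_combination -h2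
      · rw [hE, hS _ m.succ_pos]
        linear_combination S (m + 1) * hr
  obtain ⟨h1, -⟩ := main (k - 1) (by omega)
  rw [Nat.sub_add_cancel (by omega : 1 ≤ k)] at h1
  exact h1.symm

end Groth.Agent.S14097
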