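import Groth.Statements.S1410
import Groth.Agent.RelPC17.DimOneSurj
import Groth.Agent.Lib.BasisHom

set_option autoImplicit false
set_option backward.isDefEq.respectTransparency false
set_option backward.isDefEq.respectTransparency.types false
set_option maxHeartbeats 1000000
universe u
open FlatMor

namespace Groth.Agent.S1410

open AlgebraicGeometry CategoryTheory Limits in
/-- Let f : X → Y be proper with every fibre of dimension at most 1 and with H^1(X_y, O) = 0 for all y,
and assume O_Y → f_* O_X is surjective (checked on affine opens). Then for every base change f' : X'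
→ Y' of f, O_{Y'} → f'_* O_{X'} is surjective on every affine open of Y'. -/
theorem result {X Y : Scheme.{u}} (f : X ⟶ Y) [IsProper f]
    (hdim : ∀ y : Y, topologicalKrullDim ↑(f.fiber y) ≤ 1) (hH1 : ∀ y : Y, Subsingleton (Coh.HH (f.fiber y) (Coh.structureModule (f.fiber y)) 1))
    (hsurj : ∀ U : Y.Opens, IsAffineOpen U → Function.Surjective (f.app U))
    {X' Y' : Scheme.{u}} (f' : X' ⟶ Y') (g' : X' ⟶ X) (g : Y' ⟶ Y) (hc : IsPullback g' f' f g) :
    ∀ U' : Y'.Opens, IsAffineOpen U' → Function.Surjective (f'.app U') := by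
  haveI : IsProper f' := MorphismProperty.of_isPullback hc ‹IsProper f›
  have hd : ∀ y : Y, topologicalKrullDim ↥(f.fiber y) ≤ (1 : ℕ) := by simpa using hdim
  have hv : ∀ y, Groth.Agent.RelPC17.DimOne.VanishAt f y := fun y =>
    Groth.Agent.RelPC17.DimOne.vanishAt_of_fiber f y (hd y) (hH1 y)
  let η : Coh.structureModule Y' ⟶ (Scheme.Modules.pushforward f').obj (Coh.structureModule X') :=
    SheafOfModules.unitToPushforwardObjUnit f'.toRingCatSheafHom
  have hη : ∀ (W : Y'.Opens) (a : Γ(Y', W)), η.app W a = f'.app W a := fun W a => rfl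
  let B : Set Y'.Opens := {W | IsAffineOpen W ∧ ∃ U : Y.Opens, IsAffineOpen U ∧ W ≤ g ⁻¹ᵁ U}
  have hB : TopologicalSpace.Opens.IsBasis B := by
    rw [TopologicalSpace.Opens.isBasis_iff_nbhd]
    intro O x hx
    obtain ⟨_, ⟨U, hU, rfl⟩, hxU, -⟩ :=
      Y.isBasis_affineOpens.exists_subset_of_mem_open (Set.mem_univ (g x)) isOpen_univ
    obtain ⟨W, hW, hxW, hWO⟩ := exists_isAffineOpen_mem_and_subset (show x ∈ O ⊓ g ⁻¹ᵁ U from ⟨hx, hxU⟩)
    exact ⟨W, ⟨hW, U, hU, fun z hz => (hWO hz).2⟩, hxW, fun z hz => (hWO hz).1⟩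
  haveI : Epi η := by
    refine Groth.Agent.BasisHom.epi_of_basis hB η fun W ⟨hW, U, hU, hWU⟩ y => ?_
    haveI : IsAffine (W : Scheme.{u}) := hW
    haveI : IsAffine (U : Scheme.{u}) := hU
    haveI : IsProper (f ∣_ U) := IsZariskiLocalAtTarget.restrict ‹_› _
    have sqU : IsPullback (Scheme.Opens.ι (f ⁻¹ᵁ U)) (f ∣_ U) f (Scheme.Opens.ι U) :=
      (isPullback_morphismRestrict f U).flip
    have hdU := Groth.Agent.RelPC17.TopDegree.fibre_bound_baseChange sqU 1 hd
    have hOU := Groth.Agent.RelPC17.DimOne.subsingleton_HH_affine (f ∣_ U) hdU fun z => (hv _).baseChange sqU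
    have hsU : Function.Surjective (f ∣_ U).appTop := by
      rw [morphismRestrict_appTop]
      have h1 : IsAffineOpen (Scheme.Opens.ι U ''ᵁ ⊤) := by
        rw [Scheme.Opens.ι_image_top]; exact hU
      exact ((ConcreteCategory.bijective_of_isIso
        (X.presheaf.map (eqToHom (image_morphismRestrict_preimage f U ⊤)).op)).surjective).comp (hsurj _ h1)
    let r := g.resLE U W hWU
    let r' := g'.resLE (f ⁻¹ᵁ U) (f' ⁻¹ᵁ W) (by
      rw [← Scheme.Hom.comp_preimage, hc.w, Scheme.Hom.comp_preimage]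
      exact f'.preimage_mono hWU)
    have sq' : IsPullback r' (f' ∣_ W) (f ∣_ U) r := by
      refine IsPullback.of_right ?_ ?_ sqU
      · rw [Scheme.Hom.resLE_comp_ι, Scheme.Hom.resLE_comp_ι]
        exact (isPullback_morphismRestrict f' W).flip.paste_horiz hc
      · rw [← cancel_mono (Scheme.Opens.ι U), Category.assoc, Category.assoc, Scheme.Hom.resLE_comp_ι,
          morphismRestrict_ι, Scheme.Hom.resLE_comp_ι_assoc, morphismRestrict_ι_assoc, hc.w]
    have hs' := Groth.Agent.RelPC17.DimOne.appTop_surjective (f ∣_ U) hdU hOU hsU r r' (f' ∣_ W) sq'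
    rw [morphismRestrict_appTop] at hs'
    have h2 : Function.Surjective (f'.app (Scheme.Opens.ι W ''ᵁ ⊤)) := fun z => by
      obtain ⟨a, ha⟩ := hs' (X'.presheaf.map (eqToHom (image_morphismRestrict_preimage f' W ⊤)).op z)
      exact ⟨a, (ConcreteCategory.bijective_of_isIso
        (X'.presheaf.map (eqToHom (image_morphismRestrict_preimage f' W ⊤)).op)).injective ha⟩
    rw [Scheme.Opens.ι_image_top] at h2
    obtain ⟨a, ha⟩ := h2 y
    exact ⟨a, (hη W a).trans ha⟩
  intro U' hU' y
  obtain ⟨a, ha⟩ := Groth.Agent.QCoh.app_surjective_of_epi Groth.Agent.QCoh.isQCoh_structureModule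
    (Groth.Agent.QCoh.isQCoh_pushforward f' Groth.Agent.QCoh.isQCoh_structureModule) η hU' y
  exact ⟨a, (hη U' a).symm.trans ha⟩

end Groth.Agent.S1410
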