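import Groth.Statements.S14101
import Mathlib
import Groth.Agent.S9407

set_option autoImplicit false
universe u
open CAlg

namespace Groth.Agent.S14101

open TensorProduct

set_option backward.isDefEq.respectTransparency false
set_option backward.isDefEq.respectTransparency.types false

theorem finite_bad {A : Type u} [CommRing A] [IsNoetherianRing A] (M : Type u) [AddCommGroup M] [Module A M]
    [Module.Finite A M] : {p : ℕ | p.Prime ∧ ∃ x : M, x ≠ 0 ∧ (p : A) • x = 0}.Finite := by
  refine (((associatedPrimes.finite A M).biUnion (t := fun Q => {p : ℕ | p.Prime ∧ (p : A) ∈ Q}) fun Q hQ => ?_)).subset ?_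
  · refine Set.Subsingleton.finite fun p hp q hq => ?_
    by_contra hne
    have hc : Nat.Coprime p q := (Nat.coprime_primes hp.1 hq.1).2 hne
    have h1 : (1 : A) ∈ Q := by
      obtain ⟨a, b, hab⟩ := Int.isCoprime_iff_gcd_eq_one.2 (show Int.gcd (p : ℤ) q = 1 by simpa using hc)
      have := congrArg (Int.cast : ℤ → A) hab
      push_cast at this
      rw [← this]
      exact add_mem (Ideal.mul_mem_left _ _ hp.2) (Ideal.mul_mem_left _ _ hq.2)
    exact hQ.isPrime.ne_top ((Ideal.eq_top_iff_one _).2 h1)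
  · rintro p ⟨hp, hx⟩
    have : (p : A) ∈ ⋃ Q ∈ associatedPrimes A M, (Q : Set A) := by
      rw [biUnion_associatedPrimes_eq_zero_divisors]
      exact hx
    obtain ⟨Q, hQ, hpQ⟩ := Set.mem_iUnion₂.1 this
    exact Set.mem_iUnion₂.2 ⟨Q, hQ, hp, hpQ⟩

theorem pow_mem_span {A : Type u} [CommRing A] {d a p : A}
    (hd : ∀ z : A ⧸ Ideal.span {d}, p • z = 0 → z = 0) (hd0 : ∀ z : A, d * z = 0 → z = 0) :
    ∀ m : ℕ, d ^ m * a ∈ Ideal.span {p} → a ∈ Ideal.span {p} := by
  intro m
  induction m with
  | zero => simp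
  | succ m ih =>
    intro h
    refine ih ?_
    obtain ⟨b, hb⟩ := Ideal.mem_span_singleton'.1 h
    have hb' : b ∈ Ideal.span {d} := by
      refine Ideal.Quotient.eq_zero_iff_mem.1 (hd _ ?_)
      show Ideal.Quotient.mk _ (p * b) = 0
      rw [Ideal.Quotient.eq_zero_iff_mem, Ideal.mem_span_singleton]
      exact ⟨d ^ m * a, by rw [mul_comm p b, hb, pow_succ]; ring⟩
    obtain ⟨c, rfl⟩ := Ideal.mem_span_singleton'.1 hb'
    refine Ideal.mem_span_singleton'.2 ⟨c, sub_eq_zero.1 (hd0 _ ?_)⟩
    linear_combination hb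

theorem smooth_mod (B : Type u) [CommRing B] [Algebra.Smooth ℤ B] (p : ℕ) (hp : p.Prime) :
    (Ideal.span {(p : B)}).IsRadical := by
  intro a ha
  obtain ⟨n, hn⟩ := ha
  have hprime : (Ideal.span {(p : ℤ)}).IsPrime :=
    (Ideal.span_singleton_prime (Int.natCast_ne_zero.2 hp.ne_zero)).2 (Nat.prime_iff_prime_int.1 hp)
  obtain ⟨k, _, e, -⟩ : ∃ (k : Type u) (_ : CommRing k) (_ : k ≃+* (ℤ ⧸ Ideal.span {(p : ℤ)})), True :=
    ⟨ULift.{u} (ℤ ⧸ Ideal.span {(p : ℤ)}), inferInstance, ULift.ringEquiv, trivial⟩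
  have : IsReduced k := isReduced_of_injective e (EquivLike.injective _)
  have hred : IsReduced (k ⊗[ℤ] B) := S9407.result k (k ⊗[ℤ] B)
  let q : Ideal B := Ideal.span {(p : B)}
  let χ : k →+* B ⧸ q := (Ideal.Quotient.lift _ (Int.castRingHom (B ⧸ q)) (fun z hz => by
    obtain ⟨c, rfl⟩ := Ideal.mem_span_singleton'.1 hz
    rw [map_mul]
    show _ * ((p : ℤ) : B ⧸ q) = 0
    rw [Int.cast_natCast, ← map_natCast (Ideal.Quotient.mk q), Ideal.Quotient.eq_zero_iff_mem.2
      (Ideal.mem_span_singleton_self (p : B)), mul_zero])).comp e.toRingHom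
  let ψ : (k ⊗[ℤ] B) →+* (B ⧸ q) :=
    (Algebra.TensorProduct.lift χ.toIntAlgHom (Ideal.Quotient.mk q).toIntAlgHom (fun _ _ => Commute.all _ _)).toRingHom
  have hp0 : (p : k) = 0 := e.injective (by
    rw [map_natCast, map_zero, ← map_natCast (Ideal.Quotient.mk (Ideal.span {(p : ℤ)})),
      Ideal.Quotient.eq_zero_iff_mem]
    exact Ideal.mem_span_singleton_self _)
  let θ : B →+* k ⊗[ℤ] B := (Algebra.TensorProduct.includeRight : B →ₐ[ℤ] k ⊗[ℤ] B).toRingHom
  have hθp : θ (p : B) = 0 := by
    rw [map_natCast, ← map_natCast (Algebra.TensorProduct.includeLeftRingHom : k →+* k ⊗[ℤ] B), hp0, map_zero]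
  obtain ⟨c, hc⟩ := Ideal.mem_span_singleton'.1 hn
  have hnil : IsNilpotent (θ a) := ⟨n, by rw [← map_pow, ← hc, map_mul, hθp, mul_zero]⟩
  rw [← Ideal.Quotient.eq_zero_iff_mem]
  have := congrArg ψ hnil.eq_zero
  simpa [θ, ψ] using this

theorem fs_of_charZero (L : Type u) [Field L] [CharZero L] [Algebra.EssFiniteType ℤ L] :
    Algebra.FormallySmooth ℤ L := by
  have : Algebra.EssFiniteType ℚ L := Algebra.EssFiniteType.of_comp ℤ ℚ L
  have : Algebra.FormallySmooth ℚ L := inferInstance
  have : Algebra.FormallyEtale ℤ ℚ := .of_isLocalization (nonZeroDivisors ℤ)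
  exact Algebra.FormallySmooth.comp ℤ ℚ L

theorem fs_of_isField (L : Type u) [CommRing L] [inst : Algebra ℤ L] [CharZero L] [Algebra.EssFiniteType ℤ L]
    (hf : IsField L) : Algebra.FormallySmooth ℤ L := by
  obtain rfl : inst = Ring.toIntAlgebra L := Subsingleton.elim _ _
  let _ : Field L := hf.toField
  exact fs_of_charZero L

theorem domain_case (A : Type u) [CommRing A] [IsDomain A] [Algebra.FiniteType ℤ A] :
    {p : ℕ | p.Prime ∧ ¬ IsReduced (A ⧸ Ideal.span {(p : A)})}.Finite := by
  obtain ⟨ℓ, hℓ⟩ := CharP.exists A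
  rcases eq_or_ne ℓ 0 with rfl | hℓ0
  swap
  · refine (Set.finite_singleton ℓ).subset fun p hp => ?_
    by_contra hne
    refine hp.2 ?_
    have hℓp : ℓ.Prime := (CharP.char_is_prime_or_zero A ℓ).resolve_right hℓ0
    have : IsUnit (p : A) := by
      rw [CharP.isUnit_natCast_iff hℓp]
      exact fun hdvd => hne ((Nat.prime_dvd_prime_iff_eq hℓp hp.1).1 hdvd).symm
    have : Subsingleton (A ⧸ Ideal.span {(p : A)}) :=
      Ideal.Quotient.subsingleton_iff.2 (Ideal.span_singleton_eq_top.2 this)
    exact inferInstance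
  have : CharZero A := CharP.charP_to_charZero A
  have : IsNoetherianRing A := Algebra.FiniteType.isNoetherianRing ℤ A
  have : Algebra.FinitePresentation ℤ A := Algebra.FinitePresentation.of_finiteType.1 inferInstance
  let L := Localization.AtPrime (⊥ : Ideal A)
  let K := FractionRing A
  have : Algebra.FormallySmooth ℤ (Localization.AtPrime (⊥ : Ideal A)) := by
    have hS : (⊥ : Ideal A).primeCompl = nonZeroDivisors A := by
      ext x; simp [Ideal.primeCompl]
    have : IsFractionRing A L := by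
      show IsLocalization (nonZeroDivisors A) L
      rw [← hS]; exact Localization.isLocalization
    have : CharZero K := charZero_of_injective_ringHom (IsFractionRing.injective A K)
    have : Algebra.EssFiniteType A K := .of_isLocalization K (nonZeroDivisors A)
    have : Algebra.EssFiniteType ℤ K := Algebra.EssFiniteType.comp ℤ A K
    have hK : Algebra.FormallySmooth ℤ K := fs_of_isField K (Field.toIsField K)
    exact Algebra.FormallySmooth.of_equiv ((IsLocalization.algEquiv (nonZeroDivisors A) K L).restrictScalars ℤ)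
  obtain ⟨d, hd, hsm⟩ := Algebra.IsSmoothAt.exists_notMem_smooth ℤ (⊥ : Ideal A)
  have hd0 : ∀ z : A, d * z = 0 → z = 0 := fun z hz =>
    (mul_eq_zero.1 hz).resolve_left (fun h => hd (by simp [h]))
  refine (finite_bad (A := A) (A ⧸ Ideal.span {d})).subset fun p hp => ⟨hp.1, ?_⟩
  by_contra hgood
  push Not at hgood
  refine hp.2 ((Ideal.isRadical_iff_quotient_reduced _).1 fun a ha => ?_)
  obtain ⟨k, hk⟩ := ha
  let Ad := Localization.Away d
  have : @Algebra.Smooth ℤ _ Ad _ (Ring.toIntAlgebra Ad) := by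
    convert hsm
    exact Subsingleton.elim _ _
  let q : Ideal Ad := Ideal.span {(p : Ad)}
  have hmem : algebraMap A Ad a ∈ q := by
    refine smooth_mod Ad p hp.1 ⟨k, ?_⟩
    rw [← map_pow]
    have := Ideal.mem_map_of_mem (algebraMap A Ad) hk
    rwa [Ideal.map_span, Set.image_singleton, map_natCast] at this
  have hq : q = (Ideal.span {(p : A)}).map (algebraMap A Ad) := by
    rw [Ideal.map_span, Set.image_singleton, map_natCast]
  rw [hq, IsLocalization.algebraMap_mem_map_algebraMap_iff (Submonoid.powers d)] at hmem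
  obtain ⟨_, ⟨m, rfl⟩, hm⟩ := hmem
  exact pow_mem_span (fun z hz => by_contra fun hz0 => hgood z hz0 hz) hd0 m hm


/-- Affine form — let A be a reduced commutative ring of finite type over ℤ. Then for all but finitely
many prime numbers p the reduction A/pA is reduced. (The published statement is for a reduced scheme
of finite type over ℤ; such a scheme has a finite affine open cover, so the affine form carries the
same content.) -/
theorem result
    (A : Type u) [CommRing A] [Algebra.FiniteType ℤ A] [IsReduced A] :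
    {p : ℕ | p.Prime ∧ ¬ IsReduced (A ⧸ Ideal.span {(p : A)})}.Finite := by
  have : IsNoetherianRing A := Algebra.FiniteType.isNoetherianRing ℤ A
  have : Finite (minimalPrimes A) := (minimalPrimes.finite_of_isNoetherianRing A).to_subtype
  let f : A →ₗ[A] ((P : minimalPrimes A) → A ⧸ P.1) :=
    LinearMap.pi fun P => (Ideal.Quotient.mkₐ A P.1).toLinearMap
  have hf : ∀ a, f a = 0 → a = 0 := fun a ha => by
    refine IsReduced.eq_zero a ?_
    rw [← mem_nilradical, nilradical, ← Ideal.sInf_minimalPrimes, Submodule.mem_sInf]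
    exact fun P hP => Ideal.Quotient.eq_zero_iff_mem.1 (congrFun ha ⟨P, hP⟩)
  have hdom : ∀ P : minimalPrimes A, {p : ℕ | p.Prime ∧ ¬ IsReduced ((A ⧸ P.1) ⧸ Ideal.span {(p : A ⧸ P.1)})}.Finite := fun P => by
    have : P.1.IsPrime := P.2.1.1
    have : Algebra.FiniteType ℤ (A ⧸ P.1) := .of_surjective (Ideal.Quotient.mk P.1).toIntAlgHom Ideal.Quotient.mk_surjective
    exact domain_case (A ⧸ P.1)
  refine ((finite_bad (A := A) (((P : minimalPrimes A) → A ⧸ P.1) ⧸ LinearMap.range f)).union
    (Set.finite_iUnion hdom)).subset fun p hp => ?_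
  by_contra hnot
  simp only [Set.mem_union, Set.mem_iUnion, Set.mem_setOf_eq, not_or, not_and, not_exists] at hnot
  refine hp.2 ((Ideal.isRadical_iff_quotient_reduced _).1 fun a ha => ?_)
  obtain ⟨k, hk⟩ := ha
  have hv : ∀ P : minimalPrimes A, Ideal.Quotient.mk P.1 a ∈ Ideal.span {(p : A ⧸ P.1)} := fun P => by
    have hrad : (Ideal.span {(p : A ⧸ P.1)}).IsRadical :=
      (Ideal.isRadical_iff_quotient_reduced _).2 (not_not.1 (hnot.2 P hp.1))
    refine hrad ⟨k, ?_⟩
    rw [← map_pow]
    have := Ideal.mem_map_of_mem (Ideal.Quotient.mk P.1) hk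
    rwa [Ideal.map_span, Set.image_singleton, map_natCast] at this
  choose v hv using fun P => Ideal.mem_span_singleton'.1 (hv P)
  have e : (p : A) • v = f a := funext fun P => by
    show (p : A) • v P = Ideal.Quotient.mk P.1 a
    rw [← hv P, mul_comm]
    show Ideal.Quotient.mk P.1 (p : A) * v P = _
    rw [map_natCast]
  have hvr : v ∈ LinearMap.range f := by
    by_contra hv0
    refine hnot.1 hp.1 (Submodule.Quotient.mk v) (fun h => hv0 ((Submodule.Quotient.mk_eq_zero _).1 h)) ?_
    rw [← Submodule.Quotient.mk_smul, Submodule.Quotient.mk_eq_zero, e]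
    exact ⟨a, rfl⟩
  obtain ⟨b, rfl⟩ := hvr
  refine Ideal.mem_span_singleton'.2 ⟨b, (sub_eq_zero.1 (hf _ ?_)).symm⟩ |> fun h => h
  rw [map_sub, ← e, ← map_smul, smul_eq_mul, mul_comm, sub_self]

end Groth.Agent.S14101
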