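import Groth.Statements.S14104
import Groth.Agent.FlatLoc6.Depth
import Groth.Agent.SyntDesc12.Basic

set_option autoImplicit false
universe u
open CategoryTheory CategoryTheory.Limits AlgebraicGeometry Opposite TopologicalSpace
open CInt

namespace Groth.Agent.S14104

/-- Let f : X → S be a flat morphism of locally Noetherian schemes, Y a closed subset of X and d a
natural number. If for every point y of Y the local ring at y of the fibre of f through y has depth
at least d (the depth of O_{X_s} along Y_s is at least d for every s), then for every y ∈ Y the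
local ring O_{X,y} has depth at least d (the depth of O_X along Y is at least d). -/
theorem result {X S : Scheme.{u}} [IsLocallyNoetherian X] [IsLocallyNoetherian S]
    (f : X ⟶ S) [Flat f] (Y : Set ↥X) (hY : IsClosed Y) (d : ℕ)
    (h : ∀ y : ↥X, y ∈ Y → (d : ℕ∞) ≤ LocCoh.depth ↑(CInt.fiberStalk f y) ↑(CInt.fiberStalk f y)) :
    ∀ y : ↥X, y ∈ Y → (d : ℕ∞) ≤ LocCoh.depth ↑(X.presheaf.stalk y) ↑(X.presheaf.stalk y) := by
    intro y hy
    refine (h y hy).trans ?_
    obtain ⟨e⟩ := Triage.CMMor.exists_equiv_fibre_stalk_aux f y (f y) rfl (f.asFiber y) (f.fiberι_asFiber y)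
    have hsm : FibFlat.sm f y (f y) rfl = (f.stalkMap y).hom := FibFlat.sm_self f y
    letI : Algebra (S.presheaf.stalk (f y)) (X.presheaf.stalk y) := (f.stalkMap y).hom.toAlgebra
    haveI : IsLocalHom (algebraMap (S.presheaf.stalk (f y)) (X.presheaf.stalk y)) :=
      inferInstanceAs (IsLocalHom (f.stalkMap y).hom)
    haveI : Module.Flat (S.presheaf.stalk (f y)) (X.presheaf.stalk y) := Flat.stalkMap f y
    have hd := FlatLoc6.depth_tensor (A := S.presheaf.stalk (f y)) (B := X.presheaf.stalk y)
      (N := X.presheaf.stalk y) (S.presheaf.stalk (f y))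
    rw [Hensel.depth_congr (TensorProduct.AlgebraTensorModule.rid (S.presheaf.stalk (f y)) (X.presheaf.stalk y)
      (X.presheaf.stalk y))] at hd
    rw [hd]
    refine le_trans (le_of_eq ?_) (self_le_add_left _ _)
    rw [hsm] at e
    have hJ : EGA4.mB (S.presheaf.stalk (f y)) (X.presheaf.stalk y) • (⊤ : Submodule (X.presheaf.stalk y) (X.presheaf.stalk y)) =
        EGA4.mB (S.presheaf.stalk (f y)) (X.presheaf.stalk y) := by
      rw [smul_eq_mul, Ideal.mul_top]
    let eq1 : EGA4.FibMod (S.presheaf.stalk (f y)) (X.presheaf.stalk y) (X.presheaf.stalk y) ≃+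
        EGA4.FibRing (S.presheaf.stalk (f y)) (X.presheaf.stalk y) :=
      (Submodule.quotEquivOfEq _ _ hJ).toAddEquiv
    haveI : IsLocalRing (EGA4.FibRing (S.presheaf.stalk (f y)) (X.presheaf.stalk y)) := inferInstance
    haveI : IsLocalRing (↑(X.presheaf.stalk y) ⧸ Ideal.map (f.stalkMap y).hom (IsLocalRing.maximalIdeal ↑(S.presheaf.stalk (f y)))) :=
      inferInstanceAs (IsLocalRing (EGA4.FibRing (S.presheaf.stalk (f y)) (X.presheaf.stalk y)))
    refine (Alg6.depth_eq_of_semilinear e.toRingHom e.surjective (eq1.trans e.toAddEquiv) fun r m => ?_).symm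
    obtain ⟨r, rfl⟩ := Ideal.Quotient.mk_surjective r
    obtain ⟨m, rfl⟩ := Submodule.Quotient.mk_surjective _ m
    show e (Ideal.Quotient.mk _ (r * m)) = e (Ideal.Quotient.mk _ r) * e (Ideal.Quotient.mk _ m)
    rw [map_mul, map_mul]

end Groth.Agent.S14104
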