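import Groth.Statements.S14105
import Groth.Agent.RelCodim6.Fibre

set_option autoImplicit false
universe u
open CategoryTheory CategoryTheory.Limits AlgebraicGeometry Opposite TopologicalSpace
open CInt

namespace Groth.Agent.S14105

/-- Let f : X → S be a morphism and g : S' → S a base change, with X, S, S' and X' = X ×_S S' locally
Noetherian, and let Y be a closed subset of X with preimage Y' under the projection X' → X. Writing
the codimension of a closed subset relative to a morphism as the infimum, over its points, of the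
Krull dimension of the local ring of the fibre through that point: the codimension of Y' relative to
X' → S' is at least the codimension of Y relative to f, and the two are equal when the projection X'
→ X maps Y' onto Y. -/
theorem result {X S S' : Scheme.{u}} (f : X ⟶ S) (g : S' ⟶ S)
    [IsLocallyNoetherian X] [IsLocallyNoetherian S] [IsLocallyNoetherian S']
    [IsLocallyNoetherian (pullback f g)] (Y : Set ↥X) (hY : IsClosed Y) :
    ((⨅ y : Y, ringKrullDim ↑(CInt.fiberStalk f y.1)) ≤
      ⨅ y' : (fun x' => (pullback.fst f g) x') ⁻¹' Y,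
        ringKrullDim ↑(CInt.fiberStalk (pullback.snd f g) y'.1)) ∧
    (Y ⊆ Set.range (pullback.fst f g).base →
      (⨅ y' : (fun x' => (pullback.fst f g) x') ⁻¹' Y,
        ringKrullDim ↑(CInt.fiberStalk (pullback.snd f g) y'.1)) =
        ⨅ y : Y, ringKrullDim ↑(CInt.fiberStalk f y.1)) := by
    have le_all : ∀ y' : ↥(Limits.pullback f g), ringKrullDim ↑(CInt.fiberStalk f ((pullback.fst f g) y')) ≤
        ringKrullDim ↑(CInt.fiberStalk (pullback.snd f g) y') := by
      intro y'
      obtain ⟨k, hkf, hk⟩ := RelCodim6.exists_fibre_baseChange f g ((pullback.snd f g) y')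
      let z := (pullback.snd f g).asFiber y'
      have hz : f.fiberι _ (k z) = (pullback.fst f g) y' := by
        rw [← Scheme.Hom.comp_apply, hk, Scheme.Hom.comp_apply, Scheme.Hom.fiberι_asFiber]
      rw [← hz, ← RelCodim6.ringKrullDim_fibre_stalk]
      haveI := RelCodim6.isNoetherianRing_fibre_stalk f _ (k z)
      haveI := RelCodim6.isNoetherianRing_fibre_stalk (pullback.snd f g) _ z
      letI : Algebra _ _ := (k.stalkMap z).hom.toAlgebra
      haveI : IsLocalHom (algebraMap ((f.fiber _).presheaf.stalk (k z)) (((pullback.snd f g).fiber _).presheaf.stalk z)) :=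
        inferInstanceAs (IsLocalHom (k.stalkMap z).hom)
      haveI : Module.Flat _ _ := Flat.stalkMap k z
      rw [RelCodim6.height_eq_add (R := (f.fiber _).presheaf.stalk (k z))
        (A := ((pullback.snd f g).fiber _).presheaf.stalk z)]
      refine le_add_of_nonneg_right ?_
      haveI : Nontrivial (((pullback.snd f g).fiber _).presheaf.stalk z ⧸
          (IsLocalRing.maximalIdeal _).map (algebraMap ((f.fiber _).presheaf.stalk (k z))
            (((pullback.snd f g).fiber _).presheaf.stalk z))) :=
        Ideal.Quotient.nontrivial_iff.2 fun h => by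
          have hle := ((IsLocalRing.local_hom_TFAE (algebraMap ((f.fiber _).presheaf.stalk (k z)) (((pullback.snd f g).fiber _).presheaf.stalk z))).out 0 2).1 ‹_›
          rw [h] at hle
          exact (IsLocalRing.maximalIdeal.isMaximal _).ne_top (top_le_iff.1 hle)
      exact ringKrullDim_nonneg_of_nontrivial
    refine ⟨le_iInf fun y' => le_trans (iInf_le _ (⟨_, y'.2⟩ : ↥Y)) (le_all y'.1), fun hrange => ?_⟩
    refine le_antisymm (le_iInf fun y => ?_)
      (le_iInf fun y' => le_trans (iInf_le _ (⟨_, y'.2⟩ : ↥Y)) (le_all y'.1))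
    obtain ⟨x₀, hx₀⟩ := hrange y.2
    obtain ⟨k, hkf, hk⟩ := RelCodim6.exists_fibre_baseChange f g ((pullback.snd f g) x₀)
    let z₀ := (pullback.snd f g).asFiber x₀
    have hz₀ : f.fiberι _ (k z₀) = y.1 := by
      rw [← Scheme.Hom.comp_apply, hk, Scheme.Hom.comp_apply, Scheme.Hom.fiberι_asFiber]
      exact hx₀
    obtain ⟨z, hz, h0⟩ := RelCodim6.exists_fibre_dim_zero k (k z₀) ⟨z₀, rfl⟩
    have hy' : (pullback.fst f g) ((pullback.snd f g).fiberι _ z) = y.1 := by
      rw [← Scheme.Hom.comp_apply, ← hk, Scheme.Hom.comp_apply, hz, hz₀]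
    refine le_trans (iInf_le _ (⟨(pullback.snd f g).fiberι _ z,
      show (pullback.fst f g) _ ∈ Y by rw [hy']; exact y.2⟩ : ↥((fun x' => (pullback.fst f g) x') ⁻¹' Y))) ?_
    dsimp only
    rw [← RelCodim6.ringKrullDim_fibre_stalk, ← hz₀, ← RelCodim6.ringKrullDim_fibre_stalk, ← hz]
    haveI := RelCodim6.isNoetherianRing_fibre_stalk f _ (k z)
    haveI := RelCodim6.isNoetherianRing_fibre_stalk (pullback.snd f g) _ z
    letI : Algebra _ _ := (k.stalkMap z).hom.toAlgebra
    haveI : IsLocalHom (algebraMap ((f.fiber _).presheaf.stalk (k z)) (((pullback.snd f g).fiber _).presheaf.stalk z)) :=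
      inferInstanceAs (IsLocalHom (k.stalkMap z).hom)
    have h := RelCodim6.ringKrullDim_le_add (R := (f.fiber _).presheaf.stalk (k z))
      (A := ((pullback.snd f g).fiber _).presheaf.stalk z)
    refine h.trans (le_of_eq ?_)
    show _ + ringKrullDim (_ ⧸ (IsLocalRing.maximalIdeal _).map (k.stalkMap z).hom) = _
    rw [h0, add_zero]

end Groth.Agent.S14105
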