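import Groth.Statements.S14109
import Groth.Agent.RelCodim6.Fibre

set_option autoImplicit false
universe u
open CategoryTheory CategoryTheory.Limits AlgebraicGeometry Opposite TopologicalSpace
open CInt

namespace Groth.Agent.S14109

/-- Let f : X → S and g : X' → X be morphisms of locally Noetherian schemes with g surjective, Y a
closed subset of X and Y' its preimage under g. Then the codimension of Y' relative to the composite
X' → S (the infimum over y' ∈ Y' of the Krull dimension of the local ring at y' of the fibre of that
composite through y') is at most the codimension of Y relative to f (the same infimum over y ∈ Y for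
the fibres of f). -/
theorem result {X X' S : Scheme.{u}} [IsLocallyNoetherian X]
    [IsLocallyNoetherian X'] [IsLocallyNoetherian S] (f : X ⟶ S) (g : X' ⟶ X) [Surjective g]
    (Y : Set ↥X) (hY : IsClosed Y) :
    (⨅ y' : (fun x' => g x') ⁻¹' Y, ringKrullDim ↑(CInt.fiberStalk (g ≫ f) y'.1)) ≤
      ⨅ y : Y, ringKrullDim ↑(CInt.fiberStalk f y.1) := by
    refine le_iInf fun y => ?_
    obtain ⟨x', hx', h0⟩ := RelCodim6.exists_fibre_dim_zero g y.1 (g.surjective y.1)
    refine le_trans (iInf_le _ (⟨x', show g x' ∈ Y by rw [hx']; exact y.2⟩ : ↥((fun x' => g x') ⁻¹' Y))) ?_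
    dsimp only
    refine le_trans ?_ (le_of_eq (congrArg (fun z => ringKrullDim ↑(CInt.fiberStalk f z)) hx'))
    dsimp only
    rw [RelCodim6.fiberStalk_dim, RelCodim6.fiberStalk_dim, Scheme.Hom.stalkMap_comp]
    have h := (RelCodim6.ringKrullDim_quotient_comp (f.stalkMap (g x')).hom (g.stalkMap x').hom).1
    rw [h0, add_zero] at h
    exact h

end Groth.Agent.S14109
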