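import Groth.Statements.S14110
import Groth.Agent.RelCodim6.Fibre

set_option autoImplicit false
universe u
open CategoryTheory CategoryTheory.Limits AlgebraicGeometry Opposite TopologicalSpace
open CInt

namespace Groth.Agent.S14110

/-- Let f : X → S and g : X' → X be morphisms of locally Noetherian schemes with f a Cohen–Macaulay
morphism (flat, every local ring of every fibre a Cohen–Macaulay local ring) and g flat, Y a closed
subset of X and Y' its preimage under g. Then the codimension of Y relative to f (the infimum over y
∈ Y of the Krull dimension of the local ring at y of the fibre of f through y) is at most the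
codimension of Y' relative to the composite X' → S. -/
theorem result {X X' S : Scheme.{u}} [IsLocallyNoetherian X]
    [IsLocallyNoetherian X'] [IsLocallyNoetherian S] (f : X ⟶ S) [Flat f]
    (hCM : ∀ x : ↥X, LocCoh.IsCohenMacaulayLocalRing ↑(CInt.fiberStalk f x)) (g : X' ⟶ X) [Flat g]
    (Y : Set ↥X) (hY : IsClosed Y) :
    (⨅ y : Y, ringKrullDim ↑(CInt.fiberStalk f y.1)) ≤
      ⨅ y' : (fun x' => g x') ⁻¹' Y, ringKrullDim ↑(CInt.fiberStalk (g ≫ f) y'.1) := by
    refine le_iInf fun y' => ?_
    refine le_trans (iInf_le _ (⟨g y'.1, y'.2⟩ : ↥Y)) ?_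
    dsimp only
    rw [RelCodim6.fiberStalk_dim, RelCodim6.fiberStalk_dim, Scheme.Hom.stalkMap_comp]
    exact (RelCodim6.ringKrullDim_quotient_comp (f.stalkMap (g y'.1)).hom (g.stalkMap y'.1).hom).2
      (Flat.stalkMap g y'.1)

end Groth.Agent.S14110
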