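import Groth.Statements.S14113
import Groth.Agent.KFlatLib.Scheme.AffineHomotopy
import Groth.Agent.H9Misc.FinDimDerived
-- import your own Groth.Agent.* helpers here

set_option autoImplicit false
universe u
open CategoryTheory CategoryTheory.Limits AlgebraicGeometry Opposite TopologicalSpace
attribute [local instance] HasDerivedCategory.standard
open DCoh

namespace Groth.Agent.S14113

/-- Let X be an affine scheme and E a bounded above cochain complex of finite locally free O_X-modules
(a strictly pseudo-coherent complex). Then E is acyclic if and only if the identity of E is null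
homotopic. -/
theorem result {X : Scheme.{u}} [IsAffine X]
    (E : CochainComplex X.Modules ℤ) (b : ℤ) (hEb : ∀ i : ℤ, b < i → IsZero (E.X i))
    (hE : ∀ i : ℤ, FlatMod.IsFinLocFree (E.X i)) :
    E.Acyclic ↔ Nonempty (Homotopy (𝟙 E) 0) := by
  let h := Groth.Agent.KFlatLib.homEq_affine E E b hEb hE (fun i => Groth.Agent.QCoh.isQCoh_of_isFinLocFree (hE i))
  refine ⟨fun hA => h.inj _ _ ?_, fun ⟨H⟩ i => ?_⟩
  · exact ((Groth.Agent.H9Misc.FinDimDerived.isZero_Q_obj_iff E).2 hA).eq_of_src _ _
  · rw [HomologicalComplex.exactAt_iff_isZero_homology, IsZero.iff_id_eq_zero,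
      ← HomologicalComplex.homologyMap_id, H.homologyMap_eq, HomologicalComplex.homologyMap_zero]

end Groth.Agent.S14113
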