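import Groth.Statements.S14115
import Mathlib

set_option autoImplicit false
universe u v
open SuperComm

namespace Groth.Agent.S14115

/-- Let S be an associative unital algebra over a commutative ring R, x an element and y_0, …, y_n
elements such that the anticommutator x y_i + y_i x equals r_i · 1 for scalars r_i ∈ R. Then the
graded commutator of x with the ordered product y_0 ⋯ y_n, namely x (y_0 ⋯ y_n) + (-1)^n (y_0 ⋯ y_n)
x, equals the sum over p of (-1)^p r_p times the ordered product of the y_q with q ≠ p. (The
published statement takes x homogeneous of degree 1 and the y_i homogeneous of degree -1 in a graded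
algebra with unit in degree 0, the signs being those of the supercommutator; this row states the
identity for arbitrary elements satisfying the anticommutation relations, which is what the
computation proves.) -/
theorem result {R : Type u} {S : Type v} [CommRing R] [Ring S]
    [Algebra R S] (n : ℕ) (x : S) (y : Fin (n + 1) → S) (r : Fin (n + 1) → R)
    (h : ∀ i : Fin (n + 1), x * y i + y i * x = algebraMap R S (r i)) :
    x * (List.ofFn y).prod + (-1 : S) ^ n * ((List.ofFn y).prod * x) =
      ∑ p : Fin (n + 1), (-1 : S) ^ (p : ℕ) * (r p • (List.ofFn (fun q : Fin n => y (p.succAbove q))).prod) := by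
  induction n with
  | zero => simp [h 0, ← Algebra.algebraMap_eq_smul_one]
  | succ n ih =>
    have h0 := h 0
    have ih' := ih (fun i => y i.succ) (fun i => r i.succ) (fun i => h i.succ)
    set Pr := (List.ofFn fun i : Fin (n + 1) => y i.succ).prod with hPr
    have hy : (List.ofFn y).prod = y 0 * Pr := by rw [List.ofFn_succ, List.prod_cons]
    have hxy : x * y 0 = algebraMap R S (r 0) - y 0 * x := eq_sub_of_add_eq h0
    rw [hy, ← mul_assoc, hxy, sub_mul, ← Algebra.smul_def, mul_assoc, eq_sub_of_add_eq ih']
    conv_rhs => rw [Fin.sum_univ_succ]
    have hterm : ∀ p : Fin (n + 1),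
        (List.ofFn fun q : Fin (n + 1) => y (p.succ.succAbove q)).prod =
          y 0 * (List.ofFn fun q : Fin n => y (p.succAbove q).succ).prod := by
      intro p
      rw [List.ofFn_succ, List.prod_cons]
      simp
    simp only [Fin.succAbove_zero, Fin.val_zero, pow_zero, one_mul, Fin.val_succ, hterm, ← hPr]
    rw [pow_succ, mul_sub, Finset.mul_sum]
    have hcomm : ∀ (m : ℕ) (a : S), y 0 * ((-1 : S) ^ m * a) = (-1 : S) ^ m * (y 0 * a) := by
      intro m a
      rw [← mul_assoc, ← mul_assoc, ((Commute.neg_one_left (y 0)).pow_left m).eq]
    simp only [hcomm, mul_smul_comm, pow_succ, mul_neg, mul_one, neg_mul, smul_neg,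
      Finset.sum_neg_distrib, mul_assoc]
    abel

end Groth.Agent.S14115
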