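import Groth.Statements.S14117
import Mathlib

set_option autoImplicit false
universe u v w
open SuperComm

namespace Groth.Agent.S14117

/-- Let R be a commutative ring and M a finitely ℤ-graded R-module with finitely many nonzero graded
pieces, each finite free, presented as a finite family of finite free R-modules M_i with integer
degrees deg i (the piece of degree n being the product of the M_i with deg i = n); an endomorphism φ
of the total module Π_i M_i has degree a when its (i, j) block vanishes unless deg j = deg i + a;
the supertrace of an endomorphism is the trace of its composite with the grading involution ε = Σ_i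
(-1)^{deg i} pr_i. If φ has degree a ≠ 0 then its supertrace vanishes. (The published statement
allows the graded pieces to be finitely generated projective; this row takes them finite free, where
the trace is the ordinary trace of a free module.) -/
theorem result {R : Type u} [CommRing R] {ι : Type v} [Fintype ι] [DecidableEq ι]
    (deg : ι → ℤ) (M : ι → Type w) [∀ i, AddCommGroup (M i)] [∀ i, Module R (M i)]
    [∀ i, Module.Free R (M i)] [∀ i, Module.Finite R (M i)]
    (a : ℤ) (ha : a ≠ 0) (φ : (Π k, M k) →ₗ[R] (Π k, M k))
    (hφ : ∀ i j : ι, deg j ≠ deg i + a → (LinearMap.proj j) ∘ₗ φ ∘ₗ (LinearMap.single R M i) = 0) :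
    LinearMap.trace R (Π k, M k) ((∑ i : ι, (LinearMap.single R M i) ∘ₗ (((-1 : R) ^ (deg i).natAbs) • (LinearMap.proj i : (Π k, M k) →ₗ[R] M i))) ∘ₗ φ) = 0 := by
  classical
  have hsum : ∀ x : Π k, M k, ∑ i, LinearMap.single R M i (x i) = x := fun x => by
    simp only [LinearMap.coe_single]
    exact Finset.univ_sum_single x
  have key : ∀ T : (Π k, M k) →ₗ[R] (Π k, M k), LinearMap.trace R _ T =
      ∑ i, LinearMap.trace R (M i) (LinearMap.proj i ∘ₗ T ∘ₗ LinearMap.single R M i) := by
    intro T
    have hT : T = ∑ i, LinearMap.single R M i ∘ₗ (LinearMap.proj i ∘ₗ T) := LinearMap.ext fun x => by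
      simp only [LinearMap.sum_apply, LinearMap.comp_apply, LinearMap.proj_apply]
      exact (hsum (T x)).symm
    conv_lhs => rw [hT, map_sum]
    exact Finset.sum_congr rfl fun i _ => LinearMap.trace_comp_comm' _ _
  rw [key]
  refine Finset.sum_eq_zero fun i _ => ?_
  convert map_zero (LinearMap.trace R (M i))
  ext v
  have h0 := LinearMap.congr_fun (hφ i i (by omega)) v
  simp only [LinearMap.comp_apply, LinearMap.proj_apply, LinearMap.zero_apply] at h0
  simp only [LinearMap.comp_apply, LinearMap.sum_apply, LinearMap.smul_apply, LinearMap.proj_apply,
    Finset.sum_apply, LinearMap.zero_apply]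
  refine Finset.sum_eq_zero fun j _ => ?_
  by_cases hji : j = i
  · subst hji
    rw [h0, smul_zero, map_zero]; rfl
  · simp only [LinearMap.coe_single, Pi.single_eq_of_ne (Ne.symm hji)]

end Groth.Agent.S14117
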