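import Groth.Statements.S14118
import Mathlib

set_option autoImplicit false
universe u v w
open SuperComm

namespace Groth.Agent.S14118

/-- Let R be a commutative ring and M a finitely ℤ-graded R-module with finitely many nonzero graded
pieces, each finite free, presented as a finite family of finite free R-modules M_i with integer
degrees deg i (the piece of degree n being the product of the M_i with deg i = n); an endomorphism φ
of the total module Π_i M_i has degree a when its (i, j) block vanishes unless deg j = deg i + a;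
the supertrace of an endomorphism is the trace of its composite with the grading involution ε = Σ_i
(-1)^{deg i} pr_i. If φ and ψ have degrees a and b, the supertrace of the supercommutator φψ -
(-1)^{ab} ψφ vanishes. (The published statement allows the graded pieces to be finitely generated
projective; this row takes them finite free, where the trace is the ordinary trace of a free
module.) -/
theorem result {R : Type u} [CommRing R] {ι : Type v} [Fintype ι] [DecidableEq ι]
    (deg : ι → ℤ) (M : ι → Type w) [∀ i, AddCommGroup (M i)] [∀ i, Module R (M i)]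
    [∀ i, Module.Free R (M i)] [∀ i, Module.Finite R (M i)]
    (a b : ℤ) (φ ψ : (Π k, M k) →ₗ[R] (Π k, M k))
    (hφ : ∀ i j : ι, deg j ≠ deg i + a → (LinearMap.proj j) ∘ₗ φ ∘ₗ (LinearMap.single R M i) = 0)
    (hψ : ∀ i j : ι, deg j ≠ deg i + b → (LinearMap.proj j) ∘ₗ ψ ∘ₗ (LinearMap.single R M i) = 0) :
    LinearMap.trace R (Π k, M k)
      ((∑ i : ι, (LinearMap.single R M i) ∘ₗ (((-1 : R) ^ (deg i).natAbs) • (LinearMap.proj i : (Π k, M k) →ₗ[R] M i))) ∘ₗ (φ ∘ₗ ψ - ((-1 : R) ^ (a * b).natAbs) • (ψ ∘ₗ φ))) = 0 := by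
  classical
  have hsum : ∀ x : Π k, M k, ∑ i, LinearMap.single R M i (x i) = x := fun x => by
    simp only [LinearMap.coe_single]
    exact Finset.univ_sum_single x
  have key : ∀ T : (Π k, M k) →ₗ[R] (Π k, M k), LinearMap.trace R _ T =
      ∑ i, LinearMap.trace R (M i) (LinearMap.proj i ∘ₗ T ∘ₗ LinearMap.single R M i) := by
    intro T
    have hT : T = ∑ i, LinearMap.single R M i ∘ₗ (LinearMap.proj i ∘ₗ T) := LinearMap.ext fun x => by
      simp only [LinearMap.sum_apply, LinearMap.comp_apply, LinearMap.proj_apply]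
      exact (hsum (T x)).symm
    conv_lhs => rw [hT, map_sum]
    exact Finset.sum_congr rfl fun i _ => LinearMap.trace_comp_comm' _ _
  set s : ι → R := fun i => (-1 : R) ^ (deg i).natAbs with hs
  set c : R := (-1 : R) ^ (a * b).natAbs with hc
  let blk : ((Π k, M k) →ₗ[R] (Π k, M k)) → (i j : ι) → (M i →ₗ[R] M j) :=
    fun f i j => LinearMap.proj j ∘ₗ f ∘ₗ LinearMap.single R M i
  have hblk : ∀ (f g : (Π k, M k) →ₗ[R] (Π k, M k)) (i : ι),
      LinearMap.proj i ∘ₗ ((∑ i : ι, (LinearMap.single R M i) ∘ₗ (((-1 : R) ^ (deg i).natAbs) • (LinearMap.proj i : (Π k, M k) →ₗ[R] M i))) ∘ₗ (f ∘ₗ g)) ∘ₗ LinearMap.single R M i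
        = ∑ j, s i • (blk f j i ∘ₗ blk g i j) := by
    intro f g i
    ext v
    simp only [blk, LinearMap.comp_apply, LinearMap.sum_apply, LinearMap.smul_apply, LinearMap.proj_apply,
      Finset.sum_apply]
    rw [Finset.sum_eq_single i (fun j _ hj => by simp [Pi.single_eq_of_ne (Ne.symm hj)])
      (fun h => absurd (Finset.mem_univ i) h)]
    simp only [LinearMap.coe_single, Pi.single_eq_same]
    rw [← Finset.smul_sum, ← Finset.sum_apply, ← map_sum, Finset.univ_sum_single]
  rw [LinearMap.comp_sub, LinearMap.comp_smul, map_sub, map_smul, key, key, sub_eq_zero]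
  simp only [hblk, map_sum, map_smul, Finset.smul_sum]
  rw [Finset.sum_comm (s := Finset.univ) (t := Finset.univ)
    (f := fun i j => c • (s i • LinearMap.trace R (M i) (blk ψ j i ∘ₗ blk φ i j)))]
  refine Finset.sum_congr rfl fun i _ => Finset.sum_congr rfl fun j _ => ?_
  rw [LinearMap.trace_comp_comm' (blk ψ i j) (blk φ j i), smul_smul]
  by_cases h1 : deg j = deg i + b ∧ deg i = deg j + a
  · congr 1
    obtain ⟨h1, h2⟩ := h1
    simp only [hs, hc, ← pow_add]
    refine neg_one_pow_congr ?_
    rw [Nat.even_add, Int.natAbs_even, Int.natAbs_even, Int.natAbs_even, h1,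
      show a = -b by omega, Int.even_add, Int.even_mul, even_neg]
    tauto
  · have h2 : blk ψ i j ∘ₗ blk φ j i = 0 := by
      by_cases h3 : deg j = deg i + b
      · rw [show blk φ j i = 0 from hφ j i fun h4 => h1 ⟨h3, h4⟩, LinearMap.comp_zero]
      · rw [show blk ψ i j = 0 from hψ i j h3, LinearMap.zero_comp]
    rw [h2, map_zero, smul_zero, smul_zero]

end Groth.Agent.S14118
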