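import Groth.Statements.S14121
import Groth.Agent.ValCrit6.EssCrit

set_option autoImplicit false
universe u
open CategoryTheory AlgebraicGeometry
open ValCrit

namespace Groth.Agent.S14121

open CategoryTheory.Limits

/-- For schemes, let every affine open of the base `S` have excellent coordinate ring, let `g : Y ⟶ S`
be locally of finite type and `f : X ⟶ Y` quasi-compact and locally of finite type. Then the
uniqueness part of the valuative criterion for `f` over discrete valuation rings (every commutative
square `Spec K ⟶ X`, `Spec R ⟶ Y` with `R` a discrete valuation ring and `K` its fraction field has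
at most one lift `Spec R ⟶ X`) holds as soon as it holds for the squares whose ring `R` is
essentially of finite type over `S`, i.e. `Spec R ⟶ Y ⟶ S` factors through some affine open `U` of
`S` by a ring map `Γ(S, U) ⟶ R` that is essentially of finite type; and conversely. (The published
statement is for algebraic spaces and treats existence and uniqueness together; this row is the
uniqueness half for schemes.) -/
theorem result (S : Scheme.{u})
    (hS : ∀ U : S.affineOpens, EGA4.IsExcellent Γ(S, U.1))
    {X Y : Scheme.{u}} (f : X ⟶ Y) (g : Y ⟶ S)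
    [QuasiCompact f] [LocallyOfFiniteType f] [LocallyOfFiniteType g] :
    (∀ sq : ValuativeCommSq f, IsDiscreteValuationRing sq.R → Subsingleton sq.commSq.LiftStruct) ↔
    (∀ sq : ValuativeCommSq f, IsDiscreteValuationRing sq.R →
      (∃ (U : S.affineOpens) (φ : Γ(S, U.1) ⟶ CommRingCat.of sq.R),
        Spec.map φ ≫ U.2.fromSpec = sq.i₂ ≫ g ∧ φ.hom.EssFiniteType) →
      Subsingleton sq.commSq.LiftStruct) := by
  refine ⟨fun H sq hR _ => H sq hR, fun H sq _ => ?_⟩
  haveI : IsLocallyNoetherian S := ⟨fun U => (hS U).1⟩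
  haveI : IsLocallyNoetherian Y := LocallyOfFiniteType.isLocallyNoetherian g
  haveI : IsLocallyNoetherian X := LocallyOfFiniteType.isLocallyNoetherian f
  haveI : QuasiSeparated f := inferInstance
  let Δ := pullback.diagonal f
  have hΔ : ValCrit6.EssExistence Δ (pullback.fst f f ≫ f ≫ g) := by
    intro sq' hR' hφ'
    obtain ⟨U, φ, hφ, hφ''⟩ := hφ'
    have w : CommSq sq'.i₁ (Spec.map (CommRingCat.ofHom (algebraMap sq'.R sq'.K))) f
        (sq'.i₂ ≫ pullback.fst f f ≫ f) := ⟨by
      rw [← reassoc_of% sq'.commSq.w]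
      simp [Δ]⟩
    haveI := H { R := sq'.R, K := sq'.K, i₁ := _, i₂ := _, commSq := w } hR'
      ⟨U, φ, by rw [hφ, Category.assoc, Category.assoc], hφ''⟩
    have h1 : Spec.map (CommRingCat.ofHom (algebraMap sq'.R sq'.K)) ≫ sq'.i₂ ≫ pullback.fst f f = sq'.i₁ := by
      rw [← reassoc_of% sq'.commSq.w]; simp [Δ]
    have h2 : Spec.map (CommRingCat.ofHom (algebraMap sq'.R sq'.K)) ≫ sq'.i₂ ≫ pullback.snd f f = sq'.i₁ := by
      rw [← reassoc_of% sq'.commSq.w]; simp [Δ]
    have heq : sq'.i₂ ≫ pullback.fst f f = sq'.i₂ ≫ pullback.snd f f :=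
      congrArg CommSq.LiftStruct.l (Subsingleton.elim
        (⟨sq'.i₂ ≫ pullback.fst f f, h1, Category.assoc _ _ _⟩ : w.LiftStruct)
        ⟨sq'.i₂ ≫ pullback.snd f f, h2, by rw [Category.assoc, pullback.condition]⟩)
    refine ⟨⟨⟨sq'.i₂ ≫ pullback.fst f f, h1, ?_⟩⟩⟩
    apply pullback.hom_ext
    · simp [Δ]
    · rw [Category.assoc, pullback.diagonal_snd, Category.comp_id, heq]
  haveI : UniversallyClosed Δ := hΔ.universallyClosed hS
  haveI : IsSeparated f := ⟨IsClosedImmersion.of_isPreimmersion _ Δ.isClosedMap.isClosed_range⟩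
  exact (IsSeparated.eq_valuativeCriterion.le _ _ f ‹_›).1 sq

end Groth.Agent.S14121
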