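import Groth.Statements.S14122
import Mathlib

set_option autoImplicit false
universe u
open ValCrit

namespace Groth.Agent.S14122

/-- Let `R` be a discrete valuation ring with fraction field `K` and `g ∈ GL_N(K)` an element of finite
order. Then after passing to a finite extension `K'` of `K` and a discrete valuation ring `R'` of
`K'` dominating `R`, the element `g` becomes conjugate in `GL_N(K')` to an element of `GL_N(R')`.
(The published statement is that the classifying stack of `GL_N` over the integers satisfies a
valuative condition, for discrete valuation rings essentially of finite type over the integers, on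
extending finite-order generic automorphisms along nearby modifications; since vector bundles over a
discrete valuation ring are trivial, that condition is this conjugacy statement for such rings, and
this row states it for every discrete valuation ring, as the printed argument gives.) -/
theorem result
    (R : Type u) [CommRing R] [IsDomain R] [IsDiscreteValuationRing R]
    (K : Type u) [Field K] [Algebra R K] [IsFractionRing R K]
    (N : ℕ) (g : GL (Fin N) K) (hg : IsOfFinOrder g) :
    ∃ (R' : Type u) (_ : CommRing R') (_ : IsDomain R') (_ : IsDiscreteValuationRing R')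
      (K' : Type u) (_ : Field K') (_ : Algebra R' K') (_ : IsFractionRing R' K')
      (_ : Algebra R R') (_ : Algebra K K') (_ : Algebra R K')
      (_ : IsScalarTower R R' K') (_ : IsScalarTower R K K')
      (_ : Module.Finite K K') (_ : IsLocalHom (algebraMap R R'))
      (h : GL (Fin N) K') (g' : GL (Fin N) R'),
      h * Matrix.GeneralLinearGroup.map (algebraMap K K') g * h⁻¹ =
        Matrix.GeneralLinearGroup.map (algebraMap R' K') g' := by
    classical
    obtain ⟨n, hn, hgn⟩ := isOfFinOrder_iff_pow_eq_one.1 hg
    let A : Matrix (Fin N) (Fin N) K := ↑g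
    have hAn : A ^ n = 1 := by
      show (↑g : Matrix (Fin N) (Fin N) K) ^ n = 1
      rw [← Units.val_pow_eq_pow_val, hgn, Units.val_one]
    let gen : Set (Fin N → K) := Set.range fun p : Fin n × Fin N => (A ^ (p.1 : ℕ)).mulVec (Pi.single p.2 1)
    let L : Submodule R (Fin N → K) := Submodule.span R gen
    have hL : ∀ (i : ℕ) j, (A ^ i).mulVec (Pi.single j 1) ∈ L := fun i j => by
      rw [pow_eq_pow_mod i hAn]
      exact Submodule.subset_span ⟨(⟨i % n, Nat.mod_lt _ hn⟩, j), rfl⟩
    have hstab : ∀ v ∈ L, A.mulVec v ∈ L := by
      intro v hv
      induction hv using Submodule.span_induction with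
      | mem x hx =>
        obtain ⟨⟨i, j⟩, rfl⟩ := hx
        rw [Matrix.mulVec_mulVec, ← pow_succ']
        exact hL _ _
      | zero => rw [Matrix.mulVec_zero]; exact L.zero_mem
      | add x y _ _ hx hy => rw [Matrix.mulVec_add]; exact L.add_mem hx hy
      | smul c x _ hx => rw [Matrix.mulVec_smul]; exact L.smul_mem _ hx
    haveI : Module.Finite R L := Module.Finite.iff_fg.2 (Submodule.fg_span (Set.finite_range _))
    haveI : Module.IsTorsionFree R (Fin N → K) := inferInstance
    haveI : Module.Free R L := inferInstance
    let c := Module.Free.chooseBasis R L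
    let w : Module.Free.ChooseBasisIndex R L → (Fin N → K) := fun i => (c i : Fin N → K)
    have hli : LinearIndependent K w := by
      rw [← LinearIndependent.iff_fractionRing (R := R) (K := K)]
      exact c.linearIndependent.map' L.subtype L.ker_subtype
    have hspan : ⊤ ≤ Submodule.span K (Set.range w) := by
      intro v _
      rw [pi_eq_sum_univ' v]
      refine Submodule.sum_mem _ fun j _ => Submodule.smul_mem _ _ ?_
      have hx := hL 0 j
      rw [pow_zero, Matrix.one_mulVec] at hx
      rw [show (Pi.single j 1 : Fin N → K) = ((∑ i, c.repr ⟨_, hx⟩ i • c i : L) : Fin N → K) from by rw [c.sum_repr],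
        Submodule.coe_sum]
      refine Submodule.sum_mem _ fun i _ => ?_
      rw [Submodule.coe_smul, ← IsScalarTower.algebraMap_smul K]
      exact Submodule.smul_mem _ _ (Submodule.subset_span ⟨i, rfl⟩)
    let bK := Module.Basis.mk hli hspan
    obtain ⟨ι⟩ : Nonempty (Module.Free.ChooseBasisIndex R L ≃ Fin N) := ⟨Fintype.equivFinOfCardEq (by
      rw [← Module.finrank_eq_card_basis bK, Module.finrank_fin_fun])⟩
    let W : Matrix (Fin N) (Fin N) K := Matrix.of fun r j => w (ι.symm j) r
    let M : Matrix (Fin N) (Fin N) R :=
      Matrix.of fun i j => c.repr ⟨A.mulVec (c (ι.symm j) : Fin N → K), hstab _ (c (ι.symm j)).2⟩ (ι.symm i)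
    have hAW : A * W = W * M.map (algebraMap R K) := by
      ext r j
      have h := congrArg (fun z : L => (z : Fin N → K) r)
        (c.sum_repr ⟨A.mulVec (c (ι.symm j) : Fin N → K), hstab _ (c (ι.symm j)).2⟩)
      simp only [Submodule.coe_sum, Finset.sum_apply, Submodule.coe_smul, Pi.smul_apply] at h
      rw [Matrix.mul_apply, Matrix.mul_apply]
      refine Eq.trans (h.symm : A.mulVec (w (ι.symm j)) r = _) ?_
      rw [← Equiv.sum_comp ι.symm]
      refine Finset.sum_congr rfl fun i _ => ?_
      simp [W, M, w, Algebra.smul_def, mul_comm]
    have hW : IsUnit W := by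
      rw [← Matrix.linearIndependent_cols_iff_isUnit]
      exact hli.comp ι.symm ι.symm.injective
    obtain ⟨Wu, hWu⟩ := hW
    let Wi : Matrix (Fin N) (Fin N) K := (Wu⁻¹).val
    have hconj : Wi * A * W = M.map (algebraMap R K) := by
      rw [mul_assoc, hAW, ← mul_assoc, ← hWu]
      show (Wu⁻¹).val * Wu.val * _ = _
      rw [Units.inv_mul, one_mul]
    have hMn : M ^ n = 1 := by
      refine Matrix.map_injective (IsFractionRing.injective R K) ?_
      show (M ^ n).map (algebraMap R K) = (1 : Matrix (Fin N) (Fin N) R).map (algebraMap R K)
      rw [Matrix.map_pow, ← hconj, Matrix.map_one _ (map_zero _) (map_one _), ← hWu]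
      show ((Wu⁻¹).val * A * Wu.val) ^ n = 1
      rw [Units.conj_pow', hAn, mul_one, Units.inv_mul]
    let g' : GL (Fin N) R := Units.ofPowEqOne M n hMn hn.ne'
    refine ⟨R, inferInstance, inferInstance, inferInstance, K, inferInstance, inferInstance, inferInstance,
      Algebra.id R, Algebra.id K, inferInstance, inferInstance, inferInstance, inferInstance,
      ⟨fun a ha => ha⟩, Wu⁻¹, g', ?_⟩
    refine Units.ext ?_
    rw [Units.val_mul, Units.val_mul, inv_inv]
    show (Wu⁻¹).val * A.map (algebraMap K K) * Wu.val = M.map (algebraMap R K)
    rw [show A.map (algebraMap K K) = A from Matrix.map_id A, hWu]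
    exact hconj

end Groth.Agent.S14122
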