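import Groth.Statements.S14123
import Mathlib

set_option autoImplicit false
universe u v
open GmQuot

namespace Groth.Agent.S14123

/-- Let `A = ⊕_{d ∈ ℤ} A_d` be a graded commutative ring whose ideal `I₊` generated by the homogeneous
elements of positive degree is finitely generated, `R` a discrete valuation ring with fraction field
`K`, and `φ : A → R` a ring map with `φ(I₊) ≠ 0` and `φ(I₊)` inside the maximal ideal. Then after a
finite extension `K'/K` and a discrete valuation ring `R'` of `K'` dominating `R` there are a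
nonzero non-unit `ϖ ∈ R'` and a ring map `g : A → R'` with `g(a) ϖ^d = φ(a)` for every homogeneous
`a` of degree `d` (so `g` is `φ` rescaled through the grading by `ϖ`), such that `g(I₊) R' = R'`.
(The published statement is phrased for the quotient stack of `Spec A` by the multiplicative group
and its closed substack cut out by `I₊`, in a setting where `A` is Noetherian, being of finite type
over a Noetherian base: an `R`-point whose closed point lies in that substack and whose generic
point does not admits, after a finite extension, an elementary modification avoiding the substack;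
this row is the graded-ring statement the printed argument proves, assuming only that `I₊` is
finitely generated, which is all that argument uses, and with `ϖ` not required to be a uniformizer.) -/
theorem result
    {A : Type u} [CommRing A] (𝒜 : ℤ → AddSubgroup A) [GradedRing 𝒜]
    (hfg : (Ideal.span {a : A | ∃ d : ℤ, 0 < d ∧ a ∈ 𝒜 d}).FG)
    (R : Type v) [CommRing R] [IsDomain R] [IsDiscreteValuationRing R]
    (K : Type v) [Field K] [Algebra R K] [IsFractionRing R K]
    (φ : A →+* R)
    (hle : Ideal.map φ (Ideal.span {a : A | ∃ d : ℤ, 0 < d ∧ a ∈ 𝒜 d}) ≤ IsLocalRing.maximalIdeal R)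
    (hne : Ideal.map φ (Ideal.span {a : A | ∃ d : ℤ, 0 < d ∧ a ∈ 𝒜 d}) ≠ ⊥) :
    ∃ (R' : Type v) (_ : CommRing R') (_ : IsDomain R') (_ : IsDiscreteValuationRing R')
      (K' : Type v) (_ : Field K') (_ : Algebra R' K') (_ : IsFractionRing R' K')
      (_ : Algebra R R') (_ : Algebra K K') (_ : Algebra R K')
      (_ : IsScalarTower R R' K') (_ : IsScalarTower R K K')
      (_ : Module.Finite K K') (_ : IsLocalHom (algebraMap R R'))
      (ϖ : R') (g : A →+* R'),
      ϖ ≠ 0 ∧ ϖ ∈ IsLocalRing.maximalIdeal R' ∧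
      (∀ (d : ℤ) (a : A), a ∈ 𝒜 d →
        algebraMap R' K' (g a) * algebraMap R' K' ϖ ^ d = algebraMap R K' (φ a)) ∧
      Ideal.map g (Ideal.span {a : A | ∃ d : ℤ, 0 < d ∧ a ∈ 𝒜 d}) = ⊤ := by
  classical
  obtain ⟨π, hπ⟩ := IsDiscreteValuationRing.exists_irreducible R
  have hπm : IsLocalRing.maximalIdeal R = Ideal.span {π} := hπ.maximalIdeal_eq
  set S : Set A := {a : A | ∃ d : ℤ, 0 < d ∧ a ∈ 𝒜 d} with hS
  obtain ⟨T, hTS, hTspan⟩ := (Submodule.fg_span_iff_fg_span_finset_subset S).1 hfg
  change Ideal.span S = Ideal.span (T : Set A) at hTspan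
  choose deg hdeg0 hdegm using fun a : T => hTS a.2
  let N : ℕ := ∏ a : T, (deg a).toNat
  have hdeg1 : ∀ a, 0 < (deg a).toNat := fun a => by have := hdeg0 a; omega
  have hN : 0 < N := Finset.prod_pos fun a _ => hdeg1 a
  -- the ramified extension
  let P : Polynomial R := Polynomial.X ^ N - Polynomial.C π
  have hPm : P.Monic := Polynomial.monic_X_pow_sub_C π hN.ne'
  have hPd : P.natDegree = N := Polynomial.natDegree_X_pow_sub_C
  have heis : P.IsEisensteinAt (Ideal.span {π}) := by
    refine hPm.isEisensteinAt_of_mem_of_notMem ?_ (fun {n} hn => ?_) ?_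
    · rw [← hπm]; exact (IsLocalRing.maximalIdeal.isMaximal R).ne_top
    · rw [hPd] at hn
      simp only [P, Polynomial.coeff_sub, Polynomial.coeff_X_pow, if_neg hn.ne, Polynomial.coeff_C]
      split_ifs <;> simp [Ideal.mem_span_singleton]
    · simp only [P, Polynomial.coeff_sub, Polynomial.coeff_X_pow, Polynomial.coeff_C_zero, if_neg hN.ne,
        zero_sub, neg_mem_iff]
      rw [Ideal.span_singleton_pow, Ideal.mem_span_singleton]
      rintro ⟨c, hc⟩
      exact hπ.not_isUnit (IsUnit.of_mul_eq_one c (mul_left_cancel₀ hπ.ne_zero (by rw [mul_one, ← mul_assoc, ← pow_two, ← hc])))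
  have hirr : Irreducible P := heis.irreducible (hπm ▸ inferInstance) hPm.isPrimitive (hPd.symm ▸ hN)
  haveI : Fact (Irreducible P) := ⟨hirr⟩
  let R' := AdjoinRoot P
  haveI : IsDomain R' := by
    haveI : (Ideal.span {P}).IsPrime := (Ideal.span_singleton_prime hirr.ne_zero).2 hirr.prime
    exact Ideal.Quotient.isDomain _
  haveI : Module.Finite R R' := hPm.finite_adjoinRoot
  haveI : Algebra.IsIntegral R R' := Algebra.IsIntegral.of_finite R R'
  haveI : IsNoetherianRing R' := IsNoetherianRing.of_finite R R'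
  let ρ : R' := AdjoinRoot.root P
  have hρ : ρ ^ N = algebraMap R R' π := by
    have h0 : Polynomial.eval₂ (AdjoinRoot.of P) ρ (Polynomial.X ^ N - Polynomial.C π) = 0 := AdjoinRoot.eval₂_root P
    rwa [Polynomial.eval₂_sub, Polynomial.eval₂_X_pow, Polynomial.eval₂_C, sub_eq_zero] at h0
  have hinj : Function.Injective (algebraMap R R') := AdjoinRoot.of.injective_of_degree_ne_zero (by
    rw [Polynomial.degree_X_pow_sub_C hN]; exact_mod_cast hN.ne')
  have hπ0 : algebraMap R R' π ≠ 0 := (map_ne_zero_iff _ hinj).2 hπ.ne_zero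
  have hρ0 : ρ ≠ 0 := fun h => hπ0 (by rw [← hρ, h, zero_pow hN.ne'])
  have hmax : ∀ M : Ideal R', M.IsMaximal → Ideal.span {ρ} = M := by
    intro M hM
    haveI := hM.isPrime
    have hc : M.comap (algebraMap R R') = IsLocalRing.maximalIdeal R :=
      IsLocalRing.eq_maximalIdeal (Ideal.isMaximal_comap_of_isIntegral_of_isMaximal M)
    have hπM : algebraMap R R' π ∈ M := by
      rw [← Ideal.mem_comap, hc, hπm]; exact Ideal.mem_span_singleton_self π
    have hρM : ρ ∈ M := hM.isPrime.mem_of_pow_mem N (hρ ▸ hπM)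
    refine le_antisymm ((Ideal.span_singleton_le_iff_mem _).2 hρM) fun x hx => ?_
    obtain ⟨q, rfl⟩ := AdjoinRoot.mk_surjective x
    have hsplit : AdjoinRoot.mk P q = algebraMap R R' (q.coeff 0) + ρ * AdjoinRoot.mk P q.divX := by
      conv_lhs => rw [← q.X_mul_divX_add]
      rw [map_add, map_mul, AdjoinRoot.mk_X, AdjoinRoot.mk_C, add_comm]
      rfl
    have h0 : algebraMap R R' (q.coeff 0) ∈ M := by
      have := M.sub_mem hx (M.mul_mem_right (AdjoinRoot.mk P q.divX) hρM)
      rwa [hsplit, add_sub_cancel_right] at this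
    have h1 : q.coeff 0 ∈ Ideal.span {π} := by rwa [← hπm, ← hc, Ideal.mem_comap]
    obtain ⟨c, hc'⟩ := Ideal.mem_span_singleton.1 h1
    rw [hsplit, hc', map_mul, ← hρ]
    exact add_mem (Ideal.mul_mem_right _ _ (Ideal.pow_mem_of_mem _ (Ideal.mem_span_singleton_self ρ) N hN))
      (Ideal.mul_mem_right _ _ (Ideal.mem_span_singleton_self ρ))
  haveI : IsLocalRing R' := IsLocalRing.of_unique_max_ideal <| by
    obtain ⟨M, hM⟩ := Ideal.exists_maximal R'
    exact ⟨M, hM, fun M' hM' => (hmax M' hM').symm.trans (hmax M hM)⟩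
  have hmR' : IsLocalRing.maximalIdeal R' = Ideal.span {ρ} := (hmax _ (IsLocalRing.maximalIdeal.isMaximal R')).symm
  haveI : IsPrincipalIdealRing R' := ((tfae_of_isNoetherianRing_of_isLocalRing_of_isDomain (R := R')).out 0 4).2
    (by rw [hmR']; infer_instance)
  haveI : IsDiscreteValuationRing R' :=
    { not_a_field' := by rw [hmR', Ne, Ideal.span_singleton_eq_bot]; exact hρ0 }
  haveI : IsLocalHom (algebraMap R R') := by
    refine ⟨fun x hx => by_contra fun hnu => ?_⟩
    have : x ∈ Ideal.span {π} := hπm ▸ hnu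
    obtain ⟨c, rfl⟩ := Ideal.mem_span_singleton.1 this
    rw [map_mul, ← hρ] at hx
    have hρu : IsUnit ρ := (isUnit_pow_iff hN.ne').1 (isUnit_of_mul_isUnit_left hx)
    exact (IsLocalRing.mem_maximalIdeal ρ).1 (hmR' ▸ Ideal.mem_span_singleton_self ρ) hρu
  let K' := FractionRing R'
  letI : Algebra K K' := (IsFractionRing.lift (K := K) (g := (algebraMap R' K').comp (algebraMap R R'))
    ((IsFractionRing.injective R' K').comp hinj)).toAlgebra
  haveI : IsScalarTower R K K' := IsScalarTower.of_algebraMap_eq fun x =>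
    (IsScalarTower.algebraMap_apply R R' K' x).trans (IsFractionRing.lift_algebraMap (K := K)
      (g := (algebraMap R' K').comp (algebraMap R R')) _ x).symm
  haveI : Module.Finite K K' := by
    let E : Subalgebra K K' := Algebra.adjoin K {algebraMap R' K' ρ}
    have hρint : IsIntegral K (algebraMap R' K' ρ) := by
      refine ⟨Polynomial.X ^ N - Polynomial.C (algebraMap R K π), Polynomial.monic_X_pow_sub_C _ hN.ne', ?_⟩
      rw [Polynomial.eval₂_sub, Polynomial.eval₂_X_pow, Polynomial.eval₂_C, ← map_pow, hρ,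
        ← IsScalarTower.algebraMap_apply R K K', ← IsScalarTower.algebraMap_apply R R' K', sub_self]
    haveI : FiniteDimensional K (IntermediateField.adjoin K {algebraMap R' K' ρ}) :=
      IntermediateField.adjoin.finiteDimensional hρint
    have hR' : ∀ x : R', algebraMap R' K' x ∈ IntermediateField.adjoin K {algebraMap R' K' ρ} := by
      intro x
      obtain ⟨q, rfl⟩ := AdjoinRoot.mk_surjective x
      induction q using Polynomial.induction_on with
      | C a =>
        rw [AdjoinRoot.mk_C]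
        show algebraMap R K' a ∈ _
        rw [IsScalarTower.algebraMap_apply R K K']
        exact IntermediateField.algebraMap_mem _ _
      | add f g hf hg => rw [map_add, map_add]; exact add_mem hf hg
      | monomial n a hn =>
        rw [show Polynomial.C a * Polynomial.X ^ (n + 1) = Polynomial.C a * Polynomial.X ^ n * Polynomial.X by ring,
          map_mul, map_mul (algebraMap R' K'), AdjoinRoot.mk_X]
        exact mul_mem hn (IntermediateField.subset_adjoin _ _ rfl)
    have htop : IntermediateField.adjoin K {algebraMap R' K' ρ} = ⊤ := eq_top_iff.2 fun z _ => by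
      obtain ⟨a, b, -, rfl⟩ := IsFractionRing.div_surjective R' z
      exact div_mem (hR' a) (hR' b)
    exact Module.Finite.equiv ((IntermediateField.equivOfEq htop).trans IntermediateField.topEquiv).toLinearEquiv
  -- valuations of the generators
  let φ' : A →+* R' := (algebraMap R R').comp φ
  have hfac : ∀ a : T, φ' a ≠ 0 → ∃ (v : ℕ) (u : R'ˣ), φ' a = u * ρ ^ (N * v) ∧ 0 < v := by
    intro a ha
    have ha' : φ a ≠ 0 := fun h => ha (by show algebraMap R R' (φ a) = 0; rw [h, map_zero])
    obtain ⟨v, u, hu⟩ := IsDiscreteValuationRing.eq_unit_mul_pow_irreducible ha' hπ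
    refine ⟨v, Units.map (algebraMap R R').toMonoidHom u, ?_, ?_⟩
    · show algebraMap R R' (φ a) = algebraMap R R' u * ρ ^ (N * v)
      rw [hu, map_mul, map_pow, pow_mul, hρ]
    · refine Nat.pos_of_ne_zero fun hv => (IsLocalRing.mem_maximalIdeal (φ a)).1
        (hle (Ideal.mem_map_of_mem φ (Ideal.subset_span (hTS a.2)))) ?_
      rw [hu, hv, pow_zero, mul_one]; exact u.isUnit
  have hexne : ∃ a : T, φ' a ≠ 0 := by
    by_contra! hall
    refine hne (Ideal.map_eq_bot_iff_le_ker _ |>.2 ?_)
    rw [hTspan, Ideal.span_le]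
    intro a ha
    exact hinj ((hall ⟨a, ha⟩).trans (map_zero _).symm)
  choose! v u hv hvpos using hfac
  let k : T → ℕ := fun a => N * v a / (deg a).toNat
  have hkeq : ∀ a, k a * (deg a).toNat = N * v a := fun a =>
    Nat.div_mul_cancel (Dvd.dvd.mul_right (Finset.dvd_prod_of_mem _ (Finset.mem_univ a)) _)
  obtain ⟨a₀, ha₀, hmin⟩ := (Finset.univ.filter fun a : T => φ' a ≠ 0).exists_min_image k
    (by obtain ⟨a, ha⟩ := hexne; exact ⟨a, by simp [ha]⟩)
  rw [Finset.mem_filter] at ha₀
  let ϖ : R' := ρ ^ k a₀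
  have hk0 : 0 < k a₀ := by
    have h1 := hkeq a₀
    have h2 := Nat.mul_pos hN (hvpos a₀ ha₀.2)
    refine Nat.pos_of_ne_zero fun h => ?_
    rw [h, zero_mul] at h1; omega
  have hgen : ∀ a : T, ∃ r : R', φ' a = ϖ ^ (deg a).toNat * r := by
    intro a
    by_cases ha : φ' a = 0
    · exact ⟨0, by rw [ha, mul_zero]⟩
    · refine ⟨u a * ρ ^ (N * v a - k a₀ * (deg a).toNat), ?_⟩
      have hle' : k a₀ * (deg a).toNat ≤ N * v a := by
        rw [← hkeq a]; exact Nat.mul_le_mul_right _ (hmin a (by simp [ha]))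
      rw [hv a ha, show ϖ ^ (deg a).toNat = ρ ^ (k a₀ * (deg a).toNat) from (pow_mul _ _ _).symm,
        mul_left_comm, ← pow_add, Nat.add_sub_cancel' hle']
  have hdiv : ∀ (n : ℕ) (a : A), a ∈ 𝒜 n → ϖ ^ n ∣ φ' a := by
    intro n
    induction n using Nat.strong_induction_on with
    | _ n ih =>
      intro a ha
      rcases Nat.eq_zero_or_pos n with rfl | hn
      · rw [pow_zero]; exact one_dvd _
      have hmem : a ∈ Ideal.span (T : Set A) := hTspan ▸ Ideal.subset_span ⟨n, by exact_mod_cast hn, ha⟩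
      obtain ⟨c, -, hc⟩ := Submodule.mem_span_finset.1 hmem
      rw [show a = (DirectSum.decompose 𝒜 a (n : ℤ) : A) from (DirectSum.decompose_of_mem_same 𝒜 ha).symm, ← hc,
        DirectSum.decompose_sum, DFinsupp.finset_sum_apply, AddSubmonoidClass.coe_finset_sum, map_sum]
      refine Finset.dvd_sum fun t ht => ?_
      rw [smul_eq_mul, show (DirectSum.decompose 𝒜 (c t * t) (n : ℤ) : A) =
        (DirectSum.decompose 𝒜 (c t) ((n : ℤ) - deg ⟨t, ht⟩) : A) * t by
          conv_lhs => rw [show (n : ℤ) = ((n : ℤ) - deg ⟨t, ht⟩) + deg ⟨t, ht⟩ by ring]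
          exact DirectSum.coe_decompose_mul_add_of_right_mem 𝒜 (hdegm ⟨t, ht⟩), map_mul]
      obtain ⟨r, hr⟩ := hgen ⟨t, ht⟩
      rw [hr]
      have he := SetLike.coe_mem (DirectSum.decompose 𝒜 (c t) ((n : ℤ) - deg ⟨t, ht⟩))
      generalize (DirectSum.decompose 𝒜 (c t) ((n : ℤ) - deg ⟨t, ht⟩) : A) = e at he ⊢
      have hd1 := hdeg0 ⟨t, ht⟩
      rcases le_or_gt (n : ℤ) (deg ⟨t, ht⟩) with h | h
      · exact dvd_mul_of_dvd_right (dvd_mul_of_dvd_left (pow_dvd_pow _ (by omega)) _) _
      · obtain ⟨m, hm⟩ : ∃ m : ℕ, (m : ℤ) = (n : ℤ) - deg ⟨t, ht⟩ := ⟨_, Int.toNat_of_nonneg (by omega)⟩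
        rw [← hm] at he
        have hih := ih m (by omega) e he
        rw [show n = m + (deg ⟨t, ht⟩).toNat by omega, pow_add]
        exact mul_dvd_mul hih (dvd_mul_right _ _)
  have hϖ0 : ϖ ≠ 0 := pow_ne_zero _ hρ0
  let j := algebraMap R' K'
  have hj : j ϖ ≠ 0 := (map_ne_zero_iff j (IsFractionRing.injective R' K')).2 hϖ0
  let G₀ : ∀ d : ℤ, 𝒜 d →+ K' := fun d =>
    { toFun := fun a => j (φ' (a : A)) * (j ϖ) ^ (-d)
      map_zero' := by simp
      map_add' := fun a b => by simp [add_mul] }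
  let G : A →+* K' := (DirectSum.toSemiring G₀ (by simp [G₀]) (fun {i j'} ai aj => by
    simp only [G₀, AddMonoidHom.coe_mk, ZeroHom.coe_mk, SetLike.coe_gMul, map_mul, neg_add, zpow_add₀ hj]
    ring)).comp (DirectSum.decomposeRingEquiv 𝒜).toRingHom
  have hG : ∀ (d : ℤ) (a : A), a ∈ 𝒜 d → G a = j (φ' a) * (j ϖ) ^ (-d) := by
    intro d a ha
    have he : (DirectSum.decomposeRingEquiv 𝒜).toRingHom a = DirectSum.of (fun i => 𝒜 i) d ⟨a, ha⟩ :=
      DirectSum.decompose_of_mem 𝒜 ha
    simp only [G, RingHom.comp_apply, he, DirectSum.toSemiring_of]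
    rfl
  have hGr : ∀ a, G a ∈ j.range := by
    intro a
    classical
    rw [← DirectSum.sum_support_decompose 𝒜 a, map_sum]
    refine sum_mem fun d _ => ?_
    rw [hG d _ (SetLike.coe_mem _)]
    rcases le_or_gt d 0 with hd | hd
    · obtain ⟨n, hn⟩ : ∃ n : ℕ, (n : ℤ) = -d := ⟨_, Int.toNat_of_nonneg (by omega)⟩
      exact mul_mem ⟨_, rfl⟩ ⟨ϖ ^ n, by rw [map_pow, ← hn, zpow_natCast]⟩
    · obtain ⟨n, rfl⟩ : ∃ n : ℕ, (n : ℤ) = d := ⟨_, Int.toNat_of_nonneg hd.le⟩
      obtain ⟨r, hr⟩ := hdiv n _ (SetLike.coe_mem (DirectSum.decompose 𝒜 a (n : ℤ)))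
      refine ⟨r, ?_⟩
      rw [hr, map_mul, map_pow, zpow_neg, zpow_natCast, mul_comm (j ϖ ^ n), mul_assoc,
        mul_inv_cancel₀ (pow_ne_zero _ hj), mul_one]
  choose g hg using hGr
  have hjinj : Function.Injective j := IsFractionRing.injective R' K'
  let gh : A →+* R' :=
    { toFun := g
      map_one' := hjinj (by rw [hg, map_one, map_one])
      map_mul' := fun a b => hjinj (by rw [hg, map_mul, map_mul, hg, hg])
      map_zero' := hjinj (by rw [hg, map_zero, map_zero])
      map_add' := fun a b => hjinj (by rw [hg, map_add, map_add, hg, hg]) }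
  have hmain : ∀ (d : ℤ) (a : A), a ∈ 𝒜 d → j (gh a) * (j ϖ) ^ d = j (φ' a) := by
    intro d a ha
    show j (g a) * _ = _
    rw [hg, hG d a ha, mul_assoc, ← zpow_add₀ hj, neg_add_cancel, zpow_zero, mul_one]
  refine ⟨R', inferInstance, inferInstance, inferInstance, K', inferInstance, inferInstance, inferInstance,
    inferInstance, inferInstance, inferInstance, inferInstance, inferInstance, inferInstance, inferInstance,
    ϖ, gh, hϖ0, hmR' ▸ Ideal.pow_mem_of_mem _ (Ideal.mem_span_singleton_self ρ) _ hk0, hmain, ?_⟩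
  refine Ideal.eq_top_of_isUnit_mem _ (Ideal.mem_map_of_mem gh (Ideal.subset_span (hTS a₀.2))) ?_
  have h1 : gh a₀ * ϖ ^ (deg a₀).toNat = φ' a₀ := hjinj (by
    rw [map_mul, map_pow, ← hmain _ _ (hdegm a₀), ← zpow_natCast, Int.toNat_of_nonneg (hdeg0 a₀).le])
  rw [hv a₀ ha₀.2, show ϖ ^ (deg a₀).toNat = ρ ^ (N * v a₀) by rw [← pow_mul, hkeq]] at h1
  rw [mul_right_cancel₀ (pow_ne_zero _ hρ0) h1]
  exact (u a₀).isUnit

end Groth.Agent.S14123
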