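import Groth.Statements.S14124
import Groth.Agent.Lib.AVAmpleVan
import Groth.Agent.H23.MaxAbelian

set_option autoImplicit false
set_option backward.isDefEq.respectTransparency false
set_option backward.isDefEq.respectTransparency.types false
set_option linter.style.haveILetI false
set_option linter.unusedSectionVars false
set_option maxHeartbeats 400000
universe u
open CategoryTheory CategoryTheory.Limits MonoidalCategory CartesianMonoidalCategory MonObj GrpObj AlgebraicGeometry
open AbVar

namespace Groth.Agent.S14124

/-- Let k be an algebraically closed field, A an abelian variety over k (a proper smooth k-group scheme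
with geometrically connected fibres) and L an ample invertible O_A-module. Then the cohomology
groups H^j(A, L) vanish for all j > 0, and H^0(A, L) is non-zero. -/
theorem result (k : Type u) [Field k] [IsAlgClosed k]
    (A : Over (Spec (CommRingCat.of k))) [GrpObj A] [IsProper A.hom] [Smooth A.hom] [GeometricallyConnected A.hom]
    (L : A.left.Modules) (hLa : CohB1.IsAmple L) :
    (∀ j : ℕ, 0 < j → Subsingleton (Coh.HH A.left L j)) ∧ Nontrivial (Coh.HH A.left L 0) := by
  haveI : GeometricallyReduced A.hom := Groth.Agent.H23.RigidGamma.geometricallyReduced_of_smooth A.hom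
  haveI : ConnectedSpace A.left := GeometricallyConnected.connectedSpace_of_subsingleton A.hom
  haveI : GeometricallyIntegral A.hom := Groth.Agent.H23.MaxAbelian.geometricallyIntegral_of_connected A
  have hv := fun j hj => Groth.Agent.AVAmpleVan.subsingleton_HH_of_isAmple (A := A) hLa j hj
  refine ⟨hv, ?_⟩
  obtain ⟨i, hi⟩ := Groth.Agent.AVAmpleVan.exists_nontrivial_HH hLa.1 (Groth.Agent.S12002.result k A L hLa)
  rcases Nat.eq_zero_or_pos i with rfl | h
  · exact not_subsingleton_iff_nontrivial.1 hi
  · exact absurd (hv i h) hi

end Groth.Agent.S14124
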