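import Groth.Statements.S14125
import Groth.Agent.Lib.AVPoincareD
import Groth.Agent.Lib.DerivedBC
import Groth.Agent.Lib.DerivedProj
import Groth.Agent.Lib.AVDual

set_option autoImplicit false
set_option backward.isDefEq.respectTransparency false
set_option backward.isDefEq.respectTransparency.types false
set_option linter.style.haveILetI false
set_option linter.unusedSectionVars false
set_option maxHeartbeats 400000
universe u
open CategoryTheory CategoryTheory.Limits MonoidalCategory CartesianMonoidalCategory MonObj GrpObj AlgebraicGeometry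
attribute [local instance] HasDerivedCategory.standard
open AbVar

namespace Groth.Agent.S14125

set_option maxHeartbeats 1600000
open Groth.Agent.H23 Groth.Agent.AVPair
open Groth.Agent.Lib
open scoped Groth.Agent.H23.PicMul
open CategoryTheory.Limits

namespace Aux

variable {k : Type u} [Field k]

theorem isPullback_whiskerLeft (A : Over (Spec (CommRingCat.of k))) {S T : Over (Spec (CommRingCat.of k))} (g : S ⟶ T) :
    IsPullback (A ◁ g).left (snd A S).left (snd A T).left g.left := by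
  have t : IsPullback (fst A T).left (snd A T).left A.hom T.hom := IsPullback.of_hasPullback A.hom T.hom
  refine IsPullback.of_right ?_ ?_ t
  · rw [← Over.comp_left, whiskerLeft_fst, Over.w g]
    exact IsPullback.of_hasPullback A.hom S.hom
  · rw [← Over.comp_left, ← Over.comp_left, whiskerLeft_snd]

variable (A B : Over (Spec (CommRingCat.of k))) [GrpObj A]

/-- `(x, b, y) ↦ (x * y, b)` and `(x, y)`. -/
theorem isPullback_nu :
    IsPullback (lift (fst A (B ⊗ A) * (snd A (B ⊗ A) ≫ snd B A)) (snd A (B ⊗ A) ≫ fst B A)).left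
      (lift (fst A (B ⊗ A)) (snd A (B ⊗ A) ≫ snd B A)).left (fst A B).left μ[A].left := by
  have hm : μ[A] = fst A A * snd A A := by rw [Hom.mul_def, lift_fst_snd, Category.id_comp]
  have gen : ∀ (ν : A ⊗ (B ⊗ A) ⟶ A ⊗ B) (π : A ⊗ (B ⊗ A) ⟶ A ⊗ A),
      ν ≫ fst A B = fst A (B ⊗ A) * (snd A (B ⊗ A) ≫ snd B A) → ν ≫ snd A B = snd A (B ⊗ A) ≫ fst B A →
      π ≫ fst A A = fst A (B ⊗ A) → π ≫ snd A A = snd A (B ⊗ A) ≫ snd B A →
      IsPullback ν π (fst A B) μ[A] := by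
    intro ν π n1 n2 p1 p2
    refine IsPullback.of_isLimit (PullbackCone.IsLimit.mk (by rw [n1, hm, MonObj.comp_mul, p1, p2])
      (fun s => lift (s.snd ≫ fst A A) (lift (s.fst ≫ snd A B) (s.snd ≫ snd A A)))
      (fun s => ?_) (fun s => ?_) (fun s m h1 h2 => ?_))
    · refine CartesianMonoidalCategory.hom_ext _ _ ?_ ?_
      · rw [Category.assoc, n1, MonObj.comp_mul, lift_fst, lift_snd_assoc, lift_snd, ← MonObj.comp_mul, ← hm]
        exact s.condition.symm
      · rw [Category.assoc, n2, lift_snd_assoc, lift_fst]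
    · refine CartesianMonoidalCategory.hom_ext _ _ ?_ ?_
      · rw [Category.assoc, p1, lift_fst]
      · rw [Category.assoc, p2, lift_snd_assoc, lift_snd]
    · refine CartesianMonoidalCategory.hom_ext _ _ ?_ (CartesianMonoidalCategory.hom_ext _ _ ?_ ?_)
      · rw [lift_fst, ← h2, Category.assoc, p1]
      · rw [lift_snd, lift_fst, ← h1, Category.assoc, Category.assoc, n2]
      · rw [lift_snd, lift_snd, ← h2, Category.assoc, Category.assoc, p2]
  exact (gen _ _ (lift_fst _ _) (lift_snd _ _) (lift_fst _ _) (lift_snd _ _)).map (Over.forget _)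

/-- The antidiagonal is the fibre of the multiplication at the origin. -/
theorem isPullback_anti :
    IsPullback (lift (𝟙 A) (𝟙 A)⁻¹).left A.hom μ[A].left η[A].left := by
  have hm : μ[A] = fst A A * snd A A := by rw [Hom.mul_def, lift_fst_snd, Category.id_comp]
  have gen : ∀ (j : A ⟶ A ⊗ A), j ≫ fst A A = 𝟙 A → j ≫ snd A A = (𝟙 A)⁻¹ →
      IsPullback j (toUnit A) μ[A] η[A] := by
    intro j j1 j2
    refine IsPullback.of_isLimit (PullbackCone.IsLimit.mk (by
        rw [hm, MonObj.comp_mul, j1, j2, mul_inv_cancel, Hom.one_def]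
        exact congrArg (· ≫ η[A]) (toUnit_unique _ _))
      (fun s => s.fst ≫ fst A A) (fun s => ?_) (fun s => toUnit_unique _ _) (fun s m h1 h2 => ?_))
    · have hc : (s.fst ≫ fst A A) * (s.fst ≫ snd A A) = 1 := by
        rw [← MonObj.comp_mul, ← hm, s.condition, Hom.one_def, toUnit_unique s.snd (toUnit _)]
      refine CartesianMonoidalCategory.hom_ext _ _ ?_ ?_
      · rw [Category.assoc, j1, Category.comp_id]
      · rw [Category.assoc, j2, GrpObj.comp_inv, Category.comp_id, inv_eq_of_mul_eq_one_right hc]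
    · rw [← h1, Category.assoc, j1, Category.comp_id]
  exact (gen _ (lift_fst _ _) (lift_snd _ _)).map (Over.forget _)

theorem inv_comp_inv : (𝟙 A)⁻¹ ≫ (𝟙 A)⁻¹ = 𝟙 A := by
  rw [GrpObj.comp_inv, Category.comp_id, _root_.inv_inv]

theorem isPullback_mul : IsPullback μ[A].left (snd A A).left A.hom A.hom := by
  have hm : μ[A] = fst A A * snd A A := by rw [Hom.mul_def, lift_fst_snd, Category.id_comp]
  let σ : A ⊗ A ≅ A ⊗ A :=
    { hom := lift μ[A] (snd A A)
      inv := lift (fst A A * (snd A A)⁻¹) (snd A A)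
      hom_inv_id := by
        rw [comp_lift, MonObj.comp_mul, GrpObj.comp_inv, lift_fst, lift_snd, hm, mul_inv_cancel_right, lift_fst_snd]
      inv_hom_id := by
        rw [comp_lift, hm, MonObj.comp_mul, lift_fst, lift_snd, inv_mul_cancel_right, lift_fst_snd] }
  refine IsPullback.of_iso_pullback ⟨?_⟩ ((Over.forget _).mapIso σ) ?_ ?_
  · exact (Over.w μ[A]).trans (Over.w (snd A A)).symm
  · show (lift μ[A] (snd A A)).left ≫ (fst A A).left = _
    rw [← Over.comp_left, lift_fst]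
  · show (lift μ[A] (snd A A)).left ≫ (snd A A).left = _
    rw [← Over.comp_left, lift_snd]

end Aux

/-- Let k be a field, A an abelian variety over k (a proper smooth k-group scheme with geometrically
connected fibres) of dimension g, (A^t, φ) a given dual abelian variety of A for the fppf topology
with A^t itself an abelian variety, and P an invertible module on A ×_k A^t whose class is a
Poincaré class (it corresponds to the identity of A^t and is rigidified along the unit section of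
A). Let P' be the pullback of P to A^t ×_k A along the swap of factors, and write Φ_P =
Rpr_{2,*}(Lpr_1^*(−) ⊗^L P) : D(O_A) → D(O_{A^t}) and Φ_{P'} : D(O_{A^t}) → D(O_A) for the
Fourier–Mukai functors (the derived functors involved are assumed to exist). Then, restricted to
objects of D(O_A) with quasi-coherent cohomology sheaves, Φ_{P'} ∘ Φ_P is isomorphic to L(−1)^*
followed by the shift [−g] (the functor K ↦ K[−g], moving a complex g places to the right);
existence of an isomorphism of functors. -/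
theorem result (k : Type u) [Field k]
    (A At : Over (Spec (CommRingCat.of k))) [GrpObj A] [IsProper A.hom] [Smooth A.hom] [GeometricallyConnected A.hom]
    [GrpObj At] [IsProper At.hom] [Smooth At.hom] [GeometricallyConnected At.hom]
    (φ : ∀ T : Over (Spec (CommRingCat.of k)), PicF.Cl (PicF.XT A.hom T) → (T ⟶ At))
    (hφ : AbDual.IsDualAV Scheme.fppfPrecoverage A At φ)
    (P : (pullback A.hom At.hom).Modules) (hP : PicF.IsInvertible P)
    (hPξ : AbDual.IsPoincareCl A At φ (PicF.cl P))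
    (g : ℕ) (hg : topologicalKrullDim ↥A.left = g)
    [DCoh.HasLpull (pullback.fst A.hom At.hom)] [DCoh.HasLTensorMod P] [DCoh.HasRpush (pullback.snd A.hom At.hom)]
    [DCoh.HasLpull (pullback.fst At.hom A.hom)]
    [DCoh.HasLTensorMod ((Scheme.Modules.pullback (pullbackSymmetry At.hom A.hom).hom).obj P)]
    [DCoh.HasRpush (pullback.snd At.hom A.hom)] [DCoh.HasLpull ((𝟙 A)⁻¹).left] :
    Nonempty (ObjectProperty.ι (DCoh.IsQCohD (X := A.left)) ⋙ (DCoh.Lpull (pullback.fst A.hom At.hom) ⋙ DCoh.LTensorMod P ⋙ DCoh.Rpush (pullback.snd A.hom At.hom)) ⋙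
        (DCoh.Lpull (pullback.fst At.hom A.hom) ⋙
          DCoh.LTensorMod ((Scheme.Modules.pullback (pullbackSymmetry At.hom A.hom).hom).obj P) ⋙
          DCoh.Rpush (pullback.snd At.hom A.hom)) ≅
      ObjectProperty.ι (DCoh.IsQCohD (X := A.left)) ⋙ DCoh.Lpull ((𝟙 A)⁻¹).left ⋙
        shiftFunctor (DCoh.D A.left) (-(g : ℤ))) := by
  haveI := AVDual.geometricallyIntegral_of_smooth A
  haveI := AVDual.geometricallyIntegral_of_smooth At
  obtain ⟨a1, a2⟩ := AVDual.poincare_axes hφ hPξ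
  let gO : A ⊗ (At ⊗ A) ⟶ A ⊗ At := A ◁ fst At A
  let fO : A ⊗ (At ⊗ A) ⟶ At ⊗ A := snd A (At ⊗ A)
  let πO : A ⊗ (At ⊗ A) ⟶ A ⊗ A := lift (fst A (At ⊗ A)) (snd A (At ⊗ A) ≫ snd At A)
  let νO : A ⊗ (At ⊗ A) ⟶ A ⊗ At :=
    lift (fst A (At ⊗ A) * (snd A (At ⊗ A) ≫ snd At A)) (snd A (At ⊗ A) ≫ fst At A)
  let jO : A ⟶ A ⊗ A := lift (𝟙 A) (𝟙 A)⁻¹
  have hcl : pl gO (PicF.cl P : PicF.Cl (A ⊗ At).left) * pl fO (pl (AVSepSwap.sw A At) (PicF.cl P)) =
      pl νO (PicF.cl P : PicF.Cl (A ⊗ At).left) := by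
    refine Eq.trans ?_ (add_left (c := (PicF.cl P : PicF.Cl (A ⊗ At).left)) ⟨P, rfl, hP⟩ a1 a2 (fst A (At ⊗ A))
      (snd A (At ⊗ A) ≫ snd At A) (snd A (At ⊗ A) ≫ fst At A)).symm
    rw [pl_pl, show gO = lift (fst A (At ⊗ A)) (snd A (At ⊗ A) ≫ fst At A) from
        CartesianMonoidalCategory.hom_ext _ _ (by rw [whiskerLeft_fst, lift_fst]) (by rw [whiskerLeft_snd, lift_snd]),
      show fO ≫ AVSepSwap.sw A At = lift (snd A (At ⊗ A) ≫ snd At A) (snd A (At ⊗ A) ≫ fst At A) from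
        comp_lift _ _ _]
  let W : Scheme.{u} := (A ⊗ (At ⊗ A)).left
  let gL : W ⟶ pullback A.hom At.hom := gO.left
  let fL : W ⟶ pullback At.hom A.hom := fO.left
  let πL : W ⟶ pullback A.hom A.hom := πO.left
  let νL : W ⟶ pullback A.hom At.hom := νO.left
  let jL : A.left ⟶ pullback A.hom A.hom := jO.left
  let mL : pullback A.hom A.hom ⟶ A.left := μ[A].left
  let P' : (pullback At.hom A.hom).Modules := (Scheme.Modules.pullback (pullbackSymmetry At.hom A.hom).hom).obj P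
  have hP' : PicF.IsInvertible P' := PicClLib.isInvertible_pullback _ hP
  let Pg : W.Modules := (Scheme.Modules.pullback gL).obj P
  have hPg : PicF.IsInvertible Pg := PicClLib.isInvertible_pullback _ hP
  let Pf : W.Modules := (Scheme.Modules.pullback fL).obj P'
  let Pν : W.Modules := (Scheme.Modules.pullback νL).obj P
  obtain ⟨e⟩ : Nonempty (CohB1.tensorMod Pg Pf ≅ Pν) := (PicGrp.cl_eq_cl_iff (CohB1.tensorMod Pg Pf) Pν).1 (by
    refine Eq.trans ?_ hcl
    show PicF.pullCl gL (PicF.cl P) * PicF.pullCl fL (PicF.pullCl (pullbackSymmetry At.hom A.hom).hom (PicF.cl P)) = _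
    rw [AVDual.swap_eq]
    rfl)
  let q1 := pullback.fst A.hom At.hom
  let q2 := pullback.snd A.hom At.hom
  let b1 := pullback.fst At.hom A.hom
  let b2 := pullback.snd At.hom A.hom
  let s1 := pullback.fst A.hom A.hom
  let s2 := pullback.snd A.hom A.hom
  let k1 : W ⟶ A.left := πL ≫ s1
  let k2 : W ⟶ A.left := πL ≫ s2
  let iL : A.left ⟶ A.left := ((𝟙 A)⁻¹).left
  let eL : (𝟙_ (Over (Spec (CommRingCat.of k)))).left ⟶ A.left := η[A].left
  haveI : DCoh.HasRpush q2 := inferInstanceAs (DCoh.HasRpush (pullback.snd A.hom At.hom))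
  haveI : DCoh.HasLpull q1 := inferInstanceAs (DCoh.HasLpull (pullback.fst A.hom At.hom))
  haveI : DCoh.HasRpush b2 := inferInstanceAs (DCoh.HasRpush (pullback.snd At.hom A.hom))
  haveI : DCoh.HasLpull b1 := inferInstanceAs (DCoh.HasLpull (pullback.fst At.hom A.hom))
  haveI : DCoh.HasLTensorMod P' := inferInstanceAs (DCoh.HasLTensorMod ((Scheme.Modules.pullback (pullbackSymmetry At.hom A.hom).hom).obj P))
  haveI : DCoh.HasLpull iL := inferInstanceAs (DCoh.HasLpull ((𝟙 A)⁻¹).left)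
  haveI := KFlatLib.hasLTensorMod Pg
  haveI := KFlatLib.hasLTensorMod Pf
  haveI := KFlatLib.hasLTensorMod Pν
  haveI := KFlatLib.hasLpull gL
  haveI := KFlatLib.hasLpull πL
  haveI := KFlatLib.hasLpull νL
  haveI := KFlatLib.hasLpull k1
  haveI := KFlatLib.hasLpull s1
  haveI := KFlatLib.hasLpull jL
  haveI := KFlatLib.hasLpull mL
  haveI := KFlatLib.hasLpull A.hom
  haveI := KFlatLib.hasLpull (𝟙 A.left)
  haveI := KFlatLib.hasRpush_scheme fL
  haveI := KFlatLib.hasRpush_scheme k2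
  haveI := KFlatLib.hasRpush_scheme πL
  haveI := KFlatLib.hasRpush_scheme s2
  haveI := KFlatLib.hasRpush_scheme q1
  haveI := KFlatLib.hasRpush_scheme jL
  haveI := KFlatLib.hasRpush_scheme eL
  haveI := KFlatLib.hasRpush_scheme iL
  haveI : Flat q1 := MorphismProperty.pullback_fst (P := @Flat) _ _ inferInstance
  haveI : Flat q2 := MorphismProperty.pullback_snd (P := @Flat) _ _ inferInstance
  have hν : IsPullback νL πL q1 mL := Aux.isPullback_nu A At
  have hj : IsPullback jL A.hom mL eL := Aux.isPullback_anti A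
  haveI : Flat mL := MorphismProperty.of_isPullback (P := @Flat) (Aux.isPullback_mul A).flip inferInstance
  haveI : Flat νL := MorphismProperty.of_isPullback (P := @Flat) hν.flip inferInstance
  haveI : IsClosedImmersion eL := by
    haveI : IsClosedImmersion (eL ≫ A.hom) := by
      rw [Over.w η[A]]; exact inferInstanceAs (IsClosedImmersion (𝟙 _))
    exact IsClosedImmersion.of_comp eL A.hom
  haveI : IsClosedImmersion jL := MorphismProperty.of_isPullback (P := @IsClosedImmersion) hj.flip inferInstance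
  haveI : IsProper q1 := MorphismProperty.pullback_fst (P := @IsProper) _ _ inferInstance
  haveI : IsProper πL := MorphismProperty.of_isPullback (P := @IsProper) hν inferInstance
  -- base change along the middle factor
  obtain ⟨bc⟩ := DerivedBC.nonempty_baseChange_of_flat (f := q2) (g := b1) (f' := fL) (g' := gL)
    (Aux.isPullback_whiskerLeft A (fst At A))
  let w := DerivedBC.whiskerQ (DCoh.Lpull q1 ⋙ DCoh.LTensorMod P)
    (fun E hE => DerivedBC.isQCohD_ltensorMod_of_invertible hP (KFlatLib.isQCohD_lpull q1 hE)) bc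
  obtain ⟨p⟩ := DerivedNat.nonempty_projection fL hP' (N' := Pf) (Iso.refl _)
  obtain ⟨b⟩ := DerivedNat.nonempty_lpull_tensor gL (DerivedNat.isFlat_of_invertible hP) (M' := Pg) (Iso.refl _)
  obtain ⟨tt⟩ := DerivedNat.nonempty_tensor_tensor (N := Pf) (DerivedNat.isFlat_of_invertible hPg) e
  obtain ⟨c1⟩ := KExact.A1Shriek.nonempty_lpull_comp' gL q1 k1 (by
    show gO.left ≫ (fst A At).left = πO.left ≫ (fst A A).left
    rw [← Over.comp_left, ← Over.comp_left, whiskerLeft_fst, lift_fst])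
  obtain ⟨c1'⟩ := KExact.A1Shriek.nonempty_lpull_comp' πL s1 k1 rfl
  obtain ⟨c2⟩ := DerivedNat.nonempty_rpush_comp' fL b2 k2 (by
    show fO.left ≫ (snd At A).left = πO.left ≫ (snd A A).left
    rw [← Over.comp_left, ← Over.comp_left, lift_snd])
  obtain ⟨c2'⟩ := DerivedNat.nonempty_rpush_comp' πL s2 k2 rfl
  -- the kernel on the square
  let M : CochainComplex W.Modules ℤ := (HomologicalComplex.single W.Modules (ComplexShape.up ℤ) 0).obj Pν
  let eM : DerivedCategory.Q.obj M ≅ DCoh.inD W Pν :=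
    ((DerivedCategory.singleFunctorIsoCompQ W.Modules 0).app Pν).symm
  have hM : DCoh.IsQCohD (DerivedCategory.Q.obj M) := KFlatLib.isQCohD_of_iso eM.symm
    (KFlatLib.isQCohD_inD_of_isQCoh (ProjUPX.isQCoh_of_isInvertible (PicClLib.isInvertible_pullback _ hP)))
  let O : A.left.Modules := Coh.structureModule A.left
  let M' : CochainComplex A.left.Modules ℤ := (HomologicalComplex.single A.left.Modules (ComplexShape.up ℤ) (g : ℤ)).obj O
  obtain ⟨sh⟩ := AVPoincareD.nonempty_single_shift O (g : ℤ)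
  let eM' : DerivedCategory.Q.obj M' ≅ (DCoh.inD A.left O)⟦-(g : ℤ)⟧ :=
    ((DerivedCategory.singleFunctorIsoCompQ A.left.Modules (g : ℤ)).app O).symm ≪≫ sh
  have hO : DCoh.IsQCohD (DCoh.inD A.left O) := KFlatLib.isQCohD_inD_of_isQCoh QCoh.isQCoh_structureModule
  have hM' : DCoh.IsQCohD (DerivedCategory.Q.obj M') :=
    KFlatLib.isQCohD_of_iso eM'.symm (KFlatLib.isQCohD_shift hO _)
  let pt : Scheme.{u} := (𝟙_ (Over (Spec (CommRingCat.of k)))).left
  let aL : A.left ⟶ pt := A.hom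
  haveI := KFlatLib.hasLpull aL
  haveI : DCoh.HasRpush aL := KFlatLib.hasRpush_scheme aL
  have hpt : DCoh.IsQCohD (DCoh.inD pt (Coh.structureModule pt)) :=
    KFlatLib.isQCohD_inD_of_isQCoh QCoh.isQCoh_structureModule
  have hPq : DCoh.IsQCohD (DCoh.inD _ P) :=
    KFlatLib.isQCohD_inD_of_isQCoh (ProjUPX.isQCoh_of_isInvertible hP)
  obtain ⟨bν⟩ := DerivedBC.nonempty_baseChange_of_flat (f := q1) (g := mL) (f' := πL) (g' := νL) hν
  obtain ⟨bj⟩ := DerivedBC.nonempty_baseChange_of_flat_right (f := eL) (g := mL) (f' := jL) (g' := aL) hj.flip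
  obtain ⟨iν⟩ := KFlatLib.nonempty_lpull_inD_of_flat νL P
  obtain ⟨sky⟩ := AVPoincareD.nonempty_rpush_fst hφ hP hPξ hg
  obtain ⟨sl⟩ := KExact.ShriekFormula.nonempty_lpull_shift mL (-(g : ℤ))
  obtain ⟨sj⟩ := DerivedProj.nonempty_rpush_shift jL (-(g : ℤ))
  haveI : Flat aL := inferInstanceAs (Flat A.hom)
  obtain ⟨u₁⟩ := KFlatLib.nonempty_lpull_inD_of_flat aL (Coh.structureModule pt)
  obtain ⟨u₂⟩ := PicClLib.nonempty_pullback_structureModule aL
  let uO : DCoh.inD A.left O ≅ (DCoh.Lpull aL).obj (DCoh.inD pt (Coh.structureModule pt)) :=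
    (DerivedCategory.singleFunctor _ 0).mapIso u₂.symm ≪≫ u₁.symm
  let K : DCoh.D (pullback A.hom A.hom) := (DCoh.Rpush πL).obj (DerivedCategory.Q.obj M)
  let eK : (DCoh.Rpush jL).obj (DerivedCategory.Q.obj M') ≅ K :=
    (DCoh.Rpush jL).mapIso eM' ≪≫ sj.app _ ≪≫
    (shiftFunctor _ (-(g : ℤ))).mapIso ((DCoh.Rpush jL).mapIso uO ≪≫ (bj.app ⟨_, hpt⟩).symm) ≪≫
    (sl.app _).symm ≪≫ (DCoh.Lpull mL).mapIso sky.symm ≪≫ bν.app ⟨_, hPq⟩ ≪≫
    (DCoh.Rpush πL).mapIso (iν ≪≫ eM.symm)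
  let R := DerivedCategory.Q.objPreimage K
  let eR := DerivedCategory.Q.objObjPreimageIso K
  obtain ⟨k₁⟩ := DerivedProj.nonempty_proj πL M hM R eR
  obtain ⟨k₂⟩ := DerivedProj.nonempty_proj jL M' hM' R (eR ≪≫ eK.symm)
  obtain ⟨h₁⟩ := DerivedProj.nonempty_projH_single πL Pν
  obtain ⟨h₂⟩ := DerivedProj.nonempty_projH_unit jL (g : ℤ)
  let ker : ObjectProperty.ι (DCoh.IsQCohD (X := pullback A.hom A.hom)) ⋙
        (DCoh.Lpull πL ⋙ DCoh.LTensorMod Pν) ⋙ DCoh.Rpush πL ≅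
      ObjectProperty.ι (DCoh.IsQCohD (X := pullback A.hom A.hom)) ⋙
        (DCoh.Lpull jL ⋙ shiftFunctor (DCoh.D A.left) (-(g : ℤ))) ⋙ DCoh.Rpush jL :=
    Functor.isoWhiskerLeft _ (Functor.isoWhiskerRight h₁.symm _) ≪≫ k₁.symm ≪≫ k₂ ≪≫
      Functor.isoWhiskerLeft _ (Functor.isoWhiskerRight h₂ _)
  let wk := DerivedBC.whiskerQ (DCoh.Lpull s1) (fun E hE => KFlatLib.isQCohD_lpull s1 hE) ker
  -- the antidiagonal
  obtain ⟨d1⟩ := KExact.A1Shriek.nonempty_lpull_comp' jL s1 (𝟙 A.left) (by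
    show jO.left ≫ (fst A A).left = _
    rw [← Over.comp_left, lift_fst]; rfl)
  obtain ⟨d1'⟩ := KExact.A1Shriek.nonempty_lpull_id (𝟙 A.left) rfl
  obtain ⟨d2⟩ := DerivedNat.nonempty_rpush_comp' jL s2 iL (by
    show jO.left ≫ (snd A A).left = _
    rw [← Over.comp_left, lift_snd])
  have hii : iL ≫ iL = 𝟙 _ := by
    show ((𝟙 A)⁻¹).left ≫ ((𝟙 A)⁻¹).left = _
    rw [← Over.comp_left, Aux.inv_comp_inv]; rfl
  obtain ⟨d3⟩ := DerivedNat.nonempty_rpush_iso_lpull_inv iL iL hii hii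
  obtain ⟨d4⟩ := KExact.ShriekFormula.nonempty_lpull_shift iL (-(g : ℤ))
  let ι' := ObjectProperty.ι (DCoh.IsQCohD (X := A.left))
  let m₁ : DCoh.Lpull gL ⋙ DCoh.Rpush fL ⋙ DCoh.LTensorMod P' ⋙ DCoh.Rpush b2 ≅
      DCoh.Lpull gL ⋙ DCoh.LTensorMod Pf ⋙ DCoh.Rpush k2 :=
    Functor.isoWhiskerLeft (DCoh.Lpull gL)
      (Functor.isoWhiskerRight p.symm (DCoh.Rpush b2) ≪≫ Functor.isoWhiskerLeft (DCoh.LTensorMod Pf) c2)
  let m₂ : DCoh.LTensorMod P ⋙ DCoh.Lpull gL ⋙ DCoh.LTensorMod Pf ⋙ DCoh.Rpush k2 ≅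
      DCoh.Lpull gL ⋙ DCoh.LTensorMod Pν ⋙ DCoh.Rpush k2 :=
    Functor.isoWhiskerRight b (DCoh.LTensorMod Pf ⋙ DCoh.Rpush k2) ≪≫
      Functor.isoWhiskerLeft (DCoh.Lpull gL) (Functor.isoWhiskerRight tt (DCoh.Rpush k2))
  let m₃ : DCoh.Lpull q1 ⋙ DCoh.Lpull gL ⋙ DCoh.LTensorMod Pν ⋙ DCoh.Rpush k2 ≅
      DCoh.Lpull s1 ⋙ ((DCoh.Lpull πL ⋙ DCoh.LTensorMod Pν) ⋙ DCoh.Rpush πL) ⋙ DCoh.Rpush s2 :=
    Functor.isoWhiskerRight (c1 ≪≫ c1'.symm) (DCoh.LTensorMod Pν ⋙ DCoh.Rpush k2) ≪≫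
      Functor.isoWhiskerLeft (DCoh.Lpull s1 ⋙ DCoh.Lpull πL ⋙ DCoh.LTensorMod Pν) c2'.symm
  let m₄ : DCoh.Lpull s1 ⋙ ((DCoh.Lpull jL ⋙ shiftFunctor (DCoh.D A.left) (-(g : ℤ))) ⋙ DCoh.Rpush jL) ⋙
      DCoh.Rpush s2 ≅ DCoh.Lpull iL ⋙ shiftFunctor (DCoh.D A.left) (-(g : ℤ)) :=
    Functor.isoWhiskerRight (d1 ≪≫ d1') (shiftFunctor (DCoh.D A.left) (-(g : ℤ)) ⋙ DCoh.Rpush jL ⋙ DCoh.Rpush s2) ≪≫
      Functor.leftUnitor _ ≪≫ Functor.isoWhiskerLeft _ (d2 ≪≫ d3) ≪≫ d4
  let step : ι' ⋙ (DCoh.Lpull q1 ⋙ DCoh.LTensorMod P ⋙ DCoh.Rpush q2) ⋙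
      (DCoh.Lpull b1 ⋙ DCoh.LTensorMod P' ⋙ DCoh.Rpush b2) ≅
      (ι' ⋙ DCoh.Lpull s1 ⋙ (DCoh.Lpull πL ⋙ DCoh.LTensorMod Pν) ⋙ DCoh.Rpush πL) ⋙ DCoh.Rpush s2 :=
    Functor.isoWhiskerRight w (DCoh.LTensorMod P' ⋙ DCoh.Rpush b2) ≪≫
      (Functor.isoWhiskerLeft ι'
        (Functor.isoWhiskerLeft (DCoh.Lpull q1 ⋙ DCoh.LTensorMod P) m₁ ≪≫
          Functor.isoWhiskerLeft (DCoh.Lpull q1) m₂ ≪≫ m₃) :)
  exact ⟨step ≪≫ Functor.isoWhiskerRight wk (DCoh.Rpush s2) ≪≫ (Functor.isoWhiskerLeft ι' m₄ :)⟩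

end Groth.Agent.S14125
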