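import Groth.Statements.S14126
import Groth.Agent.Lib.AVMukai
import Groth.Agent.KExact.ShriekFormula
import Groth.Agent.KExact.BCNat

set_option autoImplicit false
set_option backward.isDefEq.respectTransparency false
set_option backward.isDefEq.respectTransparency.types false
set_option linter.style.haveILetI false
set_option linter.unusedSectionVars false
set_option maxHeartbeats 400000
universe u
open CategoryTheory CategoryTheory.Limits MonoidalCategory CartesianMonoidalCategory MonObj GrpObj AlgebraicGeometry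
attribute [local instance] HasDerivedCategory.standard
open AbVar

namespace Groth.Agent.S14126

set_option maxHeartbeats 1600000
open Groth.Agent.H23 Groth.Agent.AVPair
open Groth.Agent.Lib
open scoped Groth.Agent.H23.PicMul
open CategoryTheory.Limits

namespace Aux

theorem isEquivalence_of_both {C D : Type*} [Category C] [Category D] (F : C ⥤ D) (G : D ⥤ C)
    [(F ⋙ G).IsEquivalence] [(G ⋙ F).IsEquivalence] : F.IsEquivalence := by
  haveI : F.Faithful := Functor.Faithful.of_comp F G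
  haveI : G.Faithful := Functor.Faithful.of_comp G F
  haveI : F.Full := Functor.Full.of_comp_faithful F G
  haveI : F.EssSurj := ⟨fun Y => ⟨G.obj ((G ⋙ F).objPreimage Y), ⟨(G ⋙ F).objObjPreimageIso Y⟩⟩⟩
  exact { }

variable {X : Scheme.{u}}

/-- Inversion followed by a shift is an autoequivalence. -/
theorem exists_auto (i : X ⟶ X) (hi : i ≫ i = 𝟙 X) [DCoh.HasLpull i] (n : ℤ) :
    ∃ E : DCoh.DQCoh X ⥤ DCoh.DQCoh X, E.IsEquivalence ∧
      Nonempty (E ⋙ ObjectProperty.ι _ ≅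
        ObjectProperty.ι (DCoh.IsQCohD (X := X)) ⋙ DCoh.Lpull i ⋙ shiftFunctor (DCoh.D X) (-n)) := by
  haveI := KFlatLib.hasLpull (𝟙 X)
  let ι' := ObjectProperty.ι (DCoh.IsQCohD (X := X))
  let E : DCoh.DQCoh X ⥤ DCoh.DQCoh X := ObjectProperty.lift _ (ι' ⋙ DCoh.Lpull i ⋙ shiftFunctor (DCoh.D X) (-n))
    fun K => KFlatLib.isQCohD_shift (KFlatLib.isQCohD_lpull i K.property) _
  let E' : DCoh.DQCoh X ⥤ DCoh.DQCoh X := ObjectProperty.lift _ (ι' ⋙ shiftFunctor (DCoh.D X) n ⋙ DCoh.Lpull i)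
    fun K => KFlatLib.isQCohD_lpull i (KFlatLib.isQCohD_shift K.property _)
  obtain ⟨a⟩ := KExact.A1Shriek.nonempty_lpull_comp' i i (𝟙 X) hi
  obtain ⟨a'⟩ := KExact.A1Shriek.nonempty_lpull_id (𝟙 X) rfl
  let s : shiftFunctor (DCoh.D X) (-n) ⋙ shiftFunctor (DCoh.D X) n ≅ 𝟭 _ :=
    (shiftFunctorAdd' (DCoh.D X) (-n) n 0 (by omega)).symm ≪≫ shiftFunctorZero _ _
  let s' : shiftFunctor (DCoh.D X) n ⋙ shiftFunctor (DCoh.D X) (-n) ≅ 𝟭 _ :=
    (shiftFunctorAdd' (DCoh.D X) n (-n) 0 (by omega)).symm ≪≫ shiftFunctorZero _ _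
  let e₁ : E ⋙ E' ≅ 𝟭 _ := KExact.BCNat.liftIso (Functor.isoWhiskerLeft ι'
    (Functor.isoWhiskerLeft (DCoh.Lpull i) (Functor.isoWhiskerRight s (DCoh.Lpull i)) ≪≫ a ≪≫ a') ≪≫
      Functor.rightUnitor _ ≪≫ (Functor.leftUnitor _).symm :)
  let e₂ : E' ⋙ E ≅ 𝟭 _ := KExact.BCNat.liftIso (Functor.isoWhiskerLeft ι'
    (Functor.isoWhiskerLeft (shiftFunctor (DCoh.D X) n) (Functor.isoWhiskerRight (a ≪≫ a') (shiftFunctor (DCoh.D X) (-n)))
      ≪≫ s') ≪≫ Functor.rightUnitor _ ≪≫ (Functor.leftUnitor _).symm :)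
  exact ⟨E, (CategoryTheory.Equivalence.mk E E' e₁.symm e₂).isEquivalence_functor, ⟨Iso.refl _⟩⟩

end Aux

/-- Let k be a field, A an abelian variety over k (a proper smooth k-group scheme with geometrically
connected fibres), (A^t, φ) a given dual abelian variety of A for the fppf topology with A^t itself
an abelian variety, and P an invertible module on A ×_k A^t whose class is a Poincaré class. Assume
the derived functors Lpr_1^*, − ⊗^L P and Rpr_{2,*} exist and that Φ_P = Rpr_{2,*}(Lpr_1^*(−) ⊗^L P)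
sends objects of D(O_A) with quasi-coherent cohomology sheaves to objects of D(O_{A^t}) with
quasi-coherent cohomology sheaves. Then the induced functor D_QCoh(O_A) → D_QCoh(O_{A^t}) is an
equivalence of categories. -/
theorem result (k : Type u) [Field k]
    (A At : Over (Spec (CommRingCat.of k))) [GrpObj A] [IsProper A.hom] [Smooth A.hom] [GeometricallyConnected A.hom]
    [GrpObj At] [IsProper At.hom] [Smooth At.hom] [GeometricallyConnected At.hom]
    (φ : ∀ T : Over (Spec (CommRingCat.of k)), PicF.Cl (PicF.XT A.hom T) → (T ⟶ At))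
    (hφ : AbDual.IsDualAV Scheme.fppfPrecoverage A At φ)
    (P : (pullback A.hom At.hom).Modules) (hP : PicF.IsInvertible P)
    (hPξ : AbDual.IsPoincareCl A At φ (PicF.cl P))
    [DCoh.HasLpull (pullback.fst A.hom At.hom)] [DCoh.HasLTensorMod P] [DCoh.HasRpush (pullback.snd A.hom At.hom)]
    (h : ∀ M : DCoh.D A.left, DCoh.IsQCohD M → DCoh.IsQCohD ((DCoh.Lpull (pullback.fst A.hom At.hom) ⋙ DCoh.LTensorMod P ⋙ DCoh.Rpush (pullback.snd A.hom At.hom)).obj M)) :
    (ObjectProperty.lift (DCoh.IsQCohD (X := At.left))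
        (ObjectProperty.ι (DCoh.IsQCohD (X := A.left)) ⋙ (DCoh.Lpull (pullback.fst A.hom At.hom) ⋙ DCoh.LTensorMod P ⋙ DCoh.Rpush (pullback.snd A.hom At.hom)))
        (fun M => h M.obj M.property)).IsEquivalence := by
  haveI := AVDual.geometricallyIntegral_of_smooth A
  haveI := AVDual.geometricallyIntegral_of_smooth At
  obtain ⟨g, hg⟩ := AVTors.exists_dimNat A
  have hgAt := AVPoincare.dim_eq hφ hg
  let P' : (pullback At.hom A.hom).Modules := (Scheme.Modules.pullback (AVSepSwap.sw A At).left).obj P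
  have hP' : PicF.IsInvertible P' := PicClLib.isInvertible_pullback _ hP
  haveI := KFlatLib.hasLpull (pullback.fst At.hom A.hom)
  haveI := KFlatLib.hasRpush_scheme (pullback.snd At.hom A.hom)
  haveI := KFlatLib.hasLTensorMod P'
  haveI := KFlatLib.hasLpull ((𝟙 A)⁻¹).left
  haveI := KFlatLib.hasLpull ((𝟙 At)⁻¹).left
  obtain ⟨e₁⟩ := AVMukai.nonempty_comp A At P hP (AVSepSwap.sep_swap hφ hPξ) g hg hgAt P' rfl
  have hback : (PicF.cl P : PicF.Cl (A ⊗ At).left) = pl (AVSepSwap.sw At A) (PicF.cl P' : PicF.Cl (At ⊗ A).left) := by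
    show _ = pl (AVSepSwap.sw At A) (pl (AVSepSwap.sw A At) (PicF.cl P : PicF.Cl (A ⊗ At).left))
    rw [pl_pl, AVSepSwap.sw_sw, pl_id]
  obtain ⟨e₂⟩ := AVMukai.nonempty_comp At A P' hP'
    (hback ▸ AVPoincare.sep_of_dual hφ hPξ) g hgAt hg P hback
  let F := ObjectProperty.lift (DCoh.IsQCohD (X := At.left))
    (ObjectProperty.ι (DCoh.IsQCohD (X := A.left)) ⋙ (DCoh.Lpull (pullback.fst A.hom At.hom) ⋙ DCoh.LTensorMod P ⋙ DCoh.Rpush (pullback.snd A.hom At.hom)))
    (fun M => h M.obj M.property)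
  let G := ObjectProperty.lift (DCoh.IsQCohD (X := A.left))
    (ObjectProperty.ι (DCoh.IsQCohD (X := At.left)) ⋙ (DCoh.Lpull (pullback.fst At.hom A.hom) ⋙ DCoh.LTensorMod P' ⋙ DCoh.Rpush (pullback.snd At.hom A.hom)))
    (fun M => KFlatLib.isQCohD_rpush _ (DerivedBC.isQCohD_ltensorMod_of_invertible hP'
      (KFlatLib.isQCohD_lpull _ M.property)))
  have hii : ∀ (B : Over (Spec (CommRingCat.of k))) [GrpObj B], ((𝟙 B)⁻¹).left ≫ ((𝟙 B)⁻¹).left = 𝟙 _ := fun B _ => by
    rw [← Over.comp_left, AVMukai.Aux.inv_comp_inv]; rfl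
  obtain ⟨E, hE, ⟨eE⟩⟩ := Aux.exists_auto _ (hii A) (g : ℤ)
  obtain ⟨E', hE', ⟨eE'⟩⟩ := Aux.exists_auto _ (hii At) (g : ℤ)
  let i₁ : F ⋙ G ≅ E := KExact.BCNat.liftIso (e₁ ≪≫ eE.symm :)
  let i₂ : G ⋙ F ≅ E' := KExact.BCNat.liftIso (e₂ ≪≫ eE'.symm :)
  haveI := hE
  haveI := hE'
  haveI : (F ⋙ G).IsEquivalence := Functor.isEquivalence_of_iso i₁.symm
  haveI : (G ⋙ F).IsEquivalence := Functor.isEquivalence_of_iso i₂.symm
  exact Aux.isEquivalence_of_both F G

end Groth.Agent.S14126
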