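import Groth.Statements.S14127
import Groth.Agent.Lib.AVPoincareGlobal

set_option autoImplicit false
set_option backward.isDefEq.respectTransparency false
set_option backward.isDefEq.respectTransparency.types false
set_option linter.style.haveILetI false
set_option linter.unusedSectionVars false
set_option maxHeartbeats 400000
universe u
open CategoryTheory CategoryTheory.Limits MonoidalCategory CartesianMonoidalCategory MonObj GrpObj AlgebraicGeometry
open AbVar

namespace Groth.Agent.S14127

open Groth.Agent

/-- Let k be a field, A an abelian variety over k (a proper smooth k-group scheme with geometrically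
connected fibres) of dimension g, (A^t, φ) a given dual abelian variety of A for the fppf topology
with A^t itself an abelian variety, and P an invertible module on A ×_k A^t whose class is a
Poincaré class. Then H^i(A ×_k A^t, P) vanishes for every i ≠ g and H^g(A ×_k A^t, P) has dimension
1 over k. Moreover, for the projection pr_2 : A ×_k A^t → A^t, the higher direct images R^i pr_{2,*}
P vanish for i < g, and R^g pr_{2,*} P is isomorphic to the skyscraper e_* O_{Spec k} at the unit e
of A^t (existence of an isomorphism). -/
theorem result (k : Type u) [Field k]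
    (A At : Over (Spec (CommRingCat.of k))) [GrpObj A] [IsProper A.hom] [Smooth A.hom] [GeometricallyConnected A.hom]
    [GrpObj At] [IsProper At.hom] [Smooth At.hom] [GeometricallyConnected At.hom]
    (φ : ∀ T : Over (Spec (CommRingCat.of k)), PicF.Cl (PicF.XT A.hom T) → (T ⟶ At))
    (hφ : AbDual.IsDualAV Scheme.fppfPrecoverage A At φ)
    (P : (pullback A.hom At.hom).Modules) (hP : PicF.IsInvertible P)
    (hPξ : AbDual.IsPoincareCl A At φ (PicF.cl P))
    (g : ℕ) (hg : topologicalKrullDim ↥A.left = g)
    [HasInjectiveResolutions (pullback A.hom At.hom).Modules] :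
    (∀ i : ℕ, i ≠ g → Subsingleton (Coh.HH (pullback A.hom At.hom) P i)) ∧
      @Module.finrank k (Coh.HH (pullback A.hom At.hom) P g) _ _
        (@Coh.moduleOver k _ (pullback A.hom At.hom) ⟨pullback.fst A.hom At.hom ≫ A.hom⟩ P g) = 1 ∧
      (∀ i : ℕ, i < g → IsZero ((Coh.Rpush (pullback.snd A.hom At.hom) i).obj P)) ∧
      Nonempty ((Coh.Rpush (pullback.snd A.hom At.hom) g).obj P ≅
        (Coh.push η[At].left).obj (Coh.structureModule (Spec (CommRingCat.of k)))) := by
  haveI := AVDual.geometricallyIntegral_of_smooth A
  haveI := AVDual.geometricallyIntegral_of_smooth At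
  haveI : HasInjectiveResolutions (A ⊗ At).left.Modules := ‹HasInjectiveResolutions (pullback A.hom At.hom).Modules›
  exact ⟨fun i hi => AVPoincare.subsingleton_HH_of_ne (At := At) hφ hP hPξ hg hi,
    AVPoincare.finrank_HH (At := At) hφ hP hPξ hg,
    fun i hi => AVPoincare.isZero_Rpush (At := At) hφ hP hPξ hg (Nat.ne_of_lt hi),
    AVPoincare.nonempty_skyscraper (At := At) hφ hP hPξ hg⟩

end Groth.Agent.S14127
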