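import Groth.Statements.S14132
import Groth.Agent.Lib.DerivedBC
import Groth.Agent.Lib.DerivedNat
import Groth.Agent.Lib.AVDual
import Groth.Agent.Lib.AbDualBase
import Groth.Agent.Lib.AVPoincare

set_option autoImplicit false
set_option backward.isDefEq.respectTransparency false
set_option backward.isDefEq.respectTransparency.types false
set_option linter.style.haveILetI false
set_option linter.unusedSectionVars false
set_option maxHeartbeats 400000
universe u
open CategoryTheory CategoryTheory.Limits MonoidalCategory CartesianMonoidalCategory MonObj GrpObj AlgebraicGeometry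
attribute [local instance] HasDerivedCategory.standard
open AbVar

namespace Groth.Agent.S14132

set_option maxHeartbeats 1600000
open Groth.Agent.H23 Groth.Agent.AVPair
open Groth.Agent.Lib
open scoped Groth.Agent.H23.PicMul
open CategoryTheory.Limits

namespace Aux

variable {k : Type u} [Field k]

theorem isPullback_whiskerRight {A B : Over (Spec (CommRingCat.of k))} (f : A ⟶ B) (T : Over (Spec (CommRingCat.of k))) :
    IsPullback (fst A T).left (f ▷ T).left f.left (fst B T).left := by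
  have t : IsPullback (snd B T).left (fst B T).left T.hom B.hom := (IsPullback.of_hasPullback B.hom T.hom).flip
  refine (IsPullback.of_right ?_ ?_ t).flip
  · rw [← Over.comp_left, whiskerRight_snd, Over.w f]
    exact (IsPullback.of_hasPullback A.hom T.hom).flip
  · rw [← Over.comp_left, ← Over.comp_left, whiskerRight_fst]

theorem isPullback_whiskerLeft (A : Over (Spec (CommRingCat.of k))) {S T : Over (Spec (CommRingCat.of k))} (g : S ⟶ T) :
    IsPullback (A ◁ g).left (snd A S).left (snd A T).left g.left := by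
  have t : IsPullback (fst A T).left (snd A T).left A.hom T.hom := IsPullback.of_hasPullback A.hom T.hom
  refine IsPullback.of_right ?_ ?_ t
  · rw [← Over.comp_left, whiskerLeft_fst, Over.w g]
    exact IsPullback.of_hasPullback A.hom S.hom
  · rw [← Over.comp_left, ← Over.comp_left, whiskerLeft_snd]

end Aux

/-- Let k be a field, A and B abelian varieties over k (proper smooth k-group schemes with geometrically
connected fibres), f : A → B a homomorphism, (A^t, φ_A) and (B^t, φ_B) given dual abelian varieties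
for the fppf topology (both abelian varieties), P_A on A ×_k A^t and P_B on B ×_k B^t invertible
modules whose classes are Poincaré classes, and f^t : B^t → A^t the transpose of f with respect to
these duals. Write Φ_{P_A} = Rpr_{2,*}(Lpr_1^*(−) ⊗^L P_A) : D(O_A) → D(O_{A^t}) and similarly
Φ_{P_B}; the derived functors involved are assumed to exist. Then, restricted to objects of D(O_A)
with quasi-coherent cohomology sheaves, Φ_{P_B} ∘ Rf_* is isomorphic to L(f^t)^* ∘ Φ_{P_A}
(existence of an isomorphism of functors). -/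
theorem result (k : Type u) [Field k]
    (A At B Bt : Over (Spec (CommRingCat.of k))) [GrpObj A] [IsProper A.hom] [Smooth A.hom] [GeometricallyConnected A.hom]
    [GrpObj At] [IsProper At.hom] [Smooth At.hom] [GeometricallyConnected At.hom]
    [GrpObj B] [IsProper B.hom] [Smooth B.hom] [GeometricallyConnected B.hom]
    [GrpObj Bt] [IsProper Bt.hom] [Smooth Bt.hom] [GeometricallyConnected Bt.hom]
    (φA : ∀ T : Over (Spec (CommRingCat.of k)), PicF.Cl (PicF.XT A.hom T) → (T ⟶ At))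
    (hφA : AbDual.IsDualAV Scheme.fppfPrecoverage A At φA)
    (φB : ∀ T : Over (Spec (CommRingCat.of k)), PicF.Cl (PicF.XT B.hom T) → (T ⟶ Bt))
    (hφB : AbDual.IsDualAV Scheme.fppfPrecoverage B Bt φB)
    (PA : (pullback A.hom At.hom).Modules) (hPA : PicF.IsInvertible PA)
    (hPAξ : AbDual.IsPoincareCl A At φA (PicF.cl PA))
    (PB : (pullback B.hom Bt.hom).Modules) (hPB : PicF.IsInvertible PB)
    (hPBξ : AbDual.IsPoincareCl B Bt φB (PicF.cl PB))
    (f : A ⟶ B) [IsMonHom f] (ft : Bt ⟶ At) (hft : AbDual.IsTranspose f φA φB ft)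
    [DCoh.HasLpull (pullback.fst A.hom At.hom)] [DCoh.HasLTensorMod PA] [DCoh.HasRpush (pullback.snd A.hom At.hom)]
    [DCoh.HasLpull (pullback.fst B.hom Bt.hom)] [DCoh.HasLTensorMod PB] [DCoh.HasRpush (pullback.snd B.hom Bt.hom)]
    [DCoh.HasRpush f.left] [DCoh.HasLpull ft.left] :
    Nonempty (ObjectProperty.ι (DCoh.IsQCohD (X := A.left)) ⋙ DCoh.Rpush f.left ⋙ (DCoh.Lpull (pullback.fst B.hom Bt.hom) ⋙ DCoh.LTensorMod PB ⋙ DCoh.Rpush (pullback.snd B.hom Bt.hom)) ≅
      ObjectProperty.ι (DCoh.IsQCohD (X := A.left)) ⋙ (DCoh.Lpull (pullback.fst A.hom At.hom) ⋙ DCoh.LTensorMod PA ⋙ DCoh.Rpush (pullback.snd A.hom At.hom)) ⋙ DCoh.Lpull ft.left) := by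
  haveI := AVDual.geometricallyIntegral_of_smooth A
  haveI := AVDual.geometricallyIntegral_of_smooth B
  haveI : IsReduced Bt.left := GrpSchLib.isReduced_of_smooth_field Bt.hom
  obtain ⟨a1, -⟩ := AVDual.poincare_axes hφA hPAξ
  obtain ⟨b1, -⟩ := AVDual.poincare_axes hφB hPBξ
  have hcl : pl (A ◁ ft) (PicF.cl PA : PicF.Cl (A ⊗ At).left) = pl (f ▷ Bt) (PicF.cl PB : PicF.Cl (B ⊗ Bt).left) := by
    have hB : AVDual.PZ A Bt (pl (f ▷ Bt) (PicF.cl PB : PicF.Cl (B ⊗ Bt).left)) := AbDualBase.pz_bc f hPBξ.1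
    have hA : AVDual.PZ A Bt (pl (A ◁ ft) (PicF.cl PA : PicF.Cl (A ⊗ At).left)) := AVDual.pz_pl ft hPAξ.1
    refine AVDual.eq_of_phi hφA hA hB ?_ (1 : Bt ⟶ A) ?_
    · rw [AVDual.phi_pl hφA ft hPAξ.1, hPAξ.2.1, Category.comp_id]
      exact ((hft Bt _ hPBξ.1).trans (by rw [hPBξ.2.1, Category.id_comp])).symm
    · rw [pl_pl, pl_pl, lift_whiskerLeft, Category.id_comp, lift_whiskerRight, MonObj.one_comp, b1,
        show lift (1 : Bt ⟶ A) ft = ft ≫ lift (1 : At ⟶ A) (𝟙 At) by
          rw [comp_lift, MonObj.comp_one, Category.comp_id], ← pl_pl, a1, map_one]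
  let fL : pullback A.hom Bt.hom ⟶ pullback B.hom Bt.hom := (f ▷ Bt).left
  let gL : pullback A.hom Bt.hom ⟶ pullback A.hom At.hom := (A ◁ ft).left
  let PA' : (pullback A.hom Bt.hom).Modules := (Scheme.Modules.pullback gL).obj PA
  obtain ⟨e⟩ : Nonempty ((Scheme.Modules.pullback fL).obj PB ≅ PA') :=
    (PicGrp.cl_eq_cl_iff ((Scheme.Modules.pullback fL).obj PB) PA').1 hcl.symm
  let q1 := pullback.fst A.hom At.hom
  let q2 := pullback.snd A.hom At.hom
  let p1 := pullback.fst B.hom Bt.hom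
  let p2 := pullback.snd B.hom Bt.hom
  let r1 := pullback.fst A.hom Bt.hom
  let r2 := pullback.snd A.hom Bt.hom
  haveI : DCoh.HasRpush q2 := inferInstanceAs (DCoh.HasRpush (pullback.snd A.hom At.hom))
  haveI : DCoh.HasLpull q1 := inferInstanceAs (DCoh.HasLpull (pullback.fst A.hom At.hom))
  haveI : DCoh.HasRpush p2 := inferInstanceAs (DCoh.HasRpush (pullback.snd B.hom Bt.hom))
  haveI : DCoh.HasLpull p1 := inferInstanceAs (DCoh.HasLpull (pullback.fst B.hom Bt.hom))
  haveI := KFlatLib.hasLTensorMod PA'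
  haveI := KFlatLib.hasLpull gL
  haveI := KFlatLib.hasLpull r1
  haveI := KFlatLib.hasRpush_scheme fL
  haveI := KFlatLib.hasRpush_scheme r2
  haveI : Flat q2 := MorphismProperty.pullback_snd (P := @Flat) _ _ inferInstance
  haveI : Flat p1 := MorphismProperty.pullback_fst (P := @Flat) _ _ inferInstance
  haveI : IsProper (f.left ≫ B.hom) := by rw [Over.w f]; infer_instance
  haveI : IsProper f.left := IsProper.of_comp f.left B.hom
  obtain ⟨bc1⟩ := DerivedBC.nonempty_baseChange_of_flat_right (f := f.left) (g := p1) (f' := fL) (g' := r1)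
    (Aux.isPullback_whiskerRight f Bt)
  obtain ⟨bc2⟩ := DerivedBC.nonempty_baseChange_of_flat (f := q2) (g := ft.left) (f' := r2) (g' := gL)
    (Aux.isPullback_whiskerLeft A ft)
  obtain ⟨p⟩ := DerivedNat.nonempty_projection fL hPB e
  obtain ⟨c⟩ := DerivedNat.nonempty_rpush_comp' fL p2 r2 (by
    show (f ▷ Bt).left ≫ (snd B Bt).left = (snd A Bt).left
    rw [← Over.comp_left, whiskerRight_snd])
  obtain ⟨b⟩ := DerivedNat.nonempty_lpull_tensor gL (DerivedNat.isFlat_of_invertible hPA) (M' := PA') (Iso.refl _)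
  obtain ⟨a⟩ := KExact.A1Shriek.nonempty_lpull_comp' gL q1 r1 (by
    show (A ◁ ft).left ≫ (fst A At).left = (fst A Bt).left
    rw [← Over.comp_left, whiskerLeft_fst])
  let w := DerivedBC.whiskerQ (DCoh.Lpull q1 ⋙ DCoh.LTensorMod PA)
    (fun E hE => DerivedBC.isQCohD_ltensorMod_of_invertible hPA (KFlatLib.isQCohD_lpull q1 hE)) bc2
  let m : DCoh.Lpull r1 ⋙ DCoh.Rpush fL ⋙ DCoh.LTensorMod PB ⋙ DCoh.Rpush p2 ≅
      DCoh.Lpull q1 ⋙ DCoh.LTensorMod PA ⋙ DCoh.Lpull gL ⋙ DCoh.Rpush r2 :=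
    Functor.isoWhiskerLeft (DCoh.Lpull r1)
      (Functor.isoWhiskerRight p.symm (DCoh.Rpush p2) ≪≫ Functor.isoWhiskerLeft (DCoh.LTensorMod PA') c) ≪≫
    Functor.isoWhiskerRight a.symm (DCoh.LTensorMod PA' ⋙ DCoh.Rpush r2) ≪≫
    Functor.isoWhiskerLeft (DCoh.Lpull q1) (Functor.isoWhiskerRight b.symm (DCoh.Rpush r2))
  let m' : (ObjectProperty.ι (DCoh.IsQCohD (X := A.left)) ⋙ DCoh.Lpull r1 ⋙ DCoh.Rpush fL) ⋙
      DCoh.LTensorMod PB ⋙ DCoh.Rpush p2 ≅
      ObjectProperty.ι (DCoh.IsQCohD (X := A.left)) ⋙ (DCoh.Lpull q1 ⋙ DCoh.LTensorMod PA) ⋙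
        DCoh.Lpull gL ⋙ DCoh.Rpush r2 :=
    Functor.isoWhiskerLeft (ObjectProperty.ι (DCoh.IsQCohD (X := A.left))) m
  exact ⟨Functor.isoWhiskerRight bc1 (DCoh.LTensorMod PB ⋙ DCoh.Rpush p2) ≪≫ m' ≪≫ w.symm⟩

end Groth.Agent.S14132
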