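import Groth.Statements.S14134
import Groth.Agent.Lib.DerivedNat
import Groth.Agent.Lib.AVDual

set_option autoImplicit false
set_option backward.isDefEq.respectTransparency false
set_option backward.isDefEq.respectTransparency.types false
set_option linter.style.haveILetI false
set_option linter.unusedSectionVars false
set_option maxHeartbeats 400000
universe u
open CategoryTheory CategoryTheory.Limits MonoidalCategory CartesianMonoidalCategory MonObj GrpObj AlgebraicGeometry
attribute [local instance] HasDerivedCategory.standard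
open AbVar

namespace Groth.Agent.S14134

set_option maxHeartbeats 1600000
open Groth.Agent.H23 Groth.Agent.AVPair
open Groth.Agent.Lib
open scoped Groth.Agent.H23.PicMul
open CategoryTheory.Limits

namespace Aux

variable {k : Type u} [Field k]

/-- Translation is invertible. -/
theorem trans_trans {G : Over (Spec (CommRingCat.of k))} [GrpObj G] (a b : 𝟙_ (Over (Spec (CommRingCat.of k))) ⟶ G) : (𝟙 G * (toUnit G ≫ a)) ≫ (𝟙 G * (toUnit G ≫ b)) = 𝟙 G * (toUnit G ≫ (a * b)) := by
  rw [MonObj.comp_mul, Category.comp_id, ← Category.assoc, toUnit_unique ((𝟙 G * (toUnit G ≫ a)) ≫ toUnit G) (toUnit G),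
    MonObj.comp_mul, _root_.mul_assoc]

theorem trans_inv {G : Over (Spec (CommRingCat.of k))} [GrpObj G] (a : 𝟙_ (Over (Spec (CommRingCat.of k))) ⟶ G) :
    (𝟙 G * (toUnit G ≫ a)) ≫ (𝟙 G * (toUnit G ≫ a⁻¹)) = 𝟙 G := by
  rw [trans_trans a a⁻¹, mul_inv_cancel, MonObj.comp_one, _root_.mul_one]

theorem trans_inv' {G : Over (Spec (CommRingCat.of k))} [GrpObj G] (a : 𝟙_ (Over (Spec (CommRingCat.of k))) ⟶ G) :
    (𝟙 G * (toUnit G ≫ a⁻¹)) ≫ (𝟙 G * (toUnit G ≫ a)) = 𝟙 G := by
  have := trans_inv a⁻¹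
  rwa [_root_.inv_inv] at this

end Aux

/-- Let k be a field, A an abelian variety over k (a proper smooth k-group scheme with geometrically
connected fibres), (A^t, φ) a given dual abelian variety of A for the fppf topology with A^t an
abelian variety, P an invertible module on A ×_k A^t whose class is a Poincaré class, and x a
k-rational point of A^t. Let M_x be the restriction of P along A = A × {x} → A ×_k A^t, and t_x :
A^t → A^t the translation by x (the product of the identity and the constant map x in the group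
Hom(A^t, A^t)). Write Φ_P = Rpr_{2,*}(Lpr_1^*(−) ⊗^L P) : D(O_A) → D(O_{A^t}); the derived functors
involved are assumed to exist. Then, restricted to objects of D(O_A) with quasi-coherent cohomology
sheaves, the functor F ↦ Φ_P(F ⊗^L M_x) is isomorphic to F ↦ Lt_x^*Φ_P(F) (existence of an
isomorphism of functors). -/
theorem result (k : Type u) [Field k]
    (A At : Over (Spec (CommRingCat.of k))) [GrpObj A] [IsProper A.hom] [Smooth A.hom] [GeometricallyConnected A.hom]
    [GrpObj At] [IsProper At.hom] [Smooth At.hom] [GeometricallyConnected At.hom]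
    (φ : ∀ T : Over (Spec (CommRingCat.of k)), PicF.Cl (PicF.XT A.hom T) → (T ⟶ At))
    (hφ : AbDual.IsDualAV Scheme.fppfPrecoverage A At φ)
    (P : (pullback A.hom At.hom).Modules) (hP : PicF.IsInvertible P)
    (hPξ : AbDual.IsPoincareCl A At φ (PicF.cl P))
    (x : 𝟙_ (Over (Spec (CommRingCat.of k))) ⟶ At)
    [DCoh.HasLpull (pullback.fst A.hom At.hom)] [DCoh.HasLTensorMod P] [DCoh.HasRpush (pullback.snd A.hom At.hom)]
    [DCoh.HasLTensorMod ((Scheme.Modules.pullback (CartesianMonoidalCategory.lift (𝟙 A) (toUnit A ≫ x)).left).obj P)]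
    [DCoh.HasLpull (𝟙 At * (toUnit At ≫ x)).left] :
    Nonempty (ObjectProperty.ι (DCoh.IsQCohD (X := A.left)) ⋙
        DCoh.LTensorMod ((Scheme.Modules.pullback (CartesianMonoidalCategory.lift (𝟙 A) (toUnit A ≫ x)).left).obj P) ⋙
        (DCoh.Lpull (pullback.fst A.hom At.hom) ⋙ DCoh.LTensorMod P ⋙ DCoh.Rpush (pullback.snd A.hom At.hom)) ≅
      ObjectProperty.ι (DCoh.IsQCohD (X := A.left)) ⋙ (DCoh.Lpull (pullback.fst A.hom At.hom) ⋙ DCoh.LTensorMod P ⋙ DCoh.Rpush (pullback.snd A.hom At.hom)) ⋙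
        DCoh.Lpull (𝟙 At * (toUnit At ≫ x)).left) := by
  haveI := AVDual.geometricallyIntegral_of_smooth A
  haveI := AVDual.geometricallyIntegral_of_smooth At
  let t : At ⟶ At := 𝟙 At * (toUnit At ≫ x)
  let ti : At ⟶ At := 𝟙 At * (toUnit At ≫ x⁻¹)
  let h : A ⊗ At ⟶ A ⊗ At := A ◁ t
  let hi : A ⊗ At ⟶ A ⊗ At := A ◁ ti
  have hti : t.left ≫ ti.left = 𝟙 _ := by rw [← Over.comp_left, Aux.trans_inv]; rfl
  have hti' : ti.left ≫ t.left = 𝟙 _ := by rw [← Over.comp_left, Aux.trans_inv']; rfl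
  have hhi : h.left ≫ hi.left = 𝟙 _ := by
    rw [← Over.comp_left, ← whiskerLeft_comp, Aux.trans_inv, whiskerLeft_id]; rfl
  have hhi' : hi.left ≫ h.left = 𝟙 _ := by
    rw [← Over.comp_left, ← whiskerLeft_comp, Aux.trans_inv', whiskerLeft_id]; rfl
  let s : A ⟶ A ⊗ At := lift (𝟙 A) (toUnit A ≫ x)
  let M : A.left.Modules := (Scheme.Modules.pullback s.left).obj P
  have hM : PicF.IsInvertible M := PicClLib.isInvertible_pullback _ hP
  let M' : (pullback A.hom At.hom).Modules := (Scheme.Modules.pullback (fst A At).left).obj M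
  have hM' : PicF.IsInvertible M' := PicClLib.isInvertible_pullback _ hM
  let P' : (pullback A.hom At.hom).Modules := (Scheme.Modules.pullback h.left).obj P
  obtain ⟨h1, h2⟩ := AVDual.poincare_axes hφ hPξ
  have hcl : pl h (PicF.cl P : PicF.Cl (A ⊗ At).left) =
      pl (fst A At) (pl s (PicF.cl P)) * (PicF.cl P : PicF.Cl (A ⊗ At).left) := by
    have hadd := add_right (c := (PicF.cl P : PicF.Cl (A ⊗ At).left)) ⟨P, rfl, hP⟩ h1 h2 (fst A At) (snd A At)
      (toUnit (A ⊗ At) ≫ x)
    rw [lift_fst_snd, pl_id, show snd A At * (toUnit (A ⊗ At) ≫ x) = snd A At ≫ t by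
      rw [MonObj.comp_mul, Category.comp_id, ← Category.assoc, toUnit_unique (snd A At ≫ toUnit At) (toUnit _)]] at hadd
    rw [pl_pl, show fst A At ≫ s = lift (fst A At) (toUnit (A ⊗ At) ≫ x) by
      rw [comp_lift, Category.comp_id, ← Category.assoc, toUnit_unique (fst A At ≫ toUnit A) (toUnit _)],
      _root_.mul_comm, ← hadd]
    congr 2
  obtain ⟨e⟩ := (PicGrp.cl_eq_cl_iff (CohB1.tensorMod M' P) P').1 hcl.symm
  let hL : pullback A.hom At.hom ⟶ pullback A.hom At.hom := h.left
  let hiL : pullback A.hom At.hom ⟶ pullback A.hom At.hom := hi.left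
  haveI := KFlatLib.hasLTensorMod M'
  haveI := KFlatLib.hasLTensorMod P'
  haveI := KFlatLib.hasLpull hL
  haveI := KFlatLib.hasRpush_scheme hiL
  haveI := KFlatLib.hasRpush_scheme ti.left
  let q1 := pullback.fst A.hom At.hom
  let q2 := pullback.snd A.hom At.hom
  haveI : DCoh.HasRpush q2 := inferInstanceAs (DCoh.HasRpush (pullback.snd A.hom At.hom))
  haveI : DCoh.HasLpull q1 := inferInstanceAs (DCoh.HasLpull (pullback.fst A.hom At.hom))
  let k2 : pullback A.hom At.hom ⟶ At.left := q2 ≫ ti.left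
  haveI := KFlatLib.hasRpush_scheme k2
  obtain ⟨a⟩ := DerivedNat.nonempty_lpull_tensor (f := q1) (M' := M') (DerivedNat.isFlat_of_invertible hM) (Iso.refl _)
  obtain ⟨b⟩ := DerivedNat.nonempty_tensor_tensor (N := P) (DerivedNat.isFlat_of_invertible hM') e
  obtain ⟨c⟩ := DerivedNat.nonempty_rpush_iso_lpull_inv ti.left t.left hti' hti
  obtain ⟨d⟩ := DerivedNat.nonempty_rpush_comp' q2 ti.left k2 rfl
  obtain ⟨d'⟩ := DerivedNat.nonempty_rpush_comp' hiL q2 k2 (by
    show hi.left ≫ (snd A At).left = (snd A At).left ≫ ti.left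
    rw [← Over.comp_left, ← Over.comp_left, whiskerLeft_snd])
  obtain ⟨f⟩ := DerivedNat.nonempty_rpush_iso_lpull_inv hiL hL hhi' hhi
  obtain ⟨g⟩ := DerivedNat.nonempty_lpull_tensor (f := hL) (M' := P') (DerivedNat.isFlat_of_invertible hP) (Iso.refl _)
  obtain ⟨i⟩ := KExact.A1Shriek.nonempty_lpull_comp' hL q1 q1 (by
    show h.left ≫ (fst A At).left = (fst A At).left
    rw [← Over.comp_left, whiskerLeft_fst])
  refine ⟨Functor.isoWhiskerLeft _ ?_⟩
  exact Functor.isoWhiskerRight a (DCoh.LTensorMod P ⋙ DCoh.Rpush q2) ≪≫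
    Functor.isoWhiskerLeft (DCoh.Lpull q1) (Functor.isoWhiskerRight b (DCoh.Rpush q2)) ≪≫
    Functor.isoWhiskerRight i.symm (DCoh.LTensorMod P' ⋙ DCoh.Rpush q2) ≪≫
    Functor.isoWhiskerLeft (DCoh.Lpull q1) (Functor.isoWhiskerRight g.symm (DCoh.Rpush q2)) ≪≫
    Functor.isoWhiskerLeft (DCoh.Lpull q1 ⋙ DCoh.LTensorMod P)
      (Functor.isoWhiskerRight f.symm (DCoh.Rpush q2) ≪≫ d' ≪≫ d.symm ≪≫ Functor.isoWhiskerLeft (DCoh.Rpush q2) c)

end Groth.Agent.S14134
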