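import Groth.Statements.S14137
import Groth.Agent.Lib.InvEnd
import Groth.Agent.Lib.CurveStable

set_option autoImplicit false
set_option linter.style.haveILetI false
set_option linter.unusedVariables false
universe u
open CategoryTheory CategoryTheory.Limits AlgebraicGeometry
open VBCurve

namespace Groth.Agent.S14137

open Groth.Agent.CurveBundle Groth.Agent.CurveSlope Groth.Agent.CurveStable

/-- Let C be a smooth proper geometrically connected curve over a field k (proper, smooth and
geometrically connected over k, of dimension one), and E a finite locally free O_C-module of rank r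
≥ 1 which is stable: for every finite locally free submodule G of E of rank r' ≥ 1 whose inclusion
is not an isomorphism one has deg G · r < deg E · r', the degree of a rank-n locally free module
being χ(G) − n·χ(O_C) (stability tested on proper submodules, equivalent to the definition through
quotient bundles). Then every nonzero endomorphism of E is an isomorphism, i.e. End(E) is a division
ring. (Over an algebraically closed field it follows that End(E) = k; that consequence is not
restated.) -/
theorem result (k : Type u) [Field k] (X : Scheme.{u}) [X.Over (Spec (CommRingCat.of k))]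
    [IsProper (X ↘ Spec (CommRingCat.of k))] [Smooth (X ↘ Spec (CommRingCat.of k))]
    [GeometricallyConnected (X ↘ Spec (CommRingCat.of k))] (hdim : topologicalKrullDim ↥X = 1)
    (r : ℕ) (hr : 0 < r) (E : X.Modules) (hE : FlatMod.IsFinLocFreeOfRank r E)
    (hEst : (∀ (G : X.Modules) (r' : ℕ) (i : G ⟶ E), Mono i → 0 < r' → FlatMod.IsFinLocFreeOfRank r' G → (¬ IsIso i) →
      Curv2.deg k X G r' * (r : ℤ) < Curv2.deg k X E r * (r' : ℤ)))
    (f : E ⟶ E) (hf : f ≠ 0) : IsIso f := by
  haveI := isIntegral_of_geometricallyConnected k (X := X)
  refine Groth.Agent.CurveBundle.isIso_of_slopes k hdim.le r E E hE hE rfl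
    (fun K I a b i j hi hj ha har hb hbr hK hI => ?_) f hf
  have hniso : ∀ {A : X.Modules} {n : ℕ} (g : A ⟶ E), FlatMod.IsFinLocFreeOfRank n A → n < r → ¬ IsIso g :=
    fun {A n} g hA hlt hg => by
      haveI := hg
      have := rk_congr (asIso g)
      rw [rk_eq hA, rk_eq hE] at this
      omega
  linarith [hEst K a i hi ha hK (hniso i hK har), hEst I b j hj hb hI (hniso j hI hbr)]

end Groth.Agent.S14137
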