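import Groth.Statements.S14139
import Groth.Agent.Lib.InvEnd
import Groth.Agent.Lib.CurveStable

set_option autoImplicit false
set_option linter.style.haveILetI false
set_option linter.unusedVariables false
universe u
open CategoryTheory CategoryTheory.Limits AlgebraicGeometry
open VBCurve

namespace Groth.Agent.S14139

open Groth.Agent.CurveBundle Groth.Agent.CurveSlope Groth.Agent.CurveStable

/-- Let C be a smooth proper geometrically connected curve over a field k (proper, smooth and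
geometrically connected over k, of dimension one), and 0 → E₁ → E → E₂ → 0 a short exact sequence of
finite locally free O_C-modules of ranks r₁, r, r₂ ≥ 1 whose slopes are all equal: deg E₁ · r = deg
E · r₁ and deg E₂ · r = deg E · r₂, the degree of a rank-n locally free module being χ − n·χ(O_C).
Then E is semistable (deg G · r ≤ deg E · r' for every finite locally free submodule G of E of rank
r' ≥ 1) if and only if both E₁ and E₂ are semistable in the same sense. -/
theorem result (k : Type u) [Field k] (X : Scheme.{u}) [X.Over (Spec (CommRingCat.of k))]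
    [IsProper (X ↘ Spec (CommRingCat.of k))] [Smooth (X ↘ Spec (CommRingCat.of k))]
    [GeometricallyConnected (X ↘ Spec (CommRingCat.of k))] (hdim : topologicalKrullDim ↥X = 1)
    (T : ShortComplex X.Modules) (hT : T.ShortExact)
    (r₁ r r₂ : ℕ) (hr₁ : 0 < r₁) (hr : 0 < r) (hr₂ : 0 < r₂)
    (hE₁ : FlatMod.IsFinLocFreeOfRank r₁ T.X₁) (hE : FlatMod.IsFinLocFreeOfRank r T.X₂) (hE₂ : FlatMod.IsFinLocFreeOfRank r₂ T.X₃)
    (hμ₁ : Curv2.deg k X T.X₁ r₁ * (r : ℤ) = Curv2.deg k X T.X₂ r * (r₁ : ℤ))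
    (hμ₂ : Curv2.deg k X T.X₃ r₂ * (r : ℤ) = Curv2.deg k X T.X₂ r * (r₂ : ℤ)) :
    (∀ (G : X.Modules) (r' : ℕ) (i : G ⟶ T.X₂), Mono i → 0 < r' → FlatMod.IsFinLocFreeOfRank r' G →
      Curv2.deg k X G r' * (r : ℤ) ≤ Curv2.deg k X T.X₂ r * (r' : ℤ)) ↔
      ((∀ (G : X.Modules) (r' : ℕ) (i : G ⟶ T.X₁), Mono i → 0 < r' → FlatMod.IsFinLocFreeOfRank r' G →
      Curv2.deg k X G r' * (r₁ : ℤ) ≤ Curv2.deg k X T.X₁ r₁ * (r' : ℤ)) ∧
       (∀ (G : X.Modules) (r' : ℕ) (i : G ⟶ T.X₃), Mono i → 0 < r' → FlatMod.IsFinLocFreeOfRank r' G →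
      Curv2.deg k X G r' * (r₂ : ℤ) ≤ Curv2.deg k X T.X₃ r₂ * (r' : ℤ))) := by
  haveI := isIntegral_of_geometricallyConnected k (X := X)
  haveI := isLocallyNoetherian' k (X := X)
  haveI := hT.mono_f
  have h1f := isFinLocFree_of_rank hE₁
  have hf := isFinLocFree_of_rank hE
  have h2f := isFinLocFree_of_rank hE₂
  have hS : (ShortComplex.mk T.f T.g T.zero).ShortExact := hT
  rw [deg_eq_dg k hE₁, deg_eq_dg k hE] at hμ₁
  rw [deg_eq_dg k hE₂, deg_eq_dg k hE] at hμ₂
  have hrp : (0 : ℤ) < r := by exact_mod_cast hr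
  refine ⟨fun h => ⟨fun G n i hi hn hG => ?_, fun G n i hi hn hG => ?_⟩, fun h G n i hi hn hG => ?_⟩
  · haveI := hi
    have := h G n (i ≫ T.f) inferInstance hn hG
    rw [deg_eq_dg k hG, deg_eq_dg k hE] at this
    rw [deg_eq_dg k hG, deg_eq_dg k hE₁]
    refine le_of_mul_le_mul_right ?_ hrp
    have h' := mul_le_mul_of_nonneg_right this (Int.natCast_nonneg r₁)
    linear_combination h' - (n : ℤ) * hμ₁
  · haveI := hi
    obtain ⟨P, l, hl, hPf, hPr, hPd⟩ := exists_preimage k hdim.le T.f T.g T.zero hS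
      (coh_of_free k h1f) hf (coh_of_free k h2f) i (coh_of_free k (isFinLocFree_of_rank hG))
    haveI := hl
    have := dg_mul_le_of_ss k hdim.le hE h l (coh_of_free k hPf)
    rw [hPr, hPd, rk_eq hE₁, rk_eq hG] at this
    push_cast at this
    rw [deg_eq_dg k hG, deg_eq_dg k hE₂]
    refine le_of_mul_le_mul_right ?_ hrp
    have h' : dg k G * (r : ℤ) ≤ dg k T.X₂ * (n : ℤ) := by linear_combination this - hμ₁
    have h'' := mul_le_mul_of_nonneg_right h' (Int.natCast_nonneg r₂)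
    linear_combination h'' - (n : ℤ) * hμ₂
  · haveI := hi
    obtain ⟨J, π, j, hj, hπ, hfac, hK, hJ, hrk, hdg, -, -⟩ :=
      exists_decomp k hdim.le (isFinLocFree_of_rank hG) h2f (i ≫ T.g)
    haveI := hj
    let l : kernel (i ≫ T.g) ⟶ T.X₁ :=
      hT.exact.lift (kernel.ι (i ≫ T.g) ≫ i) (by rw [Category.assoc, kernel.condition])
    haveI : Mono (l ≫ T.f) := by
      rw [show l ≫ T.f = kernel.ι (i ≫ T.g) ≫ i from hT.exact.lift_f _ _]
      infer_instance
    haveI : Mono l := mono_of_mono l T.f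
    have a1 := dg_mul_le_of_ss k hdim.le hE₁ h.1 l (coh_of_free k hK)
    have a2 := dg_mul_le_of_ss k hdim.le hE₂ h.2 j (coh_of_free k hJ)
    rw [rk_eq hG] at hrk
    rw [deg_eq_dg k hG, deg_eq_dg k hE, hdg, hrk]
    push_cast
    have p1 : (0 : ℤ) < r₁ := by exact_mod_cast hr₁
    have p2 : (0 : ℤ) < r₂ := by exact_mod_cast hr₂
    have b1 : dg k (kernel (i ≫ T.g)) * (r : ℤ) ≤ dg k T.X₂ * (rk (kernel (i ≫ T.g)) : ℤ) := by
      refine le_of_mul_le_mul_right ?_ p1
      have := mul_le_mul_of_nonneg_right a1 hrp.le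
      linear_combination this + (rk (kernel (i ≫ T.g)) : ℤ) * hμ₁
    have b2 : dg k J * (r : ℤ) ≤ dg k T.X₂ * (rk J : ℤ) := by
      refine le_of_mul_le_mul_right ?_ p2
      have := mul_le_mul_of_nonneg_right a2 hrp.le
      linear_combination this + (rk J : ℤ) * hμ₂
    linarith

end Groth.Agent.S14139
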