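import Groth.Statements.S1414
import Mathlib.AlgebraicGeometry.Morphisms.Etale

set_option autoImplicit false
universe u
open FlatMor

namespace Groth.Agent.S1414

open AlgebraicGeometry CategoryTheory Limits in
/-- Let f : X → Y and g : Y → Z with f ≫ g smooth and g étale. Then f is smooth. -/
theorem result {X Y Z : Scheme.{u}} (f : X ⟶ Y) (g : Y ⟶ Z) [Smooth (f ≫ g)] [Etale g] : Smooth f := by
  have : MorphismProperty.IsMultiplicative (@Smooth : MorphismProperty Scheme.{u}) :=
    { id_mem := fun _ => (inferInstance : Smooth (𝟙 _)) }
  have : MorphismProperty.HasOfPostcompProperty (@Smooth : MorphismProperty Scheme.{u}) (@Etale : MorphismProperty Scheme.{u}) := by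
    refine (MorphismProperty.hasOfPostcompProperty_iff_le_diagonal (P := (@Smooth : MorphismProperty Scheme.{u})) (Q := (@Etale : MorphismProperty Scheme.{u}))).2 ?_
    intro A B h hh
    have : Etale (pullback.diagonal h) := inferInstance
    exact (inferInstance : Smooth (pullback.diagonal h))
  exact MorphismProperty.of_postcomp (W := (@Smooth : MorphismProperty Scheme.{u})) (W' := (@Etale : MorphismProperty Scheme.{u})) f g ‹_› ‹_›

end Groth.Agent.S1414
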