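import Groth.Statements.S14140
import Groth.Agent.Lib.AVPhiApp
import Groth.Agent.H23.MaxAbelian

set_option autoImplicit false
set_option backward.isDefEq.respectTransparency false
set_option backward.isDefEq.respectTransparency.types false
set_option linter.style.haveILetI false
set_option linter.unusedSectionVars false
set_option maxHeartbeats 400000
universe u
open CategoryTheory CategoryTheory.Limits MonoidalCategory CartesianMonoidalCategory MonObj GrpObj AlgebraicGeometry
open AbVar

namespace Groth.Agent.S14140

/-- Let k be an algebraically closed field, A an abelian variety over k (a proper smooth k-group scheme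
with geometrically connected fibres), L an ample invertible O_A-module with an inverse L' (L ⊗ L' ≅
O_A), and M an invertible O_A-module in Pic⁰(A), meaning that t_x^*M ≅ M for every k-rational point
x of A, where t_x : A → A is the translation by x (the product of the identity and the constant map
x in the group Hom(A, A)). Then there is a k-rational point x of A with M ≅ t_x^*L ⊗ L'. -/
theorem result (k : Type u) [Field k] [IsAlgClosed k]
    (A : Over (Spec (CommRingCat.of k))) [GrpObj A] [IsProper A.hom] [Smooth A.hom] [GeometricallyConnected A.hom]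
    (L L' : A.left.Modules) (hLa : CohB1.IsAmple L) (hLL' : Nonempty (CohB1.tensorMod L L' ≅ Coh.structureModule A.left))
    (M : A.left.Modules) (hM : PicF.IsInvertible M)
    (hM0 : ∀ x : 𝟙_ (Over (Spec (CommRingCat.of k))) ⟶ A, Nonempty ((Scheme.Modules.pullback (𝟙 A * (toUnit A ≫ x)).left).obj M ≅ M)) :
    ∃ x : 𝟙_ (Over (Spec (CommRingCat.of k))) ⟶ A,
      Nonempty (M ≅ CohB1.tensorMod ((Scheme.Modules.pullback (𝟙 A * (toUnit A ≫ x)).left).obj L) L') := by
  letI := fun (Y : Scheme.{u}) => Groth.Agent.H23.PicMul.clMonoid (X := Y)
  haveI : GeometricallyReduced A.hom := Groth.Agent.H23.RigidGamma.geometricallyReduced_of_smooth A.hom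
  haveI : ConnectedSpace A.left := GeometricallyConnected.connectedSpace_of_subsingleton A.hom
  haveI : GeometricallyIntegral A.hom := Groth.Agent.H23.MaxAbelian.geometricallyIntegral_of_connected A
  obtain ⟨x, hx⟩ := Groth.Agent.AVPhiApp.exists_translate_ample hLa hM hM0
  refine ⟨x, (PicGrp.cl_eq_cl_iff _ _).1 ?_⟩
  rw [Groth.Agent.H23.PicMul.cl_tensor, ← (PicGrp.cl_eq_cl_iff _ _).2 hx, Groth.Agent.H23.PicMul.cl_tensor,
    _root_.mul_assoc, show PicF.cl L * PicF.cl L' = 1 from
      (PicGrp.cl_eq_cl_iff (CohB1.tensorMod L L') _).2 hLL', _root_.mul_one]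

end Groth.Agent.S14140
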