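import Groth.Statements.S14142
import Groth.Agent.AVTors.Card
import Groth.Agent.H23.RigidGamma
import Groth.Agent.H23.MaxAbelian

set_option autoImplicit false
universe u
open CategoryTheory CategoryTheory.Limits MonoidalCategory CartesianMonoidalCategory MonObj GrpObj AlgebraicGeometry
open AbVar

namespace Groth.Agent.S14142

set_option linter.style.haveILetI false
set_option backward.isDefEq.respectTransparency false
set_option backward.isDefEq.respectTransparency.types false

/-- Let k be an algebraically closed field of characteristic p > 0 and A an abelian variety over k (a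
proper smooth k-group scheme with geometrically connected fibres) of dimension g. Then there is an
integer i with 0 ≤ i ≤ g, the p-rank of A, such that for every m ≥ 0 the group A[p^m](k) of
k-rational points of A killed by p^m is isomorphic to (ℤ/p^m)^i (existence of a group isomorphism;
the group of k-points is written multiplicatively). (The published statement of this part assumes
only that k has characteristic p and does not assume k algebraically closed; it is false without
that assumption — for an elliptic curve over the prime field with exactly p rational points the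
rational p-torsion is cyclic of order p while the rational p²-torsion has only p elements — and this
row assumes k algebraically closed, which the printed proof's divisibility argument requires.) -/
theorem result (k : Type u) [Field k] [IsAlgClosed k] (p : ℕ) [Fact p.Prime] [CharP k p]
    (A : Over (Spec (CommRingCat.of k))) [GrpObj A] [IsProper A.hom] [Smooth A.hom] [GeometricallyConnected A.hom] [IsCommMonObj A]
    (g : ℕ) (hg : topologicalKrullDim ↥A.left = g) :
    ∃ i : ℕ, i ≤ g ∧ ∀ m : ℕ,
      Nonempty (AbDual.torsPts A (p ^ m) (𝟙_ (Over (Spec (CommRingCat.of k)))) ≃* Multiplicative (Fin i → ZMod (p ^ m))) := by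
  haveI : GeometricallyReduced A.hom := H23.RigidGamma.geometricallyReduced_of_smooth A.hom
  haveI : Nonempty A.left := ⟨(η[A]).left (IsLocalRing.closedPoint k)⟩
  haveI : ConnectedSpace A.left := GeometricallyConnected.connectedSpace_of_subsingleton (f := A.hom)
  haveI := H23.MaxAbelian.geometricallyIntegral_of_connected A
  let M := AVTors.pt0 k ⟶ A
  have hp : p.Prime := Fact.out
  haveI : Finite (AVTors.pker M p) := (AVTors.card_torsPts_le hg p hp.pos).1
  obtain ⟨i, hi⟩ := IsPGroup.iff_card.1 (show IsPGroup p (AVTors.pker M p) from fun x => ⟨1, Subtype.ext (by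
    rw [pow_one, SubmonoidClass.coe_pow]; exact x.2)⟩)
  have hig : p ^ i ≤ p ^ g := hi ▸ AVTors.card_torsPts_char_le hg p
  have hpow : ∀ j, Nat.card (AVTors.pker M (p ^ j)) = (p ^ j) ^ i := fun j => by
    induction j with
    | zero => rw [pow_zero, AVTors.card_pker_one, one_pow]
    | succ j ih =>
      rw [pow_succ, AVTors.card_pker_mul (p ^ j) p (fun y => AVTors.exists_root _ (pow_pos hp.pos j) y), ih, hi,
        mul_pow]
  refine ⟨i, (Nat.pow_le_pow_iff_right hp.one_lt).1 hig, fun m => ?_⟩
  refine (AVTors.nonempty_addEquiv.{u} i (p ^ m) (pow_pos hp.pos m) (Additive (AVTors.pker M (p ^ m)))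
    (fun x => congrArg Additive.ofMul (Subtype.ext x.toMul.2 : x.toMul ^ (p ^ m) = 1)) (fun d hd => ?_)).map
    AddEquiv.toMultiplicativeRight
  obtain ⟨j, hj, rfl⟩ := (Nat.dvd_prime_pow hp).1 hd
  rw [← hpow j]
  refine Nat.card_congr
    { toFun := fun x => ⟨x.1.toMul.1, congrArg Subtype.val (congrArg Additive.toMul x.2)⟩
      invFun := fun x => ⟨Additive.ofMul ⟨x.1, ?_⟩, congrArg Additive.ofMul (Subtype.ext x.2)⟩
      left_inv := fun _ => rfl
      right_inv := fun _ => rfl }
  obtain ⟨c, hc⟩ := hd
  show x.1 ^ (p ^ m) = 1
  rw [hc, pow_mul, show x.1 ^ (p ^ j) = 1 from x.2, one_pow]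

end Groth.Agent.S14142
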