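import Groth.Statements.S14144
import Groth.Agent.Lib.AVIndexStable
import Groth.Agent.Lib.AVDual

set_option autoImplicit false
set_option backward.isDefEq.respectTransparency false
set_option backward.isDefEq.respectTransparency.types false
set_option linter.style.haveILetI false
set_option linter.unusedSectionVars false
set_option maxHeartbeats 400000
universe u
open CategoryTheory CategoryTheory.Limits MonoidalCategory CartesianMonoidalCategory MonObj GrpObj AlgebraicGeometry
open AbVar

namespace Groth.Agent.S14144

/-- Let k be an algebraically closed field, A and B abelian varieties over k (proper smooth k-group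
schemes with geometrically connected fibres), f : A → B a homomorphism which is an isogeny (finite,
flat and surjective), and L an invertible O_B-module which is non-degenerate: only finitely many
k-rational points y of B satisfy t_y^*L ≅ L. Then f^*L is non-degenerate on A, and L and f^*L have
the same index: for every j, H^j(B, L) vanishes if and only if H^j(A, f^*L) vanishes. -/
theorem result (k : Type u) [Field k] [IsAlgClosed k]
    (A B : Over (Spec (CommRingCat.of k))) [GrpObj A] [IsProper A.hom] [Smooth A.hom] [GeometricallyConnected A.hom]
    [GrpObj B] [IsProper B.hom] [Smooth B.hom] [GeometricallyConnected B.hom]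
    (f : A ⟶ B) [IsMonHom f] [IsFinite f.left] [Flat f.left] [Surjective f.left]
    (L : B.left.Modules) (hL : PicF.IsInvertible L) (hnd : (Set.Finite {x : 𝟙_ (Over (Spec (CommRingCat.of k))) ⟶ B |
      Nonempty ((Scheme.Modules.pullback (𝟙 B * (toUnit B ≫ x)).left).obj L ≅ L)})) :
    (Set.Finite {x : 𝟙_ (Over (Spec (CommRingCat.of k))) ⟶ A |
      Nonempty ((Scheme.Modules.pullback (𝟙 A * (toUnit A ≫ x)).left).obj ((Scheme.Modules.pullback f.left).obj L) ≅ ((Scheme.Modules.pullback f.left).obj L))}) ∧
      ∀ j : ℕ, Subsingleton (Coh.HH B.left L j) ↔ Subsingleton (Coh.HH A.left ((Scheme.Modules.pullback f.left).obj L) j) := by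
  haveI := AVDual.geometricallyIntegral_of_smooth A
  haveI := AVDual.geometricallyIntegral_of_smooth B
  obtain ⟨i, hc⟩ := AVIndexStable.exists_conc_of_finite_stab hL hnd
  have h := AVIndexStable.conc_pullback f hL hc
  have hP : PicF.IsInvertible ((Scheme.Modules.pullback f.left).obj L) := PicClLib.isInvertible_pullback _ hL
  refine ⟨AVIndexStable.finite_stab hP h.euler_ne_zero, fun j => ?_⟩
  rw [← AVIndexStable.subsingleton_iff (AVIndexStable.isCoh hL),
    ← AVIndexStable.subsingleton_iff (AVIndexStable.isCoh (A := A) hP)]
  by_cases hj : j = i
  · subst hj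
    exact iff_of_false hc.2 h.2
  · exact iff_of_true (hc.1 j hj) (h.1 j hj)

end Groth.Agent.S14144
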