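import Groth.Statements.S14146
import Groth.Agent.Lib.DerivedBC
import Groth.Agent.Lib.DerivedNat
import Groth.Agent.Lib.AVDual
import Groth.Agent.KFlatLib.Scheme.ProjAffineFlat
import Groth.Agent.KFlatLib.Scheme.TorAmpPush

set_option autoImplicit false
set_option backward.isDefEq.respectTransparency false
set_option backward.isDefEq.respectTransparency.types false
set_option linter.style.haveILetI false
set_option linter.unusedSectionVars false
set_option maxHeartbeats 400000
universe u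
open CategoryTheory CategoryTheory.Limits MonoidalCategory CartesianMonoidalCategory MonObj GrpObj AlgebraicGeometry
attribute [local instance] HasDerivedCategory.standard
open AbVar

namespace Groth.Agent.S14146

set_option maxHeartbeats 1600000
open Groth.Agent.H23 Groth.Agent.AVPair
open Groth.Agent.Lib
open scoped Groth.Agent.H23.PicMul
open CategoryTheory.Limits

namespace Aux

variable {k : Type u} [Field k]

theorem isPullback_mul (A : Over (Spec (CommRingCat.of k))) [GrpObj A] :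
    IsPullback μ[A].left (snd A A).left A.hom A.hom := by
  have hm : μ[A] = fst A A * snd A A := by rw [Hom.mul_def, lift_fst_snd, Category.id_comp]
  let σ : A ⊗ A ≅ A ⊗ A :=
    { hom := lift μ[A] (snd A A)
      inv := lift (fst A A * (snd A A)⁻¹) (snd A A)
      hom_inv_id := by
        rw [comp_lift, MonObj.comp_mul, GrpObj.comp_inv, lift_fst, lift_snd, hm, mul_inv_cancel_right, lift_fst_snd]
      inv_hom_id := by
        rw [comp_lift, hm, MonObj.comp_mul, lift_fst, lift_snd, inv_mul_cancel_right, lift_fst_snd] }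
  refine IsPullback.of_iso_pullback ⟨?_⟩ ((Over.forget _).mapIso σ) ?_ ?_
  · exact (Over.w μ[A]).trans (Over.w (snd A A)).symm
  · show (lift μ[A] (snd A A)).left ≫ (fst A A).left = _
    rw [← Over.comp_left, lift_fst]
  · show (lift μ[A] (snd A A)).left ≫ (snd A A).left = _
    rw [← Over.comp_left, lift_snd]

theorem nonempty_ltensorMod_inD {X : Scheme.{u}} {N : X.Modules} (hN : FlatMod.IsFlat N) (M : X.Modules)
    [DCoh.HasLTensorMod M] :
    Nonempty ((DCoh.LTensorMod M).obj (DCoh.inD X N) ≅ DCoh.inD X (CohB1.tensorMod N M)) := by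
  haveI := KFlatLib.hasLTensorCx ((HomologicalComplex.single X.Modules (ComplexShape.up ℤ) 0).obj M)
  obtain ⟨a⟩ := KFlatLib.nonempty_ltensorMod_ltensorCx M (DCoh.inD X N)
  obtain ⟨b⟩ := KFlatLib.nonempty_ltensor_inD hN M
  exact ⟨a ≪≫ b⟩

end Aux

/-- Let k be an algebraically closed field, A an abelian variety over k (a proper smooth k-group scheme
with geometrically connected fibres) with structure map a : A → Spec k, (A^t, φ) a given dual
abelian variety for the fppf topology with A^t an abelian variety, P an invertible module on A ×_k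
A^t whose class is a Poincaré class, L an invertible O_A-module with an inverse L', and Λ a module
on A ×_k A isomorphic to the Mumford module m^*L ⊗ pr_1^*L' ⊗ pr_2^*L', whose class is assumed
algebraically trivial on every geometric fibre of the second projection. Let φ_L = φ(Λ) : A → A^t
and assume L non-degenerate in the sense that φ_L is finite and flat. Write Φ_P =
Rpr_{2,*}(Lpr_1^*(−) ⊗^L P); the derived functors involved are assumed to exist. Then Lφ_L^*(Φ_P(L))
is isomorphic in D(O_A) to La^*(Ra_*L) ⊗^L L', that is, to RΓ(A, L) ⊗_k L^{-1} (existence of an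
isomorphism). -/
theorem result (k : Type u) [Field k] [IsAlgClosed k]
    (A At : Over (Spec (CommRingCat.of k))) [GrpObj A] [IsProper A.hom] [Smooth A.hom] [GeometricallyConnected A.hom]
    [GrpObj At] [IsProper At.hom] [Smooth At.hom] [GeometricallyConnected At.hom]
    (φ : ∀ T : Over (Spec (CommRingCat.of k)), PicF.Cl (PicF.XT A.hom T) → (T ⟶ At))
    (hφ : AbDual.IsDualAV Scheme.fppfPrecoverage A At φ)
    (P : (pullback A.hom At.hom).Modules) (hP : PicF.IsInvertible P)
    (hPξ : AbDual.IsPoincareCl A At φ (PicF.cl P))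
    (L : A.left.Modules) (hL : PicF.IsInvertible L) (L' : A.left.Modules) (hL' : Nonempty (CohB1.tensorMod L L' ≅ Coh.structureModule A.left))
    (Λ : (PicF.XT A.hom A).Modules)
    (hΛ : Nonempty (Λ ≅ CohB1.tensorMod (CohB1.tensorMod ((Scheme.Modules.pullback μ[A].left).obj L)
      ((Scheme.Modules.pullback (fst A A).left).obj L')) ((Scheme.Modules.pullback (snd A A).left).obj L')))
    (hΛ0 : AbDual.IsPicZeroCl A.hom A (PicF.cl Λ))
    [IsFinite (φ A (PicF.cl Λ)).left] [Flat (φ A (PicF.cl Λ)).left]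
    [DCoh.HasLpull (pullback.fst A.hom At.hom)] [DCoh.HasLTensorMod P] [DCoh.HasRpush (pullback.snd A.hom At.hom)]
    [DCoh.HasLpull (φ A (PicF.cl Λ)).left] [DCoh.HasRpush A.hom] [DCoh.HasLpull A.hom] [DCoh.HasLTensorMod L'] :
    Nonempty ((DCoh.Lpull (φ A (PicF.cl Λ)).left).obj ((DCoh.Lpull (pullback.fst A.hom At.hom) ⋙ DCoh.LTensorMod P ⋙ DCoh.Rpush (pullback.snd A.hom At.hom)).obj (DCoh.inD A.left L)) ≅
      (DCoh.LTensorMod L').obj ((DCoh.Lpull A.hom).obj ((DCoh.Rpush A.hom).obj (DCoh.inD A.left L)))) := by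
  haveI := AVDual.geometricallyIntegral_of_smooth A
  obtain ⟨h1, -⟩ := AVDual.poincare_axes hφ hPξ
  obtain ⟨eL⟩ := hL'
  obtain ⟨eΛ⟩ := hΛ
  have hLL : (PicF.cl L : PicF.Cl A.left) * PicF.cl L' = 1 := (PicGrp.cl_eq_cl_iff (CohB1.tensorMod L L') _).2 ⟨eL⟩
  have hL'i : PicF.IsInvertible L' := by
    obtain ⟨D, hD, ⟨eD⟩⟩ := PicInv.exists_inverse hL
    have hLD : (PicF.cl L : PicF.Cl A.left) * PicF.cl D = 1 := (PicGrp.cl_eq_cl_iff (CohB1.tensorMod L D) _).2 ⟨eD⟩
    have hx : (PicF.cl L' : PicF.Cl A.left) = PicF.cl D := by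
      rw [← _root_.one_mul (PicF.cl L' : PicF.Cl A.left), ← hLD, _root_.mul_right_comm, hLL, _root_.one_mul]
    obtain ⟨i⟩ := (PicGrp.cl_eq_cl_iff L' D).1 hx
    exact PicMul.isInvertible_of_iso i.symm hD
  haveI : IsReduced A.left := GrpSchLib.isReduced_of_smooth_field A.hom
  let l : A ⟶ At := φ A (PicF.cl Λ)
  let C : PicF.Cl A.left := PicF.cl L
  let C' : PicF.Cl A.left := PicF.cl L'
  have hΛcl : (PicF.cl Λ : PicF.Cl (A ⊗ A).left) = pl μ[A] C * pl (fst A A) C' * pl (snd A A) C' :=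
    (PicGrp.cl_eq_cl_iff _ _).2 ⟨eΛ⟩
  have hpt : pl η[A] C' = 1 := by
    haveI : Subsingleton ↥(𝟙_ (Over (Spec (CommRingCat.of k)))).left :=
      inferInstanceAs (Subsingleton (PrimeSpectrum k))
    haveI : Nonempty ↥(𝟙_ (Over (Spec (CommRingCat.of k)))).left := inferInstanceAs (Nonempty (PrimeSpectrum k))
    obtain ⟨D, hD, hDi⟩ := isInv_pl η[A] (⟨L', rfl, hL'i⟩ : PicF.IsInvertibleCl C')
    rw [← hD]
    exact KLBasic.trivial_of_subsingleton hDi
  have hcl : pl (A ◁ l) (PicF.cl P : PicF.Cl (A ⊗ At).left) = (PicF.cl Λ : PicF.Cl (A ⊗ A).left) := by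
    refine AVDual.eq_of_phi hφ (AVDual.pz_pl l hPξ.1) hΛ0 ?_ (1 : A ⟶ A) ?_
    · rw [AVDual.phi_pl hφ l hPξ.1, hPξ.2.1, Category.comp_id]
    · rw [pl_pl, lift_whiskerLeft, Category.id_comp,
        show lift (1 : A ⟶ A) l = l ≫ lift (1 : At ⟶ A) (𝟙 At) by
          rw [comp_lift, MonObj.comp_one, Category.comp_id], ← pl_pl, h1, map_one, hΛcl, map_mul, map_mul,
        pl_pl, pl_pl, pl_pl, lift_fst, lift_snd, ← Hom.mul_def, _root_.one_mul,
        show pl (1 : A ⟶ A) C' = 1 by rw [Hom.one_def, ← pl_pl, hpt, map_one], _root_.mul_one, pl_id, pl_id]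
      exact hLL.symm
  have key : pl (fst A A) C * pl (A ◁ l) (PicF.cl P : PicF.Cl (A ⊗ At).left) = pl μ[A] C * pl (snd A A) C' := by
    rw [hcl, hΛcl, ← _root_.mul_assoc, _root_.mul_left_comm, ← map_mul, hLL, map_one, _root_.mul_one]
  let gL : pullback A.hom A.hom ⟶ pullback A.hom At.hom := (A ◁ l).left
  let mL : pullback A.hom A.hom ⟶ A.left := μ[A].left
  let s1 := pullback.fst A.hom A.hom
  let s2 := pullback.snd A.hom A.hom
  let q1 := pullback.fst A.hom At.hom
  let q2 := pullback.snd A.hom At.hom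
  let X := DCoh.inD A.left L
  let Q : (pullback A.hom A.hom).Modules := (Scheme.Modules.pullback gL).obj P
  let N : (pullback A.hom A.hom).Modules := (Scheme.Modules.pullback s2).obj L'
  obtain ⟨e⟩ : Nonempty (CohB1.tensorMod ((Scheme.Modules.pullback s1).obj L) Q ≅
      CohB1.tensorMod ((Scheme.Modules.pullback mL).obj L) N) := (PicGrp.cl_eq_cl_iff _ _).1 key
  haveI : DCoh.HasRpush q2 := inferInstanceAs (DCoh.HasRpush (pullback.snd A.hom At.hom))
  haveI : DCoh.HasLpull q1 := inferInstanceAs (DCoh.HasLpull (pullback.fst A.hom At.hom))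
  haveI : DCoh.HasLpull l.left := inferInstanceAs (DCoh.HasLpull (φ A (PicF.cl Λ)).left)
  haveI := KFlatLib.hasLTensorMod Q
  haveI := KFlatLib.hasLTensorMod N
  haveI := KFlatLib.hasLpull gL
  haveI := KFlatLib.hasLpull mL
  haveI := KFlatLib.hasLpull s1
  haveI := KFlatLib.hasRpush_scheme s2
  haveI : Flat q2 := MorphismProperty.pullback_snd (P := @Flat) _ _ inferInstance
  haveI : Flat s1 := MorphismProperty.pullback_fst (P := @Flat) _ _ inferInstance
  haveI : Flat mL := MorphismProperty.of_isPullback (P := @Flat) (Aux.isPullback_mul A).flip inferInstance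
  have hsq : IsPullback gL s2 q2 l.left := by
    have t : IsPullback q1 q2 A.hom At.hom := IsPullback.of_hasPullback A.hom At.hom
    refine IsPullback.of_right ?_ ?_ t
    · rw [show gL ≫ q1 = s1 by
        show (A ◁ l).left ≫ (fst A At).left = (fst A A).left
        rw [← Over.comp_left, whiskerLeft_fst], Over.w l]
      exact IsPullback.of_hasPullback A.hom A.hom
    · show (A ◁ l).left ≫ (snd A At).left = (snd A A).left ≫ l.left
      rw [← Over.comp_left, ← Over.comp_left, whiskerLeft_snd]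
  obtain ⟨bc⟩ := DerivedBC.nonempty_baseChange_of_flat hsq
  obtain ⟨bm⟩ := DerivedBC.nonempty_baseChange_of_flat (f := A.hom) (g := A.hom) (f' := s2) (g' := mL)
    (Aux.isPullback_mul A)
  have hX : DCoh.IsQCohD X := KFlatLib.isQCohD_inD_of_isQCoh (ProjUPX.isQCoh_of_isInvertible hL)
  obtain ⟨b⟩ := DerivedNat.nonempty_lpull_tensor gL (DerivedNat.isFlat_of_invertible hP) (M' := Q) (Iso.refl _)
  obtain ⟨a⟩ := KExact.A1Shriek.nonempty_lpull_comp' gL q1 s1 (by
    show (A ◁ l).left ≫ (fst A At).left = (fst A A).left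
    rw [← Over.comp_left, whiskerLeft_fst])
  obtain ⟨i1⟩ := KFlatLib.nonempty_lpull_inD_of_flat s1 L
  obtain ⟨i2⟩ := KFlatLib.nonempty_lpull_inD_of_flat mL L
  obtain ⟨j1⟩ := Aux.nonempty_ltensorMod_inD
    (DerivedNat.isFlat_of_invertible (PicClLib.isInvertible_pullback s1 hL)) Q
  obtain ⟨j2⟩ := Aux.nonempty_ltensorMod_inD
    (DerivedNat.isFlat_of_invertible (PicClLib.isInvertible_pullback mL hL)) N
  obtain ⟨p⟩ := DerivedNat.nonempty_projection s2 hL'i (N' := N) (Iso.refl _)
  let Y := (DCoh.LTensorMod P).obj ((DCoh.Lpull q1).obj X)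
  exact ⟨bc.app ⟨Y, DerivedBC.isQCohD_ltensorMod_of_invertible hP (KFlatLib.isQCohD_lpull q1 hX)⟩ ≪≫
    (DCoh.Rpush s2).mapIso (b.app _ ≪≫ (DCoh.LTensorMod Q).mapIso (a.app X ≪≫ i1) ≪≫ j1 ≪≫
      (DerivedCategory.singleFunctor _ 0).mapIso e ≪≫ j2.symm ≪≫ (DCoh.LTensorMod N).mapIso i2.symm) ≪≫
    p.app _ ≪≫ (DCoh.LTensorMod L').mapIso (bm.app ⟨X, hX⟩).symm⟩

end Groth.Agent.S14146
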