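import Groth.Statements.S14147
import Groth.Agent.Lib.DerivedBC
import Groth.Agent.Lib.DerivedNat

set_option autoImplicit false
set_option backward.isDefEq.respectTransparency false
set_option backward.isDefEq.respectTransparency.types false
set_option linter.style.haveILetI false
set_option linter.unusedSectionVars false
set_option maxHeartbeats 400000
universe u
open CategoryTheory CategoryTheory.Limits MonoidalCategory CartesianMonoidalCategory MonObj GrpObj AlgebraicGeometry
attribute [local instance] HasDerivedCategory.standard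
open AbVar

namespace Groth.Agent.S14147

set_option maxHeartbeats 1600000
open Groth.Agent.Lib
open CategoryTheory.Limits

/-- Let k be a field, A an abelian variety over k (a proper smooth k-group scheme with geometrically
connected fibres) with structure map a : A → Spec k, (A^t, φ) a given dual abelian variety for the
fppf topology with A^t an abelian variety, P an invertible module on A ×_k A^t whose class is a
Poincaré class, x : Spec k → A^t a k-rational point and M_x the restriction of P along A = A × {x} →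
A ×_k A^t. Write Φ_P = Rpr_{2,*}(Lpr_1^*(−) ⊗^L P); the derived functors involved are assumed to
exist. Then, restricted to objects of D(O_A) with quasi-coherent cohomology sheaves, the functor F ↦
Ra_*(F ⊗^L M_x) (global sections RΓ(A, F ⊗ M_x) as an object over Spec k) is isomorphic to F ↦
Lx^*(Φ_P(F)) (existence of an isomorphism of functors). -/
theorem result (k : Type u) [Field k]
    (A At : Over (Spec (CommRingCat.of k))) [GrpObj A] [IsProper A.hom] [Smooth A.hom] [GeometricallyConnected A.hom]
    [GrpObj At] [IsProper At.hom] [Smooth At.hom] [GeometricallyConnected At.hom]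
    (φ : ∀ T : Over (Spec (CommRingCat.of k)), PicF.Cl (PicF.XT A.hom T) → (T ⟶ At))
    (hφ : AbDual.IsDualAV Scheme.fppfPrecoverage A At φ)
    (P : (pullback A.hom At.hom).Modules) (hP : PicF.IsInvertible P)
    (hPξ : AbDual.IsPoincareCl A At φ (PicF.cl P))
    (x : 𝟙_ (Over (Spec (CommRingCat.of k))) ⟶ At)
    [DCoh.HasLpull (pullback.fst A.hom At.hom)] [DCoh.HasLTensorMod P] [DCoh.HasRpush (pullback.snd A.hom At.hom)]
    [DCoh.HasLTensorMod ((Scheme.Modules.pullback (CartesianMonoidalCategory.lift (𝟙 A) (toUnit A ≫ x)).left).obj P)]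
    [DCoh.HasRpush A.hom] [DCoh.HasLpull x.left] :
    Nonempty (ObjectProperty.ι (DCoh.IsQCohD (X := A.left)) ⋙
        DCoh.LTensorMod ((Scheme.Modules.pullback (CartesianMonoidalCategory.lift (𝟙 A) (toUnit A ≫ x)).left).obj P) ⋙ DCoh.Rpush A.hom ≅
      ObjectProperty.ι (DCoh.IsQCohD (X := A.left)) ⋙ (DCoh.Lpull (pullback.fst A.hom At.hom) ⋙ DCoh.LTensorMod P ⋙ DCoh.Rpush (pullback.snd A.hom At.hom)) ⋙ DCoh.Lpull x.left) := by
  let s : A ⟶ A ⊗ At := lift (𝟙 A) (toUnit A ≫ x)
  let sL : A.left ⟶ pullback A.hom At.hom := s.left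
  let q1 := pullback.fst A.hom At.hom
  let q2 := pullback.snd A.hom At.hom
  let M : A.left.Modules := (Scheme.Modules.pullback sL).obj P
  have hs1 : sL ≫ q1 = 𝟙 A.left := by
    show s.left ≫ (fst A At).left = _
    rw [← Over.comp_left, lift_fst]; rfl
  have hs2 : sL ≫ q2 = A.hom ≫ x.left := by
    show s.left ≫ (snd A At).left = _
    rw [← Over.comp_left, lift_snd]; rfl
  have hsq : IsPullback sL A.hom q2 x.left := by
    refine IsPullback.of_right ?_ hs2 (IsPullback.of_hasPullback A.hom At.hom)
    rw [hs1, show x.left ≫ At.hom = 𝟙 _ from Over.w x]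
    haveI : IsIso (𝟙 (𝟙_ (Over (Spec (CommRingCat.of k)))).left : _ ⟶ Spec (CommRingCat.of k)) := inferInstanceAs (IsIso (𝟙 (Spec (CommRingCat.of k))))
    exact IsPullback.of_horiz_isIso ⟨by rw [Category.id_comp]; exact (Category.comp_id _).symm⟩
  haveI : DCoh.HasRpush q2 := inferInstanceAs (DCoh.HasRpush (pullback.snd A.hom At.hom))
  haveI : DCoh.HasLpull q1 := inferInstanceAs (DCoh.HasLpull (pullback.fst A.hom At.hom))
  haveI : DCoh.HasLTensorMod M := inferInstanceAs (DCoh.HasLTensorMod ((Scheme.Modules.pullback (lift (𝟙 A) (toUnit A ≫ x)).left).obj P))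
  haveI := KFlatLib.hasLpull sL
  haveI : Flat q2 := MorphismProperty.pullback_snd (P := @Flat) _ _ inferInstance
  obtain ⟨bc⟩ := DerivedBC.nonempty_baseChange_of_flat hsq
  let w := DerivedBC.whiskerQ (DCoh.Lpull q1 ⋙ DCoh.LTensorMod P)
    (fun E hE => DerivedBC.isQCohD_ltensorMod_of_invertible hP (KFlatLib.isQCohD_lpull q1 hE)) bc
  obtain ⟨b⟩ := DerivedNat.nonempty_lpull_tensor sL (DerivedNat.isFlat_of_invertible hP) (M' := M) (Iso.refl _)
  haveI := KFlatLib.hasLpull (𝟙 A.left)
  obtain ⟨a⟩ := KExact.A1Shriek.nonempty_lpull_comp' sL q1 (𝟙 A.left) hs1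
  obtain ⟨a'⟩ := KExact.A1Shriek.nonempty_lpull_id (𝟙 A.left) rfl
  refine ⟨?_ ≪≫ w.symm⟩
  exact Functor.isoWhiskerLeft (ObjectProperty.ι (DCoh.IsQCohD (X := A.left)))
    (Functor.isoWhiskerRight (a ≪≫ a').symm (DCoh.LTensorMod M ⋙ DCoh.Rpush A.hom) ≪≫
      Functor.isoWhiskerLeft (DCoh.Lpull q1) (Functor.isoWhiskerRight b.symm (DCoh.Rpush A.hom)))

end Groth.Agent.S14147
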