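import Groth.Statements.S14149
import Groth.Agent.Lib.InvEnd
import Groth.Agent.Lib.CurveStable

set_option autoImplicit false
set_option linter.style.haveILetI false
set_option linter.unusedVariables false
universe u
open CategoryTheory CategoryTheory.Limits AlgebraicGeometry
open VBCurve

namespace Groth.Agent.S14149

open Groth.Agent.CurveBundle Groth.Agent.CurveSlope Groth.Agent.CurveStable

/-- Let C be a smooth proper geometrically connected curve over a field k (proper, smooth and
geometrically connected over k, of dimension one) and E a finite locally free O_C-module of rank r ≥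
1, the degree of a rank-n locally free module being χ − n·χ(O_C). Then there is a finite locally
free submodule E₁ of E, of some rank r₁ ≥ 1, such that: the slope of E₁ is maximal among finite
locally free submodules of E of positive rank (deg G · r₁ ≤ deg E₁ · r' for every such G of rank
r'); among submodules attaining that slope E₁ has the largest rank; and E₁ is semistable. (This is
the first step of the Harder–Narasimhan filtration, whose existence and uniqueness is the published
statement; the full filtration is not restated.) -/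
theorem result (k : Type u) [Field k] (X : Scheme.{u}) [X.Over (Spec (CommRingCat.of k))]
    [IsProper (X ↘ Spec (CommRingCat.of k))] [Smooth (X ↘ Spec (CommRingCat.of k))]
    [GeometricallyConnected (X ↘ Spec (CommRingCat.of k))] (hdim : topologicalKrullDim ↥X = 1)
    (r : ℕ) (hr : 0 < r) (E : X.Modules) (hE : FlatMod.IsFinLocFreeOfRank r E) :
    ∃ (E₁ : X.Modules) (r₁ : ℕ) (i₁ : E₁ ⟶ E), Mono i₁ ∧ 0 < r₁ ∧ FlatMod.IsFinLocFreeOfRank r₁ E₁ ∧
      (∀ (G : X.Modules) (r' : ℕ) (j : G ⟶ E), Mono j → 0 < r' → FlatMod.IsFinLocFreeOfRank r' G →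
        Curv2.deg k X G r' * (r₁ : ℤ) ≤ Curv2.deg k X E₁ r₁ * (r' : ℤ)) ∧
      (∀ (G : X.Modules) (r' : ℕ) (j : G ⟶ E), Mono j → 0 < r' → FlatMod.IsFinLocFreeOfRank r' G →
        Curv2.deg k X G r' * (r₁ : ℤ) = Curv2.deg k X E₁ r₁ * (r' : ℤ) → r' ≤ r₁) ∧
      (∀ (G : X.Modules) (r' : ℕ) (i : G ⟶ E₁), Mono i → 0 < r' → FlatMod.IsFinLocFreeOfRank r' G →
      Curv2.deg k X G r' * (r₁ : ℤ) ≤ Curv2.deg k X E₁ r₁ * (r' : ℤ)) := by
  haveI := isIntegral_of_geometricallyConnected k (X := X)
  obtain ⟨E₁, i₁, hi₁, hpos, hE₁, h⟩ := exists_max_slope k hdim.le hr hE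
  haveI := hi₁
  have hr₁ := isFinLocFreeOfRank_rk hE₁
  have key : ∀ (G : X.Modules) (n : ℕ) (j : G ⟶ E), Mono j → 0 < n → FlatMod.IsFinLocFreeOfRank n G →
      Curv2.deg k X G n * (rk E₁ : ℤ) ≤ Curv2.deg k X E₁ (rk E₁) * (n : ℤ) ∧
      (Curv2.deg k X G n * (rk E₁ : ℤ) = Curv2.deg k X E₁ (rk E₁) * (n : ℤ) → n ≤ rk E₁) := by
    intro G n j hj hn hG
    have := h G j hj (isFinLocFree_of_rank hG) (by rw [rk_eq hG]; exact hn)
    rw [deg_eq_dg k hG, deg_eq_dg k hr₁]
    rwa [rk_eq hG] at this
  exact ⟨E₁, rk E₁, i₁, hi₁, hpos, hr₁, fun G n j hj hn hG => (key G n j hj hn hG).1,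
    fun G n j hj hn hG => (key G n j hj hn hG).2,
    fun G n i hi hn hG => by
      haveI := hi
      exact (key G n (i ≫ i₁) inferInstance hn hG).1⟩

end Groth.Agent.S14149
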