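import Groth.Statements.S1415
import Groth.Agent.MorLib.GeomPts

set_option autoImplicit false
universe u
open FlatMor

namespace Groth.Agent.S1415

open AlgebraicGeometry CategoryTheory Limits in
/-- Let f : X → Y be locally quasi-finite. Then (1) for every y the number of irreducible components and
the number of connected components of the geometric fibre over y agree, and (2) if X is
quasi-compact these numbers are bounded by some natural number. -/
theorem result {X Y : Scheme.{u}} (f : X ⟶ Y) [LocallyQuasiFinite f] [LocallyOfFiniteType f] :
    (∀ y : Y, MoreMor.nGeomIrredComp f y = MoreMor.nGeomConnComp f y) ∧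
      (CompactSpace ↑X → ∃ d : ℕ, ∀ y : Y, MoreMor.nGeomConnComp f y ≤ d) := by
  refine ⟨fun y => ?_, fun hX => ?_⟩
  · haveI := Groth.Agent.MorLib.GP.discreteTopology_geomFiber f y
    rw [MoreMor.nGeomIrredComp, MoreMor.nGeomConnComp,
      Groth.Agent.MorLib.GP.irreducibleComponents_of_discrete,
      Groth.Agent.MorLib.GP.card_connectedComponents_of_discrete]
  · obtain ⟨n, hn⟩ := Groth.Agent.MorLib.GP.exists_cardLE f
    refine ⟨n, fun y => ?_⟩
    haveI := Groth.Agent.MorLib.GP.discreteTopology_geomFiber f y
    rw [MoreMor.nGeomConnComp, Groth.Agent.MorLib.GP.card_connectedComponents_of_discrete]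
    exact Groth.Agent.MorLib.GP.card_geomFiber_le hn y

end Groth.Agent.S1415
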