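import Groth.Statements.S14151
import Groth.Agent.Lib.InvEnd
import Groth.Agent.Lib.CurveStable

set_option autoImplicit false
set_option linter.style.haveILetI false
set_option linter.unusedVariables false
universe u
open CategoryTheory CategoryTheory.Limits AlgebraicGeometry
open VBCurve

namespace Groth.Agent.S14151

open Groth.Agent.CurveBundle Groth.Agent.CurveSlope Groth.Agent.CurveStable

/-- Let C be a smooth proper geometrically connected curve over a field k (proper, smooth and
geometrically connected over k, of dimension one) and E a finite locally free O_C-module of rank r ≥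
1; degrees of rank-n locally free modules are χ − n·χ(O_C) and slopes are compared by
cross-multiplication. Then: E is semistable in the sense of quotients (μ(E) ≤ μ(F) for every locally
free quotient E ↠ F of rank s ≥ 1) if and only if μ(G) ≤ μ(E) for every finite locally free
submodule G of E of rank r' ≥ 1; and E is stable in the sense of quotients (μ(E) < μ(F) for every
such quotient map which is not an isomorphism) if and only if μ(G) < μ(E) for every such submodule
whose inclusion is not an isomorphism. (The printed lemma says every nonzero subsheaf; for the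
strict inequalities the subsheaf and the quotient must be proper, as its proof uses.) -/
theorem result (k : Type u) [Field k] (X : Scheme.{u}) [X.Over (Spec (CommRingCat.of k))]
    [IsProper (X ↘ Spec (CommRingCat.of k))] [Smooth (X ↘ Spec (CommRingCat.of k))]
    [GeometricallyConnected (X ↘ Spec (CommRingCat.of k))] (hdim : topologicalKrullDim ↥X = 1)
    (r : ℕ) (hr : 0 < r) (E : X.Modules) (hE : FlatMod.IsFinLocFreeOfRank r E) :
    ((∀ (F : X.Modules) (s : ℕ) (p : E ⟶ F), Epi p → 0 < s → FlatMod.IsFinLocFreeOfRank s F →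
      Curv2.deg k X E r * (s : ℤ) ≤ Curv2.deg k X F s * (r : ℤ)) ↔
      (∀ (G : X.Modules) (r' : ℕ) (i : G ⟶ E), Mono i → 0 < r' → FlatMod.IsFinLocFreeOfRank r' G →
      Curv2.deg k X G r' * (r : ℤ) ≤ Curv2.deg k X E r * (r' : ℤ))) ∧
    ((∀ (F : X.Modules) (s : ℕ) (p : E ⟶ F), Epi p → 0 < s → FlatMod.IsFinLocFreeOfRank s F → (¬ IsIso p) →
      Curv2.deg k X E r * (s : ℤ) < Curv2.deg k X F s * (r : ℤ)) ↔
      (∀ (G : X.Modules) (r' : ℕ) (i : G ⟶ E), Mono i → 0 < r' → FlatMod.IsFinLocFreeOfRank r' G → (¬ IsIso i) →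
      Curv2.deg k X G r' * (r : ℤ) < Curv2.deg k X E r * (r' : ℤ))) := by
  haveI := isIntegral_of_geometricallyConnected k (X := X)
  haveI := isLocallyNoetherian' k (X := X)
  have hEf := isFinLocFree_of_rank hE
  have hEc := coh_of_free k hEf
  have sub_full : ∀ {G : X.Modules} (i : G ⟶ E), Mono i → FlatMod.IsFinLocFree G → rk G = r →
      dg k G ≤ dg k E ∧ (¬ IsIso i → dg k G < dg k E) := by
    intro G i hi hG hrk
    haveI := hi
    refine ⟨?_, dg_lt_of_rk_eq k hdim.le i (coh_of_free k hG) hEc (hrk.trans (rk_eq hE).symm)⟩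
    by_cases h : IsIso i
    · exact (dg_congr k (asIso i)).le
    · exact (dg_lt_of_rk_eq k hdim.le i (coh_of_free k hG) hEc (hrk.trans (rk_eq hE).symm) h).le
  have fwd : ∀ (strict : Prop), (∀ (F : X.Modules) (s : ℕ) (p : E ⟶ F), Epi p → 0 < s →
      FlatMod.IsFinLocFreeOfRank s F → (strict → ¬ IsIso p) →
      dg k E * (s : ℤ) ≤ dg k F * (r : ℤ) ∧ (strict → dg k E * (s : ℤ) < dg k F * (r : ℤ))) →
      ∀ (G : X.Modules) (n : ℕ) (i : G ⟶ E), Mono i → 0 < n → FlatMod.IsFinLocFreeOfRank n G →
        (strict → ¬ IsIso i) →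
        dg k G * (r : ℤ) ≤ dg k E * (n : ℤ) ∧ (strict → dg k G * (r : ℤ) < dg k E * (n : ℤ)) := by
    intro strict h G n i hi hn hG hni
    haveI := hi
    have hle : n ≤ r := by
      have := rk_le_of_mono k i hEc
      rwa [rk_eq hG, rk_eq hE] at this
    have hrp : (0 : ℤ) < r := by exact_mod_cast hr
    rcases hle.lt_or_eq with hlt | heq
    · obtain ⟨Q, p, hp, hQ, h1, h2⟩ := exists_quot_bundle k hdim.le hEf (isFinLocFree_of_rank hG) i
      rw [rk_eq hE, rk_eq hG] at h1
      have hniso : ¬ IsIso p := fun hiso => by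
        haveI := hiso
        have := rk_congr (asIso p)
        rw [rk_eq hE] at this
        omega
      obtain ⟨h3, h4⟩ := h Q _ p hp (by omega) (isFinLocFreeOfRank_rk hQ) (fun _ => hniso)
      have h1' : (r : ℤ) = (n : ℤ) + (rk Q : ℤ) := by exact_mod_cast h1
      have h2' := mul_le_mul_of_nonneg_right h2 hrp.le
      refine ⟨?_, fun hs => ?_⟩
      · linear_combination h2' + h3 + dg k E * h1'
      · linear_combination h2' + h4 hs + dg k E * h1'
    · subst heq
      obtain ⟨a, b⟩ := sub_full i hi (isFinLocFree_of_rank hG) (rk_eq hG)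
      exact ⟨mul_le_mul_of_nonneg_right a hrp.le, fun hs => mul_lt_mul_of_pos_right (b (hni hs)) hrp⟩
  have bwd : ∀ (strict : Prop), (∀ (G : X.Modules) (n : ℕ) (i : G ⟶ E), Mono i → 0 < n →
      FlatMod.IsFinLocFreeOfRank n G → (strict → ¬ IsIso i) →
      dg k G * (r : ℤ) ≤ dg k E * (n : ℤ) ∧ (strict → dg k G * (r : ℤ) < dg k E * (n : ℤ))) →
      ∀ (F : X.Modules) (s : ℕ) (p : E ⟶ F), Epi p → 0 < s → FlatMod.IsFinLocFreeOfRank s F →
        (strict → ¬ IsIso p) →
        dg k E * (s : ℤ) ≤ dg k F * (r : ℤ) ∧ (strict → dg k E * (s : ℤ) < dg k F * (r : ℤ)) := by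
    intro strict h F s p hp hs hF hnp
    haveI := hp
    have hFc := coh_of_free k (isFinLocFree_of_rank hF)
    have hKc := Groth.Agent.QCoh.isCoh_kernel hEc hFc p
    have hKf := Groth.Agent.CurveBundle.isFinLocFree_of_mono k hdim.le hKc (kernel.ι p) hEf
    have h1 := rk_add_coh k _ _ _ (shortExact_kernel_of_epi p) hEc
    have h2 := dg_add k _ _ _ (shortExact_kernel_of_epi p) hKc hEc hFc
    rw [rk_eq hE, rk_eq hF] at h1
    have h1' : (r : ℤ) = (rk (kernel p) : ℤ) + (s : ℤ) := by exact_mod_cast h1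
    rcases Nat.eq_zero_or_pos (rk (kernel p)) with h0 | h0
    · have hz := isZero_of_rk_zero hKf h0
      haveI : Mono p := Preadditive.mono_of_isZero_kernel p hz
      haveI : IsIso p := isIso_of_mono_of_epi p
      have hd := dg_congr k (asIso p)
      refine ⟨le_of_eq ?_, fun hst => absurd ‹IsIso p› (hnp hst)⟩
      rw [h0, Nat.cast_zero, zero_add] at h1'
      rw [← hd, h1']
    · obtain ⟨h3, h4⟩ := h _ _ (kernel.ι p) inferInstance h0 (isFinLocFreeOfRank_rk hKf) (fun _ hiso => by
        haveI := hiso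
        have := rk_congr (asIso (kernel.ι p))
        rw [rk_eq hE] at this
        omega)
      refine ⟨?_, fun hst => ?_⟩
      · linear_combination h3 + (r : ℤ) * h2 - dg k E * h1'
      · linear_combination h4 hst + (r : ℤ) * h2 - dg k E * h1'
  refine ⟨⟨fun h G n i hi hn hG => ?_, fun h F s p hp hs hF => ?_⟩,
    ⟨fun h G n i hi hn hG hni => ?_, fun h F s p hp hs hF hnp => ?_⟩⟩
  · rw [deg_eq_dg k hG, deg_eq_dg k hE]
    exact (fwd False (fun F s p hp hs hF _ => ⟨by
      have := h F s p hp hs hF
      rwa [deg_eq_dg k hF, deg_eq_dg k hE] at this, False.elim⟩) G n i hi hn hG False.elim).1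
  · rw [deg_eq_dg k hF, deg_eq_dg k hE]
    exact (bwd False (fun G n i hi hn hG _ => ⟨by
      have := h G n i hi hn hG
      rwa [deg_eq_dg k hG, deg_eq_dg k hE] at this, False.elim⟩) F s p hp hs hF False.elim).1
  · rw [deg_eq_dg k hG, deg_eq_dg k hE]
    exact (fwd True (fun F s p hp hs hF hp' => by
      have := h F s p hp hs hF (hp' trivial)
      rw [deg_eq_dg k hF, deg_eq_dg k hE] at this
      exact ⟨this.le, fun _ => this⟩) G n i hi hn hG (fun _ => hni)).2 trivial
  · rw [deg_eq_dg k hF, deg_eq_dg k hE]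
    exact (bwd True (fun G n i hi hn hG hi' => by
      have := h G n i hi hn hG (hi' trivial)
      rw [deg_eq_dg k hG, deg_eq_dg k hE] at this
      exact ⟨this.le, fun _ => this⟩) F s p hp hs hF (fun _ => hnp)).2 trivial

end Groth.Agent.S14151
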