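import Groth.Statements.S14153
import Groth.Agent.Lib.DivIrred
import Groth.Agent.Lib.AVLambda
import Groth.Agent.Lib.InvEnd
import Groth.Agent.Pic13Lib.SectDivisor
import Groth.Agent.GrpSchLib.SmoothRegular
import Groth.Agent.RegUFD.Basic
import Groth.Agent.AVTors.Card
import Groth.Agent.Lib.AbDualBase
import Groth.Agent.Lib.CurveOnSurf

set_option autoImplicit false
set_option backward.isDefEq.respectTransparency false
set_option backward.isDefEq.respectTransparency.types false
set_option linter.style.haveILetI false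
set_option linter.unusedSectionVars false
set_option maxHeartbeats 400000
universe u
open CategoryTheory CategoryTheory.Limits MonoidalCategory CartesianMonoidalCategory MonObj GrpObj AlgebraicGeometry
open AbVar

namespace Groth.Agent.S14153


set_option linter.style.haveILetI false
set_option backward.isDefEq.respectTransparency false
set_option backward.isDefEq.respectTransparency.types false
set_option maxHeartbeats 1000000
set_option synthInstance.maxHeartbeats 400000

open CategoryTheory CategoryTheory.Limits MonoidalCategory CartesianMonoidalCategory MonObj AlgebraicGeometry TopologicalSpace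

/-- Let k be an algebraically closed field of characteristic 0, A an abelian variety over k (a proper
smooth k-group scheme with geometrically connected fibres), (A^t, φ) a given dual abelian variety
for the fppf topology with A^t an abelian variety, L an ample invertible O_A-module with an inverse
L', and Λ a module on A ×_k A isomorphic to the Mumford module m^*L ⊗ pr_1^*L' ⊗ pr_2^*L', whose
class is assumed algebraically trivial on every geometric fibre of the second projection. Assume
that φ_L = φ(Λ) : A → A^t is an isomorphism, i.e. L defines a principal polarization, and let s be a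
nonzero global section of L with zero scheme Θ ⊆ A (the theta divisor). If Θ is irreducible then Θ
is reduced. -/
theorem result (k : Type u) [Field k] [IsAlgClosed k] [CharZero k]
    (A At : Over (Spec (CommRingCat.of k))) [GrpObj A] [IsProper A.hom] [Smooth A.hom] [GeometricallyConnected A.hom]
    [GrpObj At] [IsProper At.hom] [Smooth At.hom] [GeometricallyConnected At.hom]
    (φ : ∀ T : Over (Spec (CommRingCat.of k)), PicF.Cl (PicF.XT A.hom T) → (T ⟶ At))
    (hφ : AbDual.IsDualAV Scheme.fppfPrecoverage A At φ)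
    (L : A.left.Modules) (hLa : CohB1.IsAmple L) (L' : A.left.Modules) (hL' : Nonempty (CohB1.tensorMod L L' ≅ Coh.structureModule A.left))
    (Λ : (PicF.XT A.hom A).Modules)
    (hΛ : Nonempty (Λ ≅ CohB1.tensorMod (CohB1.tensorMod ((Scheme.Modules.pullback μ[A].left).obj L)
      ((Scheme.Modules.pullback (fst A A).left).obj L')) ((Scheme.Modules.pullback (snd A A).left).obj L')))
    (hΛ0 : AbDual.IsPicZeroCl A.hom A (PicF.cl Λ))
    [IsIso (φ A (PicF.cl Λ))]
    (s : Coh.structureModule A.left ⟶ L) (hs : s ≠ 0)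
    [IrreducibleSpace ↥(PicF2.zeroScheme L s).subscheme] :
    IsReduced (PicF2.zeroScheme L s).subscheme := by
  haveI : GeometricallyIntegral A.hom := AbDualBase.geometricallyIntegral_hom A
  haveI : GeometricallyIntegral At.hom := AbDualBase.geometricallyIntegral_hom At
  haveI : IsIntegral A.left := GeometricallyIntegral.isIntegral_of_subsingleton A.hom
  haveI := isCommMonObj_of_isProper_of_geometricallyIntegral A
  haveI := isCommMonObj_of_isProper_of_geometricallyIntegral At
  haveI : IsLocallyNoetherian A.left := LocallyOfFiniteType.isLocallyNoetherian A.hom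
  letI := H23.PicMul.clMonoid
  have hL := hLa.1
  haveI : Mono s := InvEnd.mono_of_ne_zero InvX.isInvertible_structureModule hL s hs
  obtain ⟨e⟩ := Pic13Lib.nonempty_idealMod_zeroScheme hL s
  have hLI : PicF.cl L * PicF.cl (ClSub.idealMod (PicF2.zeroScheme L s)) = 1 :=
    (H23.PicMul.cl_tensor _ _).symm.trans (H23.PicMul.cl_eq_iff.2 ⟨e⟩)
  have hIinv : PicF.IsInvertible (ClSub.idealMod (PicF2.zeroScheme L s)) :=
    (CurveOnSurf.isInvertible_of_inverse hL (by
      obtain ⟨c⟩ := H23.PicMul.comm (ClSub.idealMod (PicF2.zeroScheme L s)) L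
      exact ⟨c ≪≫ e⟩)).1
  obtain ⟨J, n, hJ, hJred, hn1, hIJ, ξ, hξ, hdim⟩ := DivIrred.exists_pow
    (fun x => by
      haveI := GrpSchLib.isRegularLocalRing_stalk_of_smooth A.hom x
      exact RegUFD.ufd _)
    (PicF2.zeroScheme L s) ((S8914.result _).1 hIinv)
  suffices hn : n = 1 by
    rw [hIJ, hn, pow_one]
    exact hJred
  by_contra hne
  have hn0 : 0 < n := hn1
  have hJi := (S8914.result J).2 hJ
  obtain ⟨M, hM, hJM⟩ : ∃ M : A.left.Modules, PicF.IsInvertible M ∧ PicF.cl (ClSub.idealMod J) * PicF.cl M = 1 := by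
    obtain ⟨M, hM, e'⟩ := H23.PicInv.exists_inverse hJi
    exact ⟨M, hM, (H23.PicMul.cl_tensor _ _).symm.trans (H23.PicMul.cl_eq_iff.2 e')⟩
  have hLM : PicF.cl L = PicF.cl M ^ n := by
    rw [hIJ, (DivIrred.cl_pow hJ n hn1).2] at hLI
    exact left_inv_eq_right_inv hLI (by rw [← mul_pow, hJM, one_pow])
  obtain ⟨g, hg⟩ := AVTors.exists_dimNat A
  have hg0 : 0 < g := by
    rcases Nat.eq_zero_or_pos g with rfl | h
    · have h1 := SchTop.ringKrullDim_stalk_le (X := A.left) ξ
      rw [hdim, hg] at h1
      exact absurd h1 (by decide)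
    · exact h
  -- the homomorphism of the theta divisor is divisible by the multiplicity
  have hbase : ∀ {N : A.left.Modules} (hN : PicF.IsInvertible N),
      AVLambda.base hN * AVPair.pl (fst A A) (PicF.cl N) * AVPair.pl (snd A A) (PicF.cl N) =
        AVPair.pl μ[A] (PicF.cl N) := fun {N} hN => by
    have := congrArg AVLambda.val (div_mul_cancel (AVDegPoly.q hN (fst A A * snd A A))
      (AVDegPoly.q hN (fst A A) * AVDegPoly.q hN (snd A A)))
    simp only [AVLambda.val, Subgroup.coe_mul, Units.val_mul] at this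
    rw [show μ[A] = fst A A * snd A A by rw [Hom.mul_def, lift_fst_snd, Category.id_comp]]
    exact (_root_.mul_assoc _ _ _).trans this
  have hΛ' : AgPol.IsLambda A At φ L (φ A (PicF.cl Λ)) := by
    obtain ⟨eΛ⟩ := hΛ
    have hc : (PicF.cl Λ : PicF.Cl (A ⊗ A).left) =
        AVPair.pl μ[A] (PicF.cl L) * AVPair.pl (fst A A) (PicF.cl L') * AVPair.pl (snd A A) (PicF.cl L') := by
      refine (H23.PicMul.cl_eq_iff.2 ⟨eΛ⟩).trans ?_
      rw [H23.PicMul.cl_tensor, H23.PicMul.cl_tensor]
      rfl
    have hLL : PicF.cl L * PicF.cl L' = 1 := (H23.PicMul.cl_tensor _ _).symm.trans (H23.PicMul.cl_eq_iff.2 hL')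
    obtain ⟨N, hN1, hN⟩ := AbDualBase.pz_invertible hΛ0
    exact ⟨N, hN, (PicGrp.cl_eq_cl_iff _ _).1 (show (PicF.cl N : PicF.Cl (A ⊗ A).left) * AVPair.pl (fst A A) (PicF.cl L) *
        AVPair.pl (snd A A) (PicF.cl L) = AVPair.pl μ[A] (PicF.cl L) by
      rw [hN1, hc, _root_.mul_assoc (AVPair.pl μ[A] (PicF.cl L)), _root_.mul_assoc, _root_.mul_assoc,
        _root_.mul_mul_mul_comm, ← map_mul, ← map_mul, mul_comm (PicF.cl L'), hLL, map_one, map_one,
        _root_.mul_one, _root_.mul_one]), congrArg _ hN1⟩
  have hpow : AgPol.IsLambda A At φ L (AVLambda.lam φ hM ^ n) := by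
    obtain ⟨N, hN1, hN⟩ := AbDualBase.pz_invertible (AVLambda.pz_base_pow hM n)
    exact ⟨N, hN, (PicGrp.cl_eq_cl_iff _ _).1 (show (PicF.cl N : PicF.Cl (A ⊗ A).left) * AVPair.pl (fst A A) (PicF.cl L) *
        AVPair.pl (snd A A) (PicF.cl L) = AVPair.pl μ[A] (PicF.cl L) by
      rw [hN1, hLM, map_pow, map_pow, map_pow, ← mul_pow, ← mul_pow, hbase hM]),
      (congrArg _ hN1).trans (AVLambda.phi_base_pow hM hφ n)⟩
  have hlam : φ A (PicF.cl Λ) = AVLambda.lam φ hM ^ n :=
    (AVLambda.eq_lam_of_isLambda hL hΛ').trans (AVLambda.eq_lam_of_isLambda hL hpow).symm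
  haveI := AVLambda.isMonHom_lam hM hφ
  -- a nontrivial torsion point in the kernel
  obtain ⟨hfin, -, hcard⟩ := AVTors.card_torsPts_le (A := A) hg n hn0
  haveI := hfin
  have h2 : 1 < Nat.card (AbDual.torsPts A n (AVTors.pt0 k)) := by
    rw [hcard (by exact_mod_cast hn0.ne')]
    exact Nat.one_lt_pow (by omega) (by omega)
  haveI := Finite.one_lt_card_iff_nontrivial.1 h2
  obtain ⟨x, hx⟩ := exists_ne (1 : AbDual.torsPts A n (AVTors.pt0 k))
  refine hx (Subtype.ext ((cancel_mono (φ A (PicF.cl Λ))).1 ?_))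
  rw [hlam, MonObj.comp_pow, MonObj.comp_pow]
  let r : (AVTors.pt0 k ⟶ A) →* (AVTors.pt0 k ⟶ At) :=
    MonoidHom.mk' (fun y => y ≫ AVLambda.lam φ hM) fun y z => MonObj.mul_comp y z _
  show r x.1 ^ n = r 1 ^ n
  rw [← map_pow, ← map_pow, one_pow, show x.1 ^ n = 1 from x.2]

end Groth.Agent.S14153
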