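import Groth.Agent.GenusOneSS.Stable
import Groth.Agent.GenusOneSS.Split
import Groth.Statements.S14155
-- import your own Groth.Agent.* helpers here

set_option autoImplicit false
universe u
open CategoryTheory CategoryTheory.Limits AlgebraicGeometry
open VBCurve

namespace Groth.Agent.S14155

/-- Let k be an algebraically closed field, X a smooth proper integral curve over k (proper and smooth
over k, integral, of dimension one) of genus one, i.e. dim_k H^1(X, O_X) = 1 (an elliptic curve once
a base point is chosen), and F a finite locally free O_X-module of rank r ≥ 1 which is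
indecomposable (nonzero, and in any decomposition F ≅ F₁ ⊕ F₂ one summand is zero), of degree d =
χ(F) − r·χ(O_X). Then F is stable — deg G · r < d · r' for every finite locally free submodule G of
F of rank r' ≥ 1 whose inclusion is not an isomorphism — if and only if gcd(d, r) = 1. (The
published corollary also identifies stability with simplicity in two senses; those equivalences are
not restated.) -/
theorem result (k : Type u) [Field k] [IsAlgClosed k]
    (X : Scheme.{u}) [X.Over (Spec (CommRingCat.of k))] [IsIntegral X]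
    [IsProper (X ↘ Spec (CommRingCat.of k))] [Smooth (X ↘ Spec (CommRingCat.of k))]
    (hdim : topologicalKrullDim ↥X = 1) (hg : Curv2.genus k X = 1)
    (r : ℕ) (hr : 0 < r) (F : X.Modules) (hF : FlatMod.IsFinLocFreeOfRank r F)
    (hind : ¬ IsZero F ∧ ∀ (F₁ F₂ : X.Modules), Nonempty (F ≅ F₁ ⊞ F₂) → IsZero F₁ ∨ IsZero F₂) :
    (∀ (G : X.Modules) (r' : ℕ) (i : G ⟶ F), Mono i → 0 < r' → FlatMod.IsFinLocFreeOfRank r' G → (¬ IsIso i) →
      Curv2.deg k X G r' * (r : ℤ) < Curv2.deg k X F r * (r' : ℤ)) ↔ Int.gcd (Curv2.deg k X F r) (r : ℤ) = 1 := by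
  haveI := CurveSlope.isLocallyNoetherian' k (X := X)
  have hFf := CurveStable.isFinLocFree_of_rank hF
  have hrk := CurveBundle.rk_eq hF
  constructor
  · intro h
    rw [CurveSlope.deg_eq_dg k hF]
    refine GenusOneSS.gcd_of_st k hdim hg r hr F hF fun G i hi hG h0 hlt => ?_
    have hGr := CurveBundle.isFinLocFreeOfRank_rk hG
    have h1 := h G _ i hi h0 hGr fun hiso => by
      haveI := hiso
      rw [CurveSlope.rk_congr (asIso i)] at hlt
      exact lt_irrefl _ hlt
    rwa [CurveSlope.deg_eq_dg k hGr, CurveSlope.deg_eq_dg k hF, ← hrk] at h1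
  · intro hgcd G r' i hi h0 hG hiso
    haveI := hi
    have hGf := CurveStable.isFinLocFree_of_rank hG
    have hss := GenusOneSS.semistable_of_indecomposable k hdim hg
      (CurveCohLib.Clifford.finrank_h0_structure k) hr hF hind.2 G i hGf
    rw [CurveBundle.rk_eq hG] at hss
    rw [CurveSlope.deg_eq_dg k hF] at hgcd ⊢
    rw [CurveSlope.deg_eq_dg k hG]
    refine lt_of_le_of_ne hss fun heq => ?_
    have hdvd : (r : ℤ) ∣ (r' : ℤ) := by
      refine (Int.isCoprime_iff_gcd_eq_one.2 hgcd).symm.dvd_of_dvd_mul_left ⟨CurveSlope.dg k G, ?_⟩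
      rw [← heq, mul_comm]
    have hle : r' ≤ r := by
      have := CurveStable.rk_le_of_mono k i (CurveStable.coh_of_free k hFf)
      rwa [CurveBundle.rk_eq hG, hrk] at this
    have heqr : r' = r := le_antisymm hle (Nat.le_of_dvd h0 (Int.natCast_dvd_natCast.1 hdvd))
    subst heqr
    have := CurveStable.dg_lt_of_rk_eq k hdim.le i (CurveStable.coh_of_free k hGf) (CurveStable.coh_of_free k hFf)
      ((CurveBundle.rk_eq hG).trans hrk.symm) hiso
    exact this.ne (Int.eq_of_mul_eq_mul_right (by exact_mod_cast h0.ne') heq)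

end Groth.Agent.S14155
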