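import Groth.Statements.S14159
import Groth.Agent.Lib.AVGraphPair

set_option autoImplicit false
set_option backward.isDefEq.respectTransparency false
set_option backward.isDefEq.respectTransparency.types false
set_option linter.style.haveILetI false
set_option linter.unusedSectionVars false
set_option maxHeartbeats 400000
universe u
open CategoryTheory CategoryTheory.Limits MonoidalCategory CartesianMonoidalCategory MonObj AlgebraicGeometry
open AgPol

namespace Groth.Agent.S14159

/-- Let S be a locally Noetherian scheme, A a projective abelian scheme over S of relative dimension g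
with commutative group law, (At, φ) a commutative group scheme with data presenting it as the dual
of A for the fppf topology, ξ a Poincaré class on A ×_S At (normalised along the unit section of A)
and lam : A ⟶ At a polarisation. If L is a module on A whose isomorphism class is the pull back of ξ
along the graph (1, lam) : A ⟶ A ×_S At, then lam · lam (twice lam, in the group of A-valued points
of At) is the homomorphism attached to L through φ. -/
theorem result (S : Scheme.{u}) [IsLocallyNoetherian S] (A At : Over S) [GrpObj A] [IsCommMonObj A]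
    [GrpObj At] [IsCommMonObj At] (g : ℕ) (hA : AgPol.IsAbSch A g) (hproj : RelProj.IsProjective A.hom)
    (φ : AgPol.DualMap A At) (hdual : AbDual.IsDualAV Scheme.fppfPrecoverage A At φ)
    (ξ : PicF.Cl (PicF.XT A.hom At)) (hξ : AbDual.IsPoincareCl A At φ ξ)
    (lam : A ⟶ At) (hpol : AgPol.IsPolarization A At φ lam) (L : A.left.Modules)
    (hL : PicF.cl L = PicF.pullCl (pullback.lift (𝟙 A.left) (lam).left ((Category.id_comp A.hom).trans (Over.w (lam)).symm)) ξ) :
    AgPol.IsLambda A At φ L (lam * lam) := by
  letI := fun (Y : Scheme.{u}) => Groth.Agent.H23.PicMul.clMonoid (X := Y)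
  haveI := hA.smooth
  haveI := hA.proper
  haveI := hA.geomConnected
  have hLi : PicF.IsInvertible L := by
    obtain ⟨M, e, hM⟩ := PicClLib.isInvertibleCl_pullCl
      (pullback.lift (𝟙 A.left) (lam).left ((Category.id_comp A.hom).trans (Over.w (lam)).symm))
      (Groth.Agent.AbDualBase.pz_invertible hξ.1)
    rw [← hL] at e
    exact Groth.Agent.H23.PicMul.isInvertible_of_iso (Groth.Agent.H23.PicMul.cl_eq_iff.1 e).some hM
  obtain ⟨c, hc, he, n, hn, hcn⟩ := Groth.Agent.AVGraphPair.exists_mumford (A := A) hLi
  obtain ⟨N, rfl, hN⟩ := Groth.Agent.AbDualBase.pz_invertible hc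
  refine ⟨N, hN, ?_, ?_⟩
  · refine (Groth.Agent.H23.PicMul.cl_eq_iff).1 ?_
    rw [Groth.Agent.H23.PicMul.cl_tensor, Groth.Agent.H23.PicMul.cl_tensor]
    exact he
  haveI := hpol.1
  refine Groth.Agent.AVGraphPair.eq_of_fibres ?_ fun Ω _ _ t => ?_
  · have e : PicF.pullCl (PicF.XTmap A.hom η[A]) (PicF.cl N) =
        PicF.pullCl (PicF.XTproj A.hom (𝟙_ (Over S))) n := by
      rw [← hcn]
      exact congrArg (PicF.pullCl · _) (pullback.hom_ext (by simp [PicF.XTmap]) (by simp [PicF.XTmap]))
    rw [← hdual.relPic.natural _ _ η[A] _ hc, e,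
      Groth.Agent.AbDualBase.phi_base hdual hn (e ▸ Groth.Agent.AbDualBase.pz_xtMap η[A] hc),
      MonObj.comp_mul, IsMonHom.one_hom lam, Hom.one_def, toUnit_unique (toUnit (𝟙_ (Over S))) (𝟙 _),
      Category.id_comp]
    have h1 : (η[At] : 𝟙_ (Over S) ⟶ At) = 1 := by
      rw [Hom.one_def, toUnit_unique (toUnit (𝟙_ (Over S))) (𝟙 _), Category.id_comp]
    rw [h1, _root_.one_mul]
  · have hLt : PicF.IsInvertible ((Scheme.Modules.pullback (pullback.fst A.hom t)).obj L) :=
      PicClLib.isInvertible_pullback _ hLi
    rw [Groth.Agent.AVGraphPair.map_phi t hdual L hc he hLt,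
      Groth.Agent.AVGraphPair.fibre_eq t hdual hξ hpol.2 (n := 1) hLt ?_, Functor.map_mul, pow_two]
    show PicF.pullCl _ (PicF.cl L) = PicF.pullCl _ (PicF.pullCl _ ξ)
    rw [hL, pow_one]
    rfl

end Groth.Agent.S14159
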