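import Groth.Statements.S1416
import Groth.Agent.FibDim.GenerizeDim
import Groth.Agent.FibDim.RelDim
import Groth.Agent.QCoh.Support
import Groth.Agent.QCoh.FlatOver
import Groth.Agent.S6284

set_option autoImplicit false
set_option linter.style.haveILetI false
universe u
open FlatMor

set_option backward.isDefEq.respectTransparency false
set_option backward.isDefEq.respectTransparency.types false

namespace Groth.Agent.S1416

open AlgebraicGeometry CategoryTheory TensorProduct in
/-- Over a generization in the base, the support of a flat finite module keeps independent elements. -/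
theorem exists_indepMod_over_generization {R B : Type u} {M : Type u} [CommRing R] [CommRing B] [Algebra R B]
    [AddCommGroup M] [Module R M] [Module B M] [IsScalarTower R B M] [Module.Finite B M] [Module.Flat R M]
    {P : PrimeSpectrum B} {p₀ : PrimeSpectrum R}
    (hspec : p₀ ⤳ PrimeSpectrum.comap (algebraMap R B) P)
    (hne : PrimeSpectrum.comap (algebraMap R B) P ≠ p₀)
    (hP : P ∈ Module.support B M) {n : ℕ} {t : Fin n → B} (ht : FibDim.IndepMod (A := R) t P.asIdeal) :
    ∃ q : PrimeSpectrum B, q ∈ Module.support B M ∧ PrimeSpectrum.comap (algebraMap R B) q = p₀ ∧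
      FibDim.IndepMod (A := R) t q.asIdeal := by
  obtain ⟨A, _, _, _, τ, pt, η, hpt, hη, hgen⟩ :=
    FibDim.exists_valuation_lift (S := Spec (CommRingCat.of R)) hspec hne
  letI : Algebra R A := (Spec.preimage τ).hom.toAlgebra
  have hτ : ∀ a : Spec (CommRingCat.of A), τ a = PrimeSpectrum.comap (algebraMap R A) a := fun a => by
    conv_lhs => rw [← Spec.map_preimage τ]
    rfl
  have hη0 : (η : PrimeSpectrum A).asIdeal = ⊥ :=
    le_bot_iff.1 ((PrimeSpectrum.le_iff_specializes (η : PrimeSpectrum A) ⟨⊥, Ideal.isPrime_bot⟩).2 (hgen _))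
  have hker : RingHom.ker (algebraMap R A) = p₀.asIdeal := by
    rw [← hη, hτ]
    show _ = Ideal.comap (algebraMap R A) (η : PrimeSpectrum A).asIdeal
    rw [hη0]
    rfl
  let p' : PrimeSpectrum A := pt
  have hp' : p'.asIdeal.under R = P.asIdeal.under R :=
    congrArg PrimeSpectrum.asIdeal ((hτ pt).symm.trans hpt)
  obtain ⟨Q, hQp, hQA, hQB, hQt⟩ := FibDim.exists_indepMod_baseChange P.asIdeal ht p'.asIdeal hp'
  letI : Algebra B (A ⊗[R] B) := Algebra.TensorProduct.rightAlgebra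
  let N := (A ⊗[R] B) ⊗[B] M
  haveI : Module.Flat A N :=
    Module.Flat.of_linearEquiv (Algebra.IsPushout.cancelBaseChange R A B (A ⊗[R] B) M)
  have hQN : (⟨Q, hQp⟩ : PrimeSpectrum (A ⊗[R] B)) ∈ Module.support (A ⊗[R] B) N := by
    rw [Groth.Agent.S6284.result M]
    refine Set.mem_preimage.2 ?_
    rwa [show PrimeSpectrum.comap (algebraMap B (A ⊗[R] B)) ⟨Q, hQp⟩ = P from PrimeSpectrum.ext hQB]
  obtain ⟨Q', hQ'N, hQ'Q, hQ'A⟩ : ∃ Q' : PrimeSpectrum (A ⊗[R] B), Q' ∈ Module.support (A ⊗[R] B) N ∧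
      Q'.asIdeal ≤ Q ∧ Q'.asIdeal.under A = ⊥ := by
    obtain ⟨m, hm⟩ := Module.mem_support_iff'.1 hQN
    have hann : Disjoint (((⊥ : Submodule (A ⊗[R] B) N).colon {m} : Ideal (A ⊗[R] B)) : Set (A ⊗[R] B))
        ↑((nonZeroDivisors A).map (algebraMap A (A ⊗[R] B)) ⊔ Q.primeCompl) := by
      rw [Set.disjoint_left]
      intro x hx hxS
      obtain ⟨_, ⟨a, ha, rfl⟩, s, hs, rfl⟩ := Submonoid.mem_sup.1 hxS
      rw [SetLike.mem_coe, Submodule.mem_colon_singleton, Submodule.mem_bot, mul_smul, algebraMap_smul] at hx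
      exact hm s hs (Module.Flat.isSMulRegular_of_nonZeroDivisors ha (hx.trans (smul_zero a).symm))
    obtain ⟨J, hJ, hJle, hJd⟩ := Ideal.exists_le_prime_disjoint _ _ hann
    have hJQ : J ≤ Q := fun x hx => by_contra fun hxQ =>
      Set.disjoint_left.1 hJd hx (Submonoid.mem_sup_right hxQ)
    refine ⟨⟨J, hJ⟩, Module.mem_support_iff'.2 ⟨m, fun r hr hrm => hr (hJle ?_)⟩, hJQ, ?_⟩
    · rw [Submodule.mem_colon_singleton, Submodule.mem_bot]
      exact hrm
    · refine le_bot_iff.1 fun a ha => ?_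
      by_contra ha0
      exact Set.disjoint_left.1 hJd ha (Submonoid.mem_sup_left
        ⟨a, mem_nonZeroDivisors_of_ne_zero ha0, rfl⟩)
  have hι : ∀ r : R, algebraMap B (A ⊗[R] B) (algebraMap R B r) =
      algebraMap A (A ⊗[R] B) (algebraMap R A r) := fun r => by
    show (1 : A) ⊗ₜ[R] algebraMap R B r = algebraMap R A r ⊗ₜ[R] (1 : B)
    rw [Algebra.algebraMap_eq_smul_one, Algebra.algebraMap_eq_smul_one, TensorProduct.smul_tmul]
  let q := PrimeSpectrum.comap (algebraMap B (A ⊗[R] B)) Q'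
  have hqR : PrimeSpectrum.comap (algebraMap R B) q = p₀ := PrimeSpectrum.ext (by
    rw [← hker]
    ext r
    show algebraMap B (A ⊗[R] B) (algebraMap R B r) ∈ Q'.asIdeal ↔ _
    rw [hι, RingHom.mem_ker, ← Ideal.mem_bot, ← hQ'A]
    rfl)
  refine ⟨q, ?_, hqR, fun G hG => ?_⟩
  · rw [Groth.Agent.S6284.result M] at hQ'N
    exact hQ'N
  · have hQ't := FibDim.indepMod_of_valuationRing hQ'Q hQ'A hQt
    have he : MvPolynomial.aeval (fun i => (1 : A) ⊗ₜ[R] t i) (MvPolynomial.map (algebraMap R A) G) =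
        (1 : A) ⊗ₜ[R] MvPolynomial.aeval t G := by
      rw [MvPolynomial.aeval_map_algebraMap]
      exact (MvPolynomial.comp_aeval_apply t
        (Algebra.TensorProduct.includeRight (R := R) (A := A) (B := B)) G).symm
    have h0 := hQ't (MvPolynomial.map (algebraMap R A) G) (by rw [he]; exact hG)
    rw [hQ'A, Ideal.map_bot, Ideal.mem_bot] at h0
    rw [MvPolynomial.mem_map_C_iff]
    intro d
    show G.coeff d ∈ (PrimeSpectrum.comap (algebraMap R B) q).asIdeal
    rw [hqR, ← hker, RingHom.mem_ker, ← MvPolynomial.coeff_map, h0, MvPolynomial.coeff_zero]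

open AlgebraicGeometry CategoryTheory Limits in
/-- Let f : X → S be locally of finite type with S irreducible with generic point η, and F a
quasi-coherent O_X-module of finite type which is flat over S. If the support of F in the fibre over
η has dimension ≤ r then the support of F in every fibre has dimension ≤ r (supports in fibres taken
as subspaces of X: the points of the fibre where the stalk of F is nonzero). -/
theorem result {X S : Scheme.{u}} (f : X ⟶ S) [LocallyOfFiniteType f] [IrreducibleSpace ↑S]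
    (F : X.Modules) (hF : Coh.IsCoh F) (hfl : FlatMod.IsFlatOver f F) (r : WithBot ℕ∞)
    (h : topologicalKrullDim ↑(f ⁻¹' {genericPoint ↑S} ∩ CohB1.support F) ≤ r) (s : S) :
    topologicalKrullDim ↑(f ⁻¹' {s} ∩ CohB1.support F) ≤ r := by
  have hcl : IsClosed (CohB1.support F) := Groth.Agent.QCoh.isClosed_support_of_isFT hF.1 hF.2
  rw [Set.inter_comm, FibDim.dim_closed_inter_eq_iSup f _ hcl] at h ⊢
  refine iSup_le fun ⟨z, hzF, hz⟩ => le_trans ?_ h
  subst hz
  suffices hkey : ∃ w, w ∈ CohB1.support F ∧ f w = genericPoint ↑S ∧ FibDim.rd f z ≤ FibDim.rd f w by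
    obtain ⟨w, hwF, hw, hle⟩ := hkey
    exact le_iSup_of_le ⟨w, hwF, hw⟩ (by exact_mod_cast hle)
  have hgen : genericPoint ↑S ⤳ f z := (genericPoint_spec ↑S).specializes trivial
  by_cases hne : f z = genericPoint ↑S
  · exact ⟨z, hzF, hne, le_rfl⟩
  obtain ⟨V, hV, hzV, -⟩ := exists_isAffineOpen_mem_and_subset (x := f z) (U := ⊤) trivial
  obtain ⟨U, hU, hzU, hUV⟩ := exists_isAffineOpen_mem_and_subset (x := z) (U := f ⁻¹ᵁ V) hzV
  replace hUV : U ≤ f ⁻¹ᵁ V := hUV
  obtain ⟨P, rfl⟩ := VarDim.exists_fromSpec_eq hU hzU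
  obtain ⟨p₀, hp₀⟩ := VarDim.exists_fromSpec_eq hV (hgen.mem_open V.isOpen hzV)
  letI : Algebra Γ(S, V) Γ(X, U) := (f.appLE V U hUV).hom.toAlgebra
  haveI : Algebra.FiniteType Γ(S, V) Γ(X, U) := f.finiteType_appLE hV hU hUV
  letI : Module Γ(S, V) Γ(F, U) := Module.compHom _ (f.appLE V U hUV).hom
  haveI : IsScalarTower Γ(S, V) Γ(X, U) Γ(F, U) := IsScalarTower.of_algebraMap_smul fun _ _ => rfl
  haveI : Module.Flat Γ(S, V) Γ(F, U) := (QCoh.flat_appLE_iff f hF.1 hU hV hUV).2 fun y _ => hfl y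
  haveI : Module.Finite Γ(X, U) Γ(F, U) := QCoh.finite_sections hF hU
  have hPF : P ∈ Module.support Γ(X, U) Γ(F, U) := by
    have := (QCoh.mem_moduleSupport_iff hF.1 hU (VarDim.fromSpec_mem hU P)).2 hzF
    convert this using 1
    exact hU.fromSpec.isOpenEmbedding.injective (hU.fromSpec_primeIdealOf ⟨_, _⟩).symm
  have hspec : p₀ ⤳ PrimeSpectrum.comap (algebraMap Γ(S, V) Γ(X, U)) P := by
    refine hV.fromSpec.isOpenEmbedding.isInducing.specializes_iff.1 ?_
    rw [hp₀]
    rw [FibDim.fromSpec_comm f hV hU hUV] at hgen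
    exact hgen
  have hpne : PrimeSpectrum.comap (algebraMap Γ(S, V) Γ(X, U)) P ≠ p₀ := fun e => hne (by
    rw [FibDim.fromSpec_comm f hV hU hUV, ← hp₀]
    exact congrArg hV.fromSpec e)
  obtain ⟨t, ht⟩ := (FibDim.le_rd_iff f hV hU hUV P _).1 le_rfl
  obtain ⟨q, hqF, hq, hqt⟩ := exists_indepMod_over_generization (M := Γ(F, U)) hspec hpne hPF ht
  have hwU := VarDim.fromSpec_mem hU q
  refine ⟨hU.fromSpec q, ?_, ?_, (FibDim.le_rd_iff f hV hU hUV q _).2 ⟨t, hqt⟩⟩
  · refine (QCoh.mem_moduleSupport_iff hF.1 hU hwU).1 ?_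
    convert hqF using 1
    exact hU.fromSpec.isOpenEmbedding.injective (hU.fromSpec_primeIdealOf ⟨_, _⟩)
  · rw [FibDim.fromSpec_comm f hV hU hUV, ← hp₀, ← hq]
    rfl

end Groth.Agent.S1416
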