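import Groth.Statements.S14160
import Groth.Agent.Lib.AVGraphPair

set_option autoImplicit false
set_option backward.isDefEq.respectTransparency false
set_option backward.isDefEq.respectTransparency.types false
set_option linter.style.haveILetI false
set_option linter.unusedSectionVars false
set_option maxHeartbeats 400000
universe u
open CategoryTheory CategoryTheory.Limits MonoidalCategory CartesianMonoidalCategory MonObj AlgebraicGeometry
open AgPol

namespace Groth.Agent.S14160

/-- Let S be a locally Noetherian scheme, A a projective abelian scheme over S of relative dimension g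
with commutative group law, (At, φ) a commutative group scheme with data presenting it as the dual
of A for the fppf topology, ξ a Poincaré class on A ×_S At, and k ≥ 1. If lam₁, lam₂ : A ⟶ At are
polarisations such that ξ pulls back to the same class on A along the graphs of lam₁ ^ k and of lam₂
^ k (powers in the group of A-valued points of At), then lam₁ = lam₂. (The published statement
claims uniqueness among all homomorphisms into the dual; on the square E × E of an elliptic curve
with its product principal polarisation lam₀, the homomorphism α(x, y) = lam₀(y, −x) has lam₀ + α ≠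
lam₀ while the graphs of k·lam₀ and k·(lam₀ + α) pull the Poincaré class back to isomorphic sheaves,
so this row asks lam₁, lam₂ to be polarisations, which is the case the printed argument covers; k =
0 is excluded since both pull backs are then along the unit section.) -/
theorem result (S : Scheme.{u}) [IsLocallyNoetherian S] (A At : Over S) [GrpObj A] [IsCommMonObj A]
    [GrpObj At] [IsCommMonObj At] (g : ℕ) (hA : AgPol.IsAbSch A g) (hproj : RelProj.IsProjective A.hom)
    (φ : AgPol.DualMap A At) (hdual : AbDual.IsDualAV Scheme.fppfPrecoverage A At φ)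
    (ξ : PicF.Cl (PicF.XT A.hom At)) (hξ : AbDual.IsPoincareCl A At φ ξ) (k : ℕ) (hk : 1 ≤ k)
    (lam₁ lam₂ : A ⟶ At) (h₁ : AgPol.IsPolarization A At φ lam₁) (h₂ : AgPol.IsPolarization A At φ lam₂)
    (heq : PicF.pullCl (pullback.lift (𝟙 A.left) (lam₁ ^ k).left ((Category.id_comp A.hom).trans (Over.w (lam₁ ^ k)).symm)) ξ = PicF.pullCl (pullback.lift (𝟙 A.left) (lam₂ ^ k).left ((Category.id_comp A.hom).trans (Over.w (lam₂ ^ k)).symm)) ξ) :
    lam₁ = lam₂ := by
  letI := fun (Y : Scheme.{u}) => Groth.Agent.H23.PicMul.clMonoid (X := Y)
  haveI := hA.smooth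
  haveI := hA.proper
  haveI := hA.geomConnected
  haveI := h₁.1
  haveI := h₂.1
  refine Groth.Agent.AVGraphPair.eq_of_fibres ((IsMonHom.one_hom lam₁).trans (IsMonHom.one_hom lam₂).symm)
    fun Ω _ _ t => ?_
  haveI := Groth.Agent.AbDualBase.geometricallyIntegral_fibre t A
  haveI : IsProper ((Over.pullback t).obj A).hom := inferInstanceAs (IsProper (pullback.snd A.hom t))
  obtain ⟨L, hLc, hL⟩ := PicClLib.isInvertibleCl_pullCl (pullback.fst A.hom t)
    (PicClLib.isInvertibleCl_pullCl
      (pullback.lift (𝟙 A.left) (lam₁ ^ k).left ((Category.id_comp A.hom).trans (Over.w (lam₁ ^ k)).symm))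
      (Groth.Agent.AbDualBase.pz_invertible hξ.1))
  have e1 := Groth.Agent.AVGraphPair.fibre_eq t hdual hξ h₁.2 (n := k) hL hLc
  have e2 := Groth.Agent.AVGraphPair.fibre_eq t hdual hξ h₂.2 (n := k) hL (by rw [hLc, heq]; rfl)
  open scoped CategoryTheory.Obj in
  exact Groth.Agent.AVGraphPair.eq_of_pow_eq _ _ (m := 2 * k) (by omega) (e1.symm.trans e2)

end Groth.Agent.S14160
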