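import Groth.Statements.S14162
import Groth.Agent.AVTate.RelLefschetz
-- import your own Groth.Agent.* helpers here

set_option autoImplicit false
set_option backward.isDefEq.respectTransparency.types false
set_option maxHeartbeats 1000000
universe u
open CategoryTheory CategoryTheory.Limits MonoidalCategory CartesianMonoidalCategory MonObj AlgebraicGeometry
open AgPol

namespace Groth.Agent.S14162

/-- Let S be a locally Noetherian scheme, A a projective abelian scheme over S of relative dimension g
with structure morphism π, L an invertible module on A which is ample relative to π, and n ≥ 2. Then
L^n is generated by its sections over S, that is, the counit π^*π_*(L^n) ⟶ L^n is an epimorphism;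
and for n ≥ 3 the module L^n is very ample relative to π: A admits an S-immersion into the
projective bundle of a quasi-coherent module on S under which the fundamental invertible sheaf pulls
back to L^n (existence of such a bundle; the immersion is then closed, π being proper). -/
theorem result (S : Scheme.{u}) [IsLocallyNoetherian S]
    (A : Over S) [GrpObj A] (g : ℕ) (hA : AgPol.IsAbSch A g) (hproj : RelProj.IsProjective A.hom)
    (L : A.left.Modules) (hL : PicF.IsInvertible L) (hample : RelAmple.IsRelAmple A.hom L) (n : ℕ) (hn : 2 ≤ n) :
    Epi ((Scheme.Modules.pullbackPushforwardAdjunction A.hom).counit.app (CohB1.tensorPow L n)) ∧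
      (3 ≤ n → RelProj.IsRelVeryAmple A.hom (CohB1.tensorPow L n)) := by
  haveI := hA.smooth
  haveI := hA.proper
  haveI := hA.geomConnected
  exact AVTate.RelLef.lefschetz hL hample hn

end Groth.Agent.S14162
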