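import Groth.Statements.S14163
import Groth.Agent.Lib.AVSchemeLam

set_option autoImplicit false
set_option backward.isDefEq.respectTransparency false
set_option backward.isDefEq.respectTransparency.types false
set_option linter.style.haveILetI false
set_option linter.unusedSectionVars false
set_option maxHeartbeats 400000
universe u
open CategoryTheory CategoryTheory.Limits MonoidalCategory CartesianMonoidalCategory MonObj AlgebraicGeometry
open AgPol

namespace Groth.Agent.S14163

/-- Let S be a locally Noetherian scheme, A a projective abelian scheme over S of relative dimension g
with commutative group law, structure morphism π and unit section ε, (At, φ) a commutative group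
scheme with data presenting it as the dual of A for the fppf topology, ξ a Poincaré class on A ×_S
At, L an invertible module on A which is ample relative to π and whose pull back along ε is trivial,
and k ≥ 1. Then there is a closed subscheme S₀ of S such that a locally Noetherian S-scheme T
factors through S₀ if and only if there is a homomorphism lam : A_T ⟶ At_T of T-group schemes such
that lam ^ (2k) is the homomorphism attached to the pulled-back module L_T through the base-changed
dual data and the class of L_T is the pull back of ξ (moved to A_T ×_T At_T) along the graph of lam
^ k. (The published statement asks only for a homomorphism lam with L_T isomorphic to the pull back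
along the graph of lam ^ k; the closed subscheme the printed argument constructs represents that
condition together with the clause on lam ^ (2k), which holds automatically for a polarisation lam
and can fail for other homomorphisms — on the square of an elliptic curve with its product principal
polarisation lam₀ and α(x, y) = lam₀(y, 0), the pull back along the graph of lam₀ + α is ample and
normalised while its attached homomorphism is not divisible by 2 — so the clause is kept here.) -/
theorem result (S : Scheme.{u}) [IsLocallyNoetherian S] (A At : Over S) [GrpObj A] [IsCommMonObj A]
    [GrpObj At] [IsCommMonObj At] (g : ℕ) (hA : AgPol.IsAbSch A g) (hproj : RelProj.IsProjective A.hom)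
    (φ : AgPol.DualMap A At) (hdual : AbDual.IsDualAV Scheme.fppfPrecoverage A At φ)
    (ξ : PicF.Cl (PicF.XT A.hom At)) (hξ : AbDual.IsPoincareCl A At φ ξ)
    (L : A.left.Modules) (hL : PicF.IsInvertible L) (hample : RelAmple.IsRelAmple A.hom L)
    (hrig : PicF.IsTrivialCl (PicF.cl ((Scheme.Modules.pullback η[A].left).obj L))) (k : ℕ) (hk : 1 ≤ k) :
    ∃ (S₀ : Scheme.{u}) (i₀ : S₀ ⟶ S), IsClosedImmersion i₀ ∧
      ∀ T : Over S, IsLocallyNoetherian T.left →
        ((∃ h : T.left ⟶ S₀, h ≫ i₀ = T.hom) ↔
          ∃ lam : Red.bc T.hom A ⟶ Red.bc T.hom At, IsMonHom lam ∧
            AgPol.IsLambda (Red.bc T.hom A) (Red.bc T.hom At) (AgPol.bcDual T.hom A At φ) ((Scheme.Modules.pullback (pullback.fst A.hom T.hom)).obj L) (lam ^ (2 * k)) ∧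
            PicF.cl ((Scheme.Modules.pullback (pullback.fst A.hom T.hom)).obj L) =
              PicF.pullCl (pullback.lift (𝟙 (Red.bc T.hom A).left) (lam ^ k).left
                ((Category.id_comp (Red.bc T.hom A).hom).trans (Over.w (lam ^ k)).symm))
              (PicF.pullCl ((AgPol.bcXTIso T.hom A (Red.bc T.hom At)).hom ≫
                PicF.XTmap A.hom (Over.homMk (pullback.fst At.hom T.hom) pullback.condition)) ξ)) := by
  haveI := hA.smooth
  haveI := hA.proper
  haveI := hA.geomConnected
  obtain ⟨S₀, i₀, hi, h⟩ := AVSchemeLam.exists_locus hdual hξ hL hrig hk
  exact ⟨S₀, i₀, hi, fun T _ => h T⟩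

end Groth.Agent.S14163
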