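import Groth.Statements.S14173
import Groth.Agent.PnCoh.Finite.ProjSpace
import Groth.Agent.QCoh.HHExact
import Groth.Agent.PnCoh.Finite.TwistTensor

set_option autoImplicit false
universe u
open CategoryTheory CategoryTheory.Limits AlgebraicGeometry
open Variety

namespace Groth.Agent.S14173

/-- Let k be an algebraically closed field of characteristic zero (the published statement is over the
complex numbers; this row allows any algebraically closed field of characteristic zero) and 0 → F₁ →
F₂ → F₃ → 0 a short exact sequence of coherent modules on P^n_k. If F₁ and F₃ are m-regular then so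
is F₂; equivalently reg F₂ ≤ max(reg F₁, reg F₃). -/
theorem result (k : Type u) [Field k] [IsAlgClosed k] [CharZero k]
    (n : ℕ) (S : ShortComplex (CohB1.ProjSpace n k).Modules) (hS : S.ShortExact)
    (h₁ : Coh.IsCoh S.X₁) (h₂ : Coh.IsCoh S.X₂) (h₃ : Coh.IsCoh S.X₃) (m : ℤ)
    (hreg₁ : Curv2.IsMRegular k n S.X₁ m) (hreg₃ : Curv2.IsMRegular k n S.X₃ m) :
    Curv2.IsMRegular k n S.X₂ m := by
  intro i hi1 hin
  let f : ULift.{u} (Fin (n + 1)) → MvPolynomial (Fin (n + 1)) k := fun j => MvPolynomial.X j.down
  have hf : ∀ j, f j ∈ CohB1.polyGrading n k 1 := fun j => MvPolynomial.isHomogeneous_X k j.down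
  have hcov : ⨆ j, Groth.Agent.PnCoh.Finite.D (CohB1.polyGrading n k) (f j) = ⊤ := by
    refine top_le_iff.1 ?_
    refine le_trans (Groth.Agent.PnCoh.iSup_mOpen_single (ι := Fin (n + 1)) (R := k)).ge ?_
    refine iSup_le fun j => ?_
    exact le_iSup_of_le (ULift.up j) le_rfl
  have hT := Groth.Agent.PnCoh.Finite.shortExact_twistBy f hf hcov (m - i) hS
  exact Groth.Agent.QCoh.subsingleton_HH_X₂ hT i (hreg₁ i hi1 hin) (hreg₃ i hi1 hin)

end Groth.Agent.S14173
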