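import Groth.Statements.S14175
import Mathlib

set_option autoImplicit false
universe u v w
open GalCoh

namespace Groth.Agent.S14175

/-- Let G be a finite cyclic group generated by t, let m be a natural number dividing the order of G,
and let ρ be a linear representation of G on a module V over a commutative ring k such that m·V = 0
and every element of G whose m-th power is the identity acts trivially on V. Then evaluating a
crossed homomorphism at t induces a bijection from the first cohomology of G with values in V
(crossed homomorphisms f, i.e. f(gh) = ρ(g)f(h) + f(g), modulo the principal ones g ↦ ρ(g)x − x)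
onto the coinvariants V_G (the quotient of V by the span of all ρ(g)v − v): the class of f(t) in V_G
vanishes exactly when f is principal, and every class of V_G is the class of f(t) for some crossed
homomorphism f. The bijection depends on the choice of the generator t. -/
theorem result
    {k : Type u} {G : Type v} {V : Type w} [CommRing k] [Group G] [Finite G]
    [AddCommGroup V] [Module k V] (ρ : Representation k G V)
    (t : G) (ht : ∀ g : G, g ∈ Subgroup.zpowers t)
    (m : ℕ) (hm : m ∣ Nat.card G) (htors : ∀ v : V, m • v = 0)
    (htriv : ∀ g : G, g ^ m = 1 → ∀ v : V, ρ g v = v) :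
    (∀ f : G → V, (∀ g h : G, f (g * h) = ρ g (f h) + f g) →
        (Representation.Coinvariants.mk ρ (f t) = 0 ↔ ∃ x : V, ∀ g : G, f g = ρ g x - x)) ∧
    (∀ v : V, ∃ f : G → V, (∀ g h : G, f (g * h) = ρ g (f h) + f g) ∧
        Representation.Coinvariants.mk ρ (f t) = Representation.Coinvariants.mk ρ v) := by
  classical
  have hpow : ∀ g : G, ∃ i : ℕ, t ^ i = g := fun g =>
    (Submonoid.mem_powers_iff _ _).1 (mem_powers_iff_mem_zpowers.2 (ht g))
  choose idx hidx using hpow
  have hord : orderOf t = Nat.card G := orderOf_eq_card_of_forall_mem_zpowers ht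
  have hker : ∀ x : V, Representation.Coinvariants.mk ρ x = 0 ↔ ∃ y, ρ t y - y = x := by
    intro x
    constructor
    · intro hx
      rw [Representation.Coinvariants.mk_eq_zero] at hx
      refine (Submodule.span_le (p := LinearMap.range (ρ t - 1))).2 ?_ hx
      rintro _ ⟨⟨g, y⟩, rfl⟩
      rw [SetLike.mem_coe]
      obtain ⟨i, rfl⟩ := Submonoid.mem_powers_iff _ _ |>.1 (mem_powers_iff_mem_zpowers.2 (ht g))
      change ρ (t ^ i) y - y ∈ _
      induction i generalizing y with
      | zero => simp
      | succ i ih =>
        have e : ρ (t ^ (i + 1)) y - y = (ρ (t ^ i) (ρ t y) - ρ t y) + (ρ t y - y) := by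
          rw [pow_succ, map_mul, Module.End.mul_apply]; abel
        rw [e]
        exact add_mem (ih _) ⟨y, rfl⟩
    · rintro ⟨y, rfl⟩
      rw [map_sub, Representation.Coinvariants.mk_self_apply, sub_self]
  refine ⟨fun f hf => ?_, fun v => ?_⟩
  · rw [hker]
    constructor
    · rintro ⟨y, hy⟩
      refine ⟨y, fun g => ?_⟩
      rw [← hidx g]
      generalize idx g = i
      induction i with
      | zero =>
        have := hf 1 1
        simp only [mul_one, map_one, Module.End.one_apply, left_eq_add] at this
        simp [this]
      | succ i ih =>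
        rw [pow_succ, hf, ih, ← hy, map_mul, Module.End.mul_apply, map_sub]
        abel
    · rintro ⟨y, hy⟩
      exact ⟨y, (hy t).symm⟩
  let S : ℕ → V := fun i => ∑ j ∈ Finset.range i, ρ (t ^ j) v
  have hS : ∀ i k, S (i + k) = ρ (t ^ i) (S k) + S i := fun i k => by
    simp only [S, Finset.sum_range_add, map_sum, pow_add, map_mul, Module.End.mul_apply]
    rw [add_comm]
  obtain ⟨q, hq⟩ := hm
  have hSn : S (Nat.card G) = 0 := by
    have htq : ∀ w : V, ρ (t ^ q) w = w := htriv (t ^ q) (by
      rw [← pow_mul, mul_comm q m, ← hq]; exact pow_card_eq_one')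
    have : ∀ r : ℕ, S (r * q) = r • S q := fun r => by
      induction r with
      | zero => simp [S]
      | succ r ih => rw [Nat.succ_mul, add_comm, hS, htq, ih, succ_nsmul]
    rw [hq, this, htors]
  have hper : ∀ r i, S (i + r * Nat.card G) = S i := fun r i => by
    induction r with
    | zero => simp
    | succ r ih => rw [Nat.succ_mul, ← add_assoc, hS, hSn, map_zero, zero_add, ih]
  have hcongr : ∀ i j, t ^ i = t ^ j → S i = S j := fun i j h => by
    rw [pow_eq_pow_iff_modEq, hord] at h
    have hi := Nat.div_add_mod' i (Nat.card G)
    have hj := Nat.div_add_mod' j (Nat.card G)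
    rw [← hi, ← hj, add_comm _ (i % _), add_comm _ (j % _), hper, hper, h]
  refine ⟨fun g => S (idx g), fun g h => ?_, congrArg _ ?_⟩
  · have e := hS (idx g) (idx h)
    rw [hidx g] at e
    exact (hcongr _ _ (by rw [pow_add, hidx, hidx, hidx])).trans e
  · exact (hcongr _ 1 (by rw [hidx, pow_one])).trans (by simp [S])

end Groth.Agent.S14175
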