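import Groth.Statements.S14176
import Mathlib

set_option autoImplicit false
universe u
open Pi1

namespace Groth.Agent.S14176

open W4c1etcurveeff2 in
/-- Let G be a topological group in which some finite subset generates a dense subgroup, let n ≥ 1, and
let S be the closure of the subgroup generated by all n-th powers and all commutators. Write D for
the group of continuous homomorphisms from G to the discrete cyclic group ℤ/n, that is,
homomorphisms with open kernel (the first cohomology of G with coefficients in the trivial module
ℤ/n), and D^∨ for its ℤ/n-dual, the group of homomorphisms D → ℤ/n. Then: S is carried onto itself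
by every group automorphism of G that is a homeomorphism; an element g of G lies in S exactly when
every element of D kills g, and every element of D^∨ is evaluation at some element of G, so that
evaluation identifies G/S with D^∨; and S is the only closed normal subgroup H of G with G/H
isomorphic to D^∨. (The published statement is for a topologically finitely generated group, calls S
characteristic and does not restrict the competing subgroups H; this row asks the automorphisms to
be homeomorphisms and H to be closed, which is what the argument uses: for the integers with the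
p-adic topology times a cyclic group of prime order q ≠ p, the subgroup qℤ × ℤ/q is normal, not
closed, and has quotient isomorphic to D^∨ ≅ ℤ/q, while S = ℤ × 0.) -/
theorem result
    {G : Type u} [Group G] [TopologicalSpace G] [IsTopologicalGroup G]
    (s : Finset G) (hs : Dense ((Subgroup.closure (s : Set G) : Subgroup G) : Set G))
    (n : ℕ) [NeZero n] (S : Subgroup G) (hS : S = powCommClosure G n) :
    (∀ φ : G ≃* G, Continuous φ → Continuous φ.symm → S.map φ.toMonoidHom = S) ∧
    (∀ g : G, g ∈ S ↔
        ∀ χ : G →* Multiplicative (ZMod n), IsOpen ((χ.ker : Subgroup G) : Set G) → χ g = 1) ∧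
    (∀ F : ContChar G n →* Multiplicative (ZMod n), ∃ g : G,
        ∀ χ : ContChar G n, F χ = (χ.1 : G →* Multiplicative (ZMod n)) g) ∧
    (∀ (H : Subgroup G) [H.Normal], IsClosed (H : Set G) →
        Nonempty (G ⧸ H ≃* (ContChar G n →* Multiplicative (ZMod n))) → H = S) := by
  classical
  have hN : (Subgroup.closure (Set.range fun g : G => g ^ n) ⊔ commutator G).Normal := by
    have : (Subgroup.closure (Set.range fun g : G => g ^ n)).Normal := by
      refine ⟨fun x hx g => ?_⟩
      have : Subgroup.closure (Set.range fun g : G => g ^ n) ≤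
          (Subgroup.closure (Set.range fun g : G => g ^ n)).comap (MulAut.conj g).toMonoidHom := by
        rw [Subgroup.closure_le]
        rintro _ ⟨y, rfl⟩
        exact Subgroup.subset_closure ⟨g * y * g⁻¹, by simp⟩
      exact this hx
    infer_instance
  have hSN : S.Normal := hS ▸ Subgroup.is_normal_topologicalClosure _
  have hSc : IsClosed (S : Set G) := hS ▸ Subgroup.isClosed_topologicalClosure _
  have hcomm : commutator G ≤ S :=
    hS ▸ le_trans le_sup_right (Subgroup.le_topologicalClosure _)
  have hpow : ∀ g : G, g ^ n ∈ S := fun g =>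
    hS ▸ Subgroup.le_topologicalClosure _ (Subgroup.mem_sup_left (Subgroup.subset_closure ⟨g, rfl⟩))
  letI : CommGroup (G ⧸ S) :=
    { (inferInstance : Group (G ⧸ S)) with
      mul_comm := fun a b => by
        obtain ⟨x, rfl⟩ := QuotientGroup.mk_surjective a
        obtain ⟨y, rfl⟩ := QuotientGroup.mk_surjective b
        rw [← QuotientGroup.mk_mul, ← QuotientGroup.mk_mul, QuotientGroup.eq]
        apply hcomm
        open scoped commutatorElement in
        have : (x * y)⁻¹ * (y * x) = ⁅y⁻¹, x⁻¹⁆ := by simp [commutatorElement_def, mul_assoc]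
        rw [this, commutator_def]
        exact Subgroup.commutator_mem_commutator (Subgroup.mem_top _) (Subgroup.mem_top _) }
  have hexp : Monoid.exponent (G ⧸ S) ∣ n := by
    refine Monoid.exponent_dvd_of_forall_pow_eq_one fun a => ?_
    obtain ⟨x, rfl⟩ := QuotientGroup.mk_surjective a
    rw [← QuotientGroup.mk_pow, QuotientGroup.eq_one_iff]
    exact hpow x
  have hfin : Finite (G ⧸ S) := by
    let K : Subgroup (G ⧸ S) := (Subgroup.closure (s : Set G)).map (QuotientGroup.mk' S)
    have hK : K = Subgroup.closure ((QuotientGroup.mk' S) '' (s : Set G)) := MonoidHom.map_closure _ _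
    have : Group.FG K := by
      rw [Group.fg_iff_subgroup_fg, hK]
      exact ⟨s.image (QuotientGroup.mk' S), by rw [Finset.coe_image]⟩
    have hKfin : Finite K := by
      apply CommGroup.finite_of_fg_isMulTorsion
      intro a
      refine isOfFinOrder_iff_pow_eq_one.mpr ⟨n, Nat.pos_of_ne_zero (NeZero.ne n), ?_⟩
      apply Subtype.ext
      rw [SubgroupClass.coe_pow]
      exact orderOf_dvd_iff_pow_eq_one.mp ((Monoid.order_dvd_exponent _).trans hexp)
    have hdense : Dense (K : Set (G ⧸ S)) := by
      rw [Subgroup.coe_map]
      exact DenseRange.dense_image (QuotientGroup.mk_surjective (s := S)).denseRange continuous_quot_mk hs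
    have : T1Space (G ⧸ S) := by
      refine ⟨fun a => ?_⟩
      obtain ⟨x, rfl⟩ := QuotientGroup.mk_surjective a
      rw [← (QuotientGroup.isQuotientMap_mk (N := S)).isClosed_preimage]
      have : (QuotientGroup.mk ⁻¹' {(x : G ⧸ S)} : Set G) = (fun g => x⁻¹ * g) ⁻¹' (S : Set G) := by
        ext g
        simp [eq_comm (a := (g : G ⧸ S)), QuotientGroup.eq]
      rw [this]
      exact hSc.preimage (continuous_const.mul continuous_id)
    have hKtop : (K : Set (G ⧸ S)) = Set.univ := by
      rw [← hdense.closure_eq, (Set.toFinite (K : Set (G ⧸ S))).isClosed.closure_eq]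
    exact Set.finite_univ_iff.mp (hKtop ▸ Set.toFinite (K : Set (G ⧸ S)))
  have hSfi : S.FiniteIndex := Subgroup.finiteIndex_of_finite_quotient
  have hSo : IsOpen (S : Set G) := Subgroup.isOpen_of_isClosed_of_finiteIndex _ hSc
  let M := Multiplicative (ZMod n)
  have hMn : HasEnoughRootsOfUnity M n :=
    { prim := ⟨Multiplicative.ofAdd 1, by
        convert IsPrimitiveRoot.orderOf (Multiplicative.ofAdd (1 : ZMod n))
        rw [orderOf_ofAdd_eq_addOrderOf, ZMod.addOrderOf_one]⟩
      cyc := by
        have : IsCyclic Mˣ := isCyclic_of_surjective (toUnits (G := M)) (toUnits (G := M)).surjective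
        infer_instance }
  have hMe : HasEnoughRootsOfUnity M (Monoid.exponent (G ⧸ S)) := hMn.of_dvd M hexp
  -- every continuous character kills S
  have hkill : ∀ χ : G →* M, IsOpen ((χ.ker : Subgroup G) : Set G) → S ≤ χ.ker := by
    intro χ hχ
    rw [hS]
    refine Subgroup.topologicalClosure_minimal _ (sup_le ?_ ?_) (χ.ker.isClosed_of_isOpen hχ)
    · rw [Subgroup.closure_le]
      rintro _ ⟨y, rfl⟩
      show χ (y ^ n) = 1
      rw [map_pow]
      exact Multiplicative.toAdd.injective (by rw [toAdd_pow, toAdd_one, ZModModule.char_nsmul_eq_zero n])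
    · exact Abelianization.commutator_subset_ker χ
  -- characters of G/S give continuous characters
  let ofQ : (G ⧸ S →* Mˣ) → (G →* M) := fun φ =>
    ((toUnits (G := M)).symm.toMonoidHom.comp φ).comp (QuotientGroup.mk' S)
  have hofQ : ∀ φ, IsOpen (((ofQ φ).ker : Subgroup G) : Set G) := fun φ =>
    Subgroup.isOpen_mono (H₁ := S) (fun x hx => by
      rw [MonoidHom.mem_ker]
      show (toUnits (G := M)).symm (φ (x : G ⧸ S)) = 1
      rw [(QuotientGroup.eq_one_iff x).mpr hx, map_one, map_one]) hSo
  refine ⟨?_, ?_, ?_, ?_⟩
  · intro φ h1 h2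
    have key : ∀ (ψ : G ≃* G), Continuous ψ → S.map ψ.toMonoidHom ≤ S := by
      intro ψ hψ
      rw [Subgroup.map_le_iff_le_comap]
      conv_lhs => rw [hS]
      refine Subgroup.topologicalClosure_minimal _ (sup_le ?_ ?_) (hSc.preimage hψ)
      · rw [Subgroup.closure_le]
        rintro _ ⟨y, rfl⟩
        show ψ (y ^ n) ∈ S
        rw [map_pow]
        exact hpow _
      · rw [← Subgroup.map_le_iff_le_comap, commutator_def, Subgroup.map_commutator]
        refine le_trans (Subgroup.commutator_mono le_top le_top) ?_
        rw [← commutator_def]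
        exact hcomm
    refine le_antisymm (key φ h1) fun x hx => ?_
    refine ⟨φ.symm x, key φ.symm h2 ⟨x, hx, rfl⟩, ?_⟩
    simp
  · intro g
    refine ⟨fun hg χ hχ => hkill χ hχ hg, fun h => ?_⟩
    by_contra hg
    obtain ⟨φ, hφ⟩ := CommGroup.exists_apply_ne_one_of_hasEnoughRootsOfUnity (G ⧸ S) M
      (a := (g : G ⧸ S)) (by rwa [Ne, QuotientGroup.eq_one_iff])
    apply hφ
    have := h (ofQ φ) (hofQ φ)
    exact (toUnits (G := M)).symm.injective (by rw [map_one]; exact this)
  · intro F
    let η : (G ⧸ S →* Mˣ) →* Mˣ := (toUnits (G := M)).toMonoidHom.comp (F.comp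
      { toFun := fun φ => (⟨ofQ φ, hofQ φ⟩ : W4c1etcurveeff2.ContChar G n)
        map_one' := by
          apply Subtype.ext
          ext x
          simp [ofQ]
        map_mul' := fun a b => by
          apply Subtype.ext
          ext x
          simp [ofQ] })
    obtain ⟨g, hg⟩ := QuotientGroup.mk_surjective (CommGroup.monoidHomMonoidHomEquiv (G ⧸ S) M η)
    refine ⟨g, fun χ => ?_⟩
    let φ : G ⧸ S →* Mˣ := (toUnits (G := M)).toMonoidHom.comp
      (QuotientGroup.lift S χ.1 (hkill χ.1 χ.2))
    have h := CommGroup.apply_monoidHomMonoidHomEquiv M φ η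
    rw [← hg] at h
    have hχ : (⟨ofQ φ, hofQ φ⟩ : W4c1etcurveeff2.ContChar G n) = χ := by
      apply Subtype.ext
      ext x
      simp [ofQ, φ]
    have h' := congrArg (toUnits (G := M)).symm h
    simp [η, φ] at h'
    exact (congrArg F hχ.symm).trans h'.symm
  · intro H _ hH ⟨e⟩
    have hle : S ≤ H := by
      have hc : ∀ a b : G ⧸ H, a * b = b * a := fun a b => e.injective (by rw [map_mul, map_mul, mul_comm])
      rw [hS]
      refine Subgroup.topologicalClosure_minimal _ (sup_le ?_ ?_) hH
      · rw [Subgroup.closure_le]
        rintro _ ⟨y, rfl⟩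
        rw [SetLike.mem_coe, ← QuotientGroup.eq_one_iff, QuotientGroup.mk_pow]
        apply e.injective
        rw [map_pow, map_one]
        ext χ
        rw [MonoidHom.pow_apply, MonoidHom.one_apply]
        exact Multiplicative.toAdd.injective (by rw [toAdd_pow, toAdd_one, ZModModule.char_nsmul_eq_zero n])
      · exact Subgroup.Normal.quotient_commutative_iff_commutator_le.mp ⟨⟨hc⟩⟩
    let eD : W4c1etcurveeff2.ContChar G n ≃* (G ⧸ S →* Mˣ) :=
      { toFun := fun χ => (toUnits (G := M)).toMonoidHom.comp (QuotientGroup.lift S χ.1 (hkill χ.1 χ.2))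
        invFun := fun φ => ⟨ofQ φ, hofQ φ⟩
        left_inv := fun χ => by
          apply Subtype.ext
          ext x
          simp [ofQ]
        right_inv := fun φ => by
          refine MonoidHom.ext fun a => ?_
          obtain ⟨x, rfl⟩ := QuotientGroup.mk_surjective a
          simp [ofQ]
        map_mul' := fun a b => by
          refine MonoidHom.ext fun c => ?_
          obtain ⟨x, rfl⟩ := QuotientGroup.mk_surjective c
          simp }
    let e2 : (W4c1etcurveeff2.ContChar G n →* M) ≃* (G ⧸ S) :=
      ((eD.monoidHomCongrLeft).trans (toUnits (G := M)).monoidHomCongrRight).trans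
        (CommGroup.monoidHomMonoidHomEquiv (G ⧸ S) M)
    have hcard : H.index = S.index := Nat.card_congr (e.trans e2).toEquiv
    have h1 := Subgroup.relIndex_mul_index hle
    rw [hcard] at h1
    have : S.relIndex H = 1 := by
      have := hSfi.index_ne_zero
      exact Nat.eq_of_mul_eq_mul_right (Nat.pos_of_ne_zero this) (by rw [one_mul]; exact h1)
    exact le_antisymm (Subgroup.relIndex_eq_one.mp this) hle

end Groth.Agent.S14176
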