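import Groth.Statements.S14177
import Mathlib
-- import your own Groth.Agent.* helpers here

set_option autoImplicit false
universe u v w
open scoped nonZeroDivisors
open EtAlg

namespace Groth.Agent.S14177

/-- Let A be a Dedekind domain with fraction field K, let n be a natural number invertible in A, let f
be a nonzero element of K whose principal fractional ideal is the n-th power of a fractional ideal I
(the divisor of f is n times a divisor), and let L = K(α) be a field extension of K generated by a
single element α with α^n = f. Then the integral closure of A in L is finite and étale over A. (The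
published statement is for the normalisation of an integral smooth curve over a perfect field in
such an extension of its function field; this row states the same for any Dedekind domain, the case
the local argument covers.) -/
theorem result
    {A : Type u} {K : Type v} {L : Type w} [CommRing A] [IsDedekindDomain A]
    [Field K] [Algebra A K] [IsFractionRing A K]
    [Field L] [Algebra K L] [Algebra A L] [IsScalarTower A K L]
    (n : ℕ) (hn : IsUnit (n : A)) (f : K) (hf : f ≠ 0)
    (I : FractionalIdeal A⁰ K) (hI : FractionalIdeal.spanSingleton A⁰ f = I ^ n)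
    (α : L) (hα : α ^ n = algebraMap K L f) (hgen : IntermediateField.adjoin K {α} = ⊤) :
    Algebra.Etale A (integralClosure A L) ∧ Module.Finite A (integralClosure A L) := by
  classical
  have hn0 : n ≠ 0 := by rintro rfl; simp at hn
  have hnK : (n : K) ≠ 0 := by
    have := (hn.map (algebraMap A K)).ne_zero
    rwa [map_natCast] at this
  have hint : IsIntegral K α := IsIntegral.of_pow (Nat.pos_of_ne_zero hn0) (hα ▸ isIntegral_algebraMap)
  haveI : FiniteDimensional K L := by
    haveI := IntermediateField.adjoin.finiteDimensional hint
    rw [hgen] at this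
    exact IntermediateField.topEquiv.toLinearEquiv.finiteDimensional
  haveI : Algebra.IsSeparable K L := by
    haveI : Algebra.IsSeparable K (IntermediateField.adjoin K {α}) :=
      (IntermediateField.isSeparable_adjoin_simple_iff_isSeparable K L).mpr
        ((Polynomial.separable_X_pow_sub_C f hnK hf).of_dvd
          (minpoly.dvd K α (by simp [hα])))
    rw [hgen] at this
    exact Algebra.IsSeparable.of_equiv_equiv (RingEquiv.refl K)
      (IntermediateField.topEquiv (F := K) (E := L)).toRingEquiv (RingHom.ext fun _ => rfl)
  let B := integralClosure A L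
  haveI : Module.Finite A B := IsIntegralClosure.finite A K L B
  haveI : IsDedekindDomain B := integralClosure.isDedekindDomain A K L
  haveI : IsFractionRing B L := IsIntegralClosure.isFractionRing_of_finite_extension A K L B
  have hinj : Function.Injective (algebraMap A L) := by
    rw [IsScalarTower.algebraMap_eq A K L]
    exact (algebraMap K L).injective.comp (IsFractionRing.injective A K)
  haveI : FaithfulSMul A L := (faithfulSMul_iff_algebraMap_injective _ _).mpr hinj
  haveI : Module.IsTorsionFree A B := by
    rw [Module.isTorsionFree_iff_algebraMap_injective]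
    exact fun a b h => hinj (congrArg (fun x : B => (x : L)) h)
  haveI : FaithfulSMul A B := Module.isTorsionFree_iff_faithfulSMul.mp inferInstance
  letI := FractionRing.liftAlgebra A (FractionRing B)
  haveI : Algebra.IsSeparable (FractionRing A) (FractionRing B) := by
    refine Algebra.IsSeparable.of_equiv_equiv (FractionRing.algEquiv A K).symm.toRingEquiv
      (FractionRing.algEquiv B L).symm.toRingEquiv ?_
    apply IsLocalization.ringHom_ext A⁰
    ext a
    simp only [RingHom.comp_apply, AlgEquiv.toRingEquiv_eq_coe, RingHom.coe_coe, AlgEquiv.coe_ringEquiv,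
      AlgEquiv.commutes, ← IsScalarTower.algebraMap_apply A K L]
    rw [IsScalarTower.algebraMap_apply A B L, AlgEquiv.commutes,
      ← IsScalarTower.algebraMap_apply A (FractionRing A) (FractionRing B),
      ← IsScalarTower.algebraMap_apply A B (FractionRing B)]
  have hI0 : I ≠ 0 := by
    rintro rfl
    rw [zero_pow hn0, FractionalIdeal.spanSingleton_eq_zero_iff] at hI
    exact hf hI
  have hunr : ∀ P : Ideal B, ∀ [P.IsPrime], Algebra.IsUnramifiedAt A P := by
    intro P hP
    rw [← not_dvd_differentIdeal_iff]
    intro hdvd
    have hle : differentIdeal A B ≤ P := Ideal.le_of_dvd hdvd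
    set p : Ideal A := P.comap (algebraMap A B) with hp
    -- choose `c ∈ I⁻¹` with `c I ⊄ p`
    obtain ⟨c, y, hc, hy, a, ha, hap⟩ : ∃ c y : K, c ∈ I⁻¹ ∧ y ∈ I ∧ ∃ a : A, algebraMap A K a = c * y ∧ a ∉ p := by
      by_contra hne
      push_neg at hne
      have h1 : (1 : FractionalIdeal A⁰ K) ≤ (p : FractionalIdeal A⁰ K) := by
        rw [← inv_mul_cancel₀ hI0, FractionalIdeal.mul_le]
        intro i hi j hj
        have h2 : i * j ∈ (1 : FractionalIdeal A⁰ K) := by
          rw [← inv_mul_cancel₀ hI0]
          exact FractionalIdeal.mul_mem_mul hi hj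
        obtain ⟨a, ha⟩ := (FractionalIdeal.mem_one_iff _).mp h2
        exact (FractionalIdeal.mem_coeIdeal _).mpr ⟨a, hne i j hi hj a ha, ha⟩
      rw [← FractionalIdeal.coeIdeal_top, FractionalIdeal.coeIdeal_le_coeIdeal] at h1
      exact (Ideal.IsPrime.comap (algebraMap A B)).ne_top (top_le_iff.mp h1)
    have hcn : c ^ n * f ∈ (1 : FractionalIdeal A⁰ K) := by
      have h1 : f ∈ I ^ n := hI ▸ FractionalIdeal.mem_spanSingleton_self _ _
      have h2 : c ^ n ∈ I⁻¹ ^ n := by
        rw [← FractionalIdeal.mem_coe, FractionalIdeal.coe_pow]
        exact Submodule.pow_mem_pow _ hc n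
      have h3 := FractionalIdeal.mul_mem_mul h2 h1
      rwa [← mul_pow, inv_mul_cancel₀ hI0, one_pow] at h3
    obtain ⟨u, hu⟩ := (FractionalIdeal.mem_one_iff _).mp hcn
    obtain ⟨v, hv⟩ : ∃ v : A, v • f = y ^ n := by
      have : y ^ n ∈ FractionalIdeal.spanSingleton A⁰ f := by
        rw [hI, ← FractionalIdeal.mem_coe, FractionalIdeal.coe_pow]
        exact Submodule.pow_mem_pow _ hy n
      exact (FractionalIdeal.mem_spanSingleton _).mp this
    have hup : u ∉ p := by
      intro hup
      refine hap ((Ideal.IsPrime.comap (algebraMap A B)).mem_of_pow_mem n ?_)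
      have : a ^ n = v * u := IsFractionRing.injective A K (by
        rw [map_pow, ha, mul_pow, ← hv, map_mul, hu, Algebra.smul_def]; ring)
      rw [this]
      exact Ideal.mul_mem_left _ v hup
    set β : L := algebraMap K L c * α
    have hβn : β ^ n = algebraMap A L u := by
      rw [mul_pow, hα, IsScalarTower.algebraMap_apply A K L, hu, map_mul, map_pow]
    have hβint : IsIntegral A β := IsIntegral.of_pow (Nat.pos_of_ne_zero hn0) (hβn ▸ isIntegral_algebraMap)
    let b : B := ⟨β, hβint⟩
    have hbn : b ^ n = algebraMap A B u := Subtype.ext hβn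
    have hc0 : c ≠ 0 := by
      rintro rfl
      rw [zero_pow hn0, zero_mul] at hu
      exact hup (by rw [(map_eq_zero_iff _ (IsFractionRing.injective A K)).mp hu]; exact p.zero_mem)
    have hadj : Algebra.adjoin K {algebraMap B L b} = ⊤ := by
      rw [eq_top_iff, ← IntermediateField.top_toSubalgebra, ← hgen,
        IntermediateField.adjoin_simple_toSubalgebra_of_isAlgebraic (IsAlgebraic.of_finite K α),
        Algebra.adjoin_le_iff, Set.singleton_subset_iff]
      have : α = algebraMap K L c⁻¹ * β := by
        rw [← mul_assoc, ← map_mul, inv_mul_cancel₀ hc0, map_one, one_mul]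
      rw [this]
      exact mul_mem (Subalgebra.algebraMap_mem _ _) (Algebra.self_mem_adjoin_singleton K (algebraMap B L b))
    have hmem := hle (aeval_derivative_mem_differentIdeal A K L b hadj)
    obtain ⟨s, hs⟩ := minpoly.isIntegrallyClosed_dvd (R := A) (S := B) (Algebra.IsIntegral.isIntegral b)
      (p := Polynomial.X ^ n - Polynomial.C u) (by simp [hbn])
    have hd := congrArg (fun q => Polynomial.aeval b (Polynomial.derivative q)) hs
    simp only [Polynomial.derivative_mul, Polynomial.derivative_sub, Polynomial.derivative_X_pow,
      Polynomial.derivative_C, sub_zero, map_add, map_mul, minpoly.aeval, zero_mul, add_zero,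
      Polynomial.aeval_C, map_pow, Polynomial.aeval_X] at hd
    have hnb : algebraMap A B (n : A) * b ^ (n - 1) ∈ P := by
      rw [hd]; exact Ideal.mul_mem_right _ _ hmem
    have hbP : b ^ n ∈ P := by
      obtain ⟨w, hw⟩ := hn.map (algebraMap A B)
      have := Ideal.mul_mem_left P (↑w⁻¹ * b) hnb
      rwa [← hw, mul_assoc, mul_left_comm b, Units.inv_mul_cancel_left, ← pow_succ',
        Nat.sub_add_cancel (Nat.one_le_iff_ne_zero.mpr hn0)] at this
    exact hup (by rw [hp, Ideal.mem_comap, ← hbn]; exact hbP)
  haveI : Algebra.FormallyUnramified A B :=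
    Algebra.unramifiedLocus_eq_univ_iff.mp (Set.eq_univ_of_forall fun q => hunr q.asIdeal)
  haveI : Algebra.FinitePresentation A B := Algebra.FinitePresentation.of_finiteType.mp inferInstance
  exact ⟨Algebra.Etale.of_formallyUnramified_of_flat, inferInstance⟩

end Groth.Agent.S14177
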