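import Groth.Statements.S14178
import Mathlib.FieldTheory.KummerExtension
import Mathlib.RingTheory.DedekindDomain.Factorization
-- import your own Groth.Agent.* helpers here

set_option autoImplicit false
universe u v w
open scoped nonZeroDivisors
open EtAlg

namespace Groth.Agent.S14178

/-- Let A be a Dedekind domain with fraction field K, let n be a natural number invertible in A such
that K contains a primitive n-th root of unity, let f be a nonzero element of K and I an invertible
fractional ideal of A with (f) = I^n whose class in the ideal class group of A has order exactly n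
(the divisor of f is n times a divisor whose class has order n), and let L = K(α) be a field
extension of K generated by a single element α with α^n = f. Then L is Galois over K of degree n
with cyclic Galois group. (The published statement is for an integral smooth curve over a perfect
field containing a primitive n-th root of unity, with the Picard group of the curve in place of the
class group; this row states it for any Dedekind domain.) -/
theorem result
    {A : Type u} {K : Type v} {L : Type w} [CommRing A] [IsDedekindDomain A]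
    [Field K] [Algebra A K] [IsFractionRing A K]
    [Field L] [Algebra K L]
    (n : ℕ) (hn : IsUnit (n : A)) (ζ : K) (hζ : IsPrimitiveRoot ζ n) (f : K) (hf : f ≠ 0)
    (I : (FractionalIdeal A⁰ K)ˣ) (hI : FractionalIdeal.spanSingleton A⁰ f = (I : FractionalIdeal A⁰ K) ^ n)
    (hord : orderOf (ClassGroup.mk K I) = n)
    (α : L) (hα : α ^ n = algebraMap K L f) (hgen : IntermediateField.adjoin K {α} = ⊤) :
    IsGalois K L ∧ IsCyclic (L ≃ₐ[K] L) ∧ Module.finrank K L = n := by
  classical
  have hn0 : n ≠ 0 := by rintro rfl; simp at hn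
  have hfL : algebraMap K L f ≠ 0 := (map_ne_zero _).mpr hf
  have hα0 : α ≠ 0 := by rintro rfl; rw [zero_pow hn0] at hα; exact hfL hα.symm
  have hint : IsIntegral K α := IsIntegral.of_pow (Nat.pos_of_ne_zero hn0) (hα ▸ isIntegral_algebraMap)
  haveI : FiniteDimensional K L := by
    haveI := IntermediateField.adjoin.finiteDimensional hint
    rw [hgen] at this
    exact IntermediateField.topEquiv.toLinearEquiv.finiteDimensional
  have hm : Module.finrank K L = (minpoly K α).natDegree := by
    rw [← IntermediateField.adjoin.finrank hint, hgen, IntermediateField.finrank_top']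
  set m := Module.finrank K L with hmdef
  -- `α ^ m` lies in `K`
  have hαm : α ^ m ∈ (algebraMap K L).fieldRange := by
    have h1 : (Algebra.norm K α) ^ n = f ^ m := by
      rw [← map_pow, hα, Algebra.norm_algebraMap]
    have hu : (algebraMap K L (Algebra.norm K α) / α ^ m) ^ n = 1 := by
      rw [div_pow, ← map_pow, h1, map_pow, ← pow_mul, mul_comm m n, pow_mul, hα, div_self]
      exact pow_ne_zero _ hfL
    haveI : NeZero n := ⟨hn0⟩
    obtain ⟨i, -, hi⟩ := (hζ.map_of_injective (algebraMap K L).injective).eq_pow_of_pow_eq_one hu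
    have h2 : algebraMap K L (Algebra.norm K α) = algebraMap K L ζ ^ i * α ^ m := by
      rw [hi, div_mul_cancel₀ _ (pow_ne_zero _ hα0)]
    have hζ0 : ζ ≠ 0 := hζ.ne_zero hn0
    refine ⟨Algebra.norm K α / ζ ^ i, ?_⟩
    rw [map_div₀, h2, map_pow, mul_div_cancel_left₀]
    exact pow_ne_zero _ ((map_ne_zero _).mpr hζ0)
  have hαn : α ^ n ∈ (algebraMap K L).fieldRange := ⟨f, hα.symm⟩
  have hd : α ^ Nat.gcd m n ∈ (algebraMap K L).fieldRange := by
    rw [← zpow_natCast, Nat.gcd_eq_gcd_ab, zpow_add₀ hα0, zpow_mul, zpow_mul, zpow_natCast, zpow_natCast]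
    exact mul_mem (zpow_mem hαm _) (zpow_mem hαn _)
  obtain ⟨g, hg⟩ := hd
  have hdn : Nat.gcd m n ∣ n := Nat.gcd_dvd_right _ _
  have hd0 : 0 < Nat.gcd m n := Nat.gcd_pos_of_pos_right _ (Nat.pos_of_ne_zero hn0)
  have hle : m ≤ Nat.gcd m n := by
    rw [hm]
    have h := Polynomial.natDegree_le_of_dvd
      (minpoly.dvd K α (p := Polynomial.X ^ Nat.gcd (minpoly K α).natDegree n - Polynomial.C g) (by simp [← hm, hg]))
      (Polynomial.X_pow_sub_C_ne_zero (hm ▸ hd0) g)
    exact h.trans (Polynomial.natDegree_X_pow_sub_C (n := _) (r := g)).le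
  have hmn : m ∣ n := by
    have : m = Nat.gcd m n := le_antisymm hle (Nat.le_of_dvd Module.finrank_pos (Nat.gcd_dvd_left _ _))
    rw [this]; exact hdn
  obtain ⟨k, hk⟩ := hmn
  have hk0 : k ≠ 0 := by rintro rfl; exact hn0 (by simpa using hk)
  rw [Nat.gcd_eq_left ⟨k, hk⟩] at hg
  have hgk : g ^ k = f := (algebraMap K L).injective (by rw [map_pow, hg, ← pow_mul, ← hk, hα])
  have hg0 : g ≠ 0 := by rintro rfl; rw [zero_pow hk0] at hgk; exact hf hgk.symm
  -- hence `I ^ m` is principal
  have hIm : (I : FractionalIdeal A⁰ K) ^ m = FractionalIdeal.spanSingleton A⁰ g := by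
    have hne1 : (I : FractionalIdeal A⁰ K) ^ m ≠ 0 := pow_ne_zero _ I.ne_zero
    have hne2 : FractionalIdeal.spanSingleton A⁰ g ≠ 0 := FractionalIdeal.spanSingleton_ne_zero_iff.mpr hg0
    rw [← FractionalIdeal.finprod_heightOneSpectrum_factorization' K hne1,
      ← FractionalIdeal.finprod_heightOneSpectrum_factorization' K hne2]
    refine finprod_congr fun v => ?_
    have h := congrArg (FractionalIdeal.count K v)
      (show ((I : FractionalIdeal A⁰ K) ^ m) ^ k = (FractionalIdeal.spanSingleton A⁰ g) ^ k by
        rw [← pow_mul, ← hk, ← hI, FractionalIdeal.spanSingleton_pow, hgk])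
    rw [FractionalIdeal.count_pow K v k, FractionalIdeal.count_pow K v k] at h
    rw [mul_left_cancel₀ (Int.natCast_ne_zero.mpr hk0) h]
  have hnm : n ∣ m := by
    rw [← hord, orderOf_dvd_iff_pow_eq_one, ← map_pow, ClassGroup.mk_eq_one_iff]
    rw [Units.val_pow_eq_pow_val, hIm, FractionalIdeal.coe_spanSingleton]
    exact ⟨⟨g, rfl⟩⟩
  have hmeq : m = n := Nat.dvd_antisymm ⟨k, hk⟩ hnm
  have hK : (primitiveRoots (Module.finrank K L) K).Nonempty :=
    ⟨ζ, (mem_primitiveRoots Module.finrank_pos).mpr (by rw [← hmdef, hmeq]; exact hζ)⟩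
  have h13 := ((isCyclic_tfae K L hK).out 2 0 rfl rfl).mp ⟨α, ⟨g, hg⟩, hgen⟩
  exact ⟨h13.1, h13.2, hmeq⟩

end Groth.Agent.S14178
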