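import Groth.Statements.S1585
import Groth.Agent.NormCurve.Delta
import Groth.Agent.NormCurve.Normal
import Groth.Agent.NagataLib.Field

set_option autoImplicit false
universe u
open CategoryTheory CategoryTheory.Limits AlgebraicGeometry
open Variety

namespace Groth.Agent.S1585


open Groth.Agent

set_option linter.style.haveILetI false

theorem isNagata_affine (k : Type u) [Field k] (X : Scheme.{u}) [X.Over (Spec (CommRingCat.of k))]
    [LocallyOfFiniteType (X ↘ (Spec (CommRingCat.of k)))] (U : X.affineOpens) : CAlg.IsNagata Γ(X, (U : X.Opens)) := by
  have h : ((X ↘ Spec (CommRingCat.of k)).appLE ⊤ U (by simp)).hom.FiniteType :=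
    HasRingHomProperty.appLE @LocallyOfFiniteType (X ↘ Spec (CommRingCat.of k)) inferInstance
      ⟨⊤, isAffineOpen_top _⟩ U (by simp)
  let φ : k →+* Γ(X, (U : X.Opens)) := ((X ↘ Spec (CommRingCat.of k)).appLE ⊤ U (by simp)).hom.comp
    (Scheme.ΓSpecIso (CommRingCat.of k)).inv.hom
  letI := φ.toAlgebra
  haveI : Algebra.FiniteType k Γ(X, (U : X.Opens)) := RingHom.finiteType_algebraMap.1
    (h.comp (RingHom.FiniteType.of_surjective _
      (Scheme.ΓSpecIso (CommRingCat.of k)).commRingCatIsoToRingEquiv.symm.surjective))
  exact NagataLib.isNagata_of_finiteType k _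

/-- Part (1): and (4), for an integral scheme locally of finite type over a field: the normalization
morphism ν (normalization of X in its function field) is finite, dominant and an isomorphism over a
nonempty open, and the normalization is an integral scheme all of whose local rings are integrally
closed domains. (The quasi-compactness/quasi-separatedness binders on Spec K(X) → X always hold;
they are needed only to form Mathlib's relative normalization.) -/
theorem result (k : Type u) [Field k] (X : Scheme.{u}) [X.Over (Spec (CommRingCat.of k))] [IsIntegral X] [LocallyOfFiniteType (X ↘ (Spec (CommRingCat.of k)))]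
    [QuasiCompact (X.fromSpecStalk (genericPoint X))] [QuasiSeparated (X.fromSpecStalk (genericPoint X))] :
    IsFinite (Curv2.normalizationι X) ∧ IsDominant (Curv2.normalizationι X) ∧
      (∃ V : X.Opens, (V : Set X).Nonempty ∧ IsIso (Curv2.normalizationι X ∣_ V)) ∧
      IsIntegral (Curv2.normalization X) ∧ Pi1.IsNormalScheme (Curv2.normalization X) := by
  have hN := isNagata_affine k X
  obtain ⟨V, hV, hiso⟩ := NormCurve.exists_isIso X hN
  haveI : IsDomain (X.presheaf.stalk (genericPoint X)) := inferInstanceAs (IsDomain X.functionField)
  haveI : IsIntegral (Curv2.normalization X) :=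
    inferInstanceAs (IsIntegral (X.fromSpecStalk (genericPoint X)).normalization)
  refine ⟨NormCurve.isFinite_normalizationι X hN, ⟨?_⟩,
    ⟨V, hV.nonempty, hiso⟩, inferInstance, NormCurve.isNormalScheme_normalization X⟩
  rw [denseRange_iff_closure_range, Set.eq_univ_iff_forall]
  exact fun z => (genericPoint_specializes z).mem_closed isClosed_closure
    (subset_closure (NormCurve.genericPoint_mem_range X))

end Groth.Agent.S1585
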