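import Groth.Statements.S14179
import Groth.Agent.Curve11.FiniteBirationalH
import Groth.Agent.S1585

set_option autoImplicit false
universe u
open CategoryTheory CategoryTheory.Limits AlgebraicGeometry
open EtCore

namespace Groth.Agent.S14179

/-- Let k be an algebraically closed field, X an integral curve over k (separated and of finite type
over k, of dimension one) and ν : X^ν ⟶ X its normalization, and let n ≥ 1 be invertible in k. Then
pulling back along ν induces a bijection from H²(X, μ_n) onto H²(X^ν, ν⁻¹μ_n) (étale cohomology;
ν⁻¹μ_n is the sheaf of n-th roots of unity of X^ν). (The published statement allows any curve over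
k; this row takes X integral. Exactness of pullback of abelian sheaves and the quasi-compactness and
quasi-separatedness of Spec K(X) ⟶ X always hold; the binders are only needed to form the map and
the normalization.) -/
theorem result
    (k : Type u) [Field k] [IsAlgClosed k] (X : Scheme.{u}) (f : X ⟶ Spec (CommRingCat.of k))
    [IsSeparated f] [LocallyOfFiniteType f] [QuasiCompact f] [IsIntegral X]
    (hdim : topologicalKrullDim X = 1)
    [QuasiCompact (X.fromSpecStalk (genericPoint X))] [QuasiSeparated (X.fromSpecStalk (genericPoint X))]
    [PreservesFiniteLimits (EtCoh.pull (Curv2.normalizationι X))]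
    (n : ℕ) (hn : 1 ≤ n) (hnk : (n : k) ≠ 0) :
    Function.Bijective (EtCore.Hpull (Curv2.normalizationι X) (EtCoh.mu X n) 2) := by
  letI : X.Over (Spec (CommRingCat.of k)) := ⟨f⟩
  haveI : LocallyOfFiniteType (X ↘ Spec (CommRingCat.of k)) := inferInstanceAs (LocallyOfFiniteType f)
  obtain ⟨hfin, -, ⟨V, hV, hVi⟩, -, -⟩ := S1585.result k X
  refine Curve11.Hpull_bijective (Curv2.normalizationι X) f hdim.le V (fun x hx => ?_) (EtCoh.mu X n) 0
  obtain ⟨y, hy⟩ := hV
  rw [genericPoints_eq_singleton, Set.mem_singleton_iff] at hx
  exact hx ▸ ((genericPoint_spec X).specializes trivial).mem_open V.isOpen hy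


end Groth.Agent.S14179
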