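import Groth.Statements.S14180
import Groth.Agent.Curve11.NodeH1
import Groth.Agent.S1585
import Groth.Agent.S11568
import Groth.Agent.S7657
import Groth.Agent.S13507
import Groth.Agent.CurveCover.SmoothCompletion
import Groth.Agent.Curve11.NodeOdp
import Groth.Agent.Neron6.BirOpen
import Groth.Agent.CurveH2.Basics

set_option autoImplicit false
universe u
open CategoryTheory CategoryTheory.Limits AlgebraicGeometry
open EtCore

namespace Groth.Agent.S14180

/-- Let k be an algebraically closed field and n ≥ 1 an integer invertible in k; let X be an integral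
proper curve over k (separated and of finite type, of dimension one) whose closed points are all
smooth points or nodes, with exactly one node, and let ν : X^ν ⟶ X be its normalization. Then the
pullback map H¹(X, μ_n) → H¹(X^ν, ν⁻¹μ_n) on étale cohomology is surjective and its kernel has
exactly n elements (it is the image of (μ_n(k) × μ_n(k))/μ_n(k)). (The published statement is for
the base change to an algebraic closure of a projective nodal curve with one node over a perfect
field and records the Galois-module structure of the short exact sequence; this row keeps the part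
over the algebraically closed field. Exactness of pullback and the quasi-compactness and
quasi-separatedness of Spec K(X) ⟶ X always hold; the binders only serve to form the map and the
normalization.) -/
theorem result
    (k : Type u) [Field k] [IsAlgClosed k] (X : Scheme.{u}) [X.Over (Spec (CommRingCat.of k))]
    [IsProper (X ↘ Spec (CommRingCat.of k))] [IsIntegral X]
    (hdim : topologicalKrullDim X = 1)
    (hnodal : Curv2.AtWorstNodal k X) (hone : Nat.card {x : X // Curv2.IsNode k X x} = 1)
    [QuasiCompact (X.fromSpecStalk (genericPoint X))] [QuasiSeparated (X.fromSpecStalk (genericPoint X))]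
    [PreservesFiniteLimits (EtCoh.pull (Curv2.normalizationι X))]
    (n : ℕ) (hn : 1 ≤ n) (hnk : (n : k) ≠ 0) :
    Function.Surjective (EtCore.Hpull (Curv2.normalizationι X) (EtCoh.mu X n) 1) ∧
    Nat.card (EtCore.Hpull (Curv2.normalizationι X) (EtCoh.mu X n) 1).ker = n := by
  classical
  let s : X ⟶ Spec (CommRingCat.of k) := X ↘ Spec (CommRingCat.of k)
  obtain ⟨hfin, hdom, ⟨V, hV, hVi⟩, hZi, hZn⟩ := S1585.result k X
  let ν := Curv2.normalizationι X
  haveI : IsFinite ν := hfin
  haveI : Surjective ν := surjective_of_isDominant_of_isClosed_range ν ν.isClosedMap.isClosed_range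
  haveI : IsLocallyNoetherian X := LocallyOfFiniteType.isLocallyNoetherian s
  haveI : CompactSpace X := QuasiCompact.compactSpace_of_compactSpace s
  haveI : AlgebraicGeometry.IsNoetherian X := {}
  haveI : NeZero n := ⟨by omega⟩
  haveI : NeZero (n : k) := ⟨hnk⟩
  haveI : JacobsonSpace X := LocallyOfFiniteType.jacobsonSpace s
  obtain ⟨hu, ⟨x₀, hx₀⟩⟩ := Nat.card_eq_one_iff_unique.1 hone
  have hxc : IsClosed ({x₀} : Set X) := hx₀.1
  let ξ : Spec (CommRingCat.of k) ⟶ X := pointOfClosedPoint s x₀ hxc
  have hξs : ξ ≫ s = 𝟙 _ := pointOfClosedPoint_comp s x₀ hxc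
  have hξx : ∀ a, ξ.base a = x₀ := pointOfClosedPoint_apply s x₀ hxc
  haveI : IsClosedImmersion ξ := isClosedImmersion_of_comp_eq_id s ξ hξs
  have hr : Set.range ξ.base = {x₀} := by
    ext y
    exact ⟨fun ⟨a, ha⟩ => ha.symm.trans (hξx a), fun hy => ⟨default, (hξx _).trans (Set.mem_singleton_iff.1 hy).symm⟩⟩
  let W : X.Opens := ⟨(Set.range ξ.base)ᶜ, (hr ▸ hxc).isOpen_compl⟩
  have hgp : genericPoint X ≠ x₀ := fun h => by
    have h1 : topologicalKrullDim ({x₀} : Set X) ≤ 0 := topologicalKrullDim_zero_of_discreteTopology _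
    have h2 : (Set.univ : Set X) = {x₀} := by rw [← (genericPoint_spec X).def, h, hxc.closure_eq]
    rw [← h2, (Homeomorph.Set.univ X).isHomeomorph.topologicalKrullDim_eq, hdim] at h1
    exact absurd h1 (by norm_num)
  have hgW : genericPoints X ⊆ (W : Set X) := fun y hy => by
    rw [genericPoints_eq_singleton, Set.mem_singleton_iff] at hy
    show y ∉ Set.range ξ.base
    rw [hr, hy]
    exact hgp
  haveI : IsIso (ν ∣_ W) := CurveCover.SmoothCompletion.isIso_restrict_of_normal ν V
    (V.isOpen.dense hV) hVi W (fun y hy => by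
    by_cases hyc : IsClosed ({y} : Set X)
    · obtain ⟨U, hyU, hUs⟩ := (hnodal y hyc).resolve_right fun hn => hy (by
        rw [hr]; exact congrArg Subtype.val (Subsingleton.elim (α := {x : X // Curv2.IsNode k X x}) ⟨y, hn⟩ ⟨x₀, hx₀⟩))
      have hk : Pi1.IsNormalScheme (Spec (CommRingCat.of k)) := fun x => by
        haveI : Subsingleton (Spec (CommRingCat.of k)) := inferInstanceAs (Subsingleton (PrimeSpectrum k))
        have hf := GenDiff29.isField_stalk_of_eq (Y := Spec (CommRingCat.of k)) (y := x) (Subsingleton.elim _ _)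
        letI := hf.toField
        exact ⟨inferInstance, inferInstance⟩
      have h := Neron6.isNormalScheme_of_smooth (U.ι ≫ s) hk ⟨y, hyU⟩
      haveI := h.1
      haveI := h.2
      exact IsIntegrallyClosed.of_equiv (asIso (U.ι.stalkMap ⟨y, hyU⟩)).commRingCatIsoToRingEquiv.symm
    · have hyg : y = genericPoint X := by
        by_contra h
        exact hyc (CurveH2.isClosed_of_ne_generic hdim.le h)
      subst hyg
      exact inferInstanceAs (IsIntegrallyClosed X.functionField))
  let g : Curv2.normalization X ⟶ Spec (CommRingCat.of k) := ν ≫ s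
  haveI : LocallyOfFiniteType g := inferInstance
  have hbr : Nat.card {x' : ↥(Curv2.normalization X) // ν.base x' = x₀} = 2 := by
    have hodp := Curve11.odp_of_isNode hx₀
    obtain ⟨e, he⟩ := hodp
    have hI : Ideal.span {(MvPowerSeries.X 0 * MvPowerSeries.X 1 : MvPowerSeries (Fin 2) k)} =
        Ideal.span {f : MvPowerSeries (Fin 2) k |
          ∃ i j : Fin 2, i ≠ j ∧ f = MvPowerSeries.X i * MvPowerSeries.X j} := by
      refine le_antisymm (Ideal.span_mono (Set.singleton_subset_iff.2 ⟨0, 1, by decide, rfl⟩))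
        (Ideal.span_le.2 ?_)
      rintro _ ⟨i, j, hij, rfl⟩
      refine Ideal.mem_span_singleton.2 ?_
      fin_cases i <;> fin_cases j
      · exact absurd rfl hij
      · exact dvd_rfl
      · exact dvd_of_eq (mul_comm _ _)
      · exact absurd rfl hij
    have h2 := (S11568.result k X (fun Z hZ => by
      rw [irreducibleComponents_eq_singleton, Set.mem_singleton_iff] at hZ
      rw [hZ, (Homeomorph.Set.univ X).isHomeomorph.topologicalKrullDim_eq, hdim]) x₀ hxc 2
      (e.trans (Ideal.quotEquivOfEq hI)) (fun c => (congrArg (Ideal.quotEquivOfEq hI) (he c)).trans (Ideal.quotEquivOfEq_mk hI _))).1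
    rw [(S7657.result X x₀).1] at h2
    exact (congrArg ENat.toNat h2).trans rfl
  have hlifts : Nat.card {p : Spec (CommRingCat.of k) ⟶ Curv2.normalization X // p ≫ ν = ξ} = 2 := by
    refine (Nat.card_congr (Equiv.ofBijective
      (fun p : {p : Spec (CommRingCat.of k) ⟶ Curv2.normalization X // p ≫ ν = ξ} =>
        (⟨p.1.base (IsLocalRing.closedPoint k), by rw [← Scheme.Hom.comp_apply, p.2]; exact hξx _⟩ :
          {x' : ↥(Curv2.normalization X) // ν.base x' = x₀}))
      ⟨fun p q hpq => Subtype.ext (ext_of_apply_closedPoint_eq g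
        (by rw [← Category.assoc, p.2, hξs]) (by rw [← Category.assoc, q.2, hξs]) (congrArg Subtype.val hpq)),
      fun z => ?_⟩)).trans hbr
    obtain ⟨l, hl, hlz⟩ := EtFound.exists_fac_of_integral ν ξ z.1 (z.2.trans (hξx _).symm)
    exact ⟨⟨l, hl⟩, Subtype.ext ((congrArg l.base (Subsingleton.elim (α := Spec (CommRingCat.of k)) _ _)).trans hlz)⟩
  haveI := hZi
  obtain ⟨ζ, hζ⟩ := HasEnoughRootsOfUnity.exists_primitiveRoot k n
  let ψ : k →+* Γ(X, ⊤) := s.appTop.hom.comp (Scheme.ΓSpecIso (CommRingCat.of k)).inv.hom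
  obtain ⟨e⟩ := S13507.result X n hn (by
    rw [← map_natCast ψ]
    exact (IsUnit.mk0 _ hnk).map ψ) (ψ ζ) (by
    have h0 : Polynomial.aeval ζ (Polynomial.cyclotomic n ℤ) = 0 := by
      rw [Polynomial.aeval_def, ← Polynomial.eval_map, Polynomial.map_cyclotomic]
      exact hζ.isRoot_cyclotomic (by omega)
    exact (Polynomial.aeval_algHom_apply ψ.toIntAlgHom ζ _).trans ((congrArg _ h0).trans (map_zero _)))
  let A : AddCommGrpCat.{u + 1} := AddCommGrpCat.of (ULift.{u + 1} (ZMod n))
  obtain ⟨hsur, hcard⟩ := Curve11.Hpull_one_cst ν s hdim.le ξ W rfl hgW hlifts A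
  let Φ := ((EtCoh.HF X 1).mapIso e).addCommGroupIsoToAddEquiv
  let Φ' := ((EtCoh.HF (Curv2.normalization X) 1).mapIso ((EtCoh.pull ν).mapIso e)).addCommGroupIsoToAddEquiv
  have hnat : ∀ a, EtCore.Hpull ν ((Curve11.cst X).obj A) 1 (Φ a) = Φ' (EtCore.Hpull ν (EtCoh.mu X n) 1 a) :=
    fun a => Curve11.Hpull_comp ν e.hom 1 a
  refine ⟨fun c => ?_, ?_⟩
  · obtain ⟨b, hb⟩ := hsur (Φ' c)
    obtain ⟨a, rfl⟩ := Φ.surjective b
    exact ⟨a, Φ'.injective ((hnat a).symm.trans hb)⟩
  · have hmem : ∀ a, a ∈ (EtCore.Hpull ν (EtCoh.mu X n) 1).ker ↔ Φ a ∈ (EtCore.Hpull ν ((Curve11.cst X).obj A) 1).ker := by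
      intro a
      show EtCore.Hpull ν (EtCoh.mu X n) 1 a = 0 ↔ EtCore.Hpull ν ((Curve11.cst X).obj A) 1 (Φ a) = 0
      exact ⟨fun h => (hnat a).trans ((congrArg Φ' h).trans (map_zero Φ')), fun h => Φ'.injective (((hnat a).symm.trans h).trans (map_zero Φ').symm)⟩
    refine (Nat.card_congr (Φ.toEquiv.subtypeEquiv hmem)).trans (hcard.trans ?_)
    exact (Nat.card_congr AddEquiv.ulift.toEquiv).trans (Nat.card_zmod n)


end Groth.Agent.S14180
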