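import Groth.Statements.S14181
import Mathlib

set_option autoImplicit false
universe u
open CategoryTheory
open GalCoh

namespace Groth.Agent.S14181

/-- Let G be a group with a finite normal subgroup P, k a commutative ring and A a k-linear
representation of G such that multiplication by the order of P is a bijection of A. Then the
inflation map on 1-cocycles (crossed homomorphisms) Z¹(G/P, A^P) → Z¹(G, A) has a k-linear left
inverse. (The published statement is for the inertia group of a Galois cover of smooth curves at a
point, its normal Sylow p-subgroup P and a module of n-torsion with n prime to p; the argument uses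
only that the order of P acts invertibly, which is the hypothesis taken here.) -/
theorem result
    {k G : Type u} [CommRing k] [Group G] (A : Rep.{u} k G) (P : Subgroup G) [P.Normal] [Finite P]
    (hP : Function.Bijective fun a : A => (Nat.card P : k) • a) :
    ∃ r : ModuleCat.of k (groupCohomology.cocycles₁ A) ⟶
        ModuleCat.of k (groupCohomology.cocycles₁ (A.quotientToInvariants P)),
      (groupCohomology.mapCocycles₁ (QuotientGroup.mk' P) (Rep.ofHom (A.ρ.quotientToInvariants_lift P)) :
          ModuleCat.of k (groupCohomology.cocycles₁ (A.quotientToInvariants P)) ⟶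
            ModuleCat.of k (groupCohomology.cocycles₁ A)) ≫ r = 𝟙 _ := by
  classical
  have : Fintype P := Fintype.ofFinite P
  let N : A.V →ₗ[k] A.V := (Nat.card P : k) • LinearMap.id
  let e : A.V ≃ₗ[k] A.V := LinearEquiv.ofBijective N hP
  let σ : groupCohomology.cocycles₁ A →ₗ[k] A.V :=
    { toFun := fun f => e.symm (∑ q : P, f (q : G))
      map_add' := fun f f' => by
        rw [← map_add, ← Finset.sum_add_distrib]
        rfl
      map_smul' := fun c f => by
        rw [RingHom.id_apply, ← map_smul, Finset.smul_sum]
        rfl }
  have hσ : ∀ f, (Nat.card P : k) • σ f = ∑ q : P, f (q : G) := fun f => e.apply_symm_apply _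
  let φ : groupCohomology.cocycles₁ A → G → A.V := fun f g => f g + A.ρ g (σ f) - σ f
  have hcoc : ∀ f g h, φ f (g * h) = A.ρ g (φ f h) + φ f g := fun f g h => by
    have := (groupCohomology.mem_cocycles₁_iff f.1).1 f.2 g h
    change f (g * h) = A.ρ g (f h) + f g at this
    simp only [φ, this, map_mul, Module.End.mul_apply, map_add, map_sub]
    abel
  have hP0 : ∀ f (p : P), φ f p = 0 := fun f p => by
    apply hP.injective
    have h1 : ∀ q : P, f ((p : G) * q) = A.ρ p (f q) + f p := fun q =>
      (groupCohomology.mem_cocycles₁_iff f.1).1 f.2 p q
    have h2 : ∑ q : P, f ((p : G) * q) = ∑ q : P, f (q : G) :=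
      Fintype.sum_equiv (Equiv.mulLeft p) _ _ (fun q => by simp)
    rw [Finset.sum_congr rfl (fun q _ => h1 q), Finset.sum_add_distrib, ← map_sum,
      Finset.sum_const, Finset.card_univ, ← Nat.card_eq_fintype_card, ← Nat.cast_smul_eq_nsmul k,
      ← hσ, map_smul] at h2
    simp only [φ, smul_add, smul_sub, smul_zero]
    linear_combination (norm := abel) h2
  have hright : ∀ f g (p : P), φ f (g * p) = φ f g := fun f g p => by
    rw [hcoc, hP0, map_zero, zero_add]
  have hinv : ∀ f g (p : P), A.ρ p (φ f g) = φ f g := fun f g p => by
    have h1 : φ f ((p : G) * g) = A.ρ p (φ f g) := by rw [hcoc, hP0, add_zero]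
    rw [← h1]
    have h2 : (p : G) * g = g * (g⁻¹ * p * g) := by group
    rw [h2]
    exact hright f g ⟨g⁻¹ * p * g, by
      simpa using (‹P.Normal›.conj_mem _ p.2 g⁻¹)⟩
  let ψ : groupCohomology.cocycles₁ A → G ⧸ P → A.quotientToInvariants P := fun f =>
    Quotient.lift (fun g => (⟨φ f g, fun p => hinv f g p⟩ : A.quotientToInvariants P))
      (fun g g' hg => Subtype.ext (by
        replace hg := QuotientGroup.leftRel_apply.1 hg
        have := hright f g ⟨g⁻¹ * g', hg⟩
        simp only [mul_inv_cancel_left] at this
        exact this.symm))
  have hψ : ∀ f (g : G), ((ψ f (g : G ⧸ P)).1 : A.V) = φ f g := fun f g => rfl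
  let r : groupCohomology.cocycles₁ A →ₗ[k]
      groupCohomology.cocycles₁ (A.quotientToInvariants P) :=
    { toFun := fun f => ⟨ψ f, (groupCohomology.mem_cocycles₁_iff _).2 fun x y => by
        induction x using QuotientGroup.induction_on with | _ g =>
        induction y using QuotientGroup.induction_on with | _ h =>
        exact Subtype.ext (hcoc f g h)⟩
      map_add' := fun f f' => Subtype.ext (funext fun x => by
        induction x using QuotientGroup.induction_on with | _ g =>
        refine Subtype.ext ?_
        change φ (f + f') g = φ f g + φ f' g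
        simp only [φ, map_add]
        change f g + f' g + _ - _ = _
        abel)
      map_smul' := fun c f => Subtype.ext (funext fun x => by
        induction x using QuotientGroup.induction_on with | _ g =>
        refine Subtype.ext ?_
        change φ (c • f) g = c • φ f g
        simp only [φ, map_smul, smul_add, smul_sub]
        rfl) }
  refine ⟨ModuleCat.ofHom r, ModuleCat.hom_ext (LinearMap.ext fun f => Subtype.ext (funext fun x => ?_))⟩
  induction x using QuotientGroup.induction_on with | _ g =>
  refine Subtype.ext ?_
  set F := groupCohomology.mapCocycles₁ (QuotientGroup.mk' P)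
    (Rep.ofHom (A.ρ.quotientToInvariants_lift P)) f with hF
  have hval : ∀ g, F g = (f (g : G ⧸ P)).1 := fun g => rfl
  have h0 : σ F = 0 := by
    apply hP.injective
    change (Nat.card P : k) • σ F = (Nat.card P : k) • 0
    rw [hσ, smul_zero]
    refine Finset.sum_eq_zero fun q _ => ?_
    rw [hval, (QuotientGroup.eq_one_iff (q : G)).2 q.2, groupCohomology.cocycles₁_map_one]
    rfl
  change φ F g = (f (g : G ⧸ P)).1
  simp only [φ, h0, map_zero, add_zero, sub_zero]
  exact hval g

end Groth.Agent.S14181
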