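import Groth.Statements.S14183
import Groth.Agent.LocSymLib.PicMod

set_option autoImplicit false
universe u
open CategoryTheory AlgebraicGeometry
open LocSym

namespace Groth.Agent.S14183

open Groth.Agent

open W4c1etcurveeff2 in
/-- Let k be an algebraically closed field, X a smooth proper integral curve over k (structure morphism
c, dimension one), m a reduced modulus (every multiplicity at most 1) whose support S has s points,
and n ≥ 1 an integer invertible in k. Let Pic be the group of divisors on k-points modulo divisors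
of nonzero rational functions and Pic_m the group of divisors vanishing on S modulo divisors of
nonzero rational functions congruent to 1 modulo m. Then every n-torsion class of Pic is the image
of an n-torsion class of Pic_m, and the n-torsion classes of Pic_m that map to zero in Pic are
exactly n^(s−1) in number (they form μ_n(k)^S modulo the diagonal μ_n(k)): the short exact sequence
0 → μ_n^S/μ_n → Pic_m[n] → Pic[n] → 0. (The published statement is for the degree-zero parts;
n-torsion classes have degree zero, so this is the same sequence. For s = 0 the two groups coincide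
and the count is 1.) -/
theorem result
    (k : Type u) [Field k] [IsAlgClosed k] (X : Scheme.{u}) [IsIntegral X]
    (c : X ⟶ Spec (CommRingCat.of k)) [IsProper c] [Smooth c] (hdim : topologicalKrullDim X = 1)
    (m : LocSym.Pt c →₀ ℕ) (hm : ∀ x : LocSym.Pt c, m x ≤ 1)
    (s : ℕ) (hs : m.support.card = s) (n : ℕ) (hn : 1 ≤ n) (hnk : (n : k) ≠ 0) :
    (∀ y : Pic c, n • y = 0 → ∃ x : PicMod c m, n • x = 0 ∧ picModToPic c m x = y) ∧
    Nat.card {x : PicMod c m // n • x = 0 ∧ picModToPic c m x = 0} = n ^ (s - 1) := by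

  classical
  have hn0 : n ≠ 0 := by omega
  -- the class attached to a family of values
  have hθ : ∀ v : LocSym.Pt c → kˣ, ∃ D : divAway c m, ∃ g : X.functionField,
      IsDivOf c (D : LocSym.Pt c →₀ ℤ) g ∧ ∀ x ∈ m.support, LocSym.HasValueAt x g (v x : k) :=
    fun v => by
      obtain ⟨g, D, h1, h2⟩ := LocSymLib.exists_fun_values hdim (m := m) v
      exact ⟨D, g, h1, h2⟩
  choose Dv gv hgv hvv using hθ
  let θ : (LocSym.Pt c → kˣ) → PicMod c m := fun v => QuotientAddGroup.mk (Dv v)
  have hker : ∀ v, picModToPic c m (θ v) = 0 := fun v =>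
    (LocSymLib.picModToPic_eq_zero_iff hdim _).2 ⟨gv v, Dv v, v, hgv v, hvv v, rfl⟩
  have hsmul : ∀ v, n • θ v = θ (v ^ n) := fun v => by
    show n • (QuotientAddGroup.mk (Dv v) : PicMod c m) = QuotientAddGroup.mk (Dv (v ^ n))
    rw [← QuotientAddGroup.mk_nsmul]
    refine LocSymLib.mk_eq_of_values hdim hm (v := v ^ n) (g := gv v ^ n) ?_ (hgv _) (fun x hx => ?_)
      (hvv _)
    · rw [AddSubgroup.coe_nsmul]
      exact LocSymLib.isDivOf_pow hdim (hgv v) n
    · rw [Pi.pow_apply, Units.val_pow_eq_pow_val]
      exact LocSymLib.value_pow c hdim x (hvv v x hx) n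
  have hsub : ∀ v w, θ v = θ w ↔ ∃ a : kˣ, ∀ x ∈ m.support, v x / w x = a := fun v w => by
    show (QuotientAddGroup.mk (Dv v) : PicMod c m) = QuotientAddGroup.mk (Dv w) ↔ _
    rw [← sub_eq_zero, ← QuotientAddGroup.mk_sub]
    refine LocSymLib.mk_eq_zero_iff hdim hm (g := gv v / gv w) (v := fun x => v x / w x) ?_
      fun x hx => ?_
    · exact LocSymLib.isDivOf_div hdim (hgv v) (hgv w)
    · rw [Units.val_div_eq_div_val]
      exact LocSymLib.value_div c hdim x (w x).ne_zero (hvv v x hx) (hvv w x hx)
  have hzero : ∀ v, θ v = 0 ↔ ∃ a : kˣ, ∀ x ∈ m.support, v x = a := fun v =>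
    LocSymLib.mk_eq_zero_iff hdim hm (hgv v) (hvv v)
  have hsurj : ∀ z, picModToPic c m z = 0 → ∃ v, z = θ v := fun z hz => by
    obtain ⟨g, D, v, hD, hv, rfl⟩ := (LocSymLib.picModToPic_eq_zero_iff hdim z).1 hz
    exact ⟨v, LocSymLib.mk_eq_of_values hdim hm hD (hgv v) hv (hvv v)⟩
  refine ⟨fun y hy => ?_, ?_⟩
  · obtain ⟨x0, rfl⟩ := LocSymLib.picModToPic_surjective hdim (m := m) y
    obtain ⟨v, hv⟩ := hsurj (n • x0) (by rw [map_nsmul, hy])
    have hroot : ∀ x, ∃ w : kˣ, w ^ n = v x := fun x => by
      obtain ⟨z, hz⟩ := IsAlgClosed.exists_pow_nat_eq (v x : k) (Nat.pos_of_ne_zero hn0)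
      exact ⟨Units.mk0 z (fun e => (v x).ne_zero (by rw [← hz, e, zero_pow hn0])), Units.ext (by simp [hz])⟩
    choose w hw using hroot
    refine ⟨x0 - θ w, ?_, by rw [map_sub, hker, sub_zero]⟩
    rw [nsmul_sub, hv, hsmul, sub_eq_zero, hsub]
    exact ⟨1, fun x _ => by rw [Pi.pow_apply, hw, div_self']⟩
  · rcases m.support.eq_empty_or_nonempty with he | ⟨x₀, hx₀⟩
    · have h1 : ∀ z, picModToPic c m z = 0 → z = 0 := fun z hz => by
        obtain ⟨v, rfl⟩ := hsurj z hz
        exact (hzero v).2 ⟨1, by simp [he]⟩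
      haveI : Subsingleton {x : PicMod c m // n • x = 0 ∧ picModToPic c m x = 0} :=
        ⟨fun a b => Subtype.ext (by rw [h1 _ a.2.2, h1 _ b.2.2])⟩
      haveI : Nonempty {x : PicMod c m // n • x = 0 ∧ picModToPic c m x = 0} :=
        ⟨⟨0, by simp⟩⟩
      rw [← hs, he, Finset.card_empty, Nat.card_unique, Nat.zero_sub, pow_zero]
    · let T := {x // x ∈ m.support.erase x₀}
      let ext' : (T → rootsOfUnity n k) → LocSym.Pt c → kˣ := fun w x =>
        if h : x ∈ m.support.erase x₀ then (w ⟨x, h⟩ : kˣ) else 1
      have hpow : ∀ w x, ext' w x ^ n = 1 := fun w x => by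
        show (dite _ _ _) ^ n = 1
        split
        · exact (mem_rootsOfUnity _ _).1 (w _).2
        · exact one_pow n
      let φ : (T → rootsOfUnity n k) → {x : PicMod c m // n • x = 0 ∧ picModToPic c m x = 0} :=
        fun w => ⟨θ (ext' w), by
          rw [hsmul, hzero]
          exact ⟨1, fun x _ => hpow w x⟩, hker _⟩
      have hφ : Function.Bijective φ := by
        constructor
        · intro w w' h
          obtain ⟨a, ha⟩ := (hsub _ _).1 (congrArg Subtype.val h)
          have ha1 : a = 1 := by
            rw [← ha x₀ hx₀]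
            simp [ext']
          funext t
          refine Subtype.ext (div_eq_one.1 ?_)
          have := ha t.1 (Finset.mem_of_mem_erase t.2)
          simp only [ext', dif_pos t.2] at this
          rw [this, ha1]
        · rintro ⟨z, hz1, hz2⟩
          obtain ⟨v, rfl⟩ := hsurj z hz2
          rw [hsmul, hzero] at hz1
          obtain ⟨a, ha⟩ := hz1
          refine ⟨fun t => ⟨v t.1 / v x₀, ?_⟩, Subtype.ext ((hsub _ _).2 ⟨(v x₀)⁻¹, fun x hx => ?_⟩)⟩
          · rw [mem_rootsOfUnity, div_pow]
            rw [show v t.1 ^ n = a from ha t.1 (Finset.mem_of_mem_erase t.2),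
              show v x₀ ^ n = a from ha x₀ hx₀, div_self']
          · rcases eq_or_ne x x₀ with rfl | hne
            · simp [ext']
            · have : x ∈ m.support.erase x₀ := Finset.mem_erase.2 ⟨hne, hx⟩
              simp only [ext', dif_pos this]
              rw [div_right_comm, div_self', one_div]
      haveI : NeZero n := ⟨hn0⟩
      haveI : NeZero (n : k) := ⟨hnk⟩
      rw [← Nat.card_eq_of_bijective φ hφ, Nat.card_fun, HasEnoughRootsOfUnity.natCard_rootsOfUnity,
        Nat.card_eq_fintype_card, Fintype.card_coe, Finset.card_erase_of_mem hx₀, hs]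

end Groth.Agent.S14183
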