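import Groth.Statements.S14184
import Groth.Agent.LocSymLib.TameSym

set_option autoImplicit false
universe u
open CategoryTheory AlgebraicGeometry
open LocSym

namespace Groth.Agent.S14184

open Groth.Agent

/-- Let k be an algebraically closed field and X a smooth proper integral curve over k (structure
morphism c, dimension one); points are k-points and ord_x is the valuation at x. Let n ≥ 1, let Z be
a finite set of points, let f₁, f₂ be nonzero rational functions and D₁, D₁′, D₂ divisors (finitely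
supported integer-valued functions on points) with n·D₁ = div(f₁) + D₁′, D₁′ supported on Z, n·D₂ =
div(f₂), f₂ taking the value 1 at every point of Z, and div(f₁) and D₂ with disjoint supports. Let
v₁(x) ∈ kˣ be the value of f₁ at each point of the support of D₂ and v₂(x) ∈ kˣ the value of f₂ at
each point of the support of D₁. Then the quotient of ∏_x v₁(x)^{D₂(x)} by ∏_x v₂(x)^{D₁(x)} is an
n-th root of unity: its n-th power is 1. (This quotient f₁(D₂)/f₂(D₁) is the generalised Weil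
pairing of the classes of (D₁, D₁′, f₁) and D₂; the published statement also normalises f₁, f₂ at a
base point, which is not needed for this assertion.) -/
theorem result
    (k : Type u) [Field k] [IsAlgClosed k] (X : Scheme.{u}) [IsIntegral X]
    (c : X ⟶ Spec (CommRingCat.of k)) [IsProper c] [Smooth c] (hdim : topologicalKrullDim X = 1)
    (n : ℕ) (hn : 1 ≤ n) (Z : Finset (LocSym.Pt c))
    (f₁ f₂ : X.functionField) (hf₁ : f₁ ≠ 0) (hf₂ : f₂ ≠ 0)
    (D₁ D₁' D₂ : LocSym.Pt c →₀ ℤ)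
    (hD₁ : ∀ x : LocSym.Pt c, (n : ℤ) * D₁ x = x.ord f₁ + D₁' x) (hD₁' : D₁'.support ⊆ Z)
    (hD₂ : ∀ x : LocSym.Pt c, (n : ℤ) * D₂ x = x.ord f₂)
    (hf₂Z : ∀ x ∈ Z, LocSym.HasValueAt x f₂ 1)
    (hdisj : ∀ x : LocSym.Pt c, x.ord f₁ = 0 ∨ D₂ x = 0)
    (v₁ v₂ : LocSym.Pt c → kˣ)
    (hv₁ : ∀ x ∈ D₂.support, LocSym.HasValueAt x f₁ (v₁ x : k))
    (hv₂ : ∀ x ∈ D₁.support, LocSym.HasValueAt x f₂ (v₂ x : k)) :
    ((D₂.prod fun x e => v₁ x ^ e) / (D₁.prod fun x e => v₂ x ^ e)) ^ n = 1 := by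

  classical
  have hn0 : (n : ℤ) ≠ 0 := by omega
  obtain ⟨w₁, hw₁⟩ := LocSymLib.exists_values (c := c) hdim f₁ hf₁
  obtain ⟨w₂, hw₂⟩ := LocSymLib.exists_values (c := c) hdim f₂ hf₂
  have hd : ∀ x : LocSym.Pt c, x.ord f₁ = 0 ∨ x.ord f₂ = 0 := fun x =>
    (hdisj x).imp id fun h => by rw [← hD₂ x, h, mul_zero]
  have e₁ : ∀ x ∈ D₂.support, v₁ x = w₁ x := fun x hx => Units.ext (LocSymLib.value_unique c hdim x (hv₁ x hx)
    (hw₁ x ((hdisj x).resolve_right (Finsupp.mem_support_iff.1 hx))))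
  have e₂ : ∀ x ∈ D₁.support, v₂ x = w₂ x := fun x hx => Units.ext (LocSymLib.value_unique c hdim x (hv₂ x hx)
    (hw₂ x (LocSymLib.ord_eq_zero_of_value c hdim x (v₂ x).ne_zero (hv₂ x hx)).2))
  have hZ : ∀ x : LocSym.Pt c, x ∈ Z → w₂ x = 1 := fun x hx => Units.ext (LocSymLib.value_unique c hdim x
    (hw₂ x (LocSymLib.ord_eq_zero_of_value c hdim x one_ne_zero (hf₂Z x hx)).2) (hf₂Z x hx))
  have hZ' : ∀ x : LocSym.Pt c, w₂ x ^ D₁' x = 1 := fun x => by
    by_cases h : D₁' x = 0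
    · rw [h, zpow_zero]
    · rw [hZ x (hD₁' (Finsupp.mem_support_iff.2 h)), one_zpow]
  rw [Finsupp.prod, Finsupp.prod, div_pow, ← Finset.prod_pow, ← Finset.prod_pow, div_eq_one]
  have l1 : ∏ x ∈ D₂.support, (v₁ x ^ D₂ x) ^ n = ∏ᶠ x : LocSym.Pt c, w₁ x ^ x.ord f₂ := by
    rw [finprod_eq_prod_of_mulSupport_subset (s := D₂.support) _ fun x hx => ?_]
    · exact Finset.prod_congr rfl fun x hx => by
        rw [e₁ x hx, ← zpow_natCast, ← zpow_mul, ← hD₂ x, mul_comm]
    · rw [Finset.mem_coe, Finsupp.mem_support_iff]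
      intro h
      exact hx (by simp [← hD₂ x, h])
  have l2 : ∏ x ∈ D₁.support, (v₂ x ^ D₁ x) ^ n = ∏ᶠ x : LocSym.Pt c, w₂ x ^ x.ord f₁ := by
    rw [finprod_eq_prod_of_mulSupport_subset (s := D₁.support) _ fun x hx => ?_]
    · exact Finset.prod_congr rfl fun x hx => by
        rw [e₂ x hx, ← zpow_natCast, ← zpow_mul, mul_comm, hD₁ x, zpow_add, hZ', mul_one]
    · rw [Finset.mem_coe, Finsupp.mem_support_iff]
      intro h
      have h1 : x.ord f₁ = -D₁' x := by have := hD₁ x; rw [h, mul_zero] at this; omega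
      exact hx (show w₂ x ^ x.ord f₁ = 1 by rw [h1, zpow_neg, hZ', inv_one])
  rw [l1, l2]
  exact LocSymLib.weil_reciprocity hdim hf₁ hf₂ hd w₁ w₂ hw₁ hw₂

end Groth.Agent.S14184
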