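import Groth.Statements.S14188
import Mathlib
import Groth.Agent.FlatMisc.GenFibreDense

set_option autoImplicit false
universe u
open CategoryTheory CategoryTheory.Limits AlgebraicGeometry
open FlatMor

namespace Groth.Agent.S14188

/-- Let T be an integral scheme with generic point η, let Y and Z be schemes flat over T with Z
separated over T, and let ψ : Y_η → Z be a T-morphism from the generic fibre Y_η = Y ×_T Spec
O_{T,η} (equivalently, an η-morphism Y_η → Z_η). Let gr : Y_η → Y ×_T Z be the graph of ψ, the
morphism whose components are the projection Y_η → Y and ψ, and let Γ ⊆ Y ×_T Z be the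
scheme-theoretic image of gr (the schematic closure of the graph). Then ψ extends to a T-morphism φ
: Y → Z, meaning that the composite Y_η → Y → Z is ψ, if and only if the composite of the inclusion
Γ → Y ×_T Z with the first projection is an isomorphism Γ ≅ Y. -/
theorem result (T Y Z : Scheme.{u}) [IsIntegral T]
    (pY : Y ⟶ T) (pZ : Z ⟶ T) [Flat pY] [Flat pZ] [IsSeparated pZ]
    (ψ : pullback pY (T.fromSpecStalk (genericPoint T)) ⟶ Z)
    (hψ : ψ ≫ pZ = pullback.fst pY (T.fromSpecStalk (genericPoint T)) ≫ pY)
    (gr : pullback pY (T.fromSpecStalk (genericPoint T)) ⟶ pullback pY pZ)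
    (hgr₁ : gr ≫ pullback.fst pY pZ = pullback.fst pY (T.fromSpecStalk (genericPoint T)))
    (hgr₂ : gr ≫ pullback.snd pY pZ = ψ) :
    (∃ φ : Y ⟶ Z, φ ≫ pZ = pY ∧ pullback.fst pY (T.fromSpecStalk (genericPoint T)) ≫ φ = ψ) ↔
      IsIso (gr.imageι ≫ pullback.fst pY pZ) := by
  constructor
  · rintro ⟨φ, hφ, hext⟩
    set s := pullback.lift (f := pY) (g := pZ) (𝟙 Y) φ (by simp [hφ]) with hs
    have hs1 : s ≫ pullback.fst pY pZ = 𝟙 Y := pullback.lift_fst _ _ _
    have : IsClosedImmersion (s ≫ pullback.fst pY pZ) := by rw [hs1]; infer_instance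
    have hsc : IsClosedImmersion s := IsClosedImmersion.of_comp s (pullback.fst pY pZ)
    have hgr : gr = pullback.fst pY (T.fromSpecStalk (genericPoint T)) ≫ s := by
      apply pullback.hom_ext
      · rw [hgr₁, Category.assoc, hs1, Category.comp_id]
      · rw [hgr₂, Category.assoc, hs, pullback.lift_snd, hext]
    have hker : gr.imageι.ker = s.ker := by
      show gr.ker.subschemeι.ker = s.ker
      rw [Scheme.IdealSheafData.ker_subschemeι, hgr, Scheme.Hom.ker_comp,
        Groth.Agent.GenFibreDense.ker_fst_eq_bot pY, Scheme.IdealSheafData.map_bot]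
    have hiso := IsClosedImmersion.isIso_lift s gr.imageι hker.symm
    have hl := IsClosedImmersion.lift_fac s gr.imageι hker.symm.le
    rw [← hl, Category.assoc, hs1, Category.comp_id]
    exact hiso
  · intro hiso
    refine ⟨inv (gr.imageι ≫ pullback.fst pY pZ) ≫ gr.imageι ≫ pullback.snd pY pZ, ?_, ?_⟩
    · rw [Category.assoc, Category.assoc, ← pullback.condition, IsIso.inv_comp_eq, Category.assoc]
    · have h : pullback.fst pY (T.fromSpecStalk (genericPoint T)) ≫
          inv (gr.imageι ≫ pullback.fst pY pZ) = gr.toImage := by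
        rw [IsIso.comp_inv_eq, ← Category.assoc, Scheme.Hom.toImage_imageι, hgr₁]
      rw [reassoc_of% h, ← Category.assoc, Scheme.Hom.toImage_imageι, hgr₂]

end Groth.Agent.S14188
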