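import Groth.Statements.S14189
import Mathlib
import Groth.Agent.FlatMisc.GenFibreDense

set_option autoImplicit false
universe u
open CategoryTheory CategoryTheory.Limits AlgebraicGeometry
open FlatMor

namespace Groth.Agent.S14189

/-- Let T be an integral scheme with generic point η, let Y and Z be schemes flat over T with Z
separated over T, and let ψ : Y_η → Z be a T-morphism from the generic fibre Y_η = Y ×_T Spec
O_{T,η}. Let g : T' → T be flat, surjective and quasi-compact, and let φ' : Y_{T'} → Z_{T'} be a
T'-morphism which agrees with ψ over T' ×_T η, in the sense that on Y_{T'} ×_Y Y_η = Y ×_T T' ×_T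
Spec O_{T,η} the composite of the first projection with φ' and with Z_{T'} → Z equals the composite
of the second projection with ψ. Then ψ extends to a T-morphism φ : Y → Z, one whose composite with
Y_η → Y is ψ. (The published statement is an equivalence and also records that an extension, when it
exists, is unique; the converse direction, that an extension over T base-changes to such a φ' over
any such T', is immediate, and this row states the existence direction only.) -/
theorem result (T Y Z T' : Scheme.{u}) [IsIntegral T]
    (pY : Y ⟶ T) (pZ : Z ⟶ T) [Flat pY] [Flat pZ] [IsSeparated pZ]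
    (ψ : pullback pY (T.fromSpecStalk (genericPoint T)) ⟶ Z)
    (hψ : ψ ≫ pZ = pullback.fst pY (T.fromSpecStalk (genericPoint T)) ≫ pY)
    (g : T' ⟶ T) [Flat g] [Surjective g] [QuasiCompact g]
    (φ' : pullback pY g ⟶ pullback pZ g) (hφ' : φ' ≫ pullback.snd pZ g = pullback.snd pY g)
    (hagree : pullback.fst (pullback.fst pY g) (pullback.fst pY (T.fromSpecStalk (genericPoint T))) ≫ φ' ≫ pullback.fst pZ g =
      pullback.snd (pullback.fst pY g) (pullback.fst pY (T.fromSpecStalk (genericPoint T))) ≫ ψ) :
    ∃ φ : Y ⟶ Z, φ ≫ pZ = pY ∧ pullback.fst pY (T.fromSpecStalk (genericPoint T)) ≫ φ = ψ := by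
  let j := T.fromSpecStalk (genericPoint T)
  let π := pullback.fst pY g
  let a := φ' ≫ pullback.fst pZ g
  have ha : a ≫ pZ = π ≫ pY := by
    show (φ' ≫ pullback.fst pZ g) ≫ pZ = pullback.fst pY g ≫ pY
    rw [Category.assoc, pullback.condition, reassoc_of% hφ', pullback.condition]
  have : EffectiveEpi π := inferInstance
  have : Flat π := inferInstance
  have hWeq : pullback.fst π π ≫ a = pullback.snd π π ≫ a := by
    have : Flat (pullback.fst π π ≫ π ≫ pY) := inferInstance
    let e := pullback.fst (pullback.fst π π ≫ π ≫ pY) j
    let k := pullback.lift (f := pY) (g := j) (e ≫ pullback.fst π π ≫ π)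
      (pullback.snd (pullback.fst π π ≫ π ≫ pY) j) (by
        simp only [e, Category.assoc]; exact pullback.condition)
    have hk : k ≫ pullback.fst pY j = e ≫ pullback.fst π π ≫ π := pullback.lift_fst _ _ _
    have h1 : e ≫ pullback.fst π π ≫ a = k ≫ ψ := by
      have := congr((pullback.lift (f := π) (g := pullback.fst pY j) (e ≫ pullback.fst π π) k
        (by rw [hk, Category.assoc])) ≫ $hagree)
      simp only [π, j, a, pullback.lift_fst_assoc, pullback.lift_snd_assoc, Category.assoc] at this ⊢
      exact this
    have h2 : e ≫ pullback.snd π π ≫ a = k ≫ ψ := by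
      have := congr((pullback.lift (f := π) (g := pullback.fst pY j) (e ≫ pullback.snd π π) k
        (((Category.assoc _ _ _).trans (congrArg (e ≫ ·) (pullback.condition (f := π) (g := π)).symm)).trans hk.symm)) ≫ $hagree)
      simp only [π, j, a, pullback.lift_fst_assoc, pullback.lift_snd_assoc, Category.assoc] at this ⊢
      exact this
    refine Groth.Agent.GenFibreDense.hom_ext (pullback.fst π π ≫ π ≫ pY) pZ _ _ ?_ ?_
      (h1.trans h2.symm)
    · rw [Category.assoc, ha]
    · rw [Category.assoc, ha, ← Category.assoc, ← pullback.condition, Category.assoc]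
  have hdesc : ∀ {W : Scheme.{u}} (g₁ g₂ : W ⟶ pullback pY g), g₁ ≫ π = g₂ ≫ π → g₁ ≫ a = g₂ ≫ a := by
    intro W g₁ g₂ h
    have := congr(pullback.lift g₁ g₂ h ≫ $hWeq)
    rwa [pullback.lift_fst_assoc, pullback.lift_snd_assoc] at this
  refine ⟨EffectiveEpi.desc π a hdesc, ?_, ?_⟩
  · rw [← cancel_epi π, EffectiveEpi.fac_assoc, ha]
  · have : EffectiveEpi (pullback.snd π (pullback.fst pY j)) := inferInstance
    rw [← cancel_epi (pullback.snd π (pullback.fst pY j)), ← Category.assoc, ← pullback.condition,
      Category.assoc, EffectiveEpi.fac]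
    exact hagree

end Groth.Agent.S14189
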