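import Groth.Statements.S14190
import Groth.Agent.H26.DualS2

set_option autoImplicit false
universe u
open CategoryTheory CategoryTheory.Limits AlgebraicGeometry Opposite
open Models

namespace Groth.Agent.S14190

/-- Let R be a discrete valuation ring with fraction field K, let C be a proper K-curve which is smooth
of relative dimension 1 and geometrically connected over K, and let X be a model of C over R (flat
and of finite type over R with generic fibre C) which is proper over R and normal; so X is a proper
relative curve over R, integral of dimension 2. Let (ω, tr) be a 1-dualizing pair for X over R: ω is
a quasi-coherent O_X-module and tr : H¹(X, ω) → R an R-linear map such that φ ↦ tr ∘ H¹(φ) is a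
bijection from Hom(F, ω) onto Hom_R(H¹(X, F), R) for every quasi-coherent F (such a pair is a
relative dualizing sheaf of X over R with its trace, and is unique up to isomorphism). Let U ⊆ X be
an open subscheme whose complement is a finite set of closed points of X (these lie in the closed
fibre and have codimension 2). Then the canonical map from ω to the direct image of its restriction
to U is an isomorphism: for every open V ⊆ X the restriction map ω(V) → ω(V ∩ U) is bijective. (The
published statement is for a relative curve which need not be proper and for the relative dualizing
sheaf of duality theory; this row takes X proper over R, where a 1-dualizing pair in the above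
global-sections sense determines that sheaf up to isomorphism.) -/
theorem result (R : Type u) [CommRing R] [IsDomain R] [IsDiscreteValuationRing R]
    (X C : Scheme.{u}) [X.Over (Spec (CommRingCat.of R))]
    (f : C ⟶ Spec (CommRingCat.of (FractionRing R)))
    [SmoothOfRelativeDimension 1 f] [IsProper f] [GeometricallyConnected f]
    (hX : Models.IsModel R X (X ↘ Spec (CommRingCat.of R)) C f)
    [IsProper (X ↘ Spec (CommRingCat.of R))] (hn : Pi1.IsNormalScheme X)
    (ω : X.Modules) (tr : Coh.HH X ω 1 →ₗ[R] R) (hω : Canon.IsRDualOver R X 1 ω tr)
    (U : X.Opens) (hfin : ((U : Set X)ᶜ).Finite) (hcl : ∀ x : X, x ∉ U → IsClosed ({x} : Set X))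
    (V : X.Opens) :
    Function.Bijective (ω.presheaf.map (homOfLE (inf_le_left : V ⊓ U ≤ V)).op).hom := by
  exact H26.DualS2.restrict_bijective R X ω tr hω U hfin hcl V

end Groth.Agent.S14190
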