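import Groth.Statements.S14191
import Groth.Agent.H26.DualFree.Main

set_option autoImplicit false
universe u
open CategoryTheory CategoryTheory.Limits AlgebraicGeometry Opposite
open Models

namespace Groth.Agent.S14191

/-- Let R be a discrete valuation ring with fraction field K, let C be a proper K-curve which is smooth
of relative dimension 1 and geometrically connected over K, and let X be a model of C over R (flat
and of finite type over R with generic fibre C) which is proper over R and normal; so X is a proper
relative curve over R. Let (ω, tr) be a 1-dualizing pair for X over R: ω is a quasi-coherent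
O_X-module and tr : H¹(X, ω) → R an R-linear map such that φ ↦ tr ∘ H¹(φ) is a bijection from Hom(F,
ω) onto Hom_R(H¹(X, F), R) for every quasi-coherent F. Suppose that H¹(X, O_X) is a free R-module,
which for such X says that X → Spec R is cohomologically flat in dimension 0. Then H¹(X, ω) is a
free R-module and its rank equals the rank of the free R-module H⁰(X, O_X); that is, H¹(X, ω) is
R-dual to H⁰(X, O_X) up to isomorphism. (The published statement is phrased for the relative
dualizing sheaf of duality theory and its higher direct image R¹f_*; over the affine base Spec R a
1-dualizing pair in the above global-sections sense determines that sheaf up to isomorphism, and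
local freeness of R¹f_* is freeness of H¹.) -/
theorem result (R : Type u) [CommRing R] [IsDomain R] [IsDiscreteValuationRing R]
    (X C : Scheme.{u}) [X.Over (Spec (CommRingCat.of R))]
    (f : C ⟶ Spec (CommRingCat.of (FractionRing R)))
    [SmoothOfRelativeDimension 1 f] [IsProper f] [GeometricallyConnected f]
    (hX : Models.IsModel R X (X ↘ Spec (CommRingCat.of R)) C f)
    [IsProper (X ↘ Spec (CommRingCat.of R))] (hn : Pi1.IsNormalScheme X)
    (ω : X.Modules) (tr : Coh.HH X ω 1 →ₗ[R] R) (hω : Canon.IsRDualOver R X 1 ω tr)
    (hcf : Module.Free R (Coh.HH X (Coh.structureModule X) 1)) :
    Module.Free R (Coh.HH X ω 1) ∧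
      Module.finrank R (Coh.HH X ω 1) = Module.finrank R (Coh.HH X (Coh.structureModule X) 0) := by
  exact Groth.Agent.H26.DualFree.free_H1_dualizing f hX hω hcf

end Groth.Agent.S14191
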