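import Groth.Statements.S14192
import Mathlib.RingTheory.PowerSeries.Derivative
import Mathlib.RingTheory.PowerSeries.Exp
import Mathlib.RingTheory.PowerSeries.Substitution
import Mathlib.RingTheory.PowerSeries.Inverse
import Mathlib.RingTheory.PowerSeries.WellKnown


set_option autoImplicit false
open PowerSeries
open StackCount

namespace Groth.Agent.S14192

/-- Let R = Σ_n r_n X^n be a Laurent polynomial with integer coefficients and q > 1 an integer. In the
ring of formal power series in t over ℚ, the exponential of Σ_{v ≥ 1} R(q^v) t^v / v equals the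
finite product Π_n (1 - q^n t)^(-r_n). Stated here with denominators cleared: the exponential series
multiplied by Π_{n : r_n > 0} (1 - q^n t)^(r_n) equals Π_{n : r_n < 0} (1 - q^n t)^(-r_n) (each
factor 1 - q^n t is a unit, so this is equivalent). -/
theorem result (R : LaurentPolynomial ℤ) (q : ℤ) (hq : 1 < q) :
    (PowerSeries.exp ℚ).subst
        (PowerSeries.mk fun v : ℕ => if v = 0 then (0 : ℚ)
          else (R.coeff.sum fun (n : ℤ) (r : ℤ) => (r : ℚ) * (q : ℚ) ^ (n * (v : ℤ))) / (v : ℚ))
      * ∏ n ∈ R.coeff.support, (1 - PowerSeries.C ((q : ℚ) ^ n) * PowerSeries.X) ^ (R.coeff n).toNat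
    = ∏ n ∈ R.coeff.support, (1 - PowerSeries.C ((q : ℚ) ^ n) * PowerSeries.X) ^ (-(R.coeff n)).toNat := by
  classical
  let a : ℤ → ℚ := fun n => (q : ℚ) ^ n
  let geom : ℚ → PowerSeries ℚ := fun c => PowerSeries.rescale c (PowerSeries.mk 1)
  have hgeom : ∀ c, geom c * (1 - PowerSeries.C c * PowerSeries.X) = 1 := fun c => by
    have h := congrArg (PowerSeries.rescale c) (PowerSeries.mk_one_mul_one_sub_eq_one ℚ)
    simpa [geom, PowerSeries.rescale_X] using h
  let L : (ℤ → ℕ) → PowerSeries ℚ := fun e => ∑ n ∈ R.coeff.support, (e n : PowerSeries ℚ) * (PowerSeries.C (-(a n)) * geom (a n))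
  let Pr : (ℤ → ℕ) → PowerSeries ℚ := fun e => ∏ n ∈ R.coeff.support, (1 - PowerSeries.C (a n) * PowerSeries.X) ^ e n
  have hD : ∀ e, d⁄dX ℚ (Pr e) = Pr e * L e := by
    intro e
    simp only [Pr, L]
    induction R.coeff.support using Finset.induction_on with
    | empty => simp
    | insert n s hn ih =>
      rw [Finset.prod_insert hn, Finset.sum_insert hn, Derivation.leibniz, ih, Derivation.leibniz_pow]
      have h1 : d⁄dX ℚ (1 - PowerSeries.C (a n) * PowerSeries.X) = - PowerSeries.C (a n) := by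
        simp [PowerSeries.derivative_C]
      rw [h1, smul_eq_mul, smul_eq_mul, smul_eq_mul, nsmul_eq_mul]
      rcases Nat.eq_zero_or_pos (e n) with h | h
      · simp [h]
      · obtain ⟨m, hm⟩ := Nat.exists_eq_add_of_le h
        rw [hm, Nat.add_sub_cancel_left, pow_add, pow_one, map_neg]
        linear_combination ((1 + m : ℕ) : PowerSeries ℚ) * ((1 - PowerSeries.C (a n) * PowerSeries.X) ^ m) * PowerSeries.C (a n) *
          (∏ x ∈ s, (1 - PowerSeries.C (a x) * PowerSeries.X) ^ e x) * hgeom (a n)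
  set g : PowerSeries ℚ := PowerSeries.mk fun v : ℕ => if v = 0 then (0 : ℚ)
          else (R.coeff.sum fun (n : ℤ) (r : ℤ) => (r : ℚ) * (q : ℚ) ^ (n * (v : ℤ))) / (v : ℚ) with hgdef
  have hg0 : PowerSeries.constantCoeff g = 0 := by simp [g, ← PowerSeries.coeff_zero_eq_constantCoeff]
  have hs : PowerSeries.HasSubst g := PowerSeries.HasSubst.of_constantCoeff_zero' hg0
  let E := (PowerSeries.exp ℚ).subst g
  have hE : d⁄dX ℚ E = E * d⁄dX ℚ g := by rw [PowerSeries.derivative_subst hs, PowerSeries.derivative_exp]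
  have hdg : d⁄dX ℚ g = ∑ n ∈ R.coeff.support, PowerSeries.C ((R.coeff n : ℤ) : ℚ) * (PowerSeries.C (a n) * geom (a n)) := by
    ext v
    rw [PowerSeries.coeff_derivative, hgdef, PowerSeries.coeff_mk, if_neg (Nat.succ_ne_zero v), map_sum]
    have hv : ((v + 1 : ℕ) : ℚ) ≠ 0 := Nat.cast_ne_zero.mpr (Nat.succ_ne_zero v)
    push_cast at hv ⊢
    rw [div_mul_cancel₀ _ hv, Finsupp.sum]
    refine Finset.sum_congr rfl fun n _ => ?_
    simp only [geom, PowerSeries.coeff_C_mul, PowerSeries.coeff_rescale, PowerSeries.coeff_mk, Pi.one_apply, mul_one, a]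
    rw [show n * ((v : ℤ) + 1) = n * (v : ℤ) + n by ring, zpow_add₀ (Int.cast_ne_zero.mpr (by omega)), zpow_mul, zpow_natCast]
    ring
  let ep : ℤ → ℕ := fun n => (R.coeff n).toNat
  let em : ℤ → ℕ := fun n => (-(R.coeff n)).toNat
  have hL : d⁄dX ℚ g + L ep = L em := by
    rw [hdg]
    simp only [L, ← Finset.sum_add_distrib]
    refine Finset.sum_congr rfl fun n _ => ?_
    have : ((R.coeff n : ℤ) : ℚ) = (ep n : ℚ) - (em n : ℚ) := by
      rw [← Int.cast_natCast (ep n), ← Int.cast_natCast (em n), ← Int.cast_sub]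
      congr 1
      simp only [ep, em]; omega
    rw [this, map_sub, map_natCast, map_natCast, map_neg]
    ring
  have hF : d⁄dX ℚ (E * Pr ep) = (E * Pr ep) * L em := by
    rw [Derivation.leibniz, hE, hD, smul_eq_mul, smul_eq_mul, ← hL]; ring
  have hc : ∀ e, PowerSeries.constantCoeff (Pr e) = 1 := fun e => by simp [Pr]
  have hcE : PowerSeries.constantCoeff E = 1 := by
    rw [← PowerSeries.coeff_zero_eq_constantCoeff_apply, PowerSeries.coeff_subst' hs, finsum_eq_single _ 0]
    · simp
    · intro d hd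
      rw [PowerSeries.coeff_zero_eq_constantCoeff_apply, map_pow, hg0, zero_pow hd, smul_zero]
  let H := PowerSeries.invOfUnit (Pr em) 1
  have hH : Pr em * H = 1 := PowerSeries.mul_invOfUnit _ _ (by rw [hc]; rfl)
  have hDH : d⁄dX ℚ H = - (L em * H) := by
    have := congrArg (d⁄dX ℚ) hH
    rw [Derivation.leibniz, hD, smul_eq_mul, smul_eq_mul, Derivation.map_one_eq_zero] at this
    linear_combination H * this - (d⁄dX ℚ H + L em * H) * hH
  have hone : E * Pr ep * H = 1 := by
    refine PowerSeries.derivative.ext ?_ ?_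
    · rw [Derivation.leibniz, hF, hDH, smul_eq_mul, smul_eq_mul, Derivation.map_one_eq_zero]; ring
    · rw [map_mul, map_mul, hcE, hc]
      simp [H]
  show E * Pr ep = Pr em
  linear_combination Pr em * hone - E * Pr ep * hH

end Groth.Agent.S14192
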