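import Groth.Statements.S14193
import Mathlib

set_option autoImplicit false
open PowerSeries
open StackCount

namespace Groth.Agent.S14193

open Polynomial in
/-- Exponential sums with distinct nonzero bases vanishing from `v0` on vanish. -/
theorem expSum_eq_zero {K : Type*} [Field K] (v0 : ℕ) (c : K →₀ K) (h0 : c 0 = 0)
    (h : ∀ v, v0 ≤ v → Finsupp.linearCombination K (fun x : K => x ^ v) c = 0) : c = 0 := by
  classical
  have hli : LinearIndependent K fun x : K => (⇑(powersHom K x) : Multiplicative ℕ → K) :=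
    (linearIndependent_monoidHom (Multiplicative ℕ) K).comp (fun x => powersHom K x)
      (powersHom K).injective
  have := linearIndependent_iff'.mp hli c.support (fun x => c x * x ^ v0) (funext fun w => ?_)
  · ext x
    by_cases hx : x ∈ c.support
    · have hx0 : x ≠ 0 := fun e => Finsupp.mem_support_iff.mp hx (e ▸ h0)
      simpa [hx0] using this x hx
    · simpa using hx
  · have h' := h (v0 + w.toAdd) (by omega)
    rw [Finsupp.linearCombination_apply, Finsupp.sum] at h'
    simpa [Finset.sum_apply, powersHom_apply, pow_add, mul_assoc] using h'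

variable {K : Type*} [Field K]

noncomputable def g (s : Multiset K) : K⟦X⟧ := (s.map fun β => 1 - C β * X).prod

noncomputable def S (s : Multiset K) : K⟦X⟧ := mk fun n => (s.map fun β => β ^ (n + 1)).sum

theorem derivative_g (s : Multiset K) : d⁄dX K (g s) = -(g s * S s) := by
  induction s using Multiset.induction_on with
  | empty =>
    have : S (0 : Multiset K) = 0 := by ext n; simp [S]
    simp [g, this]
  | cons β s ih =>
    have hg : g (β ::ₘ s) = (1 - C β * X) * g s := by simp [g]
    have hS : (1 - C β * X) * S (β ::ₘ s) = C β + (1 - C β * X) * S s := by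
      ext n
      rcases n with _ | n <;>
        simp [S, sub_mul, mul_assoc, coeff_C, coeff_succ_X_mul, pow_succ] <;> ring
    rw [hg, Derivation.leibniz, ih]
    simp only [map_sub, Derivation.map_one_eq_zero, Derivation.leibniz, derivative_X, derivative_C,
      smul_eq_mul, mul_zero, add_zero, mul_one, zero_sub]
    linear_combination -(g s) * hS.symm

theorem exists_g [IsAlgClosed K] (p : Polynomial K) (hp : p.coeff 0 ≠ 0) :
    ∃ (c : K) (s : Multiset K), c ≠ 0 ∧ (0 : K) ∉ s ∧ (p : K⟦X⟧) = C c * g s := by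
  have hne : p ≠ 0 := fun e => hp (by simp [e])
  have hroots : (0 : K) ∉ p.roots := fun h => hp (by
    simpa [Polynomial.coeff_zero_eq_eval_zero] using (Polynomial.mem_roots hne).mp h)
  have key : ∀ s : Multiset K, (0 : K) ∉ s → ∃ (c : K), c ≠ 0 ∧
      ((s.map fun r => Polynomial.X - Polynomial.C r).prod : Polynomial K) =
        (C c * g (s.map fun r => r⁻¹) : K⟦X⟧) := by
    intro s hs
    induction s using Multiset.induction_on with
    | empty => exact ⟨1, one_ne_zero, by simp [g]⟩
    | cons r s ih =>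
      obtain ⟨hr, hs⟩ : r ≠ 0 ∧ (0 : K) ∉ s := ⟨fun e => hs (by simp [e]), fun e => hs (by simp [e])⟩
      obtain ⟨c, hc, e⟩ := ih hs
      refine ⟨-r * c, mul_ne_zero (neg_ne_zero.mpr hr) hc, ?_⟩
      have hinv : C r * C r⁻¹ = (1 : K⟦X⟧) := by rw [← map_mul, mul_inv_cancel₀ hr, map_one]
      simp only [g, Multiset.map_cons, Multiset.prod_cons, Polynomial.coe_mul] at e ⊢
      rw [e, Polynomial.coe_sub, Polynomial.coe_X, Polynomial.coe_C, map_mul, map_neg]
      linear_combination (-X * C c * ((s.map fun r => r⁻¹).map fun β => 1 - C β * X).prod) * hinv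
  obtain ⟨c, hc, e⟩ := key p.roots hroots
  refine ⟨p.leadingCoeff * c, p.roots.map fun r => r⁻¹,
    mul_ne_zero (Polynomial.leadingCoeff_ne_zero.mpr hne) hc, fun h => ?_, ?_⟩
  · obtain ⟨r, hr, hr0⟩ := Multiset.mem_map.mp h
    exact hroots (inv_eq_zero.mp hr0 ▸ hr)
  · conv_lhs => rw [(IsAlgClosed.splits p).eq_prod_roots]
    rw [Polynomial.coe_mul, Polynomial.coe_C, e, map_mul, mul_assoc]

theorem derivative_map {R L : Type*} [CommRing R] [CommRing L] (f : R →+* L) (h : R⟦X⟧) :
    d⁄dX L (PowerSeries.map f h) = PowerSeries.map f (d⁄dX R h) := by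
  ext n
  simp [coeff_derivative, coeff_map, map_mul]

open Classical in
/-- Core: a rational function which is an exponential sum on `q ^ v`. -/
theorem exists_laurent (q : K) (hq : ∀ i j : ℕ, q ^ i = q ^ j → i = j) (hq0 : q ≠ 0)
    (num den : Polynomial K) (v0 : ℕ) (m : K →₀ ℤ) (hm : m 0 = 0)
    (h : ∀ v, v0 ≤ v → num.eval (q ^ v) = den.eval (q ^ v) * m.sum fun β a => (a : K) * β ^ v) :
    ∃ (L : Polynomial ℤ) (a : ℕ), num * Polynomial.X ^ a = den * L.map (Int.castRingHom K) := by
  have hz : ∀ β, β ∈ m.support → β ≠ 0 := fun β hβ e => Finsupp.mem_support_iff.mp hβ (e ▸ hm)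
  let e : K → ℤ := fun β => if h : ∃ e : ℤ, β = q ^ e then h.choose else 0
  have he : ∀ β, (∃ e : ℤ, β = q ^ e) → β = q ^ e β := fun β hβ => by
    simp only [e, dif_pos hβ]; exact hβ.choose_spec
  let I := m.support.filter fun β => ∃ e : ℤ, β = q ^ e
  let O := m.support.filter fun β => ¬ ∃ e : ℤ, β = q ^ e
  let a : ℕ := I.sup fun β => (e β).natAbs
  let idx : K → ℕ := fun β => (e β + a).toNat
  have hidx : ∀ β ∈ I, β * q ^ a = q ^ idx β := fun β hβ => by
    have h1 : (e β).natAbs ≤ a := Finset.le_sup (f := fun β => (e β).natAbs) hβ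
    have h2 : ((idx β : ℕ) : ℤ) = e β + a := Int.toNat_of_nonneg (by omega)
    rw [← zpow_natCast q (idx β), h2, zpow_add₀ hq0, zpow_natCast, ← he β (Finset.mem_filter.mp hβ).2]
  let L : Polynomial ℤ := ∑ β ∈ I, Polynomial.C (m β) * Polynomial.X ^ idx β
  let D := num * Polynomial.X ^ a - den * L.map (Int.castRingHom K)
  refine ⟨L, a, sub_eq_zero.mp (?_ : D = 0)⟩
  let c : K →₀ K := D.sum (fun i d => Finsupp.single (q ^ i) d) -
    den.sum (fun j b => ∑ β ∈ O, Finsupp.single (q ^ (a + j) * β) (b * (m β : K)))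
  have hc : c = 0 := by
    refine expSum_eq_zero v0 c ?_ fun v hv => ?_
    · have h1 : ∀ i, q ^ i ≠ 0 := fun i => pow_ne_zero i hq0
      simp only [c, Polynomial.sum_def, Finsupp.sub_apply, Finsupp.finsetSum_apply,
        Finsupp.single_apply]
      rw [Finset.sum_eq_zero fun i _ => if_neg (h1 i), Finset.sum_eq_zero fun j _ =>
        Finset.sum_eq_zero fun β hβ => if_neg (mul_ne_zero (h1 _) (hz β (Finset.mem_filter.mp hβ).1)),
        sub_zero]
    · simp only [c, Polynomial.sum_def, map_sub, map_sum, Finsupp.linearCombination_single, smul_eq_mul]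
      have hD : ∑ i ∈ D.support, D.coeff i * (q ^ i) ^ v = D.eval (q ^ v) := by
        rw [Polynomial.eval_eq_sum, Polynomial.sum_def]
        exact Finset.sum_congr rfl fun i _ => by rw [← pow_mul, ← pow_mul, mul_comm i v]
      rw [hD]
      have hL : (L.map (Int.castRingHom K)).eval (q ^ v) =
          ∑ β ∈ I, (m β : K) * (β ^ v * (q ^ a) ^ v) := by
        simp only [L, Polynomial.map_sum, Polynomial.eval_finsetSum]
        refine Finset.sum_congr rfl fun β hβ => ?_
        rw [Polynomial.map_mul, Polynomial.map_C, Polynomial.map_pow, Polynomial.map_X,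
          Polynomial.eval_mul, Polynomial.eval_C, Polynomial.eval_pow, Polynomial.eval_X,
          ← mul_pow, hidx β hβ, ← pow_mul, ← pow_mul, mul_comm (idx β) v]
        rfl
      have hsplit : (m.sum fun β a => (a : K) * β ^ v) * (q ^ a) ^ v =
          (∑ β ∈ I, (m β : K) * (β ^ v * (q ^ a) ^ v)) + ∑ β ∈ O, (m β : K) * (β ^ v * (q ^ a) ^ v) := by
        rw [Finsupp.sum, Finset.sum_mul, Finset.sum_filter_add_sum_filter_not]
        exact Finset.sum_congr rfl fun β _ => by ring
      have hout : ∑ j ∈ den.support, ∑ β ∈ O, den.coeff j * (m β : K) * (q ^ (a + j) * β) ^ v =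
          den.eval (q ^ v) * ∑ β ∈ O, (m β : K) * (β ^ v * (q ^ a) ^ v) := by
        rw [Polynomial.eval_eq_sum, Polynomial.sum_def, Finset.sum_mul]
        refine Finset.sum_congr rfl fun j _ => ?_
        rw [Finset.mul_sum]
        refine Finset.sum_congr rfl fun β _ => ?_
        rw [← pow_mul q v j, mul_comm v j, pow_mul q j v, pow_add]
        ring
      rw [hout]
      simp only [D, Polynomial.eval_sub, Polynomial.eval_mul, Polynomial.eval_pow, Polynomial.eval_X, hL, h v hv]
      have hpow : (q ^ v) ^ a = (q ^ a) ^ v := by rw [← pow_mul, ← pow_mul, mul_comm]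
      linear_combination den.eval (q ^ v) * hsplit +
        (den.eval (q ^ v) * (m.sum fun β a => (a : K) * β ^ v)) * hpow
  ext i
  have := DFunLike.congr_fun hc (q ^ i)
  simp only [c, Polynomial.sum_def, Finsupp.sub_apply, Finsupp.finsetSum_apply, Finsupp.zero_apply] at this
  rw [Finset.sum_eq_zero (s := den.support) (fun j _ => Finset.sum_eq_zero fun β hβ => ?_), sub_zero,
    Finset.sum_eq_single i (fun j _ hj => Finsupp.single_eq_of_ne fun e => hj (hq _ _ e).symm)
      (fun hi => by simp [Polynomial.notMem_support_iff.mp hi]), Finsupp.single_eq_same] at this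
  · simpa using this
  · refine Finsupp.single_eq_of_ne fun e => (Finset.mem_filter.mp hβ).2 ⟨(i : ℤ) - (a + j : ℕ), ?_⟩
    rw [zpow_sub₀ hq0, zpow_natCast, zpow_natCast, e, mul_div_cancel_left₀ _ (pow_ne_zero _ hq0)]



/-- Let q > 1 be an integer and let F be an element of the subring of the rational function field ℚ(X)
generated by X, X^(-1) and the fractions 1/(X^n - 1) for n ≥ 1 (so F(q^v) is defined for every v ≥
1). If the formal power series exp(Σ_{v ≥ 1} F(q^v) t^v / v) in ℚ⟦t⟧ is the expansion of a rational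
function, i.e. its product with some non-zero polynomial in t is a polynomial, then F is a Laurent
polynomial with integer coefficients: F · X^a is the image of a polynomial with integer coefficients
for some a. (The published statement also assumes that the series defines a meromorphic function on
the complex plane; that is implied by rationality and is omitted here.) -/
theorem result (q : ℤ) (hq : 1 < q) (F : RatFunc ℚ)
    (hF : F ∈ Subring.closure
      (({RatFunc.X, (RatFunc.X : RatFunc ℚ)⁻¹} : Set (RatFunc ℚ)) ∪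
        Set.range fun n : ℕ => ((RatFunc.X : RatFunc ℚ) ^ (n + 1) - 1)⁻¹))
    (hrat : ∃ P Q : Polynomial ℚ, Q ≠ 0 ∧
      (PowerSeries.exp ℚ).subst
          (PowerSeries.mk fun v : ℕ => if v = 0 then (0 : ℚ)
            else F.eval (RingHom.id ℚ) ((q : ℚ) ^ v) / (v : ℚ))
        * (Q : PowerSeries ℚ) = (P : PowerSeries ℚ)) :
    ∃ (P : Polynomial ℤ) (a : ℕ),
      F * RatFunc.X ^ a = algebraMap (Polynomial ℚ) (RatFunc ℚ) (P.map (Int.castRingHom ℚ)) := by
  obtain ⟨P, Q, hQ, hPQ⟩ := hrat
  let ι := algebraMap ℚ (AlgebraicClosure ℚ)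
  have hι := ι.injective
  set q' : ℚ := (q : ℚ) with hq'
  have hq1 : (1 : ℚ) < q' := by rw [hq']; exact_mod_cast hq
  set f := PowerSeries.mk fun v : ℕ => if v = 0 then (0 : ℚ) else F.eval (RingHom.id ℚ) (q' ^ v) / (v : ℚ)
  have hf : HasSubst f := HasSubst.of_constantCoeff_zero' (by simp [f])
  set E : ℚ⟦X⟧ := (PowerSeries.exp ℚ).subst f with hE
  have hE' : d⁄dX ℚ E = E * d⁄dX ℚ f := by rw [hE, derivative_subst hf, derivative_exp]
  have hE0 : constantCoeff E ≠ 0 := by
    rw [hE, ← coeff_zero_eq_constantCoeff_apply, coeff_subst' hf, finsum_eq_single _ 0]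
    · simp
    · intro d hd
      rw [coeff_zero_eq_constantCoeff, map_pow, show constantCoeff f = 0 by simp [f], zero_pow hd, smul_zero]
  obtain ⟨Q1, hQ1e, hQ1⟩ := Q.exists_eq_pow_rootMultiplicity_mul_and_not_dvd hQ 0
  rw [map_zero, sub_zero] at hQ1e hQ1
  rw [Polynomial.X_dvd_iff] at hQ1
  obtain ⟨P1, hP1⟩ : Polynomial.X ^ Q.rootMultiplicity 0 ∣ P := Polynomial.X_pow_dvd_iff.mpr fun d hd => by
    rw [← Polynomial.coeff_coe, ← hPQ, hQ1e, Polynomial.coe_mul, Polynomial.coe_pow, Polynomial.coe_X,
      mul_left_comm, PowerSeries.coeff_X_pow_mul', if_neg (not_le.mpr hd)]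
  have h1 : E * (Q1 : ℚ⟦X⟧) = (P1 : ℚ⟦X⟧) := by
    refine mul_left_cancel₀ (pow_ne_zero (Q.rootMultiplicity 0) PowerSeries.X_ne_zero) ?_
    have := hPQ
    conv_lhs at this => rw [hQ1e]
    conv_rhs at this => rw [hP1]
    simp only [Polynomial.coe_mul, Polynomial.coe_pow, Polynomial.coe_X] at this
    rw [← this]; ring
  have hP10 : P1.coeff 0 ≠ 0 := by
    rw [← Polynomial.coeff_coe, ← h1, coeff_zero_eq_constantCoeff, map_mul]
    exact mul_ne_zero hE0 (by simpa [← coeff_zero_eq_constantCoeff] using hQ1)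
  have hk : d⁄dX ℚ (P1 : ℚ⟦X⟧) = d⁄dX ℚ f * (P1 : ℚ⟦X⟧) + E * d⁄dX ℚ (Q1 : ℚ⟦X⟧) := by
    rw [← h1, Derivation.leibniz, hE', smul_eq_mul, smul_eq_mul]; ring
  obtain ⟨cP, sP, hcP, hsP, eP⟩ := exists_g (P1.map ι) (by simpa [Polynomial.coeff_map] using hP10)
  obtain ⟨cQ, sQ, hcQ, hsQ, eQ⟩ := exists_g (Q1.map ι) (by simpa [Polynomial.coeff_map] using hQ1)
  rw [Polynomial.polynomial_map_coe] at eP eQ
  have h1' := congrArg (PowerSeries.map ι) h1
  have hk' := congrArg (PowerSeries.map ι) hk
  simp only [map_mul, map_add, ← derivative_map] at h1' hk'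
  rw [eP, eQ] at h1'
  rw [eP, eQ] at hk'
  simp only [Derivation.leibniz, derivative_C, smul_eq_mul, mul_zero, add_zero, derivative_g] at hk'
  have hne : C cP * g sP ≠ 0 := fun e => by
    have := congrArg constantCoeff (eP.trans e)
    simp [← coeff_zero_eq_constantCoeff, hP10] at this
  have hf' : d⁄dX _ (PowerSeries.map ι f) = S sQ - S sP := mul_left_cancel₀ hne (by
    linear_combination (-1 : (AlgebraicClosure ℚ)⟦X⟧) * hk' + (S sQ) * h1')
  let m : AlgebraicClosure ℚ →₀ ℤ :=
    (sQ.map fun β => Finsupp.single β 1).sum - (sP.map fun β => Finsupp.single β 1).sum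
  have hm : m 0 = 0 := by
    have : ∀ s : Multiset (AlgebraicClosure ℚ), 0 ∉ s → (s.map fun β => Finsupp.single β (1 : ℤ)).sum 0 = 0 := by
      intro s hs
      induction s using Multiset.induction_on with
      | empty => simp
      | cons b s ih =>
        simp only [Multiset.mem_cons, not_or] at hs
        simp [Finsupp.single_eq_of_ne hs.1, ih hs.2]
    simp [m, this _ hsP, this _ hsQ]
  have hval : ∀ v, 1 ≤ v → ι (F.eval (RingHom.id ℚ) (q' ^ v)) = m.sum fun β a => (a : AlgebraicClosure ℚ) * β ^ v := by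
    intro v hv
    obtain ⟨n, rfl⟩ := Nat.exists_eq_add_of_le' hv
    have hc := congrArg (coeff n) hf'
    simp only [map_sub, S, coeff_mk, coeff_derivative, coeff_map, f] at hc
    rw [if_neg (Nat.succ_ne_zero n)] at hc
    have hn : ((n : AlgebraicClosure ℚ) + 1) ≠ 0 := by exact_mod_cast Nat.succ_ne_zero n
    have hsum : ∀ s : Multiset (AlgebraicClosure ℚ),
        Finsupp.linearCombination ℤ (fun β : AlgebraicClosure ℚ => β ^ (n + 1)) (s.map fun β => Finsupp.single β (1 : ℤ)).sum =
          (s.map fun β => β ^ (n + 1)).sum := fun s => by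
      rw [map_multiset_sum, Multiset.map_map]; simp [Function.comp_def]
    have hL : (m.sum fun β a => (a : AlgebraicClosure ℚ) * β ^ (n + 1)) =
        Finsupp.linearCombination ℤ (fun β : AlgebraicClosure ℚ => β ^ (n + 1)) m := by
      simp [Finsupp.linearCombination_apply]
    rw [hL, show m = _ from rfl, map_sub, hsum, hsum, ← hc]
    rw [map_div₀]; push_cast [map_natCast, map_add, map_one]
    field_simp
  obtain ⟨v0, hv0⟩ : ∃ v0 : ℕ, ∀ v, v0 ≤ v → F.denom.eval (q' ^ v) ≠ 0 := by
    have hfin : {v : ℕ | F.denom.eval (q' ^ v) = 0}.Finite :=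
      (Polynomial.finite_setOf_isRoot F.denom_ne_zero).preimage
        (pow_right_strictMono₀ hq1).injective.injOn
    obtain ⟨b, hb⟩ := hfin.bddAbove
    exact ⟨b + 1, fun v hv h => absurd (hb h) (by omega)⟩
  have hq0 : q' ≠ 0 := (zero_lt_one.trans hq1).ne'
  obtain ⟨L, a, hL⟩ := exists_laurent (ι q')
    (fun i j h => (pow_right_strictMono₀ hq1).injective (hι (by simpa only [map_pow] using h)))
    (by simpa using hq0) (F.num.map ι) (F.denom.map ι) (v0 + 1) m hm (fun v hv => by
      have hd := hv0 v (by omega)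
      rw [← map_pow, Polynomial.eval_map, Polynomial.eval_map, Polynomial.eval₂_at_apply,
        Polynomial.eval₂_at_apply, ← hval v (by omega), ← map_mul]
      congr 1
      simp only [RatFunc.eval, Polynomial.eval₂_id]
      field_simp)
  refine ⟨L, a, ?_⟩
  have hL' : F.num * Polynomial.X ^ a = F.denom * L.map (Int.castRingHom ℚ) := by
    apply Polynomial.map_injective ι hι
    rw [Polynomial.map_mul, Polynomial.map_mul, Polynomial.map_pow, Polynomial.map_X, Polynomial.map_map,
      show ι.comp (Int.castRingHom ℚ) = Int.castRingHom _ from Subsingleton.elim _ _, hL]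
  have hd : algebraMap (Polynomial ℚ) (RatFunc ℚ) F.denom ≠ 0 := by simpa using F.denom_ne_zero
  conv_lhs => rw [← RatFunc.num_div_denom F]
  rw [← RatFunc.algebraMap_X, ← map_pow, div_mul_eq_mul_div, div_eq_iff hd, ← map_mul, ← map_mul, hL', mul_comm]

end Groth.Agent.S14193
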