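import Groth.Statements.S14194
import Mathlib.LinearAlgebra.Dimension.RankNullity
import Mathlib.LinearAlgebra.FiniteDimensional.Lemmas
import Mathlib.LinearAlgebra.Dual.Lemmas
import Mathlib.LinearAlgebra.StdBasis
import Mathlib.LinearAlgebra.Matrix.ToLin


set_option autoImplicit false
universe u
open W4c1btstackcounts
open StackCount

namespace Groth.Agent.S14194

open Module

section
variable {k : Type*} [Field k]

theorem finrank_map_add {V W : Type*} [AddCommGroup V] [Module k V] [AddCommGroup W] [Module k W] [FiniteDimensional k V]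
    (f : V →ₗ[k] W) (B : Submodule k V) :
    finrank k (B.map f) + finrank k (B ⊓ LinearMap.ker f : Submodule k V) = finrank k B := by
  have h := (f.domRestrict B).finrank_range_add_finrank_ker
  have h1 : LinearMap.range (f.domRestrict B) = B.map f := LinearMap.range_domRestrict B f
  rw [h1, LinearMap.ker_domRestrict] at h
  rw [← h]
  congr 1
  rw [← Submodule.finrank_map_subtype_eq B (Submodule.comap B.subtype (LinearMap.ker f)), Submodule.map_comap_subtype]

variable {V V' W W' : Type*} [AddCommGroup V] [Module k V] [AddCommGroup V'] [Module k V'] [AddCommGroup W] [Module k W]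
  [AddCommGroup W'] [Module k W'] [FiniteDimensional k V] [FiniteDimensional k V']

theorem extend_iso (f : V →ₗ[k] W) (f' : V' →ₗ[k] W') (ψ : W ≃ₗ[k] W') (B : Submodule k V) (B' : Submodule k V')
    (hdim : finrank k B = finrank k B') (him : (B.map f).map ψ.toLinearMap = B'.map f') :
    ∀ (c : ℕ) (A : Submodule k V) (L : V →ₗ[k] V'), finrank k B = finrank k A + c → A ≤ B → A.map L ≤ B' →
      Disjoint A (LinearMap.ker L) → (∀ x ∈ A, f' (L x) = ψ (f x)) →
      ∃ L' : V →ₗ[k] V', (∀ x ∈ A, L' x = L x) ∧ Disjoint B (LinearMap.ker L') ∧ B.map L' = B' ∧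
        ∀ x ∈ B, f' (L' x) = ψ (f x) := by
  intro c
  induction c with
  | zero =>
    intro A L hc hAB hL hinj hcomm
    have hA : A = B := Submodule.eq_of_le_of_finrank_eq hAB hc.symm
    subst hA
    refine ⟨L, fun _ _ => rfl, hinj, Submodule.eq_of_le_of_finrank_eq hL ?_, hcomm⟩
    have h := finrank_map_add L A
    rw [disjoint_iff.mp hinj, finrank_bot, add_zero] at h
    exact h.trans hdim
  | succ c ih =>
    intro A L hc hAB hL hinj hcomm
    have hdimA : finrank k (A.map L) = finrank k A := by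
      have h := finrank_map_add L A
      rwa [disjoint_iff.mp hinj, finrank_bot, add_zero] at h
    have key : ∃ v v', v ∈ B ∧ v ∉ A ∧ v' ∈ B' ∧ v' ∉ A.map L ∧ f' v' = ψ (f v) := by
      by_cases h : B.map f ≤ A.map f
      · obtain ⟨v, hvB, hvA⟩ := SetLike.exists_of_lt (hAB.lt_of_ne fun e => by rw [e] at hc; omega)
        obtain ⟨a, ha, hfa⟩ := h (Submodule.mem_map_of_mem hvB)
        obtain ⟨v', hvB', hvA'⟩ := SetLike.exists_of_lt (hL.lt_of_ne fun e => by rw [e] at hdimA; omega)
        have h1 : f' v' ∈ B'.map f' := Submodule.mem_map_of_mem hvB'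
        rw [← him] at h1
        obtain ⟨w, hw, hw'⟩ := h1
        obtain ⟨a', ha', hfa'⟩ := h hw
        refine ⟨v - a, v' - L a', B.sub_mem hvB (hAB ha), fun e => hvA ?_, B'.sub_mem hvB' (hL (Submodule.mem_map_of_mem ha')),
          fun e => hvA' ?_, ?_⟩
        · simpa using A.add_mem e ha
        · simpa using (A.map L).add_mem e (Submodule.mem_map_of_mem ha')
        · rw [map_sub, map_sub, hfa, sub_self, map_zero, hcomm a' ha', hfa', sub_eq_zero]
          exact hw'.symm
      · obtain ⟨w, hw, hwA⟩ := SetLike.not_le_iff_exists.mp h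
        obtain ⟨v, hvB, rfl⟩ := hw
        have h1 : ψ (f v) ∈ B'.map f' := him ▸ Submodule.mem_map_of_mem (f := ψ.toLinearMap) (Submodule.mem_map_of_mem hvB)
        obtain ⟨v', hv', hfv'⟩ := h1
        refine ⟨v, v', hvB, fun e => hwA (Submodule.mem_map_of_mem e), hv', ?_, hfv'⟩
        rintro ⟨a, ha, rfl⟩
        exact hwA ⟨a, ha, ψ.injective ((hcomm a ha).symm.trans hfv')⟩
    obtain ⟨v, v', hvB, hvA, hvB', hvA', hf⟩ := key
    obtain ⟨η₀, hη₀, hη⟩ := Submodule.exists_dual_map_eq_bot_of_notMem hvA inferInstance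
    have hηA : ∀ x ∈ A, η₀ x = 0 := fun x hx => by simpa [hη] using Submodule.mem_map_of_mem (f := η₀) hx
    let L₁ : V →ₗ[k] V' := L + LinearMap.smulRight ((η₀ v)⁻¹ • η₀) (v' - L v)
    have hL₁A : ∀ x ∈ A, L₁ x = L x := fun x hx => by simp [L₁, hηA x hx]
    have hL₁v : L₁ v = v' := by simp [L₁, inv_mul_cancel₀ hη₀]
    have hrep : ∀ x ∈ A ⊔ Submodule.span k {v}, ∃ a ∈ A, ∃ t : k, x = a + t • v := fun x hx => by
      obtain ⟨a, ha, y, hy, rfl⟩ := Submodule.mem_sup.mp hx
      obtain ⟨t, rfl⟩ := Submodule.mem_span_singleton.mp hy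
      exact ⟨a, ha, t, rfl⟩
    have hrank : finrank k (A ⊔ Submodule.span k {v} : Submodule k V) = finrank k A + 1 := by
      refine le_antisymm ?_ (Submodule.finrank_lt_finrank_of_lt (lt_of_le_of_ne le_sup_left fun e => hvA
        (e.ge (le_sup_right (a := A) (Submodule.mem_span_singleton_self v)))))
      have h1 := Submodule.finrank_sup_add_finrank_inf_eq A (Submodule.span k {v})
      have h2 : finrank k (Submodule.span k ({v} : Set V)) ≤ 1 :=
        (finrank_span_le_card _).trans (by simp)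
      omega
    obtain ⟨L', hL', h'⟩ := ih (A ⊔ Submodule.span k {v}) L₁ (by omega)
      (sup_le hAB ((Submodule.span_singleton_le_iff_mem _ _).mpr hvB))
      (by
        rintro _ ⟨x, hx, rfl⟩
        obtain ⟨a, ha, t, rfl⟩ := hrep x hx
        rw [map_add, map_smul, hL₁A a ha, hL₁v]
        exact B'.add_mem (hL (Submodule.mem_map_of_mem ha)) (B'.smul_mem t hvB'))
      (by
        rw [Submodule.disjoint_def]
        intro x hx h0
        obtain ⟨a, ha, t, rfl⟩ := hrep x hx
        rw [LinearMap.mem_ker, map_add, map_smul, hL₁A a ha, hL₁v] at h0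
        by_cases ht : t = 0
        · subst ht
          rw [zero_smul, add_zero] at h0 ⊢
          exact Submodule.disjoint_def.mp hinj a ha h0
        · refine absurd ?_ hvA'
          have h2 : t • v' ∈ A.map L := by
            rw [eq_neg_of_add_eq_zero_right h0]; exact (A.map L).neg_mem (Submodule.mem_map_of_mem ha)
          exact ((A.map L).smul_mem_iff ht).mp h2)
      (fun x hx => by
        obtain ⟨a, ha, t, rfl⟩ := hrep x hx
        simp only [map_add, map_smul, hL₁A a ha, hL₁v, hf, hcomm a ha])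
    exact ⟨L', fun x hx => (hL' x (Submodule.mem_sup_left hx)).trans (hL₁A x hx), h'⟩

theorem exists_flag_iso (f : V →ₗ[k] W) (f' : V' →ₗ[k] W') (ψ : W ≃ₗ[k] W') (n : ℕ)
    (F : ℕ → Submodule k V) (F' : ℕ → Submodule k V') (hmono : ∀ i, 1 ≤ i → i < n → F i ≤ F (i + 1))
    (hmono' : ∀ i, 1 ≤ i → i < n → F' i ≤ F' (i + 1)) (htop : 1 ≤ n → F n = ⊤) (htop' : 1 ≤ n → F' n = ⊤)
    (hdim : ∀ i, 1 ≤ i → i ≤ n → finrank k (F i) = finrank k (F' i)) (hn : 1 ≤ n)
    (him : ∀ i, 1 ≤ i → i ≤ n → ((F i).map f).map ψ.toLinearMap = (F' i).map f') :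
    ∃ φ : V ≃ₗ[k] V', (∀ x, f' (φ x) = ψ (f x)) ∧ ∀ i, 1 ≤ i → i ≤ n → (F i).map φ.toLinearMap = F' i := by
  have key : ∀ m, 1 ≤ m → m ≤ n → ∃ L : V →ₗ[k] V', Disjoint (F m) (LinearMap.ker L) ∧
      (∀ x ∈ F m, f' (L x) = ψ (f x)) ∧ ∀ i, 1 ≤ i → i ≤ m → (F i).map L = F' i := by
    intro m hm
    induction m, hm using Nat.le_induction with
    | base =>
      intro h1
      obtain ⟨L, -, ha, hb, hc⟩ := extend_iso f f' ψ (F 1) (F' 1) (hdim 1 le_rfl h1) (him 1 le_rfl h1) _ ⊥ 0
        (by rw [finrank_bot, zero_add]) bot_le (by simp) disjoint_bot_left (fun x hx => by simp [(Submodule.mem_bot k).mp hx])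
      exact ⟨L, ha, hc, fun i hi1 hi2 => by rw [show i = 1 by omega]; exact hb⟩
    | succ m hm ih =>
      intro h1
      obtain ⟨L, hinj, hcomm, hF⟩ := ih (by omega)
      have hle := hmono m hm (by omega)
      obtain ⟨c, hc⟩ := Nat.exists_eq_add_of_le (Submodule.finrank_mono hle)
      obtain ⟨L', heq, ha, hb, hc'⟩ := extend_iso f f' ψ (F (m + 1)) (F' (m + 1)) (hdim _ (by omega) h1) (him _ (by omega) h1)
        c (F m) L hc hle (by rw [hF m hm le_rfl]; exact hmono' m hm (by omega)) hinj hcomm
      refine ⟨L', ha, hc', fun i hi1 hi2 => ?_⟩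
      rcases Nat.lt_or_ge i (m + 1) with hi | hi
      · rw [← hF i hi1 (by omega)]
        have hchain : F i ≤ F m := by
          have : ∀ j, i + j ≤ m → F i ≤ F (i + j) := fun j => by
            induction j with
            | zero => exact fun _ => le_rfl
            | succ j ih' => exact fun hj => (ih' (by omega)).trans (hmono (i + j) (by omega) (by omega))
          have h2 := this (m - i) (by omega)
          rwa [Nat.add_sub_cancel' (by omega)] at h2
        ext y
        simp only [Submodule.mem_map]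
        exact exists_congr fun x => and_congr_right fun hx => by rw [heq x (hchain hx)]
      · rw [show i = m + 1 by omega]; exact hb
  obtain ⟨L, hinj, hcomm, hF⟩ := key n hn le_rfl
  rw [htop hn, disjoint_iff, top_inf_eq] at hinj
  have hsurj : LinearMap.range L = ⊤ := by
    rw [← Submodule.map_top, ← htop hn, hF n hn le_rfl, htop' hn]
  exact ⟨LinearEquiv.ofBijective L ⟨LinearMap.ker_eq_bot.mp hinj, LinearMap.range_eq_top.mp hsurj⟩,
    fun x => hcomm x (htop hn ▸ Submodule.mem_top), hF⟩

end

section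
variable {k : Type*} [Field k] {d : ℕ → ℕ}

/-- The image of the `i`-th space in the `j`-th one. -/
noncomputable def img (f : (i : ℕ) → Matrix (Fin (d (i + 1))) (Fin (d i)) k) (i : ℕ) : (j : ℕ) → Submodule k (Fin (d j) → k)
  | 0 => ⊤
  | j + 1 => if i ≤ j then (img f i j).map (Matrix.toLin' (f j)) else ⊤

variable (f : (i : ℕ) → Matrix (Fin (d (i + 1))) (Fin (d i)) k)

theorem img_succ {i j : ℕ} (h : i ≤ j) : img f i (j + 1) = (img f i j).map (Matrix.toLin' (f j)) := by
  rw [img, if_pos h]

theorem img_of_le {i j : ℕ} (h : j ≤ i) : img f i j = ⊤ := by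
  cases j with
  | zero => rfl
  | succ j => rw [img, if_neg (by omega)]

theorem iterImage_eq (i : ℕ) : ∀ n, iterImage f i n = img f i (i + n)
  | 0 => (img_of_le f le_rfl).symm
  | n + 1 => by
    show (iterImage f i n).map (Matrix.toLin' (f (i + n))) = img f i (i + n + 1)
    rw [img_succ f (Nat.le_add_right i n), iterImage_eq i n]

theorem rankArray_eq {i j : ℕ} (h : i ≤ j) : rankArray f i j = finrank k (img f i j) := by
  obtain ⟨n, rfl⟩ := Nat.exists_eq_add_of_le h
  rw [rankArray, if_pos h]
  have : ∀ m, m = n → finrank k (iterImage f i m) = finrank k (img f i (i + n)) := by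
    rintro m rfl; rw [iterImage_eq]
  exact this _ (by omega)

theorem img_mono (i : ℕ) : ∀ j, img f i j ≤ img f (i + 1) j
  | 0 => le_rfl
  | j + 1 => by
    by_cases h : i + 1 ≤ j
    · rw [img_succ f h, img_succ f (by omega)]; exact Submodule.map_mono (img_mono i j)
    · rw [img_of_le f (show j + 1 ≤ i + 1 by omega)]; exact le_top

/-- Coordinate subspace. -/
noncomputable def coord (k : Type*) [Field k] (D n : ℕ) : Submodule k (Fin D → k) :=
  Submodule.span k ((fun t : Fin D => (Pi.single t (1 : k) : Fin D → k)) '' {t | (t : ℕ) < n})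

theorem coord_top (D : ℕ) : coord k D D = ⊤ := by
  rw [coord, show {t : Fin D | (t : ℕ) < D} = Set.univ from Set.eq_univ_of_forall fun t => t.2, Set.image_univ]
  have h : (fun t : Fin D => (Pi.single t (1 : k) : Fin D → k)) = ⇑(Pi.basisFun k (Fin D)) :=
    funext fun t => (Pi.basisFun_apply k (Fin D) t).symm
  rw [h, Module.Basis.span_eq]

theorem finrank_coord {D n : ℕ} (h : n ≤ D) : finrank k (coord k D n) = n := by
  have hset : (fun t : Fin D => (Pi.single t (1 : k) : Fin D → k)) '' {t | (t : ℕ) < n} =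
      Set.range (fun t : Fin n => (Pi.basisFun k (Fin D)) (Fin.castLE h t)) := by
    ext x
    constructor
    · rintro ⟨t, ht, rfl⟩; exact ⟨⟨t, ht⟩, Pi.basisFun_apply k (Fin D) _⟩
    · rintro ⟨t, rfl⟩; exact ⟨Fin.castLE h t, t.2, (Pi.basisFun_apply k (Fin D) _).symm⟩
  rw [coord, hset]
  exact (finrank_span_eq_card ((Pi.basisFun k (Fin D)).linearIndependent.comp _ (Fin.castLE_injective h))).trans
    (Fintype.card_fin n)

open Classical in
theorem exists_matrix (D D' j : ℕ) (a b : ℕ → ℕ) (ha0 : a 0 = 0) (hb0 : b 0 = 0)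
    (ha : ∀ i, i < j → a i ≤ a (i + 1)) (hb : ∀ i, i < j → b i ≤ b (i + 1))
    (hab : ∀ i, i < j → b (i + 1) + a i ≤ a (i + 1) + b i) (hD : ∀ i, i ≤ j → a i ≤ D) (hD' : ∀ i, i ≤ j → b i ≤ D') :
    ∃ M : Matrix (Fin D') (Fin D) k, ∀ i, 1 ≤ i → i ≤ j → (coord k D (a i)).map (Matrix.toLin' M) = coord k D' (b i) := by
  have hchain : ∀ (c : ℕ → ℕ), (∀ i, i < j → c i ≤ c (i + 1)) → ∀ l i, l ≤ i → i ≤ j → c l ≤ c i := by
    intro c hc l i hli
    induction i, hli using Nat.le_induction with
    | base => exact fun _ => le_rfl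
    | succ i _ ih => exact fun h => (ih (by omega)).trans (hc i (by omega))
  let g : ℕ → ℕ := fun t =>
    if h : ∃ i, i < j ∧ t < a (i + 1) then
      (if b (Nat.find h) + (t - a (Nat.find h)) < b (Nat.find h + 1) then b (Nat.find h) + (t - a (Nat.find h)) else D')
    else D'
  let M : Matrix (Fin D') (Fin D) k := fun s t => if (s : ℕ) = g t then 1 else 0
  have hM : ∀ t : Fin D, Matrix.toLin' M (Pi.single t 1) = fun s : Fin D' => if (s : ℕ) = g t then (1 : k) else 0 := fun t => by
    rw [Matrix.toLin'_apply, Matrix.mulVec_single_one]; rfl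
  have hM' : ∀ (t : Fin D) (s : Fin D'), g t = s → Matrix.toLin' M (Pi.single t 1) = Pi.single s 1 := fun t s h => by
    rw [hM]; funext x; simp [Pi.single_apply, h, Fin.val_inj]
  refine ⟨M, fun i hi hij => ?_⟩
  rw [coord, coord, Submodule.map_span, ← Set.image_comp]
  refine le_antisymm (Submodule.span_le.mpr ?_) (Submodule.span_le.mpr ?_)
  · rintro _ ⟨t, ht, rfl⟩
    show Matrix.toLin' M (Pi.single t 1) ∈ _
    have hex : ∃ l, l < j ∧ (t : ℕ) < a (l + 1) := ⟨i - 1, by omega, by
      rw [show i - 1 + 1 = i by omega]; exact ht⟩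
    have hl : Nat.find hex ≤ i - 1 := Nat.find_le ⟨by omega, by rw [show i - 1 + 1 = i by omega]; exact ht⟩
    have hbl : b (Nat.find hex + 1) ≤ b i := hchain b hb _ _ (by omega) hij
    by_cases hs : g t < D'
    · rw [hM' t ⟨g t, hs⟩ rfl]
      refine Submodule.subset_span ⟨⟨g t, hs⟩, ?_, rfl⟩
      show g t < b i
      simp only [g, dif_pos hex] at hs ⊢
      split_ifs at hs ⊢ with h1
      · omega
      · omega
    · have h0 : Matrix.toLin' M (Pi.single t 1) = 0 := by
        rw [hM]
        funext x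
        have hx := x.2
        rw [if_neg (by omega)]
        rfl
      rw [h0]
      exact Submodule.zero_mem _
  · rintro _ ⟨s, hs, rfl⟩
    have hs' : (s : ℕ) < b i := hs
    have hexs : ∃ l, l < j ∧ (s : ℕ) < b (l + 1) := ⟨i - 1, by omega, by rw [show i - 1 + 1 = i by omega]; exact hs'⟩
    have hl := Nat.find_spec hexs
    have hli : Nat.find hexs ≤ i - 1 := Nat.find_le ⟨by omega, by rw [show i - 1 + 1 = i by omega]; exact hs'⟩
    have hlow : b (Nat.find hexs) ≤ s := by
      by_cases h0 : Nat.find hexs = 0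
      · rw [h0, hb0]; exact Nat.zero_le _
      · by_contra h1
        exact Nat.find_min hexs (show Nat.find hexs - 1 < Nat.find hexs by omega)
          ⟨by omega, by rw [show Nat.find hexs - 1 + 1 = Nat.find hexs by omega]; omega⟩
    generalize hldef : Nat.find hexs = l at hl hli hlow
    have hab' := hab l hl.1
    have hal := hchain a ha (l + 1) i (by omega) hij
    have hDi := hD i hij
    let t : Fin D := ⟨a l + (s - b l), by omega⟩
    have hext : ∃ l', l' < j ∧ (t : ℕ) < a (l' + 1) := ⟨l, hl.1, by show a l + (s - b l) < _; omega⟩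
    have hfind : Nat.find hext = l := by
      refine (Nat.find_eq_iff _).mpr ⟨⟨hl.1, by show a l + (s - b l) < _; omega⟩, fun l' hl' h => ?_⟩
      have h2 := hchain a ha (l' + 1) l (by omega) (by omega)
      have h3 : a l + (s - b l) < a (l' + 1) := h.2
      omega
    have hgt : g t = s := by
      simp only [g, dif_pos hext, hfind]
      show (if b l + (a l + ((s : ℕ) - b l) - a l) < b (l + 1) then b l + (a l + ((s : ℕ) - b l) - a l) else D') = s
      rw [if_pos (by omega)]
      omega
    refine Submodule.subset_span ⟨t, ?_, hM' t s hgt⟩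
    show a l + (s - b l) < a i
    omega

theorem img_conj (g : (j : ℕ) → Matrix.GeneralLinearGroup (Fin (d j)) k) (i : ℕ) :
    ∀ j, img (conj g f) i j = (img f i j).map (Matrix.toLin' ((g j : Matrix.GeneralLinearGroup (Fin (d j)) k) : Matrix (Fin (d j)) (Fin (d j)) k)) := by
  have hs : ∀ j, Function.Surjective (Matrix.toLin' ((g j : Matrix.GeneralLinearGroup (Fin (d j)) k) : Matrix (Fin (d j)) (Fin (d j)) k)) :=
    fun j y => ⟨Matrix.toLin' (((g j)⁻¹ : Matrix.GeneralLinearGroup (Fin (d j)) k) : Matrix (Fin (d j)) (Fin (d j)) k) y, by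
      rw [← LinearMap.comp_apply, ← Matrix.toLin'_mul, Units.mul_inv, Matrix.toLin'_one]; rfl⟩
  intro j
  induction j with
  | zero =>
    show (⊤ : Submodule k _) = (⊤ : Submodule k _).map _
    rw [Submodule.map_top, LinearMap.range_eq_top.mpr (hs 0)]
  | succ j ih =>
    by_cases h : i ≤ j
    · rw [img_succ _ h, img_succ _ h, ih, ← Submodule.map_comp, ← Submodule.map_comp, ← Matrix.toLin'_mul, ← Matrix.toLin'_mul]
      congr 2
      show _ * _ * _ * _ = _
      rw [Matrix.mul_assoc, Units.inv_mul, Matrix.mul_one]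
    · rw [img_of_le _ (by omega), img_of_le _ (by omega), Submodule.map_top, LinearMap.range_eq_top.mpr (hs _)]

theorem exists_isos (f' : (i : ℕ) → Matrix (Fin (d (i + 1))) (Fin (d i)) k) : ∀ (m : ℕ),
    (∀ i j, 1 ≤ i → i ≤ j → j ≤ m → finrank k (img f i j) = finrank k (img f' i j)) →
    ∀ ψ : (Fin (d m) → k) ≃ₗ[k] (Fin (d m) → k), (∀ i, 1 ≤ i → i ≤ m → (img f i m).map ψ.toLinearMap = img f' i m) →
    ∃ φ : (j : ℕ) → ((Fin (d j) → k) ≃ₗ[k] (Fin (d j) → k)), φ m = ψ ∧
      ∀ i, 1 ≤ i → i + 1 ≤ m → ∀ x, φ (i + 1) (Matrix.toLin' (f i) x) = Matrix.toLin' (f' i) (φ i x) := by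
  intro m
  induction m with
  | zero => exact fun _ ψ _ => ⟨Function.update (fun j => LinearEquiv.refl k _) 0 ψ, Function.update_self .., fun i _ h => absurd h (by omega)⟩
  | succ m ih =>
    intro hdim ψ hψ
    rcases Nat.eq_zero_or_pos m with hm | hm
    · exact ⟨Function.update (fun j => LinearEquiv.refl k _) (m + 1) ψ, Function.update_self .., fun i h1 h => absurd h (by omega)⟩
    obtain ⟨χ, hχ, hχF⟩ := exists_flag_iso (Matrix.toLin' (f m)) (Matrix.toLin' (f' m)) ψ m (fun i => img f i m) (fun i => img f' i m)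
      (fun i _ _ => img_mono f i m) (fun i _ _ => img_mono f' i m) (fun _ => img_of_le f le_rfl) (fun _ => img_of_le f' le_rfl)
      (fun i h1 h2 => hdim i m h1 h2 (by omega)) hm
      (fun i h1 h2 => by rw [← img_succ f h2, ← img_succ f' h2]; exact hψ i h1 (by omega))
    obtain ⟨φ, hφm, hφ⟩ := ih (fun i j h1 h2 h3 => hdim i j h1 h2 (by omega)) χ hχF
    refine ⟨Function.update φ (m + 1) ψ, Function.update_self .., fun i h1 h2 x => ?_⟩
    rcases Nat.lt_or_ge i m with h | h
    · rw [Function.update_of_ne (by omega), Function.update_of_ne (by omega)]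
      exact hφ i h1 (by omega) x
    · obtain rfl : i = m := by omega
      rw [Function.update_self, Function.update_of_ne (by omega), hφm]
      exact (hχ x).symm

end


/-- Let k be a field and d_1, …, d_r sizes (given as a function d on the naturals; only d_1, …, d_r
matter). The group Π_j GL_{d_j}(k) acts on chains of matrices f_i of size d_{i+1} × d_i (1 ≤ i < r)
by f_i ↦ g_{i+1} f_i g_i^(-1). Sending a chain to the array a_{i,j} = dim (f_{j-1} ⋯ f_i)(k^{d_i})
(1 ≤ i ≤ j ≤ r) is constant on orbits, takes values in the set of admissible arrays (a_{j,j} = d_j;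
a_{i,j} ≤ a_{i+1,j} for i < j; a_{i,j+1} ≤ a_{i,j} for j < r; a_{i,j} - a_{i-1,j} ≥ a_{i,j+1} -
a_{i-1,j+1} for 1 < i ≤ j < r), separates orbits, and reaches every admissible array: it is a
bijection from the orbit set onto the admissible arrays. (The published statement also asserts that,
when k is Galois over a subfield, the bijection is compatible with the Galois group acting entrywise
on matrices and trivially on arrays; this row omits that clause.) -/
theorem result (k : Type u) [Field k] (d : ℕ → ℕ) (r : ℕ) :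
    (∀ (g : (j : ℕ) → Matrix.GeneralLinearGroup (Fin (d j)) k)
        (f : (i : ℕ) → Matrix (Fin (d (i + 1))) (Fin (d i)) k) (i j : ℕ),
        1 ≤ i → i ≤ j → j ≤ r → rankArray (conj g f) i j = rankArray f i j) ∧
    (∀ f : (i : ℕ) → Matrix (Fin (d (i + 1))) (Fin (d i)) k, IsRankArray d r (rankArray f)) ∧
    (∀ f f' : (i : ℕ) → Matrix (Fin (d (i + 1))) (Fin (d i)) k,
        (∀ i j : ℕ, 1 ≤ i → i ≤ j → j ≤ r → rankArray f i j = rankArray f' i j) →
        ∃ g : (j : ℕ) → Matrix.GeneralLinearGroup (Fin (d j)) k,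
          ∀ i : ℕ, 1 ≤ i → i + 1 ≤ r → conj g f i = f' i) ∧
    (∀ a : ℕ → ℕ → ℕ, IsRankArray d r a →
        ∃ f : (i : ℕ) → Matrix (Fin (d (i + 1))) (Fin (d i)) k,
          ∀ i j : ℕ, 1 ≤ i → i ≤ j → j ≤ r → rankArray f i j = a i j) := by
  classical
  refine ⟨fun g f i j _ hij _ => ?_, fun f => ⟨?_, ?_, ?_, ?_⟩, fun f f' h => ?_, fun a ha => ?_⟩
  · rw [rankArray_eq _ hij, rankArray_eq _ hij, img_conj]
    have hinj : Function.Injective (Matrix.toLin' ((g j : Matrix.GeneralLinearGroup (Fin (d j)) k) : Matrix (Fin (d j)) (Fin (d j)) k)) :=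
      Function.LeftInverse.injective (g := Matrix.toLin' (((g j)⁻¹ : Matrix.GeneralLinearGroup (Fin (d j)) k) : Matrix (Fin (d j)) (Fin (d j)) k))
        fun x => by rw [← LinearMap.comp_apply, ← Matrix.toLin'_mul, Units.inv_mul, Matrix.toLin'_one]; rfl
    exact (Submodule.equivMapOfInjective _ hinj _).finrank_eq.symm
  · intro j _ _
    rw [rankArray_eq f le_rfl, img_of_le f le_rfl, finrank_top, Module.finrank_fin_fun]
  · intro i j _ hij _
    rw [rankArray_eq f hij.le, rankArray_eq f hij]
    exact Submodule.finrank_mono (img_mono f i j)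
  · intro i j _ hij _
    rw [rankArray_eq f hij, rankArray_eq f (hij.trans j.le_succ), img_succ f hij]
    exact Submodule.finrank_map_le _ _
  · intro i j hi hij _
    obtain ⟨l, rfl⟩ : ∃ l, i = l + 1 := ⟨i - 1, by omega⟩
    rw [Nat.add_sub_cancel, rankArray_eq f hij, rankArray_eq f (show l + 1 ≤ j + 1 by omega),
      rankArray_eq f (show l ≤ j by omega), rankArray_eq f (show l ≤ j + 1 by omega), img_succ f hij,
      img_succ f (show l ≤ j by omega)]
    have h1 := finrank_map_add (Matrix.toLin' (f j)) (img f l j)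
    have h2 := finrank_map_add (Matrix.toLin' (f j)) (img f (l + 1) j)
    have h3 := Submodule.finrank_mono (inf_le_inf_right (LinearMap.ker (Matrix.toLin' (f j))) (img_mono f l j))
    omega
  · have hdim : ∀ i j, 1 ≤ i → i ≤ j → j ≤ r → Module.finrank k (img f i j) = Module.finrank k (img f' i j) :=
      fun i j h1 h2 h3 => by rw [← rankArray_eq f h2, ← rankArray_eq f' h2]; exact h i j h1 h2 h3
    obtain ⟨ψ, hψ⟩ : ∃ ψ : (Fin (d r) → k) ≃ₗ[k] (Fin (d r) → k),
        ∀ i, 1 ≤ i → i ≤ r → (img f i r).map ψ.toLinearMap = img f' i r := by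
      rcases Nat.eq_zero_or_pos r with hr | hr
      · exact ⟨LinearEquiv.refl k _, fun i _ _ => by omega⟩
      · obtain ⟨φ, -, hφ⟩ := exists_flag_iso (0 : (Fin (d r) → k) →ₗ[k] k) (0 : (Fin (d r) → k) →ₗ[k] k) (LinearEquiv.refl k k) r
          (fun i => img f i r) (fun i => img f' i r)
          (fun i _ _ => img_mono f i r) (fun i _ _ => img_mono f' i r) (fun _ => img_of_le f le_rfl) (fun _ => img_of_le f' le_rfl)
          (fun i h1 h2 => hdim i r h1 h2 le_rfl) hr (fun i _ _ => by simp)
        exact ⟨φ, hφ⟩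
    obtain ⟨φ, -, hφ⟩ := exists_isos f f' r hdim ψ hψ
    refine ⟨fun j => Units.mk (LinearMap.toMatrix' (φ j).toLinearMap) (LinearMap.toMatrix' (φ j).symm.toLinearMap)
      (by rw [← LinearMap.toMatrix'_comp, LinearEquiv.comp_symm, LinearMap.toMatrix'_id])
      (by rw [← LinearMap.toMatrix'_comp, LinearEquiv.symm_comp, LinearMap.toMatrix'_id]), fun i h1 h2 => ?_⟩
    apply Matrix.toLin'.injective
    refine LinearMap.ext fun x => ?_
    show Matrix.toLin' (LinearMap.toMatrix' (φ (i + 1)).toLinearMap * f i * LinearMap.toMatrix' (φ i).symm.toLinearMap) x = _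
    rw [Matrix.toLin'_mul, Matrix.toLin'_mul, Matrix.toLin'_toMatrix', Matrix.toLin'_toMatrix']
    show φ (i + 1) (Matrix.toLin' (f i) ((φ i).symm x)) = _
    rw [hφ i h1 h2, LinearEquiv.apply_symm_apply]
  · obtain ⟨ha1, ha2, ha3, ha4⟩ := ha
    let A : ℕ → ℕ → ℕ := fun i j => if i = 0 then 0 else a i j
    have hA0 : ∀ j, A 0 j = 0 := fun j => if_pos rfl
    have hA : ∀ i j, 1 ≤ i → A i j = a i j := fun i j h => if_neg (by omega)
    have hAm : ∀ i j, i < j → j ≤ r → A i j ≤ A (i + 1) j := by
      intro i j h1 h2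
      rcases Nat.eq_zero_or_pos i with h | h
      · subst h; rw [hA0]; exact Nat.zero_le _
      · rw [hA i j h, hA (i + 1) j (by omega)]; exact ha2 i j h h1 h2
    have hAD : ∀ i j, i ≤ j → j ≤ r → A i j ≤ d j := by
      intro i j hij hj
      obtain ⟨c, rfl⟩ := Nat.exists_eq_add_of_le hij
      induction c generalizing i with
      | zero =>
        rcases Nat.eq_zero_or_pos i with h | h
        · subst h; rw [hA0]; exact Nat.zero_le _
        · rw [hA i _ h, Nat.add_zero, ha1 i h (by omega)]
      | succ c ih =>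
        refine (hAm i (i + (c + 1)) (by omega) hj).trans ?_
        have := ih (i + 1) (by omega) (by omega)
        rwa [show i + 1 + c = i + (c + 1) by omega] at this
    have hex : ∀ j, ∃ M : Matrix (Fin (d (j + 1))) (Fin (d j)) k, j < r → ∀ i, 1 ≤ i → i ≤ j →
        (coord k (d j) (A i j)).map (Matrix.toLin' M) = coord k (d (j + 1)) (A i (j + 1)) := by
      intro j
      by_cases hj : j < r
      · have hab : ∀ i, i < j → A (i + 1) (j + 1) + A i j ≤ A (i + 1) j + A i (j + 1) := by
          intro i hi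
          rcases Nat.eq_zero_or_pos i with h | h
          · subst h
            rw [hA0, hA0, add_zero, add_zero, hA 1 _ le_rfl, hA 1 _ le_rfl]
            exact ha3 1 j le_rfl (by omega) hj
          · rw [hA i _ h, hA i _ h, hA (i + 1) _ (by omega), hA (i + 1) _ (by omega)]
            exact ha4 (i + 1) j (by omega) hi hj
        obtain ⟨M, hM⟩ := exists_matrix (k := k) (d j) (d (j + 1)) j (fun i => A i j) (fun i => A i (j + 1)) (hA0 _) (hA0 _)
          (fun i hi => hAm i j hi hj.le) (fun i hi => hAm i (j + 1) (by omega) hj)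
          hab (fun i hi => hAD i j hi hj.le) (fun i hi => hAD i (j + 1) (by omega) hj)
        exact ⟨M, fun _ => hM⟩
      · exact ⟨0, fun h => absurd h hj⟩
    choose M hM using hex
    refine ⟨M, fun i j hi hij hj => ?_⟩
    have himg : ∀ j, i ≤ j → j ≤ r → img M i j = coord k (d j) (A i j) := by
      intro j hij
      induction j, hij using Nat.le_induction with
      | base => intro h; rw [img_of_le M le_rfl, hA i i hi, ha1 i hi h, coord_top]
      | succ j hij ih => intro h; rw [img_succ M hij, ih (by omega), hM j (by omega) i hi hij]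
    rw [rankArray_eq M hij, himg j hij hj, finrank_coord (hAD i j hij hj), hA i j hi]


end Groth.Agent.S14194
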