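import Groth.Statements.S14195
import Mathlib.FieldTheory.Galois.Infinite
import Mathlib.FieldTheory.Finite.GaloisField
import Mathlib.Topology.LocallyConstant.Basic
import Mathlib.FieldTheory.Perfect
import Mathlib.FieldTheory.IsSepClosed


set_option autoImplicit false
universe u v
open StackCount

namespace Groth.Agent.S14195

section
variable {k : Type u} [Field k] [Finite k]

abbrev Gam (k : Type u) [Field k] := AlgebraicClosure k ≃ₐ[k] AlgebraicClosure k

theorem isGalois_algClosure : IsGalois k (AlgebraicClosure k) :=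
  haveI : Algebra.IsSeparable k (AlgebraicClosure k) := Algebra.IsAlgebraic.isSeparable_of_perfectField
  {}

theorem frob_pow {π : (Gam k)} (hπ : ∀ x : AlgebraicClosure k, π x = x ^ Nat.card k) (j : ℕ) (x : AlgebraicClosure k) :
    (π ^ j) x = x ^ (Nat.card k ^ j) := by
  induction j generalizing x with
  | zero => simp
  | succ j ih => rw [pow_succ', AlgEquiv.mul_apply, ih, hπ, ← pow_mul, pow_succ]

theorem mem_range_of_pow_card (x : AlgebraicClosure k) (hx : x ^ Nat.card k = x) :
    x ∈ Set.range (algebraMap k (AlgebraicClosure k)) := by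
  classical
  letI := Fintype.ofFinite k
  rw [Nat.card_eq_fintype_card] at hx
  have hq := Fintype.one_lt_card (α := k)
  have hroots : ((Polynomial.X ^ Fintype.card k - Polynomial.X : Polynomial k).map (algebraMap k (AlgebraicClosure k))).roots =
      (Finset.univ.val : Multiset k).map (algebraMap k (AlgebraicClosure k)) := by
    rw [← FiniteField.roots_X_pow_card_sub_X k]
    refine (Polynomial.roots_map_of_injective_of_card_eq_natDegree (algebraMap k (AlgebraicClosure k)).injective ?_).symm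
    rw [FiniteField.roots_X_pow_card_sub_X, FiniteField.X_pow_card_sub_X_natDegree_eq k hq]
    simp
  have hmem : x ∈ ((Polynomial.X ^ Fintype.card k - Polynomial.X : Polynomial k).map (algebraMap k (AlgebraicClosure k))).roots := by
    rw [Polynomial.map_sub, Polynomial.map_pow, Polynomial.map_X, Polynomial.mem_roots, Polynomial.IsRoot]
    · simp [hx]
    · exact FiniteField.X_pow_card_sub_X_ne_zero _ hq
  rw [hroots, Multiset.mem_map] at hmem
  obtain ⟨c, -, hc⟩ := hmem
  exact ⟨c, hc⟩

theorem closure_zpowers {π : (Gam k)} (hπ : ∀ x : AlgebraicClosure k, π x = x ^ Nat.card k) :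
    (Subgroup.zpowers π).topologicalClosure = ⊤ := by
  haveI := isGalois_algClosure (k := k)
  let H : ClosedSubgroup (Gam k) := ⟨(Subgroup.zpowers π).topologicalClosure, Subgroup.isClosed_topologicalClosure _⟩
  have h1 : IntermediateField.fixedField H.toSubgroup = ⊥ := by
    refine bot_unique fun x hx => IntermediateField.mem_bot.mpr (mem_range_of_pow_card x ?_)
    rw [← hπ x]
    exact (IntermediateField.mem_fixedField_iff _ _).mp hx π (Subgroup.le_topologicalClosure _ (Subgroup.mem_zpowers π))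
  have h2 := InfiniteGalois.fixingSubgroup_fixedField H
  erw [h1, IntermediateField.fixingSubgroup_bot] at h2
  exact h2.symm

theorem exists_pow_mem {π : (Gam k)} (hπ : ∀ x : AlgebraicClosure k, π x = x ^ Nat.card k) (U : Set (Gam k)) (hU : IsOpen U) (hne : U.Nonempty) :
    ∃ j : ℤ, π ^ j ∈ U := by
  have hd : Dense (Subgroup.zpowers π : Set (Gam k)) := by
    rw [dense_iff_closure_eq, ← Subgroup.topologicalClosure_coe, closure_zpowers hπ]
    rfl
  obtain ⟨x, hxU, j, rfl⟩ := hd.inter_open_nonempty U hU hne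
  exact ⟨j, hxU⟩

theorem isOpen_agree (x : AlgebraicClosure k) (σ : (Gam k)) : IsOpen {τ : (Gam k) | τ x = σ x} := by
  haveI : FiniteDimensional k (IntermediateField.adjoin k ({x} : Set (AlgebraicClosure k))) :=
    IntermediateField.adjoin.finiteDimensional (Algebra.IsIntegral.isIntegral x)
  let S := (IntermediateField.adjoin k ({x} : Set (AlgebraicClosure k))).fixingSubgroup
  refine isOpen_iff_forall_mem_open.mpr fun τ hτ => ⟨(fun g => τ⁻¹ * g) ⁻¹' (S : Set (Gam k)), fun g hg => ?_, ?_, ?_⟩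
  · have hgx := (IntermediateField.mem_fixingSubgroup_iff _ _).mp hg x (IntermediateField.subset_adjoin k _ rfl)
    show g x = σ x
    rw [← (hτ : τ x = σ x)]
    have := congrArg τ hgx
    rwa [← AlgEquiv.mul_apply, mul_inv_cancel_left] at this
  · exact (IntermediateField.fixingSubgroup_isOpen _).preimage (continuous_const_mul τ⁻¹)
  · show τ⁻¹ * τ ∈ S
    rw [inv_mul_cancel]; exact S.one_mem

variable {A : Type v} [Group A] [MulDistribMulAction (Gam k) A]

theorem isOpen_agree' (hcont : ∀ a : A, IsOpen {σ : (Gam k) | σ • a = a}) (a : A) (σ : (Gam k)) : IsOpen {τ : (Gam k) | τ • a = σ • a} := by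
  have : {τ : (Gam k) | τ • a = σ • a} = (fun g => σ⁻¹ * g) ⁻¹' {g : (Gam k) | g • a = a} := by
    ext τ
    simp only [Set.mem_setOf_eq, Set.mem_preimage, mul_smul, inv_smul_eq_iff]
  rw [this]
  exact (hcont a).preimage (continuous_const_mul σ⁻¹)

theorem eq_of_apply_eq {π : (Gam k)} (hπ : ∀ x : AlgebraicClosure k, π x = x ^ Nat.card k) (f g : (Gam k) → A)
    (hf : GpH1.IsOneCocycle f) (hg : GpH1.IsOneCocycle g) (hfl : IsLocallyConstant f) (hgl : IsLocallyConstant g)
    (h : f π = g π) : f = g := by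
  have one : ∀ e : (Gam k) → A, GpH1.IsOneCocycle e → e 1 = 1 := fun e he => by
    have := he 1 1
    rw [_root_.one_mul, one_smul] at this
    exact left_eq_mul.mp this
  let H : Subgroup (Gam k) :=
    { carrier := {σ | f σ = g σ}
      one_mem' := by show f 1 = g 1; rw [one f hf, one g hg]
      mul_mem' := fun {a b} ha hb => by
        show f (a * b) = g (a * b)
        rw [hf a b, hg a b, (ha : f a = g a), (hb : f b = g b)]
      inv_mem' := fun {a} ha => by
        show f a⁻¹ = g a⁻¹
        have h1 := hf a a⁻¹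
        have h2 := hg a a⁻¹
        rw [mul_inv_cancel, one f hf] at h1
        rw [mul_inv_cancel, one g hg, ← (ha : f a = g a)] at h2
        exact smul_left_cancel a (mul_left_cancel (h1.symm.trans h2)) }
  have hcl : IsClosed (H : Set (Gam k)) :=
    by convert (hfl.comp₂ hgl fun a b => a = b).isClosed_fiber True using 1; ext σ; simp [H]
  have : (⊤ : Subgroup (Gam k)) ≤ H := by
    rw [← closure_zpowers hπ]
    exact Subgroup.topologicalClosure_minimal _ (Subgroup.zpowers_le.mpr (show f π = g π from h)) hcl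
  exact funext fun σ => this (Subgroup.mem_top σ)

theorem exists_cocycle {π : (Gam k)} (hπ : ∀ x : AlgebraicClosure k, π x = x ^ Nat.card k)
    (hcont : ∀ a : A, IsOpen {σ : (Gam k) | σ • a = a})
    (hfin : ∀ a : A, ∃ H : Subgroup A, (H : Set A).Finite ∧ a ∈ H ∧ ∀ (σ : (Gam k)) (x : A), x ∈ H → σ • x ∈ H) (a : A) :
    ∃ z : GpH1.OneCocycleLC (Gam k) A, z.1 π = a := by
  classical
  obtain ⟨H, hH, haH, hst⟩ := hfin a
  haveI : Finite H := hH.to_subtype
  -- the permutation action on H
  let ρ : (Gam k) →* Equiv.Perm H := MonoidHom.mk' (fun σ =>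
    { toFun := fun x => ⟨σ • (x : A), hst σ x x.2⟩
      invFun := fun x => ⟨σ⁻¹ • (x : A), hst σ⁻¹ x x.2⟩
      left_inv := fun x => Subtype.ext (inv_smul_smul σ (x : A))
      right_inv := fun x => Subtype.ext (smul_inv_smul σ (x : A)) })
    fun σ τ => Equiv.ext fun x => Subtype.ext (mul_smul σ τ (x : A))
  let d := orderOf (ρ π)
  have hd0 : 0 < d := orderOf_pos _
  have hd : ∀ x ∈ H, π ^ d • x = x := fun x hx => by
    have := congrArg (fun e : Equiv.Perm H => ((e ⟨x, hx⟩ : H) : A)) (show ρ (π ^ d) = 1 by rw [map_pow, pow_orderOf_eq_one])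
    exact this
  -- the partial products
  let c : ℕ → A := fun n => Nat.rec 1 (fun _ b => a * π • b) n
  have hcs : ∀ n, c (n + 1) = a * π • c n := fun n => rfl
  have hcmem : ∀ n, c n ∈ H := fun n => by
    induction n with
    | zero => exact H.one_mem
    | succ n ih => exact H.mul_mem haH (hst π _ ih)
  have hcadd : ∀ n l, c (n + l) = c n * π ^ n • c l := fun n l => by
    induction n with
    | zero => simp [c]
    | succ n ih => rw [Nat.succ_add, hcs, ih, smul_mul', ← mul_smul, ← pow_succ', hcs, _root_.mul_assoc]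
  have hcmul : ∀ n, c (d * n) = c d ^ n := fun n => by
    induction n with
    | zero => simp [c]
    | succ n ih => rw [Nat.mul_succ, Nat.add_comm, hcadd, ih, pow_succ', hd _ (H.pow_mem (hcmem d) n)]
  obtain ⟨e, he0, he⟩ : ∃ e, 0 < e ∧ c d ^ e = 1 := ⟨orderOf (⟨c d, hcmem d⟩ : H), orderOf_pos _, by
    simpa using congrArg Subtype.val (pow_orderOf_eq_one (⟨c d, hcmem d⟩ : H))⟩
  let m := d * e
  have hm0 : 0 < m := Nat.mul_pos hd0 he0
  have hcm : c m = 1 := (hcmul e).trans he
  have hdm : ∀ x ∈ H, π ^ m • x = x := fun x hx => by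
    show π ^ (d * e) • x = x
    rw [pow_mul]
    have : ∀ i : ℕ, (π ^ d) ^ i • x = x := fun i => by
      induction i with
      | zero => simp
      | succ i ih => rw [pow_succ, mul_smul, hd x hx, ih]
    exact this e
  have hper : ∀ n j, c (n + m * j) = c n := fun n j => by
    induction j with
    | zero => simp
    | succ j ih => rw [Nat.mul_succ, ← Nat.add_assoc, hcadd, hcm, smul_one, _root_.mul_one, ih]
  -- the finite field of degree m
  let q := Nat.card k
  have hq : 1 < q := Finite.one_lt_card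
  let S : Set (AlgebraicClosure k) := {x | x ^ (q ^ m) = x}
  have hSst : ∀ (σ : (Gam k)), ∀ x ∈ S, σ x ∈ S := fun σ x hx => by
    show σ x ^ (q ^ m) = σ x
    rw [← map_pow, show x ^ (q ^ m) = x from hx]
  have hpoly : ∀ n : ℕ, 1 < n → (Polynomial.X ^ n - Polynomial.X : Polynomial (AlgebraicClosure k)) ≠ 0 :=
    fun n hn => FiniteField.X_pow_card_sub_X_ne_zero _ hn
  have hroots : ∀ n : ℕ, 1 < n → ∀ x : AlgebraicClosure k, x ^ n = x →
      x ∈ (Polynomial.X ^ n - Polynomial.X : Polynomial (AlgebraicClosure k)).roots.toFinset := fun n hn x hx => by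
    rw [Multiset.mem_toFinset, Polynomial.mem_roots (hpoly n hn), Polynomial.IsRoot]
    simp [hx]
  have hqm : 1 < q ^ m := Nat.one_lt_pow hm0.ne' hq
  have hSfin : S.Finite := (Finset.finite_toSet _).subset fun x hx => hroots _ hqm x hx
  have hScard : q ^ m ≤ hSfin.toFinset.card := by
    obtain ⟨p, hp⟩ := CharP.exists k
    letI := Fintype.ofFinite k
    obtain ⟨⟨r, hr⟩, hpp, hcard⟩ := FiniteField.card k p
    haveI : CharP (AlgebraicClosure k) p := charP_of_injective_algebraMap (algebraMap k _).injective p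
    have hsep := galois_poly_separable (K := AlgebraicClosure k) p (q ^ m)
      (dvd_pow (show p ∣ q by rw [show q = Fintype.card k from Nat.card_eq_fintype_card, hcard]; exact dvd_pow_self p hr.ne') hm0.ne')
    have h1 : (Polynomial.X ^ (q ^ m) - Polynomial.X : Polynomial (AlgebraicClosure k)).roots.card = q ^ m := by
      rw [← (IsAlgClosed.splits _).natDegree_eq_card_roots, FiniteField.X_pow_card_sub_X_natDegree_eq _ hqm]
    rw [← h1, ← Multiset.toFinset_card_of_nodup (Polynomial.nodup_roots hsep)]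
    refine Finset.card_le_card fun x hx => ?_
    rw [Multiset.mem_toFinset, Polynomial.mem_roots (hpoly _ hqm), Polynomial.IsRoot] at hx
    rw [Set.Finite.mem_toFinset]
    simpa [S, sub_eq_zero] using hx
  have hsmall : ∀ j : ℕ, j < m → (∀ x ∈ S, (π ^ j) x = x) → j = 0 := fun j hj hfix => by
    by_contra hj0
    have hqj : 1 < q ^ j := Nat.one_lt_pow hj0 hq
    have h1 : hSfin.toFinset.card ≤ q ^ j := by
      refine le_trans (Finset.card_le_card fun x hx => hroots _ hqj x ?_) (le_trans (Multiset.toFinset_card_le _)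
        (le_of_le_of_eq (Polynomial.card_roots' _) (FiniteField.X_pow_card_sub_X_natDegree_eq _ hqj)))
      rw [← frob_pow hπ]
      exact hfix x (hSfin.mem_toFinset.mp hx)
    have := Nat.pow_lt_pow_right hq hj
    omega
  have hmS : ∀ x ∈ S, (π ^ m) x = x := fun x hx => (frob_pow hπ m x).trans hx
  -- agreement
  let R : (Gam k) → (Gam k) → Prop := fun σ τ => (∀ x ∈ S, σ x = τ x) ∧ ∀ x ∈ H, σ • x = τ • x
  have hRmul : ∀ σ σ' τ τ', R σ σ' → R τ τ' → R (σ * τ) (σ' * τ') := fun σ σ' τ τ' h h' => by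
    refine ⟨fun x hx => ?_, fun x hx => ?_⟩
    · rw [AlgEquiv.mul_apply, AlgEquiv.mul_apply, h'.1 x hx, h.1 _ (hSst τ' x hx)]
    · rw [mul_smul, mul_smul, h'.2 x hx, h.2 _ (hst τ' x hx)]
  have hRopen : ∀ σ, IsOpen {τ | R τ σ} := fun σ => by
    have : {τ | R τ σ} = (⋂ x ∈ S, {τ : (Gam k) | τ x = σ x}) ∩ ⋂ x ∈ (H : Set A), {τ : (Gam k) | τ • x = σ • x} := by
      ext τ; simp [R]
    rw [this]
    exact (hSfin.isOpen_biInter fun x _ => isOpen_agree x σ).inter (hH.isOpen_biInter fun x _ => isOpen_agree' hcont x σ)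
  have hRm : ∀ (σ : (Gam k)) (i : ℤ), R (σ * (π ^ m) ^ i) σ := fun σ i => by
    have h1 : ∀ j : ℤ, (∀ x ∈ S, ((π ^ m) ^ j) x = x) ∧ ∀ x ∈ H, (π ^ m) ^ j • x = x := fun j => by
      refine ⟨fun x hx => ?_, fun x hx => ?_⟩
      · induction j using Int.induction_on with
        | zero => simp
        | succ j ih => rw [zpow_add_one, AlgEquiv.mul_apply, hmS x hx, ih]
        | pred j ih =>
          nth_rw 1 [← hmS x hx]
          rw [← AlgEquiv.mul_apply, ← zpow_add_one, sub_add_cancel, ih]
      · induction j using Int.induction_on with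
        | zero => simp
        | succ j ih => rw [zpow_add_one, mul_smul, hdm x hx, ih]
        | pred j ih =>
          nth_rw 1 [← hdm x hx]
          rw [← mul_smul, ← zpow_add_one, sub_add_cancel, ih]
    exact ⟨fun x hx => by rw [AlgEquiv.mul_apply, (h1 i).1 x hx], fun x hx => by rw [mul_smul, (h1 i).2 x hx]⟩
  have hex : ∀ σ, ∃ j : ℕ, R (π ^ j) σ := fun σ => by
    obtain ⟨j, hj⟩ := exists_pow_mem hπ {τ | R τ σ} (hRopen σ) ⟨σ, fun _ _ => rfl, fun _ _ => rfl⟩
    have hmz : (m : ℤ) ≠ 0 := by exact_mod_cast hm0.ne'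
    refine ⟨(j % m).toNat, ?_⟩
    have h2 : π ^ j = π ^ (j % m).toNat * (π ^ m) ^ (j / m) := by
      rw [← zpow_natCast π, ← zpow_natCast π m, ← zpow_mul, ← zpow_add, Int.toNat_of_nonneg (Int.emod_nonneg _ hmz),
        Int.emod_add_mul_ediv]
    have h3 := hRm (π ^ (j % m).toNat) (j / m)
    rw [← h2] at h3
    exact ⟨fun x hx => (h3.1 x hx).symm.trans (hj.1 x hx), fun x hx => (h3.2 x hx).symm.trans (hj.2 x hx)⟩
  have huniq : ∀ i j : ℕ, R (π ^ i) (π ^ j) → c i = c j := by
    intro i j h
    wlog hij : i ≤ j generalizing i j with W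
    · exact (W j i ⟨fun x hx => (h.1 x hx).symm, fun x hx => (h.2 x hx).symm⟩ (by omega)).symm
    obtain ⟨l, rfl⟩ := Nat.exists_eq_add_of_le hij
    have hl : ∀ x ∈ S, (π ^ (l % m)) x = x := fun x hx => by
      have h1 := h.1 x hx
      rw [pow_add, AlgEquiv.mul_apply] at h1
      have h2 := (π ^ i).injective h1
      have h3 := (hRm (π ^ (l % m)) (l / m : ℕ)).1 x hx
      rw [zpow_natCast, ← pow_mul, ← pow_add, Nat.mod_add_div] at h3
      rw [← h3, ← h2]
    have h4 := hsmall _ (Nat.mod_lt _ hm0) hl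
    rw [show l = m * (l / m) by have := Nat.mod_add_div l m; omega, hper]
  choose J hJ using hex
  have hJeq : ∀ (σ : (Gam k)) (i : ℕ), R (π ^ i) σ → c (J σ) = c i := fun σ i hi =>
    huniq _ _ ⟨fun x hx => ((hJ σ).1 x hx).trans (hi.1 x hx).symm, fun x hx => ((hJ σ).2 x hx).trans (hi.2 x hx).symm⟩
  have hcoc : GpH1.IsOneCocycle (fun σ => c (J σ)) := fun σ τ => by
    show c (J (σ * τ)) = c (J σ) * σ • c (J τ)
    have h2 := hRmul _ _ _ _ (hJ σ) (hJ τ)
    rw [← pow_add] at h2
    rw [hJeq _ _ h2, hcadd, (hJ σ).2 _ (hcmem _)]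
  refine ⟨⟨⟨fun σ => c (J σ), hcoc⟩, (IsLocallyConstant.iff_exists_open _).mpr fun σ =>
    ⟨{τ | R τ σ}, hRopen σ, ⟨fun _ _ => rfl, fun _ _ => rfl⟩, fun τ hτ => ?_⟩⟩, ?_⟩
  · exact hJeq _ _ ⟨fun x hx => ((hJ σ).1 x hx).trans (hτ.1 x hx).symm, fun x hx => ((hJ σ).2 x hx).trans (hτ.2 x hx).symm⟩
  · show c (J π) = a
    rw [hJeq π 1 (by rw [pow_one]; exact ⟨fun _ _ => rfl, fun _ _ => rfl⟩)]
    show a * π • c 0 = a
    simp [c]

end


/-- Let k be a finite field, k̄ an algebraic closure, Γ = Aut(k̄/k) with the Krull topology and π ∈ Γ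
the Frobenius x ↦ x^(#k). Let A be a group on which Γ acts by group automorphisms, with open
stabilisers, such that every element of A lies in a finite Γ-stable subgroup. Then z ↦ z(π) is a
bijection from the locally constant 1-cocycles Γ → A (the continuous cocycles for discrete A) onto
A, and two such cocycles z, z' are cohomologous if and only if z'(π) = g · z(π) · (π g)^(-1) for
some g in A; hence it induces a bijection of the continuous first cohomology set with the quotient
of A by the twisted conjugation g · x = g x (π g)^(-1). (The published statement takes A to be the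
group of k̄-points of a smooth algebraic group over k with its Galois action; this row assumes only
the two properties of that action which the proof uses.) -/
theorem result (k : Type u) [Field k] [Finite k]
    (π : AlgebraicClosure k ≃ₐ[k] AlgebraicClosure k)
    (hπ : ∀ x : AlgebraicClosure k, π x = x ^ Nat.card k)
    (A : Type v) [Group A] [MulDistribMulAction (AlgebraicClosure k ≃ₐ[k] AlgebraicClosure k) A]
    (hcont : ∀ a : A, IsOpen {σ : AlgebraicClosure k ≃ₐ[k] AlgebraicClosure k | σ • a = a})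
    (hfin : ∀ a : A, ∃ H : Subgroup A, (H : Set A).Finite ∧ a ∈ H ∧
      ∀ (σ : AlgebraicClosure k ≃ₐ[k] AlgebraicClosure k) (x : A), x ∈ H → σ • x ∈ H) :
    Function.Bijective
        (fun z : GpH1.OneCocycleLC (AlgebraicClosure k ≃ₐ[k] AlgebraicClosure k) A => z.1 π) ∧
      ∀ z z' : GpH1.OneCocycleLC (AlgebraicClosure k ≃ₐ[k] AlgebraicClosure k) A,
        z.cl = z'.cl ↔ ∃ g : A, z'.1 π = g * z.1 π * (π • g)⁻¹ := by
  refine ⟨⟨fun z z' h => ?_, fun a => exists_cocycle hπ hcont hfin a⟩, fun z z' => ?_⟩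
  · exact Subtype.ext (Subtype.ext (eq_of_apply_eq hπ _ _ z.1.2 z'.1.2 z.2 z'.2 h))
  rw [GpH1.OneCocycleLC.cl_eq_cl_iff]
  constructor
  · rintro ⟨c, hc⟩
    refine ⟨c, ?_⟩
    rw [hc π]
    group
  · rintro ⟨g, hg⟩
    refine ⟨g, fun σ => congrFun (eq_of_apply_eq hπ (fun σ => z.1 σ) (fun σ => g⁻¹ * z'.1 σ * σ • g) z.1.2 (fun σ τ => ?_) z.2 ?_ ?_) σ⟩
    · show g⁻¹ * z'.1 (σ * τ) * (σ * τ) • g = _
      rw [z'.1.2 σ τ, mul_smul]
      show g⁻¹ * (z'.1 σ * σ • z'.1 τ) * σ • τ • g = g⁻¹ * z'.1 σ * σ • g * σ • (g⁻¹ * z'.1 τ * τ • g)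
      rw [smul_mul', smul_mul', smul_inv']
      group
    · refine ((IsLocallyConstant.const g⁻¹).comp₂ z'.2 (· * ·)).comp₂ ((IsLocallyConstant.iff_exists_open _).mpr fun σ => ?_) (· * ·)
      exact ⟨{τ | τ • g = σ • g}, isOpen_agree' hcont g σ, rfl, fun τ hτ => hτ⟩
    · show z.1 π = g⁻¹ * z'.1 π * π • g
      rw [hg]
      group


end Groth.Agent.S14195
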