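import Groth.Statements.S14196
import Groth.Agent.StkCntLib.FibreAlg
-- import your own Groth.Agent.* helpers here

set_option autoImplicit false
set_option backward.isDefEq.respectTransparency.types false
set_option maxHeartbeats 1000000
universe u
open CategoryTheory MonoidalCategory CartesianMonoidalCategory AlgebraicGeometry
open StackCount

namespace Groth.Agent.S14196

/-- Let k be a finite field with algebraic closure k̄, G a smooth affine algebraic group over k acting
on a variety X over k (reduced, of finite type), and [X/G] the quotient stack whose objects over a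
k-scheme T are G-torsors P → T, locally trivial for the étale topology and taken to be schemes, with
a G-equivariant morphism P → X. Write T̄ = Spec k̄ over Spec k. Then: every object of the fibre
category of [X/G] over T̄ admits a section T̄ → P of its torsor; for objects A, B over T̄ with
chosen sections t_A, t_B, A and B are isomorphic in the fibre over T̄ if and only if the k̄-points
t_B φ_B and t_A φ_A of X lie in one G(k̄)-orbit (there is g ∈ G(T̄) with g · (t_A φ_A) = t_B φ_B);
and every k̄-point of X is of the form t φ_A. Hence the isomorphism classes of [X/G](k̄) correspond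
bijectively to the G(k̄)-orbits in X(k̄). (The published statement allows any smooth algebraic group
G; this row takes G affine, so that every torsor is a scheme.) -/
theorem result (k : Type u) [Field k] [Finite k]
    (G : Over (Spec (CommRingCat.of k))) [GrpObj G] [Smooth G.hom] [IsAffineHom G.hom]
    (X : Over (Spec (CommRingCat.of k))) [LocallyOfFiniteType X.hom] [QuasiCompact X.hom]
    [IsReduced X.left] (aX : AlgGrp.Action G X) :
    (∀ A : (AlgSt.QuotObj.forget Scheme.etalePrecoverage G aX).Fiber (Over.mk (Spec.map (CommRingCat.ofHom (algebraMap k (AlgebraicClosure k)))) : Over (Spec (CommRingCat.of k))),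
        ∃ t : (Over.mk (Spec.map (CommRingCat.ofHom (algebraMap k (AlgebraicClosure k)))) : Over (Spec (CommRingCat.of k))) ⟶ A.1.P, t ≫ A.1.π = eqToHom A.2.symm) ∧
    (∀ (A B : (AlgSt.QuotObj.forget Scheme.etalePrecoverage G aX).Fiber (Over.mk (Spec.map (CommRingCat.ofHom (algebraMap k (AlgebraicClosure k)))) : Over (Spec (CommRingCat.of k))))
        (tA : (Over.mk (Spec.map (CommRingCat.ofHom (algebraMap k (AlgebraicClosure k)))) : Over (Spec (CommRingCat.of k))) ⟶ A.1.P) (tB : (Over.mk (Spec.map (CommRingCat.ofHom (algebraMap k (AlgebraicClosure k)))) : Over (Spec (CommRingCat.of k))) ⟶ B.1.P),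
        tA ≫ A.1.π = eqToHom A.2.symm → tB ≫ B.1.π = eqToHom B.2.symm →
        (Nonempty (A ≅ B) ↔
          ∃ g : (Over.mk (Spec.map (CommRingCat.ofHom (algebraMap k (AlgebraicClosure k)))) : Over (Spec (CommRingCat.of k))) ⟶ G,
            CartesianMonoidalCategory.lift g (tA ≫ A.1.φ) ≫ aX.act = tB ≫ B.1.φ)) ∧
    (∀ x : (Over.mk (Spec.map (CommRingCat.ofHom (algebraMap k (AlgebraicClosure k)))) : Over (Spec (CommRingCat.of k))) ⟶ X,
        ∃ (A : (AlgSt.QuotObj.forget Scheme.etalePrecoverage G aX).Fiber (Over.mk (Spec.map (CommRingCat.ofHom (algebraMap k (AlgebraicClosure k)))) : Over (Spec (CommRingCat.of k)))) (t : (Over.mk (Spec.map (CommRingCat.ofHom (algebraMap k (AlgebraicClosure k)))) : Over (Spec (CommRingCat.of k))) ⟶ A.1.P),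
          t ≫ A.1.π = eqToHom A.2.symm ∧ t ≫ A.1.φ = x) := by
  open CartesianMonoidalCategory MonObj in
  refine ⟨fun A => ?_, fun A B tA tB hA hB => ?_, fun x => ?_⟩
  · obtain ⟨⟨bA, PA, aA, πA, cA, lA, φA, eA⟩, hA⟩ := A
    change bA = _ at hA
    subst hA
    obtain ⟨t, ht⟩ := StkCntLib.exists_section (K := AlgebraicClosure k)
      (⟨_, PA, aA, πA, cA, lA, φA, eA⟩ : AlgSt.QuotObj Scheme.etalePrecoverage G aX) (Iso.refl _)
    exact ⟨t, ht⟩
  · obtain ⟨⟨bA, PA, aA, πA, cA, lA, φA, eA⟩, pA⟩ := A
    obtain ⟨⟨bB, PB, aB, πB, cB, lB, φB, eB⟩, pB⟩ := B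
    change bA = _ at pA
    change bB = _ at pB
    subst pA pB
    let T : Over (Spec (CommRingCat.of k)) :=
      Over.mk (Spec.map (CommRingCat.ofHom (algebraMap k (AlgebraicClosure k))))
    let A : AlgSt.QuotObj Scheme.etalePrecoverage G aX := ⟨T, PA, aA, πA, cA, lA, φA, eA⟩
    let B : AlgSt.QuotObj Scheme.etalePrecoverage G aX := ⟨T, PB, aB, πB, cB, lB, φB, eB⟩
    constructor
    · rintro ⟨e⟩
      haveI : (AlgSt.QuotObj.forget Scheme.etalePrecoverage G aX).IsHomLift (𝟙 T) e.inv.1 := e.inv.2
      obtain ⟨g, hg⟩ := StkCntLib.orbit_of_hom (A := B) (B := A) e.inv.1 tB hB tA hA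
      have hb : e.inv.1.base = 𝟙 T := by
        have h1 := IsHomLift.fac' (AlgSt.QuotObj.forget Scheme.etalePrecoverage G aX) (𝟙 T) e.inv.1
        simp only [eqToHom_refl, Category.id_comp, Category.comp_id] at h1
        exact h1
      refine ⟨g, ?_⟩
      rw [hb] at hg
      exact (congrArg (fun t => CartesianMonoidalCategory.lift g t ≫ aX.act) (Category.id_comp _).symm).trans hg
    · rintro ⟨g, hg⟩
      obtain ⟨f, hf⟩ := StkCntLib.exists_hom_of_section B A tB hB tA hA (𝟙 T) g
        ((congrArg (fun t => CartesianMonoidalCategory.lift g t ≫ aX.act) (Category.id_comp _)).trans hg)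
      have hl : (AlgSt.QuotObj.forget Scheme.etalePrecoverage G aX).IsHomLift (𝟙 T) f :=
        IsHomLift.of_fac' _ _ _ rfl rfl (by
          show f.base = _
          rw [hf]
          exact ((Category.id_comp _).trans (Category.id_comp _)).symm)
      let B' : (AlgSt.QuotObj.forget Scheme.etalePrecoverage G aX).Fiber T := ⟨B, rfl⟩
      let A' : (AlgSt.QuotObj.forget Scheme.etalePrecoverage G aX).Fiber T := ⟨A, rfl⟩
      let F : B' ⟶ A' := ⟨f, hl⟩
      haveI := StkCntLib.fib_isIso F
      exact ⟨(asIso F).symm⟩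
  · let T : Over (Spec (CommRingCat.of k)) :=
      Over.mk (Spec.map (CommRingCat.ofHom (algebraMap k (AlgebraicClosure k))))
    let o := (AlgSt.quotMap Scheme.etalePrecoverage G aX).toFunctor.obj ⟨T, ⟨x⟩⟩
    refine ⟨⟨o, rfl⟩, CartesianMonoidalCategory.lift (toUnit T ≫ η[G]) (𝟙 T), ?_, ?_⟩
    · show CartesianMonoidalCategory.lift (toUnit T ≫ η[G]) (𝟙 T) ≫ CartesianMonoidalCategory.snd G T = 𝟙 T
      rw [CartesianMonoidalCategory.lift_snd]
    · show CartesianMonoidalCategory.lift (toUnit T ≫ η[G]) (𝟙 T) ≫ (G ◁ x) ≫ aX.act = x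
      rw [CartesianMonoidalCategory.lift_whiskerLeft_assoc, Category.id_comp]
      exact (congrArg (fun g => CartesianMonoidalCategory.lift g x ≫ aX.act) Hom.one_def.symm).trans (SchTorsor.one_act_pt aX x)

end Groth.Agent.S14196
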