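import Groth.Statements.S14197
import Groth.Agent.StkCntLib.BaseTransfer
import Groth.Agent.StkCntLib.Groupoid
import Groth.Agent.StkCntLib.HomOver
-- import your own Groth.Agent.* helpers here

set_option autoImplicit false
set_option backward.isDefEq.respectTransparency.types false
set_option maxHeartbeats 1000000
universe u
open CategoryTheory MonoidalCategory CartesianMonoidalCategory AlgebraicGeometry
open StackCount

namespace Groth.Agent.S14197

/-- Let k be a finite field with algebraic closure k̄, G a smooth affine algebraic group over k acting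
on a variety X over k, [X/G] the quotient stack of G-torsors (schemes, locally trivial for the étale
topology) with an equivariant morphism to X, and k' ⊆ k̄ a subfield finite over k; write T̄ = Spec
k̄ and T' = Spec k' over Spec k, with ι : T̄ → T' the structure map. Let A be an object of [X/G]
over T̄, t a section of its torsor and x = t φ_A the corresponding k̄-point of X. Then A has a model
over k' — there are an object B of [X/G] over T' and a morphism A → B of [X/G] lying over ι (so A is
the pull-back of B) — if and only if the G(k̄)-orbit of x is fixed by Gal(k̄/k'): for every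
k'-algebra automorphism σ of k̄, with s : T̄ → T̄ the induced morphism, there is g ∈ G(T̄) with g ·
x = s x. (The published statement allows any smooth algebraic group G; this row takes G affine, so
that torsors are schemes. Together with the classification of the isomorphism classes over k̄ by
G(k̄)-orbits of k̄-points, this says that the class of A in G(k̄)∖X(k̄) has a representative defined
over k' exactly when it is Galois-fixed.) -/
theorem result (k : Type u) [Field k] [Finite k]
    (G : Over (Spec (CommRingCat.of k))) [GrpObj G] [Smooth G.hom] [IsAffineHom G.hom]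
    (X : Over (Spec (CommRingCat.of k))) [LocallyOfFiniteType X.hom] [QuasiCompact X.hom]
    [IsReduced X.left] (aX : AlgGrp.Action G X)
    (k' : IntermediateField k (AlgebraicClosure k)) [FiniteDimensional k k']
    (ι : (Over.mk (Spec.map (CommRingCat.ofHom (algebraMap k (AlgebraicClosure k)))) : Over (Spec (CommRingCat.of k))) ⟶ (Over.mk (Spec.map (CommRingCat.ofHom (algebraMap k k'))) : Over (Spec (CommRingCat.of k))))
    (hι : ι.left = Spec.map (CommRingCat.ofHom (algebraMap k' (AlgebraicClosure k))))
    (A : (AlgSt.QuotObj.forget Scheme.etalePrecoverage G aX).Fiber (Over.mk (Spec.map (CommRingCat.ofHom (algebraMap k (AlgebraicClosure k)))) : Over (Spec (CommRingCat.of k)))) (t : (Over.mk (Spec.map (CommRingCat.ofHom (algebraMap k (AlgebraicClosure k)))) : Over (Spec (CommRingCat.of k))) ⟶ A.1.P) (ht : t ≫ A.1.π = eqToHom A.2.symm) :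
    (∃ (B : AlgSt.QuotObj Scheme.etalePrecoverage G aX) (hB : B.base = (Over.mk (Spec.map (CommRingCat.ofHom (algebraMap k k'))) : Over (Spec (CommRingCat.of k))))
        (h : A.1 ⟶ B), h.base = eqToHom A.2 ≫ ι ≫ eqToHom hB.symm) ↔
    (∀ (σ : AlgebraicClosure k ≃ₐ[k'] AlgebraicClosure k) (s : (Over.mk (Spec.map (CommRingCat.ofHom (algebraMap k (AlgebraicClosure k)))) : Over (Spec (CommRingCat.of k))) ⟶ (Over.mk (Spec.map (CommRingCat.ofHom (algebraMap k (AlgebraicClosure k)))) : Over (Spec (CommRingCat.of k)))),
        s.left = Spec.map (CommRingCat.ofHom σ.toRingEquiv.toRingHom) →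
        ∃ g : (Over.mk (Spec.map (CommRingCat.ofHom (algebraMap k (AlgebraicClosure k)))) : Over (Spec (CommRingCat.of k))) ⟶ G,
          CartesianMonoidalCategory.lift g (t ≫ A.1.φ) ≫ aX.act = s ≫ t ≫ A.1.φ) := by
  revert hι
  revert ι
  intro io hio
  open MonObj StkCntLib in
  classical
  let K := AlgebraicClosure k
  obtain ⟨⟨bA, PA, aA, πA, cA, lA, φA, eA⟩, pA⟩ := A
  change bA = _ at pA
  subst pA
  let T : Over (Spec (CommRingCat.of k)) := Over.mk (Spec.map (CommRingCat.ofHom (algebraMap k K)))
  let A : AlgSt.QuotObj Scheme.etalePrecoverage G aX := ⟨T, PA, aA, πA, cA, lA, φA, eA⟩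
  have htA : t ≫ A.π = 𝟙 T := ht
  constructor
  · rintro ⟨B, hB, h, hh⟩ σ s hs
    have hsio : s ≫ io = io := by
      apply Over.OverMorphism.ext
      rw [Over.comp_left, hs, hio, ← Spec.map_comp]
      exact congrArg Spec.map (CommRingCat.hom_ext σ.toAlgHom.comp_algebraMap)
    have ht' : (t ≫ h.top) ≫ B.π = io ≫ eqToHom hB.symm := by
      rw [Category.assoc, h.cart.w, hh]
      change t ≫ πA ≫ 𝟙 T ≫ io ≫ eqToHom hB.symm = _
      rw [Category.id_comp, ← Category.assoc]
      exact (congrArg (· ≫ _) htA).trans (Category.id_comp _)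
    obtain ⟨g, hg, -⟩ := exists_div_cart B (s ≫ t ≫ h.top) (t ≫ h.top)
      (by rw [Category.assoc, ht', ← Category.assoc, hsio])
    refine ⟨g, ?_⟩
    have h1 := congrArg (· ≫ B.φ) hg
    simp only [] at h1
    rw [φ_pt] at h1
    simp only [Category.assoc, h.wφ] at h1
    exact h1
  · intro hfix
    haveI : Finite k' := Module.finite_of_finite k
    haveI : Algebra.IsAlgebraic k' K := Algebra.IsAlgebraic.tower_top (K := k) k'
    haveI : IsAlgClosure k' K := ⟨inferInstance, inferInstance⟩
    haveI : IsGalois k' K := Frob.isGalois_algClosure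
    obtain ⟨π, hπ⟩ := Frob.exists_frobenius (k := k') (K := K)
    let f : Spec (CommRingCat.of k') ⟶ Spec (CommRingCat.of k) := (SGA7.pt (K := k) k').hom
    let j : (Over.map f).obj (SGA7.pt (K := k') k') ≅ SGA7.pt (K := k) k' :=
      Over.isoMk (Iso.refl _) (by
        show 𝟙 _ ≫ f = Spec.map (CommRingCat.ofHom (algebraMap k' k')) ≫ f
        rw [show CommRingCat.ofHom (algebraMap k' k') = 𝟙 _ from rfl, Spec.map_id])
    let jK : (Over.map f).obj (SGA7.pt (K := k') K) ≅ T :=
      Over.isoMk (Iso.refl _) (by
        show 𝟙 _ ≫ Spec.map (CommRingCat.ofHom (algebraMap k K)) =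
          Spec.map (CommRingCat.ofHom (algebraMap k' K)) ≫ Spec.map (CommRingCat.ofHom (algebraMap k k'))
        rw [Category.id_comp, ← Spec.map_comp]
        exact congrArg Spec.map (CommRingCat.hom_ext (IsScalarTower.algebraMap_eq k k' K)))
    let s : T ⟶ T := Over.homMk (Spec.map (CommRingCat.ofHom π.toRingEquiv.toRingHom)) (by
      show Spec.map _ ≫ Spec.map _ = Spec.map _
      rw [← Spec.map_comp]
      refine congrArg Spec.map (CommRingCat.hom_ext (RingHom.ext fun c => ?_))
      show π (algebraMap k K c) = algebraMap k K c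
      rw [IsScalarTower.algebraMap_apply k k' K]
      exact π.commutes _)
    obtain ⟨g, hg⟩ := hfix π s rfl
    let G' := Red.bc f G
    let X' := Red.bc f X
    haveI : Smooth G'.hom := MorphismProperty.pullback_snd G.hom f inferInstance
    haveI : IsAffineHom G'.hom := MorphismProperty.pullback_snd G.hom f inferInstance
    haveI : LocallyOfFiniteType X'.hom := MorphismProperty.pullback_snd X.hom f inferInstance
    let x : T ⟶ X := t ≫ A.φ
    let he := fun (U : Over (Spec (CommRingCat.of k))) =>
      (Over.mapPullbackAdj f).homEquiv (SGA7.pt (K := k') K) U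
    let d : Dat π (aX.bc f) :=
      { a := he G (jK.hom ≫ g⁻¹)
        x := he X (jK.hom ≫ x)
        fix' := by
          rw [GalTw.pts_smul_def]
          show CartesianMonoidalCategory.lift _ (SGA7.specAut π ≫ he X _) ≫ (aX.bc f).act = _
          simp only [he]
          rw [← Adjunction.homEquiv_naturality_left, AlgGrp.Action.lift_homEquiv_bc_act]
          refine congrArg _ ?_
          have e : (Over.map f).map (SGA7.specAut π) ≫ jK.hom = jK.hom ≫ s :=
            Over.OverMorphism.ext ((Category.comp_id _).trans (Category.id_comp _).symm)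
          rw [← Category.assoc ((Over.map f).map _), e, Category.assoc, ← comp_lift_assoc]
          refine congrArg (jK.hom ≫ ·) ?_
          show pmul aX g⁻¹ (s ≫ x) = x
          rw [show s ≫ x = pmul aX g x from hg.symm, ← pmul_mul, inv_mul_cancel, pmul_one] }
    obtain ⟨B', dB, hdB⟩ := exists_obj hπ d
    let B := Transfer.dnObj f aX j B'
    let tB : T ⟶ B.1.P := jK.inv ≫ (Over.map f).map dB.t
    have hπB : tB ≫ B.1.π = io := by
      show (jK.inv ≫ (Over.map f).map dB.t) ≫ (Transfer.dnObj f aX j B').1.π = io
      rw [Transfer.dnObj_π, Category.assoc]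
      refine (congrArg (jK.inv ≫ ·) ((Over.map f).map_comp_assoc _ _ _).symm).trans ?_
      let u : SGA7.pt (K := k') K ⟶ SGA7.pt (K := k') k' :=
        Over.homMk (Spec.map (CommRingCat.ofHom (algebraMap k' K))) (by
          show _ ≫ Spec.map (CommRingCat.ofHom (algebraMap k' k')) = _
          rw [show CommRingCat.ofHom (algebraMap k' k') = 𝟙 _ from rfl, Spec.map_id, Category.comp_id]
          rfl)
      rw [(hom_base_subsingleton _).elim (dB.t ≫ B'.1.π ≫ eqToHom _) u]
      apply Over.OverMorphism.ext
      rw [hio]
      show 𝟙 _ ≫ Spec.map _ ≫ 𝟙 _ = _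
      rw [Category.id_comp, Category.comp_id]
    have hφB : tB ≫ B.1.φ = x := by
      show (jK.inv ≫ (Over.map f).map dB.t) ≫ ((Over.mapPullbackAdj f).homEquiv B'.1.P X).symm B'.1.φ = x
      rw [Category.assoc, ← Adjunction.homEquiv_naturality_left_symm, Iso.inv_comp_eq, Equiv.symm_apply_eq]
      exact congrArg Dat.x hdB
    obtain ⟨h, hh⟩ := exists_hom_of_point A B.1 t htA tB hφB
    refine ⟨B.1, B.2, h, ?_⟩
    rw [hh, hπB]
    exact ((Category.id_comp _).trans (Category.comp_id _)).symm

end Groth.Agent.S14197
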