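import Groth.Statements.S14202
import Groth.Agent.ASB24.TwPow2
-- import your own Groth.Agent.* helpers here

set_option autoImplicit false
set_option backward.isDefEq.respectTransparency false
set_option backward.isDefEq.respectTransparency.types false
set_option linter.style.haveILetI false
universe u
open CategoryTheory CategoryTheory.Limits AlgebraicGeometry
open ASBun

namespace Groth.Agent.S14202

/-- Let X be a scheme proper over a field k, K an algebraic closure of k, e a K-isomorphism X_K ≅ P^n_K
with O_e(j) the pullback of O(j) along e, and j an integer. If W and W' are indecomposable finite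
locally free O_X-modules (nonzero, and in any decomposition as a direct sum one summand is zero)
with W_K ≅ O_e(j)^{⊕r} and W'_K ≅ O_e(−j)^{⊕r'} for some r, r' ≥ 1, then r = r': the indecomposable
modules of types O(j) and O(−j) have the same rank (W' is isomorphic to the dual of W). -/
theorem result (k : Type u) [Field k] {X : Scheme.{u}}
    (f : X ⟶ Spec (CommRingCat.of k)) [IsProper f] (n : ℕ)
    (K : Type u) [Field K] [Algebra k K] [IsAlgClosure k K] (e : BrSev.Splitting f K n) (j : ℤ)
    (W W' : X.Modules) (hW : FlatMod.IsFinLocFree W) (hW' : FlatMod.IsFinLocFree W')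
    (hWi : (¬ IsZero W ∧ ∀ M₁ M₂ : X.Modules, Nonempty (W ≅ M₁ ⊞ M₂) → IsZero M₁ ∨ IsZero M₂))
    (hW'i : (¬ IsZero W' ∧ ∀ M₁ M₂ : X.Modules, Nonempty (W' ≅ M₁ ⊞ M₂) → IsZero M₁ ∨ IsZero M₂))
    (r r' : ℕ) (hr : 0 < r) (hr' : 0 < r') (hWt : BrSev.IsTwPow e j r W)
    (hW't : BrSev.IsTwPow e (-j) r' W') : r = r' := by
  haveI := Groth.Agent.ASB24.nonempty_bc e
  haveI : Algebra.IsAlgebraic k K := IsAlgClosure.isAlgebraic
  obtain ⟨d⟩ := Groth.Agent.ASB24.dual_twist e j
  exact Groth.Agent.ASB24.mult_eq_of_dual f K hW hW' hWi hW'i (Groth.Agent.ASB24.isInvertible_twist e j)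
    (Groth.Agent.ASB24.isInvertible_twist e (-j)) hWt.some hW't.some d.symm

end Groth.Agent.S14202
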