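import Groth.Statements.S14203
import Groth.Agent.ASB24.SBCor
-- import your own Groth.Agent.* helpers here

set_option autoImplicit false
set_option backward.isDefEq.respectTransparency false
set_option backward.isDefEq.respectTransparency.types false
set_option linter.style.haveILetI false
universe u
open CategoryTheory CategoryTheory.Limits AlgebraicGeometry
open ASBun

open Groth.Agent CategoryTheory

namespace Groth.Agent.S14203

/-- Let A be a central simple algebra of degree n ≥ 1 over a field k (of dimension n² over k), X a
proper k-scheme which is the Severi–Brauer scheme of A (for every commutative k-algebra R its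
R-points over k are, naturally in R, the left ideals of R ⊗_k A with projective quotient of rank n²
− n), K an algebraic closure of k and e a K-isomorphism X_K ≅ P^{n−1}_K, along which O_e(j) denotes
the pullback of the twisting sheaf O(j); let p be the period of A (the least p ≥ 1 for which the
p-fold tensor power of A is a full matrix algebra over k) and j, a integers. If W and W' are
indecomposable finite locally free O_X-modules (nonzero, and in any decomposition as a direct sum
one summand is zero) with W_K ≅ O_e(j)^{⊕r} and W'_K ≅ O_e(j + ap)^{⊕r'} for some r, r' ≥ 1, then r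
= r': the rank of the indecomposable module of type O(j) depends only on j modulo the period (W' is
W twisted by the descent of O(ap)). -/
theorem result (k : Type u) [Field k] (A : Type u) [Ring A] [Algebra k A]
    [Algebra.IsCentral k A] [IsSimpleRing A] (n : ℕ) (hn : 0 < n)
    (hA : Module.finrank k A = n * n) {X : Scheme.{u}} (f : X ⟶ Spec (CommRingCat.of k))
    [IsProper f] (hX : BrSev.IsSBOf k A (n * n - n) f)
    (K : Type u) [Field K] [Algebra k K] [IsAlgClosure k K] (e : BrSev.Splitting f K (n - 1))
    (p : ℕ) (hp : CSAGal.IsPeriod k A p) (j a : ℤ)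
    (W W' : X.Modules) (hW : FlatMod.IsFinLocFree W) (hW' : FlatMod.IsFinLocFree W')
    (hWi : (¬ IsZero W ∧ ∀ M₁ M₂ : X.Modules, Nonempty (W ≅ M₁ ⊞ M₂) → IsZero M₁ ∨ IsZero M₂))
    (hW'i : (¬ IsZero W' ∧ ∀ M₁ M₂ : X.Modules, Nonempty (W' ≅ M₁ ⊞ M₂) → IsZero M₁ ∨ IsZero M₂))
    (r r' : ℕ) (hr : 0 < r) (hr' : 0 < r') (hWt : BrSev.IsTwPow e j r W)
    (hW't : BrSev.IsTwPow e (j + a * (p : ℤ)) r' W') : r = r' := by
  haveI : Module.Finite k A := Module.finite_of_finrank_pos (by rw [hA]; positivity)
  refine ASB24.index_eq_of_gcd_eq hp ?_ (ASB24.isIndex_of_sb hn hA f hX e hW hWi hr hWt)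
    (ASB24.isIndex_of_sb hn hA f hX e hW' hW'i hr' hW't)
  exact (Int.gcd_add_mul_right_left (p : ℤ) j a).symm

end Groth.Agent.S14203
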