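import Groth.Statements.S14205
import Groth.Agent.CSALib.Index

set_option autoImplicit false
universe u v
open scoped TensorProduct
open Brauer

namespace Groth.Agent.S14205

/-- Let A be a finite-dimensional central simple algebra over a field k with period p: p is the least
positive integer for which the p-fold tensor power of A over k is a full matrix algebra over k. Then
for every r ≥ 1 the r-fold tensor power of A has period p / gcd(p, r) (the order of the r-th
multiple of an element of order p). -/
theorem result (k : Type u) [Field k] (A : Type v) [Ring A] [Algebra k A]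
    [Algebra.IsCentral k A] [IsSimpleRing A] [FiniteDimensional k A] (p : ℕ)
    (hp : CSAGal.IsPeriod k A p) (r : ℕ) (hr : 0 < r) :
    CSAGal.IsPeriod k (CSAGal.tpow k A r) (p / Nat.gcd p r) := by
  obtain ⟨_, _, _⟩ := CSALib.centralSimple_pow k A r
  have hiff := CSALib.isPeriod_iff hp
  have h : ∀ e, Curves.Splits k (CSAGal.tpow k (CSAGal.tpow k A r) e) k ↔ p / Nat.gcd p r ∣ e := by
    intro e
    rw [CSALib.splits_pow_iff]
    have key : CSALib.Similar k (⨂[k] _i : Fin e, (⨂[k] _i : Fin r, A)) k ↔ p ∣ r * e :=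
      Iff.trans ⟨(CSALib.similar_pow_mul r e).trans, (CSALib.similar_pow_mul r e).symm.trans⟩
        (hiff _)
    refine key.trans ?_
    have hg : 0 < Nat.gcd p r := Nat.gcd_pos_of_pos_left r hp.1
    have hcop := Nat.coprime_div_gcd_div_gcd hg
    generalize hgd : Nat.gcd p r = g at hg hcop ⊢
    obtain ⟨p', rfl⟩ : g ∣ p := hgd ▸ Nat.gcd_dvd_left p r
    obtain ⟨r', rfl⟩ : g ∣ r := hgd ▸ Nat.gcd_dvd_right _ r
    rw [Nat.mul_div_cancel_left _ hg, Nat.mul_div_cancel_left _ hg] at hcop
    rw [Nat.mul_div_cancel_left _ hg, mul_assoc, Nat.mul_dvd_mul_iff_left hg]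
    exact hcop.dvd_mul_left
  refine ⟨?_, (h _).mpr dvd_rfl, fun e' h1 h2 h3 => absurd (Nat.le_of_dvd h1 ((h e').mp h3)) (by omega)⟩
  exact Nat.div_pos (Nat.le_of_dvd hp.1 (Nat.gcd_dvd_left p r)) (Nat.gcd_pos_of_pos_left r hp.1)

end Groth.Agent.S14205
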