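import Groth.Statements.S14211
import Groth.Agent.CSALib.Index
import Groth.Agent.CSALib.CharPDegree
import Mathlib.Algebra.QuaternionBasis

set_option autoImplicit false
universe u v
open scoped TensorProduct
open Brauer

namespace Groth.Agent.S14211

/-- Let k be a field in which 2 ≠ 0 and A a finite-dimensional central simple k-algebra. Then A has
period 2 and index 2 (its Severi–Brauer variety has type (2, 2, 2m)) if and only if A is isomorphic
over k to a matrix algebra M_m(Q), m ≥ 1, over a quaternion algebra Q = (a, b)_k (the k-algebra with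
basis 1, i, j, ij, i² = a, j² = b, ij = −ji) which is a division ring; moreover such a quaternion
algebra is unique up to k-isomorphism. -/
theorem result (k : Type u) [Field k] (h2 : (2 : k) ≠ 0)
    (A : Type v) [Ring A] [Algebra k A] [Algebra.IsCentral k A] [IsSimpleRing A]
    [FiniteDimensional k A] :
    ((CSAGal.IsPeriod k A 2 ∧ CSAGal.IsIndex k A 2) ↔
      ∃ (a b : k) (m : ℕ), 0 < m ∧ (∀ x : QuaternionAlgebra k a 0 b, x ≠ 0 → IsUnit x) ∧
        Nonempty (A ≃ₐ[k] Matrix (Fin m) (Fin m) (QuaternionAlgebra k a 0 b))) ∧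
    (∀ (a b a' b' : k) (m m' : ℕ),
      (∀ x : QuaternionAlgebra k a 0 b, x ≠ 0 → IsUnit x) →
      (∀ x : QuaternionAlgebra k a' 0 b', x ≠ 0 → IsUnit x) →
      Nonempty (A ≃ₐ[k] Matrix (Fin m) (Fin m) (QuaternionAlgebra k a 0 b)) →
      Nonempty (A ≃ₐ[k] Matrix (Fin m') (Fin m') (QuaternionAlgebra k a' 0 b')) →
      Nonempty (QuaternionAlgebra k a 0 b ≃ₐ[k] QuaternionAlgebra k a' 0 b')) := by
  classical
  have hdivstr : ∀ {a b : k}, (∀ x : QuaternionAlgebra k a 0 b, x ≠ 0 → IsUnit x) →
      ∃ (D : Type u) (_ : DivisionRing D) (_ : Algebra k D), Nonempty (QuaternionAlgebra k a 0 b ≃ₐ[k] D) ∧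
        Module.finrank k D = 2 ^ 2 := by
    intro a b h
    letI : DivisionRing (QuaternionAlgebra k a 0 b) :=
      DivisionRing.ofIsUnitOrEqZero fun x => (em (x = 0)).elim Or.inr fun hx => Or.inl (h x hx)
    exact ⟨QuaternionAlgebra k a 0 b, inferInstance, inferInstance, ⟨AlgEquiv.refl⟩, QuaternionAlgebra.finrank_eq_four _ _ _⟩
  refine ⟨⟨fun h => ?_, ?_⟩, ?_⟩
  · obtain ⟨-, h0, m, D, _, _, hm, hdim, ⟨e⟩⟩ := h
    haveI : NeZero m := ⟨hm.ne'⟩
    haveI : Module.Finite k D := Module.finite_of_finrank_pos (by rw [hdim]; norm_num)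
    haveI : Algebra.IsCentral k (Matrix (Fin m) (Fin m) D) := Algebra.IsCentral.of_algEquiv k A _ e
    haveI : Algebra.IsCentral k D := CSALib.isCentral_of_matrix k (n := m)
    obtain ⟨x, hx⟩ : ∃ x : D, x ∉ (algebraMap k D).range := by
      by_contra! h
      have hsurj : Function.Surjective (Algebra.linearMap k D) := fun x => h x
      have := LinearMap.finrank_le_finrank_of_surjective hsurj
      rw [hdim, Module.finrank_self] at this
      omega
    have hquad : ∀ z : D, z ∉ (algebraMap k D).range → ∃ c d : k, z * z = c • z + algebraMap k D d := by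
      intro z hz
      have hint : IsIntegral k z := Algebra.IsIntegral.isIntegral z
      have h2 : (minpoly k z).natDegree = 2 := by
        refine le_antisymm (CSALib.natDegree_minpoly_le hdim z) ?_
        by_contra hlt
        have h1 := minpoly.natDegree_pos hint
        obtain ⟨r, hr⟩ := minpoly.natDegree_eq_one_iff.1 (show (minpoly k z).natDegree = 1 by omega)
        exact hz ⟨r, hr⟩
      have h := minpoly.aeval k z
      rw [Polynomial.aeval_eq_sum_range, h2, Finset.sum_range_succ, Finset.sum_range_succ, Finset.sum_range_one,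
        show (minpoly k z).coeff 2 = 1 from h2 ▸ (minpoly.monic hint).coeff_natDegree, one_smul,
        pow_zero, pow_one, ← Algebra.algebraMap_eq_smul_one, sq] at h
      exact ⟨-(minpoly k z).coeff 1, -(minpoly k z).coeff 0, by
        rw [neg_smul, map_neg, ← sub_eq_zero, ← h]; abel⟩
    obtain ⟨c, d, hcd⟩ := hquad x hx
    obtain ⟨i, hidef⟩ : ∃ i : D, i = x - algebraMap k D (c / 2) := ⟨_, rfl⟩
    set a : k := d + c / 2 * (c / 2) with hadef
    have hii : i * i = algebraMap k D a := by
      rw [hidef, hadef, map_add, map_mul, sub_mul, mul_sub, mul_sub, hcd, ← Algebra.commutes (c / 2) x,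
        ← Algebra.smul_def]
      have : c • x = (c / 2) • x + (c / 2) • x := by rw [← add_smul, ← two_mul, mul_div_cancel₀ c h2]
      rw [this]; abel
    have hiK : i ∉ (algebraMap k D).range := by
      rintro ⟨r, hr⟩
      exact hx ⟨r + c / 2, by rw [map_add, hr, hidef, sub_add_cancel]⟩
    have hi0 : i ≠ 0 := fun h => hiK ⟨0, by rw [h, map_zero]⟩
    obtain ⟨y, hy⟩ : ∃ y : D, i * y ≠ y * i := by
      by_contra! hc
      have hmem : i ∈ Subalgebra.center k D := Subalgebra.mem_center_iff.2 fun b => (hc b).symm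
      rw [Algebra.IsCentral.center_eq_bot, Algebra.mem_bot] at hmem
      exact hiK hmem
    obtain ⟨j, hjdef⟩ : ∃ j : D, j = i * y - y * i := ⟨_, rfl⟩
    have hij : i * j = -(j * i) := by
      rw [hjdef, mul_sub, sub_mul, mul_assoc y i i, hii, ← mul_assoc, ← mul_assoc, hii, Algebra.commutes]
      abel
    have hj0 : j ≠ 0 := by rw [hjdef]; exact sub_ne_zero.mpr hy
    have hD2 : ∀ z : D, z + z = 0 → z = 0 := fun z hz => by
      have h : (2 : k) • z = 0 := by rw [two_smul, hz]
      exact (smul_eq_zero.mp h).resolve_left h2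
    have hjK : j ∉ (algebraMap k D).range := by
      rintro ⟨r, hr⟩
      rw [← hr, ← Algebra.commutes, eq_neg_iff_add_eq_zero] at hij
      have := hD2 _ hij
      rw [hr] at this
      exact (mul_eq_zero.mp this).elim hj0 hi0
    obtain ⟨c', b, hb⟩ := hquad j hjK
    have hjj : j * j = algebraMap k D b := by
      have h1 : i * (j * j) = j * j * i := by
        rw [← mul_assoc, hij, neg_mul, mul_assoc, hij, mul_neg, neg_neg, mul_assoc]
      rw [hb, mul_add, add_mul, mul_smul_comm, smul_mul_assoc, ← Algebra.commutes b i, add_left_inj, hij,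
        smul_neg, neg_eq_iff_add_eq_zero] at h1
      have h3 := hD2 _ h1
      rw [smul_eq_zero] at h3
      rw [hb, h3.resolve_right (mul_ne_zero hj0 hi0), zero_smul, zero_add]
    let B : QuaternionAlgebra.Basis D a 0 b :=
      { i := i, j := j, k := i * j
        i_mul_i := by rw [zero_smul, add_zero, hii, Algebra.algebraMap_eq_smul_one]
        j_mul_j := by rw [hjj, Algebra.algebraMap_eq_smul_one]
        i_mul_j := rfl
        j_mul_i := by rw [zero_smul, zero_sub, hij, neg_neg] }
    have hinj : Function.Injective B.liftHom := by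
      refine (injective_iff_map_eq_zero B.liftHom).mpr fun q hq => ?_
      have hq' : algebraMap k D q.re + q.imI • i + q.imJ • j + q.imK • (i * j) = 0 := hq
      have hconj : i * (algebraMap k D q.re + q.imI • i + q.imJ • j + q.imK • (i * j)) =
          (algebraMap k D q.re + q.imI • i - (q.imJ • j + q.imK • (i * j))) * i := by
        have e1 : i * (i * j) = -(i * j * i) := by
          rw [mul_assoc i j i, ← mul_neg, ← hij]
        have e0 : q.imJ • (i * j) = -(q.imJ • (j * i)) := by rw [hij, smul_neg]
        simp only [mul_add, sub_mul, add_mul, mul_smul_comm, smul_mul_assoc, e1, ← Algebra.commutes q.re i,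
          smul_neg]
        rw [e0]
        abel
      rw [hq', mul_zero] at hconj
      have hm := (mul_eq_zero.mp hconj.symm).resolve_right hi0
      have hA : algebraMap k D q.re + q.imI • i = 0 := by
        refine hD2 _ ?_
        linear_combination (norm := abel) hq' + hm
      have hA' : (algebraMap k D q.imJ + q.imK • i) * j = 0 := by
        rw [add_mul, ← Algebra.smul_def, smul_mul_assoc]
        rw [hA, zero_add] at hq'
        exact hq'
      have hA'' := (mul_eq_zero.mp hA').resolve_right hj0
      have key : ∀ p r : k, algebraMap k D p + r • i = 0 → p = 0 ∧ r = 0 := by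
        intro p r h
        by_cases hr : r = 0
        · rw [hr, zero_smul, add_zero, map_eq_zero] at h
          exact ⟨h, hr⟩
        · exact absurd ⟨-(r⁻¹ * p), by
            rw [map_neg, map_mul, ← Algebra.smul_def, eq_neg_of_add_eq_zero_left h, smul_neg, neg_neg, smul_smul,
              inv_mul_cancel₀ hr, one_smul]⟩ hiK
      obtain ⟨e0, e1⟩ := key _ _ hA
      obtain ⟨e2, e3⟩ := key _ _ hA''
      ext <;> assumption
    have hfr : Module.finrank k (QuaternionAlgebra k a 0 b) = Module.finrank k D := by
      rw [QuaternionAlgebra.finrank_eq_four, hdim]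
      norm_num
    let E : QuaternionAlgebra k a 0 b ≃ₐ[k] D := AlgEquiv.ofBijective B.liftHom
      ⟨hinj, (LinearMap.injective_iff_surjective_of_finrank_eq_finrank hfr (f := B.liftHom.toLinearMap)).1 hinj⟩
    refine ⟨a, b, m, hm, fun q hq => ?_, ⟨e.trans E.symm.mapMatrix⟩⟩
    have : IsUnit (E q) := isUnit_iff_ne_zero.mpr ((map_ne_zero_iff _ E.injective).mpr hq)
    simpa using this.map E.symm
  · rintro ⟨a, b, m, hm, hdiv, ⟨e⟩⟩
    obtain ⟨D, _, _, ⟨E⟩, hdim⟩ := hdivstr hdiv
    have hidx : CSAGal.IsIndex k A 2 := CSALib.isIndex_of_algEquiv_matrix (e.trans E.mapMatrix) hdim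
    refine ⟨⟨two_pos, (CSALib.splits_pow_iff 2).mpr (CSALib.similar_pow_index hidx), fun e' h1 h2' hs => ?_⟩, hidx⟩
    obtain rfl : e' = 1 := by omega
    have h1s := ((CSALib.similar_pow_one (k := k) (A := A)).symm.trans ((CSALib.splits_pow_iff 1).mp hs) : CSALib.Similar k A k)
    have := CSALib.index_eq_of_similar hidx (D' := k) (d' := 1) (by rw [Module.finrank_self, one_pow]) h1s
    omega
  · rintro a b a' b' m m' hdiv hdiv' ⟨e⟩ ⟨e'⟩
    obtain ⟨D, _, _, ⟨E⟩, hdim⟩ := hdivstr hdiv
    obtain ⟨D', _, _, ⟨E'⟩, hdim'⟩ := hdivstr hdiv'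
    haveI : Module.Finite k D := Module.finite_of_finrank_pos (by rw [hdim]; norm_num)
    have hm : m ≠ 0 := by
      rintro rfl
      have : Subsingleton A := e.toEquiv.subsingleton
      exact not_nontrivial A inferInstance
    have hm' : m' ≠ 0 := by
      rintro rfl
      have : Subsingleton A := e'.toEquiv.subsingleton
      exact not_nontrivial A inferInstance
    obtain ⟨g⟩ := CSALib.similar_division_unique
      ((CSALib.similar_of_algEquiv_matrix hm (e.trans E.mapMatrix)).symm.trans
        (CSALib.similar_of_algEquiv_matrix hm' (e'.trans E'.mapMatrix)))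
    exact ⟨(E.trans g).trans E'.symm⟩

end Groth.Agent.S14211
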