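import Groth.Statements.S14213
import Groth.Agent.ASB24.SplitCrit
import Groth.Agent.KZ.QuasiProj
-- import your own Groth.Agent.* helpers here

set_option autoImplicit false
set_option backward.isDefEq.respectTransparency false
set_option backward.isDefEq.respectTransparency.types false
set_option linter.style.haveILetI false
universe u
open CategoryTheory CategoryTheory.Limits AlgebraicGeometry
open ASBun

open Groth.Agent Groth.Agent.RegEpi Groth.Agent.ProjRegular Groth.Agent.PnCoh.Finite

namespace Groth.Agent.S14213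

/-- Let A be a central simple algebra of degree n ≥ 1 over a field k (of dimension n² over k), X a
proper k-scheme which is the Severi–Brauer scheme of A (for every commutative k-algebra R its
R-points over k are, naturally in R, the left ideals of R ⊗_k A with projective quotient of rank n²
− n), K an algebraic closure of k and e a K-isomorphism X_K ≅ P^{n−1}_K, along which O_e(j) denotes
the pullback of the twisting sheaf O(j); let p be the period of A (the least p ≥ 1 for which the
p-fold tensor power of A is a full matrix algebra over k) and E a finite locally free O_X-module.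
Then E is absolutely split (E_K is isomorphic to a finite direct sum of invertible O_{X_K}-modules)
if and only if the cohomology groups H^i(X, E ⊗ L ⊗ W) vanish for all 0 < i < n − 1 = dim X, all
integers a, all invertible O_X-modules L with L_K ≅ O_e(ap), all integers 0 ≤ j < p and all
indecomposable finite locally free O_X-modules W (nonzero, and in any decomposition as a direct sum
one summand is zero) with W_K ≅ O_e(j)^{⊕r} for some r ≥ 1. -/
theorem result (k : Type u) [Field k] (A : Type u) [Ring A] [Algebra k A]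
    [Algebra.IsCentral k A] [IsSimpleRing A] (n : ℕ) (hn : 0 < n)
    (hA : Module.finrank k A = n * n) {X : Scheme.{u}} (f : X ⟶ Spec (CommRingCat.of k))
    [IsProper f] (hX : BrSev.IsSBOf k A (n * n - n) f)
    (K : Type u) [Field K] [Algebra k K] [IsAlgClosure k K] (e : BrSev.Splitting f K (n - 1))
    (p : ℕ) (hp : CSAGal.IsPeriod k A p) (E : X.Modules) (hE : FlatMod.IsFinLocFree E) :
    (∃ (s : ℕ) (Ls : Fin s → (BrSev.bc f K).Modules), (∀ i, PicF.IsInvertible (Ls i)) ∧
        Nonempty (BrSev.bcMod f K E ≅ ∐ Ls)) ↔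
      (∀ (i : ℕ), 0 < i → i + 1 < n → ∀ (a : ℤ) (L : X.Modules), PicF.IsInvertible L →
        BrSev.IsTwPow e (a * (p : ℤ)) 1 L → ∀ (j : ℤ), 0 ≤ j → j < (p : ℤ) →
        ∀ (W : X.Modules), FlatMod.IsFinLocFree W →
        (¬ IsZero W ∧ ∀ M₁ M₂ : X.Modules, Nonempty (W ≅ M₁ ⊞ M₂) → IsZero M₁ ∨ IsZero M₂) →
        ∀ (r : ℕ), 0 < r → BrSev.IsTwPow e j r W →
        Subsingleton (Coh.HH X (CohB1.tensorMod (CohB1.tensorMod E L) W) i)) := by
  haveI : Algebra.IsAlgebraic k K := IsAlgClosure.isAlgebraic
  obtain ⟨N, rfl⟩ : ∃ N, n = N + 1 := ⟨n - 1, by omega⟩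
  let G := (Scheme.Modules.pullback e.iso.inv).obj (BrSev.bcMod f K E)
  constructor
  · rintro ⟨s, Ls, hLs, ⟨φ⟩⟩ i hi hin a L hL hLt j _ _ W hW _ r hr hWt
    choose b hb using fun l => ASB24.exists_eq_twist e (hLs l)
    haveI := (Scheme.Modules.pullbackPushforwardAdjunction e.iso.inv).leftAdjoint_preservesColimits
    let ψ : G ≅ ∐ fun l => Twist.twistProjSpace (N + 1 - 1) K (b l) :=
      (Scheme.Modules.pullback e.iso.inv).mapIso (φ ≪≫ Sigma.mapIso fun l => (hb l).some) ≪≫
        PreservesCoproduct.iso (Scheme.Modules.pullback e.iso.inv) _ ≪≫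
        Sigma.mapIso fun l => (Scheme.Modules.pullbackComp e.iso.inv e.iso.hom).app _ ≪≫
          (Scheme.Modules.pullbackCongr e.iso.inv_hom_id).app _ ≪≫ (Scheme.Modules.pullbackId _).app _
    rw [ASB24.Crit.subsingleton_iff e hE (KZ.QuasiProj.flf_of_invertible hL) hW hr hLt hWt hi]
    exact QCoh.subsingleton_HH_of_iso ((twF _).mapIso ψ.symm) i
      ((S11674.acm_of_sigma K (N + 1 - 1) s b).1 _ i hi (by omega))
  · intro h
    have hp0 : 0 < p := hp.1
    have van : ∀ (i : ℕ) (d : ℤ), 0 < i → i < N + 1 - 1 →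
        Subsingleton (Coh.HH (Proj (CohB1.polyGrading (N + 1 - 1) K)) ((twF d).obj G) i) := by
      intro i d hi hin
      obtain ⟨L, rL, hL, hLi, hrL, hLt⟩ := Groth.Agent.S14200.result k f (N + 1 - 1) K e (d / (p : ℤ) * (p : ℤ))
      obtain ⟨hLinv, rfl⟩ := Groth.Agent.S14199.result k A (N + 1) hn hA f hX K e p hp _ L hL hLi rL hrL hLt
      obtain ⟨W, r, hW, hWi, hr, hWt⟩ := Groth.Agent.S14200.result k f (N + 1 - 1) K e (d % (p : ℤ))
      have := (ASB24.Crit.subsingleton_iff e hE hL hW hr hLt hWt hi).1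
        (h i hi (by omega) _ L hLinv hLt _ (Int.emod_nonneg _ (by omega)) (Int.emod_lt_of_pos _ (by omega)) W hW hWi r hr hWt)
      rwa [Int.ediv_mul_add_emod] at this
    haveI hP : IsNoetherian (Proj (CohB1.polyGrading (N + 1 - 1) K)) := Proj16.isNoetherian_proj _
    have hGf : FlatMod.IsFinLocFree G := SeesawX.isFinLocFree_pullback e.iso.inv (SeesawX.isFinLocFree_pullback (BrSev.proj f K) hE)
    have hcoh : Coh.IsCoh G := ⟨Groth.Agent.QCoh.isQCoh_of_isFinLocFree hGf,
      Groth.Agent.QCoh.isFT_of_isFP (Groth.Agent.QCoh.isFP_of_isFinLocFree hGf)⟩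
    obtain ⟨s, b, ⟨ψ⟩⟩ : ∃ (s : ℕ) (b : Fin s → ℤ),
        Nonempty (G ≅ ∐ fun j => Twist.twist (CohB1.polyGrading (N + 1 - 1) K) (b j)) := by
      rcases Nat.eq_zero_or_pos (N + 1 - 1) with h0 | hpos
      · obtain rfl : N = 0 := by omega
        obtain ⟨c, hc⟩ := Groth.Agent.S11486.zero_case K G hcoh
        exact ⟨c, fun _ => 0, hc⟩
      · haveI := (S11674.hyp K (N + 1 - 1)).fin G hcoh
        exact S11674.split_of_acm K (N + 1 - 1) hpos G
          { coh := hcoh
            mid := fun d i h1 h2 => van i d h1 h2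
            low := TwistSum.low_of_isFinLocFree hGf (S11486.le_finrank_twist K (N + 1 - 1) hpos) }
    haveI := (Scheme.Modules.pullbackPushforwardAdjunction e.iso.hom).leftAdjoint_preservesColimits
    refine ⟨s, fun l => e.twist (b l), fun l => ASB24.isInvertible_twist e _, ⟨?_⟩⟩
    exact ((Scheme.Modules.pullbackComp e.iso.hom e.iso.inv).app _ ≪≫
      (Scheme.Modules.pullbackCongr e.iso.hom_inv_id).app _ ≪≫ (Scheme.Modules.pullbackId _).app _).symm ≪≫
      (Scheme.Modules.pullback e.iso.hom).mapIso ψ ≪≫ PreservesCoproduct.iso (Scheme.Modules.pullback e.iso.hom) _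

end Groth.Agent.S14213
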