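import Groth.Statements.S14216
import Groth.Agent.ASB24.SBSplit
import Groth.Agent.S14215
-- import your own Groth.Agent.* helpers here

set_option autoImplicit false
set_option backward.isDefEq.respectTransparency false
set_option backward.isDefEq.respectTransparency.types false
set_option linter.style.haveILetI false
universe u
open CategoryTheory CategoryTheory.Limits AlgebraicGeometry
open ASBun

open Groth.Agent CategoryTheory

namespace Groth.Agent.S14216

/-- Let A be a central simple algebra of degree n ≥ 1 over a field k (of dimension n² over k), X a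
proper k-scheme which is the Severi–Brauer scheme of A (for every commutative k-algebra R its
R-points over k are, naturally in R, the left ideals of R ⊗_k A with projective quotient of rank n²
− n), K an algebraic closure of k and e a K-isomorphism X_K ≅ P^{n−1}_K, along which O_e(j) denotes
the pullback of the twisting sheaf O(j); suppose A has index 2 (A is a matrix algebra over a
division ring of dimension 4 over k). Let E be a finite locally free O_X-module which is absolutely
split: E_K is isomorphic to a finite direct sum of invertible O_{X_K}-modules. Then E ≅ (L_1 ⊕ ⋯ ⊕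
L_s) ⊕ (M_1 ⊕ ⋯ ⊕ M_t) where each L_i is an invertible O_X-module with (L_i)_K ≅ O_e(2a_i) and each
M_i is an indecomposable finite locally free O_X-module (nonzero, and in any decomposition as a
direct sum one summand is zero) of rank 2 with (M_i)_K ≅ O_e(2b_i + 1)^{⊕2}, for integers a_i, b_i.
(The published statement also records that s, t and the a_i, b_j are unique, which is the
Krull–Schmidt uniqueness and is not restated here.) -/
theorem result (k : Type u) [Field k] (A : Type u) [Ring A] [Algebra k A]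
    [Algebra.IsCentral k A] [IsSimpleRing A] (n : ℕ) (hn : 0 < n)
    (hA : Module.finrank k A = n * n) {X : Scheme.{u}} (f : X ⟶ Spec (CommRingCat.of k))
    [IsProper f] (hX : BrSev.IsSBOf k A (n * n - n) f)
    (K : Type u) [Field K] [Algebra k K] [IsAlgClosure k K] (e : BrSev.Splitting f K (n - 1))
    (hi : CSAGal.IsIndex k A 2) (E : X.Modules) (hE : FlatMod.IsFinLocFree E)
    (s₀ : ℕ) (Ns : Fin s₀ → (BrSev.bc f K).Modules) (hNs : ∀ i, PicF.IsInvertible (Ns i))
    (hsplit : Nonempty (BrSev.bcMod f K E ≅ ∐ Ns)) :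
    ∃ (s t : ℕ) (Ls : Fin s → X.Modules) (Ms : Fin t → X.Modules) (a : Fin s → ℤ) (b : Fin t → ℤ),
      (∀ i, PicF.IsInvertible (Ls i) ∧ BrSev.IsTwPow e (2 * a i) 1 (Ls i)) ∧
      (∀ i, FlatMod.IsFinLocFree (Ms i) ∧
        (¬ IsZero (Ms i) ∧ ∀ M₁ M₂ : X.Modules, Nonempty ((Ms i) ≅ M₁ ⊞ M₂) → IsZero M₁ ∨ IsZero M₂) ∧
        BrSev.IsTwPow e (2 * b i + 1) 2 (Ms i)) ∧
      Nonempty (E ≅ (∐ Ls) ⊞ (∐ Ms)) := by
  haveI : Module.Finite k A := Module.finite_of_finrank_pos (by rw [hA]; positivity)
  obtain ⟨t, Ms, js, rs, hMs, ⟨φ⟩⟩ := S14215.result k A n hn hA f hX K e E hE s₀ Ns hNs hsplit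
  have hidx : ∀ i, rs i = if Even (js i) then 1 else 2 := fun i => by
    obtain ⟨hf, hi', hr, ht⟩ := hMs i
    have hr' := ASB24.isIndex_of_sb hn hA f hX e hf hi' hr ht
    have h2 := CSALib.similar_pow_index hi
    obtain ⟨_, _, _⟩ := CSALib.centralSimple_pow k A (js i).natAbs
    split_ifs with hev
    · obtain ⟨c, hc⟩ := Int.natAbs_even.2 hev
      refine ASB24.index_eq_one_of_similar hr' ?_
      rw [show (js i).natAbs = 2 * c by omega]
      exact CSALib.pow_mul_split h2 c
    · obtain ⟨c, hc⟩ := Nat.not_even_iff_odd.1 (fun h => hev (Int.natAbs_even.1 h))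
      refine CSALib.isIndex_unique hr' (CSALib.isIndex_congr hi ?_)
      exact (ASB24.similar_pow_congr h2 (m' := 1) (show (js i).natAbs % 2 = 1 % 2 by omega)).trans
        (CSALib.similar_pow_one k A)
  let P := fun i => Even (js i)
  let eqv : Fin (Fintype.card {i // P i}) ⊕ Fin (Fintype.card {i // ¬ P i}) ≃ Fin t :=
    (Equiv.sumCongr (Fintype.equivFin {i // P i}).symm (Fintype.equivFin {i // ¬ P i}).symm).trans (Equiv.sumCompl P)
  obtain ⟨ψ⟩ := ASB24.sigma_partition Ms eqv
  refine ⟨_, _, _, _, fun i => js (eqv (Sum.inl i)) / 2, fun i => js (eqv (Sum.inr i)) / 2, fun i => ?_, fun i => ?_,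
    ⟨φ ≪≫ ψ⟩⟩
  · obtain ⟨hf, -, -, ht⟩ := hMs (eqv (Sum.inl i))
    have hev : Even (js (eqv (Sum.inl i))) := ((Fintype.equivFin {i // P i}).symm i).2
    rw [hidx, if_pos hev] at ht
    refine ⟨ASB24.isInvertible_of_twPow e hf ht, ?_⟩
    rwa [Int.mul_ediv_cancel' hev.two_dvd]
  · obtain ⟨hf, hi', -, ht⟩ := hMs (eqv (Sum.inr i))
    have hev : ¬ Even (js (eqv (Sum.inr i))) := ((Fintype.equivFin {i // ¬ P i}).symm i).2
    rw [hidx, if_neg hev] at ht
    refine ⟨hf, hi', ?_⟩
    rwa [Int.two_mul_ediv_two_add_one_of_odd (Int.not_even_iff_odd.1 hev)]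

end Groth.Agent.S14216
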