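import Groth.Statements.S14230
import Groth.Agent.RootChLib.Parab

set_option autoImplicit false
universe u v w x
open RootCh RootCh.Facet

namespace Groth.Agent.S14230

/-- For a finite reduced crystallographic root system over a linearly ordered field and a facet F, the
vectors of F are exactly the linear combinations of the corners of F in which every corner of F
occurs with a strictly positive coefficient (written with a finitely supported coefficient function
supported inside the set of corners). -/
theorem result {ι : Type u} {R : Type v} {M : Type w} {N : Type x}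
    [Field R] [LinearOrder R] [IsStrictOrderedRing R]
    [AddCommGroup M] [Module R M] [AddCommGroup N] [Module R N] [Finite ι]
    (P : RootPairing ι R M N) [P.IsRootSystem] [P.IsCrystallographic] [P.IsReduced] (F : RootCh.Facet P) :
    F.carrier = {ξ : M | ∃ c : M →₀ R, (c.support : Set M) ⊆ F.corners ∧
      (∀ m ∈ F.corners, 0 < c m) ∧ c.sum (fun m r => r • m) = ξ} := by
  classical
  obtain ⟨b, hb⟩ := Groth.Agent.RootChLib.exists_cham F
  ext ξ
  constructor
  · intro hξ
    refine ⟨∑ i : b.support, Finsupp.single (fundWeight b i) (P.coroot' i ξ), ?_, ?_, ?_⟩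
    · intro m hm
      obtain ⟨i, -, hi⟩ := Finset.mem_biUnion.1 (Finsupp.support_finset_sum (Finset.mem_coe.1 hm))
      rw [Finsupp.mem_support_iff, Finsupp.single_apply] at hi
      split at hi
      · rename_i he
        exact (Groth.Agent.RootChLib.mem_corners_iff hb).2
          ⟨i, fun h => hi ((Groth.Agent.RootChLib.coroot'_zero_iff hξ i).2 h), he⟩
      · exact absurd rfl hi
    · intro m hm
      obtain ⟨i, hi, rfl⟩ := (Groth.Agent.RootChLib.mem_corners_iff hb).1 hm
      rw [Finsupp.finset_sum_apply, Finset.sum_eq_single i]
      · rw [Finsupp.single_eq_same]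
        exact (Groth.Agent.RootChLib.coroot'_pos_iff hξ i).2 ((Groth.Agent.RootChLib.sgn_simple hb i).resolve_left hi)
      · intro j _ hj
        exact Finsupp.single_eq_of_ne fun e => hj (Groth.Agent.RootChLib.fundWeight_injective b e).symm
      · exact fun h => absurd (Finset.mem_univ _) h
    · rw [← Finsupp.sum_finset_sum_index (by simp) (fun a => by simp [add_smul])]
      simp only [Finsupp.sum_single_index, zero_smul]
      exact (Groth.Agent.RootChLib.expansion b ξ).symm
  · rintro ⟨c, hc1, hc2, rfl⟩
    refine (Groth.Agent.RootChLib.mem_carrier_iff hb).2 fun j hj => ?_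
    have hcalc : P.coroot' j (c.sum fun m r => r • m) = c (fundWeight b ⟨j, hj⟩) := by
      rw [map_finsuppSum, Finsupp.sum, Finset.sum_eq_single (fundWeight b ⟨j, hj⟩)]
      · rw [map_smul, coroot'_fundWeight_self b ⟨j, hj⟩, smul_eq_mul, mul_one]
      · intro m hm hne
        obtain ⟨i, -, rfl⟩ := (Groth.Agent.RootChLib.mem_corners_iff hb).1 (hc1 hm)
        rw [map_smul, coroot'_fundWeight_of_ne b i ⟨j, hj⟩ (fun e => hne (by rw [e])), smul_zero]
      · intro h
        rw [Finsupp.notMem_support_iff.1 h, zero_smul, map_zero]
    rw [hcalc]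
    rcases Groth.Agent.RootChLib.sgn_simple hb ⟨j, hj⟩ with e | e <;> simp only at e
    · rw [e, sign_eq_zero_iff]
      by_contra h
      obtain ⟨i, hi, he⟩ := (Groth.Agent.RootChLib.mem_corners_iff hb).1 (hc1 (Finsupp.mem_support_iff.2 h))
      have := Groth.Agent.RootChLib.fundWeight_injective b he
      subst this
      exact hi e
    · rw [e, sign_eq_one_iff]
      exact hc2 _ ((Groth.Agent.RootChLib.mem_corners_iff hb).2 ⟨⟨j, hj⟩, by simp only [e]; decide, rfl⟩)

end Groth.Agent.S14230
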