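import Groth.Statements.S14233
import Groth.Agent.RootChLib.Parab

set_option autoImplicit false
universe u v w x
open RootCh RootCh.Facet

namespace Groth.Agent.S14233

/-- For a finite reduced crystallographic root system over a linearly ordered field, a facet F and a
corner m of F, there is a facet whose corners are exactly the corners of F other than m. -/
theorem result {ι : Type u} {R : Type v} {M : Type w} {N : Type x}
    [Field R] [LinearOrder R] [IsStrictOrderedRing R]
    [AddCommGroup M] [Module R M] [AddCommGroup N] [Module R N] [Finite ι]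
    (P : RootPairing ι R M N) [P.IsRootSystem] [P.IsCrystallographic] [P.IsReduced] (F : RootCh.Facet P) (m : M) (hm : m ∈ F.corners) :
    ∃ G : RootCh.Facet P, G.corners = F.corners \ {m} := by
  obtain ⟨b, hb⟩ := Groth.Agent.RootChLib.exists_cham F
  obtain ⟨k, -, rfl⟩ := (Groth.Agent.RootChLib.mem_corners_iff hb).1 hm
  classical
  let ξ : M := ∑ i : b.support, (if F.sgn i ≠ 0 ∧ i ≠ k then (1 : R) else 0) • fundWeight b i
  have hc : ∀ i : b.support, P.coroot' i ξ = if F.sgn i ≠ 0 ∧ i ≠ k then (1 : R) else 0 := fun i =>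
    Groth.Agent.RootChLib.coroot'_sum_smul b (fun i => if F.sgn i ≠ 0 ∧ i ≠ k then (1 : R) else 0) i
  have hbG : b ∈ (Facet.ofVec P ξ).cham :=
    Groth.Agent.RootChLib.mem_cham_of_mem_carrier (ξ := ξ) rfl fun j hj => by
      rw [hc ⟨j, hj⟩]
      split <;> simp
  have hsgn : ∀ i : b.support, (Facet.ofVec P ξ).sgn i ≠ 0 ↔ (F.sgn i ≠ 0 ∧ i ≠ k) := by
    intro i
    change SignType.sign (P.coroot' i ξ) ≠ 0 ↔ _
    rw [hc i]
    split <;> simp [*]
  refine ⟨Facet.ofVec P ξ, Set.ext fun x => ?_⟩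
  rw [Groth.Agent.RootChLib.mem_corners_iff hbG]
  rw [Set.mem_diff, Set.mem_singleton_iff, Groth.Agent.RootChLib.mem_corners_iff hb]
  constructor
  · rintro ⟨i, hi, rfl⟩
    exact ⟨⟨i, ((hsgn i).1 hi).1, rfl⟩,
      fun e => ((hsgn i).1 hi).2 (Groth.Agent.RootChLib.fundWeight_injective b e)⟩
  · rintro ⟨⟨i, hi, rfl⟩, hne⟩
    exact ⟨i, (hsgn i).2 ⟨hi, fun e => hne (by rw [e])⟩, rfl⟩

end Groth.Agent.S14233
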