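import Groth.Statements.S14252
import Groth.Agent.H26.TorPerfectMain

set_option autoImplicit false
universe u
open CategoryTheory
open FrobAlg

namespace Groth.Agent.S14252

/-- Let p be a prime, A a commutative ring with p = 0 whose p-th power map is bijective, and B, C two
commutative A-algebras whose p-th power maps are bijective (a diagram C ← A → B of perfect rings of
characteristic p). Then Tor_i^A(B, C) vanishes for all i > 0. -/
theorem result (p : ℕ) [Fact p.Prime] (A B C : Type u) [CommRing A] [CommRing B] [CommRing C]
    [CharP A p] [Algebra A B] [Algebra A C]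
    (hA : Function.Bijective fun a : A => a ^ p) (hB : Function.Bijective fun b : B => b ^ p)
    (hC : Function.Bijective fun c : C => c ^ p) (i : ℕ) (hi : 0 < i) :
    Limits.IsZero (((Tor (ModuleCat.{u} A) i).obj (ModuleCat.of A B)).obj (ModuleCat.of A C)) := by
  obtain ⟨i, rfl⟩ : ∃ j, i = j + 1 := ⟨i - 1, by omega⟩
  let X : ModuleCat.{u} A := ModuleCat.of A B
  let R := ProjectiveResolution.of (ModuleCat.of A C : ModuleCat.{u} A)
  refine Limits.IsZero.of_iso ?_ (R.isoLeftDerivedObj ((MonoidalCategory.tensoringLeft (ModuleCat.{u} A)).obj X) (i + 1))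
  refine (HomologicalComplex.exactAt_iff_isZero_homology _ _).1 ?_
  rw [HomologicalComplex.exactAt_iff' _ (i + 2) (i + 1) i (by simp) (by simp),
    ShortComplex.ShortExact.moduleCat_exact_iff_function_exact]
  haveI : ∀ n, Module.Flat A (R.complex.X n) := fun n =>
    haveI : Module.Projective A (R.complex.X n) := (IsProjective.iff_projective _).2 (R.projective n)
    inferInstance
  have hd : ∀ n, Function.Exact (R.complex.d (n + 1 + 1) (n + 1)).hom (R.complex.d (n + 1) n).hom := fun n =>
    (ShortComplex.ShortExact.moduleCat_exact_iff_function_exact _).1 (R.exact_succ n)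
  have hε : Function.Exact (R.complex.d 1 0).hom (R.π.f 0).hom :=
    (ShortComplex.ShortExact.moduleCat_exact_iff_function_exact
      (ShortComplex.mk _ _ R.complex_d_comp_π_f_zero)).1
      (ShortComplex.exact_of_g_is_cokernel _ R.isColimitCokernelCofork)
  have hs : Function.Surjective (R.π.f 0).hom := (ModuleCat.epi_iff_surjective _).1 inferInstance
  have h := H26.TorPerfect.tv_perfect (F := fun n => R.complex.X n) (d := fun n => (R.complex.d (n + 1) n).hom)
    hd (B := C) hε hs p hA hC B hB i
  intro z
  let c := fun n => (TensorProduct.comm A (R.complex.X n) B)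
  have hc : ∀ n w, ((R.complex.d (n + 1) n).hom).lTensor B (c (n + 1) w) =
      c n (((R.complex.d (n + 1) n).hom).rTensor B w) := fun n w => by
    induction w using TensorProduct.induction_on with
    | zero => simp
    | tmul a b => rfl
    | add x y hx hy => simp only [map_add, hx, hy]
  constructor
  · intro hz
    obtain ⟨v, hv⟩ := (h ((c (i + 1)).symm z)).1 (by
      apply (c i).injective
      rw [map_zero, ← hc, LinearEquiv.apply_symm_apply]
      exact hz)
    refine ⟨c (i + 2) v, ?_⟩
    show ((R.complex.d (i + 1 + 1) (i + 1)).hom).lTensor B (c (i + 1 + 1) v) = z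
    rw [hc, hv, LinearEquiv.apply_symm_apply]
  · rintro ⟨v, rfl⟩
    show ((R.complex.d (i + 1) i).hom).lTensor B (((R.complex.d (i + 1 + 1) (i + 1)).hom).lTensor B v) = 0
    rw [← LinearMap.comp_apply, ← LinearMap.lTensor_comp, (hd i).linearMap_comp_eq_zero]
    simp

end Groth.Agent.S14252
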