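import Groth.Statements.S14254
import Groth.Agent.S0418
import Mathlib.FieldTheory.IsPerfectClosure
import Mathlib.Algebra.CharP.Lemmas
-- import your own Groth.Agent.* helpers here

set_option autoImplicit false
universe u
open CategoryTheory AlgebraicGeometry
open FrobAlg

namespace Groth.Agent.S14254

/-- Let p be a prime, φ : A → B a map of commutative rings of characteristic p, i : A → A' and j : B →
B' perfect closures (A' and B' are perfect rings of characteristic p, every element of A' resp. B'
has a p^n-th power in the image of i resp. j, and the kernels of i and j consist of nilpotent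
elements), and φ' : A' → B' the induced map, φ' ∘ i = j ∘ φ. Then Spec φ : Spec B ⟶ Spec A is a
universal homeomorphism if and only if φ' is bijective. (The published statement is for an arbitrary
morphism of schemes over the prime field and its perfection; this row is the case of affine schemes,
the perfection of Spec A being Spec of the perfect closure of A.) -/
theorem result (p : ℕ) [Fact p.Prime]
    {A B A' B' : Type u} [CommRing A] [CommRing B] [CommRing A'] [CommRing B']
    [CharP A p] [CharP B p] [CharP A' p] [CharP B' p] [PerfectRing A' p] [PerfectRing B' p]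
    (φ : A →+* B) (i : A →+* A') (j : B →+* B') [IsPerfectClosure i p] [IsPerfectClosure j p]
    (φ' : A' →+* B') (hφ : φ'.comp i = j.comp φ) :
    FlatMor.IsUnivHomeo (Spec.map (CommRingCat.ofHom φ)) ↔ Function.Bijective φ' := by
  have hp : p.Prime := Fact.out
  have hcomm : ∀ a, φ' (i a) = j (φ a) := RingHom.congr_fun hφ
  have hz : ∀ {C : Type u} [CommRing C] [CharP C p] (x : Localization.Away (p : C)), x = 0 := by
    intro C _ _ x
    haveI : Subsingleton (Localization.Away (p : C)) :=
      IsLocalization.subsingleton (M := Submonoid.powers (p : C)) ⟨1, by simp [CharP.cast_eq_zero]⟩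
    exact Subsingleton.elim _ _
  have haway : Function.Bijective (Localization.awayMap φ (p : A)) := by
    haveI : Subsingleton (Localization.Away (φ (p : A))) :=
      IsLocalization.subsingleton (M := Submonoid.powers (φ (p : A))) ⟨1, by simp [CharP.cast_eq_zero]⟩
    exact ⟨fun x y _ => (hz x).trans (hz y).symm, fun y => ⟨0, Subsingleton.elim _ _⟩⟩
  rw [S0418.result φ p hp haway]
  constructor
  · rintro ⟨hker, hpow⟩
    have hinj : Function.Injective φ' := by
      rw [injective_iff_map_eq_zero]
      intro x hx
      obtain ⟨n, a, ha⟩ := IsPRadical.pow_mem i p x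
      have h1 : j (φ a) = 0 := by rw [← hcomm, ha, map_pow, hx, zero_pow (pow_ne_zero n hp.ne_zero)]
      obtain ⟨m, hm⟩ := mem_pNilradical.1 (IsPRadical.ker_le j p h1)
      obtain ⟨N, hN⟩ := hker (a ^ p ^ m) (by rw [RingHom.mem_ker, map_pow, hm])
      have hx0 : IsNilpotent x := ⟨p ^ n * (p ^ m * N), by
        rw [pow_mul, ← ha, ← map_pow, pow_mul, hN, map_zero]⟩
      obtain ⟨L, hL⟩ := hx0
      refine (bijective_iterateFrobenius (R := A') (p := p) L).1 ?_
      rw [map_zero, iterateFrobenius_def]
      exact pow_eq_zero_of_le (Nat.lt_pow_self hp.one_lt).le hL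
    refine ⟨hinj, fun y => ?_⟩
    obtain ⟨n, b, hb⟩ := IsPRadical.pow_mem j p y
    obtain ⟨m, -, hm⟩ := hpow b
    obtain ⟨a, ha⟩ := hm
    obtain ⟨x, hx⟩ := (bijective_iterateFrobenius (R := A') (p := p) (n + m)).2 (i a)
    refine ⟨x, (bijective_iterateFrobenius (R := B') (p := p) (n + m)).1 ?_⟩
    rw [iterateFrobenius_def] at hx ⊢
    rw [iterateFrobenius_def, ← map_pow, hx, hcomm, ha, map_pow, hb, ← pow_mul, ← pow_add]
  · intro hbij
    refine ⟨fun a ha => ?_, fun b => ?_⟩
    · have h1 : i a = 0 := hbij.1 (by rw [hcomm, RingHom.mem_ker.1 ha, map_zero, map_zero])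
      obtain ⟨n, hn⟩ := mem_pNilradical.1 (IsPRadical.ker_le i p h1)
      exact ⟨_, hn⟩
    · obtain ⟨x, hx⟩ := hbij.2 (j b)
      obtain ⟨n, a, ha⟩ := IsPRadical.pow_mem i p x
      have h1 : j (b ^ p ^ n - φ a) = 0 := by rw [map_sub, map_pow, ← hcomm, ha, map_pow, hx, sub_self]
      obtain ⟨m, hm⟩ := mem_pNilradical.1 (IsPRadical.ker_le j p h1)
      refine ⟨n + m + 1, ?_, ?_⟩
      · rw [pow_succ, CharP.cast_eq_zero B p, mul_zero, zero_mul]
        exact zero_mem _
      · haveI : ExpChar B p := ExpChar.prime hp
        refine ⟨(a ^ p ^ m) ^ p, ?_⟩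
        rw [map_pow, map_pow, pow_succ, pow_mul, pow_add, pow_mul b]
        rw [sub_pow_char_pow, sub_eq_zero] at hm
        rw [hm]

end Groth.Agent.S14254
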