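import Groth.Statements.S14253
import Groth.Agent.H9Misc.PerfSchRows
import Groth.Agent.S14254

set_option autoImplicit false
universe u
open CategoryTheory AlgebraicGeometry
open PerfSch

namespace Groth.Agent.S14253

/-- A universal homeomorphism f : X ⟶ Y between perfect schemes of prime characteristic p (on every open
of X and of Y, p = 0 in the ring of sections and the p-th power map is bijective) is an isomorphism. -/
theorem result (p : ℕ) [Fact p.Prime] {X Y : Scheme.{u}} (f : X ⟶ Y)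
    (hX : PerfSch.IsPerfect p X) (hY : PerfSch.IsPerfect p Y) (hf : FlatMor.IsUnivHomeo f) : IsIso f := by
  haveI := Groth.Agent.MorLib.isAffineHom_of_isUnivHomeo hf
  obtain ⟨_, _, _⟩ := Groth.Agent.MorLib.isUnivHomeo_iff.1 hf
  have huh : ∀ {A B : Scheme.{u}} (e : A ⟶ B) [IsIso e], FlatMor.IsUnivHomeo e := fun e _ =>
    Groth.Agent.MorLib.isUnivHomeo_of_universallyClosed e
  change MorphismProperty.isomorphisms Scheme f
  rw [IsZariskiLocalAtTarget.iff_of_iSup_eq_top (P := MorphismProperty.isomorphisms Scheme)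
    (fun V : Y.affineOpens => V.1) (iSup_affineOpens_eq_top Y)]
  rintro ⟨V, hV⟩
  haveI : IsAffine V := hV
  haveI : IsAffine ↑(f ⁻¹ᵁ V) := hV.preimage f
  let g := f ∣_ V
  show IsIso g
  have hg : FlatMor.IsUnivHomeo g := by
    haveI : UniversallyClosed g := IsZariskiLocalAtTarget.restrict ‹_› V
    haveI : UniversallyInjective g := IsZariskiLocalAtTarget.restrict ‹_› V
    haveI : Surjective g := IsZariskiLocalAtTarget.restrict ‹_› V
    exact Groth.Agent.MorLib.isUnivHomeo_of_universallyClosed g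
  have hSpec : FlatMor.IsUnivHomeo (Spec.map g.appTop) := by
    have e : Spec.map g.appTop = (Scheme.isoSpec _).inv ≫ g ≫ (Scheme.isoSpec _).hom := by
      rw [← Scheme.isoSpec_inv_naturality_assoc, Iso.inv_hom_id, Category.comp_id]
    rw [e]
    exact Groth.Agent.H9Misc.PerfSchLib.isUnivHomeo_comp (huh _)
      (Groth.Agent.H9Misc.PerfSchLib.isUnivHomeo_comp hg (huh _))
  have hbij : Function.Bijective g.appTop := by
    have hP : ∀ {Z : Scheme.{u}} (_ : PerfSch.IsPerfect p Z) (U : Z.Opens),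
        (p : Γ(U, ⊤)) = 0 ∧ Function.Bijective fun s : Γ(U, ⊤) => s ^ p := by
      intro Z hZ U
      have e : Γ(U, ⊤) ≃+* Γ(Z, U) := U.topIso.commRingCatIsoToRingEquiv
      obtain ⟨h0, hb⟩ := hZ U
      refine ⟨e.injective (by rw [map_natCast, map_zero, h0]), ?_⟩
      have he : (fun s : Γ(U, ⊤) => s ^ p) = e.symm ∘ (fun s => s ^ p) ∘ e := by
        funext s; simp [← map_pow]
      rw [he]
      exact e.symm.bijective.comp (hb.comp e.bijective)
    obtain ⟨a0, aB⟩ := hP hY V
    obtain ⟨b0, bB⟩ := hP hX (f ⁻¹ᵁ V)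
    rcases subsingleton_or_nontrivial Γ(V, ⊤) with hA | hA
    · haveI : Subsingleton Γ(↑(f ⁻¹ᵁ V), ⊤) := g.appTop.hom.codomain_trivial
      exact ⟨fun _ _ _ => Subsingleton.elim _ _, fun x => ⟨0, Subsingleton.elim _ _⟩⟩
    · haveI : Nontrivial Γ(↑(f ⁻¹ᵁ V), ⊤) := by
        by_contra hn
        rw [not_nontrivial_iff_subsingleton] at hn
        obtain ⟨x⟩ : Nonempty (PrimeSpectrum Γ(V, ⊤)) := inferInstance
        obtain ⟨y, -⟩ := (Groth.Agent.MorLib.surjective_of_isUnivHomeo hSpec).surj x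
        exact y.isPrime.ne_top (Subsingleton.elim _ _)
      haveI : CharP Γ(V, ⊤) p := (CharP.charP_iff_prime_eq_zero Fact.out).2 a0
      haveI : CharP Γ(↑(f ⁻¹ᵁ V), ⊤) p := (CharP.charP_iff_prime_eq_zero Fact.out).2 b0
      haveI : PerfectRing Γ(V, ⊤) p := ⟨aB⟩
      haveI : PerfectRing Γ(↑(f ⁻¹ᵁ V), ⊤) p := ⟨bB⟩
      exact (Groth.Agent.S14254.result p g.appTop.hom (RingHom.id _) (RingHom.id _) g.appTop.hom rfl).1 hSpec
  haveI : IsIso g.appTop := (ConcreteCategory.isIso_iff_bijective _).2 hbij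
  rw [show g = (Scheme.isoSpec _).hom ≫ Spec.map g.appTop ≫ (Scheme.isoSpec _).inv by
    rw [Scheme.isoSpec_hom_naturality_assoc, Iso.hom_inv_id, Category.comp_id]]
  infer_instance

end Groth.Agent.S14253
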