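import Groth.Statements.S14257
import Groth.Agent.PerfEtale.Basic
import Groth.Agent.Hensel.EtaleReduced
import Mathlib.RingTheory.Etale.Basic
-- import your own Groth.Agent.* helpers here

set_option autoImplicit false
universe u
open TensorProduct
open FrobAlg

namespace Groth.Agent.S14257

/-- Let p be a prime, A a commutative ring of characteristic p, B an etale A-algebra of characteristic
p, A → A' and B → B' perfect closures (A', B' perfect rings of characteristic p, every element of A'
resp. B' has a p^n-th power in the image of A resp. B, and the structure maps have kernels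
consisting of nilpotent elements), B' viewed as an A-algebra through B, and φ' : A' → B' a map of
A-algebras. Then the natural map A' ⊗_A B → B', a ⊗ b ↦ φ'(a) b, is bijective. (The published
statement is for an etale morphism X → Y of schemes over the prime field, where X_perf → X ×_Y
Y_perf is an isomorphism; this row is the affine case.) -/
theorem result (p : ℕ) [Fact p.Prime]
    (A B A' B' : Type u) [CommRing A] [CommRing B] [CommRing A'] [CommRing B']
    [CharP A p] [CharP B p] [CharP A' p] [CharP B' p] [PerfectRing A' p] [PerfectRing B' p]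
    [Algebra A B] [Algebra.Etale A B] [Algebra A A'] [Algebra B B'] [Algebra A B'] [IsScalarTower A B B']
    [IsPerfectClosure (algebraMap A A') p] [IsPerfectClosure (algebraMap B B') p]
    (φ' : A' →ₐ[A] B') :
    Function.Bijective (Algebra.TensorProduct.lift φ' (IsScalarTower.toAlgHom A B B')
      (fun a b => Commute.all (φ' a) (IsScalarTower.toAlgHom A B B' b))) := by
    haveI hprime : Fact p.Prime := inferInstance
    have hp : p.Prime := hprime.out
    have hA0 : (p : A' ⊗[A] B) = 0 := by
      rw [← map_natCast (algebraMap A' (A' ⊗[A] B)), CharP.cast_eq_zero, map_zero]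
    haveI : IsReduced A' := (isReduced_iff_pow_one_lt p hp.one_lt).2 fun x hx =>
      (bijective_frobenius A' p).1 (by rw [frobenius_def, frobenius_def, hx, zero_pow hp.ne_zero])
    haveI hred : IsReduced (A' ⊗[A] B) := Hensel.isReduced_of_etale A' (A' ⊗[A] B)
    set ψ := Algebra.TensorProduct.lift φ' (IsScalarTower.toAlgHom A B B')
      (fun a b => Commute.all (φ' a) (IsScalarTower.toAlgHom A B B' b))
    have hψ : ∀ b : B, ψ (1 ⊗ₜ[A] b) = algebraMap B B' b := fun b => by
      rw [Algebra.TensorProduct.lift_tmul, map_one, one_mul, IsScalarTower.coe_toAlgHom']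
    have hrad : ∀ z : A' ⊗[A] B, ∃ n b, z ^ p ^ n = 1 ⊗ₜ[A] b := by
      intro z
      induction z using TensorProduct.induction_on with
      | zero => exact ⟨0, 0, by simp⟩
      | tmul a b =>
        obtain ⟨n, x, hx⟩ := IsPRadical.pow_mem (algebraMap A A') p a
        refine ⟨n, x • b ^ p ^ n, ?_⟩
        rw [Algebra.TensorProduct.tmul_pow, ← hx, Algebra.algebraMap_eq_smul_one, TensorProduct.smul_tmul]
      | add x y hx hy =>
        obtain ⟨n, b, hb⟩ := hx
        obtain ⟨m, c, hc⟩ := hy
        refine ⟨n + m, b ^ p ^ m + c ^ p ^ n, ?_⟩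
        have hadd : ∀ (k : ℕ) (u v : A' ⊗[A] B), (u + v) ^ p ^ k = u ^ p ^ k + v ^ p ^ k := fun k => by
          induction k with
          | zero => intro u v; simp
          | succ k ih =>
            intro u v
            rw [pow_succ, pow_mul, pow_mul, pow_mul, ih, PerfLib.frob_add hA0]
        rw [hadd, TensorProduct.tmul_add, pow_add, pow_mul, hb, mul_comm (p ^ n), pow_mul, hc,
          Algebra.TensorProduct.tmul_pow, Algebra.TensorProduct.tmul_pow, one_pow, one_pow]
    refine ⟨(injective_iff_map_eq_zero _).2 fun z hz => ?_, fun y => ?_⟩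
    · obtain ⟨n, b, hb⟩ := hrad z
      have hb0 : algebraMap B B' b = 0 := by
        rw [← hψ, ← hb, map_pow, hz, zero_pow (pow_ne_zero n hp.ne_zero)]
      obtain ⟨m, hm⟩ : IsNilpotent b := by
        obtain ⟨m, hm⟩ := mem_pNilradical.1 (IsPRadical.ker_le (algebraMap B B') p hb0)
        exact ⟨_, hm⟩
      have : IsNilpotent z := ⟨p ^ n * m, by
        rw [pow_mul, hb, Algebra.TensorProduct.tmul_pow, hm, TensorProduct.tmul_zero]⟩
      exact this.eq_zero
    · obtain ⟨n, b, hb⟩ := IsPRadical.pow_mem (algebraMap B B') p y
      have hroot : ∀ (k : ℕ) (w : A' ⊗[A] B), ∃ u, u ^ p ^ k = w := fun k => by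
        induction k with
        | zero => exact fun w => ⟨w, by simp⟩
        | succ k ih =>
          intro w
          obtain ⟨u, rfl⟩ := ih w
          obtain ⟨v, rfl⟩ := PerfEtale.exists_pow_eq
            (fun a : A' => (bijective_frobenius A' p).2 a) hA0 u
          exact ⟨v, by rw [← pow_mul, pow_succ']⟩
      obtain ⟨z, hz⟩ := hroot n (1 ⊗ₜ[A] b)
      refine ⟨z, (bijective_iterateFrobenius (R := B') p n).1 ?_⟩
      rw [iterateFrobenius_def, iterateFrobenius_def, ← map_pow, hz, hψ, hb]

end Groth.Agent.S14257
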