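import Groth.Statements.S14259
import Groth.Agent.KExact.TorBCGlobal
import Groth.Agent.S14252
-- import your own Groth.Agent.* helpers here

set_option autoImplicit false
set_option linter.style.haveILetI false
set_option backward.isDefEq.respectTransparency false
set_option backward.isDefEq.respectTransparency.types false

universe u
open CategoryTheory CategoryTheory.Limits AlgebraicGeometry
attribute [local instance] HasDerivedCategory.standard
open PerfSch

namespace Groth.Agent.S14259

open Groth.Agent Groth.Agent.KFlatLib


/-- Let p be a prime and X' = X ×_Y Y' a cartesian square of schemes, f : X ⟶ Y quasi-compact and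
quasi-separated, g : Y' ⟶ Y arbitrary, with projections g' : X' ⟶ X and f' : X' ⟶ Y', where X, Y and
Y' are perfect of characteristic p (on every open, p = 0 in the ring of sections and the p-th power
map is bijective). Assume the unbounded derived direct images and derived pullbacks exist, with
adjunctions Lg^* ⊣ Rg_* and Lg'^* ⊣ Rg'_* given as data. Then for a suitable identification e of the
composite Rf_* ∘ Rg'_* with Rg_* ∘ Rf'_*, the base-change morphism Lg^* Rf_* K ⟶ Rf'_* Lg'^* K built
from these data is an isomorphism for every K in D(O_X) with quasi-coherent cohomology sheaves: base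
change holds between perfect schemes without any flatness assumption. (The published statement takes
all four schemes perfect, quasi-compact and quasi-separated; this row assumes X, Y and Y' perfect
and, of the finiteness conditions, keeps only that f is quasi-compact and quasi-separated.) -/
theorem result (p : ℕ) [Fact p.Prime] {X Y X' Y' : Scheme.{u}}
    (hX : PerfSch.IsPerfect p X) (hY : PerfSch.IsPerfect p Y) (hY' : PerfSch.IsPerfect p Y')
    (f : X ⟶ Y) [QuasiCompact f] [QuasiSeparated f] (g : Y' ⟶ Y) (f' : X' ⟶ Y') (g' : X' ⟶ X)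
    (hsq : IsPullback g' f' f g)
    [DCoh.HasRpush f] [DCoh.HasRpush g] [DCoh.HasLpull g] [DCoh.HasRpush f'] [DCoh.HasRpush g']
    [DCoh.HasLpull g'] (adjg : DCoh.Lpull g ⊣ DCoh.Rpush g) (adjg' : DCoh.Lpull g' ⊣ DCoh.Rpush g') :
    ∃ e : DCoh.Rpush g' ⋙ DCoh.Rpush f ≅ DCoh.Rpush f' ⋙ DCoh.Rpush g,
      ∀ K : DCoh.D X, DCoh.IsQCohD K → IsIso (DCoh.baseChangeApp adjg adjg' e K) := by
  haveI := hasLpull g
  have htG : KExact.TorBCGen.TorIndepG f g := by
    intro U hU U' hU' hle C ψ j _ hψ q hq
    letI := (g.appLE U U' hle).hom.toAlgebra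
    letI := ψ.hom.toAlgebra
    let A := Γ(Y, U)
    let B := Γ(Y', U')
    let e : (ModuleCat.restrictScalars.{u} ψ.hom).obj (ModuleCat.of C C) ≅ ModuleCat.of A C :=
      LinearEquiv.toModuleIso (LinearEquiv.ofBijective
      ({ toFun := fun x => x
         map_add' := fun _ _ => rfl
         map_smul' := fun r (x : C) => (Algebra.smul_def r x).symm } :
        ((ModuleCat.restrictScalars.{u} ψ.hom).obj (ModuleCat.of C C) : Type u) →ₗ[A] C) Function.bijective_id)
    refine Limits.IsZero.of_iso ?_ (((CategoryTheory.Tor (ModuleCat.{u} A) q).mapIso e).app _)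
    rcases subsingleton_or_nontrivial A with h | h
    · haveI : Subsingleton (((CategoryTheory.Tor (ModuleCat.{u} A) q).obj (ModuleCat.of A C)).obj (ModuleCat.of A B)) :=
        Module.subsingleton A _
      exact ModuleCat.isZero_of_subsingleton _
    · haveI : CharP A p := (CharP.charP_iff_prime_eq_zero (Fact.out : p.Prime)).2 (hY U).1
      have hC : Function.Bijective fun c : C => c ^ p := by
        let r : Γ(X, j ''ᵁ ⊤) ≅ C := j.appIso ⊤ ≪≫ Scheme.ΓSpecIso C
        let t := r.commRingCatIsoToRingEquiv
        have ht : (fun c : C => c ^ p) = t ∘ (fun s : Γ(X, j ''ᵁ ⊤) => s ^ p) ∘ t.symm := by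
          funext c
          simp
        rw [ht]
        exact t.bijective.comp ((hX _).2.comp t.symm.bijective)
      exact Groth.Agent.S14252.result p A C B (hY U).2 hC (hY' U').2 q (by omega)
  obtain ⟨e, -, he⟩ := KExact.TorBCGen.exists_isIso_baseChangeApp hsq htG adjg adjg'
  exact ⟨e, he⟩
end Groth.Agent.S14259
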