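import Groth.Statements.S14262
import Mathlib.RingTheory.Flat.EquationalCriterion
-- import your own Groth.Agent.* helpers here

set_option autoImplicit false
universe u
open FrobAlg

namespace Groth.Agent.S14262

/-- Let p be a prime, A a perfect ring of characteristic p and f ∈ A. The radical of the principal ideal
(f) — equivalently the ideal generated by all p^n-th roots of f, n ≥ 0 — is a flat A-module. -/
theorem result (p : ℕ) [Fact p.Prime] (A : Type u) [CommRing A]
    [CharP A p] [PerfectRing A p] (f : A) :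
    Module.Flat A ((Ideal.span {f}).radical) := by
  haveI : IsReduced A := (isReduced_iff_pow_one_lt p (Fact.out : p.Prime).one_lt).2 fun a ha =>
    (frobeniusEquiv A p).injective (by rw [map_zero]; exact ha)
  rw [Module.Flat.iff_forall_isTrivialRelation]
  set I := (Ideal.span {f}).radical
  intro l a x h
  let root : ℕ → A := fun n => (iterateFrobeniusEquiv A p n).symm f
  have hroot : ∀ n, root n ^ p ^ n = f := fun n => (iterateFrobeniusEquiv A p n).apply_symm_apply f
  have hrootI : ∀ n, root n ∈ I := fun n => ⟨p ^ n, by rw [hroot]; exact Ideal.mem_span_singleton_self f⟩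
  have hle : ∀ n m, n ≤ m → root n = root m ^ p ^ (m - n) := by
    intro n m hnm
    apply (iterateFrobeniusEquiv A p n).injective
    rw [iterateFrobeniusEquiv_apply, iterateFrobeniusEquiv_apply, iterateFrobenius_def, iterateFrobenius_def,
      hroot, ← pow_mul, ← pow_add, Nat.sub_add_cancel hnm, hroot]
  have hx : ∀ i, ∃ n, root n ∣ (x i : A) := by
    intro i
    obtain ⟨N, hN⟩ := (x i).2
    obtain ⟨c, hc⟩ := Ideal.mem_span_singleton'.1 hN
    obtain ⟨n, hn⟩ : ∃ n, N ≤ p ^ n := ⟨N, (Nat.lt_pow_self (Fact.out : p.Prime).one_lt).le⟩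
    refine ⟨n, (iterateFrobeniusEquiv A p n).symm ((x i : A) ^ (p ^ n - N) * c), ?_⟩
    apply (iterateFrobeniusEquiv A p n).injective
    have hr : ∀ z, ((iterateFrobeniusEquiv A p n).symm z) ^ p ^ n = z :=
      fun z => (iterateFrobeniusEquiv A p n).apply_symm_apply z
    rw [iterateFrobeniusEquiv_apply, iterateFrobeniusEquiv_apply, iterateFrobenius_def,
      iterateFrobenius_def, mul_pow, hroot, hr, mul_comm f, mul_assoc, hc, ← pow_add, Nat.sub_add_cancel hn]
  choose n hn using hx
  let N := Finset.univ.sup n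
  have hN : ∀ i, ∃ c, (x i : A) = c * root N := fun i => by
    obtain ⟨c, hc⟩ := hn i
    obtain ⟨d, hd⟩ : root N ∣ root (n i) := by
      rw [hle _ N (Finset.le_sup (Finset.mem_univ i))]
      exact dvd_pow_self _ (pow_ne_zero _ (Fact.out : p.Prime).ne_zero)
    exact ⟨d * c, by rw [hc, hd]; ring⟩
  choose c hc using hN
  let g := root (N + 1)
  have hg : root N = g ^ p := by rw [hle N (N + 1) (Nat.le_succ N)]; simp [g]
  refine ⟨1, fun i _ => c i * g ^ (p - 1), fun _ => ⟨g, hrootI _⟩, fun i => ?_, fun _ => ?_⟩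
  · refine Subtype.ext ?_
    rw [Finset.univ_unique, Finset.sum_singleton, Submodule.coe_smul, smul_eq_mul, hc i, hg, mul_assoc,
      ← pow_succ, Nat.sub_add_cancel (Fact.out : p.Prime).one_le]
  · have h' : (∑ i, a i * c i) * g ^ p = 0 := by
      rw [← hg, Finset.sum_mul]
      have h2 := congrArg Subtype.val h
      rw [Submodule.coe_sum, Submodule.coe_zero] at h2
      rw [← h2]
      exact Finset.sum_congr rfl fun i _ => by rw [Submodule.coe_smul, smul_eq_mul, hc i, mul_assoc]
    simp only [← mul_assoc, ← Finset.sum_mul]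
    refine IsReduced.eq_zero _ ⟨p, ?_⟩
    obtain ⟨q, hq⟩ : ∃ q, p = q + 2 := ⟨p - 2, by have := (Fact.out : p.Prime).two_le; omega⟩
    rw [show p - 1 = q + 1 by omega]
    rw [hq] at h' ⊢
    linear_combination ((∑ i, a i * c i) ^ (q + 1) * g ^ (q * (q + 2))) * h'

end Groth.Agent.S14262
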