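import Groth.Statements.S14263
import Groth.Agent.KFlatLib.Ring.RhomBC
-- import your own Groth.Agent.* helpers here

set_option autoImplicit false
universe u
open CategoryTheory CategoryTheory.Limits MonoidalCategory
attribute [local instance] HasDerivedCategory.standard
open DTen

namespace Groth.Agent.S14263

/-- For a map of commutative rings `φ : R → R'`, an object `K` of `D(R)` and an object `M` of `D(R')`,
the canonical comparison morphism in `D(R)` from the restriction of `RHom_{R'}(K ⊗^L_R R', M)` to
`RHom_R(K, M|_R)` — the adjunct of: tensor with `K`, map `K` to `(K ⊗^L_R R')|_R` by the unit of
derived base change, compare restriction with the derived tensor products, restrict the evaluation —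
is an isomorphism. (The existence of the derived tensor products on `D(R)` and `D(R')`, of the
internal homs `RHom`, of derived base change and of the restriction-of-scalars comparison for the
derived tensor product, with the invertibility of the latter's second leg, are assumed as
hypotheses; they hold for every ring map.) -/
theorem result (R R' : Type u) [CommRing R] [CommRing R'] (φ : R →+* R')
    [DTen.HasLTen R] [DTen.HasLTen R'] [DTen.HasRHom R] [DTen.HasRHom R'] [DTen.HasLBase φ]
    [DTen.HasResTen φ] [DTen.ResLegIso φ] (K : Dual.D R) (M : Dual.D R') :
    IsIso (DTen.rhomBC φ K M) := Groth.Agent.KFlatLib.isIso_rhomBC φ K M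

end Groth.Agent.S14263
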