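import Groth.Statements.S14269
import Groth.Agent.Pi1Ext.CIConn
import Groth.Agent.Pi1X.FEtFull
-- import your own Groth.Agent.* helpers here

set_option autoImplicit false
universe u
open Pi1

namespace Groth.Agent.S14269

set_option backward.isDefEq.respectTransparency false
set_option backward.isDefEq.respectTransparency.types false
set_option linter.style.haveILetI false

open AlgebraicGeometry CategoryTheory CategoryTheory.Limits in
/-- Let A be a Noetherian local ring of virtual dimension at least 2, the virtual dimension being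
expressed through a presentation of the adic completion of A as a quotient S/I of a complete regular
local ring S of Krull dimension d by an ideal I generated by a finite set of at most d - 2 elements.
Then the restriction functor from finite etale covers of Spec A to finite etale covers of the
punctured spectrum is fully faithful, and the punctured spectrum is connected. (The published
statement also records the surjectivity of the induced map on etale fundamental groups, which is the
usual reformulation of full faithfulness and is not restated here.) -/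
theorem result (A : Type u) [CommRing A] [IsNoetherianRing A] [IsLocalRing A]
    (S : Type u) [CommRing S] [IsRegularLocalRing S] [IsAdicComplete (IsLocalRing.maximalIdeal S) S]
    (d : ℕ) (hd : ringKrullDim S = d) (s : Finset S) (hs : s.card + 2 ≤ d)
    (e : AdicCompletion (IsLocalRing.maximalIdeal A) A ≃+* S ⧸ Ideal.span (s : Set S)) :
    ((FEt.restrict (FEt.puncturedSpec A).ι).Full ∧ (FEt.restrict (FEt.puncturedSpec A).ι).Faithful) ∧
      ConnectedSpace ↥(FEt.puncturedSpec A : Scheme.{u}) := by
  obtain ⟨hsing, -⟩ := Groth.Agent.Pi1Ext.CIConn.exists_clopen A S d hd s hs e A ∅ Set.univ isOpen_empty isOpen_univ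
    (fun x _ => Or.inr trivial) (fun x _ h => h.elim)
  have hmax : ∀ x : PrimeSpectrum A, x.asIdeal.IsMaximal ↔ x = IsLocalRing.closedPoint A := fun x =>
    ⟨fun h => PrimeSpectrum.ext (IsLocalRing.eq_maximalIdeal h), fun h => h ▸ IsLocalRing.maximalIdeal.isMaximal A⟩
  let ι := (FEt.puncturedSpec A).ι
  have hr : ∀ x : PrimeSpectrum A, x ∈ Set.range ι.base ↔ ¬ x.asIdeal.IsMaximal := fun x => by
    rw [Scheme.Opens.range_ι, hmax]
    exact Iff.rfl
  obtain ⟨x₀, -, hx₀⟩ := hsing (IsLocalRing.closedPoint A) ((hmax _).2 rfl)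
  obtain ⟨y₀, -⟩ := (hr x₀).2 hx₀
  -- every clopen subset of the punctured spectrum is trivial
  have hconn : ∀ U : Set ↥(FEt.puncturedSpec A : Scheme.{u}), IsClopen U → U = ∅ ∨ U = Set.univ := by
    intro U hU
    obtain ⟨-, G, hG, hGU⟩ := Groth.Agent.Pi1Ext.CIConn.exists_clopen A S d hd s hs e A (ι.base '' U) (ι.base '' Uᶜ)
      (ι.isOpenEmbedding.isOpenMap _ hU.2) (ι.isOpenEmbedding.isOpenMap _ hU.compl.2)
      (fun x hx => by
        obtain ⟨z, rfl⟩ := (hr x).2 hx
        rw [ι.isOpenEmbedding.injective.mem_set_image, ι.isOpenEmbedding.injective.mem_set_image]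
        exact Classical.em _)
      (fun x hx => by
        obtain ⟨z, rfl⟩ := (hr x).2 hx
        rw [ι.isOpenEmbedding.injective.mem_set_image, ι.isOpenEmbedding.injective.mem_set_image]
        exact fun h h' => h' h)
    have hz : ∀ z, z ∈ U ↔ ι.base z ∈ G := fun z => by
      rw [hGU _ ((hr _).1 ⟨z, rfl⟩), ι.isOpenEmbedding.injective.mem_set_image]
    rcases Groth.Agent.Pi1Ext.CIConn.clopen_local A G hG with h | h
    · exact Or.inl (Set.eq_empty_iff_forall_notMem.2 fun z hzU => by simpa [h] using (hz z).1 hzU)
    · exact Or.inr (Set.eq_univ_iff_forall.2 fun z => (hz z).2 (by rw [h]; trivial))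
  have hC : ∀ U : Set ↥(Spec (CommRingCat.of A)), IsClopen U → U.Nonempty → (U ∩ Set.range ι.base).Nonempty := by
    intro U hU hne
    rcases Groth.Agent.Pi1Ext.CIConn.clopen_local A U hU with h | h
    · exact absurd (h ▸ hne) Set.not_nonempty_empty
    · exact ⟨ι.base y₀, h ▸ trivial, y₀, rfl⟩
  refine ⟨⟨Groth.Agent.Pi1X.restrict_full ι hC ?_, Groth.Agent.Pi1X.restrict_faithful ι hC⟩, ?_⟩
  · intro W U hU
    let w : W.left ⟶ Spec (CommRingCat.of A) := W.hom
    haveI : IsFinite w := W.prop.1
    haveI : IsAffine W.left := isAffine_of_isAffineHom w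
    let φ : CommRingCat.of A ⟶ Γ(W.left, ⊤) := Spec.preimage (W.left.isoSpec.inv ≫ w)
    letI : Algebra A Γ(W.left, ⊤) := φ.hom.toAlgebra
    have hφ : W.left.isoSpec.hom ≫ Spec.map φ = w := by rw [Spec.map_preimage, Iso.hom_inv_id_assoc]
    have hY : FEt.prop (Spec.map φ) := by
      rw [← MorphismProperty.cancel_left_of_respectsIso (P := FEt.prop) W.left.isoSpec.hom, hφ]
      exact W.prop
    haveI : Module.Finite A Γ(W.left, ⊤) :=
      RingHom.finite_algebraMap.1 (by rw [RingHom.algebraMap_toAlgebra]; exact (IsFinite.SpecMap_iff φ).1 hY.1)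
    haveI : Algebra.Etale A Γ(W.left, ⊤) := by
      rw [← RingHom.etale_algebraMap, RingHom.algebraMap_toAlgebra]
      exact (HasRingHomProperty.Spec_iff (P := @Etale)).1 hY.2
    haveI : Algebra.IsIntegral A Γ(W.left, ⊤) := Algebra.IsIntegral.of_finite A _
    let k := pullback.fst W.hom ι
    let j : pullback W.hom ι ⟶ Spec Γ(W.left, ⊤) := k ≫ W.left.isoSpec.hom
    haveI : IsOpenImmersion k := MorphismProperty.pullback_fst _ _ (inferInstanceAs (IsOpenImmersion ι))
    haveI : IsOpenImmersion j := inferInstance
    have hjo := j.isOpenEmbedding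
    have hjr : ∀ p : PrimeSpectrum Γ(W.left, ⊤), p ∈ Set.range j.base ↔ ¬ p.asIdeal.IsMaximal := by
      intro p
      obtain ⟨x, rfl⟩ := W.left.isoSpec.hom.surjective p
      have h1 : PrimeSpectrum.comap φ.hom (W.left.isoSpec.hom.base x) = w.base x := by
        have := congrArg (fun t => t.base x) hφ
        simp only [Scheme.Hom.comp_apply] at this
        exact this
      have h2 : W.left.isoSpec.hom.base x ∈ Set.range j.base ↔ x ∈ Set.range k.base := by
        constructor
        · rintro ⟨z, hz⟩
          exact ⟨z, W.left.isoSpec.hom.isOpenEmbedding.injective hz⟩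
        · rintro ⟨z, rfl⟩
          exact ⟨z, rfl⟩
      rw [h2, Scheme.Pullback.range_fst]
      show w.base x ∈ Set.range ι.base ↔ _
      rw [hr, ← h1]
      refine not_congr ⟨fun h => ?_, fun h => ?_⟩
      · haveI := h
        exact Ideal.isMaximal_of_isIntegral_of_isMaximal_comap (R := A) (W.left.isoSpec.hom.base x).asIdeal h
      · haveI := h
        exact Ideal.isMaximal_comap_of_isIntegral_of_isMaximal (R := A) (W.left.isoSpec.hom.base x).asIdeal
    obtain ⟨-, G, hG, hGU⟩ := Groth.Agent.Pi1Ext.CIConn.exists_clopen A S d hd s hs e Γ(W.left, ⊤)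
      (j.base '' U) (j.base '' Uᶜ) (hjo.isOpenMap _ hU.2) (hjo.isOpenMap _ hU.compl.2)
      (fun x hx => by
        obtain ⟨z, rfl⟩ := (hjr x).2 hx
        rw [hjo.injective.mem_set_image, hjo.injective.mem_set_image]
        exact Classical.em _)
      (fun x hx => by
        obtain ⟨z, rfl⟩ := (hjr x).2 hx
        rw [hjo.injective.mem_set_image, hjo.injective.mem_set_image]
        exact fun h h' => h' h)
    refine ⟨W.left.isoSpec.hom.base ⁻¹' G, hG.preimage W.left.isoSpec.hom.continuous, ?_⟩
    ext z
    show j.base z ∈ G ↔ _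
    rw [hGU _ ((hjr _).1 ⟨z, rfl⟩), hjo.injective.mem_set_image]
  · haveI : Nonempty ↥(FEt.puncturedSpec A : Scheme.{u}) := ⟨y₀⟩
    haveI : PreconnectedSpace ↥(FEt.puncturedSpec A : Scheme.{u}) := preconnectedSpace_iff_clopen.2 hconn
    exact ConnectedSpace.mk ‹_›

end Groth.Agent.S14269
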