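import Groth.Statements.S14271
import Mathlib
import Groth.Agent.SchDenseLib.Basic
import Groth.Agent.SchDenseLib.Hom

set_option autoImplicit false
universe u
open FlatPur

namespace Groth.Agent.S14271

open AlgebraicGeometry CategoryTheory CategoryTheory.Limits in
/-- Let X be a scheme and U an open subscheme whose inclusion is quasi-compact, such that for every
point z of X outside U the maximal ideal of O_{X,z} contains an element that is regular (a
nonzerodivisor) on that local ring. Then for every separated X-scheme Y the restriction map from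
X-sections of Y to U-sections of Y is injective: two sections of Y -> X that agree on U are equal. -/
theorem result (X : Scheme.{u}) (U : X.Opens) [QuasiCompact U.ι]
    (hZ : ∀ z : X, z ∉ U → ∃ a ∈ IsLocalRing.maximalIdeal (X.presheaf.stalk z), IsSMulRegular (X.presheaf.stalk z) a)
    (Y : Scheme.{u}) (f : Y ⟶ X) [IsSeparated f] (s₁ s₂ : X ⟶ Y) (h₁ : s₁ ≫ f = 𝟙 X) (h₂ : s₂ ≫ f = 𝟙 X)
    (hU : U.ι ≫ s₁ = U.ι ≫ s₂) : s₁ = s₂ := by
  open Groth.Agent.SchDenseLib AlgebraicGeometry CategoryTheory in
  have hdense : CInt.IsSchematicallyDense U := by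
    refine of_local U fun V x hx => ?_
    obtain ⟨W, hW, hxW, hWV⟩ := TopologicalSpace.Opens.isBasis_iff_nbhd.1 X.isBasis_affineOpens hx
    refine ⟨W, hWV, hxW, fun b hb => ?_⟩
    by_contra hb0
    let I : Ideal Γ(X, W) := (Submodule.span Γ(X, W) {b}).annihilator
    have hI : I ≠ ⊤ := by
      intro h
      apply hb0
      have := (Submodule.mem_annihilator_span_singleton b (1 : Γ(X, W))).mp
        (show (1 : Γ(X, W)) ∈ I from h ▸ Submodule.mem_top)
      simpa using this
    obtain ⟨m, hm, hIm⟩ := Ideal.exists_le_maximal I hI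
    obtain ⟨q, hq, -⟩ := Ideal.exists_minimalPrimes_le (J := m) hIm
    haveI := hq.isPrime
    let y : X := hW.fromSpec ⟨q, hq.isPrime⟩
    have hy : y ∈ W := (hW.range_fromSpec ▸ Set.mem_range_self _ : y ∈ (W : Set X))
    letI := TopCat.Presheaf.algebra_section_stalk X.presheaf (⟨y, hy⟩ : W)
    haveI : IsLocalization.AtPrime (X.presheaf.stalk y) q :=
      hW.isLocalization_stalk' ⟨q, hq.isPrime⟩ hy
    have hne : X.presheaf.germ W y hy b ≠ 0 := by
      intro h
      obtain ⟨t, ht⟩ := (IsLocalization.map_eq_zero_iff q.primeCompl (X.presheaf.stalk y) b).mp h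
      exact t.2 (hq.le ((Submodule.mem_annihilator_span_singleton _ _).mpr ht))
    by_cases hyU : y ∈ U
    · exact hne (by
        rw [← X.presheaf.germ_res_apply (homOfLE (inf_le_left : W ⊓ U ≤ W)) y ⟨hy, hyU⟩ b, hb, map_zero])
    obtain ⟨a, ha, hreg⟩ := hZ y hyU
    have hmax : IsLocalRing.maximalIdeal (X.presheaf.stalk y) = q.map (algebraMap Γ(X, W) _) :=
      (IsLocalization.AtPrime.map_eq_maximalIdeal q _).symm
    have hrad : IsLocalRing.maximalIdeal (X.presheaf.stalk y) ≤
        (I.map (algebraMap Γ(X, W) (X.presheaf.stalk y))).radical := by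
      rw [Ideal.radical_eq_sInf]
      refine le_sInf fun P ⟨hIP, hP⟩ => ?_
      haveI := hP
      have h1 : I ≤ P.comap (algebraMap Γ(X, W) _) := Ideal.map_le_iff_le_comap.mp hIP
      have h2 : P.comap (algebraMap Γ(X, W) _) ≤ q := by
        intro z hz
        by_contra hzq
        exact hP.ne_top (Ideal.eq_top_of_isUnit_mem _ hz
          (IsLocalization.map_units (X.presheaf.stalk y) (⟨z, hzq⟩ : q.primeCompl)))
      rw [hmax, Ideal.map_le_iff_le_comap]
      exact hq.2 ⟨Ideal.comap_isPrime _ P, h1⟩ h2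
    obtain ⟨n, hn⟩ := hrad ha
    refine hne ((hreg.pow n) ?_)
    show a ^ n • X.presheaf.germ W y hy b = a ^ n • (0 : X.presheaf.stalk y)
    rw [smul_zero, smul_eq_mul]
    refine Submodule.span_induction (p := fun c _ => c * X.presheaf.germ W y hy b = 0) ?_ (zero_mul _) ?_ ?_ hn
    · rintro _ ⟨c, hc, rfl⟩
      rw [show algebraMap Γ(X, W) (X.presheaf.stalk y) c = X.presheaf.germ W y hy c from rfl, ← map_mul,
        show c * b = 0 from (Submodule.mem_annihilator_span_singleton _ _).mp hc, map_zero]
    · intro c d _ _ hc hd; rw [add_mul, hc, hd, add_zero]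
    · intro c d _ hd; rw [smul_eq_mul, mul_assoc, hd, mul_zero]
  exact hom_ext hdense f s₁ s₂ (h₁.trans h₂.symm) hU

end Groth.Agent.S14271
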