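import Groth.Statements.S14272
import Mathlib
import Groth.Agent.CAlgOdd.HartogsTwo

set_option autoImplicit false
universe u
open FlatPur

namespace Groth.Agent.S14272

open AlgebraicGeometry CategoryTheory CategoryTheory.Limits in
/-- Let X be a scheme and U an open subscheme whose inclusion is quasi-compact, such that for every
point z of X outside U the maximal ideal of O_{X,z} contains two elements forming a weakly regular
sequence on that local ring. Then for every X-scheme Y that is affine and of finite presentation
over X, the restriction map from X-sections of Y to U-sections of Y is bijective: every morphism U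
-> Y over X extends uniquely to a section X -> Y. -/
theorem result (X : Scheme.{u}) (U : X.Opens) [QuasiCompact U.ι]
    (hZ : ∀ z : X, z ∉ U → ∃ a b : X.presheaf.stalk z, a ∈ IsLocalRing.maximalIdeal (X.presheaf.stalk z) ∧
      b ∈ IsLocalRing.maximalIdeal (X.presheaf.stalk z) ∧ RingTheory.Sequence.IsWeaklyRegular (X.presheaf.stalk z) [a, b])
    (Y : Scheme.{u}) (f : Y ⟶ X) [IsAffineHom f] [LocallyOfFinitePresentation f]
    (t : (U : Scheme.{u}) ⟶ Y) (ht : t ≫ f = U.ι) :
    ∃! s : X ⟶ Y, s ≫ f = 𝟙 X ∧ U.ι ≫ s = t := by
  refine Groth.Agent.CAlgOdd.HartogsTwo.existsUnique_section U (fun z hz => ?_) f t ht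
  obtain ⟨a, b, ha, hb, hab⟩ := hZ z hz
  exact Groth.Agent.CAlgOdd.HartogsTwo.reg2_of_isWeaklyRegular ha hb hab

end Groth.Agent.S14272
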