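import Groth.Statements.S14274
import Groth.Agent.CechTorsorX.RegExtend
import Groth.Agent.SchTorsor.Props
import Groth.Prelude.Def_ActBC
-- import your own Groth.Agent.* helpers here

set_option autoImplicit false
universe u
open scoped CategoryTheory.Obj
open NonAbH1

open CategoryTheory CategoryTheory.Limits MonoidalCategory CartesianMonoidalCategory AlgebraicGeometry

namespace Groth.Agent.S14274

open AlgebraicGeometry CategoryTheory CategoryTheory.Limits MonoidalCategory in
/-- Let X be a scheme, G a finite locally free X-group scheme (finite, flat and locally of finite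
presentation over X, not necessarily commutative), and U an open subscheme of X whose inclusion is
quasi-compact, such that for every point z of X outside U the local ring of X at z is regular of
Krull dimension at least 2. Let Q₁ and Q₂ be fppf G-torsors over X. Then every U-morphism between
their base changes to U that is equivariant for the base-changed group is the base change of a
unique G-equivariant X-morphism Q₁ -> Q₂. (With the essential-surjectivity row this is the statement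
that pullback is an equivalence from G-torsors over X to torsors over U under the base change of G.) -/
theorem result {X : Scheme.{u}} (G : Over X) [GrpObj G]
    [IsFinite G.hom] [Flat G.hom] [LocallyOfFinitePresentation G.hom]
    (U : X.Opens) [QuasiCompact U.ι]
    (hZ : ∀ z : X, z ∉ U → IsRegularLocalRing (X.presheaf.stalk z) ∧ (2 : WithBot ℕ∞) ≤ ringKrullDim (X.presheaf.stalk z))
    (Q₁ Q₂ : Over X) (a₁ : AlgGrp.Action G Q₁) (a₂ : AlgGrp.Action G Q₂)
    (h₁ : NonAbH1.IsTorsorFor Scheme.fppfPrecoverage a₁) (h₂ : NonAbH1.IsTorsorFor Scheme.fppfPrecoverage a₂)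
    (h' : (Over.pullback U.ι).obj Q₁ ⟶ (Over.pullback U.ι).obj Q₂)
    (hh' : (Functor.LaxMonoidal.μ (Over.pullback U.ι) G Q₁ ≫ (Over.pullback U.ι).map a₁.act) ≫ h' =
      ((Over.pullback U.ι).obj G ◁ h') ≫ (Functor.LaxMonoidal.μ (Over.pullback U.ι) G Q₂ ≫ (Over.pullback U.ι).map a₂.act)) :
    ∃! h : Q₁ ⟶ Q₂, a₁.act ≫ h = (G ◁ h) ≫ a₂.act ∧ (Over.pullback U.ι).map h = h' := by
  have toFpqc : ∀ {Y : Over X} {b : AlgGrp.Action G Y}, NonAbH1.IsTorsorFor Scheme.fppfPrecoverage b →
      NonAbH1.IsTorsorFor Scheme.fpqcPrecoverage b :=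
    fun h => ⟨h.1, h.2.imp fun R hR => ⟨Scheme.fppfPrecoverage_le_fpqcPrecoverage _ hR.1, hR.2⟩⟩
  haveI : MorphismProperty.DescendsAlong @IsFinite (@Surjective ⊓ @Flat ⊓ @QuasiCompact : MorphismProperty Scheme.{u}) :=
    Groth.Agent.EtFound.fpqc_isFinite
  haveI : IsFinite Q₂.hom := Groth.Agent.SchTorsor.torsor_property @IsFinite (toFpqc h₂) inferInstance
  haveI : Flat Q₁.hom := Groth.Agent.SchTorsor.torsor_property @Flat (toFpqc h₁) inferInstance
  have hwh : h'.left ≫ pullback.snd Q₂.hom U.ι = pullback.snd Q₁.hom U.ι := Over.w h'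
  let r := pullbackRestrictIsoRestrict Q₁.hom U
  have hr : r.hom ≫ (Q₁.hom ⁻¹ᵁ U).ι = pullback.fst Q₁.hom U.ι := pullbackRestrictIsoRestrict_hom_ι _ _
  let t₀ := r.inv ≫ h'.left ≫ pullback.fst Q₂.hom U.ι
  have ht₀ : t₀ ≫ Q₂.hom = (Q₁.hom ⁻¹ᵁ U).ι ≫ Q₁.hom := by
    rw [← cancel_epi r.hom, ← Category.assoc r.hom (Q₁.hom ⁻¹ᵁ U).ι, hr]
    simp only [t₀, Category.assoc, Iso.hom_inv_id_assoc]
    rw [pullback.condition, reassoc_of% hwh, ← pullback.condition]
  obtain ⟨φ, ⟨hφ1, hφ2⟩, hφ3⟩ :=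
    Groth.Agent.CechTorsorX.RegExtend.existsUnique_hom Q₁.hom Q₂.hom U hZ t₀ ht₀
  let h : Q₁ ⟶ Q₂ := Over.homMk φ hφ1
  have hmap : (Over.pullback U.ι).map h = h' := by
    ext1
    apply pullback.hom_ext
    · rw [ActBC.pullback_map_left_fst]
      show pullback.fst Q₁.hom U.ι ≫ φ = h'.left ≫ pullback.fst Q₂.hom U.ι
      rw [← hr, Category.assoc, hφ2]
      exact Iso.hom_inv_id_assoc _ _
    · exact (Over.w _).trans hwh.symm
  refine ⟨h, ⟨?_, hmap⟩, fun g hg => ?_⟩
  · have hb : (Over.pullback U.ι).map (a₁.act ≫ h) = (Over.pullback U.ι).map ((G ◁ h) ≫ a₂.act) := by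
      rw [← cancel_epi (Functor.LaxMonoidal.μ (Over.pullback U.ι) G Q₁), Functor.map_comp, Functor.map_comp,
        ← Functor.LaxMonoidal.μ_natural_right_assoc, hmap, ← Category.assoc]
      exact hh'
    haveI : Flat (G ⊗ Q₁).hom := inferInstanceAs (Flat (pullback.fst G.hom Q₁.hom ≫ G.hom))
    ext1
    refine Groth.Agent.CAlgOdd.HartogsTwo.eq_of_eq ((G ⊗ Q₁).hom ⁻¹ᵁ U)
      (Groth.Agent.CechTorsorX.RegExtend.reg2_preimage _ U hZ) Q₂.hom ((Over.w _).trans (Over.w _).symm) ?_
    rw [← cancel_epi (pullbackRestrictIsoRestrict (G ⊗ Q₁).hom U).hom, pullbackRestrictIsoRestrict_hom_ι_assoc,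
      pullbackRestrictIsoRestrict_hom_ι_assoc, ← ActBC.pullback_map_left_fst, ← ActBC.pullback_map_left_fst, hb]
  · ext1
    refine hφ3 g.left ⟨Over.w g, ?_⟩
    rw [← cancel_epi r.hom]
    show r.hom ≫ (Q₁.hom ⁻¹ᵁ U).ι ≫ g.left = r.hom ≫ t₀
    rw [← Category.assoc, hr, ← ActBC.pullback_map_left_fst, hg.2]
    exact (Iso.hom_inv_id_assoc r _).symm

end Groth.Agent.S14274
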