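import Groth.Statements.S14275
import Mathlib.RingTheory.AdicCompletion.Exactness
import Mathlib.RingTheory.AdicCompletion.Algebra
import Mathlib.RingTheory.Regular.RegularSequence

set_option autoImplicit false
universe u
open CAlg

namespace Groth.Agent.S14275

open AdicCompletion

variable {R : Type u} [CommRing R] {a : R}

theorem mem_pow_smul {M : Type u} [AddCommGroup M] [Module R M] {n : ℕ} {x : M} :
    x ∈ (Ideal.span {a} ^ n • ⊤ : Submodule R M) ↔ ∃ z, a ^ n • z = x := by
  rw [Ideal.span_singleton_pow, Submodule.ideal_span_singleton_smul]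
  exact ⟨fun ⟨z, _, hz⟩ => ⟨z, hz⟩, fun ⟨z, hz⟩ => ⟨z, Submodule.mem_top, hz⟩⟩

variable {M N P : Type u} [AddCommGroup M] [Module R M] [AddCommGroup N] [Module R N] [AddCommGroup P] [Module R P]

theorem pullback_pow {f : M →ₗ[R] N} {g : N →ₗ[R] P} (hf : Function.Injective f) (hfg : Function.Exact f g)
    {c : ℕ} (hc : ∀ x : P, (∃ m : ℕ, a ^ m • x = 0) → a ^ c • x = 0) (n : ℕ) (y : M)
    (hy : f y ∈ (Ideal.span {a} ^ (n + c) • ⊤ : Submodule R N)) :
    y ∈ (Ideal.span {a} ^ n • ⊤ : Submodule R M) := by
  obtain ⟨z, hz⟩ := mem_pow_smul.1 hy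
  have h0 : a ^ (n + c) • g z = 0 := by rw [← map_smul, hz, hfg.apply_apply_eq_zero]
  have h1 := hc _ ⟨_, h0⟩
  rw [← map_smul] at h1
  obtain ⟨w, hw⟩ := (hfg _).1 h1
  exact mem_pow_smul.2 ⟨w, hf (by rw [map_smul, hw, smul_smul, ← pow_add, hz])⟩

theorem map_injective_and_exact {f : M →ₗ[R] N} {g : N →ₗ[R] P} (hf : Function.Injective f)
    (hfg : Function.Exact f g) (hg : Function.Surjective g) {c : ℕ}
    (hc : ∀ x : P, (∃ m : ℕ, a ^ m • x = 0) → a ^ c • x = 0) :
    Function.Injective (AdicCompletion.map (Ideal.span {a}) f) ∧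
      Function.Exact (AdicCompletion.map (Ideal.span {a}) f) (AdicCompletion.map (Ideal.span {a}) g) := by
  constructor
  · rw [← LinearMap.ker_eq_bot, LinearMap.ker_eq_bot']
    intro x
    apply AdicCompletion.induction_on _ M x (fun b ↦ ?_)
    intro hx
    refine AdicCompletion.mk_zero_of _ _ _ ⟨0, fun n _ ↦ ⟨n + c, by omega, n, le_rfl,
      pullback_pow hf hfg hc n _ ?_⟩⟩
    simpa using congrArg (fun x ↦ x.val (n + c)) hx
  · refine LinearMap.exact_of_comp_eq_zero_of_ker_le_range ?_ (fun y ↦ ?_)
    · rw [AdicCompletion.map_comp, hfg.linearMap_comp_eq_zero, AdicCompletion.map_zero]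
    apply AdicCompletion.induction_on _ N y (fun b ↦ ?_)
    intro hz
    have hb : ∀ n, g (b n) ∈ (Ideal.span {a} ^ n • ⊤ : Submodule R P) := fun n => by
      simpa using congrArg (fun x ↦ x.val n) hz
    have hb' : ∀ n, ∃ w : M, f w - b n ∈ (Ideal.span {a} ^ n • ⊤ : Submodule R N) := fun n => by
      obtain ⟨p, hp⟩ := mem_pow_smul.1 (hb n)
      obtain ⟨q, rfl⟩ := hg p
      obtain ⟨w, hw⟩ := (hfg (b n - a ^ n • q)).1 (by rw [map_sub, map_smul, hp, sub_self])
      exact ⟨w, mem_pow_smul.2 ⟨-q, by rw [hw, smul_neg]; abel⟩⟩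
    choose w hw using hb'
    refine ⟨AdicCompletion.mk _ M (AdicCauchySequence.mk _ M (fun n ↦ w (n + c)) fun n ↦ ?_), ?_⟩
    · rw [SModEq.sub_mem]
      refine pullback_pow hf hfg hc n _ ?_
      have h1 : b (n + c) - b (n + 1 + c) ∈ (Ideal.span {a} ^ (n + c) • ⊤ : Submodule R N) := by
        rw [← Submodule.Quotient.eq]
        exact (AdicCauchySequence.mk_eq_mk (m := n + c) (n := n + 1 + c) (by omega) b).symm
      have h2 := Submodule.smul_mono_left (N := (⊤ : Submodule R N))
        (Ideal.pow_le_pow_right (I := Ideal.span {a}) (show n + c ≤ n + 1 + c by omega)) (hw (n + 1 + c))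
      rw [map_sub, show f (w (n + c)) - f (w (n + 1 + c)) =
        (f (w (n + c)) - b (n + c)) + (b (n + c) - b (n + 1 + c)) - (f (w (n + 1 + c)) - b (n + 1 + c)) by abel]
      exact Submodule.sub_mem _ (Submodule.add_mem _ (hw _) h1) h2
    · ext n
      suffices h : Submodule.Quotient.mk (p := (Ideal.span {a} ^ n • ⊤ : Submodule R N)) (f (w (n + c))) =
          Submodule.Quotient.mk (p := (Ideal.span {a} ^ n • ⊤ : Submodule R N)) (b (n + c)) by
        simp [h, AdicCauchySequence.mk_eq_mk (show n ≤ n + c by omega)]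
      rw [Submodule.Quotient.eq]
      exact Submodule.smul_mono_left (N := (⊤ : Submodule R N)) (Ideal.pow_le_pow_right (I := Ideal.span {a})
        (show n ≤ n + c by omega)) (hw (n + c))

/-- The completed projection. -/
noncomputable abbrev proj {A : Type u} [CommRing A] (a : A) (J : Ideal A) :
    AdicCompletion (Ideal.span {a}) A →ₗ[AdicCompletion (Ideal.span {a}) A]
      AdicCompletion (Ideal.span {a}) (A ⧸ J) :=
  AdicCompletion.map (Ideal.span {a}) J.mkQ

open RingTheory.Sequence in
/-- Let A be a commutative ring, a an element of A with a-adic completion A^, and a_1, ..., a_n a weakly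
regular sequence on A such that for each i = 0, ..., n the quotient A/(a_1, ..., a_i) has bounded
a-power torsion (some fixed power of a kills every element killed by a power of a). Then the images
of a_1, ..., a_n form a weakly regular sequence on A^, and the canonical map from A^ to the a-adic
completion of A/(a_1, ..., a_n) is surjective with kernel the ideal generated by the images of a_1,
..., a_n. -/
theorem result (A : Type u) [CommRing A] (a : A) (rs : List A)
    (hreg : IsWeaklyRegular A rs)
    (hbd : ∀ i ≤ rs.length, ∃ N : ℕ, ∀ x : A ⧸ Ideal.ofList (rs.take i), (∃ m : ℕ, a ^ m • x = 0) → a ^ N • x = 0) :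
    IsWeaklyRegular (AdicCompletion (Ideal.span {a}) A)
        (rs.map (algebraMap A (AdicCompletion (Ideal.span {a}) A))) ∧
      Function.Surjective (AdicCompletion.map (Ideal.span {a}) (Ideal.ofList rs).mkQ) ∧
      LinearMap.ker (AdicCompletion.map (Ideal.span {a}) (Ideal.ofList rs).mkQ) =
        (Ideal.ofList rs).map (algebraMap A (AdicCompletion (Ideal.span {a}) A)) := by
  obtain ⟨I, hI⟩ : ∃ I, I = Ideal.span {a} := ⟨_, rfl⟩
  have hsurj : ∀ J : Ideal A, Function.Surjective (AdicCompletion.map (Ideal.span {a}) J.mkQ) :=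
    fun J => AdicCompletion.map_surjective _ (Submodule.mkQ_surjective J)
  have hsmul : ∀ (M : Type u) [AddCommGroup M] [Module A M] (r : A) (z : AdicCompletion (Ideal.span {a}) M),
      AdicCompletion.map (Ideal.span {a}) (r • LinearMap.id : M →ₗ[A] M) z = r • z := by
    intro M _ _ r z
    apply AdicCompletion.induction_on _ M z (fun b ↦ ?_)
    ext n
    rw [AdicCompletion.val_smul_apply]
    simp [map_smul]
  have hker0 : ∀ J : Ideal A, J.map (algebraMap A (AdicCompletion (Ideal.span {a}) A)) ≤ LinearMap.ker (proj a J) := by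
    intro J
    rw [Ideal.map_le_iff_le_comap]
    intro j hj
    show proj a J (algebraMap A _ j) = 0
    rw [Algebra.algebraMap_eq_smul_one, LinearMap.map_smul_of_tower]
    rw [← hsmul, show (j • LinearMap.id : (A ⧸ J) →ₗ[A] A ⧸ J) = 0 from LinearMap.ext fun x => by
      obtain ⟨z, rfl⟩ := Submodule.Quotient.mk_surjective _ x
      rw [LinearMap.smul_apply, LinearMap.id_apply, LinearMap.zero_apply, ← Submodule.Quotient.mk_smul,
        Submodule.Quotient.mk_eq_zero]
      exact J.mul_mem_right z hj, AdicCompletion.map_zero]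
    rfl
  have hsn : ∀ i (h : i < rs.length), Ideal.ofList (rs.take (i + 1)) = Ideal.ofList (rs.take i) ⊔ Ideal.span {rs[i]} := by
    intro i h
    rw [List.take_succ_eq_append_getElem h, Ideal.ofList_append, Ideal.ofList_singleton]
  have hmul : ∀ i (h : i < rs.length), Function.Injective (rs[i] • LinearMap.id : (A ⧸ Ideal.ofList (rs.take i)) →ₗ[A] _) := by
    intro i h
    have := hreg.regular_mod_prev i h
    rw [smul_eq_mul, Ideal.mul_top] at this
    exact this
  have step : ∀ i (h : i < rs.length),
      Function.Injective (AdicCompletion.map (Ideal.span {a})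
        (rs[i] • LinearMap.id : (A ⧸ Ideal.ofList (rs.take i)) →ₗ[A] _)) ∧
      ∀ x, proj a (Ideal.ofList (rs.take (i + 1))) x = 0 →
        ∃ y, proj a (Ideal.ofList (rs.take i)) x = rs[i] • proj a (Ideal.ofList (rs.take i)) y := by
    intro i h
    have hle : Ideal.ofList (rs.take i) ≤ Ideal.ofList (rs.take (i + 1)) := hsn i h ▸ le_sup_left
    let g := Submodule.factor hle
    have hex : Function.Exact (rs[i] • LinearMap.id : (A ⧸ Ideal.ofList (rs.take i)) →ₗ[A] _) g := by
      intro y
      obtain ⟨y, rfl⟩ := Submodule.Quotient.mk_surjective _ y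
      show Submodule.Quotient.mk y = 0 ↔ _
      rw [Submodule.Quotient.mk_eq_zero, hsn i h, Submodule.mem_sup]
      constructor
      · rintro ⟨u, hu, v, hv, rfl⟩
        obtain ⟨w, rfl⟩ := Ideal.mem_span_singleton'.1 hv
        refine ⟨Submodule.Quotient.mk w, ?_⟩
        rw [LinearMap.smul_apply, LinearMap.id_apply]
        rw [← Submodule.Quotient.mk_smul, Submodule.Quotient.eq, smul_eq_mul]
        convert (Ideal.ofList (rs.take i)).neg_mem hu using 1
        ring
      · rintro ⟨z, hz⟩
        obtain ⟨z, rfl⟩ := Submodule.Quotient.mk_surjective _ z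
        rw [LinearMap.smul_apply, LinearMap.id_apply] at hz
        rw [← Submodule.Quotient.mk_smul, Submodule.Quotient.eq] at hz
        refine ⟨y - rs[i] * z, ?_, rs[i] * z, Ideal.mem_span_singleton'.2 ⟨z, mul_comm _ _⟩, by ring⟩
        convert (Ideal.ofList (rs.take i)).neg_mem hz using 1
        simp
    obtain ⟨c, hc⟩ := hbd (i + 1) h
    obtain ⟨hinj, hexc⟩ := map_injective_and_exact (hmul i h) hex (Submodule.factor_surjective hle) hc
    refine ⟨hinj, fun x hx => ?_⟩
    obtain ⟨y, hy⟩ := (hexc (proj a (Ideal.ofList (rs.take i)) x)).1 (by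
      refine (LinearMap.congr_fun (AdicCompletion.map_comp (Ideal.span {a}) (Submodule.mkQ _) g) x).trans ?_
      rw [show g ∘ₗ Submodule.mkQ _ = Submodule.mkQ _ from Submodule.factor_comp_mk hle]
      exact hx)
    obtain ⟨y', rfl⟩ : ∃ y', proj a (Ideal.ofList (rs.take i)) y' = y := hsurj _ y
    exact ⟨y', by rw [← hy, hsmul]⟩
  have hker : ∀ i, i ≤ rs.length → LinearMap.ker (proj a (Ideal.ofList (rs.take i))) ≤
      (Ideal.ofList (rs.take i)).map (algebraMap A (AdicCompletion (Ideal.span {a}) A)) := by
    intro i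
    induction i with
    | zero =>
      intro _ x hx
      rw [LinearMap.mem_ker] at hx
      have hJ : Ideal.ofList (rs.take 0) = ⊥ := by simp
      suffices x = 0 by rw [this]; exact Ideal.zero_mem _
      let e := (Submodule.quotEquivOfEqBot _ hJ)
      have h := congrArg (AdicCompletion.map (Ideal.span {a}) e.toLinearMap) hx
      rw [_root_.map_zero] at h
      replace h := (LinearMap.congr_fun (AdicCompletion.map_comp (Ideal.span {a}) (Submodule.mkQ _) e.toLinearMap) x).symm.trans h
      rw [show e.toLinearMap ∘ₗ Submodule.mkQ (Ideal.ofList (rs.take 0)) = LinearMap.id from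
        LinearMap.ext fun z => Submodule.quotEquivOfEqBot_apply_mk _ hJ z, AdicCompletion.map_id] at h
      simpa using h
    | succ i ih =>
      intro h x hx
      obtain ⟨y, hy⟩ := (step i h).2 x (LinearMap.mem_ker.1 hx)
      rw [hsn i h, Ideal.map_sup]
      have h1 : x - algebraMap A _ rs[i] * y ∈ LinearMap.ker (proj a (Ideal.ofList (rs.take i))) := by
        rw [LinearMap.mem_ker, map_sub, ← Algebra.smul_def, LinearMap.map_smul_of_tower, ← hy, sub_self]
      rw [show x = (x - algebraMap A _ rs[i] * y) + algebraMap A _ rs[i] * y by ring]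
      exact Submodule.add_mem_sup (ih (by omega) h1)
        (Ideal.mul_mem_right _ _ (Ideal.mem_map_of_mem _ (Ideal.mem_span_singleton_self _)))
  refine ⟨⟨fun i h => ?_⟩, hsurj _, ?_⟩
  · rw [List.length_map] at h
    rw [smul_eq_mul, Ideal.mul_top, ← List.map_take, ← Ideal.map_ofList]
    rw [List.getElem_map]
    intro u v huv
    obtain ⟨u, rfl⟩ := Submodule.Quotient.mk_surjective _ u
    obtain ⟨v, rfl⟩ := Submodule.Quotient.mk_surjective _ v
    rw [Submodule.Quotient.eq]
    change algebraMap A (AdicCompletion (Ideal.span {a}) A) rs[i] • Submodule.Quotient.mk u =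
      algebraMap A (AdicCompletion (Ideal.span {a}) A) rs[i] • Submodule.Quotient.mk v at huv
    rw [← Submodule.Quotient.mk_smul, ← Submodule.Quotient.mk_smul, Submodule.Quotient.eq, ← smul_sub] at huv
    have h0 := hker0 _ huv
    rw [LinearMap.mem_ker, smul_eq_mul, ← Algebra.smul_def, LinearMap.map_smul_of_tower, ← hsmul] at h0
    exact hker i h.le (LinearMap.mem_ker.2 ((step i h).1 (h0.trans (_root_.map_zero _).symm)))
  · have h := le_antisymm (hker rs.length le_rfl) (hker0 _)
    rw [List.take_length] at h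
    exact h

end Groth.Agent.S14275
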