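import Groth.Statements.S14280
import Mathlib


set_option autoImplicit false
universe u
open SpSeq

namespace Groth.Agent.S14280

/-- Let E^{p,q} (p, q ≥ 0) be finite-dimensional complex vector spaces each carrying an endomorphism Φ,
and suppose that for a natural number N and functions a, c ≥ 0 (real) and b, d (natural numbers) one
has E^{p,q} = 0 for q > N, |μ| ≤ a(q)c(p) for every eigenvalue μ of Φ on E^{p,q}, and dim E^{p,q} ≤
b(q)d(p). If Σ_p c(p)d(p) converges then the family of traces tr(Φ | E^{p,q}) is absolutely summable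
over all pairs (p, q). (The published statement takes a and b defined on {0, …, N} only; here they
are functions on all natural numbers, which changes nothing since E^{p,q} = 0 for q > N.) -/
theorem result
    (E : ℕ → ℕ → Type u) [∀ p q, AddCommGroup (E p q)] [∀ p q, Module ℂ (E p q)]
    [∀ p q, FiniteDimensional ℂ (E p q)] (Φ : ∀ p q, E p q →ₗ[ℂ] E p q)
    (N : ℕ) (a c : ℕ → ℝ) (b d : ℕ → ℕ) (ha : ∀ q, 0 ≤ a q) (hc : ∀ p, 0 ≤ c p)
    (h1 : ∀ p q, N < q → Subsingleton (E p q))
    (h2 : ∀ p q (μ : ℂ), Module.End.HasEigenvalue (Φ p q) μ → ‖μ‖ ≤ a q * c p)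
    (h3 : ∀ p q, Module.finrank ℂ (E p q) ≤ b q * d p)
    (hsum : Summable fun p : ℕ => c p * (d p : ℝ)) :
    Summable fun pq : ℕ × ℕ => ‖LinearMap.trace ℂ (E pq.1 pq.2) (Φ pq.1 pq.2)‖ := by
  let g : ℕ × ℕ → ℝ := fun pq =>
    (c pq.1 * (d pq.1 : ℝ)) * (if pq.2 ≤ N then a pq.2 * (b pq.2 : ℝ) else 0)
  have hg : Summable g := by
    have h2 : Summable fun q : ℕ => if q ≤ N then a q * (b q : ℝ) else 0 :=
      summable_of_ne_finset_zero (s := Finset.range (N + 1)) fun q hq => by
        rw [Finset.mem_range] at hq; rw [if_neg (by omega)]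
    exact hsum.mul_of_nonneg h2 (fun p => mul_nonneg (hc p) (by positivity)) (fun q => by
      dsimp only; split_ifs
      · exact mul_nonneg (ha q) (by positivity)
      · rfl)
  refine hg.of_nonneg_of_le (fun _ => norm_nonneg _) fun ⟨p, q⟩ => ?_
  dsimp only [g]
  by_cases hq : q ≤ N
  · rw [if_pos hq, Module.End.trace_eq_sum_roots_charpoly_of_splits (IsAlgClosed.splits _)]
    refine (norm_multiset_sum_le _).trans ?_
    refine (Multiset.sum_le_card_nsmul _ (a q * c p) ?_).trans ?_
    · intro x hx
      obtain ⟨μ, hμ, rfl⟩ := Multiset.mem_map.1 hx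
      exact h2 p q μ ((Module.End.hasEigenvalue_iff_isRoot_charpoly _ μ).2 (Polynomial.isRoot_of_mem_roots hμ))
    · rw [Multiset.card_map, nsmul_eq_mul]
      have hcard : ((Polynomial.roots (Φ p q).charpoly).card : ℝ) ≤ (b q : ℝ) * (d p : ℝ) := by
        have h := (Polynomial.card_roots' (Φ p q).charpoly).trans
          ((LinearMap.charpoly_natDegree (Φ p q)).le.trans (h3 p q))
        exact_mod_cast h
      refine le_trans (mul_le_mul_of_nonneg_right hcard (mul_nonneg (ha q) (hc p))) (le_of_eq ?_)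
      ring
  · have := h1 p q (by omega)
    have h0 : Φ p q = 0 := LinearMap.ext fun x => Subsingleton.elim _ _
    rw [h0, if_neg hq]
    simp

end Groth.Agent.S14280
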