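import Groth.Statements.S14283
import Groth.Agent.H9Misc.SSTraceAbut

set_option autoImplicit false
universe u
open CategoryTheory CategoryTheory.Limits
open SpSeq

namespace Groth.Agent.S14283

/-- For an E_2 spectral sequence (E, Φ) of complex vector spaces carrying an endomorphism Φ compatible
with all its structure maps — here encoded as a cohomological spectral sequence in the category of
ℂ[X]-modules (X acting as Φ) — which is concentrated in the first quadrant (E_2^{p,q} = 0 if p < 0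
or q < 0) and abuts to F^n (n ∈ ℤ) through abutment data whose filtrations are finite, assume that
the E_2^{p,q} are finite-dimensional over ℂ, vanish for q > N, that every eigenvalue μ of Φ on
E_2^{p,q} has |μ| ≤ a(q)c(p) and dim E_2^{p,q} ≤ b(q)d(p) for functions a, c ≥ 0 (real) and b, d
(natural numbers), and that Σ_p c(p)d(p) converges. Then the series Σ_{n ≥ 0} (−1)^n tr(Φ | F^n)
converges absolutely and its sum equals Σ_{p,q ≥ 0} (−1)^{p+q} tr(Φ | E_2^{p,q}). Traces, dimensions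
and eigenvalues are taken on the underlying complex vector spaces (restriction of scalars along ℂ →
ℂ[X]) for the endomorphism 'multiplication by X'. -/
theorem result
    (E : E₂CohomologicalSpectralSequence (ModuleCat.{u} (Polynomial ℂ)))
    (H : ℤ → ModuleCat.{u} (Polynomial ℂ)) (abut : SpSeq.Abutment E H) (hfin : ∀ n, abut.IsFinite n)
    (hquad : ∀ pq : ℤ × ℤ, pq.1 < 0 ∨ pq.2 < 0 → IsZero ((E.page 2 le_rfl).X pq))
    (hfd : ∀ pq : ℤ × ℤ, Module.Finite ℂ ((ModuleCat.restrictScalars (algebraMap ℂ (Polynomial ℂ))).obj ((E.page 2 le_rfl).X pq)))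
    (N : ℕ) (a c : ℕ → ℝ) (b d : ℕ → ℕ) (ha : ∀ q, 0 ≤ a q) (hc : ∀ p, 0 ≤ c p)
    (h1 : ∀ p q : ℕ, N < q → IsZero ((E.page 2 le_rfl).X ((p : ℤ), (q : ℤ))))
    (h2 : ∀ (p q : ℕ) (μ : ℂ), Module.End.HasEigenvalue
        ((ModuleCat.restrictScalars (algebraMap ℂ (Polynomial ℂ))).map
          ((Polynomial.X : Polynomial ℂ) • 𝟙 ((E.page 2 le_rfl).X ((p : ℤ), (q : ℤ))))).hom μ → ‖μ‖ ≤ a q * c p)
    (h3 : ∀ p q : ℕ, Module.finrank ℂ
        ((ModuleCat.restrictScalars (algebraMap ℂ (Polynomial ℂ))).obj ((E.page 2 le_rfl).X ((p : ℤ), (q : ℤ)))) ≤ b q * d p)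
    (hsum : Summable fun p : ℕ => c p * (d p : ℝ)) :
    Summable (fun n : ℕ => ‖LinearMap.trace ℂ _
        ((ModuleCat.restrictScalars (algebraMap ℂ (Polynomial ℂ))).map ((Polynomial.X : Polynomial ℂ) • 𝟙 (H n))).hom‖) ∧
    ∑' n : ℕ, (-1 : ℂ) ^ n * LinearMap.trace ℂ _
        ((ModuleCat.restrictScalars (algebraMap ℂ (Polynomial ℂ))).map ((Polynomial.X : Polynomial ℂ) • 𝟙 (H n))).hom =
      ∑' pq : ℕ × ℕ, (-1 : ℂ) ^ (pq.1 + pq.2) * LinearMap.trace ℂ _
        ((ModuleCat.restrictScalars (algebraMap ℂ (Polynomial ℂ))).map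
          ((Polynomial.X : Polynomial ℂ) • 𝟙 ((E.page 2 le_rfl).X ((pq.1 : ℤ), (pq.2 : ℤ))))).hom := by
  exact Groth.Agent.H9Misc.SSTrace.formula (E := E) (H := H) (a := a) (c := c) (b := b) (d := d) (N := N)
    ha hc hsum abut ⟨hquad, hfd, h1, h2, h3⟩ hfin

end Groth.Agent.S14283
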