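import Groth.Statements.S1429
import Groth.Agent.MorLib.WeightAffine

set_option autoImplicit false
universe u
open FlatMor

namespace Groth.Agent.S1429

open AlgebraicGeometry CategoryTheory Limits in
/-- For affine X and Y, a quasi-finite morphism f : X → Y of finite presentation and a positive
weighting w of f whose fibre integral has maximum value d: the open Y_d on which the integral equals
d is affine. -/
theorem result {X Y : Scheme.{u}} (f : X ⟶ Y) [LocallyQuasiFinite f] [QuasiCompact f] [LocallyOfFinitePresentation f] [IsAffine X] [IsAffine Y]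
    (w : ↑X → ℤ) (hw : MoreMor.IsWeighting f w) (hpos : ∀ x, 0 < w x) (d : ℤ)
    (hmax : ∀ y : Y, MoreMor.fibreIntegral f w y ≤ d) (hatt : ∃ y : Y, MoreMor.fibreIntegral f w y = d) :
    ∃ hYd : IsOpen {y : ↑Y | MoreMor.fibreIntegral f w y = d}, IsAffineOpen (⟨{y : ↑Y | MoreMor.fibreIntegral f w y = d}, hYd⟩ : Y.Opens) := by
  have hfin : ∀ y : Y, (f ⁻¹' {y}).Finite := fun y => f.finite_preimage_singleton y
  haveI : IsAffineHom f := inferInstance
  obtain ⟨y₀, hy₀⟩ := hatt
  have hd : 0 ≤ d := hy₀ ▸ Groth.Agent.MorLib.WT.fibreIntegral_nonneg (fun x => (hpos x).le) (hfin y₀)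
  obtain ⟨n, rfl⟩ := Int.eq_ofNat_of_zero_le hd
  obtain ⟨hYd, -⟩ := Groth.Agent.MorLib.WT.finite_over_max hfin hw hpos (n : ℤ) hmax
  refine ⟨hYd, ?_⟩
  let U : Y.Opens := ⟨{y : ↑Y | MoreMor.fibreIntegral f w y = (n : ℤ)}, hYd⟩
  haveI : IsAffineHom U.ι :=
    Groth.Agent.MorLib.WT.isAffineHom_maxLocus_aux n f hfin w hw hpos hmax U rfl
  exact (isAffine_of_isAffineHom U.ι : IsAffine (U : Scheme.{u}))

end Groth.Agent.S1429
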