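import Groth.Statements.S14294
import Groth.Agent.PtDeg6.Quad

set_option autoImplicit false
universe u v
open PtDeg

namespace Groth.Agent.S14294

/-- Let A and G be abelian groups, written additively, and f : A → G a map which is pointed of degree 2,
that is f(x+y+z) + f(x) + f(y) + f(z) = f(x+y) + f(x+z) + f(y+z) for all x, y, z in A. If an integer
n satisfies n·x = 0 for every x in A, then 2n·f(x) = 0 for every x in A, and if moreover n is odd
then n·f(x) = 0 for every x in A. -/
theorem result {A : Type u} {G : Type v} [AddCommGroup A] [AddCommGroup G]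
    (f : A → G) (hf : ∀ x y z : A, f (x + y + z) + f x + f y + f z = f (x + y) + f (x + z) + f (y + z))
    (n : ℤ) (hn : ∀ x : A, n • x = 0) :
    (∀ x : A, (2 * n) • f x = 0) ∧ (Odd n → ∀ x : A, n • f x = 0) := by
  have key : ∀ x : A, (n * (n + 1) / 2) • f x + (n * (n + 1) / 2 - n) • f (-x) = 0 := fun x => by
    rw [← PtDeg6.tri_pred', ← PtDeg6.formula f hf, hn, PtDeg6.map_zero_of_degTwo f hf]
  have h3 : ∀ x : A, n • f (-x) = -(n • f x) := fun x => by
    have h := PtDeg6.formula f hf (n + 1) x
    rw [PtDeg6.tri_pred' (n + 1), PtDeg6.tri_succ, add_smul n 1 x, hn, zero_add, one_smul] at h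
    have hk := key x
    have e : n • f x + n • f (-x) = 0 := by
      have e1 : f x = ((n * (n + 1) / 2) • f x + (n * (n + 1) / 2 - n) • f (-x)) +
          (n • f x + n • f (-x)) + f x := by
        conv_lhs => rw [h]
        module
      rw [hk, zero_add] at e1
      simpa using e1
    exact eq_neg_of_add_eq_zero_right e
  have h4 : ∀ x : A, (2 * n) • f x = 0 := fun x => by
    have hk := key x
    have hk' := key (-x)
    rw [neg_neg] at hk'
    have e : n • f x - n • f (-x) = 0 := by
      have : ((n * (n + 1) / 2) • f x + (n * (n + 1) / 2 - n) • f (-x)) -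
          ((n * (n + 1) / 2) • f (-x) + (n * (n + 1) / 2 - n) • f x) = n • f x - n • f (-x) := by
        module
      rw [← this, hk, hk', sub_zero]
    rw [h3, sub_neg_eq_add] at e
    rw [two_mul, add_smul]
    exact e
  refine ⟨h4, ?_⟩
  rintro ⟨m, rfl⟩ x
  have hk := key x
  have hd : (2 * m + 1) * (2 * m + 1 + 1) / 2 = (2 * m + 1) * (m + 1) := by
    rw [show (2 * m + 1) * (2 * m + 1 + 1) = (2 * m + 1) * (m + 1) * 2 by ring]
    exact Int.mul_ediv_cancel _ (by norm_num)
  rw [hd, show (2 * m + 1) * (m + 1) - (2 * m + 1) = m * (2 * m + 1) by ring, mul_smul m, h3] at hk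
  rw [← hk]
  module

end Groth.Agent.S14294
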