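import Groth.Statements.S14296
import Groth.Agent.PtDeg6.Quad

set_option autoImplicit false
universe u v
open PtDeg

namespace Groth.Agent.S14296

/-- Let G and H be abelian groups, written additively, n an integer such that 2n²·x = 0 for every x in
G, and d : G → H a quadratic map, meaning that d is pointed of degree 2 (d(x+y+z) + d(x) + d(y) +
d(z) = d(x+y) + d(x+z) + d(y+z) for all x, y, z) and even (d(−x) = d(x) for all x). Then d(2n·x) = 0
for every x in G. -/
theorem result {G : Type u} {H : Type v} [AddCommGroup G] [AddCommGroup H]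
    (n : ℤ) (hn : ∀ x : G, (2 * n ^ 2) • x = 0)
    (d : G → H) (hd : ∀ x y z : G, d (x + y + z) + d x + d y + d z = d (x + y) + d (x + z) + d (y + z))
    (heven : ∀ x : G, d (-x) = d x) (x : G) :
    d ((2 * n) • x) = 0 := by
  have hsq : ∀ (m : ℤ) (y : G), d (m • y) = (m * m) • d y := fun m y => by
    rw [PtDeg6.formula d hd, heven, ← add_smul, PtDeg6.tri_pred']
    congr 1
    obtain ⟨c, hc⟩ := PtDeg6.tri_even m
    rw [hc, Int.mul_ediv_cancel_left _ (by norm_num : (2 : ℤ) ≠ 0)]
    linear_combination -hc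
  have h0 : (2 * n ^ 2 * (2 * n ^ 2)) • d x = 0 := by
    rw [← hsq, hn x, PtDeg6.map_zero_of_degTwo d hd]
  have h1 : ((2 * n ^ 2 + 1) * (2 * n ^ 2 + 1)) • d x = d x := by
    rw [← hsq, add_smul, hn x, zero_add, one_smul]
  rw [hsq]
  have e : (2 * n * (2 * n)) • d x =
      ((2 * n ^ 2 + 1) * (2 * n ^ 2 + 1)) • d x - (2 * n ^ 2 * (2 * n ^ 2)) • d x - d x := by
    module
  rw [e, h0, h1]
  abel

end Groth.Agent.S14296
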