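import Groth.Statements.S14297
import Mathlib
-- import your own Groth.Agent.* helpers here

set_option autoImplicit false
universe u
open MeasureTheory
open PtDeg

namespace Groth.Agent.S14297

section Cocycle

open MeasureTheory

lemma meas_of_sep {X : Type*} [TopologicalSpace X] [CompactSpace X] [MeasurableSpace X]
    (hsep : ∀ x y : X, x ≠ y → ∃ f : C(X, ℝ), Measurable (f : X → ℝ) ∧ f x ≠ f y)
    {f : X → ℝ} (hf : Continuous f) : Measurable f := by
  let A : Subalgebra ℝ C(X, ℝ) :=
    { carrier := {g | Measurable (g : X → ℝ)}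
      mul_mem' := fun {a b} (ha : Measurable _) (hb : Measurable _) => by
        simpa using ha.mul hb
      one_mem' := (measurable_const : Measurable fun _ : X => (1 : ℝ))
      add_mem' := fun {a b} (ha : Measurable _) (hb : Measurable _) => by
        simpa using ha.add hb
      zero_mem' := (measurable_const : Measurable fun _ : X => (0 : ℝ))
      algebraMap_mem' := fun r => by
        show Measurable ((algebraMap ℝ C(X, ℝ) r : C(X, ℝ)) : X → ℝ)
        exact measurable_const }
  have hA : A.SeparatesPoints := fun x y hxy => by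
    obtain ⟨g, hg, hne⟩ := hsep x y hxy
    exact ⟨_, ⟨g, hg, rfl⟩, hne⟩
  have htop := ContinuousMap.subalgebra_topologicalClosure_eq_top_of_separatesPoints A hA
  have hmem : (⟨f, hf⟩ : C(X, ℝ)) ∈ closure (A : Set C(X, ℝ)) := by
    have : (⟨f, hf⟩ : C(X, ℝ)) ∈ A.topologicalClosure := htop ▸ Algebra.mem_top
    exact this
  obtain ⟨s, hsA, hlim⟩ := mem_closure_iff_seq_limit.1 hmem
  refine measurable_of_tendsto_metrizable (fun i => hsA i) (tendsto_pi_nhds.2 fun x => ?_)
  exact ((continuous_eval_const x).tendsto _).comp hlim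

variable {G : Type*} [TopologicalSpace G] [CompactSpace G] [T2Space G] [MeasurableSpace G]
  [BorelSpace G]

lemma sep_point {a b : G} (h : a ≠ b) : ∃ f : C(G, ℝ), f a ≠ f b := by
  obtain ⟨f, h0, h1, -⟩ := exists_continuous_zero_one_of_isClosed (isClosed_singleton (x := a))
    (isClosed_singleton (x := b)) (Set.disjoint_singleton.2 h)
  exact ⟨f, by rw [h0 rfl, h1 rfl]; exact zero_ne_one⟩

lemma meas_pi {m : ℕ} {f : (Fin m → G) → ℝ} (hf : Continuous f) : Measurable f := by
  refine meas_of_sep (fun x y hxy => ?_) hf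
  obtain ⟨i, hi⟩ := Function.ne_iff.1 hxy
  obtain ⟨g, hg⟩ := sep_point hi
  exact ⟨⟨fun z => g (z i), by fun_prop⟩, g.continuous.measurable.comp (measurable_pi_apply i), hg⟩

lemma meas_prod {m : ℕ} {f : (Fin m → G) × G → ℝ} (hf : Continuous f) : Measurable f := by
  refine meas_of_sep (fun x y hxy => ?_) hf
  by_cases h2 : x.2 = y.2
  · have h1 : x.1 ≠ y.1 := fun h => hxy (Prod.ext h h2)
    obtain ⟨i, hi⟩ := Function.ne_iff.1 h1
    obtain ⟨g, hg⟩ := sep_point hi
    exact ⟨⟨fun z => g (z.1 i), by fun_prop⟩,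
      g.continuous.measurable.comp ((measurable_pi_apply i).comp measurable_fst), hg⟩
  · obtain ⟨g, hg⟩ := sep_point h2
    exact ⟨⟨fun z => g z.2, by fun_prop⟩, g.continuous.measurable.comp measurable_snd, hg⟩

lemma integrable_pi {m : ℕ} (ν : Measure (Fin m → G)) [IsFiniteMeasure ν]
    {f : (Fin m → G) → ℝ} (hf : Continuous f) : Integrable f ν :=
  Integrable.of_bound (meas_pi hf).aestronglyMeasurable ‖(⟨f, hf⟩ : C(Fin m → G, ℝ))‖
    (ae_of_all _ fun x => ContinuousMap.norm_coe_le_norm (⟨f, hf⟩ : C(Fin m → G, ℝ)) x)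

lemma continuous_integral {m : ℕ} (ν : Measure (Fin m → G)) [IsProbabilityMeasure ν]
    {f : G → (Fin m → G) → ℝ} (hf : Continuous fun p : G × (Fin m → G) => f p.1 p.2) :
    Continuous fun g => ∫ u, f g u ∂ν := by
  let F : C(G, C(Fin m → G, ℝ)) := ContinuousMap.curry ⟨_, hf⟩
  have hL : LipschitzWith 1 (fun h : C(Fin m → G, ℝ) => ∫ u, h u ∂ν) := by
    refine LipschitzWith.of_dist_le_mul fun a b => ?_
    rw [Real.dist_eq, ← integral_sub (integrable_pi ν a.continuous) (integrable_pi ν b.continuous),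
      NNReal.coe_one, one_mul, dist_eq_norm, ← Real.norm_eq_abs]
    refine (norm_integral_le_of_norm_le_const (C := ‖a - b‖) (ae_of_all _ fun x => ?_)).trans ?_
    · simpa using ContinuousMap.norm_coe_le_norm (a - b) x
    · simp
  exact hL.continuous.comp F.continuous

variable [AddCommGroup G] [IsTopologicalAddGroup G]
variable (μ : Measure G) [μ.IsAddHaarMeasure] [IsProbabilityMeasure μ]

lemma integral_shift {m : ℕ} {φ : G → ℝ} (hφ : Continuous φ) (h : (Fin m → G) → G)
    (hh : Continuous h) (j : Fin m) (hj : ∀ u a, h (u + Pi.single j a) = h u + a) :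
    ∫ u, φ (h u) ∂(Measure.pi fun _ : Fin m => μ) = ∫ a, φ a ∂μ := by
  set ν := Measure.pi fun _ : Fin m => μ with hν
  have hc : Continuous fun p : (Fin m → G) × G => φ (h p.1 + p.2) := by fun_prop
  have hint : Integrable (fun p : (Fin m → G) × G => φ (h p.1 + p.2)) (ν.prod μ) :=
    Integrable.of_bound (meas_prod hc).aestronglyMeasurable ‖(⟨_, hc⟩ : C((Fin m → G) × G, ℝ))‖
      (ae_of_all _ fun x => ContinuousMap.norm_coe_le_norm (⟨_, hc⟩ : C((Fin m → G) × G, ℝ)) x)
  have hswap := integral_integral_swap (f := fun u a => φ (h u + a)) hint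
  have h1 : ∀ u, ∫ a, φ (h u + a) ∂μ = ∫ a, φ a ∂μ := fun u => integral_add_left_eq_self φ (h u)
  have h2 : ∀ a, ∫ u, φ (h u + a) ∂ν = ∫ u, φ (h u) ∂ν := fun a => by
    simp only [← hj]
    exact integral_add_right_eq_self (μ := ν) (fun u => φ (h u)) (Pi.single j a)
  simp only [h1, h2, integral_const, probReal_univ, one_smul] at hswap
  exact hswap.symm

/-- sign-weighted sum over subsets -/
def T {n : ℕ} (s : Finset (Fin n)) (x : Fin n → G) (Φ : G → ℝ) : ℝ :=
  ∑ I ∈ s.powerset, (-1 : ℝ) ^ (I.card + 1) * Φ (∑ i ∈ I, x i)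

lemma sum_sign {α : Type*} (s : Finset α) (hs : s.Nonempty) :
    ∑ I ∈ s.powerset, (-1 : ℝ) ^ (I.card + 1) = 0 := by
  classical
  have h := Finset.sum_powerset_neg_one_pow_card_of_nonempty hs
  have h' : ((∑ I ∈ s.powerset, (-1 : ℤ) ^ I.card : ℤ) : ℝ) = 0 := by rw [h]; simp
  push_cast at h'
  simp only [pow_succ, ← Finset.sum_mul, h', zero_mul]

lemma T_step {n : ℕ} (s : Finset (Fin n)) (hs : s.Nonempty) (K : Fin n) (hK : K ∉ s)
    (x : Fin n → G) (Φ Φ' : G → ℝ) (h : ∀ g, Φ g = Φ' g + Φ' (x K) - Φ' (g + x K)) :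
    T s x Φ + Φ 0 = T (insert K s) x Φ' + Φ' 0 := by
  classical
  unfold T
  rw [Finset.sum_powerset_insert hK, h 0, zero_add, add_sub_assoc, sub_self, add_zero]
  simp only [h, mul_sub, mul_add, Finset.sum_sub_distrib, Finset.sum_add_distrib,
    ← Finset.sum_mul, sum_sign s hs, zero_mul, add_zero]
  have : ∑ I ∈ s.powerset, (-1 : ℝ) ^ ((insert K I).card + 1) * Φ' (∑ i ∈ insert K I, x i) =
      - ∑ I ∈ s.powerset, (-1 : ℝ) ^ (I.card + 1) * Φ' (∑ i ∈ I, x i + x K) := by
    rw [← Finset.sum_neg_distrib]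
    refine Finset.sum_congr rfl fun I hI => ?_
    have hKI : K ∉ I := fun h' => hK (Finset.mem_powerset.1 hI h')
    rw [Finset.card_insert_of_notMem hKI, Finset.sum_insert hKI, add_comm (x K), pow_succ]
    ring
  rw [this]
  ring

variable {m : ℕ} (ψ : (Fin (m + 1) → G) → ℝ)

/-- `ψ` with the first `k` of the last `m` variables replaced by `u` -/
def w (x : Fin (m + 1) → G) (k : ℕ) (u : Fin m → G) (g : G) : Fin (m + 1) → G :=
  Fin.cons g fun j => if (j : ℕ) < k then u j else x j.succ

lemma cont_w (x : Fin (m + 1) → G) (k : ℕ) (g : G) (hψc : Continuous ψ) :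
    Continuous fun u => ψ (w x k u g) := by
  refine hψc.comp (continuous_pi fun i => ?_)
  refine Fin.cases ?_ (fun j => ?_) i
  · simp only [w, Fin.cons_zero]; fun_prop
  · simp only [w, Fin.cons_succ]
    split_ifs <;> fun_prop

noncomputable def Phi (x : Fin (m + 1) → G) (k : ℕ) (g : G) : ℝ :=
  ∫ u, ψ (w x k u g) ∂(Measure.pi fun _ : Fin m => μ)

lemma Phi_step (hψc : Continuous ψ) (hψ : ∀ (i j : Fin (m + 1)), i ≠ j →
    ∀ (x : Fin (m + 1) → G) (a b c : G),
      ψ (Function.update (Function.update x i (a + b)) j c) + ψ (Function.update (Function.update x i a) j b) =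
        ψ (Function.update (Function.update x i a) j (b + c)) + ψ (Function.update (Function.update x i b) j c))
    (x : Fin (m + 1) → G) (k : Fin m) (g : G) :
    Phi μ ψ x k g = Phi μ ψ x (k + 1) g + Phi μ ψ x (k + 1) (x k.succ)
      - Phi μ ψ x (k + 1) (g + x k.succ) := by
  set b := x k.succ with hb
  have hupd : ∀ (u : Fin m → G) (a : G),
      Function.update (Function.update (w x (k + 1) u g) 0 a) k.succ (u k) = w x (k + 1) u a := by
    intro u a; funext i
    refine Fin.cases ?_ (fun j => ?_) i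
    · simp [w, (Fin.succ_ne_zero k).symm]
    · by_cases hjk : j = k
      · subst hjk; simp [w]
      · simp [w, Fin.succ_inj, hjk, Fin.succ_ne_zero]
  have hold : ∀ u : Fin m → G,
      Function.update (Function.update (w x (k + 1) u g) 0 g) k.succ b = w x k u g := by
    intro u; funext i
    refine Fin.cases ?_ (fun j => ?_) i
    · simp [w, (Fin.succ_ne_zero k).symm]
    · by_cases hjk : j = k
      · subst hjk; simp [w, hb]
      · have : (j : ℕ) ≠ k := fun h => hjk (Fin.ext h)
        have h2 : (j : ℕ) < k + 1 ↔ (j : ℕ) < k := by omega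
        have h3 : j ≤ k ↔ j < k := ⟨fun h => lt_of_le_of_ne h hjk, le_of_lt⟩
        simp [w, Fin.succ_inj, hjk, Fin.succ_ne_zero, h2, h3]
  have hsh : ∀ u : Fin m → G,
      Function.update (Function.update (w x (k + 1) u g) 0 g) k.succ (b + u k) =
        w x (k + 1) (u + Pi.single k b) g := by
    intro u; funext i
    refine Fin.cases ?_ (fun j => ?_) i
    · simp [w, (Fin.succ_ne_zero k).symm]
    · by_cases hjk : j = k
      · subst hjk; simp [w, add_comm]
      · simp [w, Fin.succ_inj, hjk, Fin.succ_ne_zero]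
  have key : ∀ u : Fin m → G, ψ (w x k u g) = ψ (w x (k + 1) (u + Pi.single k b) g)
      + ψ (w x (k + 1) u b) - ψ (w x (k + 1) u (g + b)) := by
    intro u
    have := hψ 0 k.succ (Fin.succ_ne_zero k).symm (w x (k + 1) u g) g b (u k)
    rw [hupd, hupd, hold, hsh] at this
    linarith
  set ν := Measure.pi fun _ : Fin m => μ
  have i1 := integrable_pi ν (cont_w ψ x (k + 1) g hψc)
  have i1' : Integrable (fun u => ψ (w x (k + 1) (u + Pi.single k b) g)) ν :=
    integrable_pi ν ((cont_w ψ x (k + 1) g hψc).comp (continuous_add_const _))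
  have i2 := integrable_pi ν (cont_w ψ x (k + 1) b hψc)
  have i3 := integrable_pi ν (cont_w ψ x (k + 1) (g + b) hψc)
  have e1 : ∫ u, ψ (w x (k + 1) (u + Pi.single k b) g) ∂ν = ∫ u, ψ (w x (k + 1) u g) ∂ν :=
    integral_add_right_eq_self (fun u => ψ (w x (k + 1) u g)) _
  unfold Phi
  show ∫ u, ψ (w x k u g) ∂ν = (∫ u, ψ (w x (k + 1) u g) ∂ν) + (∫ u, ψ (w x (k + 1) u b) ∂ν)
    - ∫ u, ψ (w x (k + 1) u (g + b)) ∂ν
  simp only [key]
  have h12 : Integrable (fun u => ψ (w x (k + 1) (u + Pi.single k b) g) + ψ (w x (k + 1) u b)) ν := i1'.add i2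
  rw [integral_sub h12 i3, integral_add i1' i2, e1]

lemma expand (hψc : Continuous ψ) (hψ : ∀ (i j : Fin (m + 1)), i ≠ j →
    ∀ (x : Fin (m + 1) → G) (a b c : G),
      ψ (Function.update (Function.update x i (a + b)) j c) + ψ (Function.update (Function.update x i a) j b) =
        ψ (Function.update (Function.update x i a) j (b + c)) + ψ (Function.update (Function.update x i b) j c))
    (x : Fin (m + 1) → G) : ∀ k, k ≤ m →
      ψ x = T (Finset.univ.filter fun i : Fin (m + 1) => (i : ℕ) ≤ k) x (Phi μ ψ x k) + Phi μ ψ x k 0 := by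
  intro k
  induction k with
  | zero =>
    intro _
    have hs : (Finset.univ.filter fun i : Fin (m + 1) => (i : ℕ) ≤ 0) = {0} := by
      ext i
      simp only [Finset.mem_filter, Finset.mem_univ, true_and, Finset.mem_singleton, Nat.le_zero, Fin.val_eq_zero_iff]
    have hw : ∀ u, w x 0 u (x 0) = x := fun u => by
      funext i
      refine Fin.cases ?_ (fun j => ?_) i
      · simp only [w, Fin.cons_zero]
      · simp only [w, Fin.cons_succ, Nat.not_lt_zero, if_false]
    have hP : Phi μ ψ x 0 (x 0) = ψ x := by simp [Phi, hw]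
    rw [hs, T, show ({0} : Finset (Fin (m + 1))) = insert 0 ∅ from rfl,
      Finset.sum_powerset_insert (by simp), Finset.powerset_empty]
    simp [hP]
    try ring
  | succ k ih =>
    intro hk
    let kk : Fin m := ⟨k, by omega⟩
    have hs : (Finset.univ.filter fun i : Fin (m + 1) => (i : ℕ) ≤ k + 1) =
        insert kk.succ (Finset.univ.filter fun i : Fin (m + 1) => (i : ℕ) ≤ k) := by
      ext i
      simp only [Finset.mem_filter, Finset.mem_univ, true_and, Finset.mem_insert, Fin.ext_iff,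
        Fin.val_succ, kk]
      omega
    rw [ih (by omega), hs]
    refine T_step _ ⟨0, by simp⟩ kk.succ ?_ x _ _ (fun g => Phi_step μ ψ hψc hψ x kk g)
    simp [kk]

lemma unique_phi {φ : G → ℝ} (hφc : Continuous φ)
    (hφ : ∀ x : Fin (m + 1) → G, ψ x = ∑ I ∈ ((Finset.univ : Finset (Fin (m + 1))).powerset.erase ∅),
      (-1 : ℝ) ^ (m + 1 + I.card) * φ (∑ i ∈ I, x i)) (g : G) :
    ∫ u, ψ (Fin.cons g u) ∂(Measure.pi fun _ : Fin m => μ) = (-1 : ℝ) ^ m * φ g := by
  classical
  set ν := Measure.pi fun _ : Fin m => μ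
  set c := ∫ a, φ a ∂μ
  simp only [hφ]
  have hcons : Continuous fun u : Fin m → G => (Fin.cons g u : Fin (m + 1) → G) := by
    refine continuous_pi fun i => ?_
    refine Fin.cases ?_ (fun j => ?_) i <;> simp <;> fun_prop
  have hh : ∀ I : Finset (Fin (m + 1)), Continuous fun u : Fin m → G =>
      ∑ i ∈ I, (Fin.cons g u : Fin (m + 1) → G) i := fun I =>
    continuous_finsetSum _ fun i _ => (continuous_apply i).comp hcons
  have hint : ∀ I ∈ ((Finset.univ : Finset (Fin (m + 1))).powerset.erase ∅), Integrable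
      (fun u => (-1 : ℝ) ^ (m + 1 + I.card) * φ (∑ i ∈ I, (Fin.cons g u : Fin (m + 1) → G) i)) ν :=
    fun I _ => integrable_pi ν (continuous_const.mul (hφc.comp (hh I)))
  rw [integral_finsetSum _ hint]
  have hI : ∀ I ∈ ((Finset.univ : Finset (Fin (m + 1))).powerset.erase ∅),
      ∫ u, (-1 : ℝ) ^ (m + 1 + I.card) * φ (∑ i ∈ I, (Fin.cons g u : Fin (m + 1) → G) i) ∂ν =
        (-1 : ℝ) ^ (m + 1 + I.card) * c +
          if I = {0} then (-1 : ℝ) ^ (m + 1 + I.card) * (φ g - c) else 0 := by
    intro I hI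
    rw [integral_const_mul]
    by_cases h0 : I = {0}
    · subst h0
      simp [mul_sub]
    · rw [if_neg h0, add_zero]
      congr 1
      obtain ⟨i, hi, hi0⟩ : ∃ i ∈ I, i ≠ 0 := by
        by_contra hcon
        push Not at hcon
        have hne : I.Nonempty := Finset.nonempty_iff_ne_empty.2 (Finset.mem_erase.1 hI).1
        exact h0 (Finset.eq_singleton_iff_nonempty_unique_mem.2 ⟨hne, hcon⟩)
      obtain ⟨j, rfl⟩ := Fin.exists_succ_eq.2 hi0
      refine integral_shift μ hφc _ (hh I) j fun u a => ?_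
      have hsplit : (Fin.cons g (u + Pi.single j a) : Fin (m + 1) → G) =
          Fin.cons g u + Pi.single j.succ a := by
        funext l
        refine Fin.cases ?_ (fun l' => ?_) l
        · simp [Pi.single_eq_of_ne (Fin.succ_ne_zero j).symm]
        · by_cases hl : l' = j
          · subst hl; simp
          · simp [Pi.single_eq_of_ne, hl, Fin.succ_inj]
      simp only [hsplit, Pi.add_apply, Finset.sum_add_distrib, Finset.sum_pi_single', if_pos hi]
  rw [Finset.sum_congr rfl hI, Finset.sum_add_distrib, Finset.sum_ite_eq' _ ({0} : Finset (Fin (m + 1))),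
    if_pos (by simp), ← Finset.sum_mul]
  have hsum : ∑ I ∈ ((Finset.univ : Finset (Fin (m + 1))).powerset.erase ∅),
      (-1 : ℝ) ^ (m + 1 + I.card) = (-1 : ℝ) ^ m := by
    have h1 : ∀ I : Finset (Fin (m + 1)), (-1 : ℝ) ^ (m + 1 + I.card) =
        (-1 : ℝ) ^ m * (-1 : ℝ) ^ (I.card + 1) := fun I => by
      rw [← pow_add, add_right_comm, add_assoc]
    rw [Finset.sum_erase_eq_sub (by simp), Finset.card_empty, add_zero]
    simp only [h1, ← Finset.mul_sum, sum_sign _ (Finset.univ_nonempty (α := Fin (m + 1))), mul_zero]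
    rw [pow_succ]; ring
  rw [hsum, Finset.card_singleton, pow_succ, pow_succ]
  ring

end Cocycle

/-- Let G be a compact Hausdorff commutative topological group, written additively, μ its Haar measure
of total mass 1, m ≥ 1 an integer and ψ : G^{m+1} → ℝ a continuous function which is a 2-cocycle
with respect to every pair of variables: for all positions i ≠ j, every point x of G^{m+1} and all
a, b, c in G, writing x[i ↦ a, j ↦ c] for x with its i-th coordinate replaced by a and its j-th by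
c, one has ψ(x[i ↦ a+b, j ↦ c]) + ψ(x[i ↦ a, j ↦ b]) = ψ(x[i ↦ a, j ↦ b+c]) + ψ(x[i ↦ b, j ↦ c]).
Let φ : G → ℝ be φ(g) = (−1)^m ∫_{G^m} ψ(g, u_1, …, u_m) dμ^{⊗m}(u). Then ψ is the (m+1)-st
deviation of φ, namely ψ(x) = Σ_{∅ ≠ I ⊆ {0,…,m}} (−1)^{m+1+|I|} φ(Σ_{i ∈ I} x_i) for every x; φ is
continuous; and φ is the unique continuous function G → ℝ with this property. -/
theorem result {G : Type u} [AddCommGroup G] [TopologicalSpace G] [IsTopologicalAddGroup G] [CompactSpace G] [T2Space G]
    [MeasurableSpace G] [BorelSpace G] (μ : MeasureTheory.Measure G) [μ.IsAddHaarMeasure] [MeasureTheory.IsProbabilityMeasure μ]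
    (m : ℕ) (hm : 1 ≤ m) (ψ : (Fin (m + 1) → G) → ℝ) (hψc : Continuous ψ)
    (hψ : ∀ (i j : Fin (m + 1)), i ≠ j → ∀ (x : Fin (m + 1) → G) (a b c : G),
      ψ (Function.update (Function.update x i (a + b)) j c) + ψ (Function.update (Function.update x i a) j b) =
        ψ (Function.update (Function.update x i a) j (b + c)) + ψ (Function.update (Function.update x i b) j c)) :
    (∀ x : Fin (m + 1) → G,
      ψ x = ∑ I ∈ ((Finset.univ : Finset (Fin (m + 1))).powerset.erase ∅),
        (-1 : ℝ) ^ (m + 1 + I.card) * ((-1 : ℝ) ^ m *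
          ∫ u, ψ (Fin.cons (∑ i ∈ I, x i) u) ∂(MeasureTheory.Measure.pi (fun _ : Fin m => μ)))) ∧
    Continuous (fun g : G => (-1 : ℝ) ^ m * ∫ u, ψ (Fin.cons g u) ∂(MeasureTheory.Measure.pi (fun _ : Fin m => μ))) ∧
    (∀ φ : G → ℝ, Continuous φ → (∀ x : Fin (m + 1) → G,
      ψ x = ∑ I ∈ ((Finset.univ : Finset (Fin (m + 1))).powerset.erase ∅), (-1 : ℝ) ^ (m + 1 + I.card) * φ (∑ i ∈ I, x i)) →
      φ = fun g => (-1 : ℝ) ^ m * ∫ u, ψ (Fin.cons g u) ∂(MeasureTheory.Measure.pi (fun _ : Fin m => μ))) := by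
  set ν := MeasureTheory.Measure.pi (fun _ : Fin m => μ) with hν
  have hcont : Continuous fun g : G => (-1 : ℝ) ^ m * ∫ u, ψ (Fin.cons g u) ∂ν :=
    continuous_const.mul (continuous_integral ν (hψc.comp (continuous_pi fun i => by
      refine Fin.cases ?_ (fun j => ?_) i <;> simp <;> fun_prop)))
  refine ⟨fun x => ?_, hcont, fun φ hφc hφ => ?_⟩
  · have h := expand μ ψ hψc hψ x m le_rfl
    have hs : (Finset.univ.filter fun i : Fin (m + 1) => (i : ℕ) ≤ m) = Finset.univ :=
      Finset.filter_true_of_mem fun i _ => Nat.lt_succ_iff.1 i.isLt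
    rw [hs] at h
    have hPhi : ∀ g, Phi μ ψ x m g = ∫ u, ψ (Fin.cons g u) ∂ν := fun g => by
      simp [Phi, w, hν]
    rw [h, T, Finset.sum_erase_eq_sub (by simp)]
    simp only [hPhi]
    have hsign : ∀ (c : ℕ) (r : ℝ), (-1 : ℝ) ^ (m + 1 + c) * ((-1 : ℝ) ^ m * r) = (-1 : ℝ) ^ (c + 1) * r :=
      fun c r => by
        rw [← mul_assoc, ← pow_add, show m + 1 + c + m = (c + 1) + 2 * m by ring, pow_add, pow_mul]
        simp
    simp only [hsign]
    simp
  · funext g
    rw [unique_phi μ ψ hφc hφ g, ← mul_assoc, ← mul_pow]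
    simp


end Groth.Agent.S14297
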