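import Groth.Statements.S14305
import Mathlib

set_option autoImplicit false
universe u v
open PtDeg

namespace Groth.Agent.S14305

variable {A : Type u} {G : Type v} [AddCommGroup A] [AddCommGroup G]

open Classical in
noncomputable def ext' (f : A → G) {ι : Type} (x : ι → A) (I : Finset ι) : G :=
  if I = ∅ then 0 else f (∑ i ∈ I, x i)

theorem sum_erase_eq (f : A → G) {n : ℕ} (m : ℕ) (x : Fin n → A) :
    (∑ I ∈ ((Finset.univ : Finset (Fin n)).powerset.erase ∅), ((-1 : ℤ) ^ (m + I.card)) • f (∑ i ∈ I, x i)) =
      ∑ I ∈ (Finset.univ : Finset (Fin n)).powerset, ((-1 : ℤ) ^ (m + I.card)) • ext' f x I := by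
  rw [← Finset.sum_erase (a := (∅ : Finset (Fin n))) Finset.univ.powerset (by simp [ext'])]
  refine Finset.sum_congr rfl fun I hI => ?_
  rw [ext', if_neg (Finset.mem_erase.mp hI).1]

theorem key (f : A → G) {n : ℕ} (j : Fin n) (y : Fin n → A) (a b : A) :
    (∑ I ∈ (Finset.univ : Finset (Fin (n + 1))).powerset,
      ((-1 : ℤ) ^ (n + 1 + I.card)) • ext' f (Fin.cons a (Function.update y j b)) I) =
    (∑ I ∈ (Finset.univ : Finset (Fin n)).powerset, ((-1 : ℤ) ^ (n + I.card)) • ext' f (Function.update y j (a + b)) I) -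
    (∑ I ∈ (Finset.univ : Finset (Fin n)).powerset, ((-1 : ℤ) ^ (n + I.card)) • ext' f (Function.update y j a) I) -
    (∑ I ∈ (Finset.univ : Finset (Fin n)).powerset, ((-1 : ℤ) ^ (n + I.card)) • ext' f (Function.update y j b) I) := by
  classical
  let U : Finset (Fin n) := Finset.univ.erase j
  have hu : (Finset.univ : Finset (Fin n)) = insert j U := (Finset.insert_erase (Finset.mem_univ j)).symm
  have hu' : (Finset.univ : Finset (Fin (n + 1))) = insert 0 ((Finset.univ : Finset (Fin n)).image Fin.succ) := by
    ext i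
    simp only [Finset.mem_univ, Finset.mem_insert, Finset.mem_image, true_and, true_iff]
    exact Fin.cases (Or.inl rfl) (fun i => Or.inr ⟨i, rfl⟩) i
  have hj : j ∉ U := Finset.notMem_erase j _
  rw [hu', Finset.sum_powerset_insert (by simp [Fin.succ_ne_zero]), Finset.powerset_image,
    Finset.sum_image (fun I _ J _ h => Finset.image_injective (Fin.succ_injective n) h),
    Finset.sum_image (fun I _ J _ h => Finset.image_injective (Fin.succ_injective n) h), hu,
    Finset.sum_powerset_insert hj, Finset.sum_powerset_insert hj, Finset.sum_powerset_insert hj,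
    Finset.sum_powerset_insert hj, Finset.sum_powerset_insert hj]
  simp only [← Finset.sum_add_distrib, ← Finset.sum_sub_distrib]
  refine Finset.sum_congr rfl fun J hJ => ?_
  rw [Finset.mem_powerset] at hJ
  have hjJ : j ∉ J := fun h => hj (hJ h)
  have h0 : ∀ K : Finset (Fin n), (0 : Fin (n + 1)) ∉ K.image Fin.succ := fun K => by simp [Fin.succ_ne_zero]
  have hcard : ∀ K : Finset (Fin n), (K.image Fin.succ).card = K.card := fun K =>
    Finset.card_image_of_injective K (Fin.succ_injective n)
  have e1 : ∀ c : A, ext' f (Function.update y j c) J = ext' f y J := fun c => by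
    simp only [ext']
    split_ifs with h
    · rfl
    · rw [Finset.sum_congr rfl fun i hi => Function.update_of_ne (by rintro rfl; exact hjJ hi) c y]
  have e2 : ∀ c : A, ext' f (Function.update y j c) (insert j J) = f (c + ∑ i ∈ J, y i) := fun c => by
    rw [ext', if_neg (Finset.insert_ne_empty j J), Finset.sum_insert hjJ, Function.update_self,
      Finset.sum_congr rfl fun i hi => Function.update_of_ne (by rintro rfl; exact hjJ hi) c y]
  have e3 : ∀ K : Finset (Fin n),
      ext' f (Fin.cons a (Function.update y j b) : Fin (n + 1) → A) (K.image Fin.succ) = ext' f (Function.update y j b) K :=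
    fun K => by
      simp only [ext', Finset.image_eq_empty]
      split_ifs with h
      · rfl
      · rw [Finset.sum_image fun i _ i' _ h => Fin.succ_injective n h]
        simp
  have e4 : ∀ K : Finset (Fin n),
      ext' f (Fin.cons a (Function.update y j b) : Fin (n + 1) → A) (insert 0 (K.image Fin.succ)) =
        f (a + ∑ i ∈ K, Function.update y j b i) := fun K => by
    rw [ext', if_neg (Finset.insert_ne_empty _ _), Finset.sum_insert (h0 K), Finset.sum_image fun i _ i' _ h => Fin.succ_injective n h]
    simp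
  have e5 : ∑ i ∈ J, Function.update y j b i = ∑ i ∈ J, y i :=
    Finset.sum_congr rfl fun i hi => Function.update_of_ne (by rintro rfl; exact hjJ hi) b y
  have e6 : ∑ i ∈ insert j J, Function.update y j b i = b + ∑ i ∈ J, y i := by
    rw [Finset.sum_insert hjJ, Function.update_self, e5]
  simp only [e1, e2, e3, e4, e5, e6, hcard, Finset.card_insert_of_notMem (h0 J), Finset.card_insert_of_notMem (h0 _),
    Finset.card_insert_of_notMem hjJ, pow_succ, pow_add, add_assoc a b]
  module

/-- Let A and G be abelian groups, written additively, f : A → G a map and n ≥ 1. For k ≥ 0 the k-th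
deviation of f is the map A^k → G, (y_1, …, y_k) ↦ Σ_{∅ ≠ I ⊆ {1,…,k}} (−1)^{k+|I|} f(Σ_{i ∈ I}
y_i). Then f is pointed of degree n, meaning that its (n+1)-st deviation vanishes identically, if
and only if its n-th deviation is additive in each variable separately (with the other variables
fixed). -/
theorem result {A : Type u} {G : Type v} [AddCommGroup A] [AddCommGroup G]
    (f : A → G) (n : ℕ) (hn : 1 ≤ n) :
    (∀ x : Fin (n + 1) → A, ∑ I ∈ ((Finset.univ : Finset (Fin (n + 1))).powerset.erase ∅), ((-1 : ℤ) ^ (n + 1 + I.card)) • f (∑ i ∈ I, x i) = 0) ↔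
      (∀ (j : Fin n) (y : Fin n → A) (a b : A),
        ∑ I ∈ ((Finset.univ : Finset (Fin n)).powerset.erase ∅), ((-1 : ℤ) ^ (n + I.card)) • f (∑ i ∈ I, (Function.update y j (a + b)) i) =
          ∑ I ∈ ((Finset.univ : Finset (Fin n)).powerset.erase ∅), ((-1 : ℤ) ^ (n + I.card)) • f (∑ i ∈ I, (Function.update y j a) i) + ∑ I ∈ ((Finset.univ : Finset (Fin n)).powerset.erase ∅), ((-1 : ℤ) ^ (n + I.card)) • f (∑ i ∈ I, (Function.update y j b) i)) := by
  classical
  simp only [sum_erase_eq]
  constructor
  · intro h j y a b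
    have h1 := key f j y a b
    rw [h] at h1
    rw [eq_comm, sub_sub, sub_eq_zero] at h1
    exact h1
  · intro h x
    obtain ⟨m, rfl⟩ : ∃ m, n = m + 1 := ⟨n - 1, by omega⟩
    have h1 := key f 0 (Fin.tail x) (x 0) (x (Fin.succ 0))
    rw [show (Fin.cons (x 0) (Function.update (Fin.tail x) 0 (x (Fin.succ 0))) : Fin (m + 1 + 1) → A) = x by
      rw [show x (Fin.succ 0) = Fin.tail x 0 from rfl, Function.update_eq_self, Fin.cons_self_tail]] at h1
    rw [h1, h 0 (Fin.tail x) (x 0) (x (Fin.succ 0))]
    abel

end Groth.Agent.S14305
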