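import Groth.Statements.S14309
import Mathlib.RingTheory.MvPolynomial.Basic
import Mathlib.RingTheory.Ideal.Span
import Mathlib.Tactic.Ring

set_option autoImplicit false
universe u v w x y
open CAlg

namespace Groth.Agent.S14309
open MvPolynomial

/-- Let R be a commutative ring; A, B, C commutative R-algebras; i : A → B and j : A → C jointly
injective R-algebra maps; c a non-zero-divisor of B; u : C → B/(c) a ring map with u ∘ j equal to i
followed by reduction modulo c; ζ in A with i ζ = c and j ζ = 0; η : R[X_σ, Z] → A an R-algebra map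
with η(Z) = ζ; a : R[Y_τ] → B a surjective R-algebra map; η_Z : R[X_σ, Z] → R[Y_τ] a surjective
R-algebra map with a ∘ η_Z = i ∘ η. Fix c̃ in R[Y_τ] with a(c̃) = c, a family (p_h) generating the
kernel of the composite R[X_σ] → R[X_σ, Z] → A → C, a family (q'_h) generating the kernel of a
together with lifts q_h along η_Z, a family (v_h) generating the kernel of η_Z, and elements g'_h of
R[Y_τ] with η_Z(p_h) + g'_h c̃ in the ideal (q'_h), together with lifts g_h along η_Z. Then the
kernel of η is the ideal generated by the elements Z q_h, Z v_h and p_h + Z g_h. (The published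
statement is for the rings of cycle classes, with coefficients ℤ[1/6], of a smooth quotient stack, a
smooth closed substack whose normal bundle has top Chern class c a non-zero-divisor, and the open
complement; this row states the ring-theoretic content for any such square of commutative rings in
which A embeds in B × C.) -/
theorem result
    {R : Type u} [CommRing R] {A : Type v} {B : Type w} {C : Type x}
    [CommRing A] [CommRing B] [CommRing C] [Algebra R A] [Algebra R B] [Algebra R C]
    (i : A →ₐ[R] B) (j : A →ₐ[R] C)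
    (hinj : ∀ t : A, i t = 0 → j t = 0 → t = 0)
    (c : B) (hc : c ∈ nonZeroDivisors B) (u : C →+* B ⧸ Ideal.span ({c} : Set B))
    (hu : ∀ t : A, u (j t) = Ideal.Quotient.mk (Ideal.span ({c} : Set B)) (i t))
    (ζ : A) (hiζ : i ζ = c) (hjζ : j ζ = 0)
    {σ τ ιp ιq ιv : Type y}
    (η : MvPolynomial (Option σ) R →ₐ[R] A) (hη : η (MvPolynomial.X none) = ζ)
    (a : MvPolynomial τ R →ₐ[R] B) (ha : Function.Surjective a)
    (ηZ : MvPolynomial (Option σ) R →ₐ[R] MvPolynomial τ R)
    (hcomm : ∀ t, a (ηZ t) = i (η t)) (hηZ : Function.Surjective ηZ)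
    (cZ : MvPolynomial τ R) (hcZ : a cZ = c)
    (p : ιp → MvPolynomial σ R)
    (hp : Ideal.span (Set.range p) =
      RingHom.ker ((j.comp η).comp (MvPolynomial.rename (Option.some : σ → Option σ))))
    (q' : ιq → MvPolynomial τ R) (hq' : Ideal.span (Set.range q') = RingHom.ker a)
    (q : ιq → MvPolynomial (Option σ) R) (hq : ∀ h, ηZ (q h) = q' h)
    (v : ιv → MvPolynomial (Option σ) R) (hv : Ideal.span (Set.range v) = RingHom.ker ηZ)
    (g' : ιp → MvPolynomial τ R)
    (hg' : ∀ h, ηZ (MvPolynomial.rename (Option.some : σ → Option σ) (p h)) + g' h * cZ ∈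
      Ideal.span (Set.range q'))
    (g : ιp → MvPolynomial (Option σ) R) (hg : ∀ h, ηZ (g h) = g' h) :
    RingHom.ker η = Ideal.span
      (Set.range (fun h : ιq => MvPolynomial.X none * q h) ∪
        Set.range (fun h : ιv => MvPolynomial.X none * v h) ∪
        Set.range (fun h : ιp =>
          MvPolynomial.rename (Option.some : σ → Option σ) (p h) + MvPolynomial.X none * g h)) := by
  let S := MvPolynomial (Option σ) R
  let Z : S := X none
  let r : MvPolynomial σ R →ₐ[R] S := rename (Option.some : σ → Option σ)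
  let W : Ideal S := Ideal.span
      (Set.range (fun h : ιq => Z * q h) ∪ Set.range (fun h : ιv => Z * v h) ∪ Set.range (fun h : ιp => r (p h) + Z * g h))
  have hiZ : ∀ t, i (η (Z * t)) = c * a (ηZ t) := fun t => by
    rw [map_mul, map_mul, hη, hiζ, hcomm]
  have hjZ : ∀ t, j (η (Z * t)) = 0 := fun t => by rw [map_mul, map_mul, hη, hjζ, zero_mul]
  have hqk : ∀ h, a (q' h) = 0 := fun h => by
    have : q' h ∈ RingHom.ker a := hq' ▸ Ideal.subset_span ⟨h, rfl⟩
    exact this
  refine le_antisymm ?_ (Ideal.span_le.2 ?_)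
  · intro t ht
    obtain ⟨t₀, w, rfl⟩ : ∃ (t₀ : MvPolynomial σ R) (w : S), t = r t₀ + Z * w := by
      clear ht
      induction t using MvPolynomial.induction_on with
      | C x => exact ⟨MvPolynomial.C x, 0, by simp [r]⟩
      | add u v hu hv =>
        obtain ⟨u₀, u₁, rfl⟩ := hu
        obtain ⟨v₀, v₁, rfl⟩ := hv
        exact ⟨u₀ + v₀, u₁ + v₁, by rw [map_add]; ring⟩
      | mul_X u o hu =>
        obtain ⟨u₀, u₁, rfl⟩ := hu
        cases o with
        | none => exact ⟨0, r u₀ + Z * u₁, by simp only [map_zero]; ring⟩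
        | some s => exact ⟨u₀ * X s, u₁ * X (some s), by rw [map_mul, rename_X]; ring⟩
    rw [RingHom.mem_ker] at ht
    have hW : ∀ h, r (p h) + Z * g h ∈ W := fun h => Ideal.subset_span (Or.inr ⟨h, rfl⟩)
    have hker : t₀ ∈ Ideal.span (Set.range p) := by
      rw [hp, RingHom.mem_ker]
      have := congrArg j ht
      rw [map_add, map_add, hjZ, add_zero, map_zero] at this
      exact this
    obtain ⟨w', hw'⟩ : ∃ w' : S, r t₀ + Z * w' ∈ W := by
      clear ht
      refine Submodule.span_induction (p := fun x _ => ∃ w', r x + Z * w' ∈ W) ?_ ⟨0, by simp⟩ ?_ ?_ hker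
      · rintro _ ⟨h, rfl⟩
        exact ⟨g h, hW h⟩
      · rintro x y _ _ ⟨u, hu⟩ ⟨u', hu'⟩
        exact ⟨u + u', by have := add_mem hu hu'; rw [map_add]; convert! this using 1; ring⟩
      · rintro b x _ ⟨u, hu⟩
        exact ⟨r b * u, by have := W.mul_mem_left (r b) hu; rw [smul_eq_mul, map_mul]; convert! this using 1; ring⟩
    have hsub : Z * (w - w') ∈ W := by
      have hWker : W ≤ RingHom.ker η := by
        refine Ideal.span_le.2 ?_
        rintro _ ((⟨h, rfl⟩ | ⟨h, rfl⟩) | ⟨h, rfl⟩) <;> refine hinj _ ?_ ?_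
        · rw [hiZ, hq, hqk, mul_zero]
        · exact hjZ _
        · have : v h ∈ RingHom.ker ηZ := hv ▸ Ideal.subset_span ⟨h, rfl⟩
          rw [hiZ, RingHom.mem_ker.1 this, map_zero, mul_zero]
        · exact hjZ _
        · have h1 : a (ηZ (r (p h)) + g' h * cZ) = 0 := by
            have := hg' h
            rw [hq'] at this
            exact this
          rw [map_add, map_mul, hcZ, hcomm] at h1
          rw [map_add, map_add, hiZ, hg, mul_comm c]
          exact h1
        · have : p h ∈ RingHom.ker ((j.comp η).comp r) := hp ▸ Ideal.subset_span ⟨h, rfl⟩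
          rw [map_add, map_add, hjZ, add_zero]
          exact this
      have h0 : η (Z * (w - w')) = 0 := by
        rw [show Z * (w - w') = (r t₀ + Z * w) - (r t₀ + Z * w') by ring, map_sub, ht, hWker hw', sub_zero]
      have h1 : a (ηZ (w - w')) = 0 := by
        have := congrArg i h0
        rw [hiZ, map_zero] at this
        exact (mem_nonZeroDivisors_iff_left.1 hc) _ this
      have h2 : ηZ (w - w') ∈ (Ideal.span (Set.range q)).map ηZ.toRingHom := by
        rw [Ideal.map_span, ← Set.range_comp, show ηZ.toRingHom ∘ q = q' from funext hq, hq']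
        exact h1
      have h3 : w - w' ∈ Ideal.span (Set.range q) ⊔ Ideal.span (Set.range v) := by
        rw [hv]
        have := Ideal.mem_comap.2 h2 |> fun h => (h : w - w' ∈ ((Ideal.span (Set.range q)).map ηZ.toRingHom).comap ηZ.toRingHom)
        rw [Ideal.comap_map_of_surjective ηZ.toRingHom hηZ, ← RingHom.ker_eq_comap_bot] at this
        exact this
      obtain ⟨x, hx, y, hy, hxy⟩ := Submodule.mem_sup.1 h3
      rw [← hxy, mul_add]
      refine add_mem ?_ ?_
      · refine Submodule.span_induction (p := fun x _ => Z * x ∈ W) ?_ (by simp) ?_ ?_ hx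
        · rintro _ ⟨h, rfl⟩; exact Ideal.subset_span (Or.inl (Or.inl ⟨h, rfl⟩))
        · intro a b _ _ ha hb; rw [mul_add]; exact add_mem ha hb
        · intro b x _ hx; rw [smul_eq_mul, mul_left_comm]; exact W.mul_mem_left b hx
      · refine Submodule.span_induction (p := fun x _ => Z * x ∈ W) ?_ (by simp) ?_ ?_ hy
        · rintro _ ⟨h, rfl⟩; exact Ideal.subset_span (Or.inl (Or.inr ⟨h, rfl⟩))
        · intro a b _ _ ha hb; rw [mul_add]; exact add_mem ha hb
        · intro b x _ hx; rw [smul_eq_mul, mul_left_comm]; exact W.mul_mem_left b hx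
    show r t₀ + Z * w ∈ W
    rw [show r t₀ + Z * w = (r t₀ + Z * w') + Z * (w - w') by ring]
    exact add_mem hw' hsub
  · rintro _ ((⟨h, rfl⟩ | ⟨h, rfl⟩) | ⟨h, rfl⟩) <;> refine hinj _ ?_ ?_
    · rw [hiZ, hq, hqk, mul_zero]
    · exact hjZ _
    · have : v h ∈ RingHom.ker ηZ := hv ▸ Ideal.subset_span ⟨h, rfl⟩
      rw [hiZ, RingHom.mem_ker.1 this, map_zero, mul_zero]
    · exact hjZ _
    · have h1 : a (ηZ (r (p h)) + g' h * cZ) = 0 := by
        have := hg' h
        rw [hq'] at this
        exact this
      rw [map_add, map_mul, hcZ, hcomm] at h1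
      show i (η (r (p h) + Z * g h)) = 0
      rw [map_add, map_add, hiZ, hg, mul_comm c]
      exact h1
    · have : p h ∈ RingHom.ker ((j.comp η).comp r) := hp ▸ Ideal.subset_span ⟨h, rfl⟩
      show j (η (r (p h) + Z * g h)) = 0
      rw [map_add, map_add, hjZ, add_zero]
      exact this

end Groth.Agent.S14309
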