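import Mathlib
import Groth.Agent.PSQuad.Hypersurface
import Groth.Agent.ArSingLib.Basic
import Groth.Agent.ComodLib.PSAut
import Groth.Statements.S14310
-- import your own Groth.Agent.* helpers here

set_option autoImplicit false
universe u
open ArSing

noncomputable section

namespace Groth.Agent.S14310

section helpers

open Finsupp Groth.Agent

variable {k : Type u} [Field k]

local notation "P" => MvPowerSeries (Fin 2) k
local notation "Poly" => MvPolynomial (Fin 2) k

/-- Restriction to the first axis. -/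
def axis : P →+* PowerSeries k where
  toFun f := PowerSeries.mk fun m => MvPowerSeries.coeff (single (0 : Fin 2) m) f
  map_one' := by
    ext m
    classical
    simp [MvPowerSeries.coeff_one, PowerSeries.coeff_one]
  map_zero' := by ext m; simp
  map_add' f g := by ext m; simp
  map_mul' f g := by
    classical
    ext m
    rw [PowerSeries.coeff_mk, MvPowerSeries.coeff_mul, PowerSeries.coeff_mul, Finsupp.antidiagonal_single,
      Finset.sum_map]
    refine Finset.sum_congr rfl fun x _ => ?_
    simp

lemma axis_eq_zero_iff (f : P) : axis f = 0 ↔ (MvPowerSeries.X 1 : P) ∣ f := by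
  rw [MvPowerSeries.X_dvd_iff]
  constructor
  · intro h m hm
    have : m = single 0 (m 0) := by
      ext i
      fin_cases i <;> simp [hm]
    rw [this]
    simpa [axis] using congrArg (PowerSeries.coeff (m 0)) h
  · intro h
    ext m
    simp [axis, h (single 0 m) (by simp)]

lemma prime_X_one : Prime (MvPowerSeries.X 1 : P) := by
  refine ⟨fun h => ?_, fun h => ?_, fun a b hab => ?_⟩
  · have := congrArg (MvPowerSeries.coeff (single (1 : Fin 2) 1)) h
    simp at this
  · rw [MvPowerSeries.isUnit_iff_constantCoeff] at h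
    simp at h
  · rw [← axis_eq_zero_iff, map_mul, mul_eq_zero] at hab
    simpa only [axis_eq_zero_iff] using hab

instance : IsDomain P := NoZeroDivisors.to_isDomain _

lemma vars_eq_max : PSLib.vars 2 k = IsLocalRing.maximalIdeal P := (PSLib.maximalIdeal_eq_vars k 2).symm

lemma mem_span_pair (y : Fin 2 → P) (i : Fin 2) : y i ∈ Ideal.span (Set.range y) :=
  Ideal.subset_span (Set.mem_range_self i)

lemma mem_sq_of_coeff {f : P} (h0 : MvPowerSeries.constantCoeff f = 0)
    (h1 : ∀ i, MvPowerSeries.coeff (single i 1) f = 0) : f ∈ PSLib.vars 2 k ^ 2 := by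
  refine PSLib.mem_pow_iff.mpr fun d hd => ?_
  rcases Nat.lt_or_ge (degree d) 1 with h | h
  · rw [(degree_eq_zero_iff d).mp (by omega), MvPowerSeries.coeff_zero_eq_constantCoeff_apply, h0]
  · have hd1 : d ∈ Set.range fun a : Fin 2 => single a 1 := by
      rw [Finsupp.range_single_one]
      show degree d = 1
      omega
    obtain ⟨i, rfl⟩ := hd1
    exact h1 i

lemma exists_coord (G : P) (h0 : MvPowerSeries.constantCoeff G = 0) (i : Fin 2)
    (hi : MvPowerSeries.coeff (single i 1) G ≠ 0) :
    ∃ e : P ≃ₐ[k] P, e (MvPowerSeries.X 1) = G := by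
  classical
  obtain ⟨A, B, hAB⟩ := ArSingLib.mv_decomp G
  rw [h0, map_zero, zero_add] at hAB
  let j : Fin 2 := if i = 0 then 1 else 0
  let y : Fin 2 → P := ![MvPowerSeries.X j, G]
  have hy : ∀ t, y t ∈ PSLib.vars 2 k := by
    intro t
    fin_cases t
    · exact Ideal.subset_span ⟨j, rfl⟩
    · exact PSLib.mem_vars_iff.mpr h0
  have hj : (MvPowerSeries.X j : P) ∈ Ideal.span (Set.range y) := mem_span_pair y 0
  have hG : G ∈ Ideal.span (Set.range y) := mem_span_pair y 1
  have hc : ∀ (C : P) (a : Fin 2), MvPowerSeries.coeff (single a 1) (MvPowerSeries.X a * C) =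
      MvPowerSeries.constantCoeff C := by
    intro C a
    rw [MvPowerSeries.X_def, MvPowerSeries.coeff_monomial_mul]
    simp
  have hc' : ∀ (C : P) (a b : Fin 2), a ≠ b →
      MvPowerSeries.coeff (single b 1) (MvPowerSeries.X a * C) = 0 := by
    intro C a b hab
    rw [MvPowerSeries.X_def, MvPowerSeries.coeff_monomial_mul]
    rw [if_neg]
    intro hle
    have := hle a
    simp [Ne.symm hab] at this
  have hXi : (MvPowerSeries.X i : P) ∈ Ideal.span (Set.range y) := by
    fin_cases i
    · have hu : IsUnit A := by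
        rw [MvPowerSeries.isUnit_iff_constantCoeff, isUnit_iff_ne_zero]
        intro hA
        refine hi ?_
        simp [hAB, hc, hc', hA]
      have : (MvPowerSeries.X 0 : P) = (G - MvPowerSeries.X 1 * B) * (↑hu.unit⁻¹ : P) := by
        rw [hAB, add_sub_cancel_right, mul_assoc, IsUnit.mul_val_inv, mul_one]
      show (MvPowerSeries.X 0 : P) ∈ _
      rw [this]
      exact Ideal.mul_mem_right _ _ (sub_mem hG (Ideal.mul_mem_right _ _ (by simpa [j] using hj)))
    · have hu : IsUnit B := by
        rw [MvPowerSeries.isUnit_iff_constantCoeff, isUnit_iff_ne_zero]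
        intro hB
        refine hi ?_
        simp [hAB, hc, hc', hB]
      have : (MvPowerSeries.X 1 : P) = (G - MvPowerSeries.X 0 * A) * (↑hu.unit⁻¹ : P) := by
        rw [hAB, add_sub_cancel_left, mul_assoc, IsUnit.mul_val_inv, mul_one]
      show (MvPowerSeries.X 1 : P) ∈ _
      rw [this]
      exact Ideal.mul_mem_right _ _ (sub_mem hG (Ideal.mul_mem_right _ _ (by simpa [j] using hj)))
  obtain ⟨e, he⟩ := ComodLib.PSAut.exists_algEquiv y hy (fun t => by
    fin_cases i <;> fin_cases t
    exacts [hXi, by simpa [j] using hj, by simpa [j] using hj, hXi])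
  exact ⟨e, he 1⟩

/-- An algebra isomorphic to `k[[x, y]]/(y^2)` has for equation the square of a smooth series. -/
lemma exists_square_eqn (F : P) (q : (P ⧸ Ideal.span {F}) ≃ₐ[k]
      (P ⧸ Ideal.span ({MvPowerSeries.X 1 ^ 2} : Set P))) :
    ∃ G : P, Prime G ∧ G ∉ PSLib.vars 2 k ^ 2 ∧ Associated (G ^ 2) F := by
  classical
  have hX2 : (MvPowerSeries.X 1 : P) ^ 2 ∈ PSLib.vars 2 k :=
    Ideal.pow_mem_of_mem _ (Ideal.subset_span (Set.mem_range_self 1)) 2 (by norm_num)
  haveI := PSQuad.isLocalRing_quot hX2
  have hF0 : F ∈ PSLib.vars 2 k := by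
    by_contra h
    have hu : IsUnit F := by
      rw [vars_eq_max] at h
      exact IsLocalRing.notMem_maximalIdeal.mp h
    haveI : Subsingleton (P ⧸ Ideal.span {F}) := Ideal.Quotient.subsingleton_iff.mpr
      (Ideal.span_singleton_eq_top.mpr hu)
    haveI := q.symm.toEquiv.subsingleton
    exact not_subsingleton (P ⧸ Ideal.span ({MvPowerSeries.X 1 ^ 2} : Set P)) ‹_›
  haveI := PSQuad.isLocalRing_quot hF0
  have hF2 : F ∈ PSLib.vars 2 k ^ 2 := by
    refine mem_sq_of_coeff (PSLib.mem_vars_iff.mp hF0) ?_
    by_contra h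
    push Not at h
    obtain ⟨i, hi⟩ := h
    obtain ⟨e, he⟩ := exists_coord F (PSLib.mem_vars_iff.mp hF0) i hi
    have hp : Prime F := he ▸ (MulEquiv.prime_iff e.toMulEquiv).mpr prime_X_one
    haveI : (Ideal.span {F}).IsPrime := (Ideal.span_singleton_prime hp.ne_zero).mpr hp
    have hz : q.symm (Ideal.Quotient.mk _ (MvPowerSeries.X 1)) = 0 := by
      have h1 : q.symm (Ideal.Quotient.mk _ (MvPowerSeries.X 1)) ^ 2 = 0 := by
        rw [← map_pow, ← map_pow, Ideal.Quotient.eq_zero_iff_mem.mpr (Ideal.mem_span_singleton_self _), map_zero]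
      exact pow_eq_zero_iff (n := 2) two_ne_zero |>.mp h1
    rw [map_eq_zero_iff _ q.symm.injective, Ideal.Quotient.eq_zero_iff_mem, Ideal.mem_span_singleton, sq] at hz
    have h2 := (mul_dvd_mul_iff_left prime_X_one.ne_zero).mp
      (show (MvPowerSeries.X 1 : P) * MvPowerSeries.X 1 ∣ MvPowerSeries.X 1 * 1 by simpa using hz)
    exact prime_X_one.not_unit (isUnit_of_dvd_one h2)
  let mg := Ideal.Quotient.mkₐ k (Ideal.span ({MvPowerSeries.X 1 ^ 2} : Set P))
  let mh := Ideal.Quotient.mkₐ k (Ideal.span {F})
  haveI := PSQuad.isAdicComplete_quot (k := k) (n := 2) (h := F)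
  choose v hv using fun i => Ideal.Quotient.mk_surjective (q.symm (mg (MvPowerSeries.X i)))
  have hvm : ∀ i, v i ∈ PSLib.vars 2 k := fun i => PSQuad.mem_vars_of_mk_mem (h := F) (by
    rw [hv]
    intro hu
    refine PSQuad.mk_mem_maximalIdeal (h := (MvPowerSeries.X 1 : P) ^ 2)
      (Ideal.subset_span ⟨i, rfl⟩) ?_
    have := hu.map q
    rwa [q.apply_symm_apply] at this)
  obtain ⟨φ, hφ⟩ := PSLib.exists_algHom (R := k) (PSLib.vars 2 k) v hvm
  have hφm : ∀ i, φ (MvPowerSeries.X i) ∈ PSLib.vars 2 k := fun i => (hφ i).symm ▸ hvm i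
  have hcomm : mh.comp φ = (q.symm : _ →ₐ[k] _).comp mg := by
    refine PSLib.algHom_ext (I := IsLocalRing.maximalIdeal (P ⧸ Ideal.span {F})) _ _
      (fun i => PSQuad.mk_mem_maximalIdeal (hφm i)) fun i => ?_
    show mh (φ (MvPowerSeries.X i)) = q.symm (mg (MvPowerSeries.X i))
    rw [hφ]
    exact hv i
  have hc : ∀ f, Ideal.Quotient.mk (Ideal.span {F}) (φ f) = q.symm (Ideal.Quotient.mk _ f) :=
    fun f => AlgHom.congr_fun hcomm f
  have hbij : Function.Bijective φ := by
    refine PSLib.bijective_of_first_order φ hφm fun j => ?_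
    obtain ⟨a, ha⟩ := Ideal.Quotient.mk_surjective (q (mh (MvPowerSeries.X j)))
    have ham : a ∈ PSLib.vars 2 k := PSQuad.mem_vars_of_mk_mem (h := (MvPowerSeries.X 1 : P) ^ 2) (by
      rw [ha]
      intro hu
      refine PSQuad.mk_mem_maximalIdeal (h := F) (Ideal.subset_span ⟨j, rfl⟩) ?_
      have := hu.map q.symm
      rwa [q.symm_apply_apply] at this)
    have hmem : φ a ∈ Ideal.span (Set.range fun i => φ (MvPowerSeries.X i)) := by
      obtain ⟨c, rfl⟩ := Ideal.mem_span_range_iff_exists_fun.1 ham
      simp only [map_sum, map_mul]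
      exact Ideal.sum_mem _ fun i _ => Ideal.mul_mem_left _ _ (Ideal.subset_span ⟨i, rfl⟩)
    rw [show (MvPowerSeries.X j : P) = φ a - (φ a - MvPowerSeries.X j) by ring]
    refine sub_mem (Submodule.mem_sup_left hmem) (Submodule.mem_sup_right ?_)
    refine Ideal.span_le.2 (Set.singleton_subset_iff.2 hF2) (Ideal.Quotient.eq.1 ?_)
    rw [hc, ha]
    exact q.symm_apply_apply _
  let e := AlgEquiv.ofBijective φ hbij
  refine ⟨φ (MvPowerSeries.X 1), (MulEquiv.prime_iff e.toMulEquiv).mpr prime_X_one, fun h => ?_, ?_⟩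
  · have hm : e.symm (φ (MvPowerSeries.X 1)) ∈ PSLib.vars 2 k ^ 2 := by
      have hmap : (IsLocalRing.maximalIdeal P).map (e.symm : P →+* P) = IsLocalRing.maximalIdeal P :=
        IsLocalRing.map_maximalIdeal_of_surjective _ e.symm.surjective
      rw [← vars_eq_max] at hmap
      rw [← hmap, ← Ideal.map_pow]
      exact Ideal.mem_map_of_mem _ h
    rw [show e.symm (φ (MvPowerSeries.X 1)) = MvPowerSeries.X 1 from e.symm_apply_apply _] at hm
    have := PSLib.mem_pow_iff.mp hm (single 1 1) (by simp)
    simp at this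
  · rw [← Ideal.span_singleton_eq_span_singleton]
    refine le_antisymm ?_ ?_
    · rw [Ideal.span_singleton_le_iff_mem, ← Ideal.Quotient.eq_zero_iff_mem, ← map_pow φ, hc,
        Ideal.Quotient.eq_zero_iff_mem.mpr (Ideal.mem_span_singleton_self _), map_zero]
    · rw [Ideal.span_singleton_le_iff_mem]
      obtain ⟨w, hw⟩ := hbij.2 F
      have h0 : Ideal.Quotient.mk (Ideal.span ({MvPowerSeries.X 1 ^ 2} : Set P)) w = 0 := by
        apply q.symm.injective
        rw [← hc, hw, map_zero, Ideal.Quotient.eq_zero_iff_mem]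
        exact Ideal.mem_span_singleton_self _
      obtain ⟨r, rfl⟩ := Ideal.mem_span_singleton.mp (Ideal.Quotient.eq_zero_iff_mem.mp h0)
      rw [← hw, map_mul, map_pow]
      exact Ideal.mul_mem_right _ _ (Ideal.mem_span_singleton_self _)

/-- Over a perfect field an irreducible polynomial has a non-zero partial derivative. -/
lemma exists_pderiv_ne_zero [IsAlgClosed k] {p : Poly} (hp : Irreducible p) :
    ∃ i, MvPolynomial.pderiv i p ≠ 0 := by
  classical
  by_contra h
  push Not at h
  have hdiv : ∀ m ∈ p.support, ∀ i, (m i : k) = 0 := by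
    intro m hm i
    by_contra hne
    have hmi : m i ≠ 0 := fun h0 => hne (by rw [h0, Nat.cast_zero])
    have hc := congrArg (MvPolynomial.coeff (m - single i 1)) (h i)
    rw [MvPolynomial.coeff_pderiv, MvPolynomial.coeff_zero] at hc
    have hm' : m - single i 1 + single i 1 = m := by
      ext j
      rcases eq_or_ne j i with rfl | hji
      · simp; omega
      · simp [Ne.symm hji]
    rw [hm'] at hc
    have hcast : ((m - single i 1 : Fin 2 →₀ ℕ) i : k) + 1 = (m i : k) := by
      rw [Finsupp.tsub_apply, single_eq_same, ← Nat.cast_one (R := k), ← Nat.cast_add]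
      congr 1
      omega
    rw [hcast, mul_eq_zero] at hc
    exact hc.elim (MvPolynomial.mem_support_iff.mp hm) hne
  obtain ⟨q, hq⟩ := CharP.exists k
  rcases CharP.char_is_prime_or_zero k q with hqp | rfl
  · haveI := Fact.mk hqp
    let r : Poly := ∑ m ∈ p.support,
      MvPolynomial.monomial (m.mapRange (fun a => a / q) (Nat.zero_div q)) ((frobeniusEquiv k q).symm (p.coeff m))
    have hr : r ^ q = p := by
      haveI : CharP Poly q := inferInstance
      simp only [r]
      rw [sum_pow_char q, ]
      conv_rhs => rw [p.as_sum]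
      refine Finset.sum_congr rfl fun m hm => ?_
      have hexp : q • m.mapRange (fun a => a / q) (Nat.zero_div q) = m := by
        ext i
        have := hdiv m hm i
        rw [CharP.cast_eq_zero_iff k q] at this
        simp [Nat.mul_div_cancel' this]
      rw [MvPolynomial.monomial_pow, hexp, frobeniusEquiv_symm_pow_p]
    rcases hp.isUnit_or_isUnit (show p = r * r ^ (q - 1) by
      rw [← pow_succ', Nat.sub_add_cancel hqp.pos, hr]) with h | h
    · exact hp.not_isUnit (hr ▸ h.pow q)
    · exact hp.not_isUnit (hr ▸ ((isUnit_pow_iff (Nat.sub_ne_zero_of_lt hqp.one_lt)).mp h).pow q)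
  · haveI : CharZero k := CharP.charP_to_charZero k
    have : p = MvPolynomial.C (p.coeff 0) := by
      refine MvPolynomial.ext _ _ fun m => ?_
      rw [MvPolynomial.coeff_C]
      split_ifs with hm
      · rw [hm]
      · by_contra hne
        exact hm (Finsupp.ext fun i => by
          simpa using (Nat.cast_eq_zero.mp (hdiv m (MvPolynomial.mem_support_iff.mpr hne) i)).symm)
    rcases eq_or_ne (p.coeff 0) 0 with h0 | h0
    · exact hp.ne_zero (by rw [this, h0, map_zero])
    · exact hp.not_isUnit (this ▸ (isUnit_iff_ne_zero.mpr h0).map MvPolynomial.C)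

/-- Recentre at `a` and view as a power series. -/
def taylor (a : Fin 2 → k) : Poly →+* P :=
  (MvPolynomial.coeToMvPowerSeries.ringHom).comp (PSQuad.shift a).toRingEquiv.toRingHom

lemma taylor_apply (a : Fin 2 → k) (p : Poly) :
    taylor a p = ((MvPolynomial.aeval (fun i : Fin 2 => MvPolynomial.X i + MvPolynomial.C (a i)) p : Poly) : P) :=
  rfl

lemma constantCoeff_taylor (a : Fin 2 → k) (p : Poly) :
    MvPowerSeries.constantCoeff (taylor a p) = MvPolynomial.eval a p := by
  rw [← MvPowerSeries.coeff_zero_eq_constantCoeff_apply, ← PSQuad.coeff_zero_shift a p]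
  exact MvPolynomial.coeff_coe _ _

lemma taylor_pderiv (a : Fin 2 → k) (p : Poly) (i : Fin 2) :
    taylor a (MvPolynomial.pderiv i p) = MvPowerSeries.pderiv k i (taylor a p) := by
  change ((PSQuad.shift a (MvPolynomial.pderiv i p) : Poly) : P) = _
  rw [← PSQuad.pderiv_shift, ← MvPowerSeries.pderiv_coe]
  rfl

lemma coeff_single_taylor (a : Fin 2 → k) (p : Poly) (i : Fin 2) :
    MvPowerSeries.coeff (single i 1) (taylor a p) = MvPolynomial.eval a (MvPolynomial.pderiv i p) := by
  rw [← constantCoeff_taylor, taylor_pderiv, ← MvPowerSeries.coeff_zero_eq_constantCoeff_apply,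
    PSQuad.coeff_zero_pderiv]

lemma totalDegree_pderiv_lt {p : Poly} {i : Fin 2} (hi : MvPolynomial.pderiv i p ≠ 0) :
    (MvPolynomial.pderiv i p).totalDegree < p.totalDegree := by
  classical
  have key : ∀ m ∈ (MvPolynomial.pderiv i p).support, (m.sum fun _ e => e) < p.totalDegree := by
    intro m hm
    rw [MvPolynomial.mem_support_iff, MvPolynomial.coeff_pderiv] at hm
    refine lt_of_lt_of_le ?_ (MvPolynomial.le_totalDegree
      (MvPolynomial.mem_support_iff.mpr (left_ne_zero_of_mul hm)))
    rw [Finsupp.sum_add_index' (fun _ => rfl) (fun _ _ _ => rfl), Finsupp.sum_single_index rfl]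
    omega
  obtain ⟨m, hm⟩ := MvPolynomial.support_nonempty.mpr hi
  exact (Finset.sup_lt_iff (lt_of_le_of_lt (Nat.zero_le _) (key m hm))).mpr key

lemma taylor_injective (a : Fin 2 → k) : Function.Injective (taylor a) := fun x y h =>
  (PSQuad.shift a).injective (MvPolynomial.coe_injective _ _ h)

end helpers

/-- Let k be an algebraically closed field, f a polynomial in two variables x = X_0, y = X_1 over k, and
a a point of k². The quotient of the power series ring k[[x,y]] by the polynomial f recentred at a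
(which is the completed local ring at a of the plane curve f = 0) is isomorphic as a k-algebra to
k[[x,y]]/(y^2) if and only if f = g^2 h for polynomials g and h with h(a) ≠ 0, g(a) = 0 and some
first partial derivative of g non-zero at a. (The published statement asks for the component through
a to be the square of a smooth plane curve; only smoothness at a matters and is what is stated here
— for the square of a nodal cubic the completed local ring at a smooth point of the cubic is still
k[[x,y]]/(y^2). No hypothesis on the characteristic of k is imposed; the published setting assumes a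
characteristic different from 2, 3, 5 and 7, which the argument does not use.) -/
theorem result
    {k : Type u} [Field k] [IsAlgClosed k] (f : MvPolynomial (Fin 2) k) (a : Fin 2 → k) :
    Nonempty ((MvPowerSeries (Fin 2) k ⧸ Ideal.span
        ({(MvPolynomial.aeval (fun i : Fin 2 => MvPolynomial.X i + MvPolynomial.C (a i)) f).toMvPowerSeries} :
          Set (MvPowerSeries (Fin 2) k))) ≃ₐ[k]
      (MvPowerSeries (Fin 2) k ⧸ Ideal.span ({MvPowerSeries.X 1 ^ 2} : Set (MvPowerSeries (Fin 2) k)))) ↔
    ∃ g h : MvPolynomial (Fin 2) k, f = g ^ 2 * h ∧ MvPolynomial.eval a h ≠ 0 ∧ MvPolynomial.eval a g = 0 ∧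
      ∃ i : Fin 2, MvPolynomial.eval a (MvPolynomial.pderiv i g) ≠ 0 := by
  classical
  simp only [← taylor_apply]
  constructor
  · rintro ⟨q⟩
    obtain ⟨G, hG, hG2, hGF⟩ := exists_square_eqn _ q
    have hf0 : f ≠ 0 := by
      rintro rfl
      rw [map_zero] at hGF
      exact pow_ne_zero 2 hG.ne_zero ((associated_zero_iff_eq_zero _).mp hGF)
    haveI : (Ideal.span {G}).IsPrime := (Ideal.span_singleton_prime hG.ne_zero).mpr hG
    let Q : Ideal (MvPolynomial (Fin 2) k) := (Ideal.span {G}).comap (taylor a)
    haveI hQp : Q.IsPrime := inferInstance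
    have hmemQ : ∀ b, b ∈ Q ↔ G ∣ taylor a b := fun b => Ideal.mem_span_singleton
    have hG0 : MvPowerSeries.constantCoeff G = 0 := by
      by_contra h
      exact hG.not_unit (MvPowerSeries.isUnit_iff_constantCoeff.mpr (isUnit_iff_ne_zero.mpr h))
    have hQM : ∀ b ∈ Q, MvPolynomial.eval a b = 0 := fun b hb => by
      obtain ⟨w, hw⟩ := (hmemQ b).mp hb
      rw [← constantCoeff_taylor, hw, map_mul, hG0, zero_mul]
    have hfQ : f ∈ Q := (hmemQ f).mpr ((dvd_pow_self G two_ne_zero).trans hGF.dvd)
    obtain ⟨p, hpQ, hp⟩ := Ideal.IsPrime.exists_mem_prime_of_ne_bot hQp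
      (fun h => hf0 (by rw [h] at hfQ; simpa using hfQ))
    have hQ : ∀ b ∈ Q, p ∣ b := by
      intro b hb
      by_contra hpb
      haveI : (Ideal.span {p}).IsPrime := (Ideal.span_singleton_prime hp.ne_zero).mpr hp
      have hlt : Ideal.span {p} < Q := lt_of_le_of_ne ((Ideal.span_singleton_le_iff_mem _).mpr hpQ)
        fun h => hpb (Ideal.mem_span_singleton.mp (h ▸ hb))
      let M : Ideal (MvPolynomial (Fin 2) k) := RingHom.ker (MvPolynomial.eval a)
      haveI : M.IsPrime := RingHom.ker_isPrime _
      have hQle : Q ≤ M := fun x hx => hQM x hx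
      rcases hQle.lt_or_eq with hlt' | heq
      · have hbot : (⊥ : Ideal (MvPolynomial (Fin 2) k)) < Ideal.span {p} :=
          bot_lt_iff_ne_bot.mpr (fun h => hp.ne_zero (Ideal.span_singleton_eq_bot.mp h))
        haveI : (⊥ : Ideal (MvPolynomial (Fin 2) k)).IsPrime := Ideal.isPrime_bot
        have h1 := Ideal.height_strict_mono_of_isPrime hbot
        have h2 := Ideal.height_strict_mono_of_isPrime hlt
        have h3 := Ideal.height_strict_mono_of_isPrime hlt'
        have hdim : ringKrullDim (MvPolynomial (Fin 2) k) = 2 := by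
          rw [MvPolynomial.ringKrullDim_of_isNoetherianRing, ringKrullDim_eq_zero_of_field, zero_add]
          simp
        have h4 := Ideal.height_le_ringKrullDim_of_ne_top (I := M) (Ideal.IsPrime.ne_top inferInstance)
        rw [hdim] at h4
        have h4' : M.height ≤ 2 := WithBot.coe_le_coe.mp h4
        have h5 : (Ideal.span {p}).height ≥ 1 := Order.one_le_iff_pos.mpr (lt_of_le_of_lt zero_le h1)
        have h6 : Q.height ≥ 2 := le_trans (by rw [← one_add_one_eq_two]; gcongr) (Order.add_one_le_of_lt h2)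
        have h7 : M.height ≥ 3 := le_trans (by rw [← two_add_one_eq_three]; gcongr) (Order.add_one_le_of_lt h3)
        exact absurd (h7.trans h4') (by norm_num)
      · have hX : ∀ i, G ∣ (MvPowerSeries.X i : MvPowerSeries (Fin 2) k) := fun i => by
          have hmem : (MvPolynomial.X i - MvPolynomial.C (a i)) ∈ Q := by
            rw [heq]; simp [M]
          have := (hmemQ _).mp hmem
          rwa [taylor_apply, map_sub, MvPolynomial.aeval_X, MvPolynomial.aeval_C, MvPolynomial.algebraMap_eq,
            add_sub_cancel_right, MvPolynomial.coe_X] at this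
        obtain ⟨u0, hu0⟩ := hX 0
        obtain ⟨u1, hu1⟩ := hX 1
        rcases prime_X_one.irreducible.isUnit_or_isUnit hu1 with h | h
        · exact hG.not_unit h
        · have hdvd : (MvPowerSeries.X 1 : MvPowerSeries (Fin 2) k) ∣ MvPowerSeries.X 0 :=
            ((associated_mul_unit_right G u1 h).trans (hu1 ▸ Associated.refl _)).symm.dvd.trans ⟨u0, hu0⟩
          rw [MvPowerSeries.X_dvd_iff] at hdvd
          simpa using hdvd (Finsupp.single 0 1) (by simp)
    have hTp : G ∣ taylor a p := (hmemQ p).mp hpQ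
    obtain ⟨w, hw⟩ := hTp
    have hGw : ¬ G ∣ w := by
      rintro ⟨w', rfl⟩
      obtain ⟨i, hi⟩ := exists_pderiv_ne_zero hp.irreducible
      have hd : MvPolynomial.pderiv i p ∈ Q := by
        rw [hmemQ, taylor_pderiv, hw, ← mul_assoc, Derivation.leibniz, Derivation.leibniz, smul_eq_mul,
          smul_eq_mul, smul_eq_mul]
        exact dvd_add (Dvd.dvd.mul_right (Dvd.intro G rfl) _)
          (Dvd.dvd.mul_left (dvd_add (Dvd.intro _ rfl) (Dvd.intro _ rfl)) _)
      obtain ⟨c, hc⟩ := hQ _ hd
      have hc0 : c ≠ 0 := fun h => hi (by rw [hc, h, mul_zero])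
      have hdeg := MvPolynomial.totalDegree_mul_of_isDomain hp.ne_zero hc0
      rw [← hc] at hdeg
      have hlt := totalDegree_pderiv_lt hi
      omega
    obtain ⟨f1, hf1⟩ := hQ f hfQ
    obtain ⟨u, hu⟩ := hGF
    have h1 : w * taylor a f1 = G * u := mul_left_cancel₀ hG.ne_zero (by
      rw [← mul_assoc, ← hw, ← map_mul, ← hf1, ← hu]; ring)
    obtain ⟨h, hh⟩ := hQ f1 ((hmemQ f1).mpr ((hG.dvd_or_dvd ⟨_, h1⟩).resolve_left hGw))
    have h2 : w * (w * taylor a h) = u := mul_left_cancel₀ hG.ne_zero (by
      rw [← h1, hh, map_mul, hw]; ring)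
    have hwu : IsUnit w := isUnit_of_dvd_unit (Dvd.intro _ h2) u.isUnit
    have hhu : IsUnit (taylor a h) :=
      isUnit_of_dvd_unit (Dvd.dvd.mul_left (Dvd.intro_left w rfl) w |>.trans (dvd_of_eq h2)) u.isUnit
    refine ⟨p, h, by rw [hf1, hh]; ring, ?_, hQM p hpQ, ?_⟩
    · rw [← constantCoeff_taylor]
      exact (MvPowerSeries.isUnit_iff_constantCoeff.mp hhu).ne_zero
    · by_contra hno
      push Not at hno
      refine hG2 ?_
      have hsq := mem_sq_of_coeff (f := taylor a p) (by rw [constantCoeff_taylor]; exact hQM p hpQ)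
        (fun i => by rw [coeff_single_taylor]; exact hno i)
      rw [hw] at hsq
      have := Ideal.mul_mem_right (↑hwu.unit⁻¹ : MvPowerSeries (Fin 2) k) _ hsq
      rwa [mul_assoc, IsUnit.mul_val_inv, mul_one] at this
  · rintro ⟨g, h, rfl, hh, hg, i, hi⟩
    have hu : IsUnit (taylor a h) := by
      rw [MvPowerSeries.isUnit_iff_constantCoeff, constantCoeff_taylor]
      exact isUnit_iff_ne_zero.mpr hh
    obtain ⟨e, he⟩ := exists_coord (taylor a g) (by rw [constantCoeff_taylor]; exact hg) i
      (by rw [coeff_single_taylor]; exact hi)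
    refine ⟨(Ideal.quotientEquivAlg _ _ e ?_).symm⟩
    rw [Ideal.map_span, Set.image_singleton, map_mul, map_pow]
    change Ideal.span {taylor a g ^ 2 * taylor a h} = Ideal.span {e (MvPowerSeries.X 1 ^ 2)}
    rw [map_pow, he, Ideal.span_singleton_eq_span_singleton]
    exact associated_mul_unit_left _ _ hu

end Groth.Agent.S14310
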