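import Groth.Agent.S14310
import Groth.Agent.PSQuad.Grad
import Groth.Statements.S14311
-- import your own Groth.Agent.* helpers here

set_option autoImplicit false
universe u
open ArSing

noncomputable section

namespace Groth.Agent.S14311

section helpers

open Finsupp Groth.Agent

variable {k : Type u} [Field k]

local notation "P" => MvPowerSeries (Fin 2) k

lemma quot_equiv (e : P ≃ₐ[k] P) (g F : P) (h : Associated (e g) F) :
    Nonempty ((P ⧸ Ideal.span {F}) ≃ₐ[k] (P ⧸ Ideal.span {g})) := by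
  refine ⟨(Ideal.quotientEquivAlg _ _ e ?_).symm⟩
  rw [Ideal.map_span, Set.image_singleton]
  exact (Ideal.span_singleton_eq_span_singleton.mpr h).symm

lemma mem_pow_of_aut (e : P ≃ₐ[k] P) {f : P} {N : ℕ} (h : f ∈ PSLib.vars 2 k ^ N) :
    e f ∈ PSLib.vars 2 k ^ N := by
  have hmap : (IsLocalRing.maximalIdeal P).map (e : P →+* P) = IsLocalRing.maximalIdeal P :=
    IsLocalRing.map_maximalIdeal_of_surjective _ e.surjective
  rw [← S14310.vars_eq_max] at hmap
  rw [← hmap, ← Ideal.map_pow]
  exact Ideal.mem_map_of_mem _ h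

/-- Isomorphic hypersurface quotients come from an automorphism, when one equation has order at least two. -/
lemma exists_aut_of_equiv (F g : P) (hF2 : F ∈ PSLib.vars 2 k ^ 2) (hg : g ∈ PSLib.vars 2 k)
    (q : (P ⧸ Ideal.span {F}) ≃ₐ[k] (P ⧸ Ideal.span {g})) :
    ∃ e : P ≃ₐ[k] P, Associated (e g) F := by
  classical
  haveI := PSQuad.isLocalRing_quot hg
  have hF0 : F ∈ PSLib.vars 2 k := Ideal.pow_le_self two_ne_zero hF2
  haveI := PSQuad.isLocalRing_quot hF0
  let mg := Ideal.Quotient.mkₐ k (Ideal.span {g})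
  let mh := Ideal.Quotient.mkₐ k (Ideal.span {F})
  haveI := PSQuad.isAdicComplete_quot (k := k) (n := 2) (h := F)
  choose v hv using fun i => Ideal.Quotient.mk_surjective (q.symm (mg (MvPowerSeries.X i)))
  have hvm : ∀ i, v i ∈ PSLib.vars 2 k := fun i => PSQuad.mem_vars_of_mk_mem (h := F) (by
    rw [hv]
    intro hu
    refine PSQuad.mk_mem_maximalIdeal (h := g) (Ideal.subset_span (Set.mem_range_self i)) ?_
    have := hu.map q
    rwa [q.apply_symm_apply] at this)
  obtain ⟨φ, hφ⟩ := PSLib.exists_algHom (R := k) (PSLib.vars 2 k) v hvm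
  have hφm : ∀ i, φ (MvPowerSeries.X i) ∈ PSLib.vars 2 k := fun i => (hφ i).symm ▸ hvm i
  have hcomm : mh.comp φ = (q.symm : _ →ₐ[k] _).comp mg := by
    refine PSLib.algHom_ext (I := IsLocalRing.maximalIdeal (P ⧸ Ideal.span {F})) _ _
      (fun i => PSQuad.mk_mem_maximalIdeal (hφm i)) fun i => ?_
    show mh (φ (MvPowerSeries.X i)) = q.symm (mg (MvPowerSeries.X i))
    rw [hφ]
    exact hv i
  have hc : ∀ f, Ideal.Quotient.mk (Ideal.span {F}) (φ f) = q.symm (Ideal.Quotient.mk _ f) :=
    fun f => AlgHom.congr_fun hcomm f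
  have hbij : Function.Bijective φ := by
    refine PSLib.bijective_of_first_order φ hφm fun j => ?_
    obtain ⟨a, ha⟩ := Ideal.Quotient.mk_surjective (q (mh (MvPowerSeries.X j)))
    have ham : a ∈ PSLib.vars 2 k := PSQuad.mem_vars_of_mk_mem (h := g) (by
      rw [ha]
      intro hu
      refine PSQuad.mk_mem_maximalIdeal (h := F) (Ideal.subset_span (Set.mem_range_self j)) ?_
      have := hu.map q.symm
      rwa [q.symm_apply_apply] at this)
    have hmem : φ a ∈ Ideal.span (Set.range fun i => φ (MvPowerSeries.X i)) := by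
      obtain ⟨c, rfl⟩ := Ideal.mem_span_range_iff_exists_fun.1 ham
      simp only [map_sum, map_mul]
      exact Ideal.sum_mem _ fun i _ => Ideal.mul_mem_left _ _ (Ideal.subset_span ⟨i, rfl⟩)
    rw [show (MvPowerSeries.X j : P) = φ a - (φ a - MvPowerSeries.X j) by ring]
    refine sub_mem (Submodule.mem_sup_left hmem) (Submodule.mem_sup_right ?_)
    refine Ideal.span_le.2 (Set.singleton_subset_iff.2 hF2) (Ideal.Quotient.eq.1 ?_)
    rw [hc, ha]
    exact q.symm_apply_apply _
  refine ⟨AlgEquiv.ofBijective φ hbij, Ideal.span_singleton_eq_span_singleton.mp ?_⟩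
  show Ideal.span {φ g} = Ideal.span {F}
  refine le_antisymm ?_ ?_
  · rw [Ideal.span_singleton_le_iff_mem, ← Ideal.Quotient.eq_zero_iff_mem, hc,
      Ideal.Quotient.eq_zero_iff_mem.mpr (Ideal.mem_span_singleton_self _), map_zero]
  · rw [Ideal.span_singleton_le_iff_mem]
    obtain ⟨w, hw⟩ := hbij.2 F
    have h0 : Ideal.Quotient.mk (Ideal.span {g}) w = 0 := by
      apply q.symm.injective
      rw [← hc, hw, map_zero, Ideal.Quotient.eq_zero_iff_mem]
      exact Ideal.mem_span_singleton_self _
    obtain ⟨r, rfl⟩ := Ideal.mem_span_singleton.mp (Ideal.Quotient.eq_zero_iff_mem.mp h0)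
    rw [← hw, map_mul]
    exact Ideal.mul_mem_right _ _ (Ideal.mem_span_singleton_self _)

lemma exists_sqrt [IsAlgClosed k] (h2 : (2 : k) ≠ 0) {E : P} (hE : MvPowerSeries.constantCoeff E ≠ 0) :
    ∃ w : P, IsUnit w ∧ w ^ 2 = E := by
  obtain ⟨c, hc⟩ := IsAlgClosed.exists_pow_nat_eq (MvPowerSeries.constantCoeff E) two_pos
  have hc0 : c ≠ 0 := fun h => hE (by rw [← hc, h]; simp)
  obtain ⟨w, hw, -⟩ := HenselianRing.is_henselian (I := PSLib.vars 2 k)
    (Polynomial.X ^ 2 - Polynomial.C E) (Polynomial.monic_X_pow_sub_C E two_ne_zero)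
    (MvPowerSeries.C c) (PSLib.mem_vars_iff.mpr (by simp [hc])) (by
      refine IsUnit.map _ (MvPowerSeries.isUnit_iff_constantCoeff.2 ?_)
      simpa [Polynomial.derivative_X_pow, MvPowerSeries.constantCoeff_C] using
        mul_ne_zero (show (1 + 1 : k) ≠ 0 by rwa [one_add_one_eq_two]) hc0)
  rw [Polynomial.IsRoot.def, Polynomial.eval_sub, Polynomial.eval_pow, Polynomial.eval_X,
    Polynomial.eval_C, sub_eq_zero] at hw
  exact ⟨w, (isUnit_pow_iff two_ne_zero).1 (hw ▸
    MvPowerSeries.isUnit_iff_constantCoeff.2 (isUnit_iff_ne_zero.2 hE)), hw⟩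

/-- Series in the first variable only. -/
def OnlyX (f : P) : Prop := ∀ m : Fin 2 →₀ ℕ, m 1 ≠ 0 → MvPowerSeries.coeff m f = 0

lemma OnlyX.decomp {f : P} (hf : OnlyX f) : ∃ g : P, OnlyX g ∧
    f = MvPowerSeries.C (MvPowerSeries.constantCoeff f) + MvPowerSeries.X 0 * g := by
  classical
  obtain ⟨g, hg⟩ : (MvPowerSeries.X 0 : P) ∣ f - MvPowerSeries.C (MvPowerSeries.constantCoeff f) := by
    rw [MvPowerSeries.X_dvd_iff]
    intro m hm
    rw [map_sub, MvPowerSeries.coeff_C]
    by_cases h1 : m 1 = 0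
    · have : m = 0 := by
        ext i
        fin_cases i
        · exact hm
        · exact h1
      rw [if_pos this, this, MvPowerSeries.coeff_zero_eq_constantCoeff_apply, sub_self]
    · rw [if_neg (fun h => h1 (by rw [h]; rfl)), hf m h1, sub_self]
  refine ⟨g, fun m hm => ?_, by rw [← hg]; ring⟩
  have h := congrArg (MvPowerSeries.coeff (single 0 1 + m)) hg
  rw [map_sub, MvPowerSeries.X_def, MvPowerSeries.coeff_add_monomial_mul, one_mul, MvPowerSeries.coeff_C,
    hf _ (by simpa using hm), if_neg (fun h0 => hm (by simpa using DFunLike.congr_fun h0 1)), sub_self] at h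
  exact h.symm

lemma derivation_aut_eq_zero (δ : Derivation k P P) (e : P ≃ₐ[k] P)
    (he : δ (e (MvPowerSeries.X 0)) = 0) {f : P} (hf : OnlyX f) : δ (e f) = 0 := by
  refine PSLib.eq_zero_of_forall_mem_pow fun N => ?_
  induction N generalizing f with
  | zero => simp
  | succ N ih =>
    obtain ⟨g, hg, hfg⟩ := hf.decomp
    rw [hfg, map_add, map_mul, map_add, ArSingLib.mv_C_eq, AlgEquiv.commutes, Derivation.map_algebraMap,
      zero_add, Derivation.leibniz, he, smul_zero, add_zero, smul_eq_mul, pow_succ']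
    refine Ideal.mul_mem_mul ?_ (ih hg)
    rw [← pow_one (PSLib.vars 2 k)]
    exact mem_pow_of_aut e (by rw [pow_one]; exact Ideal.subset_span (Set.mem_range_self 0))

lemma mem_cube_of_coeff (h2 : (2 : k) ≠ 0) {F : P} (h0 : MvPowerSeries.constantCoeff F = 0)
    (h1 : ∀ i, MvPowerSeries.coeff (single i 1) F = 0)
    (h : ∀ i j, MvPowerSeries.coeff (single i 1) (MvPowerSeries.pderiv k j F) = 0) :
    F ∈ PSLib.vars 2 k ^ 3 := by
  classical
  refine PSLib.mem_pow_iff.mpr fun d hd => ?_
  rcases Nat.lt_or_ge (degree d) 1 with hd0 | hd0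
  · rw [(degree_eq_zero_iff d).mp (by omega), MvPowerSeries.coeff_zero_eq_constantCoeff_apply, h0]
  rcases Nat.lt_or_ge (degree d) 2 with hd1 | hd1
  · have : d ∈ Set.range fun a : Fin 2 => single a 1 := by
      rw [Finsupp.range_single_one]
      show degree d = 1
      omega
    obtain ⟨i, rfl⟩ := this
    exact h1 i
  obtain ⟨j, hj⟩ : ∃ j, d j ≠ 0 := by
    by_contra hne
    push Not at hne
    rw [show d = 0 from Finsupp.ext hne, map_zero] at hd1
    omega
  have hdj : d - single j 1 + single j 1 = d := by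
    ext t
    rcases eq_or_ne t j with rfl | ht
    · simp; omega
    · simp [Ne.symm ht]
  have : d - single j 1 ∈ Set.range fun a : Fin 2 => single a 1 := by
    rw [Finsupp.range_single_one]
    show degree (d - single j 1) = 1
    have := congrArg degree hdj
    rw [map_add, degree_single] at this
    omega
  obtain ⟨i, hi⟩ := this
  have hh := h i j
  rw [MvPowerSeries.coeff_pderiv, show single i 1 = d - single j 1 from hi, hdj] at hh
  refine (mul_eq_zero.mp hh).resolve_right fun h0' => ?_
  have hs : (d - single j 1 : Fin 2 →₀ ℕ) j ≤ 1 := by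
    rw [← hi, Finsupp.single_apply]
    split_ifs <;> omega
  rcases Nat.le_one_iff_eq_zero_or_eq_one.mp hs with h' | h'
  · simp [h'] at h0'
  · simp [h', one_add_one_eq_two] at h0'
    exact h2 h0'

lemma mem_vars_of_span {y : Fin 2 → P}
    (hy : ∀ i, y i ∈ PSLib.vars 2 k)
    (hdet : MvPowerSeries.coeff (single 0 1) (y 0) * MvPowerSeries.coeff (single 1 1) (y 1) -
      MvPowerSeries.coeff (single 1 1) (y 0) * MvPowerSeries.coeff (single 0 1) (y 1) ≠ 0) (j : Fin 2) :
    (MvPowerSeries.X j : P) ∈ Ideal.span (Set.range y) := by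
  have h : Ideal.span (Set.range y) = PSLib.vars 2 k := by
    refine PSQuad.span_eq_vars _ (fun i => ?_) ?_
    · rw [MvPowerSeries.coeff_zero_eq_constantCoeff_apply]
      exact PSLib.mem_vars_iff.mp (hy i)
    · rw [Matrix.det_fin_two]
      exact isUnit_iff_ne_zero.mpr hdet
  rw [h]
  exact Ideal.subset_span (Set.mem_range_self j)

/-- Normal form of a double point of a plane curve. -/
lemma normal_form [IsAlgClosed k] (h2 : (2 : k) ≠ 0) (F : P) (h0 : MvPowerSeries.constantCoeff F = 0)
    (h1 : ∀ i, MvPowerSeries.coeff (single i 1) F = 0)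
    (hQ : ∃ i j, MvPowerSeries.coeff (single i 1) (MvPowerSeries.pderiv k j F) ≠ 0) :
    (∃ (n : ℕ) (e : P ≃ₐ[k] P), Associated (e (ArSing.eqn k n)) F) ∨
      ∃ e : P ≃ₐ[k] P, Associated (e (MvPowerSeries.X 1 ^ 2)) F := by
  classical
  set c : Fin 2 → Fin 2 → k := fun i j => MvPowerSeries.coeff (single i 1) (MvPowerSeries.pderiv k j F) with hc
  have hsym : ∀ i j, c i j = c j i := by
    intro i j
    simp only [hc, MvPowerSeries.coeff_pderiv]
    rcases eq_or_ne i j with rfl | hij
    · rfl
    · simp [hij, Ne.symm hij, add_comm (single i 1)]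
  obtain ⟨v, hv⟩ : ∃ v : Fin 2 → k,
      v 0 * (v 0 * c 0 0 + v 1 * c 0 1) + v 1 * (v 0 * c 1 0 + v 1 * c 1 1) ≠ 0 := by
    by_contra hno
    push Not at hno
    have e00 : c 0 0 = 0 := by simpa using hno ![1, 0]
    have e11 : c 1 1 = 0 := by simpa using hno ![0, 1]
    have e01 : c 0 1 = 0 := by
      have := hno ![1, 1]
      simp [e00, e11, hsym 1 0, ← two_mul] at this
      exact this.resolve_left h2
    obtain ⟨i, j, hij⟩ := hQ
    apply hij
    show c i j = 0
    fin_cases i <;> fin_cases j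
    exacts [e00, e01, (hsym 1 0).trans e01, e11]
  let δ : Derivation k P P := v 0 • MvPowerSeries.pderiv k 0 + v 1 • MvPowerSeries.pderiv k 1
  have hδ : ∀ f, δ f = v 0 • MvPowerSeries.pderiv k 0 f + v 1 • MvPowerSeries.pderiv k 1 f := fun f => rfl
  let L : P := v 1 • MvPowerSeries.X 0 - v 0 • MvPowerSeries.X 1
  have hδL : δ L = 0 := by
    simp [hδ, L, MvPowerSeries.pderiv_X_self, MvPowerSeries.pderiv_X_of_ne, smul_smul, mul_comm]
  let D : P := δ F
  have hD1 : ∀ i, MvPowerSeries.coeff (single i 1) D = v 0 * c i 0 + v 1 * c i 1 := fun i => by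
    simp [D, hδ, hc]
  have hD0 : MvPowerSeries.constantCoeff D = 0 := by
    rw [← MvPowerSeries.coeff_zero_eq_constantCoeff_apply]
    simp only [D, hδ, map_add, MvPowerSeries.coeff_smul, PSQuad.coeff_zero_pderiv, h1, smul_zero, mul_zero, add_zero]
  have hDv : D ∈ PSLib.vars 2 k := PSLib.mem_vars_iff.mpr hD0
  have hLv : L ∈ PSLib.vars 2 k := PSLib.mem_vars_iff.mpr (by simp [L])
  have hδD : MvPowerSeries.constantCoeff (δ D) ≠ 0 := by
    rw [← MvPowerSeries.coeff_zero_eq_constantCoeff_apply]
    simp only [hδ, map_add, MvPowerSeries.coeff_smul, PSQuad.coeff_zero_pderiv, hD1, smul_eq_mul]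
    exact hv
  have hL1 : MvPowerSeries.coeff (single 0 1) L = v 1 ∧ MvPowerSeries.coeff (single 1 1) L = - v 0 := by
    simp [L, MvPowerSeries.coeff_X, Finsupp.single_eq_single_iff]
  obtain ⟨e, he⟩ := ComodLib.PSAut.exists_algEquiv ![L, D] (fun i => by fin_cases i <;> assumption)
    (mem_vars_of_span (fun i => by fin_cases i <;> assumption) (by
      simp [hL1.1, hL1.2, hD1]
      intro h; apply hv; rw [← h]; ring))
  have he0 : e (MvPowerSeries.X 0) = L := he 0
  have he1 : e (MvPowerSeries.X 1) = D := he 1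
  -- the part independent of the second coordinate
  let d : P := fun m => if m 1 = 0 then MvPowerSeries.coeff m (e.symm F) else 0
  have hd : ∀ m, MvPowerSeries.coeff m d = if m 1 = 0 then MvPowerSeries.coeff m (e.symm F) else 0 :=
    fun m => rfl
  have hdX : OnlyX d := fun m hm => by rw [hd, if_neg hm]
  obtain ⟨H, hH⟩ : (MvPowerSeries.X 1 : P) ∣ e.symm F - d := by
    rw [MvPowerSeries.X_dvd_iff]
    intro m hm
    rw [map_sub, hd, if_pos hm, sub_self]
  have hF : F = e d + D * e H := by
    rw [← he1, ← map_mul, ← map_add, ← hH, add_sub_cancel, AlgEquiv.apply_symm_apply]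
  have hδd : δ (e d) = 0 := derivation_aut_eq_zero δ e (by rw [he0, hδL]) hdX
  have hDeq : D = D * δ (e H) + e H * δ D := by
    conv_lhs => rw [show D = δ F from rfl, hF, map_add, hδd, zero_add, Derivation.leibniz]
    simp only [smul_eq_mul]
  obtain ⟨w, hw⟩ : IsUnit (δ D) := MvPowerSeries.isUnit_iff_constantCoeff.2 (isUnit_iff_ne_zero.2 hδD)
  obtain ⟨E, hEdef⟩ : ∃ E : P, E = (1 - δ (e H)) * ↑w⁻¹ := ⟨_, rfl⟩
  have hHE : e H = D * E := by
    apply (IsUnit.mul_left_inj w.isUnit).mp
    rw [hEdef]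
    rw [mul_assoc, mul_assoc, Units.inv_mul, mul_one, hw]
    linear_combination -hDeq
  have hF2 : F = e d + D ^ 2 * E := by rw [hF, hHE]; ring
  have hDne : D ≠ 0 := fun h => hδD (by rw [h, map_zero, map_zero])
  have hE : MvPowerSeries.constantCoeff E ≠ 0 := by
    have h : D * 1 = D * (2 * δ D * E + D * δ E) := by
      conv_lhs => rw [mul_one, show D = δ F from rfl, hF2, map_add, hδd, zero_add, Derivation.leibniz,
        sq, Derivation.leibniz]
      simp only [smul_eq_mul]
      ring
    have h' := congrArg MvPowerSeries.constantCoeff (mul_left_cancel₀ hDne h)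
    rw [map_one, map_add, map_mul _ D, hD0, zero_mul, add_zero, map_mul] at h'
    exact right_ne_zero_of_mul (a := MvPowerSeries.constantCoeff (2 * δ D)) (h' ▸ one_ne_zero)
  by_cases hd0 : d = 0
  · refine Or.inr ⟨e, ?_⟩
    rw [hF2, hd0, map_zero, zero_add, map_pow, he1]
    exact (associated_mul_unit_left _ _ (MvPowerSeries.isUnit_iff_constantCoeff.2
      (isUnit_iff_ne_zero.2 hE))).symm
  · left
    have hex : ∃ N, MvPowerSeries.coeff (single 0 N) d ≠ 0 := by
      by_contra hno
      push Not at hno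
      refine hd0 (MvPowerSeries.ext fun m => ?_)
      rw [map_zero]
      by_cases hm : m 1 = 0
      · rw [show m = single 0 (m 0) from by ext i; fin_cases i <;> simp [hm]]
        exact hno _
      · exact hdX m hm
    have hN : Nat.find hex ≠ 0 := fun h => by
      have hs := Nat.find_spec hex
      generalize Nat.find hex = N at hs h
      subst h
      refine hs ?_
      rw [single_zero, MvPowerSeries.coeff_zero_eq_constantCoeff_apply]
      have h' := congrArg MvPowerSeries.constantCoeff hH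
      rw [map_sub, map_mul, MvPowerSeries.constantCoeff_X, zero_mul, sub_eq_zero] at h'
      rw [← h', ← PSLib.mem_vars_iff, ← pow_one (PSLib.vars 2 k)]
      exact mem_pow_of_aut e.symm (by rw [pow_one]; exact PSLib.mem_vars_iff.mpr h0)
    obtain ⟨n, hn⟩ := Nat.exists_eq_succ_of_ne_zero hN
    obtain ⟨u, hu⟩ : (MvPowerSeries.X 0 : P) ^ (n + 1) ∣ d := by
      rw [MvPowerSeries.X_pow_dvd_iff]
      intro m hm
      by_cases hm1 : m 1 = 0
      · rw [show m = single 0 (m 0) from by ext i; fin_cases i <;> simp [hm1]]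
        by_contra hne
        exact Nat.find_min hex (by omega) hne
      · exact hdX m hm1
    have hu0 : MvPowerSeries.constantCoeff u ≠ 0 := by
      intro h
      have hs := Nat.find_spec hex
      rw [hn] at hs
      apply hs
      rw [hu, MvPowerSeries.X_pow_eq]
      rw [MvPowerSeries.coeff_monomial_mul, if_pos le_rfl, tsub_self, one_mul, MvPowerSeries.coeff_zero_eq_constantCoeff_apply, h]
    obtain ⟨U, hU⟩ : IsUnit (-(e u)) :=
      ((MvPowerSeries.isUnit_iff_constantCoeff.2 (isUnit_iff_ne_zero.2 hu0)).map e).neg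
    obtain ⟨s, hs, hs2⟩ := exists_sqrt h2 (E := E * ↑U⁻¹) (by
      rw [map_mul]
      exact mul_ne_zero hE (((U⁻¹).isUnit.map MvPowerSeries.constantCoeff).ne_zero))
    have hDs : D * s ∈ PSLib.vars 2 k := Ideal.mul_mem_right _ _ hDv
    have hy : ∀ j, (MvPowerSeries.X j : P) ∈ Ideal.span (Set.range ![L, D * s]) := by
      have hle : Ideal.span (Set.range ![L, D]) ≤ Ideal.span (Set.range ![L, D * s]) := by
        rw [Ideal.span_le, Set.range_subset_iff]
        intro t
        fin_cases t
        · exact Ideal.subset_span (Set.mem_range_self (0 : Fin 2))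
        · exact (Ideal.mul_unit_mem_iff_mem _ hs).mp (Ideal.subset_span (Set.mem_range_self (1 : Fin 2)))
      intro j
      refine hle (mem_vars_of_span (fun i => by fin_cases i <;> assumption) ?_ j)
      simp [hL1.1, hL1.2, hD1]
      intro h; apply hv; rw [← h]; ring
    obtain ⟨e', he'⟩ := ComodLib.PSAut.exists_algEquiv ![L, D * s]
      (fun i => by fin_cases i <;> assumption) hy
    refine ⟨n, e', U, ?_⟩
    rw [ArSing.eqn, map_sub, map_pow, map_pow, he', he']
    simp only [Matrix.cons_val_one, Matrix.cons_val_zero]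
    rw [sub_mul, mul_pow, hs2, mul_assoc, mul_assoc, Units.inv_mul, mul_one, hF2, hu, map_mul, map_pow, he0, hU]
    ring

end helpers

/-- Let k be an algebraically closed field in which 2 ≠ 0, f a polynomial in x = X_0, y = X_1 over k and
a a zero of f in k². Then the gradient and all second partial derivatives of f vanish at a if and
only if the completed local ring k[[x,y]]/(f recentred at a) of the plane curve f = 0 at a is
isomorphic as a k-algebra neither to k[[x,y]]/(y^2 - x^(n+1)) for any natural number n nor to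
k[[x,y]]/(y^2). (Here n = 0, a smooth point, is allowed; with n ≥ 1 only, as in the published
definition of an A-singularity, the equivalence fails at smooth points of the curve. Only 2 ≠ 0 is
assumed of the characteristic; the published setting assumes a characteristic different from 2, 3, 5
and 7.) -/
theorem result
    {k : Type u} [Field k] [IsAlgClosed k] (h2 : (2 : k) ≠ 0) (f : MvPolynomial (Fin 2) k) (a : Fin 2 → k)
    (hfa : MvPolynomial.eval a f = 0) :
    ((∀ i : Fin 2, MvPolynomial.eval a (MvPolynomial.pderiv i f) = 0) ∧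
      ∀ i j : Fin 2, MvPolynomial.eval a (MvPolynomial.pderiv i (MvPolynomial.pderiv j f)) = 0) ↔
    ¬ ((∃ n : ℕ, Nonempty ((MvPowerSeries (Fin 2) k ⧸ Ideal.span
        ({(MvPolynomial.aeval (fun i : Fin 2 => MvPolynomial.X i + MvPolynomial.C (a i)) f).toMvPowerSeries} :
          Set (MvPowerSeries (Fin 2) k))) ≃ₐ[k] ArSing.ring k n)) ∨
        Nonempty ((MvPowerSeries (Fin 2) k ⧸ Ideal.span
        ({(MvPolynomial.aeval (fun i : Fin 2 => MvPolynomial.X i + MvPolynomial.C (a i)) f).toMvPowerSeries} :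
          Set (MvPowerSeries (Fin 2) k))) ≃ₐ[k]
          (MvPowerSeries (Fin 2) k ⧸ Ideal.span ({MvPowerSeries.X 1 ^ 2} : Set (MvPowerSeries (Fin 2) k))))) := by
  classical
  simp only [← S14310.taylor_apply]
  set F := S14310.taylor a f with hFdef
  have h0 : MvPowerSeries.constantCoeff F = 0 := by rw [hFdef, S14310.constantCoeff_taylor, hfa]
  have hd1 : ∀ i, MvPowerSeries.coeff (Finsupp.single i 1) F = MvPolynomial.eval a (MvPolynomial.pderiv i f) :=
    fun i => S14310.coeff_single_taylor a f i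
  have hd2 : ∀ i j, MvPowerSeries.coeff (Finsupp.single i 1) (MvPowerSeries.pderiv k j F) =
      MvPolynomial.eval a (MvPolynomial.pderiv i (MvPolynomial.pderiv j f)) := fun i j => by
    rw [hFdef, ← S14310.taylor_pderiv, S14310.coeff_single_taylor]
  constructor
  · rintro ⟨hg, hh⟩ hiso
    have h3 : F ∈ PSLib.vars 2 k ^ 3 := mem_cube_of_coeff h2 h0 (fun i => by rw [hd1]; exact hg i)
      (fun i j => by rw [hd2]; exact hh i j)
    have key : ∀ g : MvPowerSeries (Fin 2) k, g ∈ PSLib.vars 2 k →
        MvPowerSeries.coeff (Finsupp.single 1 2) g ≠ 0 →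
        IsEmpty ((MvPowerSeries (Fin 2) k ⧸ Ideal.span {F}) ≃ₐ[k] (MvPowerSeries (Fin 2) k ⧸ Ideal.span {g})) := by
      refine fun g hg hc => ⟨fun q => hc ?_⟩
      obtain ⟨e, w, hw⟩ := exists_aut_of_equiv F g (Ideal.pow_le_pow_right (by norm_num) h3) hg q
      have h' : e g ∈ PSLib.vars 2 k ^ 3 := by
        rw [show e g = F * ↑w⁻¹ by rw [← hw, Units.mul_inv_cancel_right]]
        exact Ideal.mul_mem_right _ _ h3
      have := mem_pow_of_aut e.symm h'
      rw [AlgEquiv.symm_apply_apply] at this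
      exact PSLib.mem_pow_iff.mp this _ (by simp [Finsupp.degree_single])
    rcases hiso with ⟨n, ⟨q⟩⟩ | hq
    · exact (key (ArSing.eqn k n) (PSLib.mem_vars_iff.mpr ArSingLib.constantCoeff_eqn)
        (by simp [ArSing.eqn, MvPowerSeries.coeff_X_pow, ← Finsupp.single_add, Finsupp.single_eq_single_iff])).elim' q
    · exact (key (MvPowerSeries.X 1 ^ 2) (PSLib.mem_vars_iff.mpr (by simp))
        (by simp [MvPowerSeries.coeff_X_pow])).elim' hq.some
  · intro hno
    have hg : ∀ i, MvPolynomial.eval a (MvPolynomial.pderiv i f) = 0 := by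
      intro i
      by_contra hi
      obtain ⟨e1, he1⟩ := S14310.exists_coord F h0 i (by rw [hd1]; exact hi)
      obtain ⟨e2, he2⟩ := S14310.exists_coord (ArSing.eqn k 0) ArSingLib.constantCoeff_eqn 0
        (by simp [ArSing.eqn, MvPowerSeries.coeff_X, MvPowerSeries.coeff_X_pow, Finsupp.single_eq_single_iff])
      exact hno (Or.inl ⟨0, quot_equiv (e2.symm.trans e1) _ _ (by
        rw [AlgEquiv.trans_apply, ← he2, AlgEquiv.symm_apply_apply, he1])⟩)
    refine ⟨hg, fun i j => ?_⟩
    by_contra hij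
    rcases normal_form h2 F h0 (fun i => by rw [hd1]; exact hg i) ⟨i, j, by rw [hd2]; exact hij⟩ with
      ⟨n, e, he⟩ | ⟨e, he⟩
    · exact hno (Or.inl ⟨n, quot_equiv e _ _ he⟩)
    · exact hno (Or.inr (quot_equiv e _ _ he))

end Groth.Agent.S14311
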