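import Groth.Statements.S14312
import Mathlib.Algebra.Module.Submodule.Union
import Mathlib.Algebra.MvPolynomial.NoZeroDivisors
import Mathlib.Algebra.Order.Antidiag.FinsuppEquiv
import Mathlib.RingTheory.MvPolynomial.EulerIdentity

set_option autoImplicit false
universe u
open Curves

namespace Groth.Agent.S14312
open MvPolynomial Module in
/-- derivative in direction `v` -/
noncomputable def Dv {k : Type u} [Field k] (v : Fin 3 → k) :
    Derivation k (MvPolynomial (Fin 3) k) (MvPolynomial (Fin 3) k) :=
  ∑ j, v j • pderiv j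

section
open MvPolynomial Module

variable {k : Type u} [Field k]

lemma Dv_apply (v : Fin 3 → k) (h : MvPolynomial (Fin 3) k) :
    Dv v h = ∑ j, v j • pderiv j h := by
  simp [Dv, Fin.sum_univ_three]

lemma Dv_mul (v : Fin 3 → k) (a b : MvPolynomial (Fin 3) k) :
    Dv v (a * b) = Dv v a * b + a * Dv v b := by
  rw [Derivation.leibniz, smul_eq_mul, smul_eq_mul]; ring

lemma Dv_hom (v : Fin 3 → k) {h : MvPolynomial (Fin 3) k} {n : ℕ} (hh : h.IsHomogeneous n) :
    (Dv v h).IsHomogeneous (n - 1) := by
  rw [Dv_apply]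
  refine IsHomogeneous.sum _ _ _ fun j _ => ?_
  exact (homogeneousSubmodule (Fin 3) k (n - 1)).smul_mem _ (IsHomogeneous.pderiv hh)

lemma eval_Dv (v x : Fin 3 → k) (h : MvPolynomial (Fin 3) k) :
    eval x (Dv v h) = ∑ j, v j * eval x (pderiv j h) := by
  simp [Dv_apply, smul_eq_C_mul, Fin.sum_univ_three]

lemma totalDegree_pderiv_lt (i : Fin 3) (h : MvPolynomial (Fin 3) k) (hi : pderiv i h ≠ 0) :
    (pderiv i h).totalDegree < h.totalDegree := by
  obtain ⟨m, hm, hmax⟩ : ∃ m ∈ (pderiv i h).support,
      (pderiv i h).totalDegree = m.degree := by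
    obtain ⟨m, hm, he⟩ := Finset.exists_mem_eq_sup _ (support_nonempty.2 hi)
      fun s : Fin 3 →₀ ℕ => s.sum fun _ e => e
    exact ⟨m, hm, he⟩
  have hc : coeff (m + Finsupp.single i 1) h ≠ 0 := fun hc => by
    rw [mem_support_iff, coeff_pderiv, hc, zero_mul] at hm
    exact hm rfl
  have h1 : (m + Finsupp.single i 1).degree ≤ h.totalDegree := le_totalDegree (mem_support_iff.2 hc)
  rw [Finsupp.degree.map_add, Finsupp.degree_single] at h1
  omega

lemma exists_pderiv_ne_zero [IsAlgClosed k] {q : MvPolynomial (Fin 3) k} (hq : Irreducible q) :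
    ∃ i, pderiv i q ≠ 0 := by
  classical
  by_contra hall
  push Not at hall
  have hzero : ∀ (m : Fin 3 →₀ ℕ), coeff m q ≠ 0 → ∀ i, (m i : k) = 0 := by
    intro m hm i
    by_cases h0 : m i = 0
    · simp [h0]
    · have := coeff_pderiv (i := i) q (m - Finsupp.single i 1)
      rw [hall i] at this
      have he : m - Finsupp.single i 1 + Finsupp.single i 1 = m :=
        tsub_add_cancel_of_le (Finsupp.single_le_iff.2 (Nat.one_le_iff_ne_zero.2 h0))
      rw [he] at this
      simp only [coeff_zero, Finsupp.tsub_apply, Finsupp.single_eq_same] at this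
      have h1 : ((m i - 1 : ℕ) : k) + 1 = (m i : k) := by
        rw [← Nat.cast_succ]; congr 1; omega
      rw [h1] at this
      rcases mul_eq_zero.1 this.symm with h | h
      · exact absurd h hm
      · exact h
  obtain ⟨p, hp⟩ := CharP.exists k
  rcases CharP.char_is_prime_or_zero k p with hpp | hp0
  · haveI : Fact p.Prime := ⟨hpp⟩
    choose r hr using fun c : k => IsAlgClosed.exists_pow_nat_eq c hpp.pos
    let d : (Fin 3 →₀ ℕ) → (Fin 3 →₀ ℕ) := fun m => m.mapRange (· / p) (Nat.zero_div p)
    have hqe : (∑ m ∈ q.support, monomial (d m) (r (coeff m q))) ^ p = q := by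
      rw [sum_pow_char]
      conv_rhs => rw [q.as_sum]
      refine Finset.sum_congr rfl fun m hm => ?_
      rw [monomial_pow, hr]
      have hdm : p • d m = m := by
        ext i
        simp only [Finsupp.coe_smul, Pi.smul_apply, smul_eq_mul, d, Finsupp.mapRange_apply]
        exact Nat.mul_div_cancel' ((CharP.cast_eq_zero_iff k p _).1 (hzero m (mem_support_iff.1 hm) i))
      rw [hdm]
    exact not_irreducible_pow hpp.ne_one (hqe.symm ▸ hq)
  · subst hp0
    haveI : CharZero k := CharP.charP_to_charZero k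
    have hC : q = C (coeff 0 q) := by
      refine MvPolynomial.ext _ _ fun m => ?_
      rw [coeff_C]
      split_ifs with h
      · rw [h]
      · by_contra hne
        refine h (Finsupp.ext fun i => ?_)
        exact (Nat.cast_eq_zero.1 (hzero m hne i)).symm
    have hu : IsUnit (coeff 0 q) := by
      refine IsUnit.mk0 _ fun h0 => hq.ne_zero ?_
      rw [hC, h0, C_0]
    exact hq.not_isUnit (hC ▸ hu.map C)

/-- a direction in which the derivative of `f` is coprime to `f` -/
lemma exists_coprime_polar [IsAlgClosed k] {f : MvPolynomial (Fin 3) k} (hf : Squarefree f) :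
    ∃ l : Fin 3 → k, IsRelPrime f (Dv l f) := by
  classical
  have hf0 : f ≠ 0 := hf.ne_zero
  let L : MvPolynomial (Fin 3) k → ((Fin 3 → k) →ₗ[k] MvPolynomial (Fin 3) k) := fun q =>
    { toFun := fun l => Dv l q
      map_add' := fun a b => by simp only [Dv_apply, Pi.add_apply, add_smul, Finset.sum_add_distrib]
      map_smul' := fun c a => by
        simp only [Dv_apply, Pi.smul_apply, smul_eq_mul, RingHom.id_apply, Finset.smul_sum, mul_smul] }
  let F := (UniqueFactorizationMonoid.factors f).toFinset
  have hproper : ∀ q : {q // q ∈ F}, LinearMap.ker (L q.1) ≠ ⊤ := fun q htop => by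
    obtain ⟨i, hi⟩ := exists_pderiv_ne_zero
      (UniqueFactorizationMonoid.irreducible_of_factor q.1 (Multiset.mem_toFinset.1 q.2))
    refine hi ?_
    have h1 : Dv (Pi.single i (1 : k)) q.1 = 0 := by
      have h2 : Pi.single i (1 : k) ∈ LinearMap.ker (L q.1) := htop ▸ Submodule.mem_top
      exact h2
    simpa [Dv_apply, Pi.single_apply, ite_smul] using h1
  haveI : Infinite k := IsAlgClosed.instInfinite
  obtain ⟨l, hl⟩ : ∃ l : Fin 3 → k, ∀ q : {q // q ∈ F}, l ∉ LinearMap.ker (L q.1) := by
    have := Submodule.iUnion_ssubset_of_forall_ne_top_of_card_lt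
      (Finset.univ : Finset {q // q ∈ F}) (fun q => LinearMap.ker (L q.1)) hproper (by simp)
    obtain ⟨l, -, hl⟩ := Set.exists_of_ssubset this
    exact ⟨l, fun q hq => hl (Set.mem_iUnion₂.2 ⟨q, Finset.mem_univ _, hq⟩)⟩
  refine ⟨l, fun d hd hdg => ?_⟩
  by_contra hdu
  have hd0 : d ≠ 0 := fun h => hf0 (zero_dvd_iff.1 (h ▸ hd))
  obtain ⟨q0, hq0, hq0d⟩ := WfDvdMonoid.exists_irreducible_factor hdu hd0
  obtain ⟨q, hq, hassoc⟩ :=
    UniqueFactorizationMonoid.exists_mem_factors_of_dvd hf0 hq0 (hq0d.trans hd)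
  have hqi := UniqueFactorizationMonoid.irreducible_of_factor q hq
  have hqf : q ∣ f := hassoc.dvd'.trans (hq0d.trans hd)
  have hqg : q ∣ Dv l f := hassoc.dvd'.trans (hq0d.trans hdg)
  obtain ⟨c, rfl⟩ := hqf
  have hqc : ¬ q ∣ c := fun h => hqi.not_isUnit (hf q (mul_dvd_mul_left q h))
  have hne : Dv l q ≠ 0 := fun h => hl ⟨q, Multiset.mem_toFinset.2 hq⟩ h
  have h1 : q ∣ Dv l q * c := by
    rw [Dv_mul] at hqg
    exact (dvd_add_left (dvd_mul_right q _)).1 hqg
  obtain ⟨e, he⟩ := ((UniqueFactorizationMonoid.irreducible_iff_prime.1 hqi).dvd_mul.1 h1).resolve_right hqc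
  have he0 : e ≠ 0 := by rintro rfl; exact hne (by rw [he, mul_zero])
  have hdeg : (Dv l q).totalDegree = q.totalDegree + e.totalDegree := by
    rw [he, totalDegree_mul_of_isDomain hqi.ne_zero he0]
  have hlt : (Dv l q).totalDegree < q.totalDegree := by
    obtain ⟨i, hi⟩ := exists_pderiv_ne_zero hqi
    have hpos : 0 < q.totalDegree := (Nat.zero_le _).trans_lt (totalDegree_pderiv_lt i q hi)
    rw [Dv_apply]
    refine (totalDegree_finset_sum _ _).trans_lt ((Finset.sup_lt_iff hpos).2 fun j _ => ?_)
    refine (totalDegree_smul_le _ _).trans_lt ?_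
    by_cases hj : pderiv j q = 0
    · rwa [hj, totalDegree_zero]
    · exact totalDegree_pderiv_lt j q hj
  omega

lemma homogeneousComponent_hom_mul {f : MvPolynomial (Fin 3) k} {n : ℕ} (hf : f.IsHomogeneous n)
    (m : ℕ) (c : MvPolynomial (Fin 3) k) :
    homogeneousComponent (n + m) (f * c) = f * homogeneousComponent m c := by
  classical
  have hterm : ∀ i, homogeneousComponent (n + m) (f * homogeneousComponent i c) =
      if m = i then f * homogeneousComponent m c else 0 := fun i => by
    rw [homogeneousComponent_of_mem (hf.mul (homogeneousComponent_isHomogeneous i c))]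
    by_cases h : m = i
    · subst h; simp
    · rw [if_neg (by omega), if_neg h]
  conv_lhs => rw [← sum_homogeneousComponent c, Finset.mul_sum, map_sum]
  simp only [hterm, Finset.sum_ite_eq, Finset.mem_range]
  split_ifs with h
  · rfl
  · rw [homogeneousComponent_eq_zero m c (by omega), mul_zero]

lemma finrank_homog (n : ℕ) :
    FiniteDimensional k (homogeneousSubmodule (Fin 3) k n) ∧
      finrank k (homogeneousSubmodule (Fin 3) k n) = (3 + n - 1).choose n := by
  classical
  let e : {d : Fin 3 →₀ ℕ | d.degree = n} ≃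
      {d // d ∈ Finset.finsuppAntidiag (Finset.univ : Finset (Fin 3)) n} :=
    Equiv.subtypeEquivRight fun d => by
      simp [Finset.mem_finsuppAntidiag, Finsupp.degree_eq_sum]
  let b : Basis {d : Fin 3 →₀ ℕ | d.degree = n} k (homogeneousSubmodule (Fin 3) k n) := by
    rw [homogeneousSubmodule_eq_finsupp_supported]
    exact basisRestrictSupport k _
  haveI : Fintype {d : Fin 3 →₀ ℕ | d.degree = n} := Fintype.ofEquiv _ e.symm
  refine ⟨Module.Finite.of_basis b, ?_⟩
  rw [finrank_eq_card_basis b, Fintype.card_congr e, Fintype.card_coe,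
    Finset.card_finsuppAntidiag_nat_eq_choose]
  simp

lemma exists_minor {p q : Fin 3 → k} (hq : q ≠ 0) (hpq : ∀ c : k, c • q ≠ p) :
    ∃ a b, p a * q b - p b * q a ≠ 0 := by
  by_contra h
  push Not at h
  obtain ⟨b, hb⟩ := Function.ne_iff.1 hq
  refine hpq (p b / q b) (funext fun a => ?_)
  have := h a b
  simp only [Pi.smul_apply, smul_eq_mul, Pi.zero_apply] at hb ⊢
  field_simp
  linear_combination -this

lemma not_seven [IsAlgClosed k] {f : MvPolynomial (Fin 3) k} (hf : f.IsHomogeneous 4)
    (hred : Squarefree f) (p : Fin 7 → (Fin 3 → k)) (hp0 : ∀ i, p i ≠ 0)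
    (hp : ∀ i j, i ≠ j → ∀ c : k, c • p j ≠ p i) (h0 : ∀ i, eval (p i) f = 0)
    (h1 : ∀ i j, eval (p i) (pderiv j f) = 0) : False := by
  classical
  obtain ⟨l, hl⟩ := exists_coprime_polar hred
  set g := Dv l f with hgdef
  have hg : g.IsHomogeneous 3 := Dv_hom l hf
  have hf0 : f ≠ 0 := hred.ne_zero
  have hgp : ∀ i, eval (p i) g = 0 := fun i => by simp [hgdef, eval_Dv, h1]
  have hv : ∀ i, ∃ v : Fin 3 → k, (∀ c : k, c • p i ≠ v) ∧ eval (p i) (Dv v g) = 0 := by
    intro i
    let T : (Fin 3 → k) →ₗ[k] k :=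
      { toFun := fun v => ∑ j, v j * eval (p i) (pderiv j g)
        map_add' := fun a b => by simp [add_mul, Finset.sum_add_distrib]
        map_smul' := fun c a => by simp [Finset.mul_sum, mul_assoc] }
    have hker : ¬ LinearMap.ker T ≤ k ∙ p i := fun hle => by
      have h3 := Submodule.finrank_mono hle
      rw [finrank_span_singleton (hp0 i)] at h3
      have h4 := T.finrank_range_add_finrank_ker
      have h5 : finrank k (LinearMap.range T) ≤ 1 := by
        simpa using Submodule.finrank_le (LinearMap.range T)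
      rw [finrank_pi, Fintype.card_fin] at h4
      omega
    obtain ⟨v, hv, hv'⟩ := SetLike.not_le_iff_exists.1 hker
    refine ⟨v, fun c hc => hv' (Submodule.mem_span_singleton.2 ⟨c, hc⟩), ?_⟩
    rw [eval_Dv]
    exact hv
  choose v hv hvg using hv
  let R : ℕ → Submodule k (MvPolynomial (Fin 3) k) := homogeneousSubmodule (Fin 3) k
  haveI : ∀ n, FiniteDimensional k (R n) := fun n => (finrank_homog n).1
  let E : R 13 →ₗ[k] (Fin 7 → k × k) :=
    { toFun := fun h i => (eval (p i) h.1, eval (p i) (Dv (v i) h.1))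
      map_add' := fun a b => by funext i; simp
      map_smul' := fun c a => by
        funext i
        simp [smul_eq_C_mul, Dv_mul, Derivation.map_algebraMap, ← algebraMap_eq] }
  let Φ : (R 9 × R 10) →ₗ[k] R 13 :=
    { toFun := fun x => ⟨x.1.1 * f + x.2.1 * g,
        Submodule.add_mem _ (x.1.2.mul hf) (x.2.2.mul hg)⟩
      map_add' := fun a b => by ext1; simp; ring
      map_smul' := fun c a => by ext1; simp [smul_add] }
  let Ψ : R 6 →ₗ[k] (R 9 × R 10) :=
    { toFun := fun c => (⟨-(c.1 * g), Submodule.neg_mem _ (c.2.mul hg)⟩, ⟨c.1 * f, c.2.mul hf⟩)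
      map_add' := fun a b => by ext1 <;> ext1 <;> simp <;> ring
      map_smul' := fun c a => by ext1 <;> ext1 <;> simp }
  have hkerΦ : LinearMap.ker Φ ≤ LinearMap.range Ψ := by
    intro x hx
    have he : x.1.1 * f + x.2.1 * g = 0 := congrArg Subtype.val hx
    obtain ⟨c, hc⟩ : f ∣ x.2.1 :=
      hl.dvd_of_dvd_mul_right ⟨-x.1.1, by linear_combination he⟩
    have hc6 : c.IsHomogeneous 6 := by
      have h6 : f * c = f * homogeneousComponent 6 c := by
        rw [← homogeneousComponent_hom_mul hf, ← hc]
        exact (homogeneousComponent_eq_self x.2.2).symm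
      rw [mul_left_cancel₀ hf0 h6]
      exact homogeneousComponent_isHomogeneous 6 c
    refine ⟨⟨c, hc6⟩, ?_⟩
    have ha : x.1.1 = -(c * g) := by
      refine mul_right_cancel₀ hf0 ?_
      rw [hc] at he
      linear_combination he
    exact Prod.ext (Subtype.ext ha.symm) (Subtype.ext ((mul_comm c f).trans hc.symm))
  have hΦE : LinearMap.range Φ ≤ LinearMap.ker E := by
    rintro _ ⟨x, rfl⟩
    funext i
    simp [E, Φ, Dv_mul, h0, hgp, hvg, eval_Dv (v i) (p i) f, h1]
  have hEsurj : Function.Surjective E := by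
    intro y
    suffices H : ∀ i (z : k × k), ∃ h, E h = Pi.single i z by
      choose h hh using fun i => H i (y i)
      refine ⟨∑ i, h i, ?_⟩
      rw [map_sum]
      simp only [hh]
      exact Finset.univ_sum_single y
    intro i z
    choose a b hab using fun j : {j // j ≠ i} => exists_minor (hp0 j.1) (hp i j.1 j.2.symm)
    let ℓ : {j // j ≠ i} → MvPolynomial (Fin 3) k := fun j =>
      C (p j.1 (b j)) * X (a j) - C (p j.1 (a j)) * X (b j)
    have hℓhom : ∀ j, (ℓ j).IsHomogeneous 1 := fun j =>
      (isHomogeneous_C_mul_X _ _).sub (isHomogeneous_C_mul_X _ _)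
    have hℓj : ∀ j, eval (p j.1) (ℓ j) = 0 := fun j => by simp [ℓ, mul_comm]
    have hℓi : ∀ j, eval (p i) (ℓ j) ≠ 0 := fun j => by
      convert! hab j using 1
      simp [ℓ]; ring
    set Q := ∏ j, ℓ j ^ 2 with hQ
    have hQhom : Q.IsHomogeneous 12 := by
      have := IsHomogeneous.prod Finset.univ (fun j => ℓ j ^ 2) (fun _ => 1 * 2)
        fun j _ => (hℓhom j).pow 2
      simpa [Fintype.card_subtype_compl] using this
    have hQi : eval (p i) Q ≠ 0 := by
      rw [hQ, map_prod]
      exact Finset.prod_ne_zero_iff.2 fun j _ => by simpa using hℓi j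
    obtain ⟨c, d, hcd⟩ := exists_minor (p := v i) (hp0 i) (hv i)
    -- linear form with prescribed values at p i and v i
    have hlin : ∀ s t : k, ∃ m : MvPolynomial (Fin 3) k, m.IsHomogeneous 1 ∧
        eval (p i) m = s ∧ eval (p i) (Dv (v i) m) = t := by
      intro s t
      refine ⟨C ((t * p i d - s * v i d) / (v i c * p i d - v i d * p i c)) * X c +
        C ((s * v i c - t * p i c) / (v i c * p i d - v i d * p i c)) * X d,
        (isHomogeneous_C_mul_X _ _).add (isHomogeneous_C_mul_X _ _), ?_, ?_⟩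
      · simp
        rw [div_mul_eq_mul_div, div_mul_eq_mul_div, ← add_div, div_eq_iff hcd]
        ring
      · simp [eval_Dv, pderiv_mul, pderiv_X, Pi.single_apply, mul_add, Finset.sum_add_distrib]
        rw [div_mul_eq_mul_div, div_mul_eq_mul_div, ← add_div, div_eq_iff hcd]
        ring
    obtain ⟨m, hm, hm0, hm1⟩ := hlin (z.1 / eval (p i) Q)
      ((z.2 - z.1 / eval (p i) Q * eval (p i) (Dv (v i) Q)) / eval (p i) Q)
    refine ⟨⟨Q * m, hQhom.mul hm⟩, funext fun j => ?_⟩
    by_cases hji : j = i
    · subst hji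
      rw [Pi.single_eq_same]
      refine Prod.ext ?_ ?_
      · simp [E, hm0]; field_simp
      · simp [E, Dv_mul, hm0, hm1]; field_simp; ring
    · rw [Pi.single_eq_of_ne hji]
      have hQj : Q = ℓ ⟨j, hji⟩ * (ℓ ⟨j, hji⟩ * ∏ j' ∈ Finset.univ.erase ⟨j, hji⟩, ℓ j' ^ 2) := by
        rw [hQ, ← Finset.mul_prod_erase _ _ (Finset.mem_univ (⟨j, hji⟩ : {j // j ≠ i})), sq, mul_assoc]
      refine Prod.ext ?_ ?_
      · simp [E, hQj, hℓj ⟨j, hji⟩]
      · simp [E, hQj, Dv_mul, hℓj ⟨j, hji⟩]
  have e1 := E.finrank_range_add_finrank_ker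
  have e2 := Φ.finrank_range_add_finrank_ker
  rw [LinearMap.range_eq_top.2 hEsurj, finrank_top] at e1
  have e3 := Submodule.finrank_mono hkerΦ
  have e4 := LinearMap.finrank_range_le Ψ
  have e5 := Submodule.finrank_mono hΦE
  have key : finrank k (R 9 × R 10) ≤ finrank k (R 6) + finrank k (LinearMap.ker E) :=
    e2.symm.le.trans (by linarith [e3.trans e4, e5])
  have c6 : finrank k (R 6) = 28 := by rw [show finrank k (R 6) = _ from (finrank_homog 6).2]; rfl
  have c9 : finrank k (R 9) = 55 := by rw [show finrank k (R 9) = _ from (finrank_homog 9).2]; rfl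
  have c10 : finrank k (R 10) = 66 := by rw [show finrank k (R 10) = _ from (finrank_homog 10).2]; rfl
  have c13 : finrank k (R 13) = 105 := by rw [show finrank k (R 13) = _ from (finrank_homog 13).2]; rfl
  rw [finrank_prod, c6, c9, c10] at key
  rw [c13] at e1
  have c14 : finrank k (Fin 7 → k × k) = 14 := by simp [finrank_pi_fintype]
  omega

end


/-- Over an algebraically closed field k, a reduced plane quartic — the zero locus in the projective
plane of a square-free homogeneous polynomial f of degree 4 in three variables — has at most 6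
singular points, a singular point being a point of the projective plane at which f and its three
first partial derivatives vanish. (No hypothesis on the characteristic of k is imposed here. The
further assertions describing the quartics with exactly 5 or exactly 6 singular points are not part
of this row.) -/
theorem result
    {k : Type u} [Field k] [IsAlgClosed k] (f : MvPolynomial (Fin 3) k)
    (hf : f.IsHomogeneous 4) (hred : Squarefree f) :
    ∃ s : Finset (Projectivization k (Fin 3 → k)), s.card ≤ 6 ∧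
      ∀ p : Projectivization k (Fin 3 → k),
        MvPolynomial.eval p.rep f = 0 →
          (∀ i : Fin 3, MvPolynomial.eval p.rep (MvPolynomial.pderiv i f) = 0) → p ∈ s := by
  classical
  set S : Set (Projectivization k (Fin 3 → k)) := {p | MvPolynomial.eval p.rep f = 0 ∧
    ∀ i : Fin 3, MvPolynomial.eval p.rep (MvPolynomial.pderiv i f) = 0} with hS
  have h7 : ∀ t : Finset (Projectivization k (Fin 3 → k)), ↑t ⊆ S → t.card ≠ 7 := by
    intro t ht hcard
    let e := (Finset.equivFinOfCardEq hcard).symm
    refine not_seven hf hred (fun i => (e i).1.rep) (fun i => Projectivization.rep_nonzero _)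
      (fun i j hij c hc => hij (e.injective (Subtype.ext ?_)))
      (fun i => (ht (e i).2).1) (fun i => (ht (e i).2).2)
    rw [← Projectivization.mk_rep (e i).1, ← Projectivization.mk_rep (e j).1]
    exact (Projectivization.mk_eq_mk_iff' k _ _ _ _).2 ⟨c, hc⟩
  have hfin : S.Finite := by
    by_contra hinf
    obtain ⟨t, ht, hc⟩ := Set.Infinite.exists_subset_card_eq hinf 7
    exact h7 t ht hc
  refine ⟨hfin.toFinset, ?_, fun p hp hp' => hfin.mem_toFinset.2 ⟨hp, hp'⟩⟩
  by_contra hgt
  obtain ⟨t, ht, hc⟩ := Finset.exists_subset_card_eq (s := hfin.toFinset) (n := 7) (by omega)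
  exact h7 t (fun x hx => hfin.mem_toFinset.1 (ht hx)) hc


end Groth.Agent.S14312
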