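import Groth.Statements.S14313
import Groth.Agent.SurfRows.Fibre
import Groth.Agent.Lib.IdealModMul
-- import your own Groth.Agent.* helpers here

set_option autoImplicit false
set_option backward.isDefEq.respectTransparency false
set_option backward.isDefEq.respectTransparency.types false
universe u
open CategoryTheory CategoryTheory.Limits AlgebraicGeometry TopologicalSpace
open Surf

namespace Groth.Agent.S14313

open Groth.Agent Groth.Agent.H23

attribute [local instance] PicMul.clMonoid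

/-- Let k be an algebraically closed field, S a smooth projective surface over k (integral, proper and
smooth over k, of dimension 2), f : S → C a surjective k-morphism onto a smooth projective curve
(integral, proper and smooth over k, of dimension 1) and F = f⁻¹(p) the fibre over a closed point p,
with O_S(F) a tensor inverse of its ideal sheaf. Let D be a divisor (L = O_S(D) an invertible
module), Z_1 ≥ Z_2 ≥ ⋯ ≥ Z_n ≥ Z_{n+1} = 0 effective Cartier divisors (ideal sheaves I_1 ⊆ I_2 ⊆ ⋯ ⊆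
I_{n+1} = O_S) and μ_1 > μ_2 > ⋯ > μ_n > μ_{n+1} = 0 rational numbers such that every N_i = D − Z_i
− μ_i F (1 ≤ i ≤ n + 1) is a nef ℚ-divisor: (D·Γ) − (Z_i·Γ) − μ_i (F·Γ) ≥ 0 for every integral curve
Γ ⊆ S, where (L·Γ) = χ(O_Γ ⊗ L) − χ(O_Γ) and (Z_i·Γ) = −(I_i·Γ). Put d_i = N_i·F = (D·F) − (Z_i·F) −
μ_i (F·F). Then D² ≥ Σ_{i=1}^{n} (d_i + d_{i+1})(μ_i − μ_{i+1}); here (L·M) = χ(O_S) − χ(L) − χ(M) +
χ(L ⊗ M) for invertible L, M, packaged as FGA.intNum. (Indices run over Fin (n+1), position i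
standing for i + 1.) (The published statement is for the chapter's fibration, with connected fibres,
semi-stable and relatively minimal, over an algebraically closed field of positive characteristic;
this row asks only that f be surjective and allows any algebraically closed field.) -/
theorem result (k : Type u) [Field k] [IsAlgClosed k]
    (S : Scheme.{u}) [S.Over (Spec (CommRingCat.of k))] [IsProper (S ↘ (Spec (CommRingCat.of k)))]
    [Smooth (S ↘ (Spec (CommRingCat.of k)))] [IsIntegral S] (hdim : topologicalKrullDim S = 2)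
    (C : Scheme.{u}) [C.Over (Spec (CommRingCat.of k))] [IsProper (C ↘ (Spec (CommRingCat.of k)))]
    [Smooth (C ↘ (Spec (CommRingCat.of k)))] [IsIntegral C] (hdimC : topologicalKrullDim C = 1)
    (f : S ⟶ C) [f.IsOver (Spec (CommRingCat.of k))] [Surjective f]
    (p : C) (hp : IsClosed ({p} : Set C))
    (LF : S.Modules) (hLF : ClSub.IsInverseOf LF (ClSub.idealMod (f.fiberι p).ker))
    (L : S.Modules) (hL : PicF.IsInvertible L)
    (n : ℕ) (Z : Fin (n + 1) → S.IdealSheafData) (hZ : ∀ i, FGA.IsEffCartier (Z i))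
    (hZmono : Monotone Z) (hZlast : Z (Fin.last n) = ⊤)
    (μ : Fin (n + 1) → ℚ) (hμ : StrictAnti μ) (hμlast : μ (Fin.last n) = 0)
    (hnef : ∀ (i : Fin (n + 1)) (Γ : S.IdealSheafData), IsIntegral Γ.subscheme →
      topologicalKrullDim (Γ.support : Set S) = 1 →
      (0 : ℚ) ≤ ((Curv2.euler k S (CohB1.tensorMod (ClSub.quotMod Γ) L) - Curv2.euler k S (ClSub.quotMod Γ)) : ℚ) + ((Curv2.euler k S (CohB1.tensorMod (ClSub.quotMod Γ) (ClSub.idealMod (Z i))) - Curv2.euler k S (ClSub.quotMod Γ)) : ℚ)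
        - μ i * ((Curv2.euler k S (CohB1.tensorMod (ClSub.quotMod Γ) LF) - Curv2.euler k S (ClSub.quotMod Γ)) : ℚ)) :
    (Finset.univ.sum fun i : Fin n =>
        (((FGA.intNum k S 2 ![L, LF] (Coh.structureModule S) : ℚ) + (FGA.intNum k S 2 ![ClSub.idealMod (Z i.castSucc), LF] (Coh.structureModule S) : ℚ) - μ i.castSucc * (FGA.intNum k S 2 ![LF, LF] (Coh.structureModule S) : ℚ))
          + ((FGA.intNum k S 2 ![L, LF] (Coh.structureModule S) : ℚ) + (FGA.intNum k S 2 ![ClSub.idealMod (Z i.succ), LF] (Coh.structureModule S) : ℚ) - μ i.succ * (FGA.intNum k S 2 ![LF, LF] (Coh.structureModule S) : ℚ)))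
        * (μ i.castSucc - μ i.succ)) ≤ (FGA.intNum k S 2 ![L, L] (Coh.structureModule S) : ℚ) := by
  obtain ⟨hLFi, hF, -⟩ := SurfRows.fibre_nef k hdim hdimC f p hp hLF
  have hI : ∀ i, PicF.IsInvertible (ClSub.idealMod (Z i)) := fun i => (S8914.result _).2 (hZ i)
  let G : Fin (n + 1) → S.Modules := fun i => CohB1.tensorMod L (ClSub.idealMod (Z i))
  have hG : ∀ i, PicF.IsInvertible (G i) := fun i => PicMul.isInvertible_tensor hL (hI i)
  have hcl : ∀ i, PicF.cl (G i) = PicF.cl L * PicF.cl (ClSub.idealMod (Z i)) := fun i => PicMul.cl_tensor _ _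
  have hq : ∀ i, _ := fun i => SurfRows.nefQ k hdim (hG i) hLFi (μ i) fun Γ h1 h2 => by
    have h := hnef i Γ h1 h2
    have hΓ := SurfNef.invertible_ideal k hdim h1 h2
    have hd' : ∀ {M : S.Modules}, PicF.IsInvertible M →
        ((Curv2.euler k S (CohB1.tensorMod (ClSub.quotMod Γ) M) : ℚ) - (Curv2.euler k S (ClSub.quotMod Γ) : ℚ)) =
          -(SurfPairing.pair k (PicF.cl (ClSub.idealMod Γ)) (PicF.cl M) : ℚ) := fun hM => by
      have h := SurfNegDef.euler_quot_tensor (k := k) Γ hΓ hM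
      exact_mod_cast h
    rw [hd' hL, hd' (hI i), hd' hLFi] at h
    rw [hcl, SurfPairing.pair_mul k hdim.le hΓ hL (hI i), Int.cast_add]
    linarith
  let q : Fin (n + 1) → ℚ := fun i => (SurfPairing.pair k (PicF.cl (G i)) (PicF.cl (G i)) : ℚ) -
    2 * μ i * SurfPairing.pair k (PicF.cl (G i)) (PicF.cl LF) + μ i * μ i * SurfPairing.pair k (PicF.cl LF) (PicF.cl LF)
  have hlast : q (Fin.last n) = (FGA.intNum k S 2 ![L, L] (Coh.structureModule S) : ℚ) := by
    have hT : PicF.cl (ClSub.idealMod (⊤ : S.IdealSheafData)) = (1 : PicF.Cl S) := by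
      have hi := hI (Fin.last n)
      rw [hZlast] at hi
      have h2 : (⊤ * ⊤ : S.IdealSheafData) = ⊤ := by
        ext U : 2
        simp [Ideal.mul_top]
      have h := IdealModMul.cl_mul hi hi
      rw [h2] at h
      obtain ⟨T', hT', ⟨e⟩⟩ := PicInv.exists_inverse hi
      have hc : PicF.cl (ClSub.idealMod (⊤ : S.IdealSheafData)) * PicF.cl T' = 1 := by
        rw [← PicMul.cl_tensor, PicMul.one_def]
        exact PicMul.cl_eq_iff.2 ⟨e⟩
      rw [← hc]
      conv_rhs => rw [h, mul_assoc, hc, mul_one]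
    simp only [q, hcl, hZlast, hT, mul_one, hμlast, mul_zero, zero_mul, sub_zero, add_zero]
    rw [SurfPairing.intNum_eq_pair k hdim.le hL hL]
  have key : ∀ i : Fin n, (((FGA.intNum k S 2 ![L, LF] (Coh.structureModule S) : ℚ) + (FGA.intNum k S 2 ![ClSub.idealMod (Z i.castSucc), LF] (Coh.structureModule S) : ℚ) - μ i.castSucc * (FGA.intNum k S 2 ![LF, LF] (Coh.structureModule S) : ℚ))
          + ((FGA.intNum k S 2 ![L, LF] (Coh.structureModule S) : ℚ) + (FGA.intNum k S 2 ![ClSub.idealMod (Z i.succ), LF] (Coh.structureModule S) : ℚ) - μ i.succ * (FGA.intNum k S 2 ![LF, LF] (Coh.structureModule S) : ℚ)))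
        * (μ i.castSucc - μ i.succ) ≤ q i.succ - q i.castSucc := by
    intro i
    obtain ⟨E, hE, hcE, hs⟩ := SurfRows.exists_effective (hZ i.castSucc) (hZ i.succ) (hZmono Fin.castSucc_lt_succ.le)
    have hGE : PicF.cl (G i.succ) = PicF.cl (CohB1.tensorMod (G i.castSucc) E) := by
      rw [hcl i.succ, PicMul.cl_tensor (G i.castSucc) E, hcl i.castSucc, mul_assoc,
        mul_comm (PicF.cl (ClSub.idealMod (Z i.castSucc))), hcE]
    have hGE' := PicMul.isInvertible_tensor (hG i.castSucc) hE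
    have hN := (hq i.castSucc).1 hE hs
    have hN' := (hq i.succ).1 hE hs
    simp only [q]
    rw [SurfPairing.intNum_eq_pair k hdim.le hL hLFi, SurfPairing.intNum_eq_pair k hdim.le (hI _) hLFi,
      SurfPairing.intNum_eq_pair k hdim.le (hI _) hLFi, SurfPairing.intNum_eq_pair k hdim.le hLFi hLFi]
    have add : ∀ (A B M : S.Modules), PicF.IsInvertible A → PicF.IsInvertible B → PicF.IsInvertible M →
        (SurfPairing.pair k (PicF.cl A * PicF.cl B) (PicF.cl M) : ℚ) =
          (SurfPairing.pair k (PicF.cl A) (PicF.cl M) : ℚ) + SurfPairing.pair k (PicF.cl B) (PicF.cl M) := fun A B M hA hB hM => by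
      rw [SurfPairing.pair_comm k (_ * _), SurfPairing.pair_mul k hdim.le hM hA hB, Int.cast_add,
        SurfPairing.pair_comm k (PicF.cl M), SurfPairing.pair_comm k (PicF.cl M)]
    have d0 : (SurfPairing.pair k (PicF.cl (G i.castSucc)) (PicF.cl LF) : ℚ) = _ :=
      (congrArg (fun c => (SurfPairing.pair k c (PicF.cl LF) : ℚ)) (hcl i.castSucc)).trans (add L _ LF hL (hI _) hLFi)
    have d1 : (SurfPairing.pair k (PicF.cl (G i.succ)) (PicF.cl LF) : ℚ) = _ :=
      (congrArg (fun c => (SurfPairing.pair k c (PicF.cl LF) : ℚ)) (hcl i.succ)).trans (add L _ LF hL (hI _) hLFi)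
    rw [← d0, ← d1]
    have a1 : (SurfPairing.pair k (PicF.cl (G i.succ)) (PicF.cl LF) : ℚ) =
        SurfPairing.pair k (PicF.cl (G i.castSucc)) (PicF.cl LF) + SurfPairing.pair k (PicF.cl E) (PicF.cl LF) := by
      rw [hGE, PicMul.cl_tensor, add _ _ LF (hG _) hE hLFi]
    have a2 : (SurfPairing.pair k (PicF.cl (G i.succ)) (PicF.cl E) : ℚ) =
        SurfPairing.pair k (PicF.cl (G i.castSucc)) (PicF.cl E) + SurfPairing.pair k (PicF.cl E) (PicF.cl E) := by
      rw [hGE, PicMul.cl_tensor, add _ _ E (hG _) hE hE]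
    have a3 : (SurfPairing.pair k (PicF.cl (G i.succ)) (PicF.cl (G i.succ)) : ℚ) =
        SurfPairing.pair k (PicF.cl (G i.castSucc)) (PicF.cl (G i.castSucc)) +
          2 * SurfPairing.pair k (PicF.cl (G i.castSucc)) (PicF.cl E) + SurfPairing.pair k (PicF.cl E) (PicF.cl E) := by
      rw [hGE, PicMul.cl_tensor]
      rw [show (SurfPairing.pair k (PicF.cl (G i.castSucc) * PicF.cl E) (PicF.cl (G i.castSucc) * PicF.cl E) : ℚ) = _ from
        (congrArg (fun c => (SurfPairing.pair k (PicF.cl (G i.castSucc) * PicF.cl E) c : ℚ)) (PicMul.cl_tensor _ _).symm).trans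
          (add _ _ _ (hG _) hE hGE')]
      rw [SurfPairing.pair_comm k (PicF.cl (G i.castSucc)) (PicF.cl (CohB1.tensorMod _ _)),
        SurfPairing.pair_comm k (PicF.cl E) (PicF.cl (CohB1.tensorMod _ _)), PicMul.cl_tensor,
        add _ _ _ (hG _) hE (hG _), add _ _ _ (hG _) hE hE, SurfPairing.pair_comm k (PicF.cl E) (PicF.cl (G i.castSucc))]
      ring
    rw [SurfPairing.pair_comm k (PicF.cl LF) (PicF.cl E)] at hN hN'
    rw [a2] at hN'
    rw [a3, a1]
    nlinarith [hN, hN']
  refine (Finset.sum_le_sum fun i _ => key i).trans ?_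
  rw [Finset.sum_sub_distrib]
  have e1 := Fin.sum_univ_succ q
  have e2 := Fin.sum_univ_castSucc q
  have h0 : (0 : ℚ) ≤ q 0 := (hq 0).2
  linarith

end Groth.Agent.S14313
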