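import Groth.Statements.S14314
import Groth.Agent.SurfRows.Fibre
import Groth.Agent.Lib.IdealModMul
-- import your own Groth.Agent.* helpers here

set_option autoImplicit false
set_option backward.isDefEq.respectTransparency false
set_option backward.isDefEq.respectTransparency.types false
universe u
open CategoryTheory CategoryTheory.Limits AlgebraicGeometry TopologicalSpace
open Surf

namespace Groth.Agent.S14314

open Groth.Agent Groth.Agent.H23

attribute [local instance] PicMul.clMonoid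

/-- Let k be an algebraically closed field, S a smooth projective surface over k (integral, proper and
smooth over k, of dimension 2), f : S → C a surjective k-morphism onto a smooth projective curve and
F = f⁻¹(p) the fibre over a closed point p, with O_S(F) a tensor inverse of its ideal sheaf. Let
D_1, D_2 be numerically equivalent divisors (invertible modules L_1, L_2 with (L_1·Γ) = (L_2·Γ) for
every integral curve Γ ⊆ S, where (L·Γ) = χ(O_Γ ⊗ L) − χ(O_Γ)), μ_1 ≥ μ_2 rational numbers and Z_1,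
Z_2 effective Cartier divisors with common part Z, that is Z_i = Z + Y_i with Z, Y_1, Y_2 effective
Cartier divisors and Y_1, Y_2 without common component (Y_1 ∩ Y_2 finite); in terms of ideal sheaves
I_{Z_i} = I_Z · I_{Y_i}. If N_i = D_i − Z_i − μ_i F is nef for i = 1, 2, that is (D_i·Γ) +
(I_{Z_i}·Γ) − μ_i (F·Γ) ≥ 0 for every integral curve Γ, then N = D_2 − Z − μ_2 F is nef. (The
published statement is for the chapter's fibration over an algebraically closed field of positive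
characteristic; this row asks only that f be surjective and allows any algebraically closed field.) -/
theorem result (k : Type u) [Field k] [IsAlgClosed k]
    (S : Scheme.{u}) [S.Over (Spec (CommRingCat.of k))] [IsProper (S ↘ (Spec (CommRingCat.of k)))]
    [Smooth (S ↘ (Spec (CommRingCat.of k)))] [IsIntegral S] (hdim : topologicalKrullDim S = 2)
    (C : Scheme.{u}) [C.Over (Spec (CommRingCat.of k))] [IsProper (C ↘ (Spec (CommRingCat.of k)))]
    [Smooth (C ↘ (Spec (CommRingCat.of k)))] [IsIntegral C] (hdimC : topologicalKrullDim C = 1)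
    (f : S ⟶ C) [f.IsOver (Spec (CommRingCat.of k))] [Surjective f]
    (p : C) (hp : IsClosed ({p} : Set C))
    (LF : S.Modules) (hLF : ClSub.IsInverseOf LF (ClSub.idealMod (f.fiberι p).ker))
    (L₁ L₂ : S.Modules) (hL₁ : PicF.IsInvertible L₁) (hL₂ : PicF.IsInvertible L₂)
    (hnum : ∀ Γ : S.IdealSheafData, IsIntegral Γ.subscheme → topologicalKrullDim (Γ.support : Set S) = 1 →
      (Curv2.euler k S (CohB1.tensorMod (ClSub.quotMod Γ) L₁) - Curv2.euler k S (ClSub.quotMod Γ)) = (Curv2.euler k S (CohB1.tensorMod (ClSub.quotMod Γ) L₂) - Curv2.euler k S (ClSub.quotMod Γ)))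
    (μ₁ μ₂ : ℚ) (hμ : μ₂ ≤ μ₁)
    (Z Y₁ Y₂ Z₁ Z₂ : S.IdealSheafData) (hZ : FGA.IsEffCartier Z) (hY₁ : FGA.IsEffCartier Y₁) (hY₂ : FGA.IsEffCartier Y₂)
    (hZ₁ : Z₁ = Z * Y₁) (hZ₂ : Z₂ = Z * Y₂) (hY : ((Y₁ ⊔ Y₂).support : Set S).Finite)
    (hnef₁ : (∀ Γ : S.IdealSheafData, IsIntegral Γ.subscheme → topologicalKrullDim (Γ.support : Set S) = 1 →
      (0 : ℚ) ≤ ((Curv2.euler k S (CohB1.tensorMod (ClSub.quotMod Γ) L₁) - Curv2.euler k S (ClSub.quotMod Γ)) : ℚ) + ((Curv2.euler k S (CohB1.tensorMod (ClSub.quotMod Γ) (ClSub.idealMod Z₁)) - Curv2.euler k S (ClSub.quotMod Γ)) : ℚ)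
        - μ₁ * ((Curv2.euler k S (CohB1.tensorMod (ClSub.quotMod Γ) LF) - Curv2.euler k S (ClSub.quotMod Γ)) : ℚ)))
    (hnef₂ : (∀ Γ : S.IdealSheafData, IsIntegral Γ.subscheme → topologicalKrullDim (Γ.support : Set S) = 1 →
      (0 : ℚ) ≤ ((Curv2.euler k S (CohB1.tensorMod (ClSub.quotMod Γ) L₂) - Curv2.euler k S (ClSub.quotMod Γ)) : ℚ) + ((Curv2.euler k S (CohB1.tensorMod (ClSub.quotMod Γ) (ClSub.idealMod Z₂)) - Curv2.euler k S (ClSub.quotMod Γ)) : ℚ)
        - μ₂ * ((Curv2.euler k S (CohB1.tensorMod (ClSub.quotMod Γ) LF) - Curv2.euler k S (ClSub.quotMod Γ)) : ℚ))) :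
    (∀ Γ : S.IdealSheafData, IsIntegral Γ.subscheme → topologicalKrullDim (Γ.support : Set S) = 1 →
      (0 : ℚ) ≤ ((Curv2.euler k S (CohB1.tensorMod (ClSub.quotMod Γ) L₂) - Curv2.euler k S (ClSub.quotMod Γ)) : ℚ) + ((Curv2.euler k S (CohB1.tensorMod (ClSub.quotMod Γ) (ClSub.idealMod Z)) - Curv2.euler k S (ClSub.quotMod Γ)) : ℚ)
        - μ₂ * ((Curv2.euler k S (CohB1.tensorMod (ClSub.quotMod Γ) LF) - Curv2.euler k S (ClSub.quotMod Γ)) : ℚ)) := by
  obtain ⟨hLFi, hF, -⟩ := SurfRows.fibre_nef k hdim hdimC f p hp hLF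
  have hI := (S8914.result Z).2 hZ
  have hI₁ := (S8914.result Y₁).2 hY₁
  have hI₂ := (S8914.result Y₂).2 hY₂
  intro Γ hint hd
  have h1 := hnef₁ Γ hint hd
  have h2 := hnef₂ Γ hint hd
  have hn := hnum Γ hint hd
  have hΓ := SurfNef.invertible_ideal k hdim hint hd
  have hd' : ∀ {M : S.Modules}, PicF.IsInvertible M →
      ((Curv2.euler k S (CohB1.tensorMod (ClSub.quotMod Γ) M) : ℚ) - (Curv2.euler k S (ClSub.quotMod Γ) : ℚ)) =
        -(SurfPairing.pair k (PicF.cl (ClSub.idealMod Γ)) (PicF.cl M) : ℚ) := fun hM => by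
    have h := SurfNegDef.euler_quot_tensor (k := k) Γ hΓ hM
    exact_mod_cast h
  rw [SurfNegDef.euler_quot_tensor (k := k) Γ hΓ hL₁, SurfNegDef.euler_quot_tensor (k := k) Γ hΓ hL₂] at hn
  have hnq : (SurfPairing.pair k (PicF.cl (ClSub.idealMod Γ)) (PicF.cl L₁) : ℚ) =
      SurfPairing.pair k (PicF.cl (ClSub.idealMod Γ)) (PicF.cl L₂) := by exact_mod_cast neg_inj.1 hn
  subst hZ₁ hZ₂
  rw [hd' hL₁, hd' (IdealModMul.isInvertible_mul hI hI₁), hd' hLFi, IdealModMul.cl_mul hI hI₁,
    SurfPairing.pair_mul k hdim.le hΓ hI hI₁, Int.cast_add] at h1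
  rw [hd' hL₂, hd' (IdealModMul.isInvertible_mul hI hI₂), hd' hLFi, IdealModMul.cl_mul hI hI₂,
    SurfPairing.pair_mul k hdim.le hΓ hI hI₂, Int.cast_add] at h2
  rw [hd' hL₂, hd' hI, hd' hLFi]
  have hμF : μ₁ * (SurfPairing.pair k (PicF.cl (ClSub.idealMod Γ)) (PicF.cl LF) : ℚ) ≤
      μ₂ * (SurfPairing.pair k (PicF.cl (ClSub.idealMod Γ)) (PicF.cl LF) : ℚ) :=
    mul_le_mul_of_nonpos_right hμ (by exact_mod_cast hF Γ hint hd)
  haveI := hint
  have hor : ¬ (Γ.support : Set S) ⊆ Y₁.support ∨ ¬ (Γ.support : Set S) ⊆ Y₂.support := by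
    by_contra hc
    simp only [not_or, not_not] at hc
    have hfin : (Γ.support : Set S).Finite := hY.subset fun x hx => by
      rw [Scheme.IdealSheafData.support_sup]
      exact ⟨hc.1 hx, hc.2 hx⟩
    haveI := hfin.to_subtype
    haveI : JacobsonSpace S := LocallyOfFiniteType.jacobsonSpace (S ↘ Spec (CommRingCat.of k))
    haveI : JacobsonSpace (Γ.support : Set S) :=
      .of_isClosedEmbedding Γ.support.isClosed.isClosedEmbedding_subtypeVal
    haveI : DiscreteTopology (Γ.support : Set S) := inferInstance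
    have h0 := topologicalKrullDim_zero_of_discreteTopology (Γ.support : Set S)
    rw [hd] at h0
    exact absurd h0 (by decide)
  rcases hor with hY' | hY'
  · have := SurfNegDef.pair_ideal_nonneg (k := k) hdim (SurfHodge.regular k) hd hY₁ hY'
    have hq : (0 : ℚ) ≤ SurfPairing.pair k (PicF.cl (ClSub.idealMod Γ)) (PicF.cl (ClSub.idealMod Y₁)) := by exact_mod_cast this
    linarith
  · have := SurfNegDef.pair_ideal_nonneg (k := k) hdim (SurfHodge.regular k) hd hY₂ hY'
    have hq : (0 : ℚ) ≤ SurfPairing.pair k (PicF.cl (ClSub.idealMod Γ)) (PicF.cl (ClSub.idealMod Y₂)) := by exact_mod_cast this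
    linarith

end Groth.Agent.S14314
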