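import Groth.Statements.S14315
import Groth.Agent.SurfRows.Ruled
import Groth.Agent.H23.Isogeny
import Groth.Agent.S2155
import Groth.Agent.S2156

set_option autoImplicit false
set_option backward.isDefEq.respectTransparency false
set_option backward.isDefEq.respectTransparency.types false
set_option linter.style.haveILetI false
set_option linter.unusedSectionVars false
set_option maxHeartbeats 800000
universe u
open CategoryTheory CategoryTheory.Limits AlgebraicGeometry TopologicalSpace
open Surf

namespace Groth.Agent.S14315

open CategoryTheory CategoryTheory.Limits Groth.Agent Groth.Agent.SurfRows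

theorem smoothLocus_comp {X Y Z : Scheme.{u}} (f : X ⟶ Y) (g : Y ⟶ Z) [LocallyOfFinitePresentation f]
    [LocallyOfFinitePresentation g] {x : X} (hf : x ∈ f.smoothLocus) (hg : f x ∈ g.smoothLocus) :
    x ∈ (f ≫ g).smoothLocus := by
  rw [Scheme.Hom.mem_smoothLocus] at hf hg ⊢
  rw [Scheme.Hom.stalkMap_comp]
  exact RingHom.FormallySmooth.comp hg hf

theorem smoothLocus_congr {X Z : Scheme.{u}} {g g' : X ⟶ Z} (e : g = g') [LocallyOfFinitePresentation g]
    [LocallyOfFinitePresentation g'] {x : X} (h : x ∈ g.smoothLocus) : x ∈ g'.smoothLocus := by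
  subst e; exact h

/-- Let k be an algebraically closed field, S a smooth projective surface over k (integral, proper and
smooth over k, of dimension 2), f : S → C a surjective k-morphism onto a smooth projective curve C
(integral, proper and smooth over k, of dimension 1), and ψ : C' → C a finite k-morphism from
another smooth projective curve C' which is unramified at every point of C' lying over a point of C
whose fibre of f is not smooth. Then S ×_C C' is smooth over k. (The published statement takes ψ
separable and f the chapter's generically smooth semi-stable fibration with connected fibres over an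
algebraically closed field of positive characteristic; this row assumes only f surjective and ψ
finite, over any algebraically closed field.) -/
theorem result (k : Type u) [Field k] [IsAlgClosed k]
    (S : Scheme.{u}) [S.Over (Spec (CommRingCat.of k))] [IsProper (S ↘ (Spec (CommRingCat.of k)))]
    [Smooth (S ↘ (Spec (CommRingCat.of k)))] [IsIntegral S] (hdim : topologicalKrullDim S = 2)
    (C : Scheme.{u}) [C.Over (Spec (CommRingCat.of k))] [IsProper (C ↘ (Spec (CommRingCat.of k)))]
    [Smooth (C ↘ (Spec (CommRingCat.of k)))] [IsIntegral C] (hdimC : topologicalKrullDim C = 1)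
    (f : S ⟶ C) [f.IsOver (Spec (CommRingCat.of k))] [Surjective f]
    (C' : Scheme.{u}) [C'.Over (Spec (CommRingCat.of k))] [IsProper (C' ↘ (Spec (CommRingCat.of k)))]
    [Smooth (C' ↘ (Spec (CommRingCat.of k)))] [IsIntegral C'] (hdimC' : topologicalKrullDim C' = 1)
    (ψ : C' ⟶ C) [ψ.IsOver (Spec (CommRingCat.of k))] [IsFinite ψ]
    (hψ : ∀ c : C', ¬ Smooth (f.fiberToSpecResidueField (ψ.base c)) →
      ∃ U : C'.Opens, c ∈ U ∧ FormallyUnramified (U.ι ≫ ψ)) :
    Smooth (pullback.snd f ψ ≫ (C' ↘ (Spec (CommRingCat.of k)))) := by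
  haveI : Surjective ψ := H23.Isogeny.surjective_of_isFinite (C' ↘ Spec (CommRingCat.of k)) (C ↘ Spec (CommRingCat.of k)) ψ
    (comp_over ψ (Spec (CommRingCat.of k))) (hdimC'.trans hdimC.symm)
  obtain ⟨hpr, hfl, hlfp, hln⟩ := fibred_morphism k f hdimC
  haveI := hpr; haveI := hfl; haveI := hlfp; haveI := hln
  obtain ⟨hpr', hfl', hlfp', -⟩ := fibred_morphism k ψ hdimC
  haveI := hpr'; haveI := hfl'; haveI := hlfp'
  rw [← Scheme.Hom.smoothLocus_eq_top_iff, ← top_le_iff]
  rintro p -
  by_cases hc : Smooth (f.fiberToSpecResidueField (ψ (pullback.snd f ψ p)))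
  · have hw : f (pullback.fst f ψ p) = ψ (pullback.snd f ψ p) := by
      rw [← Scheme.Hom.comp_apply, ← Scheme.Hom.comp_apply, pullback.condition]
    haveI : Smooth (f.fiberToSpecResidueField (f (pullback.fst f ψ p))) := by rw [hw]; exact hc
    have hx : pullback.fst f ψ p ∈ f.smoothLocus :=
      (S2156.result f _).2 ⟨Flat.stalkMap f _, by rw [Scheme.Hom.smoothLocus_eq_top]; trivial⟩
    have hp : p ∈ (pullback.snd f ψ).smoothLocus := by
      rw [S2155.result f ψ _ _ (IsPullback.of_hasPullback f ψ) (Or.inl inferInstance)]; exact hx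
    exact smoothLocus_comp _ _ hp (by rw [Scheme.Hom.smoothLocus_eq_top]; trivial)
  · obtain ⟨U, hcU, hU⟩ := hψ _ hc
    haveI := hU
    haveI : Etale (U.ι ≫ ψ) := Etale.of_formallyUnramified_of_flat _
    have hx : pullback.snd f ψ p ∈ ψ.smoothLocus := by
      have h : (⟨_, hcU⟩ : U) ∈ (U.ι ≫ ψ).smoothLocus := by rw [Scheme.Hom.smoothLocus_eq_top]; trivial
      rw [← Scheme.Hom.preimage_smoothLocus_eq] at h
      exact h
    have hp : p ∈ (pullback.fst f ψ).smoothLocus := by
      rw [S2155.result ψ f _ _ (IsPullback.of_hasPullback f ψ).flip (Or.inl inferInstance)]; exact hx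
    exact smoothLocus_congr (g := pullback.fst f ψ ≫ (S ↘ Spec (CommRingCat.of k)))
      (by rw [← comp_over f (Spec (CommRingCat.of k)), ← comp_over ψ (Spec (CommRingCat.of k)),
      pullback.condition_assoc]) (smoothLocus_comp _ _ hp (by rw [Scheme.Hom.smoothLocus_eq_top]; trivial))

end Groth.Agent.S14315
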