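import Groth.Statements.S14319
import Groth.Agent.SurfRows.FibrationTorsion

set_option autoImplicit false
set_option backward.isDefEq.respectTransparency false
set_option backward.isDefEq.respectTransparency.types false
set_option linter.style.haveILetI false
set_option linter.unusedSectionVars false
set_option maxHeartbeats 800000
universe u
open CategoryTheory CategoryTheory.Limits AlgebraicGeometry TopologicalSpace
open Surf

namespace Groth.Agent.S14319

open Groth.Agent Groth.Agent.H23 Groth.Agent.SurfRows
attribute [local instance] PicMul.clMonoid

/-- Let k be an algebraically closed field, S a smooth projective surface over k (integral, proper and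
smooth, of dimension 2) and f : S → C a fibration onto a smooth projective curve (a surjective
k-morphism with O_C → f_*O_S an isomorphism) which is semi-stable (flat, of finite presentation, all
fibres one-dimensional with at worst nodal singularities); let g ≥ 2 be the genus of the fibres, 1 −
g = χ(O_F) for the fibre F = f⁻¹(p) over a closed point p with smooth fibre (computed on S through
the direct image of O_F). Let ω_{S/C} = ω_S ⊗ (f^*ω_C)^{-1} be the relative canonical module, ω_S a
second exterior power of Ω_{S/k} and (f^*Ω_{C/k})^{-1} a tensor inverse of f^*Ω_{C/k}. Let l be a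
prime number invertible in k and η an invertible O_S-module with η^{⊗l} ≅ O_S whose restriction to
the fibre F is not trivial. Then f_*(ω_{S/C} ⊗ η) is locally free of rank g − 1 and has the same
degree as f_*ω_{S/C}: χ(f_*(ω_{S/C} ⊗ η)) − (g − 1)χ(O_C) = χ(f_*ω_{S/C}) − g·χ(O_C). (The published
statement also asserts that f_*(ω_{S/C} ⊗ η) has non-negative quotients, which rests on an external
semi-positivity input and is not restated, and carries the chapter's further standing hypotheses —
generically ordinary, strongly l-ordinary generic fibre, non-isotrivial, relatively minimal — not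
used here; the non-triviality of η on fibres is asked on one smooth closed fibre, the published
'general fibre'. The published statement works over an algebraically closed field of positive
characteristic; this row allows any algebraically closed field.) -/
theorem result (k : Type u) [Field k] [IsAlgClosed k]
    (S : Scheme.{u}) [S.Over (Spec (CommRingCat.of k))] [IsProper (S ↘ (Spec (CommRingCat.of k)))]
    [Smooth (S ↘ (Spec (CommRingCat.of k)))] [IsIntegral S] (hdim : topologicalKrullDim S = 2)
    (C : Scheme.{u}) [C.Over (Spec (CommRingCat.of k))] [IsProper (C ↘ (Spec (CommRingCat.of k)))]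
    [Smooth (C ↘ (Spec (CommRingCat.of k)))] [IsIntegral C] (hdimC : topologicalKrullDim C = 1)
    (f : S ⟶ C) [f.IsOver (Spec (CommRingCat.of k))] [Surjective f] (hconn : IsIso (ClSub.unitToPush f))
    (hss : Curv2.IsNodalFamily f)
    (p : C) (hp : IsClosed ({p} : Set C))
    (hpF : Smooth (f.fiberToSpecResidueField p))
    (g : ℕ) (hg2 : 2 ≤ g) (hg : Curv2.euler k S (ClSub.quotMod (f.fiberι p).ker) = 1 - (g : ℤ))
    (WS : S.Modules) (hWS : ExtPow.IsExtPow 2 (Omega.sheaf (S ↘ (Spec (CommRingCat.of k)))) WS)
    (M : S.Modules) (hM : ClSub.IsInverseOf M ((Scheme.Modules.pullback f).obj (Omega.sheaf (C ↘ (Spec (CommRingCat.of k))))))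
    (l : ℕ) (hl : l.Prime) (hlk : (l : k) ≠ 0)
    (η : S.Modules) (hη : PicF.IsInvertible η) (hηl : Nonempty (CohB1.tensorPow η l ≅ Coh.structureModule S))
    (hηF : ¬ Nonempty ((Scheme.Modules.pullback (f.fiberι p)).obj η ≅ Coh.structureModule (f.fiber p))) :
    FlatMod.IsFinLocFreeOfRank (g - 1) ((Coh.push f).obj (CohB1.tensorMod (CohB1.tensorMod WS M) η)) ∧
    Curv2.euler k C ((Coh.push f).obj (CohB1.tensorMod (CohB1.tensorMod WS M) η)) - ((g : ℤ) - 1) * Curv2.euler k C (Coh.structureModule C) =
      Curv2.euler k C ((Coh.push f).obj (CohB1.tensorMod WS M)) - (g : ℤ) * Curv2.euler k C (Coh.structureModule C) := by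
  haveI : HasInjectiveResolutions S.Modules := KFlatLib.hasInjectiveResolutions_modules
  exact fibration_relative_torsion k f hdim hdimC hconn hss hl hlk hη hηl.some p hp hηF hWS g hg2 hg hM

end Groth.Agent.S14319
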