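import Groth.Statements.S6039
import Groth.Agent.S5856
import Groth.Agent.ZClosLib.Basic
-- import your own Groth.Agent.* helpers here

set_option autoImplicit false
universe u
open CategoryTheory CategoryTheory.Limits TopologicalSpace AlgebraicGeometry Opposite
open LocCohZ

namespace Groth.Agent.S6039

/-- Let X be a locally Noetherian scheme, Y a closed subset with open complement U and M a coherent
O_X-module. Then depth M_x ≥ 2 for every x ∈ Y if and only if, for every open V of X, the
restriction map Γ(V, M) → Γ(V ∩ U, M) is bijective. -/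
theorem result (X : Scheme.{u}) [IsLocallyNoetherian X] (U : X.Opens)
    (M : X.Modules) (hM : Coh.IsCoh M) :
    (∀ x : X, x ∉ (U : Set X) → (2 : ℕ∞) ≤ LocCoh.depth (X.presheaf.stalk x) (M.presheaf.stalk x)) ↔
      ∀ V : X.Opens, Function.Bijective (M.val.map (homOfLE (inf_le_left : V ⊓ U ≤ V)).op).hom := by
  let Z : Set X := (U : Set X)ᶜ
  have hZc : IsClosed Z := U.isOpen.isClosed_compl
  have hZ : StableUnderSpecialization Z := hZc.stableUnderSpecialization
  have key : (∀ x : X, x ∉ (U : Set X) → (2 : ℕ∞) ≤ LocCoh.depth (X.presheaf.stalk x) (M.presheaf.stalk x)) ↔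
      ZClos.IsZClosed Z M := by
    constructor
    · intro h
      exact Groth.Agent.ZClosLib.isIso_of_stalkMap_bijective _ fun x =>
        (Groth.Agent.S5856.result X Z hZ M hM x).2 fun x' _ hx' => h x' hx'
    · intro h x hx
      refine (Groth.Agent.S5856.result X Z hZ M hM x).1 ?_ x (specializes_refl x) hx
      haveI : IsIso (ZClos.rhoApp Z M) := h
      haveI : IsIso (ZClos.rhoApp Z M).mapPresheaf :=
        inferInstanceAs (IsIso ((Scheme.Modules.toPresheaf X).map (ZClos.rhoApp Z M)))
      haveI : IsIso (ZClos.rhoStalk Z M x) :=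
        inferInstanceAs (IsIso ((TopCat.Presheaf.stalkFunctor Ab.{u} x).map (ZClos.rhoApp Z M).mapPresheaf))
      exact (ConcreteCategory.isIso_iff_bijective _).1 inferInstance
  rw [key]
  let T0 : ZClos.Cl Z := ⟨⟨Z, hZc⟩, subset_rfl⟩
  have hU : T0.U = U := by
    ext x
    exact not_not
  constructor
  · intro h V
    haveI := Groth.Agent.ZClosLib.isZClosed_iff_forall_isIso.1 h T0
    have hb := (Groth.Agent.ZClosLib.unit_app_bijective_iff T0.U M V).1
      (Groth.Agent.ZClosLib.app_bijective_of_isIso (ZClos.toDiagram Z M T0) V)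
    have gen : ∀ W : X.Opens, W = U → Function.Bijective (Groth.Agent.ZClosLib.res M (inf_le_left : V ⊓ W ≤ V)) →
        Function.Bijective (M.val.map (homOfLE (inf_le_left : V ⊓ U ≤ V)).op).hom := by
      rintro W rfl hh
      exact hh
    exact gen _ hU hb
  · intro h
    refine Groth.Agent.ZClosLib.isZClosed_iff_forall_bijective.2 fun T V _ => ?_
    have hUT : U ≤ T.U := fun x hx hT => T.2 hT hx
    have h1 := h (V ⊓ T.U)
    have h2 := h V
    have ee : (V ⊓ T.U) ⊓ U = V ⊓ U := by rw [inf_assoc, inf_eq_right.2 hUT]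
    have gen : ∀ (W : X.Opens) (hW : W ≤ V ⊓ T.U), W = V ⊓ U →
        Function.Bijective (Groth.Agent.ZClosLib.res M hW) →
        Function.Bijective (Groth.Agent.ZClosLib.res M (inf_le_left : V ⊓ T.U ≤ V)) := by
      rintro W hW rfl hh
      have hcomp : (Groth.Agent.ZClosLib.res M (inf_le_left : V ⊓ U ≤ V)) =
          (Groth.Agent.ZClosLib.res M hW) ∘ (Groth.Agent.ZClosLib.res M (inf_le_left : V ⊓ T.U ≤ V)) :=
        funext fun s => (Groth.Agent.ZClosLib.res_res _ _ _ _).symm
      have h2' : Function.Bijective (Groth.Agent.ZClosLib.res M (inf_le_left : V ⊓ U ≤ V)) := h2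
      rw [hcomp] at h2'
      exact (Function.Bijective.of_comp_iff' hh _).1 h2'
    exact gen _ inf_le_left ee h1


end Groth.Agent.S6039
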