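import Groth.Statements.S14330
import Groth.Agent.S6039
import Groth.Agent.S3844
import Groth.Agent.Lib.CurveDeg
import Groth.Agent.H23.InvStalk
import Groth.Agent.InvX.Frame
import Groth.Agent.FlatLoc6.Depth
import Groth.Agent.Hensel.DepthFlat

set_option autoImplicit false
universe u
open CategoryTheory CategoryTheory.Limits AlgebraicGeometry Opposite
open GrpSch

namespace Groth.Agent.S14330

open Groth.Agent.AModX

theorem inj_of_dense {A : Scheme.{u}} (L : A.Modules) (hL : PicF.IsInvertible L) (V : A.Opens)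
    (hV : CInt.IsSchematicallyDense V) (U : A.Opens) :
    Function.Injective (res L (inf_le_left : U ⊓ V ≤ U)) := by
  rw [injective_iff_map_eq_zero]
  intro s hs
  refine TopCat.Presheaf.section_ext (⟨L.presheaf, L.isSheaf⟩ : TopCat.Sheaf Ab.{u} A) _ _ _ fun x hx => ?_
  show L.presheaf.germ U x hx s = L.presheaf.germ U x hx 0
  obtain ⟨U', hx', e, he⟩ := InvX.exists_frame hL x
  obtain ⟨r, hr⟩ := he.exists_coord (inf_le_right : U ⊓ U' ≤ U') (res L inf_le_left s)
  have h0 : (U ⊓ U') ⊓ V ≤ U ⊓ V := inf_le_inf_right _ inf_le_left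
  have h1 := congrArg (res L (inf_le_left : (U ⊓ U') ⊓ V ≤ U ⊓ U')) hr
  rw [res_smul, res_res, res_res, ← res_res (inf_le_left : U ⊓ V ≤ U) h0, hs, map_zero] at h1
  have h2 := (he _ (inf_le_left.trans inf_le_right)).1 (h1.symm.trans (zero_smul _ _).symm)
  have h3 : r = 0 := hV (U ⊓ U') (h2.trans (map_zero _).symm)
  rw [h3, zero_smul] at hr
  rw [← L.presheaf.germ_res_apply (homOfLE (inf_le_left : U ⊓ U' ≤ U)) x ⟨hx, hx'⟩ s,
    ← L.presheaf.germ_res_apply (homOfLE (inf_le_left : U ⊓ U' ≤ U)) x ⟨hx, hx'⟩ 0]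
  exact (congrArg _ hr).trans (congrArg _ (map_zero _).symm)

theorem depth_stalk_mono {A S : Scheme.{u}} [IsLocallyNoetherian A] [IsLocallyNoetherian S]
    (f : A ⟶ S) [Flat f] (y : A) :
    LocCoh.depth (S.presheaf.stalk (f y)) (S.presheaf.stalk (f y)) ≤
      LocCoh.depth (A.presheaf.stalk y) (A.presheaf.stalk y) := by
  letI : Algebra (S.presheaf.stalk (f y)) (A.presheaf.stalk y) := (f.stalkMap y).hom.toAlgebra
  haveI : IsLocalHom (algebraMap (S.presheaf.stalk (f y)) (A.presheaf.stalk y)) :=
    inferInstanceAs (IsLocalHom (f.stalkMap y).hom)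
  haveI : Module.Flat (S.presheaf.stalk (f y)) (A.presheaf.stalk y) := Flat.stalkMap f y
  have hd := FlatLoc6.depth_tensor (A := S.presheaf.stalk (f y)) (B := A.presheaf.stalk y)
    (N := A.presheaf.stalk y) (S.presheaf.stalk (f y))
  rw [Hensel.depth_congr (TensorProduct.AlgebraTensorModule.rid (S.presheaf.stalk (f y)) (A.presheaf.stalk y)
    (A.presheaf.stalk y))] at hd
  rw [hd]
  exact le_self_add

/-- Let S be a locally Noetherian scheme, f : A → S a smooth morphism, L an invertible O_A-module and V
an open subscheme of S; for an open W of S consider the restriction of sections of L from f⁻¹(W) to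
f⁻¹(W) ∩ f⁻¹(V), that is the component over W of the natural map f_*L → j_*j^*(f_*L), j : V → S the
inclusion. If V is schematically dense in S, all these restrictions are injective. If V is a big
open of S, meaning that the local ring of S at every point outside V has depth at least 2, all these
restrictions are bijective. (The published statement is for a semi-stable group scheme A; its proof
uses only the smoothness of A over S and the local freeness of L, which are the hypotheses kept
here.) -/
theorem result {S A : Scheme.{u}} [IsLocallyNoetherian S]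
    (f : A ⟶ S) [Smooth f] (L : A.Modules) (hL : PicF.IsInvertible L) (V : S.Opens) :
    (CInt.IsSchematicallyDense V →
      ∀ W : S.Opens, Function.Injective (L.val.map (homOfLE (inf_le_left : f ⁻¹ᵁ W ⊓ f ⁻¹ᵁ V ≤ f ⁻¹ᵁ W)).op)) ∧
    ((∀ x : S, x ∉ V → 2 ≤ LocCoh.depth (S.presheaf.stalk x) (S.presheaf.stalk x)) →
      ∀ W : S.Opens, Function.Bijective (L.val.map (homOfLE (inf_le_left : f ⁻¹ᵁ W ⊓ f ⁻¹ᵁ V ≤ f ⁻¹ᵁ W)).op)) := by
  haveI : IsLocallyNoetherian A := LocallyOfFiniteType.isLocallyNoetherian f
  constructor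
  · intro hV W
    exact inj_of_dense L hL _ (Groth.Agent.S3844.result f V hV) _
  · intro hV W
    refine (Groth.Agent.S6039.result A (f ⁻¹ᵁ V) L (CurveDeg.isCoh_of_isInvertible hL)).1 (fun y hy => ?_) _
    obtain ⟨e⟩ := H23.InvStalk.exists_stalk_equiv hL y
    exact ((hV (f y) hy).trans (depth_stalk_mono f y)).trans_eq (Hensel.depth_congr e).symm

end Groth.Agent.S14330
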