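import Groth.Statements.S14336
import Mathlib
import Groth.Agent.FibreKer.Basic

set_option autoImplicit false
universe u
open CAlg

namespace Groth.Agent.S14336

/-- Let B be a Noetherian ring, K and K' finitely generated flat B-modules and φ : K → K' a B-linear
map; for a prime y of B write κ(y) for its residue field and φ_y for the base change κ(y) ⊗ K → κ(y)
⊗ K'. Then the function y ↦ dim_{κ(y)} Im(φ_y) on Spec B is lower semicontinuous. -/
theorem result (B : Type u) [CommRing B] [IsNoetherianRing B] (K K' : Type u) [AddCommGroup K] [Module B K] [Module.Finite B K] [Module.Flat B K] [AddCommGroup K'] [Module B K'] [Module.Finite B K'] [Module.Flat B K'] (φ : K →ₗ[B] K') : LowerSemicontinuous (fun y : PrimeSpectrum B => Module.finrank y.asIdeal.ResidueField ↥(LinearMap.range (φ.baseChange y.asIdeal.ResidueField))) := by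
  have := Module.finitePresentation_of_finite B K'
  have : Module.Projective B K' := Module.Flat.projective_of_finitePresentation
  refine Groth.Agent.FibreKer.lowerSemicontinuous_of_add
    (Groth.Agent.FibreKer.upperSemicontinuous_rk (K' ⧸ LinearMap.range φ)) ?_
  convert Groth.Agent.FibreKer.isLocallyConstant_rk (A := B) K' using 1
  exact funext fun y => Groth.Agent.FibreKer.finrank_range_add φ

end Groth.Agent.S14336
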