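import Groth.Statements.S14337
import Mathlib
import Groth.Agent.FibreKer.Basic

set_option autoImplicit false
universe u
open scoped TensorProduct
open CAlg

namespace Groth.Agent.S14337

/-- Let B be a Noetherian ring, K and K' finitely generated flat B-modules and φ : K → K' a B-linear
map; for a prime y of B write κ(y) for its residue field and φ_y for the base change κ(y) ⊗ K → κ(y)
⊗ K'. If the cokernel K'/Im φ is a projective (locally free) B-module, then Im φ is projective, and
the formation of Im φ commutes with every base change: for every commutative B-algebra B' the map B'
⊗ Im φ → B' ⊗ K' induced by the inclusion is injective and its range is the range of the base change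
B' ⊗ K → B' ⊗ K' of φ. -/
theorem result (B : Type u) [CommRing B] [IsNoetherianRing B] (K K' : Type u) [AddCommGroup K] [Module B K] [Module.Finite B K] [Module.Flat B K] [AddCommGroup K'] [Module B K'] [Module.Finite B K'] [Module.Flat B K'] (φ : K →ₗ[B] K') (hc : Module.Projective B (K' ⧸ LinearMap.range φ)) : Module.Projective B ↥(LinearMap.range φ) ∧ ∀ (B' : Type u) [CommRing B'] [Algebra B B'], Function.Injective ((LinearMap.range φ).subtype.baseChange B') ∧ LinearMap.range ((LinearMap.range φ).subtype.baseChange B') = LinearMap.range (φ.baseChange B') := by
  haveI := hc
  have := Module.finitePresentation_of_finite B K'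
  have : Module.Projective B K' := Module.Flat.projective_of_finitePresentation
  refine ⟨Groth.Agent.FibreKer.projective_sub _, fun B' _ _ =>
    ⟨Groth.Agent.FibreKer.injective_baseChange _ B', ?_⟩⟩
  have h : φ.baseChange B' =
      (LinearMap.range φ).subtype.baseChange B' ∘ₗ φ.rangeRestrict.baseChange B' := by
    rw [← LinearMap.baseChange_comp]
    rfl
  have hs : Function.Surjective (φ.rangeRestrict.baseChange B') :=
    LinearMap.lTensor_surjective B' φ.surjective_rangeRestrict
  rw [h, LinearMap.range_comp, LinearMap.range_eq_top.2 hs, Submodule.map_top]

end Groth.Agent.S14337
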