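import Groth.Statements.S14338
import Mathlib
import Groth.Agent.FibreKer.Basic

set_option autoImplicit false
universe u
open CAlg

namespace Groth.Agent.S14338

/-- Let B be a Noetherian ring, K and K' finitely generated flat B-modules and φ : K → K' a B-linear
map; for a prime y of B write κ(y) for its residue field and φ_y for the base change κ(y) ⊗ K → κ(y)
⊗ K'. Assume B is reduced and the number dim_{κ(y)} Im(φ_y) is the same for all primes y of B. Then
the cokernel K'/Im φ and the image Im φ are projective (locally free) B-modules. -/
theorem result (B : Type u) [CommRing B] [IsNoetherianRing B] (K K' : Type u) [AddCommGroup K] [Module B K] [Module.Finite B K] [Module.Flat B K] [AddCommGroup K'] [Module B K'] [Module.Finite B K'] [Module.Flat B K'] (φ : K →ₗ[B] K') [IsReduced B] (hconst : ∃ c : ℕ, ∀ y : PrimeSpectrum B, Module.finrank y.asIdeal.ResidueField ↥(LinearMap.range (φ.baseChange y.asIdeal.ResidueField)) = c) : Module.Projective B (K' ⧸ LinearMap.range φ) ∧ Module.Projective B ↥(LinearMap.range φ) := by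
  obtain ⟨c, hc⟩ := hconst
  have := Module.finitePresentation_of_finite B K'
  have : Module.Projective B K' := Module.Flat.projective_of_finitePresentation
  have h1 := Groth.Agent.FibreKer.isLocallyConstant_rk (A := B) K'
  have h2 : Module.Projective B (K' ⧸ LinearMap.range φ) := by
    refine Groth.Agent.FibreKer.projective_of_isLocallyConstant_rk _ ?_
    have e : Groth.Agent.FibreKer.rk (A := B) (K' ⧸ LinearMap.range φ) =
        (fun n => n - c) ∘ Groth.Agent.FibreKer.rk (A := B) K' := funext fun y => by
      have := Groth.Agent.FibreKer.finrank_range_add (k := y.asIdeal.ResidueField) φ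
      rw [hc y] at this
      simp only [Function.comp_apply, Groth.Agent.FibreKer.rk]
      omega
    rw [e]
    exact h1.comp _
  exact ⟨h2, Groth.Agent.FibreKer.projective_sub _⟩

end Groth.Agent.S14338
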