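import Groth.Statements.S14339
import Groth.Agent.PlaneCurveCoh.Main

set_option autoImplicit false
set_option backward.isDefEq.respectTransparency false
set_option backward.isDefEq.respectTransparency.types false
universe u
open CategoryTheory CategoryTheory.Limits AlgebraicGeometry
open Curves

namespace Groth.Agent.S14339

/-- Let k be a field, d ≥ 4, and f a nonzero homogeneous form of degree d in the homogeneous coordinates
of P^2_k whose plane curve X = V_+(f) is smooth over k. Then X is not hyperelliptic: there is no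
morphism φ : X → P^1_k over k which is finite and flat of constant rank 2 (a double cover of the
projective line). -/
theorem result (k : Type u) [Field k] (d : ℕ) (hd : 4 ≤ d) (f : LefPen.Form 2 k d) (hf : f ≠ 0) [Smooth ((LefPen.hypIdeal f).subschemeι ≫ CohB1.ProjSpace.toSpec 2 k)] : ¬ ∃ φ : (LefPen.hypIdeal f).subscheme ⟶ CohB1.ProjSpace 1 k, φ ≫ CohB1.ProjSpace.toSpec 1 k = (LefPen.hypIdeal f).subschemeι ≫ CohB1.ProjSpace.toSpec 2 k ∧ IsFinite φ ∧ Flat φ ∧ ∀ y : ↥(CohB1.ProjSpace 1 k), Scheme.Hom.finrank φ y = 2 := by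
  rintro ⟨φ, hφ, hfin, hflat, hr⟩
  haveI := hfin
  haveI := hflat
  letI : ((LefPen.hypIdeal f).subscheme).Over (Spec (CommRingCat.of k)) :=
    ⟨(LefPen.hypIdeal f).subschemeι ≫ CohB1.ProjSpace.toSpec 2 k⟩
  haveI : Smooth ((LefPen.hypIdeal f).subscheme ↘ Spec (CommRingCat.of k)) :=
    ‹Smooth ((LefPen.hypIdeal f).subschemeι ≫ CohB1.ProjSpace.toSpec 2 k)›
  haveI := Groth.Agent.CurveCover.isProper_line k
  haveI := Groth.Agent.CurveCover.smooth_line k
  refine Groth.Agent.PlaneCurveCoh.no_double_cover f hf hd rfl (Groth.Agent.CurveCover.dim_line k) ?_ φ hφ hr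
  rw [Groth.Agent.CurveCover.finrank_h0_line k,
    show Module.finrank k (Coh.HH (CohB1.ProjSpace 1 k) (Coh.structureModule (CohB1.ProjSpace 1 k)) 1) = 0 from
      Groth.Agent.CurveCover.genus_line k]
  norm_num

end Groth.Agent.S14339
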