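import Groth.Statements.S1434
import Mathlib

set_option autoImplicit false
universe u
open FlatMor

namespace Groth.Agent.S1434

open AlgebraicGeometry CategoryTheory Limits in
/-- Part (1), for a closed subscheme: let Z ⊂ X be the closed subscheme cut out by an ideal sheaf I and
Z' the one cut out by I², its first order infinitesimal neighbourhood. Given a first order
thickening T → T', a morphism a : T → Z and a morphism b : T' → X compatible with them, there is a
unique morphism T' → Z' through which b factors (compatibility with a is then automatic). -/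
theorem result {X T T' : Scheme.{u}} (I : X.IdealSheafData) (t : T ⟶ T') (ht : MoreMor.IsFirstOrderThickening t)
    (a : T ⟶ I.subscheme) (b : T' ⟶ X) (w : a ≫ I.subschemeι = t ≫ b) :
    ∃! a' : T' ⟶ (I ^ 2).subscheme, a' ≫ (I ^ 2).subschemeι = b := by
  haveI := ht.1.1
  have hker : (I ^ 2).subschemeι.ker ≤ b.ker := by
    rw [Scheme.IdealSheafData.ker_subschemeι]
    refine Scheme.IdealSheafData.le_ofIdeals_iff.mpr fun U => ?_
    rw [Scheme.IdealSheafData.ideal_pow, Pi.pow_apply, pow_two, Ideal.mul_le]
    intro x hx y hy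
    show b.app U.1 (x * y) = 0
    rw [map_mul]
    have hI : I ≤ (t ≫ b).ker := by
      rw [← w]
      exact I.ker_subschemeι.ge.trans (Scheme.Hom.le_ker_comp _ _)
    refine T'.IsSheaf.section_ext fun p hp => ?_
    obtain ⟨_, ⟨V, hV, rfl⟩, hpV, hVU⟩ :=
      T'.isBasis_affineOpens.exists_subset_of_mem_open hp (b ⁻¹ᵁ U.1).2
    refine ⟨V, hVU, hpV, ?_⟩
    rw [map_mul, map_zero]
    have key : ∀ z ∈ I.ideal U, T'.presheaf.map (homOfLE hVU).op (b.app U.1 z) ∈ t.ker.ideal ⟨V, hV⟩ := by
      intro z hz
      rw [Scheme.Hom.ker_apply, RingHom.mem_ker]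
      have h0 : (t ≫ b).app U.1 z = 0 := Scheme.Hom.ideal_ker_le _ U (hI U hz)
      show (T'.presheaf.map (homOfLE hVU).op ≫ t.app V) (b.app U.1 z) = 0
      erw [Scheme.Hom.naturality]
      exact (congrArg (T.presheaf.map ((TopologicalSpace.Opens.map t.base).map (homOfLE hVU).op.unop).op).hom h0).trans
        (map_zero (T.presheaf.map ((TopologicalSpace.Opens.map t.base).map (homOfLE hVU).op.unop).op).hom)
    have h2 := Ideal.mul_mem_mul (key x hx) (key y hy)
    rw [← Pi.mul_apply, ← Scheme.IdealSheafData.ideal_mul, ht.2, Scheme.IdealSheafData.ideal_bot] at h2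
    exact Ideal.mem_bot.1 h2
  refine ⟨IsClosedImmersion.lift (I ^ 2).subschemeι b hker, IsClosedImmersion.lift_fac _ _ _,
    fun a' h => ?_⟩
  rw [← cancel_mono (I ^ 2).subschemeι, IsClosedImmersion.lift_fac]
  exact h

end Groth.Agent.S1434
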