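import Groth.Statements.S14340
import Groth.Agent.CurveCover.Sections
-- import your own Groth.Agent.* helpers here

set_option autoImplicit false
set_option backward.isDefEq.respectTransparency false
set_option backward.isDefEq.respectTransparency.types false
set_option linter.style.haveILetI false
universe u
open CategoryTheory CategoryTheory.Limits AlgebraicGeometry
open Curves

namespace Groth.Agent.S14340

/-- Let k be a field and C a smooth proper geometrically connected curve over k (of dimension one) of
genus g = dim_k H^1(C, O_C) ≥ 2 which is hyperelliptic: there is a morphism f : C → P^1_k over k,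
finite and flat of constant rank 2; let L = f^*O(1) be its g^1_2. Then for every r with 0 ≤ r ≤ g −
1 the k-vector space H^0(C, L^{⊗r}) has dimension r + 1. (The published statement asserts that the
pullback of sections H^0(P^1_k, O(r)) → H^0(C, L^{⊗r}) is an isomorphism and takes C projective;
this row states the equivalent dimension count, that map being injective for the dominant f with
source of dimension r + 1, and takes C proper, which for curves over a field is the same.) -/
theorem result (k : Type u) [Field k] (C : Scheme.{u}) [C.Over (Spec (CommRingCat.of k))] [IsProper (C ↘ Spec (CommRingCat.of k))] [Smooth (C ↘ Spec (CommRingCat.of k))] [GeometricallyConnected (C ↘ Spec (CommRingCat.of k))] (hC : topologicalKrullDim C = 1) (g : ℕ) (hg2 : 2 ≤ g) (hg : Curv2.genus k C = g) (f : C ⟶ CohB1.ProjSpace 1 k) (hf : f ≫ CohB1.ProjSpace.toSpec 1 k = C ↘ Spec (CommRingCat.of k)) [IsFinite f] [Flat f] (hrk : ∀ y : ↥(CohB1.ProjSpace 1 k), Scheme.Hom.finrank f y = 2) (r : ℕ) (hr : r + 1 ≤ g) : Module.finrank k (Coh.HH C (CohB1.tensorPow ((Scheme.Modules.pullback f).obj (Twist.twistProjSpace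 1 k 1)) r) 0) = r + 1 := by
  have h0 := CurveBC.finrank_h0_of_geometricallyConnected k C
  haveI := CurveBC.isIntegral_of_h0 k C h0
  haveI := CurveCover.isIntegral_line k
  haveI := CurveCover.isProper_line k
  haveI := CurveCohLib.isNoetherian_of_proper (k := k) (X := C)
  have e := FrobTwist.map_genericPoint_of_finite (C ↘ Spec (CommRingCat.of k))
    ((CohB1.ProjSpace 1 k) ↘ Spec (CommRingCat.of k)) f hf (hC.trans (CurveCover.dim_line k).symm)
  have hL := PicClLib.isInvertible_pullback f (CurveCover.isInvertible_twist k 1)
  have hd2 : Curv2.deg k C ((Scheme.Modules.pullback f).obj (Twist.twistProjSpace 1 k 1)) 1 = 2 := by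
    rw [← CurveCover.residueDegree_pencil k C hC h0 f hf]
    exact_mod_cast ((CurveCover.flat_and_finrank k hC f hf).2.2 (genericPoint _)).symm.trans (hrk _)
  have hP := H23.PicMul.isInvertible_tensorPow hL r
  refine le_antisymm (CurveCover.h0_le_of_deg_le k C hC h0 (hg ▸ hr) hP ?_) ?_
  · rw [CurveAmple.deg_tensorPow hC hL, hd2]
    linarith
  · obtain ⟨a⟩ := AmpleVan.RelVanish.pullback_tensorPow f (Twist.twistProjSpace 1 k 1) r
    obtain ⟨b⟩ := HilbPoly.twist_tensorPow_pn (k := k) 1 r
    have hM := CurveCover.isInvertible_twist k (r : ℤ)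
    rw [← CurveCover.finrank_h0_twist k r,
      ← (CurveCohLib.hhEquiv (k := k) ((Scheme.Modules.pullback f).mapIso b ≪≫ a) 0).finrank_eq]
    exact CurveCover.h0_le_pullback k f hf e hM

end Groth.Agent.S14340
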