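import Groth.Statements.S14341
import Groth.Agent.CurveCover.GenusOnePoint
-- import your own Groth.Agent.* helpers here

set_option autoImplicit false
set_option backward.isDefEq.respectTransparency false
set_option backward.isDefEq.respectTransparency.types false
set_option linter.style.haveILetI false
universe u
open CategoryTheory CategoryTheory.Limits AlgebraicGeometry
open Curves

namespace Groth.Agent.S14341

/-- Let k be a field and X a smooth proper geometrically connected curve over k (of dimension one) of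
genus dim_k H^1(X, O_X) = 1, with a k-rational point O (a closed point with residue field k); for a
k-rational point P write I_P for the ideal sheaf of the reduced point P, an invertible ideal with
inverse O_X(P). Then for every invertible O_X-module L of degree 0 there is exactly one k-rational
point P with L ⊗ I_P ≅ I_O, that is L ≅ O_X(P − O): the map P ↦ O_X(P − O) is a bijection from X(k)
onto the isomorphism classes of invertible modules of degree zero. -/
theorem result (k : Type u) [Field k] (X : Scheme.{u}) [X.Over (Spec (CommRingCat.of k))] [IsProper (X ↘ Spec (CommRingCat.of k))] [Smooth (X ↘ Spec (CommRingCat.of k))] [GeometricallyConnected (X ↘ Spec (CommRingCat.of k))] (hX : topologicalKrullDim X = 1) (hg : Curv2.genus k X = 1) (O : X) (hOc : IsClosed ({O} : Set X)) (hO : Function.Bijective (Curv2.resMap k X O)) (L : X.Modules) (hL : PicF.IsInvertible L) (hdeg : Curv2.deg k X L 1 = 0) : ∃! P : {x : X // IsClosed ({x} : Set X) ∧ Function.Bijective (Curv2.resMap k X x)}, Nonempty (CohB1.tensorMod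 L (ClSub.idealMod (Scheme.IdealSheafData.vanishingIdeal ⟨{P.1}, P.2.1⟩)) ≅ ClSub.idealMod (Scheme.IdealSheafData.vanishingIdeal ⟨{O}, hOc⟩)) := by
  classical
  have h0 := Groth.Agent.CurveBC.finrank_h0_of_geometricallyConnected k X
  haveI := Groth.Agent.CurveBC.isIntegral_of_h0 k X h0
  haveI := Groth.Agent.CurveCohLib.isNoetherian_of_proper (k := k) (X := X)
  have hr : letI := Curv2.resAlgebra k X O; Module.finrank k (X.residueField O) = 1 := by
    letI := Curv2.resAlgebra k X O
    have hb : Function.Bijective (Algebra.linearMap k (X.residueField O)) := hO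
    rw [← (LinearEquiv.ofBijective _ hb).finrank_eq, Module.finrank_self]
  obtain ⟨M, s, hM, hMd, -, ⟨ε⟩⟩ := Groth.Agent.CurveCover.exists_point_bundle_inv k hX hOc hr
  have hT := Groth.Agent.InvX.isInvertible_tensorMod hL hM
  have hTd : Curv2.deg k X (CohB1.tensorMod L M) 1 = 1 := by
    rw [show Curv2.deg k X (CohB1.tensorMod L M) 1 = _ from Groth.Agent.CurveRR.deg_tensor k hX hL hM, hdeg, hMd]
    norm_num
  obtain ⟨x, hx, hxk, ⟨θ⟩⟩ := Groth.Agent.CurveCover.exists_point_of_deg_one k hX h0 hg hT hTd
  letI := Groth.Agent.H23.PicMul.clMonoid X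
  have e1 : PicF.cl (Groth.Agent.CurvePoint.ptMod O hOc) * PicF.cl M = 1 := by
    rw [← Groth.Agent.H23.PicMul.cl_tensor, Groth.Agent.H23.PicMul.one_def, Groth.Agent.H23.PicMul.cl_eq_iff]
    exact ⟨ε⟩
  have e2 : PicF.cl L * PicF.cl M * PicF.cl (Groth.Agent.CurvePoint.ptMod x hx) = 1 := by
    rw [← Groth.Agent.H23.PicMul.cl_tensor, ← Groth.Agent.H23.PicMul.cl_tensor, Groth.Agent.H23.PicMul.one_def,
      Groth.Agent.H23.PicMul.cl_eq_iff]
    exact ⟨θ⟩
  refine ⟨⟨x, hx, hxk⟩, ?_, fun Q hQ => ?_⟩
  · refine Groth.Agent.H23.PicMul.cl_eq_iff.1 ?_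
    show PicF.cl (CohB1.tensorMod L (Groth.Agent.CurvePoint.ptMod x hx)) =
      PicF.cl (Groth.Agent.CurvePoint.ptMod O hOc)
    rw [Groth.Agent.H23.PicMul.cl_tensor]
    calc _ = PicF.cl L * PicF.cl (Groth.Agent.CurvePoint.ptMod x hx) *
          (PicF.cl (Groth.Agent.CurvePoint.ptMod O hOc) * PicF.cl M) := by rw [e1, mul_one]
      _ = PicF.cl (Groth.Agent.CurvePoint.ptMod O hOc) *
          (PicF.cl L * PicF.cl M * PicF.cl (Groth.Agent.CurvePoint.ptMod x hx)) := by ac_rfl
      _ = _ := by rw [e2, mul_one]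
  · obtain ⟨y, hy, hyk⟩ := Q
    have e3 : PicF.cl L * PicF.cl (Groth.Agent.CurvePoint.ptMod y hy) = PicF.cl (Groth.Agent.CurvePoint.ptMod O hOc) := by
      rw [← Groth.Agent.H23.PicMul.cl_tensor]
      exact Groth.Agent.H23.PicMul.cl_eq_iff.2 hQ
    have e4 : PicF.cl L * PicF.cl M * PicF.cl (Groth.Agent.CurvePoint.ptMod y hy) = 1 := by
      rw [mul_right_comm, e3, e1]
    obtain ⟨φ⟩ := Groth.Agent.H23.PicMul.cl_eq_iff.1
      (left_inv_eq_right_inv ((mul_comm _ _).trans e4) e2)
    exact Subtype.ext (Groth.Agent.CurveCover.eq_of_iso_ptMod k hX h0 hg hy hx hyk hxk φ)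

end Groth.Agent.S14341
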