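import Groth.Statements.S14342
import Groth.Agent.GrLib8.CICoh.Main
import Groth.Agent.PlaneCurveCoh.Ideal
import Groth.Agent.H26.InterDiv
import Groth.Agent.HTopCov.AlmostBlowUp
-- import your own Groth.Agent.* helpers here

set_option autoImplicit false
universe u
open CategoryTheory CategoryTheory.Limits AlgebraicGeometry
open Coherent

namespace Groth.Agent.S14342

open CategoryTheory CategoryTheory.Limits AlgebraicGeometry TopologicalSpace MvPolynomial Groth.Agent

noncomputable section

set_option backward.isDefEq.respectTransparency false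
set_option backward.isDefEq.respectTransparency.types false
set_option linter.unusedSectionVars false
set_option maxHeartbeats 1000000

open Groth.Agent.GrLib8.CICoh in
/-- A form which is a nonzerodivisor modulo `G` gives nonzerodivisors on the charts. -/
theorem mem_ideal_of_mul {k : Type u} [Field k] {n r e : ℕ} {a : Fin r → ℕ}
    (G : ∀ j : Fin r, LefPen.Form n k (a j)) (H : LefPen.Form n k e)
    (hH : ∀ c, (H : MvPolynomial (Fin (n + 1)) k) * c ∈ Ideal.ofList (forms G) → c ∈ Ideal.ofList (forms G))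
    (l : Fin (n + 1)) (h : Γ(CohB1.ProjSpace n k, LefPen.chart n k l))
    (hh : LefPen.dehom H l * h ∈ (LefPen.ciIdeal G).ideal (LefPenLib.chartAff l)) :
    h ∈ (LefPen.ciIdeal G).ideal (LefPenLib.chartAff l) := by
  haveI : IsIso (Proj.awayToSection (CohB1.polyGrading n k) (X l : MvPolynomial (Fin (n + 1)) k)) :=
    inferInstanceAs (IsIso (Proj.basicOpenIsoAway (CohB1.polyGrading n k) (X l) (LefPen.X_mem n k l) Nat.one_pos).hom)
  obtain ⟨z, rfl⟩ := (ConcreteCategory.bijective_of_isIso
    (Proj.awayToSection (CohB1.polyGrading n k) (X l : MvPolynomial (Fin (n + 1)) k))).2 h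
  obtain ⟨q, c, hc, rfl⟩ := HomogeneousLocalization.Away.mk_surjective _ (LefPen.X_mem n k l) z
  have hp : (H : MvPolynomial (Fin (n + 1)) k) * c ∈ CohB1.polyGrading n k ((e + q) • 1) := by
    have := SetLike.mul_mem_graded H.2 hc
    simpa using this
  let φz : HomogeneousLocalization.Away (CohB1.polyGrading n k) (X l : MvPolynomial (Fin (n + 1)) k) →+*
      Γ(CohB1.ProjSpace n k, LefPen.chart n k l) :=
    (Proj.awayToSection (CohB1.polyGrading n k) (X l)).hom
  have hprod : LefPen.dehom H l * φz (HomogeneousLocalization.Away.mk _ (LefPen.X_mem n k l) q c hc) =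
      φz (HomogeneousLocalization.Away.mk _ (LefPen.X_mem n k l) (e + q) _ hp) := by
    refine (map_mul φz _ _).symm.trans (congrArg φz (HomogeneousLocalization.val_injective _ ?_))
    simp only [HomogeneousLocalization.val_mul, HomogeneousLocalization.Away.val_mk, Localization.mk_mul]
    congr 1
    exact Subtype.ext (pow_add _ _ _).symm
  change LefPen.dehom H l * φz _ ∈ _ at hh
  rw [hprod] at hh
  have h0 := (φ_eq_zero_iff G 0 l _).2 hh
  obtain ⟨K, hK⟩ := mk_smul_one'_eq_zero G l (z := e + q) (c := (H : MvPolynomial (Fin (n + 1)) k) * c)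
    (by simpa using hp) fun y => ⟨_, (by
      have h1 := congrArg (fun t => GrMod.val t y) h0
      have := (val_φ_smul_fr G 0 l hp y).symm.trans h1
      simpa [show GrMod.val (0 : Γ(GrMod.tilde (CohB1.polyGrading n k) (QN G) 0, LefPen.chart n k l)) y = 0 from rfl]
        using this)⟩
  have hK' : X l ^ K * c ∈ Ideal.ofList (forms G) := hH _ (by rw [mul_left_comm]; exact hK)
  refine (φ_eq_zero_iff G 0 l _).1 (GrModX.ext_val _ (QN G) fun y => (val_φ_smul_fr G 0 l hc y).trans ?_)
  show _ = 0
  refine ((LocalizedModule.mk_cancel_common_left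
      (⟨X l ^ K, PnCoh.pow_notMem y.2 K⟩ : y.1.asHomogeneousIdeal.toIdeal.primeCompl) _
      ((c * X l ^ (0 : ℤ).toNat) • one' G)).symm.trans ?_)
  have hz : ∀ (m : (Q G).carrier) (t : y.1.asHomogeneousIdeal.toIdeal.primeCompl), m = 0 →
      (LocalizedModule.mk m t : GrMod.LocMod (CohB1.polyGrading n k) (M := (Q G).carrier) y.1) = 0 :=
    fun m t hm => by rw [hm, LocalizedModule.zero_mk]
  refine hz _ _ ?_
  show (X l ^ K : MvPolynomial (Fin (n + 1)) k) • (c * X l ^ (0 : ℤ).toNat) • one' G = 0
  rw [smul_smul, show (X l ^ K : MvPolynomial (Fin (n + 1)) k) * (c * X l ^ (0 : ℤ).toNat) = X l ^ K * c by simp]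
  exact (smul_one'_eq_zero G _).2 hK'

end

/-- Let k be a field, r + 1 ≤ n, and G_0, …, G_r homogeneous forms of positive degrees a_0, …, a_r in
the homogeneous coordinates of P = P^n_k whose common zero scheme X = V(G_0, …, G_r) has dimension n
− (r + 1), a global complete intersection; let Y = V(G_0, …, G_{r−1}) with its closed immersion ι_Y
: Y → P. Then the ideal sheaf of X inside Y (the ideal of the inverse image of the hypersurface
V(G_r) under ι_Y, as an O_Y-module) is isomorphic to ι_Y^*O(−a_r). (The published statement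
identifies the two modules through a named map, induced by multiplication by G_r; this row asserts
only that an isomorphism of O_Y-modules exists.) -/
theorem result (k : Type u) [Field k] (n r : ℕ) (hr : r + 1 ≤ n) (a : Fin (r + 1) → ℕ) (ha : ∀ j, 1 ≤ a j) (G : ∀ j : Fin (r + 1), LefPen.Form n k (a j)) (hdim : topologicalKrullDim ↥(LefPen.ciIdeal G).subscheme = ((n - (r + 1) : ℕ) : WithBot ℕ∞)) : Nonempty (ClSub.idealMod ((LefPen.hypIdeal (G (Fin.last r))).comap (LefPen.ciIdeal (fun j : Fin r => G j.castSucc)).subschemeι) ≅ (Scheme.Modules.pullback (LefPen.ciIdeal (fun j : Fin r => G j.castSucc)).subschemeι).obj (Twist.twistProjSpace n k (-(a (Fin.last r) : ℤ)))) := by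
  let G' : ∀ j : Fin r, LefPen.Form n k (a j.castSucc) := fun j => G j.castSucc
  let H := G (Fin.last r)
  let I := LefPen.ciIdeal G'
  have hreg := GrLib8.CICoh.isWeaklyRegular_of_height G ha
    (fun P hP => GrLib8.CICoh.le_height_of_dim G hr hdim P hP)
  have hforms : GrLib8.CICoh.forms G = GrLib8.CICoh.forms G' ++ [(H : MvPolynomial (Fin (n + 1)) k)] := by
    rw [GrLib8.CICoh.forms, List.ofFn_succ', List.concat_eq_append]
    rfl
  rw [hforms, RingTheory.Sequence.isWeaklyRegular_append_iff,
    RingTheory.Sequence.isWeaklyRegular_singleton_iff] at hreg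
  have hH : ∀ c, (H : MvPolynomial (Fin (n + 1)) k) * c ∈ Ideal.ofList (GrLib8.CICoh.forms G') →
      c ∈ Ideal.ofList (GrLib8.CICoh.forms G') := fun c hc => by
    have h := hreg.2 (a₁ := Submodule.Quotient.mk c) (a₂ := 0) (by
      show (H : MvPolynomial (Fin (n + 1)) k) • _ = (H : MvPolynomial (Fin (n + 1)) k) • _
      rw [smul_zero, ← Submodule.Quotient.mk_smul, Submodule.Quotient.mk_eq_zero, smul_eq_mul,
        Ideal.mul_top]
      exact hc)
    rwa [Submodule.Quotient.mk_eq_zero, smul_eq_mul, Ideal.mul_top] at h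
  have hne : H ≠ 0 := fun h0 => by
    have h1 : (1 : MvPolynomial (Fin (n + 1)) k) ∈ Ideal.ofList (GrLib8.CICoh.forms G') :=
      hH 1 (by rw [h0]; simp)
    have hle : Ideal.ofList (GrLib8.CICoh.forms G') ≤
        RingHom.ker (MvPolynomial.constantCoeff (R := k) (σ := Fin (n + 1))) := Ideal.span_le.2 fun g hg => by
      obtain ⟨j, rfl⟩ := GrLib8.CICoh.mem_forms G' hg
      rw [SetLike.mem_coe, RingHom.mem_ker, MvPolynomial.constantCoeff_eq]
      exact ((MvPolynomial.mem_homogeneousSubmodule _ _).1 (G' j).2).coeff_eq_zero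
        (by simp; have := ha j.castSucc; omega)
    simpa using hle h1
  have : IsIntegral (CohB1.ProjSpace n k) := H23.PnChart.isIntegral_projSpace n k
  have hP : BlowUp.IsEffCartierIdeal (LefPen.hypIdeal H) := fun x => by
    obtain ⟨l, hl⟩ := Opens.mem_iSup.1 ((LefPenLib.iSup_chart (r := n) (k := k)).ge (Set.mem_univ x))
    haveI : Nonempty (LefPenLib.chartAff l).1 := ⟨⟨x, hl⟩⟩
    exact ⟨LefPenLib.chartAff l, hl, LefPen.dehom H l,
      mem_nonZeroDivisors_of_ne_zero (PlaneCurveCoh.dehom_ne_zero H hne l),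
      LefPenLib.hypIdeal_chart H l⟩
  have hZ : BlowUp.IsEffCartierIdeal ((LefPen.hypIdeal H).comap I.subschemeι) := fun x => by
    obtain ⟨l, hl⟩ := Opens.mem_iSup.1 ((LefPenLib.iSup_chart (r := n) (k := k)).ge
      (Set.mem_univ (I.subschemeι x)))
    let U := LefPenLib.chartAff (r := n) (k := k) l
    let V : I.subscheme.affineOpens := ⟨I.subschemeι ⁻¹ᵁ U.1, U.2.preimage _⟩
    refine ⟨V, hl, I.subschemeι.app U.1 (LefPen.dehom H l), ?_, ?_⟩
    · rw [mem_nonZeroDivisors_iff_right]
      intro v hv
      obtain ⟨w, rfl⟩ := I.subschemeι_app_surjective U v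
      let g : Γ(CohB1.ProjSpace n k, U.1) := LefPen.dehom H l
      have hw : w * g ∈ RingHom.ker (I.subschemeι.app U.1).hom := by
        rw [RingHom.mem_ker, map_mul]; exact hv
      rw [I.ker_subschemeι_app U, mul_comm] at hw
      have h1 := mem_ideal_of_mul G' H hH l w hw
      have h2 : w ∈ RingHom.ker (I.subschemeι.app U.1).hom := (I.ker_subschemeι_app U).ge h1
      exact h2
    · let g : Γ(CohB1.ProjSpace n k, U.1) := LefPen.dehom H l
      have hg : (LefPen.hypIdeal H).ideal U = Ideal.span {g} := LefPenLib.hypIdeal_chart H l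
      rw [HTopCov.ideal_comap_appLE I.subschemeι _ U V le_rfl, hg, Ideal.map_span, Set.image_singleton,
        Scheme.Hom.appLE_eq_app]
  obtain ⟨e₁⟩ := H26.InterDiv.nonempty_pullback_idealMod I.subschemeι (LefPen.hypIdeal H) hP hZ
  obtain ⟨e₂⟩ := PlaneCurveCoh.idealMod_hyp_iso H hne
  exact ⟨e₁.symm ≪≫ (Scheme.Modules.pullback I.subschemeι).mapIso e₂⟩

end Groth.Agent.S14342
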