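import Groth.Statements.S14343
import Groth.Agent.ModDesc.KoszulBlow
-- import your own Groth.Agent.* helpers here

set_option autoImplicit false
universe u
open CategoryTheory CategoryTheory.Limits AlgebraicGeometry TopologicalSpace
open QuotLF

namespace Groth.Agent.S14343

/-- Let 𝓘 be a Koszul-regular quasi-coherent ideal sheaf on a scheme X (the ideal of a Koszul-regularly
immersed closed subscheme Z) and let g : X' ⟶ X be a morphism which is Tor-independent with respect
to Z ⟶ X, stated in the following equivalent form: whenever 𝓘(U) is generated on an affine open U by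
a Koszul-regular sequence, the image of that sequence in Γ(X', V) is again Koszul-regular for every
affine open V of X' lying over U (for a Koszul-regular ideal the Koszul complex of such a sequence
resolves O_Z on U, so this says exactly that the higher Tor groups of O_Z against O_{X'} vanish).
Then for every blowing-up b : B ⟶ X of X in 𝓘, the base change B ×_X X' ⟶ X' is a blowing-up of X'
in the inverse image ideal sheaf 𝓘·O_{X'} (the ideal of Z ×_X X'). Blowing-ups are taken through
their universal property. -/
theorem result {X X' B : Scheme.{u}} (𝓘 : X.IdealSheafData)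
    (h𝓘 : RegImm.IsRegularIdeal .koszul 𝓘) (g : X' ⟶ X)
    (hg : ∀ (U : X.affineOpens) (rs : List Γ(X, U.1)), LCI.IsKoszulRegularSeq Γ(X, U.1) rs →
      𝓘.ideal U = Ideal.ofList rs → ∀ (V : X'.affineOpens) (e : V.1 ≤ g ⁻¹ᵁ U.1),
        LCI.IsKoszulRegularSeq Γ(X', V.1) (rs.map fun r => (g.appLE U.1 V.1 e).hom r))
    (b : B ⟶ X) (hb : BlowUp.IsBlowUp b 𝓘) :
    BlowUp.IsBlowUp (pullback.snd b g) (𝓘.comap g) := by
  classical
  have he : (𝓘.comap g).comap (pullback.snd b g) = 𝓘.comap (pullback.fst b g ≫ b) := by
    rw [← Scheme.IdealSheafData.comap_comp, pullback.condition]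
  refine ⟨?_, fun T h hh => ?_⟩
  · show BlowUp.IsEffCartierIdeal ((𝓘.comap g).comap (pullback.snd b g))
    rw [he]
    intro z
    by_cases hz : b (pullback.fst b g z) ∈ 𝓘.support
    · obtain ⟨U, hzU, rs, hrs, hU⟩ := h𝓘 _ hz
      let a : Fin rs.length → Γ(X, U.1) := rs.get
      have hof : List.ofFn a = rs := List.ofFn_get rs
      refine Groth.Agent.ModDesc.KB.exists_effCartier_pullback 𝓘 g b hb U a ?_
        (Groth.Agent.WiebeLib.isExact_of_isKoszulRegularSeq a (by rw [hof]; exact hrs)) (fun V e => ?_) z hzU
      · rw [hU]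
        show Ideal.span {x | x ∈ rs} = _
        congr 1
        ext x
        simp [a, List.mem_iff_get]
      · refine Groth.Agent.WiebeLib.isExact_of_isKoszulRegularSeq _ ?_
        have := hg U rs hrs hU V e
        rwa [← hof, List.map_ofFn] at this
    · obtain ⟨W, hzW, hW⟩ := Groth.Agent.ModDesc.KB.exists_ideal_eq_top (𝓘.comap (pullback.fst b g ≫ b))
        (z := z) (by rw [Scheme.IdealSheafData.support_comap]; exact hz)
      exact ⟨W, hzW, 1, one_mem _, by rw [hW, Ideal.span_singleton_one]⟩
  · have h2 : BlowUp.IsEffCartierIdeal (𝓘.comap (h ≫ g)) := by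
      rw [Scheme.IdealSheafData.comap_comp]; exact hh
    obtain ⟨l, hl, hu⟩ := hb.2 T (h ≫ g) h2
    refine ⟨pullback.lift l h hl, pullback.lift_snd _ _ _, fun m hm => ?_⟩
    apply pullback.hom_ext
    · rw [pullback.lift_fst]
      refine hu _ ?_
      show (m ≫ pullback.fst b g) ≫ b = h ≫ g
      rw [Category.assoc, pullback.condition, ← Category.assoc, hm]
    · rw [pullback.lift_snd]; exact hm

end Groth.Agent.S14343
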