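import Groth.Statements.S14345
import Groth.Agent.FittX.Free
-- import your own Groth.Agent.* helpers here

set_option autoImplicit false
universe u v
open TensorProduct
open QuotLF

namespace Groth.Agent.S14345

/-- Let R be a commutative ring, M a finitely generated R-module and k ≥ 0. If for an R-algebra A the
module A ⊗_R M admits a quotient that is finite projective of constant rank k (an A-valued point of
the Quot scheme of rank-k locally free quotients of M), then every Fitting ideal Fit_j(M) with j < k
extends to the zero ideal of A; that is, the structure map of the Quot scheme of rank-k locally free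
quotients factors through the closed subscheme cut out by Fit_{k-1}(M). -/
theorem result (R : Type u) [CommRing R]
    (M : Type v) [AddCommGroup M] [Module R M] [Module.Finite R M] (k : ℕ)
    (A : Type u) [CommRing A] [Algebra R A] (N : Module.Grassmannian A (A ⊗[R] M) k)
    (j : ℕ) (hj : j < k) :
    (Fitt.ideal R M j).map (algebraMap R A) = ⊥ := by
  obtain ⟨n, x, hx⟩ := FittX.exists_gen R M
  let π : (Fin n → R) →ₗ[R] M := Fintype.linearCombination R x
  have hπ : Function.Surjective π := by
    rw [← LinearMap.range_eq_top, Fintype.range_linearCombination, hx]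
  let M' := (Fin n → R) ⧸ LinearMap.ker π
  let e : M' ≃ₗ[R] M := π.quotKerEquivOfSurjective hπ
  rw [← FittX.ideal_congr e j]
  let eA : A ⊗[R] M' ≃ₗ[A] A ⊗[R] M := e.baseChange R A
  rw [← FittX.ideal_baseChange (TensorProduct.isBaseChange R M' A) j, eq_bot_iff]
  let N' : Submodule A (A ⊗[R] M') := N.toSubmodule.map eA.symm.toLinearMap
  let eQ : ((A ⊗[R] M') ⧸ N') ≃ₗ[A] ((A ⊗[R] M) ⧸ N.toSubmodule) :=
    (Submodule.Quotient.equiv N.toSubmodule N' eA.symm rfl).symm
  haveI : Module.Finite A ((A ⊗[R] M') ⧸ N') := Module.Finite.equiv eQ.symm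
  haveI : Module.Projective A ((A ⊗[R] M') ⧸ N') := Module.Projective.of_equiv eQ.symm
  refine (FittX.ideal_le_of_surjective N'.mkQ N'.mkQ_surjective j).trans ?_
  rw [le_bot_iff]
  refine ideal_eq_bot_of_localization' _ fun P hP => ?_
  rw [← FittX.ideal_baseChange (FittX.isBaseChange_mkLinearMap _ P.primeCompl) j]
  let Qp := LocalizedModule P.primeCompl ((A ⊗[R] M') ⧸ N')
  haveI : Module.Finite (Localization.AtPrime P) Qp :=
    Module.Finite.of_isLocalizedModule P.primeCompl (LocalizedModule.mkLinearMap P.primeCompl _)
  haveI : Module.FinitePresentation A ((A ⊗[R] M') ⧸ N') := Module.finitePresentation_of_projective A _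
  haveI : Module.Free (Localization.AtPrime P) Qp :=
    (Module.mem_freeLocus (p := ⟨P, inferInstance⟩)).1 (by rw [Module.freeLocus_eq_univ]; trivial)
  have hr : Module.finrank (Localization.AtPrime P) Qp = k :=
    (congrFun (Module.rankAtStalk_eq_of_equiv eQ) ⟨P, inferInstance⟩).trans (N.rankAtStalk_eq _)
  exact FittX.ideal_eq_bot_of_free Qp (j) k ((Module.finBasis (Localization.AtPrime P) Qp).reindex (finCongr hr)) hj

end Groth.Agent.S14345
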