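import Groth.Statements.S14346
import Mathlib

set_option autoImplicit false
universe u v
open TensorProduct
open QuotLF

namespace Groth.Agent.S14346

set_option backward.isDefEq.respectTransparency false in
/-- Let R be a commutative ring, M an R-module, k ≥ 0, and A an R-algebra for which A ⊗_R M is finite
projective of constant rank k, i.e. Spec A → Spec R factors through the locally closed stratum where
M is locally free of rank k. Then A ⊗_R M has exactly one rank-k locally free quotient: the zero
submodule has finite projective quotient of constant rank k, and every submodule with such a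
quotient is zero. In other words the Quot scheme of rank-k locally free quotients of M restricted to
that stratum maps isomorphically onto it. -/
theorem result (R : Type u) [CommRing R]
    (M : Type v) [AddCommGroup M] [Module R M] (k : ℕ)
    (A : Type u) [CommRing A] [Algebra R A] [Module.Finite A (A ⊗[R] M)] [Module.Projective A (A ⊗[R] M)]
    (hk : ∀ p : PrimeSpectrum A, Module.rankAtStalk (R := A) (A ⊗[R] M) p = k) :
    (∃ N : Module.Grassmannian A (A ⊗[R] M) k, N.toSubmodule = ⊥) ∧
      ∀ N : Module.Grassmannian A (A ⊗[R] M) k, N.toSubmodule = ⊥ := by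
  have key : ∀ N : Submodule A (A ⊗[R] M), Module.Finite A ((A ⊗[R] M) ⧸ N) →
      Module.Projective A ((A ⊗[R] M) ⧸ N) →
      (∀ p : PrimeSpectrum A, Module.rankAtStalk (R := A) ((A ⊗[R] M) ⧸ N) p = k) → N = ⊥ := by
    intro N _ _ hN
    obtain ⟨s, hs⟩ := Module.projective_lifting_property N.mkQ LinearMap.id N.mkQ_surjective
    have hex : Function.Exact N.subtype N.mkQ := LinearMap.exact_subtype_mkQ N
    have hs' : ∀ q, N.mkQ (s q) = q := fun q => LinearMap.congr_fun hs q
    have hmem : ∀ x, x - s (N.mkQ x) ∈ N := fun x => by
      rw [← Submodule.Quotient.mk_eq_zero N, ← Submodule.mkQ_apply, map_sub, hs', sub_self]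
    let e : (A ⊗[R] M) ≃ₗ[A] N × ((A ⊗[R] M) ⧸ N) := LinearEquiv.ofLinearMap
      (((LinearMap.id - s ∘ₗ N.mkQ).codRestrict N hmem).prod N.mkQ)
      (N.subtype.coprod s)
      (by
        apply LinearMap.ext
        rintro ⟨n, q⟩
        have hn : N.mkQ (n : A ⊗[R] M) = 0 := by
          rw [← LinearMap.mem_ker, N.ker_mkQ]; exact n.2
        ext
        · simp [hn, hs']
        · simp only [Submodule.mkQ_apply] at hn hs'
          simp [hn, hs'])
      (by
        apply LinearMap.ext
        intro x
        simp)
    let r : (A ⊗[R] M) →ₗ[A] N := (LinearMap.fst A N _) ∘ₗ e.toLinearMap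
    have hr : Function.Surjective r := fun y => ⟨e.symm (y, 0), by simp [r]⟩
    have : Module.Finite A N := Module.Finite.of_surjective r hr
    have : Module.Projective A (N × ((A ⊗[R] M) ⧸ N)) := Module.Projective.of_equiv e
    have : Module.Projective A N :=
      Module.Projective.of_split (LinearMap.inl A N ((A ⊗[R] M) ⧸ N)) (LinearMap.fst A N _) (by ext; simp)
    have h1 := Module.rankAtStalk_eq_of_equiv (R := A) (M := A ⊗[R] M) (N := N × ((A ⊗[R] M) ⧸ N)) e
    rw [Module.rankAtStalk_prod] at h1
    have h0 : Module.rankAtStalk (R := A) N = 0 := by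
      funext p
      have h2 := congrFun h1 p
      simp only [Pi.add_apply, hk p, hN p] at h2
      simp only [Pi.zero_apply]
      omega
    have hsub : Subsingleton N := Module.rankAtStalk_eq_zero_iff_subsingleton.1 h0
    exact Submodule.subsingleton_iff_eq_bot.1 hsub
  refine ⟨⟨⟨⊥, ?_, ?_, ?_⟩, rfl⟩, fun N => key N.toSubmodule N.finite_quotient N.projective_quotient N.rankAtStalk_eq⟩
  · exact Module.Finite.equiv (Submodule.quotEquivOfEqBot ⊥ rfl).symm
  · exact Module.Projective.of_equiv (Submodule.quotEquivOfEqBot ⊥ rfl).symm
  · intro p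
    rw [← hk p]
    exact congrFun (Module.rankAtStalk_eq_of_equiv (Submodule.quotEquivOfEqBot ⊥ rfl)) p

end Groth.Agent.S14346
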