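import Groth.Agent.SiteBase.Derived
import Groth.Statements.S14350
-- import your own Groth.Agent.* helpers here

set_option autoImplicit false
universe u
open CategoryTheory
open CohTop

namespace Groth.Agent.S14350

open TopologicalSpace in
/-- For a sheaf of abelian groups F on a topological space X and p ≥ 0, the value at F of the p-th right
derived functor of the (left exact) forgetful functor from abelian sheaves to abelian presheaves on
X is isomorphic, as a presheaf, to the cohomology presheaf U ↦ H^p(U, F). Existence of an
isomorphism of presheaves only. (The published statement is for O_X-modules and presheaves of
O_X-modules on a scheme X; this row is the case of sheaves of abelian groups on a topological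
space.) -/
theorem result {X : TopCat.{u}}
    (F : CohTop.Ab X) (p : ℕ) :
    Nonempty (((sheafToPresheaf (Opens.grothendieckTopology X) AddCommGrpCat.{u}).rightDerived p).obj F ≅
      Sheaf.cohomologyPresheaf.{u} F p) := by
  exact ⟨(Groth.Agent.SiteBase.rightDerivedIsoCohomology p).app F⟩

end Groth.Agent.S14350
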