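import Groth.Statements.S14351
import Mathlib.RingTheory.Flat.FaithfullyFlat.Algebra
import Mathlib.LinearAlgebra.TensorProduct.Tower

set_option autoImplicit false
universe u
open CAlg

namespace Groth.Agent.S14351
open TensorProduct

/-- For ring maps A → B → C with C faithfully flat over B and C faithfully flat over A, the ring B is
faithfully flat over A. -/
theorem result (A B C : Type u) [CommRing A] [CommRing B]
    [CommRing C] [Algebra A B] [Algebra B C] [Algebra A C] [IsScalarTower A B C]
    [Module.FaithfullyFlat B C] [Module.FaithfullyFlat A C] : Module.FaithfullyFlat A B := by
  rw [Module.FaithfullyFlat.iff_flat_and_lTensor_reflects_triviality]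
  refine ⟨Module.Flat.iff_lTensor_preserves_injective_linearMap.2 fun N N' _ _ _ _ f hf => ?_,
    fun N _ _ hN => ?_⟩
  · have h : Function.Injective ((TensorProduct.AlgebraTensorModule.lTensor B B f).lTensor C) := by
      have h2 : ∀ t : C ⊗[B] (B ⊗[A] N), AlgebraTensorModule.cancelBaseChange A B B C N'
          ((TensorProduct.AlgebraTensorModule.lTensor B B f).lTensor C t) =
          f.lTensor C (AlgebraTensorModule.cancelBaseChange A B B C N t) := by
        intro t
        induction t with
        | zero => simp
        | add u v hu hv => simp only [map_add, hu, hv]
        | tmul c y =>
          induction y with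
          | zero => simp
          | add u v hu hv => simp only [TensorProduct.tmul_add, map_add, hu, hv]
          | tmul b n => simp
      intro s t hst
      have := congrArg (AlgebraTensorModule.cancelBaseChange A B B C N') hst
      rw [h2, h2] at this
      exact (AlgebraTensorModule.cancelBaseChange A B B C N).injective
        (Module.Flat.lTensor_preserves_injective_linearMap f hf this)
    exact (Module.FaithfullyFlat.lTensor_injective_iff_injective B C _).1 h
  · haveI : Subsingleton (C ⊗[A] N) :=
      (AlgebraTensorModule.cancelBaseChange A B B C N).symm.toEquiv.subsingleton
    exact Module.FaithfullyFlat.lTensor_reflects_triviality A C N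

end Groth.Agent.S14351
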