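import Groth.Statements.S14352
import Groth.Agent.GrpSchLib.UnramifiedFibre
import Mathlib.AlgebraicGeometry.Noetherian
import Mathlib.FieldTheory.IsAlgClosed.AlgebraicClosure
import Mathlib.RingTheory.Flat.FaithfullyFlat.Basic
import Mathlib.RingTheory.Unramified.Field
import Mathlib.RingTheory.Unramified.Finite

set_option autoImplicit false
set_option backward.isDefEq.respectTransparency false
set_option backward.isDefEq.respectTransparency.types false
set_option linter.style.haveILetI false
universe u
open Mor

namespace Groth.Agent.S14352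

section
open CategoryTheory CategoryTheory.Limits AlgebraicGeometry TensorProduct

/-- Formal unramifiedness of a finite type scheme over a field descends along field extensions. -/
theorem formallyUnramified_of_baseChange {k K : Type u} [Field k] [Field K] [Algebra k K] {Z : Scheme.{u}}
    (g : Z ⟶ Spec (CommRingCat.of k))
    [h : FormallyUnramified (pullback.snd g (Spec.map (CommRingCat.ofHom (algebraMap k K))))] :
    FormallyUnramified g := by
  rw [IsZariskiLocalAtSource.iff_of_openCover (P := @FormallyUnramified) Z.affineCover]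
  intro i
  let R := Z.affineOpenCover.X i
  let j : Spec R ⟶ Z := Z.affineOpenCover.f i
  show FormallyUnramified (j ≫ g)
  obtain ⟨α, hα⟩ := Spec.map_surjective (j ≫ g)
  let i₀ := Spec.map (CommRingCat.ofHom (algebraMap k K))
  have hj : FormallyUnramified (pullback.snd (j ≫ g) i₀) := by
    rw [← pullbackRightPullbackFstIso_inv_snd_snd g i₀ j, ← Category.assoc]
    exact MorphismProperty.comp_mem @FormallyUnramified _ _ inferInstance h
  rw [← hα, HasRingHomProperty.Spec_iff (P := @FormallyUnramified)]
  letI : Algebra k R := α.hom.toAlgebra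
  show Algebra.FormallyUnramified k R
  have hj' : FormallyUnramified (pullback.fst i₀ (Spec.map (CommRingCat.ofHom (algebraMap k R)))) := by
    have hα' : Spec.map (CommRingCat.ofHom (algebraMap k R)) = j ≫ g := hα
    rw [hα', ← pullbackSymmetry_hom_comp_snd]
    exact MorphismProperty.comp_mem @FormallyUnramified _ _ inferInstance hj
  have hT : FormallyUnramified (Spec.map (CommRingCat.ofHom (algebraMap K (K ⊗[k] R)))) := by
    rw [show Spec.map (CommRingCat.ofHom (algebraMap K (K ⊗[k] R))) = (pullbackSpecIso k K R).inv ≫ pullback.fst _ _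
      from (pullbackSpecIso_inv_fst k K R).symm]
    exact MorphismProperty.comp_mem @FormallyUnramified _ _ inferInstance hj'
  rw [HasRingHomProperty.Spec_iff (P := @FormallyUnramified)] at hT
  haveI : Algebra.FormallyUnramified K (K ⊗[k] R) := RingHom.formallyUnramified_algebraMap.mp hT
  letI : Algebra R (K ⊗[k] R) := Algebra.TensorProduct.rightAlgebra
  haveI : Subsingleton (K ⊗[k] Ω[R⁄k]) :=
    (KaehlerDifferential.tensorKaehlerEquivBase k K R (K ⊗[k] R)).injective.subsingleton
  exact ⟨Module.FaithfullyFlat.lTensor_reflects_triviality k K _⟩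

variable {K : Type u} [Field K]

theorem discreteTopology_of_formallyUnramified {Z : Scheme.{u}} (g : Z ⟶ Spec (CommRingCat.of K))
    [FormallyUnramified g] [LocallyOfFiniteType g] : DiscreteTopology Z := by
  refine discreteTopology_iff_isOpen_singleton.2 fun z => ?_
  obtain ⟨U, hU, hzU, -⟩ := exists_isAffineOpen_mem_and_subset (X := Z) (x := z) (U := ⊤) trivial
  obtain ⟨α, hα⟩ := Spec.map_surjective (hU.fromSpec ≫ g)
  haveI h1 : FormallyUnramified (Spec.map α) := by
    rw [hα]; exact MorphismProperty.comp_mem @FormallyUnramified _ g inferInstance inferInstance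
  haveI h2 : LocallyOfFiniteType (Spec.map α) := by rw [hα]; infer_instance
  letI : Algebra K Γ(Z, U) := α.hom.toAlgebra
  haveI : Algebra.FormallyUnramified K Γ(Z, U) := (HasRingHomProperty.Spec_iff (P := @FormallyUnramified)).1 h1
  haveI : Algebra.FiniteType K Γ(Z, U) := (HasRingHomProperty.Spec_iff (P := @LocallyOfFiniteType)).1 h2
  haveI : Module.Finite K Γ(Z, U) := Algebra.FormallyUnramified.finite_of_free K Γ(Z, U)
  haveI : IsArtinianRing Γ(Z, U) := IsArtinianRing.of_finite K _
  obtain ⟨q, rfl⟩ := hU.range_fromSpec.ge hzU
  rw [← Set.image_singleton]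
  exact hU.fromSpec.isOpenEmbedding.isOpenMap _ (isOpen_discrete (α := PrimeSpectrum Γ(Z, U)) _)

theorem isReduced_of_formallyUnramified {Z : Scheme.{u}} (g : Z ⟶ Spec (CommRingCat.of K))
    [FormallyUnramified g] [LocallyOfFiniteType g] : AlgebraicGeometry.IsReduced Z := by
  haveI : ∀ i, AlgebraicGeometry.IsReduced (Z.affineCover.X i) := fun i => by
    let R := Z.affineOpenCover.X i
    let j : Spec R ⟶ Z := Z.affineOpenCover.f i
    obtain ⟨α, hα⟩ := Spec.map_surjective (j ≫ g)
    haveI h1 : FormallyUnramified (Spec.map α) := by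
      rw [hα]; exact MorphismProperty.comp_mem @FormallyUnramified _ g inferInstance inferInstance
    haveI h2 : LocallyOfFiniteType (Spec.map α) := by rw [hα]; infer_instance
    letI : Algebra K R := α.hom.toAlgebra
    haveI : Algebra.FormallyUnramified K R := (HasRingHomProperty.Spec_iff (P := @FormallyUnramified)).1 h1
    haveI : Algebra.FiniteType K R := (HasRingHomProperty.Spec_iff (P := @LocallyOfFiniteType)).1 h2
    haveI : _root_.IsReduced R := Algebra.FormallyUnramified.isReduced_of_field K R
    exact inferInstanceAs (AlgebraicGeometry.IsReduced (Spec R))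
  exact IsReduced.of_openCover Z Z.affineCover

theorem formallyUnramified_of_discrete [IsAlgClosed K] {Z : Scheme.{u}} (g : Z ⟶ Spec (CommRingCat.of K))
    [LocallyOfFiniteType g] [AlgebraicGeometry.IsReduced Z] [DiscreteTopology Z] : FormallyUnramified g := by
  let O : Z → Z.Opens := fun z => ⟨{z}, isOpen_discrete _⟩
  refine (IsZariskiLocalAtSource.iff_of_iSup_eq_top (P := @FormallyUnramified) O
    (eq_top_iff.2 fun z _ => TopologicalSpace.Opens.mem_iSup.2 ⟨z, rfl⟩)).2 fun z => ?_
  haveI : Subsingleton (O z : Scheme.{u}) := ⟨fun a b => Subtype.ext (a.2.trans b.2.symm)⟩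
  haveI : Finite (O z : Scheme.{u}) := inferInstance
  haveI : DiscreteTopology (O z : Scheme.{u}) := inferInstance
  have hU : IsAffineOpen (O z) := inferInstanceAs (IsAffine (O z : Scheme.{u}))
  let A := Γ(Z, O z)
  obtain ⟨α, hα⟩ := Spec.map_surjective (hU.fromSpec ≫ g)
  haveI h2 : LocallyOfFiniteType (Spec.map α) := by rw [hα]; infer_instance
  letI : Algebra K A := α.hom.toAlgebra
  haveI : Algebra.FiniteType K A := (HasRingHomProperty.Spec_iff (P := @LocallyOfFiniteType)).1 h2
  haveI : Subsingleton (PrimeSpectrum A) := ⟨fun a b => hU.fromSpec.isOpenEmbedding.injective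
    ((hU.range_fromSpec.le ⟨a, rfl⟩ : hU.fromSpec a ∈ O z).trans
      (hU.range_fromSpec.le ⟨b, rfl⟩ : hU.fromSpec b ∈ O z).symm)⟩
  obtain ⟨q₀, -⟩ := hU.range_fromSpec.ge (show z ∈ O z from rfl)
  haveI : q₀.asIdeal.IsPrime := q₀.isPrime
  have hq : q₀.asIdeal = ⊥ := by
    refine eq_bot_iff.2 fun a ha => ?_
    exact (isReduced_iff A).1 inferInstance a (nilpotent_iff_mem_prime.2 fun J hJ => by
      have : (⟨J, hJ⟩ : PrimeSpectrum A) = q₀ := Subsingleton.elim _ _
      rw [← this] at ha
      exact ha)
  haveI : IsDomain A := by
    have : (⊥ : Ideal A).IsPrime := hq ▸ q₀.isPrime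
    exact IsDomain.of_bot_isPrime A
  haveI hF : IsField A := by
    by_contra hnf
    obtain ⟨m, hm0, hm⟩ := Ring.not_isField_iff_exists_prime.1 hnf
    exact hm0 ((congrArg PrimeSpectrum.asIdeal (Subsingleton.elim (⟨m, hm⟩ : PrimeSpectrum A) q₀)).trans hq)
  letI := hF.toField
  haveI : Module.Finite K A := finite_of_finite_type_of_isJacobsonRing K A
  have hb : Function.Bijective (algebraMap K A) := IsAlgClosed.algebraMap_bijective_of_isIntegral
  have h1 : FormallyUnramified (Spec.map α) := by
    rw [HasRingHomProperty.Spec_iff (P := @FormallyUnramified)]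
    exact RingHom.formallyUnramified_algebraMap.mpr (Algebra.FormallyUnramified.of_surjective (Algebra.ofId K A) hb.2)
  rw [← hU.isoSpec_inv_ι, Category.assoc] at hα
  rw [← Iso.hom_inv_id_assoc hU.isoSpec ((O z).ι ≫ g), ← hα]
  exact MorphismProperty.comp_mem @FormallyUnramified _ _ inferInstance h1

end


open CategoryTheory CategoryTheory.Limits AlgebraicGeometry in
/-- A morphism of schemes f : X → S which is locally of finite presentation is unramified (formally
unramified) if and only if all its geometric fibres are reduced with discrete underlying space: for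
every algebraically closed field K and every S-point Spec K → S, the fibre product X ×_S Spec K is a
reduced scheme whose topological space is discrete. -/
theorem result {X S : Scheme.{u}} (f : X ⟶ S)
    [LocallyOfFinitePresentation f] :
    FormallyUnramified f ↔
      ∀ (K : Type u) [Field K] [IsAlgClosed K] (s : Spec (CommRingCat.of K) ⟶ S),
        IsReduced (pullback f s) ∧ DiscreteTopology ↥(pullback f s) := by
  constructor
  · intro hf K _ _ s
    haveI : FormallyUnramified (pullback.snd f s) := MorphismProperty.pullback_snd f s hf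
    exact ⟨isReduced_of_formallyUnramified (pullback.snd f s),
      discreteTopology_of_formallyUnramified (pullback.snd f s)⟩
  · intro h
    refine GrpSchLib.formallyUnramified_of_fibres f fun y => ?_
    let K := AlgebraicClosure (S.residueField y)
    let i₀ := Spec.map (CommRingCat.ofHom (algebraMap (S.residueField y) K))
    obtain ⟨hr, hd⟩ := h K (i₀ ≫ S.fromSpecResidueField y)
    haveI := hr
    haveI := hd
    haveI := formallyUnramified_of_discrete (K := K) (pullback.snd f (i₀ ≫ S.fromSpecResidueField y))
    refine formallyUnramified_of_baseChange (k := S.residueField y) (K := K) (f.fiberToSpecResidueField y) (h := ?_)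
    show FormallyUnramified (pullback.snd (pullback.snd f (S.fromSpecResidueField y)) i₀)
    rw [← pullbackLeftPullbackSndIso_hom_snd f (S.fromSpecResidueField y) i₀]
    exact MorphismProperty.comp_mem @FormallyUnramified _ _ inferInstance inferInstance

end Groth.Agent.S14352
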