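import Mathlib
import Groth.Statements.S14353
-- import your own Groth.Agent.* helpers here

set_option autoImplicit false
universe u
open CategoryTheory CategoryTheory.Limits CategoryTheory.MonoidalCategory
open CAlg

namespace Groth.Agent.S14353

open CategoryTheory CategoryTheory.Limits MonoidalCategory Opposite
open TensorProduct

variable {R : Type u} [CommRing R]

/-- Compatible points of an inverse system of Artinian modules lift along levelwise linear maps. -/
lemma exists_compatible_lift {P Q : ℕ → Type u} [∀ n, AddCommGroup (P n)] [∀ n, Module R (P n)]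
    [∀ n, AddCommGroup (Q n)] [∀ n, Module R (Q n)] [∀ n, IsArtinian R (P n)]
    (T : ∀ {n m : ℕ}, n ≤ m → (P m →ₗ[R] P n)) (S : ∀ {n m : ℕ}, n ≤ m → (Q m →ₗ[R] Q n))
    (hT : ∀ (n : ℕ) x, T (le_refl n) x = x)
    (hTT : ∀ {n m l : ℕ} (h : n ≤ m) (h' : m ≤ l) x, T h (T h' x) = T (h.trans h') x)
    (π : ∀ n, P n →ₗ[R] Q n) (hπ : ∀ {n m : ℕ} (h : n ≤ m) x, π n (T h x) = S h (π m x))
    (y : ∀ n, Q n) (hy : ∀ {n m : ℕ} (h : n ≤ m), S h (y m) = y n) (hr : ∀ n, ∃ x, π n x = y n) :
    ∃ x : ∀ n, P n, (∀ n, π n (x n) = y n) ∧ ∀ n, T (Nat.le_succ n) (x (n + 1)) = x n := by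
  let U : (n : ℕ) → ℕ →o (Submodule R (P n))ᵒᵈ := fun n =>
    ⟨fun m => OrderDual.toDual ((LinearMap.ker (π (n + m))).map (T (Nat.le_add_right n m))), fun i j hij => by
      rw [OrderDual.toDual_le_toDual, Submodule.map_le_iff_le_comap]
      intro x hx
      rw [Submodule.mem_comap, ← hTT (Nat.le_add_right n i) (Nat.add_le_add_left hij n)]
      refine Submodule.mem_map_of_mem ?_
      rw [LinearMap.mem_ker, hπ, LinearMap.mem_ker.1 hx, map_zero]⟩
  choose N hN using fun n => IsArtinian.monotone_stabilizes (U n)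
  let Good : ∀ n, P n → Prop := fun n p => ∀ m (h : n ≤ m), ∃ x, π m x = y m ∧ T h x = p
  have good : ∀ n m (h : n ≤ m), n + N n ≤ m → ∀ x, π m x = y m → Good n (T h x) := by
    intro n m h hm x hx l hl
    obtain ⟨x₁, hx₁⟩ := hr (max m l)
    have hmem : T h x - T (h.trans (le_max_left m l)) x₁ ∈ (LinearMap.ker (π m)).map (T h) := by
      refine ⟨x - T (le_max_left m l) x₁, ?_, by rw [map_sub, hTT]⟩
      rw [SetLike.mem_coe, LinearMap.mem_ker, map_sub, hπ, hx₁, hy, hx, sub_self]
    have heq : (LinearMap.ker (π m)).map (T h) =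
        (LinearMap.ker (π (max m l))).map (T (h.trans (le_max_left m l))) := by
      have key : ∀ j (hj : n ≤ j), n + N n ≤ j → (LinearMap.ker (π j)).map (T hj) = OrderDual.ofDual (U n (N n)) := by
        intro j hj hj'
        obtain ⟨d, rfl⟩ := Nat.exists_eq_add_of_le hj
        exact congrArg OrderDual.ofDual (hN n d (by omega)).symm
      rw [key m h hm, key _ _ (hm.trans (le_max_left m l))]
    rw [heq] at hmem
    obtain ⟨k, hk, hkeq⟩ := hmem
    refine ⟨T (le_max_right m l) (x₁ + k), ?_, ?_⟩
    · rw [hπ, map_add, hx₁, LinearMap.mem_ker.1 hk, add_zero, hy]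
    · rw [hTT, map_add, hkeq]; abel
  have h0 : ∃ p, Good 0 p := by
    obtain ⟨x, hx⟩ := hr (N 0)
    exact ⟨_, good 0 (N 0) (Nat.zero_le _) (by omega) x hx⟩
  have hstep : ∀ n p, Good n p → ∃ q, Good (n + 1) q ∧ T (Nat.le_succ n) q = p := by
    intro n p hp
    obtain ⟨x, hx, hxp⟩ := hp (n + 1 + N (n + 1)) (by omega)
    exact ⟨T (Nat.le_add_right (n + 1) (N (n + 1))) x, good _ _ _ le_rfl x hx, by rw [hTT]; exact hxp⟩
  choose next hnext hnext' using hstep
  let seq : ∀ n, {p : P n // Good n p} := fun n =>
    Nat.rec ⟨h0.choose, h0.choose_spec⟩ (fun n p => ⟨next n p.1 p.2, hnext n p.1 p.2⟩) n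
  refine ⟨fun n => (seq n).1, fun n => ?_, fun n => hnext' n (seq n).1 (seq n).2⟩
  obtain ⟨x, hx, hxe⟩ := (seq n).2 n le_rfl
  show π n (seq n).1 = y n
  rw [← hxe, hT, hx]

variable {N : Type u} [AddCommGroup N] [Module R N] {a b : ℕ}

/-- The presentation map of `X ⊗ N`. -/
noncomputable def presQ (g : Fin b → N) (X : Type u) [AddCommGroup X] [Module R X] : (Fin b → X) →ₗ[R] X ⊗[R] N :=
  ∑ i, ((TensorProduct.mk R X N).flip (g i)).comp (LinearMap.proj i)

/-- The relation map of the presentation of `X ⊗ N`. -/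
noncomputable def presD (c : Fin a → Fin b → R) (X : Type u) [AddCommGroup X] [Module R X] : (Fin a → X) →ₗ[R] (Fin b → X) :=
  LinearMap.pi fun i => ∑ j, c j i • LinearMap.proj j

lemma pres_exact (g : Fin b → N) (c : Fin a → Fin b → R) (hg : Function.Surjective (Fintype.linearCombination R g))
    (hc : Function.Exact (Fintype.linearCombination R c) (Fintype.linearCombination R g))
    (X : Type u) [AddCommGroup X] [Module R X] :
    Function.Surjective (presQ (R := R) g X) ∧ Function.Exact (presD c X) (presQ (R := R) g X) := by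
  let eb := TensorProduct.piScalarRight R R X (Fin b)
  let ea := TensorProduct.piScalarRight R R X (Fin a)
  have h1 : presQ (R := R) g X ∘ₗ eb.toLinearMap = (Fintype.linearCombination R g).lTensor X := by
    refine TensorProduct.ext' fun x f => ?_
    simp [presQ, eb, Fintype.linearCombination_apply, TensorProduct.smul_tmul, TensorProduct.tmul_sum, LinearMap.sum_apply]
  have h2 : presD c X ∘ₗ ea.toLinearMap = eb.toLinearMap ∘ₗ (Fintype.linearCombination R c).lTensor X := by
    refine TensorProduct.ext' fun x f => funext fun i => ?_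
    simp [presD, ea, eb, Fintype.linearCombination_apply, Finset.sum_smul, smul_smul, mul_comm, Finset.sum_apply, LinearMap.sum_apply]
  have hs := LinearMap.lTensor_surjective X hg
  rw [← h1] at hs
  refine ⟨fun y => let ⟨t, ht⟩ := hs y; ⟨eb t, ht⟩, fun v => ?_⟩
  obtain ⟨t, rfl⟩ := eb.surjective v
  have hex := lTensor_exact X hc hg t
  rw [← h1] at hex
  refine hex.trans ⟨fun ⟨s, hs⟩ => ⟨ea s, ?_⟩, fun ⟨w, hw⟩ => ⟨ea.symm w, eb.injective ?_⟩⟩
  · exact (LinearMap.congr_fun h2 s).trans (congrArg eb hs)
  · refine ((LinearMap.congr_fun h2 (ea.symm w)).symm.trans ?_)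
    simpa using hw

lemma presQ_natural (g : Fin b → N) {X Y : Type u} [AddCommGroup X] [Module R X] [AddCommGroup Y] [Module R Y]
    (f : X →ₗ[R] Y) (v : Fin b → X) :
    presQ (R := R) g Y (fun i => f (v i)) = f.rTensor N (presQ (R := R) g X v) := by
  simp [presQ, LinearMap.sum_apply]

lemma presD_natural (c : Fin a → Fin b → R) {X Y : Type u} [AddCommGroup X] [Module R X] [AddCommGroup Y] [Module R Y]
    (f : X →ₗ[R] Y) (v : Fin a → X) :
    presD c Y (fun i => f (v i)) = fun i => f (presD c X v i) := by
  funext i; simp [presD, LinearMap.sum_apply]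

/-- For a commutative ring R, an inverse system (M_n)_{n ∈ ℕ} of R-modules of finite length and a
finitely presented R-module N, the canonical comparison map (lim_n M_n) ⊗_R N ⟶ lim_n (M_n ⊗_R N) is
an isomorphism. (The published statement takes N = R/I for a finitely generated ideal I; the
argument covers every finitely presented N, which is the form stated here.) -/
theorem result (R : Type u) [CommRing R]
    (M : ℕᵒᵖ ⥤ ModuleCat.{u} R) (hM : ∀ n : ℕᵒᵖ, IsFiniteLength R (M.obj n))
    (N : Type u) [AddCommGroup N] [Module R N] [Module.FinitePresentation R N] :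
    IsIso (limit.post M (tensorRight (ModuleCat.of R N))) := by
  classical
  obtain ⟨b, g₀, hg₀⟩ := Module.Finite.exists_fin' R N
  obtain ⟨g, rfl⟩ : ∃ g, Fintype.linearCombination R g = g₀ := ⟨fun i => g₀ (Pi.single i 1), by
    refine (Pi.basisFun R (Fin b)).ext fun i => ?_
    simp [Fintype.linearCombination_apply_single]⟩
  obtain ⟨a, c, hc⟩ := Submodule.fg_iff_exists_fin_generating_family.1 (Module.FinitePresentation.fg_ker _ hg₀)
  have hcg : Function.Exact (Fintype.linearCombination R c) (Fintype.linearCombination R g) := by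
    rw [LinearMap.exact_iff, Fintype.range_linearCombination, hc]
  haveI : ∀ n, IsArtinian R (M.obj n) := fun n => ((isFiniteLength_iff_isNoetherian_isArtinian).1 (hM n)).2
  let M' : ℕ → Type u := fun n => M.obj (op n)
  let T : ∀ {n m : ℕ}, n ≤ m → (M' m →ₗ[R] M' n) := fun h => (M.map (homOfLE h).op).hom
  have hT : ∀ (n : ℕ) (x : M' n), T (le_refl n) x = x := fun n x => by
    show (M.map (homOfLE (le_refl n)).op).hom x = x
    rw [show (homOfLE (le_refl n)).op = 𝟙 (op n) from rfl, M.map_id]; rfl
  have hTT : ∀ {n m l : ℕ} (h : n ≤ m) (h' : m ≤ l) (x : M' l), T h (T h' x) = T (h.trans h') x := by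
    intro n m l h h' x
    show (M.map _).hom ((M.map _).hom x) = (M.map _).hom x
    rw [← ModuleCat.comp_apply, ← M.map_comp]; rfl
  let L : Type u := (limit M : ModuleCat.{u} R)
  let pr : ∀ n, L →ₗ[R] M' n := fun n => (limit.π M (op n)).hom
  have hpr : ∀ {n m : ℕ} (h : n ≤ m) (x : L), T h (pr m x) = pr n x := fun h x => by
    show (limit.π M _ ≫ M.map _).hom x = _
    rw [limit.w]
  -- compatible families are points of the limit
  have hpt : ∀ x : ∀ n, M' n, (∀ n, T (Nat.le_succ n) (x (n + 1)) = x n) → ∃ z : L, ∀ n, pr n z = x n := by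
    intro x hx
    have hx' : ∀ {n m : ℕ} (h : n ≤ m), T h (x m) = x n := by
      intro n m h
      induction h with
      | refl => exact hT n _
      | step h ih => rw [← hTT h (Nat.le_succ _), hx, ih]
    let C : Cone M :=
      { pt := ModuleCat.of R R
        π := { app := fun j => ModuleCat.ofHom (LinearMap.toSpanSingleton R (M.obj j) (x j.unop))
               naturality := fun i j f => ModuleCat.hom_ext (LinearMap.ext_ring (by
                 show (1 : R) • x j.unop = (M.map f).hom ((1 : R) • x i.unop)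
                 rw [one_smul, one_smul]
                 exact (hx' (leOfHom f.unop)).symm)) } }
    exact ⟨(limit.lift M C).hom 1, fun n => by
      show (limit.lift M C ≫ limit.π M (op n)).hom 1 = _
      rw [limit.lift_π]
      exact one_smul R (x n)⟩
  let F := M ⋙ tensorRight (ModuleCat.of R N)
  let φ := limit.post M (tensorRight (ModuleCat.of R N))
  let prF : ∀ n, (limit F : ModuleCat.{u} R) →ₗ[R] M' n ⊗[R] N := fun n => (limit.π F (op n)).hom
  have hφ : ∀ n z, prF n (φ.hom z) = (pr n).rTensor N z := fun n z => by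
    show (φ ≫ limit.π F (op n)).hom z = _
    rw [limit.post_π]; rfl
  have hpres := fun (X : Type u) (_ : AddCommGroup X) (_ : Module R X) => pres_exact g c hg₀ hcg X
  have hyF : ∀ (w : (limit F : ModuleCat.{u} R)) {n m : ℕ} (h : n ≤ m),
      (T h).rTensor N (prF m w) = prF n w := fun w n m h => by
    show (limit.π F _ ≫ F.map (homOfLE h).op).hom w = _
    rw [limit.w]
  rw [ConcreteCategory.isIso_iff_bijective]
  refine ⟨(injective_iff_map_eq_zero φ.hom).2 fun z hz => ?_, fun w => ?_⟩
  · obtain ⟨v, rfl⟩ := (hpres L _ _).1 z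
    have h0 : ∀ n, presQ (R := R) g (M' n) (fun i => pr n (v i)) = 0 := fun n => by
      rw [presQ_natural, ← hφ n, hz, map_zero]
    obtain ⟨d, hd, hd'⟩ := exists_compatible_lift (R := R) (P := fun n => Fin a → M' n) (Q := fun n => Fin b → M' n)
      (fun h => LinearMap.compLeft (T h) (Fin a)) (fun h => LinearMap.compLeft (T h) (Fin b))
      (fun n x => funext fun i => hT n _) (fun h h' x => funext fun i => hTT h h' _)
      (fun n => presD c (M' n)) (fun {n m} h x => presD_natural c (T h) x)
      (fun n i => pr n (v i)) (fun h => funext fun i => hpr h _)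
      (fun n => ((hpres (M' n) _ _).2 _).1 (h0 n))
    choose D hD using fun j => hpt (fun n => d n j) fun n => congrFun (hd' n) j
    refine ((hpres L _ _).2 v).2 ⟨D, funext fun i => Concrete.limit_ext M _ _ fun n => ?_⟩
    have := congrFun (hd n.unop) i
    rw [← show (fun j => pr n.unop (D j)) = d n.unop from funext fun j => hD j _, presD_natural] at this
    exact this
  · obtain ⟨v, hv, hv'⟩ := exists_compatible_lift (R := R) (P := fun n => Fin b → M' n) (Q := fun n => M' n ⊗[R] N)
      (fun h => LinearMap.compLeft (T h) (Fin b)) (fun h => (T h).rTensor N)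
      (fun n x => funext fun i => hT n _) (fun h h' x => funext fun i => hTT h h' _)
      (fun n => presQ (R := R) g (M' n)) (fun {n m} h x => presQ_natural g (T h) x)
      (fun n => prF n w) (fun h => hyF w h) (fun n => (hpres (M' n) _ _).1 _)
    choose V hV using fun i => hpt (fun n => v n i) fun n => congrFun (hv' n) i
    refine ⟨presQ (R := R) g L V, Concrete.limit_ext F _ _ fun n => ?_⟩
    show prF n.unop (φ.hom (presQ (R := R) g L V)) = prF n.unop w
    rw [hφ, ← presQ_natural, show (fun i => pr n.unop (V i)) = v n.unop from funext fun i => hV i _, hv]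

end Groth.Agent.S14353
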