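import Groth.Statements.S14354
import Groth.Agent.ExistEasy.TwoIdeal
import Groth.Agent.QCoh.SupportFT
import Mathlib.Algebra.Category.ModuleCat.Sheaf.Limits

set_option autoImplicit false
universe u
open CategoryTheory CategoryTheory.Limits AlgebraicGeometry Opposite
open Coh

namespace Groth.Agent.S14354
open CategoryTheory CategoryTheory.Limits AlgebraicGeometry Opposite TopologicalSpace
open Groth.Agent

theorem comp_cokernel_eq_zero {X : Scheme.{u}} {A B C : X.Modules} {f : A ⟶ C} {g : B ⟶ C}
    (h : imageSubobject f ≤ imageSubobject g) : f ≫ cokernel.π g = 0 := by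
  have h1 : (imageSubobject g).arrow ≫ cokernel.π g = 0 := by
    rw [← cancel_epi (factorThruImageSubobject g), ← Category.assoc, imageSubobject_arrow_comp, cokernel.condition, comp_zero]
  rw [← imageSubobject_arrow_comp f, ← Subobject.ofLE_arrow h, Category.assoc, Category.assoc, h1, comp_zero, comp_zero]

theorem hom_eq_zero_of_affine {X : Scheme.{u}} {M N : X.Modules} (g : M ⟶ N)
    (h : ∀ U : X.Opens, IsAffineOpen U → ∀ w, g.app U w = 0) : g = 0 := by
  refine Scheme.Modules.hom_ext _ _ fun W => ?_
  ext w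
  refine TopCat.Presheaf.section_ext ⟨N.presheaf, N.isSheaf⟩ W _ _ fun x hx => ?_
  obtain ⟨U, hU, hxU, hle⟩ := exists_isAffineOpen_mem_and_subset hx
  show N.presheaf.germ W x hx (g.app W w) = N.presheaf.germ W x hx 0
  refine (N.presheaf.germ_res_apply (homOfLE hle) x hxU (g.app W w)).symm.trans ?_
  rw [map_zero]
  refine (congrArg (N.presheaf.germ U x hxU) ?_).trans (map_zero _)
  exact (congr($(g.mapPresheaf.naturality (homOfLE hle).op) w)).symm.trans (h U hU _)

theorem support_eq_of_iso {X : Scheme.{u}} {M N : X.Modules} (e : M ≅ N) :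
    CohB1.support M = CohB1.support N := by
  ext x
  exact not_congr ((((TopCat.Presheaf.stalkFunctor AddCommGrpCat.{u} x).mapIso
    ((Scheme.Modules.toPresheaf X).mapIso e)).addCommGroupIsoToAddEquiv).toEquiv.subsingleton_congr)

theorem exists_section_limit {X : Scheme.{u}} (G : ℕᵒᵖ ⥤ X.Modules) (U : X.Opens)
    (s : ∀ n : ℕᵒᵖ, Γ(G.obj n, U)) (hs : ∀ {n n' : ℕᵒᵖ} (φ : n ⟶ n'), (G.map φ).app U (s n) = s n') :
    ∃ l : Γ(limit G, U), ∀ n, (limit.π G n).app U l = s n := by
  let ev := SheafOfModules.evaluation.{u} X.ringCatSheaf (op U) ⋙ forget _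
  let h := isLimitOfPreserves ev (limit.isLimit G)
  refine ⟨(Types.isLimitEquivSections h).symm ⟨fun n => s n, fun {_ _} φ => hs φ⟩, fun n => ?_⟩
  exact Types.isLimitEquivSections_symm_apply h ⟨fun n => s n, fun {_ _} φ => hs φ⟩ n

/-- Let X be a locally Noetherian scheme and (G_e)_{e ∈ ℕ} an inverse system of coherent O_X-modules
satisfying the Mittag-Leffler condition, in the sense that for every e the image subobject of G_d ⟶
G_e is the same for all sufficiently large d. Then for every e the support of the image of the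
canonical map lim_d G_d ⟶ G_e is closed in X. (The published statement is the case where G_e is the
i-th cohomology sheaf of the Fourier–Mukai transform of the e-th member of a Mittag-Leffler inverse
system of coherent modules on an abelian variety; the argument uses only the coherence of the G_e
and their Mittag-Leffler condition, which is the form stated here.) -/
theorem result (X : Scheme.{u}) [IsLocallyNoetherian X]
    (G : ℕᵒᵖ ⥤ X.Modules) (hG : ∀ n : ℕᵒᵖ, Coh.IsCoh (G.obj n))
    (hML : ∀ e : ℕ, ∃ (d : ℕ) (hd : e ≤ d), ∀ (d' : ℕ) (hd' : d ≤ d'),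
      imageSubobject (G.map (homOfLE (hd.trans hd')).op) = imageSubobject (G.map (homOfLE hd).op))
    (e : ℕ) : IsClosed (CohB1.support (image (limit.π G (op e)))) := by
  choose D hD hst using hML
  let tr : ∀ {j k : ℕ}, j ≤ k → (G.obj (op k) ⟶ G.obj (op j)) := fun h => G.map (homOfLE h).op
  have htr : ∀ {i j k : ℕ} (h : i ≤ j) (h' : j ≤ k), tr h' ≫ tr h = tr (h.trans h') := fun h h' => by
    simp only [tr, ← G.map_comp, ← op_comp, homOfLE_comp]
  let I := Abelian.image (tr (hD e))
  have hI : Coh.IsCoh I := QCoh.isCoh_kernel (hG _) (QCoh.isCoh_cokernel (hG _).1 (hG _) _) _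
  let u : limit G ⟶ I := limit.π G (op (D e)) ≫ Abelian.factorThruImage (tr (hD e))
  have hu : u ≫ Abelian.image.ι _ = limit.π G (op e) := by
    rw [Category.assoc, Abelian.image.fac]
    exact limit.w G (homOfLE (hD e)).op
  -- the stable images
  have step : ∀ (n : ℕ) (U : X.Opens), IsAffineOpen U → ∀ y : Γ(G.obj (op (D n)), U),
      ∃ y' : Γ(G.obj (op (D (n + 1))), U),
        (tr (Nat.le_succ n)).app U ((tr (hD (n + 1))).app U y') = (tr (hD n)).app U y := fun n U hU y => by
    let d := max (D n) (D (n + 1))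
    have hz : tr (hD n) ≫ cokernel.π (tr ((hD n).trans (le_max_left _ _) : n ≤ d)) = 0 :=
      comp_cokernel_eq_zero (hst n d (le_max_left _ _)).ge
    obtain ⟨z, hz'⟩ := ExistEasy.exists_app_of_cokernel (hG _).1 (hG _).1 (tr ((hD n).trans (le_max_left _ _) : n ≤ d)) hU
      ((tr (hD n)).app U y) (congr($(hz).app U y))
    refine ⟨(tr (le_max_right (D n) (D (n + 1)) : D (n + 1) ≤ d)).app U z, ?_⟩
    rw [← hz']
    refine (congr($(htr (hD (n + 1)) (le_max_right (D n) (D (n + 1)))).app U z) |> congrArg ((tr (Nat.le_succ n)).app U)).trans ?_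
    exact congr($(htr (Nat.le_succ n) ((hD (n + 1)).trans (le_max_right (D n) (D (n + 1))))).app U z)
  have hsurj : ∀ (U : X.Opens), IsAffineOpen U → ∀ w : Γ(I, U), ∃ l, u.app U l = w := fun U hU w => by
    obtain ⟨y₀, hy₀⟩ := QCoh.app_surjective_of_epi (hG _).1 hI.1 (Abelian.factorThruImage (tr (hD e))) hU w
    choose f hf using fun n => step n U hU
    let Y : ∀ m : ℕ, Γ(G.obj (op (D (e + m))), U) := fun m => Nat.rec y₀ (fun m y => f (e + m) y) m
    let t : ∀ m : ℕ, Γ(G.obj (op (e + m)), U) := fun m => (tr (hD (e + m))).app U (Y m)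
    have ht : ∀ {m m' : ℕ} (h : m ≤ m'), (tr (Nat.add_le_add_left h e)).app U (t m') = t m := fun {m m'} h => by
      induction m', h using Nat.le_induction with
      | base => exact congr(($(G.map_id (op (e + m)))).app U (t m))
      | succ k h ih =>
        refine (congr($(htr (Nat.add_le_add_left h e) (Nat.le_succ (e + k))).app U (t (k + 1)))).symm.trans ?_
        exact (congrArg ((tr (Nat.add_le_add_left h e)).app U) (hf (e + k) (Y k))).trans ih
    let s : ∀ n : ℕᵒᵖ, Γ(G.obj n, U) := fun n => (tr (Nat.le_add_left n.unop e)).app U (t n.unop)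
    have hs : ∀ {n n' : ℕᵒᵖ} (φ : n ⟶ n'), (G.map φ).app U (s n) = s n' := fun {n n'} φ => by
      obtain ⟨n⟩ := n
      obtain ⟨n'⟩ := n'
      have h : n' ≤ n := leOfHom φ.unop
      show (tr h).app U (s (op n)) = _
      refine (congr($(htr h (Nat.le_add_left n e)).app U (t n))).trans ?_
      rw [← htr (Nat.le_add_left n' e) (Nat.add_le_add_left h e)]
      exact congrArg ((tr (Nat.le_add_left n' e)).app U) (ht h)
    obtain ⟨l, hl⟩ := exists_section_limit G U s hs
    refine ⟨l, QCoh.app_injective (Abelian.image.ι _) U ?_⟩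
    refine (congr($(hu).app U l)).trans ((hl (op e)).trans ?_)
    show (tr (Nat.le_add_left e e)).app U (t e) = _
    rw [← hy₀]
    refine Eq.trans ?_ (congr($(Abelian.image.fac (tr (hD e))).app U y₀)).symm
    exact ht (Nat.zero_le e)
  haveI : Epi u := Preadditive.epi_of_cancel_zero _ fun {T} g hg =>
    hom_eq_zero_of_affine g fun U hU w => by
      obtain ⟨l, rfl⟩ := hsurj U hU w
      exact congr($(hg).app U l)
  haveI : StrongEpi u := strongEpi_of_epi u
  have e0 : I ≅ image (limit.π G (op e)) := image.isoStrongEpiMono u (Abelian.image.ι _) hu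
  rw [← support_eq_of_iso e0]
  exact QCoh.isClosed_support_of_ft hI.2

end Groth.Agent.S14354
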