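import Groth.Statements.S8355


set_option autoImplicit false
universe v u
open CategoryTheory CategoryTheory.Limits
open SpSeq

namespace Groth.Agent.S8355

/-- Let E be a spectral sequence in an abelian category and suppose E_r^{p,q} = 0. Then E_k^{p,q} = 0
for every k ≥ r, and E_∞^{p,q} = 0: for any abutment data (H^n) of E, the graded piece gr^p H^{p+q},
identified by the abutment with the limit term at (p, q), is zero. -/
theorem result {C : Type u} [Category.{v} C] [Abelian C] {r₀ : ℤ}
    (E : CohomologicalSpectralSequence C r₀) (r : ℤ) (hr : r₀ ≤ r) (pq : ℤ × ℤ)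
    (h : IsZero ((E.page r hr).X pq)) :
    (∀ (k : ℤ) (hk : r ≤ k), IsZero ((E.page k (hr.trans hk)).X pq)) ∧
      ∀ (H : ℤ → C) (a : SpSeq.Abutment E H),
        IsZero (SpSeq.grPiece (a.fil (pq.1 + pq.2)) (a.anti (pq.1 + pq.2)) pq.1) := by
  have hup : ∀ (k : ℤ) (hk : r ≤ k), IsZero ((E.page k (hr.trans hk)).X pq) := by
    intro k hk
    induction k, hk using Int.le_induction with
    | base => exact h
    | succ k hk ih =>
      exact IsZero.of_iso (ShortComplex.isZero_homology_of_isZero_X₂ _ ih)
        (E.iso k (k + 1) pq rfl (hr.trans hk)).symm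
  refine ⟨hup, fun H a => ?_⟩
  have hdown : ∀ (k : ℤ) (hk : a.rk pq ≤ k),
      IsZero ((E.page k ((a.stat pq).1.trans hk)).X pq) →
      IsZero ((E.page (a.rk pq) (a.stat pq).1).X pq) := by
    intro k hk
    induction k, hk using Int.le_induction with
    | base => exact id
    | succ k hk ih =>
      intro hz
      refine ih ?_
      have h0 := (a.stat pq).1.trans hk
      obtain ⟨hd1, hd2⟩ := (a.stat pq).2 k h0 hk
      have hprev : (ComplexShape.up' (⟨k, 1 - k⟩ : ℤ × ℤ)).prev pq = pq - (k, 1 - k) :=
        ComplexShape.prev_eq' _ (by simp)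
      have hnext : (ComplexShape.up' (⟨k, 1 - k⟩ : ℤ × ℤ)).next pq = pq + (k, 1 - k) :=
        ComplexShape.next_eq' _ (by simp)
      have hf : ((E.page k h0).sc pq).f = 0 := by
        change (E.page k h0).d _ pq = 0
        rw [hprev]; exact hd1
      have hg : ((E.page k h0).sc pq).g = 0 := by
        change (E.page k h0).d pq _ = 0
        rw [hnext]; exact hd2
      exact IsZero.of_iso hz
        ((ShortComplex.HomologyData.ofZeros _ hf hg).left.homologyIso.symm ≪≫
          E.iso k (k + 1) pq rfl h0)
  exact IsZero.of_iso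
    (hdown (max r (a.rk pq)) (le_max_right _ _) (hup _ (le_max_left _ _))) (a.β pq).symm

end Groth.Agent.S8355
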