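import Groth.Statements.S14355
import Groth.Agent.S8355

set_option autoImplicit false
universe v u
open CategoryTheory CategoryTheory.Limits
open SpSeqMor

namespace Groth.Agent.S14355
lemma homologyMap_eq_zero {C : Type u} [Category.{v} C] [Abelian C] {ι : Type*} {c : ComplexShape ι}
    {K L : HomologicalComplex C c} (g : K ⟶ L) (i : ι) (h : g.f i = 0) :
    HomologicalComplex.homologyMap g i = 0 := by
  have hc : HomologicalComplex.cyclesMap g i = 0 := by
    rw [← cancel_mono (L.iCycles i), HomologicalComplex.cyclesMap_i, h, comp_zero, zero_comp]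
  rw [← cancel_epi (K.homologyπ i), HomologicalComplex.homologyπ_naturality, hc, zero_comp, comp_zero]

lemma phi_zero {C : Type u} [Category.{v} C] [Abelian C]
    {E E' : E₂CohomologicalSpectralSequence C} (φ : E ⟶ E') (pq : ℤ × ℤ)
    (h : (φ.hom 2 le_rfl).f pq = 0) (s : ℤ) (hs : 2 ≤ s) : (φ.hom s hs).f pq = 0 := by
  induction s, hs using Int.le_induction with
  | base => exact h
  | succ s hs ih =>
    rw [← cancel_epi (E.iso s (s + 1) pq rfl hs).hom, ← φ.comm s (s + 1) pq rfl hs,
      homologyMap_eq_zero _ _ ih, zero_comp, comp_zero]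

lemma gr_zero {C : Type u} [Category.{v} C] [Abelian C]
    {E E' : E₂CohomologicalSpectralSequence C} (φ : E ⟶ E') {H H' : ℤ → C}
    (a : SpSeq.Abutment E H) (a' : SpSeq.Abutment E' H') (f : SpSeqMor.AbutHom φ a a') (pq : ℤ × ℤ)
    (n p : ℤ) (hn : pq.1 + pq.2 = n) (hp : pq.1 = p) (h : (φ.hom 2 le_rfl).f pq = 0) :
    (f.fil n).gr p = 0 := by
  subst hn hp
  let s := max (a.rk pq) (a'.rk pq)
  have hk : a.rk pq + ((s - a.rk pq).toNat : ℤ) = a'.rk pq + ((s - a'.rk pq).toNat : ℤ) := by
    have := le_max_left (a.rk pq) (a'.rk pq)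
    have := le_max_right (a.rk pq) (a'.rk pq)
    rw [Int.toNat_of_nonneg (by omega), Int.toNat_of_nonneg (by omega)]
    omega
  have hc := f.comm pq _ _ hk
  rw [phi_zero φ pq h] at hc
  refine (cancel_epi (a.β pq).hom).mp (hc.trans ?_)
  simp only [zero_comp, comp_zero]
  exact comp_zero.symm

lemma fil_succ_eq {C : Type u} [Category.{v} C] [Abelian C] (K : SpSeq.FilObj C) (p : ℤ)
    (h : IsZero (K.gr p)) : K.fil (p + 1) = K.fil p := by
  have hle := K.anti (Int.le_add_one (le_refl p))
  refine le_antisymm hle ?_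
  have : Epi ((K.fil (p + 1)).ofLE (K.fil p) hle) :=
    Preadditive.epi_of_isZero_cokernel _ h
  have : IsIso ((K.fil (p + 1)).ofLE (K.fil p) hle) := isIso_of_mono_of_epi _
  exact Subobject.le_of_comm (inv ((K.fil (p + 1)).ofLE (K.fil p) hle))
    (by rw [IsIso.inv_comp_eq, Subobject.ofLE_arrow])

lemma fil_const {C : Type u} [Category.{v} C] [Abelian C] (K : SpSeq.FilObj C) (p q : ℤ) (hpq : p ≤ q)
    (h : ∀ i, p ≤ i → i < q → IsZero (K.gr i)) : K.fil q = K.fil p := by
  induction q, hpq using Int.le_induction with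
  | base => rfl
  | succ q hq ih =>
    rw [fil_succ_eq K q (h q hq (lt_add_one q)), ih fun i h1 h2 => h i h1 (h2.trans (lt_add_one q))]

lemma isZero_gr {C : Type u} [Category.{v} C] [Abelian C]
    (E : E₂CohomologicalSpectralSequence C) {H : ℤ → C} (a : SpSeq.Abutment E H) (pq : ℤ × ℤ) (n p : ℤ)
    (hn : pq.1 + pq.2 = n) (hp : pq.1 = p) (h : IsZero ((E.page 2 le_rfl).X pq)) :
    IsZero ((a.filObj n).gr p) := by
  subst hn hp
  exact (S8355.result E 2 le_rfl pq h).2 H a


/-- Let φ : E ⟶ E' be a morphism of E_2-cohomological spectral sequences in an abelian category, with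
abutments H and H' whose filtrations are finite in each degree, and f a morphism of abutment data
over φ. Fix integers l and a₀. If E_2^{i, l-i} = 0 for i < a₀, E'_2^{i, l-i} = 0 for i > a₀ and
φ_2^{a₀, l-a₀} = 0, then f^l : H^l ⟶ H'^l is zero. (The published statement prints the two vanishing
hypotheses at positions (i, l); the argument works on the line of total degree l, at positions (i, l
- i), which is the form stated here.) -/
theorem result (C : Type u) [Category.{v} C] [Abelian C]
    (E E' : E₂CohomologicalSpectralSequence C) (φ : E ⟶ E') (H H' : ℤ → C)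
    (a : SpSeq.Abutment E H) (a' : SpSeq.Abutment E' H')
    (ha : ∀ n : ℤ, a.IsFinite n) (ha' : ∀ n : ℤ, a'.IsFinite n)
    (f : SpSeqMor.AbutHom φ a a') (l a₀ : ℤ)
    (hE : ∀ i : ℤ, i < a₀ → IsZero ((E.page 2 le_rfl).X (i, l - i)))
    (hE' : ∀ i : ℤ, a₀ < i → IsZero ((E'.page 2 le_rfl).X (i, l - i)))
    (hφ : (φ.hom 2 le_rfl).f (a₀, l - a₀) = 0) :
    f.hom l = 0 := by
  let K := a.filObj l
  let L := a'.filObj l
  have hK : K.fil a₀ = ⊤ := by
    obtain ⟨⟨q, hq⟩, -⟩ := ha l
    rcases le_total q a₀ with h | h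
    · rw [fil_const K q a₀ h fun i _ hi => isZero_gr E a (i, l - i) l i (by simp) rfl (hE i hi)]
      exact hq
    · exact top_le_iff.mp (hq.symm.le.trans (K.anti h))
  have hL : L.fil (a₀ + 1) = ⊥ := by
    obtain ⟨-, q, hq⟩ := ha' l
    rcases le_total (a₀ + 1) q with h | h
    · rw [← fil_const L (a₀ + 1) q h fun i hi _ =>
        isZero_gr E' a' (i, l - i) l i (by simp) rfl (hE' i (by omega))]
      exact hq
    · exact le_bot_iff.mp ((L.anti h).trans hq.le)
  let g := f.fil l
  have hgr : g.gr a₀ = 0 := gr_zero φ a a' f (a₀, l - a₀) l a₀ (by simp) rfl hφ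
  have h1 : g.lift a₀ ≫ cokernel.π (L.stepLE (Int.le_add_one (le_refl a₀))) = 0 := by
    have := congrArg (fun m => cokernel.π (K.stepLE (Int.le_add_one (le_refl a₀))) ≫ m) hgr
    exact (cokernel.π_desc _ _ _).symm.trans (this.trans comp_zero)
  have h2 : (K.fil a₀).arrow ≫ g.hom = 0 := by
    have hz : (L.fil (a₀ + 1)).arrow = 0 := by rw [hL]; exact Subobject.bot_arrow
    let F := L.stepLE (Int.le_add_one (le_refl a₀))
    let ab := (Abelian.monoIsKernelOfCokernel _ (cokernelIsCokernel F))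
    obtain ⟨m, hm⟩ := KernelFork.IsLimit.lift' ab (g.lift a₀) h1
    rw [← g.lift_arrow a₀, ← hm]
    simp only [Fork.ι_ofι, Category.assoc, F, SpSeq.FilObj.stepLE]
    change m ≫ ((L.fil (a₀ + 1)).ofLE (L.fil a₀) _ ≫ (L.fil a₀).arrow) = 0
    rw [Subobject.ofLE_arrow, hz]
    exact comp_zero
  have : IsIso (K.fil a₀).arrow := by rw [hK]; infer_instance
  exact (cancel_epi (K.fil a₀).arrow).mp (h2.trans comp_zero.symm)


end Groth.Agent.S14355
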