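import Groth.Statements.S14357
import Mathlib.Algebra.MvPolynomial.Division
import Groth.Agent.PnCoh.Global

set_option autoImplicit false
universe u
open AlgebraicGeometry
open Proj

open CategoryTheory

namespace Groth.Agent.S14357

/-- For a field k the projective line over k is not an affine scheme. (The projective line is taken here
as Proj of the polynomial ring in two variables over k with its standard grading; the book builds it
by gluing two affine lines and identifies the two constructions later.) -/
theorem result (k : Type u) [Field k] :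
    ¬ IsAffine (CohB1.ProjSpace 1 k) := by
  intro hA
  letI := MvPolynomial.gradedAlgebra (σ := Fin (1 + 1)) (R := k)
  let t := Groth.Agent.PnCoh.toSpecR (Fin (1 + 1)) k
  haveI : IsAffine (Proj (MvPolynomial.homogeneousSubmodule (Fin (1 + 1)) k)) := hA
  haveI : IsIso t.appTop :=
    (ConcreteCategory.isIso_iff_bijective _).mpr Groth.Agent.PnCoh.bijective_toSpecR_appTop
  haveI : IsIso t := by
    have h := Scheme.toSpecΓ_naturality t
    have e : t = (Proj (MvPolynomial.homogeneousSubmodule (Fin (1 + 1)) k)).toSpecΓ ≫
        Spec.map t.appTop ≫ inv (Spec (CommRingCat.of k)).toSpecΓ := by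
      rw [← Category.assoc, ← h, Category.assoc, IsIso.hom_inv_id, Category.comp_id]
    rw [e]
    infer_instance
  have hsub : Subsingleton ↥(Proj (MvPolynomial.homogeneousSubmodule (Fin (1 + 1)) k)) :=
    Function.Injective.subsingleton (β := PrimeSpectrum k) t.homeomorph.injective
  have hpt : ∀ i : Fin (1 + 1), ∃ p : ProjectiveSpectrum (MvPolynomial.homogeneousSubmodule (Fin (1 + 1)) k),
      p.asHomogeneousIdeal.toIdeal = Ideal.span {MvPolynomial.X i} := by
    intro i
    refine ⟨⟨⟨Ideal.span {MvPolynomial.X i}, Ideal.homogeneous_span _ _ ?_⟩, ?_, ?_⟩, rfl⟩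
    · rintro x rfl
      exact ⟨1, MvPolynomial.isHomogeneous_X k i⟩
    · exact (Ideal.span_singleton_prime (MvPolynomial.X_ne_zero i)).mpr MvPolynomial.X_prime
    · intro h
      have hij : ∃ j : Fin (1 + 1), j ≠ i := exists_ne i
      obtain ⟨j, hj⟩ := hij
      have hmem : (MvPolynomial.X j : MvPolynomial (Fin (1 + 1)) k) ∈ Ideal.span {MvPolynomial.X i} :=
        h (HomogeneousIdeal.mem_irrelevant_of_mem _ one_pos (MvPolynomial.isHomogeneous_X k j))
      obtain ⟨c, hc⟩ := Ideal.mem_span_singleton.mp hmem
      have := congrArg (MvPolynomial.eval (fun l => if l = j then (1 : k) else 0)) hc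
      simp [hj.symm] at this
  obtain ⟨p, hp⟩ := hpt 0
  obtain ⟨q, hq⟩ := hpt 1
  have hpq : p = q := hsub.elim p q
  rw [hpq, hq] at hp
  have hmem : (MvPolynomial.X 1 : MvPolynomial (Fin (1 + 1)) k) ∈ Ideal.span {MvPolynomial.X 0} := by
    rw [← hp]; exact Ideal.subset_span rfl
  obtain ⟨c, hc⟩ := Ideal.mem_span_singleton.mp hmem
  have := congrArg (MvPolynomial.eval (fun l => if l = 1 then (1 : k) else 0)) hc
  simp at this

end Groth.Agent.S14357
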