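import Groth.Statements.S14358
import Mathlib

set_option autoImplicit false
universe u
open CAlg

namespace Groth.Agent.S14358

/-- Let A be a Noetherian integral domain with fraction field K and let r ∈ K. Then r belongs to A if
and only if, for every nonzero g ∈ A and every associated prime p of the A-module A/(g), the element
r belongs to the local ring A_p inside K, i.e. s r = a in K for some a ∈ A and some s ∈ A outside p. -/
theorem result (A K : Type u)
    [CommRing A] [IsDomain A] [IsNoetherianRing A] [Field K] [Algebra A K] [IsFractionRing A K]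
    (r : K) :
    r ∈ Set.range (algebraMap A K) ↔
      ∀ g : A, g ≠ 0 → ∀ p ∈ associatedPrimes A (A ⧸ Ideal.span {g}),
        ∃ a s : A, s ∉ p ∧ algebraMap A K s * r = algebraMap A K a := by
  constructor
  · rintro ⟨a, rfl⟩ g _ p hp
    exact ⟨a, 1, fun h1 => hp.isPrime.ne_top ((Ideal.eq_top_iff_one p).2 h1), by simp⟩
  · intro h
    obtain ⟨⟨a, g⟩, hag⟩ := IsLocalization.surj (nonZeroDivisors A) r
    simp only at hag
    have hg0 : (g : A) ≠ 0 := nonZeroDivisors.ne_zero g.2
    have hgK : algebraMap A K g ≠ 0 := by
      rw [Ne, map_eq_zero_iff _ (IsFractionRing.injective A K)]; exact hg0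
    by_cases ha : a ∈ Ideal.span {(g : A)}
    · obtain ⟨c, rfl⟩ := Ideal.mem_span_singleton'.1 ha
      refine ⟨c, mul_right_cancel₀ hgK ?_⟩
      rw [hag, map_mul]
    · obtain ⟨p, hp, hle⟩ := exists_le_isAssociatedPrime_of_isNoetherianRing A
        (Ideal.Quotient.mk (Ideal.span {(g : A)}) a)
        (fun h0 => ha (Ideal.Quotient.eq_zero_iff_mem.1 h0))
      obtain ⟨a', s, hs, hrs⟩ := h g hg0 p hp
      refine absurd (hle ?_) hs
      have h1 : s * a = a' * g := IsFractionRing.injective A K (by
        rw [map_mul, map_mul, ← hag, ← mul_assoc, hrs])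
      rw [Submodule.mem_colon_singleton, Submodule.mem_bot]
      change Ideal.Quotient.mk _ (s * a) = 0
      rw [Ideal.Quotient.eq_zero_iff_mem, h1]
      exact Ideal.mem_span_singleton'.2 ⟨a', rfl⟩

end Groth.Agent.S14358
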