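import Groth.Statements.S14360
import Mathlib.AlgebraicGeometry.Birational.Birational
import Mathlib.AlgebraicGeometry.Birational.Composition
import Mathlib.AlgebraicGeometry.Morphisms.SchemeTheoreticallyDominant
import Mathlib.AlgebraicGeometry.Morphisms.UnderlyingMap

set_option autoImplicit false
universe u
open AlgebraicGeometry
open Variety

namespace Groth.Agent.S14360


open CategoryTheory

theorem comp_inv_equiv_id {X Y : Scheme.{u}} [IrreducibleSpace X] [Nonempty Y] (U : X.Opens)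
    (hU : Dense (U : Set X)) (V : Y.Opens) (hV : Dense (V : Set Y))
    (e : (U : Scheme.{u}) ≅ (V : Scheme.{u})) [IsDominant (e.hom ≫ V.ι)] :
    ((⟨U, hU, e.hom ≫ V.ι⟩ : X.PartialMap Y).comp
      (⟨V, hV, e.inv ≫ U.ι⟩ : Y.PartialMap X)).equiv (Scheme.PartialMap.id X) := by
  have key : (e.hom ≫ V.ι) ∣_ V = ((e.hom ≫ V.ι) ⁻¹ᵁ V).ι ≫ e.hom :=
    (cancel_mono V.ι).1 (by rw [morphismRestrict_ι, Category.assoc])
  refine ⟨_, Scheme.PartialMap.dense_domain _, le_rfl, le_top, ?_⟩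
  have key' : (U.ι.isoImage ((e.hom ≫ V.ι) ⁻¹ᵁ V)).inv ≫
      (e.hom ≫ V.ι) ∣_ V ≫ e.inv ≫ U.ι = (U.ι ''ᵁ ((e.hom ≫ V.ι) ⁻¹ᵁ V)).ι := by
    rw [key, Category.assoc, e.hom_inv_id_assoc]
    exact Scheme.Hom.isoImage_inv_ι _ _
  dsimp only [Scheme.PartialMap.restrict, Scheme.PartialMap.comp, Scheme.PartialMap.id]
  rw [Scheme.homOfLE_rfl, Category.id_comp, key']
  exact (Scheme.homOfLE_ι _ _).symm

theorem comp_symm_eq_id {X Y : Scheme.{u}} [IrreducibleSpace X] [Nonempty Y] (p : X.PartialIso Y)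
    [IsDominant p.toPartialMap.hom] :
    p.toPartialMap.toRationalMap.comp p.symm.toPartialMap.toRationalMap = Scheme.RationalMap.id X := by
  rw [Scheme.RationalMap.toRationalMap_comp]
  refine Scheme.PartialMap.toRationalMap_eq_iff.2 ?_
  obtain ⟨U, hU, V, hV, e⟩ := p
  haveI : IsDominant (e.hom ≫ V.ι) := ‹_›
  exact comp_inv_equiv_id U hU V hV e

/-- What "composite is equivalent to the identity" gives. -/
theorem exists_local_inverse {X Y : Scheme.{u}} [PreirreducibleSpace X] [Nonempty Y]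
    (F : X.PartialMap Y) [IsDominant F.hom] (G : Y.PartialMap X)
    (h : (F.comp G).equiv (Scheme.PartialMap.id X)) :
    ∃ (W : X.Opens) (hW : W ≤ F.domain) (φ : (W : Scheme.{u}) ⟶ G.domain), Dense (W : Set X) ∧
      φ ≫ G.domain.ι = X.homOfLE hW ≫ F.hom ∧ φ ≫ G.hom = W.ι := by
  obtain ⟨W, hWd, hW₁, hW₂, e⟩ := h
  have hW₁' : W ≤ F.domain.ι ''ᵁ (F.hom ⁻¹ᵁ G.domain) := hW₁
  have hWA : W ≤ F.domain := hW₁'.trans (F.domain.ι_image_le _)
  have key : X.homOfLE hW₁' ≫ (F.domain.ι.isoImage (F.hom ⁻¹ᵁ G.domain)).inv ≫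
      (F.hom ⁻¹ᵁ G.domain).ι = X.homOfLE hWA := by
    rw [Scheme.Opens.isoImage_ι_inv_ι, Scheme.homOfLE_homOfLE]
  refine ⟨W, hWA, X.homOfLE hW₁' ≫ (F.domain.ι.isoImage (F.hom ⁻¹ᵁ G.domain)).inv ≫
    F.hom ∣_ G.domain, hWd, ?_, ?_⟩
  · rw [Category.assoc, Category.assoc, morphismRestrict_ι, reassoc_of% key]
  · dsimp only [Scheme.PartialMap.restrict, Scheme.PartialMap.comp, Scheme.PartialMap.id] at e
    rw [Category.assoc, Category.assoc]
    exact e.trans (Scheme.homOfLE_ι _ _)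

theorem exists_iso_opens {X Y : Scheme.{u}} [IsIntegral X] [IsIntegral Y]
    (F : X.PartialMap Y) [IsDominant F.hom] (G : Y.PartialMap X) [IsDominant G.hom]
    (h₁ : (F.comp G).equiv (Scheme.PartialMap.id X)) (h₂ : (G.comp F).equiv (Scheme.PartialMap.id Y)) :
    Scheme.Birational X Y := by
  obtain ⟨W, hW, φ, hWd, hφ₁, hφ₂⟩ := exists_local_inverse F G h₁
  obtain ⟨W', hW', ψ, hWd', hψ₁, hψ₂⟩ := exists_local_inverse G F h₂
  set α : (W : Scheme.{u}) ⟶ Y := φ ≫ G.domain.ι with hα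
  set β : (W' : Scheme.{u}) ⟶ X := ψ ≫ F.domain.ι with hβ
  have hl : (α ∣_ W') ≫ β = (α ⁻¹ᵁ W').ι ≫ W.ι := by
    have h : (α ∣_ W') ≫ Y.homOfLE hW' = (α ⁻¹ᵁ W').ι ≫ φ := by
      rw [← cancel_mono G.domain.ι]; simp [hα]
    rw [hψ₁, ← Category.assoc, h, Category.assoc, hφ₂]
  have hl' : (β ∣_ W) ≫ α = (β ⁻¹ᵁ W).ι ≫ W'.ι := by
    have h : (β ∣_ W) ≫ X.homOfLE hW = (β ⁻¹ᵁ W).ι ≫ ψ := by
      rw [← cancel_mono F.domain.ι]; simp [hβ]
    rw [hφ₁, ← Category.assoc, h, Category.assoc, hψ₂]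
  have hr : Set.range (α ∣_ W').base ⊆ Set.range (β ⁻¹ᵁ W).ι.base := by
    rintro _ ⟨v, rfl⟩
    rw [Scheme.Opens.range_ι]
    show β.base ((α ∣_ W').base v) ∈ W
    rw [show β.base ((α ∣_ W').base v) = ((α ⁻¹ᵁ W').ι ≫ W.ι).base v from
      congrArg (fun m : _ ⟶ X => m.base v) hl]
    exact ((α ⁻¹ᵁ W').ι.base v).2
  have hr' : Set.range (β ∣_ W).base ⊆ Set.range (α ⁻¹ᵁ W').ι.base := by
    rintro _ ⟨v, rfl⟩
    rw [Scheme.Opens.range_ι]
    show α.base ((β ∣_ W).base v) ∈ W'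
    rw [show α.base ((β ∣_ W).base v) = ((β ⁻¹ᵁ W).ι ≫ W'.ι).base v from
      congrArg (fun m : _ ⟶ Y => m.base v) hl']
    exact ((β ⁻¹ᵁ W).ι.base v).2
  let m := IsOpenImmersion.lift (β ⁻¹ᵁ W).ι (α ∣_ W') hr
  let n := IsOpenImmersion.lift (α ⁻¹ᵁ W').ι (β ∣_ W) hr'
  have hm : m ≫ (β ⁻¹ᵁ W).ι = α ∣_ W' := IsOpenImmersion.lift_fac _ _ _
  have hn : n ≫ (α ⁻¹ᵁ W').ι = β ∣_ W := IsOpenImmersion.lift_fac _ _ _
  let e : ((α ⁻¹ᵁ W' : (W : Scheme.{u}).Opens) : Scheme.{u}) ≅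
      ((β ⁻¹ᵁ W : (W' : Scheme.{u}).Opens) : Scheme.{u}) :=
    { hom := m, inv := n,
      hom_inv_id := by
        rw [← cancel_mono (α ⁻¹ᵁ W').ι, Category.assoc, hn, ← cancel_mono W.ι, Category.assoc,
          morphismRestrict_ι, reassoc_of% hm, Category.id_comp, hl]
      inv_hom_id := by
        rw [← cancel_mono (β ⁻¹ᵁ W).ι, Category.assoc, hm, ← cancel_mono W'.ι, Category.assoc,
          morphismRestrict_ι, reassoc_of% hn, Category.id_comp, hl'] }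
  have hne : Nonempty (α ⁻¹ᵁ W') := by
    obtain ⟨a, ha⟩ := F.hom.denseRange.exists_mem_open W'.isOpen hWd'.nonempty
    obtain ⟨x, ⟨b, hb, rfl⟩, hxW⟩ := nonempty_preirreducible_inter
      (F.domain.ι.isOpenEmbedding.isOpenMap _ (F.hom ⁻¹ᵁ W').isOpen) W.isOpen
      ⟨_, a, ha, rfl⟩ hWd.nonempty
    refine ⟨⟨⟨_, hxW⟩, ?_⟩⟩
    show α.base ⟨_, hxW⟩ ∈ W'
    rw [hφ₁]
    have hx : (X.homOfLE hW).base ⟨_, hxW⟩ = b := by
      apply F.domain.ι.isOpenEmbedding.injective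
      exact congrArg (fun m : (W : Scheme.{u}) ⟶ X => m.base ⟨_, hxW⟩) (Scheme.homOfLE_ι X hW)
    show F.hom.base ((X.homOfLE hW).base ⟨_, hxW⟩) ∈ W'
    rw [hx]
    exact hb
  have hne' : Nonempty (β ⁻¹ᵁ W) := hne.map m.base
  refine ⟨⟨W.ι ''ᵁ (α ⁻¹ᵁ W'), ?_, W'.ι ''ᵁ (β ⁻¹ᵁ W), ?_,
    (W.ι.isoImage _).symm ≪≫ e ≪≫ W'.ι.isoImage _⟩⟩
  · exact (W.ι ''ᵁ (α ⁻¹ᵁ W')).isOpen.dense ⟨_, hne.some.1, hne.some.2, rfl⟩
  · exact (W'.ι ''ᵁ (β ⁻¹ᵁ W)).isOpen.dense ⟨_, hne'.some.1, hne'.some.2, rfl⟩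

/-- Let X and Y be integral schemes. Then X and Y have isomorphic dense open subschemes if and only if
they are birational in the sense of rational maps, i.e. there exist dominant rational maps f : X ⤏ Y
and g : Y ⤏ X such that the composites g ∘ f and f ∘ g are the identity rational maps of X and of Y. -/
theorem result (X Y : Scheme.{u})
    [IsIntegral X] [IsIntegral Y] :
    Scheme.Birational X Y ↔
      ∃ (f : X ⤏ Y) (g : Y ⤏ X) (_ : f.IsDominant) (_ : g.IsDominant),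
        f.comp g = Scheme.RationalMap.id X ∧ g.comp f = Scheme.RationalMap.id Y := by
  constructor
  · rintro ⟨p⟩
    have hd : ∀ {A B : Scheme.{u}} (q : A.PartialIso B), IsDominant q.toPartialMap.hom := fun q => by
      haveI := Opens.isDominant_ι q.dense_target
      show IsDominant (q.iso.hom ≫ q.target.ι)
      infer_instance
    haveI := hd p
    haveI := hd p.symm
    exact ⟨p.toPartialMap.toRationalMap, p.symm.toPartialMap.toRationalMap, inferInstance,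
      inferInstance, comp_symm_eq_id p, comp_symm_eq_id p.symm⟩
  · rintro ⟨f, g, hf, hg, hfg, hgf⟩
    rw [← g.toRationalMap_representative, Scheme.RationalMap.comp_def] at hfg
    rw [← f.toRationalMap_representative, Scheme.RationalMap.comp_def] at hgf
    exact exists_iso_opens f.representative g.representative
      (Scheme.PartialMap.toRationalMap_eq_iff.1 hfg) (Scheme.PartialMap.toRationalMap_eq_iff.1 hgf)

end Groth.Agent.S14360
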