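import Groth.Statements.S14363
import Mathlib.RingTheory.Ideal.AssociatedPrime.Basic
import Mathlib.RingTheory.Support

set_option autoImplicit false
universe u
open CAlg

namespace Groth.Agent.S14363

/-- Let A be a Noetherian ring and 0 → M' → M → M'' → 0 a short exact sequence of A-modules. If a prime
p of A is an associated prime of M'' and is not in the support of M', then p is an associated prime
of M. -/
theorem result (A : Type u) [CommRing A] [IsNoetherianRing A]
    (M' M M'' : Type u) [AddCommGroup M'] [Module A M'] [AddCommGroup M] [Module A M]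
    [AddCommGroup M''] [Module A M'']
    (f : M' →ₗ[A] M) (g : M →ₗ[A] M'') (hf : Function.Injective f) (hg : Function.Surjective g)
    (hfg : Function.Exact f g)
    (p : PrimeSpectrum A) (hp : p.asIdeal ∈ associatedPrimes A M'') (hsupp : p ∉ Module.support A M') :
    p.asIdeal ∈ associatedPrimes A M := by
  classical
  obtain ⟨hprime, x'', hx''⟩ := isAssociatedPrime_iff.1 hp
  obtain ⟨x, rfl⟩ := hg x''
  have hx : ∀ a, a ∈ p.asIdeal ↔ a • g x = 0 := fun a => by
    rw [hx'', Submodule.mem_colon_singleton, Submodule.mem_bot]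
  rw [Module.notMem_support_iff'] at hsupp
  obtain ⟨G, hG⟩ := IsNoetherian.noetherian p.asIdeal
  have hkill : ∀ a : G, ∃ s ∉ p.asIdeal, s • ((a : A) • x) = 0 := fun a => by
    obtain ⟨z, hz⟩ := (hfg ((a : A) • x)).1 (by
      rw [map_smul]; exact (hx _).1 (hG ▸ Submodule.subset_span a.2))
    obtain ⟨s, hs, hsz⟩ := hsupp z
    exact ⟨s, hs, by rw [← hz, ← map_smul, hsz, map_zero]⟩
  choose s hs hsx using hkill
  have hsp : ∏ a, s a ∉ p.asIdeal := fun h => by
    obtain ⟨a, -, ha⟩ := hprime.prod_mem_iff.1 h
    exact hs a ha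
  refine isAssociatedPrime_iff.2 ⟨hprime, (∏ a, s a) • x, ?_⟩
  ext a
  rw [Submodule.mem_colon_singleton, Submodule.mem_bot]
  constructor
  · intro ha
    rw [← hG] at ha
    induction ha using Submodule.span_induction with
    | mem b hb =>
      rw [smul_comm, ← Finset.prod_erase_mul _ _ (Finset.mem_univ ⟨b, hb⟩), mul_smul, hsx ⟨b, hb⟩, smul_zero]
    | zero => rw [zero_smul]
    | add b c _ _ hb hc => rw [add_smul, hb, hc, add_zero]
    | smul r b _ hb => rw [smul_eq_mul, mul_smul, hb, smul_zero]
  · intro ha
    have : a * (∏ a, s a) ∈ p.asIdeal := (hx _).2 (by rw [← map_smul, mul_smul, ha, map_zero])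
    exact (hprime.mem_or_mem this).resolve_right hsp

end Groth.Agent.S14363
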