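import Groth.Statements.S14364
import Groth.Agent.CxSuppLib.Support
import Groth.Agent.KFlatLib.Scheme.Derived

set_option autoImplicit false
universe u
open CategoryTheory CategoryTheory.Limits AlgebraicGeometry
attribute [local instance] HasDerivedCategory.standard
open CxOX

namespace Groth.Agent.S14364

/-- Let f : X ⟶ Y be a finite-type morphism between Noetherian schemes, U ⊆ Y an open subscheme with
closed complement Z, and Z' = f⁻¹(Z), the closed complement of f⁻¹(U) in X. For every K in D(O_X)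
with quasi-coherent cohomology sheaves, the morphism Rf_*(RΓ_{Z'}(K) ⟶ K) factors through the
canonical morphism RΓ_Z(Rf_* K) ⟶ Rf_* K, and every morphism Rf_* RΓ_{Z'}(K) ⟶ RΓ_Z(Rf_* K) giving
such a factorisation is an isomorphism; this is the isomorphism Rf_* RΓ_{Z'} ≅ RΓ_Z Rf_*.
(Throughout, RΓ with support is the total right derived functor of the sheaf of sections supported
in the closed subset. The published statement derives instead the functor of sections killed by some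
power of a defining ideal; on complexes with quasi-coherent cohomology sheaves over a Noetherian
scheme the two derived functors agree.) -/
theorem result {X Y : Scheme.{u}} [IsNoetherian X] [IsNoetherian Y]
    (f : X ⟶ Y) [LocallyOfFiniteType f] (U : Y.Opens)
    [CxOX.HasRgammaZ U.ι] [CxOX.HasRgammaZ (f ⁻¹ᵁ U).ι] [DCoh.HasRpush f]
    (K : DCoh.D X) (hK : DCoh.IsQCohD K) :
    (∃ α : (DCoh.Rpush f).obj ((CxOX.RgammaZ (f ⁻¹ᵁ U).ι).obj K) ⟶ (CxOX.RgammaZ U.ι).obj ((DCoh.Rpush f).obj K),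
        α ≫ (CxOX.RgammaZToId U.ι).app ((DCoh.Rpush f).obj K) =
          (DCoh.Rpush f).map ((CxOX.RgammaZToId (f ⁻¹ᵁ U).ι).app K)) ∧
    ∀ α : (DCoh.Rpush f).obj ((CxOX.RgammaZ (f ⁻¹ᵁ U).ι).obj K) ⟶ (CxOX.RgammaZ U.ι).obj ((DCoh.Rpush f).obj K),
        α ≫ (CxOX.RgammaZToId U.ι).app ((DCoh.Rpush f).obj K) =
          (DCoh.Rpush f).map ((CxOX.RgammaZToId (f ⁻¹ᵁ U).ι).app K) → IsIso α := by
  haveI := Groth.Agent.KFlatLib.hasLpull f
  obtain ⟨A⟩ := Groth.Agent.KFlatLib.nonempty_lpull_rpush_adj f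
  let K' := (CxOX.RgammaZ (f ⁻¹ᵁ U).ι).obj K
  let a := (DCoh.Rpush f).map ((CxOX.RgammaZToId (f ⁻¹ᵁ U).ι).app K)
  have hsrc : IsZero ((DCoh.restrictD U.ι).obj ((DCoh.Rpush f).obj K')) :=
    Groth.Agent.CxSuppLib.isZero_restrictD_rpush f U _
      (Groth.Agent.CxSuppLib.isZero_restrictD_RgammaZ (f ⁻¹ᵁ U).ι K)
  refine ⟨(Groth.Agent.CxSuppLib.bijective_toId U.ι hsrc _).2 a, fun φ hφ => ?_⟩
  refine Groth.Agent.CxSuppLib.isIso_of_bijective U.ι a _ hsrc
    (Groth.Agent.CxSuppLib.isZero_restrictD_RgammaZ U.ι _) (fun C hC => ?_)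
    (fun C hC => Groth.Agent.CxSuppLib.bijective_toId U.ι hC _) φ hφ
  have hb := Groth.Agent.CxSuppLib.bijective_toId (f ⁻¹ᵁ U).ι
    (Groth.Agent.CxSuppLib.isZero_restrictD_lpull f U C hC) K
  have he : (fun g : C ⟶ (DCoh.Rpush f).obj K' => g ≫ a) =
      (A.homEquiv C K) ∘ (fun g => g ≫ (CxOX.RgammaZToId (f ⁻¹ᵁ U).ι).app K) ∘ (A.homEquiv C K').symm := by
    funext g
    simp only [Function.comp_apply]
    rw [A.homEquiv_naturality_right, Equiv.apply_symm_apply]
  rw [he]
  exact (A.homEquiv C K).bijective.comp (hb.comp (A.homEquiv C K').symm.bijective)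


end Groth.Agent.S14364
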