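import Groth.Statements.S14366
import Groth.Agent.CxSuppLib.Support
import Groth.Agent.KFlatLib.Scheme.ProjFormula

set_option autoImplicit false
universe u
open CategoryTheory CategoryTheory.Limits AlgebraicGeometry
attribute [local instance] HasDerivedCategory.standard
open CxOX

namespace Groth.Agent.S14366
open CategoryTheory.Pretriangulated


/-- Let j : X ⟶ X̄ be an open immersion of Noetherian schemes, U ⊆ X an open subscheme with closed
complement Z, U' ⊆ X̄ the open complement of the closure Z̄ of j(Z) in X̄, and T = U' ∪ j(X), the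
open complement of the closed subset Z̄ ∖ j(X). Let Rj_* exist and preserve complexes with
quasi-coherent cohomology, and let an adjunction j^* ⊣ Rj_* between D(O_X̄) and D(O_X) be given.
Then Rj_* and j^* are inverse equivalences between the objects of D_qc(O_X) whose cohomology sheaves
are supported on Z and the objects of D_qc(O_X̄) whose cohomology sheaves are supported on Z̄ and on
which RΓ_{Z̄ ∖ j(X)} vanishes: for F in the first class, Rj_* F has cohomology supported on Z̄ and
RΓ_{Z̄ ∖ j(X)}(Rj_* F) is zero; the counit j^* Rj_* F ⟶ F is an isomorphism for every F; and for G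
in the second class the unit G ⟶ Rj_* j^* G is an isomorphism and j^* G is in the first class.
(Throughout, RΓ with support is the total right derived functor of the sheaf of sections supported
in the closed subset. The published statement derives instead the functor of sections killed by some
power of a defining ideal; on complexes with quasi-coherent cohomology sheaves over a Noetherian
scheme the two derived functors agree.) -/
theorem result {X Xbar : Scheme.{u}} [IsNoetherian Xbar] [IsNoetherian X]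
    (j : X ⟶ Xbar) [IsOpenImmersion j] (U : X.Opens) (U' T : Xbar.Opens)
    (hU' : (U' : Set Xbar) = (closure (j.base '' ((U : Set X)ᶜ)))ᶜ)
    (hT : (T : Set Xbar) = (U' : Set Xbar) ∪ Set.range j.base)
    [DCoh.HasRpush j] [CxOX.HasRgammaZ T.ι] (hj : DCoh.RpushPreservesQCoh j)
    (adj : DCoh.restrictD j ⊣ DCoh.Rpush j) :
    (∀ F : DCoh.D X, DCoh.IsQCohD F → CxOX.IsSuppD U.ι F →
        CxOX.IsSuppD U'.ι ((DCoh.Rpush j).obj F) ∧ IsZero ((CxOX.RgammaZ T.ι).obj ((DCoh.Rpush j).obj F))) ∧
    (∀ F : DCoh.D X, IsIso (adj.counit.app F)) ∧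
    (∀ G : DCoh.D Xbar, DCoh.IsQCohD G → CxOX.IsSuppD U'.ι G → IsZero ((CxOX.RgammaZ T.ι).obj G) →
        IsIso (adj.unit.app G) ∧ DCoh.IsQCohD ((DCoh.restrictD j).obj G) ∧ CxOX.IsSuppD U.ι ((DCoh.restrictD j).obj G)) := by
  have hjU : ∀ x : X, j.base x ∈ U' → x ∈ U := fun x hx => by
    by_contra h
    have h1 : j.base x ∈ (U' : Set Xbar) := hx
    rw [hU'] at h1
    exact h1 (subset_closure ⟨x, h, rfl⟩)
  have hUj : ∀ x : X, x ∈ U → j.base x ∈ U' := fun x hx => by
    show j.base x ∈ (U' : Set Xbar)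
    rw [hU']
    intro hc
    have h1 : x ∈ closure ((U : Set X)ᶜ) := by
      rw [j.isOpenEmbedding.isInducing.closure_eq_preimage_closure_image]
      exact hc
    rw [U.isOpen.isClosed_compl.closure_eq] at h1
    exact h1 hx
  have hjT : Set.range j.base ⊆ Set.range T.ι.base := fun x hx => by
    rw [Scheme.Opens.range_ι, hT]
    exact Or.inr hx
  have hpush : ∀ F : DCoh.D X, IsZero ((DCoh.restrictD U.ι).obj F) →
      IsZero ((DCoh.restrictD U'.ι).obj ((DCoh.Rpush j).obj F)) := fun F hF =>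
    Groth.Agent.CxSuppLib.isZero_restrictD_rpush j U' F
      (Groth.Agent.CxSuppLib.isZero_restrictD_mono (j ⁻¹ᵁ U').ι U.ι (fun x hx => by
        rw [Scheme.Opens.range_ι] at hx ⊢
        exact hjU x hx) hF)
  refine ⟨fun F _ hF => ⟨(Groth.Agent.CxSuppLib.isSuppD_iff U'.ι _).2
      (hpush F ((Groth.Agent.CxSuppLib.isSuppD_iff U.ι F).1 hF)),
    Groth.Agent.CxSuppLib.isZero_RgammaZ_of_isOrth T.ι
      ((Groth.Agent.CxSuppLib.isOrth_rpush j F).mono j T.ι hjT)⟩,
    fun F => haveI := Groth.Agent.KFlatLib.isIso_restrictD_counit j adj; inferInstance, fun G hG hGs hG0 => ?_⟩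
  have hG' : IsZero ((DCoh.restrictD U'.ι).obj G) := (Groth.Agent.CxSuppLib.isSuppD_iff U'.ι G).1 hGs
  have hGU : IsZero ((DCoh.restrictD U.ι).obj ((DCoh.restrictD j).obj G)) :=
    Groth.Agent.CxSuppLib.isZero_restrictD_restrictD j U'.ι U.ι (by
      rintro _ ⟨u, hu, rfl⟩
      rw [Scheme.Opens.range_ι] at hu ⊢
      exact hUj u hu) hG'
  refine ⟨?_, Groth.Agent.KFlatLib.isQCohD_restrictD j hG, (Groth.Agent.CxSuppLib.isSuppD_iff U.ι _).2 hGU⟩
  obtain ⟨C, g, δ, hTr⟩ := distinguished_cocone_triangle (adj.unit.app G)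
  refine (Triangle.isZero₃_iff_isIso₁ _ hTr).1 ?_
  refine Groth.Agent.CxSuppLib.isZero_obj₃_of_isOrth T.ι _ hTr
    (Groth.Agent.CxSuppLib.isOrth_of_isZero_RgammaZ T.ι hG0)
    ((Groth.Agent.CxSuppLib.isOrth_rpush j _).mono j T.ι hjT) ?_
  have hCj : IsZero ((DCoh.restrictD j).obj C) :=
    (Groth.Agent.CxSuppLib.isZero_restrictD_cone_iff j _ hTr).2
      (Groth.Agent.CxSuppLib.isIso_restrictD_unit j adj G)
  have hCU' : IsZero ((DCoh.restrictD U'.ι).obj C) :=
    (Groth.Agent.CxSuppLib.isZero_restrictD_cone_iff U'.ι _ hTr).2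
      ⟨⟨0, hG'.eq_of_src _ _, (hpush _ hGU).eq_of_src _ _⟩⟩
  refine (Groth.Agent.CxSuppLib.isSuppD_iff T.ι C).1 fun n x hx hxT => ?_
  rw [Scheme.Opens.range_ι, hT] at hxT
  rcases hxT with hxU' | hxj
  · exact (Groth.Agent.CxSuppLib.isSuppD_iff U'.ι C).2 hCU' n hx (by rw [Scheme.Opens.range_ι]; exact hxU')
  · exact (Groth.Agent.CxSuppLib.isSuppD_iff j C).2 hCj n hx hxj


end Groth.Agent.S14366
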