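import Groth.Statements.S14370
import Groth.Agent.VarDim.IrredFibres

set_option autoImplicit false
universe u
open CategoryTheory CategoryTheory.Limits AlgebraicGeometry
open Variety

namespace Groth.Agent.S14370


open Groth.Agent.VarDim Order

/-- Let k be an algebraically closed field, X and Y schemes of finite type over k with Y irreducible,
and f : X → Y a k-morphism. Suppose that X is pure-dimensional (every irreducible component of X has
dimension dim X) and that for some natural number d the fibre of f over every closed point y of Y
(the subspace of points mapping to y) is irreducible of dimension d. Then X is irreducible and dim X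
= d + dim Y. (The published statement is for varieties, i.e. reduced separated schemes; this row
assumes neither.) -/
theorem result (k : Type u) [Field k] [IsAlgClosed k]
    {X Y : Scheme.{u}} (qX : X ⟶ Spec (CommRingCat.of k)) (qY : Y ⟶ Spec (CommRingCat.of k))
    [LocallyOfFiniteType qX] [QuasiCompact qX] [LocallyOfFiniteType qY] [QuasiCompact qY]
    (f : X ⟶ Y) (hf : f ≫ qY = qX) [IrreducibleSpace ↥Y]
    (hpure : ∀ Z ∈ irreducibleComponents (↥X), topologicalKrullDim ↥Z = topologicalKrullDim ↥X) (d : ℕ)
    (hirr : ∀ y : ↥Y, IsClosed ({y} : Set ↥Y) → IsIrreducible (f.base ⁻¹' {y}))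
    (hdim : ∀ y : ↥Y, IsClosed ({y} : Set ↥Y) → topologicalKrullDim ↥(f.base ⁻¹' {y}) = d) :
    IrreducibleSpace ↥X ∧ topologicalKrullDim ↥X = d + topologicalKrullDim ↥Y := by
  have : CompactSpace X := (quasiCompact_iff_compactSpace qX).1 inferInstance
  have := locallyOfFiniteType_of_over f qY hf
  obtain ⟨z₁, ⟨hz₁, hz₁η⟩, -⟩ := existsUnique_dominant f qY hf d hirr hdim
  have hdz : ∀ z, (∀ y, y ⤳ z → y = z) → ((deg qX z : ℕ∞) : WithBot ℕ∞) = topologicalKrullDim ↥X :=
    fun z hz => by
      rw [← topologicalKrullDim_closure_singleton qX]
      exact hpure _ (closure_mem_irreducibleComponents hz)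
  refine irreducible_and_dim f qY hf d hirr hdim fun z hz => ?_
  have h := (hdz z hz).trans (hdz z₁ hz₁).symm
  rw [(component_spec f qY hf d hirr hdim hz).2.1, (component_spec f qY hf d hirr hdim hz₁).2.1, hz₁η] at h
  have h' : deg qY (f z) + d = deg qY (genericPoint ↥Y) + d := by exact_mod_cast h
  exact (eq_of_specializes_of_deg_le qY (genericPoint_specializes (f z)) (by omega)).symm

end Groth.Agent.S14370
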