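import Groth.Statements.S14371
import Groth.Agent.RegLoc6.Seq
import Mathlib.RingTheory.Ideal.KrullsHeightTheorem
import Mathlib.RingTheory.Ideal.Quotient.Operations

set_option autoImplicit false
universe u
open CAlg

namespace Groth.Agent.S14371
open IsLocalRing

/-- Let R be a regular local ring of dimension n with maximal ideal m and residue field κ, and I, J
ideals of R such that R/I and R/J are regular local rings of dimensions a and b (two subvarieties
smooth at the point). Suppose the quotient R/(I + J) is local with cotangent space m/(m² + I + J) of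
dimension a + b − n over κ (the tangent spaces of the two subvarieties meet in the expected
dimension, i.e. they intersect transversally at the point). Then R/(I + J) is a regular local ring
of dimension a + b − n; in particular I + J is a prime ideal. (The published statement is about the
local rings of a smooth variety over an algebraically closed field at a point where two smooth
closed subvarieties meet transversally, and also states the resulting equalities of tangent spaces
and of ideals; this row is the local-ring form, for an arbitrary regular local ring.) -/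
theorem result {R : Type u} [CommRing R] [IsRegularLocalRing R]
    (I J : Ideal R) [IsRegularLocalRing (R ⧸ I)] [IsRegularLocalRing (R ⧸ J)] [IsLocalRing (R ⧸ (I ⊔ J))]
    (n a b : ℕ) (hn : ringKrullDim R = n) (ha : ringKrullDim (R ⧸ I) = a) (hb : ringKrullDim (R ⧸ J) = b)
    (ht : Module.finrank (IsLocalRing.ResidueField (R ⧸ (I ⊔ J))) (IsLocalRing.CotangentSpace (R ⧸ (I ⊔ J))) + n = a + b) :
    IsRegularLocalRing (R ⧸ (I ⊔ J)) ∧ ringKrullDim (R ⧸ (I ⊔ J)) = ((a + b - n : ℕ) : WithBot ℕ∞) := by
  classical
  obtain ⟨rs, hmem, hreg, hrs⟩ := Groth.Agent.RegLoc6.exists_list_of_quotient _ R I le_rfl inferInstance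
  have hdim := ringKrullDim_add_length_eq_ringKrullDim_of_isRegular rs
    (Groth.Agent.RegLoc6.isRegular_iff_weakly rs hmem hreg)
  rw [hrs, hn, ha] at hdim
  have hlen : a + rs.length = n := by exact_mod_cast hdim
  let g : R ⧸ (I ⊔ J) →+* R ⧸ (I ⊔ J) := RingHom.id _
  let I' : Ideal (R ⧸ J) := I.map (Ideal.Quotient.mk J)
  have hJne : J ≠ ⊤ := fun h => by
    have : Subsingleton (R ⧸ J) := Ideal.Quotient.subsingleton_iff.2 h
    exact not_nontrivial (R ⧸ J) inferInstance
  have hI'span : I' = Ideal.span ((rs.map (Ideal.Quotient.mk J)).toFinset : Set (R ⧸ J)) := by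
    rw [show I' = (Ideal.ofList rs).map (Ideal.Quotient.mk J) by rw [hrs], Ideal.map_ofList]
    exact congrArg Ideal.span (by ext z; simp)
  have hrank : I'.spanFinrank ≤ rs.length := by
    rw [hI'span]
    refine (Submodule.spanFinrank_span_le_ncard_of_finite (Finset.finite_toSet _)).trans ?_
    rw [Set.ncard_coe_finset]
    exact (List.toFinset_card_le _).trans (by simp)
  have hle : I' ≤ Ring.jacobson (R ⧸ J) := by
    rw [← Ideal.jacobson_bot, IsLocalRing.jacobson_eq_maximalIdeal ⊥ bot_ne_top]
    refine IsLocalRing.le_maximalIdeal fun h => ?_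
    have h2 := congrArg (Ideal.comap (Ideal.Quotient.mk J)) h
    rw [Ideal.comap_top, Ideal.comap_map_of_surjective _ Ideal.Quotient.mk_surjective, ← RingHom.ker_eq_comap_bot,
      Ideal.mk_ker] at h2
    haveI : Subsingleton (R ⧸ (I ⊔ J)) := Ideal.Quotient.subsingleton_iff.2 h2
    exact not_nontrivial (R ⧸ (I ⊔ J)) inferInstance
  have h1 := ringKrullDim_le_ringKrullDim_quotient_add_spanFinrank I' hle
  have he : ringKrullDim ((R ⧸ J) ⧸ I') = ringKrullDim (R ⧸ (I ⊔ J)) :=
    ringKrullDim_eq_of_ringEquiv ((DoubleQuot.quotQuotEquivQuotSup J I).trans (Ideal.quotEquivOfEq (sup_comm J I)))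
  rw [hb, he] at h1
  have h2 := ringKrullDim_le_spanFinrank_maximalIdeal (R ⧸ (I ⊔ J))
  rw [spanFinrank_maximalIdeal_eq_finrank_cotangentSpace] at h2
  obtain ⟨D, hD⟩ : ∃ D : ℕ, ringKrullDim (R ⧸ (I ⊔ J)) = D := by
    have h0 := ringKrullDim_nonneg_of_nontrivial (R := R ⧸ (I ⊔ J))
    match h : ringKrullDim (R ⧸ (I ⊔ J)) with
    | ⊥ =>
      rw [h] at h0
      exact absurd h0 (not_le.2 (WithBot.bot_lt_coe _))
    | (⊤ : ℕ∞) =>
      rw [h] at h2
      exact absurd (WithBot.coe_le_coe.1 h2) (not_le.2 (ENat.natCast_lt_top _))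
    | ((D : ℕ) : ℕ∞) => exact ⟨D, rfl⟩
  rw [hD] at h1 h2 ⊢
  have h1' : b ≤ D + I'.spanFinrank := by exact_mod_cast h1
  have h2' : D ≤ Module.finrank (ResidueField (R ⧸ (I ⊔ J))) (CotangentSpace (R ⧸ (I ⊔ J))) := by exact_mod_cast h2
  refine ⟨?_, by exact_mod_cast (by omega : D = a + b - n)⟩
  rw [IsRegularLocalRing.iff_finrank_cotangentSpace, hD]
  exact_mod_cast (by omega : Module.finrank (ResidueField (R ⧸ (I ⊔ J))) (CotangentSpace (R ⧸ (I ⊔ J))) = D)

end Groth.Agent.S14371
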