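import Groth.Statements.S14372
import Groth.Agent.VarDim.Proj
import Mathlib.RingTheory.Nullstellensatz
import Mathlib.Algebra.MvPolynomial.Funext
import Mathlib.Algebra.MvPolynomial.PDeriv
import Mathlib.RingTheory.MvPolynomial.EulerIdentity

set_option autoImplicit false
set_option backward.isDefEq.respectTransparency false
set_option backward.isDefEq.respectTransparency.types false
set_option linter.style.haveILetI false
set_option linter.unusedSectionVars false
set_option maxHeartbeats 400000
universe u
open Fano

namespace Groth.Agent.S14372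


open MvPolynomial Groth.Agent.VarDim.ProjN in
theorem chain_rule {R : Type*} [CommRing R] {σ τ : Type*} [Fintype σ] (l : σ → MvPolynomial τ R) (j : τ)
    (f : MvPolynomial σ R) : pderiv j (aeval l f) = ∑ i, pderiv j (l i) * aeval l (pderiv i f) := by
  classical
  induction f using MvPolynomial.induction_on with
  | C a => simp
  | add p q hp hq => simp only [map_add, hp, hq, mul_add, Finset.sum_add_distrib]
  | mul_X p a h =>
    simp only [map_mul, aeval_X, Derivation.leibniz, pderiv_X, smul_eq_mul, h, map_add, Pi.single_apply,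
      mul_add, Finset.sum_add_distrib, mul_ite, mul_one, mul_zero, apply_ite (aeval l), map_zero,
      Finset.sum_ite_eq', Finset.sum_ite_eq, Finset.mem_univ, if_true, Finset.mul_sum]
    congr 1
    · ring
    · exact Finset.sum_congr rfl fun i _ => by ring

open MvPolynomial Groth.Agent.VarDim.ProjN in
theorem finrank_add_le (k : Type u) [Field k] [IsAlgClosed k]
    (n d r : ℕ) (hd : 2 ≤ d) (f : MvPolynomial (Fin (n + 1)) k) (hf : f.IsHomogeneous d)
    (v : Fin (r + 1) → (Fin (n + 1) → k)) (hv : LinearIndependent k v)
    (hU : ∀ c : Fin (r + 1) → k, eval (∑ j, c j • v j) f = 0)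
    (hsm : ∀ c : Fin (r + 1) → k, c ≠ 0 → ∃ i : Fin (n + 1), eval (∑ j, c j • v j) (pderiv i f) ≠ 0) :
    2 * (r + 1) ≤ n + 1 := by
  classical
  let l : Fin (n + 1) → MvPolynomial (Fin (r + 1)) k := fun i => ∑ j, C (v j i) * X j
  have hlc : ∀ (c : Fin (r + 1) → k), (fun i => eval c (l i)) = ∑ j, c j • v j := fun c => funext fun i => by
    simp [l, Finset.sum_apply, mul_comm]
  have hev : ∀ (p : MvPolynomial (Fin (n + 1)) k) (c : Fin (r + 1) → k),
      eval c (aeval l p) = eval (∑ j, c j • v j) p := fun p c => by
    show eval₂Hom (RingHom.id k) c (bind₁ l p) = _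
    rw [eval₂Hom_bind₁, ← hlc]
    rfl
  let g : Fin (n + 1) → MvPolynomial (Fin (r + 1)) k := fun i => aeval l (pderiv i f)
  let L : (Fin (n + 1) → k) →ₗ[k] MvPolynomial (Fin (r + 1)) k := Fintype.linearCombination k g
  have hΦ : aeval l f = 0 := MvPolynomial.funext fun c => by rw [hev, hU, map_zero]
  have hker : ∀ j, L (v j) = 0 := fun j => by
    have h := congrArg (pderiv j) hΦ
    rw [chain_rule, map_zero] at h
    rw [← h, Fintype.linearCombination_apply]
    refine Finset.sum_congr rfl fun i _ => ?_
    have : pderiv j (l i) = C (v j i) := by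
      simp [l, Derivation.leibniz, pderiv_X, Pi.single_apply]
    rw [this, smul_eq_C_mul]
  have hle : Submodule.span k (Set.range v) ≤ LinearMap.ker L :=
    Submodule.span_le.2 (by rintro _ ⟨j, rfl⟩; exact hker j)
  have h1 := LinearMap.finrank_range_add_finrank_ker L
  have h2 := Submodule.finrank_mono hle
  rw [finrank_span_eq_card hv, Fintype.card_fin] at h2
  rw [Module.finrank_fin_fun] at h1
  obtain ⟨b⟩ : Nonempty (Module.Basis (Fin (Module.finrank k (LinearMap.range L))) k (LinearMap.range L)) :=
    ⟨Module.finBasis k _⟩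
  let h : Fin (Module.finrank k (LinearMap.range L)) → MvPolynomial (Fin (r + 1)) k := fun s => (b s).1
  let J := Ideal.span (Set.range h)
  have hgJ : ∀ i, g i ∈ J := fun i => by
    have hm : g i ∈ LinearMap.range L := ⟨Pi.single i 1, by
      rw [Fintype.linearCombination_apply_single, one_smul]⟩
    have := b.sum_repr ⟨g i, hm⟩
    rw [← show ((⟨g i, hm⟩ : LinearMap.range L) : MvPolynomial (Fin (r + 1)) k) = g i from rfl, ← this,
      Submodule.coe_sum]
    refine Ideal.sum_mem _ fun s _ => ?_
    rw [Submodule.coe_smul, smul_eq_C_mul]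
    exact J.mul_mem_left _ (Ideal.subset_span ⟨s, rfl⟩)
  have hzero : MvPolynomial.zeroLocus k J = {0} := by
    apply Set.eq_singleton_iff_unique_mem.2
    constructor
    · rw [zeroLocus_span]
      rintro _ ⟨s, rfl⟩
      obtain ⟨w, hw⟩ := (b s).2
      show aeval (0 : Fin (r + 1) → k) (b s).1 = 0
      rw [← hw, Fintype.linearCombination_apply, map_sum]
      refine Finset.sum_eq_zero fun i _ => ?_
      rw [map_smul]
      show w i • (eval (0 : Fin (r + 1) → k) (g i)) = 0
      have h00 : eval (0 : Fin (n + 1) → k) (pderiv i f) = 0 := by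
        rw [MvPolynomial.eval_zero, constantCoeff_eq]
        exact (MvPolynomial.IsHomogeneous.pderiv hf).coeff_eq_zero (by simp; omega)
      rw [hev]
      simp [MvPolynomial.eval_zero] at h00 ⊢; simp [h00]
    · intro c hc
      by_contra hc0
      obtain ⟨i, hi⟩ := hsm c hc0
      exact hi ((hev _ c).symm.trans (hc _ (hgJ i)))
  have hrad : J.radical = vertex k r := by
    rw [← vanishingIdeal_zeroLocus_eq_radical (K := k), hzero]
    ext p
    rw [mem_vanishingIdeal_singleton_iff]
    show _ ↔ constantCoeff p = 0
    rw [MvPolynomial.aeval_zero]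
    simp
  have hmin : vertex k r ∈ J.minimalPrimes := by
    rw [← Ideal.radical_minimalPrimes, hrad, Ideal.minimalPrimes_eq_subsingleton_self]
    exact rfl
  have h3 : (vertex k r).height ≤ Module.finrank k (LinearMap.range L) := by
    refine (Ideal.height_le_card_of_mem_minimalPrimes_span_finset (s := Finset.univ.image h)
      (by rw [Finset.coe_image, Finset.coe_univ, Set.image_univ]; exact hmin)).trans ?_
    exact_mod_cast Finset.card_image_le.trans (by simp)
  have h4 := height_add_coheight_pp (vertexPoint k r)
  rw [coheight_vertexPoint, add_zero, ← PrimeSpectrum.height_eq_orderHeight,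
    show (vertexPoint k r).asIdeal = vertex k r from rfl] at h4
  rw [h4] at h3
  have h5 : r + 1 ≤ Module.finrank k (LinearMap.range L) := by exact_mod_cast h3
  omega

/-- Over an algebraically closed field k of arbitrary characteristic, let f be a homogeneous form of
degree d ≥ 2 in n + 1 variables and U a linear subspace of k^(n+1) on which f vanishes, such that at
every nonzero vector of U some partial derivative of f does not vanish (the hypersurface f = 0 in
P^n contains the r-plane P(U), r + 1 = dim U, and is smooth at every point of it). Then 2 · dim U ≤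
n + 1, i.e. r ≤ (n − 1)/2. (The published statement assumes the hypersurface smooth everywhere; this
row assumes smoothness only along P(U).) -/
theorem result (k : Type u) [Field k] [IsAlgClosed k]
    (n d : ℕ) (hd : 2 ≤ d) (f : MvPolynomial (Fin (n + 1)) k) (hf : f.IsHomogeneous d)
    (U : Submodule k (Fin (n + 1) → k)) (hU : ∀ u ∈ U, MvPolynomial.eval u f = 0)
    (hsm : ∀ u ∈ U, u ≠ 0 → ∃ i : Fin (n + 1), MvPolynomial.eval u (MvPolynomial.pderiv i f) ≠ 0) :
    2 * Module.finrank k ↥U ≤ n + 1 := by
  obtain ⟨b⟩ : Nonempty (Module.Basis (Fin (Module.finrank k U)) k U) := ⟨Module.finBasis k _⟩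
  rcases Nat.eq_zero_or_pos (Module.finrank k U) with h0 | h0
  · omega
  obtain ⟨r, hr⟩ := Nat.exists_eq_succ_of_ne_zero h0.ne'
  let b' := b.reindex (finCongr hr)
  have hsum : ∀ c : Fin (r + 1) → k, (∑ j, c j • ((b' j : U) : Fin (n + 1) → k)) = ((b'.equivFun.symm c : U) : Fin (n + 1) → k) :=
    fun c => by rw [Module.Basis.equivFun_symm_apply, Submodule.coe_sum]; rfl
  have := finrank_add_le k n d r hd f hf (fun j => ((b' j : U) : Fin (n + 1) → k))
    (b'.linearIndependent.map' U.subtype (Submodule.ker_subtype U))
    (fun c => by rw [hsum]; exact hU _ (Subtype.mem _))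
    (fun c hc => by
      rw [hsum]
      refine hsm _ (Subtype.mem _) fun h => hc ?_
      exact b'.equivFun.symm.injective (by rw [map_zero]; exact Subtype.ext h))
  omega

end Groth.Agent.S14372
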