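import Groth.Agent.SingForms.Generic
import Groth.Statements.S14373
-- import your own Groth.Agent.* helpers here

set_option autoImplicit false
universe u
open Fano

namespace Groth.Agent.S14373

/-- Over an algebraically closed field k of arbitrary characteristic, let d ≥ 2 and let U be a linear
subspace of k^(n+1) with 2 · dim U ≤ n + 1 (an r-plane P(U) in P^n with r ≤ (n − 1)/2). Let W be the
linear space of degree-d forms in n + 1 variables vanishing on U (hypersurfaces of degree d
containing P(U)). Then a general member G of W defines a smooth hypersurface: for G outside the zero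
set of some nonzero polynomial function on W, at every nonzero vector where G vanishes some partial
derivative of G is nonzero. -/
theorem result (k : Type u) [Field k] [IsAlgClosed k]
    (n d : ℕ) (hd : 2 ≤ d) (U : Submodule k (Fin (n + 1) → k)) (hU : 2 * Module.finrank k ↥U ≤ n + 1)
    (W : Submodule k (LefPen.Form n k d)) (hW : ∀ G : LefPen.Form n k d, G ∈ W ↔ ∀ u ∈ U, MvPolynomial.eval u G.1 = 0) :
    LefPen.IsGeneric k {G : ↥W | ∀ v : Fin (n + 1) → k, v ≠ 0 → MvPolynomial.eval v G.1.1 = 0 →
      ∃ i : Fin (n + 1), MvPolynomial.eval v (MvPolynomial.pderiv i G.1.1) ≠ 0} := by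
  exact SingForms.generic_smooth k hd U hU W hW

end Groth.Agent.S14373
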