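import Groth.Agent.SingForms.Discriminant
import Groth.Statements.S14374
-- import your own Groth.Agent.* helpers here

set_option autoImplicit false
universe u
open Fano

namespace Groth.Agent.S14374

open MvPolynomial in
theorem result_aux (k : Type u) [Field k] [IsAlgClosed k]
    (n d : ℕ) (hn : 1 ≤ n) (hd : 2 ≤ d) :
    ∃ Δ : ↥(Algebra.adjoin k (Set.range (fun l : Module.Dual k (LefPen.Form n k d) => (l : LefPen.Form n k d → k)))),
      Irreducible Δ ∧ ∀ G : LefPen.Form n k d, SingForms.IsSing G.1 ↔ Δ.1 G = 0 := by
  classical
  obtain ⟨Δ, hirr, hΔ⟩ := SingForms.exists_discriminant (k := k) (d := d) hn hd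
  let V := LefPen.Form n k d
  let L : PlaneParam.Exps n d → Module.Dual k V := fun e => (lcoeff k e.1).comp (Submodule.subtype _)
  let A := Algebra.adjoin k (Set.range (fun l : Module.Dual k V => (l : V → k)))
  let ψ : MvPolynomial (PlaneParam.Exps n d) k →ₐ[k] A :=
    aeval fun e => (⟨⇑(L e), Algebra.subset_adjoin ⟨L e, rfl⟩⟩ : A)
  have hψ : ∀ P G, (ψ P).1 G = eval (PlaneParam.coords k G) P := fun P G => by
    induction P using MvPolynomial.induction_on with
    | C a => rw [show ψ (C a) = algebraMap k A a from aeval_C _ _, eval_C]; rfl
    | add p q hp hq => simp [map_add, hp, hq]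
    | mul_X p e hp =>
      simp only [map_mul, eval_X, Subalgebra.coe_mul, Pi.mul_apply, hp]
      rw [show ψ (X e) = _ from aeval_X _ _]
      rfl
  have hbij : Function.Bijective ψ := by
    refine ⟨fun p q h => MvPolynomial.funext fun c => ?_, fun ⟨f, hf⟩ => ?_⟩
    · obtain ⟨G, rfl⟩ := PlaneParam.exists_form k c
      rw [← hψ, ← hψ, h]
    · have : f ∈ (A.val.comp ψ).range := by
        refine Algebra.adjoin_le ?_ hf
        rintro _ ⟨l, rfl⟩
        choose G hG using fun e : PlaneParam.Exps n d => PlaneParam.exists_form k (Pi.single e (1 : k))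
        refine ⟨∑ e, C (l (G e)) * X e, funext fun x => ?_⟩
        show (ψ (∑ e, C (l (G e)) * X e)).1 x = l x
        rw [hψ]
        have hx : x = ∑ e, PlaneParam.coords k x e • G e := by
          refine Subtype.ext ?_
          rw [PlaneParam.eq_sum_exps x.2, Submodule.coe_sum]
          refine Finset.sum_congr rfl fun e _ => ?_
          rw [Submodule.coe_smul, PlaneParam.eq_sum_exps (G e).2]
          have hGe : ∀ e', coeff e'.1 (G e).1 = (Pi.single e (1 : k) : PlaneParam.Exps n d → k) e' := fun e' => congrFun (hG e) e'
          simp only [hGe, Pi.single_apply, Finset.smul_sum, smul_monomial, smul_eq_mul]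
          rw [Finset.sum_eq_single e (fun b _ hb => by simp [hb]) (by simp)]
          simp [PlaneParam.coords]
        conv_rhs => rw [hx, map_sum]
        simp [mul_comm]
      obtain ⟨p, hp⟩ := this
      exact ⟨p, Subtype.ext hp⟩
  refine ⟨ψ Δ, ?_, fun G => ?_⟩
  · exact (MulEquiv.irreducible_iff (AlgEquiv.ofBijective ψ hbij).toRingEquiv.toMulEquiv).2 hirr
  · rw [hψ]; exact hΔ G.1 G.2

/-- Over an algebraically closed field k of arbitrary characteristic, let n ≥ 1 and d ≥ 2, and call a
degree-d form G in n + 1 variables singular when there is a nonzero vector v with G(v) = 0 and all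
partial derivatives ∂G/∂x_i(v) = 0 (the hypersurface G = 0 in P^n has a singular point, or G = 0).
Then the singular forms are exactly the zero set of one irreducible polynomial function Δ on the
vector space of degree-d forms: the locus of singular hypersurfaces is an irreducible hypersurface
in the parameter space. (The published statement concerns the reduced hypersurfaces in the
projective space of degree-d forms, where the singular ones form an irreducible closed subset of
codimension one, and allows every positive degree; for d = 1 no hyperplane is singular, so this row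
assumes d ≥ 2, and it is stated on the affine space of all forms.) -/
theorem result (k : Type u) [Field k] [IsAlgClosed k]
    (n d : ℕ) (hn : 1 ≤ n) (hd : 2 ≤ d) :
    ∃ Δ : ↥(Algebra.adjoin k (Set.range (fun l : Module.Dual k (LefPen.Form n k d) => (l : LefPen.Form n k d → k)))),
      Irreducible Δ ∧ ∀ G : LefPen.Form n k d,
        (∃ v : Fin (n + 1) → k, v ≠ 0 ∧ MvPolynomial.eval v G.1 = 0 ∧
          ∀ i : Fin (n + 1), MvPolynomial.eval v (MvPolynomial.pderiv i G.1) = 0) ↔ Δ.1 G = 0 := by
  exact result_aux k n d hn hd

end Groth.Agent.S14374
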