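import Groth.Statements.S14375
import Groth.Agent.VarDim.IrredFibres
import Groth.Agent.MorLib.BddFib
import Mathlib.AlgebraicGeometry.AlgClosed.Basic
import Mathlib.AlgebraicGeometry.PullbackCarrier

set_option autoImplicit false
universe u
open CategoryTheory CategoryTheory.Limits AlgebraicGeometry
open Variety

namespace Groth.Agent.S14375


open Groth.Agent.VarDim Order

/-- The fibre of a trivial family over a rational point. -/
theorem irreducible_fst {k : Type u} [Field k] [IsAlgClosed k] {V F : Scheme.{u}}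
    (qV : V ⟶ Spec (CommRingCat.of k)) (qF : F ⟶ Spec (CommRingCat.of k))
    [LocallyOfFiniteType qV] [IrreducibleSpace ↥F] {v : V} (hv : IsClosed ({v} : Set V)) :
    IsIrreducible (pullback.fst qV qF ⁻¹' {v}) := by
  set s := pointOfClosedPoint qV v hv
  have hsq : s ≫ qV = 𝟙 _ := pointOfClosedPoint_comp qV v hv
  have hrs : Set.range s = {v} := by
    ext a
    refine ⟨?_, ?_⟩
    · rintro ⟨b, rfl⟩
      exact pointOfClosedPoint_apply qV v hv b
    · rintro (rfl : a = v)
      exact ⟨IsLocalRing.closedPoint k, pointOfClosedPoint_apply qV a hv _⟩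
  have hi : IsIso (pullback.snd (s ≫ qV) qF) := by rw [hsq]; infer_instance
  let φ : pullback (s ≫ qV) qF ⟶ pullback s (pullback.fst qV qF) :=
    (pullbackRightPullbackFstIso qV qF s).inv
  let j := φ ≫ pullback.snd s (pullback.fst qV qF)
  have hrange : Set.range j = pullback.fst qV qF ⁻¹' {v} := by
    rw [← hrs, ← Scheme.Pullback.range_snd]
    ext a
    constructor
    · rintro ⟨b, rfl⟩; exact ⟨φ b, rfl⟩
    · rintro ⟨b, rfl⟩
      obtain ⟨c, rfl⟩ := (Scheme.homeoOfIso (pullbackRightPullbackFstIso qV qF s).symm).surjective b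
      exact ⟨c, rfl⟩
  have : IrreducibleSpace ↥(pullback (s ≫ qV) qF) := by
    have e := Scheme.homeoOfIso (asIso (pullback.snd (s ≫ qV) qF)).symm
    exact (irreducibleSpace_def _).2 (show IsIrreducible (Set.univ : Set ↥(pullback (s ≫ qV) qF)) by
      rw [← e.surjective.range_eq, ← Set.image_univ]
      exact (IrreducibleSpace.isIrreducible_univ _).image _ e.continuous.continuousOn)
  rw [← hrange, ← Set.image_univ]
  exact (IrreducibleSpace.isIrreducible_univ _).image _ j.continuous.continuousOn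

/-- Let k be an algebraically closed field, F an irreducible scheme of finite type over k, and f : X → Y
a k-morphism of schemes of finite type over k with Y irreducible which is locally trivial with fibre
F: every point of Y has an open neighbourhood V such that f⁻¹(V) is isomorphic over V to V ×_k F.
Then X is irreducible. (The published statement is for varieties, i.e. reduced separated schemes;
this row assumes neither.) -/
theorem result (k : Type u) [Field k] [IsAlgClosed k]
    {X Y F : Scheme.{u}} (qX : X ⟶ Spec (CommRingCat.of k)) (qY : Y ⟶ Spec (CommRingCat.of k))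
    (qF : F ⟶ Spec (CommRingCat.of k))
    [LocallyOfFiniteType qX] [QuasiCompact qX] [LocallyOfFiniteType qY] [QuasiCompact qY]
    [LocallyOfFiniteType qF] [QuasiCompact qF] [IrreducibleSpace ↥F] [IrreducibleSpace ↥Y]
    (f : X ⟶ Y) (hf : f ≫ qY = qX)
    (htriv : ∀ y : ↥Y, ∃ V : Y.Opens, y ∈ V ∧
      ∃ e : (↑(f ⁻¹ᵁ V) : Scheme.{u}) ≅ pullback (V.ι ≫ qY) qF, e.hom ≫ pullback.fst (V.ι ≫ qY) qF = f ∣_ V) :
    IrreducibleSpace ↥X := by
  have : CompactSpace X := (quasiCompact_iff_compactSpace qX).1 inferInstance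
  have hflat : Flat qF := Groth.Agent.MorLib.BF.flat_to_field (Field.toIsField k) qF
  have hirr : ∀ y : ↥Y, IsClosed ({y} : Set ↥Y) → IsIrreducible (f ⁻¹' {y}) := by
    intro y hy
    obtain ⟨V, hyV, e, he⟩ := htriv y
    let v : V.toScheme := ⟨y, hyV⟩
    have hv : IsClosed ({v} : Set V.toScheme) := by
      convert! hy.preimage V.ι.continuous
      ext a
      exact ⟨fun h => by rw [show a = v from h]; rfl, fun h => Subtype.ext h⟩
    have h := irreducible_fst (V.ι ≫ qY) qF hv
    let j : pullback (V.ι ≫ qY) qF ⟶ X := e.inv ≫ (f ⁻¹ᵁ V).ι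
    have himg : j '' (pullback.fst (V.ι ≫ qY) qF ⁻¹' {v}) = f ⁻¹' {y} := by
      ext x
      constructor
      · rintro ⟨a, ha, rfl⟩
        show f (j a) = y
        have hcomp : j ≫ f = pullback.fst (V.ι ≫ qY) qF ≫ V.ι := by
          rw [show j ≫ f = e.inv ≫ (f ⁻¹ᵁ V).ι ≫ f from Category.assoc _ _ _, ← morphismRestrict_ι,
            ← he, Category.assoc, e.inv_hom_id_assoc]
        have h2 : f (j a) = V.ι (pullback.fst (V.ι ≫ qY) qF a) := by
          rw [← Scheme.Hom.comp_apply, hcomp, Scheme.Hom.comp_apply]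
        rw [h2, show pullback.fst (V.ι ≫ qY) qF a = v from ha]
        rfl
      · intro (hx : f x = y)
        have hxV : x ∈ f ⁻¹ᵁ V := show f x ∈ V from hx ▸ hyV
        let w : (f ⁻¹ᵁ V).toScheme := ⟨x, hxV⟩
        refine ⟨e.hom w, ?_, ?_⟩
        · show pullback.fst (V.ι ≫ qY) qF (e.hom w) = v
          rw [← Scheme.Hom.comp_apply, he]
          refine Subtype.ext ?_
          show (f ∣_ V ≫ V.ι) w = y
          rw [morphismRestrict_ι]
          exact hx
        · show (e.inv ≫ (f ⁻¹ᵁ V).ι) (e.hom w) = x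
          rw [← Scheme.Hom.comp_apply, e.hom_inv_id_assoc]
          rfl
    rw [← himg]
    exact h.image _ j.continuous.continuousOn
  have hdom : ∀ z : X, (∀ y, y ⤳ z → y = z) → f z = genericPoint ↥Y := by
    intro z hz
    obtain ⟨V, hzV, e, he⟩ := htriv (f z)
    have hηV : genericPoint ↥Y ∈ V := (genericPoint_specializes (f z)).mem_open V.2 hzV
    have hgm : GeneralizingMap (pullback.fst (V.ι ≫ qY) qF) :=
      Flat.generalizingMap _
    let w : (f ⁻¹ᵁ V).toScheme := ⟨z, hzV⟩
    have hsp : (⟨genericPoint ↥Y, hηV⟩ : V.toScheme) ⤳ pullback.fst (V.ι ≫ qY) qF (e.hom w) := by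
      rw [← Scheme.Hom.comp_apply, he]
      refine (subtype_specializes_iff (p := (· ∈ V)) _ _).2 ?_
      show genericPoint ↥Y ⤳ (f ∣_ V ≫ V.ι) w
      rw [morphismRestrict_ι]
      exact genericPoint_specializes (f z)
    obtain ⟨a, ha, hfa⟩ := hgm hsp
    have hx : (e.inv ≫ (f ⁻¹ᵁ V).ι) a ⤳ z := by
      have h := ha.map (e.inv ≫ (f ⁻¹ᵁ V).ι).continuous
      rwa [← Scheme.Hom.comp_apply, e.hom_inv_id_assoc] at h
    have h2 : f ((e.inv ≫ (f ⁻¹ᵁ V).ι) a) = V.ι (pullback.fst (V.ι ≫ qY) qF a) := by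
      rw [← Scheme.Hom.comp_apply, Category.assoc, ← morphismRestrict_ι, ← he, Category.assoc,
        e.inv_hom_id_assoc, Scheme.Hom.comp_apply]
    rw [hz _ hx, hfa] at h2
    exact h2
  obtain ⟨c, -, -, hc⟩ := exists_closed_mem qY (U := ⊤) (z := genericPoint ↥Y) trivial
  obtain ⟨x₀, -⟩ := (hirr c hc).nonempty
  obtain ⟨z, -, hz⟩ := exists_maximal_generalization qX x₀
  have hsp : ∀ x, z ⤳ x := fun x => by
    obtain ⟨w, hwx, hw⟩ := exists_maximal_generalization qX x
    rwa [maximal_eq_of_dominant f qY hf ⊤ trivial (fun y _ hy => hirr y hy) hz (hdom z hz) hw (hdom w hw)] at hwx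
  have hcl : closure {z} = (Set.univ : Set X) :=
    Set.eq_univ_of_forall fun x => specializes_iff_mem_closure.1 (hsp x)
  exact (irreducibleSpace_def _).2
    (show IsIrreducible (Set.univ : Set X) from hcl ▸ isIrreducible_singleton.closure)

end Groth.Agent.S14375
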