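import Groth.Statements.S14376
import Mathlib.GroupTheory.CosetCover

set_option linter.style.haveILetI false
-- import your own Groth.Agent.* helpers here

set_option autoImplicit false
universe u
open Fano

namespace Groth.Agent.S14376

open MvPolynomial

variable {k : Type u} [Field k] {n : ℕ}

/-- Differentiation lowers the total degree. -/
theorem totalDegree_pderiv_add_one_le (i : Fin (n + 1)) {G : MvPolynomial (Fin (n + 1)) k} (h : pderiv i G ≠ 0) :
    (pderiv i G).totalDegree + 1 ≤ G.totalDegree := by
  obtain ⟨m, hm, hmax⟩ := Finset.exists_mem_eq_sup (pderiv i G).support (support_nonempty.2 h)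
    fun m => m.sum fun _ a => a
  rw [mem_support_iff, coeff_pderiv] at hm
  have h1 := le_totalDegree (mem_support_iff.2 (left_ne_zero_of_mul hm))
  rw [Finsupp.sum_add_index' (fun _ => rfl) (fun _ _ _ => rfl), Finsupp.sum_single_index rfl] at h1
  rw [totalDegree, hmax]
  exact h1

theorem totalDegree_pderiv_le' (i : Fin (n + 1)) (G : MvPolynomial (Fin (n + 1)) k) :
    (pderiv i G).totalDegree ≤ G.totalDegree := by
  rcases eq_or_ne (pderiv i G) 0 with h | h
  · simp [h]
  · exact le_of_lt (totalDegree_pderiv_add_one_le i h)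

/-- An irreducible polynomial over a perfect field has a nonzero partial derivative. -/
theorem exists_pderiv_ne_zero [PerfectField k] {G : MvPolynomial (Fin (n + 1)) k} (hG : Irreducible G) :
    ∃ i, pderiv i G ≠ 0 := by
  by_contra h
  push Not at h
  have hexp : ∀ e ∈ G.support, ∀ i, ((e i : ℕ) : k) = 0 := by
    intro e he i
    rcases Nat.eq_zero_or_pos (e i) with h0 | h0
    · rw [h0, Nat.cast_zero]
    have hc := congrArg (coeff (e - Finsupp.single i 1)) (h i)
    rw [coeff_pderiv, coeff_zero, tsub_add_cancel_of_le (Finsupp.single_le_iff.2 h0)] at hc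
    rcases mul_eq_zero.1 hc with hc | hc
    · exact absurd hc (mem_support_iff.1 he)
    · rw [← Nat.cast_add_one, Finsupp.tsub_apply, Finsupp.single_eq_same, Nat.sub_add_cancel h0] at hc
      exact hc
  obtain ⟨p, hp⟩ := CharP.exists k
  rcases CharP.char_is_prime_or_zero k p with hpr | rfl
  · haveI := Fact.mk hpr
    haveI : ExpChar k p := ExpChar.prime hpr
    haveI : PerfectRing k p := PerfectField.toPerfectRing p
    have hpow : G = (∑ e ∈ G.support, monomial (e.mapRange (· / p) (Nat.zero_div p))
        ((frobeniusEquiv k p).symm (coeff e G))) ^ p := by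
      rw [sum_pow_char]
      conv_lhs => rw [G.as_sum]
      refine Finset.sum_congr rfl fun e he => ?_
      rw [monomial_pow, frobeniusEquiv_symm_pow_p]
      refine congrArg (fun m => monomial m (coeff e G)) (Finsupp.ext fun i => ?_)
      simp [Nat.mul_div_cancel' ((CharP.cast_eq_zero_iff k p (e i)).1 (hexp e he i))]
    exact not_irreducible_pow hpr.ne_one (hpow ▸ hG)
  · haveI := CharP.charP_to_charZero k
    have hC : G = C (coeff 0 G) := by
      ext e
      rw [coeff_C]
      split_ifs with he
      · rw [he]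
      · by_contra hne
        refine he (Finsupp.ext fun i => ?_)
        simpa using (Nat.cast_eq_zero.1 (hexp e (mem_support_iff.2 hne) i)).symm
    rcases eq_or_ne (coeff 0 G) 0 with h0 | h0
    · exact hG.ne_zero (by rw [hC, h0, C_0])
    · exact hG.not_isUnit (hC ▸ (isUnit_iff_ne_zero.2 h0).map C)

/-- Polynomials of total degree at most `d - 1`. -/
noncomputable abbrev low (k : Type u) [Field k] (n d : ℕ) : Submodule k (MvPolynomial (Fin (n + 1)) k) :=
  restrictTotalDegree (Fin (n + 1)) k (d - 1)

/-- A linear combination of the partial derivatives. -/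
noncomputable def comb (l : Fin (n + 1) → k) : MvPolynomial (Fin (n + 1)) k →ₗ[k] MvPolynomial (Fin (n + 1)) k :=
  ∑ i, l i • (pderiv i : Derivation k (MvPolynomial (Fin (n + 1)) k) (MvPolynomial (Fin (n + 1)) k)).toLinearMap

theorem comb_apply (l : Fin (n + 1) → k) (F : MvPolynomial (Fin (n + 1)) k) :
    comb l F = ∑ i, l i • pderiv i F := by
  simp [comb]

/-- For a squarefree form some combination of the partial derivatives is prime to it. -/
theorem exists_comb [PerfectField k] [Infinite k] {F : MvPolynomial (Fin (n + 1)) k} (hF : Squarefree F) :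
    ∃ l : Fin (n + 1) → k, ∀ G, Prime G → G ∣ F → ¬ G ∣ comb l F := by
  classical
  have hF0 : F ≠ 0 := hF.ne_zero
  let T := (UniqueFactorizationMonoid.factors F).toFinset
  let V : MvPolynomial (Fin (n + 1)) k → Submodule k (Fin (n + 1) → k) := fun G =>
    Submodule.comap (Fintype.linearCombination k fun i => pderiv i F)
      ((Ideal.span {G}).restrictScalars k)
  have hV : ∀ G ∈ T, V G ≠ ⊤ := fun G hG htop => by
    have hirr := UniqueFactorizationMonoid.irreducible_of_factor G (Multiset.mem_toFinset.1 hG)
    have hdvd := UniqueFactorizationMonoid.dvd_of_mem_factors (Multiset.mem_toFinset.1 hG)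
    obtain ⟨i, hi⟩ := exists_pderiv_ne_zero hirr
    obtain ⟨H, rfl⟩ := hdvd
    have hm : (Pi.single i 1 : Fin (n + 1) → k) ∈ V G := htop ▸ Submodule.mem_top
    have hd : G ∣ pderiv i (G * H) := by
      have h2 := Ideal.mem_span_singleton.1 (hm : _ ∈ Ideal.span {G})
      simpa [Fintype.linearCombination_apply_single] using h2
    rw [pderiv_mul, dvd_add_left (dvd_mul_right G _)] at hd
    rcases (UniqueFactorizationMonoid.irreducible_iff_prime.1 hirr).dvd_or_dvd hd with h | h
    · obtain ⟨c, hc⟩ := h
      have hle := totalDegree_pderiv_add_one_le i hi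
      rw [hc, totalDegree_mul_of_isDomain hirr.ne_zero (right_ne_zero_of_mul (hc ▸ hi))] at hle
      omega
    · obtain ⟨H', rfl⟩ := h
      exact hirr.not_isUnit (hF G ⟨H', by ring⟩)
  have htop : (⊤ : Submodule k (Fin (n + 1) → k)) ∉ T.image V := by
    intro h
    obtain ⟨G, hG, hGV⟩ := Finset.mem_image.1 h
    exact hV G hG hGV
  obtain ⟨l, hl⟩ := (Set.ne_univ_iff_exists_notMem _).1 (Subspace.biUnion_ne_univ_of_top_notMem htop)
  refine ⟨l, fun G hG hGF hGA => hl ?_⟩
  obtain ⟨G', hG', hass⟩ := UniqueFactorizationMonoid.exists_mem_factors_of_dvd hF0 hG.irreducible hGF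
  refine Set.mem_biUnion (x := V G') (Finset.mem_image.2 ⟨G', Multiset.mem_toFinset.2 hG', rfl⟩) ?_
  show Fintype.linearCombination k (fun i => pderiv i F) l ∈ Ideal.span {G'}
  rw [Ideal.mem_span_singleton, Fintype.linearCombination_apply, ← comb_apply]
  exact hass.symm.dvd.trans hGA

/-- The Sylvester map of a polynomial and a combination of its derivatives. -/
noncomputable def syl (d : ℕ) (l : Fin (n + 1) → k) (F : MvPolynomial (Fin (n + 1)) k) :
    (low k n d × low k n d) →ₗ[k] MvPolynomial (Fin (n + 1)) k :=
  (LinearMap.mulLeft k F).comp ((low k n d).subtype.comp (LinearMap.fst k _ _)) -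
    (LinearMap.mulLeft k (comb l F)).comp ((low k n d).subtype.comp (LinearMap.snd k _ _))

theorem isZOpen_squarefree [PerfectField k] [Infinite k] {d : ℕ} (hd : 1 ≤ d) :
    LefPen.IsZOpen k {F : LefPen.Form n k d | Squarefree F.1} := by
  classical
  intro F₀ hF₀
  obtain ⟨l, hl⟩ := exists_comb hF₀
  have hF0 : F₀.1 ≠ 0 := hF₀.ne_zero
  have hdeg : ∀ F : LefPen.Form n k d, F.1 ≠ 0 → F.1.totalDegree = d := fun F hF =>
    IsHomogeneous.totalDegree F.2 hF
  have hcop : IsRelPrime F₀.1 (comb l F₀.1) := by
    refine UniqueFactorizationMonoid.isRelPrime_iff_no_prime_factors hF0 |>.2 fun G h1 h2 hG => hl G hG h1 h2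
  have hinj : Function.Injective (syl d l F₀.1) := by
    rw [injective_iff_map_eq_zero]
    rintro ⟨⟨U, hU⟩, ⟨V, hV⟩⟩ h
    have h' : F₀.1 * U - comb l F₀.1 * V = 0 := h
    rw [sub_eq_zero] at h'
    have hdvd : F₀.1 ∣ V := hcop.dvd_of_dvd_mul_left ⟨U, h'.symm⟩
    have hV0 : V = 0 := by
      by_contra hne
      obtain ⟨c, hc⟩ := hdvd
      have h3 := (mem_restrictTotalDegree _ _ _).1 hV
      rw [hc, totalDegree_mul_of_isDomain hF0 (right_ne_zero_of_mul (hc ▸ hne)), hdeg F₀ hF0] at h3
      omega
    subst hV0
    rw [mul_zero] at h'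
    have hU0 : U = 0 := (mul_eq_zero.1 h').resolve_left hF0
    subst hU0
    rfl
  obtain ⟨g, hg⟩ := LinearMap.exists_leftInverse_of_injective _ (LinearMap.ker_eq_bot.2 hinj)
  let b := Module.finBasis k (low k n d × low k n d)
  let M : LefPen.Form n k d → Matrix _ _ k := fun F => LinearMap.toMatrix b b (g.comp (syl d l F.1))
  refine ⟨fun F => (M F).det, ?_, ?_, fun F hF G hGF => ?_⟩
  · show _ ∈ Algebra.adjoin k _
    have hent : ∀ i j, (fun F => M F i j) ∈
        Algebra.adjoin k (Set.range fun l : Module.Dual k (LefPen.Form n k d) => (l : LefPen.Form n k d → k)) := by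
      intro i j
      refine Algebra.subset_adjoin ⟨(b.coord i).comp (g.comp
        ((LinearMap.mulRight k ((b j).1 : MvPolynomial (Fin (n + 1)) k)).comp (Submodule.subtype _) -
          ((LinearMap.mulRight k ((b j).2 : MvPolynomial (Fin (n + 1)) k)).comp (comb l)).comp
            (Submodule.subtype _))), ?_⟩
      funext F
      simp [M, LinearMap.toMatrix_apply, syl]
    rw [show (fun F => (M F).det) = ∑ σ : Equiv.Perm _, Equiv.Perm.sign σ • ∏ i, (fun F => M F (σ i) i) from
      funext fun F => by simp [Matrix.det_apply, Finset.sum_apply, Finset.prod_apply]]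
    refine Subalgebra.sum_mem _ fun σ _ => ?_
    rw [Units.smul_def]
    exact zsmul_mem (Subalgebra.prod_mem _ fun i _ => hent _ _) _
  · show (LinearMap.toMatrix b b (g.comp (syl d l F₀.1))).det ≠ 0
    rw [hg, LinearMap.toMatrix_id, Matrix.det_one]
    exact one_ne_zero
  · by_contra hunit
    have hker : Function.Injective (syl d l F.1) := by
      have : IsUnit (g.comp (syl d l F.1)) := by
        rw [LinearMap.isUnit_iff_isUnit_det, ← LinearMap.det_toMatrix b]
        exact isUnit_iff_ne_zero.2 hF
      have h2 := ((Module.End.isUnit_iff _).1 this).injective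
      exact Function.Injective.of_comp h2
    obtain ⟨H, hH⟩ := hGF
    by_cases hFz : F.1 = 0
    · have h0 : syl d l F.1 (⟨1, by simp [mem_restrictTotalDegree]⟩, 0) = 0 := by
        show F.1 * _ - comb l F.1 * 0 = 0
        rw [hFz, zero_mul, mul_zero, sub_zero]
      have := hker (h0.trans (map_zero _).symm)
      exact one_ne_zero (congrArg Subtype.val (congrArg Prod.fst this))
    have hGne : G ≠ 0 := fun h => hFz (by rw [hH, h, zero_mul, zero_mul])
    have hHne : H ≠ 0 := fun h => hFz (by rw [hH, h, mul_zero])
    have hGpos : 0 < G.totalDegree := by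
      by_contra hlt
      refine hunit ?_
      rw [totalDegree_eq_zero_iff_eq_C.1 (Nat.eq_zero_of_not_pos hlt)] at hGne ⊢
      exact (isUnit_iff_ne_zero.2 fun h => hGne (by rw [h, C_0])).map C
    have hdF := hdeg F hFz
    rw [hH, mul_assoc, totalDegree_mul_of_isDomain hGne (mul_ne_zero hGne hHne)] at hdF
    have hAdvd : G ∣ comb l F.1 := by
      rw [comb_apply]
      refine Finset.dvd_sum fun i _ => ?_
      rw [Algebra.smul_def]
      refine Dvd.dvd.mul_left ?_ _
      rw [hH, mul_assoc, pderiv_mul, pderiv_mul]
      exact dvd_add (Dvd.dvd.mul_left (dvd_mul_right G H) _) (dvd_mul_right G _)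
    obtain ⟨U, hU⟩ := hAdvd
    have hUmem : U ∈ low k n d := by
      rw [mem_restrictTotalDegree]
      by_cases hU0 : U = 0
      · simp [hU0]
      have h4 : (comb l F.1).totalDegree ≤ d := by
        rw [comb_apply]
        refine totalDegree_finsetSum_le fun i _ => (totalDegree_smul_le _ _).trans ?_
        exact (totalDegree_pderiv_le' i F.1).trans (hdeg F hFz).le
      rw [hU, totalDegree_mul_of_isDomain hGne hU0] at h4
      omega
    have hVmem : G * H ∈ low k n d := by
      rw [mem_restrictTotalDegree]
      omega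
    have h0 : syl d l F.1 (⟨U, hUmem⟩, ⟨G * H, hVmem⟩) = 0 := by
      show F.1 * U - comb l F.1 * (G * H) = 0
      rw [hU, hH]
      ring
    have := hker (h0.trans (map_zero _).symm)
    exact mul_ne_zero hGne hHne (congrArg Subtype.val (congrArg Prod.snd this))

/-- Over an algebraically closed field k, let n ≥ 1 and d ≥ 1. In the vector space of degree-d forms in
n + 1 variables, the forms F that are squarefree (equivalently, nonzero with (F) a radical ideal:
the reduced hypersurfaces of degree d in P^n) form a Zariski-open subset, and this subset is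
nonempty. (The published statement allows projective space of every dimension n; for n = 0 and d ≥ 2
there is no squarefree form of degree d, so this row assumes n ≥ 1.) -/
theorem result (k : Type u) [Field k] [IsAlgClosed k]
    (n d : ℕ) (hn : 1 ≤ n) (hd : 1 ≤ d) :
    LefPen.IsZOpen k {F : LefPen.Form n k d | Squarefree F.1} ∧
      ({F : LefPen.Form n k d | Squarefree F.1}).Nonempty := by
  classical
  refine ⟨isZOpen_squarefree hd, ?_⟩
  let i0 : Fin (n + 1) := 0
  let i1 : Fin (n + 1) := ⟨1, by omega⟩
  have hne : i0 ≠ i1 := by simp [i0, i1, Fin.ext_iff]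
  let L : k → MvPolynomial (Fin (n + 1)) k := fun c => X i0 + C c * X i1
  obtain ⟨T, hT⟩ := Infinite.exists_subset_card_eq k d
  have hLh : ∀ c, (L c).IsHomogeneous 1 := fun c =>
    (isHomogeneous_X k i0).add (by simpa using (isHomogeneous_C _ c).mul (isHomogeneous_X k i1))
  have hval : ∀ c c', eval (fun i => if i = i1 then (1 : k) else if i = i0 then -c' else 0) (L c) = c - c' := by
    intro c c'
    simp [L, hne]
    ring
  have hne0 : ∀ c, L c ≠ 0 := fun c h => by
    simpa [h] using hval c (c - 1)
  have hirr : ∀ c, Irreducible (L c) := fun c => by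
    have hdeg := (hLh c).totalDegree (hne0 c)
    refine ⟨fun hu => ?_, fun a b hab => ?_⟩
    · rw [isUnit_iff_totalDegree_of_isReduced] at hu
      omega
    · have ha : a ≠ 0 := fun h => hne0 c (by rw [hab, h, zero_mul])
      have hb : b ≠ 0 := fun h => hne0 c (by rw [hab, h, mul_zero])
      rw [hab, totalDegree_mul_of_isDomain ha hb] at hdeg
      have hunit : ∀ x : MvPolynomial (Fin (n + 1)) k, x ≠ 0 → x.totalDegree = 0 → IsUnit x := fun x hx h => by
        rw [totalDegree_eq_zero_iff_eq_C.1 h] at hx ⊢
        exact (isUnit_iff_ne_zero.2 fun h => hx (by rw [h, C_0])).map C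
      rcases Nat.eq_zero_or_pos a.totalDegree with h | h
      · exact Or.inl (hunit a ha h)
      · exact Or.inr (hunit b hb (by omega))
  refine ⟨⟨∏ c ∈ T, L c, ?_⟩, ?_⟩
  · have h := IsHomogeneous.prod T L (fun _ => 1) fun c _ => hLh c
    rw [Finset.sum_const, smul_eq_mul, mul_one, hT] at h
    exact h
  · refine Finset.squarefree_prod_of_pairwise_isCoprime (fun c _ c' _ hcc => ?_) fun c _ => (hirr c).squarefree
    refine ((hirr c).isRelPrime_iff_not_dvd).2 fun ⟨u, hu⟩ => hcc ?_
    have h := congrArg (eval fun i => if i = i1 then (1 : k) else if i = i0 then -c else 0) hu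
    rw [map_mul, hval, hval, sub_self, zero_mul, sub_eq_zero] at h
    exact h.symm

end Groth.Agent.S14376
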