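import Groth.Statements.S14377
import Mathlib
import Groth.Agent.VarDim.Basic

set_option autoImplicit false
set_option linter.style.haveILetI false
universe u
open Variety

namespace Groth.Agent.S14377


open Order

set_option linter.style.haveILetI false

/-- Nilpotent endomorphisms are strictly lower triangular in some basis. -/
theorem exists_basis_strictlyLower {k : Type*} [Field k] : ∀ (n : ℕ) (V : Type u) [AddCommGroup V] [Module k V]
    [FiniteDimensional k V] (f : Module.End k V), IsNilpotent f → Module.finrank k V = n →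
      ∃ b : Module.Basis (Fin n) k V, ∀ i j : Fin n, i ≤ j → b.repr (f (b j)) i = 0 := by
  intro n
  induction n with
  | zero => intro V _ _ _ f _ hn; exact ⟨Module.finBasisOfFinrankEq k V hn, fun i => i.elim0⟩
  | succ n ih =>
    intro V _ _ _ f hf hn
    haveI : Nontrivial V := Module.nontrivial_of_finrank_eq_succ hn
    have hne : LinearMap.range f ≠ ⊤ := by
      intro h
      obtain ⟨m, hm⟩ := hf
      have hs : ∀ m : ℕ, Function.Surjective ((f ^ m : Module.End k V)) := by
        intro m
        rw [Module.End.coe_pow]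
        exact (LinearMap.range_eq_top.1 h).iterate m
      obtain ⟨v, hv⟩ := exists_ne (0 : V)
      obtain ⟨w, rfl⟩ := hs m v
      exact hv (by rw [hm]; rfl)
    obtain ⟨v₀, hv₀⟩ : ∃ v, v ∉ LinearMap.range f := by
      by_contra! h
      exact hne (eq_top_iff.2 fun v _ => h v)
    obtain ⟨φ, hφv, hφ⟩ := Submodule.exists_dual_map_eq_bot_of_notMem hv₀ inferInstance
    let H := LinearMap.ker φ
    let y : V := (φ v₀)⁻¹ • v₀
    have hy : φ y = 1 := by rw [map_smul, smul_eq_mul, inv_mul_cancel₀ hφv]
    have hfH : ∀ x, f x ∈ H := fun x => by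
      rw [LinearMap.mem_ker]
      have : φ (f x) ∈ (LinearMap.range f).map φ := ⟨f x, ⟨x, rfl⟩, rfl⟩
      rwa [hφ, Submodule.mem_bot] at this
    have hH : Module.finrank k H = n := by
      have h1 := LinearMap.finrank_range_add_finrank_ker φ
      rw [LinearMap.range_eq_top.2 (fun c => ⟨c • y, by rw [map_smul, hy, smul_eq_mul, mul_one]⟩),
        finrank_top, Module.finrank_self, hn] at h1
      show Module.finrank k (LinearMap.ker φ) = n
      omega
    let g : Module.End k H := f.restrict fun x _ => hfH x
    have hg : IsNilpotent g := by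
      obtain ⟨m, hm⟩ := hf
      exact ⟨m, LinearMap.ext fun x => Subtype.ext (by
        rw [Module.End.pow_restrict]
        show (f ^ m) x = 0
        rw [hm]; rfl)⟩
    obtain ⟨bH, hbH⟩ := ih H g hg hH
    let b := Module.Basis.mkFinCons y bH
      (fun c x hx hc => by
        have := congrArg φ hc
        rw [map_add, map_smul, hy, LinearMap.mem_ker.1 hx, add_zero, map_zero, smul_eq_mul, mul_one] at this
        exact this)
      (fun z => ⟨-φ z, by rw [LinearMap.mem_ker, map_add, map_smul, hy, smul_eq_mul, mul_one, add_neg_cancel]⟩)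
    have hb : (b : Fin (n + 1) → V) = Fin.cons y ((↑) ∘ bH) := Module.Basis.coe_mkFinCons _ _ _ _
    have hrepr : ∀ x : H, b.repr (x : V) = Finsupp.mapDomain Fin.succ (bH.repr x) := by
      suffices h : b.repr.toLinearMap ∘ₗ H.subtype = Finsupp.lmapDomain k k Fin.succ ∘ₗ bH.repr.toLinearMap from
        fun x => LinearMap.congr_fun h x
      refine bH.ext fun i => ?_
      show b.repr (bH i : V) = Finsupp.mapDomain Fin.succ (bH.repr (bH i))
      rw [show (bH i : V) = b i.succ by rw [hb]; rfl, b.repr_self, bH.repr_self, Finsupp.mapDomain_single]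
    refine ⟨b, fun i j hij => ?_⟩
    rw [show f (b j) = ((⟨f (b j), hfH _⟩ : H) : V) from rfl, hrepr]
    rcases Fin.eq_zero_or_eq_succ i with rfl | ⟨i', rfl⟩
    · exact Finsupp.mapDomain_notin_range _ _ (by rintro ⟨i, hi⟩; exact Fin.succ_ne_zero i hi)
    · obtain ⟨j', rfl⟩ : ∃ j', j = Fin.succ j' :=
        ⟨j.pred (fun h => by rw [h] at hij; exact absurd hij (by simp)), (Fin.succ_pred _ _).symm⟩
      rw [Finsupp.mapDomain_apply (Fin.succ_injective n)]
      have : (⟨f (b j'.succ), hfH _⟩ : H) = g (bH j') := Subtype.ext (by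
        show f (b j'.succ) = f (bH j' : V)
        rw [hb]; rfl)
      rw [this]
      exact hbH i' j' (Fin.succ_le_succ_iff.1 hij)

/-- A strictly lower triangular matrix is nilpotent. -/
theorem isNilpotent_of_strictlyLower {A : Type*} [CommRing A] {n : ℕ} (U : Matrix (Fin n) (Fin n) A)
    (h : ∀ i j, i ≤ j → U i j = 0) : U ^ n = 0 := by
  have key : ∀ (m : ℕ) (i j : Fin n), (i : ℕ) < j + m → (U ^ m) i j = 0 := by
    intro m
    induction m with
    | zero => intro i j hij; rw [pow_zero, Matrix.one_apply_ne]; intro h'; subst h'; simp at hij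
    | succ m ih =>
      intro i j hij
      rw [pow_succ, Matrix.mul_apply]
      refine Finset.sum_eq_zero fun l _ => ?_
      by_cases hl : l ≤ j
      · rw [h l j hl, mul_zero]
      · rw [ih i l (by have := Fin.lt_def.1 (not_le.1 hl); omega), zero_mul]
  ext i j
  exact key n i j (by omega)

/-- Over an algebraically closed field k, let n ≥ 1 and let I be the ideal of the polynomial ring
k[x_ij] in the n² entries of the generic n × n matrix generated by the coefficients of t^0, …,
t^(n−1) in its characteristic polynomial, so that the zero locus of I in the affine space of n × n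
matrices is the set of nilpotent matrices. Then the spectrum of k[x_ij]/I is irreducible and
k[x_ij]/I has Krull dimension n² − n: the nilpotent matrices form an irreducible closed subvariety
of dimension n² − n of the space of all n × n matrices. -/
theorem result (k : Type u) [Field k] [IsAlgClosed k]
    (n : ℕ) (hn : 1 ≤ n) (I : Ideal (MvPolynomial (Fin n × Fin n) k))
    (hI : I = Ideal.span (Set.range (fun i : Fin n =>
      (Matrix.charpoly (Matrix.mvPolynomialX (Fin n) (Fin n) k)).coeff (i : ℕ)))) :
    IrreducibleSpace (PrimeSpectrum (MvPolynomial (Fin n × Fin n) k ⧸ I)) ∧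
      ringKrullDim (MvPolynomial (Fin n × Fin n) k ⧸ I) = ((n ^ 2 - n : ℕ) : WithBot ℕ∞) := by
  subst hI
  set M := Matrix.mvPolynomialX (Fin n) (Fin n) k with hM
  set I := Ideal.span (Set.range (fun i : Fin n => M.charpoly.coeff (i : ℕ))) with hI
  haveI : NeZero n := ⟨by omega⟩
  -- evaluation of the characteristic polynomial
  have hev : ∀ {T : Type u} [CommRing T] [Algebra k T] (z : Fin n × Fin n → T) (i : ℕ),
      MvPolynomial.aeval z (M.charpoly.coeff i) = (Matrix.of fun a b => z (a, b)).charpoly.coeff i := by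
    intro T _ _ z i
    have h1 : M.map (MvPolynomial.aeval z).toRingHom = Matrix.of fun a b => z (a, b) := by
      ext a b; simp [hM, Matrix.mvPolynomialX]
    rw [← h1, Matrix.charpoly_map, Polynomial.coeff_map]
    rfl
  -- the parametrization
  let Var := (Fin n × Fin n) ⊕ (Fin n × Fin n)
  let T := MvPolynomial Var k
  let g : Matrix (Fin n) (Fin n) T := Matrix.of fun a b => MvPolynomial.X (Sum.inl (a, b))
  let U : Matrix (Fin n) (Fin n) T := Matrix.of fun a b =>
    if a ≤ b then 0 else MvPolynomial.X (Sum.inr (a, b))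
  let G := g * U * g.adjugate
  let φ : MvPolynomial (Fin n × Fin n) k →ₐ[k] T := MvPolynomial.aeval fun p => G p.1 p.2
  let P := RingHom.ker φ.toRingHom
  haveI hP : P.IsPrime := RingHom.ker_isPrime _
  have hG : IsNilpotent G := by
    have hpow : ∀ m : ℕ, G ^ (m + 1) = g.det ^ m • (g * U ^ (m + 1) * g.adjugate) := by
      intro m
      induction m with
      | zero => rw [pow_one, pow_zero, one_smul, pow_one]
      | succ m ih =>
        rw [pow_succ G, ih, Matrix.smul_mul]
        show g.det ^ m • (g * U ^ (m + 1) * g.adjugate * (g * U * g.adjugate)) = _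
        rw [show g * U ^ (m + 1) * g.adjugate * (g * U * g.adjugate) =
          g * U ^ (m + 1) * (g.adjugate * g) * U * g.adjugate by simp only [Matrix.mul_assoc],
          Matrix.adjugate_mul, Matrix.mul_smul, Matrix.mul_one, Matrix.smul_mul, Matrix.smul_mul,
          smul_smul, ← pow_succ, Matrix.mul_assoc g, ← pow_succ U]
    refine ⟨n + 1, ?_⟩
    rw [hpow, pow_succ U, isNilpotent_of_strictlyLower U (fun i j hij => by simp [U, hij]),
      Matrix.zero_mul, Matrix.mul_zero, Matrix.zero_mul, smul_zero]
  have hIP : I ≤ P := by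
    rw [hI, Ideal.span_le]
    rintro _ ⟨i, rfl⟩
    show φ (M.charpoly.coeff i) = 0
    rw [hev]
    have h1 : G.charpoly = Polynomial.X ^ n := by
      have := (Matrix.isNilpotent_charpoly_sub_pow_of_isNilpotent hG).eq_zero
      rwa [sub_eq_zero, Fintype.card_fin] at this
    show G.charpoly.coeff _ = 0
    rw [h1, Polynomial.coeff_X_pow, if_neg (ne_of_lt i.2)]
  -- points of the zero locus
  have hnil : ∀ z : Fin n × Fin n → k, (∀ p ∈ I, MvPolynomial.aeval z p = 0) →
      IsNilpotent (Matrix.of fun a b => z (a, b)) := by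
    intro z hz
    set N := Matrix.of fun a b => z (a, b) with hN
    have hc : N.charpoly = Polynomial.X ^ n := by
      have hdeg : N.charpoly.natDegree = n := by rw [Matrix.charpoly_natDegree_eq_dim, Fintype.card_fin]
      refine Polynomial.ext fun i => ?_
      rcases lt_trichotomy i n with hi | hi | hi
      · rw [Polynomial.coeff_X_pow, if_neg (ne_of_lt hi), hN, ← hev]
        exact hz _ (Ideal.subset_span ⟨⟨i, hi⟩, rfl⟩)
      · subst hi
        rw [Polynomial.coeff_X_pow_self]
        have h1 := N.charpoly_monic.coeff_natDegree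
        rwa [hdeg] at h1
      · rw [Polynomial.coeff_X_pow, if_neg (ne_of_gt hi), Polynomial.coeff_eq_zero_of_natDegree_lt (hdeg.symm ▸ hi)]
    exact ⟨n, by simpa [hc] using N.aeval_self_charpoly⟩
  have hPI : P ≤ I.radical := by
    rw [← MvPolynomial.vanishingIdeal_zeroLocus_eq_radical (K := k)]
    intro p hp z hz
    obtain ⟨b, hb⟩ := exists_basis_strictlyLower n (Fin n → k) (Matrix.toLin' (Matrix.of fun a b => z (a, b)))
      ((hnil z hz).map (Matrix.toLinAlgEquiv' (R := k) (n := Fin n))) (Module.finrank_fin_fun k)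
    set N := Matrix.of fun a b => z (a, b) with hN
    let e := Pi.basisFun k (Fin n)
    let g₀ := e.toMatrix b
    let L := LinearMap.toMatrix b b (Matrix.toLin' N)
    have hL : ∀ i j, i ≤ j → L i j = 0 := fun i j hij => by
      show LinearMap.toMatrix b b (Matrix.toLin' N) i j = 0
      rw [LinearMap.toMatrix_apply]; exact hb i j hij
    have hgN : g₀ * L * b.toMatrix e = N := by
      rw [basis_toMatrix_mul_linearMap_toMatrix_mul_basis_toMatrix, LinearMap.toMatrix_eq_toMatrix',
        LinearMap.toMatrix'_toLin']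
    have hinv : g₀ * b.toMatrix e = 1 := e.toMatrix_mul_toMatrix_flip b
    have hdet : g₀.det ≠ 0 := (Matrix.isUnit_det_of_right_inverse hinv).ne_zero
    have hadj : g₀.adjugate = g₀.det • b.toMatrix e := by
      calc g₀.adjugate = g₀.adjugate * (g₀ * b.toMatrix e) := by rw [hinv, Matrix.mul_one]
        _ = (g₀.adjugate * g₀) * b.toMatrix e := (Matrix.mul_assoc _ _ _).symm
        _ = _ := by rw [Matrix.adjugate_mul, Matrix.smul_mul, Matrix.one_mul]
    let val : Var → k := Sum.elim (fun p => g₀ p.1 p.2) (fun p => g₀.det⁻¹ * L p.1 p.2)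
    let ev : T →+* k := (MvPolynomial.aeval val).toRingHom
    have hg' : ev.mapMatrix g = g₀ := by
      ext a c
      exact MvPolynomial.aeval_X val (Sum.inl (a, c))
    have hU' : ev.mapMatrix U = g₀.det⁻¹ • L := by
      ext a c
      by_cases hac : a ≤ c
      · simp [U, ev, hac, hL a c hac]
      · show MvPolynomial.aeval val (if a ≤ c then (0 : T) else MvPolynomial.X (Sum.inr (a, c))) = _
        rw [if_neg hac]
        exact MvPolynomial.aeval_X val (Sum.inr (a, c))
    have hG' : ev.mapMatrix G = N := by
      rw [map_mul, map_mul, RingHom.map_adjugate, hg', hU', hadj]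
      simp only [Matrix.mul_smul, Matrix.smul_mul, smul_smul]
      rw [mul_inv_cancel₀ hdet, one_smul, hgN]
    have hcomp : (MvPolynomial.aeval val).comp φ = MvPolynomial.aeval z :=
      MvPolynomial.algHom_ext fun q => by
        rw [AlgHom.comp_apply, MvPolynomial.aeval_X, MvPolynomial.aeval_X]
        exact congrFun (congrFun hG' q.1) q.2
    rw [← hcomp, AlgHom.comp_apply, show φ p = 0 from hp, map_zero]
  have hrad : I.radical = P := le_antisymm (hP.isRadical.radical_le_iff.2 hIP) hPI
  have hnilR : (nilradical (MvPolynomial (Fin n × Fin n) k ⧸ I)).IsPrime := by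
    rw [nilradical, show (0 : Ideal (MvPolynomial (Fin n × Fin n) k ⧸ I)) = Ideal.map (Ideal.Quotient.mk I) I by
      rw [Ideal.map_quotient_self]; rfl, ← Ideal.map_radical_of_surjective Ideal.Quotient.mk_surjective
      (by rw [Ideal.mk_ker]), hrad]
    exact Ideal.map_isPrime_of_surjective Ideal.Quotient.mk_surjective (by rw [Ideal.mk_ker]; exact hIP)
  refine ⟨PrimeSpectrum.irreducibleSpace_iff_isPrime_nilradical.2 hnilR, ?_⟩
  -- the dimension
  have hdimP : ringKrullDim (MvPolynomial (Fin n × Fin n) k ⧸ I) =
      ringKrullDim (MvPolynomial (Fin n × Fin n) k ⧸ P) := by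
    refine le_antisymm ?_ (ringKrullDim_le_of_surjective (Ideal.Quotient.factor hIP)
      (Ideal.Quotient.factor_surjective hIP))
    rw [ringKrullDim_quotient, ringKrullDim_quotient]
    refine Order.krullDim_le_of_strictMono (fun q => ⟨q.1, ?_⟩) fun q q' h => h
    exact hrad ▸ (q.1.2.isRadical.radical_le_iff.2 q.2)
  rw [hdimP]
  set d := n ^ 2 - n with hd
  have hn2 : n ≤ n ^ 2 := Nat.le_self_pow two_ne_zero n
  have hR : ringKrullDim (MvPolynomial (Fin n × Fin n) k) = (n ^ 2 : ℕ) := by
    rw [MvPolynomial.ringKrullDim_of_isNoetherianRing, ringKrullDim_eq_zero_of_field, zero_add,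
      Nat.card_prod, Nat.card_fin, pow_two]
  let pP : PrimeSpectrum (MvPolynomial (Fin n × Fin n) k) := ⟨P, hP⟩
  have hsum := Groth.Agent.VarDim.height_add_coheight_eq (k := k) (n ^ 2) _ hR pP
  have hhP : Order.height pP ≤ n := by
    rw [← PrimeSpectrum.height_eq_orderHeight]
    refine (Ideal.height_le_card_of_mem_minimalPrimes_span (Set.finite_range _)
      ⟨⟨hP, hIP⟩, fun Q hQ _ => ?_⟩).trans ?_
    · exact hrad ▸ (hQ.1.isRadical.radical_le_iff.2 hQ.2)
    · rw [← Set.image_univ]
      exact Nat.cast_le.2 ((Set.ncard_image_le Set.finite_univ).trans (by rw [Set.ncard_univ, Nat.card_fin]))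
  obtain ⟨c, hc⟩ : ∃ c : ℕ, Order.coheight pP = c := by
    refine ⟨_, (ENat.natCast_toNat ?_).symm⟩
    intro h; rw [h, add_top] at hsum; exact ENat.top_ne_natCast (n ^ 2) hsum
  have hdimc : ringKrullDim (MvPolynomial (Fin n × Fin n) k ⧸ P) = c := by
    have := Groth.Agent.VarDim.coheight_eq_ringKrullDim_quotient pP
    rw [hc] at this
    rw [← this]; rfl
  rw [hdimc]
  -- upper bound: the slice by the off-diagonal entries
  have hub : c ≤ d := by
    let π := Ideal.Quotient.mk P
    let S : Set (MvPolynomial (Fin n × Fin n) k ⧸ P) :=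
      (fun q => π (MvPolynomial.X q)) '' {q | q.1 ≠ q.2}
    let m₀ : Ideal (MvPolynomial (Fin n × Fin n) k) :=
      RingHom.ker (MvPolynomial.aeval (0 : Fin n × Fin n → k)).toRingHom
    haveI : m₀.IsMaximal := RingHom.ker_isMaximal_of_surjective (MvPolynomial.aeval (0 : Fin n × Fin n → k)).toRingHom
      fun a => ⟨MvPolynomial.C a, MvPolynomial.aeval_C _ _⟩
    have hPm : P ≤ m₀ := by
      refine hrad ▸ (Ideal.IsPrime.isRadical inferInstance).radical_le_iff.2 ?_
      rw [hI, Ideal.span_le]
      rintro _ ⟨i, rfl⟩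
      show MvPolynomial.aeval 0 _ = 0
      rw [hev, show (Matrix.of fun a b => (0 : Fin n × Fin n → k) (a, b)) = 0 by ext; rfl,
        Matrix.charpoly_zero, Fintype.card_fin, Polynomial.coeff_X_pow, if_neg (ne_of_lt i.2)]
    let mq := m₀.map π
    haveI hmq : mq.IsMaximal := Ideal.IsMaximal.map_of_surjective_of_ker_le Ideal.Quotient.mk_surjective
      (by rw [Ideal.mk_ker]; exact hPm)
    have hmin : mq ∈ (Ideal.span S).minimalPrimes := by
      refine ⟨⟨hmq.isPrime, ?_⟩, fun Q hQ _ => ?_⟩
      · rw [Ideal.span_le]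
        rintro _ ⟨q, _, rfl⟩
        exact Ideal.mem_map_of_mem π (show MvPolynomial.aeval 0 (MvPolynomial.X q) = 0 by simp)
      · haveI := hQ.1
        calc mq ≤ Q.jacobson := le_sInf fun q hq => ?_
          _ = Q := IsJacobsonRing.out' Q hQ.1.isRadical
        haveI := hq.2
        obtain ⟨z, hz⟩ := MvPolynomial.isMaximal_iff_eq_vanishingIdeal_singleton.1
          (Ideal.comap_isMaximal_of_surjective (K := q) π Ideal.Quotient.mk_surjective)
        have hmem : ∀ p, p ∈ q.comap π ↔ MvPolynomial.eval z p = 0 := fun p => by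
          rw [hz, MvPolynomial.mem_vanishingIdeal_singleton_iff]; rfl
        have hoff : ∀ a b, a ≠ b → z (a, b) = 0 := fun a b hab => by
          have := (hmem (MvPolynomial.X (a, b))).1 (hq.1 (hQ.2 (Ideal.subset_span ⟨(a, b), hab, rfl⟩)))
          simpa using this
        have hnz := hnil z fun p hp => (hmem p).1 (by
          show π p ∈ q
          rw [Ideal.Quotient.eq_zero_iff_mem.2 (hIP hp)]; exact q.zero_mem)
        have hdiag : (Matrix.of fun a b => z (a, b)) = Matrix.diagonal fun a => z (a, a) := by
          ext a b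
          by_cases hab : a = b
          · subst hab; simp
          · simp [hab, hoff a b hab]
        have hz0 : z = 0 := by
          funext ⟨a, b⟩
          by_cases hab : a = b
          · subst hab
            obtain ⟨e, he⟩ := hnz
            rw [hdiag, Matrix.diagonal_pow] at he
            have := congrFun (congrFun he a) a
            simp only [Matrix.diagonal_apply_eq, Pi.pow_apply, Matrix.zero_apply] at this
            exact eq_zero_of_pow_eq_zero this
          · exact hoff a b hab
        subst hz0
        exact Ideal.map_le_iff_le_comap.2 fun p hp => (hmem p).2 hp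
    have hscard : S.ncard ≤ d := by
      refine (Set.ncard_image_le (Set.toFinite _)).trans ?_
      have hset : {q : Fin n × Fin n | q.1 ≠ q.2} = ((Finset.univ : Finset (Fin n)).offDiag : Set _) := by
        ext q; simp
      rw [hset, Set.ncard_coe_finset, Finset.offDiag_card, Finset.card_fin, hd, pow_two]
    have hS : S.Finite := (Set.toFinite _).image _
    have h1 := Ideal.height_le_card_of_mem_minimalPrimes_span hS hmin
    let pq : PrimeSpectrum (MvPolynomial (Fin n × Fin n) k ⧸ P) := ⟨mq, hmq.isPrime⟩
    have hco : Order.coheight pq = 0 := Order.coheight_eq_zero.2 fun b hb =>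
      (PrimeSpectrum.ext (hmq.eq_of_le b.2.ne_top hb)).ge
    have h2 := Groth.Agent.VarDim.height_add_coheight_eq (k := k) c _ hdimc pq
    rw [hco, add_zero, ← PrimeSpectrum.height_eq_orderHeight] at h2
    have : (c : ℕ∞) ≤ S.ncard := h2 ▸ h1
    exact le_trans (by exact_mod_cast this) hscard
  have hlb : d ≤ c := by
    rw [hc] at hsum
    obtain ⟨a, ha⟩ : ∃ a : ℕ, Order.height pP = a :=
      ⟨_, (ENat.natCast_toNat (ne_top_of_le_ne_top (ENat.natCast_ne_top n) hhP)).symm⟩
    rw [ha] at hsum hhP
    have h1 : a + c = n ^ 2 := by exact_mod_cast hsum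
    have h2 : a ≤ n := by exact_mod_cast hhP
    omega
  rw [le_antisymm hub hlb]

end Groth.Agent.S14377
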