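import Groth.Statements.S14378
import Groth.Agent.VarDim.IrredFibres

set_option autoImplicit false
universe u
open CategoryTheory CategoryTheory.Limits AlgebraicGeometry
open Variety

namespace Groth.Agent.S14378


open Groth.Agent.VarDim Order

/-- Let k be an algebraically closed field, X and Y schemes of finite type over k with Y irreducible,
and f : X → Y a k-morphism such that for some natural number d the fibre of f over every closed
point of Y (the subspace of points mapping to it) is irreducible of dimension d. Then (i) exactly
one irreducible component of X has dense image in Y, and (ii) each irreducible component Z of X is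
made up of whole fibres — if Z meets the fibre over a closed point then it contains it — and dim Z =
d + dim f(Z)‾, the dimension of the closure of its image. (The published assertions are for
varieties, i.e. reduced separated schemes; this row assumes neither.) -/
theorem result (k : Type u) [Field k] [IsAlgClosed k]
    {X Y : Scheme.{u}} (qX : X ⟶ Spec (CommRingCat.of k)) (qY : Y ⟶ Spec (CommRingCat.of k))
    [LocallyOfFiniteType qX] [QuasiCompact qX] [LocallyOfFiniteType qY] [QuasiCompact qY]
    (f : X ⟶ Y) (hf : f ≫ qY = qX) [IrreducibleSpace ↥Y] (d : ℕ)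
    (hirr : ∀ y : ↥Y, IsClosed ({y} : Set ↥Y) → IsIrreducible (f.base ⁻¹' {y}))
    (hdim : ∀ y : ↥Y, IsClosed ({y} : Set ↥Y) → topologicalKrullDim ↥(f.base ⁻¹' {y}) = d) :
    (∃! Z : Set ↥X, Z ∈ irreducibleComponents ↥X ∧ Dense (f.base '' Z)) ∧
      ∀ Z ∈ irreducibleComponents ↥X,
        (∀ y : ↥Y, IsClosed ({y} : Set ↥Y) → (f.base ⁻¹' {y} ∩ Z).Nonempty → f.base ⁻¹' {y} ⊆ Z) ∧
        topologicalKrullDim ↥Z = d + topologicalKrullDim ↥(closure (f.base '' Z)) := by
  have : CompactSpace X := (quasiCompact_iff_compactSpace qX).1 inferInstance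
  have hdense : ∀ z : X, f z = genericPoint ↥Y → Dense (f '' closure {z}) := fun z hz => by
    refine Dense.mono (Set.singleton_subset_iff.2 ⟨z, subset_closure rfl, hz⟩) ?_
    intro y
    exact specializes_iff_mem_closure.1 (genericPoint_specializes y)
  have himg : ∀ z : X, closure (f '' closure {z}) = closure {f z} := fun z => by
    rw [closure_image_closure f.continuous, Set.image_singleton]
  obtain ⟨z₁, ⟨hz₁, hz₁η⟩, huniq⟩ := existsUnique_dominant f qY hf d hirr hdim
  refine ⟨⟨closure {z₁}, ⟨closure_mem_irreducibleComponents hz₁, hdense z₁ hz₁η⟩, ?_⟩, ?_⟩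
  · rintro Z ⟨hZ, hZd⟩
    obtain ⟨z, rfl, hz⟩ := exists_generic_of_component hZ
    have hmem : genericPoint ↥Y ∈ closure ({f z} : Set ↥Y) := himg z ▸ hZd _
    rw [huniq z ⟨hz, ((genericPoint_specializes (f z)).antisymm
      (specializes_iff_mem_closure.2 hmem)).eq.symm⟩]
  · intro Z hZ
    obtain ⟨z, rfl, hz⟩ := exists_generic_of_component hZ
    obtain ⟨-, hdeg, hwhole⟩ := component_spec f qY hf d hirr hdim hz
    refine ⟨fun y hy hne x' hx' => ?_, ?_⟩
    · obtain ⟨x, hxy, hzx⟩ := hne
      exact specializes_iff_mem_closure.1 (hwhole x (specializes_iff_mem_closure.2 hzx)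
        (by rw [show f x = y from hxy]; exact hy) x' (hx'.trans hxy.symm))
    · rw [himg, topologicalKrullDim_closure_singleton qX, topologicalKrullDim_closure_singleton qY, hdeg,
        Nat.add_comm]
      norm_cast

end Groth.Agent.S14378
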