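import Groth.Statements.S14379
import Groth.Agent.EGA41Lib.IntDim
import Mathlib.RingTheory.KrullDimension.Polynomial
import Mathlib.RingTheory.KrullDimension.Field
import Mathlib.RingTheory.IntegralClosure.IsIntegralClosure.Basic
import Mathlib.RingTheory.FiniteType
import Mathlib.RingTheory.RingHom.FiniteType
import Mathlib.RingTheory.Finiteness.Finsupp
import Mathlib.Algebra.Polynomial.Monic
set_option autoImplicit false
open scoped TensorProduct
universe u
open CAlg

namespace Groth.Agent.S14379

open scoped TensorProduct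

section
variable {k S : Type u} [Field k] [CommRing S] [Algebra k S]

/-- `S` is integral over the subalgebra generated by a family. -/
def IntOver (k : Type u) {S : Type u} [Field k] [CommRing S] [Algebra k S] {n : ℕ} (z : Fin n → S) : Prop :=
  ∀ s : S, IsIntegral (Algebra.adjoin k (Set.range z)) s

theorem digits_inj {n B : ℕ} {a b : Fin n → ℕ} (ha : ∀ i, a i < B) (hb : ∀ i, b i < B)
    (h : ∑ i, a i * B ^ (i : ℕ) = ∑ i, b i * B ^ (i : ℕ)) : a = b := by
  have h2 : finFunctionFinEquiv (fun i => (⟨a i, ha i⟩ : Fin B)) =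
      finFunctionFinEquiv (fun i => (⟨b i, hb i⟩ : Fin B)) := by
    apply Fin.ext
    simpa [finFunctionFinEquiv_apply] using h
  funext i
  exact congrArg Fin.val (congrFun (finFunctionFinEquiv.injective h2) i)

theorem step {n : ℕ} (z : Fin (n + 1) → S) (hz : IntOver k z) (F : MvPolynomial (Fin (n + 1)) k)
    (hF0 : F ≠ 0) (hF : MvPolynomial.aeval z F = 0) (N B : ℕ) (hN : 1 ≤ N) (hB : F.totalDegree < B) :
    IntOver k (fun i : Fin n => z i.castSucc - z (Fin.last n) ^ (N * B ^ ((i : ℕ) + 1))) := by
  classical
  set e : Fin n → ℕ := fun i => N * B ^ ((i : ℕ) + 1) with he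
  set f : Fin n → S := fun i => z i.castSucc - z (Fin.last n) ^ e i with hf
  set A := Algebra.adjoin k (Set.range f) with hA
  cases subsingleton_or_nontrivial S
  · intro s
    rw [Subsingleton.elim s 0]
    exact isIntegral_zero
  let fA : Fin n → A := fun i => ⟨f i, Algebra.subset_adjoin ⟨i, rfl⟩⟩
  let w : (Fin (n + 1) →₀ ℕ) → ℕ := fun a => a (Fin.last n) + ∑ i, a i.castSucc * e i
  let M : (Fin (n + 1) →₀ ℕ) → Polynomial A := fun a =>
    (∏ i, (Polynomial.X ^ e i + Polynomial.C (fA i)) ^ a i.castSucc) * Polynomial.X ^ a (Fin.last n)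
  have he1 : ∀ i, 1 ≤ e i := fun i =>
    le_trans hN (Nat.le_mul_of_pos_right _ (pow_pos (by omega) _))
  have hmon1 : ∀ i, (Polynomial.X ^ e i + Polynomial.C (fA i) : Polynomial A).Monic := fun i =>
    Polynomial.monic_X_pow_add_C _ (by have := he1 i; omega)
  have hMm : ∀ a, (M a).Monic := fun a =>
    (Polynomial.monic_prod_of_monic _ _ fun i _ => (hmon1 i).pow _).mul (Polynomial.monic_X_pow _)
  have hMd : ∀ a, (M a).natDegree = w a := by
    intro a
    simp only [M, w]
    rw [(Polynomial.monic_prod_of_monic _ _ fun i _ => (hmon1 i).pow _).natDegree_mul (Polynomial.monic_X_pow _),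
      Polynomial.natDegree_prod_of_monic _ _ (fun i _ => (hmon1 i).pow _), Polynomial.natDegree_X_pow, add_comm]
    congr 1
    exact Finset.sum_congr rfl fun i _ => by
      rw [(hmon1 i).natDegree_pow, Polynomial.natDegree_X_pow_add_C]
  let G : Polynomial A := ∑ a ∈ F.support, Polynomial.C (algebraMap k A (F.coeff a)) * M a
  have hG : Polynomial.aeval (z (Fin.last n)) G = 0 := by
    rw [← hF, MvPolynomial.aeval_def, MvPolynomial.eval₂_eq', map_sum]
    refine Finset.sum_congr rfl fun a _ => ?_
    simp only [M, map_mul, map_prod, map_pow, map_add, Polynomial.aeval_X, Polynomial.aeval_C]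
    rw [Fin.prod_univ_castSucc]
    congr 1
    congr 1
    refine Finset.prod_congr rfl fun i _ => ?_
    congr 1
    show z (Fin.last n) ^ e i + f i = z i.castSucc
    simp [hf]
  have hlt : ∀ a ∈ F.support, ∀ i, a i < B := by
    intro a ha i
    refine lt_of_le_of_lt (le_trans ?_ (MvPolynomial.le_totalDegree ha)) hB
    rw [Finsupp.sum_fintype _ _ (fun _ => rfl)]
    exact Finset.single_le_sum (fun j _ => Nat.zero_le (a j)) (Finset.mem_univ i)
  have hwinj : ∀ a ∈ F.support, ∀ b ∈ F.support, w a = w b → a = b := by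
    intro a ha b hb hab
    have hsum : ∀ c : Fin (n + 1) →₀ ℕ,
        ∑ i : Fin n, c i.castSucc * e i = B * (N * ∑ i : Fin n, c i.castSucc * B ^ (i : ℕ)) := by
      intro c
      simp only [he, Finset.mul_sum]
      exact Finset.sum_congr rfl fun i _ => by rw [pow_succ]; ring
    simp only [w, hsum] at hab
    have h1 : a (Fin.last n) = b (Fin.last n) := by
      have := congrArg (· % B) hab
      simp only [Nat.add_mul_mod_self_left, Nat.mod_eq_of_lt (hlt a ha _), Nat.mod_eq_of_lt (hlt b hb _)] at this
      exact this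
    rw [h1, Nat.add_left_cancel_iff, Nat.mul_left_cancel_iff (by omega), Nat.mul_left_cancel_iff (by omega)] at hab
    have h2 := digits_inj (fun i => hlt a ha _) (fun i => hlt b hb _) hab
    refine Finsupp.ext fun j => ?_
    induction j using Fin.lastCases with
    | last => exact h1
    | cast i => exact congrFun h2 i
  obtain ⟨a₀, ha₀, hmax⟩ := Finset.exists_max_image F.support w (MvPolynomial.support_nonempty.2 hF0)
  have hc0 : F.coeff a₀ ≠ 0 := MvPolynomial.mem_support_iff.1 ha₀
  have hint : IsIntegral A (z (Fin.last n)) := by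
    refine ⟨Polynomial.C (algebraMap k A (F.coeff a₀)⁻¹) * G, ?_, ?_⟩
    · refine Polynomial.monic_of_natDegree_le_of_coeff_eq_one (w a₀) ?_ ?_
      · refine (Polynomial.natDegree_C_mul_le _ _).trans
          (Polynomial.natDegree_sum_le_of_forall_le _ _ fun a ha => ?_)
        exact (Polynomial.natDegree_C_mul_le _ _).trans ((hMd a).le.trans (hmax a ha))
      · rw [Polynomial.coeff_C_mul, Polynomial.finsetSum_coeff, Finset.sum_eq_single a₀]
        · rw [Polynomial.coeff_C_mul, ← hMd a₀, (hMm a₀).coeff_natDegree, mul_one, ← map_mul,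
            inv_mul_cancel₀ hc0, map_one]
        · intro a ha hne
          rw [Polynomial.coeff_C_mul, Polynomial.coeff_eq_zero_of_natDegree_lt, mul_zero]
          rw [hMd]
          exact lt_of_le_of_ne (hmax a ha) fun h => hne (hwinj a ha a₀ ha₀ h)
        · exact fun h => absurd ha₀ h
    · rw [← Polynomial.aeval_def, map_mul, hG, mul_zero]
  intro s
  have hle : Set.range z ⊆ ((integralClosure A S).restrictScalars k : Set S) := by
    rintro _ ⟨j, rfl⟩
    induction j using Fin.lastCases with
    | last => exact hint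
    | cast i =>
      have h : z i.castSucc = f i + z (Fin.last n) ^ e i := by simp [hf]
      rw [h]
      exact IsIntegral.add (isIntegral_algebraMap (x := fA i)) (hint.pow _)
  have hle' : Algebra.adjoin k (Set.range z) ≤ (integralClosure A S).restrictScalars k := Algebra.adjoin_le hle
  letI : Algebra (Algebra.adjoin k (Set.range z)) (integralClosure A S) :=
    (Subalgebra.inclusion hle').toRingHom.toAlgebra
  haveI : IsScalarTower (Algebra.adjoin k (Set.range z)) (integralClosure A S) S :=
    IsScalarTower.of_algebraMap_eq fun _ => rfl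
  haveI : Algebra.IsIntegral A (integralClosure A S) := inferInstance
  exact isIntegral_trans s ((hz s).tower_top (A := integralClosure A S))

theorem exists_relation {n d : ℕ} (hdim : ringKrullDim S ≤ d) (hdn : d < n) (z : Fin n → S)
    (hz : IntOver k z) : ∃ F : MvPolynomial (Fin n) k, F ≠ 0 ∧ MvPolynomial.aeval z F = 0 := by
  by_contra hcon
  push Not at hcon
  have hinj : Function.Injective (MvPolynomial.aeval z : MvPolynomial (Fin n) k →ₐ[k] S) :=
    (injective_iff_map_eq_zero _).2 fun F hF => by_contra fun h => hcon F h hF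
  haveI : Algebra.IsIntegral (Algebra.adjoin k (Set.range z)) S := ⟨hz⟩
  have h1 : ringKrullDim S = ringKrullDim (Algebra.adjoin k (Set.range z)) :=
    EGA41Lib.ringKrullDim_eq_of_integral Subtype.val_injective
  have h2 : ringKrullDim (Algebra.adjoin k (Set.range z)) = n := by
    rw [ringKrullDim_eq_of_ringEquiv ((AlgEquiv.ofInjective _ hinj).trans
        (Subalgebra.equivOfEq _ _ (Algebra.adjoin_range_eq_range_aeval k z).symm)).toRingEquiv.symm,
      MvPolynomial.ringKrullDim_of_isNoetherianRing, ringKrullDim_eq_zero_of_field, Nat.card_fin, zero_add]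
  rw [h1, h2] at hdim
  have : n ≤ d := by exact_mod_cast hdim
  omega

end

section
variable {V : Type u} [CommRing V] {R : Type u} [CommRing R] [Algebra V R]
  {k : Type u} [Field k] [Algebra V k]

/-- The image of a family in a fibre. -/
noncomputable def fib (k : Type u) [Field k] [Algebra V k] {n : ℕ} (z : Fin n → R) : Fin n → k ⊗[V] R :=
  fun i => (1 : k) ⊗ₜ[V] z i

theorem intOver_of_gen {n : ℕ} (z : Fin n → R) (hz : Algebra.adjoin V (Set.range z) = ⊤) :
    IntOver k (fib (V := V) k z) := by
  have key : ∀ s : k ⊗[V] R, s ∈ Algebra.adjoin k (Set.range (fib (V := V) k z)) := by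
    intro s
    induction s using TensorProduct.induction_on with
    | zero => exact zero_mem _
    | add x y hx hy => exact add_mem hx hy
    | tmul c r =>
      have hr : (Algebra.TensorProduct.includeRight : R →ₐ[V] k ⊗[V] R) r ∈
          (Algebra.adjoin k (Set.range (fib (V := V) k z))).restrictScalars V := by
        have h : r ∈ Algebra.adjoin V (Set.range z) := hz ▸ Algebra.mem_top
        refine (Algebra.adjoin_le (S := ((Algebra.adjoin k (Set.range (fib (V := V) k z))).restrictScalars V).comap
          (Algebra.TensorProduct.includeRight : R →ₐ[V] k ⊗[V] R)) ?_) h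
        rintro _ ⟨i, rfl⟩
        exact Algebra.subset_adjoin ⟨i, rfl⟩
      have h2 := Subalgebra.smul_mem (Algebra.adjoin k (Set.range (fib (V := V) k z)))
        (show ((1 : k) ⊗ₜ[V] r) ∈ Algebra.adjoin k (Set.range (fib (V := V) k z)) from hr) c
      rwa [TensorProduct.smul_tmul', smul_eq_mul, mul_one] at h2
  intro s
  exact isIntegral_algebraMap (x := (⟨s, key s⟩ : Algebra.adjoin k (Set.range (fib (V := V) k z))))

theorem finite_aeval [Algebra.FiniteType V R] {n : ℕ} (z : Fin n → R)
    (h : IntOver k (fib (V := V) k z)) :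
    (MvPolynomial.aeval (fib (V := V) k z) : MvPolynomial (Fin n) k →ₐ[k] k ⊗[V] R).toRingHom.Finite := by
  refine RingHom.IsIntegral.to_finite (fun s => ?_)
    (RingHom.FiniteType.of_comp_finiteType (f := MvPolynomial.C) ?_)
  · obtain ⟨P, hPm, hP⟩ := h s
    let φ : MvPolynomial (Fin n) k →ₐ[k] Algebra.adjoin k (Set.range (fib (V := V) k z)) :=
      (MvPolynomial.aeval (fib (V := V) k z)).codRestrict _ fun p => by
        rw [Algebra.adjoin_range_eq_range_aeval]; exact ⟨p, rfl⟩
    have hφ : Function.Surjective φ.toRingHom := by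
      rintro ⟨y, hy⟩
      rw [Algebra.adjoin_range_eq_range_aeval] at hy
      obtain ⟨p, rfl⟩ := hy
      exact ⟨p, rfl⟩
    obtain ⟨Q, hQ, -, hQm⟩ := Polynomial.lifts_and_natDegree_eq_and_monic
      ((Polynomial.lifts_iff_coeff_lifts P).2 fun i => hφ (P.coeff i)) hPm
    refine ⟨Q, hQm, ?_⟩
    rw [← hQ, Polynomial.eval₂_map] at hP
    exact hP
  · have : (MvPolynomial.aeval (fib (V := V) k z)).toRingHom.comp MvPolynomial.C =
        algebraMap k (k ⊗[V] R) := RingHom.ext fun c => by simp
    rw [this, RingHom.finiteType_algebraMap]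
    infer_instance

end

/-- Let V be a discrete valuation ring with residue field k and fraction field K, let R be a flat
V-algebra of finite type such that both fibre rings k ⊗_V R and K ⊗_V R have Krull dimension at most
d, let x_1, …, x_d be elements of R and let N ≥ 1 be an integer. Then there are elements y_1, …, y_d
of the subring of R generated by the N-th powers of elements of R such that, setting f_i = x_i +
y_i, the fibre ring k ⊗_V R is finite over the polynomial ring k[T_1, …, T_d] via T_i ↦ 1 ⊗ f_i and
K ⊗_V R is finite over K[T_1, …, T_d] via T_i ↦ 1 ⊗ f_i; in other words the morphism (f_1, …, f_d)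
to affine d-space over V is finite on both fibres. -/
theorem result (V : Type u) [CommRing V] [IsDomain V]
    [IsDiscreteValuationRing V] (R : Type u) [CommRing R] [Algebra V R] [Module.Flat V R]
    [Algebra.FiniteType V R] (d : ℕ)
    (hs : ringKrullDim (IsLocalRing.ResidueField V ⊗[V] R) ≤ d)
    (hη : ringKrullDim (FractionRing V ⊗[V] R) ≤ d)
    (x : Fin d → R) (N : ℕ) (hN : 1 ≤ N) :
    ∃ y : Fin d → R, (∀ i, y i ∈ Subring.closure (Set.range fun r : R => r ^ N)) ∧
      (MvPolynomial.aeval (fun i => (1 : IsLocalRing.ResidueField V) ⊗ₜ[V] (x i + y i)) :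
          MvPolynomial (Fin d) (IsLocalRing.ResidueField V) →ₐ[IsLocalRing.ResidueField V]
            IsLocalRing.ResidueField V ⊗[V] R).toRingHom.Finite ∧
      (MvPolynomial.aeval (fun i => (1 : FractionRing V) ⊗ₜ[V] (x i + y i)) :
          MvPolynomial (Fin d) (FractionRing V) →ₐ[FractionRing V] FractionRing V ⊗[V] R).toRingHom.Finite := by
  classical
  let k := IsLocalRing.ResidueField V
  let K := FractionRing V
  set C := Subring.closure (Set.range fun r : R => r ^ N) with hC
  have main : ∀ (m : ℕ) (z : Fin (d + m) → R), IntOver k (fib (V := V) k z) → IntOver K (fib (V := V) K z) →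
      ∃ y : Fin d → R, (∀ i, y i - z (Fin.castAdd m i) ∈ C) ∧
        IntOver k (fib (V := V) k y) ∧ IntOver K (fib (V := V) K y) := by
    intro m
    induction m with
    | zero => exact fun z h1 h2 => ⟨z, fun i => by simp [zero_mem], h1, h2⟩
    | succ m ih =>
      intro z h1 h2
      obtain ⟨F1, hF1, hF1'⟩ := exists_relation hs (by omega : d < d + (m + 1)) _ h1
      obtain ⟨F2, hF2, hF2'⟩ := exists_relation hη (by omega : d < d + (m + 1)) _ h2
      set B := max F1.totalDegree F2.totalDegree + 1 with hB
      let z' : Fin (d + m) → R := fun i => z i.castSucc - z (Fin.last _) ^ (N * B ^ ((i : ℕ) + 1))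
      have s1 := step (fib (V := V) k z) h1 F1 hF1 hF1' N B hN (by omega)
      have s2 := step (fib (V := V) K z) h2 F2 hF2 hF2' N B hN (by omega)
      have e1 : ∀ (L : Type u) [Field L] [Algebra V L], fib (V := V) L z' = fun i : Fin (d + m) =>
          fib (V := V) L z i.castSucc - fib (V := V) L z (Fin.last _) ^ (N * B ^ ((i : ℕ) + 1)) := by
        intro L _ _
        funext i
        simp [fib, z', TensorProduct.tmul_sub, Algebra.TensorProduct.tmul_pow]
      obtain ⟨y, hy, hy1, hy2⟩ := ih z' (by rw [e1]; exact s1) (by rw [e1]; exact s2)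
      refine ⟨y, fun i => ?_, hy1, hy2⟩
      have hpow : z (Fin.last (d + m)) ^ (N * B ^ ((i : ℕ) + 1)) ∈ C :=
        Subring.subset_closure ⟨z (Fin.last (d + m)) ^ (B ^ ((i : ℕ) + 1)), by
          simp only [← pow_mul, mul_comm]⟩
      have := sub_mem (hy i) hpow
      simp only [z', Fin.val_castAdd] at this
      have e2 : ∀ (a b c : R), a - (b - c) - c = a - b := fun a b c => by ring
      exact (e2 (y i) (z (Fin.castAdd m i).castSucc) (z (Fin.last (d + m)) ^ (N * B ^ ((i : ℕ) + 1)))) ▸ this
  obtain ⟨G, hG⟩ := (Algebra.FiniteType.out : (⊤ : Subalgebra V R).FG)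
  let z : Fin (d + G.card) → R := Fin.append x (fun j => (G.equivFin.symm j : R))
  have hz : Algebra.adjoin V (Set.range z) = ⊤ := by
    rw [eq_top_iff, ← hG]
    refine Algebra.adjoin_mono fun g hg => ⟨Fin.natAdd d (G.equivFin ⟨g, hg⟩), ?_⟩
    simp [z]
  obtain ⟨w, hw, hw1, hw2⟩ := main _ z (intOver_of_gen z hz) (intOver_of_gen z hz)
  refine ⟨fun i => w i - x i, fun i => by simpa [z] using hw i, ?_, ?_⟩
  · have e : (fun i => (1 : k) ⊗ₜ[V] (x i + (w i - x i))) = fib (V := V) k w := funext fun i => by simp [fib]
    erw [e]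
    exact finite_aeval w hw1
  · have e : (fun i => (1 : K) ⊗ₜ[V] (x i + (w i - x i))) = fib (V := V) K w := funext fun i => by simp [fib]
    erw [e]
    exact finite_aeval w hw2

end Groth.Agent.S14379
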