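import Groth.Statements.S14380
import Groth.Agent.Milnor7.Basic
import Groth.Agent.S0511
-- import your own Groth.Agent.* helpers here

set_option autoImplicit false
open scoped TensorProduct
universe u
open Hensel

namespace Groth.Agent.S14380

/-- Let V be a strictly henselian discrete valuation ring (henselian, with separably closed residue
field k) such that k is perfect and V has characteristic zero, let L be an algebraically closed
field which is an algebraic extension of the fraction field of V (an algebraic closure of it, given
as a V-algebra into which V embeds), let A be a V-algebra of finite type and m a maximal ideal of A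
with residue field k, meaning that the composite V → A → A/m is surjective, and let B be a
henselization of the local ring A_m. Then L ⊗_V B, the coordinate ring of the algebraic Milnor fibre
of Spec A over Spec V at the rational point m of the closed fibre, is a Noetherian ring. (The
published statement is for a scheme of finite type over a henselian discrete valuation ring and a
rational point of its closed fibre, the Milnor fibre being formed with strict henselizations; this
row states the affine case over a strictly henselian V, to which that statement reduces.) -/
theorem result (V : Type u) [CommRing V] [IsDomain V]
    [IsDiscreteValuationRing V] [HenselianLocalRing V] [IsSepClosed (IsLocalRing.ResidueField V)]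
    [PerfectField (IsLocalRing.ResidueField V)] [CharZero V]
    (L : Type u) [Field L] [IsAlgClosed L] [Algebra V L] [FaithfulSMul V L] [Algebra.IsAlgebraic V L]
    (A : Type u) [CommRing A] [Algebra V A] [Algebra.FiniteType V A]
    (m : Ideal A) [m.IsMaximal]
    (hm : Function.Surjective ((Ideal.Quotient.mk m).comp (algebraMap V A)))
    (B : Type u) [CommRing B] [IsLocalRing B] [Algebra (Localization.AtPrime m) B]
    [IsLocalHom (algebraMap (Localization.AtPrime m) B)]
    [Hensel.IsHenselization (Localization.AtPrime m) B]
    [Algebra V B] [IsScalarTower V (Localization.AtPrime m) B] :
    IsNoetherianRing (L ⊗[V] B) := by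
  haveI : IsNoetherianRing A := Algebra.FiniteType.isNoetherianRing V A
  haveI : IsNoetherianRing B := (S0511.result (Localization.AtPrime m) B).1 inferInstance
  haveI : IsAlgClosed (IsLocalRing.ResidueField V) := inferInstance
  have hmV : m.comap (algebraMap V A) = IsLocalRing.maximalIdeal V := by
    refine IsLocalRing.eq_maximalIdeal ?_
    letI := Ideal.Quotient.field m
    have h := RingHom.ker_isMaximal_of_surjective ((Ideal.Quotient.mk m).comp (algebraMap V A)) hm
    rwa [← RingHom.comap_ker, Ideal.mk_ker] at h
  haveI : IsLocalHom (algebraMap V B) := by
    constructor
    intro v hv
    rw [IsScalarTower.algebraMap_apply V (Localization.AtPrime m) B] at hv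
    have h1 := isUnit_of_map_unit (algebraMap (Localization.AtPrime m) B) _ hv
    rw [IsScalarTower.algebraMap_apply V A (Localization.AtPrime m), IsLocalization.AtPrime.isUnit_to_map_iff _ m] at h1
    by_contra hn
    exact h1 (show v ∈ m.comap (algebraMap V A) from hmV ▸ hn)
  exact Milnor7.isNoetherianRing_tensor V L B

end Groth.Agent.S14380
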