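import Groth.Statements.S14383
import Mathlib.RingTheory.Kaehler.JacobiZariski
import Mathlib.RingTheory.Etale.Kaehler
import Mathlib.RingTheory.Flat.LocallyFree
import Mathlib.RingTheory.Nakayama
-- import your own Groth.Agent.* helpers here

set_option autoImplicit false
open scoped TensorProduct
open AlgebraicGeometry
universe u
open CAlg

namespace Groth.Agent.S14383

attribute [local instance] Algebra.TensorProduct.rightAlgebra

section Smooth
variable (K S : Type u) [CommRing K] [CommRing S] [Algebra K S]

lemma formallySmooth_of_spec {d : ℕ}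
    (h : SmoothOfRelativeDimension d (Spec.map (CommRingCat.ofHom (algebraMap K S)))) :
    Algebra.Smooth K S := by
  have h' : Smooth (Spec.map (CommRingCat.ofHom (algebraMap K S))) :=
    SmoothOfRelativeDimension.smooth d _
  exact RingHom.smooth_algebraMap.mp ((HasRingHomProperty.Spec_iff (P := @Smooth)).mp h')

lemma rankAtStalk_of_spec [Module.Finite S (Ω[S⁄K])] [Module.Flat S (Ω[S⁄K])] {d : ℕ}
    (h : SmoothOfRelativeDimension d (Spec.map (CommRingCat.ofHom (algebraMap K S))))
    (q : PrimeSpectrum S) : Module.rankAtStalk (Ω[S⁄K]) q = d := by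
  obtain ⟨s, hs, hP⟩ := (HasRingHomProperty.Spec_iff (P := @SmoothOfRelativeDimension d)).mp h
  obtain ⟨t, hts, htq⟩ : ∃ t ∈ s, t ∉ q.asIdeal := by
    by_contra hc
    push_neg at hc
    exact q.isPrime.ne_top (top_le_iff.mp (hs ▸ Ideal.span_le.mpr hc))
  have hP' := hP t hts
  rw [CommRingCat.hom_ofHom, ← IsScalarTower.algebraMap_eq K S (Localization.Away t),
    RingHom.isStandardSmoothOfRelativeDimension_algebraMap] at hP'
  haveI := hP'
  haveI : Algebra.IsStandardSmooth K (Localization.Away t) :=
    Algebra.IsStandardSmoothOfRelativeDimension.isStandardSmooth d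
  haveI : Algebra.FormallyEtale S (Localization.Away t) :=
    Algebra.FormallyEtale.of_isLocalization (Submonoid.powers t)
  obtain ⟨q', hq'⟩ : q ∈ Set.range (PrimeSpectrum.comap (algebraMap S (Localization.Away t))) := by
    rw [PrimeSpectrum.localization_away_comap_range (Localization.Away t) t]
    exact htq
  haveI : Nontrivial (Localization.Away t) := ⟨⟨0, 1, fun h => q'.isPrime.ne_top ((Ideal.eq_top_iff_one _).mpr (h ▸ zero_mem _))⟩⟩
  have e := KaehlerDifferential.tensorKaehlerEquivOfFormallyEtale K S (Localization.Away t)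
  have h1 := Module.rankAtStalk_eq_of_equiv e
  have h2 : Module.finrank (Localization.Away t) (Ω[(Localization.Away t)⁄K]) = d :=
    Module.finrank_eq_of_rank_eq
      (Algebra.IsStandardSmoothOfRelativeDimension.rank_kaehlerDifferential d)
  have h3 := congrFun h1 q'
  rw [Module.rankAtStalk_baseChange, Module.rankAtStalk_eq_finrank_of_free (M := Ω[(Localization.Away t)⁄K])] at h3
  rw [← hq']
  simpa [h2] using h3

end Smooth

theorem formallyEtale_of_kaehler (K AK RK B : Type u) [CommRing K] [CommRing AK] [CommRing RK]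
    [CommRing B] [Algebra K AK] [Algebra K RK] [Algebra K B] [Algebra AK B] [Algebra RK B]
    [IsScalarTower K AK B] [IsScalarTower K RK B] [Algebra.FormallyEtale RK B]
    [Algebra.Smooth K AK] [Algebra.Smooth K RK] {d : ℕ}
    (hA : ∀ q, Module.rankAtStalk (R := AK) (Ω[AK⁄K]) q = d)
    (hR : ∀ q, Module.rankAtStalk (R := RK) (Ω[RK⁄K]) q = d)
    [Subsingleton (Ω[B⁄AK])] : Algebra.FormallyEtale AK B := by
  haveI : Algebra.FormallySmooth K B := Algebra.FormallySmooth.comp K RK B
  have e := KaehlerDifferential.tensorKaehlerEquivOfFormallyEtale K RK B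
  haveI : Module.Finite B (Ω[B⁄K]) := Module.Finite.equiv e
  haveI : Module.Flat B (Ω[B⁄K]) := Module.Flat.of_linearEquiv e.symm
  have hsurj : Function.Surjective (KaehlerDifferential.mapBaseChange K AK B) := by
    intro x
    exact ((KaehlerDifferential.exact_mapBaseChange_map K AK B) x).mp (Subsingleton.elim _ _)
  have hbij : Function.Bijective (KaehlerDifferential.mapBaseChange K AK B) := by
    refine Module.bijective_of_surjective_of_rankAtStalk_eq hsurj fun m _ => ?_
    rw [← congrFun (Module.rankAtStalk_eq_of_equiv e) ⟨m, inferInstance⟩,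
      Module.rankAtStalk_baseChange, Module.rankAtStalk_baseChange, hA, hR]
  refine ⟨inferInstance, ⟨fun x y => ?_⟩⟩
  suffices ∀ z : Algebra.H1Cotangent AK B, z = 0 by rw [this x, this y]
  intro z
  have hz : Algebra.H1Cotangent.δ K AK B z = 0 := hbij.1 (by
    rw [map_zero]
    exact (Algebra.H1Cotangent.exact_δ_mapBaseChange K AK B).apply_apply_eq_zero z)
  obtain ⟨w, rfl⟩ := ((Algebra.H1Cotangent.exact_map_δ K AK B) z).mp hz
  rw [Subsingleton.elim w 0, map_zero]

theorem main (V : Type u) [CommRing V] [IsDomain V]
    (A : Type u) [CommRing A] [Algebra V A] [Algebra.FiniteType V A]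
    (R : Type u) [CommRing R] [Algebra V R] [Algebra.FiniteType V R] [Algebra A R]
    [IsScalarTower V A R] (B : Type u) [CommRing B] [Algebra R B] [Algebra A B] [Algebra V B]
    [IsScalarTower A R B] [IsScalarTower V R B] [IsScalarTower V A B]
    [Algebra.FormallyEtale R B]
    (hu : ∀ v : nonZeroDivisors V, IsUnit (algebraMap V B v))
    (hΩ : Subsingleton (Ω[B⁄A])) {d : ℕ}
    (h1 : SmoothOfRelativeDimension d
        (Spec.map (CommRingCat.ofHom (algebraMap (FractionRing V) (FractionRing V ⊗[V] A)))))
    (h2 : SmoothOfRelativeDimension d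
        (Spec.map (CommRingCat.ofHom (algebraMap (FractionRing V) (FractionRing V ⊗[V] R))))) :
    Algebra.FormallyEtale A B := by
  letI : Algebra (FractionRing V) B := (IsLocalization.lift hu).toAlgebra
  haveI : IsScalarTower V (FractionRing V) B := IsScalarTower.of_algebraMap_eq fun v =>
    (IsLocalization.lift_eq hu v).symm
  let fA : FractionRing V ⊗[V] A →ₐ[FractionRing V] B :=
    Algebra.TensorProduct.lift (Algebra.ofId _ _) (IsScalarTower.toAlgHom V A B) (fun _ _ => .all _ _)
  let fR : FractionRing V ⊗[V] R →ₐ[FractionRing V] B :=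
    Algebra.TensorProduct.lift (Algebra.ofId _ _) (IsScalarTower.toAlgHom V R B) (fun _ _ => .all _ _)
  letI : Algebra (FractionRing V ⊗[V] A) B := fA.toRingHom.toAlgebra
  letI : Algebra (FractionRing V ⊗[V] R) B := fR.toRingHom.toAlgebra
  haveI : IsScalarTower (FractionRing V) (FractionRing V ⊗[V] A) B :=
    IsScalarTower.of_algebraMap_eq fun k => (fA.commutes k).symm
  haveI : IsScalarTower (FractionRing V) (FractionRing V ⊗[V] R) B :=
    IsScalarTower.of_algebraMap_eq fun k => (fR.commutes k).symm
  haveI : IsScalarTower A (FractionRing V ⊗[V] A) B := IsScalarTower.of_algebraMap_eq fun a => by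
    show algebraMap A B a = fA (1 ⊗ₜ a)
    simp [fA]
  haveI : IsScalarTower R (FractionRing V ⊗[V] R) B := IsScalarTower.of_algebraMap_eq fun a => by
    show algebraMap R B a = fR (1 ⊗ₜ a)
    simp [fR]
  haveI : Algebra.FormallyEtale V (FractionRing V) :=
    Algebra.FormallyEtale.of_isLocalization (nonZeroDivisors V)
  haveI : Algebra.FormallyEtale A (FractionRing V ⊗[V] A) :=
    Algebra.FormallyEtale.of_equiv (Algebra.TensorProduct.commRight V A (FractionRing V))
  haveI : Algebra.FormallyEtale R (FractionRing V ⊗[V] R) :=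
    Algebra.FormallyEtale.of_equiv (Algebra.TensorProduct.commRight V R (FractionRing V))
  haveI : Algebra.FormallyEtale (FractionRing V ⊗[V] R) B :=
    Algebra.FormallyEtale.of_restrictScalars (R := R)
  haveI := formallySmooth_of_spec _ _ h1
  haveI := formallySmooth_of_spec _ _ h2
  haveI : Subsingleton (Ω[B⁄(FractionRing V ⊗[V] A)]) :=
    (KaehlerDifferential.map_surjective A (FractionRing V ⊗[V] A) B).subsingleton
  haveI := formallyEtale_of_kaehler (FractionRing V) (FractionRing V ⊗[V] A)
    (FractionRing V ⊗[V] R) B (rankAtStalk_of_spec _ _ h1) (rankAtStalk_of_spec _ _ h2)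
  exact Algebra.FormallyEtale.comp A (FractionRing V ⊗[V] A) B

/-- Let V be a discrete valuation ring of characteristic zero with uniformizer ϖ, whose residue field k
is perfect of characteristic p > 0, and let A → R be a homomorphism of V-algebras of finite type,
viewed as a morphism f : Spec R → Spec A of schemes of finite type over Spec V. Say f is η-étale
when there is an open neighbourhood of the closed fibre of Spec R on whose generic fibre f is étale;
for affine Spec R this means: some a ∈ R with (a) + (ϖ) = R has R[1/(aϖ)] étale over A. First: if f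
is η-étale then for some n ≥ 0 the submodule p^n Ω_{R/A} of the module of differentials is contained
in ϖ p^n Ω_{R/A} (that is, p^n Ω_{R/A} vanishes along the closed fibre). Conversely: if the generic
fibres Spec(K ⊗_V A) and Spec(K ⊗_V R) are both smooth over K of the same relative dimension d, K
the fraction field of V, then such an n forces f to be η-étale. (The published statement is for
arbitrary schemes X → Y of finite type over V and also lists an intermediate equivalent condition,
that the restriction of p^n Ω_{X/Y} to the closed fibre as an abelian sheaf vanishes for some n;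
this row is the case of affine schemes and states the other two conditions.) -/
theorem result (V : Type u) [CommRing V] [IsDomain V] [IsDiscreteValuationRing V] [CharZero V]
    (ϖ : V) (hϖ : Irreducible ϖ) (p : ℕ) [Fact p.Prime] [CharP (IsLocalRing.ResidueField V) p]
    [PerfectField (IsLocalRing.ResidueField V)]
    (A : Type u) [CommRing A] [Algebra V A] [Algebra.FiniteType V A]
    (R : Type u) [CommRing R] [Algebra V R] [Algebra.FiniteType V R] [Algebra A R] [IsScalarTower V A R] :
    ((∃ a : R, Ideal.span {a} ⊔ Ideal.span {algebraMap V R ϖ} = ⊤ ∧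
        ((algebraMap R (Localization.Away (a * algebraMap V R ϖ))).comp (algebraMap A R)).Etale) →
      ∃ n : ℕ, Ideal.span {((p : R)) ^ n} • (⊤ : Submodule R (Ω[R⁄A])) ≤
        Ideal.span {algebraMap V R ϖ * (p : R) ^ n} • (⊤ : Submodule R (Ω[R⁄A]))) ∧
    (∀ d : ℕ, SmoothOfRelativeDimension d
        (Spec.map (CommRingCat.ofHom (algebraMap (FractionRing V) (FractionRing V ⊗[V] A)))) →
      SmoothOfRelativeDimension d
        (Spec.map (CommRingCat.ofHom (algebraMap (FractionRing V) (FractionRing V ⊗[V] R)))) →
      (∃ n : ℕ, Ideal.span {((p : R)) ^ n} • (⊤ : Submodule R (Ω[R⁄A])) ≤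
        Ideal.span {algebraMap V R ϖ * (p : R) ^ n} • (⊤ : Submodule R (Ω[R⁄A]))) →
      ∃ a : R, Ideal.span {a} ⊔ Ideal.span {algebraMap V R ϖ} = ⊤ ∧
        ((algebraMap R (Localization.Away (a * algebraMap V R ϖ))).comp (algebraMap A R)).Etale) := by
  have hpV : (p : V) ≠ 0 := Nat.cast_ne_zero.mpr (Fact.out : p.Prime).ne_zero
  obtain ⟨e, u, hu⟩ := IsDiscreteValuationRing.eq_unit_mul_pow_irreducible hpV hϖ
  have hpu : ¬ IsUnit (p : V) := fun h => by
    have := h.map (IsLocalRing.residue V)
    simp at this
  have he : 1 ≤ e := by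
    rcases Nat.eq_zero_or_pos e with rfl | h
    · simp at hu
      exact absurd (hu ▸ u.isUnit) hpu
    · exact h
  haveI : Algebra.FiniteType A R := Algebra.FiniteType.of_restrictScalars_finiteType V A R
  haveI : Module.Finite R (Ω[R⁄A]) := inferInstance
  set ϖR := algebraMap V R ϖ with hϖR
  have hpR : (p : R) = algebraMap V R u * ϖR ^ e := by
    rw [← map_natCast (algebraMap V R) p, hu, map_mul, map_pow]
  have hB : ∀ b : R, ∀ v : nonZeroDivisors V,
      IsUnit (algebraMap R (Localization.Away (b * ϖR)) (algebraMap V R v)) := by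
    intro b v
    obtain ⟨m, w, hw⟩ := IsDiscreteValuationRing.eq_unit_mul_pow_irreducible
      (nonZeroDivisors.ne_zero v.2) hϖ
    rw [hw, map_mul, map_mul, map_pow, map_pow]
    refine IsUnit.mul ((w.isUnit.map _).map _) (IsUnit.pow _ ?_)
    have h := IsLocalization.Away.algebraMap_isUnit (S := Localization.Away (b * ϖR)) (b * ϖR)
    rw [map_mul] at h
    exact (IsUnit.mul_iff.mp h).2
  refine ⟨?_, ?_⟩
  · rintro ⟨a, ha, hE⟩
    rw [← IsScalarTower.algebraMap_eq A R (Localization.Away (a * ϖR)),
      RingHom.etale_algebraMap] at hE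
    haveI := hE
    haveI : Algebra.FormallyEtale R (Localization.Away (a * ϖR)) :=
      Algebra.FormallyEtale.of_isLocalization (Submonoid.powers (a * ϖR))
    haveI : Subsingleton (Ω[(Localization.Away (a * ϖR))⁄A]) :=
      Algebra.FormallyUnramified.subsingleton_kaehlerDifferential
    haveI : Subsingleton (Localization.Away (a * ϖR) ⊗[R] Ω[R⁄A]) :=
      (KaehlerDifferential.tensorKaehlerEquivOfFormallyEtale A R
        (Localization.Away (a * ϖR))).toEquiv.subsingleton
    haveI : Subsingleton (LocalizedModule (Submonoid.powers (a * ϖR)) (Ω[R⁄A])) :=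
      ((IsBaseChange.equiv (IsLocalizedModule.isBaseChange (Submonoid.powers (a * ϖR))
        (Localization.Away (a * ϖR))
        (LocalizedModule.mkLinearMap (Submonoid.powers (a * ϖR)) (Ω[R⁄A])))).symm).toEquiv.subsingleton
    obtain ⟨r, hr, hr0⟩ : ∃ r ∈ Submonoid.powers (a * ϖR), ∀ x : Ω[R⁄A], r • x = 0 := by
      obtain ⟨t, ht⟩ := Module.Finite.fg_top (R := R) (M := Ω[R⁄A])
      have hx : ∀ x : Ω[R⁄A], ∃ N : ℕ, (a * ϖR) ^ N • x = 0 := by
        intro x
        obtain ⟨r, ⟨N, rfl⟩, h⟩ :=
          (LocalizedModule.subsingleton_iff (S := Submonoid.powers (a * ϖR)) (M := Ω[R⁄A])).mp inferInstance x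
        exact ⟨N, h⟩
      choose N hN using hx
      refine ⟨(a * ϖR) ^ t.sup N, ⟨_, rfl⟩, fun x => ?_⟩
      have hx : x ∈ Submodule.span R (t : Set (Ω[R⁄A])) := by rw [ht]; trivial
      induction hx using Submodule.span_induction with
      | mem y hy =>
        rw [← Nat.sub_add_cancel (Finset.le_sup (f := N) (Finset.mem_coe.mp hy)), pow_add,
          mul_smul, hN, smul_zero]
      | zero => simp
      | add y z _ _ hy hz => rw [smul_add, hy, hz, add_zero]
      | smul c y _ hy => rw [smul_comm, hy, smul_zero]
    obtain ⟨N, rfl⟩ := hr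
    refine ⟨N, ?_⟩
    rw [Submodule.ideal_span_singleton_smul, Submodule.ideal_span_singleton_smul]
    rintro y ⟨x, -, rfl⟩
    have hcop : IsCoprime a ϖR := (Ideal.isCoprime_span_singleton_iff a ϖR).mp
      (Ideal.isCoprime_iff_sup_eq.mpr ha)
    obtain ⟨b, c, hbc⟩ := hcop.pow_left (m := N)
    have hz : (a ^ N * (p : R) ^ N) • x = 0 := by
      have : (a ^ N * (p : R) ^ N) =
          (algebraMap V R u) ^ N * ϖR ^ ((e - 1) * N) * (a * ϖR) ^ N := by
        rw [hpR, mul_pow, mul_pow, ← pow_mul]
        have : e * N = (e - 1) * N + N := by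
          rw [← Nat.succ_mul, Nat.succ_eq_add_one, Nat.sub_add_cancel he]
        rw [this, pow_add]
        ring
      rw [this, mul_smul, hr0, smul_zero]
    refine ⟨c • x, Submodule.mem_top, ?_⟩
    simp only [DistribSMul.toLinearMap_apply]
    calc (ϖR * (p : R) ^ N) • c • x = ((c * ϖR) * (p : R) ^ N) • x := by rw [smul_smul]; ring_nf
      _ = ((p : R) ^ N) • x - b • ((a ^ N * (p : R) ^ N) • x) := by
        rw [eq_sub_of_add_eq' hbc, smul_smul, ← sub_smul]; ring_nf
      _ = _ := by rw [hz, smul_zero, sub_zero]
  · intro d h1 h2 ⟨n, hn⟩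
    have hle : Ideal.span {(p : R) ^ n} • (⊤ : Submodule R (Ω[R⁄A])) ≤
        Ideal.span {ϖR} • (Ideal.span {(p : R) ^ n} • (⊤ : Submodule R (Ω[R⁄A]))) := by
      rw [← Submodule.smul_assoc, smul_eq_mul, Ideal.span_singleton_mul_span_singleton]
      exact hn
    obtain ⟨a, ha, ha0⟩ := Submodule.exists_sub_one_mem_and_smul_eq_zero_of_fg_of_le_smul
      (Ideal.span {ϖR}) (Ideal.span {(p : R) ^ n} • (⊤ : Submodule R (Ω[R⁄A])))
      (Submodule.FG.smul (Submodule.fg_span_singleton _) Module.Finite.fg_top) hle
    refine ⟨a, ?_, ?_⟩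
    · rw [Ideal.eq_top_iff_one]
      have : (1 : R) = a - (a - 1) := by ring
      rw [this]
      exact Submodule.sub_mem _ (Ideal.mem_sup_left (Ideal.mem_span_singleton_self a))
        (Ideal.mem_sup_right ha)
    rw [← IsScalarTower.algebraMap_eq A R (Localization.Away (a * ϖR)),
      RingHom.etale_algebraMap]
    haveI : Algebra.FormallyEtale R (Localization.Away (a * ϖR)) :=
      Algebra.FormallyEtale.of_isLocalization (Submonoid.powers (a * ϖR))
    have hu : ∀ v : nonZeroDivisors V, IsUnit (algebraMap V (Localization.Away (a * ϖR)) v) := by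
      intro v
      rw [IsScalarTower.algebraMap_apply V R (Localization.Away (a * ϖR))]
      exact hB a v
    have hΩ : Subsingleton (Ω[(Localization.Away (a * ϖR))⁄A]) := by
      suffices Subsingleton (Localization.Away (a * ϖR) ⊗[R] Ω[R⁄A]) from
        (KaehlerDifferential.tensorKaehlerEquivOfFormallyEtale A R
          (Localization.Away (a * ϖR))).symm.toEquiv.subsingleton
      refine subsingleton_of_forall_eq 0 fun z => ?_
      induction z using TensorProduct.induction_on with
      | zero => rfl
      | add y z hy hz => rw [hy, hz, add_zero]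
      | tmul y x =>
        have hz : (a * (p : R) ^ n) • x = 0 := by
          rw [mul_smul]
          exact ha0 _ (Submodule.smul_mem_smul (Ideal.mem_span_singleton_self _) Submodule.mem_top)
        have hunit : IsUnit (algebraMap R (Localization.Away (a * ϖR)) (a * (p : R) ^ n)) := by
          rw [map_mul, map_pow]
          refine IsUnit.mul ?_ (IsUnit.pow _ ?_)
          · have h := IsLocalization.Away.algebraMap_isUnit (S := Localization.Away (a * ϖR)) (a * ϖR)
            rw [map_mul] at h
            exact (IsUnit.mul_iff.mp h).1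
          · rw [← map_natCast (algebraMap V R) p]
            exact hB a ⟨(p : V), mem_nonZeroDivisors_of_ne_zero hpV⟩
        obtain ⟨w, hw⟩ := hunit.exists_left_inv
        have : y = (a * (p : R) ^ n) • (w * y) := by
          rw [Algebra.smul_def, ← mul_assoc, mul_comm _ w, hw, one_mul]
        rw [this, TensorProduct.smul_tmul, hz, TensorProduct.tmul_zero]
    haveI := main V A R (Localization.Away (a * ϖR)) hu hΩ h1 h2
    haveI : IsNoetherianRing A := Algebra.FiniteType.isNoetherianRing V A
    haveI : Algebra.FinitePresentation R (Localization.Away (a * ϖR)) :=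
      IsLocalization.Away.finitePresentation (a * ϖR)
    haveI : Algebra.FiniteType A (Localization.Away (a * ϖR)) :=
      Algebra.FiniteType.trans (inferInstance : Algebra.FiniteType A R) inferInstance
    haveI : Algebra.FinitePresentation A (Localization.Away (a * ϖR)) :=
      Algebra.FinitePresentation.of_finiteType.mp inferInstance
    exact ⟨inferInstance, inferInstance⟩

end Groth.Agent.S14383
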