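import Groth.Statements.S14386
import Groth.Agent.SemiNode.Basic
-- import your own Groth.Agent.* helpers here

set_option autoImplicit false
universe u
open CAlg

namespace Groth.Agent.S14386

open Polynomial Groth.Agent.SemiNode in
theorem not_quasiFinite {V : Type u} [CommRing V] [IsDomain V] [IsLocalRing V]
    [CharZero (IsLocalRing.ResidueField V)] (ϖ : V) (hm : IsLocalRing.maximalIdeal V = Ideal.span {ϖ})
    (h : Ring' ϖ) (hh : h ∉ Ideal.span {gen ϖ 0, gen ϖ 1})
    (δ : Derivation V (Localization.Away h) (Localization.Away h))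
    (hδ0 : δ (loc ϖ h 0) = loc ϖ h 0) (hδ1 : δ (loc ϖ h 1) = - loc ϖ h 1)
    (f : Localization.Away h) (i j : Fin 2) (hij : i ≠ j) (hf : δ f ∈ Ideal.span {loc ϖ h i}) :
    ¬ (Polynomial.aeval f : V[X] →ₐ[V] Localization.Away h).toRingHom.QuasiFinite := by
  let B := Localization.Away h
  let β := branch ϖ (mem_max ϖ hm) i
  let K : Ideal (Ring' ϖ) := RingHom.ker ((evalRingHom 0).comp β.toRingHom)
  haveI hKp : K.IsPrime := RingHom.ker_isPrime _
  have hK : K = Ideal.span {gen ϖ i, gen ϖ j} := Ideal.ext fun g => eval_branch_eq_zero_iff ϖ hm hij g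
  have hhK : h ∉ K := by rwa [hK, span_gen ϖ hij]
  have hdK : Disjoint (Submonoid.powers h : Set (Ring' ϖ)) (K : Set (Ring' ϖ)) :=
    (Ideal.disjoint_powers_iff_notMem _ hKp.isRadical).2 hhK
  have hP := isPrime_gen ϖ hm hij
  have hiK : Ideal.span {gen ϖ i} ≤ K := hK ▸ Ideal.span_mono (by simp)
  have hdP : Disjoint (Submonoid.powers h : Set (Ring' ϖ)) (Ideal.span {gen ϖ i} : Ideal (Ring' ϖ)) :=
    hdK.mono_right hiK
  let J : Ideal B := (Ideal.span {gen ϖ i}).map (algebraMap (Ring' ϖ) B)
  let M : Ideal B := K.map (algebraMap (Ring' ϖ) B)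
  haveI : J.IsPrime := IsLocalization.isPrime_of_isPrime_disjoint (Submonoid.powers h) B _ hP hdP
  haveI : M.IsPrime := IsLocalization.isPrime_of_isPrime_disjoint (Submonoid.powers h) B _ hKp hdK
  have hJ : J = Ideal.span {loc ϖ h i} := by
    show (Ideal.span {gen ϖ i}).map _ = _
    rw [Ideal.map_span, Set.image_singleton]
  obtain ⟨c, hc, hc2⟩ : ∃ c : IsLocalRing.ResidueField V, c ≠ 0 ∧ ∀ g, ∃ r : Ring' ϖ,
      δ (algebraMap (Ring' ϖ) B g) = algebraMap (Ring' ϖ) B r ∧ β r = C c * X * derivative (β g) := by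
    let s : Fin 2 → V := ![1, -1]
    have hsl : ∀ l, δ (loc ϖ h l) = s l • loc ϖ h l := fun l => by
      fin_cases l
      · simpa [s] using hδ0
      · simpa [s] using hδ1
    refine ⟨IsLocalRing.residue V (s j), ?_, fun g => ?_⟩
    · fin_cases j <;> simp [s]
    obtain ⟨G, rfl⟩ := Ideal.Quotient.mk_surjective g
    induction G using MvPolynomial.induction_on with
    | C a =>
      refine ⟨0, ?_, ?_⟩
      · rw [show Ideal.Quotient.mk (ideal ϖ) (MvPolynomial.C a) = algebraMap V (Ring' ϖ) a from rfl,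
          ← IsScalarTower.algebraMap_apply, Derivation.map_algebraMap, map_zero]
      · rw [show Ideal.Quotient.mk (ideal ϖ) (MvPolynomial.C a) = algebraMap V (Ring' ϖ) a from rfl,
          AlgHom.commutes, map_zero, IsScalarTower.algebraMap_apply V (IsLocalRing.ResidueField V) _]
        simp
    | add p q hp hq =>
      obtain ⟨a, ha, ha'⟩ := hp; obtain ⟨b, hb, hb'⟩ := hq
      exact ⟨a + b, by rw [map_add, map_add, map_add, map_add, ha, hb],
        by rw [map_add, map_add, map_add, derivative_add, ha', hb', mul_add]⟩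
    | mul_X p l hp =>
      obtain ⟨r, hr, hr'⟩ := hp
      refine ⟨Ideal.Quotient.mk _ p * (algebraMap V _ (s l) * gen ϖ l) + gen ϖ l * r, ?_, ?_⟩
      · rw [map_mul, map_mul, Derivation.leibniz, smul_eq_mul, smul_eq_mul, hr, map_add, map_mul, map_mul, map_mul,
          ← IsScalarTower.algebraMap_apply,
          show δ (algebraMap (Ring' ϖ) B (Ideal.Quotient.mk (ideal ϖ) (MvPolynomial.X l))) = algebraMap V B (s l) * loc ϖ h l from
            (hsl l).trans (Algebra.smul_def _ _)]
      · rw [map_add, map_mul, map_mul, map_mul, map_mul (Ideal.Quotient.mk _), map_mul β, AlgHom.commutes, hr']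
        rw [show β (gen ϖ l) = _ from branch_gen ϖ hm i l, IsScalarTower.algebraMap_apply V (IsLocalRing.ResidueField V) _]
        show _ * (C (IsLocalRing.residue V (s l)) * _) + _ = _
        split_ifs with hl
        · simp
        · obtain rfl : l = j := by omega
          rw [derivative_mul, derivative_X]
          ring
  obtain ⟨g, d, rfl⟩ := IsLocalization.exists_mk'_eq (Submonoid.powers h) f
  set f := IsLocalization.mk' B g d with hfdef
  obtain ⟨rg, hrg, hrg'⟩ := hc2 g
  obtain ⟨rd, hrd, hrd'⟩ := hc2 d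
  have hmem : algebraMap (Ring' ϖ) B (rg * (d : Ring' ϖ) - g * rd) ∈ J := by
    have h1 := congrArg δ (IsLocalization.mk'_spec B g d)
    rw [Derivation.leibniz, hrg, hrd, smul_eq_mul, smul_eq_mul] at h1
    have h2 : algebraMap (Ring' ϖ) B (rg * (d : Ring' ϖ) - g * rd) =
        δ f * algebraMap (Ring' ϖ) B (d : Ring' ϖ) * algebraMap (Ring' ϖ) B (d : Ring' ϖ) := by
      rw [map_sub, map_mul, map_mul, ← h1, ← IsLocalization.mk'_spec B g d]
      ring
    rw [h2, hJ]
    exact Ideal.mul_mem_right _ _ (Ideal.mul_mem_right _ _ hf)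
  have h3 := (IsLocalization.under_map_of_isPrime_disjoint (Submonoid.powers h) B hP hdP).le hmem
  obtain ⟨e, he⟩ := Ideal.mem_span_singleton'.1 h3
  have h4 := congrArg β he
  rw [map_mul, map_sub, map_mul, map_mul, show β (gen ϖ i) = _ from branch_gen ϖ hm i i, if_pos rfl, mul_zero,
    hrg', hrd'] at h4
  have hd0 : β (d : Ring' ϖ) ≠ 0 := fun h0 => Set.disjoint_left.1 hdP d.2 (mem_span_of_branch ϖ hm hij _ h0)
  obtain ⟨c₀, hc₀⟩ := exists_const_of_wronskian (β g) (β (d : Ring' ϖ)) hd0 (sub_eq_zero.1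
    ((mul_eq_zero.1 (show (C c * X) * (derivative (β g) * β (d : Ring' ϖ) - β g * derivative (β (d : Ring' ϖ))) = 0 by
      linear_combination -h4)).resolve_left (mul_ne_zero (C_ne_zero.2 hc) X_ne_zero)))
  obtain ⟨a, rfl⟩ := IsLocalRing.residue_surjective c₀
  have hfa : f - algebraMap V B a ∈ J := by
    have h5 : g - algebraMap V _ a * (d : Ring' ϖ) ∈ Ideal.span {gen ϖ i} := mem_span_of_branch ϖ hm hij _ (by
      show β _ = 0
      rw [map_sub, map_mul, AlgHom.commutes, hc₀, IsScalarTower.algebraMap_apply V (IsLocalRing.ResidueField V) _]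
      exact sub_self _)
    have h6 : (f - algebraMap V B a) * algebraMap (Ring' ϖ) B (d : Ring' ϖ) ∈ J := by
      have h6 := Ideal.mem_map_of_mem (algebraMap (Ring' ϖ) B) h5
      rwa [map_sub, map_mul, ← IsScalarTower.algebraMap_apply, ← IsLocalization.mk'_spec B g d, ← sub_mul] at h6
    exact (Ideal.mul_unit_mem_iff_mem _ (IsLocalization.map_units B d)).1 h6
  intro hqf
  letI : Algebra V[X] B := (Polynomial.aeval f : V[X] →ₐ[V] B).toRingHom.toAlgebra
  haveI : Algebra.QuasiFinite V[X] B := hqf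
  have hJM : J ≤ M := Ideal.map_mono hiK
  have hϖJ : algebraMap V B ϖ ∈ J := by
    rw [IsScalarTower.algebraMap_apply V (Ring' ϖ) B, ← gen_mul ϖ i j hij]
    exact Ideal.mem_map_of_mem _ (Ideal.mul_mem_right _ _ (Ideal.mem_span_singleton_self _))
  have hunder : J.under V[X] = M.under V[X] := by
    refine le_antisymm (Ideal.comap_mono hJM) fun q hq => ?_
    change Polynomial.aeval f q ∈ M at hq
    show Polynomial.aeval f q ∈ J
    obtain ⟨w, hw⟩ := X_sub_C_dvd_sub_C_eval (p := q) (a := a)
    have h7 : Polynomial.aeval f q - algebraMap V B (q.eval a) ∈ J := by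
      have h8 := congrArg (Polynomial.aeval f) hw
      rw [map_sub, aeval_C, map_mul, map_sub, aeval_X, aeval_C] at h8
      rw [h8]
      exact Ideal.mul_mem_right _ _ hfa
    have h9 : q.eval a ∈ IsLocalRing.maximalIdeal V := by
      by_contra hu
      have h10 : algebraMap V B (q.eval a) ∈ M := by
        have := sub_mem hq (hJM h7)
        rwa [sub_sub_cancel] at this
      exact Ideal.IsPrime.ne_top inferInstance (Ideal.eq_top_of_isUnit_mem M h10
        ((IsLocalRing.notMem_maximalIdeal.1 hu).map _))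
    rw [hm, Ideal.mem_span_singleton'] at h9
    obtain ⟨v, hv⟩ := h9
    rw [← sub_add_cancel (Polynomial.aeval f q) (algebraMap V B (q.eval a)), ← hv, map_mul]
    rw [← hv, map_mul] at h7
    exact add_mem h7 (Ideal.mul_mem_left _ _ hϖJ)
  have hne := Algebra.QuasiFinite.eq_of_le_of_under_eq J M hJM hunder
  have hjJ : loc ϖ h j ∈ J := by
    rw [hne]
    exact Ideal.mem_map_of_mem _ (by rw [hK]; exact Ideal.subset_span (by simp))
  obtain ⟨e', he'⟩ := Ideal.mem_span_singleton'.1
    ((IsLocalization.under_map_of_isPrime_disjoint (Submonoid.powers h) B hP hdP).le hjJ)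
  have h11 := congrArg β he'
  rw [map_mul, show β (gen ϖ i) = _ from branch_gen ϖ hm i i, show β (gen ϖ j) = _ from branch_gen ϖ hm i j,
    if_pos rfl, if_neg (Ne.symm hij), mul_zero] at h11
  exact X_ne_zero h11.symm

set_option maxHeartbeats 2000000 in
/-- Let V be a discrete valuation ring of characteristic zero with uniformizer ϖ and perfect residue
field k, let Q = V[x, y]/(xy − ϖ) be the coordinate ring of the standard semistable node over V and
P its closed point x = y = 0 of the closed fibre, let h ∈ Q with h ∉ (x, y), so that B = Q[1/h] is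
the ring of an open neighbourhood of P, and let f ∈ B define a morphism to the affine line over V
which is étale on the generic fibre: B[1/ϖ] is étale over V[T] via T ↦ f. Then df vanishes
identically on one of the two components x = 0, y = 0 of the closed fibre of Spec B: the
differential of the image of f in Ω_{(B/xB)/V} is zero or the differential of the image of f in
Ω_{(B/yB)/V} is zero. If moreover k has characteristic zero, then f contracts that component and the
morphism is not quasi-finite: V[T] → B, T ↦ f, is not a quasi-finite ring map. -/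
theorem result (V : Type u) [CommRing V] [IsDomain V] [IsDiscreteValuationRing V] [CharZero V]
    [PerfectField (IsLocalRing.ResidueField V)] (ϖ : V) (hϖ : Irreducible ϖ)
    (h : (MvPolynomial (Fin 2) V ⧸ Ideal.span {(MvPolynomial.X 0 * MvPolynomial.X 1 - MvPolynomial.C ϖ : MvPolynomial (Fin 2) V)}))
    (hh : h ∉ Ideal.span ({(Ideal.Quotient.mk (Ideal.span {(MvPolynomial.X 0 * MvPolynomial.X 1 - MvPolynomial.C ϖ : MvPolynomial (Fin 2) V)}) (MvPolynomial.X 0 : MvPolynomial (Fin 2) V)), (Ideal.Quotient.mk (Ideal.span {(MvPolynomial.X 0 * MvPolynomial.X 1 - MvPolynomial.C ϖ : MvPolynomial (Fin 2) V)}) (MvPolynomial.X 1 : MvPolynomial (Fin 2) V))} : Set (MvPolynomial (Fin 2) V ⧸ Ideal.span {(MvPolynomial.X 0 * MvPolynomial.X 1 - MvPolynomial.C ϖ : MvPolynomial (Fin 2) V)})))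
    (f : Localization.Away h)
    (hf : ((algebraMap (Localization.Away h)
        (Localization.Away (algebraMap V (Localization.Away h) ϖ))).comp
          (Polynomial.aeval f : Polynomial V →ₐ[V] Localization.Away h).toRingHom).Etale) :
    (KaehlerDifferential.D V (Localization.Away h ⧸ Ideal.span
        ({algebraMap (MvPolynomial (Fin 2) V ⧸ Ideal.span {(MvPolynomial.X 0 * MvPolynomial.X 1 - MvPolynomial.C ϖ : MvPolynomial (Fin 2) V)}) (Localization.Away h) (Ideal.Quotient.mk (Ideal.span {(MvPolynomial.X 0 * MvPolynomial.X 1 - MvPolynomial.C ϖ : MvPolynomial (Fin 2) V)}) (MvPolynomial.X 0 : MvPolynomial (Fin 2) V))} : Set (Localization.Away h)))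
        (Ideal.Quotient.mk _ f) = 0 ∨
     KaehlerDifferential.D V (Localization.Away h ⧸ Ideal.span
        ({algebraMap (MvPolynomial (Fin 2) V ⧸ Ideal.span {(MvPolynomial.X 0 * MvPolynomial.X 1 - MvPolynomial.C ϖ : MvPolynomial (Fin 2) V)}) (Localization.Away h) (Ideal.Quotient.mk (Ideal.span {(MvPolynomial.X 0 * MvPolynomial.X 1 - MvPolynomial.C ϖ : MvPolynomial (Fin 2) V)}) (MvPolynomial.X 1 : MvPolynomial (Fin 2) V))} : Set (Localization.Away h)))
        (Ideal.Quotient.mk _ f) = 0) ∧
    (CharZero (IsLocalRing.ResidueField V) →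
      ¬ (Polynomial.aeval f : Polynomial V →ₐ[V] Localization.Away h).toRingHom.QuasiFinite) := by
  have hm := hϖ.maximalIdeal_eq
  obtain ⟨δ, hδ0, hδ1⟩ := Groth.Agent.SemiNode.exists_derivation ϖ h
  rcases Groth.Agent.SemiNode.deriv_mem ϖ h hm hϖ.ne_zero hh δ hδ0 hδ1 f hf with hd | hd
  · refine ⟨Or.inl (Groth.Agent.SemiNode.D_quot_eq_zero ϖ h hm (show (0 : Fin 2) ≠ 1 by decide) hh δ
      (by rw [hδ0]; exact Ideal.mem_span_singleton_self _) (Or.inr hδ1) f hd), fun _ => ?_⟩
    exact not_quasiFinite ϖ hm h hh δ hδ0 hδ1 f 0 1 (by decide) hd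
  · refine ⟨Or.inr (Groth.Agent.SemiNode.D_quot_eq_zero ϖ h hm (show (1 : Fin 2) ≠ 0 by decide) hh δ
      (by rw [hδ1]; exact neg_mem (Ideal.mem_span_singleton_self _)) (Or.inl hδ0) f hd), fun _ => ?_⟩
    exact not_quasiFinite ϖ hm h hh δ hδ0 hδ1 f 1 0 (by decide) hd

end Groth.Agent.S14386
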