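import Groth.Statements.S1439
import Groth.Agent.MorLib.WeightAffine
import Mathlib.Data.Finset.Sort

set_option autoImplicit false
universe u
open FlatMor

namespace Groth.Agent.S1439
set_option linter.style.haveILetI false
set_option backward.isDefEq.respectTransparency.types false


open AlgebraicGeometry CategoryTheory Limits in
/-- Let f : X → Y be surjective and quasi-finite with X affine and Y separated and nonempty, and let w
be a positive weighting of f. If the fibre integral of w along f takes exactly k distinct values,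
then Y has an affine stratification with index set {0, …, k − 1} (its affine stratification number
is at most k − 1). -/
theorem result {X Y : Scheme.{u}} (f : X ⟶ Y) [Surjective f] [LocallyQuasiFinite f] [LocallyOfFiniteType f] [QuasiCompact f]
    [IsAffine X] [Y.IsSeparated] [Nonempty ↑Y] (w : ↑X → ℤ) (hw : MoreMor.IsWeighting f w) (hpos : ∀ x, 0 < w x)
    (k : ℕ) (hk : (Set.range (MoreMor.fibreIntegral f w)).ncard = k) (hkfin : (Set.range (MoreMor.fibreIntegral f w)).Finite) :
    MoreMor.HasAffineStratification Y (k - 1) := by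
  classical
  haveI : IsAffineHom f := by
    haveI : IsAffineHom (f ≫ terminal.from Y) := inferInstance
    exact IsAffineHom.of_comp f (terminal.from Y)
  have hfin : ∀ y : Y, (f ⁻¹' {y}).Finite := fun y => f.finite_preimage_singleton y
  have hlsc := Groth.Agent.MorLib.WT.lowerSemicontinuous_fibreIntegral hfin hw hpos
  have hk0 : 0 < k := by
    rw [← hk]
    exact (Set.ncard_pos hkfin).mpr (Set.range_nonempty _)
  have hk1 : k - 1 + 1 = k := by omega
  have hcard : hkfin.toFinset.card = k - 1 + 1 := by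
    rw [← Set.ncard_eq_toFinset_card _ hkfin, hk, hk1]
  let o := hkfin.toFinset.orderIsoOfFin hcard
  let s : Y → Fin (k - 1 + 1) := fun y => o.symm ⟨MoreMor.fibreIntegral f w y, hkfin.mem_toFinset.mpr ⟨y, rfl⟩⟩
  have hle : ∀ y i, s y ≤ i ↔ MoreMor.fibreIntegral f w y ≤ (o i : ℤ) := fun y i => by
    rw [← o.le_iff_le, OrderIso.apply_symm_apply]
    rfl
  have hclosed : ∀ i, IsClosed {y : Y | s y ≤ i} := fun i => by
    simp only [hle]
    exact hlsc.isClosed_preimage _
  have heq : ∀ y i, s y = i ↔ MoreMor.fibreIntegral f w y = (o i : ℤ) := fun y i => by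
    rw [← o.injective.eq_iff, OrderIso.apply_symm_apply, Subtype.ext_iff]
  refine ⟨s, hclosed, fun i => ?_⟩
  let I := Scheme.IdealSheafData.vanishingIdeal ⟨_, hclosed i⟩
  let c := I.subschemeι
  have hc : Set.range c = {y : Y | s y ≤ i} := by
    rw [show Set.range c = _ from Scheme.IdealSheafData.range_subschemeι I]
    exact Scheme.IdealSheafData.coe_support_vanishingIdeal (X := Y) ⟨_, hclosed i⟩
  let f' := pullback.snd f c
  have sq : IsPullback (pullback.fst f c) f' f c := IsPullback.of_hasPullback f c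
  haveI : LocallyQuasiFinite f' := MorphismProperty.of_isPullback sq inferInstance
  haveI : LocallyOfFiniteType f' := MorphismProperty.of_isPullback sq inferInstance
  haveI : IsAffineHom f' := MorphismProperty.of_isPullback sq inferInstance
  haveI : Surjective f' := MorphismProperty.of_isPullback sq inferInstance
  haveI : IsAffine (pullback f c) := isAffine_of_isAffineHom (pullback.fst f c)
  let w' : ↑(pullback f c) → ℤ := w ∘ ⇑(pullback.fst f c)
  have hw' := Groth.Agent.MorLib.WT.isWeighting_baseChange hw sq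
  have hfin' : ∀ y, (f' ⁻¹' {y}).Finite := fun y => f'.finite_preimage_singleton y
  have hfi : ∀ y, MoreMor.fibreIntegral f' w' y = MoreMor.fibreIntegral f w (c y) := fun y =>
    Groth.Agent.MorLib.GF.fibreIntegral_baseChange sq w y (hfin _)
  obtain ⟨y₀, hy₀⟩ := hkfin.mem_toFinset.mp (o i).2
  have hnn : (0 : ℤ) < (o i : ℤ) := by
    rw [← hy₀]
    obtain ⟨x, rfl⟩ := f.surjective y₀
    exact Groth.Agent.MorLib.WT.fibreIntegral_pos hpos x (hfin _)
  let d : ℕ := (o i : ℤ).toNat
  have hd : (d : ℤ) = (o i : ℤ) := Int.toNat_of_nonneg hnn.le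
  have hmax : ∀ y, MoreMor.fibreIntegral f' w' y ≤ (d : ℤ) := fun y => by
    rw [hd, hfi, ← hle]
    exact hc.subset ⟨y, rfl⟩
  obtain ⟨hU, hUfin⟩ := Groth.Agent.MorLib.WT.finite_over_max hfin' hw' (fun _ => hpos _) (d : ℤ) hmax
  let U : I.subscheme.Opens := ⟨{y | MoreMor.fibreIntegral f' w' y = (d : ℤ)}, hU⟩
  haveI hUaff : IsAffineHom U.ι :=
    Groth.Agent.MorLib.WT.isAffineHom_maxLocus_aux d f' hfin' w' hw' (fun _ => hpos _) hmax U rfl
  haveI : IsFinite (f' ∣_ U) := hUfin
  haveI : Surjective (f' ∣_ U) := IsZariskiLocalAtTarget.restrict (P := @Surjective) (f := f') inferInstance U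
  haveI : (U : Scheme.{u}).IsSeparated := (Scheme.isSeparated_iff _).mpr (by
    rw [← terminal.comp_from (U.ι ≫ c)]; infer_instance)
  have hUX : IsAffineOpen (f' ⁻¹ᵁ U) := by
    haveI : IsAffineHom (f' ⁻¹ᵁ U).ι := MorphismProperty.of_isPullback (isPullback_morphismRestrict f' U).flip.flip hUaff
    exact isAffine_of_isAffineHom (f' ⁻¹ᵁ U).ι
  refine ⟨U, U.ι ≫ c, inferInstance, Groth.Agent.MorLib.WT.isAffineOpen_of_finite_preimage f' U hUX, inferInstance, ?_⟩
  ext y
  rw [Set.mem_ofPred_eq, heq]
  constructor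
  · rintro ⟨a, rfl⟩
    rw [Scheme.Hom.comp_apply, ← hfi, ← hd]
    exact a.2
  · intro hy
    obtain ⟨z, rfl⟩ : y ∈ Set.range c := by rw [hc]; exact (hle y i).mpr hy.le
    exact ⟨⟨z, show MoreMor.fibreIntegral f' w' z = d by rw [hfi, hd, hy]⟩, Scheme.Hom.comp_apply ..⟩


end Groth.Agent.S1439
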