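import Groth.Statements.S14397
import Mathlib.LinearAlgebra.Quotient.Basic
import Mathlib.Tactic

set_option autoImplicit false
universe u
open DualGr

namespace Groth.Agent.S14397

/-- Let (V, E) with endpoint map E → V × V be a finite multigraph (loops and parallel edges allowed; the
order of the two endpoints is an auxiliary orientation), and let D_1, …, D_n be finite sets of edges
such that every edge lies outside at least one D_i. For each i let Γ_i be the multigraph obtained by
contracting the edges of D_i, and let H₁(Γ, ℤ) → H₁(Γ_i, ℤ) be the map of cycle lattices (integer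
edge vectors with zero boundary) given by restriction to the surviving edges. Then the map H₁(Γ, ℤ)
→ ⊕_i H₁(Γ_i, ℤ) has torsion-free cokernel. (The published statement is about the connected labelled
dual graph of the closed fibre of a nodal curve, smooth outside a normal crossing divisor with
components D_1, …, D_n, over a Noetherian regular strictly local base; Γ_i is the dual graph of the
fibre over the generic point of D_i, the lattices are identified with the character groups of the
toric parts of the Picard schemes of these fibres, and the map is the generization map of character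
groups; this row states the assertion about cycle lattices, for any finite multigraph, which is what
the argument establishes.) -/
theorem result
    {V E : Type u} [Fintype V] [Fintype E] [DecidableEq V] [DecidableEq E]
    (ends : E → V × V) {n : ℕ} (D : Fin n → Finset E) (hcover : ∀ e : E, ∃ i : Fin n, e ∉ D i) :
    IsAddTorsionFree (((i : Fin n) → ↥(DualGr.cycleLattice (DualGr.ctrEnds ends (D i)))) ⧸
      LinearMap.range (LinearMap.pi fun i : Fin n => DualGr.genMap ends (D i))) := by
  refine ⟨fun m hm => ?_⟩
  intro a b hab
  obtain ⟨x, rfl⟩ := Submodule.Quotient.mk_surjective _ a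
  obtain ⟨y, rfl⟩ := Submodule.Quotient.mk_surjective _ b
  simp only at hab
  rw [← Submodule.Quotient.mk_smul, ← Submodule.Quotient.mk_smul, Submodule.Quotient.eq, ← nsmul_sub] at hab
  rw [Submodule.Quotient.eq]
  obtain ⟨c₀, hc₀⟩ := hab
  choose i hi using hcover
  have hval : ∀ (j : Fin n) (e : DualGr.CtrEdge (D j)),
      (c₀ : E → ℤ) e.1 = (m : ℤ) * (((x - y) j : DualGr.cycleLattice (DualGr.ctrEnds ends (D j))) : DualGr.CtrEdge (D j) → ℤ) e := by
    intro j e
    have h := congrArg (fun z : ↥(DualGr.cycleLattice (DualGr.ctrEnds ends (D j))) => (z : DualGr.CtrEdge (D j) → ℤ) e) (congrFun hc₀ j)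
    simp [DualGr.genMap, DualGr.resE] at h
    simpa using h
  let c : E → ℤ := fun e => (((x - y) (i e) : DualGr.cycleLattice (DualGr.ctrEnds ends (D (i e)))) :
    DualGr.CtrEdge (D (i e)) → ℤ) ⟨e, hi e⟩
  have hmc : (m : ℤ) • c = (c₀ : E → ℤ) := funext fun e => (hval (i e) ⟨e, hi e⟩).symm
  have hc : c ∈ DualGr.cycleLattice ends := by
    have h0 : DualGr.boundaryHom ends ((m : ℤ) • c) = 0 := hmc ▸ c₀.2
    rw [map_smul] at h0
    exact (smul_eq_zero.mp h0).resolve_left (Int.natCast_ne_zero.mpr hm)
  refine ⟨⟨c, hc⟩, funext fun j => Subtype.ext (funext fun e => ?_)⟩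
  refine mul_left_cancel₀ (Int.natCast_ne_zero.mpr hm) (Eq.trans ?_ (hval j e))
  exact congrFun hmc e.1

end Groth.Agent.S14397
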