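import Groth.Statements.S14399
import Groth.Agent.H26.NodalTriv

set_option autoImplicit false
universe u
open CategoryTheory AlgebraicGeometry
open SemiFact

namespace Groth.Agent.S14399

/-- Let R be a discrete valuation ring with perfect fraction field K and residue field k, and f : X →
Spec R a nodal curve (proper, flat, locally of finite presentation, geometric fibres connected with
one-dimensional irreducible components and at most ordinary double points) whose special fibre X_k
has split singularities: every closed point of X_k either has an open neighbourhood smooth over k or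
has completed local ring isomorphic over k to k[[u,v]]/(uv). Let L be an invertible O_X-module whose
pullback to the generic fibre X_K is isomorphic to the structure sheaf. If the degree over k of the
restriction of L to every irreducible component of X_k — each taken with its reduced structure, as
an integral curve over k closed-immersed in X over Spec R — is zero, then L is isomorphic to O_X.
(The published lemma states that the multidegree of generically trivial invertible modules is
computed by the multidegree operator on Cartier vertex labellings of the labelled dual graph, and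
its proof records that this multidegree map on generically trivial invertible modules is injective;
this row is that injectivity.) -/
theorem result
    (R : Type u) [CommRing R] [IsDomain R] [IsDiscreteValuationRing R]
    [PerfectField (FractionRing R)]
    {X : Scheme.{u}} (f : X ⟶ Spec (CommRingCat.of R)) [IsProper f]
    (hf : Curv2.IsNodalFamily f)
    (hconn : ∀ (L : Type u) [Field L] (t : Spec (CommRingCat.of L) ⟶ Spec (CommRingCat.of R)),
      ConnectedSpace ↑(Limits.pullback f t))
    (hsplit : ∀ y : ↥(f.fiber (IsLocalRing.closedPoint R)), IsClosed ({y} : Set ↥(f.fiber (IsLocalRing.closedPoint R))) →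
        (∃ W : (f.fiber (IsLocalRing.closedPoint R)).Opens, y ∈ W ∧ Smooth (W.ι ≫ f.fiberToSpecResidueField (IsLocalRing.closedPoint R))) ∨
        @Curv2.IsOrdDoublePt ((Spec (CommRingCat.of R)).residueField (IsLocalRing.closedPoint R)) _ ((f.fiber (IsLocalRing.closedPoint R)).presheaf.stalk y) _ (@Curv2.stalkAlgebra ((Spec (CommRingCat.of R)).residueField (IsLocalRing.closedPoint R)) _ (f.fiber (IsLocalRing.closedPoint R)) ⟨f.fiberToSpecResidueField (IsLocalRing.closedPoint R)⟩ y) _)
    (L : X.Modules) (hL : PicF.IsInvertible L)
    (hgen : Nonempty ((Scheme.Modules.pullback (Limits.pullback.fst f (Neron.genPt R))).obj L ≅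
      Coh.structureModule (Limits.pullback f (Neron.genPt R))))
    (hdeg : ∀ Γ : ArSurf.VertComp R (Over.mk f), ArSurf.inter R (Over.mk f) L Γ = 0) :
    Nonempty (L ≅ Coh.structureModule X) := by
  letI : X.Over (Spec (CommRingCat.of R)) := ⟨f⟩
  haveI : IsProper (X ↘ Spec (CommRingCat.of R)) := ‹IsProper f›
  haveI hflat : Flat (X ↘ Spec (CommRingCat.of R)) := hf.1
  haveI : Flat f := hf.1
  haveI : LocallyOfFiniteType f := inferInstance
  haveI : _root_.AlgebraicGeometry.IsReduced ((X ↘ Spec (CommRingCat.of R)).fiber (IsLocalRing.closedPoint R)) := by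
    haveI : ∀ z : ↥(f.fiber (IsLocalRing.closedPoint R)),
        _root_.IsReduced ((f.fiber (IsLocalRing.closedPoint R)).presheaf.stalk z) := fun z =>
      (Groth.Agent.NodeFam.NodalCurve.reduced_gorenstein
        (k := (Spec (CommRingCat.of R)).residueField (IsLocalRing.closedPoint R))
        ((Groth.Agent.NodeFam.isNodalFamily_iff f).1 hf |>.2.2 (IsLocalRing.closedPoint R)) z).1
    exact isReduced_of_isReduced_stalk (f.fiber (IsLocalRing.closedPoint R))
  haveI : ConnectedSpace ↥((X ↘ Spec (CommRingCat.of R)).fiber (IsLocalRing.closedPoint R)) :=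
    hconn ((Spec (CommRingCat.of R)).residueField (IsLocalRing.closedPoint R))
      ((Spec (CommRingCat.of R)).fromSpecResidueField (IsLocalRing.closedPoint R))
  let ϖ := Groth.Agent.H26.NodalTriv.unifR R
  have hirr : Irreducible ϖ := (IsDiscreteValuationRing.exists_irreducible R).choose_spec
  haveI : IsProper (Over.mk f).hom := ‹IsProper f›
  haveI : CompactSpace X := QuasiCompact.compactSpace_of_compactSpace f
  haveI : QuasiSeparatedSpace X := quasiSeparatedSpace_of_quasiSeparated f
  haveI : IsLocallyNoetherian X := LocallyOfFiniteType.isLocallyNoetherian f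
  obtain ⟨e, he⟩ := Groth.Agent.H26.VertDiv.exists_frame_genOpen (Over.mk f)
    (IsPullback.of_hasPullback f (Neron.genPt R)) hirr hgen
  obtain ⟨N, σ, hσ⟩ := Groth.Agent.QCoh.exists_pow_smul_eq_map_of_isQuasiSeparated
    (Groth.Agent.CurveDeg.isCoh_of_isInvertible hL).1
    (W := (⊤ : X.Opens)) isCompact_univ isQuasiSeparated_univ (Coh.toGlobal f ϖ) e
  have hσ' : Groth.Agent.InvX.IsFrame (Groth.Agent.AModX.res L
      (le_top : Groth.Agent.H26.VertDiv.genOpen (Over.mk f) ϖ ≤ ⊤) σ) := by
    rw [show Groth.Agent.AModX.res L (le_top : Groth.Agent.H26.VertDiv.genOpen (Over.mk f) ϖ ≤ ⊤) σ = _ from hσ]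
    refine he.isUnit_smul (IsUnit.pow _ ?_)
    exact RingedSpace.isUnit_res_basicOpen X.toLocallyRingedSpace.toRingedSpace _
  refine Groth.Agent.H26.NodalTriv.nonempty_iso (R := R) (fun Z hZ => (hf.2.2 _).1 Z hZ) hL
    (s₀ := σ) (fun x hx => ?_) hdeg
  exact Groth.Agent.H23.TrivBasic.le_locus hσ'
    ((Groth.Agent.H26.VertDiv.mem_genOpen_iff (Over.mk f) hirr.maximalIdeal_eq x).2 hx)

end Groth.Agent.S14399
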