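import Groth.Statements.S14400
import Groth.Agent.GeomField.Descend
import Mathlib.AlgebraicGeometry.Sites.Fpqc
import Mathlib.AlgebraicGeometry.Morphisms.FlatMono
import Mathlib.RingTheory.Etale.Field
import Mathlib.AlgebraicGeometry.Morphisms.Etale

set_option autoImplicit false
set_option backward.isDefEq.respectTransparency false
set_option backward.isDefEq.respectTransparency.types false
universe u
open CategoryTheory CategoryTheory.Limits AlgebraicGeometry
open Desc

namespace Groth.Agent.S14400

/-- Let K/k be a finite Galois extension of fields, X and Y schemes over k with base changes X_K and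
Y_K, and g : X_K ⟶ Y_K a morphism over Spec K. Then g is the base change of a k-morphism f : X ⟶ Y
(that is, g followed by the projection Y_K ⟶ Y is the projection X_K ⟶ X followed by f) if and only
if g commutes with the action of every k-automorphism σ of K on X_K and on Y_K (the identity on X,
resp. Y, and Spec σ on the factor Spec K). In other words the image of the k-morphisms X ⟶ Y among
the K-morphisms X_K ⟶ Y_K is exactly the set of Galois-invariant ones. -/
theorem result (k : Type u) [Field k] (K : Type u) [Field K]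
    [Algebra k K] [FiniteDimensional k K] [IsGalois k K]
    (X Y : Scheme.{u}) [X.Over (Spec (CommRingCat.of k))] [Y.Over (Spec (CommRingCat.of k))]
    (g : Curv2.bc k X K ⟶ Curv2.bc k Y K) (hg : g ≫ Curv2.bcSnd k Y K = Curv2.bcSnd k X K) :
    (∃ f : X ⟶ Y, f ≫ (Y ↘ Spec (CommRingCat.of k)) = X ↘ Spec (CommRingCat.of k) ∧
        g ≫ Curv2.bcFst k Y K = Curv2.bcFst k X K ≫ f) ↔
      ∀ σ : K ≃ₐ[k] K, Curv2.galAct k X K σ ≫ g = g ≫ Curv2.galAct k Y K σ := by
  constructor
  · rintro ⟨f, hf, hgf⟩ σ
    apply pullback.hom_ext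
    · show (Curv2.galAct k X K σ ≫ g) ≫ Curv2.bcFst k Y K = (g ≫ Curv2.galAct k Y K σ) ≫ Curv2.bcFst k Y K
      have e : ∀ (Z : Scheme.{u}) [Z.Over (Spec (CommRingCat.of k))],
          Curv2.galAct k Z K σ ≫ Curv2.bcFst k Z K = Curv2.bcFst k Z K := fun Z _ =>
        (pullback.lift_fst _ _ _).trans (Category.comp_id _)
      rw [Category.assoc, hgf, ← Category.assoc, e X, Category.assoc, e Y, hgf]
    · show (Curv2.galAct k X K σ ≫ g) ≫ Curv2.bcSnd k Y K = (g ≫ Curv2.galAct k Y K σ) ≫ Curv2.bcSnd k Y K
      rw [Category.assoc, Category.assoc, hg, show Curv2.galAct k Y K σ ≫ Curv2.bcSnd k Y K =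
        Curv2.bcSnd k Y K ≫ Spec.map (CommRingCat.ofHom (σ : K →ₐ[k] K).toRingHom) from pullback.lift_snd _ _ _,
        ← Category.assoc g, hg]
      exact pullback.lift_snd _ _ _
  · intro hinv
    let s := Spec.map (CommRingCat.ofHom (algebraMap k K))
    haveI : Algebra.Etale k K := ⟨Algebra.FormallyEtale.of_isSeparable k K, Algebra.FinitePresentation.of_finiteType.1 inferInstance⟩
    haveI : Etale s := HasRingHomProperty.Spec_iff.mpr (RingHom.etale_algebraMap.mpr inferInstance)
    haveI : Surjective s := ⟨fun x => ⟨IsLocalRing.closedPoint K, Subsingleton.elim (α := PrimeSpectrum k) _ _⟩⟩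
    haveI : Flat s := inferInstance
    haveI : QuasiCompact s := inferInstance
    let π : Curv2.bc k X K ⟶ X := pullback.fst (X ↘ Spec (CommRingCat.of k)) s
    haveI : Etale π := MorphismProperty.pullback_fst _ _ inferInstance
    haveI : Flat π := inferInstance
    haveI : Surjective π := MorphismProperty.pullback_fst _ _ inferInstance
    haveI : QuasiCompact π := MorphismProperty.pullback_fst _ _ inferInstance
    have e : ∀ σ, Curv2.galAct k X K σ ≫ π = π := fun σ =>
      (pullback.lift_fst _ _ _).trans (Category.comp_id _)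
    let m : (K ≃ₐ[k] K) → (Curv2.bc k X K ⟶ pullback π π) := fun σ =>
      pullback.lift (𝟙 _) (Curv2.galAct k X K σ) (by rw [Category.id_comp, e])
    have hm : ∀ σ, m σ ≫ pullback.fst π π = 𝟙 _ := fun σ => pullback.lift_fst _ _ _
    haveI : ∀ σ, IsOpenImmersion (m σ) := fun σ => by
      haveI : Etale (m σ) := MorphismProperty.of_postcomp (W := @Etale) (W' := @Etale) (m σ)
        (pullback.fst π π) inferInstance (by rw [hm]; infer_instance)
      haveI : Mono (m σ) := mono_of_mono_fac (hm σ)
      exact IsOpenImmersion.of_flat_of_mono (m σ)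
    have hcov : TopologicalSpace.IsOpenCover (fun σ => (m σ).opensRange) := by
      refine TopologicalSpace.IsOpenCover.mk (top_le_iff.mp fun z₀ _ => ?_)
      let P := pullback π π
      let ζ := P.fromSpecResidueField z₀
      obtain ⟨a, ha⟩ := Spec.map_surjective (ζ ≫ pullback.fst π π ≫ Curv2.bcSnd k X K)
      obtain ⟨b, hb⟩ := Spec.map_surjective (ζ ≫ pullback.snd π π ≫ Curv2.bcSnd k X K)
      let M : Type u := P.residueField z₀
      letI : Algebra K M := a.hom.toAlgebra
      letI : Algebra k M := (a.hom.comp (algebraMap k K)).toAlgebra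
      haveI : IsScalarTower k K M := IsScalarTower.of_algebraMap_eq fun _ => rfl
      have hcond : Curv2.bcSnd k X K ≫ s = π ≫ (X ↘ Spec (CommRingCat.of k)) := pullback.condition.symm
      have hab : CommRingCat.ofHom (algebraMap k K) ≫ b = CommRingCat.ofHom (algebraMap k K) ≫ a := by
        apply Spec.map_injective
        rw [Spec.map_comp, Spec.map_comp, ha, hb]
        simp only [Category.assoc]
        rw [show Spec.map (CommRingCat.ofHom (algebraMap k K)) = s from rfl, hcond, ← pullback.condition_assoc]
      let bA : K →ₐ[k] M := { toRingHom := b.hom, commutes' := fun r => congr($(hab).hom r) }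
      let σ : K ≃ₐ[k] K := Normal.algHomEquivAut k M K bA
      have hσ : ∀ r, a.hom (σ r) = b.hom r := fun r => by
        have := (Normal.algHomEquivAut k M K).symm_apply_apply bA
        exact congr($this r)
      have hζ : (ζ ≫ pullback.fst π π) ≫ m σ = ζ := by
        apply pullback.hom_ext
        · rw [Category.assoc, hm, Category.comp_id]
        · rw [Category.assoc, show m σ ≫ pullback.snd π π = Curv2.galAct k X K σ from pullback.lift_snd _ _ _]
          apply pullback.hom_ext
          · rw [Category.assoc]
            erw [e σ]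
            rw [Category.assoc, Category.assoc]
            exact congrArg (ζ ≫ ·) pullback.condition
          · rw [Category.assoc, show Curv2.galAct k X K σ ≫ pullback.snd _ s =
              Curv2.bcSnd k X K ≫ Spec.map (CommRingCat.ofHom (σ : K →ₐ[k] K).toRingHom) from pullback.lift_snd _ _ _,
              ← Category.assoc, Category.assoc ζ, ← ha, ← Spec.map_comp]
            refine Eq.trans ?_ (hb.trans (Category.assoc _ _ _).symm)
            congr 1
            ext r
            exact hσ r
      refine TopologicalSpace.Opens.mem_iSup.2 ⟨σ, ?_⟩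
      have h3 := congr($(hζ).base (IsLocalRing.closedPoint M))
      simp only [Scheme.Hom.comp_base, TopCat.hom_comp, ContinuousMap.comp_apply] at h3
      erw [Scheme.fromSpecResidueField_apply] at h3
      exact ⟨_, h3⟩
    have key : pullback.fst π π ≫ g ≫ Curv2.bcFst k Y K = pullback.snd π π ≫ g ≫ Curv2.bcFst k Y K := by
      refine ((pullback π π).openCoverOfIsOpenCover _ hcov).hom_ext _ _ fun σ => ?_
      show (m σ).opensRange.ι ≫ _ = (m σ).opensRange.ι ≫ _
      rw [← cancel_epi (m σ).isoOpensRange.hom, ← Category.assoc, ← Category.assoc _ (m σ).opensRange.ι,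
        Scheme.Hom.isoOpensRange_hom_ι, reassoc_of% (hm σ), show m σ ≫ pullback.snd π π ≫ g ≫ Curv2.bcFst k Y K =
          Curv2.galAct k X K σ ≫ g ≫ Curv2.bcFst k Y K from pullback.lift_snd_assoc _ _ _ _,
        ← Category.assoc, hinv σ, Category.assoc]
      exact congrArg (g ≫ ·) ((pullback.lift_fst _ _ _).trans (Category.comp_id _)).symm
    have w : ∀ {Z : Scheme.{u}} (g₁ g₂ : Z ⟶ Curv2.bc k X K), g₁ ≫ π = g₂ ≫ π →
        g₁ ≫ g ≫ Curv2.bcFst k Y K = g₂ ≫ g ≫ Curv2.bcFst k Y K := fun g₁ g₂ h => by
      have := congrArg (pullback.lift g₁ g₂ h ≫ ·) key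
      simpa using this
    refine ⟨EffectiveEpi.desc π (g ≫ Curv2.bcFst k Y K) w, ?_, (EffectiveEpi.fac π _ w).symm⟩
    rw [← cancel_epi π, ← Category.assoc, EffectiveEpi.fac, Category.assoc]
    erw [pullback.condition, pullback.condition]
    rw [← Category.assoc]
    exact congrArg (· ≫ s) hg

end Groth.Agent.S14400
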