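import Groth.Agent.SiteBase.Rpush
import Groth.Agent.SiteBase.Empty
import Groth.Agent.SiteBase.Top
import Groth.Statements.S14402
-- import your own Groth.Agent.* helpers here

set_option autoImplicit false
universe u
open CategoryTheory CategoryTheory.Limits
open CohTop

namespace Groth.Agent.S14402

/-- If a continuous map f : X → Y is a closed embedding (a homeomorphism onto a closed subset), then for
every abelian sheaf F on X and every q ≥ 0 the higher direct image R^{q+1} f_* F is zero. (The
published statement is for modules over a sheaf of rings on X along a morphism of ringed spaces;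
this row is the case of abelian sheaves, the sheaf of rings being the constant sheaf ℤ.) -/
theorem result {X Y : TopCat.{u}} (f : X ⟶ Y)
    (hf : Topology.IsClosedEmbedding f) (F : CohTop.Ab X) (q : ℕ) :
    IsZero ((CohTop.Rpush f (q + 1)).obj F) := by
  refine Groth.Agent.SiteBase.isZero_rpush (Opens.grothendieckTopology X)
    (Opens.grothendieckTopology Y) (TopologicalSpace.Opens.map f) (q + 1) F fun V ξ => ?_
  obtain ⟨S, hS, hres⟩ := Groth.Agent.SiteBase.exists_cover_res_eq_zero F ((TopologicalSpace.Opens.map f).obj V) q ξ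
  refine ⟨{ arrows := fun W g => ∃ (T : TopologicalSpace.Opens X) (t : T ⟶ (TopologicalSpace.Opens.map f).obj V), (S t ∨ (T : Set X) = ∅) ∧ (TopologicalSpace.Opens.map f).obj W ≤ T,
            downward_closed := ?_ }, ?_, ?_⟩
  · rintro W W' g ⟨T, t, ht, hle⟩ k
    exact ⟨T, t, ht, ((TopologicalSpace.Opens.map f).map k).le.trans hle⟩
  · intro y hy
    by_cases hy' : y ∈ Set.range f
    · obtain ⟨x, rfl⟩ := hy'
      obtain ⟨T, t, ht, hxT⟩ := hS x hy
      obtain ⟨O, hO, hOT⟩ := hf.isInducing.isOpen_iff.1 T.isOpen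
      have hxO : f x ∈ O := by
        change x ∈ (f : X → Y) ⁻¹' O
        rw [hOT]; exact hxT
      refine ⟨V ⊓ ⟨O, hO⟩, homOfLE inf_le_left, ⟨T, t, Or.inl ht, ?_⟩, ⟨hy, hxO⟩⟩
      rintro z ⟨-, hz⟩
      have : z ∈ (f : X → Y) ⁻¹' O := hz
      rwa [hOT] at this
    · refine ⟨V ⊓ ⟨(Set.range f)ᶜ, hf.isClosed_range.isOpen_compl⟩, homOfLE inf_le_left, ?_, ⟨hy, hy'⟩⟩
      exact ⟨⊥, homOfLE bot_le, Or.inr rfl, fun z hz => (hz.2 (Set.mem_range_self z)).elim⟩
  · rintro W g ⟨T, t, ht, hle⟩
    have h0 : CohSite.res F (q + 1) t ξ = 0 := by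
      rcases ht with ht | ht
      · exact hres T t ht
      · exact (Groth.Agent.SiteBase.subsingleton_HU_of_bot_mem (J := Opens.grothendieckTopology X)
          (fun x hx => absurd (show x ∈ (T : Set X) from hx) (ht ▸ Set.notMem_empty x)) F (q + 1)).elim _ _
    have : (TopologicalSpace.Opens.map f).map g = homOfLE hle ≫ t := rfl
    rw [this]
    show ((Sheaf.cohomologyPresheaf.{u} F (q + 1)).map (homOfLE hle ≫ t).op).hom ξ = 0
    rw [op_comp, Functor.map_comp]
    exact (congrArg (((Sheaf.cohomologyPresheaf.{u} F (q + 1)).map (homOfLE hle).op).hom) h0).trans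
      (map_zero _)

end Groth.Agent.S14402
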