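import Groth.Statements.S14404
import Mathlib
import Groth.Agent.FlatMisc.FlatDims

set_option autoImplicit false
universe u
open CategoryTheory AlgebraicGeometry
open FlatMor

namespace Groth.Agent.S14404

/-- Let k be a field, X and Y irreducible schemes of finite type over k and f : X ⟶ Y a flat k-morphism.
Then dim Y ≤ dim X, and for every point y of Y every irreducible component Z of the scheme-theoretic
fibre of f over y has dim Z + dim Y = dim X; that is, every non-empty fibre has all its irreducible
components of dimension dim X − dim Y. -/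
theorem result (k : Type u) [Field k]
    {X Y : Scheme.{u}} (qX : X ⟶ Spec (CommRingCat.of k)) (qY : Y ⟶ Spec (CommRingCat.of k))
    [LocallyOfFiniteType qX] [QuasiCompact qX] [LocallyOfFiniteType qY] [QuasiCompact qY]
    [IrreducibleSpace X] [IrreducibleSpace Y] (f : X ⟶ Y) (hf : f ≫ qY = qX) [Flat f] :
    topologicalKrullDim Y ≤ topologicalKrullDim X ∧
      ∀ (y : Y), ∀ Z ∈ irreducibleComponents (f.fiber y : Type u),
        topologicalKrullDim Z + topologicalKrullDim Y = topologicalKrullDim X := by
  haveI := Groth.Agent.FlatDims.locallyOfFiniteType_of_comp' qX qY f hf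
  haveI : IsLocallyNoetherian Y := LocallyOfFiniteType.isLocallyNoetherian qY
  have hmY : ∀ η : Y, Groth.Agent.FlatDims.IsMaxPt η → η = genericPoint ↥Y := fun η hη =>
    (hη _ ((genericPoint_spec ↥Y).specializes trivial)).symm
  have hmX : ∀ η : X, Groth.Agent.FlatDims.IsMaxPt η → η = genericPoint ↥X := fun η hη =>
    (hη _ ((genericPoint_spec ↥X).specializes trivial)).symm
  have hgX : Groth.Agent.FlatDims.IsMaxPt (genericPoint ↥X) := fun y hy =>
    (hy.antisymm ((genericPoint_spec ↥X).specializes trivial)).eq
  have hdX := Groth.Agent.VarDim.topologicalKrullDim_eq_deg_genericPoint qX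
  have hdY := Groth.Agent.VarDim.topologicalKrullDim_eq_deg_genericPoint qY
  have hg := hmY _ (Groth.Agent.FlatDims.isMaxPt_map f hgX)
  have he := Groth.Agent.FlatDims.deg_eq qX qY f hf (genericPoint ↥X)
  rw [hg] at he
  refine ⟨?_, fun y Z hZ => ?_⟩
  · rw [hdX, hdY, he]
    exact WithBot.coe_le_coe.2 (Nat.cast_le.2 (Nat.le_add_right _ _))
  · have h := (Groth.Agent.FlatDims.components_iff_fibres qX qY f hf (Groth.Agent.VarDim.deg qY (genericPoint ↥Y))
      (Groth.Agent.FibDim.rd f (genericPoint ↥X)) fun η hη => by rw [hmY η hη]).1 (fun C hC => ?_) y Z hZ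
    · rw [h, hdX, hdY, he, add_comm]
      simp only [Nat.cast_add, WithBot.coe_add]
      rfl
    · rw [← he]
      obtain ⟨w, rfl, hw⟩ := Groth.Agent.FDescent.exists_maximal_of_mem_irreducibleComponents hC
      rw [Groth.Agent.FlatDims.dim_closure qX w, hmX w hw]
      rfl

end Groth.Agent.S14404
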