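import Groth.Statements.S14405
import Mathlib.Algebra.Polynomial.Degree.Lemmas
import Mathlib.Algebra.Polynomial.Coeff
import Mathlib.Data.Rat.Cast.CharZero
import Mathlib.Tactic.FieldSimp
import Mathlib.Tactic.LinearCombination
import Mathlib.Tactic.Linarith
import Mathlib.Tactic.Ring


set_option autoImplicit false
open Polynomial
open HilbNum

namespace Groth.Agent.S14405

/-- Let φ be a function from the integers to the rationals and Q a nonzero polynomial with rational
coefficients of degree d such that φ(m) - φ(m-1) = Q(m) for every integer m. Then there is a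
polynomial P with rational coefficients, of degree d + 1, such that φ(m) = P(m) for every integer m.
(The explicit form of P in the binomial basis is not part of this statement.) -/
theorem result (φ : ℤ → ℚ) (d : ℕ) (Q : ℚ[X]) (hQ : Q ≠ 0)
    (hd : Q.natDegree = d) (h : ∀ m : ℤ, φ m - φ (m - 1) = Q.eval (m : ℚ)) :
    ∃ P : ℚ[X], P.natDegree = d + 1 ∧ ∀ m : ℤ, φ m = P.eval (m : ℚ) := by
  have key : ∀ (n : ℕ) (Q : ℚ[X]), Q.degree < (n : WithBot ℕ) →
      ∃ P : ℚ[X], P.natDegree ≤ n ∧ P - P.comp (Polynomial.X - 1) = Q := by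
    intro n
    induction n with
    | zero =>
      intro Q hQ
      have : Q = 0 := by
        by_contra h0
        rw [Polynomial.degree_eq_natDegree h0] at hQ
        exact Nat.not_lt_zero _ (by exact_mod_cast hQ)
      exact ⟨0, by simp, by simp [this]⟩
    | succ n ih =>
      intro Q hQ
      let P₀ : ℚ[X] := Polynomial.C (Q.coeff n / (n + 1)) * Polynomial.X ^ (n + 1)
      have hco : (P₀ - P₀.comp (Polynomial.X - 1)).coeff n = Q.coeff n := by
        simp only [P₀, Polynomial.mul_comp, Polynomial.C_comp, Polynomial.pow_comp, Polynomial.X_comp]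
        rw [show (Polynomial.X - 1 : ℚ[X]) = Polynomial.X + Polynomial.C (-1) by simp [sub_eq_add_neg],
          Polynomial.coeff_sub, Polynomial.coeff_C_mul, Polynomial.coeff_C_mul,
          Polynomial.coeff_X_pow, Polynomial.coeff_X_add_C_pow, if_neg (by omega),
          show n + 1 - n = 1 by omega, Nat.choose_succ_self_right]
        push_cast
        field_simp
        ring
      have hdeg : ∀ k, n < k → (Q - (P₀ - P₀.comp (Polynomial.X - 1))).coeff k = 0 := by
        intro k hk
        have hQk : Q.coeff k = 0 := Polynomial.coeff_eq_zero_of_degree_lt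
          (hQ.trans_le (by exact_mod_cast hk))
        simp only [P₀, Polynomial.mul_comp, Polynomial.C_comp, Polynomial.pow_comp, Polynomial.X_comp]
        rw [show (Polynomial.X - 1 : ℚ[X]) = Polynomial.X + Polynomial.C (-1) by simp [sub_eq_add_neg],
          Polynomial.coeff_sub, Polynomial.coeff_sub, Polynomial.coeff_C_mul, Polynomial.coeff_C_mul,
          Polynomial.coeff_X_pow, Polynomial.coeff_X_add_C_pow, hQk]
        rcases eq_or_lt_of_le (show n + 1 ≤ k from hk) with rfl | hk'
        · simp
        · rw [if_neg (by omega), Nat.choose_eq_zero_of_lt hk']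
          simp
      obtain ⟨P, hP, hPQ⟩ := ih (Q - (P₀ - P₀.comp (Polynomial.X - 1))) (by
        rw [Polynomial.degree_lt_iff_coeff_zero]
        intro k hk
        rcases eq_or_lt_of_le hk with rfl | hk
        · rw [Polynomial.coeff_sub, hco, sub_self]
        · exact hdeg k hk)
      refine ⟨P + P₀, (Polynomial.natDegree_add_le _ _).trans (max_le (hP.trans n.le_succ)
        (Polynomial.natDegree_C_mul_X_pow_le _ _)), ?_⟩
      rw [Polynomial.add_comp]
      linear_combination hPQ
  obtain ⟨P, hP, hPQ⟩ := key (d + 1) Q (by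
    rw [Polynomial.degree_eq_natDegree hQ, hd]
    exact_mod_cast d.lt_succ_self)
  have hstep : ∀ m : ℤ, φ m - P.eval (m : ℚ) = φ (m - 1) - P.eval ((m - 1 : ℤ) : ℚ) := by
    intro m
    have h1 := congrArg (Polynomial.eval (m : ℚ)) hPQ
    simp only [Polynomial.eval_sub, Polynomial.eval_comp, Polynomial.eval_X, Polynomial.eval_one] at h1
    have h2 := h m
    push_cast
    linarith
  have hconst : ∀ m : ℤ, φ m - P.eval (m : ℚ) = φ 0 - P.eval ((0 : ℤ) : ℚ) := by
    intro m
    induction m with
    | zero => rfl
    | succ i hi => rw [hstep, add_sub_cancel_right, hi]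
    | pred i hi => rw [← hstep, hi]
  refine ⟨P + Polynomial.C (φ 0 - P.eval ((0 : ℤ) : ℚ)), ?_, fun m => by
    rw [Polynomial.eval_add, Polynomial.eval_C, ← hconst m]
    ring⟩
  rw [Polynomial.natDegree_add_C]
  refine le_antisymm hP ?_
  by_contra hlt
  rw [not_le] at hlt
  have hQd : Q.coeff d ≠ 0 := by
    rw [← hd]
    exact Polynomial.leadingCoeff_ne_zero.2 hQ
  refine hQd ?_
  rw [← hPQ, Polynomial.coeff_sub]
  rcases eq_or_lt_of_le (show P.natDegree ≤ d by omega) with heq | hlt'
  · have hcomp : (P.comp (Polynomial.X - 1)).natDegree = d := by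
      rw [Polynomial.natDegree_comp, show (Polynomial.X - 1 : ℚ[X]) = Polynomial.X - Polynomial.C 1 by simp,
        Polynomial.natDegree_X_sub_C, mul_one, heq]
    have h1 : P.coeff d = P.leadingCoeff := by rw [Polynomial.leadingCoeff, heq]
    have h2 : (P.comp (Polynomial.X - 1)).coeff d = (P.comp (Polynomial.X - 1)).leadingCoeff := by
      rw [Polynomial.leadingCoeff, hcomp]
    rw [h1, h2, show (Polynomial.X - 1 : ℚ[X]) = Polynomial.X - Polynomial.C 1 by simp,
      Polynomial.leadingCoeff_comp (by rw [Polynomial.natDegree_X_sub_C]; exact one_ne_zero),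
      Polynomial.leadingCoeff_X_sub_C, one_pow, mul_one, sub_self]
  · rw [Polynomial.coeff_eq_zero_of_natDegree_lt hlt', Polynomial.coeff_eq_zero_of_natDegree_lt, sub_zero]
    rw [Polynomial.natDegree_comp, show (Polynomial.X - 1 : ℚ[X]) = Polynomial.X - Polynomial.C 1 by simp,
      Polynomial.natDegree_X_sub_C, mul_one]
    exact hlt'

end Groth.Agent.S14405
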