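import Groth.Statements.S14406
import Groth.Agent.BirForms.Main

set_option autoImplicit false
universe u
open CategoryTheory CategoryTheory.Limits AlgebraicGeometry
open NonsingVar

namespace Groth.Agent.S14406

/-- Let k be an algebraically closed field and X, X′ smooth connected complete varieties of dimension n
over k, modelled as integral schemes proper over k all of whose local rings are regular and whose
underlying spaces have dimension n, and suppose X and X′ are birational: a nonempty open subscheme
of X is isomorphic over k to an open subscheme of X′. For a natural number q let L and L′ be q-th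
exterior powers of the sheaves of differentials of X and X′ over k (the sheaves of q-forms). Then
the k-vector spaces of global sections H^0(X, L) and H^0(X′, L′) have the same dimension: h^{q,0}(X)
= h^{q,0}(X′). -/
theorem result (k : Type u) [Field k] [IsAlgClosed k] (n : ℕ)
    (X X' : Scheme.{u}) [X.Over (Spec (CommRingCat.of k))] [X'.Over (Spec (CommRingCat.of k))] [IsIntegral X] [IsIntegral X']
    [IsProper (X ↘ (Spec (CommRingCat.of k)))] [IsProper (X' ↘ (Spec (CommRingCat.of k)))]
    (hreg : ∀ x : ↥X, IsRegularLocalRing ↑(X.presheaf.stalk x))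
    (hreg' : ∀ x : ↥X', IsRegularLocalRing ↑(X'.presheaf.stalk x))
    (hn : topologicalKrullDim ↥X = n) (hn' : topologicalKrullDim ↥X' = n)
    (U : X.Opens) (U' : X'.Opens) (hU : (U : Set ↥X).Nonempty) (e : (U : Scheme.{u}) ≅ (U' : Scheme.{u}))
    (he : e.hom ≫ U'.ι ≫ (X' ↘ (Spec (CommRingCat.of k))) = U.ι ≫ (X ↘ (Spec (CommRingCat.of k))))
    (q : ℕ) (L : X.Modules) (hL : ExtPow.IsExtPow q (Omega.sheaf (X ↘ (Spec (CommRingCat.of k)))) L)
    (L' : X'.Modules) (hL' : ExtPow.IsExtPow q (Omega.sheaf (X' ↘ (Spec (CommRingCat.of k)))) L') :
    Module.finrank k (Coh.HH X L 0) = Module.finrank k (Coh.HH X' L' 0) := by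
  exact Groth.Agent.BirForms.finrank_extPow_eq hreg hreg' hn hn' hU e he hL hL'


end Groth.Agent.S14406
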