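import Groth.Statements.S14408
import Groth.Agent.HilbDeg16.Main
import Groth.Agent.SegreX.Basic
import Groth.Agent.PnCoh.Chow.Proper
import Groth.Agent.S10829
import Groth.Agent.Lib.PnDualCoh
import Groth.Agent.AmpleX.Proj
-- import your own Groth.Agent.* helpers here

set_option autoImplicit false
set_option backward.isDefEq.respectTransparency false
set_option backward.isDefEq.respectTransparency.types false
universe u
open CategoryTheory CategoryTheory.Limits AlgebraicGeometry
open HilbNum

namespace Groth.Agent.S14408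
open Groth.Agent

/-- Let k be an algebraically closed field, n a positive integer, F a nonzero coherent O-module on
projective n-space P over k (quasi-coherent of finite type), and P_F a polynomial with rational
coefficients such that P_F(m) = χ(F(m)) = Σ_{j ≤ n} (-1)^j dim_k H^j(P, F ⊗ O(m)) for every integer
m. Then the degree of P_F equals the dimension of the support of F (the closed set of points where
the stalk of F is nonzero, with the subspace topology). The existence of such a polynomial is not
part of this statement; it enters through the hypothesis on P_F. -/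
theorem result (k : Type u) [Field k] [IsAlgClosed k] (n : ℕ) (hn : 0 < n)
    (F : (CohB1.ProjSpace n k).Modules) (hF : Coh.IsCoh F) (hF0 : ¬ IsZero F) (P : Polynomial ℚ)
    (hP : ∀ m : ℤ,
      ((Finset.range (n + 1)).sum fun j => (-1 : ℚ) ^ j *
        (Module.finrank k (Coh.HH (CohB1.ProjSpace n k) (CohB1.tensorMod F (Twist.twistProjSpace n k m)) j) : ℚ)) =
      P.eval (m : ℚ)) :
    topologicalKrullDim ↥(CohB1.support F) = (P.natDegree : WithBot ℕ∞) := by
  classical
  haveI := PnCoh.Chow.isProper_toSpec n k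
  haveI : IsProper (CohB1.ProjSpace n k ↘ Spec (CommRingCat.of k)) :=
    show IsProper (CohB1.ProjSpace.toSpec n k) from inferInstance
  haveI := CurveCohLib.isNoetherian_of_proper (k := k) (X := CohB1.ProjSpace n k)
  have hX : topologicalKrullDim (CohB1.ProjSpace n k) = (n : WithBot ℕ∞) := S10829.result k n
  let g : Fin (n + 1) → MvPolynomial (Fin (n + 1)) k := fun i => MvPolynomial.X i
  have hg : ∀ i, g i ∈ CohB1.polyGrading n k 1 := fun i => MvPolynomial.isHomogeneous_X k i
  have hcov : ⨆ i, Proj.basicOpen (CohB1.polyGrading n k) (g i) = ⊤ :=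
    Proj.iSup_basicOpen_eq_top _ _ (SegreX.irrelevant_le_span n k)
  let O1 := Twist.twistProjSpace n k 1
  have hL : CohB1.IsAmple O1 := by
    refine AmpleX.isAmple_twist_one (CohB1.polyGrading n k) (Finset.univ.image g) (fun f hf => ?_) ?_
    · obtain ⟨j, -, rfl⟩ := Finset.mem_image.1 hf
      exact hg j
    · refine top_le_iff.1 (le_trans hcov.ge (iSup_le fun j => ?_))
      exact le_iSup_of_le (⟨g j, Finset.mem_image.2 ⟨j, Finset.mem_univ j, rfl⟩⟩ :
        {f // f ∈ Finset.univ.image g}) le_rfl
  letI := @H23.PicMul.clMonoid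
  have hcl : ∀ m : ℕ, PicF.cl O1 ^ m = PicF.cl (Twist.twistProjSpace n k (m : ℤ)) := by
    intro m
    induction m with
    | zero =>
      rw [pow_zero, Nat.cast_zero, H23.PicMul.one_def]
      exact H23.PicMul.cl_eq_iff.2 ⟨@asIso _ _ _ _ _ (PnCoh.Finite.isIso_oneHom (𝒜 := CohB1.polyGrading n k) g hg hcov)⟩
    | succ m ih =>
      rw [pow_succ, ih, ← H23.PicMul.cl_tensor, Nat.cast_succ]
      exact H23.PicMul.cl_eq_iff.2 (PnCoh.Finite.twist_tensor_iso (g := g) hg hcov (m : ℤ) 1)
  have hne : (CohB1.support F).Nonempty := by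
    by_contra h
    rw [Set.not_nonempty_iff_eq_empty] at h
    refine hF0 (QCoh.isZero_of_app_eq_zero hF.1 fun W s => ?_)
    refine TopCat.Presheaf.section_ext ⟨F.presheaf, F.isSheaf⟩ _ _ _ fun y hy => ?_
    haveI : Subsingleton (F.presheaf.stalk y) := not_not.1 fun hy' => h.le hy'
    exact Subsingleton.elim _ _
  refine HilbDeg16.natDegree_eq k hL hF hne hX.le P fun m => ?_
  obtain ⟨e⟩ : Nonempty (CohB1.tensorMod F (CohB1.tensorPow O1 m) ≅
      CohB1.tensorMod F (Twist.twistProjSpace n k (m : ℤ))) := by
    refine H23.PicMul.cl_eq_iff.1 ?_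
    rw [H23.PicMul.cl_tensor, H23.PicMul.cl_tensor, H23.PicMul.cl_tensorPow, hcl]
  have hq : Coh.IsQCoh (CohB1.tensorMod F (CohB1.tensorPow O1 m)) :=
    (AmpleVan.isCoh_tensor hF (AmpleVan.isCoh_invertible (InvX.isInvertible_tensorPow hL.1 m))).1
  rw [CurveCohLib.euler_eq_sum (k := k) (N := n + 1) fun i hi => PnDual.subsingleton_HH_above hq i hi]
  push_cast
  rw [← Int.cast_natCast (R := ℚ) m, ← hP]
  refine Finset.sum_congr rfl fun j _ => ?_
  rw [(CurveCohLib.hhEquiv (k := k) e j).finrank_eq]

end Groth.Agent.S14408
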