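import Groth.Statements.S14409
import Groth.Agent.H9Misc.SectionsExtSh

set_option autoImplicit false
set_option backward.isDefEq.respectTransparency false
set_option backward.isDefEq.respectTransparency.types false
universe u
open CategoryTheory AlgebraicGeometry TopologicalSpace Opposite
open Coherent

namespace Groth.Agent.S14409

/-- Let k be an algebraically closed field and X a variety over k, modelled as a reduced scheme
separated and of finite type over k; let U be an affine open subset of X and F, G coherent
O_X-modules (quasi-coherent of finite type; X is Noetherian). For i ≥ 0 let Ext^i(F, G) be the i-th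
local Ext sheaf, the i-th right derived functor of the internal Hom functor Hom(F, -) on O_X-modules
evaluated at G (existence of that internal Hom and of injective resolutions are the stated instance
hypotheses, both true). Then the module of sections Γ(U, Ext^i(F, G)) over the ring R = Γ(U, O_X) is
R-linearly isomorphic to Ext^i_R(F(U), G(U)), computed in the category of R-modules (existence of an
isomorphism only). -/
theorem result (k : Type u) [Field k] [IsAlgClosed k]
    (X : Scheme.{u}) [X.Over (Spec (CommRingCat.of k))] [IsReduced X]
    [IsSeparated (X ↘ (Spec (CommRingCat.of k)))] [LocallyOfFiniteType (X ↘ (Spec (CommRingCat.of k)))] [CompactSpace ↥X]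
    (U : X.Opens) (hU : IsAffineOpen U) (F G : X.Modules) (hF : Coh.IsCoh F) (hG : Coh.IsCoh G)
    [ModSite.HasSheafHom (O := X.sheaf) F] [HasInjectiveResolutions (ModSite.Mod X.sheaf)] (i : ℕ) :
    Nonempty (((ModSite.extSh (O := X.sheaf) F i).obj G).val.obj (op U)
      ≃ₗ[Γ(X, U)] Abelian.Ext (ModuleCat.of Γ(X, U) (F.val.obj (op U))) (ModuleCat.of Γ(X, U) (G.val.obj (op U))) i) := by
  haveI : IsLocallyNoetherian X := LocallyOfFiniteType.isLocallyNoetherian (X ↘ (Spec (CommRingCat.of k)))
  exact H9Misc.SectionsExtSh.nonempty_sections hU hF hG.1 i

end Groth.Agent.S14409
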