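import Groth.Agent.SiteBase.Top
import Groth.Statements.S14410
-- import your own Groth.Agent.* helpers here

set_option autoImplicit false
universe u
open CategoryTheory TopologicalSpace
open CohTop

namespace Groth.Agent.S14410

/-- Let X be a topological space and 0 → F₁ → F₂ → F₃ → 0 a short exact sequence of sheaves of abelian
groups on X. If F₁ and F₃ are flasque (every restriction map is surjective), then F₂ is flasque.
(The published statement is for O_X-modules on a ringed space and is an equivalence; this row states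
the implication from the outer terms to the middle term, for the underlying abelian sheaves.) -/
theorem result (X : TopCat.{u})
    (S : ShortComplex (TopCat.Sheaf AddCommGrpCat.{u} X)) (hS : S.ShortExact)
    [S.X₁.IsFlasque] [S.X₃.IsFlasque] : S.X₂.IsFlasque := by
  refine ⟨fun {U V} i => ?_⟩
  have : Epi (S.g.1.app V) := TopCat.Sheaf.IsFlasque.epi_of_shortExact hS
  have hU : Epi (S.g.1.app U) := TopCat.Sheaf.IsFlasque.epi_of_shortExact hS
  rw [AddCommGrpCat.epi_iff_surjective]
  intro t
  have h3 := (AddCommGrpCat.epi_iff_surjective (S.X₃.obj.map i)).1 inferInstance (S.g.1.app V t)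
  obtain ⟨a, ha⟩ := h3
  obtain ⟨b, hb⟩ := (AddCommGrpCat.epi_iff_surjective _).1 hU a
  have hz : S.g.1.app V (t - S.X₂.obj.map i b) = 0 := by
    rw [map_sub, sub_eq_zero, ← ha, ← hb]
    exact (congrArg (fun φ => φ.hom b) (S.g.hom.naturality i)).symm
  obtain ⟨c, hc⟩ := TopCat.Sheaf.sections_exact_of_left_exact hS.1 hS.2 _ hz
  obtain ⟨d, hd⟩ := (AddCommGrpCat.epi_iff_surjective (S.X₁.obj.map i)).1 inferInstance c
  refine ⟨b + S.f.1.app U d, ?_⟩
  rw [map_add]
  have : S.X₂.obj.map i (S.f.1.app U d) = S.f.1.app V (S.X₁.obj.map i d) :=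
    (congrArg (fun φ => φ.hom d) (S.f.hom.naturality i)).symm
  rw [this, hd, hc, add_sub_cancel]

end Groth.Agent.S14410
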