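import Mathlib
import Groth.Statements.S14412
-- import your own Groth.Agent.* helpers here

set_option autoImplicit false
universe u
open CategoryTheory
open CAlg

namespace Groth.Agent.S14412

open CategoryTheory CategoryTheory.Abelian

variable {R : Type u} [CommRing R] (S : Submonoid R)

set_option quotPrecheck false in
local notation "LF" => ModuleCat.localizedModuleFunctor S
set_option quotPrecheck false in
local notation "RS" => Localization S

noncomputable local instance (N : ModuleCat.{u} R) : Module R ((LF).obj N) :=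
  inferInstanceAs (Module R (N.localizedModule S))

local instance (N : ModuleCat.{u} R) : IsScalarTower R RS ((LF).obj N) :=
  inferInstanceAs (IsScalarTower R RS (N.localizedModule S))

set_option backward.isDefEq.respectTransparency false

lemma map_smul_id (N : ModuleCat.{u} R) (r : R) :
    (LF).map (r • 𝟙 N) = algebraMap R RS r • 𝟙 ((LF).obj N) := by
  refine ModuleCat.hom_ext (LinearMap.restrictScalars_injective R ?_)
  refine IsLocalizedModule.ext S (N.localizedModuleMkLinearMap S)
    (IsLocalizedModule.map_units (N.localizedModuleMkLinearMap S)) (LinearMap.ext fun x => ?_)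
  show IsLocalizedModule.map S (N.localizedModuleMkLinearMap S) (N.localizedModuleMkLinearMap S) (r • 𝟙 N : N ⟶ N).hom
      (N.localizedModuleMkLinearMap S x) = algebraMap R RS r • N.localizedModuleMkLinearMap S x
  rw [IsLocalizedModule.map_apply, IsScalarTower.algebraMap_smul]
  exact map_smul _ r x

lemma mapExt_smul {M N : ModuleCat.{u} R} {i : ℕ} (r : R) (e : Ext M N i) :
    (LF).mapExtAddHom M N i (r • e) = algebraMap R RS r • (LF).mapExtAddHom M N i e := by
  simp only [Functor.mapExtAddHom_apply]
  rw [Ext.smul_eq_comp_mk₀, Ext.mapExactFunctor_comp, Ext.mapExactFunctor_mk₀, map_smul_id,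
    ← Ext.smul_eq_comp_mk₀]

lemma smul_cancel {M : Type*} [AddCommGroup M] [Module RS M] {s : S} {y : M}
    (h : algebraMap R RS (s : R) • y = 0) : y = 0 :=
  (IsUnit.smul_eq_zero (IsLocalization.map_units RS s)).1 h

lemma localize_hom {M N : ModuleCat.{u} R} [Module.FinitePresentation R M] :
    (∀ g : (LF).obj M ⟶ (LF).obj N, ∃ (f : M ⟶ N) (s : S), algebraMap R RS (s : R) • g = (LF).map f) ∧
      ∀ f : M ⟶ N, (LF).map f = 0 → ∃ s : S, (s : R) • f = 0 := by
  constructor
  · intro g
    obtain ⟨h', s, e⟩ := Module.FinitePresentation.exists_lift_of_isLocalizedModule S (N.localizedModuleMkLinearMap S)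
      ((g.hom.restrictScalars R) ∘ₗ M.localizedModuleMkLinearMap S)
    refine ⟨ModuleCat.ofHom h', s, ModuleCat.hom_ext (LinearMap.restrictScalars_injective R ?_)⟩
    refine IsLocalizedModule.ext S (M.localizedModuleMkLinearMap S)
      (IsLocalizedModule.map_units (N.localizedModuleMkLinearMap S)) (LinearMap.ext fun x => ?_)
    show algebraMap R RS (s : R) • g.hom (M.localizedModuleMkLinearMap S x) =
      IsLocalizedModule.map S (M.localizedModuleMkLinearMap S) (N.localizedModuleMkLinearMap S) h' (M.localizedModuleMkLinearMap S x)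
    rw [IsLocalizedModule.map_apply, IsScalarTower.algebraMap_smul]
    exact (LinearMap.congr_fun e x).symm
  · intro f hf
    obtain ⟨s, hs⟩ := Module.Finite.exists_smul_of_comp_eq_of_isLocalizedModule S (N.localizedModuleMkLinearMap S) f.hom 0 (by
      refine LinearMap.ext fun x => ?_
      have h1 := LinearMap.congr_fun (congrArg ModuleCat.Hom.hom hf) (M.localizedModuleMkLinearMap S x)
      show N.localizedModuleMkLinearMap S (f.hom x) = N.localizedModuleMkLinearMap S 0
      rw [map_zero]
      refine (IsLocalizedModule.map_apply S (M.localizedModuleMkLinearMap S) (N.localizedModuleMkLinearMap S) f.hom x).symm.trans ?_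
      exact h1)
    exact ⟨s, ModuleCat.hom_ext (LinearMap.ext fun x => (LinearMap.congr_fun hs x).trans (smul_zero _))⟩

lemma projective_localized (n : ℕ) : Projective ((LF).obj (ModuleCat.of R (Fin n → R))) := by
  haveI := ModuleCat.localizedModule_isLocalizedModule (ModuleCat.of R (Fin n → R)) S
  haveI : Module.Free RS ((LF).obj (ModuleCat.of R (Fin n → R))) :=
    Module.Free.of_basis ((Pi.basisFun R (Fin n)).ofIsLocalizedModule RS S
      ((ModuleCat.of R (Fin n → R)).localizedModuleMkLinearMap S))
  exact (IsProjective.iff_projective _).1 inferInstance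

set_option maxHeartbeats 1000000 in
/-- One step of dimension shifting. -/
lemma step {T : ShortComplex (ModuleCat.{u} R)} (hT : T.ShortExact) [Projective T.X₂] [Projective (T.map LF).X₂]
    (i : ℕ) {N : ModuleCat.{u} R}
    (h₁ : (∀ y : Ext ((LF).obj T.X₁) ((LF).obj N) i,
        ∃ (e : Ext T.X₁ N i) (s : S), algebraMap R RS (s : R) • y = (LF).mapExtAddHom T.X₁ N i e) ∧
      (∀ e : Ext T.X₁ N i, (LF).mapExtAddHom T.X₁ N i e = 0 → ∃ s : S, (s : R) • e = 0))
    (h₂ : (∀ y : Ext ((LF).obj T.X₂) ((LF).obj N) i,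
        ∃ (e : Ext T.X₂ N i) (s : S), algebraMap R RS (s : R) • y = (LF).mapExtAddHom T.X₂ N i e) ∧
      (∀ e : Ext T.X₂ N i, (LF).mapExtAddHom T.X₂ N i e = 0 → ∃ s : S, (s : R) • e = 0)) :
    (∀ y : Ext ((LF).obj T.X₃) ((LF).obj N) (i + 1),
        ∃ (e : Ext T.X₃ N (i + 1)) (s : S), algebraMap R RS (s : R) • y = (LF).mapExtAddHom T.X₃ N (i + 1) e) ∧
      (∀ e : Ext T.X₃ N (i + 1), (LF).mapExtAddHom T.X₃ N (i + 1) e = 0 → ∃ s : S, (s : R) • e = 0) := by
  refine ⟨fun y => ?_, fun e he => ?_⟩
  · obtain ⟨y₀, hy₀⟩ := Ext.contravariant_sequence_exact₃ (hT.map_of_exact LF) ((LF).obj N) y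
      (Ext.eq_zero_of_projective _) (add_comm 1 i)
    obtain ⟨e₀, s, hs⟩ := h₁.1 y₀
    refine ⟨hT.extClass.comp e₀ (add_comm 1 i), s, ?_⟩
    have hs' : algebraMap R RS (s : R) • y₀ = Ext.mapExactFunctor LF e₀ := hs
    show _ = Ext.mapExactFunctor LF (hT.extClass.comp e₀ (add_comm 1 i))
    rw [Ext.mapExactFunctor_comp, Ext.mapExactFunctor_extClass, ← hy₀]
    exact (Ext.comp_smul (R := RS) _ y₀ _ _).symm.trans
      (congrArg (fun x => (hT.map_of_exact LF).extClass.comp x (add_comm 1 i)) hs')
  · obtain ⟨e₀, rfl⟩ := Ext.contravariant_sequence_exact₃ hT N e (Ext.eq_zero_of_projective _) (add_comm 1 i)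
    rw [Functor.mapExtAddHom_apply, Ext.mapExactFunctor_comp, Ext.mapExactFunctor_extClass] at he
    obtain ⟨z, hz⟩ := Ext.contravariant_sequence_exact₁ (hT.map_of_exact LF) ((LF).obj N) _ (add_comm 1 i) he
    obtain ⟨w, s, hw⟩ := h₂.1 z
    have hw' : algebraMap R RS (s : R) • z = Ext.mapExactFunctor LF w := hw
    have h0 : (LF).mapExtAddHom T.X₁ N i ((s : R) • e₀ - (Ext.mk₀ T.f).comp w (zero_add i)) = 0 := by
      rw [map_sub, mapExt_smul, sub_eq_zero, Functor.mapExtAddHom_apply, Functor.mapExtAddHom_apply,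
        Ext.mapExactFunctor_comp, Ext.mapExactFunctor_mk₀, ← hz]
      exact (Ext.comp_smul (R := RS) _ z _ _).symm.trans
        (congrArg (fun x => (Ext.mk₀ (T.map LF).f).comp x (zero_add i)) hw')
    obtain ⟨t, ht⟩ := h₁.2 _ h0
    refine ⟨t * s, ?_⟩
    have h1 := congrArg (fun x => hT.extClass.comp x (add_comm 1 i)) ht
    simp only [smul_sub, sub_eq_add_neg, Ext.comp_add, Ext.comp_neg, Ext.comp_smul, Ext.comp_zero,
      hT.extClass_comp_assoc, smul_zero, neg_zero, add_zero, smul_smul] at h1
    rw [Submonoid.coe_mul]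
    exact h1

theorem localize_ext [IsNoetherianRing R] (i : ℕ) : ∀ (M N : ModuleCat.{u} R) [Module.Finite R M],
    (∀ y : Ext ((LF).obj M) ((LF).obj N) i,
        ∃ (e : Ext M N i) (s : S), algebraMap R RS (s : R) • y = (LF).mapExtAddHom M N i e) ∧
      (∀ e : Ext M N i, (LF).mapExtAddHom M N i e = 0 → ∃ s : S, (s : R) • e = 0) := by
  induction i with
  | zero =>
    intro M N _
    haveI := Module.finitePresentation_of_finite R M
    obtain ⟨hs, hk⟩ := localize_hom S (M := M) (N := N)
    refine ⟨fun y => ?_, fun e he => ?_⟩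
    · obtain ⟨g, rfl⟩ := (Ext.mk₀_bijective _ _).2 y
      obtain ⟨f, s, hf⟩ := hs g
      exact ⟨Ext.mk₀ f, s, by rw [Functor.mapExtAddHom_apply, Ext.mapExactFunctor_mk₀, ← hf, Ext.mk₀_smul]⟩
    · obtain ⟨f, rfl⟩ := (Ext.mk₀_bijective _ _).2 e
      rw [Functor.mapExtAddHom_apply, Ext.mapExactFunctor_mk₀] at he
      obtain ⟨s, hs'⟩ := hk f ((Ext.mk₀_bijective _ _).1 (he.trans (Ext.mk₀_zero _ _).symm))
      exact ⟨s, by rw [← Ext.mk₀_smul, hs', Ext.mk₀_zero]⟩
  | succ i ih =>
    intro M N _
    obtain ⟨n, p, hp⟩ := Module.Finite.exists_fin' R M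
    let T : ShortComplex (ModuleCat.{u} R) :=
      ShortComplex.mk (X₁ := ModuleCat.of R (LinearMap.ker p)) (X₂ := ModuleCat.of R (Fin n → R)) (X₃ := M)
        (ModuleCat.ofHom (LinearMap.ker p).subtype) (ModuleCat.ofHom p)
        (ModuleCat.hom_ext (LinearMap.comp_ker_subtype p))
    have hT : T.ShortExact :=
      { exact := by
          rw [ShortComplex.ShortExact.moduleCat_exact_iff_function_exact]
          exact LinearMap.exact_subtype_ker_map p
        mono_f := (ModuleCat.mono_iff_injective _).2 Subtype.val_injective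
        epi_g := (ModuleCat.epi_iff_surjective _).2 hp }
    haveI : Module.Finite R T.X₁ := inferInstanceAs (Module.Finite R (LinearMap.ker p))
    haveI : Module.Finite R T.X₂ := inferInstanceAs (Module.Finite R (Fin n → R))
    haveI : Projective T.X₂ := (IsProjective.iff_projective (R := R) (Fin n → R)).1 inferInstance
    haveI : Projective (T.map LF).X₂ := projective_localized S n
    exact step S hT i (ih T.X₁ N) (ih T.X₂ N)

/-- Let R be a Noetherian commutative ring, S a multiplicative subset of R, and M, N finitely generated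
R-modules. For i ≥ 0 consider the map Ext^i_R(M, N) → Ext^i_{S⁻¹R}(S⁻¹M, S⁻¹N) induced on Ext groups
(computed in the categories of modules) by the exact localization functor M ↦ S⁻¹M. Then this map
exhibits its target as the localization S⁻¹ Ext^i_R(M, N): every element of the target, after
multiplication by some s ∈ S, is the image of an element of Ext^i_R(M, N), and an element of
Ext^i_R(M, N) maps to zero if and only if it is annihilated by some element of S. (Equivalently, the
induced map identifies S⁻¹Ext^i_R(M, N) with Ext^i_{S⁻¹R}(S⁻¹M, S⁻¹N).) -/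
theorem result (R : Type u) [CommRing R] [IsNoetherianRing R]
    (S : Submonoid R) (M N : ModuleCat.{u} R) [Module.Finite R M] [Module.Finite R N] (i : ℕ) :
    (∀ y : Abelian.Ext ((ModuleCat.localizedModuleFunctor.{u} S).obj M) ((ModuleCat.localizedModuleFunctor.{u} S).obj N) i,
        ∃ (e : Abelian.Ext M N i) (s : S),
          algebraMap R (Localization S) (s : R) • y = (ModuleCat.localizedModuleFunctor.{u} S).mapExtAddHom M N i e) ∧
      (∀ e : Abelian.Ext M N i,
        (ModuleCat.localizedModuleFunctor.{u} S).mapExtAddHom M N i e = 0 ↔ ∃ s : S, (s : R) • e = 0) := by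
  obtain ⟨h1, h2⟩ := localize_ext S i M N
  refine ⟨h1, fun e => ⟨h2 e, fun ⟨s, hs⟩ => smul_cancel S (s := s) ?_⟩⟩
  rw [← mapExt_smul, hs, map_zero]

end Groth.Agent.S14412
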