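import Groth.Statements.S14413
import Mathlib.Algebra.Homology.Augment
import Mathlib.CategoryTheory.Abelian.Projective.Dimension
import Mathlib.CategoryTheory.Abelian.Projective.Resolution
import Mathlib.Algebra.Category.ModuleCat.Projective
import Mathlib.Algebra.Homology.ShortComplex.ModuleCat
import Mathlib.Algebra.Category.ModuleCat.EnoughInjectives

set_option autoImplicit false
universe u
open CategoryTheory CategoryTheory.Limits
open CAlg

namespace Groth.Agent.S14413
open CategoryTheory CategoryTheory.Limits

/-- An exact pair gives a short exact sequence of ranges. -/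
theorem exists_shortExact_range {R : Type u} [CommRing R] {X Y Z : ModuleCat.{u} R} (a : X ⟶ Y) (b : Y ⟶ Z)
    (h : Function.Exact a.hom b.hom) :
    ∃ (f : ModuleCat.of R (LinearMap.range a.hom) ⟶ Y) (g : Y ⟶ ModuleCat.of R (LinearMap.range b.hom)) (w : f ≫ g = 0),
      (ShortComplex.mk f g w).ShortExact := by
  have w : ModuleCat.ofHom (LinearMap.range a.hom).subtype ≫ ModuleCat.ofHom b.hom.rangeRestrict = 0 := by
    refine ModuleCat.hom_ext (LinearMap.ext ?_)
    rintro ⟨_, z, rfl⟩
    exact Subtype.ext (h.apply_apply_eq_zero z)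
  refine ⟨_, _, w, ?_⟩
  exact
    { exact := (ShortComplex.ShortExact.moduleCat_exact_iff_function_exact _).2 (LinearMap.exact_iff.2 (by
        show LinearMap.ker (LinearMap.rangeRestrict _) = LinearMap.range (Submodule.subtype _)
        rw [LinearMap.ker_rangeRestrict, Submodule.range_subtype, LinearMap.exact_iff.1 h]))
      mono_f := (ModuleCat.mono_iff_injective _).2 Subtype.val_injective
      epi_g := (ModuleCat.epi_iff_surjective _).2 (LinearMap.surjective_rangeRestrict _) }

/-- Splicing a short exact sequence with a resolution of its kernel. -/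
theorem exists_cons {C : Type*} [Category C] [Abelian C] {S : ShortComplex C} (hS : S.ShortExact) [Projective S.X₂]
    (Q : ProjectiveResolution S.X₁) :
    ∃ P : ProjectiveResolution S.X₃, ∀ i, IsZero (Q.complex.X i) → IsZero (P.complex.X (i + 1)) := by
  haveI := hS.mono_f
  haveI := hS.epi_g
  let ε : Q.complex.X 0 ⟶ S.X₁ := Q.π.f 0
  have hε : Q.complex.d 1 0 ≫ ε = 0 := Q.complex_d_comp_π_f_zero
  haveI : Epi ε := inferInstanceAs (Epi (Q.π.f 0))
  have w : Q.complex.d 1 0 ≫ ε ≫ S.f = 0 := by rw [reassoc_of% hε, zero_comp]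
  let K : ChainComplex C ℕ := Q.complex.augment (ε ≫ S.f) w
  have hw : K.d 1 0 ≫ S.g = 0 := by
    show (ε ≫ S.f) ≫ S.g = 0
    rw [Category.assoc, S.zero, comp_zero]
  refine ⟨{
    complex := K
    projective := fun n => by
      cases n with
      | zero => exact inferInstanceAs (Projective S.X₂)
      | succ n => exact inferInstanceAs (Projective (Q.complex.X n))
    π := (ChainComplex.toSingle₀Equiv _ _).symm ⟨S.g, hw⟩
    quasiIso := ⟨fun n => ?_⟩ }, fun i hi => hi⟩
  cases n with
  | zero =>
    rw [ChainComplex.quasiIsoAt₀_iff, ShortComplex.quasiIso_iff_of_zeros']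
    · refine (ShortComplex.exact_and_epi_g_iff_of_iso (S₂ := ShortComplex.mk (ε ≫ S.f) S.g hw) ?_).2 ⟨?_, hS.epi_g⟩
      · refine ShortComplex.isoMk (Iso.refl _) (Iso.refl _) (Iso.refl _) ?_ ?_
        · exact (Category.id_comp _).trans (Category.comp_id _).symm
        · exact (Category.id_comp _).trans (((ChainComplex.toSingle₀Equiv_symm_apply_f_zero (C := K) S.g hw).symm).trans (Category.comp_id _).symm)
      · let φ : ShortComplex.mk (ε ≫ S.f) S.g hw ⟶ S :=
          { τ₁ := ε, τ₂ := 𝟙 _, τ₃ := 𝟙 _, comm₁₂ := (Category.comp_id _).symm,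
            comm₂₃ := (Category.id_comp _).trans (Category.comp_id _).symm }
        haveI : Epi φ.τ₁ := inferInstanceAs (Epi ε)
        haveI : IsIso φ.τ₂ := inferInstanceAs (IsIso (𝟙 _))
        haveI : Mono φ.τ₃ := inferInstanceAs (Mono (𝟙 _))
        exact (ShortComplex.exact_iff_of_epi_of_isIso_of_mono φ).2 hS.exact
    all_goals rfl
  | succ n =>
    rw [quasiIsoAt_iff_exactAt' _ _ (ChainComplex.exactAt_succ_single_obj _ _)]
    rw [HomologicalComplex.exactAt_iff' _ (n + 1 + 1) (n + 1) n (by simp) (by simp)]
    cases n with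
    | zero =>
      let φ : ShortComplex.mk (Q.complex.d 1 0) ε hε ⟶ ShortComplex.mk (Q.complex.d 1 0) (ε ≫ S.f) w :=
        { τ₁ := 𝟙 _, τ₂ := 𝟙 _, τ₃ := S.f, comm₁₂ := (Category.id_comp _).trans (Category.comp_id _).symm,
          comm₂₃ := Category.id_comp _ }
      haveI : Epi φ.τ₁ := inferInstanceAs (Epi (𝟙 _))
      haveI : IsIso φ.τ₂ := inferInstanceAs (IsIso (𝟙 _))
      haveI : Mono φ.τ₃ := inferInstanceAs (Mono S.f)
      exact (ShortComplex.exact_iff_of_epi_of_isIso_of_mono φ).1 Q.exact₀
    | succ n => exact Q.exact_succ n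

/-- Let R be a commutative ring, M an R-module and d ≥ 0. Then M has projective dimension at most d in
the sense that Ext^i_R(M, N) = 0 for every i > d and every R-module N (Mathlib's Ext-vanishing
definition) if and only if M has a projective resolution of length at most d, i.e. a projective
resolution P whose terms P_i are zero for all i > d (the definition of pd_R(M) ≤ d by resolutions). -/
theorem result (R : Type u) [CommRing R]
    (M : ModuleCat.{u} R) (d : ℕ) :
    HasProjectiveDimensionLE M d ↔
      ∃ P : ProjectiveResolution M, ∀ i : ℕ, d < i → IsZero (P.complex.X i) := by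
  constructor
  · intro h
    induction d generalizing M with
    | zero =>
      haveI : Projective M := projective_iff_hasProjectiveDimensionLT_one.2 h
      exact ⟨ProjectiveResolution.self M, fun i hi => HomologicalComplex.isZero_single_obj_X _ _ _ _ (by omega)⟩
    | succ d ih =>
      let S := ShortComplex.mk (kernel.ι (Projective.π M)) (Projective.π M) (kernel.condition _)
      have hS : S.ShortExact :=
        { exact := ShortComplex.exact_of_f_is_kernel _ (kernelIsKernel _)
          mono_f := inferInstanceAs (Mono (kernel.ι _))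
          epi_g := inferInstanceAs (Epi (Projective.π M)) }
      haveI : Projective S.X₂ := inferInstanceAs (Projective (Projective.over M))
      obtain ⟨Q, hQ⟩ := ih S.X₁ ((hS.hasProjectiveDimensionLT_X₃_iff d inferInstance).1 h)
      obtain ⟨P, hP⟩ := exists_cons hS Q
      refine ⟨P, fun i hi => ?_⟩
      obtain ⟨j, rfl⟩ : ∃ j, i = j + 1 := ⟨i - 1, by omega⟩
      exact hP j (hQ j (by omega))
  · rintro ⟨P, hP⟩
    let B : ℕ → ModuleCat.{u} R := fun j => ModuleCat.of R (LinearMap.range (P.complex.d (j + 1) j).hom)
    have hses : ∀ j, ∃ (f : B (j + 1) ⟶ P.complex.X (j + 1)) (g : P.complex.X (j + 1) ⟶ B j) (w : f ≫ g = 0),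
        (ShortComplex.mk f g w).ShortExact := fun j =>
      exists_shortExact_range _ _ ((ShortComplex.ShortExact.moduleCat_exact_iff_function_exact _).1 (P.exact_succ j))
    have key : ∀ k j, d ≤ j + k → HasProjectiveDimensionLT (B j) k := by
      intro k
      induction k with
      | zero =>
        intro j hj
        rw [hasProjectiveDimensionLT_zero_iff_isZero, ModuleCat.isZero_iff_subsingleton]
        haveI := ModuleCat.subsingleton_of_isZero (hP (j + 1) (by omega))
        exact ⟨fun ⟨_, a, ha⟩ ⟨_, b, hb⟩ => Subtype.ext (ha.symm.trans ((congrArg _ (Subsingleton.elim a b)).trans hb))⟩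
      | succ k ih =>
        intro j hj
        haveI : Projective (P.complex.X (j + 1)) := P.projective _
        obtain ⟨_, _, _, hj'⟩ := hses j
        exact hj'.hasProjectiveDimensionLT_X₃ k (ih (j + 1) (by omega))
          (hasProjectiveDimensionLT_of_ge _ 1 (k + 1) (by omega))
    let S := ShortComplex.mk (X₁ := B 0) (X₂ := P.complex.X 0) (X₃ := M)
      (ModuleCat.ofHom (LinearMap.range (P.complex.d 1 0).hom).subtype) (P.π.f 0) (by
        ext ⟨_, z, rfl⟩
        exact ConcreteCategory.congr_hom P.complex_d_comp_π_f_zero z)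
    have hS : S.ShortExact :=
      { exact := (ShortComplex.ShortExact.moduleCat_exact_iff_function_exact _).2 (LinearMap.exact_iff.2 (by
          show LinearMap.ker (P.π.f 0).hom = LinearMap.range (Submodule.subtype _)
          rw [Submodule.range_subtype]
          exact LinearMap.exact_iff.1 ((ShortComplex.ShortExact.moduleCat_exact_iff_function_exact _).1 P.exact₀)))
        mono_f := (ModuleCat.mono_iff_injective _).2 Subtype.val_injective
        epi_g := inferInstanceAs (Epi (P.π.f 0)) }
    haveI : Projective (P.complex.X 0) := P.projective _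
    exact hS.hasProjectiveDimensionLT_X₃ d (key d 0 (by omega)) (hasProjectiveDimensionLT_of_ge _ 1 (d + 1) (by omega))

end Groth.Agent.S14413
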