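import Groth.Statements.S14415
import Groth.Agent.AssPtX.FlatDvr17

set_option autoImplicit false
set_option backward.isDefEq.respectTransparency false
set_option backward.isDefEq.respectTransparency.types false
set_option linter.style.haveILetI false
universe u
open CategoryTheory AlgebraicGeometry
open FlatMor

namespace Groth.Agent.S14415

/-- Let f : C → C' be a finite morphism of schemes, with C' locally Noetherian and all local rings of C'
regular of dimension at most one, such that every associated point x of C (a point whose maximal
ideal is an associated prime of O_{C,x}) maps to a point of C' whose local ring is zero-dimensional,
that is, to a generic point of an irreducible component of C'. Then f_* O_C is finite locally free.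
(The published statement takes C' regular Noetherian of pure dimension one and C Noetherian of pure
dimension one without embedded points; these hypotheses imply that every associated point of C maps
to a generic point of C'. This row assumes only that condition, allows C' locally Noetherian with
regular local rings of dimension at most one, and puts no condition on the dimension of C; the
argument is local on C'.) -/
theorem result
    (C C' : Scheme.{u}) (f : C ⟶ C') [IsFinite f] [IsLocallyNoetherian C']
    (hreg : ∀ y : C', IsRegularLocalRing (C'.presheaf.stalk y))
    (hdim : ∀ y : C', ringKrullDim (C'.presheaf.stalk y) ≤ 1)
    (hass : ∀ x : C, Curv2.IsAssPoint (Coh.structureModule C) x →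
      ringKrullDim (C'.presheaf.stalk (f.base x)) = 0) :
    FlatMod.IsFinLocFree ((Coh.push f).obj (Coh.structureModule C)) := by
  haveI : Flat f := by
    refine AssPtX.flat_of_assPoints (fun y => ⟨hreg y, hdim y⟩) f fun x hx => ?_
    haveI := hreg (f x)
    haveI := RegLoc6.isDomain_of_isRegularLocalRing (C'.presheaf.stalk (f x))
    haveI : Ring.KrullDimLE 0 (C'.presheaf.stalk (f x)) := Ring.krullDimLE_iff.2 (hass x hx).le
    exact Ring.KrullDimLE.isField_of_isDomain
  haveI : LocallyOfFinitePresentation f := inferInstance
  exact AssPtX.isFinLocFree_push f

end Groth.Agent.S14415
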