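import Groth.Statements.S14416
import Mathlib

set_option autoImplicit false
universe u
open scoped TensorProduct
open CAlg

namespace Groth.Agent.S14416

/-- Let B → A be a ring map with A a finitely generated B-module such that for every prime ideal p of B
the fibre κ(p) ⊗_B A has dimension at most one over the residue field κ(p). Then B → A is
surjective. In scheme language: a finite morphism whose degree at every point of the target is 0 or
1 is a closed immersion. (The published statement assumes the two schemes Noetherian; that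
hypothesis plays no role and is dropped here.) -/
theorem result
    (B A : Type u) [CommRing B] [CommRing A] [Algebra B A] [Module.Finite B A]
    (h : ∀ p : PrimeSpectrum B,
      Module.finrank p.asIdeal.ResidueField (p.asIdeal.ResidueField ⊗[B] A) ≤ 1) :
    Function.Surjective (algebraMap B A) := by
  classical
  let C := A ⧸ LinearMap.range (Algebra.linearMap B A)
  have key : ∀ P : Ideal B, P.IsMaximal → (⊤ : Submodule B C) ≤ P • ⊤ := by
    intro P hP c _
    obtain ⟨a, rfl⟩ := Submodule.Quotient.mk_surjective _ c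
    let κ := P.ResidueField
    have hd : Module.finrank κ (κ ⊗[B] A) ≤ 1 := h ⟨P, hP.isPrime⟩
    obtain ⟨c, hc⟩ : ∃ c : κ, c • ((1 : κ) ⊗ₜ[B] (1 : A)) = (1 : κ) ⊗ₜ a := by
      rcases eq_or_ne ((1 : κ) ⊗ₜ[B] (1 : A)) 0 with h0 | h0
      · refine ⟨0, ?_⟩
        have h01 : (1 : κ ⊗[B] A) = 0 := h0
        rw [zero_smul]
        exact (eq_zero_of_zero_eq_one h01.symm _).symm
      · exact exists_smul_eq_of_finrank_eq_one
          (le_antisymm hd (Module.finrank_pos_iff.2 ⟨_, _, h0⟩)) h0 _
    obtain ⟨b₀, hb₀⟩ := (Ideal.bijective_algebraMap_quotient_residueField P).2 c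
    obtain ⟨b, rfl⟩ := Ideal.Quotient.mk_surjective b₀
    have h0 : (1 : κ) ⊗ₜ[B] (a - algebraMap B A b) = 0 := by
      rw [TensorProduct.tmul_sub, ← hc, Algebra.algebraMap_eq_smul_one, TensorProduct.tmul_smul, ← hb₀,
        ← IsScalarTower.algebraMap_smul κ b, sub_eq_zero]
      rfl
    let φ : (B ⧸ P) →ₗ[B] κ := (IsScalarTower.toAlgHom B (B ⧸ P) κ).toLinearMap
    let e := LinearEquiv.ofBijective φ (Ideal.bijective_algebraMap_quotient_residueField P)
    have h1 : (Ideal.Quotient.mk P 1) ⊗ₜ[B] (a - algebraMap B A b) = (0 : (B ⧸ P) ⊗[B] A) := by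
      refine (e.rTensor A).injective ?_
      rw [LinearEquiv.rTensor_tmul, map_zero, show e (Ideal.Quotient.mk P 1) = (1 : κ) from map_one (algebraMap (B ⧸ P) κ), h0]
    have h2 := congrArg (TensorProduct.quotTensorEquivQuotSMul A P) h1
    rw [map_zero, TensorProduct.quotTensorEquivQuotSMul_mk_tmul, one_smul] at h2
    have h3 := Submodule.mem_map_of_mem (f := (LinearMap.range (Algebra.linearMap B A)).mkQ)
      ((Submodule.Quotient.mk_eq_zero _).1 h2)
    rw [Submodule.map_smul'', Submodule.map_top, Submodule.range_mkQ, map_sub,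
      show (LinearMap.range (Algebra.linearMap B A)).mkQ (algebraMap B A b) = 0 from
        (Submodule.Quotient.mk_eq_zero _).2 ⟨b, rfl⟩, sub_zero] at h3
    exact h3
  have hann : Module.annihilator B C = ⊤ := by
    by_contra hne
    obtain ⟨P, hP, hle⟩ := Ideal.exists_le_maximal _ hne
    obtain ⟨r, hr1, hr2⟩ := Submodule.exists_sub_one_mem_and_smul_eq_zero_of_fg_of_le_smul P ⊤
      Module.Finite.fg_top (key P hP)
    have hrP : r ∈ P := hle (Module.mem_annihilator.2 fun x => hr2 x trivial)
    exact hP.ne_top ((Ideal.eq_top_iff_one _).2 (by simpa using P.sub_mem hrP hr1))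
  intro a
  have h4 : (Submodule.Quotient.mk a : C) = 0 := by
    have := Module.mem_annihilator.1 (show (1 : B) ∈ Module.annihilator B C by rw [hann]; trivial)
      (Submodule.Quotient.mk a : C)
    rwa [one_smul] at this
  exact (Submodule.Quotient.mk_eq_zero _).1 h4

end Groth.Agent.S14416
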