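import Groth.Statements.S14417
import Groth.Agent.GenSmooth5.Basic
import Groth.Agent.AlgSpDec.SmoothLocDim
import Groth.Agent.VarDim.Fibre
import Groth.Agent.FibDim.Minimal

set_option backward.isDefEq.respectTransparency.types false
set_option backward.isDefEq.respectTransparency false
set_option linter.style.haveILetI false
-- import your own Groth.Agent.* helpers here

set_option autoImplicit false
universe u
open CategoryTheory AlgebraicGeometry
open Variety

namespace Groth.Agent.S14417

/-- Generic smoothness on the source: let π : X → Y be a dominant morphism of finite type between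
integral Noetherian schemes, sending the generic point of X to that of Y, such that the function
field K(Y) (equivalently K(X)) has characteristic zero, and let n be the transcendence degree of
K(X) over K(Y). Then there is a nonempty (equivalently dense) open subscheme U of X on which π
restricts to a smooth morphism U → Y of relative dimension n. -/
theorem result
    (X Y : Scheme.{u}) [IsIntegral X] [IsIntegral Y] [IsNoetherian X] [IsNoetherian Y]
    (π : X ⟶ Y) [LocallyOfFiniteType π] [QuasiCompact π]
    (hdom : π.base (genericPoint X) = genericPoint Y) [CharZero Y.functionField]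
    (n : ℕ) (hn : @Algebra.trdeg (Y.presheaf.stalk (π.base (genericPoint X))) X.functionField _ _
      (π.stalkMap (genericPoint X)).hom.toAlgebra = n) :
    ∃ U : X.Opens, (U : Set X).Nonempty ∧ SmoothOfRelativeDimension n (U.ι ≫ π) := by
  open Groth.Agent in
  haveI : LocallyOfFinitePresentation π := LocallyOfFinitePresentation.iff_locallyOfFiniteType.2 ‹_›
  obtain ⟨U, hξU, hU⟩ := GenSmooth5.exists_open_smooth π hdom
  let ξ := genericPoint X
  obtain ⟨V, j, v, m, hj, hjv, hm⟩ := AlgSpDec.SmoothLocDim.exists_smoothOfRelativeDimension_nhd (U.ι ≫ π) ⟨ξ, hξU⟩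
  -- the relative dimension is the transcendence degree
  have hfd : FlatMor.fibreDimAt π ξ = ((FibDim.rd π ξ : ℕ∞) : WithBot ℕ∞) :=
    FibDim.fibreDimAt_eq_rd π (FibDim.fibMax_of_maximal π fun z hz => (hz.antisymm (genericPoint_specializes z)).eq)
  have hfield : ∀ {Z : Scheme.{u}} (z : Z) (_ : IsIntegral Z), z = genericPoint Z →
      Function.Injective (Z.residue z).hom := fun {Z} z _ hz => by
    subst hz
    exact RingHom.injective (R := Z.functionField) (Z.residue (genericPoint Z)).hom
  have htr : VarDim.rdeg π ξ = n := by
    rw [← hn]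
    let F : Type u := Y.presheaf.stalk (π.base ξ)
    let K' : Type u := Y.residueField (π ξ)
    let L' : Type u := X.residueField ξ
    letI : Algebra F X.functionField := (π.stalkMap ξ).hom.toAlgebra
    letI : Algebra F K' := (Y.residue (π ξ)).hom.toAlgebra
    letI : Algebra K' L' := (π.residueFieldMap ξ).hom.toAlgebra
    letI : Algebra F L' := ((X.residue ξ).hom.comp (π.stalkMap ξ).hom).toAlgebra
    haveI : IsScalarTower F K' L' := IsScalarTower.of_algebraMap_eq fun c =>
      (congr($(Scheme.residue_residueFieldMap π ξ) c)).symm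
    let e : X.functionField ≃ₐ[F] L' :=
      { RingEquiv.ofBijective (X.residue ξ).hom ⟨hfield ξ inferInstance rfl, X.residue_surjective ξ⟩ with
        commutes' := fun c => rfl }
    have hsurj : Function.Surjective (algebraMap F K') := Y.residue_surjective (π ξ)
    haveI : FaithfulSMul F K' := (faithfulSMul_iff_algebraMap_injective _ _).2 (hfield (π ξ) inferInstance hdom)
    haveI : IsDomain F := (hfield (π ξ) inferInstance hdom).isDomain _
    haveI : Algebra.IsAlgebraic F K' := ⟨fun a => by
      obtain ⟨a, rfl⟩ := hsurj a
      exact isAlgebraic_algebraMap a⟩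
    haveI : FaithfulSMul K' L' := (faithfulSMul_iff_algebraMap_injective _ _).2 (algebraMap K' L').injective
    show Algebra.trdeg K' L' = Algebra.trdeg F X.functionField
    rw [e.trdeg_eq, ← trdeg_add_eq F K' (A := L'), trdeg_eq_zero (R := F) (A := K'), zero_add]
  have hmn : m = n := by
    have h2 := Groth.Agent.S2768.result m (j ≫ U.ι ≫ π) v
    rw [FibDim.fibreDimAt_openImmersion_comp j (U.ι ≫ π) v, hjv,
      FibDim.fibreDimAt_openImmersion_comp U.ι π, show U.ι ⟨ξ, hξU⟩ = ξ from rfl, hfd] at h2
    have h3 : FibDim.rd π ξ = m := by exact_mod_cast h2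
    have h4 := FibDim.rd_eq_rdeg π ξ
    rw [h3, htr] at h4
    exact_mod_cast h4
  subst hmn
  refine ⟨(j ≫ U.ι).opensRange, ⟨ξ, v, ?_⟩, ?_⟩
  · show U.ι (j v) = ξ
    rw [hjv]
    rfl
  · haveI : SmoothOfRelativeDimension m ((j ≫ U.ι).opensRange.ι ≫ π) := by
      rw [← (j ≫ U.ι).isoOpensRange_inv_comp, Category.assoc, Category.assoc]
      simpa only [Nat.zero_add] using smoothOfRelativeDimension_comp (n := 0) (m := m) (j ≫ U.ι).isoOpensRange.inv (j ≫ U.ι ≫ π)
    infer_instance

end Groth.Agent.S14417
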