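import Groth.Statements.S14418
import Mathlib.RingTheory.Nakayama
import Mathlib.RingTheory.Ideal.AssociatedPrime.Basic
import Mathlib.Algebra.Homology.ShortComplex.ModuleCat
import Mathlib.Algebra.Category.ModuleCat.Kernels

set_option autoImplicit false
universe u
open CategoryTheory
open CAlg

namespace Groth.Agent.S14418
open CategoryTheory

/-- The short exact sequence attached to a submodule. -/
theorem shortExact_of_submodule {B : Type u} [CommRing B] {M : Type u} [AddCommGroup M] [Module B M] (N : Submodule B M) :
    (ShortComplex.mk (ModuleCat.ofHom N.subtype) (ModuleCat.ofHom N.mkQ)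
      (by ext1; ext x; simp)).ShortExact := by
  have he : Function.Exact N.subtype N.mkQ := LinearMap.exact_subtype_mkQ N
  exact
    { exact := (ShortComplex.ShortExact.moduleCat_exact_iff_function_exact _).2 he
      mono_f := (ModuleCat.mono_iff_injective _).2 N.injective_subtype
      epi_g := (ModuleCat.epi_iff_surjective _).2 N.mkQ_surjective }

/-- Let B → A be a local homomorphism of Noetherian local rings, n the maximal ideal of B, and T an
additive functor from B-modules to A-modules which is B-linear (T applied to multiplication by b ∈ B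
is multiplication by the image of b in A), carries finitely generated B-modules to finitely
generated A-modules, and is half-exact on finitely generated modules (every short exact sequence of
finitely generated B-modules goes to a sequence exact at its middle term). If T(B/n) = 0 then T(N) =
0 for every finitely generated B-module N. (The published statement takes T defined on finitely
generated modules only; here T is defined on all B-modules while every hypothesis and the conclusion
concern finitely generated modules.) -/
theorem result {B A : Type u} [CommRing B] [CommRing A]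
    [IsNoetherianRing B] [IsLocalRing B] [IsNoetherianRing A] [IsLocalRing A] [Algebra B A]
    [IsLocalHom (algebraMap B A)] (T : ModuleCat.{u} B ⥤ ModuleCat.{u} A) [T.Additive]
    (hlin : ∀ (N : ModuleCat.{u} B) (b : B),
      T.map (ModuleCat.ofHom (b • (LinearMap.id : N →ₗ[B] N))) =
        ModuleCat.ofHom (algebraMap B A b • (LinearMap.id : T.obj N →ₗ[A] T.obj N)))
    (hfin : ∀ N : ModuleCat.{u} B, Module.Finite B N → Module.Finite A (T.obj N))
    (hex : ∀ S : ShortComplex (ModuleCat.{u} B), S.ShortExact → Module.Finite B S.X₁ →
      Module.Finite B S.X₂ → Module.Finite B S.X₃ → (S.map T).Exact)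
    (h0 : Limits.IsZero (T.obj (ModuleCat.of B (B ⧸ IsLocalRing.maximalIdeal B))))
    (N : ModuleCat.{u} B) [Module.Finite B N] : Limits.IsZero (T.obj N) := by
  classical
  have mid : ∀ (M : Type u) [AddCommGroup M] [Module B M] [Module.Finite B M] (N : Submodule B M),
      Limits.IsZero (T.obj (ModuleCat.of B N)) → Limits.IsZero (T.obj (ModuleCat.of B (M ⧸ N))) →
      Limits.IsZero (T.obj (ModuleCat.of B M)) := by
    intro M _ _ _ N h₁ h₃
    exact (hex _ (shortExact_of_submodule N) (inferInstanceAs (Module.Finite B N)) (inferInstanceAs (Module.Finite B M))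
      (inferInstanceAs (Module.Finite B (M ⧸ N)))).isZero_of_both_zeros (h₁.eq_of_src _ _) (h₃.eq_of_tgt _ _)
  have iso : ∀ (M M' : Type u) [AddCommGroup M] [Module B M] [AddCommGroup M'] [Module B M'], (M ≃ₗ[B] M') →
      Limits.IsZero (T.obj (ModuleCat.of B M)) → Limits.IsZero (T.obj (ModuleCat.of B M')) :=
    fun M M' _ _ _ _ e h => h.of_iso (T.mapIso e.toModuleIso).symm
  have cyc : ∀ I : Ideal B, Limits.IsZero (T.obj (ModuleCat.of B (B ⧸ I))) := by
    intro I
    induction I using WellFoundedGT.induction with
    | ind I ih =>
    by_cases hle : IsLocalRing.maximalIdeal B ≤ I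
    · by_cases htop : I = ⊤
      · subst htop
        haveI : Subsingleton (ModuleCat.of B (B ⧸ (⊤ : Ideal B))) := Submodule.Quotient.subsingleton_iff.2 rfl
        exact T.map_isZero (ModuleCat.isZero_of_subsingleton _)
      · rwa [← (IsLocalRing.maximalIdeal.isMaximal B).eq_of_le htop hle]
    · obtain ⟨b, hbm, hbI⟩ := SetLike.not_le_iff_exists.1 hle
      let φ : (B ⧸ I) →ₗ[B] B ⧸ I := b • LinearMap.id
      have hq : Limits.IsZero (T.obj (ModuleCat.of B ((B ⧸ I) ⧸ LinearMap.range φ))) := by
        refine iso (B ⧸ (I ⊔ Ideal.span {b})) _ ?_ (ih _ (left_lt_sup.2 fun h => hbI ((Ideal.span_singleton_le_iff_mem I).1 h)))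
        have hr : LinearMap.range φ = Submodule.map (Submodule.mkQ I) (I ⊔ Ideal.span {b}) := by
          rw [Submodule.map_sup, Submodule.mkQ_map_self, bot_sup_eq]
          ext z
          constructor
          · rintro ⟨w, rfl⟩
            obtain ⟨w, rfl⟩ := Submodule.Quotient.mk_surjective I w
            exact ⟨b * w, Ideal.mem_span_singleton'.2 ⟨w, mul_comm w b⟩, by simp [φ, Algebra.smul_def]⟩
          · rintro ⟨_, hw, rfl⟩
            obtain ⟨w, rfl⟩ := Ideal.mem_span_singleton'.1 hw
            exact ⟨Submodule.Quotient.mk w, by simp [φ, Algebra.smul_def, mul_comm]⟩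
        exact (Submodule.quotEquivOfEq _ _ hr ≪≫ₗ Submodule.quotientQuotientEquivQuotient I (I ⊔ Ideal.span {b}) le_sup_left).symm
      by_cases hinj : Function.Injective φ
      · -- multiplication by `b` is surjective on the value, so Nakayama applies
        let S : ShortComplex (ModuleCat.{u} B) := ShortComplex.mk (ModuleCat.ofHom φ) (ModuleCat.ofHom (LinearMap.range φ).mkQ)
          (by ext1; exact LinearMap.range_mkQ_comp φ)
        have hS : S.ShortExact :=
          { exact := (ShortComplex.ShortExact.moduleCat_exact_iff_function_exact _).2 (LinearMap.exact_map_mkQ_range φ)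
            mono_f := (ModuleCat.mono_iff_injective _).2 hinj
            epi_g := (ModuleCat.epi_iff_surjective _).2 (Submodule.mkQ_surjective _) }
        have hepi : Epi ((S.map T).f) := (hex S hS (inferInstanceAs (Module.Finite B (B ⧸ I)))
          (inferInstanceAs (Module.Finite B (B ⧸ I))) (inferInstanceAs (Module.Finite B ((B ⧸ I) ⧸ LinearMap.range φ)))).epi_f
          (hq.eq_of_tgt _ _)
        have hs : Function.Surjective ((S.map T).f) := (ModuleCat.epi_iff_surjective _).1 hepi
        rw [show (S.map T).f = _ from hlin (ModuleCat.of B (B ⧸ I)) b] at hs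
        haveI := hfin (ModuleCat.of B (B ⧸ I)) (inferInstanceAs (Module.Finite B (B ⧸ I)))
        haveI : Subsingleton (T.obj (ModuleCat.of B (B ⧸ I))) := by
          refine Submodule.subsingleton_iff A |>.1 (subsingleton_of_bot_eq_top ?_)
          refine (Submodule.eq_bot_of_le_smul_of_le_jacobson_bot (Ideal.span {algebraMap B A b}) ⊤ Module.Finite.fg_top ?_ ?_).symm
          · intro z _
            obtain ⟨w, rfl⟩ := hs z
            exact Submodule.smul_mem_smul (Ideal.mem_span_singleton_self _) Submodule.mem_top
          · rw [IsLocalRing.jacobson_eq_maximalIdeal ⊥ bot_ne_top, Ideal.span_singleton_le_iff_mem]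
            exact map_nonunit (algebraMap B A) b hbm
        exact ModuleCat.isZero_of_subsingleton _
      · -- otherwise split off the image
        refine mid _ (LinearMap.range φ) ?_ hq
        let ψ : B →ₗ[B] B ⧸ I := LinearMap.toSpanSingleton B _ (Submodule.Quotient.mk b)
        have hψ : LinearMap.range ψ = LinearMap.range φ := by
          have : ψ = φ ∘ₗ I.mkQ := by ext; simp [ψ, φ, ← Submodule.Quotient.mk_smul]; exact (Algebra.smul_def b (1 : B ⧸ I)).trans (mul_one _) |>.symm
          rw [this, LinearMap.range_comp, Submodule.range_mkQ, Submodule.map_top]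
        refine iso _ _ (LinearMap.quotKerEquivRange ψ ≪≫ₗ LinearEquiv.ofEq _ _ hψ) (ih _ ?_)
        refine lt_of_le_of_ne (SetLike.le_def.2 fun c hc => ?_) fun e => hinj ?_
        · rw [LinearMap.mem_ker]
          simp only [ψ, LinearMap.toSpanSingleton_apply, ← Submodule.Quotient.mk_smul, Submodule.Quotient.mk_eq_zero]
          exact I.mul_mem_right b hc
        · rw [injective_iff_map_eq_zero]
          intro z hz
          obtain ⟨c, rfl⟩ := Submodule.Quotient.mk_surjective I z
          rw [Submodule.Quotient.mk_eq_zero, e, LinearMap.mem_ker, ← hz]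
          simp [ψ, φ, Algebra.smul_def, mul_comm]
  have main : ∀ (n : ℕ) (M : Type u) [AddCommGroup M] [Module B M] (s : Fin n → M),
      Submodule.span B (Set.range s) = ⊤ → Limits.IsZero (T.obj (ModuleCat.of B M)) := by
    intro n
    induction n with
    | zero =>
      intro M _ _ s hs
      have : Subsingleton M := by
        rw [Set.range_eq_empty, Submodule.span_empty] at hs
        exact (Submodule.subsingleton_iff B).1 (subsingleton_of_bot_eq_top hs)
      exact T.map_isZero (ModuleCat.isZero_of_subsingleton _)
    | succ n ih =>
      intro M _ _ s hs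
      haveI : Module.Finite B M := Module.Finite.of_fg_top (hs ▸ Submodule.fg_span (Set.finite_range s))
      refine mid M (B ∙ s 0) ?_ ?_
      · exact iso _ _ (LinearMap.quotKerEquivRange (LinearMap.toSpanSingleton B M (s 0)) ≪≫ₗ
          LinearEquiv.ofEq _ _ (LinearMap.range_toSpanSingleton (s 0))) (cyc _)
      · refine ih _ (fun i => Submodule.Quotient.mk (s i.succ)) ?_
        have h := congrArg (Submodule.map (B ∙ s 0).mkQ) hs
        rw [Submodule.map_span, Submodule.map_top, Submodule.range_mkQ] at h
        rw [eq_top_iff, ← h, Submodule.span_le]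
        rintro _ ⟨_, ⟨i, rfl⟩, rfl⟩
        refine Fin.cases ?_ (fun j => Submodule.subset_span ⟨j, rfl⟩) i
        rw [Submodule.mkQ_apply, (Submodule.Quotient.mk_eq_zero _).2 (Submodule.mem_span_singleton_self _)]
        exact zero_mem _
  obtain ⟨n, s, hs⟩ := Submodule.fg_iff_exists_fin_generating_family.1 (Module.Finite.fg_top (R := B) (M := N))
  exact main n N s hs

end Groth.Agent.S14418
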