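import Groth.Statements.S14419
import Groth.Agent.S16759
import Groth.Agent.H23.RigidGamma
set_option autoImplicit false
universe u
open CategoryTheory CategoryTheory.Limits AlgebraicGeometry
open PicF

namespace Groth.Agent.S14419
set_option backward.isDefEq.respectTransparency false
set_option backward.isDefEq.respectTransparency.types false
set_option linter.style.haveILetI false
open AlgebraicGeometry CategoryTheory CategoryTheory.Limits


/-- Let π : X → Y be a proper flat morphism between locally Noetherian schemes, all of whose fibres are
nonempty, geometrically connected and geometrically reduced, with Y reduced, and let L be an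
invertible O_X-module whose restriction to every fibre X_y (y any point of Y) is trivial. Then π_*L
is an invertible O_Y-module and the natural map π^*π_*L → L (the counit of the adjunction between
pullback and pushforward) is an isomorphism. (The published statement allows empty fibres, where it
fails (X empty, Y a point: the direct image is zero); this row requires every fibre nonempty, i.e. π
surjective.) -/
theorem result {X Y : Scheme.{u}} (f : X ⟶ Y)
    [IsLocallyNoetherian X] [IsLocallyNoetherian Y] [IsReduced Y] [Flat f] [IsProper f]
    [GeometricallyConnected f] [GeometricallyReduced f]
    (L : X.Modules) (hL : PicF.IsInvertible L)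
    (htriv : ∀ y : Y, Nonempty ((Scheme.Modules.pullback (f.fiberι y)).obj L ≅ Coh.structureModule (f.fiber y))) :
    PicF.IsInvertible ((Scheme.Modules.pushforward f).obj L) ∧
      IsIso ((Scheme.Modules.pullbackPushforwardAdjunction f).counit.app L) := by

  have hc : Groth.Agent.H23.RigidApply.ConstFibres f := Groth.Agent.H23.RigidGamma.constFibres f
  refine (Groth.Agent.S16759.result f (fun y => ?_) L hL).2 htriv
  have h0 : Function.Bijective (f.fiberToSpecResidueField y).appTop := hc y
  have hb : Function.Bijective (algebraMap (Y.residueField y) Γ(f.fiber y, ⊤)) := by
    have h2 := h0.comp (ConcreteCategory.bijective_of_isIso (Scheme.ΓSpecIso (Y.residueField y)).inv)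
    convert h2 using 1
    rfl
  exact (LinearEquiv.ofBijective (Algebra.linearMap (Y.residueField y) Γ(f.fiber y, ⊤)) hb).finrank_eq.symm.trans (Module.finrank_self _)

end Groth.Agent.S14419
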