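import Groth.Statements.S14421
import Mathlib


set_option autoImplicit false
universe u v
open CategoryTheory
open HomAlg

namespace Groth.Agent.S14421

/-- Let φ : K → J be a morphism of cochain complexes of modules over a ring which is surjective in
degree p − 1. Then the map induced on cohomology in degree p is surjective if and only if the map
induced on cocycles in degree p is surjective. (Stated for cochain complexes indexed by the
integers; the published statement is for three-term complexes in degrees p − 1, p, p + 1, which
embed as such complexes.) -/
theorem result {R : Type u} [Ring R]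
    (K J : CochainComplex (ModuleCat.{v} R) ℤ) (φ : K ⟶ J) (p : ℤ) [Epi (φ.f (p - 1))] :
    Epi (HomologicalComplex.homologyMap φ p) ↔ Epi (HomologicalComplex.cyclesMap φ p) := by
  have hnat := HomologicalComplex.homologyπ_naturality φ p
  constructor
  · intro h
    refine Preadditive.epi_of_cancel_zero _ fun {P} q hq => ?_
    have hc : φ.f (p - 1) ≫ J.toCycles (p - 1) p ≫ q = 0 := by
      have hsq : φ.f (p - 1) ≫ J.toCycles (p - 1) p =
          K.toCycles (p - 1) p ≫ HomologicalComplex.cyclesMap φ p := by
        rw [← cancel_mono (J.iCycles p)]
        simp
      rw [← Category.assoc, hsq, Category.assoc, hq, Limits.comp_zero]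
    have h0 : J.toCycles (p - 1) p ≫ q = 0 := by
      exact Limits.zero_of_epi_comp _ hc
    have hfac := (J.homologyIsCokernel (p - 1) p (by simp)).fac (Limits.CokernelCofork.ofπ q h0)
      Limits.WalkingParallelPair.one
    obtain ⟨q', hq'⟩ : ∃ q', J.homologyπ p ≫ q' = q := ⟨_, hfac⟩
    have h1 : K.homologyπ p ≫ HomologicalComplex.homologyMap φ p ≫ q' = 0 := by
      rw [← Category.assoc, hnat, Category.assoc, hq', hq]
    rw [← hq', show q' = 0 from ?_, Limits.comp_zero]
    have h2 := Limits.zero_of_epi_comp _ h1
    exact Limits.zero_of_epi_comp _ h2
  · intro h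
    have : Epi (K.homologyπ p ≫ HomologicalComplex.homologyMap φ p) := by
      rw [hnat]; exact epi_comp _ _
    exact epi_of_epi (K.homologyπ p) _

end Groth.Agent.S14421
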