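import Groth.Statements.S14422
import Groth.Agent.H9Misc.TorBalance
import Mathlib.Algebra.Homology.HomologySequence
import Mathlib.Algebra.Homology.HomologicalComplexAbelian

set_option autoImplicit false
universe u
open CategoryTheory
open CAlg

namespace Groth.Agent.S14422
open CategoryTheory MonoidalCategory Groth.Agent.H9Misc.TorBalance

/-- Long exact sequence for Tor: let A be a ring, M an A-module and 0 → N' → N → N'' → 0 a short exact
sequence of A-modules; write Tor_i(M, ·) for the i-th left derived functor of M ⊗_A ·. Then for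
every i the composite Tor_i(M, N') → Tor_i(M, N) → Tor_i(M, N'') is zero and the sequence is exact,
Tor_0(M, N) → Tor_0(M, N'') is surjective, and there is a connecting map δ_i : Tor_{i+1}(M, N'') →
Tor_i(M, N') such that Tor_{i+1}(M, N) → Tor_{i+1}(M, N'') → Tor_i(M, N') and Tor_{i+1}(M, N'') →
Tor_i(M, N') → Tor_i(M, N) are exact. (Only the existence of connecting maps with these exactness
properties is asserted; the published statement refers to the natural connecting homomorphisms.) -/
theorem result (A : Type u) [CommRing A] (M : ModuleCat.{u} A)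
    (S : ShortComplex (ModuleCat.{u} A)) (hS : S.ShortExact) (i : ℕ) :
    (∃ w₀ : ((Tor (ModuleCat.{u} A) i).obj M).map S.f ≫ ((Tor (ModuleCat.{u} A) i).obj M).map S.g = 0,
        (ShortComplex.mk (((Tor (ModuleCat.{u} A) i).obj M).map S.f) (((Tor (ModuleCat.{u} A) i).obj M).map S.g) w₀).Exact) ∧
      Epi (((Tor (ModuleCat.{u} A) 0).obj M).map S.g) ∧
      ∃ (δ : ((Tor (ModuleCat.{u} A) (i + 1)).obj M).obj S.X₃ ⟶ ((Tor (ModuleCat.{u} A) i).obj M).obj S.X₁)
        (w₁ : ((Tor (ModuleCat.{u} A) (i + 1)).obj M).map S.g ≫ δ = 0)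
        (w₂ : δ ≫ ((Tor (ModuleCat.{u} A) i).obj M).map S.f = 0),
        (ShortComplex.mk (((Tor (ModuleCat.{u} A) (i + 1)).obj M).map S.g) δ w₁).Exact ∧
          (ShortComplex.mk δ (((Tor (ModuleCat.{u} A) i).obj M).map S.f) w₂).Exact := by
  let P : ProjectiveResolution M := ProjectiveResolution.of _
  let c := ComplexShape.down ℕ
  let C : ModuleCat.{u} A → ChainComplex (ModuleCat.{u} A) ℕ := fun X =>
    ((tensorRight X).mapHomologicalComplex c).obj P.complex
  let f : C S.X₁ ⟶ C S.X₂ :=
    (NatTrans.mapHomologicalComplex ((tensoringRight (ModuleCat.{u} A)).map S.f) c).app P.complex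
  let g : C S.X₂ ⟶ C S.X₃ :=
    (NatTrans.mapHomologicalComplex ((tensoringRight (ModuleCat.{u} A)).map S.g) c).app P.complex
  have hfg : f ≫ g = 0 := by
    refine HomologicalComplex.hom_ext _ _ fun j => ModuleCat.hom_ext ?_
    show S.g.hom.lTensor (P.complex.X j) ∘ₗ S.f.hom.lTensor (P.complex.X j) = 0
    rw [← LinearMap.lTensor_comp, ← ModuleCat.hom_comp, S.zero, ModuleCat.hom_zero, LinearMap.lTensor_zero]
  have hT : (ShortComplex.mk f g hfg).ShortExact := by
    refine HomologicalComplex.shortExact_of_degreewise_shortExact _ fun j => ?_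
    haveI : Module.Projective A (P.complex.X j) := (IsProjective.iff_projective _).2 (P.projective j)
    have he : Function.Exact S.f.hom S.g.hom :=
      (ShortComplex.ShortExact.moduleCat_exact_iff_function_exact _).1 hS.exact
    exact
      { exact := (ShortComplex.ShortExact.moduleCat_exact_iff_function_exact _).2
          (lTensor_exact (P.complex.X j) he ((ModuleCat.epi_iff_surjective _).1 hS.epi_g))
        mono_f := (ModuleCat.mono_iff_injective _).2 (Module.Flat.lTensor_preserves_injective_linearMap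
          (M := P.complex.X j) S.f.hom ((ModuleCat.mono_iff_injective _).1 hS.mono_f))
        epi_g := (ModuleCat.epi_iff_surjective _).2
          (LinearMap.lTensor_surjective (P.complex.X j) ((ModuleCat.epi_iff_surjective _).1 hS.epi_g)) }
  let e : ∀ (X : ModuleCat.{u} A) (n : ℕ), ((Tor (ModuleCat.{u} A) n).obj M).obj X ≅ (C X).homology n := torIso' P
  have nf : ∀ n, ((Tor (ModuleCat.{u} A) n).obj M).map S.f ≫ (e S.X₂ n).hom =
      (e S.X₁ n).hom ≫ HomologicalComplex.homologyMap f n := torIso'_natural P S.f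
  have ng : ∀ n, ((Tor (ModuleCat.{u} A) n).obj M).map S.g ≫ (e S.X₃ n).hom =
      (e S.X₂ n).hom ≫ HomologicalComplex.homologyMap g n := torIso'_natural P S.g
  have hrel : c.Rel (i + 1) i := rfl
  refine ⟨⟨?_, ?_⟩, ?_, (e S.X₃ (i + 1)).hom ≫ hT.δ (i + 1) i hrel ≫ (e S.X₁ i).inv, ?_, ?_, ?_, ?_⟩
  · rw [← cancel_mono (e S.X₃ i).hom, Category.assoc, ng, reassoc_of% nf i, ← HomologicalComplex.homologyMap_comp,
      hfg, HomologicalComplex.homologyMap_zero, Limits.comp_zero, Limits.zero_comp]
  · exact (ShortComplex.exact_iff_of_iso (ShortComplex.isoMk (e S.X₁ i) (e S.X₂ i) (e S.X₃ i) (nf i).symm (ng i).symm)).2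
      (hT.homology_exact₂ i)
  · haveI : Epi (g.f 0) := by
      haveI := hT.map_of_exact (HomologicalComplex.eval _ _ 0)
      exact this.epi_g
    haveI := HomologicalComplex.epi_homologyMap_of_epi_of_not_rel g 0 (by intro j; simp [c])
    rw [show ((Tor (ModuleCat.{u} A) 0).obj M).map S.g = (e S.X₂ 0).hom ≫ HomologicalComplex.homologyMap g 0 ≫ (e S.X₃ 0).inv by
      rw [← reassoc_of% ng 0, Iso.hom_inv_id, Category.comp_id]]
    infer_instance
  · rw [reassoc_of% ng (i + 1), reassoc_of% hT.comp_δ (i + 1) i hrel]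
    simp
  · rw [← cancel_mono (e S.X₂ i).hom]
    simp only [Category.assoc, nf, Iso.inv_hom_id_assoc, Limits.zero_comp]
    rw [hT.δ_comp (i + 1) i hrel, Limits.comp_zero]
  · exact (ShortComplex.exact_iff_of_iso (ShortComplex.isoMk (e S.X₂ (i + 1)) (e S.X₃ (i + 1)) (e S.X₁ i)
      (ng (i + 1)).symm (by simp))).2 (hT.homology_exact₃ (i + 1) i hrel)
  · exact (ShortComplex.exact_iff_of_iso (ShortComplex.isoMk (e S.X₃ (i + 1)) (e S.X₁ i) (e S.X₂ i)
      (by simp) (nf i).symm)).2 (hT.homology_exact₁ (i + 1) i hrel)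

end Groth.Agent.S14422
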