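import Groth.Agent.TorBridge.Basic
import Mathlib
import Groth.Statements.S14423
-- import your own Groth.Agent.* helpers here

set_option autoImplicit false
universe u
open CategoryTheory
open CAlg

namespace Groth.Agent.S14423

open TensorProduct

variable {k : Type u} [Field k] {n : ℕ}
local notation "SS" => MvPolynomial (Fin (n + 1)) k
local notation "𝔪" => RingHom.ker (MvPolynomial.constantCoeff : MvPolynomial (Fin (n + 1)) k →+* k)

/-- An element of a free module is in the ideal times the module iff its coefficients are in the ideal. -/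
lemma mem_smul_top_pi {R : Type*} [CommRing R] {ι : Type*} [Fintype ι] [DecidableEq ι] (I : Ideal R) (x : ι → R) :
    x ∈ I • (⊤ : Submodule R (ι → R)) ↔ ∀ i, x i ∈ I := by
  constructor
  · intro h i
    induction h using Submodule.smul_induction_on' with
    | smul a ha v _ => exact I.mul_mem_right _ ha
    | add a _ b _ ha hb => exact I.add_mem ha hb
  · intro h
    rw [pi_eq_sum_univ x]
    exact Submodule.sum_mem _ fun i _ => Submodule.smul_mem_smul (h i) trivial

variable {M : Type u} [AddCommGroup M] [Module (MvPolynomial (Fin (n + 1)) k) M]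
  (ℳ : ℕ → AddSubgroup M) [SetLike.GradedSMul (MvPolynomial.homogeneousSubmodule (Fin (n + 1)) k) ℳ]
  [DirectSum.Decomposition ℳ]

/-- The degree `d` component of the multiple of a homogeneous element. -/
lemma comp_smul (f : SS) {m : M} {e : ℕ} (hm : m ∈ ℳ e) (d : ℕ) :
    (DirectSum.decompose ℳ (f • m) d : M) =
      if e ≤ d then MvPolynomial.homogeneousComponent (d - e) f • m else 0 := by
  classical
  let P : M →+ M := AddMonoidHom.mk' (fun z => (DirectSum.decompose ℳ z d : M)) fun a b => by simp
  show P (f • m) = _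
  conv_lhs => rw [← MvPolynomial.sum_homogeneousComponent f, Finset.sum_smul, map_sum]
  have hmem : ∀ j, MvPolynomial.homogeneousComponent j f • m ∈ ℳ (j + e) := fun j =>
    SetLike.GradedSMul.smul_mem (A := MvPolynomial.homogeneousSubmodule (Fin (n + 1)) k) (B := ℳ)
      (MvPolynomial.homogeneousComponent_mem j f) hm
  split_ifs with hed
  · by_cases hj : d - e ∈ Finset.range (f.totalDegree + 1)
    · rw [Finset.sum_eq_single (d - e)]
      · exact DirectSum.decompose_of_mem_same ℳ (by simpa [Nat.sub_add_cancel hed] using hmem (d - e))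
      · exact fun j _ hne => DirectSum.decompose_of_mem_ne ℳ (hmem j) (by omega)
      · exact fun h => absurd hj h
    · rw [Finset.mem_range, not_lt] at hj
      rw [MvPolynomial.homogeneousComponent_eq_zero (d - e) f (by omega), zero_smul]
      exact Finset.sum_eq_zero fun j hj' => DirectSum.decompose_of_mem_ne ℳ (hmem j) (by
        rw [Finset.mem_range] at hj'; omega)
  · exact Finset.sum_eq_zero fun j _ => DirectSum.decompose_of_mem_ne ℳ (hmem j) (by omega)

include ℳ in
/-- A finite homogeneous generating family of least size has all relations in the maximal ideal. -/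
lemma exists_minimal_gens [Module.Finite (MvPolynomial (Fin (n + 1)) k) M] :
    ∃ (r : ℕ) (g : Fin r → M), (∀ i, SetLike.IsHomogeneousElem ℳ (g i)) ∧
      Submodule.span SS (Set.range g) = ⊤ ∧
      ∀ c : Fin r → SS, ∑ i, c i • g i = 0 → ∀ i, MvPolynomial.constantCoeff (c i) = 0 := by
  classical
  have hex : ∃ r, ∃ g : Fin r → M, (∀ i, SetLike.IsHomogeneousElem ℳ (g i)) ∧
      Submodule.span SS (Set.range g) = ⊤ := by
    obtain ⟨s, hs⟩ := Module.Finite.fg_top (R := SS) (M := M)
    let T : Finset M := s.biUnion fun m => (DirectSum.decompose ℳ m).support.image fun i =>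
      (DirectSum.decompose ℳ m i : M)
    refine ⟨_, fun i => (T.equivFin.symm i : M), fun i => ?_, top_le_iff.1 (hs ▸ Submodule.span_le.2 fun m hm => ?_)⟩
    · obtain ⟨m, -, hi⟩ := Finset.mem_biUnion.1 (T.equivFin.symm i).2
      obtain ⟨j, -, hj⟩ := Finset.mem_image.1 hi
      exact ⟨j, show (T.equivFin.symm i : M) ∈ ℳ j from hj ▸ (DirectSum.decompose ℳ m j).2⟩
    · rw [← DirectSum.sum_support_decompose ℳ m]
      refine Submodule.sum_mem _ fun i hi => Submodule.subset_span ?_
      exact ⟨T.equivFin ⟨_, Finset.mem_biUnion.2 ⟨m, hm, Finset.mem_image_of_mem _ hi⟩⟩, by simp⟩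
  let r := Nat.find hex
  obtain ⟨g, hg, hgen⟩ := Nat.find_spec hex
  refine ⟨r, g, hg, hgen, fun c hc i => ?_⟩
  by_contra hne
  obtain ⟨d, hd⟩ := hg i
  choose e he using hg
  have hed : ∀ j, (DirectSum.decompose ℳ (c j • g j) d : M) ∈ SS ∙ g j := fun j => by
    rw [comp_smul ℳ (c j) (he j) d]
    split_ifs
    · exact Submodule.smul_mem _ _ (Submodule.mem_span_singleton_self _)
    · exact zero_mem _
  have hsum : ∑ j, (DirectSum.decompose ℳ (c j • g j) d : M) = 0 := by
    let P : M →+ M := AddMonoidHom.mk' (fun z => (DirectSum.decompose ℳ z d : M)) fun a b => by simp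
    show ∑ j, P (c j • g j) = 0
    rw [← map_sum, hc, map_zero]
  rw [← Finset.add_sum_erase _ _ (Finset.mem_univ i), comp_smul ℳ (c i) hd d, if_pos le_rfl,
    Nat.sub_self, MvPolynomial.homogeneousComponent_zero, ← eq_neg_iff_add_eq_zero] at hsum
  have hu : IsUnit (MvPolynomial.C (MvPolynomial.coeff 0 (c i)) : SS) :=
    (isUnit_iff_ne_zero.2 (by rwa [MvPolynomial.constantCoeff_eq] at hne)).map _
  have hgi : g i ∈ Submodule.span SS (g '' {j | j ≠ i}) := by
    have h1 : (MvPolynomial.C (MvPolynomial.coeff 0 (c i)) : SS) • g i ∈ Submodule.span SS (g '' {j | j ≠ i}) := by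
      rw [hsum]
      refine neg_mem (Submodule.sum_mem _ fun j hj => ?_)
      exact Submodule.span_mono (t := g '' {j | j ≠ i}) (Set.singleton_subset_iff.2 ⟨j, (Finset.mem_erase.1 hj).1, rfl⟩) (hed j)
    obtain ⟨w, hw⟩ := hu.exists_left_inv
    simpa [← mul_smul, hw] using Submodule.smul_mem _ w h1
  obtain ⟨r', hr'⟩ : ∃ r', r = r' + 1 := ⟨r - 1, by have := i.2; omega⟩
  refine Nat.find_min hex (m := r') (by show r' < r; omega)
    ⟨fun j => g (Fin.cast hr'.symm ((Fin.cast hr' i).succAbove j)), fun j => ⟨_, he _⟩, top_le_iff.1 ?_⟩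
  refine hgen.ge.trans (Submodule.span_le.2 ?_)
  have himg : g '' {j | j ≠ i} ⊆ Set.range fun j => g (Fin.cast hr'.symm ((Fin.cast hr' i).succAbove j)) := by
    rintro _ ⟨j, hj, rfl⟩
    obtain ⟨j', hj'⟩ := Fin.exists_succAbove_eq (x := Fin.cast hr' j) (y := Fin.cast hr' i)
      (fun e => hj (Fin.cast_injective _ e))
    exact ⟨j', by simp [hj']⟩
  rintro _ ⟨j, rfl⟩
  by_cases hj : j = i
  · exact hj ▸ Submodule.span_mono himg hgi
  · exact Submodule.subset_span (himg ⟨j, hj, rfl⟩)

/-- Graded freeness criterion: let k be a field, S = k[x_0, …, x_n] with its standard grading by degree,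
and M a finitely generated graded S-module. If Tor_1^S(M, k) = 0, where k = S/S_+ (S modulo the
ideal of polynomials with zero constant term) and Tor_1^S(M, ·) is the first left derived functor of
M ⊗_S ·, then M is free with a basis of homogeneous elements, i.e. M is isomorphic as a graded
module to a finite direct sum of shifted copies S(−d_i). (Here the module is graded in non-negative
degrees; the published statement allows any integer degrees.) -/
theorem result (k : Type u) [Field k] (n : ℕ)
    (M : Type u) [AddCommGroup M] [Module (MvPolynomial (Fin (n + 1)) k) M]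
    [Module.Finite (MvPolynomial (Fin (n + 1)) k) M]
    (ℳ : ℕ → AddSubgroup M)
    [SetLike.GradedSMul (MvPolynomial.homogeneousSubmodule (Fin (n + 1)) k) ℳ]
    [DirectSum.Decomposition ℳ]
    (h : Limits.IsZero (((Tor (ModuleCat.{u} (MvPolynomial (Fin (n + 1)) k)) 1).obj
      (ModuleCat.of (MvPolynomial (Fin (n + 1)) k) M)).obj
      (ModuleCat.of (MvPolynomial (Fin (n + 1)) k)
        (MvPolynomial (Fin (n + 1)) k ⧸
          RingHom.ker (MvPolynomial.constantCoeff : MvPolynomial (Fin (n + 1)) k →+* k))))) :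
    ∃ (ι : Type u) (b : Module.Basis ι (MvPolynomial (Fin (n + 1)) k) M),
      ∀ i, SetLike.IsHomogeneousElem ℳ (b i) := by
  classical
  obtain ⟨r, g, hg, hgen, hrel⟩ := exists_minimal_gens (k := k) (n := n) ℳ
  let S := MvPolynomial (Fin (n + 1)) k
  let 𝔪' : Ideal S := RingHom.ker (MvPolynomial.constantCoeff : S →+* k)
  let q : (Fin r → S) →ₗ[S] M := Fintype.linearCombination S g
  have hq : Function.Surjective q := by
    rw [← LinearMap.range_eq_top, Fintype.range_linearCombination]; exact hgen
  have hinj := (Groth.Agent.TorBridge.isZero_tor_one_iff (S ⧸ 𝔪') M q hq).1 h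
  have hKm : LinearMap.ker q ≤ 𝔪' • (⊤ : Submodule S (Fin r → S)) := fun x hx =>
    (mem_smul_top_pi _ x).2 (hrel x (by simpa [q, Fintype.linearCombination_apply] using hx))
  have hK : LinearMap.ker q ≤ 𝔪' • LinearMap.ker q := by
    intro x hx
    have h0 : (⟨x, hx⟩ : LinearMap.ker q) ⊗ₜ[S] (Ideal.Quotient.mk 𝔪' 1) = 0 := by
      apply hinj
      rw [map_zero, LinearMap.rTensor_tmul]
      apply (TensorProduct.tensorQuotEquivQuotSMul (Fin r → S) 𝔪').injective
      rw [map_zero, TensorProduct.tensorQuotEquivQuotSMul_tmul_mk, one_smul, Submodule.Quotient.mk_eq_zero]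
      exact hKm hx
    have h1 := congrArg (TensorProduct.tensorQuotEquivQuotSMul (LinearMap.ker q) 𝔪') h0
    rw [map_zero, TensorProduct.tensorQuotEquivQuotSMul_tmul_mk, one_smul, Submodule.Quotient.mk_eq_zero] at h1
    have h2 := Submodule.mem_map_of_mem (f := (LinearMap.ker q).subtype) h1
    rwa [Submodule.map_smul'', Submodule.map_top, Submodule.range_subtype] at h2
  have hker : LinearMap.ker q = ⊥ := by
    refine (Submodule.eq_bot_iff _).2 fun x hx => funext fun i => ?_
    have hpow : ∀ t : ℕ, LinearMap.ker q ≤ 𝔪' ^ t • (⊤ : Submodule S (Fin r → S)) := by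
      intro t
      induction t with
      | zero => rw [pow_zero, Ideal.one_eq_top, Submodule.top_smul]; exact le_top
      | succ t ih => exact hK.trans ((Submodule.smul_mono le_rfl ih).trans (by rw [← Submodule.smul_assoc, pow_succ', smul_eq_mul]))
    have hmem : x i ∈ (⨅ t : ℕ, 𝔪' ^ t : Ideal S) :=
      Submodule.mem_iInf _ |>.2 fun t => (mem_smul_top_pi _ x).1 (hpow t hx) i
    rwa [Ideal.iInf_pow_eq_bot_of_isDomain 𝔪' (RingHom.ker_ne_top _), Submodule.mem_bot] at hmem
  let b : Module.Basis (Fin r) S M :=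
    (Pi.basisFun S (Fin r)).map (LinearEquiv.ofBijective q ⟨LinearMap.ker_eq_bot.1 hker, hq⟩)
  refine ⟨ULift.{u} (Fin r), b.reindex Equiv.ulift.symm, fun i => ?_⟩
  have : b.reindex Equiv.ulift.symm i = g i.down := by
    simp only [b, Module.Basis.reindex_apply, Module.Basis.map_apply, Pi.basisFun_apply]
    show Fintype.linearCombination S g (Pi.single _ 1) = _
    simp [Fintype.linearCombination_apply_single]
  rw [this]; exact hg _

end Groth.Agent.S14423
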