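import Groth.Statements.S14424
import Groth.Agent.LC.DepthLoc

set_option autoImplicit false
universe u
open LocCoh

namespace Groth.Agent.S14424

/-- Let R be a Noetherian ring. Then R is Cohen–Macaulay (every localization at a prime ideal is a
Cohen–Macaulay local ring) if and only if for every proper ideal a of R the a-depth of R equals the
height (codimension) of a. (The published statement defines a Cohen–Macaulay ring by its
localizations at maximal ideals; this row uses all prime ideals, an equivalent definition because
Cohen–Macaulayness passes to localizations.) -/
theorem result (R : Type u) [CommRing R] [IsNoetherianRing R] :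
    LocCoh.IsCohenMacaulayRing R ↔ ∀ a : Ideal R, a ≠ ⊤ → LocCoh.idealDepth a R = a.height := by
  constructor
  · intro hR a ha
    rw [Groth.Agent.LC.idealDepth_eq_iInf_depth a R]
    have key : ∀ p : PrimeSpectrum R,
        LocCoh.depth (Localization.AtPrime p.asIdeal) (LocalizedModule p.asIdeal.primeCompl R) =
          p.asIdeal.height := by
      intro p
      have h := (hR.isCohenMacaulayLocalRing_localization p.asIdeal).supportDim_eq_depth
      rw [Module.supportDim_self_eq_ringKrullDim, IsLocalization.AtPrime.ringKrullDim_eq_height p.asIdeal] at h
      exact (WithBot.coe_inj.1 h).symm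
    simp only [key]
    refine le_antisymm ?_ (le_iInf₂ fun p hp => Ideal.height_mono hp)
    rw [Ideal.height_eq_inf_minimalPrimes a]
    exact le_iInf₂ fun J hJ => iInf₂_le (⟨J, hJ.1.1⟩ : PrimeSpectrum R) hJ.1.2
  · intro h
    refine { isCohenMacaulayLocalRing_localization := fun p hp => ?_ }
    have : IsNoetherianRing (Localization.AtPrime p) :=
      IsLocalization.isNoetherianRing p.primeCompl _ inferInstance
    refine { supportDim_eq_depth := ?_ }
    refine le_antisymm ?_ (Groth.Agent.LC.depth_le_supportDim (R := Localization.AtPrime p) (Localization.AtPrime p))
    rw [Module.supportDim_self_eq_ringKrullDim, IsLocalization.AtPrime.ringKrullDim_eq_height p,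
      WithBot.coe_le_coe, ← h p hp.ne_top]
    exact Groth.Agent.LC.idealDepth_le_depth_localized p R p le_rfl

end Groth.Agent.S14424
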