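import Groth.Statements.S14427
import Groth.Agent.PlanePts.Basic
import Groth.Agent.ComodLib.GradedAug

set_option autoImplicit false
universe u
open CAlgX

namespace Groth.Agent.S14427

/-- Let k be a field and Λ a set of n ≥ 3 nonzero vectors of k^3 which are pairwise linearly
independent, i.e. n distinct k-rational points of the projective plane. Then the space of
homogeneous forms of degree n − 1 in k[x_0, x_1, x_2] vanishing at every point of Λ — the global
sections of I_Λ(n − 1) — has dimension C(n+1, 2) − n over k, the same for all such Λ. (The published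
statement is over an algebraically closed field; this row allows any field and k-rational points,
which is all its argument uses.) -/
theorem result (k : Type u) [Field k] (n : ℕ) (hn : 3 ≤ n)
    (Λ : Finset (Fin 3 → k)) (hcard : Λ.card = n) (h0 : ∀ v ∈ Λ, v ≠ 0)
    (hdist : ∀ v ∈ Λ, ∀ w ∈ Λ, v ≠ w → LinearIndependent k ![v, w]) :
    Module.finrank k ↥(MvPolynomial.homogeneousSubmodule (Fin 3) k (n - 1) ⊓ ⨅ v ∈ Λ, LinearMap.ker (MvPolynomial.aeval v).toLinearMap) = Nat.choose (n + 1) 2 - n := by
  classical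
  obtain ⟨hfin, hH⟩ := Groth.Agent.ComodLib.GradedAug.finrank_homogeneous (k := k) 3 (n - 1)
  haveI := hfin
  let H := MvPolynomial.homogeneousSubmodule (Fin 3) k (n - 1)
  let Φ : H →ₗ[k] (Λ → k) :=
    LinearMap.pi fun v => (MvPolynomial.aeval v.1).toLinearMap ∘ₗ H.subtype
  have hsurj : Function.Surjective Φ := by
    rw [← LinearMap.range_eq_top, eq_top_iff, ← (Pi.basisFun k Λ).span_eq, Submodule.span_le]
    rintro _ ⟨v, rfl⟩
    obtain ⟨f, hf, hfS, hfv⟩ := Groth.Agent.PlanePts.exists_form (Λ.erase v.1) v.1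
      (fun w hw => hdist _ v.2 w (Finset.mem_of_mem_erase hw) (Finset.ne_of_mem_erase hw).symm)
    rw [Finset.card_erase_of_mem v.2, hcard] at hf
    refine ⟨(MvPolynomial.aeval v.1 f)⁻¹ • ⟨f, (MvPolynomial.mem_homogeneousSubmodule _ _).2 hf⟩,
      funext fun w => ?_⟩
    rw [map_smul]
    show (MvPolynomial.aeval v.1 f)⁻¹ * MvPolynomial.aeval w.1 f = Pi.basisFun k Λ v w
    rw [Pi.basisFun_apply]
    by_cases h : w = v
    · subst h; rw [inv_mul_cancel₀ hfv, Pi.single_eq_same]
    · rw [hfS w.1 (Finset.mem_erase.2 ⟨fun e => h (Subtype.ext e), w.2⟩), mul_zero,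
        Pi.single_eq_of_ne h]
  have hker : (MvPolynomial.homogeneousSubmodule (Fin 3) k (n - 1) ⊓
      ⨅ v ∈ Λ, LinearMap.ker (MvPolynomial.aeval v).toLinearMap) = (LinearMap.ker Φ).map H.subtype := by
    ext f
    simp only [Submodule.mem_inf, Submodule.mem_iInf, LinearMap.mem_ker, Submodule.mem_map]
    constructor
    · rintro ⟨h1, h2⟩
      exact ⟨⟨f, h1⟩, funext fun v => h2 v.1 v.2, rfl⟩
    · rintro ⟨g, hg, rfl⟩
      exact ⟨g.2, fun v hv => congrFun hg ⟨v, hv⟩⟩
  rw [hker, Submodule.finrank_map_subtype_eq]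
  have h1 := LinearMap.finrank_range_add_finrank_ker Φ
  rw [LinearMap.range_eq_top.2 hsurj, finrank_top, Module.finrank_fintype_fun_eq_card, Fintype.card_coe, hcard, hH] at h1
  have h2 : (3 + (n - 1) - 1).choose (n - 1) = Nat.choose (n + 1) 2 := by
    rw [show 3 + (n - 1) - 1 = n + 1 by omega]
    exact Nat.choose_symm_of_eq_add (by omega)
  omega


end Groth.Agent.S14427
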