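import Groth.Statements.S14430
import Groth.Agent.KZ.QuasiProj
-- import your own Groth.Agent.* helpers here

set_option autoImplicit false
universe u
open CategoryTheory CategoryTheory.Limits AlgebraicGeometry
open KZero

namespace Groth.Agent.S14430

/-- Let k be an algebraically closed field and X a smooth quasi-projective variety over k — here a
k-scheme smooth over k admitting an immersion into some P^N_k over k. Write K^0(X) for the
Grothendieck group of finite locally free O_X-modules and K_0(X) for that of coherent O_X-modules
(K_0 of the corresponding full subcategories of O_X-modules, with relations from short exact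
sequences all of whose terms lie in the subcategory). Then there is a homomorphism K^0(X) → K_0(X)
sending the class of each finite locally free E to its class as a coherent module (the canonical
one, determined by this), and it is bijective. (The published statement is for smooth
quasi-projective varieties; this row takes a k-scheme smooth over k with an immersion into some
P^N_k, reduced since smooth; irreducibility is not assumed.) -/
theorem result (k : Type u) [Field k] [IsAlgClosed k] (N : ℕ)
    (X : Scheme.{u}) [X.Over (Spec (CommRingCat.of k))] [Smooth (X ↘ Spec (CommRingCat.of k))]
    (ι : X ⟶ CohB1.ProjSpace N k) [IsImmersion ι] (hι : ι ≫ CohB1.ProjSpace.toSpec N k = X ↘ Spec (CommRingCat.of k)) :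
    ∃ α : KZero.K0sub (fun M : X.Modules => FlatMod.IsFinLocFree M) →+ KZero.K0sub (fun M : X.Modules => Coh.IsCoh M),
      (∀ E : X.Modules, FlatMod.IsFinLocFree E →
        α (KZero.clSub (fun M : X.Modules => FlatMod.IsFinLocFree M) E) = KZero.clSub (fun M : X.Modules => Coh.IsCoh M) E) ∧
      Function.Bijective α := by
  exact Groth.Agent.KZ.QuasiProj.bijective_smooth k N X (X ↘ Spec (CommRingCat.of k)) ι

end Groth.Agent.S14430
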