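import Groth.Statements.S14432
import Groth.Agent.Lib.DualSheaf

set_option autoImplicit false
set_option backward.isDefEq.respectTransparency false
set_option backward.isDefEq.respectTransparency.types false
set_option linter.style.haveILetI false
set_option linter.unusedSectionVars false
set_option maxHeartbeats 400000
universe u
open CategoryTheory CategoryTheory.Limits AlgebraicGeometry
open ProjDual

namespace Groth.Agent.S14432

open CategoryTheory CategoryTheory.Limits AlgebraicGeometry

/-- Let k be a field, P = P^N_k, ω_P = O_P(−N−1), ι : X → P a closed immersion over k with X of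
dimension n ≤ N, and ω an O_X-module whose direct image ι_* ω is isomorphic to the Ext sheaf
Ext^(N−n)_{O_P}(ι_* O_X, ω_P) — the (N−n)-th right derived functor of the internal Hom functor
Hom(ι_* O_X, −) on O_P-modules, whose existence and that of injective resolutions are the stated
instance hypotheses, both true — applied to ω_P. Then ω is a dualizing sheaf for X: there is a
k-linear map t : H^n(X, ω) → k such that for every coherent O_X-module F and every k-linear form ψ
on H^n(X, F) there is exactly one morphism φ : F → ω with ψ = t ∘ H^n(φ). No equidimensionality of X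
is assumed. (The published statement is for projective varieties over an algebraically closed field;
this row allows any field and any closed subscheme of P^N_k of dimension n. Only the existence of t
is asserted.) -/
theorem result (k : Type u) [Field k] (N n : ℕ) (hn : n ≤ N)
    (X : Scheme.{u}) [X.Over (Spec (CommRingCat.of k))] (ι : X ⟶ CohB1.ProjSpace N k) [IsClosedImmersion ι]
    (hι : ι ≫ CohB1.ProjSpace.toSpec N k = X ↘ Spec (CommRingCat.of k))
    (hdim : topologicalKrullDim ↥X = (n : WithBot ℕ∞))
    [ModSite.HasSheafHom (O := (CohB1.ProjSpace N k).sheaf) ((Scheme.Modules.pushforward ι).obj (Coh.structureModule X))]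
    [HasInjectiveResolutions (ModSite.Mod (CohB1.ProjSpace N k).sheaf)]
    (ω : X.Modules)
    (hω : Nonempty ((Scheme.Modules.pushforward ι).obj ω ≅
      (ModSite.extSh (O := (CohB1.ProjSpace N k).sheaf) ((Scheme.Modules.pushforward ι).obj (Coh.structureModule X)) (N - n)).obj (Twist.twistProjSpace N k (-((N : ℤ) + 1))))) :
    ∃ t : Coh.HH X ω n →ₗ[k] k, ∀ F : X.Modules, Coh.IsCoh F → ∀ ψ : Coh.HH X F n →ₗ[k] k,
      ∃! φ : F ⟶ ω, ∀ x : Coh.HH X F n,
        ψ x = t (Sheaf.H.map ((SheafOfModules.toSheaf X.ringCatSheaf).map φ) n x) := by
  exact DualSheaf.exists_trace ι hι n (N - n) (by omega) hdim.le ω hω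

end Groth.Agent.S14432
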