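import Groth.Statements.S14434
import Groth.Agent.S14422
import Groth.Agent.TorBridge.Basic
import Mathlib.LinearAlgebra.Quotient.Basic

set_option autoImplicit false
universe u
open CAlg

namespace Groth.Agent.S14434
open CategoryTheory MonoidalCategory

/-- Multiplication by a regular element keeps the principal ideal injective after tensoring. -/
theorem injective_lTensor_span {R : Type u} [CommRing R] {M : Type u} [AddCommGroup M] [Module R M] (x : R)
    (hxM : IsSMulRegular M x) (K : Submodule R R) (hK : K = Ideal.span {x}) :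
    Function.Injective (K.subtype.lTensor M) := by
  subst hK
  let e : M →ₗ[R] TensorProduct R M (Ideal.span {x}) :=
    (TensorProduct.mk R M (Ideal.span {x})).flip ⟨x, Ideal.mem_span_singleton_self x⟩
  have he : Function.Surjective e := by
    intro t
    induction t with
    | zero => exact ⟨0, map_zero _⟩
    | tmul m a =>
      obtain ⟨c, hc⟩ := Ideal.mem_span_singleton'.1 a.2
      refine ⟨c • m, ?_⟩
      show (c • m) ⊗ₜ[R] (⟨x, Ideal.mem_span_singleton_self x⟩ : Ideal.span {x}) = m ⊗ₜ[R] a
      rw [TensorProduct.smul_tmul]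
      exact congrArg _ (Subtype.ext hc)
    | add u v hu hv =>
      obtain ⟨a, rfl⟩ := hu
      obtain ⟨b, rfl⟩ := hv
      exact ⟨a + b, map_add _ _ _⟩
  rw [injective_iff_map_eq_zero]
  intro t ht
  obtain ⟨m, rfl⟩ := he t
  have h0 := congrArg (TensorProduct.rid R M) ht
  simp [e] at h0
  rw [hxM.right_eq_zero_of_smul h0, map_zero]

/-- Let R be a commutative ring, M an R-module and x ∈ R a non-zero-divisor on R and on M. Then
Tor_i^R(M, R/(x)) = 0 for all i ≥ 1 (Tor computed as the left derived functors of the tensor product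
on R-modules). -/
theorem result {R : Type u} [CommRing R] (M : Type u) [AddCommGroup M] [Module R M]
    (x : R) (hxR : IsSMulRegular R x) (hxM : IsSMulRegular M x) (i : ℕ) (hi : 1 ≤ i) :
    Subsingleton (DRing.Tor R i M (R ⧸ Ideal.span {x})) := by
  let A : ModuleCat.{u} R := ModuleCat.of R R
  let Q : ModuleCat.{u} R := ModuleCat.of R (R ⧸ Ideal.span {x})
  haveI : Projective A := (IsProjective.iff_projective _).1 inferInstance
  let f : A ⟶ A := ModuleCat.ofHom (x • LinearMap.id)
  let g : A ⟶ Q := ModuleCat.ofHom (Submodule.mkQ (Ideal.span {x}))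
  have w : f ≫ g = 0 := by
    ext1
    ext
    show Submodule.Quotient.mk (x • (1 : R)) = 0
    rw [Submodule.Quotient.mk_eq_zero, smul_eq_mul, mul_one]
    exact Ideal.mem_span_singleton_self x
  have hS : (ShortComplex.mk f g w).ShortExact :=
    { exact := (ShortComplex.ShortExact.moduleCat_exact_iff_function_exact _).2 fun z => by
        show Submodule.Quotient.mk z = 0 ↔ z ∈ Set.range fun a : R => x • a
        rw [Submodule.Quotient.mk_eq_zero, Ideal.mem_span_singleton']
        exact exists_congr fun a => by simp only [smul_eq_mul, mul_comm]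
      mono_f := (ModuleCat.mono_iff_injective _).2 hxR
      epi_g := (ModuleCat.epi_iff_surjective _).2 (Submodule.mkQ_surjective _) }
  let T := fun j => (Tor (ModuleCat.{u} R) j).obj (ModuleCat.of R M)
  have hz : ∀ j, Limits.IsZero ((T (j + 1)).obj A) := fun j =>
    Functor.isZero_leftDerived_obj_projective_succ _ j A
  obtain ⟨j, rfl⟩ : ∃ j, i = j + 1 := ⟨i - 1, by omega⟩
  obtain ⟨-, -, δ, w₁, w₂, hex₁, hex₂⟩ := Groth.Agent.S14422.result R (ModuleCat.of R M) _ hS j
  refine ModuleCat.subsingleton_of_isZero (M := (T (j + 1)).obj Q) ?_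
  cases j with
  | succ k =>
    haveI : Mono ((T (k + 1)).map f) := ⟨fun _ _ _ => (hz k).eq_of_tgt _ _⟩
    have hδ : δ = 0 := by rw [← cancel_mono ((T (k + 1)).map f), Limits.zero_comp]; exact w₂
    exact hex₁.isZero_of_both_zeros ((hz _).eq_of_src _ _) hδ
  | zero =>
    let q : (M →₀ R) →ₗ[R] M := Finsupp.linearCombination R id
    have hq : Function.Surjective q := fun m => ⟨Finsupp.single m 1, by simp [q]⟩
    let p : R →ₗ[R] R ⧸ Ideal.span {x} := Submodule.mkQ (Ideal.span {x})
    refine (Groth.Agent.TorBridge.isZero_tor_one_iff (R ⧸ Ideal.span {x}) M q hq).2 ?_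
    refine (Groth.Agent.TorBridge.rTensor_injective_iff_lTensor_injective p (Submodule.mkQ_surjective _) q hq).2 ?_
    exact injective_lTensor_span x hxM _ (Submodule.ker_mkQ _)

end Groth.Agent.S14434
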