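import Groth.Statements.S14437
import Mathlib

set_option autoImplicit false
universe u
open CAlg

namespace Groth.Agent.S14437
open scoped TensorProduct

/-- Let k be a field and A → B a local homomorphism of Noetherian local k-algebras with residue fields k
(k → A/m_A and k → B/m_B bijective) — for instance the local rings at a closed point x and at its
image y under a morphism of schemes of finite type over an algebraically closed k. Then dim_k
(Ω_{B/A} ⊗_B B/m_B) + rank(m_A/m_A² → m_B/m_B²) = dim_k (m_B/m_B²): the fibre at x of the sheaf of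
relative differentials is dual to the kernel of the tangent map T_x X → T_y Y. (The published
statement is the canonical isomorphism (Ω_{X/Y})_(x)^∨ ≅ ker(df_x); stated here as the resulting
equality of dimensions. Its second assertion, dim (Ω_{X/Y})_(x) ≥ r when the fibre has an
r-dimensional component through x, is not included.) -/
theorem result (k : Type u) [Field k]
    (A B : Type u) [CommRing A] [CommRing B] [IsLocalRing A] [IsLocalRing B] [IsNoetherianRing A] [IsNoetherianRing B]
    [Algebra k A] [Algebra k B] [Algebra A B] [IsScalarTower k A B]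
    (hle : IsLocalRing.maximalIdeal A ≤ Ideal.comap (IsScalarTower.toAlgHom k A B) (IsLocalRing.maximalIdeal B))
    (hA : Function.Bijective (algebraMap k (IsLocalRing.ResidueField A)))
    (hB : Function.Bijective (algebraMap k (IsLocalRing.ResidueField B))) :
    Module.finrank (IsLocalRing.ResidueField B) (TensorProduct B (IsLocalRing.ResidueField B) (Ω[B⁄A])) +
      Module.finrank k ↥(LinearMap.range (Ideal.mapCotangent (IsLocalRing.maximalIdeal A) (IsLocalRing.maximalIdeal B)
        (IsScalarTower.toAlgHom k A B) hle)) =
      Module.finrank k (IsLocalRing.CotangentSpace B) := by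
  classical
  let κ := IsLocalRing.ResidueField B
  let ct := IsLocalRing.CotangentSpace B
  let W := LinearMap.range (Ideal.mapCotangent (IsLocalRing.maximalIdeal A) (IsLocalRing.maximalIdeal B)
        (IsScalarTower.toAlgHom k A B) hle)
  have hmct : ∀ (r : B) (x : ct), r ∈ IsLocalRing.maximalIdeal B → r • x = 0 := fun r x hr => by
    obtain ⟨y, rfl⟩ := Ideal.toCotangent_surjective _ x
    rw [← map_smul, Ideal.toCotangent_eq_zero, sq]
    exact Ideal.mul_mem_mul hr y.2
  choose c hc using fun b : B => hB.2 (IsLocalRing.residue B b)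
  have hsub : ∀ b, b - algebraMap k B (c b) ∈ IsLocalRing.maximalIdeal B := fun b => by
    rw [← IsLocalRing.residue_eq_zero_iff, map_sub, ← hc b]
    exact sub_self _
  have hsm : ∀ (b : B) (x : ct), b • x = c b • x := fun b x => by
    rw [← algebraMap_smul B (c b) x, ← sub_eq_zero, ← sub_smul]
    exact hmct _ _ (hsub b)
  let WB : Submodule B ct :=
    { W.toAddSubmonoid with
      smul_mem' := fun b x hx => by
        show b • x ∈ W
        rw [hsm]
        exact W.smul_mem _ hx }
  have hc_add : ∀ a b, c (a + b) = c a + c b := fun a b => hB.1 (by rw [map_add, hc, hc, hc, map_add])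
  have hc_mul : ∀ a b, c (a * b) = c a * c b := fun a b => hB.1 (by rw [map_mul, hc, hc, hc, map_mul])
  have hc_alg : ∀ x, c (algebraMap k B x) = x := fun x => hB.1 (by rw [hc]; rfl)
  let t : B → ct := fun b => (IsLocalRing.maximalIdeal B).toCotangent ⟨_, hsub b⟩
  have htm : ∀ (y : IsLocalRing.maximalIdeal B), t y = (IsLocalRing.maximalIdeal B).toCotangent y := fun y => by
    have h0 : c y = 0 := hB.1 (by rw [hc, map_zero]; exact (IsLocalRing.residue_eq_zero_iff _).2 y.2)
    exact congrArg _ (Subtype.ext (show (y : B) - algebraMap k B (c y) = y by rw [h0, map_zero, sub_zero]))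
  have ht_add : ∀ a b, t (a + b) = t a + t b := fun a b => by
    show Ideal.toCotangent _ _ = Ideal.toCotangent _ _ + Ideal.toCotangent _ _
    rw [← map_add]
    exact congrArg _ (Subtype.ext (by show _ = _ + _; simp only [hc_add, map_add]; ring))
  have ht_mul : ∀ a b, t (a * b) = a • t b + b • t a := fun a b => by
    rw [hsm a (t b), hsm b (t a), ← algebraMap_smul B (c a) (t b), ← algebraMap_smul B (c b) (t a)]
    show Ideal.toCotangent _ _ = _ • Ideal.toCotangent _ _ + _ • Ideal.toCotangent _ _
    rw [← map_smul, ← map_smul, ← map_add, Ideal.toCotangent_eq]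
    show a * b - algebraMap k B (c (a * b)) -
      (algebraMap k B (c a) * (b - algebraMap k B (c b)) + algebraMap k B (c b) * (a - algebraMap k B (c a))) ∈ _
    rw [hc_mul, map_mul, sq]
    convert Ideal.mul_mem_mul (hsub a) (hsub b) using 1
    ring
  have htA : ∀ a : A, t (algebraMap A B a) ∈ W := fun a => by
    obtain ⟨x, hx⟩ := hA.2 (IsLocalRing.residue A a)
    have hxm : a - algebraMap k A x ∈ IsLocalRing.maximalIdeal A := by
      rw [← IsLocalRing.residue_eq_zero_iff, map_sub, ← hx]
      exact sub_self _
    have hmem : algebraMap A B a - algebraMap k B x ∈ IsLocalRing.maximalIdeal B := by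
      have := hle hxm
      rw [Ideal.mem_comap, map_sub, AlgHom.commutes] at this
      exact this
    have hcx : c (algebraMap A B a) = x := hB.1 (by
      rw [hc]
      exact sub_eq_zero.1 ((map_sub (IsLocalRing.residue B) _ _).symm.trans ((IsLocalRing.residue_eq_zero_iff _).2 hmem)))
    refine ⟨(IsLocalRing.maximalIdeal A).toCotangent ⟨_, hxm⟩, ?_⟩
    rw [Ideal.mapCotangent_toCotangent]
    refine congrArg _ (Subtype.ext ?_)
    show algebraMap A B (a - algebraMap k A x) = algebraMap A B a - algebraMap k B (c (algebraMap A B a))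
    rw [map_sub, hcx, ← IsScalarTower.algebraMap_apply]
  let d : Derivation A B (ct ⧸ WB) := Derivation.mk'
    { toFun := fun b => WB.mkQ (t b)
      map_add' := fun a b => by rw [ht_add, map_add]
      map_smul' := fun a b => by
        rw [RingHom.id_apply, Algebra.smul_def, ht_mul, map_add, map_smul, map_smul,
          show WB.mkQ (t (algebraMap A B a)) = 0 from (Submodule.Quotient.mk_eq_zero _).2 (htA a),
          smul_zero, add_zero, algebraMap_smul] }
    (fun a b => by
      show WB.mkQ (t (a * b)) = a • WB.mkQ (t b) + b • WB.mkQ (t a)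
      rw [ht_mul, map_add, map_smul, map_smul])
  let T := TensorProduct B κ (Ω[B⁄A])
  have hκ0 : ∀ (m : B), m ∈ IsLocalRing.maximalIdeal B → ∀ z : T, m • z = 0 := fun m hm z => by
    induction z using TensorProduct.induction_on with
    | zero => exact smul_zero _
    | tmul q z =>
      rw [TensorProduct.smul_tmul', Algebra.smul_def, show algebraMap B κ m = 0 from (IsLocalRing.residue_eq_zero_iff _).2 hm,
        zero_mul, TensorProduct.zero_tmul]
    | add p q hp hq => rw [smul_add, hp, hq, add_zero]
  have hDsmul : ∀ (b : B) (m : B), m ∈ IsLocalRing.maximalIdeal B →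
      ((1 : κ) ⊗ₜ[B] KaehlerDifferential.D A B (b * m) : T) = b • (1 ⊗ₜ KaehlerDifferential.D A B m) := fun b m hm => by
    rw [Derivation.leibniz, TensorProduct.tmul_add, TensorProduct.tmul_smul, TensorProduct.tmul_smul, hκ0 m hm, add_zero]
  let φ₀ : IsLocalRing.maximalIdeal B →ₗ[B] T :=
    { toFun := fun m => 1 ⊗ₜ KaehlerDifferential.D A B (m : B)
      map_add' := fun x y => by rw [Submodule.coe_add, map_add, TensorProduct.tmul_add]
      map_smul' := fun b x => by
        rw [RingHom.id_apply]
        exact hDsmul b x x.2 }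
  have hkill : (IsLocalRing.maximalIdeal B • ⊤ : Submodule B (IsLocalRing.maximalIdeal B)) ≤ LinearMap.ker φ₀ := by
    rw [Submodule.smul_le]
    intro r hr m _
    rw [LinearMap.mem_ker, map_smul, hκ0 r hr]
  let Θ : ct →ₗ[B] T := Submodule.liftQ _ φ₀ hkill
  have hΘ : ∀ m, Θ ((IsLocalRing.maximalIdeal B).toCotangent m) = 1 ⊗ₜ KaehlerDifferential.D A B (m : B) := fun m => rfl
  have hΘsurj : Function.Surjective Θ := by
    intro z
    induction z using TensorProduct.induction_on with
    | zero => exact ⟨0, map_zero _⟩
    | tmul q z =>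
      obtain ⟨b, rfl⟩ := IsLocalRing.residue_surjective q
      have hz : z ∈ Submodule.span B (Set.range (KaehlerDifferential.D A B)) :=
        KaehlerDifferential.span_range_derivation A B ▸ Submodule.mem_top
      induction hz using Submodule.span_induction with
      | mem y hy =>
        obtain ⟨w, rfl⟩ := hy
        refine ⟨b • t w, ?_⟩
        show Θ (b • _) = _
        rw [map_smul, hΘ]
        show b • ((1 : κ) ⊗ₜ[B] KaehlerDifferential.D A B (w - algebraMap k B (c w))) = _
        rw [map_sub, IsScalarTower.algebraMap_apply k A B, Derivation.map_algebraMap, sub_zero, TensorProduct.smul_tmul',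
          Algebra.smul_def, mul_one]
        rfl
      | zero => exact ⟨0, by rw [map_zero, TensorProduct.tmul_zero]⟩
      | add x y _ _ hx hy =>
        obtain ⟨p, hp⟩ := hx; obtain ⟨q, hq⟩ := hy
        exact ⟨p + q, by rw [map_add, hp, hq, TensorProduct.tmul_add]⟩
      | smul r x _ hx =>
        obtain ⟨p, hp⟩ := hx
        exact ⟨r • p, by rw [map_smul, hp, TensorProduct.tmul_smul]⟩
    | add x y hx hy =>
      obtain ⟨p, rfl⟩ := hx; obtain ⟨q, rfl⟩ := hy
      exact ⟨p + q, map_add _ _ _⟩
  have hker : LinearMap.ker (Θ.restrictScalars k) = W := by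
    refine le_antisymm (fun x hx => ?_) ?_
    · obtain ⟨m, rfl⟩ := Ideal.toCotangent_surjective _ x
      have h0 : ((1 : κ) ⊗ₜ[B] KaehlerDifferential.D A B (m : B) : T) = 0 := hx
      have h1 := congrArg (d.liftKaehlerDifferential.lTensor κ) h0
      rw [LinearMap.lTensor_tmul, map_zero, Derivation.liftKaehlerDifferential_comp_D] at h1
      have h1' : (Ideal.Quotient.mk (IsLocalRing.maximalIdeal B) 1 ⊗ₜ[B] d m :
          (B ⧸ IsLocalRing.maximalIdeal B) ⊗[B] (ct ⧸ WB)) = 0 := h1
      have h2 := congrArg (TensorProduct.quotTensorEquivQuotSMul (ct ⧸ WB) (IsLocalRing.maximalIdeal B)) h1'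
      rw [map_zero, TensorProduct.quotTensorEquivQuotSMul_mk_tmul, one_smul] at h2
      have h3 : d m ∈ (IsLocalRing.maximalIdeal B • ⊤ : Submodule B (ct ⧸ WB)) :=
        (Submodule.Quotient.mk_eq_zero _).1 h2
      have h4 : (IsLocalRing.maximalIdeal B • ⊤ : Submodule B (ct ⧸ WB)) ≤ ⊥ := by
        rw [Submodule.smul_le]
        intro r hr z _
        obtain ⟨x, rfl⟩ := Submodule.Quotient.mk_surjective _ z
        rw [← Submodule.Quotient.mk_smul, hmct r x hr]
        exact zero_mem _
      have h5 := (Submodule.Quotient.mk_eq_zero _).1 ((Submodule.mem_bot B).1 (h4 h3))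
      rw [htm] at h5
      exact h5
    · rintro _ ⟨y, rfl⟩
      obtain ⟨a, rfl⟩ := Ideal.toCotangent_surjective _ y
      rw [LinearMap.mem_ker, LinearMap.restrictScalars_apply, Ideal.mapCotangent_toCotangent, hΘ]
      show (1 : κ) ⊗ₜ[B] KaehlerDifferential.D A B (algebraMap A B a) = 0
      rw [Derivation.map_algebraMap, TensorProduct.tmul_zero]
  have : Module.Finite k κ := Module.Finite.of_surjective (Algebra.linearMap k κ) hB.2
  have : IsScalarTower k κ ct := IsScalarTower.of_algebraMap_smul fun x y => by
    rw [IsScalarTower.algebraMap_apply k B κ, algebraMap_smul, algebraMap_smul]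
  have : IsScalarTower k κ T := inferInstance
  have : Module.Finite k ct := Module.Finite.trans κ ct
  have h1 : Module.finrank k κ = 1 := by
    rw [← (LinearEquiv.ofBijective (Algebra.linearMap k κ) hB).finrank_eq, Module.finrank_self]
  have hrn := LinearMap.finrank_range_add_finrank_ker (Θ.restrictScalars k)
  rw [hker, LinearMap.range_eq_top.2 (show Function.Surjective (Θ.restrictScalars k) from hΘsurj), finrank_top,
    ← Module.finrank_mul_finrank k κ T, h1, one_mul] at hrn
  exact hrn

end Groth.Agent.S14437
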