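import Mathlib
import Groth.Statements.S14438
-- import your own Groth.Agent.* helpers here

set_option autoImplicit false
universe u
open CAlg

noncomputable section

namespace Groth.Agent.S14438

open scoped TensorProduct

section copied

variable {A : Type u} [CommRing A]

theorem length_localized_equiv (p : Ideal A) [p.IsPrime] {N N' : Type u}
    [AddCommGroup N] [Module A N] [AddCommGroup N'] [Module A N'] (e : N ≃ₗ[A] N') :
    Module.length (Localization.AtPrime p) (LocalizedModule p.primeCompl N) =
      Module.length (Localization.AtPrime p) (LocalizedModule p.primeCompl N') := by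
  refine (LinearEquiv.ofBijective (LocalizedModule.map p.primeCompl e.toLinearMap) ⟨?_, ?_⟩).length_eq
  · exact LocalizedModule.map_injective p.primeCompl _ e.injective
  · exact LocalizedModule.map_surjective p.primeCompl _ e.surjective

theorem length_localized_self (p : Ideal A) [p.IsPrime] :
    Module.length (Localization.AtPrime p) (LocalizedModule p.primeCompl (A ⧸ p)) = 1 := by
  haveI : IsSimpleModule (Localization.AtPrime p) (LocalizedModule p.primeCompl (A ⧸ p)) := by
    rw [isSimpleModule_iff_toSpanSingleton_surjective]
    refine ⟨⟨LocalizedModule.mk 1 1, 0, fun h => ?_⟩, fun z hz w => ?_⟩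
    · rw [← LocalizedModule.zero_mk (1 : p.primeCompl), LocalizedModule.mk_eq] at h
      obtain ⟨u, hu⟩ := h
      simp only [one_smul, smul_zero] at hu
      rw [Submonoid.smul_def, Algebra.smul_def, mul_one] at hu
      exact u.2 (Ideal.Quotient.eq_zero_iff_mem.mp hu)
    · induction z using LocalizedModule.induction_on with
      | _ x s =>
        induction w using LocalizedModule.induction_on with
        | _ y t =>
          obtain ⟨x, rfl⟩ := Ideal.Quotient.mk_surjective x
          obtain ⟨y, rfl⟩ := Ideal.Quotient.mk_surjective y
          have hx : x ∈ p.primeCompl := fun hxp => hz (by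
            rw [Ideal.Quotient.eq_zero_iff_mem.mpr hxp, LocalizedModule.zero_mk])
          refine ⟨Localization.mk (y * (s : A)) (t * ⟨x, hx⟩), ?_⟩
          rw [LinearMap.toSpanSingleton_apply, LocalizedModule.mk_smul_mk, LocalizedModule.mk_eq]
          refine ⟨1, ?_⟩
          simp only [Submonoid.smul_def, Submonoid.coe_mul, Submonoid.coe_one, one_smul,
            Algebra.smul_def, Ideal.Quotient.algebraMap_eq, ← map_mul]
          congr 1
          ring
  exact Module.length_eq_one _ _

theorem length_localized_eq_zero (p q : Ideal A) [p.IsPrime] (h : ¬ q ≤ p) :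
    Module.length (Localization.AtPrime p) (LocalizedModule p.primeCompl (A ⧸ q)) = 0 := by
  obtain ⟨t, htq, htp⟩ := SetLike.not_le_iff_exists.mp h
  rw [Module.length_eq_zero_iff]
  refine subsingleton_of_forall_eq 0 fun z => ?_
  induction z using LocalizedModule.induction_on with
  | _ x s =>
    rw [← LocalizedModule.zero_mk s, LocalizedModule.mk_eq]
    refine ⟨⟨t, htp⟩, ?_⟩
    simp only [smul_zero]
    obtain ⟨x, rfl⟩ := Ideal.Quotient.mk_surjective x
    rw [Submonoid.smul_def, Submonoid.smul_def, Algebra.smul_def, Algebra.smul_def,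
      Ideal.Quotient.algebraMap_eq, ← map_mul, ← map_mul]
    exact Ideal.Quotient.eq_zero_iff_mem.mpr (q.mul_mem_right _ htq)


end copied

section helpers

variable {B : Type u} [CommRing B]

/-- The localized length at a prime. -/
def llen (q : Ideal B) [q.IsPrime] (N : Type u) [AddCommGroup N] [Module B N] : ℕ∞ :=
  Module.length (Localization.AtPrime q) (LocalizedModule q.primeCompl N)

lemma llen_add (q : Ideal B) [q.IsPrime] {N : Type u} [AddCommGroup N] [Module B N]
    (N' : Submodule B N) : llen q N = llen q N' + llen q (N ⧸ N') := by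
  unfold llen
  refine Module.length_eq_add_of_exact (LocalizedModule.map q.primeCompl N'.subtype)
    (LocalizedModule.map q.primeCompl N'.mkQ) ?_ ?_ ?_
  · exact LocalizedModule.map_injective q.primeCompl _ N'.injective_subtype
  · exact LocalizedModule.map_surjective q.primeCompl _ N'.mkQ_surjective
  · exact LocalizedModule.map_exact q.primeCompl _ _ (LinearMap.exact_subtype_mkQ N')

variable {A : Type u} [CommRing A] [Algebra A B]

lemma sum_llen (I : Ideal B) {ι : Type*} [Fintype ι] (m : ι → Ideal B) [∀ i, (m i).IsMaximal]
    (hinj : Function.Injective m) (hall : ∀ n : Ideal B, n.IsMaximal → I ≤ n → ∃ i, m i = n)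
    (hone : ∀ i, Module.length A (B ⧸ m i) = 1)
    (N : Type u) [AddCommGroup N] [Module B N] [Module A N] [IsScalarTower A B N]
    (hN : IsFiniteLength B N) (hI : I ≤ Module.annihilator B N) :
    ∑ i, llen (m i) N = Module.length A N := by
  classical
  suffices H : ∀ S : Submodule B N, IsFiniteLength B S → ∑ i, llen (m i) S = Module.length A S by
    have h1 := H ⊤ (hN.of_injective (f := (⊤ : Submodule B N).subtype) Subtype.val_injective)
    rw [((Submodule.topEquiv (R := B) (M := N)).restrictScalars A).length_eq] at h1
    rw [← h1]
    exact Finset.sum_congr rfl fun i _ => (length_localized_equiv (m i) Submodule.topEquiv).symm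
  haveI : IsNoetherian B N := (isFiniteLength_iff_isNoetherian_isArtinian.mp hN).1
  haveI : IsArtinian B N := (isFiniteLength_iff_isNoetherian_isArtinian.mp hN).2
  intro S
  induction S using IsArtinian.induction with
  | _ S ih =>
  intro _
  by_cases hS : S = ⊥
  · subst hS
    rw [Module.length_eq_zero]
    refine Finset.sum_eq_zero fun i _ => ?_
    haveI : Subsingleton (LocalizedModule (m i).primeCompl (⊥ : Submodule B N)) := by
      refine subsingleton_of_forall_eq 0 fun z => ?_
      induction z using LocalizedModule.induction_on with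
      | _ x s => rw [Subsingleton.elim x 0, LocalizedModule.zero_mk]
    exact Module.length_eq_zero
  haveI : Nontrivial S := Submodule.nontrivial_iff_ne_bot.mpr hS
  obtain ⟨T', hT', -⟩ := (eq_top_or_exists_le_coatom (⊥ : Submodule B S)).resolve_left bot_ne_top
  haveI : IsSimpleModule B (S ⧸ T') := isSimpleModule_iff_isCoatom.mpr hT'
  have hlt : T'.map S.subtype < S := by
    refine lt_of_le_of_ne (Submodule.map_subtype_le S T') fun h => hT'.1 ?_
    rw [← Submodule.comap_map_eq_of_injective S.injective_subtype T', h, Submodule.comap_subtype_self]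
  have hih := ih _ hlt (hN.of_injective (f := (T'.map S.subtype).subtype) Subtype.val_injective)
  let e := Submodule.equivMapOfInjective S.subtype S.injective_subtype T'
  have hT : ∑ i, llen (m i) T' = Module.length A T' := by
    rw [(e.restrictScalars A).length_eq, ← hih]
    exact Finset.sum_congr rfl fun i _ => length_localized_equiv (m i) e
  -- the simple quotient
  obtain ⟨n, hn, ⟨eq⟩⟩ := isSimpleModule_iff_quot_maximal.mp (inferInstance : IsSimpleModule B (S ⧸ T'))
  have hIn : I ≤ n := by
    intro x hx
    have h0 : ∀ z : N, x • z = 0 := Module.mem_annihilator.mp (hI hx)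
    obtain ⟨w, hw⟩ := eq.surjective (Ideal.Quotient.mk n 1)
    obtain ⟨w, rfl⟩ := Submodule.Quotient.mk_surjective T' w
    have h1 : x • eq (Submodule.Quotient.mk w) = 0 := by
      rw [← map_smul, ← Submodule.Quotient.mk_smul,
        show x • w = 0 from Subtype.ext (h0 w), Submodule.Quotient.mk_zero, map_zero]
    rw [hw] at h1
    rwa [← Ideal.Quotient.eq_zero_iff_mem, ← Ideal.Quotient.algebraMap_eq,
      Algebra.algebraMap_eq_smul_one]
  obtain ⟨i₀, hi₀⟩ := hall n hn hIn
  subst hi₀
  have hQ : ∑ i, llen (m i) (S ⧸ T') = Module.length A (S ⧸ T') := by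
    rw [(eq.restrictScalars A).length_eq, hone, Finset.sum_eq_single i₀]
    · exact (length_localized_equiv (m i₀) eq).trans (length_localized_self (m i₀))
    · intro i _ hi
      exact (length_localized_equiv (m i) eq).trans (length_localized_eq_zero (m i) (m i₀)
        fun hle => hi (hinj ((Ideal.IsMaximal.eq_of_le inferInstance (Ideal.IsMaximal.ne_top inferInstance) hle).symm)))
    · simp
  rw [Module.length_eq_add_of_exact (T'.subtype.restrictScalars A) (T'.mkQ.restrictScalars A)
    T'.injective_subtype T'.mkQ_surjective (LinearMap.exact_subtype_mkQ T'), ← hT, ← hQ,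
    ← Finset.sum_add_distrib]
  exact Finset.sum_congr rfl fun i _ => llen_add (m i) T'

end helpers

/-- Let (A, m) be a local ring, B a commutative A-algebra which is free of finite rank d as an A-module,
and assume that for every maximal ideal n of B containing mB the induced map of residue fields A/m →
B/n is bijective (as for the points of a fibre of a finite flat morphism of varieties over an
algebraically closed field). Then the multiplicities of the points of the fibre add up to the
degree: the sum over all such n of the length of the B_n-module (B/mB)_n equals d. -/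
theorem result (A B : Type u) [CommRing A] [IsLocalRing A] [CommRing B] [Algebra A B]
    [Module.Free A B] [Module.Finite A B] (d : ℕ) (hd : Module.finrank A B = d)
    (hres : ∀ (n : Ideal B) [n.IsMaximal] (h : Ideal.map (algebraMap A B) (IsLocalRing.maximalIdeal A) ≤ n),
      Function.Bijective (Ideal.quotientMap n (algebraMap A B) (Ideal.map_le_iff_le_comap.mp h))) :
    finsum (fun n : {n : MaximalSpectrum B // Ideal.map (algebraMap A B) (IsLocalRing.maximalIdeal A) ≤ n.asIdeal} =>
      Module.length (Localization.AtPrime n.1.asIdeal)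
        (LocalizedModule n.1.asIdeal.primeCompl (B ⧸ Ideal.map (algebraMap A B) (IsLocalRing.maximalIdeal A)))) = (d : ℕ∞) := by
  classical
  set I := Ideal.map (algebraMap A B) (IsLocalRing.maximalIdeal A) with hI
  let k := A ⧸ IsLocalRing.maximalIdeal A
  letI : Field k := Ideal.Quotient.field _
  -- the fibre ring is Artinian
  letI : Algebra k (B ⧸ I) := (Ideal.quotientMap I (algebraMap A B) Ideal.le_comap_map).toAlgebra
  haveI : IsScalarTower A k (B ⧸ I) := IsScalarTower.of_algebraMap_eq fun x => rfl
  haveI : Module.Finite A (B ⧸ I) := Module.Finite.of_surjective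
    (Ideal.Quotient.mkₐ A I).toLinearMap Ideal.Quotient.mk_surjective
  haveI : Module.Finite k (B ⧸ I) := Module.Finite.of_restrictScalars_finite A k (B ⧸ I)
  haveI : IsArtinianRing (B ⧸ I) := IsArtinianRing.of_finite k (B ⧸ I)
  haveI : Finite {n : MaximalSpectrum B // I ≤ n.asIdeal} := by
    refine Finite.of_injective
      (fun n => (⟨n.1.asIdeal.map (Ideal.Quotient.mk I), ?_⟩ : MaximalSpectrum (B ⧸ I))) ?_
    · exact Ideal.IsMaximal.map_of_surjective_of_ker_le Ideal.Quotient.mk_surjective
        (by rw [Ideal.mk_ker]; exact n.2)
    · intro a b hab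
      have h1 := congrArg (fun J => Ideal.comap (Ideal.Quotient.mk I) (MaximalSpectrum.asIdeal J)) hab
      simp only [Ideal.comap_map_of_surjective' _ Ideal.Quotient.mk_surjective, Ideal.mk_ker,
        sup_eq_left.mpr a.2, sup_eq_left.mpr b.2] at h1
      exact Subtype.ext (MaximalSpectrum.ext h1)
  cases nonempty_fintype {n : MaximalSpectrum B // I ≤ n.asIdeal}
  rw [finsum_eq_sum_of_fintype]
  have hone : ∀ n : {n : MaximalSpectrum B // I ≤ n.asIdeal},
      Module.length A (B ⧸ n.1.asIdeal) = 1 := by
    intro n
    have hb := hres n.1.asIdeal n.2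
    haveI : IsSimpleModule A k := isSimpleModule_iff_quot_maximal.mpr
      ⟨IsLocalRing.maximalIdeal A, inferInstance, ⟨LinearEquiv.refl _ _⟩⟩
    let ψ : k →ₗ[A] B ⧸ n.1.asIdeal :=
      { toFun := Ideal.quotientMap n.1.asIdeal (algebraMap A B) (Ideal.map_le_iff_le_comap.mp n.2)
        map_add' := map_add _
        map_smul' := fun a x => by
          obtain ⟨y, rfl⟩ := Ideal.Quotient.mk_surjective x
          rw [Algebra.smul_def, map_mul, RingHom.id_apply, Algebra.smul_def]
          rfl }
    rw [← (LinearEquiv.ofBijective ψ hb).length_eq]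
    exact Module.length_eq_one A k
  have hlen : Module.length A (B ⧸ I) = d := by
    rw [Module.length_eq_of_surjective (S := A) (R := k) (M := B ⧸ I) Ideal.Quotient.mk_surjective,
      Module.length_eq_finrank]
    congr 1
    have e : (k ⊗[A] B) ≃ₗ[A] B ⧸ I :=
      (TensorProduct.quotTensorEquivQuotSMul B (IsLocalRing.maximalIdeal A)).trans
        ((Submodule.quotEquivOfEq _ _ (Ideal.smul_top_eq_map _)).trans
          (Submodule.Quotient.restrictScalarsEquiv A I))
    rw [← (e.extendScalarsOfSurjective (S := k) Ideal.Quotient.mk_surjective).finrank_eq,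
      Module.finrank_baseChange, hd]
  rw [← hlen, ← sum_llen (A := A) I (fun n : {n : MaximalSpectrum B // I ≤ n.asIdeal} => n.1.asIdeal)
    (fun a b h => Subtype.ext (MaximalSpectrum.ext h))
    (fun n hn hle => ⟨⟨⟨n, hn⟩, hle⟩, rfl⟩) hone (B ⧸ I) ?_ ?_]
  · rfl
  · rw [← Module.length_ne_top_iff, Module.length_eq_of_surjective (S := B) (R := B ⧸ I)
      (M := B ⧸ I) Ideal.Quotient.mk_surjective]
    haveI : IsNoetherianRing (B ⧸ I) := inferInstance
    exact Module.length_ne_top
  · exact (Ideal.annihilator_quotient (I := I)).ge

end Groth.Agent.S14438
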