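import Groth.Statements.S14439
import Groth.Agent.Lib.SyzygyPn
import Groth.Agent.S0843

set_option autoImplicit false
set_option backward.isDefEq.respectTransparency false
set_option backward.isDefEq.respectTransparency.types false
set_option linter.style.haveILetI false
set_option linter.unusedSectionVars false
set_option maxHeartbeats 400000
universe u
open CategoryTheory CategoryTheory.Limits AlgebraicGeometry
open Variety

namespace Groth.Agent.S14439

open Groth.Agent.RegEpi Groth.Agent.ProjRegular Groth.Agent.PnCoh.Finite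

noncomputable instance projOver (k : Type u) [Field k] (n : ℕ) :
    (Proj (CohB1.polyGrading n k)).Over (Spec (CommRingCat.of k)) :=
  inferInstanceAs ((CohB1.ProjSpace n k).Over (Spec (CommRingCat.of k)))

theorem finrank_homogeneous_zero (k : Type u) [Field k] (σ : Type) :
    Module.finrank k ↥(MvPolynomial.homogeneousSubmodule σ k 0) = 1 := by
  rw [MvPolynomial.homogeneousSubmodule_zero, Submodule.one_eq_span]
  exact finrank_span_singleton one_ne_zero

theorem hyp (k : Type u) [Field k] (n : ℕ) : Syzygy.Hyp k n where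
  fin := fun M hM => projSpace_finite_HH n k M hM 0
  one := by
    obtain ⟨φ⟩ := unitIso (k := k) (n := n)
    obtain ⟨e⟩ := S0843.result k n 0
    exact ((RegDescent.HHequiv (k := k) φ 0).trans e).finrank_eq.trans (finrank_homogeneous_zero k _)

theorem exists_regular (k : Type u) [Field k] (n : ℕ) (F : (Proj (CohB1.polyGrading n k)).Modules)
    (hF : Coh.IsCoh F) : ∃ m : ℤ, ∀ i : ℕ, 1 ≤ i →
      Subsingleton (Coh.HH (Proj (CohB1.polyGrading n k)) ((twF (m - (i : ℤ))).obj F) i) := by
  classical
  choose d hd using fun (i : ℕ) (hi : 0 < i) => RegDescent.exists_vanishing_twF (k := k) hF i hi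
  refine ⟨(n : ℤ) + ∑ i : Fin n, |d (i.val + 1) (Nat.succ_pos _)|, fun i hi => ?_⟩
  rcases le_or_gt i n with h | h
  · refine hd i hi _ ?_
    obtain ⟨j, rfl⟩ : ∃ j, i = j + 1 := ⟨i - 1, by omega⟩
    have h2 := Finset.single_le_sum (f := fun i : Fin n => |d (i.val + 1) (Nat.succ_pos _)|)
      (fun _ _ => abs_nonneg _) (Finset.mem_univ (⟨j, h⟩ : Fin n))
    simp only at h2
    have h3 := le_abs_self (d (j + 1) hi)
    push_cast
    omega
  · exact Syzygy.subsingleton_high' hF _ i h

/-- Let k be an algebraically closed field, n ≥ 0 and F a coherent sheaf on P^n_k. Then F has a locally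
free resolution 0 → E_{n+1} → ⋯ → E_1 → E_0 → F → 0 of length at most n + 1 in which every E_i is a
finite direct sum of twisting sheaves O(d): there are a chain complex C of O-modules with C_i = 0
for i > n + 1, each C_i isomorphic to a finite coproduct of twisting sheaves, exact in positive
degrees, and an epimorphism C_0 → F whose kernel is the image of C_1 → C_0. -/
theorem result (k : Type u) [Field k] [IsAlgClosed k] (n : ℕ)
    (F : (CohB1.ProjSpace n k).Modules) (hF : Coh.IsCoh F) :
    ∃ (C : ChainComplex (CohB1.ProjSpace n k).Modules ℕ) (π : C.X 0 ⟶ F) (w : C.d 1 0 ≫ π = 0),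
      (∀ i : ℕ, n + 1 < i → IsZero (C.X i)) ∧
      (∀ i : ℕ, ∃ (m : ℕ) (d : Fin m → ℤ), Nonempty (C.X i ≅ ∐ fun j : Fin m => Twist.twistProjSpace n k (d j))) ∧
      (∀ i : ℕ, 1 ≤ i → IsZero (C.homology i)) ∧ Epi π ∧ (ShortComplex.mk (C.d 1 0) π w).Exact := by
  obtain ⟨m, hm⟩ := exists_regular k n F hF
  obtain ⟨C, π, w, h1, h2, h3, h4, h5⟩ := Syzygy.exists_resolution (hyp k n) hF m hm
  exact ⟨C, π, w, fun i hi => h1 i (by omega),
    fun i => ⟨(h2 i).choose, fun _ => -(m + i), (h2 i).choose_spec⟩, h3, h4, h5⟩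

end Groth.Agent.S14439
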