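import Groth.Statements.S1444
import Groth.Agent.RelPC17.DimOneFibres

set_option autoImplicit false
set_option backward.isDefEq.respectTransparency false
set_option backward.isDefEq.respectTransparency.types false
universe u
open FlatMor

namespace Groth.Agent.S1444

open AlgebraicGeometry CategoryTheory Limits in
/-- Let f : X → Y be proper with Y affine, all fibres of f of dimension at most 1, and H¹(X_y, O_{X_y})
= 0 for every point y of Y. Then H¹(X, F) = 0 for every quasi-coherent O_X-module F which is
globally generated (a quotient of a direct sum of copies of the structure sheaf). -/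
theorem result {X Y : Scheme.{u}} (f : X ⟶ Y) [IsProper f] [IsAffine Y]
    (hdim : ∀ y : Y, topologicalKrullDim ↑(f.fiber y) ≤ 1) (hH1 : ∀ y : Y, Subsingleton (Coh.HH (f.fiber y) (Coh.structureModule (f.fiber y)) 1))
    (F : X.Modules) (hF : Coh.IsQCoh F) (ι : Type u) (e : (∐ fun _ : ι => Coh.structureModule X) ⟶ F) [Epi e] :
    Subsingleton (Coh.HH X F 1) := by
  have hd : ∀ y : Y, topologicalKrullDim ↥(f.fiber y) ≤ (1 : ℕ) := by simpa using hdim
  have hO := Groth.Agent.RelPC17.DimOne.subsingleton_HH_affine f hd fun y =>
    Groth.Agent.RelPC17.DimOne.vanishAt_of_fiber f y (hd y) (hH1 y)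
  exact Groth.Agent.RelPC17.DimOne.subsingleton_HH_one_of_epi f hd hO hF e

end Groth.Agent.S1444
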