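import Groth.Statements.S14441
import Mathlib.RingTheory.Smooth.Locus
import Mathlib.RingTheory.Smooth.Field
import Mathlib.RingTheory.Etale.Basic

set_option autoImplicit false
universe u
open Variety

namespace Groth.Agent.S14441

/-- Let k be an algebraically closed field and f : X → Y a dominant morphism of irreducible varieties
over k such that the extension of function fields k(X)/k(Y) is separable (has a separating
transcendence basis); then f is smooth on some nonempty open subset of X. Affine form: A → B an
injective k-algebra homomorphism of integral domains of finite type over k, K = Frac A ⊆ L = Frac B,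
a_1, …, a_n a transcendence basis of L over K with L separable over K(a_1, …, a_n); then there is g
≠ 0 in B such that every localization B[1/g] is a smooth A-algebra. -/
theorem result (k : Type u) [Field k] [IsAlgClosed k]
    (A B : Type u) [CommRing A] [CommRing B] [IsDomain A] [IsDomain B] [Algebra k A] [Algebra k B] [Algebra A B] [IsScalarTower k A B]
    [Algebra.FiniteType k A] [Algebra.FiniteType k B] (hinj : Function.Injective (algebraMap A B))
    (K L : Type u) [Field K] [Field L] [Algebra A K] [IsFractionRing A K] [Algebra B L] [IsFractionRing B L]
    [Algebra K L] [Algebra A L] [IsScalarTower A B L] [IsScalarTower A K L]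
    (n : ℕ) (a : Fin n → L) (ha : IsTranscendenceBasis K a)
    (hsep : Algebra.IsSeparable ↥(IntermediateField.adjoin K (Set.range a)) L) :
    ∃ g : B, g ≠ 0 ∧ ∀ (C : Type u) [CommRing C] [Algebra B C] [IsLocalization.Away g C] [Algebra A C] [IsScalarTower A B C],
      Algebra.Smooth A C := by
  have : Algebra.FiniteType A B := Algebra.FiniteType.of_restrictScalars_finiteType k A B
  have : IsNoetherianRing A := Algebra.FiniteType.isNoetherianRing k A
  have : Algebra.FinitePresentation A B := Algebra.FinitePresentation.of_finiteType.1 inferInstance
  have := hsep
  have : Algebra.FormallySmooth K L :=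
    Algebra.FormallySmooth.of_algebraicIndependent_of_isSeparable ha.1
  have : Algebra.FormallySmooth A K := Algebra.FormallySmooth.of_isLocalization (nonZeroDivisors A)
  have : Algebra.FormallySmooth A L := Algebra.FormallySmooth.comp A K L
  let P : Ideal B := ⊥
  have : P.IsPrime := Ideal.isPrime_bot
  have hloc : IsLocalization P.primeCompl L := by
    have e : P.primeCompl = nonZeroDivisors B := Ideal.primeCompl_bot
    rw [e]; infer_instance
  let e : Localization.AtPrime P ≃ₐ[A] L :=
    (IsLocalization.algEquiv P.primeCompl (Localization.AtPrime P) L).restrictScalars A
  have : Algebra.IsSmoothAt A P := Algebra.FormallySmooth.of_equiv e.symm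
  obtain ⟨g, hg, hs⟩ := Algebra.IsSmoothAt.exists_notMem_smooth (R := A) P
  refine ⟨g, fun h => hg (Ideal.mem_bot.2 h), fun C _ _ _ _ _ => ?_⟩
  exact Algebra.Smooth.of_equiv
    ((IsLocalization.algEquiv (Submonoid.powers g) (Localization.Away g) C).restrictScalars A)

end Groth.Agent.S14441
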