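import Groth.Statements.S14442
import Mathlib

set_option autoImplicit false
universe u
open GrNak

namespace Groth.Agent.S14442

/-- Let R be a commutative ℕ-graded ring with irrelevant ideal R_+ = ⊕_{i>0} R_i, M an ℕ-graded R-module
and N a graded submodule of M (closed under taking homogeneous components). If M = R_+ M + N then N
= M. (The published statement is for finitely generated ℤ-graded modules over a graded quotient of a
polynomial ring, whose degrees are then bounded below; stated here for non-negatively graded modules
over any ℕ-graded commutative ring, where the same lowest-degree argument applies without finite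
generation.) -/
theorem result {R : Type u} [CommRing R] {σ : Type u} [SetLike σ R] [AddSubmonoidClass σ R]
    (𝒜 : ℕ → σ) [GradedRing 𝒜]
    {M : Type u} [AddCommGroup M] [Module R M] {τ : Type u} [SetLike τ M] [AddSubmonoidClass τ M]
    (ℳ : ℕ → τ) [DirectSum.Decomposition ℳ] [SetLike.GradedSMul 𝒜 ℳ]
    (N : Submodule R M) (hN : ∀ x ∈ N, ∀ i : ℕ, (DirectSum.decompose ℳ x i : M) ∈ N)
    (h : (HomogeneousIdeal.irrelevant 𝒜).toIdeal • (⊤ : Submodule R M) ⊔ N = ⊤) :
    N = ⊤ := by
  classical
  have main : ∀ i, ∀ m : M, (DirectSum.decompose ℳ m i : M) ∈ N := by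
    intro i
    induction i using Nat.strong_induction_on with
    | _ i ih =>
      intro m
      have hm : m ∈ (HomogeneousIdeal.irrelevant 𝒜).toIdeal • (⊤ : Submodule R M) ⊔ N := by rw [h]; trivial
      obtain ⟨y, hy, z, hz, rfl⟩ := Submodule.mem_sup.1 hm
      rw [DirectSum.decompose_add]
      simp only [DirectSum.add_apply, AddMemClass.coe_add]
      refine N.add_mem ?_ (hN z hz i)
      clear hm hz
      induction hy using Submodule.smul_induction_on' with
      | smul a ha x _ =>
        have key : ∀ y z : M, (DirectSum.decompose ℳ (y + z) i : M) =
            (DirectSum.decompose ℳ y i : M) + (DirectSum.decompose ℳ z i : M) := by simp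
        let F : M →+ M := AddMonoidHom.mk' (fun y => (DirectSum.decompose ℳ y i : M)) key
        change F (a • x) ∈ N
        rw [← DirectSum.sum_support_decompose 𝒜 a, Finset.sum_smul, map_sum]
        refine N.sum_mem fun l hl => ?_
        rw [← DirectSum.sum_support_decompose ℳ x, Finset.smul_sum, map_sum]
        refine N.sum_mem fun j _ => ?_
        have hl0 : l ≠ 0 := by
          rintro rfl
          rw [DFinsupp.mem_support_iff] at hl
          apply hl
          rw [HomogeneousIdeal.mem_iff, HomogeneousIdeal.mem_irrelevant_iff, GradedRing.proj_apply] at ha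
          exact_mod_cast ha
        have hmem : ((DirectSum.decompose 𝒜 a l : R) • (DirectSum.decompose ℳ x j : M)) ∈ ℳ (l + j) :=
          by
          simpa using SetLike.GradedSMul.smul_mem (A := 𝒜) (B := ℳ)
            (DirectSum.decompose 𝒜 a l).2 (DirectSum.decompose ℳ x j).2
        by_cases hij : l + j = i
        · change (DirectSum.decompose ℳ _ i : M) ∈ N
          subst hij
          rw [DirectSum.decompose_of_mem_same ℳ hmem]
          exact N.smul_mem _ (ih j (by omega) x)
        · change (DirectSum.decompose ℳ _ i : M) ∈ N
          rw [DirectSum.decompose_of_mem_ne ℳ hmem hij]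
          exact N.zero_mem
      | add a _ b _ ha hb => simpa using N.add_mem ha hb
  rw [eq_top_iff]
  intro m _
  rw [← DirectSum.sum_support_decompose ℳ m]
  exact N.sum_mem fun i _ => main i m


end Groth.Agent.S14442
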