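import Groth.Statements.S14446
import Groth.Agent.StkLib.Basic

set_option autoImplicit false
set_option backward.isDefEq.respectTransparency false
set_option backward.isDefEq.respectTransparency.types false
open CategoryTheory
universe v₂ u₂ v₃ u₃ v u
open Stk

namespace Groth.Agent.S14446

/-- Let C be a category with a Grothendieck topology J and 𝒳, 𝒴 categories over C which are equivalent
in the 2-category of categories over C. Then 𝒳 is a prestack in groupoids for J — fibred in
groupoids, with restriction from functors C/U → 𝒳 over C to functors R → 𝒳 over C fully faithful for
every covering sieve R on every object U — if and only if 𝒴 is. (The published statement concerns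
fibred categories in general; this row is its case for categories fibred in groupoids, with the
prestack condition in sieve form.) -/
theorem result {C : Type u} [Category.{v} C] (J : GrothendieckTopology C)
    {𝒳 : BasedCategory.{v₂, u₂} C} {𝒴 : BasedCategory.{v₃, u₃} C} (F : 𝒳 ⥤ᵇ 𝒴) (hF : FibCat.IsEquivOver F) :
    Stk.IsPrestack J 𝒳 ↔ Stk.IsPrestack J 𝒴 := by
  exact Groth.Agent.StkLib.isPrestack_iff_of_isEquivOver J hF

end Groth.Agent.S14446
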