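import Groth.Statements.S14447
import Mathlib.CategoryTheory.Limits.Preserves.Shapes.BinaryProducts
import Mathlib.CategoryTheory.Limits.Constructions.FiniteProductsOfBinaryProducts
import Mathlib.CategoryTheory.Limits.Types.Products


set_option autoImplicit false
universe w v u
open AlgGrp

namespace Groth.Agent.S14447

open CategoryTheory CategoryTheory.Limits

open CategoryTheory CategoryTheory.Limits in
/-- Let C be a category with finite products and with all coproducts indexed by sets, and assume that
for every set I and every object U the canonical arrow ∐_{i∈I} U → (∐_{i∈I} pt) × U, whose i-th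
component pairs U → pt → ∐_{i∈I} pt (i-th coprojection) with the identity of U, is an isomorphism.
Then the discrete-object functor from sets to C, I ↦ ∐_{i∈I} pt, preserves finite products. (Sets
are the types of one fixed universe, the one indexing the coproducts. The published statement asks
only for the coproducts of copies of one object; this row assumes that C has all coproducts indexed
by sets, which Mathlib's discrete-object functor sigmaConst requires.) -/
theorem result {C : Type u} [Category.{v} C]
    [HasFiniteProducts C] [HasCoproducts.{w} C]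
    (h : ∀ (I : Type w) (U : C), IsIso (Sigma.desc fun i : I =>
      prod.lift (terminal.from U ≫ Sigma.ι (fun _ : I => ⊤_ C) i) (𝟙 U))) :
    PreservesFiniteProducts (sigmaConst.{w}.obj (⊤_ C)) := by
  classical
  let F := sigmaConst.{w}.obj (⊤_ C)
  haveI hT : PreservesLimit (Functor.empty.{0} (Type w)) F := by
    refine preservesTerminal_of_iso F ?_
    refine F.mapIso Types.terminalIso ≪≫ ?_
    exact coproductUniqueIso (fun _ : PUnit.{w+1} => ⊤_ C)
  haveI := preservesLimitsOfShape_pempty_of_preservesTerminal F
  haveI : ∀ I J : Type w, IsIso (prodComparison F I J) := fun I J => by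
    let inner : C := ∐ fun _ : J => ⊤_ C
    haveI := h I inner
    let pr : I → J → (I ⨯ J : Type w) := fun i j => (Types.binaryProductIso I J).inv (i, j)
    let β : (∐ fun _ : I => inner) ⟶ F.obj (I ⨯ J) :=
      Sigma.desc fun i => Sigma.desc fun j => Sigma.ι (fun _ : (I ⨯ J : Type w) => ⊤_ C) (pr i j)
    have hp1 : ∀ i j, (Limits.prod.fst : I ⨯ J ⟶ I) (pr i j) = i := fun i j => by
      exact congr($(Types.binaryProductIso_inv_comp_fst I J) (i, j))
    have hp2 : ∀ i j, (Limits.prod.snd : I ⨯ J ⟶ J) (pr i j) = j := fun i j => by
      exact congr($(Types.binaryProductIso_inv_comp_snd I J) (i, j))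
    have hpr : ∀ x : (I ⨯ J : Type w), pr ((Types.binaryProductIso I J).hom x).1 ((Types.binaryProductIso I J).hom x).2 = x := fun x => by
      simp only [pr, Prod.mk.eta, ← types_comp_apply (Types.binaryProductIso I J).hom, Iso.hom_inv_id]
      rfl
    have hβ : IsIso β := by
      refine ⟨Sigma.desc fun x => Sigma.ι (fun _ : J => ⊤_ C) ((Types.binaryProductIso I J).hom x).2 ≫
        Sigma.ι (fun _ : I => inner) ((Types.binaryProductIso I J).hom x).1, ?_, ?_⟩
      · refine Sigma.hom_ext _ _ fun i => Sigma.hom_ext _ _ fun j => ?_
        simp only [β, Sigma.ι_desc_assoc, Category.comp_id]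
        erw [Sigma.ι_desc]
        simp only [pr, ← types_comp_apply (Types.binaryProductIso I J).inv, Iso.inv_hom_id]
        rfl
      · refine Sigma.hom_ext _ _ fun x => ?_
        simp only [β, Sigma.ι_desc_assoc, Category.assoc, Sigma.ι_desc, Category.comp_id]
        rw [hpr]
        exact (Category.comp_id _).symm
    have key : β ≫ prodComparison F I J = Sigma.desc fun i : I => prod.lift (terminal.from inner ≫ Sigma.ι (fun _ : I => ⊤_ C) i) (𝟙 inner) := by
      refine Sigma.hom_ext _ _ fun i => Sigma.hom_ext _ _ fun j => ?_
      apply Limits.prod.hom_ext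
      · simp only [β, Category.assoc, Sigma.ι_desc_assoc, prodComparison_fst, Sigma.ι_desc, prod.lift_fst]
        refine (Sigma.ι_comp_map' _ _ _).trans ?_
        rw [Category.id_comp, hp1]
        refine Eq.trans ?_ (congrArg (Sigma.ι (fun _ : J => ⊤_ C) j ≫ ·) (prod.lift_fst _ _).symm)
        refine Eq.trans ?_ (Category.assoc _ _ _)
        rw [Subsingleton.elim (Sigma.ι (fun _ : J => ⊤_ C) j ≫ terminal.from inner) (𝟙 _), Category.id_comp]
      · simp only [β, Category.assoc, Sigma.ι_desc_assoc, prodComparison_snd, Sigma.ι_desc, prod.lift_snd, Category.comp_id]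
        refine (Sigma.ι_comp_map' _ _ _).trans ?_
        rw [Category.id_comp, hp2]
        refine Eq.trans ?_ (congrArg (Sigma.ι (fun _ : J => ⊤_ C) j ≫ ·) (prod.lift_snd _ _).symm)
        exact (Category.comp_id _).symm
    haveI : IsIso (β ≫ prodComparison F I J) := by rw [key]; infer_instance
    exact IsIso.of_isIso_comp_left β _
  haveI : ∀ I J : Type w, PreservesLimit (pair I J) F := fun I J => PreservesLimitPair.of_iso_prod_comparison F I J
  haveI : PreservesLimitsOfShape (Discrete WalkingPair) F := ⟨fun {K} => preservesLimit_of_iso_diagram F (diagramIsoPair K).symm⟩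
  exact PreservesFiniteProducts.of_preserves_binary_and_terminal F

end Groth.Agent.S14447
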