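import Groth.Statements.S14448
import Groth.Agent.EtLC12.AssocUnit

set_option autoImplicit false
universe u
open Coherent

namespace Groth.Agent.S14448
namespace Aux
open CategoryTheory CategoryTheory.Limits AlgebraicGeometry Opposite
open Groth.Agent
set_option backward.isDefEq.respectTransparency false
set_option backward.isDefEq.respectTransparency.types false

variable {X Y Z U V W : Scheme.{u}}

noncomputable abbrev usec (f : X ⟶ Y) (M : Y.Modules) (O : Y.Opens) (x : Γ(M, O)) :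
    Γ((Scheme.Modules.pullback f).obj M, f ⁻¹ᵁ O) := EtLC12.AssocUnit.usec f M O x

theorem usec_comp (f : X ⟶ Y) (g : Y ⟶ Z) (M : Z.Modules) (O : Z.Opens) (x : Γ(M, O)) :
    ((Scheme.Modules.pullbackComp f g).hom.app M).app (f ⁻¹ᵁ (g ⁻¹ᵁ O))
        (usec f _ (g ⁻¹ᵁ O) (usec g M O x)) = usec (f ≫ g) M O x :=
  EtLC12.AssocUnit.usec_comp f g M O x

theorem usec_naturality (f : X ⟶ Y) {M N : Y.Modules} (u : M ⟶ N) (O : Y.Opens) (x : Γ(M, O)) :
    ((Scheme.Modules.pullback f).map u).app (f ⁻¹ᵁ O) (usec f M O x) = usec f N O (u.app O x) :=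
  (congrArg (fun t : M ⟶ (Scheme.Modules.pushforward f).obj _ => t.app O x)
    ((Scheme.Modules.pullbackPushforwardAdjunction f).unit.naturality u)).symm

theorem homEquiv_app (f : X ⟶ Y) {M : Y.Modules} {N : X.Modules} (u : (Scheme.Modules.pullback f).obj M ⟶ N)
    (O : Y.Opens) (x : Γ(M, O)) :
    ((Scheme.Modules.pullbackPushforwardAdjunction f).homEquiv M N u).app O x =
      u.app (f ⁻¹ᵁ O) (usec f M O x) := by
  rw [Adjunction.homEquiv_unit]
  rfl

theorem hom_ext₂ (φ : U ⟶ V) (ψ : V ⟶ W) {M : W.Modules} {N : U.Modules}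
    (a b : (Scheme.Modules.pullback φ).obj ((Scheme.Modules.pullback ψ).obj M) ⟶ N)
    (h : ∀ O x, a.app (φ ⁻¹ᵁ (ψ ⁻¹ᵁ O)) (usec φ _ (ψ ⁻¹ᵁ O) (usec ψ M O x)) =
      b.app (φ ⁻¹ᵁ (ψ ⁻¹ᵁ O)) (usec φ _ (ψ ⁻¹ᵁ O) (usec ψ M O x))) : a = b := by
  apply ((Scheme.Modules.pullbackPushforwardAdjunction φ).homEquiv _ _).injective
  apply ((Scheme.Modules.pullbackPushforwardAdjunction ψ).homEquiv _ _).injective
  refine Scheme.Modules.hom_ext _ _ fun O => ?_
  ext x
  rw [homEquiv_app, homEquiv_app]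
  exact (homEquiv_app φ a _ _).trans ((h O x).trans (homEquiv_app φ b _ _).symm)

noncomputable def beta (f : X ⟶ Y) (ξ : X ⟶ U) (η : Y ⟶ V) (φ : U ⟶ V) (h : f ≫ η = ξ ≫ φ) (M : Y.Modules) :
    (Scheme.Modules.pullback φ).obj ((Scheme.Modules.pushforward η).obj M) ⟶
      (Scheme.Modules.pushforward ξ).obj ((Scheme.Modules.pullback f).obj M) :=
  (((Scheme.Modules.pullbackPushforwardAdjunction φ).homEquiv ((Scheme.Modules.pushforward η).obj M)
      ((Scheme.Modules.pushforward ξ).obj ((Scheme.Modules.pullback f).obj M))).symm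
    ((Scheme.Modules.pushforward η).map ((Scheme.Modules.pullbackPushforwardAdjunction f).unit.app M) ≫
      (Scheme.Modules.pushforwardComp f η).hom.app ((Scheme.Modules.pullback f).obj M) ≫
      (Scheme.Modules.pushforwardCongr h).hom.app ((Scheme.Modules.pullback f).obj M) ≫
      (Scheme.Modules.pushforwardComp ξ φ).inv.app ((Scheme.Modules.pullback f).obj M)))

theorem beta_usec (f : X ⟶ Y) (ξ : X ⟶ U) (η : Y ⟶ V) (φ : U ⟶ V) (h : f ≫ η = ξ ≫ φ) (M : Y.Modules)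
    (O : V.Opens) (x : Γ(M, η ⁻¹ᵁ O)) :
    (beta f ξ η φ h M).app (φ ⁻¹ᵁ O) (usec φ ((Scheme.Modules.pushforward η).obj M) O x) =
      ((Scheme.Modules.pullback f).obj M).presheaf.map
        (eqToHom (show ξ ⁻¹ᵁ (φ ⁻¹ᵁ O) = f ⁻¹ᵁ (η ⁻¹ᵁ O) from
          (congrArg (fun k : X ⟶ V => k ⁻¹ᵁ O) h).symm)).op (usec f M (η ⁻¹ᵁ O) x) := by
  rw [beta, ← homEquiv_app, Equiv.apply_symm_apply]
  rfl

theorem final (f : X ⟶ Y) (g : Y ⟶ Z) (L : Z.Modules) {O : Z.Opens} (x : Γ(L, O)) (P : X.Opens) (Q : Y.Opens)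
    (e₂ : Q = g ⁻¹ᵁ O) (e₁ : P = f ⁻¹ᵁ Q) :
    ((Scheme.Modules.pullbackComp f g).hom.app L).app P
        (((Scheme.Modules.pullback f).obj ((Scheme.Modules.pullback g).obj L)).presheaf.map (eqToHom e₁).op
          (usec f _ Q (((Scheme.Modules.pullback g).obj L).presheaf.map (eqToHom e₂).op (usec g L O x)))) =
      ((Scheme.Modules.pullback (f ≫ g)).obj L).presheaf.map
        (eqToHom (show P = (f ≫ g) ⁻¹ᵁ O by subst e₂ e₁; rfl)).op (usec (f ≫ g) L O x) := by
  subst e₂ e₁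
  simp only [eqToHom_refl, op_id, CategoryTheory.Functor.map_id, ConcreteCategory.id_apply]
  exact (usec_comp f g L O x).trans (ConcreteCategory.congr_hom
    (((Scheme.Modules.pullback (f ≫ g)).obj L).presheaf.map_id _) _).symm

theorem main (f : X ⟶ Y) (g : Y ⟶ Z) (ξ : X ⟶ U) (η : Y ⟶ V) (ζ : Z ⟶ W) (φ : U ⟶ V) (ψ : V ⟶ W)
    (h₁ : f ≫ η = ξ ≫ φ) (h₂ : g ≫ ζ = η ≫ ψ) (hw : (f ≫ g) ≫ ζ = ξ ≫ (φ ≫ ψ)) (L : Z.Modules) :
    (Scheme.Modules.pullbackComp φ ψ).hom.app ((Scheme.Modules.pushforward ζ).obj L) ≫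
        beta (f ≫ g) ξ ζ (φ ≫ ψ) hw L =
      (Scheme.Modules.pullback φ).map (beta g η ζ ψ h₂ L) ≫
        beta f ξ η φ h₁ ((Scheme.Modules.pullback g).obj L) ≫
        (Scheme.Modules.pushforward ξ).map ((Scheme.Modules.pullbackComp f g).hom.app L) := by
  refine hom_ext₂ φ ψ _ _ fun O x => ?_
  simp only [Scheme.Modules.Hom.comp_app, ConcreteCategory.comp_apply]
  have a := usec_comp φ ψ ((Scheme.Modules.pushforward ζ).obj L) O x
  have b := usec_naturality φ (beta g η ζ ψ h₂ L) (ψ ⁻¹ᵁ O) (usec ψ _ O x)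
  have c := beta_usec g η ζ ψ h₂ L O x
  erw [a, b, c]
  refine (beta_usec (f ≫ g) ξ ζ (φ ≫ ψ) hw L O x).trans ?_
  refine Eq.symm ?_
  refine (congrArg (fun z => ((Scheme.Modules.pushforward ξ).map ((Scheme.Modules.pullbackComp f g).hom.app L)).app
    (φ ⁻¹ᵁ (ψ ⁻¹ᵁ O)) z) (beta_usec f ξ η φ h₁ _ (ψ ⁻¹ᵁ O) _)).trans ?_
  exact final f g L x (ξ ⁻¹ᵁ (φ ⁻¹ᵁ (ψ ⁻¹ᵁ O))) (η ⁻¹ᵁ (ψ ⁻¹ᵁ O)) _ _

end Aux


open AlgebraicGeometry CategoryTheory Scheme.Modules in
/-- Take two commutative squares of schemes side by side, f : X → Y over φ : U → V (vertical maps ξ : X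
→ U and η : Y → V, f ≫ η = ξ ≫ φ) and g : Y → Z over ψ : V → W (vertical map ζ : Z → W, g ≫ ζ = η ≫
ψ), and an O_Z-module L. For a commutative square the base change map β_{f,φ}(M) : φ^* η_* M → ξ_*
f^* M is the adjoint of η_*(unit) : η_* M → η_* f_* f^* M = φ_* ξ_* f^* M, and α denotes the
composition isomorphisms of module pullbacks. Then the composite of α_{φ,ψ}(ζ_* L) : φ^* ψ^* ζ_* L →
(φ ≫ ψ)^* ζ_* L with β_{f ≫ g, φ ≫ ψ}(L) equals the composite of φ^* β_{g,ψ}(L), β_{f,φ}(g^* L) and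
ξ_* α_{f,g}(L), as maps φ^* ψ^* ζ_* L → ξ_* (f ≫ g)^* L. No cartesian or finiteness hypothesis is
made; the outer square is used through any proof hw of its commutativity. -/
theorem result {X Y Z U V W : Scheme.{u}} (f : X ⟶ Y) (g : Y ⟶ Z)
    (ξ : X ⟶ U) (η : Y ⟶ V) (ζ : Z ⟶ W) (φ : U ⟶ V) (ψ : V ⟶ W)
    (h₁ : f ≫ η = ξ ≫ φ) (h₂ : g ≫ ζ = η ≫ ψ) (hw : (f ≫ g) ≫ ζ = ξ ≫ (φ ≫ ψ)) (L : Z.Modules) :
    (pullbackComp φ ψ).hom.app ((pushforward ζ).obj L) ≫
        (((pullbackPushforwardAdjunction (φ ≫ ψ)).homEquiv ((pushforward ζ).obj L)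
            ((pushforward ξ).obj ((pullback (f ≫ g)).obj L))).symm
          ((pushforward ζ).map ((pullbackPushforwardAdjunction (f ≫ g)).unit.app L) ≫
            (pushforwardComp (f ≫ g) ζ).hom.app ((pullback (f ≫ g)).obj L) ≫
            (pushforwardCongr hw).hom.app ((pullback (f ≫ g)).obj L) ≫
            (pushforwardComp ξ (φ ≫ ψ)).inv.app ((pullback (f ≫ g)).obj L))) =
      (pullback φ).map (((pullbackPushforwardAdjunction ψ).homEquiv ((pushforward ζ).obj L)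
            ((pushforward η).obj ((pullback g).obj L))).symm
          ((pushforward ζ).map ((pullbackPushforwardAdjunction g).unit.app L) ≫
            (pushforwardComp g ζ).hom.app ((pullback g).obj L) ≫
            (pushforwardCongr h₂).hom.app ((pullback g).obj L) ≫
            (pushforwardComp η ψ).inv.app ((pullback g).obj L))) ≫
        (((pullbackPushforwardAdjunction φ).homEquiv ((pushforward η).obj ((pullback g).obj L))
            ((pushforward ξ).obj ((pullback f).obj ((pullback g).obj L)))).symm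
          ((pushforward η).map ((pullbackPushforwardAdjunction f).unit.app ((pullback g).obj L)) ≫
            (pushforwardComp f η).hom.app ((pullback f).obj ((pullback g).obj L)) ≫
            (pushforwardCongr h₁).hom.app ((pullback f).obj ((pullback g).obj L)) ≫
            (pushforwardComp ξ φ).inv.app ((pullback f).obj ((pullback g).obj L)))) ≫
        (pushforward ξ).map ((pullbackComp f g).hom.app L) := by

    have := Aux.main f g ξ η ζ φ ψ h₁ h₂ hw L
    unfold Aux.beta at this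
    exact this

end Groth.Agent.S14448
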