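import Groth.Statements.S14452
import Groth.Agent.BigSiteLib.GlueTwo
-- import your own Groth.Agent.* helpers here

set_option autoImplicit false
universe u
open CategoryTheory CategoryTheory.Limits AlgebraicGeometry Opposite
open EtCore

namespace Groth.Agent.S14452

/-- Let X be a scheme and F an abelian sheaf on the small étale site of X such that H^q(W, F|_W) = 0 for
every étale X-scheme W and every q > 0 (F|_W the pullback of F along the structure morphism of W).
Then for every morphism g : V ⟶ U of étale X-schemes which is an open immersion, the restriction map
F(U) → F(V) is surjective. -/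
theorem result {X : Scheme.{u}}
    (F : EtCoh.Ab X)
    (hF : ∀ (W : X.Etale) (q : ℕ), 0 < q → Subsingleton (EtCoh.H W.left ((EtCoh.pull W.hom).obj F) q))
    {U V : X.Etale} (g : V ⟶ U) [IsOpenImmersion g.left] :
    Function.Surjective (F.obj.map g.op).hom := by
  exact Groth.Agent.BigSiteLib.map_surjective_of_acyclic F hF g

end Groth.Agent.S14452
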