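import Groth.Statements.S14454
import Groth.Agent.EtFound.Excision
-- import your own Groth.Agent.* helpers here

set_option autoImplicit false
universe u
open CategoryTheory CategoryTheory.Limits AlgebraicGeometry
open EtDual

namespace Groth.Agent.S14454

/-- Let X be a scheme, j : U ⟶ X an open immersion with closed complement Z, f : X' ⟶ X an étale
morphism and j' : U' ⟶ X' an open immersion with image f⁻¹(U), such that f maps Z' = X' − U'
bijectively onto Z with trivial residue field extensions at the points of Z' (f restricts to an
isomorphism from (f⁻¹Z)_red onto Z_red). Then for every abelian sheaf F on the small étale site of X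
and every r, the groups H^r_Z(X, F) and H^r_{Z'}(X', f⁻¹F) are isomorphic; existence of an
isomorphism only, the canonical one being restriction along f. No Noetherian hypothesis on X is
made. -/
theorem result {X X' U U' : Scheme.{u}}
    (f : X' ⟶ X) [AlgebraicGeometry.Etale f] (j : U ⟶ X) [IsOpenImmersion j]
    (j' : U' ⟶ X') [IsOpenImmersion j']
    (hU' : Set.range j'.base = f.base ⁻¹' Set.range j.base)
    (hZ : Set.BijOn f.base (Set.range j'.base)ᶜ (Set.range j.base)ᶜ)
    (hκ : ∀ x' : ↥X', x' ∉ Set.range j'.base → Function.Surjective (f.residueFieldMap x'))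
    (F : EtCoh.Ab X) (r : ℕ) :
    Nonempty ((EtDual.HY j r).obj F ≅ (EtDual.HY j' r).obj ((EtCoh.pull f).obj F)) := by
  obtain ⟨e⟩ := EtFound.nonempty_gammaSupp_iso f j j' hU' hZ hκ
  haveI := EtFound.pull_preservesFiniteLimits f
  haveI : (EtCoh.pull f).PreservesInjectiveObjects := ⟨fun {I} hI => by
    haveI := EtFound.jCont f
    haveI := EtFound.preservesMono_extZero_etale f
    exact Injective.injective_of_adjoint ((EtShriek.extZeroAdj f).ofNatIsoRight (EtFound.restrPullIso f)) I⟩
  exact ⟨(SiteBase.rightDerivedCongr e r).app F ≪≫
    (SiteBase.rightDerivedPrecompIso (EtCoh.pull f) (EtDual.gammaSupp j') r).app F⟩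

end Groth.Agent.S14454
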