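import Groth.Statements.S14455
import Groth.Agent.ZetaLib.BaseChange
import Mathlib.FieldTheory.Finite.Extension

set_option autoImplicit false
universe u
open CategoryTheory AlgebraicGeometry
open Zeta

namespace Groth.Agent.S14455

open Groth.Agent

/-- For a scheme X of finite type over a finite field k with q elements, the zeta function of the affine
line over X (a k-scheme through X) is obtained from that of X by the substitution t ↦ qt, that is
Z(𝔸¹_X, t) = Z(X, qt) in ℚ⟦t⟧. (The published statement is the equality ζ(𝔸¹_X, s) = ζ(X, s − 1) of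
zeta functions in the variable s; under the substitution t = q^(−s), which turns ζ(Y, s) into Z(Y,
t) for every Y of finite type over k, it is the identity stated here.) -/
theorem result {k : Type u} [Field k] [Finite k] {X : Scheme.{u}}
    (f : X ⟶ Spec (CommRingCat.of k)) [LocallyOfFiniteType f] [QuasiCompact f] :
    Zeta.zetaFun ((𝔸(PUnit.{u + 1}; X) ↘ X) ≫ f) =
      PowerSeries.rescale (Nat.card k : ℚ) (Zeta.zetaFun f) := by

  classical
  set f' := (𝔸(PUnit.{u + 1}; X) ↘ X) ≫ f with hf'
  haveI : LocallyOfFiniteType f' := by rw [hf']; infer_instance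
  haveI : QuasiCompact f' := by rw [hf']; infer_instance
  have hN : ∀ m : ℕ, Zeta.nPts f' m = Nat.card k ^ m * Zeta.nPts f m := by
    intro m
    rcases Nat.eq_zero_or_pos m with rfl | hm
    · simp [Zeta.nPts]
    obtain ⟨p, hp⟩ := CharP.exists k
    haveI : Fact p.Prime := ⟨CharP.char_is_prime k p⟩
    haveI : NeZero m := ⟨hm.ne'⟩
    let L := ULift.{u} (FiniteField.Extension k p m)
    have hfr : Module.finrank k L = m :=
      ULift.moduleEquiv.finrank_eq.trans (FiniteField.finrank_extension k p m)
    haveI : Module.Finite k L := Module.finite_of_finrank_pos (by rw [hfr]; exact hm)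
    rw [← hfr, ← Groth.Agent.ZetaLib.pointCount_eq_nPts f' L, ← Groth.Agent.ZetaLib.pointCount_eq_nPts f L,
      ← Module.natCard_eq_pow_finrank (K := k) (V := L), SgaExt.pointCount, SgaExt.pointCount, mul_comm, ← Nat.card_prod]
    refine Nat.card_congr (Equiv.trans
      { toFun := fun g => (⟨g.1 ≫ (𝔸(PUnit.{u + 1}; X) ↘ X), by rw [Category.assoc, ← hf']; exact g.2⟩,
          g.1.appTop (AffineSpace.coord X PUnit.unit))
        invFun := fun q => ⟨AffineSpace.homOfVector q.1.1 (fun _ => q.2), by
          rw [hf', AffineSpace.homOfVector_over_assoc]; exact q.1.2⟩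
        left_inv := fun g => Subtype.ext (AffineSpace.hom_ext (AffineSpace.homOfVector_over _ _)
          (fun i => AffineSpace.homOfVector_appTop_coord _ _ i))
        right_inv := fun q => Prod.ext (Subtype.ext (AffineSpace.homOfVector_over _ _))
          (AffineSpace.homOfVector_appTop_coord _ _ _) }
      (Equiv.prodCongrRight fun _ => (Scheme.ΓSpecIso (CommRingCat.of L)).commRingCatIsoToRingEquiv.toEquiv))
  have hlog : Zeta.logZeta f' = PowerSeries.rescale (Nat.card k : ℚ) (Zeta.logZeta f) := by
    ext m
    simp only [Zeta.logZeta, PowerSeries.coeff_rescale, PowerSeries.coeff_mk, hN, Nat.cast_mul, Nat.cast_pow]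
    ring
  have h0 : PowerSeries.HasSubst (Zeta.logZeta f) :=
    PowerSeries.HasSubst.of_constantCoeff_zero' (by simp [Zeta.logZeta, ← PowerSeries.coeff_zero_eq_constantCoeff_apply])
  rw [Zeta.zetaFun, Zeta.zetaFun, hlog, PowerSeries.rescale_eq_subst, PowerSeries.rescale_eq_subst,
    PowerSeries.subst_comp_subst_apply h0 (PowerSeries.HasSubst.smul_X' _)]

end Groth.Agent.S14455
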