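import Groth.Statements.S14457
import Groth.Agent.AzumayaX.SepElement
import Mathlib.Algebra.DualNumber
import Mathlib.FieldTheory.IsAlgClosed.AlgebraicClosure

set_option autoImplicit false
universe u
open CAlg

namespace Groth.Agent.S14457
open Polynomial

theorem isUnit_of_unramified (A : Type u) [CommRing A] (a : A) (n : ℕ) (hn : 2 ≤ n)
    [Algebra.FormallyUnramified A (AdjoinRoot ((X : A[X]) ^ n - C a))] : IsUnit ((n : A) * a) := by
  classical
  by_contra hu
  obtain ⟨m, hmax, hnm⟩ := exists_max_ideal_of_mem_nonunits hu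
  letI := Ideal.Quotient.field m
  let k := AlgebraicClosure (A ⧸ m)
  obtain ⟨α, hα⟩ := IsAlgClosed.exists_pow_nat_eq (k := k) (algebraMap A k a) (show 0 < n by omega)
  have hzero : (n : k) * α ^ (n - 1) = 0 := by
    have h1 : (n : k) * algebraMap A k a = 0 := by
      rw [← map_natCast (algebraMap A k), ← map_mul, IsScalarTower.algebraMap_apply A (A ⧸ m) k,
        Ideal.Quotient.algebraMap_eq, Ideal.Quotient.eq_zero_iff_mem.2 hnm, map_zero]
    rcases mul_eq_zero.1 h1 with h | h
    · rw [h, zero_mul]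
    · rw [h, pow_eq_zero_iff (by omega)] at hα
      rw [hα, zero_pow (by omega), mul_zero]
  let ι := TrivSqZeroExt k k
  have hpow : (TrivSqZeroExt.inl α + TrivSqZeroExt.inr (1 : k) : ι) ^ n = algebraMap A ι a := by
    refine TrivSqZeroExt.ext ?_ ?_
    · simp [ι, hα, TrivSqZeroExt.algebraMap_eq_inl']
    · rw [TrivSqZeroExt.snd_pow]
      simp [ι, TrivSqZeroExt.algebraMap_eq_inl', nsmul_eq_mul, hzero, Nat.pred_eq_sub_one]
  have hinl : (TrivSqZeroExt.inl α : ι) ^ n = algebraMap A ι a := by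
    refine TrivSqZeroExt.ext ?_ ?_
    · simp [ι, hα, TrivSqZeroExt.algebraMap_eq_inl']
    · simp [ι, TrivSqZeroExt.snd_pow, TrivSqZeroExt.algebraMap_eq_inl']
  let f₁ : AdjoinRoot ((X : A[X]) ^ n - C a) →ₐ[A] ι :=
    AdjoinRoot.liftAlgHom _ (Algebra.ofId A ι) (TrivSqZeroExt.inl α + TrivSqZeroExt.inr (1 : k))
      (by simp [hpow, Algebra.ofId])
  let f₂ : AdjoinRoot ((X : A[X]) ^ n - C a) →ₐ[A] ι :=
    AdjoinRoot.liftAlgHom _ (Algebra.ofId A ι) (TrivSqZeroExt.inl α) (by simp [hinl, Algebra.ofId])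
  have hI : IsNilpotent (RingHom.ker (TrivSqZeroExt.fstHom k k k)) := by
    refine ⟨2, ?_⟩
    have h2 : RingHom.ker (TrivSqZeroExt.fstHom k k k) * RingHom.ker (TrivSqZeroExt.fstHom k k k) =
        (⊥ : Ideal ι) := by
      rw [← le_bot_iff, Ideal.mul_le]
      intro x hx y hy
      rw [RingHom.mem_ker, TrivSqZeroExt.fstHom_apply] at hx hy
      rw [Ideal.mem_bot]
      refine TrivSqZeroExt.ext ?_ ?_ <;> simp [hx, hy]
    exact (sq (RingHom.ker (TrivSqZeroExt.fstHom k k k) : Ideal ι)).trans h2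
  have h12 : f₁ = f₂ := Algebra.FormallyUnramified.ext (R := A) _ hI fun x => by
    have hx : ((TrivSqZeroExt.fstHom k k k).restrictScalars A).comp f₁ =
        ((TrivSqZeroExt.fstHom k k k).restrictScalars A).comp f₂ := AdjoinRoot.algHom_ext (by simp [f₁, f₂, ι])
    rw [Ideal.Quotient.eq, RingHom.mem_ker, map_sub, sub_eq_zero]
    exact DFunLike.congr_fun hx x
  have h := congrArg (fun f : AdjoinRoot ((X : A[X]) ^ n - C a) →ₐ[A] ι => (f (AdjoinRoot.root _)).snd) h12
  simp [f₁, f₂, ι] at h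
  exact one_ne_zero h

open Polynomial in
/-- Let A be a commutative ring, a an element of A and n ≥ 1 an integer. The A-algebra A[T]/(T^n − a) is
etale exactly when either n = 1 or the product n·a is a unit of A. (The exponent n is a positive
integer here; for n = 0 the quotient is (A/(1 − a))[T] and the equivalence fails.) -/
theorem result (A : Type u) [CommRing A] (a : A) (n : ℕ) (hn : 1 ≤ n) :
    Algebra.Etale A (AdjoinRoot ((X : A[X]) ^ n - C a)) ↔ n = 1 ∨ IsUnit ((n : A) * a) := by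
  constructor
  · intro he
    rcases eq_or_lt_of_le hn with h | h
    · exact Or.inl h.symm
    · exact Or.inr (isUnit_of_unramified A a n h)
  · intro h
    have hm : ((X : A[X]) ^ n - C a).Monic := monic_X_pow_sub_C a (by omega)
    obtain ⟨j, rfl⟩ : ∃ j, n = j + 1 := ⟨n - 1, by omega⟩
    rcases h with h | hu
    · obtain rfl : j = 0 := by omega
      exact Groth.Agent.AzumayaX.etale_adjoinRoot hm ⟨0, 1, by simp⟩
    · obtain ⟨w, hw⟩ := isUnit_iff_exists_inv.1 hu
      refine Groth.Agent.AzumayaX.etale_adjoinRoot hm ⟨- (C w * C ((j + 1 : ℕ) : A)), C w * X, ?_⟩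
      have h1 : C w * C ((j + 1 : ℕ) : A) * C a = 1 := by
        rw [← C_mul, ← C_mul, mul_assoc, mul_comm w, hw, C_1]
      simp only [derivative_sub, derivative_X_pow, derivative_C, sub_zero, Nat.add_sub_cancel]
      linear_combination h1

end Groth.Agent.S14457
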