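import Groth.Statements.S14458
import Mathlib.RingTheory.Artinian.Ring
import Mathlib.RingTheory.LocalRing.ResidueField.Basic
import Mathlib.RingTheory.TensorProduct.Quotient
import Mathlib.RingTheory.HopkinsLevitzki

set_option autoImplicit false
universe u
open CAlg

namespace Groth.Agent.S14458
open TensorProduct

open TensorProduct in
/-- Let R be an Artinian local ring with residue field k and M an R-module, not necessarily finitely
generated. If M ⊗_R k = 0 then M = 0. -/
theorem result {R : Type u} [CommRing R]
    [IsArtinianRing R] [IsLocalRing R] (M : Type u) [AddCommGroup M] [Module R M]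
    (h : Subsingleton ((IsLocalRing.ResidueField R) ⊗[R] M)) : Subsingleton M := by
  haveI : Subsingleton ((R ⧸ IsLocalRing.maximalIdeal R) ⊗[R] M) := h
  haveI : Subsingleton (M ⧸ (IsLocalRing.maximalIdeal R • ⊤ : Submodule R M)) :=
    (TensorProduct.quotTensorEquivQuotSMul M (IsLocalRing.maximalIdeal R)).symm.toEquiv.subsingleton
  have htop : (IsLocalRing.maximalIdeal R • ⊤ : Submodule R M) = ⊤ := Submodule.Quotient.subsingleton_iff.1 inferInstance
  have hpow : ∀ n, (IsLocalRing.maximalIdeal R ^ n • ⊤ : Submodule R M) = ⊤ := by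
    intro n
    induction n with
    | zero => simp
    | succ n ih => rw [pow_succ, Submodule.mul_smul, htop, ih]
  obtain ⟨n, hn⟩ := (isArtinianRing_iff_isNilpotent_maximalIdeal R).1 inferInstance
  have := hpow n
  rw [hn, Submodule.zero_eq_bot, Submodule.bot_smul] at this
  refine ⟨fun a b => ?_⟩
  have ha : a ∈ (⊥ : Submodule R M) := this ▸ Submodule.mem_top
  have hb : b ∈ (⊥ : Submodule R M) := this ▸ Submodule.mem_top
  rw [(Submodule.mem_bot R).1 ha, (Submodule.mem_bot R).1 hb]

end Groth.Agent.S14458
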