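import Groth.Statements.S14459
import Groth.Agent.ZetaLib.ZetaProduct

set_option autoImplicit false
open Groth.Agent.ZetaLib
universe u
open CategoryTheory AlgebraicGeometry
open Zeta

namespace Groth.Agent.S14459

/-- Let X be a scheme of finite type over a finite field k and (Y_i) a family of subschemes of X (closed
subschemes of open subschemes, given as immersions Y_i → X) whose closed points partition the closed
points of X: every closed point of X is in the image of exactly one Y_i. Then the zeta function of X
is the product of the zeta functions of the Y_i, viewed over k through X. (The published statement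
is for a scheme of finite type over ℤ, an arbitrary family, and the zeta functions ζ(·, s) as Euler
products; this row is the case of a scheme over a finite field and a finite family, written for Z(·,
t), t = q^(−s).) -/
theorem result {k : Type u} [Field k] [Finite k] {X : Scheme.{u}}
    (f : X ⟶ Spec (CommRingCat.of k)) [LocallyOfFiniteType f] [QuasiCompact f]
    {ι : Type u} [Fintype ι] (Y : ι → Scheme.{u}) (g : ∀ i, Y i ⟶ X) [∀ i, IsImmersion (g i)]
    (hpart : ∀ x : X, IsClosed ({x} : Set X) → ∃! i, x ∈ Set.range (g i).base) :
    Zeta.zetaFun f = ∏ i, Zeta.zetaFun (g i ≫ f) := by
  exact zetaFun_eq_prod f Y g hpart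

end Groth.Agent.S14459
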