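import Groth.Statements.S1446
import Groth.Agent.RelAssGen.Scheme

set_option autoImplicit false
universe u
open FlatMor

namespace Groth.Agent.S1446

open AlgebraicGeometry CategoryTheory Limits in
/-- Let f : X → S be locally of finite type, F a quasi-coherent O_X-module of finite type, and ξ a point
of the relative assassin of F with closure Z. Then there is a nonempty subset V of Z, open in Z,
such that for every point x of V, if x is a generic point of an irreducible component of the fibre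
of V through x then x lies in the relative assassin of F. -/
theorem result {X S : Scheme.{u}} (f : X ⟶ S) [LocallyOfFiniteType f]
    (F : X.Modules) (hF : Coh.IsCoh F) (ξ : X) (hξ : ξ ∈ MoreMor.relAss f F) :
    ∃ V : Set ↑X, V ⊆ closure {ξ} ∧ IsOpen (Subtype.val ⁻¹' V : Set ↑(closure ({ξ} : Set ↑X))) ∧ V.Nonempty ∧
      ∀ (x : X) (hx : x ∈ V), (∃ C ∈ irreducibleComponents ↑(V ∩ f ⁻¹' {f x}), IsGenericPoint (⟨x, hx, rfl⟩ : ↑(V ∩ f ⁻¹' {f x})) C) →
        x ∈ MoreMor.relAss f F := by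
  obtain ⟨D, W, hξD, -, hass, -⟩ := Groth.Agent.RelAssGen.exists_nhd f F hF ξ hξ
  refine ⟨closure {ξ} ∩ (D : Set X), Set.inter_subset_left, ?_, ⟨ξ, subset_closure rfl, hξD⟩, ?_⟩
  · have e : (Subtype.val ⁻¹' (closure {ξ} ∩ (D : Set X)) : Set ↑(closure ({ξ} : Set X))) = Subtype.val ⁻¹' (D : Set X) :=
      Set.ext fun z => ⟨fun h => h.2, fun h => ⟨z.2, h⟩⟩
    exact e ▸ D.2.preimage continuous_subtype_val
  rintro x hx ⟨C, hC, hg⟩
  refine hass x hx.1 hx.2 fun x' hc hD hs hf => ?_
  let z : ↥((closure ({ξ} : Set X) ∩ (D : Set X)) ∩ f ⁻¹' {f x}) := ⟨x, hx, rfl⟩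
  let z' : ↥((closure ({ξ} : Set X) ∩ (D : Set X)) ∩ f ⁻¹' {f x}) := ⟨x', ⟨hc, hD⟩, hf⟩
  have h : z' ⤳ z := (subtype_specializes_iff _ _).2 hs
  have h1 : closure {z'} = C := le_antisymm
    (hC.2 isIrreducible_singleton.closure ((hg.def ▸ h.closure_subset :))) (hg.def ▸ h.closure_subset)
  exact congrArg Subtype.val (IsGenericPoint.eq (show IsGenericPoint z' C from h1) hg)

end Groth.Agent.S1446
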