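import Groth.Statements.S14460
import Groth.Agent.Pi1X.FEtGalois
import Mathlib.AlgebraicGeometry.Limits

set_option autoImplicit false
universe u
open CategoryTheory CategoryTheory.Limits AlgebraicGeometry
open Pi1

namespace Groth.Agent.S14460

/-- Let Y → X be finite étale with Y nonempty and all geometric fibres of the same cardinality n, and
let a finite group G act on Y over X without fixed points (no point of Y with values in a field is
fixed by a non-identity element). Then G has at most n elements, and it has exactly n elements if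
and only if the morphism from the disjoint union of copies of Y indexed by G to Y ×_X Y, given on
the copy indexed by g by the identity and g, is an isomorphism. (For Y empty the bound fails, since
every finite group acts without fixed points on the empty cover, whose fibres have cardinality 0;
this row assumes Y nonempty.) -/
theorem result {X : Scheme.{u}} (Y : FEt.Cat X)
    [Nonempty ↥Y.left] (n : ℕ)
    (hn : ∀ (Ω : Type u) [Field Ω] [IsSepClosed Ω] (ξ : Spec (CommRingCat.of Ω) ⟶ X), Nat.card (FEt.fiberObj ξ Y) = n)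
    (G : Type u) [Group G] [Finite G] (ρ : G →* Aut Y)
    (hfree : ∀ g : G, g ≠ 1 → ∀ (K : Type u) [Field K] (y : Spec (CommRingCat.of K) ⟶ Y.left),
      y ≫ (ρ g).hom.left ≠ y) :
    Nat.card G ≤ n ∧
      (Nat.card G = n ↔ IsIso (Limits.Sigma.desc fun g : G =>
        pullback.lift (𝟙 Y.left) (ρ g).hom.left
          ((Category.id_comp Y.hom).trans (Over.w (ρ g).hom.hom).symm) : (∐ fun _ : G => Y.left) ⟶ pullback Y.hom Y.hom)) := by
  classical
  let r (g : G) : Y.left ⟶ Y.left := (ρ g).hom.left
  have hr (g : G) : r g ≫ Y.hom = Y.hom := Over.w (ρ g).hom.hom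
  have hmul (a b : G) : r (a * b) = r b ≫ r a := by
    show (ρ (a * b)).hom.left = _
    rw [map_mul]
    rfl
  have hone : r 1 = 𝟙 Y.left := by
    show (ρ 1).hom.left = _
    rw [map_one]
    rfl
  have hinj (K : Type u) [Field K] (y : Spec (CommRingCat.of K) ⟶ Y.left) (g h : G)
      (he : y ≫ r g = y ≫ r h) : g = h := by
    by_contra hne
    refine hfree (g⁻¹ * h) (fun h1 => hne (inv_mul_eq_one.1 h1)) K y ?_
    show y ≫ r (g⁻¹ * h) = y
    rw [hmul, ← Category.assoc, ← he, Category.assoc, ← hmul, inv_mul_cancel, hone, Category.comp_id]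
  let ι' (g : G) : Y.left ⟶ Limits.pullback Y.hom Y.hom :=
    Limits.pullback.lift (𝟙 Y.left) (r g) ((Category.id_comp Y.hom).trans (hr g).symm)
  have hι (g : G) : IsOpenImmersion (ι' g) := by
    haveI : IsOpenImmersion (ι' g ≫ Limits.pullback.fst Y.hom Y.hom) := by
      rw [Limits.pullback.lift_fst]
      infer_instance
    haveI : Etale (ι' g ≫ Limits.pullback.fst Y.hom Y.hom) := by
      rw [Limits.pullback.lift_fst]
      infer_instance
    haveI := Y.prop.2
    haveI : Etale (ι' g) := Etale.of_comp (ι' g) (Limits.pullback.fst Y.hom Y.hom)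
    haveI : Mono (ι' g) := mono_of_mono_fac (Limits.pullback.lift_fst _ _ _)
    exact Groth.Agent.Pi1X.isOpenImmersion_of_etale_universallyInjective (ι' g)
  let φ : (∐ fun _ : G => Y.left) ⟶ Limits.pullback Y.hom Y.hom := Limits.Sigma.desc ι'
  have hdisj : Pairwise (Function.onFun Disjoint fun g => Set.range (ι' g)) := by
    intro g h hgh
    rw [Function.onFun, Set.disjoint_left]
    intro p hg hh
    let q := (Limits.pullback Y.hom Y.hom).fromSpecResidueField p
    have hq : ∀ a : G, p ∈ Set.range (ι' a) → ∃ y, y ≫ ι' a = q := fun a ha =>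
      ⟨IsOpenImmersion.lift (ι' a) q (by
        rw [Scheme.range_fromSpecResidueField, Set.singleton_subset_iff]
        exact ha), IsOpenImmersion.lift_fac _ _ _⟩
    obtain ⟨y, hy⟩ := hq g hg
    obtain ⟨z, hz⟩ := hq h hh
    have e1 := congrArg (· ≫ Limits.pullback.fst Y.hom Y.hom) (hy.trans hz.symm)
    have e2 := congrArg (· ≫ Limits.pullback.snd Y.hom Y.hom) (hy.trans hz.symm)
    simp only [ι', Category.assoc, Limits.pullback.lift_fst, Limits.pullback.lift_snd, Category.comp_id] at e1 e2
    subst e1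
    exact hgh (hinj _ y g h e2)
  haveI hφ : IsOpenImmersion φ := isOpenImmersion_sigmaDesc _ ι' hdisj
  let tw (Ω : Type u) [Field Ω] (η : Spec (CommRingCat.of Ω) ⟶ Y.left) :
      G → FEt.fiberObj (η ≫ Y.hom) Y := fun g => ⟨η ≫ r g, by rw [Category.assoc, hr]⟩
  have htw (Ω : Type u) [Field Ω] (η : Spec (CommRingCat.of Ω) ⟶ Y.left) :
      Function.Injective (tw Ω η) := fun g h he => hinj Ω η g h (congrArg Subtype.val he)
  obtain ⟨y₀⟩ := (inferInstance : Nonempty Y.left)
  obtain ⟨Ω₀, _, _, η₀, -⟩ := Groth.Agent.Pi1X.exists_geometric_point y₀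
  haveI hfin (Ω : Type u) [Field Ω] (ξ : Spec (CommRingCat.of Ω) ⟶ X) : Finite (FEt.fiberObj ξ Y) :=
    Groth.Agent.Pi1X.fiber_finite ξ Y
  refine ⟨(hn Ω₀ _).symm ▸ Nat.card_le_card_of_injective _ (htw Ω₀ η₀), fun hG => ?_, fun hiso => ?_⟩
  · change IsIso φ
    haveI : Surjective φ := by
      refine ⟨fun p => ?_⟩
      obtain ⟨Ω, _, _, q, hq⟩ := Groth.Agent.Pi1X.exists_geometric_point p
      let η := q ≫ Limits.pullback.fst Y.hom Y.hom
      have hb : Function.Bijective (tw Ω η) :=
        (Nat.bijective_iff_injective_and_card _).2 ⟨htw Ω η, by rw [hn, hG]⟩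
      obtain ⟨g, hg⟩ := hb.2 ⟨q ≫ Limits.pullback.snd Y.hom Y.hom, by
        rw [Category.assoc, ← Limits.pullback.condition, ← Category.assoc]⟩
      have he : (η ≫ Limits.Sigma.ι (fun _ : G => Y.left) g) ≫ φ = q := by
        rw [Category.assoc, Limits.Sigma.ι_desc]
        refine Limits.pullback.hom_ext ?_ ?_
        · rw [Category.assoc, Limits.pullback.lift_fst]
          exact Category.comp_id _
        · rw [Category.assoc, Limits.pullback.lift_snd]
          exact congrArg Subtype.val hg
      exact ⟨(η ≫ Limits.Sigma.ι (fun _ : G => Y.left) g) (IsLocalRing.closedPoint Ω),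
        by rw [← Scheme.Hom.comp_apply, he]; exact hq⟩
    exact (isIso_iff_isOpenImmersion_and_surjective φ).2 ⟨hφ, inferInstance⟩
  · change IsIso φ at hiso
    have hb : Function.Bijective (tw Ω₀ η₀) := by
      refine ⟨htw Ω₀ η₀, fun s => ?_⟩
      let q := Limits.pullback.lift η₀ s.1 s.2.symm
      obtain ⟨g, y, hy⟩ := (sigmaOpenCover fun _ : G => Y.left).exists_eq
        ((q ≫ inv φ) (IsLocalRing.closedPoint Ω₀))
      have hsub : Set.range (q ≫ inv φ) ⊆ Set.range (Limits.Sigma.ι (fun _ : G => Y.left) g) := by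
        rintro _ ⟨x, rfl⟩
        rw [Groth.Agent.Pi1X.eq_closedPoint x]
        exact ⟨y, hy⟩
      let t := IsOpenImmersion.lift (Limits.Sigma.ι (fun _ : G => Y.left) g) (q ≫ inv φ) hsub
      have ht : t ≫ ι' g = q := by
        have h0 : (t ≫ Limits.Sigma.ι (fun _ : G => Y.left) g) ≫ φ = (q ≫ inv φ) ≫ φ :=
          congrArg (· ≫ φ) (IsOpenImmersion.lift_fac _ _ hsub)
        rwa [Category.assoc, Category.assoc, IsIso.inv_hom_id, Category.comp_id,
          show Limits.Sigma.ι (fun _ : G => Y.left) g ≫ φ = ι' g from Limits.Sigma.ι_desc _ _] at h0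
      have e1 := congrArg (· ≫ Limits.pullback.fst Y.hom Y.hom) ht
      have e2 := congrArg (· ≫ Limits.pullback.snd Y.hom Y.hom) ht
      simp only [ι', q, Category.assoc, Limits.pullback.lift_fst, Limits.pullback.lift_snd, Category.comp_id] at e1 e2
      rw [show t = η₀ from (Category.comp_id t).symm.trans e1] at e2
      exact ⟨g, Subtype.ext e2⟩
    rw [Nat.card_congr (Equiv.ofBijective _ hb), hn]

end Groth.Agent.S14460
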