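import Groth.Statements.S14461
import Groth.Agent.Pi1X.FEtFull
import Mathlib.Topology.NoetherianSpace

set_option autoImplicit false
universe u
open CategoryTheory CategoryTheory.Limits AlgebraicGeometry
open Pi1

namespace Groth.Agent.S14461

/-- Let X be a Noetherian scheme and X₀ → X a closed immersion such that, for every finite étale Y → X,
the projection Y ×_X X₀ → Y induces a bijection on connected components. Then restriction of finite
étale covers from X to X₀ is full and faithful. -/
theorem result {X X₀ : Scheme.{u}} [IsNoetherian X]
    (i : X₀ ⟶ X) [IsClosedImmersion i]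
    (h : ∀ Y : FEt.Cat X, Function.Bijective (pullback.fst Y.hom i).continuous.connectedComponentsMap) :
    (FEt.restrict i).Full ∧ (FEt.restrict i).Faithful := by
  have hfin : ∀ (T : Type u) [TopologicalSpace T] [TopologicalSpace.NoetherianSpace T], Finite (ConnectedComponents T) := by
    intro T _ _
    haveI : Finite (irreducibleComponents T) := TopologicalSpace.NoetherianSpace.finite_irreducibleComponents.to_subtype
    refine Finite.of_surjective (fun Z : irreducibleComponents T => ConnectedComponents.mk Z.2.1.1.choose) ?_
    rintro ⟨x⟩
    refine ⟨⟨irreducibleComponent x, irreducibleComponent_mem_irreducibleComponents x⟩, ?_⟩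
    refine ConnectedComponents.coe_eq_coe'.2 ?_
    exact (isIrreducible_irreducibleComponent.isPreirreducible.isPreconnected).subset_connectedComponent mem_irreducibleComponent
      (irreducibleComponent_mem_irreducibleComponents x).1.1.choose_spec
  have hS : ∀ C : Set X, IsClopen C → C.Nonempty → (C ∩ Set.range i.base).Nonempty := by
    intro C hC ⟨x, hx⟩
    let Y : FEt.Cat X := MorphismProperty.Over.mk ⊤ (𝟙 X) (MorphismProperty.id_mem _ _)
    obtain ⟨c, hc⟩ := (h Y).2 (ConnectedComponents.mk x)
    obtain ⟨p, rfl⟩ := ConnectedComponents.surjective_coe c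
    rw [Continuous.connectedComponentsMap_mk, ConnectedComponents.coe_eq_coe'] at hc
    refine ⟨_, hC.connectedComponent_subset hx hc, (pullback.snd Y.hom i).base p, ?_⟩
    rw [← Scheme.Hom.comp_apply, ← pullback.condition]
    exact congr($(Category.comp_id (pullback.fst Y.hom i)).base p)
  refine ⟨Groth.Agent.Pi1X.restrict_full i hS fun W C hC => ?_, Groth.Agent.Pi1X.restrict_faithful i hS⟩
  let j := pullback.fst W.hom i
  haveI := W.prop.1
  haveI : IsNoetherian W.left := by
    haveI : IsLocallyNoetherian W.left := LocallyOfFiniteType.isLocallyNoetherian (X := W.left) (Y := X) W.hom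
    haveI : CompactSpace W.left := QuasiCompact.compactSpace_of_compactSpace (X := W.left) (Y := X) W.hom
    exact {}
  haveI := hfin W.left
  haveI : T1Space (ConnectedComponents W.left) := by
    refine ⟨fun z => ?_⟩
    obtain ⟨z, rfl⟩ := ConnectedComponents.surjective_coe z
    rw [← ConnectedComponents.isQuotientMap_coe.isClosed_preimage, connectedComponents_preimage_singleton]
    exact isClosed_connectedComponent
  haveI : DiscreteTopology (ConnectedComponents W.left) := Finite.instDiscreteTopology
  refine ⟨ConnectedComponents.mk ⁻¹' (j.continuous.connectedComponentsMap '' (ConnectedComponents.mk '' C)),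
    (isClopen_discrete _).preimage ConnectedComponents.continuous_coe, ?_⟩
  ext p
  constructor
  · rintro ⟨_, ⟨q, hq, rfl⟩, hpq⟩
    have h1 := (h W).1 (hpq.trans (Continuous.connectedComponentsMap_mk _ p).symm)
    rw [ConnectedComponents.coe_eq_coe] at h1
    exact hC.connectedComponent_subset hq (h1 ▸ mem_connectedComponent)
  · intro hp
    exact ⟨_, ⟨p, hp, rfl⟩, Continuous.connectedComponentsMap_mk _ p⟩

end Groth.Agent.S14461
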