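import Groth.Statements.S14462
import Groth.Agent.TraceEtale.Basic

set_option autoImplicit false
set_option backward.isDefEq.respectTransparency.types false
universe u
open CategoryTheory AlgebraicGeometry
open Unram

namespace Groth.Agent.S14462

open scoped TensorProduct
attribute [local instance] Algebra.TensorProduct.rightAlgebra

theorem etale_of_codim_one (A B : Type u) [CommRing A] [IsNoetherianRing A] [CommRing B] [Algebra A B]
    [Module.Finite A B] [Module.Flat A B]
    (H : ∀ (K : Type u) [Field K] [Algebra A K], (RingHom.ker (algebraMap A K)).height ≤ 1 →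
      Algebra.Etale K (K ⊗[A] B)) : Algebra.Etale A B := by
  classical
  haveI : Algebra.FinitePresentation A B := Algebra.FinitePresentation.of_finiteType.1 inferInstance
  haveI : Module.Finite A Ω[B⁄A] := Module.Finite.trans B _
  suffices Algebra.FormallyUnramified A B from Algebra.Etale.of_formallyUnramified_of_flat
  refine ⟨?_⟩
  refine Module.subsingleton_of_localization_maximal (fun q _ => Localization.AtPrime q ⊗[A] Ω[B⁄A])
    (fun q _ => TensorProduct.mk A _ _ 1) ?_
  intro q _
  let Aq := Localization.AtPrime q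
  haveI : Module.Free Aq (Aq ⊗[A] B) := Module.free_of_flat_of_isLocalRing
  suffices he : Algebra.Etale Aq (Aq ⊗[A] B) from
    (KaehlerDifferential.tensorKaehlerEquivBase A Aq B (Aq ⊗[A] B)).toEquiv.subsingleton
  rw [TraceEtale.etale_iff_bijective_traceForm,
    TraceEtale.bijective_traceForm_iff (Module.Free.chooseBasis Aq (Aq ⊗[A] B))]
  by_contra hd
  let b := Module.Free.chooseBasis Aq (Aq ⊗[A] B)
  obtain ⟨P, hP, -⟩ := Ideal.exists_minimalPrimes_le
    (IsLocalRing.le_maximalIdeal (Ideal.span_singleton_ne_top hd))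
  haveI := hP.1.1
  have hP1 : P.height ≤ 1 := Ideal.height_le_one_of_isPrincipal_of_mem_minimalPrimes _ P hP
  let K := P.ResidueField
  have hker : RingHom.ker (algebraMap A K) = P.under A := by
    rw [IsScalarTower.algebraMap_eq A Aq K, ← RingHom.comap_ker, Ideal.ker_algebraMap_residueField]
  haveI h1 : Algebra.Etale K (K ⊗[A] B) := H K (by
    rw [hker, IsLocalization.height_under q.primeCompl]
    exact hP1)
  have h2 : Algebra.Etale K (K ⊗[Aq] (Aq ⊗[A] B)) :=
    Algebra.Etale.of_equiv (Algebra.TensorProduct.cancelBaseChange A Aq K K B).symm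
  rw [TraceEtale.etale_iff_bijective_traceForm, TraceEtale.bijective_traceForm_iff (b.baseChange K),
    TraceEtale.discr_baseChange] at h2
  refine h2.ne_zero ?_
  rw [← RingHom.mem_ker, Ideal.ker_algebraMap_residueField]
  exact hP.1.2 (Ideal.mem_span_singleton_self _)

/-- Let f : X → Y be finite and flat with Y locally Noetherian, and let U ⊆ Y be open with every point
of the complement having a local ring of Krull dimension at least 2. If f is étale over U, then f is
étale. -/
theorem result {X Y : Scheme.{u}} [IsLocallyNoetherian Y]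
    (f : X ⟶ Y) [IsFinite f] [Flat f] (U : Y.Opens)
    (hU : ∀ y : Y, y ∉ U → (2 : WithBot ℕ∞) ≤ ringKrullDim (Y.presheaf.stalk y))
    [Etale (f ∣_ U)] : Etale f := by
  rw [IsZariskiLocalAtTarget.iff_of_iSup_eq_top (P := @Etale) (fun W : Y.affineOpens => W.1)
    (iSup_affineOpens_eq_top Y)]
  intro W
  have hV : IsAffineOpen (f ⁻¹ᵁ W.1) := W.2.preimage f
  haveI : IsAffine W.1.toScheme := W.2
  haveI : IsAffine (f ⁻¹ᵁ W.1).toScheme := hV
  rw [← Scheme.Hom.resLE_eq_morphismRestrict, HasRingHomProperty.iff_of_isAffine (P := @Etale)]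
  refine (RingHom.Etale.respectsIso.arrow_mk_iso_iff (arrowResLEAppIso f W.1 (f ⁻¹ᵁ W.1) le_rfl)).mpr ?_
  haveI : IsNoetherianRing Γ(Y, W.1) := IsLocallyNoetherian.component_noetherian W
  have hfin : (f.appLE W.1 (f ⁻¹ᵁ W.1) le_rfl).hom.Finite := by
    rw [f.appLE_eq_app]
    exact f.finite_app W.1 W.2
  have hflat := f.flat_appLE W.2 hV le_rfl
  algebraize [(f.appLE W.1 (f ⁻¹ᵁ W.1) le_rfl).hom]
  haveI : Module.Finite Γ(Y, W.1) Γ(X, f ⁻¹ᵁ W.1) := hfin
  show Algebra.Etale Γ(Y, W.1) Γ(X, f ⁻¹ᵁ W.1)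
  refine etale_of_codim_one _ _ fun K _ _ hK => ?_
  let A : CommRingCat := Γ(Y, W.1)
  let a : A ⟶ CommRingCat.of K := CommRingCat.ofHom (algebraMap A K)
  let g : Spec (CommRingCat.of K) ⟶ Y := Spec.map a ≫ W.2.fromSpec
  let pk : ↥(Spec A) := (Spec.map a) (IsLocalRing.closedPoint K)
  have hy : g (IsLocalRing.closedPoint K) ∈ U := by
    by_contra hy
    have hyW : W.2.fromSpec pk ∈ W.1 := by
      have : W.2.fromSpec pk ∈ Set.range W.2.fromSpec := ⟨pk, rfl⟩
      rwa [W.2.range_fromSpec] at this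
    have h2 := hU _ hy
    letI := TopCat.Presheaf.algebra_section_stalk Y.presheaf (⟨W.2.fromSpec pk, hyW⟩ : W.1)
    haveI : IsLocalization.AtPrime (Y.presheaf.stalk (W.2.fromSpec pk)) pk.asIdeal :=
      W.2.isLocalization_stalk' pk hyW
    have h3 := IsLocalization.AtPrime.ringKrullDim_eq_height pk.asIdeal (Y.presheaf.stalk (W.2.fromSpec pk))
    have h4 : pk.asIdeal.height ≤ 1 := by
      have : pk.asIdeal = RingHom.ker (algebraMap A K) := by
        show Ideal.comap (algebraMap A K) (IsLocalRing.closedPoint K).asIdeal = _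
        rw [show (IsLocalRing.closedPoint K).asIdeal = (⊥ : Ideal K) from IsLocalRing.maximalIdeal_eq_bot]
        rfl
      rw [this]; exact hK
    change (2 : WithBot ℕ∞) ≤ ringKrullDim (Y.presheaf.stalk (W.2.fromSpec pk)) at h2
    rw [h3] at h2
    have h5 : ((2 : ℕ∞) : WithBot ℕ∞) ≤ ((1 : ℕ∞) : WithBot ℕ∞) := h2.trans (WithBot.coe_le_coe.2 h4)
    exact absurd (WithBot.coe_le_coe.1 h5) (by decide)
  have hrange : Set.range g ⊆ Set.range U.ι := by
    rintro _ ⟨z, rfl⟩
    rw [Scheme.Opens.range_ι, Subsingleton.elim z (IsLocalRing.closedPoint K)]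
    exact hy
  let g' := IsOpenImmersion.lift U.ι g hrange
  have hg' : g' ≫ U.ι = g := IsOpenImmersion.lift_fac _ _ _
  have hb : Etale (Limits.pullback.snd f g) := by
    have hp := (IsPullback.of_hasPullback (f ∣_ U) g').flip.paste_vert (isPullback_morphismRestrict f U)
    rw [hg'] at hp
    rw [← hp.flip.isoPullback_inv_snd]
    infer_instance
  have sq : IsPullback hV.fromSpec (Spec.map (f.appLE W.1 (f ⁻¹ᵁ W.1) le_rfl)) f W.2.fromSpec :=
    (IsOpenImmersion.isPullback _ _ _ _ (IsAffineOpen.SpecMap_appLE_fromSpec f W.2 hV le_rfl).symm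
      (by rw [IsAffineOpen.opensRange_fromSpec, IsAffineOpen.opensRange_fromSpec])).flip
  have sq2 := isPullback_SpecMap_of_isPushout _ _ _ _ (CommRingCat.isPushout_tensorProduct A K Γ(X, f ⁻¹ᵁ W.1))
  have sq3 := sq2.flip.paste_horiz sq
  have hsm : Etale (Spec.map (CommRingCat.ofHom (algebraMap K (K ⊗[Γ(Y, W.1)] Γ(X, f ⁻¹ᵁ W.1))))) := by
    have := sq3.isoPullback_hom_snd
    rw [show Spec.map (CommRingCat.ofHom (algebraMap K (K ⊗[Γ(Y, W.1)] Γ(X, f ⁻¹ᵁ W.1)))) =
      sq3.isoPullback.hom ≫ Limits.pullback.snd f g from this.symm]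
    infer_instance
  rw [HasRingHomProperty.Spec_iff (P := @Etale)] at hsm
  exact RingHom.etale_algebraMap.1 hsm

end Groth.Agent.S14462
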