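import Groth.Statements.S14465
import Groth.Agent.BigSiteLib.ClassLe
-- import your own Groth.Agent.* helpers here

set_option autoImplicit false
universe v u
open CategoryTheory CategoryTheory.Limits AlgebraicGeometry
open BigSite

namespace Groth.Agent.S14465

/-- Fix a scheme S and a class C of quasi-compact morphisms of schemes, stable under composition and
base change, closed under finite coproducts, and containing ∐_j V_j → U for every finite affine open
cover (V_j) of an affine scheme U. Assume moreover that for every morphism f : X' → W in C with W
affine and every finite affine open cover (A_l) of X', the induced morphism ∐_l A_l → W lies in C.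
Let J be the Grothendieck topology on S-schemes whose covering sieves are those admitting
affine-local finite C-covering data (an affine open cover (U_i) of X and, for each i, finitely many
affine S-schemes V_j → X in the sieve factoring through U_i with ∐_j V_j → U_i in C). Then a
presheaf of types on S-schemes is a J-sheaf if and only if it is a sheaf for the big Zariski
topology on S-schemes and satisfies the sheaf condition for every single S-morphism X' → X whose
underlying morphism of schemes lies in C. (The published statement does not assume the hypothesis on
finite affine open covers of the source of a C-morphism with affine target; its proof uses that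
hypothesis, through an unproved equivalence between arbitrary and affine covering data, to see that
the sieve generated by a C-morphism is covering. The hypothesis holds for the classes of fpqc
morphisms, of fppf morphisms and of surjective étale quasi-compact morphisms. The published
statement also allows a local property of S-schemes preserved by the class; this row takes no such
property and a class of morphisms of schemes.) -/
theorem result (S : Scheme.{u})
    (C : MorphismProperty Scheme.{u}) [C.IsStableUnderComposition] [C.IsStableUnderBaseChange]
    (hqc : ∀ {A B : Scheme.{u}} (f : A ⟶ B), C f → QuasiCompact f)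
    (hcoprod : ∀ (κ : Type u) [Finite κ] (A B : κ → Scheme.{u}) (f : ∀ j, A j ⟶ B j),
      (∀ j, C (f j)) → C (Limits.Sigma.map f))
    (haff : ∀ (U : Scheme.{u}) [IsAffine U] (κ : Type u) [Finite κ] (V : κ → U.Opens),
      (∀ j, IsAffineOpen (V j)) → ⨆ j, V j = ⊤ → C (Limits.Sigma.desc fun j => (V j).ι))
    (hres : ∀ (W X' : Scheme.{u}) [IsAffine W] (f : X' ⟶ W), C f →
      ∀ (κ : Type u) [Finite κ] (A : κ → X'.Opens), (∀ l, IsAffineOpen (A l)) → ⨆ l, A l = ⊤ →
        C (Limits.Sigma.desc fun l => (A l).ι ≫ f))
    (J : GrothendieckTopology (Over S))
    (hJ : ∀ (X : Over S) (R : Sieve X), R ∈ J X ↔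
      ∃ (ι : Type u) (U : ι → X.left.Opens), (∀ i, IsAffineOpen (U i)) ∧ ⨆ i, U i = ⊤ ∧
        ∀ i, ∃ (κ : Type u) (_ : Finite κ) (V : κ → Over S) (φ : ∀ j, V j ⟶ X)
          (ψ : ∀ j, (V j).left ⟶ (U i : Scheme.{u})),
          (∀ j, IsAffine (V j).left) ∧ (∀ j, R.arrows (φ j)) ∧ (∀ j, ψ j ≫ (U i).ι = (φ j).left) ∧
            C (Limits.Sigma.desc ψ))
    (F : (Over S)ᵒᵖ ⥤ Type v) :
    Presieve.IsSheaf J F ↔
      (Presieve.IsSheaf (Scheme.zariskiTopology.over S) F ∧
        ∀ (X X' : Over S) (f : X' ⟶ X), C f.left → Presieve.IsSheafFor F (Presieve.singleton f)) := by
  exact Groth.Agent.BigSiteLib.ClassTop.isSheaf_iff C hqc haff hcoprod hres J hJ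

end Groth.Agent.S14465
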