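import Groth.Statements.S14466
import Groth.Agent.CurveZar12.Main
-- import your own Groth.Agent.* helpers here

set_option autoImplicit false
universe u
open CategoryTheory CategoryTheory.Limits AlgebraicGeometry Opposite
open EtZar

namespace Groth.Agent.S14466

/-- Let k be a separably closed field, C a scheme of finite type over k of dimension at most one, and F
a torsion abelian étale sheaf on C. Then R^i ζ_* F = 0 for all i > 1, where ζ_* restricts étale
sheaves to the Zariski site of C. (The published statement is for curves, i.e. dimension exactly
one; dimension at most one is allowed here.) -/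
theorem result (k : Type u) [Field k] [IsSepClosed k]
    (C : Scheme.{u}) (f : C ⟶ Spec (CommRingCat.of k)) [LocallyOfFiniteType f] [QuasiCompact f]
    (hdim : topologicalKrullDim C ≤ 1) [EtZar.ZarCont C] [(EtZar.resZar C).Additive]
    (F : EtCoh.Ab C) (hF : EtCoh.IsTorsion F) (i : ℕ) (hi : 1 < i) :
    IsZero (((EtZar.resZar C).rightDerived i).obj F) := by
  exact CurveZar12.isZero_rightDerived_resZar_curve f hdim F hF i hi

end Groth.Agent.S14466
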