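import Groth.Statements.S1447
import Groth.Agent.MorLib.WeightDeg
import Groth.Agent.MorLib.RankDiscrete

set_option autoImplicit false
universe u
open FlatMor

namespace Groth.Agent.S1447

set_option backward.isDefEq.respectTransparency.types false in
open AlgebraicGeometry CategoryTheory Limits in
theorem finite_of_bound {X S : Scheme.{u}} (f : X ⟶ S) [LocallyQuasiFinite f]
    (n : ℕ) (hn : ∀ (K : Type u) [Field K] (g : Spec (CommRingCat.of K) ⟶ S), (letI := ((Scheme.ΓSpecIso (CommRingCat.of K)).inv ≫ (pullback.snd f g).appTop).hom.toAlgebra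
        Module.rank K (Γ(pullback f g, ⊤) : Type u)) ≤ (n : Cardinal.{u})) (s : S) :
    (f ⁻¹' {s}).Finite := by
  let g := S.fromSpecResidueField s
  haveI : IsLocallyArtinian (Spec (CommRingCat.of (S.residueField s))) :=
    Scheme.isLocallyArtinianScheme_Spec.mpr (inferInstanceAs (IsArtinianRing (S.residueField s)))
  haveI : LocallyQuasiFinite (pullback.snd f g) := MorphismProperty.pullback_snd _ _ inferInstance
  haveI : IsLocallyArtinian (pullback f g) := .of_locallyQuasiFinite (pullback.snd f g)
  have : Finite ↥(pullback f g) :=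
    Groth.Agent.MorLib.RD.finite_of_rank_le (S.residueField s) _ n (hn (S.residueField s) g)
  have h : f ⁻¹' {s} = Set.range (pullback.fst f g) := by
    rw [Scheme.Pullback.range_fst, Scheme.range_fromSpecResidueField]
  rw [h]
  exact Set.finite_range _


open AlgebraicGeometry CategoryTheory Limits in
/-- For a separated, flat, locally quasi-finite morphism f : X → S which is locally of finite
presentation, assume the fibres of f over all field-valued points have rank (of their ring of global
functions) at most n. Then there is a function deg : S → ℕ bounded by n with every sublevel set {deg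
≤ r} closed (equivalently a chain of closed subsets ∅ ⊂ Z_0 ⊂ ... ⊂ Z_n = S with strata {deg = r})
such that for every morphism g : T → S and every r, deg ∘ g is constant with value r exactly when
the base change of f along g is finite locally free of degree r. -/
theorem result {X S : Scheme.{u}} (f : X ⟶ S) [Flat f] [LocallyOfFinitePresentation f] [IsSeparated f] [LocallyQuasiFinite f]
    (n : ℕ) (hn : ∀ (K : Type u) [Field K] (g : Spec (CommRingCat.of K) ⟶ S), (letI := ((Scheme.ΓSpecIso (CommRingCat.of K)).inv ≫ (pullback.snd f g).appTop).hom.toAlgebra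
        Module.rank K (Γ(pullback f g, ⊤) : Type u)) ≤ (n : Cardinal.{u})) :
    ∃ deg : ↑S → ℕ, (∀ s, deg s ≤ n) ∧ (∀ r : ℕ, IsClosed {s : ↑S | deg s ≤ r}) ∧
      ∀ (T : Scheme.{u}) (g : T ⟶ S) (r : ℕ), Mor2.IsFinLocFreeOfDeg r (pullback.snd f g) ↔ ∀ t : T, deg (g t) = r := by
  have hfin := finite_of_bound f n hn
  refine ⟨Groth.Agent.MorLib.WT.deg f, fun s => ?_, Groth.Agent.MorLib.WT.isClosed_deg_le hfin,
    fun T g r => Groth.Agent.MorLib.WT.isFinLocFreeOfDeg_iff hfin g r⟩
  let g := S.fromSpecResidueField s
  let y : Spec (CommRingCat.of (S.residueField s)) := IsLocalRing.closedPoint (S.residueField s)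
  have h := hn (S.residueField s) g
  have e2 := Groth.Agent.MorLib.WT.finrank_fibre_eq_deg hfin g y
  have e2' := e2.trans (congrArg (Groth.Agent.MorLib.WT.deg f)
    (show g y = s from Scheme.fromSpecResidueField_apply s y))
  have e1 := Groth.Agent.MorLib.WT.rank_fibre hfin g y
  rw [e2'] at e1
  exact Nat.cast_le.mp (e1.symm.le.trans h)

end Groth.Agent.S1447
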