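import Groth.Statements.S14471
import Groth.Agent.CurveCohLib.Hopf
import Mathlib.RingTheory.OrderOfVanishing.Noetherian
-- import your own Groth.Agent.* helpers here

set_option autoImplicit false
universe u
open CategoryTheory CategoryTheory.Limits AlgebraicGeometry
open Curves

namespace Groth.Agent.S14471

/-- Let k be an algebraically closed field, C a smooth proper curve over k (proper and smooth over k,
integral, of dimension one), (L, s_0, …, s_r) a linear series g^r_d on C (L an invertible module of
degree d with k-linearly independent global sections s_0, …, s_r spanning a subspace V of Γ(C, L))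
and p a closed point of C. For a nonzero σ ∈ V write ord_p σ for the length of the O_{C,p}-module
L_p/(σ_p), the order of vanishing of σ at p. Then σ ↦ ord_p σ takes exactly r + 1 distinct values on
V minus 0. (The published statement is for a smooth projective curve over the complex numbers and a
complex point p; this row states it over any algebraically closed field.) -/
theorem result (k : Type u) [Field k] [IsAlgClosed k]
    (C : Scheme.{u}) [C.Over (Spec (CommRingCat.of k))] (hC : Curve.IsSmoothProperCurve k C (C ↘ (Spec (CommRingCat.of k))))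
    (L : C.Modules) (d r : ℕ) (s : Fin (r + 1) → LinSer.Sect C L) (hL : LinSer.IsLinSer k C L d r s)
    (p : C) (hp : IsClosed ({p} : Set C)) :
    Set.ncard ((fun c : Fin (r + 1) → k =>
        Module.length (C.presheaf.stalk p)
          (↥(L.presheaf.stalk p) ⧸ Submodule.span (C.presheaf.stalk p)
            {(L.presheaf.germ ⊤ p trivial) (∑ i, (Coh.toGlobal (C ↘ Spec (CommRingCat.of k)) (c i)) • s i)})) ''
        {c : Fin (r + 1) → k | c ≠ 0}) = r + 1 := by
  obtain ⟨hproper, hsm, hint, hdim⟩ := hC
  haveI := hproper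
  haveI := hsm
  haveI := hint
  haveI := Groth.Agent.CurveCohLib.isNoetherian_of_proper (k := k) (X := C)
  obtain ⟨hLi, -, hLs⟩ := hL
  haveI : IsDiscreteValuationRing (C.presheaf.stalk p) := by
    have hd : ringKrullDim (C.presheaf.stalk p) = 1 :=
      (Groth.Agent.SmoothReg.ringKrullDim_stalk_closedPoint (C ↘ Spec (CommRingCat.of k)) hp).trans hdim
    refine IsLocalRing.finrank_CotangentSpace_eq_one_iff.mp ?_
    have hreg := Groth.Agent.SmoothReg.isRegularLocalRing_stalk_of_mem_smoothLocus
      (C ↘ Spec (CommRingCat.of k)) (x := p) (by rw [Scheme.Hom.smoothLocus_eq_top]; trivial)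
    rw [IsRegularLocalRing.iff_finrank_cotangentSpace, hd] at hreg
    exact_mod_cast hreg
  letI := (Curv2.stalkMap k C p).toAlgebra
  obtain ⟨U, hpU, e, he⟩ := Groth.Agent.InvX.exists_frame hLi p
  obtain ⟨Φ, hΦi, hΦ⟩ := Groth.Agent.CurveCohLib.Hopf.exists_coordLin k he hLi hpU
  let E := Sheaf.H.equiv₀ (Coh.toAb L) isTerminalTop
  let v : Fin (r + 1) → Coh.HH C L 0 := fun i => E.symm (s i)
  have hE : ∀ c : Fin (r + 1) → k, (show Γ(L, ⊤) from E (∑ i, c i • v i)) =
      ∑ i, (Coh.toGlobal (C ↘ Spec (CommRingCat.of k)) (c i)) • s i := fun c => by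
    refine (map_sum E _ _).trans (Finset.sum_congr rfl fun j _ => ?_)
    refine (Groth.Agent.CurveCohLib.h0Equiv_smul L (c j) (v j)).trans ?_
    rw [show (show Γ(L, ⊤) from E (v j)) = s j from AddEquiv.apply_symm_apply E (s j)]
    exact congrArg (· • s j) (ConcreteCategory.congr_hom (C.presheaf.map_id (Opposite.op ⊤)) _)
  let ψ : (Fin (r + 1) → k) →ₗ[k] C.presheaf.stalk p := Φ.comp (Fintype.linearCombination k v)
  have hψ : Function.Injective ψ := (injective_iff_map_eq_zero ψ).2 fun c hc => hLs c <| by
    have h1 : Fintype.linearCombination k v c = 0 := hΦi (by rw [map_zero]; exact hc)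
    rw [Fintype.linearCombination_apply] at h1
    rw [← hE c, h1]
    exact map_zero E
  let ε : C.presheaf.stalk p ≃ₗ[C.presheaf.stalk p] L.presheaf.stalk p :=
    LinearEquiv.ofBijective (LinearMap.toSpanSingleton (C.presheaf.stalk p) (L.presheaf.stalk p)
      ((L.presheaf.germ U p hpU).hom e)) (he.germ_bijective hpU)
  have hlen : ∀ c : Fin (r + 1) → k, Module.length (C.presheaf.stalk p)
      (↥(L.presheaf.stalk p) ⧸ Submodule.span (C.presheaf.stalk p)
        {(L.presheaf.germ ⊤ p trivial) (∑ i, (Coh.toGlobal (C ↘ Spec (CommRingCat.of k)) (c i)) • s i)}) =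
      IsDiscreteValuationRing.addVal _ (ψ c) := fun c => by
    rw [← Ring.ord_eq_addVal]
    refine (LinearEquiv.length_eq (Submodule.Quotient.equiv (Ideal.span {ψ c}) _ ε ?_)).symm
    rw [Ideal.span, Submodule.map_span, Set.image_singleton]
    refine congrArg (fun z => Submodule.span (C.presheaf.stalk p) ({z} : Set (L.presheaf.stalk p))) ?_
    refine (hΦ (Fintype.linearCombination k v c)).trans (congrArg (L.presheaf.germ ⊤ p trivial) ?_)
    rw [Fintype.linearCombination_apply]
    exact hE c
  obtain ⟨S, hS, hSc⟩ := Groth.Agent.CurveCohLib.Hopf.exists_ordSet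
    (Groth.Agent.CurveSection.exists_stalkMap_sub_mem k hp) (LinearMap.range ψ)
  have hle := Groth.Agent.CurveCohLib.Hopf.card_le_finrank S (LinearMap.range ψ) hS
  have hrk : Module.finrank k (LinearMap.range ψ) = r + 1 := by
    rw [LinearMap.finrank_range_of_inj hψ, Module.finrank_fintype_fun_eq_card, Fintype.card_fin]
  have himg : (fun c : Fin (r + 1) → k => Module.length (C.presheaf.stalk p)
      (↥(L.presheaf.stalk p) ⧸ Submodule.span (C.presheaf.stalk p)
        {(L.presheaf.germ ⊤ p trivial) (∑ i, (Coh.toGlobal (C ↘ Spec (CommRingCat.of k)) (c i)) • s i)})) ''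
      {c : Fin (r + 1) → k | c ≠ 0} = (fun n : ℕ => (n : ℕ∞)) '' (S : Set ℕ) := by
    ext m
    constructor
    · rintro ⟨c, hc, rfl⟩
      have hc0 : ψ c ≠ 0 := fun h => hc (hψ (h.trans (map_zero ψ).symm))
      obtain ⟨n, hn⟩ := Groth.Agent.CurveCohLib.Hopf.exists_ord hc0
      refine ⟨n, ?_, ((hlen c).trans hn).symm⟩
      by_contra hnS
      have := Groth.Agent.CurveCohLib.Hopf.card_le_finrank (insert n S) (LinearMap.range ψ) fun a ha => by
        rcases Finset.mem_insert.1 ha with rfl | ha
        · exact ⟨ψ c, ⟨c, rfl⟩, hc0, hn⟩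
        · exact hS a ha
      rw [Finset.card_insert_of_notMem hnS] at this
      omega
    · rintro ⟨n, hn, rfl⟩
      obtain ⟨_, ⟨c, rfl⟩, hc0, hn'⟩ := hS n hn
      exact ⟨c, fun h => hc0 (by rw [h, map_zero]), (hlen c).trans hn'⟩
  rw [himg, Set.ncard_image_of_injective _ Nat.cast_injective, Set.ncard_coe_finset]
  omega

end Groth.Agent.S14471
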