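import Groth.Statements.S14473
import Groth.Agent.CurveCover.GenusOne
-- import your own Groth.Agent.* helpers here

set_option autoImplicit false
set_option backward.isDefEq.respectTransparency false
set_option backward.isDefEq.respectTransparency.types false
set_option linter.style.haveILetI false
universe u
open CategoryTheory CategoryTheory.Limits AlgebraicGeometry
open Curves

namespace Groth.Agent.S14473

/-- Let k be an algebraically closed field and C a smooth proper connected curve over k (proper and
smooth over k, integral, of dimension one) of genus 1, the genus being the dimension of H¹(C, O_C).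
Then the group of k-automorphisms of C is infinite: there are infinitely many automorphisms of the
scheme C over Spec k. -/
theorem result (k : Type u) [Field k] [IsAlgClosed k]
    (C : Scheme.{u}) [C.Over (Spec (CommRingCat.of k))] (hC : Curve.IsSmoothProperCurve k C (C ↘ (Spec (CommRingCat.of k))))
    (hg : Curv2.genus k C = 1) :
    Infinite {e : C ≅ C // e.hom ≫ (C ↘ (Spec (CommRingCat.of k))) = C ↘ (Spec (CommRingCat.of k))} := by
  classical
  obtain ⟨hpr, hsm, hint, hdim⟩ := hC
  haveI := hpr
  haveI := hsm
  haveI := hint
  letI := Groth.Agent.CurveFF.ffAlg k C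
  haveI := Groth.Agent.CurveCover.infinite_places k (X := C) hdim
  haveI : Infinite (Groth.Agent.CurveFF.Pt C) :=
    Infinite.of_injective _ (Groth.Agent.CurveFF.pl k C hdim).symm.injective
  let O : Groth.Agent.CurveFF.Pt C := Classical.arbitrary _
  choose f hf hfin σ hp hσ hσf hdeg hne hPQ z hz hzeq using
    fun Q : Groth.Agent.CurveFF.Pt C => Groth.Agent.CurveCover.exists_swap k hdim hg O Q
  refine Infinite.of_injective (fun Q => (⟨⟨σ Q, σ Q, hσ Q, hσ Q⟩, hp Q⟩ :
    {e : C ≅ C // e.hom ≫ (C ↘ (Spec (CommRingCat.of k))) = C ↘ (Spec (CommRingCat.of k))})) fun Q Q' h => ?_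
  have h1 : σ Q = σ Q' := congrArg (fun e => e.1.hom) h
  refine Subtype.ext ?_
  rw [← hPQ Q, ← hPQ Q', h1]

end Groth.Agent.S14473
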