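import Groth.Statements.S14474
import Groth.Agent.NodeFam.NodeOpen

set_option autoImplicit false
universe u
open CategoryTheory CategoryTheory.Limits AlgebraicGeometry
open Curves

namespace Groth.Agent.S14474

/-- Let π : C → S be a proper, flat morphism of finite presentation all of whose fibres have every
irreducible component of dimension one (every geometric fibre is a curve). Then the set of points s
of S such that the fibre C_s, as a scheme over κ(s), has at-worst-nodal singularities (each closed
point has a smooth open neighbourhood or is a node) is open in S. -/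
theorem result {C S : Scheme.{u}} (π : C ⟶ S)
    [IsProper π] [Flat π] [LocallyOfFinitePresentation π]
    (hfib : ∀ s : S, ∀ Z ∈ irreducibleComponents (↥(π.fiber s) : Type u), topologicalKrullDim Z = 1) :
    IsOpen {s : S | letI : (π.fiber s).Over (Spec (S.residueField s)) := ⟨π.fiberToSpecResidueField s⟩
      Curv2.AtWorstNodal (S.residueField s) (π.fiber s)} := by
  let B : Set C := {p | p ∈ π.smoothLocus ∨ NodeFam.FibreNode π p}ᶜ
  have hB : IsClosed B := by
    rw [isClosed_compl_iff, isOpen_iff_forall_mem_open]
    rintro p (hs | hn)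
    · exact ⟨π.smoothLocus, fun q hq => Or.inl hq, π.smoothLocus.2, hs⟩
    · obtain ⟨W, hpW, hW⟩ := NodeFam.exists_open_good π p hn
      exact ⟨W, fun q hq => (hW q hq).1, W.2, hpW⟩
  convert (π.isClosedMap B hB).isOpen_compl using 1
  ext s
  simp only [Set.mem_setOf_eq, Set.mem_compl_iff, Set.mem_image]
  constructor
  · rintro h ⟨p, hp, rfl⟩
    refine hp ?_
    have hcurve : NodeFam.NodalCurve (k := S.residueField (π p)) (π.fiberToSpecResidueField (π p)) :=
      ⟨hfib (π p), h⟩
    rcases hcurve.smooth_or_node (π.asFiber p) with hs | hn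
    · exact Or.inl ((Groth.Agent.S2156.result π p).2 ⟨Flat.stalkMap π p, hs⟩)
    · exact Or.inr hn
  · intro h x _
    have hx : π (π.fiberι s x) = s := by
      have h1 : π.fiberι s x ∈ Set.range (π.fiberι s) := ⟨x, rfl⟩
      rw [π.range_fiberι] at h1
      exact h1
    obtain ⟨p, hp⟩ : ∃ p, π.fiberι s x = p := ⟨_, rfl⟩
    rw [hp] at hx
    subst hx
    obtain rfl : x = π.asFiber p :=
      (π.fiberι (π p)).isEmbedding.injective (hp.trans (π.fiberι_asFiber p).symm)
    have hgood : p ∈ π.smoothLocus ∨ NodeFam.FibreNode π p := by
      by_contra hbad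
      exact h ⟨p, hbad, rfl⟩
    rcases hgood with hs | hn
    · exact Or.inl ((NodeFam.exists_smooth_nhd_iff (k := S.residueField (π p))
        (π.fiberToSpecResidueField (π p)) _).2 ((Groth.Agent.S2156.result π p).1 hs).2)
    · exact Or.inr hn

end Groth.Agent.S14474
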