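import Groth.Statements.S14477
import Groth.Agent.ExtCoker.Basic

set_option autoImplicit false
universe u
open KaehlerDifferential
open LocInt

namespace Groth.Agent.S14477
open scoped TensorProduct


/-- Let A → B be a smooth ring map with Ω_{B/A} of rank n at every prime of B, g ∈ B a nonzerodivisor
and R = B/gB, a hypersurface of virtual relative dimension n - 1 over A; let J ⊆ R be the
annihilator of the n-th exterior power of Ω_{R/A} and Z = Spec R/J. Then J is the ideal of R
generated by the classes of the elements φ(dg), φ ranging over the B-linear forms on Ω_{B/A}; where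
Ω_{B/A} is free on dt_1, …, dt_n this says that Z is cut out by the partial derivatives ∂g/∂t_1, …,
∂g/∂t_n. In particular every φ(dg) vanishes in R/J; since Ω_{B/A} is finite projective this says
that dg ⊗ 1 = 0 in Ω_{B/A} ⊗_B R/J, i.e. the map from the conormal module gB/g²B ⊗ R/J to Ω_{B/A}
⊗_B R/J induced by d vanishes, and with the cotangent complex of R over A represented by the
two-term complex (gB/g²B → Ω_{B/A} ⊗_B R) this is the statement that the canonical map from L_Z =
L_1 i^* L_{R/A} to the conormal module restricted to Z is an isomorphism. (The published statement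
also asserts that, for a regular immersion of any codimension into a smooth scheme, this map from
L_Z is a locally split injection; that part is not stated here. The published statement is the
isomorphism alone, which amounts to the inclusion of the ideal generated by the φ(dg) in J; this row
states the equality, whose other inclusion is the local description of Z by the partial derivatives
given with the definition of Z.) -/
theorem result (A B R : Type u) [CommRing A] [CommRing B] [CommRing R]
    [Algebra A B] [Algebra B R] [Algebra A R] [IsScalarTower A B R] [Algebra.Smooth A B] (n : ℕ)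
    (hn : ∀ p : PrimeSpectrum B, Module.rankAtStalk (Ω[B⁄A]) p = n)
    (g : B) (hg : IsSMulRegular B g) (hsurj : Function.Surjective (algebraMap B R))
    (hker : RingHom.ker (algebraMap B R) = Ideal.span {g}) :
    (⋀[R]^n (Ω[R⁄A])).annihilator =
      Ideal.span (Set.range fun φ : Ω[B⁄A] →ₗ[B] B => algebraMap B R (φ (KaehlerDifferential.D A B g))) := by
  classical
  haveI : Module.Finite B (Ω[B⁄A]) := inferInstance
  haveI : Module.Projective B (Ω[B⁄A]) := inferInstance
  let π : R ⊗[B] Ω[B⁄A] →ₗ[R] Ω[R⁄A] := KaehlerDifferential.mapBaseChange A B R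
  let w : R ⊗[B] Ω[B⁄A] := 1 ⊗ₜ[B] KaehlerDifferential.D A B g
  have hg0 : algebraMap B R g = 0 := by rw [← RingHom.mem_ker, hker]; exact Ideal.mem_span_singleton_self g
  have hkerπ : LinearMap.ker π = Submodule.span R {w} := by
    ext z
    rw [LinearMap.mem_ker, Submodule.mem_span_singleton]
    constructor
    · intro hz
      obtain ⟨c, rfl⟩ := ((KaehlerDifferential.exact_kerCotangentToTensor_mapBaseChange A B R hsurj) z).1 hz
      obtain ⟨⟨x, hx⟩, rfl⟩ := Ideal.toCotangent_surjective _ c
      obtain ⟨b, rfl⟩ : ∃ b, b * g = x := Ideal.mem_span_singleton'.1 (hker ▸ hx)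
      refine ⟨algebraMap B R b, ?_⟩
      rw [KaehlerDifferential.kerCotangentToTensor_toCotangent]
      change _ = (1 : R) ⊗ₜ[B] KaehlerDifferential.D A B (b * g)
      rw [(KaehlerDifferential.D A B).leibniz, TensorProduct.tmul_add, ← TensorProduct.smul_tmul g,
        Algebra.smul_def, hg0, zero_mul, TensorProduct.zero_tmul, add_zero, TensorProduct.tmul_smul,
        algebraMap_smul]
    · rintro ⟨r, rfl⟩
      rw [map_smul, show π w = 0 from ?_, smul_zero]
      simp [π, w, KaehlerDifferential.mapBaseChange_tmul, KaehlerDifferential.map_D, hg0]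
  have hrank : ∀ p : PrimeSpectrum R, Module.rankAtStalk (R ⊗[B] Ω[B⁄A]) p = n := fun p => by
    rw [Module.rankAtStalk_baseChange]; exact hn _
  rw [ExtCoker.annihilator_extPower_coker n hrank w π (KaehlerDifferential.mapBaseChange_surjective A B R hsurj) hkerπ]
  congr 1
  ext r
  constructor
  · rintro ⟨ψ, rfl⟩
    obtain ⟨φ, hφ⟩ := Module.projective_lifting_property (Algebra.linearMap B R)
      ((ψ.restrictScalars B) ∘ₗ (TensorProduct.mk B R (Ω[B⁄A]) 1)) hsurj
    exact ⟨φ, LinearMap.congr_fun hφ _⟩
  · rintro ⟨φ, rfl⟩
    exact ⟨((Algebra.linearMap B R) ∘ₗ φ).liftBaseChange R, by simp [w]⟩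


end Groth.Agent.S14477
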