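import Groth.Statements.S14478
import Groth.Agent.SmallAlg.LinAlg

set_option autoImplicit false
universe u
open CharCyc

namespace Groth.Agent.S14478

/-- Let V be a finite-dimensional vector space over a field k, let W = V × V^∨ with V^∨ the dual space,
and let T ⊆ W be a subspace with dim T = dim V; put V₁ = V ∩ T, where V sits in W as V × 0. Then
there is a complement V₂ of V₁ in V with the following property: for every injective linear map A₁ :
V₁ → V₁^∨, the map A : V → V^∨ extending A₁ by zero along the decompositions V = V₁ ⊕ V₂ and V^∨ =
V₁^∨ ⊕ V₂^∨ (so A v = A₁(p v) ∘ p, with p : V → V₁ the projection along V₂) has graph Γ ⊆ W with Γ ∩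
T = 0. -/
theorem result (k V : Type u) [Field k] [AddCommGroup V] [Module k V]
    [FiniteDimensional k V] (T : Submodule k (V × Module.Dual k V))
    (hT : Module.finrank k T = Module.finrank k V) :
    ∃ (V₂ : Submodule k V) (h : IsCompl (T.comap (LinearMap.inl k V (Module.Dual k V))) V₂),
      ∀ A₁ : T.comap (LinearMap.inl k V (Module.Dual k V)) →ₗ[k]
          Module.Dual k (T.comap (LinearMap.inl k V (Module.Dual k V))),
        Function.Injective A₁ →
          LinearMap.graph ((Submodule.projectionOnto _ V₂ h).dualMap ∘ₗ A₁ ∘ₗ
              Submodule.projectionOnto _ V₂ h) ⊓ T = ⊥ := by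
  exact Groth.Agent.SmallAlg.exists_compl_graph T hT

end Groth.Agent.S14478
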