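import Groth.Statements.S14479
import Groth.Agent.SmallAlg.LinAlg

set_option autoImplicit false
universe u
open CharCyc

namespace Groth.Agent.S14479

/-- Let V be a finite-dimensional vector space over a field k. If dim V is even or the characteristic of
k is different from 2, there is a bilinear form B on V such that the bilinear form (v, w) ↦ B(v, w)
+ B(w, v) (B plus its transpose, as a map V → V^∨) is nondegenerate. -/
theorem result (k V : Type u) [Field k] [AddCommGroup V] [Module k V]
    [FiniteDimensional k V] (h : Even (Module.finrank k V) ∨ ringChar k ≠ 2) :
    ∃ B : LinearMap.BilinForm k V, (B + B.flip).Nondegenerate := by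
  exact Groth.Agent.SmallAlg.exists_bilin h

end Groth.Agent.S14479
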