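import Groth.Statements.S14480
import Groth.Agent.CharCycDim.Basic
import Mathlib.AlgebraicGeometry.Morphisms.Immersion

set_option autoImplicit false
universe u
open CategoryTheory AlgebraicGeometry
open CharCyc

namespace Groth.Agent.S14480

/-- Let k be a field, let π : C → X be a morphism between k-schemes of finite type, and let n be a
natural number. For j ≥ 0 let B_j ⊆ X be the set of points x whose fibre π⁻¹(x) has dimension at
least j (so B_0 is the image of π). Then dim C ≤ n if and only if, for every j, the closure of B_j
in X has dimension at most n − j. Dimensions are topological Krull dimensions with the empty space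
of dimension ⊥, and the inequality is written additively as dim cl(B_j) + j ≤ n. -/
theorem result (k : Type u) [Field k] (C X : Scheme.{u})
    (q : X ⟶ Spec (CommRingCat.of k)) (π : C ⟶ X)
    [LocallyOfFiniteType q] [CompactSpace X] [LocallyOfFiniteType π] [CompactSpace C] (n : ℕ) :
    topologicalKrullDim C ≤ n ↔
      ∀ j : ℕ, topologicalKrullDim (closure {x : X | (j : WithBot ℕ∞) ≤ topologicalKrullDim (π.fiber x)}) +
        (j : WithBot ℕ∞) ≤ n := by
  haveI := Groth.Agent.CharCycDim.noetherianSpace (π ≫ q)
  have hcl : IsLocallyClosed (Set.univ : Set C) := isClosed_univ.isLocallyClosed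
  have hC : topologicalKrullDim C ≤ n ↔ ∀ c : C, Groth.Agent.VarDim.deg (π ≫ q) c ≤ n := by
    rw [← IsHomeomorph.topologicalKrullDim_eq _ (Homeomorph.Set.univ C).isHomeomorph,
      Groth.Agent.CharCycDim.dim_le_nat_iff (π ≫ q) hcl]
    simp
  rw [hC]
  constructor
  · intro h j
    rw [Groth.Agent.CharCycDim.dim_add_le_iff q isClosed_closure.isLocallyClosed]
    intro z hz
    rw [Groth.Agent.CharCycDim.fibreDimGE_eq_image π j] at hz
    obtain ⟨η, hη, hsp⟩ := Groth.Agent.CharCycDim.exists_specializes_of_mem_closure_image
      (Groth.Agent.FibDim.isClosed_le_fibreDimAt π j) π π.continuous hz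
    obtain ⟨w, -, hw, -, he⟩ := Groth.Agent.FibDim.exists_fibMax_generization π η
    have hj : (j : WithBot ℕ∞) ≤ _root_.FlatMor.fibreDimAt π η := hη
    rw [he] at hj
    have hj' : j ≤ Groth.Agent.FibDim.rd π w := by exact_mod_cast hj
    have h1 := Groth.Agent.VarDim.deg_le_of_specializes q hsp
    have h2 := h w
    rw [Groth.Agent.CharCycDim.deg_comp π q, hw] at h2
    omega
  · intro h c
    have h1 := (Groth.Agent.CharCycDim.dim_add_le_iff q isClosed_closure.isLocallyClosed
      (Groth.Agent.FibDim.rd π c) n).1 (h _) (π c)
      (subset_closure ((Groth.Agent.CharCycDim.mem_fibreDimGE_iff π _ _).2 ⟨c, rfl, le_rfl⟩))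
    rw [Groth.Agent.CharCycDim.deg_comp π q]
    exact h1

end Groth.Agent.S14480
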