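import Groth.Statements.S14481
import Groth.Agent.CharCycDim.Basic
import Mathlib.AlgebraicGeometry.Morphisms.Immersion

set_option autoImplicit false
universe u
open CategoryTheory AlgebraicGeometry
open CharCyc

namespace Groth.Agent.S14481

/-- First equivalence: let k be a field, let π : C → X be a morphism between k-schemes of finite type
such that every irreducible component of C has dimension n, and let ι : W → X be a regular immersion
of codimension c. The following are equivalent: (a) ι meets C properly, that is, whenever P is an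
irreducible component of C and Q is an irreducible component of P ×_X W (the subspace P ∩ π⁻¹(ι(W))
of C), one has dim Q = dim P − c; (b) dim C ×_X W ≤ n − c (the subspace π⁻¹(ι(W)) of C). Dimensions
are written additively: dim Q + c = n and dim π⁻¹(ι(W)) + c ≤ n, the empty space having dimension ⊥.
(Stated for each of the four kinds of regular immersion of codimension c — regular, Koszul-regular,
H₁-regular, quasi-regular; the published statement does not distinguish kinds.) -/
theorem result (k : Type u) [Field k] (C X W : Scheme.{u})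
    (q : X ⟶ Spec (CommRingCat.of k)) (π : C ⟶ X) (ι : W ⟶ X)
    [LocallyOfFiniteType q] [CompactSpace X] [LocallyOfFiniteType π] [CompactSpace C]
    (κ : RegImm.Kind) (n c : ℕ) (hι : RegImm.IsRegularImmersionOfCodim κ c ι)
    (hC : ∀ P ∈ irreducibleComponents (C : Type u), topologicalKrullDim P = n) :
    (∀ P ∈ irreducibleComponents (C : Type u), ∀ Q ∈ irreducibleComponents (P ∩ π ⁻¹' Set.range ι : Set C),
        topologicalKrullDim Q + (c : WithBot ℕ∞) = n) ↔
      topologicalKrullDim (π ⁻¹' Set.range ι : Set C) + (c : WithBot ℕ∞) ≤ n := by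
  haveI := hι.1
  have hZ : IsLocallyClosed (π ⁻¹' Set.range ι) := ι.isLocallyClosed_range.preimage π.continuous
  have himg : ∀ (T : Set C) (Q : Set T), topologicalKrullDim Q =
      topologicalKrullDim (Subtype.val '' Q : Set C) := fun T Q =>
    IsHomeomorph.topologicalKrullDim_eq _
      (Topology.IsEmbedding.subtypeVal.homeomorphImage Q).isHomeomorph
  have hQlc : ∀ P ∈ irreducibleComponents (C : Type u),
      ∀ Q ∈ irreducibleComponents (P ∩ π ⁻¹' Set.range ι : Set C),
        IsLocallyClosed (Subtype.val '' Q : Set C) := fun P hP Q hQ =>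
    (isClosed_of_mem_irreducibleComponents Q hQ).isLocallyClosed.image
      Topology.IsEmbedding.subtypeVal.isInducing
      (by
        rw [Subtype.range_coe_subtype]
        exact (isClosed_of_mem_irreducibleComponents P hP).isLocallyClosed.inter hZ)
  rw [Groth.Agent.CharCycDim.dim_add_le_iff (π ≫ q) hZ]
  constructor
  · intro h z hz
    have hzP : z ∈ irreducibleComponent z := mem_irreducibleComponent
    let z' : (irreducibleComponent z ∩ π ⁻¹' Set.range ι : Set C) := ⟨z, hzP, hz⟩
    have h1 := h _ (irreducibleComponent_mem_irreducibleComponents z) (irreducibleComponent z')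
      (irreducibleComponent_mem_irreducibleComponents z')
    rw [himg] at h1
    exact (Groth.Agent.CharCycDim.dim_add_le_iff (π ≫ q) (hQlc _
      (irreducibleComponent_mem_irreducibleComponents z) _
      (irreducibleComponent_mem_irreducibleComponents z')) c n).1 h1.le z
      ⟨z', mem_irreducibleComponent, rfl⟩
  · intro h P hP Q hQ
    rw [himg]
    refine le_antisymm ((Groth.Agent.CharCycDim.dim_add_le_iff (π ≫ q) (hQlc P hP Q hQ) c n).2 ?_) ?_
    · rintro _ ⟨w, -, rfl⟩
      exact h _ w.2.2
    have hirr : IsIrreducible (Subtype.val '' Q : Set C) :=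
      hQ.1.image _ continuous_subtype_val.continuousOn
    obtain ⟨U, F, hU, hF, hUF⟩ := hQlc P hP Q hQ
    obtain ⟨q₀, hq₀⟩ := hirr.nonempty
    have hgen := hirr.isGenericPoint_genericPoint_closure
    set η := hirr.genericPoint with hηdef
    have hspec : ∀ y ∈ (Subtype.val '' Q : Set C), η ⤳ y := fun y hy =>
      hgen.specializes (subset_closure hy)
    have hηQ : η ∈ (Subtype.val '' Q : Set C) := by
      rw [hUF]
      exact ⟨(hspec q₀ hq₀).mem_open hU (hUF ▸ hq₀ : q₀ ∈ U ∩ F).1,
        closure_minimal (hUF ▸ Set.inter_subset_right) hF hgen.mem⟩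
    obtain ⟨η', hη'Q, hη'⟩ := hηQ
    have hPcl := isClosed_of_mem_irreducibleComponents P hP
    have hPgen := hP.1.isGenericPoint_genericPoint hPcl
    have hmax : ∀ ζ, hP.1.genericPoint ⤳ ζ → π ζ ∈ Set.range ι → ζ ⤳ η → ζ = η := by
      intro ζ hζP hζW hζη
      let ζ' : (P ∩ π ⁻¹' Set.range ι : Set C) := ⟨ζ, hζP.mem_closed hPcl hPgen.mem, hζW⟩
      have hsub : Q ⊆ closure {ζ'} := fun y hy => specializes_iff_mem_closure.1
        ((subtype_specializes_iff ζ' y).2 (hζη.trans (hspec _ ⟨y, hy, rfl⟩)))
      have hζQ : ζ' ∈ Q := hQ.2 isIrreducible_singleton.closure hsub (subset_closure rfl)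
      exact (hζη.antisymm (hspec ζ ⟨ζ', hζQ, rfl⟩)).eq
    have hηW : π η ∈ Set.range ι := hη' ▸ η'.2.2
    have hle := Groth.Agent.CharCycDim.deg_le_deg_add_of_isRegularImmersionOfCodim (π ≫ q) π ι hι
      (hPgen.specializes (hη' ▸ η'.2.1 : η ∈ P)) hηW hmax
    have hn : Groth.Agent.VarDim.deg (π ≫ q) hP.1.genericPoint = n := by
      have h1 := hC P hP
      rw [← hPgen.def, Groth.Agent.VarDim.topologicalKrullDim_closure_singleton (π ≫ q)] at h1
      exact_mod_cast h1
    refine le_trans ?_ (add_le_add_left (Groth.Agent.CharCycDim.deg_le_dim (π ≫ q) (hQlc P hP Q hQ)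
      (⟨η', hη'Q, hη'⟩ : η ∈ (Subtype.val '' Q : Set C))) _)
    exact_mod_cast hn.ge.trans hle

end Groth.Agent.S14481
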