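import Groth.Statements.S14482
import Groth.Agent.CharCycDim.Basic
import Mathlib.AlgebraicGeometry.Morphisms.Immersion

set_option autoImplicit false
universe u
open CategoryTheory AlgebraicGeometry
open CharCyc

namespace Groth.Agent.S14482

/-- Second assertion: let k be a field, let π : C → X be a morphism between k-schemes of finite type
such that every irreducible component of C has dimension n, let ι : W → X be a regular immersion of
codimension c, and for j ≥ 0 let B_j ⊆ X be the set of points whose fibre under π has dimension at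
least j. Assume that every B_j is closed in X. Then dim B_j + j ≤ n for every j, and the condition
dim π⁻¹(ι(W)) + c ≤ n (that is, dim C ×_X W ≤ n − c) holds if and only if dim ι⁻¹(B_j) + c + j ≤ n
for every j (that is, ι meets the sequence (B_j) n-semi-properly). Dimensions are topological Krull
dimensions of subspaces, the empty space having dimension ⊥. (Stated for each of the four kinds of
regular immersion of codimension c — regular, Koszul-regular, H₁-regular, quasi-regular; the
published statement does not distinguish kinds.) -/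
theorem result (k : Type u) [Field k] (C X W : Scheme.{u})
    (q : X ⟶ Spec (CommRingCat.of k)) (π : C ⟶ X) (ι : W ⟶ X)
    [LocallyOfFiniteType q] [CompactSpace X] [LocallyOfFiniteType π] [CompactSpace C]
    (κ : RegImm.Kind) (n c : ℕ) (hι : RegImm.IsRegularImmersionOfCodim κ c ι)
    (hC : ∀ P ∈ irreducibleComponents (C : Type u), topologicalKrullDim P = n)
    (hB : ∀ j : ℕ, IsClosed {x : X | (j : WithBot ℕ∞) ≤ topologicalKrullDim (π.fiber x)}) :
    (∀ j : ℕ, topologicalKrullDim {x : X | (j : WithBot ℕ∞) ≤ topologicalKrullDim (π.fiber x)} + (j : WithBot ℕ∞) ≤ n) ∧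
      (topologicalKrullDim (π ⁻¹' Set.range ι : Set C) + (c : WithBot ℕ∞) ≤ n ↔
        ∀ j : ℕ, topologicalKrullDim (ι ⁻¹' {x : X | (j : WithBot ℕ∞) ≤ topologicalKrullDim (π.fiber x)} : Set W) + (c : WithBot ℕ∞) + (j : WithBot ℕ∞) ≤ n) := by
  have hWlc : IsLocallyClosed (Set.range ι) := by
    haveI := hι.1
    exact ι.isLocallyClosed_range
  have hZ : IsLocallyClosed (π ⁻¹' Set.range ι) := hWlc.preimage π.continuous
  have hdeg : ∀ c : C, Groth.Agent.VarDim.deg (π ≫ q) c ≤ n := by
    intro x
    obtain ⟨P, hP, hxP⟩ : ∃ P ∈ irreducibleComponents (C : Type u), x ∈ P :=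
      ⟨irreducibleComponent x, irreducibleComponent_mem_irreducibleComponents x,
        mem_irreducibleComponent⟩
    exact (Groth.Agent.CharCycDim.dim_le_nat_iff (π ≫ q)
      (isClosed_of_mem_irreducibleComponents P hP).isLocallyClosed n).1 (hC P hP).le x hxP
  refine ⟨fun j => ?_, ?_⟩
  · rw [Groth.Agent.CharCycDim.dim_add_le_iff q (hB j).isLocallyClosed]
    intro z hz
    obtain ⟨x, hx, hj⟩ := (Groth.Agent.CharCycDim.mem_fibreDimGE_iff π j z).1 hz
    have := hdeg x
    rw [Groth.Agent.CharCycDim.deg_comp π q, hx] at this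
    omega
  · haveI := hι.1
    have hpre : ∀ j : ℕ, topologicalKrullDim
        (ι ⁻¹' {x : X | (j : WithBot ℕ∞) ≤ topologicalKrullDim (π.fiber x)} : Set W) =
        topologicalKrullDim
          (Set.range ι ∩ {x : X | (j : WithBot ℕ∞) ≤ topologicalKrullDim (π.fiber x)} : Set X) := by
      intro j
      rw [← Set.image_preimage_eq_range_inter]
      exact IsHomeomorph.topologicalKrullDim_eq _ (ι.isEmbedding.homeomorphImage _).isHomeomorph
    have hT : ∀ j : ℕ, IsLocallyClosed
        (Set.range ι ∩ {x : X | (j : WithBot ℕ∞) ≤ topologicalKrullDim (π.fiber x)}) :=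
      fun j => hWlc.inter (hB j).isLocallyClosed
    rw [Groth.Agent.CharCycDim.dim_add_le_iff (π ≫ q) hZ]
    constructor
    · intro h j
      rw [add_assoc, ← Nat.cast_add, hpre, Groth.Agent.CharCycDim.dim_add_le_iff q (hT j)]
      rintro z ⟨hz1, hz2⟩
      obtain ⟨x, rfl, hj⟩ := (Groth.Agent.CharCycDim.mem_fibreDimGE_iff π j z).1 hz2
      have := h x hz1
      rw [Groth.Agent.CharCycDim.deg_comp π q] at this
      omega
    · intro h x hx
      have := h (Groth.Agent.FibDim.rd π x)
      rw [add_assoc, ← Nat.cast_add, hpre, Groth.Agent.CharCycDim.dim_add_le_iff q (hT _)] at this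
      have := this (π x) ⟨hx, (Groth.Agent.CharCycDim.mem_fibreDimGE_iff π _ _).2 ⟨x, rfl, le_rfl⟩⟩
      rw [Groth.Agent.CharCycDim.deg_comp π q]
      omega

end Groth.Agent.S14482
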