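import Groth.Statements.S14483
import Groth.Agent.CharCycDim.Extra

set_option autoImplicit false
universe u
open CategoryTheory CategoryTheory.Limits AlgebraicGeometry
open CharCyc

namespace Groth.Agent.S14483

/-- Let k be a field and let f : X → S be a morphism between separated k-schemes of finite type. Two
closed subsets Y, Z of X are said to well intersect with respect to f when dim(Y ×_S Z ∖ Y ×_X Z) ≤
dim Y + dim Z − dim S; here Y ×_S Z ∖ Y ×_X Z is taken as the subspace of X ×_S X of points whose
two projections lie in Y and in Z and which are not in the image of the diagonal, and the inequality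
is written additively as dim(Y ×_S Z ∖ Y ×_X Z) + dim S ≤ dim Y + dim Z (topological Krull
dimensions, the empty space having dimension ⊥). Let Y ⊆ X be closed and irreducible with dim Y <
dim S, and suppose that the pair Y, Y well intersects with respect to f. Then Y → S is generically
radicial onto its image: there is an open subset V of X meeting Y such that f is injective on V ∩ Y
and, at every point of V ∩ Y, the residue field extension induced by f is purely inseparable. -/
theorem result (k : Type u) [Field k] (X S : Scheme.{u})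
    (q : S ⟶ Spec (CommRingCat.of k)) (f : X ⟶ S)
    [LocallyOfFiniteType q] [CompactSpace S] [IsSeparated q] [LocallyOfFiniteType f] [CompactSpace X] [IsSeparated f]
    (Y : Set X) (hYc : IsClosed Y) (hYi : IsIrreducible Y)
    (hWI : topologicalKrullDim {p : ↥(pullback f f) | pullback.fst f f p ∈ Y ∧ pullback.snd f f p ∈ Y ∧ p ∉ Set.range (pullback.diagonal f)} + topologicalKrullDim S ≤ topologicalKrullDim Y + topologicalKrullDim Y)
    (hYS : topologicalKrullDim Y < topologicalKrullDim S) :
    ∃ V : Set X, IsOpen V ∧ (V ∩ Y).Nonempty ∧ Set.InjOn f.base (V ∩ Y) ∧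
      ∀ x ∈ V ∩ Y, (f.residueFieldMap x).hom.IsPurelyInseparable := by
  haveI : QuasiSeparatedSpace S := quasiSeparatedSpace_of_quasiSeparated q
  haveI : QuasiCompact f := QuasiCompact.of_comp f (terminal.from S)
  have hp2 : LocallyOfFiniteType (pullback.fst f f ≫ f ≫ q) := inferInstance
  haveI : CompactSpace ↥(pullback f f) := QuasiCompact.compactSpace_of_compactSpace (pullback.fst f f)
  haveI := Groth.Agent.CharCycDim.noetherianSpace (pullback.fst f f ≫ f ≫ q)
  have hgen := hYi.isGenericPoint_genericPoint hYc
  have hdY := Groth.Agent.CharCycDim.dim_eq_deg_generic (f ≫ q) hYc hYi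
  set E : Set ↥(pullback f f) := {p | pullback.fst f f p ∈ Y ∧ pullback.snd f f p ∈ Y ∧
    p ∉ Set.range (pullback.diagonal f)}
  have hE : IsLocallyClosed E := Groth.Agent.CharCycDim.isLocallyClosed_offDiag f hYc hYc
  have hlt : ∀ p ∈ E, Groth.Agent.VarDim.deg (pullback.fst f f ≫ f ≫ q) p <
      Groth.Agent.VarDim.deg (f ≫ q) hYi.genericPoint := by
    intro p hp
    rw [hdY] at hWI hYS
    exact Groth.Agent.CharCycDim.lt_of_add_le (le_trans
      (add_le_add_left (Groth.Agent.CharCycDim.deg_le_dim _ hE hp) _) hWI) hYS
  refine ⟨(closure (pullback.fst f f '' E))ᶜ, isClosed_closure.isOpen_compl,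
    ⟨hYi.genericPoint, fun hmem => ?_, hgen.mem⟩, ?_, ?_⟩
  · obtain ⟨p, hp, hsp⟩ := Groth.Agent.CharCycDim.exists_specializes_of_mem_closure_image_locClosed
      hE (pullback.fst f f) (pullback.fst f f).continuous hmem
    have h1 := Groth.Agent.VarDim.deg_le_of_specializes (f ≫ q) hsp
    have h2 := Groth.Agent.CharCycDim.deg_map_le' (pullback.fst f f) (f ≫ q) p
    have h3 := hlt p hp
    omega
  · intro x hx y hy hxy
    by_contra hne
    obtain ⟨p, hp1, hp2⟩ := Scheme.Pullback.exists_preimage_pullback x y hxy
    exact hx.1 (subset_closure ⟨p, ⟨hp1.symm ▸ hx.2, hp2.symm ▸ hy.2,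
      Groth.Agent.CharCycDim.not_mem_diag (by rw [hp1, hp2]; exact hne)⟩, hp1⟩)
  · intro x hx
    refine Groth.Agent.CharCycDim.isPurelyInseparable_residueFieldMap f x fun p h1 h2 => ?_
    by_contra hd
    exact hx.1 (subset_closure ⟨p, ⟨h1.symm ▸ hx.2, h2.symm ▸ hx.2, hd⟩, h1⟩)

end Groth.Agent.S14483
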