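import Groth.Statements.S14484
import Groth.Agent.CharCycDim.Extra

set_option autoImplicit false
universe u
open CategoryTheory CategoryTheory.Limits AlgebraicGeometry
open CharCyc

namespace Groth.Agent.S14484

/-- Let k be a field and let f : X → S be a morphism between separated k-schemes of finite type. Two
closed subsets Y, Z of X are said to well intersect with respect to f when dim(Y ×_S Z ∖ Y ×_X Z) ≤
dim Y + dim Z − dim S; here Y ×_S Z ∖ Y ×_X Z is taken as the subspace of X ×_S X of points whose
two projections lie in Y and in Z and which are not in the image of the diagonal, and the inequality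
is written additively as dim(Y ×_S Z ∖ Y ×_X Z) + dim S ≤ dim Y + dim Z (topological Krull
dimensions, the empty space having dimension ⊥). Let Y, Z ⊆ X be closed irreducible subsets that
well intersect with respect to f, with dim Y < dim S and dim Z < dim S, and assume Y ⊄ Z. Then f(Y)
is not contained in the closure of f(Y) ∩ f(Z); in particular f(Y) ⊄ f(Z). -/
theorem result (k : Type u) [Field k] (X S : Scheme.{u})
    (q : S ⟶ Spec (CommRingCat.of k)) (f : X ⟶ S)
    [LocallyOfFiniteType q] [CompactSpace S] [IsSeparated q] [LocallyOfFiniteType f] [CompactSpace X] [IsSeparated f]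
    (Y Z : Set X) (hYc : IsClosed Y) (hYi : IsIrreducible Y) (hZc : IsClosed Z) (hZi : IsIrreducible Z)
    (hWI : topologicalKrullDim {p : ↥(pullback f f) | pullback.fst f f p ∈ Y ∧ pullback.snd f f p ∈ Z ∧ p ∉ Set.range (pullback.diagonal f)} + topologicalKrullDim S ≤ topologicalKrullDim Y + topologicalKrullDim Z)
    (hYS : topologicalKrullDim Y < topologicalKrullDim S) (hZS : topologicalKrullDim Z < topologicalKrullDim S)
    (hYZ : ¬ Y ⊆ Z) :
    ¬ (f.base '' Y ⊆ closure (f.base '' Y ∩ f.base '' Z)) ∧ ¬ (f.base '' Y ⊆ f.base '' Z) := by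
  haveI : QuasiSeparatedSpace S := quasiSeparatedSpace_of_quasiSeparated q
  haveI : QuasiCompact f := QuasiCompact.of_comp f (terminal.from S)
  have hp2 : LocallyOfFiniteType (pullback.fst f f ≫ f ≫ q) := inferInstance
  haveI : CompactSpace ↥(pullback f f) := QuasiCompact.compactSpace_of_compactSpace (pullback.fst f f)
  haveI := Groth.Agent.CharCycDim.noetherianSpace (pullback.fst f f ≫ f ≫ q)
  have hgen := hYi.isGenericPoint_genericPoint hYc
  have hdY := Groth.Agent.CharCycDim.dim_eq_deg_generic (f ≫ q) hYc hYi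
  have hdZ := Groth.Agent.CharCycDim.dim_eq_deg_generic (f ≫ q) hZc hZi
  have main : ¬ (f.base '' Y ⊆ closure (f.base '' Y ∩ f.base '' Z)) := by
    intro hsub
    have hC : IsClosed (pullback.fst f f ⁻¹' Y ∩ pullback.snd f f ⁻¹' Z) :=
      (hYc.preimage (pullback.fst f f).continuous).inter (hZc.preimage (pullback.snd f f).continuous)
    have hinter : f.base '' Y ∩ f.base '' Z ⊆ (fun p => f.base (pullback.fst f f p)) ''
        (pullback.fst f f ⁻¹' Y ∩ pullback.snd f f ⁻¹' Z) := by
      rintro _ ⟨⟨y, hy, rfl⟩, ⟨z, hz, hzy⟩⟩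
      obtain ⟨p, h1, h2⟩ := Scheme.Pullback.exists_preimage_pullback y z (show f y = f z from hzy.symm)
      exact ⟨p, ⟨Set.mem_preimage.2 (h1.symm ▸ hy), Set.mem_preimage.2 (h2.symm ▸ hz)⟩,
        congrArg f.base h1⟩
    obtain ⟨p, ⟨hp1, hp2⟩, hsp⟩ := Groth.Agent.CharCycDim.exists_specializes_of_mem_closure_image
      hC (fun p => f.base (pullback.fst f f p)) (f.continuous.comp (pullback.fst f f).continuous)
      (closure_mono hinter (hsub ⟨_, hgen.mem, rfl⟩))
    have hsp' : f hYi.genericPoint ⤳ f (pullback.fst f f p) :=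
      (hgen.specializes hp1).map f.continuous
    have heq : f (pullback.fst f f p) = f hYi.genericPoint := (hsp.antisymm hsp').eq
    have hcond : f (pullback.fst f f p) = f (pullback.snd f f p) := by
      rw [← Scheme.Hom.comp_apply, ← Scheme.Hom.comp_apply, pullback.condition]
    have hηZ : hYi.genericPoint ∉ Z := fun hmem => hYZ (by
      rw [← hgen.def]; exact closure_minimal (Set.singleton_subset_iff.2 hmem) hZc)
    obtain ⟨r, hr1, hr2⟩ := Scheme.Pullback.exists_preimage_pullback hYi.genericPoint
      (pullback.snd f f p) (heq.symm.trans hcond)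
    have hrE : r ∈ {p : ↥(pullback f f) | pullback.fst f f p ∈ Y ∧ pullback.snd f f p ∈ Z ∧
        p ∉ Set.range (pullback.diagonal f)} :=
      ⟨hr1.symm ▸ hgen.mem, hr2.symm ▸ hp2, Groth.Agent.CharCycDim.not_mem_diag
        (by rw [hr1, hr2]; exact fun h => hηZ (h ▸ hp2))⟩
    rw [hdY, hdZ] at hWI
    rw [hdZ] at hZS
    have h1 := Groth.Agent.CharCycDim.lt_of_add_le (le_trans (add_le_add_left
      (Groth.Agent.CharCycDim.deg_le_dim (pullback.fst f f ≫ f ≫ q)
        (Groth.Agent.CharCycDim.isLocallyClosed_offDiag f hYc hZc) hrE) _) hWI) hZS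
    have h2 := Groth.Agent.CharCycDim.deg_map_le' (pullback.fst f f) (f ≫ q) r
    rw [hr1] at h2
    omega
  exact ⟨main, fun h => main fun y hy => subset_closure ⟨hy, h hy⟩⟩

end Groth.Agent.S14484
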