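import Groth.Statements.S14485
import Groth.Agent.CharCycDim.Extra

set_option autoImplicit false
universe u
open CategoryTheory CategoryTheory.Limits AlgebraicGeometry
open CharCyc

namespace Groth.Agent.S14485

/-- Let k be a field and let f : X → S be a morphism between separated k-schemes of finite type. Two
closed subsets Y, Z of X are said to well intersect with respect to f when dim(Y ×_S Z ∖ Y ×_X Z) ≤
dim Y + dim Z − dim S; here Y ×_S Z ∖ Y ×_X Z is taken as the subspace of X ×_S X of points whose
two projections lie in Y and in Z and which are not in the image of the diagonal, and the inequality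
is written additively as dim(Y ×_S Z ∖ Y ×_X Z) + dim S ≤ dim Y + dim Z (topological Krull
dimensions, the empty space having dimension ⊥). Let Y, Z ⊆ X be closed subsets, and let g : S' → S
be faithfully flat with every fibre of dimension d (relative constant dimension d), where S' is
again a separated k-scheme of finite type. Write f' : X' = X ×_S S' → S' for the base change and Y',
Z' ⊆ X' for the preimages of Y, Z. Then well-intersection of Y, Z with respect to f is equivalent to
well-intersection of Y', Z' with respect to f'. -/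
theorem result (k : Type u) [Field k] (X S S' : Scheme.{u})
    (q : S ⟶ Spec (CommRingCat.of k)) (f : X ⟶ S) (g : S' ⟶ S)
    [LocallyOfFiniteType q] [CompactSpace S] [IsSeparated q] [LocallyOfFiniteType f] [CompactSpace X] [IsSeparated f]
    [LocallyOfFiniteType g] [CompactSpace S'] [IsSeparated g] [Flat g] [Surjective g]
    (d : ℕ) (hd : ∀ s : S, topologicalKrullDim (g.fiber s) = d)
    (Y Z : Set X) (hYc : IsClosed Y) (hZc : IsClosed Z) :
    (topologicalKrullDim {p : ↥(pullback f f) | pullback.fst f f p ∈ Y ∧ pullback.snd f f p ∈ Z ∧ p ∉ Set.range (pullback.diagonal f)} + topologicalKrullDim S ≤ topologicalKrullDim Y + topologicalKrullDim Z) ↔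
      (topologicalKrullDim {p : ↥(pullback (pullback.snd f g) (pullback.snd f g)) | pullback.fst (pullback.snd f g) (pullback.snd f g) p ∈ ((pullback.fst f g) ⁻¹' Y) ∧ pullback.snd (pullback.snd f g) (pullback.snd f g) p ∈ ((pullback.fst f g) ⁻¹' Z) ∧ p ∉ Set.range (pullback.diagonal (pullback.snd f g))} + topologicalKrullDim S' ≤ topologicalKrullDim ((pullback.fst f g) ⁻¹' Y) + topologicalKrullDim ((pullback.fst f g) ⁻¹' Z)) := by
  haveI : LocallyOfFiniteType (Groth.Agent.CharCycDim.pairMap f g) :=
    MorphismProperty.of_isPullback (P := @LocallyOfFiniteType)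
      (Groth.Agent.CharCycDim.isPullback_pairMap f g) inferInstance
  have hX : ∀ T : Set X, IsClosed T → topologicalKrullDim (pullback.fst f g ⁻¹' T) =
      topologicalKrullDim T + (d : WithBot ℕ∞) := fun T hT =>
    Groth.Agent.CharCycDim.dim_preimage_eq_add g d hd (Φ := pullback.fst f g) (IsPullback.of_hasPullback f g).flip (f ≫ q) hT.isLocallyClosed
  have hS : topologicalKrullDim S' = topologicalKrullDim S + (d : WithBot ℕ∞) := by
    have h := Groth.Agent.CharCycDim.dim_preimage_eq_add g d hd (Φ := g) (a := 𝟙 S') (b := 𝟙 S) IsPullback.of_id_fst q (T := Set.univ)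
      isClosed_univ.isLocallyClosed
    rw [Set.preimage_univ, IsHomeomorph.topologicalKrullDim_eq _ (Homeomorph.Set.univ S').isHomeomorph,
      IsHomeomorph.topologicalKrullDim_eq _ (Homeomorph.Set.univ S).isHomeomorph] at h
    exact h
  have hE := Groth.Agent.CharCycDim.dim_preimage_eq_add g d hd (Groth.Agent.CharCycDim.isPullback_pairMap f g) (pullback.fst f f ≫ f ≫ q)
    (Groth.Agent.CharCycDim.isLocallyClosed_offDiag f hYc hZc)
  have hpre : {p : ↥(pullback (pullback.snd f g) (pullback.snd f g)) |
      pullback.fst (pullback.snd f g) (pullback.snd f g) p ∈ ((pullback.fst f g) ⁻¹' Y) ∧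
      pullback.snd (pullback.snd f g) (pullback.snd f g) p ∈ ((pullback.fst f g) ⁻¹' Z) ∧
      p ∉ Set.range (pullback.diagonal (pullback.snd f g))} =
      Groth.Agent.CharCycDim.pairMap f g ⁻¹' {p : ↥(pullback f f) | pullback.fst f f p ∈ Y ∧
        pullback.snd f f p ∈ Z ∧ p ∉ Set.range (pullback.diagonal f)} := by
    ext p
    have e1 : pullback.fst f f (Groth.Agent.CharCycDim.pairMap f g p) =
        pullback.fst f g (pullback.fst (pullback.snd f g) (pullback.snd f g) p) := by
      rw [← Scheme.Hom.comp_apply, Groth.Agent.CharCycDim.pairMap_fst, Scheme.Hom.comp_apply]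
    have e2 : pullback.snd f f (Groth.Agent.CharCycDim.pairMap f g p) =
        pullback.fst f g (pullback.snd (pullback.snd f g) (pullback.snd f g) p) := by
      rw [← Scheme.Hom.comp_apply, Groth.Agent.CharCycDim.pairMap_snd, Scheme.Hom.comp_apply]
    have e3 := Groth.Agent.CharCycDim.range_eq_preimage_of_isPullback
      (Groth.Agent.CharCycDim.isPullback_diag f g)
    simp only [Set.mem_preimage, Set.mem_ofPred_eq, e1, e2, e3]
  rw [hpre, hE, hX Y hYc, hX Z hZc, hS, add_add_add_comm, ← Nat.cast_add,
    add_add_add_comm (topologicalKrullDim Y), ← Nat.cast_add,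
    Groth.Agent.CharCycDim.add_nat_le_add_nat_iff]

end Groth.Agent.S14485
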