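import Groth.Statements.S14486
import Groth.Agent.Lib.CurveOnSurf
import Groth.Agent.Lib.SmoothDuality
import Groth.Agent.Lib.CurveRR
import Groth.Agent.CurveFin.RelDim
import Groth.Agent.CurveCohLib.RegularCurve
import Groth.Agent.PnCoh.Chow.Proper

set_option autoImplicit false
set_option backward.isDefEq.respectTransparency false
set_option backward.isDefEq.respectTransparency.types false
set_option linter.style.haveILetI false
set_option linter.unusedSectionVars false
set_option maxHeartbeats 400000
universe u
open CategoryTheory CategoryTheory.Limits AlgebraicGeometry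
open Surf

namespace Groth.Agent.S14486

open Groth.Agent.H23
set_option maxHeartbeats 300000

/-- Let k be an algebraically closed field and X a projective K3 surface over k: an integral scheme of
dimension two with all local rings regular, admitting a closed immersion into some P^n_k over k,
whose structure sheaf O_X is a second exterior power of Ω_{X/k} (the canonical sheaf is trivial) and
with H^1(X, O_X) = 0. Let C be a nonsingular curve of genus g on X: an integral closed subscheme of
dimension one with all local rings regular, with ideal sheaf I ⊆ O_X and g = dim_k H^1(C, O_C); let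
M be an inverse of I for the tensor product (M = O_X(C)). Then C² = 2g - 2 and h^0(X, O_X(C)) = g +
1. Writing (L·L') for the intersection number χ(O_X) - χ(L) - χ(L') + χ(L ⊗ L') of two invertible
modules (packaged as FGA.intNum), C² = (I·I), so the assertion reads (I·I) = 2g - 2 and dim_k H^0(X,
M) = g + 1. (A K3 surface is only required to be proper; this row assumes the projective embedding.) -/
theorem result (k : Type u) [Field k] [IsAlgClosed k] (X : Scheme.{u})
    [X.Over (Spec (CommRingCat.of k))] [IsIntegral X] (hdim : topologicalKrullDim X = 2)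
    (hreg : ∀ x : X, IsRegularLocalRing (X.presheaf.stalk x))
    (hproj : ∃ (n : ℕ) (ι : X ⟶ CohB1.ProjSpace n k), IsClosedImmersion ι ∧
      ι ≫ CohB1.ProjSpace.toSpec n k = (X ↘ (Spec (CommRingCat.of k))))
    (hK : ExtPow.IsExtPow 2 (Omega.sheaf (X ↘ (Spec (CommRingCat.of k)))) (Coh.structureModule X))
    (hH1 : Subsingleton (Coh.HH X (Coh.structureModule X) 1))
    (C : Scheme.{u}) (i : C ⟶ X) [IsClosedImmersion i] [IsIntegral C] (hC : topologicalKrullDim C = 1)
    (hCreg : ∀ c : C, IsRegularLocalRing (C.presheaf.stalk c))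
    (M : X.Modules) (hM : ClSub.IsInverseOf M (ClSub.idealMod i.ker)) :
    letI : C.Over (Spec (CommRingCat.of k)) := ⟨i ≫ (X ↘ (Spec (CommRingCat.of k)))⟩
    FGA.intNum k X 2 ![ClSub.idealMod i.ker, ClSub.idealMod i.ker] (Coh.structureModule X) =
        2 * (Curv2.genus k C : ℤ) - 2 ∧
      Module.finrank k (Coh.HH X M 0) = Curv2.genus k C + 1 := by
  letI := PicMul.clMonoid (X := X)
  letI : C.Over (Spec (CommRingCat.of k)) := ⟨i ≫ (X ↘ (Spec (CommRingCat.of k)))⟩
  obtain ⟨N, ι, hi, hι⟩ := hproj
  haveI := hi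
  haveI := PnCoh.Chow.isProper_toSpec N k
  haveI : IsProper (X ↘ Spec (CommRingCat.of k)) := hι ▸ inferInstance
  haveI := CurveCohLib.RegularCurve.smooth_of_regular k (X := X) fun x _ => hreg x
  haveI := CurveFin.smoothOfRelativeDimension_of_dim (f := X ↘ Spec (CommRingCat.of k)) (d := 2) hdim
  haveI : IsProper (C ↘ Spec (CommRingCat.of k)) :=
    show IsProper (i ≫ (X ↘ Spec (CommRingCat.of k))) from inferInstance
  haveI : Smooth (C ↘ Spec (CommRingCat.of k)) := CurveCohLib.RegularCurve.smooth_of_regular k (X := C) fun x _ => hCreg x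
  haveI := CurveCohLib.isNoetherian_of_proper (k := k) (X := X)
  haveI : X.IsSeparated := ⟨by
    rw [← Limits.terminal.comp_from (X ↘ Spec (CommRingCat.of k))]
    infer_instance⟩
  have hd : topologicalKrullDim ↥X ≤ (2 : ℕ) := hdim.le
  have hO := InvX.isInvertible_structureModule (X := X)
  have hI := CurveOnSurf.isInvertible_ideal (X ↘ Spec (CommRingCat.of k)) hdim hreg i hC
  obtain ⟨hMi, hMI⟩ := CurveOnSurf.isInvertible_of_inverse hI hM
  have hIM : PicF.cl (ClSub.idealMod i.ker) * PicF.cl M = 1 := (mul_comm _ _).trans hMI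
  have hRR : ∀ {L : X.Modules}, PicF.IsInvertible L →
      2 * Curv2.euler k X L = SurfPairing.pair k (PicF.cl L) (PicF.cl L) + 2 * Curv2.euler k X (Coh.structureModule X) := by
    intro L hL
    rw [SmoothDuality.riemann_roch ι hι hK hL, SurfPairing.intNum_eq_pair k hd hL hL,
      SurfPairing.intNum_eq_pair k hd hL hO, ← PicMul.one_def, SurfPairing.pair_one]
    ring
  have h1 := hRR hI
  have h2 := hRR hMi
  have hχ := CurveOnSurf.euler_ideal (k := k) i
  have hχC := CurveRR.euler_structureModule (k := k) (X := C) hC.le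
  have hMM : SurfPairing.pair k (PicF.cl M) (PicF.cl M) =
      SurfPairing.pair k (PicF.cl (ClSub.idealMod i.ker)) (PicF.cl (ClSub.idealMod i.ker)) := by
    rw [SurfPairing.pair_inv k hd hMi hI hMi hIM, SurfPairing.pair_comm k (PicF.cl M),
      SurfPairing.pair_inv k hd hI hI hMi hIM]
    ring
  refine ⟨?_, ?_⟩
  · rw [SurfPairing.intNum_eq_pair k hd hI hI]
    linarith
  haveI : Nonempty i.ker.subscheme := ⟨i.toImage (Classical.arbitrary C)⟩
  haveI : ConnectedSpace C := inferInstance
  haveI : IsLocallyNoetherian C := LocallyOfFiniteType.isLocallyNoetherian i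
  have hOC : Coh.IsCoh (Coh.structureModule C) := AmpleVan.isCoh_invertible InvX.isInvertible_structureModule
  obtain ⟨eq⟩ := DivisorExt.nonempty_quotMod_iso i
  obtain ⟨a⟩ := PnCoh.exists_linearEquiv_push k i rfl hOC.1 0
  have hq0 : Module.finrank k (Coh.HH X (ClSub.quotMod i.ker) 0) = 1 :=
    ((CurveCohLib.hhEquiv (k := k) eq 0).finrank_eq.trans a.finrank_eq.symm).trans (CurveCohLib.finrank_h0_eq_one k C)
  have hI0 := CurveOnSurf.finrank_h0_ideal (k := k) i.ker
  have hI1 := CurveOnSurf.finrank_h1_ideal (k := k) i.ker hq0 hH1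
  obtain ⟨m⟩ : Nonempty (CohB1.tensorMod M (Coh.structureModule X) ≅ M) := ⟨KFlatLib.tensorUnitIso M⟩
  have hd0 : Module.finrank k (Coh.HH X M 2) = 0 :=
    (CurveCohLib.hhEquiv (k := k) m 2).finrank_eq.symm.trans
      ((SmoothDuality.finrank_dual ι hι hK hI hIM 0 (Nat.zero_le 2)).trans hI0)
  have hd1 : Module.finrank k (Coh.HH X M 1) = 0 :=
    (CurveCohLib.hhEquiv (k := k) m 1).finrank_eq.symm.trans
      ((SmoothDuality.finrank_dual ι hι hK hI hIM 1 one_le_two).trans hI1)
  obtain ⟨m'⟩ : Nonempty (CohB1.tensorMod (Coh.structureModule X) (Coh.structureModule X) ≅ Coh.structureModule X) := ⟨KFlatLib.tensorUnitIso (Coh.structureModule X)⟩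
  have hOO : PicF.cl (Coh.structureModule X) * PicF.cl (Coh.structureModule X) = (1 : PicF.Cl X) :=
    (congrArg (· * PicF.cl (Coh.structureModule X)) (PicMul.one_def (X := X)).symm).trans (one_mul _)
  have hd2 : Module.finrank k (Coh.HH X (Coh.structureModule X) 2) = 1 :=
    (CurveCohLib.hhEquiv (k := k) m' 2).finrank_eq.symm.trans
      ((SmoothDuality.finrank_dual ι hι hK hO hOO 0 (Nat.zero_le 2)).trans (CurveCohLib.finrank_h0_eq_one k X))
  have hv : ∀ {L : X.Modules}, PicF.IsInvertible L → ∀ n, 3 ≤ n → Subsingleton (Coh.HH X L n) := fun hL n hn =>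
    Snapper.subsingleton_HH_of_dim_le (d := 2) hd (AmpleVan.isCoh_invertible hL).1 (by omega)
  have eO := Euler.euler_eq_sum k (Coh.structureModule X) 3 (hv hO)
  have eM := Euler.euler_eq_sum k M 3 (hv hMi)
  haveI := hH1
  simp only [Finset.sum_range_succ, Finset.sum_range_zero, hd0, hd1, hd2, CurveCohLib.finrank_h0_eq_one k X,
    Module.finrank_zero_of_subsingleton (R := k) (M := Coh.HH X (Coh.structureModule X) 1)] at eO eM
  push_cast at eO eM
  ring_nf at eO eM
  omega

end Groth.Agent.S14486
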