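import Groth.Statements.S1449
import Groth.Agent.MorLib.WeightDeg
import Groth.Agent.MorLib.RankDiscrete

set_option autoImplicit false
universe u
open FlatMor

namespace Groth.Agent.S1449

open AlgebraicGeometry CategoryTheory Limits

section
variable {X S : Scheme.{u}} (f : X ⟶ S)

/-- An affine open mapping into an affine open. -/
def Good : Type u := {W : X.affineOpens // ∃ U : S.Opens, IsAffineOpen U ∧ (W.1 : X.Opens) ≤ f ⁻¹ᵁ U}

theorem exists_good (x : X) : ∃ W : Good f, x ∈ W.1.1 := by
  obtain ⟨U, hU, hxU, -⟩ := exists_isAffineOpen_mem_and_subset (x := f x) (U := ⊤) trivial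
  obtain ⟨W, hW, hxW, hWU⟩ := exists_isAffineOpen_mem_and_subset (x := x) (U := f ⁻¹ᵁ U) hxU
  exact ⟨⟨⟨W, hW⟩, U, hU, hWU⟩, hxW⟩

/-- A finite union of good opens. -/
def big (F : Finset (Good f)) : X.Opens := ⨆ W ∈ F, W.1.1

theorem mem_big {F : Finset (Good f)} {x : X} : x ∈ big f F ↔ ∃ W ∈ F, x ∈ W.1.1 := by
  simp [big, TopologicalSpace.Opens.mem_iSup]

set_option backward.isDefEq.respectTransparency.types false in
theorem finite_big [LocallyQuasiFinite f] (F : Finset (Good f)) (s : S) :
    (((big f F).ι ≫ f) ⁻¹' {s}).Finite := by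
  have h : ∀ W : Good f, {x : X | x ∈ W.1.1 ∧ f x = s}.Finite := by
    intro W
    obtain ⟨U, hU, hle⟩ := W.2
    by_cases hs : s ∈ U
    · haveI : IsAffine (W.1.1 : Scheme.{u}) := W.1.2
      haveI : IsAffine (U : Scheme.{u}) := hU
      let g' := f.resLE U W.1.1 hle
      haveI : LocallyQuasiFinite (g' ≫ U.ι) := by rw [Scheme.Hom.resLE_comp_ι]; infer_instance
      haveI : LocallyQuasiFinite g' := LocallyQuasiFinite.of_comp g' U.ι
      refine ((g'.finite_preimage_singleton ⟨s, hs⟩).image W.1.1.ι).subset ?_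
      rintro x ⟨hx, rfl⟩
      refine ⟨⟨x, hx⟩, Subtype.ext ?_, rfl⟩
      show U.ι (g' ⟨x, hx⟩) = f x
      rw [← Scheme.Hom.comp_apply, Scheme.Hom.resLE_comp_ι]
      rfl
    · refine Set.finite_empty.subset fun x ⟨hx, hxs⟩ => hs ?_
      rw [← hxs]; exact hle hx
  refine Set.Finite.of_finite_image ?_ (big f F).ι.isOpenEmbedding.injective.injOn
  refine (F.finite_toSet.biUnion fun W _ => h W).subset ?_
  rintro _ ⟨z, hz, rfl⟩
  obtain ⟨W, hW, hzW⟩ := (mem_big f).mp z.2
  exact Set.mem_iUnion₂.mpr ⟨W, hW, hzW, hz⟩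

variable [Flat f] [LocallyOfFinitePresentation f] [IsSeparated f] [LocallyQuasiFinite f]

noncomputable def degOn (F : Finset (Good f)) (s : S) : ℕ :=
  Groth.Agent.MorLib.WT.deg ((big f F).ι ≫ f) s

theorem isOpen_le_degOn (F : Finset (Good f)) (d : ℕ) : IsOpen {s : S | d ≤ degOn f F s} := by
  rcases d with _ | d
  · simp
  · have := (Groth.Agent.MorLib.WT.isClosed_deg_le (f := (big f F).ι ≫ f) (finite_big f F) d).isOpen_compl
    refine (congrArg IsOpen ?_).mp this
    refine Set.ext fun s => ?_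
    show ¬ (degOn f F s ≤ d) ↔ d + 1 ≤ degOn f F s
    omega

set_option backward.isDefEq.respectTransparency.types false in
theorem key (K : Type u) [Field K] (g : Spec (CommRingCat.of K) ⟶ S)
    (y : Spec (CommRingCat.of K)) (d : ℕ) :
    (∃ F, d ≤ degOn f F (g y)) ↔ (d : Cardinal.{u}) ≤ (letI := ((Scheme.ΓSpecIso (CommRingCat.of K)).inv ≫ (pullback.snd f g).appTop).hom.toAlgebra
        Module.rank K (Γ(pullback f g, ⊤) : Type u)) := by
  classical
  haveI : IsLocallyArtinian (Spec (CommRingCat.of K)) :=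
    Scheme.isLocallyArtinianScheme_Spec.mpr inferInstance
  haveI : LocallyQuasiFinite (pullback.snd f g) := MorphismProperty.pullback_snd _ _ inferInstance
  haveI : IsLocallyArtinian (pullback f g) := .of_locallyQuasiFinite (pullback.snd f g)
  have hr : ∀ F, (degOn f F (g y) : Cardinal.{u}) = (letI := ((Scheme.ΓSpecIso (CommRingCat.of K)).inv ≫ (pullback.snd ((big f F).ι ≫ f) g).appTop).hom.toAlgebra
        Module.rank K (Γ(pullback ((big f F).ι ≫ f) g, ⊤) : Type u)) := fun F => by
    rw [Groth.Agent.MorLib.WT.rank_fibre (finite_big f F) g y,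
      Groth.Agent.MorLib.WT.finrank_fibre_eq_deg (finite_big f F) g y]
    rfl
  let j : ∀ F, pullback ((big f F).ι ≫ f) g ⟶ pullback f g := fun F =>
    pullback.map _ _ _ _ (big f F).ι (𝟙 _) (𝟙 S) (by rw [Category.comp_id]) (by simp)
  have hj : ∀ F, (Scheme.ΓSpecIso (CommRingCat.of K)).inv ≫ (pullback.snd f g).appTop ≫ (j F).appTop
      = (Scheme.ΓSpecIso (CommRingCat.of K)).inv ≫ (pullback.snd ((big f F).ι ≫ f) g).appTop := by
    intro F
    rw [← Scheme.Hom.comp_appTop, pullback.lift_snd, Category.comp_id]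
  have hjr : ∀ F a, pullback.fst f g a ∈ big f F → a ∈ Set.range (j F) := by
    intro F a ha
    rw [Scheme.Pullback.range_map]
    exact ⟨⟨⟨_, ha⟩, rfl⟩, pullback.snd f g a, rfl⟩
  constructor
  · rintro ⟨F, hF⟩
    refine (Nat.cast_le.mpr hF).trans ?_
    rw [hr]
    exact Groth.Agent.MorLib.RD.rank_le (j F) K _ _ (by rw [Category.assoc]; exact hj F)
  · intro hd
    choose W hW using fun a : ↥(pullback f g) => exists_good f (pullback.fst f g a)
    rcases finite_or_infinite ↥(pullback f g) with hfin | hinf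
    · let := Fintype.ofFinite ↥(pullback f g)
      refine ⟨Finset.univ.image W, ?_⟩
      rw [← Nat.cast_le (α := Cardinal.{u}), hr]
      haveI : Surjective (j (Finset.univ.image W)) := ⟨fun a => hjr _ a ((mem_big f).mpr
        ⟨W a, Finset.mem_image_of_mem _ (Finset.mem_univ a), hW a⟩)⟩
      haveI : IsIso (j (Finset.univ.image W)) :=
        (isIso_iff_isOpenImmersion_and_surjective _).mpr ⟨inferInstance, inferInstance⟩
      exact hd.trans (Groth.Agent.MorLib.RD.rank_le_of_iso (j _) K _ _ (by rw [Category.assoc]; exact hj _))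
    · obtain ⟨A, hA⟩ := Infinite.exists_subset_card_eq ↥(pullback f g) d
      refine ⟨A.image W, ?_⟩
      rw [← Nat.cast_le (α := Cardinal.{u}), hr]
      haveI : DiscreteTopology ↥(pullback ((big f (A.image W)).ι ≫ f) g) :=
        (j (A.image W)).isOpenEmbedding.discreteTopology
      choose b hb using fun a : A => hjr (A.image W) a.1 ((mem_big f).mpr
        ⟨W a.1, Finset.mem_image_of_mem _ a.2, hW a.1⟩)
      refine le_of_eq_of_le ?_ (Groth.Agent.MorLib.RD.card_le_rank K _ (Finset.univ.image b))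
      rw [Finset.card_image_of_injective _ fun a a' h => Subtype.ext ((hb a).symm.trans
        ((congrArg _ h).trans (hb a'))), Finset.card_univ, Fintype.card_coe, hA]

end


open AlgebraicGeometry CategoryTheory Limits in
/-- Consider a separated, flat, locally quasi-finite morphism f : X → S which is locally of finite
presentation. Then there are opens S = U_0 ⊇ U_1 ⊇ U_2 ⊇ ... of S with the property that a morphism
from the spectrum of a field to S lands in U_d exactly when the base change of X to that field has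
rank (of its ring of global functions over the field) at least d. -/
theorem result {X S : Scheme.{u}} (f : X ⟶ S) [Flat f] [LocallyOfFinitePresentation f] [IsSeparated f] [LocallyQuasiFinite f] :
    ∃ U : ℕ → S.Opens, Antitone U ∧ U 0 = ⊤ ∧ ∀ (K : Type u) [Field K] (g : Spec (CommRingCat.of K) ⟶ S) (d : ℕ),
      Set.range ⇑g ⊆ (U d : Set ↑S) ↔ (d : Cardinal.{u}) ≤ (letI := ((Scheme.ΓSpecIso (CommRingCat.of K)).inv ≫ (pullback.snd f g).appTop).hom.toAlgebra
        Module.rank K (Γ(pullback f g, ⊤) : Type u)) := by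
  refine ⟨fun d => ⟨⋃ F : Finset (Good f), {s | d ≤ degOn f F s},
      isOpen_iUnion fun F => isOpen_le_degOn f F d⟩, ?_, ?_, ?_⟩
  · intro d e hde s hs
    obtain ⟨F, hF⟩ := Set.mem_iUnion.mp hs
    exact Set.mem_iUnion.mpr ⟨F, le_trans hde hF⟩
  · ext s
    simp
  · intro K _ g d
    let y : Spec (CommRingCat.of K) := IsLocalRing.closedPoint K
    haveI : Subsingleton ↥(Spec (CommRingCat.of K)) := inferInstanceAs (Subsingleton (PrimeSpectrum K))
    rw [← key f K g y d]
    constructor
    · intro h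
      obtain ⟨F, hF⟩ := Set.mem_iUnion.mp (h ⟨y, rfl⟩)
      exact ⟨F, hF⟩
    · rintro ⟨F, hF⟩ _ ⟨z, rfl⟩
      rw [Subsingleton.elim z y]
      exact Set.mem_iUnion.mpr ⟨F, hF⟩

end Groth.Agent.S1449
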