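import Groth.Statements.S14494
import Groth.Agent.IndCofLib.Cofinite

set_option autoImplicit false
set_option backward.isDefEq.respectTransparency false
set_option backward.isDefEq.respectTransparency.types false
universe v
open IndCof

namespace Groth.Agent.S14494

open CategoryTheory CategoryTheory.Limits in
/-- Let C be a small abelian category all of whose objects are Artinian and killed by some power of a
prime p, and let A be an ind-object of C of cofinite type (every A[p^n] is isomorphic to an object
of C). Then the decreasing sequence of sub-objects ⋯ ⊆ p²A ⊆ pA ⊆ A stabilizes: the image of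
multiplication by p^n on A is the same sub-object for all large n. -/
theorem result {C : Type v} [SmallCategory C] [Abelian C]
    (hart : ∀ X : C, IsArtinianObject X) (p : ℕ) (hp : p.Prime)
    (htor : ∀ X : C, ∃ n : ℕ, (p ^ n) • 𝟙 X = 0)
    (A : Ind C) (hA : ∀ n : ℕ, (Ind.yoneda (C := C)).essImage (kernel ((p ^ n) • 𝟙 A))) :
    ∃ N : ℕ, ∀ n : ℕ, N ≤ n →
      imageSubobject ((p ^ n) • 𝟙 A) = imageSubobject ((p ^ N) • 𝟙 A) := by
  open Groth.Agent.IndCofLib CategoryTheory CategoryTheory.Limits in
  obtain ⟨N, hN⟩ := exists_stable_self hart p hA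
  refine ⟨N, fun n hn => le_antisymm ?_ ?_⟩
  · obtain ⟨d, rfl⟩ := Nat.exists_eq_add_of_le hn
    rw [show (p ^ (N + d)) • 𝟙 A = ((p ^ d) • 𝟙 A) ≫ ((p ^ N) • 𝟙 A) by
      rw [Preadditive.comp_nsmul, Category.comp_id, smul_smul, pow_add]]
    exact imageSubobject_comp_le _ _
  · refine le_of_elements _ _ fun X x => ?_
    obtain ⟨X₁, π₁, _, a, ha⟩ := exists_lift (factorThruImageSubobject ((p ^ N) • 𝟙 A)) x
    obtain ⟨k, hk⟩ := htor X₁
    have hak : p ^ k • a = 0 := by
      rw [← Category.id_comp a, ← y.map_id X₁, ← Preadditive.nsmul_comp, ← y.map_nsmul, hk, y.map_zero, zero_comp]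
    obtain ⟨X₂, π₂, _, z, hz, -⟩ := hN k X₁ a hak n
    refine ⟨X₂, π₂ ≫ π₁, inferInstance, z ≫ factorThruImageSubobject ((p ^ n) • 𝟙 A), ?_⟩
    rw [Category.assoc, imageSubobject_arrow_comp, Preadditive.comp_nsmul, Category.comp_id, hz, Functor.map_comp,
      Category.assoc, ← reassoc_of% ha, imageSubobject_arrow_comp, Preadditive.comp_nsmul, Category.comp_id,
      Preadditive.comp_nsmul]

end Groth.Agent.S14494
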