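import Groth.Statements.S14495
import Groth.Agent.IndCofLib.Cofinite

set_option autoImplicit false
set_option backward.isDefEq.respectTransparency false
set_option backward.isDefEq.respectTransparency.types false
universe v
open IndCof

namespace Groth.Agent.S14495

open CategoryTheory CategoryTheory.Limits in
/-- Let C be a small abelian category all of whose objects are Artinian and killed by some power of a
prime p. The abelian category of ind-objects of C of cofinite type (those A with every A[p^n]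
isomorphic to an object of C) is Artinian: for A of cofinite type, every decreasing chain of
sub-objects of A in Ind C whose underlying objects are of cofinite type is eventually constant.
(Sub-objects of A in the full subcategory of cofinite-type objects are exactly such sub-objects,
since that subcategory is stable under kernels in Ind C.) -/
theorem result {C : Type v} [SmallCategory C] [Abelian C]
    (hart : ∀ X : C, IsArtinianObject X) (p : ℕ) (hp : p.Prime)
    (htor : ∀ X : C, ∃ n : ℕ, (p ^ n) • 𝟙 X = 0)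
    (A : Ind C) (hA : ∀ n : ℕ, (Ind.yoneda (C := C)).essImage (kernel ((p ^ n) • 𝟙 A))) (S : ℕ → Subobject A) (hS : Antitone S)
    (hcof : ∀ m n : ℕ, (Ind.yoneda (C := C)).essImage
      (kernel ((p ^ n) • 𝟙 ((S m : Subobject A) : Ind C)))) :
    ∃ N : ℕ, ∀ m : ℕ, N ≤ m → S m = S N := by
  open Groth.Agent.IndCofLib CategoryTheory CategoryTheory.Limits in
  obtain ⟨M₀, hM₀⟩ := exists_stable hart (A := A) p (by simpa using hA 1) (fun m => (S m : Ind C))
    (fun m => (S m).arrow) (fun a b hab => ⟨Subobject.ofLE _ _ (hS hab), Subobject.ofLE_arrow _⟩) (fun m k => hcof m k)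
  let φ : ∀ m, Tors (S m : Ind C) (p ^ M₀) ⟶ Tors A (p ^ M₀) := fun m =>
    tlift _ (tι _ _ ≫ (S m).arrow) (by rw [← Preadditive.nsmul_comp, nsmul_tι, zero_comp])
  obtain ⟨M₁, hM₁⟩ := exists_image_stable hart (hA M₀) (fun m => Tors (S m : Ind C) (p ^ M₀)) (fun m => hcof m M₀) φ
    fun m => ⟨tlift _ (tι _ _ ≫ Subobject.ofLE _ _ (hS m.le_succ)) (by rw [← Preadditive.nsmul_comp, nsmul_tι, zero_comp]),
      by
        rw [← cancel_mono (tι A _)]
        simp only [φ, Category.assoc, tlift_tι, tlift_tι_assoc, Subobject.ofLE_arrow]⟩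
  refine ⟨max M₀ M₁, fun m hm => le_antisymm (hS hm) (le_of_elements _ _ fun X x => ?_)⟩
  obtain ⟨k, hk⟩ := htor X
  let x₀ := x ≫ Subobject.ofLE _ _ (hS (le_max_left M₀ M₁))
  have hx₀ : p ^ k • x₀ = 0 := by
    rw [← Category.id_comp x₀, ← y.map_id X, ← Preadditive.nsmul_comp, ← y.map_nsmul, hk, y.map_zero, zero_comp]
  obtain ⟨X₁, π₁, _, z, hz, -⟩ := hM₀ k X x₀ hx₀ m M₀ (le_trans (le_max_left _ _) hm)
  let t : y.obj X₁ ⟶ (S (max M₀ M₁) : Ind C) := y.map π₁ ≫ x - z ≫ Subobject.ofLE _ _ (hS hm)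
  have ht : p ^ M₀ • t = 0 := by
    rw [← cancel_mono (S (max M₀ M₁)).arrow, zero_comp, Preadditive.nsmul_comp]
    simp only [t, Preadditive.sub_comp, Category.assoc, Subobject.ofLE_arrow, smul_sub]
    rw [hz]
    simp only [x₀, Category.assoc, Subobject.ofLE_arrow, sub_self]
  let t₁ : y.obj X₁ ⟶ Tors (S M₁ : Ind C) (p ^ M₀) :=
    tlift _ (t ≫ Subobject.ofLE _ _ (hS (le_max_right M₀ M₁))) (by rw [← Preadditive.nsmul_comp, ht, zero_comp])
  obtain ⟨X₂, π₂, _, w, hw⟩ := hM₁ m (le_trans (le_max_right _ _) hm) X₁ t₁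
  have hw' := congrArg (· ≫ tι A (p ^ M₀)) hw
  simp only [φ, t₁, t, Category.assoc, tlift_tι, tlift_tι_assoc, Subobject.ofLE_arrow, Preadditive.sub_comp,
    Preadditive.comp_sub] at hw'
  refine ⟨X₂, π₂ ≫ π₁, inferInstance, w ≫ tι _ _ + y.map π₂ ≫ z, ?_⟩
  simp only [Preadditive.add_comp, Category.assoc, hw', Functor.map_comp]
  abel

end Groth.Agent.S14495
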