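import Groth.Statements.S14496
import Groth.Agent.IndCofLib.Cofinite

set_option autoImplicit false
set_option backward.isDefEq.respectTransparency false
set_option backward.isDefEq.respectTransparency.types false
universe v
open IndCof

namespace Groth.Agent.S14496

open CategoryTheory CategoryTheory.Limits in
/-- Let C be a small abelian category all of whose objects are Artinian and killed by some power of a
prime p, and A an ind-object of C of cofinite type. Let N be such that p^n A = p^N A for all n ≥ N,
so that the divisible part A_div = ⋂ p^n A equals p^N A. Then A_div is of cofinite type and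
divisible (multiplication by p on it is an epimorphism; integers prime to p act invertibly on every
ind-object here, so this is divisibility by all positive integers); it is the largest divisible
sub-object of A; and A / A_div is the largest quotient of A lying in C: every epimorphism from A
onto an object isomorphic to an object of C vanishes on A_div. (The row takes the stabilization
index N as a hypothesis instead of forming the intersection; that A / A_div itself lies in C is the
statement about A / p^N A and is not repeated here.) -/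
theorem result {C : Type v} [SmallCategory C] [Abelian C]
    (hart : ∀ X : C, IsArtinianObject X) (p : ℕ) (hp : p.Prime)
    (htor : ∀ X : C, ∃ n : ℕ, (p ^ n) • 𝟙 X = 0)
    (A : Ind C) (hA : ∀ n : ℕ, (Ind.yoneda (C := C)).essImage (kernel ((p ^ n) • 𝟙 A))) (N : ℕ)
    (hN : ∀ n : ℕ, N ≤ n → imageSubobject ((p ^ n) • 𝟙 A) = imageSubobject ((p ^ N) • 𝟙 A)) :
    (∀ n : ℕ, (Ind.yoneda (C := C)).essImage
        (kernel ((p ^ n) • 𝟙 ((imageSubobject ((p ^ N) • 𝟙 A) : Subobject A) : Ind C)))) ∧
      Epi (p • 𝟙 ((imageSubobject ((p ^ N) • 𝟙 A) : Subobject A) : Ind C)) ∧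
      (∀ D : Subobject A, Epi (p • 𝟙 (D : Ind C)) → D ≤ imageSubobject ((p ^ N) • 𝟙 A)) ∧
      (∀ (Q : Ind C) (q : A ⟶ Q), Epi q → (Ind.yoneda (C := C)).essImage Q →
        (imageSubobject ((p ^ N) • 𝟙 A)).arrow ≫ q = 0) := by
  open Groth.Agent.IndCofLib CategoryTheory CategoryTheory.Limits in
  have htor' : ∀ X : C, ∃ l : ℕ, 0 < l ∧ l • 𝟙 X = 0 := fun X => by
    obtain ⟨l, hl⟩ := htor X
    exact ⟨p ^ l, pow_pos hp.pos l, hl⟩
  refine ⟨fun n => ?_, ?_, fun D hD => ?_, fun Q q _ hQ => ?_⟩
  · let e : cokernel (kernel.ι ((p ^ N) • 𝟙 A)) ≅ (imageSubobject ((p ^ N) • 𝟙 A) : Ind C) :=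
      Abelian.coimageIsoImage' ((p ^ N) • 𝟙 A) ≪≫ (imageSubobjectIso _).symm
    refine small_of_iso (torsIso e (p ^ n)) (small_tors_cokernel hart htor'
      (A := kernel ((p ^ N) • 𝟙 A)) (n := p ^ n) (fun k => ?_) (fun k => ?_) _)
    · rw [← pow_mul]
      exact small_tors_kernel _ (hA _) (hA _)
    · rw [← pow_mul]
      exact hA _
  · refine epi_of_elements _ fun X x => ?_
    obtain ⟨X₁, π₁, _, a, ha⟩ := exists_lift (factorThruImageSubobject ((p ^ N) • 𝟙 A)) x
    obtain ⟨X₂, π₂, _, z, hz⟩ := exists_lift (factorThruImageSubobject ((p ^ (N + 1)) • 𝟙 A))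
      (y.map π₁ ≫ x ≫ Subobject.ofLE _ _ (hN (N + 1) N.le_succ).symm.le)
    have hz' := congrArg (· ≫ (imageSubobject ((p ^ (N + 1)) • 𝟙 A)).arrow) hz
    simp only [Category.assoc, imageSubobject_arrow_comp, Subobject.ofLE_arrow, Preadditive.comp_nsmul,
      Category.comp_id] at hz'
    refine ⟨X₂, π₂ ≫ π₁, inferInstance, z ≫ factorThruImageSubobject ((p ^ N) • 𝟙 A), ?_⟩
    rw [Preadditive.comp_nsmul, Category.comp_id, ← cancel_mono (imageSubobject ((p ^ N) • 𝟙 A)).arrow]
    simp only [Preadditive.nsmul_comp, Category.assoc, imageSubobject_arrow_comp, Preadditive.comp_nsmul,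
      Category.comp_id, Functor.map_comp, smul_smul, ← pow_succ']
    exact hz'
  · have := epi_pow_nsmul hD N
    refine le_of_elements _ _ fun X x => ?_
    obtain ⟨X₁, π, hπ, z, hz⟩ := exists_lift ((p ^ N) • 𝟙 (D : Ind C)) x
    refine ⟨X₁, π, hπ, z ≫ D.arrow ≫ factorThruImageSubobject ((p ^ N) • 𝟙 A), ?_⟩
    rw [Category.assoc, Category.assoc, imageSubobject_arrow_comp, ← Category.assoc (y.map π), ← hz]
    simp only [Preadditive.comp_nsmul, Preadditive.nsmul_comp, Category.comp_id, Category.assoc]
  · obtain ⟨X, ⟨e⟩⟩ := hQ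
    obtain ⟨M, hM⟩ := htor X
    have hM' : p ^ M • 𝟙 Q = 0 := by
      rw [← e.inv_hom_id, ← Category.id_comp e.hom, ← Ind.yoneda.map_id X, ← Preadditive.comp_nsmul,
        ← Preadditive.nsmul_comp, ← y.map_nsmul, hM, y.map_zero, zero_comp, comp_zero]
    rw [← Subobject.ofLE_arrow (hN (N + M) (by omega)).symm.le, Category.assoc]
    have h0 : (imageSubobject ((p ^ (N + M)) • 𝟙 A)).arrow ≫ q = 0 := by
      rw [← cancel_epi (factorThruImageSubobject ((p ^ (N + M)) • 𝟙 A)), imageSubobject_arrow_comp_assoc, comp_zero,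
        Preadditive.nsmul_comp, Category.id_comp, pow_add, mul_smul, ← Category.comp_id q, ← Preadditive.comp_nsmul,
        hM', comp_zero, smul_zero]
    rw [h0, comp_zero]

end Groth.Agent.S14496
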