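import Groth.Statements.S14497


set_option autoImplicit false
set_option backward.isDefEq.respectTransparency false
set_option backward.isDefEq.respectTransparency.types false
universe v u
open IndCof

namespace Groth.Agent.S14497

open CategoryTheory CategoryTheory.Limits in
/-- Let B be an object of an abelian category and consider the inverse system, indexed by the positive
integers ordered by divisibility, with every term equal to B and transition map from the m-th to the
n-th term (n ∣ m) given by multiplication by m/n. This system is Mittag-Leffler, i.e. for every n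
the images in the n-th term of the transition maps are eventually constant, if and only if B has a
divisible sub-object B' (multiplication by every positive integer is an epimorphism of B') with B/B'
killed by some positive integer. Moreover such a B' is the largest divisible sub-object of B. -/
theorem result
    {V : Type u} [Category.{v} V] [Abelian V] (B : V) :
    ((∀ n : ℕ, 0 < n → ∃ m : ℕ, 0 < m ∧ n ∣ m ∧ ∀ m' : ℕ, 0 < m' → m ∣ m' →
        imageSubobject ((m' / n) • 𝟙 B) = imageSubobject ((m / n) • 𝟙 B)) ↔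
      ∃ B' : Subobject B, (∀ k : ℕ, 0 < k → Epi (k • 𝟙 (B' : V))) ∧
        ∃ M : ℕ, 0 < M ∧ M • 𝟙 (cokernel B'.arrow) = 0) ∧
    (∀ B' : Subobject B, (∀ k : ℕ, 0 < k → Epi (k • 𝟙 (B' : V))) →
      (∃ M : ℕ, 0 < M ∧ M • 𝟙 (cokernel B'.arrow) = 0) →
      ∀ D : Subobject B, (∀ k : ℕ, 0 < k → Epi (k • 𝟙 (D : V))) → D ≤ B') := by
  open CategoryTheory CategoryTheory.Limits in
  have hle : ∀ (B' D : Subobject B) (g : B ⟶ (B' : V)) (M : ℕ), g ≫ B'.arrow = M • 𝟙 B →
      Epi (M • 𝟙 (D : V)) → D ≤ B' := by
    intro B' D g M hg _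
    have h : D.arrow ≫ cokernel.π B'.arrow = 0 := by
      rw [← cancel_epi (M • 𝟙 (D : V)), comp_zero, Preadditive.nsmul_comp, Category.id_comp,
        ← Category.comp_id D.arrow, Category.assoc, ← Preadditive.comp_nsmul, ← Preadditive.nsmul_comp, ← hg,
        Category.assoc, cokernel.condition, comp_zero, comp_zero]
    exact Subobject.le_of_comm (Abelian.monoLift B'.arrow D.arrow h) (Abelian.monoLift_comp _ _ _)
  have hfac : ∀ (B' : Subobject B) (M : ℕ), M • 𝟙 (cokernel B'.arrow) = 0 →
      ∃ g : B ⟶ (B' : V), g ≫ B'.arrow = M • 𝟙 B := by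
    intro B' M hM
    refine ⟨Abelian.monoLift B'.arrow (M • 𝟙 B) ?_, Abelian.monoLift_comp _ _ _⟩
    rw [Preadditive.nsmul_comp, Category.id_comp, ← Category.comp_id (cokernel.π _), ← Preadditive.comp_nsmul, hM,
      comp_zero]
  refine ⟨⟨fun h => ?_, ?_⟩, fun B' _ hM D hD => ?_⟩
  · obtain ⟨m, hm, -, hst⟩ := h 1 one_pos
    simp only [Nat.div_one] at hst
    refine ⟨imageSubobject (m • 𝟙 B), fun k hk => ?_, m, hm, ?_⟩
    · have hs := hst (k * m) (Nat.mul_pos hk hm) (Dvd.intro_left k rfl)
      have e : factorThruImageSubobject (m • 𝟙 B) ≫ (k • 𝟙 (imageSubobject (m • 𝟙 B) : V)) =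
          factorThruImageSubobject ((k * m) • 𝟙 B) ≫ Subobject.ofLE _ _ hs.le := by
        rw [← cancel_mono (imageSubobject (m • 𝟙 B)).arrow]
        rw [Category.assoc, Category.assoc, Subobject.ofLE_arrow, imageSubobject_arrow_comp, Preadditive.nsmul_comp,
          Category.id_comp, Preadditive.comp_nsmul, imageSubobject_arrow_comp, smul_smul]
      have : IsIso (Subobject.ofLE _ _ hs.le) := (Subobject.isoOfEq _ _ hs).isIso_hom
      exact epi_of_epi_fac e
    · rw [← cancel_epi (cokernel.π (imageSubobject (m • 𝟙 B)).arrow), comp_zero, Preadditive.comp_nsmul,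
        Category.comp_id, ← Category.id_comp (cokernel.π _), ← Preadditive.nsmul_comp]
      exact (imageSubobject_arrow_comp_assoc (m • 𝟙 B) _).symm.trans (by rw [cokernel.condition, comp_zero])
  · rintro ⟨B', hdiv, M, hM, hMz⟩ n hn
    obtain ⟨g, hg⟩ := hfac B' M hMz
    have him : ∀ c : ℕ, 0 < c → imageSubobject ((c * M) • 𝟙 B) = B' := by
      intro c hc
      apply le_antisymm
      · exact imageSubobject_le _ (c • g) (by rw [Preadditive.nsmul_comp, hg, smul_smul])
      · have := hdiv (c * M) (Nat.mul_pos hc hM)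
        refine hle (imageSubobject ((c * M) • 𝟙 B)) B' (factorThruImageSubobject _) (c * M) ?_ this
        simp
    refine ⟨n * M, Nat.mul_pos hn hM, dvd_mul_right n M, fun m' hm' hdvd => ?_⟩
    obtain ⟨c, rfl⟩ := hdvd
    have hc : 0 < c := Nat.pos_of_ne_zero fun h => by simp [h] at hm'
    rw [Nat.mul_div_cancel_left M hn, mul_assoc, Nat.mul_div_cancel_left _ hn, mul_comm M c, him c hc]
    conv_rhs => rw [← one_mul M]
    rw [him 1 one_pos]
  · obtain ⟨M, hMpos, hMz⟩ := hM
    obtain ⟨g, hg⟩ := hfac B' M hMz
    exact hle B' D g M hg (hD M hMpos)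

end Groth.Agent.S14497
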