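import Groth.Statements.S14498
import Mathlib.CategoryTheory.Abelian.Refinements
import Mathlib.Algebra.Homology.ShortComplex.ShortExact

set_option autoImplicit false
universe v u
open AbDiag

namespace Groth.Agent.S14498
open CategoryTheory CategoryTheory.Limits

open CategoryTheory CategoryTheory.Limits in
/-- In an abelian category, let 0 → F → W → E' → 0 (maps a, b) and 0 → E → W → F' → G → G' → 0 (maps c,
d, e, g) be exact sequences such that the composite F → W → F' is a monomorphism. Then the composite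
E → W → E' is a monomorphism, and there is a short exact sequence 0 → Coker(E → E') → Coker(F → F')
→ Ker(G → G') → 0 whose first map is induced by d (through the quotient map b) and whose second map
is induced by e. -/
theorem result
    {V : Type u} [Category.{v} V] [Abelian V] {F W E' E F' G G' : V}
    (a : F ⟶ W) (b : W ⟶ E') (c : E ⟶ W) (d : W ⟶ F') (e : F' ⟶ G) (g : G ⟶ G')
    [Mono a] [Epi b] (wab : a ≫ b = 0) (hab : (ShortComplex.mk a b wab).Exact)
    [Mono c] (wcd : c ≫ d = 0) (hcd : (ShortComplex.mk c d wcd).Exact)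
    (wde : d ≫ e = 0) (hde : (ShortComplex.mk d e wde).Exact)
    (weg : e ≫ g = 0) (heg : (ShortComplex.mk e g weg).Exact) [Epi g]
    (hmono : Mono (a ≫ d)) :
    Mono (c ≫ b) ∧
      ∃ (φ : cokernel (c ≫ b) ⟶ cokernel (a ≫ d)) (ψ : cokernel (a ≫ d) ⟶ kernel g)
        (w : φ ≫ ψ = 0),
        b ≫ cokernel.π (c ≫ b) ≫ φ = d ≫ cokernel.π (a ≫ d) ∧
        cokernel.π (a ≫ d) ≫ ψ ≫ kernel.ι g = e ∧
        (ShortComplex.mk φ ψ w).ShortExact := by
  have hm1 : Mono (c ≫ b) := Preadditive.mono_of_cancel_zero _ fun {T} x hx => by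
    obtain ⟨y, hy⟩ := hab.lift' (x ≫ c) (by rw [Category.assoc]; exact hx)
    have : y ≫ a ≫ d = 0 := by
      rw [← Category.assoc, hy, Category.assoc, wcd, comp_zero]
    rw [← cancel_mono c, zero_comp, ← hy, zero_of_comp_mono (a ≫ d) this, zero_comp]
  refine ⟨hm1, ?_⟩
  let d' : E' ⟶ cokernel (a ≫ d) := hab.desc (d ≫ cokernel.π (a ≫ d)) (by
    show a ≫ d ≫ _ = 0
    rw [← Category.assoc, cokernel.condition])
  have hd' : b ≫ d' = d ≫ cokernel.π (a ≫ d) := hab.g_desc _ _
  let φ : cokernel (c ≫ b) ⟶ cokernel (a ≫ d) := cokernel.desc (c ≫ b) d' (by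
    rw [Category.assoc, hd', ← Category.assoc, wcd, zero_comp])
  let ψ : cokernel (a ≫ d) ⟶ kernel g := cokernel.desc (a ≫ d) (kernel.lift g e weg) (by
    rw [← cancel_mono (kernel.ι g), Category.assoc, kernel.lift_ι, zero_comp, Category.assoc, wde, comp_zero])
  have h1 : b ≫ cokernel.π (c ≫ b) ≫ φ = d ≫ cokernel.π (a ≫ d) := by rw [cokernel.π_desc, hd']
  have h2 : cokernel.π (a ≫ d) ≫ ψ ≫ kernel.ι g = e := by rw [cokernel.π_desc_assoc, kernel.lift_ι]
  have w : φ ≫ ψ = 0 := by
    rw [← cancel_epi (cokernel.π (c ≫ b)), ← cancel_epi b, ← cancel_mono (kernel.ι g)]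
    simp only [Category.assoc, comp_zero, zero_comp]
    rw [reassoc_of% h1, h2, wde]
  refine ⟨φ, ψ, w, h1, h2, ?_⟩
  have hs : ∀ {T : V} (y : T ⟶ cokernel (c ≫ b)), ∃ (T' : V) (q : T' ⟶ T) (_ : Epi q) (z : T' ⟶ W),
      q ≫ y = z ≫ b ≫ cokernel.π (c ≫ b) := fun y => surjective_up_to_refinements_of_epi (b ≫ cokernel.π (c ≫ b)) y
  have hmono : Mono φ := Preadditive.mono_of_cancel_zero _ fun {T} x hx => by
    obtain ⟨T₁, q₁, _, z, hz⟩ := hs x
    have hz0 : (z ≫ d) ≫ cokernel.π (a ≫ d) = 0 := by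
      rw [Category.assoc, ← h1, ← reassoc_of% hz, hx, comp_zero]
    obtain ⟨T₂, q₂, _, f, hf⟩ := (ShortComplex.exact_of_g_is_cokernel (ShortComplex.mk _ _ (cokernel.condition (a ≫ d))) (cokernelIsCokernel _)).exact_up_to_refinements (z ≫ d) hz0
    have hf' : (q₂ ≫ z - f ≫ a) ≫ d = 0 := by
      rw [Preadditive.sub_comp, Category.assoc, Category.assoc, hf, sub_self]
    obtain ⟨v, hv⟩ := hcd.lift' (q₂ ≫ z - f ≫ a) hf'
    rw [← cancel_epi q₁, ← cancel_epi q₂, comp_zero, comp_zero, hz, ← Category.assoc,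
      show q₂ ≫ z = v ≫ c + f ≫ a by rw [hv, sub_add_cancel], Preadditive.add_comp, Category.assoc, Category.assoc,
      reassoc_of% wab, zero_comp, comp_zero, add_zero, ← Category.assoc c, cokernel.condition, comp_zero]
  haveI := hmono
  have hex : (ShortComplex.mk φ ψ w).Exact := by
    rw [ShortComplex.exact_iff_exact_up_to_refinements]
    intro T y hy
    dsimp at y hy ⊢
    obtain ⟨T₁, q₁, _, y', hy'⟩ := surjective_up_to_refinements_of_epi (cokernel.π (a ≫ d)) y
    have he0 : y' ≫ e = 0 := by rw [← h2, ← reassoc_of% hy', reassoc_of% hy, zero_comp, comp_zero]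
    obtain ⟨T₂, q₂, _, v, hv⟩ := hde.exact_up_to_refinements y' he0
    dsimp at v hv
    refine ⟨T₂, q₂ ≫ q₁, inferInstance, v ≫ b ≫ cokernel.π (c ≫ b), ?_⟩
    rw [Category.assoc, Category.assoc, Category.assoc, h1, hy', reassoc_of% hv]
  haveI : Epi ψ := by
    rw [epi_iff_surjective_up_to_refinements]
    intro T k
    obtain ⟨T₁, q₁, _, v, hv⟩ := heg.exact_up_to_refinements (k ≫ kernel.ι g) (by
      dsimp; rw [Category.assoc, kernel.condition, comp_zero])
    dsimp at v hv
    refine ⟨T₁, q₁, inferInstance, v ≫ cokernel.π (a ≫ d), ?_⟩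
    rw [← cancel_mono (kernel.ι g), Category.assoc, Category.assoc, Category.assoc, h2, hv]
  exact { exact := hex }

end Groth.Agent.S14498
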