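import Groth.Statements.S14501
import Groth.Agent.IntThLib.Norm
-- import your own Groth.Agent.* helpers here

set_option autoImplicit false
universe u
open IntTh

namespace Groth.Agent.S14501

/-- Take a one-dimensional Noetherian local domain A with fraction field K, V a finite-dimensional
K-vector space and M₁, M₂, M₃ lattices in V (finitely generated A-submodules spanning V over K).
Define the distance d(M, M') as length_A(M/(M ∩ M')) − length_A(M'/(M ∩ M')), with the (finite)
lengths read as natural numbers. Then d(M₁, M₃) = d(M₁, M₂) + d(M₂, M₃). -/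
theorem result (A : Type u) [CommRing A] [IsDomain A] [IsNoetherianRing A]
    [IsLocalRing A] (hA : ringKrullDim A = 1) (K : Type u) [Field K] [Algebra A K]
    [IsFractionRing A K] (V : Type u) [AddCommGroup V] [Module K V] [Module A V]
    [IsScalarTower A K V] [FiniteDimensional K V]
    (M₁ M₂ M₃ : Submodule A V) [Submodule.IsLattice K M₁] [Submodule.IsLattice K M₂]
    [Submodule.IsLattice K M₃] :
    ((Module.length A (↥M₁ ⧸ (M₁ ⊓ M₃).submoduleOf M₁)).toNat : ℤ) -
        ((Module.length A (↥M₃ ⧸ (M₁ ⊓ M₃).submoduleOf M₃)).toNat : ℤ) =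
      (((Module.length A (↥M₁ ⧸ (M₁ ⊓ M₂).submoduleOf M₁)).toNat : ℤ) -
        ((Module.length A (↥M₂ ⧸ (M₁ ⊓ M₂).submoduleOf M₂)).toNat : ℤ)) +
      (((Module.length A (↥M₂ ⧸ (M₂ ⊓ M₃).submoduleOf M₂)).toNat : ℤ) -
        ((Module.length A (↥M₃ ⧸ (M₂ ⊓ M₃).submoduleOf M₃)).toNat : ℤ)) := by
  haveI := Groth.Agent.IntThLib.krullDimLE_one_of_dim hA
  exact Groth.Agent.IntThLib.dist_add (K := K) M₁ M₂ M₃

end Groth.Agent.S14501
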