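import Groth.Statements.S14503
import Groth.Agent.IntThLib.Norm
-- import your own Groth.Agent.* helpers here

set_option autoImplicit false
universe u
open IntTh

namespace Groth.Agent.S14503

/-- Let A ⊆ B be a module-finite extension of domains with A Noetherian local of Krull dimension one, K
⊆ L their fraction fields, and r ∈ B nonzero. Then B/rB has finite length as an A-module and
length_A(B/rB) equals the order at the closed point of A of the norm N_{L/K}(r), i.e.
length_A(A/(a)) − length_A(A/(b)) for N_{L/K}(r) = a/b. -/
theorem result (A : Type u) [CommRing A] [IsDomain A]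
    [IsNoetherianRing A] [IsLocalRing A] (hA : ringKrullDim A = 1) (B : Type u) [CommRing B]
    [IsDomain B] [Algebra A B] (hinj : Function.Injective (algebraMap A B)) [Module.Finite A B]
    (K L : Type u) [Field K] [Field L] [Algebra A K] [IsFractionRing A K] [Algebra B L]
    [IsFractionRing B L] [Algebra K L] [Algebra A L] [IsScalarTower A B L] [IsScalarTower A K L]
    [FiniteDimensional K L] (r : B) (hr : r ≠ 0) :
    Module.length A (B ⧸ Ideal.span {r}) < ⊤ ∧
      ((Module.length A (B ⧸ Ideal.span {r})).toNat : ℤ) =
        CycAlg.ordFrac A K (Algebra.norm K (algebraMap B L r)) := by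
  haveI := Groth.Agent.IntThLib.krullDimLE_one_of_dim hA
  exact Groth.Agent.IntThLib.length_quotient_eq_ordFrac_norm A B K L r hr

end Groth.Agent.S14503
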