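import Groth.Statements.S14505
import Groth.Agent.ResDet.Basic

set_option autoImplicit false
universe u
open IntTh

namespace Groth.Agent.S14505

/-- Let R be a commutative ring, α₁, …, α_d, β₁, …, β_e ∈ R, b(t) = ∏ (1 + β_j t), and for k = 1, …, d
let P_k(t) = b(t)/∏_{i ≤ k} (1 + α_i t) ∈ R⟦t⟧, each factor 1 + α_i t being inverted by its
geometric series; write (P_k)_m for the coefficient of t^m, with (P_k)_m = 0 for m < 0. Then ∏_{i,j}
(β_j − α_i) = det((P_i)_{e+j−i})_{1 ≤ i,j ≤ d}, the d × d determinant whose i-th row is built from
the coefficients of the i-th partial quotient. (Rows and columns are 0-based in the formal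
statement, which does not change j − i; the row of index i inverts the factors of index at most i.
The companion form with every row built from the full quotient b/a is stated separately.) -/
theorem result (R : Type u) [CommRing R] (d e : ℕ)
    (α : Fin d → R) (β : Fin e → R) :
    ∏ i : Fin d, ∏ j : Fin e, (β j - α i) =
      (Matrix.of fun i j : Fin d =>
        if (i : ℕ) ≤ e + (j : ℕ) then
          PowerSeries.coeff (e + (j : ℕ) - (i : ℕ))
            ((∏ j : Fin e, (1 + PowerSeries.C (β j) * PowerSeries.X)) *
              ∏ l : Fin d, if l ≤ i then PowerSeries.mk (fun m => (-α l) ^ m) else 1)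
        else 0).det := by
  exact (ResDet.det_flag α β).symm

end Groth.Agent.S14505
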