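import Groth.Statements.S14507
import Groth.Agent.Synt29.PnRigid
import Groth.Agent.RelTildeX.SheafCrit
import Groth.Agent.PnCoh.Chow.Proper

set_option autoImplicit false
universe u
open CategoryTheory CategoryTheory.Limits AlgebraicGeometry
open IntTh

namespace Groth.Agent.S14507

/-- Let k be a field, n ≥ 0, P = P^n_k and Ω = Ω_{P/k} its sheaf of differentials (the conormal sheaf of
the diagonal). Every global vector field on P, that is every O_P-linear map ξ : Ω → O_P (a global
section of the tangent sheaf, the dual of Ω), vanishes at some point: there is x ∈ P such that ξ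
maps every local section of Ω over an open neighbourhood of x to a function whose germ at x lies in
the maximal ideal of O_{P,x}. -/
theorem result (k : Type u) [Field k] (n : ℕ)
    (ξ : Omega.sheaf (CohB1.ProjSpace.toSpec n k) ⟶ Coh.structureModule (CohB1.ProjSpace n k)) :
    ∃ x : ↥(CohB1.ProjSpace n k), ∀ (U : (CohB1.ProjSpace n k).Opens) (hx : x ∈ U)
      (s : Γ(Omega.sheaf (CohB1.ProjSpace.toSpec n k), U)),
      (CohB1.ProjSpace n k).presheaf.germ U x hx (OmegaSh.fnSect (CohB1.ProjSpace n k) U (ξ.app U s)) ∈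
        IsLocalRing.maximalIdeal ((CohB1.ProjSpace n k).presheaf.stalk x) := by
  by_contra hne
  push Not at hne
  haveI : QuasiSeparated (CohB1.ProjSpace.toSpec n k) := by
    haveI := Groth.Agent.PnCoh.Chow.isProper_toSpec n k
    infer_instance
  refine Groth.Agent.Synt29.PnRigid.not_epi_omega n k ξ (Groth.Agent.RelTildeX.epi_of_locally ξ fun U t x hx => ?_)
  obtain ⟨U', hx', s, hs⟩ := hne x
  set g : Γ(CohB1.ProjSpace n k, U') := OmegaSh.fnSect (CohB1.ProjSpace n k) U' (ξ.app U' s) with hg
  have hu : IsUnit ((CohB1.ProjSpace n k).presheaf.germ U' x hx' g) := by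
    by_contra h
    exact hs ((IsLocalRing.mem_maximalIdeal _).2 h)
  let V := U ⊓ (CohB1.ProjSpace n k).basicOpen g
  have hV : V ≤ U := inf_le_left
  have hV' : V ≤ U' := inf_le_right.trans ((CohB1.ProjSpace n k).basicOpen_le g)
  refine ⟨V, hV, ⟨hx, ((CohB1.ProjSpace n k).mem_basicOpen g x hx').2 hu⟩, ?_⟩
  have h1 : IsUnit ((CohB1.ProjSpace n k).presheaf.map (homOfLE hV').op g) := by
    have h2 := (AlgebraicGeometry.RingedSpace.isUnit_res_basicOpen (CohB1.ProjSpace n k).toRingedSpace g).map
      ((CohB1.ProjSpace n k).presheaf.map (homOfLE (inf_le_right : V ≤ (CohB1.ProjSpace n k).basicOpen g)).op).hom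
    rw [show (homOfLE hV').op = (homOfLE ((CohB1.ProjSpace n k).basicOpen_le g)).op ≫
      (homOfLE (inf_le_right : V ≤ (CohB1.ProjSpace n k).basicOpen g)).op from rfl, Functor.map_comp]
    exact h2
  obtain ⟨v, hv⟩ := h1
  let tV : Γ(CohB1.ProjSpace n k, V) :=
    (CohB1.ProjSpace n k).presheaf.map (homOfLE hV).op (OmegaSh.fnSect (CohB1.ProjSpace n k) U t)
  refine ⟨(tV * ↑v⁻¹) • (Omega.sheaf (CohB1.ProjSpace.toSpec n k)).presheaf.map (homOfLE hV').op s, ?_⟩
  rw [Scheme.Modules.Hom.app_smul]
  refine (congrArg ((tV * ↑v⁻¹) • ·) (congr($(ξ.mapPresheaf.naturality (homOfLE hV').op) s))).trans ?_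
  show (tV * ↑v⁻¹) * ((CohB1.ProjSpace n k).presheaf.map (homOfLE hV').op g) = tV
  rw [← hv, mul_assoc, Units.inv_mul, mul_one]


end Groth.Agent.S14507
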