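import Groth.Statements.S14509
import Groth.Agent.ZeroCycLib.Series
-- import your own Groth.Agent.* helpers here

set_option autoImplicit false
open IntTh

namespace Groth.Agent.S14509

/-- Let f(t) ∈ ℚ⟦t⟧ be the Todd series, characterised by f(t)·(e^t − 1) = t·e^t, i.e. f(t) = t/(1 −
e^(−t)). Then for every m ∈ ℤ and n ∈ ℕ the coefficient of t^n in e^(mt)·f(t)^(n+1) is the binomial
coefficient C(m+n, n), understood as the polynomial (m+n)(m+n−1)⋯(m+1)/n! in m (so for all integers
m). (The published statement is the Hirzebruch–Riemann–Roch formula χ(E) = ∫ ch(E)·td for vector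
bundles on projective n-space; this row is the identity of formal power series to which its proof
reduces it for E = O(m): the degree-n part of ch(O(m))·td(P^n) = e^(mζ)(ζ/(1 − e^(−ζ)))^(n+1)
against χ(P^n, O(m)) = C(m+n, n).) -/
theorem result (f : PowerSeries ℚ)
    (hf : f * (PowerSeries.exp ℚ - 1) = PowerSeries.X * PowerSeries.exp ℚ) (m : ℤ) (n : ℕ) :
    PowerSeries.coeff n (PowerSeries.rescale (m : ℚ) (PowerSeries.exp ℚ) * f ^ (n + 1)) =
      ((Ring.choose (m + n : ℤ) n : ℤ) : ℚ) := by
  exact Groth.Agent.ZeroCycLib.coeff_expM_todd hf n m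

end Groth.Agent.S14509
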