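import Groth.Statements.S14510
import Mathlib

set_option autoImplicit false
universe u v
open CAlgX

namespace Groth.Agent.S14510
variable {k : Type u} [Field k] {a b : ℕ}

open MvPolynomial in
/-- `z_{ij} ↦ a_i b_j` for `i < s`, `j < t`, and `0` otherwise. -/
noncomputable def seg (k : Type u) [Field k] (a b s t : ℕ) :
    MvPolynomial (Fin a × Fin b) k →ₐ[k] MvPolynomial (Fin a ⊕ Fin b) k :=
  aeval fun p => if (p.1 : ℕ) < s ∧ (p.2 : ℕ) < t then X (Sum.inl p.1) * X (Sum.inr p.2) else 0

open MvPolynomial in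
theorem seg_ker_mono {s t s' t' : ℕ} (hs : s' ≤ s) (ht : t' ≤ t) :
    RingHom.ker (seg k a b s t) ≤ RingHom.ker (seg k a b s' t') := by
  have h : seg k a b s' t' = (aeval (Sum.elim
      (fun i : Fin a => if (i : ℕ) < s' then (X (Sum.inl i) : MvPolynomial (Fin a ⊕ Fin b) k) else 0)
      (fun j : Fin b => if (j : ℕ) < t' then X (Sum.inr j) else 0))).comp (seg k a b s t) := by
    refine algHom_ext fun p => ?_
    simp only [seg, AlgHom.coe_comp, Function.comp_apply, aeval_X]
    by_cases h : (p.1 : ℕ) < s' ∧ (p.2 : ℕ) < t'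
    · rw [if_pos h, if_pos ⟨lt_of_lt_of_le h.1 hs, lt_of_lt_of_le h.2 ht⟩]
      simp [h.1, h.2]
    · rw [if_neg h]
      split_ifs with h'
      · simp only [map_mul, aeval_X, Sum.elim_inl, Sum.elim_inr]
        rw [not_and_or] at h
        rcases h with h | h <;> simp [h]
      · simp
  intro f hf
  rw [RingHom.mem_ker] at hf ⊢
  rw [h, AlgHom.comp_apply, hf, map_zero]

open MvPolynomial in
theorem X_mem_seg_ker {s t : ℕ} (p : Fin a × Fin b) :
    (X p : MvPolynomial (Fin a × Fin b) k) ∈ RingHom.ker (seg k a b s t) ↔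
      ¬ ((p.1 : ℕ) < s ∧ (p.2 : ℕ) < t) := by
  rw [RingHom.mem_ker, seg, aeval_X]
  split_ifs with h
  · simp [h]
  · simp [h]

open MvPolynomial in
/-- Hopf: `w` linear forms with no common zero on the Segre cone other than the origin. -/
theorem segre_bound [IsAlgClosed k] (a b w : ℕ) (ha : 1 ≤ a) (hb : 1 ≤ b)
    (φ : Fin w → Fin a → Fin b → k)
    (h : ∀ (x : Fin a → k) (y : Fin b → k), (∀ l, ∑ i, ∑ j, φ l i j * (x i * y j) = 0) →
      x = 0 ∨ y = 0) : a + b ≤ w + 1 := by
  classical
  let P := MvPolynomial (Fin a × Fin b) k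
  let Q₀ : Ideal P := RingHom.ker (seg k a b a b)
  let m : Ideal P := RingHom.ker (seg k a b 0 0)
  let ℓ : Fin w → P := fun l => ∑ i, ∑ j, C (φ l i j) * X (i, j)
  have hzero : ∀ c : Fin a × Fin b → k,
      c ∈ zeroLocus k (Q₀ ⊔ Ideal.span (Set.range ℓ)) → c = 0 := by
    intro c hc
    by_contra hne
    obtain ⟨⟨p, q⟩, hpq⟩ := Function.ne_iff.1 hne
    simp only [Pi.zero_apply] at hpq
    have hminor : ∀ i j, c (i, j) * c (p, q) = c (i, q) * c (p, j) := by
      intro i j
      have := (mem_zeroLocus_iff.1 hc) (X (i, j) * X (p, q) - X (i, q) * X (p, j))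
        (Ideal.mem_sup_left (by simp [Q₀, RingHom.mem_ker, seg]; ring))
      simpa [sub_eq_zero] using this
    rcases h (fun i => c (i, q)) (fun j => c (p, j) / c (p, q)) (fun l => by
      have h1 := (mem_zeroLocus_iff.1 hc) (ℓ l) (Ideal.mem_sup_right (Ideal.subset_span ⟨l, rfl⟩))
      simp only [ℓ, map_sum, map_mul, aeval_C, aeval_X, Algebra.algebraMap_self, RingHom.id_apply] at h1
      rw [← h1]
      refine Finset.sum_congr rfl fun i _ => Finset.sum_congr rfl fun j _ => ?_
      rw [show c (i, j) = c (i, q) * (c (p, j) / c (p, q)) by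
        rw [← mul_div_assoc, eq_div_iff hpq]; exact hminor i j]) with hx | hy
    · exact hpq (congrFun hx p)
    · simpa [hpq] using congrFun hy q
  have hrad : m ≤ (Q₀ ⊔ Ideal.span (Set.range ℓ)).radical := by
    intro f hf
    rw [← vanishingIdeal_zeroLocus_eq_radical (K := k), mem_vanishingIdeal_iff]
    intro c hc
    rw [hzero c hc]
    have h1 : (aeval (0 : Fin a × Fin b → k) : P →ₐ[k] k) =
        (aeval (0 : Fin a ⊕ Fin b → k)).comp (seg k a b 0 0) :=
      algHom_ext fun p => by simp [seg]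
    rw [h1, AlgHom.comp_apply, RingHom.mem_ker.1 hf, map_zero]
  -- the chain of primes below `m` in `P ⧸ Q₀`
  let A := P ⧸ Q₀
  let g : ℕ → ℕ × ℕ := fun n => (min n a, min n 1 + (n - a))
  have hgle : ∀ n, n + 1 ≤ a + b → (g n).1 ≤ a ∧ (g n).2 ≤ b := fun n hn => by
    simp only [g]; omega
  let qP : ℕ → Ideal P := fun n => RingHom.ker (seg k a b (g n).1 (g n).2)
  have hQ₀ : ∀ n, n + 1 ≤ a + b → Q₀ ≤ qP n := fun n hn =>
    seg_ker_mono (hgle n hn).1 (hgle n hn).2
  have hprime : ∀ n, (qP n).IsPrime := fun n => RingHom.ker_isPrime _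
  have hlt : ∀ n, n + 2 ≤ a + b → qP (n + 1) < qP n := by
    intro n hn
    refine lt_of_le_of_ne (seg_ker_mono (by simp only [g]; omega)
      (by simp only [g]; omega)) fun heq => ?_
    by_cases hna : n < a
    · have hmem : (X (⟨n, hna⟩, ⟨0, hb⟩) : P) ∈ qP n := by
        rw [X_mem_seg_ker]; simp only [g]; omega
      rw [← heq, X_mem_seg_ker] at hmem
      apply hmem
      simp only [g]; omega
    · have hmem : (X (⟨0, ha⟩, ⟨n - a + 1, by omega⟩) : P) ∈ qP n := by
        rw [X_mem_seg_ker]; simp only [g]; omega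
      rw [← heq, X_mem_seg_ker] at hmem
      apply hmem
      simp only [g]; omega
  have hQ₀ker : RingHom.ker (Ideal.Quotient.mk Q₀) = Q₀ := Ideal.mk_ker
  have hcomap : ∀ n, n + 1 ≤ a + b →
      ((qP n).map (Ideal.Quotient.mk Q₀)).comap (Ideal.Quotient.mk Q₀) = qP n := fun n hn => by
    rw [Ideal.comap_map_of_surjective' _ Ideal.Quotient.mk_surjective, hQ₀ker,
      sup_eq_left.2 (hQ₀ n hn)]
  have hqA : ∀ n, n + 1 ≤ a + b → ((qP n).map (Ideal.Quotient.mk Q₀)).IsPrime := fun n hn =>
    have := hprime n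
    Ideal.map_isPrime_of_surjective Ideal.Quotient.mk_surjective (hQ₀ker.le.trans (hQ₀ n hn))
  have hltA : ∀ n, n + 2 ≤ a + b → (qP (n + 1)).map (Ideal.Quotient.mk Q₀) <
      (qP n).map (Ideal.Quotient.mk Q₀) := fun n hn =>
    lt_of_le_of_ne (Ideal.map_mono (hlt n hn).le) fun heq => (hlt n hn).ne (by
      rw [← hcomap (n + 1) (by omega), heq, hcomap n (by omega)])
  let N := a + b - 1
  let ser : LTSeries (PrimeSpectrum A) :=
    { length := N
      toFun := fun i => ⟨(qP (N - i)).map (Ideal.Quotient.mk Q₀), hqA _ (by omega)⟩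
      step := fun i => by
        show (qP (N - (i.castSucc : ℕ))).map (Ideal.Quotient.mk Q₀) <
          (qP (N - (i.succ : ℕ))).map (Ideal.Quotient.mk Q₀)
        have : N - (i.castSucc : ℕ) = N - (i.succ : ℕ) + 1 := by
          simp only [Fin.val_castSucc, Fin.val_succ]; omega
        rw [this]
        exact hltA _ (by simp only [Fin.val_succ]; omega) }
  have hm0 : qP 0 = m := rfl
  let mA : Ideal A := m.map (Ideal.Quotient.mk Q₀)
  have hmA : mA.IsPrime := hqA 0 (by omega)
  have hheight : (N : ℕ∞) ≤ mA.height := by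
    rw [PrimeSpectrum.height_eq_orderHeight ⟨mA, hmA⟩]
    refine Order.length_le_height (p := ser) ?_
    show (qP (N - (Fin.last N : ℕ))).map (Ideal.Quotient.mk Q₀) ≤ mA
    rw [Fin.val_last, Nat.sub_self, hm0]
  have hmin : mA ∈ (Ideal.span (Set.range fun l => Ideal.Quotient.mk Q₀ (ℓ l))).minimalPrimes := by
    refine ⟨⟨hmA, ?_⟩, fun q hq hqle => ?_⟩
    · rw [Ideal.span_le]
      rintro _ ⟨l, rfl⟩
      refine Ideal.mem_map_of_mem _ ?_
      have hX : ∀ p : Fin a × Fin b, (seg k a b 0 0) (X p) = 0 := fun p => by simp [seg]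
      show ℓ l ∈ RingHom.ker (seg k a b 0 0)
      simp only [ℓ, RingHom.mem_ker, map_sum, map_mul, hX, mul_zero, Finset.sum_const_zero]
    · obtain ⟨hqp, hqs⟩ := hq
      have h1 : Q₀ ⊔ Ideal.span (Set.range ℓ) ≤ q.comap (Ideal.Quotient.mk Q₀) := by
        refine sup_le (fun x hx => ?_) (Ideal.span_le.2 ?_)
        · rw [Ideal.mem_comap, Ideal.Quotient.eq_zero_iff_mem.2 hx]; exact q.zero_mem
        · rintro _ ⟨l, rfl⟩; exact hqs (Ideal.subset_span ⟨l, rfl⟩)
      have h2 : m ≤ q.comap (Ideal.Quotient.mk Q₀) :=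
        hrad.trans ((Ideal.radical_mono h1).trans (Ideal.IsPrime.radical inferInstance).le)
      exact Ideal.map_le_iff_le_comap.2 h2
  have hle : mA.height ≤ (w : ℕ∞) := by
    refine (Ideal.height_le_card_of_mem_minimalPrimes_span (Set.finite_range _) hmin).trans ?_
    rw [Nat.cast_le, ← Set.image_univ]
    exact (Set.ncard_image_le (Set.toFinite _)).trans (by simp)
  have := hheight.trans hle
  rw [Nat.cast_le] at this
  omega


/-- Let k be an algebraically closed field, U, V, W finite-dimensional k-vector spaces with U and V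
nonzero, and φ : U ⊗ V → W a linear map which is 1-generic, i.e. φ(u ⊗ v) ≠ 0 for all nonzero u and
v (φ is given here as a bilinear map). Then dim W ≥ dim U + dim V − 1. (Algebraic closedness
matters: complex multiplication ℂ ⊗ ℂ → ℂ over the reals is 1-generic with 2 + 2 − 1 > 2.) -/
theorem result (k : Type u) [Field k] [IsAlgClosed k]
    (U V W : Type v) [AddCommGroup U] [Module k U] [AddCommGroup V] [Module k V] [AddCommGroup W] [Module k W]
    [Module.Finite k U] [Module.Finite k V] [Module.Finite k W] [Nontrivial U] [Nontrivial V]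
    (φ : U →ₗ[k] V →ₗ[k] W) (hφ : ∀ (a : U) (b : V), a ≠ 0 → b ≠ 0 → φ a b ≠ 0) :
    Module.finrank k U + Module.finrank k V ≤ Module.finrank k W + 1 := by
  classical
  let bU := Module.finBasis k U
  let bV := Module.finBasis k V
  let bW := Module.finBasis k W
  refine segre_bound _ _ _ Module.finrank_pos Module.finrank_pos
    (fun l i j => bW.repr (φ (bU i) (bV j)) l) fun x y h => ?_
  by_contra hne
  push Not at hne
  refine hφ (∑ i, x i • bU i) (∑ j, y j • bV j)
    (fun h0 => hne.1 (funext fun i => Fintype.linearIndependent_iff.1 bU.linearIndependent x h0 i))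
    (fun h0 => hne.2 (funext fun j => Fintype.linearIndependent_iff.1 bV.linearIndependent y h0 j)) ?_
  apply bW.repr.injective
  ext l
  rw [map_zero, Finsupp.zero_apply, ← h l]
  simp only [map_sum, map_smul, LinearMap.sum_apply, LinearMap.smul_apply, Finsupp.coe_finsetSum,
    Finsupp.coe_smul, Finset.sum_apply, Pi.smul_apply, smul_eq_mul, Finset.mul_sum]
  rw [Finset.sum_comm]
  exact Finset.sum_congr rfl fun i _ => Finset.sum_congr rfl fun j _ => by ring


end Groth.Agent.S14510
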