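import Groth.Statements.S14511
import Mathlib

set_option autoImplicit false
universe u
open CAlgX

namespace Groth.Agent.S14511

/-- Let R be a commutative ring and P ∈ R[x_1, …, x_r] a polynomial of total degree at most r. Then the
coefficient of the monomial x_1 ⋯ x_r in P equals Σ_J (−1)^{|J|} P(δ_J), the sum over all subsets J
⊆ {1, …, r} (the empty one included), where δ_J is the point with coordinate −1 at the indices in J
and 0 at the others. -/
theorem result (R : Type u) [CommRing R] (r : ℕ)
    (P : MvPolynomial (Fin r) R) (hP : P.totalDegree ≤ r) :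
    MvPolynomial.coeff (∑ i : Fin r, Finsupp.single i 1) P =
      ∑ J : Finset (Fin r), (-1 : R) ^ J.card * MvPolynomial.eval (fun j => if j ∈ J then (-1 : R) else 0) P := by
  classical
  have hfac : ∀ e : Fin r →₀ ℕ,
      (∑ J : Finset (Fin r), (-1 : R) ^ J.card * ∏ j, (if j ∈ J then (-1 : R) else 0) ^ e j) =
        ∏ j, ((-1 : R) ^ (e j + 1) + 0 ^ e j) := by
    intro e
    rw [Finset.prod_add, Finset.powerset_univ]
    refine Finset.sum_congr rfl fun J _ => ?_
    rw [← Finset.prod_sdiff (Finset.subset_univ J)]
    have h1 : ∏ j ∈ J, (if j ∈ J then (-1 : R) else 0) ^ e j = ∏ j ∈ J, (-1 : R) ^ e j :=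
      Finset.prod_congr rfl fun j hj => by rw [if_pos hj]
    have h2 : ∏ j ∈ Finset.univ \ J, (if j ∈ J then (-1 : R) else 0) ^ e j = ∏ j ∈ Finset.univ \ J, (0 : R) ^ e j :=
      Finset.prod_congr rfl fun j hj => by rw [if_neg (Finset.mem_sdiff.1 hj).2]
    rw [h1, h2, ← Finset.prod_const]
    rw [mul_left_comm, ← Finset.prod_mul_distrib, mul_comm]
    congr 1
    exact Finset.prod_congr rfl fun j _ => by rw [pow_succ, mul_comm]
  have hmon : ∀ e : Fin r →₀ ℕ, e.degree ≤ r →
      ∏ j, ((-1 : R) ^ (e j + 1) + 0 ^ e j) = if e = ∑ i : Fin r, Finsupp.single i 1 then 1 else 0 := by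
    intro e he
    by_cases h : ∀ j, 1 ≤ e j
    · have h1 : ∀ j, e j = 1 := by
        rw [Finsupp.degree_eq_sum] at he
        have hs : ∑ j : Fin r, (e j - 1) = 0 := by
          have : ∑ j : Fin r, (e j - 1) + ∑ _j : Fin r, 1 = ∑ j, e j := by
            rw [← Finset.sum_add_distrib]
            exact Finset.sum_congr rfl fun j _ => Nat.sub_add_cancel (h j)
          simp at this
          omega
        intro j
        have := Finset.sum_eq_zero_iff.1 hs j (Finset.mem_univ j)
        have := h j
        omega
      rw [if_pos]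
      · simp [h1]
      · ext j; simp [h1, Finsupp.single_apply]
    · push Not at h
      obtain ⟨j, hj⟩ := h
      have hj0 : e j = 0 := by omega
      rw [if_neg, Finset.prod_eq_zero (Finset.mem_univ j)]
      · simp [hj0]
      · intro h1
        have := DFunLike.congr_fun h1 j
        simp [hj0, Finsupp.single_apply] at this
  calc MvPolynomial.coeff (∑ i : Fin r, Finsupp.single i 1) P
      = ∑ e ∈ P.support, MvPolynomial.coeff e P * (if e = ∑ i : Fin r, Finsupp.single i 1 then 1 else 0) := by
        simp only [mul_ite, mul_one, mul_zero]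
        rw [Finset.sum_ite_eq']
        split_ifs with h
        · rfl
        · exact MvPolynomial.notMem_support_iff.1 h
    _ = ∑ e ∈ P.support, MvPolynomial.coeff e P *
          ∑ J : Finset (Fin r), (-1 : R) ^ J.card * ∏ j, (if j ∈ J then (-1 : R) else 0) ^ e j := by
        refine Finset.sum_congr rfl fun e he => ?_
        rw [hfac, hmon e ((MvPolynomial.le_totalDegree he).trans hP)]
    _ = _ := by
        simp only [MvPolynomial.eval_eq', Finset.mul_sum]
        rw [Finset.sum_comm]
        exact Finset.sum_congr rfl fun J _ => Finset.sum_congr rfl fun e _ => by ring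


end Groth.Agent.S14511
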