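import Groth.Statements.S14513
import Groth.Agent.CurveHurwitz.Basic

set_option autoImplicit false
set_option backward.isDefEq.respectTransparency false
set_option backward.isDefEq.respectTransparency.types false
universe u
open CategoryTheory CategoryTheory.Limits AlgebraicGeometry
open Curves

namespace Groth.Agent.S14513

/-- Let k be an algebraically closed field and f : X → Y a finite, separable morphism of smooth
projective curves over k (X, Y integral, proper and smooth over k, of dimension one; f sends the
generic point to the generic point and the extension K(X)/K(Y) is separable). If X and Y have the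
same genus g = dim_k H^1(O) and g ≥ 2, then f is an isomorphism. (The published statement also
asserts g(X) ≥ g(Y) and that equality holds exactly when f is an isomorphism, both curves are
projective lines, or both have genus one; this row states the equality case for genus at least two.) -/
theorem result (k : Type u) [Field k] [IsAlgClosed k]
    (X : Scheme.{u}) [X.Over (Spec (CommRingCat.of k))] [IsIntegral X] [IsProper (X ↘ (Spec (CommRingCat.of k)))] [Smooth (X ↘ (Spec (CommRingCat.of k)))] (hdimX : topologicalKrullDim X = 1)
    (Y : Scheme.{u}) [Y.Over (Spec (CommRingCat.of k))] [IsIntegral Y] [IsProper (Y ↘ (Spec (CommRingCat.of k)))] [Smooth (Y ↘ (Spec (CommRingCat.of k)))] (hdimY : topologicalKrullDim Y = 1)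
    (f : X ⟶ Y) [IsFinite f] (hf : f ≫ (Y ↘ (Spec (CommRingCat.of k))) = (X ↘ (Spec (CommRingCat.of k))))
    (e : f (genericPoint X) = genericPoint Y)
    (hg : Curv2.genus k X = Curv2.genus k Y) (h2 : 2 ≤ Curv2.genus k Y) :
    letI := ((Y.presheaf.stalkSpecializes (specializes_of_eq e) ≫ f.stalkMap (genericPoint X)).hom).toAlgebra
    Algebra.IsSeparable Y.functionField X.functionField → IsIso f := by
  intro hsep
  haveI : Flat f := H23.CurveCorr.flat_of_dominant (Y ↘ Spec (CommRingCat.of k)) hdimY.le f e
  haveI : LocallyOfFinitePresentation (f ≫ (Y ↘ Spec (CommRingCat.of k))) := by rw [hf]; infer_instance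
  haveI : LocallyOfFinitePresentation f :=
    AlgSpPts.locallyOfFinitePresentation_of_comp f (Y ↘ Spec (CommRingCat.of k))
  have h := CurveHurwitz.hurwitz k hdimX hdimY (CurveCohLib.finrank_h0_eq_one k X)
    (CurveCohLib.finrank_h0_eq_one k Y) hf e hsep
  rw [CurveHurwitz.residueDegree_eq k hdimX hdimY e, hg] at h
  have hn := CurveBC.coverDeg_pos f
  have hn1 : CurveBC.coverDeg f = 1 := by
    by_contra hne
    have h2' : (2 : ℤ) ≤ CurveBC.coverDeg f := by exact_mod_cast (show 2 ≤ CurveBC.coverDeg f by omega)
    have hg2 : (2 : ℤ) ≤ Curv2.genus k Y := by exact_mod_cast h2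
    nlinarith [(Nat.cast_nonneg (Module.finrank k (Coh.HH X (Omega.sheaf f) 0)) : (0 : ℤ) ≤ _)]
  exact CurveBC.isIso_of_rank_one f (hn1 ▸ CurveBC.isFinLocFreeOfRank_push f)

end Groth.Agent.S14513
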