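import Groth.Statements.S14514
import Groth.Agent.VarDim.Fibre

set_option autoImplicit false
universe u
open CategoryTheory CategoryTheory.Limits AlgebraicGeometry
open Variety

namespace Groth.Agent.S14514


open Groth.Agent.VarDim Order

/-- Let k be an algebraically closed field and f : X → Y a morphism of algebraic varieties over k (X, Y
reduced, separated and of finite type over k) such that Y is irreducible and the image f(X) is dense
in Y. Then X contains an irreducible closed subset Z with dim Z = dim Y such that f(Z) is dense in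
Y. -/
theorem result (k : Type u) [Field k] [IsAlgClosed k]
    (X Y : Scheme.{u}) [X.Over (Spec (CommRingCat.of k))] [Y.Over (Spec (CommRingCat.of k))]
    [IsReduced X] [IsSeparated (X ↘ (Spec (CommRingCat.of k)))] [LocallyOfFiniteType (X ↘ (Spec (CommRingCat.of k)))] [QuasiCompact (X ↘ (Spec (CommRingCat.of k)))]
    [IsReduced Y] [IsSeparated (Y ↘ (Spec (CommRingCat.of k)))] [LocallyOfFiniteType (Y ↘ (Spec (CommRingCat.of k)))] [QuasiCompact (Y ↘ (Spec (CommRingCat.of k)))] [IrreducibleSpace Y]
    (f : X ⟶ Y) (hf : f ≫ (Y ↘ (Spec (CommRingCat.of k))) = (X ↘ (Spec (CommRingCat.of k)))) [IsDominant f] :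
    ∃ Z : Set X, IsClosed Z ∧ IsIrreducible Z ∧ topologicalKrullDim ↥Z = topologicalKrullDim Y ∧
      Dense (f '' Z) := by
  set pX := X ↘ (Spec (CommRingCat.of k))
  set pY := Y ↘ (Spec (CommRingCat.of k))
  have : LocallyOfFiniteType f := by
    have : LocallyOfFiniteType (f ≫ pY) := by rw [hf]; infer_instance
    exact locallyOfFiniteType_of_comp f pY
  have : CompactSpace X := (quasiCompact_iff_compactSpace pX).1 inferInstance
  have hη : genericPoint Y ∈ Set.range f := mem_range_of_maximal pX f
    (by rw [f.denseRange.closure_range]; trivial)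
    (fun y hy => (hy.antisymm (genericPoint_specializes y)).eq)
  obtain ⟨z, hz, hz0⟩ := exists_fdeg_eq_zero f hη
  refine ⟨closure {z}, isClosed_closure, isIrreducible_singleton.closure, ?_, ?_⟩
  · rw [topologicalKrullDim_closure_singleton pX, topologicalKrullDim_eq_deg_genericPoint pY,
      deg_eq_add f pY hf, hz, hz0, add_zero]
  · refine Dense.mono (Set.singleton_subset_iff.2 ⟨z, subset_closure rfl, hz⟩) ?_
    intro y
    exact specializes_iff_mem_closure.1 (genericPoint_specializes y)

end Groth.Agent.S14514
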