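import Groth.Statements.S14515
import Groth.Agent.S5094
import Groth.Agent.S2852
import Groth.Agent.S2821
import Groth.Agent.SmoothReg.Scheme
import Groth.Agent.VarDim.Top

set_option autoImplicit false
universe u
open CategoryTheory CategoryTheory.Limits AlgebraicGeometry
open Variety

set_option backward.isDefEq.respectTransparency false
set_option backward.isDefEq.respectTransparency.types false

namespace Groth.Agent.S14515

/-- Let k be an algebraically closed field and f : X → Y a proper, birational morphism over k between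
smooth, irreducible varieties (X, Y integral, separated, of finite type and smooth over k; f
restricts to an isomorphism over some nonempty open subset of Y). Let Exc(f) ⊆ X be the exceptional
locus: the points x such that f restricts to an isomorphism over no open neighbourhood of f(x). Then
Exc(f) has pure codimension one: every irreducible component of Exc(f) has dimension dim X − 1. -/
theorem result (k : Type u) [Field k] [IsAlgClosed k]
    (X Y : Scheme.{u}) [X.Over (Spec (CommRingCat.of k))] [Y.Over (Spec (CommRingCat.of k))]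
    [IsIntegral X] [IsSeparated (X ↘ (Spec (CommRingCat.of k)))] [LocallyOfFiniteType (X ↘ (Spec (CommRingCat.of k)))] [QuasiCompact (X ↘ (Spec (CommRingCat.of k)))] [Smooth (X ↘ (Spec (CommRingCat.of k)))]
    [IsIntegral Y] [IsSeparated (Y ↘ (Spec (CommRingCat.of k)))] [LocallyOfFiniteType (Y ↘ (Spec (CommRingCat.of k)))] [QuasiCompact (Y ↘ (Spec (CommRingCat.of k)))] [Smooth (Y ↘ (Spec (CommRingCat.of k)))]
    (f : X ⟶ Y) (hf : f ≫ (Y ↘ (Spec (CommRingCat.of k))) = (X ↘ (Spec (CommRingCat.of k)))) [IsProper f]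
    (hbir : ∃ V : Y.Opens, (V : Set Y).Nonempty ∧ IsIso (f ∣_ V)) :
    ∀ Z ∈ irreducibleComponents ↥{x : X | ∀ V : Y.Opens, f x ∈ V → ¬ IsIso (f ∣_ V)},
      topologicalKrullDim ↥Z + 1 = topologicalKrullDim X := by
  classical
  set sX := X ↘ Spec (CommRingCat.of k) with hsX
  set sY := Y ↘ Spec (CommRingCat.of k) with hsY
  haveI : IsLocallyNoetherian X := LocallyOfFiniteType.isLocallyNoetherian sX
  haveI : IsLocallyNoetherian Y := LocallyOfFiniteType.isLocallyNoetherian sY
  have hUFD : ∀ y : Y, UniqueFactorizationMonoid (Y.presheaf.stalk y) := fun y => by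
    haveI := SmoothReg.isRegularLocalRing_stalk_of_mem_smoothLocus sY (x := y)
      (by rw [sY.smoothLocus_eq_top]; trivial)
    exact (S2821.result _).2
  -- birationality
  obtain ⟨V, ⟨y₀, hy₀⟩, hV⟩ := hbir
  haveI := hV
  let W₀ : X.Opens := f ⁻¹ᵁ V
  have hW₀ : IsOpenImmersion (W₀.ι ≫ f) := by
    rw [← morphismRestrict_ι]; infer_instance
  have hW₀ne : (W₀ : Set X).Nonempty := by
    refine ⟨((inv (f ∣_ V)) ⟨y₀, hy₀⟩).1, ?_⟩
    exact ((inv (f ∣_ V)) ⟨y₀, hy₀⟩).2
  have hgW : genericPoint X ∈ W₀ :=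
    ((genericPoint_spec X).mem_open_set_iff W₀.isOpen).2 (by simpa using hW₀ne)
  haveI : Nonempty W₀ := ⟨⟨_, hgW⟩⟩
  haveI : AlgebraicGeometry.IsIntegral W₀ := isIntegral_of_isOpenImmersion W₀.ι
  have hgen : f (genericPoint X) = genericPoint Y := by
    rw [← genericPoint_eq_of_isOpenImmersion W₀.ι]
    exact genericPoint_eq_of_isOpenImmersion (W₀.ι ≫ f)
  have hst : IsIso (f.stalkMap (genericPoint X)) := by
    have h : IsIso ((W₀.ι ≫ f).stalkMap ⟨genericPoint X, hgW⟩) := inferInstance
    rw [Scheme.Hom.stalkMap_comp] at h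
    haveI : IsIso (f.stalkMap (genericPoint X) ≫ W₀.ι.stalkMap ⟨genericPoint X, hgW⟩) := h
    exact IsIso.of_isIso_comp_right _ (W₀.ι.stalkMap ⟨genericPoint X, hgW⟩)
  -- the exceptional locus is the locus of non local isomorphism
  have hT : ∀ x : X, (∀ V : Y.Opens, f x ∈ V → ¬ IsIso (f ∣_ V)) ↔
      ¬ ∃ W : X.Opens, x ∈ W ∧ IsOpenImmersion (W.ι ≫ f) := by
    intro x
    constructor
    · rintro hx ⟨W, hxW, hW⟩
      haveI := hW
      have hy : IsIntegrallyClosed (Y.presheaf.stalk (f x)) := by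
        haveI := hUFD (f x)
        exact UniqueFactorizationMonoid.instIsIntegrallyClosed
      have hio : IsOpen ({f.asFiber x} : Set (f.fiber (f x))) := by
        have : ({f.asFiber x} : Set (f.fiber (f x))) = (f.fiberι (f x)) ⁻¹' (W : Set X) := by
          ext z
          refine ⟨fun hz => by rw [hz, Set.mem_preimage, f.fiberι_asFiber]; exact hxW, fun hz => ?_⟩
          apply (f.fiberι (f x)).isEmbedding.injective
          rw [f.fiberι_asFiber]
          have h1 : f (f.fiberι (f x) z) = f x := by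
            have := f.range_fiberι (f x) ▸ Set.mem_range_self (f := f.fiberι (f x)) z
            exact this
          exact congrArg Subtype.val
            ((W.ι ≫ f).isOpenEmbedding.injective (a₁ := ⟨_, hz⟩) (a₂ := ⟨x, hxW⟩) h1)
        rw [this]
        exact W.isOpen.preimage (f.fiberι (f x)).continuous
      obtain ⟨U, hU, hiso⟩ := S5094.result f hgen hst (f x) hy (f.asFiber x) hio
      exact hx U hU hiso
    · intro hx V hxV hiso
      haveI := hiso
      exact hx ⟨f ⁻¹ᵁ V, hxV, by rw [← morphismRestrict_ι]; infer_instance⟩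
  set T : Set X := {x : X | ∀ V : Y.Opens, f x ∈ V → ¬ IsIso (f ∣_ V)} with hTdef
  intro Z hZ
  have hTc : IsClosed T := by
    rw [← isOpen_compl_iff, isOpen_iff_forall_mem_open]
    intro x hx
    simp only [Set.mem_compl_iff, hTdef, Set.mem_setOf_eq, hT, not_not] at hx
    obtain ⟨W, hxW, hW⟩ := hx
    refine ⟨W, fun z hz hzT => ?_, W.isOpen, hxW⟩
    exact ((hT z).1 hzT) ⟨W, hz, hW⟩
  have hZc : IsClosed Z := isClosed_of_mem_irreducibleComponents Z hZ
  set S : Set X := Subtype.val '' Z with hS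
  have hSc : IsClosed S := hTc.isClosedEmbedding_subtypeVal.isClosedMap Z hZc
  have hSirr : IsIrreducible S := hZ.1.image _ continuous_subtype_val.continuousOn
  obtain ⟨ξ, hξ⟩ := QuasiSober.sober hSirr hSc
  have hξS : ξ ∈ S := hξ.mem
  obtain ⟨⟨ξ', hξT⟩, hξZ, rfl⟩ := hξS
  have hmax : ∀ η : X, (¬ ∃ W : X.Opens, η ∈ W ∧ IsOpenImmersion (W.ι ≫ f)) → η ⤳ ξ' → η = ξ' := by
    intro η hη hspec
    have hηT : η ∈ T := (hT η).2 hη
    have hC : IsIrreducible (closure ({⟨η, hηT⟩} : Set T)) := isIrreducible_singleton.closure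
    have hsub : Z ⊆ closure ({⟨η, hηT⟩} : Set T) := fun z hz => by
      rw [← specializes_iff_mem_closure, subtype_specializes_iff]
      exact hspec.trans (specializes_iff_mem_closure.2 (hξ.def.symm ▸ ⟨z, hz, rfl⟩))
    have hηZ : (⟨η, hηT⟩ : T) ∈ Z := hZ.2 hC hsub (subset_closure rfl)
    have h2 : ξ' ⤳ η := specializes_iff_mem_closure.2 (hξ.def.symm ▸ ⟨_, hηZ, rfl⟩)
    exact (hspec.antisymm h2).eq
  have hdim : ringKrullDim (X.presheaf.stalk ξ') = 1 :=
    S2852.result f hUFD ⟨W₀, hW₀ne, hW₀⟩ ξ' ((hT ξ').1 hξT) hmax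
  -- dimension count
  obtain ⟨b, hb, ⟨w, hw, hwb⟩, hle⟩ := VarDim.exists_deg_add_stalk sX ξ'
  have h1 := hle _ (genericPoint_specializes ξ')
  have h2 := VarDim.deg_le_of_specializes sX (genericPoint_specializes w)
  rw [hb] at hdim
  have hb1 : b = 1 := by exact_mod_cast hdim
  have hd : VarDim.deg sX ξ' + 1 = VarDim.deg sX (genericPoint X) := by omega
  let e : Z ≃ₜ S := (hTc.isClosedEmbedding_subtypeVal.isEmbedding.homeomorphImage Z)
  rw [IsHomeomorph.topologicalKrullDim_eq e e.isHomeomorph, ← hξ.def,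
    VarDim.topologicalKrullDim_closure_singleton sX, VarDim.topologicalKrullDim_eq_deg_genericPoint sX, ← hd]
  push_cast
  rfl

end Groth.Agent.S14515
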