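import Groth.Statements.S14518
import Groth.Agent.HopfLem5.Basic
import Groth.Agent.CurveCohLib.Hopf
import Groth.Agent.TorLib.Basic
import Groth.Agent.GenDiff29.Basic
import Groth.Agent.H28.PushLocFree
import Groth.Agent.KFlatLib.Perfect.Tensor

set_option autoImplicit false
universe u
open CategoryTheory CategoryTheory.Limits AlgebraicGeometry
open Variety

namespace Groth.Agent.S14518

set_option backward.isDefEq.respectTransparency false
set_option backward.isDefEq.respectTransparency.types false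
set_option maxHeartbeats 1000000
set_option synthInstance.maxHeartbeats 400000

theorem exists_dual_ne_zero {K V : Type*} [Field K] [AddCommGroup V] [Module K V] {v : V} (hv : v ≠ 0) :
    ∃ φ : V →ₗ[K] K, φ v ≠ 0 := by
  by_contra h
  push Not at h
  exact hv ((Module.forall_dual_apply_eq_zero_iff K v).1 h)

open TopologicalSpace Opposite in
open scoped TensorProduct MonoidalCategory in
/-- The pairing of stalks underlying the tensor of sections. -/
theorem exists_pairing {X : Scheme.{u}} (M N : X.Modules) (x : X) :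
    ∃ P : M.presheaf.stalk x → N.presheaf.stalk x → (CohB1.tensorMod M N).presheaf.stalk x,
      (∀ a a' b, P (a + a') b = P a b + P a' b) ∧ (∀ a b b', P a (b + b') = P a b + P a b') ∧
      (∀ (r : X.presheaf.stalk x) a b, P (r • a) b = r • P a b) ∧
      (∀ (r : X.presheaf.stalk x) a b, P a (r • b) = r • P a b) ∧
      (IsField (X.presheaf.stalk x) → ∀ a b, P a b = 0 → a = 0 ∨ b = 0) ∧
      ∀ (σ : Γ(M, ⊤)) (τ : Γ(N, ⊤)), P (M.presheaf.germ ⊤ x trivial σ) (N.presheaf.germ ⊤ x trivial τ) =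
        (CohB1.tensorMod M N).presheaf.germ ⊤ x trivial (InvX.tmul σ τ) := by
  let P₀ := CohB1.toPMod M
  let Q₀ := CohB1.toPMod N
  let ψ := ((KFlatLib.stalkP x).map (KFlatLib.unitShP (P₀ ⊗ Q₀))).hom ∘ₗ
    (KFlatLib.tensorStalkEquiv P₀ Q₀).toLinearMap
  have hψ : Function.Injective ψ := ((ConcreteCategory.bijective_of_isIso
      ((KFlatLib.stalkP x).map (KFlatLib.unitShP (P₀ ⊗ Q₀)))).1).comp
      (KFlatLib.tensorStalkEquiv P₀ Q₀).injective
  refine ⟨fun a b => ψ ((show (KFlatLib.stalkMod x P₀ : Type u) from a) ⊗ₜ[X.presheaf.stalk x] (show (KFlatLib.stalkMod x Q₀ : Type u) from b)),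
    fun a a' b => ?_, fun a b b' => ?_, fun r a b => ?_, fun r a b => ?_, fun hF a b h0 => ?_, fun σ τ => ?_⟩
  · exact (congrArg ψ (TensorProduct.add_tmul _ _ _)).trans (map_add ψ _ _)
  · exact (congrArg ψ (TensorProduct.tmul_add _ _ _)).trans (map_add ψ _ _)
  · exact (congrArg ψ (TensorProduct.smul_tmul' r _ _).symm).trans (map_smul ψ _ _)
  · exact (congrArg ψ (TensorProduct.tmul_smul r _ _)).trans (map_smul ψ _ _)
  · letI := hF.toField
    have h1 := (injective_iff_map_eq_zero ψ).1 hψ _ h0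
    by_contra hne
    push Not at hne
    obtain ⟨φa, hφa⟩ := exists_dual_ne_zero (K := X.presheaf.stalk x) (V := KFlatLib.stalkMod x P₀) hne.1
    obtain ⟨φb, hφb⟩ := exists_dual_ne_zero (K := X.presheaf.stalk x) (V := KFlatLib.stalkMod x Q₀) hne.2
    have h2 := congrArg ((TensorProduct.lid _ _).toLinearMap ∘ₗ TensorProduct.map φa φb) h1
    rw [map_zero] at h2
    exact mul_ne_zero hφa hφb h2
  · exact (congrArg ((KFlatLib.stalkP x).map (KFlatLib.unitShP (P₀ ⊗ Q₀))).hom
      (KFlatLib.ofTensor_germ ⊤ trivial _ _)).trans (KFlatLib.stalkModMap_germ _ ⊤ trivial _)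

/-- A section of a finite locally free module on an integral scheme with zero generic germ vanishes. -/
theorem h0_eq_zero {X : Scheme.{u}} [IsIntegral X] {M : X.Modules} (hM : FlatMod.IsFinLocFree M)
    (t : Coh.HH X M 0) (ht : M.presheaf.germ ⊤ (genericPoint X) trivial
      (Sheaf.H.equiv₀ (Coh.toAb M) isTerminalTop t : Γ(M, ⊤)) = 0) : t = 0 := by
  refine (Sheaf.H.equiv₀ (Coh.toAb M) isTerminalTop).injective ?_
  rw [map_zero]
  exact TorLib.eq_zero_of_germ_genericPoint (H28.PushLocFree.isCoh_of_isFinLocFree hM).1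
    (GenDiff29.isTorsionFree_of_isFinLocFree hM) (U := ⊤) trivial _ ht

/-- Hopf's inequality for a pairing of finite locally free modules which is nondegenerate generically. -/
theorem finrank_of_pairing (k : Type u) [Field k] [IsAlgClosed k]
    (X : Scheme.{u}) [X.Over (Spec (CommRingCat.of k))] [IsIntegral X] [IsProper (X ↘ (Spec (CommRingCat.of k)))]
    (E₁ E₂ T : X.Modules) (h₁ : FlatMod.IsFinLocFree E₁) (h₂ : FlatMod.IsFinLocFree E₂) (hT : FlatMod.IsFinLocFree T)
    [Nontrivial (Coh.HH X E₁ 0)] [Nontrivial (Coh.HH X E₂ 0)]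
    (μ : Γ(E₁, ⊤) → Γ(E₂, ⊤) → Γ(T, ⊤))
    (P : E₁.presheaf.stalk (genericPoint X) → E₂.presheaf.stalk (genericPoint X) → T.presheaf.stalk (genericPoint X))
    (hPl : ∀ a a' b, P (a + a') b = P a b + P a' b) (hPr : ∀ a b b', P a (b + b') = P a b + P a b')
    (hPsl : ∀ (r : X.presheaf.stalk (genericPoint X)) a b, P (r • a) b = r • P a b)
    (hPsr : ∀ (r : X.presheaf.stalk (genericPoint X)) a b, P a (r • b) = r • P a b)
    (hP0 : ∀ a b, P a b = 0 → a = 0 ∨ b = 0)
    (hμ : ∀ σ τ, P (E₁.presheaf.germ ⊤ (genericPoint X) trivial σ) (E₂.presheaf.germ ⊤ (genericPoint X) trivial τ) =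
      T.presheaf.germ ⊤ (genericPoint X) trivial (μ σ τ)) :
    Module.finrank k (Coh.HH X E₁ 0) + Module.finrank k (Coh.HH X E₂ 0) ≤ Module.finrank k (Coh.HH X T 0) + 1 := by
  haveI := CurveCohLib.isNoetherian_of_proper (k := k) (X := X)
  let η := genericPoint X
  let g := fun (M : X.Modules) (t : Coh.HH X M 0) =>
    M.presheaf.germ ⊤ η trivial (Sheaf.H.equiv₀ (Coh.toAb M) isTerminalTop t : Γ(M, ⊤))
  have gadd : ∀ (M : X.Modules) (a b : Coh.HH X M 0), g M (a + b) = g M a + g M b := fun M a b =>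
    (congrArg (M.presheaf.germ ⊤ η trivial) (map_add (Sheaf.H.equiv₀ (Coh.toAb M) isTerminalTop) a b)).trans (map_add _ _ _)
  have gsmul : ∀ (M : X.Modules) (a : k) (t : Coh.HH X M 0), g M (a • t) = Curv2.stalkMap k X η a • g M t :=
    fun M a t => CurveCohLib.germ_h0Equiv_smul M a t η
  let β : Coh.HH X E₁ 0 → Coh.HH X E₂ 0 → Coh.HH X T 0 := fun s t =>
    (Sheaf.H.equiv₀ (Coh.toAb T) isTerminalTop).symm (μ
      (Sheaf.H.equiv₀ (Coh.toAb E₁) isTerminalTop s : Γ(E₁, ⊤)) (Sheaf.H.equiv₀ (Coh.toAb E₂) isTerminalTop t : Γ(E₂, ⊤)))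
  have hβ : ∀ s t, g T (β s t) = P (g E₁ s) (g E₂ t) := fun s t => by
    refine Eq.trans ?_ (hμ _ _).symm
    exact congrArg (T.presheaf.germ ⊤ η trivial)
      ((Sheaf.H.equiv₀ (Coh.toAb T) isTerminalTop).apply_symm_apply _)
  have hext : ∀ a b : Coh.HH X T 0, g T a = g T b → a = b := fun a b hab => by
    refine sub_eq_zero.1 (h0_eq_zero hT _ ?_)
    have := gadd T (a - b) b
    rw [sub_add_cancel, hab] at this
    exact add_eq_right.1 this.symm
  let B : Coh.HH X E₁ 0 →ₗ[k] Coh.HH X E₂ 0 →ₗ[k] Coh.HH X T 0 := LinearMap.mk₂ k β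
    (fun a a' b => hext _ _ (by rw [gadd, hβ, hβ, hβ, gadd]; exact hPl _ _ _))
    (fun c a b => hext _ _ (by rw [gsmul, hβ, hβ, gsmul]; exact hPsl _ _ _))
    (fun a b b' => hext _ _ (by rw [gadd, hβ, hβ, hβ, gadd]; exact hPr _ _ _))
    (fun c a b => hext _ _ (by rw [gsmul, hβ, hβ, gsmul]; exact hPsr _ _ _))
  haveI := CurveCohLib.finite_HH (k := k) (H28.PushLocFree.isCoh_of_isFinLocFree h₁) 0
  haveI := CurveCohLib.finite_HH (k := k) (H28.PushLocFree.isCoh_of_isFinLocFree h₂) 0
  haveI := CurveCohLib.finite_HH (k := k) (H28.PushLocFree.isCoh_of_isFinLocFree hT) 0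
  refine HopfLem5.finrank_add_le B fun s t hst => ?_
  refine (hP0 (g E₁ s) (g E₂ t) ?_).imp (h0_eq_zero h₁ s) (h0_eq_zero h₂ t)
  rw [← hβ, show β s t = 0 from hst]
  exact (congrArg (T.presheaf.germ ⊤ η trivial) (map_zero _)).trans (map_zero _)

/-- Let k be an algebraically closed field, X an irreducible variety over k, taken here complete (X
integral and proper over k, so that spaces of global sections are finite-dimensional), and E_1, E_2
vector bundles (finite locally free O_X-modules) on X with H^0(X, E_1) ≠ 0 and H^0(X, E_2) ≠ 0. Then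
dim_k H^0(X, E_1 ⊗ E_2) ≥ dim_k H^0(X, E_1) + dim_k H^0(X, E_2) − 1. (The published statement allows
any irreducible variety; for non-complete X the spaces of sections may be infinite-dimensional and
the inequality carries no content, so X is taken complete here.) -/
theorem result (k : Type u) [Field k] [IsAlgClosed k]
    (X : Scheme.{u}) [X.Over (Spec (CommRingCat.of k))] [IsIntegral X] [IsProper (X ↘ (Spec (CommRingCat.of k)))]
    (E₁ E₂ : X.Modules) (h₁ : FlatMod.IsFinLocFree E₁) (h₂ : FlatMod.IsFinLocFree E₂)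
    [Nontrivial (Coh.HH X E₁ 0)] [Nontrivial (Coh.HH X E₂ 0)] :
    Module.finrank k (Coh.HH X E₁ 0) + Module.finrank k (Coh.HH X E₂ 0) ≤
      Module.finrank k (Coh.HH X (CohB1.tensorMod E₁ E₂) 0) + 1 := by
  obtain ⟨P, hl, hr, hsl, hsr, h0, hμ⟩ := exists_pairing E₁ E₂ (genericPoint X)
  exact finrank_of_pairing k X E₁ E₂ _ h₁ h₂ (KFlatLib.isFinLocFree_tensor h₁ h₂) InvX.tmul P hl hr hsl hsr
    (h0 (Field.toIsField X.functionField)) hμ

end Groth.Agent.S14518
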