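import Groth.Statements.S14519
import Groth.Agent.BirNormal.Basic
import Groth.Agent.VarDim.Top
import Groth.Agent.S0219
import Groth.Agent.S9821
import Groth.Agent.GrpSchLib.SmoothRegular
import Groth.Agent.RegLoc6.Normal

set_option autoImplicit false
universe u
open CategoryTheory CategoryTheory.Limits AlgebraicGeometry
open Curves

namespace Groth.Agent.S14519

theorem bijective_stalk_of_eq {X Y : Scheme.{u}} (g : X ⟶ Y) {a b : X} (h : a = b) {y : Y}
    (ha : g a = y) (hb : g b = y)
    (H : Function.Bijective (Y.presheaf.stalkSpecializes (specializes_of_eq ha) ≫ g.stalkMap a).hom) :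
    Function.Bijective (Y.presheaf.stalkSpecializes (specializes_of_eq hb) ≫ g.stalkMap b).hom := by
  subst h
  exact H



/-- Let k be an algebraically closed field and f : X → Y a birational morphism over k between smooth
curves (X, Y integral, separated, of finite type and smooth over k, of dimension one; f sends the
generic point of X to that of Y and the induced map of function fields K(Y) → K(X) is bijective).
Then f is an open immersion. -/
theorem result (k : Type u) [Field k] [IsAlgClosed k]
    (X Y : Scheme.{u}) [X.Over (Spec (CommRingCat.of k))] [Y.Over (Spec (CommRingCat.of k))]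
    [IsIntegral X] [IsSeparated (X ↘ (Spec (CommRingCat.of k)))] [LocallyOfFiniteType (X ↘ (Spec (CommRingCat.of k)))] [QuasiCompact (X ↘ (Spec (CommRingCat.of k)))] [Smooth (X ↘ (Spec (CommRingCat.of k)))] (hdimX : topologicalKrullDim X = 1)
    [IsIntegral Y] [IsSeparated (Y ↘ (Spec (CommRingCat.of k)))] [LocallyOfFiniteType (Y ↘ (Spec (CommRingCat.of k)))] [QuasiCompact (Y ↘ (Spec (CommRingCat.of k)))] [Smooth (Y ↘ (Spec (CommRingCat.of k)))] (hdimY : topologicalKrullDim Y = 1)
    (f : X ⟶ Y) (hf : f ≫ (Y ↘ (Spec (CommRingCat.of k))) = (X ↘ (Spec (CommRingCat.of k))))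
    (e : f (genericPoint X) = genericPoint Y)
    (hbir : Function.Bijective (Y.presheaf.stalkSpecializes (specializes_of_eq e) ≫ f.stalkMap (genericPoint X)).hom) :
    IsOpenImmersion f := by
  set pX := X ↘ (Spec (CommRingCat.of k))
  set pY := Y ↘ (Spec (CommRingCat.of k))
  have hdegX : VarDim.deg pX (genericPoint X) = 1 := by
    have h := VarDim.topologicalKrullDim_eq_deg_genericPoint pX
    rw [hdimX] at h
    exact_mod_cast h.symm
  have hdegY : VarDim.deg pY (genericPoint Y) = 1 := by
    have h := VarDim.topologicalKrullDim_eq_deg_genericPoint pY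
    rw [hdimY] at h
    exact_mod_cast h.symm
  haveI : LocallyOfFiniteType (f ≫ pY) := hf ▸ inferInstance
  haveI : LocallyOfFiniteType f := locallyOfFiniteType_of_comp f pY
  haveI : IsSeparated (f ≫ pY) := hf ▸ inferInstance
  haveI : IsSeparated f := IsSeparated.of_comp f pY
  haveI : QuasiCompact (f ≫ pY) := hf ▸ inferInstance
  haveI : QuasiCompact f := QuasiCompact.of_comp f pY
  haveI : JacobsonSpace Y := LocallyOfFiniteType.jacobsonSpace pY
  haveI : IsLocallyNoetherian X := LocallyOfFiniteType.isLocallyNoetherian pX
  haveI : CompactSpace X := QuasiCompact.compactSpace_of_compactSpace pX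
  haveI : AlgebraicGeometry.IsNoetherian X := {}
  have hclX : ∀ x : X, x ≠ genericPoint X → IsClosed ({x} : Set X) := by
    intro x hne
    rw [VarDim.closedPoint_iff_deg_eq_zero pX]
    have hsp : genericPoint X ⤳ x := genericPoint_specializes x
    have := VarDim.deg_strictMono pX (show x < genericPoint X from
      lt_iff_le_not_ge.2 ⟨hsp, fun h' => hne (Specializes.antisymm h' hsp).eq⟩)
    omega
  have hclY : ∀ x : X, x ≠ genericPoint X → IsClosed ({f x} : Set Y) := fun x hne =>
    Scheme.Hom.closePoints_subset_preimage_closedPoints f (hclX x hne)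
  have hηY : ¬ IsClosed ({genericPoint Y} : Set Y) := fun h => by
    rw [VarDim.closedPoint_iff_deg_eq_zero pY, hdegY] at h
    omega
  haveI : LocallyQuasiFinite f := by
    refine LocallyQuasiFinite.of_finite_preimage_singleton (f := f) fun y => ?_
    by_cases hy : y = genericPoint Y
    · subst hy
      refine (Set.finite_singleton (genericPoint X)).subset fun x hx => ?_
      by_contra hne
      exact hηY ((show f x = genericPoint Y from hx) ▸ hclY x hne)
    · have hηS : ∀ x ∈ f ⁻¹' {y}, x ≠ genericPoint X := fun x hx he =>
        hy ((show f x = y from hx).symm.trans (he ▸ e))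
      rcases (f ⁻¹' {y}).eq_empty_or_nonempty with h0 | ⟨x, hx⟩
      · rw [h0]; exact Set.finite_empty
      · have hyc : IsClosed ({y} : Set Y) := (show f x = y from hx) ▸ hclY x (hηS x hx)
        have hS : IsClosed (f ⁻¹' {y}) := hyc.preimage f.continuous
        haveI : QuasiSober ↥(f ⁻¹' {y}) := hS.isClosedEmbedding_subtypeVal.quasiSober
        refine Set.finite_coe_iff.mp (S0219.finite_of_forall_isClosed fun a => ?_)
        have he : ({a} : Set ↥(f ⁻¹' {y})) = Subtype.val ⁻¹' {(a : X)} := by
          ext b; simp [Subtype.ext_iff]
        rw [he]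
        exact (hclX a (hηS a a.2)).preimage continuous_subtype_val
  have hN : Pi1.IsNormalScheme Y := fun y => by
    haveI := GrpSchLib.isRegularLocalRing_stalk_of_smooth pY y
    exact ⟨RegLoc6.isDomain_of_isRegularLocalRing _, RegLoc6.isIntegrallyClosed_of_isRegularLocalRing _⟩
  set g := f.fromNormalization
  set t := f.toNormalization
  have htη : t (genericPoint X) = genericPoint f.normalization :=
    genericPoint_eq_of_isOpenImmersion t
  have hgt : g (t (genericPoint X)) = genericPoint Y := by
    rw [← Scheme.Hom.comp_apply, f.toNormalization_fromNormalization]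
    exact e
  have hgη : g (genericPoint f.normalization) = genericPoint Y := htη ▸ hgt
  have hH : Function.Bijective
      (Y.presheaf.stalkSpecializes (specializes_of_eq hgt) ≫ g.stalkMap (t (genericPoint X))).hom := by
    have hkey : ∀ (f' : X ⟶ Y) (_ : t ≫ g = f') (e' : f' (genericPoint X) = genericPoint Y),
        Function.Bijective (Y.presheaf.stalkSpecializes (specializes_of_eq e') ≫ f'.stalkMap (genericPoint X)).hom →
        Function.Bijective (Y.presheaf.stalkSpecializes (specializes_of_eq hgt) ≫ g.stalkMap (t (genericPoint X))).hom := by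
      rintro f' rfl e' hb
      rw [Scheme.Hom.stalkMap_comp] at hb
      have h2 : Function.Bijective (t.stalkMap (genericPoint X)).hom :=
        ConcreteCategory.bijective_of_isIso _
      exact (Function.Bijective.of_comp_iff' h2 _).mp (by exact hb)
    exact hkey f f.toNormalization_fromNormalization e hbir
  haveI : IsIso g := BirNormal.isIso_of_isIntegralHom g
    (fun U hU hUa => @(S9821.result Y).1 hN U hU hUa) hgη
    (bijective_stalk_of_eq g htη hgt hgη hH)
  rw [← f.toNormalization_fromNormalization]
  infer_instance

end Groth.Agent.S14519
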