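import Groth.Statements.S1452
import Groth.Agent.UnibPoint.Basic

set_option autoImplicit false
universe u
open FlatMor

namespace Groth.Agent.S1452

open AlgebraicGeometry CategoryTheory Limits in
/-- Let f : X → Y and g : Y → Z with Y integral and the local ring of Y at y = f x geometrically
unibranch; assume g ∘ f is étale on an open neighbourhood of x and some generization of x maps to
the generic point of Y. Then f is étale on an open neighbourhood of x and g is étale on an open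
neighbourhood of y. -/
theorem result {X Y Z : Scheme.{u}} (f : X ⟶ Y) (g : Y ⟶ Z) [IsIntegral Y] (x : X)
    (hY : CAlg2.IsGeomUnibranch (Y.presheaf.stalk (f x))) (het : ∃ U : X.Opens, x ∈ U ∧ Etale (U.ι ≫ f ≫ g))
    (hsp : ∃ x' : X, x' ⤳ x ∧ f x' = genericPoint ↑Y) :
    (∃ U : X.Opens, x ∈ U ∧ Etale (U.ι ≫ f)) ∧ ∃ V : Y.Opens, f x ∈ V ∧ Etale (V.ι ≫ g) := by
  obtain ⟨U, hxU, hU⟩ := het
  haveI : Etale ((U.ι ≫ f) ≫ g) := by rw [Category.assoc]; exact hU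
  haveI : FormallyUnramified (U.ι ≫ f) := FormallyUnramified.of_comp (U.ι ≫ f) g
  haveI : LocallyOfFiniteType (U.ι ≫ f) := locallyOfFiniteType_of_comp (U.ι ≫ f) g
  obtain ⟨V₀, hxV₀, hV₀⟩ := UnibPoint.etale_at f x hY hsp U hxU
  haveI := hV₀
  let V := V₀ ⊓ U
  haveI h1 : Etale (V.ι ≫ f) := by
    rw [show V.ι ≫ f = X.homOfLE (inf_le_left : V ≤ V₀) ≫ V₀.ι ≫ f by rw [Scheme.homOfLE_ι_assoc]]
    infer_instance
  refine ⟨⟨V, ⟨hxV₀, hxU⟩, h1⟩, ?_⟩
  let W : Y.Opens := ⟨Set.range (V.ι ≫ f), (V.ι ≫ f).isOpenMap.isOpen_range⟩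
  refine ⟨W, ⟨⟨x, hxV₀, hxU⟩, rfl⟩, ?_⟩
  let l : (V : Scheme.{u}) ⟶ W := IsOpenImmersion.lift W.ι (V.ι ≫ f)
    (by rw [Scheme.Opens.range_ι]; exact subset_rfl)
  have hl : l ≫ W.ι = V.ι ≫ f := IsOpenImmersion.lift_fac _ _ _
  haveI : Etale (l ≫ W.ι) := hl ▸ h1
  haveI : Etale l := Etale.of_comp l W.ι
  haveI : Surjective l := ⟨fun w => by
    obtain ⟨z, hz⟩ := w.2
    refine ⟨z, Subtype.ext ?_⟩
    rw [← hz, ← hl]
    rfl⟩
  refine SrcDescent.etale_of_etale_comp l (W.ι ≫ g) ?_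
  rw [← Category.assoc, hl, show V.ι = X.homOfLE (inf_le_right : V ≤ U) ≫ U.ι by rw [Scheme.homOfLE_ι],
    Category.assoc, Category.assoc]
  infer_instance

end Groth.Agent.S1452
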