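import Groth.Statements.S14521
import Groth.Agent.Lib.IntAltApp

set_option autoImplicit false
set_option backward.isDefEq.respectTransparency false
set_option backward.isDefEq.respectTransparency.types false
set_option linter.style.haveILetI false
set_option linter.unusedSectionVars false
set_option maxHeartbeats 400000
universe u
open CategoryTheory CategoryTheory.Limits AlgebraicGeometry
open Variety

namespace Groth.Agent.S14521

attribute [local instance] H23.PicMul.clMonoid

/-- Let k be an algebraically closed field, X a complete variety over k (reduced and proper over k) of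
dimension at most d, L_1, …, L_r line bundles with tensor inverses M_1, …, M_r, and F a coherent
O_X-module whose support has dimension at most r. Let Y_1, …, Y_s be the r-dimensional irreducible
components of Supp F, with generic points ξ_1, …, ξ_s (given as a finite set s of points: ξ ∈ s iff
ξ ∈ Supp F and the closure of ξ has dimension r), each Y_i with its reduced structure. Then
(L_1⋯L_r; F) = Σ_i length_{O_{X,ξ_i}}(F_{ξ_i}) · (L_1⋯L_r · Y_i), where all intersection numbers are
the alternating Euler-characteristic sums in the M_i (the prelude's FGA.intNum). -/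
theorem result (k : Type u) [Field k] [IsAlgClosed k]
    (X : Scheme.{u}) [X.Over (Spec (CommRingCat.of k))] [IsReduced X] [IsProper (X ↘ (Spec (CommRingCat.of k)))] (d : ℕ) (hd : topologicalKrullDim X ≤ d)
    {r : ℕ} (M : Fin r → X.Modules) (hM : ∀ i, PicF.IsInvertible (M i))
    (F : X.Modules) (hF : Coh.IsCoh F) (hsupp : topologicalKrullDim ↥(CohB1.support F) ≤ r)
    (s : Finset X) (hs : ∀ ξ : X, ξ ∈ s ↔ ξ ∈ CohB1.support F ∧ topologicalKrullDim ↥(closure ({ξ} : Set X)) = r) :
    FGA.intNum k X d M F =
      ∑ ξ ∈ s, ((Module.length (X.presheaf.stalk ξ) (F.presheaf.stalk ξ)).toNat : ℤ) *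
        FGA.intNum k X d M (ClSub.quotMod (Scheme.IdealSheafData.vanishingIdeal ⟨closure ({ξ} : Set X), isClosed_closure⟩)) := by
  haveI := CurveCohLib.isNoetherian_of_proper (k := k) (X := X)
  have hle : Cyc.CohLe (SnapLead.δ k) r F := SnapLead.cohLe_of_dim k hF hsupp
  have hδ : ∀ ξ ∈ s, SnapLead.δ k ξ = (r : ℤ) := fun ξ hξ => (IntAlt.delta_eq_iff k ξ r).1 ((hs ξ).1 hξ).2
  rw [IntAlt.intNum_eq_alt k hd hM hF, IntAlt.alt_eq_sum_closure k hM hle s hδ fun ξ hξ => ?_]
  · refine Finset.sum_congr rfl fun ξ hξ => ?_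
    obtain ⟨e⟩ := IntAlt.nonempty_quot_ptIdeal ξ
    have hc : Coh.IsCoh (ClSub.quotMod (IntMult.ptIdeal ξ)) := ParShLib.isCoh_quotMod _
    rw [show Scheme.IdealSheafData.vanishingIdeal (X := X) ⟨closure ({ξ} : Set X), isClosed_closure⟩ = IntMult.ptIdeal ξ from rfl,
      IntAlt.intNum_eq_alt k hd hM hc, Cyc.sheafFun, if_pos (hδ ξ hξ), IntAlt.alt_eq_sum, IntAlt.alt_eq_sum,
      H23.PicMul.cl_eq_iff.2 ⟨e⟩]
  · have hd' : SnapLead.δ k ξ = (r : ℤ) := by
      by_contra hne
      exact hξ (by simp only [Cyc.sheafFun, if_neg hne])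
    refine (hs ξ).2 ⟨?_, (IntAlt.delta_eq_iff k ξ r).2 hd'⟩
    exact not_subsingleton_iff_nontrivial.2 (H23.CycleClassK.nontrivial_of_sheafFun hξ).2

end Groth.Agent.S14521
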