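import Groth.Statements.S14522
import Groth.Agent.Lib.IntAltApp
import Groth.Agent.Lib.DivisorExt
import Groth.Agent.AssPtX.Basic
import Groth.Agent.H26.IdealCl
import Groth.Agent.AmpleVan.Vanish
import Groth.Agent.Lib.IntNumEquiv

set_option autoImplicit false
set_option backward.isDefEq.respectTransparency false
set_option backward.isDefEq.respectTransparency.types false
set_option linter.style.haveILetI false
set_option linter.unusedSectionVars false
set_option maxHeartbeats 400000
universe u
open CategoryTheory CategoryTheory.Limits AlgebraicGeometry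
open Variety

namespace Groth.Agent.S14522


open H23 H23.PicMul H23.CycleClassK in
/-- Multiplication by the ideal is injective when the divisor avoids the associated points. -/
theorem mono_mulIdeal {X : Scheme.{u}} [IsLocallyNoetherian X] (D : X.IdealSheafData)
    (hI : PicF.IsInvertible (ClSub.idealMod D)) (F : X.Modules) (hF : Coh.IsCoh F)
    (hass : ∀ x ∈ D.support, ¬ Curv2.IsAssPoint F x) : Mono (DivisorExt.mulIdeal D F) := by
  refine AssPtX.mono_of_stalk _ (AmpleVan.isCoh_tensor hF (K0TensorInv.isCoh_invertible hI)).1 fun x => ?_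
  obtain ⟨t, ht, -⟩ := RatSec.exists_gen hI x
  let e : F.presheaf.stalk x ≃ₗ[X.presheaf.stalk x] ((K0TensorInv.ten (ClSub.idealMod D)).obj F).presheaf.stalk x :=
    LinearEquiv.ofBijective _ (K0TensorInv.sig_bijective (ClSub.idealMod D) F ht)
  by_cases hx : x ∈ D.support
  · refine Or.inr fun hw => hass x hx (AssPtX.isAssPoint_iff.2 ?_)
    obtain ⟨n, hn⟩ := hw
    obtain ⟨m, rfl⟩ : ∃ m, e m = n := e.surjective n
    refine ⟨m, Eq.trans (congrArg Ideal.radical ?_) hn⟩
    ext r
    simp only [LinearMap.mem_ker, LinearMap.toSpanSingleton_apply]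
    exact ⟨fun h => (e.map_smul r m).symm.trans ((congrArg e h).trans (map_zero e)),
      fun h => e.injective (((e.map_smul r m).trans h).trans (map_zero e).symm)⟩
  · refine Or.inl ?_
    obtain ⟨V, hV, hxV, hVD⟩ := exists_isAffineOpen_mem_and_subset
      (U := ⟨(D.support : Set X)ᶜ, D.support.isClosed.isOpen_compl⟩) hx
    have hempty : D.subschemeι ⁻¹ᵁ V = ⊥ := by
      ext c
      simp only [Scheme.Hom.coe_preimage, Set.mem_preimage, TopologicalSpace.Opens.coe_bot, Set.mem_empty_iff_false, iff_false]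
      exact fun hc => hVD hc (D.range_subschemeι ▸ ⟨c, rfl⟩)
    haveI : Subsingleton Γ(D.subscheme, D.subschemeι ⁻¹ᵁ V) := by
      rw [hempty]; infer_instance
    obtain ⟨b, hb⟩ := OmegaLib.exists_idealSect_eq D V 1 (Subsingleton.elim _ _)
    have key : ∀ m : F.presheaf.stalk x, LocFinCoprod.stk (DivisorExt.mulIdeal D F) x
        (K0TensorInv.sig (ClSub.idealMod D) F ((ClSub.idealMod D).presheaf.germ V x hxV b) m) = m := by
      intro m
      obtain ⟨U, hxU, a, rfl⟩ := F.presheaf.exists_germ_eq m
      have hW : x ∈ U ⊓ V := ⟨hxU, hxV⟩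
      rw [← TopCat.Presheaf.germ_res_apply (F := F.presheaf) (homOfLE (inf_le_left : U ⊓ V ≤ U)) x hW a,
        ← TopCat.Presheaf.germ_res_apply (F := (ClSub.idealMod D).presheaf) (homOfLE (inf_le_right : U ⊓ V ≤ V)) x hW b]
      refine (congrArg _ (KFlatLib.stalkTensorIso_gm F (ClSub.idealMod D) (U ⊓ V) hW _ _)).trans ?_
      refine (LocFinCoprod.stk_germ _ x hW _).trans (congrArg (F.presheaf.germ (U ⊓ V) x hW) ?_)
      refine (DivisorExt.mulIdeal_tmS D F _ _).trans ?_
      rw [OmegaLib.idealSect_map, hb, map_one, one_smul]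
    obtain ⟨c, hc⟩ := Submodule.mem_span_singleton.1
      (ht.1.ge (Submodule.mem_top : (ClSub.idealMod D).presheaf.germ V x hxV b ∈ ⊤))
    intro p q hpq
    obtain ⟨m, rfl⟩ : ∃ m, e m = p := e.surjective p
    obtain ⟨m', rfl⟩ : ∃ m, e m = q := e.surjective q
    have hsig : ∀ n, K0TensorInv.sig (ClSub.idealMod D) F ((ClSub.idealMod D).presheaf.germ V x hxV b) n = c • e n := fun n => by
      rw [← hc]
      show (KFlatLib.stalkTensorIso x F (ClSub.idealMod D)).toLinearEquiv (n ⊗ₜ[X.presheaf.stalk x] (c • t)) = _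
      rw [TensorProduct.tmul_smul, map_smul]
      rfl
    have hl : LocFinCoprod.stk (DivisorExt.mulIdeal D F) x (e m) = LocFinCoprod.stk (DivisorExt.mulIdeal D F) x (e m') := hpq
    have h1 := key m
    have h2 := key m'
    rw [hsig, map_smul] at h1 h2
    rw [← h1, ← h2, hl]

/-- Let k be an algebraically closed field, X an irreducible complete variety over k (integral and
proper over k) of dimension at most d, L_1, …, L_r line bundles with tensor inverses M_1, …, M_r, F
a coherent O_X-module with dim Supp F ≤ r + 1, and D an effective Cartier divisor on X (a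
quasi-coherent ideal I_D locally generated by one nonzerodivisor) whose support contains no
associated point of F. Then (L_1⋯L_r·O_X(D); F) = (L_1⋯L_r; F ⊗ O_D): with intersection numbers
written as the alternating Euler-characteristic sums in the inverses (the prelude's FGA.intNum), the
(r+1)-fold number of F in M_1, …, M_r, I_D equals the r-fold number of F ⊗ O_D in M_1, …, M_r (for r
= 0 the right side is χ(F ⊗ O_D) = h^0(F ⊗ O_D)). -/
theorem result (k : Type u) [Field k] [IsAlgClosed k]
    (X : Scheme.{u}) [X.Over (Spec (CommRingCat.of k))] [IsIntegral X] [IsProper (X ↘ (Spec (CommRingCat.of k)))] (d : ℕ) (hd : topologicalKrullDim X ≤ d)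
    {r : ℕ} (M : Fin r → X.Modules) (hM : ∀ i, PicF.IsInvertible (M i))
    (F : X.Modules) (hF : Coh.IsCoh F) (hsupp : topologicalKrullDim ↥(CohB1.support F) ≤ r + 1)
    (D : X.IdealSheafData) (hD : BlowUp.IsEffCartierIdeal D) (hass : ∀ x ∈ D.support, ¬ Curv2.IsAssPoint F x) :
    FGA.intNum k X d (Fin.snoc M (ClSub.idealMod D)) F = FGA.intNum k X d M (CohB1.tensorMod F (ClSub.quotMod D)) := by
  haveI := CurveCohLib.isNoetherian_of_proper (k := k) (X := X)
  let I := ClSub.idealMod D
  have hI : PicF.IsInvertible I := H26.IdealCl.isInvertible_idealMod hD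
  have hS : ∀ i, PicF.IsInvertible ((Fin.snoc M I : Fin (r + 1) → X.Modules) i) := fun i => by
    induction i using Fin.lastCases with
    | last => simpa [I] using hI
    | cast j => simpa using hM j
  have hFI : Coh.IsCoh (CohB1.tensorMod F I) := AmpleVan.isCoh_tensor hF (H23.K0TensorInv.isCoh_invertible hI)
  have hQ : Coh.IsCoh (CohB1.tensorMod F (ClSub.quotMod D)) := AmpleVan.isCoh_tensor hF (ParShLib.isCoh_quotMod D)
  rw [IntAlt.intNum_eq_alt k hd hS hF, IntAlt.intNum_eq_alt k hd hM hQ]
  haveI := mono_mulIdeal D hI F hF hass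
  obtain ⟨e⟩ := DivisorExt.nonempty_cokernel_mulIdeal D F
  have hse : (ShortComplex.mk (DivisorExt.mulIdeal D F) (cokernel.π _) (cokernel.condition _)).ShortExact :=
    ShortComplex.ShortExact.mk (ShortComplex.exact_of_g_is_cokernel _ (cokernelIsCokernel _))
  have hadd := H23.IntNumCycle.alt_add k r M hM hse hFI hF
    (QCoh.isCoh_cokernel hFI.1 hF (DivisorExt.mulIdeal D F))
  let σ : Equiv.Perm (Fin (r + 1)) := (finRotate (r + 1)).symm
  have h0 : σ 0 = Fin.last r := (Equiv.symm_apply_eq _).2 finRotate_last.symm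
  have hsucc : ∀ j : Fin r, σ j.succ = j.castSucc := fun j => (Equiv.symm_apply_eq _).2 (by
    rw [finRotate_succ_apply, Fin.coeSucc_eq_succ])
  rw [← IntAlt.alt_perm k σ, IntAlt.alt_succ]
  have e1 : (fun i : Fin r => (Fin.snoc M I : Fin (r + 1) → X.Modules) (σ i.succ)) = M := funext fun i => by
    rw [hsucc, Fin.snoc_castSucc]
  show H23.IntNumCycle.alt k r (fun i => (Fin.snoc M I : Fin (r + 1) → X.Modules) (σ i.succ)) F - _ = _
  rw [e1, h0, Fin.snoc_last]
  have hc : H23.IntNumCycle.alt k r M (cokernel (DivisorExt.mulIdeal D F)) =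
      H23.IntNumCycle.alt k r M (CohB1.tensorMod F (ClSub.quotMod D)) := by
    rw [IntAlt.alt_eq_sum, IntAlt.alt_eq_sum, H23.PicMul.cl_eq_iff.2 ⟨e⟩]
    rfl
  have ha : H23.IntNumCycle.alt k r M F = H23.IntNumCycle.alt k r M (CohB1.tensorMod F I) +
      H23.IntNumCycle.alt k r M (cokernel (DivisorExt.mulIdeal D F)) := hadd
  rw [ha, hc]
  ring

end Groth.Agent.S14522
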