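import Groth.Statements.S14523
import Groth.Agent.Nakai.Birat

set_option autoImplicit false
set_option backward.isDefEq.respectTransparency false
set_option backward.isDefEq.respectTransparency.types false
set_option linter.style.haveILetI false
set_option linter.unusedSectionVars false
set_option maxHeartbeats 400000
universe u
open CategoryTheory CategoryTheory.Limits AlgebraicGeometry
open Variety

namespace Groth.Agent.S14523

/-- Let k be an algebraically closed field and f : X → Y a proper, birational morphism over k of
irreducible varieties (X, Y integral, separated and of finite type over k; f restricts to an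
isomorphism over some nonempty open subset of Y), with Y normal (all local rings integrally closed).
Let U ⊆ Y be the largest open subset over which f is an isomorphism (the domain of f^{-1}). Then
codim_Y(Y ∖ U) ≥ 2: for every point y of Y whose local ring has Krull dimension at most one, f
restricts to an isomorphism over some open neighbourhood of y. -/
theorem result (k : Type u) [Field k] [IsAlgClosed k]
    (X Y : Scheme.{u}) [X.Over (Spec (CommRingCat.of k))] [Y.Over (Spec (CommRingCat.of k))]
    [IsIntegral X] [IsSeparated (X ↘ (Spec (CommRingCat.of k)))] [LocallyOfFiniteType (X ↘ (Spec (CommRingCat.of k)))] [QuasiCompact (X ↘ (Spec (CommRingCat.of k)))]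
    [IsIntegral Y] [IsSeparated (Y ↘ (Spec (CommRingCat.of k)))] [LocallyOfFiniteType (Y ↘ (Spec (CommRingCat.of k)))] [QuasiCompact (Y ↘ (Spec (CommRingCat.of k)))] (hY : ∀ y : Y, IsIntegrallyClosed (Y.presheaf.stalk y))
    (f : X ⟶ Y) (hf : f ≫ (Y ↘ (Spec (CommRingCat.of k))) = (X ↘ (Spec (CommRingCat.of k)))) [IsProper f]
    (hbir : ∃ V : Y.Opens, (V : Set Y).Nonempty ∧ IsIso (f ∣_ V))
    (y : Y) (hy : ringKrullDim (Y.presheaf.stalk y) ≤ 1) :
    ∃ V : Y.Opens, y ∈ V ∧ IsIso (f ∣_ V) := by
  obtain ⟨V₀, ⟨z, hz⟩, hiso⟩ := hbir
  haveI := hiso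
  haveI : IsLocallyNoetherian Y := LocallyOfFiniteType.isLocallyNoetherian (Y ↘ Spec (CommRingCat.of k))
  obtain ⟨V, -, hV, hout⟩ := Nakai.exists_iso_codim_one hY f ((genericPoint_specializes z).mem_open V₀.2 hz)
  refine ⟨V, ?_, hV⟩
  by_contra hy'
  exact absurd ((hout y hy').trans hy) (by decide)

end Groth.Agent.S14523
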