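import Groth.Statements.S14525
import Groth.Agent.Lib.SurfHodge
import Groth.Agent.HilbPoly.EllSimple
import Groth.Agent.CurveCohLib.RegularCurve
import Groth.Agent.CurveCohLib.SmoothCurve
import Groth.Agent.PnCoh.Chow.Proper

set_option autoImplicit false
set_option backward.isDefEq.respectTransparency false
set_option backward.isDefEq.respectTransparency.types false
set_option linter.style.haveILetI false
set_option linter.unusedSectionVars false
set_option maxHeartbeats 400000
universe u
open CategoryTheory CategoryTheory.Limits AlgebraicGeometry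
open Surf

namespace Groth.Agent.S14525

open Groth.Agent.H23
set_option maxHeartbeats 800000

/-- Let k be an algebraically closed field, X a smooth projective surface over k (integral, smooth over
k, of dimension two, with a closed immersion over k into some projective space), L an invertible
O_X-module with tensor inverse L' such that (L·L) > 0, and M an ample invertible module with tensor
inverse M'; intersection numbers are the alternating Euler-characteristic sums in the inverses (the
prelude's FGA.intNum, so (L·L) is computed in L', L' and (L·M) in L', M'). Then (L·M) ≠ 0; if (L·M)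
> 0 there is c > 0 with dim_k H^0(X, L^{⊗m}) > c·m² for all large m, and if (L·M) < 0 the same holds
for L' in place of L. -/
theorem result (k : Type u) [Field k] [IsAlgClosed k]
    (X : Scheme.{u}) [X.Over (Spec (CommRingCat.of k))] [IsIntegral X] [Smooth (X ↘ (Spec (CommRingCat.of k)))] (hdim : topologicalKrullDim X = 2)
    (hprojX : ∃ (N : ℕ) (ι : X ⟶ CohB1.ProjSpace N k), IsClosedImmersion ι ∧ ι ≫ CohB1.ProjSpace.toSpec N k = (X ↘ (Spec (CommRingCat.of k))))
    (L L' : X.Modules) (hL : PicF.IsInvertible L) (hLL' : ClSub.IsInverseOf L L')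
    (hpos : 0 < FGA.intNum k X 2 ![L', L'] (Coh.structureModule X))
    (M M' : X.Modules) (hM : CohB1.IsAmple M) (hMM' : ClSub.IsInverseOf M M') :
    FGA.intNum k X 2 ![L', M'] (Coh.structureModule X) ≠ 0 ∧
    (0 < FGA.intNum k X 2 ![L', M'] (Coh.structureModule X) →
      ∃ c : ℚ, 0 < c ∧ ∃ m₀ : ℕ, ∀ m : ℕ, m₀ ≤ m →
        c * (m : ℚ) ^ 2 < (Module.finrank k (Coh.HH X (CohB1.tensorPow L m) 0) : ℚ)) ∧
    (FGA.intNum k X 2 ![L', M'] (Coh.structureModule X) < 0 →
      ∃ c : ℚ, 0 < c ∧ ∃ m₀ : ℕ, ∀ m : ℕ, m₀ ≤ m →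
        c * (m : ℚ) ^ 2 < (Module.finrank k (Coh.HH X (CohB1.tensorPow L' m) 0) : ℚ)) := by
  letI := PicMul.clMonoid (X := X)
  obtain ⟨N, ι, hi, hι⟩ := hprojX
  haveI := hi
  haveI := PnCoh.Chow.isProper_toSpec N k
  haveI : IsProper (X ↘ Spec (CommRingCat.of k)) := hι ▸ inferInstance
  have hinv : ∀ {A A' : X.Modules}, PicF.IsInvertible A → ClSub.IsInverseOf A A' →
      PicF.IsInvertible A' ∧ PicF.cl A * PicF.cl A' = 1 := fun {A A'} hA h => by
    have h1 : PicF.cl A * PicF.cl A' = 1 := PicMul.cl_eq_iff.2 h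
    obtain ⟨e⟩ := PicMul.cl_eq_iff.1 (show PicF.cl (CohB1.tensorMod A' A) = PicF.cl (Coh.structureModule X) by
      rw [PicMul.cl_tensor, mul_comm, h1, PicMul.one_def])
    exact ⟨(CurveOnSurf.isInvertible_of_inverse hA ⟨e⟩).1, h1⟩
  obtain ⟨hL'i, hLi⟩ := hinv hL hLL'
  obtain ⟨hM'i, hMi⟩ := hinv hM.1 hMM'
  have hd : topologicalKrullDim X ≤ 2 := hdim.le
  rw [SurfPairing.intNum_eq_pair k hd hL'i hL'i] at hpos
  rw [SurfPairing.intNum_eq_pair k hd hL'i hM'i, SurfPairing.pair_inv k hd hL'i hM.1 hM'i hMi]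
  have hLL : 0 < SurfPairing.pair k (PicF.cl L) (PicF.cl L) := by
    rw [SurfPairing.pair_inv k hd hL'i hL hL'i hLi, SurfPairing.pair_comm,
      SurfPairing.pair_inv k hd hL hL hL'i hLi, neg_neg] at hpos
    exact hpos
  have hL'M : SurfPairing.pair k (PicF.cl L') (PicF.cl M) = -SurfPairing.pair k (PicF.cl L) (PicF.cl M) := by
    rw [SurfPairing.pair_comm, SurfPairing.pair_inv k hd hM.1 hL hL'i hLi, SurfPairing.pair_comm]
  rw [hL'M, neg_neg]
  refine ⟨fun h => absurd hLL (not_lt.2 (SurfHodge.hodge_index (k := k) hdim hM hL h)), fun h => ?_, fun h => ?_⟩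
  · exact SurfHodge.eventually_growth (k := k) hdim hM hL hLL h
  · exact SurfHodge.eventually_growth (k := k) hdim hM hL'i hpos (by rw [hL'M]; linarith)

end Groth.Agent.S14525
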