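import Groth.Statements.S1453
import Groth.Agent.RG.GCCore
-- import your own Groth.Agent.* helpers here

set_option autoImplicit false
universe u
open FlatMor

namespace Groth.Agent.S1453

set_option linter.style.haveILetI false
set_option backward.isDefEq.respectTransparency false
set_option backward.isDefEq.respectTransparency.types false

open AlgebraicGeometry CategoryTheory Limits in
/-- Let f : X → Y be flat and of finite presentation with all fibres geometrically reduced, let Z → Y be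
finite locally free with a Y-morphism σ : Z → X, and let y be a point with Z_y nonempty and X_y
geometrically connected. Then there is a quasi-compact open X⁰ of X containing the whole fibre X_y
such that every nonempty fibre of X⁰ → Y is geometrically connected. -/
theorem result {X Y Z : Scheme.{u}} (f : X ⟶ Y) [Flat f] [LocallyOfFinitePresentation f] [QuasiCompact f] [QuasiSeparated f]
    [GeometricallyReduced f] (g : Z ⟶ Y) (hg : Mor2.IsFinLocFree g) (σ : Z ⟶ X) (hσ : σ ≫ f = g) (y : Y) (hZy : y ∈ Set.range ⇑g)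
    (hXy : GeometricallyConnected (f.fiberToSpecResidueField y)) :
    ∃ U : X.Opens, IsCompact (U : Set ↑X) ∧ f ⁻¹' {y} ⊆ (U : Set ↑X) ∧
      ∀ y' : Y, (∃ x ∈ U, f x = y') → GeometricallyConnected ((U.ι ≫ f).fiberToSpecResidueField y') := by
  open Groth.Agent.RG.GC in
  obtain ⟨hgfin, hgflat, hglfp⟩ := hg
  obtain ⟨z, hz⟩ := hZy
  obtain ⟨O, hO, hyO, -⟩ := exists_isAffineOpen_mem_and_subset (x := y) (U := (⊤ : Y.Opens)) trivial
  haveI : IsAffine O := hO
  let fO := f ∣_ O
  let gO := g ∣_ O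
  haveI := hgfin
  haveI := hgflat
  haveI := hglfp
  haveI : Flat fO := IsZariskiLocalAtTarget.restrict ‹_› O
  haveI : LocallyOfFinitePresentation fO := IsZariskiLocalAtTarget.restrict ‹_› O
  haveI : QuasiCompact fO := IsZariskiLocalAtTarget.restrict ‹_› O
  haveI : QuasiSeparated fO := IsZariskiLocalAtTarget.restrict ‹_› O
  haveI : GeometricallyReduced fO := inferInstanceAs (GeometricallyReduced (f ∣_ O))
  haveI : IsFinite gO := IsZariskiLocalAtTarget.restrict ‹_› O
  haveI : Flat gO := IsZariskiLocalAtTarget.restrict ‹_› O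
  haveI : LocallyOfFinitePresentation gO := IsZariskiLocalAtTarget.restrict ‹_› O
  have hle : g ⁻¹ᵁ O ≤ σ ⁻¹ᵁ (f ⁻¹ᵁ O) := fun a ha => by
    show f (σ a) ∈ O
    rw [← Scheme.Hom.comp_apply, hσ]
    exact ha
  let σO : (g ⁻¹ᵁ O).toScheme ⟶ (f ⁻¹ᵁ O).toScheme := σ.resLE _ _ hle
  have hσO : σO ≫ fO = gO := by
    rw [← cancel_mono O.ι, Category.assoc, morphismRestrict_ι, morphismRestrict_ι,
      Scheme.Hom.resLE_comp_ι_assoc, hσ]
  have hgz : gO ⟨z, (show g z ∈ O by rw [hz]; exact hyO)⟩ = ⟨y, hyO⟩ := by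
    apply Subtype.ext
    show O.ι (gO _) = y
    rw [← Scheme.Hom.comp_apply, morphismRestrict_ι, Scheme.Hom.comp_apply]
    exact hz
  have hpt : ∀ (t : Y) (K : Type u) [Field K] (x : Spec (CommRingCat.of K) ⟶ Y), (∀ a, x a = t) →
      ∃ φ : Y.residueField t ⟶ CommRingCat.of K, Spec.map φ ≫ Y.fromSpecResidueField t = x := by
    intro t K _ x hx
    obtain ⟨⟨t', φ⟩, ht⟩ := (Scheme.SpecToEquivOfField K Y).symm.surjective x
    have hts : t' = t := by
      have h1 := congrArg (fun a : Spec (CommRingCat.of K) ⟶ Y => a (IsLocalRing.closedPoint K)) ht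
      simp only [Scheme.SpecToEquivOfField, Equiv.coe_fn_symm_mk, Scheme.Hom.comp_apply,
        Scheme.fromSpecResidueField_apply] at h1
      rw [h1, hx]
    subst hts
    exact ⟨φ, ht⟩
  obtain ⟨O', hO', hyO', V, hVc, hVO, hVy, hconn⟩ := RG.GC.core fO gO ⟨y, hyO⟩ _ hgz σO hσO
    (fun K _ x hx => by
      have sq : IsPullback (pullback.fst fO x ≫ (f ⁻¹ᵁ O).ι) (pullback.snd fO x) f (x ≫ O.ι) :=
        (IsPullback.of_hasPullback fO x).paste_horiz (isPullback_morphismRestrict f O).flip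
      obtain ⟨φ, hφ⟩ := hpt y K (x ≫ O.ι) (fun a => by rw [Scheme.Hom.comp_apply, hx]; rfl)
      refine sq.isoPullback.hom.homeomorph.connectedSpace_iff.mpr ?_
      rw [← hφ]
      refine (pullbackLeftPullbackSndIso f (Y.fromSpecResidueField y) (Spec.map φ)).hom.homeomorph.connectedSpace_iff.mp ?_
      exact GeometricallyConnected.geometrically_connectedSpace (f := f.fiberToSpecResidueField y) (Spec.map φ) _ _
        (IsPullback.of_hasPullback _ _))
  refine ⟨(f ⁻¹ᵁ O).ι ''ᵁ V, hVc.image (f ⁻¹ᵁ O).ι.continuous, fun a (ha : f a = y) => ?_, fun y' hy' => ?_⟩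
  · have haO : a ∈ f ⁻¹ᵁ O := show f a ∈ O by rw [ha]; exact hyO
    refine ⟨⟨a, haO⟩, hVy _ (Subtype.ext ?_), rfl⟩
    show O.ι (fO ⟨a, haO⟩) = y
    rw [← Scheme.Hom.comp_apply, morphismRestrict_ι, Scheme.Hom.comp_apply]
    exact ha
  obtain ⟨_, ⟨w, hw, rfl⟩, hwy⟩ := hy'
  have hwO : fO w ∈ O' := hVO hw
  have hy'' : O.ι (fO w) = y' := by
    rw [← Scheme.Hom.comp_apply, morphismRestrict_ι, Scheme.Hom.comp_apply]; exact hwy
  refine ⟨fun K _ x Z₀ fst snd hP => ?_⟩
  let xY := x ≫ Y.fromSpecResidueField y'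
  have hxY : ∀ a, xY a = y' := fun a => by
    rw [Scheme.Hom.comp_apply]; exact Scheme.fromSpecResidueField_apply _ _
  let xO : Spec (CommRingCat.of K) ⟶ O.toScheme := IsOpenImmersion.lift O.ι xY (by
    rintro _ ⟨a, rfl⟩
    rw [Scheme.Opens.range_ι, hxY, ← hy'']
    exact (fO w).2)
  have hxO : xO ≫ O.ι = xY := IsOpenImmersion.lift_fac _ _ _
  have hmem : ∀ a, xO a ∈ O' := fun a => by
    have h1 : O.ι (xO a) = O.ι (fO w) := by rw [← Scheme.Hom.comp_apply, hxO, hxY, hy'']
    rw [O.ι.isOpenEmbedding.injective h1]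
    exact hwO
  have h1 : ConnectedSpace ↥(pullback (V.ι ≫ fO) xO) := by
    rw [← (pullbackRightPullbackFstIso fO xO V.ι).hom.homeomorph.connectedSpace_iff,
      (pullbackSymmetry V.ι (pullback.fst fO xO)).hom.homeomorph.connectedSpace_iff,
      RG.GC.isConnected_preimage_iff]
    exact hconn K xO hmem
  let U₀ := (f ⁻¹ᵁ O).ι ''ᵁ V
  have sq1 : IsPullback (pullback.fst (V.ι ≫ fO) xO ≫ ((f ⁻¹ᵁ O).ι.isoImage V).hom) (pullback.snd (V.ι ≫ fO) xO)
      (U₀.ι ≫ f) xY := by
    have h2 := RG.GC.isPullback_comp_mono (IsPullback.of_hasPullback (V.ι ≫ fO) xO) O.ι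
    rw [hxO] at h2
    refine h2.of_iso (Iso.refl _) ((f ⁻¹ᵁ O).ι.isoImage V) (Iso.refl _) (Iso.refl _) ?_ ?_ ?_ ?_
    · simp
    · simp
    · simp only [Iso.refl_hom, Category.comp_id, Category.assoc]
      rw [Scheme.Hom.isoImage_hom_ι_assoc, morphismRestrict_ι]
    · simp
  have sq2 : IsPullback (fst ≫ pullback.fst (U₀.ι ≫ f) (Y.fromSpecResidueField y')) snd (U₀.ι ≫ f) xY :=
    hP.paste_horiz (IsPullback.of_hasPullback _ _)
  exact (sq2.isoPullback ≪≫ sq1.isoPullback.symm).hom.homeomorph.connectedSpace_iff.mpr h1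

end Groth.Agent.S1453
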