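import Groth.Statements.S14535
import Groth.Agent.AGF20Lib.TorsorPoint
import Groth.Agent.GITAff.Coact
import Groth.Agent.GrpSchLib.LineGroups
import Groth.Agent.SchTorsor.Props
-- import your own Groth.Agent.* helpers here

set_option autoImplicit false
set_option backward.isDefEq.respectTransparency false
set_option synthInstance.maxHeartbeats 400000
set_option backward.isDefEq.respectTransparency.types false
set_option maxHeartbeats 1000000
universe u
open CategoryTheory MonoidalCategory CartesianMonoidalCategory MonObj GrpObj AlgebraicGeometry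
open PrincBund

namespace Groth.Agent.S14535

/-- Let k be an algebraically closed field and G an affine group scheme over k, not necessarily of
finite type. Then every principal G-bundle over Spec k, that is every k-scheme with a G-action which
is a pseudo-torsor and acquires sections on the members of some fpqc covering family of Spec k, is
trivial: it has a k-point. -/
theorem result (k : Type u) [Field k] [IsAlgClosed k]
    (G : Over (Spec (CommRingCat.of k))) [GrpObj G] [IsAffine G.left]
    (P : Over (Spec (CommRingCat.of k))) (a : AlgGrp.Action G P)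
    (hP : NonAbH1.IsTorsorFor Scheme.fpqcPrecoverage a) :
    Nonempty (𝟙_ (Over (Spec (CommRingCat.of k))) ⟶ P) := by
  obtain ⟨A, _, _, ⟨eG⟩⟩ := GrpSchLib.AffineHopf.exists_hopf G
  let ea : GrpSchLib.AffineHopf.sp k A ⟶ G := eG.hom.hom.hom
  haveI : IsMonHom ea := eG.hom.hom.isMonHom_hom
  let eI : GrpSchLib.AffineHopf.sp k A ≅ G := (Grp.forget _).mapIso eG
  let a' : AlgGrp.Action (GrpSchLib.AffineHopf.sp k A) P :=
    { act := (ea ▷ P) ≫ a.act
      one_act := by rw [← comp_whiskerRight_assoc, IsMonHom.one_hom, a.one_act]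
      mul_act := by
        rw [← comp_whiskerRight_assoc, IsMonHom.mul_hom, comp_whiskerRight_assoc, a.mul_act,
          MonoidalCategory.whiskerLeft_comp, Category.assoc, MonoidalCategory.tensorHom_def, comp_whiskerRight]
        simp only [Category.assoc]
        rw [associator_naturality_middle_assoc, associator_naturality_left_assoc, whisker_exchange_assoc,
          whisker_exchange_assoc] }
  haveI : IsAffineHom G.hom := inferInstance
  haveI : IsAffineHom P.hom := by
    haveI := Groth.Agent.EtFound.fpqc_isAffineHom.{u}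
    exact SchTorsor.torsor_property @IsAffineHom hP inferInstance
  haveI : IsAffine P.left := isAffine_of_isAffineHom P.hom
  haveI : Nonempty ↥P.left := ⟨((SchTorsor.surjective_hom hP).surj (IsLocalRing.closedPoint k)).choose⟩
  haveI : Nonempty (⊤ : P.left.Opens) := ⟨⟨Classical.arbitrary _, trivial⟩⟩
  haveI : Nontrivial (GrpSchLib.Kunneth.Fn P) := Scheme.component_nontrivial P.left ⊤
  let j := lift a'.act (snd (GrpSchLib.AffineHopf.sp k A) P)
  haveI : IsIso j := by
    haveI : IsIso (lift a.act (snd G P)) := hP.1
    haveI : IsIso ea := eI.isIso_hom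
    have : j = (ea ▷ P) ≫ lift a.act (snd G P) := by
      rw [comp_lift, whiskerRight_snd]
    rw [this]
    infer_instance
  let evIso : GrpSchLib.Kunneth.Fn (P ⊗ P) ≃ₐ[k] GrpSchLib.Kunneth.Fn (GrpSchLib.AffineHopf.sp k A ⊗ P) :=
    AlgEquiv.ofAlgHom (GrpSchLib.Kunneth.ev j) (GrpSchLib.Kunneth.ev (inv j))
      (AlgHom.ext fun f => by show GrpSchLib.Kunneth.ev j (GrpSchLib.Kunneth.ev (inv j) f) = f; rw [GrpSchLib.Kunneth.ev_ev, IsIso.hom_inv_id, GrpSchLib.Kunneth.ev_id])
      (AlgHom.ext fun f => by show GrpSchLib.Kunneth.ev (inv j) (GrpSchLib.Kunneth.ev j f) = f; rw [GrpSchLib.Kunneth.ev_ev, IsIso.inv_hom_id, GrpSchLib.Kunneth.ev_id])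
  let S : AGF20Lib.TorsorPoint.Data k A (GrpSchLib.Kunneth.Fn P) :=
    { ρ := GITAff.lcoactHom a'
      coassoc := fun x => by
        refine Eq.trans ?_ ((LinearMap.congr_fun (GITAff.lcomod a').coassoc x).trans ?_)
        · show _ = LinearMap.lTensor A (GITAff.lcoactHom a').toLinearMap (GITAff.lcoactHom a' x)
          generalize GITAff.lcoactHom a' x = r
          induction r using TensorProduct.induction_on with
          | zero => simp
          | tmul p q => simp
          | add r r' hr hr' => simp only [map_add, hr, hr']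
        · show TensorProduct.assoc k A A _ (LinearMap.rTensor _ _ (GITAff.lcoactHom a' x)) = _
          rfl
      β := ((AlgEquiv.ofBijective (GrpSchLib.Kunneth.toProd P P) (GrpSchLib.Kunneth.toProd_bijective P P)).trans evIso).trans
        (GITAff.tpEquiv P).symm
      β_left := fun x => by
        apply (GITAff.tpEquiv (A := A) P).injective
        rw [AlgEquiv.trans_apply, AlgEquiv.apply_symm_apply, GITAff.tpEquiv_lcoactHom]
        show GrpSchLib.Kunneth.ev j (GrpSchLib.Kunneth.toProd P P (x ⊗ₜ 1)) = _
        rw [GrpSchLib.Kunneth.toProd, Algebra.TensorProduct.lift_tmul, map_one, _root_.mul_one, GrpSchLib.Kunneth.ev_ev, lift_fst]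
      β_right := fun y => by
        apply (GITAff.tpEquiv (A := A) P).injective
        rw [AlgEquiv.trans_apply, AlgEquiv.apply_symm_apply, GITAff.tpEquiv_tmul, map_one, _root_.one_mul]
        show GrpSchLib.Kunneth.ev j (GrpSchLib.Kunneth.toProd P P (1 ⊗ₜ y)) = _
        rw [GrpSchLib.Kunneth.toProd, Algebra.TensorProduct.lift_tmul, map_one, _root_.one_mul, GrpSchLib.Kunneth.ev_ev, lift_snd] }
  obtain ⟨χ⟩ := AGF20Lib.TorsorPoint.exists_point S
  obtain ⟨g, -⟩ := GrpSchLib.LineGroups.exists_hom_ev (T := 𝟙_ (Over (Spec (CommRingCat.of k)))) (X := P)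
    ((Algebra.ofId k _).comp χ)
  exact ⟨g⟩

end Groth.Agent.S14535
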