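import Groth.Statements.S14536
import Groth.Agent.GrpSchLib.ProPoints


set_option autoImplicit false
universe u
open CategoryTheory MonoidalCategory CartesianMonoidalCategory MonObj GrpObj AlgebraicGeometry
open PrincBund

namespace Groth.Agent.S14536

open WithConv in
theorem id_antipode {k : Type u} [Field k] {B : Type u} [CommRing B] [HopfAlgebra k B] :
    toConv (AlgHom.id k B) * toConv (HopfAlgebra.antipodeAlgHom k B) = 1 := by
  apply WithConv.ofConv_injective
  apply AlgHom.toLinearMap_injective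
  apply WithConv.toConv_injective
  rw [AlgHom.toLinearMap_convMul, AlgHom.toLinearMap_convOne]
  simp [LinearMap.id_mul_antipode]

theorem antipode_bialgHom {k : Type u} [Field k] {A B : Type u} [CommRing A] [CommRing B] [HopfAlgebra k A]
    [HopfAlgebra k B] (π : A →ₐc[k] B) (a : A) :
    HopfAlgebraStruct.antipode (R := k) (π a) = π (HopfAlgebraStruct.antipode (R := k) a) := by
  open WithConv in
  have h1 : toConv ((π : A →ₐ[k] B).comp (HopfAlgebra.antipodeAlgHom k A)) * toConv (π : A →ₐ[k] B) = 1 := by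
    apply WithConv.ofConv_injective
    have h := AlgHom.comp_convMul_distrib (π : A →ₐ[k] B) (toConv (HopfAlgebra.antipodeAlgHom k A)) (toConv (AlgHom.id k A))
    rw [AlgHom.antipode_id_cancel] at h
    refine h.symm.trans ?_
    ext x
    exact (π : A →ₐ[k] B).commutes _
  open WithConv in
  have h2 : toConv (π : A →ₐ[k] B) * toConv ((HopfAlgebra.antipodeAlgHom k B).comp (π : A →ₐ[k] B)) = 1 := by
    apply WithConv.ofConv_injective
    have h := AlgHom.convMul_comp_bialgHom_distrib (toConv (AlgHom.id k B)) (toConv (HopfAlgebra.antipodeAlgHom k B)) π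
    rw [id_antipode] at h
    refine h.symm.trans ?_
    ext x
    simp [Algebra.TensorProduct.one_def]
  have h3 := left_inv_eq_right_inv h1 h2
  exact (congrArg (fun f => f.ofConv a) h3).symm


/-- Let k be an algebraically closed field and h : G → G' a homomorphism of affine group schemes over k
(not necessarily of finite type) which is surjective on underlying spaces. Then h is surjective on
k-points: every k-point of G' is the image of a k-point of G. -/
theorem result (k : Type u) [Field k] [IsAlgClosed k]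
    (G G' : Over (Spec (CommRingCat.of k))) [GrpObj G] [GrpObj G'] [IsAffine G.left] [IsAffine G'.left]
    (h : G ⟶ G') [IsMonHom h] (hs : Surjective h.left) (x : 𝟙_ (Over (Spec (CommRingCat.of k))) ⟶ G') :
    ∃ g : 𝟙_ (Over (Spec (CommRingCat.of k))) ⟶ G, g ≫ h = x := by
  obtain ⟨A, _, _, ⟨eG⟩⟩ := GrpSchLib.AffineHopf.exists_hopf G
  obtain ⟨A', _, _, ⟨eG'⟩⟩ := GrpSchLib.AffineHopf.exists_hopf G'
  let ea : GrpSchLib.AffineHopf.sp k A ⟶ G := eG.hom.hom.hom
  let eb' : G' ⟶ GrpSchLib.AffineHopf.sp k A' := eG'.inv.hom.hom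
  let ea' : GrpSchLib.AffineHopf.sp k A' ⟶ G' := eG'.hom.hom.hom
  haveI : IsMonHom ea := eG.hom.hom.isMonHom_hom
  haveI : IsMonHom eb' := eG'.inv.hom.isMonHom_hom
  have hab' : ea' ≫ eb' = 𝟙 _ := congrArg (fun g => g.hom.hom) eG'.hom_inv_id
  have hba' : eb' ≫ ea' = 𝟙 _ := congrArg (fun g => g.hom.hom) eG'.inv_hom_id
  obtain ⟨π, hπ⟩ := GrpSchLib.AffineHopf.exists_bialgHom (R := k) (ea ≫ h ≫ eb')
  let u : GrpSchLib.AffineHopf.sp k k ⟶ 𝟙_ (Over (Spec (CommRingCat.of k))) := toUnit _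
  let u' : 𝟙_ (Over (Spec (CommRingCat.of k))) ⟶ GrpSchLib.AffineHopf.sp k k := Over.homMk (𝟙 _) (by
    show 𝟙 _ ≫ Spec.map (CommRingCat.ofHom (algebraMap k k)) = 𝟙 _
    simp)
  obtain ⟨χ, hχ⟩ := GrpSchLib.AffineHopf.exists_eq_spMap (R := k) (u ≫ x ≫ eb')
  have hs' : Function.Surjective (GrpSchLib.AffineHopf.spMap (π : A' →ₐ[k] A)).left := by
    rw [← hπ]
    haveI : IsIso ea.left := ((Over.forget _).mapIso ((Grp.forget _).mapIso eG)).isIso_hom
    haveI : IsIso eb'.left := ((Over.forget _).mapIso ((Grp.forget _).mapIso eG')).isIso_inv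
    haveI := hs
    exact (ea.left ≫ h.left ≫ eb'.left).surjective
  have hker : RingHom.ker (π : A' →ₐ[k] A).toRingHom ≤ nilradical A' :=
    PrimeSpectrum.denseRange_comap_iff_ker_le_nilRadical _ |>.mp (Function.Surjective.denseRange hs')
  let C : Subalgebra k A := (π : A' →ₐ[k] A).range
  have hC : GrpSchLib.ProPoints.IsApprox C := by
    classical
    intro s hs
    choose pre hpre using fun y : s => hs y.2
    obtain ⟨B', hB1, hB2, hB3⟩ := GrpSchLib.ProPoints.exists_fg_hopf_of_finset (k := k) (Finset.univ.image pre)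
    refine ⟨B'.map (π : A' →ₐ[k] A), fun y ⟨z, _, hz⟩ => ⟨z, hz⟩, fun y hy => ?_, hB2.map _, ?_, ?_⟩
    · exact ⟨pre ⟨y, hy⟩, hB1 (by simp), hpre ⟨y, hy⟩⟩
    · rintro _ ⟨z, hz, rfl⟩
      obtain ⟨w, hw⟩ := hB3.1 z hz
      let p := ((π : A' →ₐ[k] A).comp B'.val).codRestrict (B'.map (π : A' →ₐ[k] A)) fun b => ⟨b.1, b.2, rfl⟩
      refine ⟨TensorProduct.map p.toLinearMap p.toLinearMap w, ?_⟩
      refine Eq.trans ?_ (CoalgHomClass.map_comp_comul_apply π z)
      rw [← hw, ← LinearMap.comp_apply, ← LinearMap.comp_apply, ← TensorProduct.map_comp, ← TensorProduct.map_comp]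
      rfl
    · rintro _ ⟨z, hz, rfl⟩
      exact ⟨_, hB3.2 z hz, (antipode_bialgHom π z).symm⟩
  let q : A' →ₐ[k] C := (π : A' →ₐ[k] A).rangeRestrict
  have hqs : Function.Surjective q := AlgHom.rangeRestrict_surjective _
  have hqk : RingHom.ker q.toRingHom ≤ RingHom.ker χ.toRingHom := fun a ha => by
    obtain ⟨n, hn⟩ := hker (show (π : A' →ₐ[k] A) a = 0 from congrArg Subtype.val ha)
    exact IsNilpotent.eq_zero ⟨n, by rw [← map_pow, hn, map_zero]⟩
  let χC : C →ₐ[k] k := (Ideal.Quotient.liftₐ (RingHom.ker q) χ hqk).comp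
    (Ideal.quotientKerAlgEquivOfSurjective hqs).symm.toAlgHom
  obtain ⟨χ', hχ'⟩ := GrpSchLib.ProPoints.extend hC χC
  have hc : χ'.comp (π : A' →ₐ[k] A) = χ := AlgHom.ext fun a => by
    refine (hχ' (q a)).trans ?_
    show Ideal.Quotient.liftₐ (RingHom.ker q) χ hqk ((Ideal.quotientKerAlgEquivOfSurjective hqs).symm (q a)) = χ a
    rw [show (Ideal.quotientKerAlgEquivOfSurjective hqs).symm (q a) = Ideal.Quotient.mk _ a from
      (AlgEquiv.symm_apply_eq _).mpr rfl]
    rfl
  refine ⟨u' ≫ GrpSchLib.AffineHopf.spMap χ' ≫ ea, ?_⟩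
  have h2 := congrArg (fun t => u' ≫ t ≫ ea') hχ
  simp only [Category.assoc, hba', Category.comp_id] at h2
  rw [show u' ≫ u ≫ x = x by rw [← Category.assoc, toUnit_unique (u' ≫ u) (𝟙 _), Category.id_comp]] at h2
  rw [h2, ← hc, ← GrpSchLib.AffineHopf.spMap_comp, ← hπ]
  simp only [Category.assoc, hba', Category.comp_id]


end Groth.Agent.S14536
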