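import Groth.Statements.S14537
import Groth.Agent.GrpSchLib.ProPoints


set_option autoImplicit false
universe u
open CategoryTheory MonoidalCategory CartesianMonoidalCategory MonObj GrpObj AlgebraicGeometry
open PrincBund

namespace Groth.Agent.S14537

/-- Let k be an algebraically closed field and G an affine group scheme over k, not necessarily of
finite type. Then the set of k-rational points of G is dense in the underlying space of G. -/
theorem result (k : Type u) [Field k] [IsAlgClosed k]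
    (G : Over (Spec (CommRingCat.of k))) [GrpObj G] [IsAffine G.left] :
    Dense {x : ↥G.left | ∃ g : 𝟙_ (Over (Spec (CommRingCat.of k))) ⟶ G, g.left.base (IsLocalRing.closedPoint k) = x} := by
  obtain ⟨A, _, _, ⟨eG⟩⟩ := GrpSchLib.AffineHopf.exists_hopf G
  let ea : GrpSchLib.AffineHopf.sp k A ⟶ G := eG.hom.hom.hom
  haveI : IsIso ea.left := ((Over.forget _).mapIso ((Grp.forget _).mapIso eG)).isIso_hom
  let u' : 𝟙_ (Over (Spec (CommRingCat.of k))) ⟶ GrpSchLib.AffineHopf.sp k k := Over.homMk (𝟙 _) (by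
    show 𝟙 _ ≫ Spec.map (CommRingCat.ofHom (algebraMap k k)) = 𝟙 _
    simp)
  rw [dense_iff_inter_open]
  rintro U hU ⟨g₀, hg₀⟩
  obtain ⟨p, rfl⟩ := ea.left.surjective g₀
  obtain ⟨_, ⟨a, rfl⟩, hpa, haU⟩ := PrimeSpectrum.isTopologicalBasis_basic_opens.exists_subset_of_mem_open
    (show p ∈ ea.left ⁻¹' U from hg₀) (hU.preimage ea.left.continuous)
  obtain ⟨B, haB, hBf, hB⟩ := Groth.Agent.S5375.result k A a
  haveI : Algebra.FiniteType k B := ⟨(Subalgebra.fg_top B).mpr hBf⟩
  let a' : B := ⟨a, haB⟩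
  haveI : IsJacobsonRing B := isJacobsonRing_of_finiteType (A := k)
  have hna : a' ∉ (⊥ : Ideal B).jacobson := by
    intro hmem
    have h1 : a' ∈ (⊥ : Ideal B).radical := by
      rw [← IsJacobsonRing.out' _ (Ideal.radical_isRadical (⊥ : Ideal B))]
      exact Ideal.jacobson_mono Ideal.le_radical hmem
    revert h1
    rintro ⟨n, hn⟩
    exact hpa (p.2.mem_of_pow_mem n (by
      rw [show a ^ n = 0 from congrArg Subtype.val ((Submodule.mem_bot B).mp hn)]
      exact zero_mem _))
  rw [Ideal.mem_jacobson_bot] at hna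
  obtain ⟨y, hy⟩ := not_forall.mp hna
  obtain ⟨χ, hχ⟩ := GrpSchLib.ProPoints.exists_point_of_ne_top (k := k) (I := Ideal.span {a' * y + 1})
    (fun h => hy (Ideal.span_singleton_eq_top.mp h))
  have hχa : χ a' ≠ 0 := fun h0 => by
    have h1 := hχ _ (Ideal.mem_span_singleton_self (a' * y + 1))
    rw [map_add, map_mul, h0, zero_mul, zero_add, map_one] at h1
    exact one_ne_zero h1
  have hApprox : GrpSchLib.ProPoints.IsApprox B := fun s hs => ⟨B, le_rfl, hs, hBf, hB⟩
  obtain ⟨χ', hχ'⟩ := GrpSchLib.ProPoints.extend hApprox χ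
  refine ⟨(u' ≫ GrpSchLib.AffineHopf.spMap χ' ≫ ea).left (IsLocalRing.closedPoint k), ?_, _, rfl⟩
  apply haU
  show χ' a ∉ IsLocalRing.maximalIdeal k
  rw [IsLocalRing.mem_maximalIdeal, mem_nonunits_iff, not_not, isUnit_iff_ne_zero]
  exact (hχ' a').trans_ne hχa


end Groth.Agent.S14537
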