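import Groth.Statements.S14539
import Groth.Agent.GrpSchLib.ProPoints
import Groth.Agent.ComodLib.CartierChar0
import Groth.Agent.ComodLib.Orbits
import Mathlib.LinearAlgebra.TensorProduct.RightExactness
import Mathlib.RingTheory.HopfAlgebra.TensorProduct
import Groth.Agent.S5375
import Mathlib.Algebra.Field.ULift


set_option autoImplicit false
universe u v w
open TensorProduct
open PrincBund

namespace Groth.Agent.S14539

/-- Points separate, in one universe. -/
theorem exists_point_ne_zero_same {k : Type u} [Field k] [IsAlgClosed k] [CharZero k] {A : Type u} [CommRing A]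
    [HopfAlgebra k A] {a : A} (ha : a ≠ 0) : ∃ g : A →ₐ[k] k, g a ≠ 0 := by
  obtain ⟨B, haB, hBf, hB⟩ := Groth.Agent.S5375.result k A a
  letI := GrpSchLib.SubHopf.hopf B hB
  haveI : Algebra.FiniteType k B := ⟨(Subalgebra.fg_top B).mpr hBf⟩
  haveI : _root_.IsReduced B := ComodLib.isReduced_of_charZero' (k := k)
  obtain ⟨χ, hχ⟩ := ComodLib.exists_point_ne_zero (k := k) (a := (⟨a, haB⟩ : B)) (fun hn => ha (congrArg Subtype.val hn.eq_zero))
  obtain ⟨g, hg⟩ := GrpSchLib.ProPoints.extend (C := B) (fun s hs => ⟨B, le_rfl, hs, hBf, hB⟩) χ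
  exact ⟨g, by rw [show a = ((⟨a, haB⟩ : B) : A) from rfl, hg]; exact hχ⟩

/-- Points separate. -/
theorem exists_point_ne_zero {k : Type u} [Field k] [IsAlgClosed k] [CharZero k] {A : Type v} [CommRing A]
    [HopfAlgebra k A] {a : A} (ha : a ≠ 0) : ∃ g : A →ₐ[k] k, g a ≠ 0 := by
  let k' : Type (max u v) := ULift.{v} k
  let e : k' ≃ₐ[k] k := ULift.algEquiv
  haveI : IsAlgClosed k' := by
    refine IsAlgClosed.of_exists_root _ fun p _ hp => ?_
    have hd : (p.map e.toAlgHom.toRingHom).degree ≠ 0 := by
      rw [Polynomial.degree_map]; exact ne_of_gt (Polynomial.degree_pos_of_irreducible hp)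
    obtain ⟨x, hx⟩ := IsAlgClosed.exists_root _ hd
    refine ⟨e.symm x, e.injective ?_⟩
    rw [map_zero, ← hx.eq_zero, Polynomial.eval_map]
    rw [← Polynomial.eval₂_id, show e (Polynomial.eval₂ (RingHom.id k') (e.symm x) p) = _ from
      Polynomial.hom_eval₂ p (RingHom.id k') e.toAlgHom.toRingHom (e.symm x)]
    simp
  haveI : CharZero k' := charZero_of_injective_algebraMap (algebraMap k k').injective
  have h1 : ((1 : k') ⊗ₜ[k] a) ≠ 0 := fun h => ha
    (Algebra.TensorProduct.includeRight_injective (A := k') (B := A) (algebraMap k k').injective (by simpa using h))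
  obtain ⟨g, hg⟩ := exists_point_ne_zero_same (k := k') h1
  refine ⟨(e.toAlgHom.comp (g.restrictScalars k)).comp Algebra.TensorProduct.includeRight, fun h => hg ?_⟩
  exact e.injective (h.trans (map_zero e).symm)


/-- Let k be an algebraically closed field of characteristic 0, A a commutative Hopf algebra over k (the
coordinate ring of an affine group scheme G over k, not necessarily of finite type) and V a right
A-comodule, of any dimension. If a k-subspace W of V is mapped into itself by the action of every
k-rational point of G (every k-algebra homomorphism A → k, acting on V through the coaction), then W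
is a subcomodule of V. -/
theorem result (k : Type u) (A : Type v) [Field k] [IsAlgClosed k]
    [CharZero k] [CommRing A] [HopfAlgebra k A]
    (V : Type w) [AddCommGroup V] [Module k V] [HopfRep.Comod k A V] (W : Submodule k V)
    (hW : ∀ g : A →ₐ[k] k, W.map (HopfRep.Comod.act k A V g) ≤ W) :
    HopfRep.IsSubcomod (k := k) (A := A) W := by
  intro w hw
  let q : V →ₗ[k] V ⧸ W := W.mkQ
  obtain ⟨z, hz⟩ : ∃ z, z = q.rTensor A (HopfRep.Comod.coact (k := k) (A := A) w) := ⟨_, rfl⟩
  have hker : ∀ g : A →ₐ[k] k, TensorProduct.rid k (V ⧸ W) (g.toLinearMap.lTensor (V ⧸ W) z) = 0 := by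
    intro g
    have hcomm : ∀ x : V ⊗[k] A, TensorProduct.rid k (V ⧸ W) (g.toLinearMap.lTensor (V ⧸ W) (q.rTensor A x)) =
        q (TensorProduct.rid k V (g.toLinearMap.lTensor V x)) := by
      intro x
      induction x using TensorProduct.induction_on with
      | zero => simp
      | tmul a b => simp
      | add a b ha hb => simp [map_add, ha, hb]
    rw [hz, hcomm]
    exact (Submodule.Quotient.mk_eq_zero W).2 (hW g ⟨w, hw, rfl⟩)
  have hz0 : z = 0 := by
    let b := Module.Free.chooseBasis k (V ⧸ W)
    have hc := (TensorProduct.equivFinsuppOfBasisLeft b).symm_apply_apply z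
    rw [← hc]
    have h0 : TensorProduct.equivFinsuppOfBasisLeft b z = 0 := by
      ext i
      by_contra hi
      obtain ⟨g, hg⟩ := exists_point_ne_zero (k := k) hi
      have hcoord : ∀ x : (V ⧸ W) ⊗[k] A, g (TensorProduct.equivFinsuppOfBasisLeft b x i) =
          b.repr (TensorProduct.rid k (V ⧸ W) (g.toLinearMap.lTensor (V ⧸ W) x)) i := by
        intro x
        induction x using TensorProduct.induction_on with
        | zero => simp
        | tmul m a => simp [mul_comm]
        | add a c ha hc => simp [map_add, ha, hc]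
      exact hg (by rw [hcoord, hker g]; simp)
    rw [h0, map_zero]
  have hex := rTensor_exact A (LinearMap.exact_subtype_mkQ W) (Submodule.mkQ_surjective W)
  exact (hex _).1 (hz ▸ hz0)

end Groth.Agent.S14539
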