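import Groth.Statements.S14540
import Groth.Prelude.Def_ChGrp
import Groth.Agent.AGF20Lib.TorsorPush
import Groth.Agent.FpqcDescLib.Closed
-- import your own Groth.Agent.* helpers here

set_option autoImplicit false
set_option linter.style.haveILetI false
set_option backward.isDefEq.respectTransparency false
set_option backward.isDefEq.respectTransparency.types false
set_option maxHeartbeats 1000000
universe u
open CategoryTheory MonoidalCategory CartesianMonoidalCategory MonObj GrpObj AlgebraicGeometry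
open PrincBund

open CategoryTheory.Limits Groth.Agent.FpqcDescLib Groth.Agent.AGF20Lib.TorsorPush

namespace Groth.Agent.S14540

/-- Let X be a scheme, J and J' group schemes affine over X, with no flatness or finiteness condition, u
: J → J' a homomorphism and P a J-torsor for the fpqc topology. Then the push forward of P along u
exists: there is a J'-torsor P' for the fpqc topology together with an X-morphism P → P' compatible
with u. -/
theorem result {X : Scheme.{u}}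
    {J J' : Over X} [GrpObj J] [GrpObj J'] [IsAffineHom J.hom] [IsAffineHom J'.hom]
    (u : J ⟶ J') [IsMonHom u] (P : NonAbH1.TorsorSch J Scheme.fpqcPrecoverage) :
    ∃ P' : NonAbH1.TorsorSch J' Scheme.fpqcPrecoverage,
      NonAbH1.IsPushforwardAlongSch u P.act P'.act := by
  obtain ⟨PX, a, ha, hloc⟩ := P
  obtain ⟨Z, σ, hp⟩ := exists_cover (P := PX) hloc
  obtain ⟨Q, q, sq, hinv⟩ := exists_bundle ha u σ hp
  have hZl : (toUnit Z).left = Z.hom := by
    rw [← Over.w (toUnit Z)]; exact (Category.comp_id _).symm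
  have hcZ : Covers (toUnit Z).left := by rw [hZl]; exact covers_of_isCovering hp
  have hcq : Covers q.left := hcZ.over_pullback (toUnit Q) q (fst Z J') sq
  have hcovw : ∀ A : Over X, Covers (A ◁ q).left := fun A => by
    refine hcq.over_pullback (snd A Q) _ (snd A (Z ⊗ J')) ?_
    refine ⟨⟨by simp⟩, ⟨PullbackCone.IsLimit.mk _ (fun c => lift (c.fst ≫ fst A Q) c.snd) (fun c => ?_)
      (fun c => lift_snd _ _) (fun c m h₁ h₂ => ?_)⟩⟩
    · refine CartesianMonoidalCategory.hom_ext _ _ ?_ ?_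
      · rw [Category.assoc, whiskerLeft_fst, lift_fst]
      · rw [Category.assoc, whiskerLeft_snd, lift_snd_assoc]; exact c.condition.symm
    · refine CartesianMonoidalCategory.hom_ext _ _ ?_ (h₂.trans (lift_snd _ _).symm)
      rw [lift_fst, ← h₁, Category.assoc, whiskerLeft_fst]
  have hcfst : ∀ A : Over X, Covers (fst A Z).left := fun A => by
    refine hcZ.over_pullback (toUnit A) _ (snd A Z) ⟨⟨toUnit_unique _ _⟩, ⟨PullbackCone.IsLimit.mk _
      (fun c => lift c.fst c.snd) (fun c => lift_fst _ _) (fun c => lift_snd _ _)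
      (fun c m h₁ h₂ => CartesianMonoidalCategory.hom_ext _ _ (h₁.trans (lift_fst _ _).symm)
        (h₂.trans (lift_snd _ _).symm))⟩⟩
  -- points of the bundle
  have hinj : ∀ {T : Over X} (x : T ⟶ Z) (g g' : T ⟶ J'), lift x g ≫ q = lift x g' ≫ q → g = g' := fun x g g' h => by
    have e := sq.hom_ext h (by rw [lift_fst, lift_fst])
    simpa using congrArg (· ≫ snd Z J') e
  have hfib : ∀ {T : Over X} (x x' : T ⟶ Z) (g g' : T ⟶ J'), lift x g ≫ q = lift x' g' ≫ q →
      g' = tr ha u σ x x' g := fun x x' g g' h => hinj x' _ _ (h.symm.trans (hinv _ x x' g).symm)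
  -- the action
  obtain ⟨act, hact₀, -⟩ := (hcovw J').over_desc
    (lift (snd J' (Z ⊗ J') ≫ fst Z J') (fst J' (Z ⊗ J') * (snd J' (Z ⊗ J') ≫ snd Z J')) ≫ q) fun T c d hcd => by
      have hk : c ≫ fst J' (Z ⊗ J') = d ≫ fst J' (Z ⊗ J') := by
        simpa using congrArg (· ≫ fst J' Q) hcd
      have hq : lift (c ≫ snd J' (Z ⊗ J') ≫ fst Z J') (c ≫ snd J' (Z ⊗ J') ≫ snd Z J') ≫ q =
          lift (d ≫ snd J' (Z ⊗ J') ≫ fst Z J') (d ≫ snd J' (Z ⊗ J') ≫ snd Z J') ≫ q := by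
        have := congrArg (· ≫ snd J' Q) hcd
        simp only [Category.assoc, whiskerLeft_snd] at this
        simpa only [← Category.assoc, ← comp_lift, CartesianMonoidalCategory.lift_fst_snd, Category.comp_id] using this
      rw [← Category.assoc, ← Category.assoc, comp_lift, comp_lift, MonObj.comp_mul, MonObj.comp_mul, ← hk,
        hfib _ _ _ _ hq]
      conv_rhs => rw [tr, ← _root_.mul_assoc]
      exact (hinv _ _ _ _).symm
  have hact : ∀ {T : Over X} (k : T ⟶ J') (x : T ⟶ Z) (g : T ⟶ J'),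
      lift k (lift x g ≫ q) ≫ act = lift x (k * g) ≫ q := fun k x g => by
    rw [← lift_whiskerLeft_assoc, hact₀]
    simp only [comp_lift_assoc, MonObj.comp_mul, lift_fst, lift_snd_assoc, lift_snd]
  let aQ : AlgGrp.Action J' Q :=
    { act := act
      one_act := by
        haveI := (hcovw (𝟙_ (Over X))).over_epi
        rw [← cancel_epi (𝟙_ (Over X) ◁ q)]
        refine AlgGrp.Action.hom_ext_lift₂ fun W v w => ?_
        obtain ⟨x, g, rfl⟩ : ∃ (x : W ⟶ Z) (g : W ⟶ J'), w = lift x g :=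
          ⟨w ≫ fst _ _, w ≫ snd _ _, by ext <;> simp⟩
        rw [lift_whiskerLeft_assoc, lift_whiskerRight_assoc, hact, lift_whiskerLeft_assoc, leftUnitor_hom, lift_snd,
          show v ≫ η[J'] = 1 by rw [Hom.one_def]; congr 1; exact toUnit_unique _ _, _root_.one_mul]
      mul_act := by
        haveI := (hcovw (J' ⊗ J')).over_epi
        rw [← cancel_epi ((J' ⊗ J') ◁ q)]
        refine AlgGrp.Action.hom_ext_lift₂ fun W v w => ?_
        obtain ⟨x, g, rfl⟩ : ∃ (x : W ⟶ Z) (g : W ⟶ J'), w = lift x g :=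
          ⟨w ≫ fst _ _, w ≫ snd _ _, by ext <;> simp⟩
        obtain ⟨k, k', rfl⟩ : ∃ (k k' : W ⟶ J'), v = lift k k' :=
          ⟨v ≫ fst _ _, v ≫ snd _ _, by ext <;> simp⟩
        rw [lift_whiskerLeft_assoc, lift_whiskerRight_assoc, lift_whiskerLeft_assoc, lift_lift_associator_hom_assoc,
          lift_whiskerLeft_assoc, ← Hom.mul_def, hact, hact, hact, _root_.mul_assoc] }
  -- pseudo-torsor
  have hlift : ∀ {T : Over X} (y : T ⟶ Q), ∃ (T' : Over X) (c : T' ⟶ T) (x : T' ⟶ Z) (g : T' ⟶ J'),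
      Covers c.left ∧ c ≫ y = lift x g ≫ q := fun {T} y =>
    ⟨pullback y q, pullback.fst y q, pullback.snd y q ≫ fst _ _, pullback.snd y q ≫ snd _ _,
      hcq.over_pullback y _ _ (IsPullback.of_hasPullback y q), by
      rw [show lift (pullback.snd y q ≫ fst Z J') (pullback.snd y q ≫ snd Z J') = pullback.snd y q by ext <;> simp]
      exact pullback.condition⟩
  haveI : Mono (lift aQ.act (snd J' Q)) := ⟨fun {T} v w h => by
    obtain ⟨k, y, rfl⟩ : ∃ (k : T ⟶ J') (y : T ⟶ Q), v = lift k y := ⟨v ≫ fst _ _, v ≫ snd _ _, by ext <;> simp⟩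
    obtain ⟨k', y', rfl⟩ : ∃ (k : T ⟶ J') (y : T ⟶ Q), w = lift k y := ⟨w ≫ fst _ _, w ≫ snd _ _, by ext <;> simp⟩
    have hy : y = y' := by simpa using congrArg (· ≫ snd Q Q) h
    have hk : lift k y ≫ act = lift k' y' ≫ act := by simpa using congrArg (· ≫ fst Q Q) h
    subst hy
    obtain ⟨T', c, x, g, hc, hcy⟩ := hlift y
    haveI := hc.over_epi
    have := congrArg (c ≫ ·) hk
    simp only [comp_lift_assoc, hcy, hact] at this
    rw [(cancel_epi c).1 (mul_right_cancel (hinj _ _ _ this))]⟩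
  have hΨ : Covers (lift aQ.act (snd J' Q)).left := by
    obtain ⟨W₁, c₁, x, g, hc₁, hy⟩ := hlift (fst Q Q)
    obtain ⟨W₂, c₂, x', g', hc₂, hy'⟩ := hlift (c₁ ≫ snd Q Q)
    let k : W₂ ⟶ J' := (c₂ ≫ g) * (tr ha u σ x' (c₂ ≫ x) g')⁻¹
    have e : lift k (c₂ ≫ c₁ ≫ snd Q Q) ≫ lift aQ.act (snd J' Q) = c₂ ≫ c₁ := by
      refine CartesianMonoidalCategory.hom_ext _ _ ?_ ?_
      · rw [Category.assoc, lift_fst, Category.assoc c₂, hy, comp_lift_assoc c₂]
        show lift k _ ≫ act = _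
        rw [hy', ← hinv _ x' (c₂ ≫ x) g', hact, inv_mul_cancel_right]
      · rw [Category.assoc, lift_snd, lift_snd, Category.assoc]
    obtain ⟨Z₁, r₁, hr₁⟩ := hc₁
    have hc := hc₂.pullback r₁ (pullback.fst r₁ c₂.left) (pullback.snd r₁ c₂.left)
      (IsPullback.of_hasPullback r₁ c₂.left)
    obtain ⟨Z₂, r₂, hr₂⟩ := hc
    refine ⟨Z₂, r₂ ≫ pullback.snd r₁ c₂.left ≫ (lift k (c₂ ≫ c₁ ≫ snd Q Q)).left, ?_⟩
    rw [Category.assoc, Category.assoc, ← Over.comp_left, e, Over.comp_left, ← pullback.condition_assoc]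
    rw [← Category.assoc]
    exact hr₂.comp hr₁
  haveI : IsIso (lift aQ.act (snd J' Q)) := by
    obtain ⟨r, hr, -⟩ := hΨ.over_desc (𝟙 _) fun T v w hvw => by rw [(cancel_mono (lift aQ.act (snd J' Q))).1 hvw]
    haveI := hΨ.over_epi
    exact ⟨r, hr, by rw [← cancel_epi (lift aQ.act (snd J' Q)), ← Category.assoc, hr, Category.id_comp, Category.comp_id]⟩
  have hQloc : NonAbH1.IsLocallyTrivialFor Scheme.fpqcPrecoverage Q := by
    refine ⟨Presieve.singleton Z.hom, hp, ?_⟩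
    rintro S' g ⟨⟩
    exact ⟨(lift (𝟙 Z) (1 : Z ⟶ J') ≫ q).left, Over.w _⟩
  -- the morphism
  let φ : PX ⊗ Z ⟶ Q :=
    lift (snd PX Z) (dv ha (fst PX Z) (snd PX Z ≫ σ) ≫ u) ≫ q
  have hφ : ∀ {T : Over X} (p : T ⟶ PX) (x : T ⟶ Z), lift p x ≫ φ = lift x (dv ha p (x ≫ σ) ≫ u) ≫ q := fun p x => by
    simp only [φ, comp_lift_assoc, lift_snd]
    rw [← Category.assoc _ _ u, comp_dv, lift_fst, lift_snd_assoc]
  obtain ⟨F, hF, -⟩ := (hcfst PX).over_desc φ fun T c d hcd => by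
    obtain ⟨p, x, rfl⟩ : ∃ (p : T ⟶ PX) (x : T ⟶ Z), c = lift p x := ⟨c ≫ fst _ _, c ≫ snd _ _, by ext <;> simp⟩
    obtain ⟨p', x', rfl⟩ : ∃ (p : T ⟶ PX) (x : T ⟶ Z), d = lift p x := ⟨d ≫ fst _ _, d ≫ snd _ _, by ext <;> simp⟩
    simp only [lift_fst] at hcd
    subst hcd
    rw [hφ, hφ, ← hinv _ x x' (dv ha p (x ≫ σ) ≫ u), tr, ← GrpObj.inv_comp, ← MonObj.mul_comp,
      show (dv ha (x' ≫ σ) (x ≫ σ))⁻¹ = dv ha (x ≫ σ) (x' ≫ σ) from
        inv_eq_of_mul_eq_one_right (by rw [dv_mul, dv_self]), dv_mul]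
  refine ⟨⟨Q, aQ, ⟨‹IsIso (lift aQ.act (snd J' Q))›, hQloc⟩⟩, F, ?_⟩
  show a.act ≫ F = lift (fst J PX ≫ u) (snd J PX ≫ F) ≫ act
  haveI := (hcfst (J ⊗ PX)).over_epi
  rw [← cancel_epi (fst (J ⊗ PX) Z)]
  set c := fst (J ⊗ PX) Z
  set x := snd (J ⊗ PX) Z
  have hFp : ∀ p : ((J ⊗ PX) ⊗ Z) ⟶ PX, p ≫ F = lift x (dv ha p (x ≫ σ) ≫ u) ≫ q := fun p => by
    rw [← hφ, ← hF, lift_fst_assoc]
  rw [← Category.assoc, hFp, comp_lift_assoc, ← Category.assoc c, ← Category.assoc c, hFp, hact, ← MonObj.mul_comp]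
  congr 2
  rw [show (c ≫ fst J PX) * dv ha (c ≫ snd J PX) (x ≫ σ) = dv ha (c ≫ a.act) (x ≫ σ) from (dv_eq ha (by
    rw [SchTorsor.act_assoc, dv_spec, ← comp_lift_assoc, CartesianMonoidalCategory.lift_fst_snd,
      Category.id_comp])).symm]

end Groth.Agent.S14540
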