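import Groth.Statements.S14541
import Groth.Agent.GrpSchLib.Core
import Groth.Agent.GrpSchLib.TopDescent


set_option autoImplicit false
universe u
open CategoryTheory MonoidalCategory CartesianMonoidalCategory MonObj GrpObj AlgebraicGeometry
open PrincBund

namespace Groth.Agent.S14541

/-- Let X be a scheme, J, J' and J'' group schemes affine over X, with no flatness or finiteness
condition, u : J → J' and v : J' → J'' homomorphisms, P a J-torsor, P' a J'-torsor and P'' a
J''-torsor, all for the fpqc topology, q' : P → P' an X-morphism compatible with u and q'' : P → P''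
an X-morphism compatible with the composite homomorphism J → J' → J''. Then there is exactly one
X-morphism r : P' → P'' compatible with v whose composite with q' is q''. Taking v to be the
identity, the push forward of a torsor along u is unique up to unique isomorphism. -/
theorem result {X : Scheme.{u}}
    {J J' J'' : Over X} [GrpObj J] [GrpObj J'] [GrpObj J''] [IsAffineHom J.hom] [IsAffineHom J'.hom]
    [IsAffineHom J''.hom] (u : J ⟶ J') [IsMonHom u] (v : J' ⟶ J'') [IsMonHom v] {P P' P'' : Over X}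
    (a : AlgGrp.Action J P) (a' : AlgGrp.Action J' P') (a'' : AlgGrp.Action J'' P'')
    (hP : NonAbH1.IsTorsorFor Scheme.fpqcPrecoverage a)
    (hP' : NonAbH1.IsTorsorFor Scheme.fpqcPrecoverage a')
    (hP'' : NonAbH1.IsTorsorFor Scheme.fpqcPrecoverage a'')
    (q' : P ⟶ P') (hq' : a.act ≫ q' = lift (fst J P ≫ u) (snd J P ≫ q') ≫ a'.act)
    (q'' : P ⟶ P'') (hq'' : a.act ≫ q'' = lift (fst J P ≫ u ≫ v) (snd J P ≫ q'') ≫ a''.act) :
    ∃! r : P' ⟶ P'', a'.act ≫ r = lift (fst J' P' ≫ v) (snd J' P' ≫ r) ≫ a''.act ∧ q' ≫ r = q'' := by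
  let j : J' ⊗ P ⟶ P' := lift (fst J' P) (snd J' P ≫ q') ≫ a'.act
  let f : J' ⊗ P ⟶ P'' := lift (fst J' P ≫ v) (snd J' P ≫ q'') ≫ a''.act
  have hjpt : ∀ {T : Over X} (g : T ⟶ J') (p : T ⟶ P), lift g p ≫ j = lift g (p ≫ q') ≫ a'.act := by
    intro T g p
    simp only [j, comp_lift_assoc, lift_fst, lift_snd_assoc]
  have hfpt : ∀ {T : Over X} (g : T ⟶ J') (p : T ⟶ P), lift g p ≫ f = lift (g ≫ v) (p ≫ q'') ≫ a''.act := by
    intro T g p
    simp [f]
  have hq'pt : ∀ {T : Over X} (h : T ⟶ J) (p : T ⟶ P),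
      (lift h p ≫ a.act) ≫ q' = lift (h ≫ u) (p ≫ q') ≫ a'.act := by
    intro T h p
    rw [Category.assoc, hq']
    simp
  have hq''pt : ∀ {T : Over X} (h : T ⟶ J) (p : T ⟶ P),
      (lift h p ≫ a.act) ≫ q'' = lift (h ≫ u ≫ v) (p ≫ q'') ≫ a''.act := by
    intro T h p
    rw [Category.assoc, hq'']
    simp
  obtain ⟨hPiso, R, hR, hsec⟩ := hP
  have : IsIso (lift a.act (snd J P)) := hPiso
  have hP'iso : IsIso (lift a'.act (snd J' P')) := hP'.1
  have hdiv : ∀ {T : Over X} (x y : T ⟶ P), ∃ h : T ⟶ J, lift h y ≫ a.act = x := by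
    intro T x y
    refine ⟨lift x y ≫ inv (lift a.act (snd J P)) ≫ fst J P, ?_⟩
    have e : lift x y ≫ inv (lift a.act (snd J P)) ≫ lift a.act (snd J P) = lift x y := by
      rw [IsIso.inv_hom_id, Category.comp_id]
    have e1 := congrArg (· ≫ fst P P) e
    have e2 := congrArg (· ≫ snd P P) e
    simp only [Category.assoc, lift_fst, lift_snd] at e1 e2
    have e3 : lift x y ≫ inv (lift a.act (snd J P)) =
        lift (lift x y ≫ inv (lift a.act (snd J P)) ≫ fst J P) y := by
      apply CartesianMonoidalCategory.hom_ext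
      · simp
      · rw [Category.assoc, e2, lift_snd]
    rw [← e3, Category.assoc, e1]
  have hfree : ∀ {T : Over X} (g h : T ⟶ J') (y : T ⟶ P'),
      lift g y ≫ a'.act = lift h y ≫ a'.act → g = h := by
    intro T g h y e
    have : lift g y = lift h y := by
      rw [← cancel_mono (lift a'.act (snd J' P'))]
      simp [e]
    simpa using congrArg (· ≫ fst J' P') this
  have hloc : GrpSchLib.TopDescent.HasLocSec Scheme.fpqcTopology j := by
    refine ⟨(Sieve.generate R).pullback P'.hom,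
      Scheme.fpqcTopology.pullback_stable _ (Precoverage.generate_mem_toGrothendieck hR), ?_⟩
    rintro T t ⟨V, b, g, hg, hbg⟩
    obtain ⟨s, hs⟩ := hsec g hg
    let T' : Over X := Over.mk (t ≫ P'.hom)
    let x : T' ⟶ P' := Over.homMk t rfl
    let p : T' ⟶ P := Over.homMk (b ≫ s) (by
      show (b ≫ s) ≫ P.hom = t ≫ P'.hom
      rw [Category.assoc, hs, hbg])
    let e := lift x (p ≫ q') ≫ inv (lift a'.act (snd J' P'))
    have he : e ≫ lift a'.act (snd J' P') = lift x (p ≫ q') := by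
      rw [Category.assoc, IsIso.inv_hom_id, Category.comp_id]
    have e1 := congrArg (· ≫ fst P' P') he
    have e2 := congrArg (· ≫ snd P' P') he
    simp only [Category.assoc, lift_fst, lift_snd] at e1 e2
    refine ⟨(lift (e ≫ fst J' P') p).left, ?_⟩
    have hfin : lift (e ≫ fst J' P') p ≫ j = x := by
      rw [hjpt, ← e2, ← comp_lift, lift_fst_snd, Category.comp_id, e1]
    exact congrArg CommaMorphism.left hfin
  have hf : ∀ (T : Over X) (x y : T ⟶ J' ⊗ P), x ≫ j = y ≫ j → x ≫ f = y ≫ f := by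
    intro T x y h
    obtain ⟨g₁, p₁, rfl⟩ : ∃ g p, x = lift g p :=
      ⟨x ≫ fst J' P, x ≫ snd J' P, by rw [← comp_lift, lift_fst_snd, Category.comp_id]⟩
    obtain ⟨g₂, p₂, rfl⟩ : ∃ g p, y = lift g p :=
      ⟨y ≫ fst J' P, y ≫ snd J' P, by rw [← comp_lift, lift_fst_snd, Category.comp_id]⟩
    obtain ⟨d, hd⟩ := hdiv p₂ p₁
    rw [hjpt, hjpt, ← hd, hq'pt, GrpSchLib.act_mul] at h
    rw [hfpt, hfpt, ← hd, hq''pt, GrpSchLib.act_mul, hfree _ _ _ h, MonObj.mul_comp, Category.assoc]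
  obtain ⟨r, hr, huniq⟩ := hloc.existsUnique_desc f hf
  refine ⟨r, ⟨?_, ?_⟩, fun r' hr' => huniq r' ?_⟩
  · refine (hloc.whiskerLeft J').hom_ext ?_
    have e : J' ◁ j = lift (fst J' (J' ⊗ P)) (snd J' (J' ⊗ P) ≫ j) := by
      apply CartesianMonoidalCategory.hom_ext <;> simp
    obtain ⟨g, p, hgp⟩ : ∃ g p, snd J' (J' ⊗ P) = lift g p :=
      ⟨snd J' (J' ⊗ P) ≫ fst J' P, snd J' (J' ⊗ P) ≫ snd J' P, by
        rw [← comp_lift, lift_fst_snd, Category.comp_id]⟩
    have hl : (J' ◁ j) ≫ lift (fst J' P' ≫ v) (snd J' P' ≫ r) ≫ a''.act =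
        lift (fst J' (J' ⊗ P) ≫ v) (snd J' (J' ⊗ P) ≫ f) ≫ a''.act := by
      rw [← hr, comp_lift_assoc]
      simp
    rw [hl, e, hgp, hjpt, hfpt, GrpSchLib.act_mul, ← Category.assoc, GrpSchLib.act_mul, ← hjpt,
      Category.assoc, hr, hfpt, MonObj.mul_comp]
  · have e : q' = lift (1 : P ⟶ J') (𝟙 P) ≫ j := by
      rw [hjpt, Category.id_comp, GrpSchLib.act_one]
    rw [e, Category.assoc, hr, hfpt, MonObj.one_comp, Category.id_comp, GrpSchLib.act_one]
  · show (lift (fst J' P) (snd J' P ≫ q') ≫ a'.act) ≫ r' = f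
    rw [Category.assoc, hr'.1]
    simp [f, hr'.2]

end Groth.Agent.S14541
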