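import Groth.Statements.S14542
import Groth.Agent.AGF20Lib.DiscLeviExist
-- import your own Groth.Agent.* helpers here

set_option autoImplicit false
set_option backward.isDefEq.respectTransparency false
set_option synthInstance.maxHeartbeats 400000
set_option linter.style.haveILetI false
set_option backward.isDefEq.respectTransparency.types false
set_option maxHeartbeats 1000000
universe u
open CategoryTheory MonoidalCategory CartesianMonoidalCategory MonObj GrpObj AlgebraicGeometry
open PrincBund

namespace Groth.Agent.S14542

/-- Let k be a field of characteristic 0, G an affine group scheme of finite type over k, not assumed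
connected, and u : U → G its unipotent radical. Then G has a Levi subgroup: there is a closed
subgroup scheme L of G such that the multiplication morphism L × U → G, (x, v) ↦ x v, is an
isomorphism of k-schemes, so that G is the semidirect product of L and U. (The published statement
is for affine group schemes over k not necessarily of finite type; this row is the finite-type
case.) -/
theorem result (k : Type u) [Field k] [CharZero k]
    (G : Over (Spec (CommRingCat.of k))) [GrpObj G] [IsAffine G.left] [LocallyOfFiniteType G.hom]
    (U : Over (Spec (CommRingCat.of k))) [GrpObj U] (u : U ⟶ G) (hU : Par.IsUnipotentRadical u) :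
    ∃ (L : Over (Spec (CommRingCat.of k))) (_ : GrpObj L) (l : L ⟶ G), IsMonHom l ∧ IsClosedImmersion l.left ∧
      IsIso ((l ⊗ₘ u) ≫ μ[G]) := by
  exact AGF20Lib.DiscLR.exists_levi_subgroup G U u hU

end Groth.Agent.S14542
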