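import Groth.Statements.S14543
import Groth.Agent.AGF20Lib.DiscLevi
-- import your own Groth.Agent.* helpers here

set_option autoImplicit false
set_option backward.isDefEq.respectTransparency false
set_option synthInstance.maxHeartbeats 400000
set_option linter.style.haveILetI false
set_option backward.isDefEq.respectTransparency.types false
set_option maxHeartbeats 1000000
universe u
open CategoryTheory MonoidalCategory CartesianMonoidalCategory MonObj GrpObj AlgebraicGeometry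
open PrincBund

namespace Groth.Agent.S14543

/-- Let k be a field of characteristic 0, G an affine group scheme of finite type over k with unipotent
radical u : U → G, and l₁ : L₁ → G, l₂ : L₂ → G homomorphisms of k-group schemes each of which is a
Levi complement to U (multiplication Lᵢ × U → G is an isomorphism). Then there are a k-rational
point v of U and an isomorphism e : L₁ ≅ L₂ over k with l₂ ∘ e equal to the conjugate v l₁ v⁻¹. (The
published statement is for affine group schemes over k not necessarily of finite type; this row is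
the finite-type case.) -/
theorem result (k : Type u) [Field k] [CharZero k]
    (G : Over (Spec (CommRingCat.of k))) [GrpObj G] [IsAffine G.left] [LocallyOfFiniteType G.hom]
    (U : Over (Spec (CommRingCat.of k))) [GrpObj U] (u : U ⟶ G) (hU : Par.IsUnipotentRadical u)
    (L₁ L₂ : Over (Spec (CommRingCat.of k))) [GrpObj L₁] [GrpObj L₂] (l₁ : L₁ ⟶ G) (l₂ : L₂ ⟶ G)
    [IsMonHom l₁] [IsMonHom l₂]
    (h₁ : IsIso ((l₁ ⊗ₘ u) ≫ μ[G])) (h₂ : IsIso ((l₂ ⊗ₘ u) ≫ μ[G])) :
    ∃ (v : 𝟙_ (Over (Spec (CommRingCat.of k))) ⟶ U) (e : L₁ ≅ L₂), e.hom ≫ l₂ = AGF.conjBy (v ≫ u) l₁ := by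
  obtain ⟨hmu, hcu, hnu, hsU, hqU, hgU, -⟩ := id hU
  haveI := hmu
  haveI := hcu
  haveI := hsU
  haveI : IsAffine U.left := isAffine_of_isAffineHom u.left
  haveI : Mono u := Over.mono_of_mono_left u
  let s := AGFLib.GeomBC.pt k
  haveI : ConnectedSpace U.left := AGF20Lib.UnipFix.connectedSpace_descend s (hgU s).1
  obtain ⟨B, _, _, hft, hu, ⟨eU⟩⟩ := AGF20Lib.UnipFix.exists_unipHopf U s (hgU s).2
  haveI := hft
  obtain ⟨A, _, _, ⟨eL⟩, α, hα, h1'⟩ := AGF20Lib.DiscLR.exists_linRed_complement G U u hU L₁ l₁ h₁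
  obtain ⟨π, hπ, hπ'⟩ := AGF20Lib.DiscLR.exists_proj u hnu l₁ l₂ h₂
  obtain ⟨σ, hσ, hσ'⟩ := AGF20Lib.DiscLR.exists_proj u hnu l₂ l₁ h₁
  haveI := hπ
  obtain ⟨v, hv⟩ := AGF20Lib.UnipFix.exists_conj eL eU hα h1' hu u hnu l₁ (π ≫ l₂) hπ'
  have hπσ : π ≫ σ = 𝟙 L₁ := by
    obtain ⟨w, hw⟩ := hπ' L₁ (𝟙 L₁)
    obtain ⟨w', hw'⟩ := hσ' L₁ π
    refine AGF20Lib.DiscLR.eq_of_mod u hnu l₁ h₁ (w := w' * w) ?_
    rw [Category.id_comp, Category.id_comp] at hw
    rw [Category.id_comp, Category.assoc, hw', MonObj.mul_comp, hw, _root_.mul_assoc]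
  have hσπ : σ ≫ π = 𝟙 L₂ := by
    obtain ⟨w, hw⟩ := hσ' L₂ (𝟙 L₂)
    obtain ⟨w', hw'⟩ := hπ' L₂ σ
    refine AGF20Lib.DiscLR.eq_of_mod u hnu l₂ h₂ (w := w' * w) ?_
    rw [Category.id_comp, Category.id_comp] at hw
    rw [Category.id_comp, Category.assoc, hw', MonObj.mul_comp, hw, _root_.mul_assoc]
  exact ⟨v, ⟨π, σ, hπσ, hσπ⟩, hv⟩

end Groth.Agent.S14543
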