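import Groth.Statements.S14546
import Groth.Agent.GrpSchLib.SectionsProdQC
import Groth.Agent.GrpSchLib.WeilAlgFree
-- import your own Groth.Agent.* helpers here

set_option autoImplicit false
set_option backward.isDefEq.respectTransparency false
set_option backward.isDefEq.respectTransparency.types false
universe u
open CategoryTheory MonoidalCategory CartesianMonoidalCategory MonObj GrpObj AlgebraicGeometry
open PrincBund
open scoped TensorProduct

namespace Groth.Agent.S14546

set_option maxHeartbeats 1000000

/-- Let k be a field of characteristic 0, X a quasi-compact k-scheme whose ring of global functions is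
finite-dimensional over k, and Z an affine k-scheme. Then the functor on k-schemes S ↦ Hom_k(X ×_k
S, Z) is representable by an affine k-scheme M: there is a universal k-morphism X ×_k M → Z through
which every k-morphism X ×_k S → Z factors by a unique S → M; and M is of finite type over k if Z
is. (The published statement is about the scheme of invariant cross-sections of an affine scheme
under a transitive affine groupoid over a pregroupoid H, with a finiteness hypothesis on H; this row
is the case of the trivial groupoid, where the representing scheme is the scheme of k-morphisms from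
X to Z and that hypothesis reads: X quasi-compact with finite-dimensional global functions.) -/
theorem result (k : Type u) [Field k] [CharZero k]
    (X : Over (Spec (CommRingCat.of k))) [CompactSpace ↥X.left]
    (hfin : (X.hom.appTop.hom.comp (Scheme.ΓSpecIso (CommRingCat.of k)).inv.hom).Finite)
    (Z : Over (Spec (CommRingCat.of k))) [IsAffine Z.left] :
    ∃ (M : Over (Spec (CommRingCat.of k))) (_ : IsAffine M.left) (ev : X ⊗ M ⟶ Z),
      (∀ (S : Over (Spec (CommRingCat.of k))) (f : X ⊗ S ⟶ Z), ∃! g : S ⟶ M, (X ◁ g) ≫ ev = f) ∧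
      (LocallyOfFiniteType Z.hom → LocallyOfFiniteType M.hom) := by
  classical
  haveI : Module.Finite k (GrpSchLib.Kunneth.Fn X) := hfin
  let e := Module.finBasis k (GrpSchLib.Kunneth.Fn X)
  let L := GrpSchLib.Kunneth.Fn X
  let A := GrpSchLib.Kunneth.Fn Z
  let W := GrpSchLib.WeilAlgFree.W e A
  let M := GrpSchLib.AffineHopf.sp k W
  let fW := GrpSchLib.SplitTorusPoints.fnSp k W
  let θ : ∀ S : Over (Spec (CommRingCat.of k)), L ⊗[k] GrpSchLib.Kunneth.Fn S ≃ₐ[k] GrpSchLib.Kunneth.Fn (X ⊗ S) :=
    fun S => AlgEquiv.ofBijective _ (GrpSchLib.SectionsProdQC.toProd_bijective X S)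
  obtain ⟨ev₀, hev₀⟩ := GrpSchLib.LineGroups.exists_hom_ev (T := X ⊗ M) (X := Z)
    ((θ M).toAlgHom.comp ((Algebra.TensorProduct.map (AlgHom.id k L) fW.toAlgHom).comp (GrpSchLib.WeilAlgFree.univ e A)))
  have key : ∀ (S : Over (Spec (CommRingCat.of k))) (g : S ⟶ M) (a : A),
      GrpSchLib.Kunneth.ev ((X ◁ g) ≫ ev₀) a = θ S (Algebra.TensorProduct.map (AlgHom.id k L)
        ((GrpSchLib.Kunneth.ev g).comp fW.toAlgHom) (GrpSchLib.WeilAlgFree.univ e A a)) := by
    intro S g a
    rw [← GrpSchLib.Kunneth.ev_ev, hev₀]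
    show GrpSchLib.Kunneth.ev (X ◁ g) (θ M (Algebra.TensorProduct.map (AlgHom.id k L) fW.toAlgHom
      (GrpSchLib.WeilAlgFree.univ e A a))) = _
    generalize GrpSchLib.WeilAlgFree.univ e A a = z
    induction z using TensorProduct.induction_on with
    | zero => simp only [map_zero]
    | tmul l w =>
      show GrpSchLib.Kunneth.ev (X ◁ g) (Algebra.TensorProduct.lift (GrpSchLib.Kunneth.ev (fst X M))
        (GrpSchLib.Kunneth.ev (snd X M)) (fun _ _ => .all _ _) (l ⊗ₜ[k] fW w)) =
        Algebra.TensorProduct.lift (GrpSchLib.Kunneth.ev (fst X S))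
        (GrpSchLib.Kunneth.ev (snd X S)) (fun _ _ => .all _ _) (l ⊗ₜ[k] GrpSchLib.Kunneth.ev g (fW w))
      rw [Algebra.TensorProduct.lift_tmul, Algebra.TensorProduct.lift_tmul, map_mul, GrpSchLib.Kunneth.ev_ev,
        GrpSchLib.Kunneth.ev_ev, GrpSchLib.Kunneth.ev_ev, whiskerLeft_fst, whiskerLeft_snd]
    | add p q hp hq => simp only [map_add, hp, hq]
  haveI hM : IsAffine M.left := inferInstance
  refine ⟨M, hM, ev₀, fun S f => ?_, fun hZ => ?_⟩
  · obtain ⟨ga, hga, huniq⟩ := GrpSchLib.WeilAlgFree.existsUnique e A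
      ((θ S).symm.toAlgHom.comp (GrpSchLib.Kunneth.ev f))
    obtain ⟨g, hg⟩ := GrpSchLib.LineGroups.exists_hom_ev (T := S) (X := M) (ga.comp fW.symm.toAlgHom)
    have hgc : (GrpSchLib.Kunneth.ev g).comp fW.toAlgHom = ga := by
      rw [hg]; ext w; exact congrArg ga (fW.symm_apply_apply w)
    refine ⟨g, GrpSchLib.LineGroups.ext_ev (AlgHom.ext fun a => ?_), fun g' hg' => ?_⟩
    · rw [key, hgc, show Algebra.TensorProduct.map (AlgHom.id k L) ga (GrpSchLib.WeilAlgFree.univ e A a) =
        (θ S).symm (GrpSchLib.Kunneth.ev f a) from DFunLike.congr_fun hga a, AlgEquiv.apply_symm_apply]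
    · have h1 : (GrpSchLib.Kunneth.ev g').comp fW.toAlgHom = ga := huniq _ (AlgHom.ext fun a => by
        show Algebra.TensorProduct.map (AlgHom.id k L) _ (GrpSchLib.WeilAlgFree.univ e A a) = (θ S).symm (GrpSchLib.Kunneth.ev f a)
        rw [← hg', key, AlgEquiv.symm_apply_apply])
      refine GrpSchLib.LineGroups.ext_ev (AlgHom.ext fun z => ?_)
      obtain ⟨w, rfl⟩ := fW.surjective z
      exact DFunLike.congr_fun (h1.trans hgc.symm) w
  · haveI := hZ
    haveI : Algebra.FiniteType k A := by
      have h := Z.hom.finiteType_appLE (isAffineOpen_top (Spec (CommRingCat.of k))) (isAffineOpen_top Z.left) (by simp)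
      show (algebraMap k A).FiniteType
      rw [show Z.hom.appLE ⊤ ⊤ (by simp) = Z.hom.appTop from (Scheme.Hom.app_eq_appLE Z.hom (U := ⊤)).symm] at h
      exact h.comp (RingHom.FiniteType.of_surjective _
        (ConcreteCategory.bijective_of_isIso (Scheme.ΓSpecIso (CommRingCat.of k)).inv).2)
    exact (HasRingHomProperty.Spec_iff (P := @LocallyOfFiniteType)).2
      (RingHom.finiteType_algebraMap.2 (GrpSchLib.WeilAlgFree.finiteType e A))

end Groth.Agent.S14546
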