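import Groth.Statements.S14547


set_option autoImplicit false
universe u
open CategoryTheory MonoidalCategory CartesianMonoidalCategory MonObj GrpObj AlgebraicGeometry
open PrincBund

namespace Groth.Agent.S14547

/-- Let f : X' → X be a faithfully flat quasi-compact morphism of schemes, J a group scheme affine over
X with an action a on an X-scheme P, and a' the induced action of the base change J' = J ×_X X' on
P' = P ×_X X'. Then P with a is a J-torsor for the fpqc topology if and only if P' with a' is a
J'-torsor for the fpqc topology. (The published statement allows any morphism X' → X that is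
covering for the fpqc topology, and an action of a pregroupoid; this row is the case of a faithfully
flat quasi-compact X' → X and the trivial pregroupoid.) -/
theorem result {X X' : Scheme.{u}} (f : X' ⟶ X)
    [Flat f] [Surjective f] [QuasiCompact f]
    {J P : Over X} [GrpObj J] [IsAffineHom J.hom] (a : AlgGrp.Action J P)
    (a' : AlgGrp.Action (Red.bc f J) (Red.bc f P))
    (ha' : Functor.LaxMonoidal.μ (Over.pullback f) J P ≫ (Over.pullback f).map a.act = a'.act) :
    NonAbH1.IsTorsorFor Scheme.fpqcPrecoverage a ↔ NonAbH1.IsTorsorFor Scheme.fpqcPrecoverage a' := by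
  let F := Over.pullback f
  have key : lift a'.act (snd (Red.bc f J) (Red.bc f P)) ≫ Functor.LaxMonoidal.μ F P P =
      Functor.LaxMonoidal.μ F J P ≫ F.map (lift a.act (snd J P)) := by
    rw [← cancel_mono (Functor.OplaxMonoidal.δ F P P)]
    apply CartesianMonoidalCategory.hom_ext
    · simp only [Category.assoc, Functor.Monoidal.μ_δ, Category.comp_id, lift_fst,
        Functor.OplaxMonoidal.δ_fst, ← Functor.map_comp]
      rw [← ha']
      erw [Category.id_comp, lift_fst]
    · simp only [Category.assoc, Functor.Monoidal.μ_δ, Category.comp_id, lift_snd,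
        Functor.OplaxMonoidal.δ_snd, ← Functor.map_comp]
      erw [Category.id_comp, lift_snd]
      exact (Functor.Monoidal.μ_snd F J P).symm
  have hiso : IsIso (lift a.act (snd J P)) ↔ IsIso (lift a'.act (snd (Red.bc f J) (Red.bc f P))) := by
    constructor
    · intro h
      have : IsIso (lift a'.act (snd (Red.bc f J) (Red.bc f P)) ≫ Functor.LaxMonoidal.μ F P P) := by
        rw [key]; infer_instance
      exact IsIso.of_isIso_comp_right _ (Functor.LaxMonoidal.μ F P P)
    · intro h
      have : IsIso (Functor.LaxMonoidal.μ F J P ≫ F.map (lift a.act (snd J P))) := by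
        rw [← key]; infer_instance
      have hF : IsIso (F.map (lift a.act (snd J P))) := IsIso.of_isIso_comp_left (Functor.LaxMonoidal.μ F J P) _
      set m := lift a.act (snd J P)
      have hml : IsIso (F.map m).left := ((Over.forget X').mapIso (asIso (F.map m))).isIso_hom
      have hout : IsPullback (Limits.pullback.fst (J ⊗ P).hom f)
          ((F.map m).left ≫ Limits.pullback.snd (P ⊗ P).hom f) (m.left ≫ (P ⊗ P).hom) f := by
        have e1 : (F.map m).left ≫ Limits.pullback.snd (P ⊗ P).hom f = Limits.pullback.snd (J ⊗ P).hom f :=
          Over.w (F.map m)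
        rw [e1, Over.w m]
        exact IsPullback.of_hasPullback _ _
      have hb : IsPullback (Limits.pullback.fst (J ⊗ P).hom f) (F.map m).left m.left
          (Limits.pullback.fst (P ⊗ P).hom f) :=
        IsPullback.of_bot hout (Limits.pullback.lift_fst _ _ _).symm (IsPullback.of_hasPullback _ _)
      have hQ : (@Surjective ⊓ @Flat ⊓ @QuasiCompact : MorphismProperty Scheme.{u})
          (Limits.pullback.fst (P ⊗ P).hom f) := ⟨⟨inferInstance, inferInstance⟩, inferInstance⟩
      have : IsIso m.left :=
        MorphismProperty.of_isPullback_of_descendsAlong (P := MorphismProperty.isomorphisms Scheme.{u})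
          hb.flip hQ hml
      have : IsIso ((Over.forget X).map m) := this
      exact isIso_of_reflects_iso m (Over.forget X)
  refine and_congr hiso ⟨?_, ?_⟩
  · rintro ⟨R, hR, hsec⟩
    refine ⟨R.pullbackArrows f, Precoverage.pullbackArrows_mem f hR, ?_⟩
    rintro Z g hg
    obtain ⟨W, h, hh⟩ := hg
    obtain ⟨s, hs⟩ := hsec h hh
    exact ⟨Limits.pullback.lift (Limits.pullback.fst h f ≫ s) (Limits.pullback.snd h f)
      (by rw [Category.assoc, hs, Limits.pullback.condition]), Limits.pullback.lift_snd _ _ _⟩
  · rintro ⟨R, hR, hsec⟩
    obtain ⟨ν, Z, g, rfl⟩ := R.exists_eq_ofArrows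
    have hf := Scheme.Hom.singleton_mem_fpqcPrecoverage f
    rw [← Presieve.ofArrows_pUnit.{u}] at hf
    refine ⟨_, Precoverage.comp_mem_coverings _ hf (fun _ i => g i) (fun _ => hR), ?_⟩
    rintro W h ⟨⟨_, i⟩⟩
    obtain ⟨s, hs⟩ := hsec (g i) (Presieve.ofArrows.mk i)
    exact ⟨s ≫ Limits.pullback.fst P.hom f, by
      rw [Category.assoc, Limits.pullback.condition, ← Category.assoc]
      exact congrArg (· ≫ f) hs⟩
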