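import Groth.Statements.S14548
import Groth.Agent.AGF20Lib.UnipGeo
-- import your own Groth.Agent.* helpers here

set_option autoImplicit false
set_option backward.isDefEq.respectTransparency false
set_option synthInstance.maxHeartbeats 400000
set_option linter.style.haveILetI false
set_option backward.isDefEq.respectTransparency.types false
set_option maxHeartbeats 1000000
universe u
open CategoryTheory MonoidalCategory CartesianMonoidalCategory MonObj GrpObj AlgebraicGeometry
open PrincBund

namespace Groth.Agent.S14548

/-- Let k be a field of characteristic 0, G a reductive k-group, U a unipotent k-group of finite type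
(affine, smooth, connected, whose geometric fibre contains no non-trivial subtorus) on which G acts
by group automorphisms through c, and P a k-scheme carrying an action d of G and an action b of U
which makes P a U-torsor for the fpqc topology and is G-equivariant: g · (u · p) = (g · u) · (g · p)
for all points g of G, u of U, p of P with values in any k-scheme. Then P has a k-rational point
fixed by G. (The published statement is for a reductive groupoid K, a unipotent K-group not
necessarily of finite type, and concludes that every such torsor has a K-invariant cross-section;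
this row is the case of a connected reductive group over Spec k and U of finite type.) -/
theorem result (k : Type u) [Field k] [CharZero k]
    (G : Over (Spec (CommRingCat.of k))) [GrpObj G] (hG : Red.IsReductive G)
    (U : Over (Spec (CommRingCat.of k))) [GrpObj U] [IsAffine U.left] [Smooth U.hom] [ConnectedSpace ↥U.left]
    (hU : ∀ s : ↥(Spec (CommRingCat.of k)),
      Red.HasNoSubtorus (AlgebraicClosure ((Spec (CommRingCat.of k)).residueField s)) (Red.geomFibre s U))
    (c : AlgGrp.Action G U)
    (hc : ∀ (T : Over (Spec (CommRingCat.of k))) (g : T ⟶ G) (u₁ u₂ : T ⟶ U),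
      lift g (u₁ * u₂) ≫ c.act = (lift g u₁ ≫ c.act) * (lift g u₂ ≫ c.act))
    (P : Over (Spec (CommRingCat.of k))) (d : AlgGrp.Action G P) (b : AlgGrp.Action U P)
    (hb : NonAbH1.IsTorsorFor Scheme.fpqcPrecoverage b)
    (hcomp : ∀ (T : Over (Spec (CommRingCat.of k))) (g : T ⟶ G) (v : T ⟶ U) (p : T ⟶ P),
      lift g (lift v p ≫ b.act) ≫ d.act = lift (lift g v ≫ c.act) (lift g p ≫ d.act) ≫ b.act) :
    ∃ x : 𝟙_ (Over (Spec (CommRingCat.of k))) ⟶ P, d.IsFixedPt x := by
  obtain ⟨B, _, _, hft, hu, ⟨eU⟩⟩ :=
    AGF20Lib.UnipFix.exists_unipHopf U (AGFLib.GeomBC.pt k) (hU _)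
  haveI := hft
  obtain ⟨A, _, _, ⟨eG⟩, α, hα, h1⟩ := AGF20Lib.UnipFix.exists_redHopf G hG
  obtain ⟨p₀⟩ := AGF20Lib.UnipFix.exists_kpoint eU b hu hb
  exact AGF20Lib.UnipFix.exists_fixedPt eU b eG hα h1 hu c hc d hb.1 hcomp p₀

end Groth.Agent.S14548
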