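import Groth.Statements.S1456
import Groth.Agent.SmoothStrat.Piece

set_option autoImplicit false
universe u
open FlatMor

namespace Groth.Agent.S1456

open AlgebraicGeometry CategoryTheory Limits in
/-- For f : X → S of finite presentation with S reduced and for η generic in an irreducible component of
S, there are an open U ∋ η of S, a morphism V → U which is finite locally free, surjective and
universally injective, and, on X_V = X ×_S V, ideal sheaves J_0 ≤ J_1 ≤ ... ≤ J_t = O of finite type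
with J_0 cutting out a thickening of X_V, such that each locally closed stratum supp(J_i) ∖
supp(J_{i+1}), as a subscheme of the closed subscheme cut out by J_i, is smooth over V. -/
theorem result {X S : Scheme.{u}} (f : X ⟶ S) [LocallyOfFinitePresentation f] [QuasiCompact f] [QuasiSeparated f] [IsReduced S]
    (η : S) (W : Set ↑S) (hW : W ∈ irreducibleComponents ↑S) (hη : IsGenericPoint η W) :
    ∃ (U : S.Opens) (V : Scheme.{u}) (v : V ⟶ (U : Scheme.{u})), η ∈ U ∧ Surjective v ∧ UniversallyInjective v ∧ Mor2.IsFinLocFree v ∧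
      ∃ (t : ℕ) (J : Fin (t + 1) → (pullback f (v ≫ U.ι)).IdealSheafData), Monotone J ∧ J (Fin.last t) = ⊤ ∧
        ((J 0).support : Set ↑(pullback f (v ≫ U.ι))) = Set.univ ∧ (∀ i, ∀ O : (pullback f (v ≫ U.ι)).affineOpens, ((J i).ideal O).FG) ∧
        ∀ i : Fin t, Smooth (((J i.castSucc).subschemeι ⁻¹ᵁ (J i.succ).support.compl).ι ≫ (J i.castSucc).subschemeι ≫ pullback.snd f (v ≫ U.ι)) := by
  classical
  obtain ⟨_, ⟨U₀, hU₀, rfl⟩, hηU₀, -⟩ :=
    S.isBasis_affineOpens.exists_subset_of_mem_open (Set.mem_univ η) isOpen_univ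
  obtain ⟨l, hl, hcov⟩ := Groth.Agent.SmoothStrat.exists_pieces f hU₀
  obtain ⟨⟨q, g⟩, hp, hηq, hηg⟩ := hcov η hηU₀
  obtain ⟨hq, hgood⟩ := hl _ hp
  obtain ⟨G, rfl⟩ := hq
  -- the piece contains a neighbourhood of the generic point
  haveI : _root_.IsReduced Γ(S, U₀) := IsReduced.component_reduced U₀
  let P := (hU₀.primeIdealOf ⟨η, hηU₀⟩).asIdeal
  have hPmem : ∀ a : Γ(S, U₀), a ∈ P ↔ η ∉ S.basicOpen a := fun a => by
    have h3 : η ∈ S.basicOpen a ↔ hU₀.primeIdealOf ⟨η, hηU₀⟩ ∈ PrimeSpectrum.basicOpen a := by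
      rw [← hU₀.fromSpec_preimage_basicOpen]
      show _ ↔ hU₀.fromSpec (hU₀.primeIdealOf ⟨η, hηU₀⟩) ∈ S.basicOpen a
      rw [hU₀.fromSpec_primeIdealOf]
    rw [h3]
    exact not_not.symm
  have hmin : P ∈ minimalPrimes Γ(S, U₀) := by
    refine ⟨⟨inferInstance, bot_le⟩, fun Q hQ hQP => ?_⟩
    haveI : Q.IsPrime := hQ.1
    let x' : S := hU₀.fromSpec ⟨Q, hQ.1⟩
    have hsp : x' ⤳ η := by
      have h1 : (⟨Q, hQ.1⟩ : PrimeSpectrum Γ(S, U₀)) ⤳ hU₀.primeIdealOf ⟨η, hηU₀⟩ :=
        (PrimeSpectrum.le_iff_specializes _ _).1 hQP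
      have h2 := Specializes.map h1 hU₀.fromSpec.continuous
      rwa [hU₀.fromSpec_primeIdealOf] at h2
    have hW' : closure ({x'} : Set ↑S) = W := by
      refine (hW.eq_of_ge ((isIrreducible_singleton (x := x')).closure) ?_)
      rw [← hη.def]
      exact closure_minimal (Set.singleton_subset_iff.2 hsp.mem_closure) isClosed_closure
    have hx' : x' = η := (isGenericPoint_closure (x := x')).eq (hW' ▸ hη)
    have h3 : (⟨Q, hQ.1⟩ : PrimeSpectrum Γ(S, U₀)) = hU₀.primeIdealOf ⟨η, hηU₀⟩ := by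
      refine hU₀.fromSpec.isOpenEmbedding.injective ?_
      rw [hU₀.fromSpec_primeIdealOf]
      exact hx'
    exact (congrArg PrimeSpectrum.asIdeal h3).ge
  have hkill : ∀ a ∈ G, ∃ b : Γ(S, U₀), b ∉ P ∧ b * a = 0 := fun a ha => by
    let L := Localization.AtPrime P
    haveI : Ring.KrullDimLE 0 L := Ring.KrullDimLE.of_isLocalization P hmin L
    letI : Field L := (Ring.KrullDimLE.isField_of_isReduced (R := L)).toField
    have h0 : algebraMap Γ(S, U₀) L a = 0 := by
      by_contra h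
      have haP : a ∈ P := (hPmem a).2 ((Scheme.mem_zeroLocus_iff _ _ _).1 hηq a (Ideal.subset_span ha))
      exact ((IsLocalization.AtPrime.isUnit_to_map_iff L P a).1 (IsUnit.mk0 _ h)) haP
    obtain ⟨⟨b, hb⟩, h⟩ := (IsLocalization.map_eq_zero_iff P.primeCompl L a).1 h0
    exact ⟨b, hb, h⟩
  choose! b hbP hb using hkill
  let g' := g * ∏ a ∈ G, b a
  have hηg' : η ∈ S.basicOpen g' := by
    by_contra h
    rw [← hPmem] at h
    rcases Ideal.IsPrime.mem_or_mem inferInstance h with h | h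
    · exact (hPmem g).1 h hηg
    · obtain ⟨a, ha, h⟩ := Ideal.IsPrime.prod_mem_iff.1 h
      exact hbP a ha h
  let U := S.basicOpen g'
  let ρ := S.presheaf.map (homOfLE (S.basicOpen_le g')).op
  have hu : IsUnit (ρ g') := S.toRingedSpace.isUnit_res_basicOpen g'
  have hgU : IsUnit (ρ g) := by
    rw [map_mul] at hu
    exact isUnit_of_mul_isUnit_left hu
  have hker : ∀ a ∈ Ideal.span (G : Set Γ(S, U₀)), ρ a = 0 := fun a ha => by
    have hle : Ideal.span (G : Set Γ(S, U₀)) ≤ RingHom.ker ρ.hom := by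
      rw [Ideal.span_le]
      intro a ha
      have hba : ρ (∏ c ∈ G, b c) * ρ a = 0 := by
        rw [← Finset.mul_prod_erase G b ha, ← map_mul, mul_right_comm, hb a ha, zero_mul, map_zero]
      rw [map_mul] at hu
      exact (IsUnit.mul_right_eq_zero (isUnit_of_mul_isUnit_right hu)).1 hba
    exact hle ha
  obtain ⟨T, v, hs, hui, hflf, t, J, hJm, hJl, hJs, hJfg, hJP⟩ :=
    hgood Γ(S, U) ρ hker hgU U.ι (hU₀.basicOpen g').isoSpec.symm (by
      show (hU₀.basicOpen g').isoSpec.inv ≫ U.ι = _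
      rw [hU₀.map_fromSpec (hU₀.basicOpen g'), IsAffineOpen.isoSpec_inv_ι])
  refine ⟨U, T, v, hηg', hs, hui, hflf, t, J, hJm, hJl, hJs, hJfg, fun j => ?_⟩
  have h := hJP j
  exact (congrArg (fun φ => Smooth φ) (Category.assoc _ _ _)).mp h

end Groth.Agent.S1456
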