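import Groth.Statements.S1457
import Groth.Agent.RG.LocStr
import Groth.Agent.FibDim.RingLoc

set_option linter.style.haveILetI false
set_option backward.isDefEq.respectTransparency false
set_option backward.isDefEq.respectTransparency.types false

set_option autoImplicit false
universe u
open FlatMor

namespace Groth.Agent.S1457

open AlgebraicGeometry CategoryTheory Limits in
/-- Omitting the assertion on pure transcendence of a residue field and the addendum on finite
presentation of π: let f : X → S be locally of finite type, x a point with image s and n the local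
dimension of the fibre at x. Then there are affine schemes S', Y', X', an elementary étale
neighbourhood e : (S', s') → (S, s), a morphism h : Y' → S' smooth of relative dimension n with
geometrically integral fibres, a finite morphism π : X' → Y' and an elementary étale neighbourhood g
: (X', x') → (X, x) with g ≫ f = π ≫ h ≫ e, such that x' is the only point of X' over y' = π x' and
h y' = s'. -/
theorem result {X S : Scheme.{u}} (f : X ⟶ S) [LocallyOfFiniteType f] (x : X) (n : ℕ) (hn : FlatMor.fibreDimAt f x = n) :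
    ∃ (S' Y' X' : Scheme.{u}) (e : S' ⟶ S) (h : Y' ⟶ S') (π : X' ⟶ Y') (g : X' ⟶ X) (s' : S') (x' : X'),
      IsAffine S' ∧ IsAffine Y' ∧ IsAffine X' ∧ Hens2.IsEtaleNbhd e s' (f x) ∧ Hens2.IsEtaleNbhd g x' x ∧
      g ≫ f = π ≫ h ≫ e ∧ SmoothOfRelativeDimension n h ∧ GeometricallyIntegral h ∧ IsFinite π ∧ h (π x') = s' ∧
      ∀ z : X', π z = π x' → z = x' := by
  obtain ⟨U, hU, hxU, -⟩ := exists_isAffineOpen_mem_and_subset (x := f x) (U := (⊤ : S.Opens)) trivial
  obtain ⟨V, hV, hxV, hVU'⟩ := exists_isAffineOpen_mem_and_subset (x := x) (U := f ⁻¹ᵁ U) hxU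
  have hVU : V ≤ f ⁻¹ᵁ U := hVU'
  letI := (f.appLE U V hVU).hom.toAlgebra
  haveI : Algebra.FiniteType Γ(S, U) Γ(X, V) := f.finiteType_appLE hU hV hVU
  let q := hV.primeIdealOf ⟨x, hxV⟩
  have hqx : hV.fromSpec q = x := hV.fromSpec_primeIdealOf ⟨x, hxV⟩
  let F := Spec.map (CommRingCat.ofHom (algebraMap Γ(S, U) Γ(X, V)))
  have hF : F ≫ hU.fromSpec = hV.fromSpec ≫ f := IsAffineOpen.SpecMap_appLE_fromSpec f hU hV hVU
  haveI : LocallyOfFiniteType F := by
    rw [HasRingHomProperty.Spec_iff (P := @LocallyOfFiniteType)]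
    exact RingHom.finiteType_algebraMap.2 ‹_›
  have hdim : FlatMor.fibreDimAt F q = n := by
    rw [← FibDim.fibreDimAt_comp_mono F hU.fromSpec q, hF, FibDim.fibreDimAt_openImmersion_comp]
    exact (congrArg (FlatMor.fibreDimAt f) hqx).trans hn
  obtain ⟨Q, hQ⟩ := FibDim.exists_fiber_point (A := Γ(S, U)) q
  obtain ⟨S', Y', X', e, h, π, g, s', x', h1, h2, h3, he, hg, hcomm, h4, h5, h6, h7, h8, -⟩ :=
    RG.locStr (q.asIdeal.under Γ(S, U)) q.asIdeal Q hQ n ((FibDim.localDim_fiber_eq_fibreDimAt q Q hQ).trans hdim)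
  refine ⟨S', Y', X', e ≫ hU.fromSpec, h, π, g ≫ hV.fromSpec, s', x', h1, h2, h3, ?_,
    RG.GC.isEtaleNbhd_comp (RG.GC.isEtaleNbhd_openImmersion hV.fromSpec q x hqx) hg, ?_, h4, h5, h6, h7, h8⟩
  · refine RG.GC.isEtaleNbhd_comp (RG.GC.isEtaleNbhd_openImmersion hU.fromSpec (F q) (f x) ?_) he
    exact (congrArg (fun k => k q) hF).trans (congrArg f hqx)
  · rw [Category.assoc, ← hF, reassoc_of% hcomm]

end Groth.Agent.S1457
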