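import Groth.Statements.S14576
import Groth.Agent.GrpSchLib.FaithfulAffine


set_option autoImplicit false
universe u
open CategoryTheory MonoidalCategory CartesianMonoidalCategory MonObj GrpObj AlgebraicGeometry CategoryTheory.Limits
open AlgGrp

namespace Groth.Agent.S14576

/-- Let k be a field and G a k-group scheme of finite type acting on an affine k-scheme X. If the action
is faithful, in the sense that for every k-scheme T a T-valued point of G acting as the identity on
X_T is the unit, then G is affine. -/
theorem result (k : Type u) [Field k]
    (G X : Over (Spec (CommRingCat.of k))) [GrpObj G] [LocallyOfFiniteType G.hom] [QuasiCompact G.hom] [IsAffine X.left]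
    (a : AlgGrp.Action G X)
    (hf : ∀ (T : Over (Spec (CommRingCat.of k))) (g : T ⟶ G),
      (∀ (T' : Over (Spec (CommRingCat.of k))) (t : T' ⟶ T) (x : T' ⟶ X), lift (t ≫ g) x ≫ a.act = x) → g = 1) :
    IsAffine G.left := by exact GrpSchLib.FaithfulAffine.isAffine_of_faithful G X a hf

end Groth.Agent.S14576
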