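import Groth.Statements.S14579
import Groth.Agent.Blanchard.Basic
import Groth.Agent.GrpSchLib.AdjointQuot
import Groth.Agent.GrpSchLib.HomFlat
-- import your own Groth.Agent.* helpers here

set_option autoImplicit false
universe u
open CategoryTheory MonoidalCategory CartesianMonoidalCategory MonObj GrpObj AlgebraicGeometry CategoryTheory.Limits
open AlgGrp

namespace Groth.Agent.S14579

open CategoryTheory Limits AlgebraicGeometry TopologicalSpace MonoidalCategory CartesianMonoidalCategory MonObj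
open Groth.Agent

/-- The coincidence locus of two morphisms to a separated scheme. -/
lemma exists_coincidence_set {Z Y S : Scheme.{u}} (g : Y ⟶ S) [IsSeparated g] (a b : Z ⟶ Y) (h : a ≫ g = b ≫ g) :
    ∃ C : Set Z, IsClosed C ∧ (∀ z ∈ C, a z = b z) ∧
      ∀ V : Z.Opens, V.ι ≫ a = V.ι ≫ b → ∀ z ∈ V, z ∈ C := by
  let d : Z ⟶ pullback g g := pullback.lift a b h
  let δ := pullback.diagonal g
  let ε := pullback.fst d δ
  have hc : ε ≫ d = pullback.snd d δ ≫ δ := pullback.condition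
  have d1 : d ≫ pullback.fst g g = a := pullback.lift_fst _ _ _
  have d2 : d ≫ pullback.snd g g = b := pullback.lift_snd _ _ _
  have δ1 : δ ≫ pullback.fst g g = 𝟙 Y := pullback.diagonal_fst g
  have δ2 : δ ≫ pullback.snd g g = 𝟙 Y := pullback.diagonal_snd g
  have c1 : ε ≫ a = pullback.snd d δ := by
    have := hc =≫ pullback.fst g g
    rw [Category.assoc, Category.assoc, d1, δ1, Category.comp_id] at this
    exact this
  have c2 : ε ≫ b = pullback.snd d δ := by
    have := hc =≫ pullback.snd g g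
    rw [Category.assoc, Category.assoc, d2, δ2, Category.comp_id] at this
    exact this
  refine ⟨Set.range ε, ε.isClosedEmbedding.isClosed_range, ?_, fun V hV z hz => ?_⟩
  · rintro _ ⟨e, rfl⟩
    rw [← Scheme.Hom.comp_apply, ← Scheme.Hom.comp_apply, c1, c2]
  · let L : V.toScheme ⟶ pullback d δ := pullback.lift V.ι (V.ι ≫ a) (by
      apply pullback.hom_ext
      · rw [Category.assoc, Category.assoc, d1, δ1, Category.comp_id]
      · rw [Category.assoc, Category.assoc, d2, δ2, Category.comp_id, hV])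
    refine ⟨L ⟨z, hz⟩, ?_⟩
    exact congr($(pullback.lift_fst (f := d) (g := δ) V.ι (V.ι ≫ a) _) ⟨z, hz⟩)

/-- For a connected group the orbit map is constant on the fibres of a fibration. -/
lemma const_fibres (k : Type u) [Field k]
    (G X Y : Over (Spec (CommRingCat.of k))) [GrpObj G] [LocallyOfFiniteType G.hom] [QuasiCompact G.hom]
    [ConnectedSpace ↥G.left] [IsSeparated X.hom] [IsSeparated Y.hom]
    (f : X ⟶ Y) [IsProper f.left] (hf : ∀ U : Y.left.Opens, IsIso (f.left.app U))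
    (a : AlgGrp.Action G X) (p q : ↥(G ⊗ X).left)
    (hpq : (G ◁ f).left.base p = (G ◁ f).left.base q) :
    (a.act ≫ f).left.base p = (a.act ≫ f).left.base q := by
  haveI := GrpSchLib.Adjoint.geometricallyIrreducible (G := G)
  obtain ⟨h0, hcl⟩ := Blanchard.bijective_app_whiskerLeft f hf G
  let R : Over (Spec (CommRingCat.of k)) := Over.mk (pullback.fst f.left f.left ≫ X.hom)
  let r₁ : R ⟶ X := Over.homMk (pullback.fst f.left f.left) rfl
  let r₂ : R ⟶ X := Over.homMk (pullback.snd f.left f.left) (by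
    show _ = pullback.fst f.left f.left ≫ X.hom
    rw [← Over.w f]
    exact (pullback.condition_assoc _).symm)
  have hr : r₁ ≫ f = r₂ ≫ f := Over.OverMorphism.ext pullback.condition
  let a₁ : G ⊗ R ⟶ Y := (G ◁ r₁) ≫ a.act ≫ f
  let a₂ : G ⊗ R ⟶ Y := (G ◁ r₂) ≫ a.act ≫ f
  let t : G ⊗ R ⟶ G ⊗ Y := (G ◁ r₁) ≫ (G ◁ f)
  have ht : (G ◁ r₂) ≫ (G ◁ f) = t := by
    simp only [t, ← MonoidalCategory.whiskerLeft_comp, hr]
  -- the locus of coincidence
  obtain ⟨C, hclosed, hCeq, hCmem⟩ := exists_coincidence_set Y.hom a₁.left a₂.left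
    ((Over.w a₁).trans (Over.w a₂).symm)
  -- near the unit the two maps agree
  have hU : ∀ y : Y.left, ∃ U : (G ⊗ Y).left.Opens,
      ((λ_ Y).inv ≫ (η[G] ▷ Y)).left y ∈ U ∧ ∀ z : ↥(G ⊗ R).left, t.left z ∈ U → z ∈ C := by
    intro y
    let s := ((λ_ Y).inv ≫ (η[G] ▷ Y)).left y
    have hs : ∃ y' : Y.left, ∀ x : ↥(G ⊗ X).left, (G ◁ f).left x = s → (a.act ≫ f).left x = y' := by
      refine ⟨y, fun x hx => ?_⟩
      have hfst : (fst G X).left x = η[G].left ((fst (𝟙_ _) Y).left ((λ_ Y).inv.left y)) := by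
        have e1 := congrArg (fun φ : G ⊗ X ⟶ G => φ.left x) (whiskerLeft_fst G f)
        have e2 : (η[G] ▷ Y) ≫ fst G Y = fst _ Y ≫ η[G] := whiskerRight_fst _ _
        refine e1.symm.trans ?_
        show ((G ◁ f) ≫ fst G Y).left x = _
        rw [Over.comp_left, Scheme.Hom.comp_apply, hx]
        exact congr($(congrArg CommaMorphism.left e2) ((λ_ Y).inv.left y))
      obtain ⟨x₀, hx₀, -⟩ := Scheme.exists_preimage_of_isPullback
        (GrpSchLib.isPullback_whiskerRight η[G] X) x _ hfst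
      have e3 : (η[G] ▷ X) ≫ (G ◁ f) ≫ snd G Y = (λ_ X).hom ≫ f := by
        rw [whiskerLeft_snd, whiskerRight_snd_assoc, leftUnitor_hom]
      have e4 : (η[G] ▷ X) ≫ a.act ≫ f = (λ_ X).hom ≫ f := by rw [← Category.assoc, a.one_act]
      have e5 : ((λ_ Y).inv ≫ (η[G] ▷ Y)) ≫ snd G Y = 𝟙 Y := by simp
      rw [← hx₀]
      refine (congr($(congrArg CommaMorphism.left (e4.trans e3.symm)) x₀)).trans ?_
      show ((G ◁ f) ≫ snd G Y).left ((η[G] ▷ X).left x₀) = y
      rw [hx₀, Over.comp_left, Scheme.Hom.comp_apply, hx]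
      exact congr($(congrArg CommaMorphism.left e5) y)
    obtain ⟨U, V, hV, hsU, hle⟩ := H23.Rigid.exists_nhd_collapsed (G ◁ f).left hcl (a.act ≫ f).left s hs
    obtain ⟨ρ, hρ⟩ := H23.Rigid.exists_factor_of_le (G ◁ f).left h0 (a.act ≫ f).left U V hV hle
    refine ⟨U, hsU, ?_⟩
    have key : ∀ π : G ⊗ R ⟶ G ⊗ X, π ≫ (G ◁ f) = t →
        (t.left ⁻¹ᵁ U).ι ≫ π.left ≫ (a.act ≫ f).left = (t.left ∣_ U) ≫ ρ := by
      intro π hπ
      have hπ' : π.left ≫ (G ◁ f).left = t.left := congrArg CommaMorphism.left hπ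
      have hle' : t.left ⁻¹ᵁ U ≤ π.left ⁻¹ᵁ ((G ◁ f).left ⁻¹ᵁ U) := by rw [← hπ']; exact le_rfl
      have h1 : (t.left ⁻¹ᵁ U).ι ≫ π.left = π.left.resLE ((G ◁ f).left ⁻¹ᵁ U) (t.left ⁻¹ᵁ U) hle' ≫
          ((G ◁ f).left ⁻¹ᵁ U).ι :=
        (Scheme.Hom.resLE_comp_ι _ _).symm
      rw [← Category.assoc, h1, Category.assoc, ← hρ, ← Category.assoc]
      congr 1
      rw [← cancel_mono U.ι, Category.assoc, morphismRestrict_ι, morphismRestrict_ι, ← Category.assoc,
        ← h1, Category.assoc, hπ']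
    have hag : (t.left ⁻¹ᵁ U).ι ≫ a₁.left = (t.left ⁻¹ᵁ U).ι ≫ a₂.left := by
      simp only [a₁, a₂, Over.comp_left, Category.assoc] at key ⊢
      rw [key _ rfl, key _ ht]
    exact fun z hz => hCmem _ hag z hz
  -- the coincidence locus is everything, as the fibres over `R` are irreducible
  let pr := pullback.snd G.hom R.hom
  have hall : ∀ z : ↥(G ⊗ R).left, z ∈ C := by
    intro z
    let r := pr z
    have hF : IsIrreducible (pr ⁻¹' {r}) := by
      rw [← pr.range_fiberι, ← Set.image_univ]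
      exact (IrreducibleSpace.isIrreducible_univ _).image _ (pr.fiberι _).continuous.continuousOn
    let z₀ : ↥(G ⊗ R).left := ((λ_ R).inv ≫ (η[G] ▷ R)).left r
    have hz₀ : pr z₀ = r :=
      congr($(congrArg CommaMorphism.left (show ((λ_ R).inv ≫ (η[G] ▷ R)) ≫ snd G R = 𝟙 R by simp)) r)
    obtain ⟨U, hmem, hsub⟩ := hU ((r₁ ≫ f).left r)
    have ht₀ : t.left z₀ = ((λ_ Y).inv ≫ (η[G] ▷ Y)).left ((r₁ ≫ f).left r) := by
      refine congr($(congrArg CommaMorphism.left (show ((λ_ R).inv ≫ (η[G] ▷ R)) ≫ t =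
        (r₁ ≫ f) ≫ (λ_ Y).inv ≫ (η[G] ▷ Y) from ?_)) r)
      apply CartesianMonoidalCategory.hom_ext <;> simp [t]
    have hsub' : pr ⁻¹' {r} ⊆ closure (pr ⁻¹' {r} ∩ ((t.left ⁻¹ᵁ U : (G ⊗ R).left.Opens) : Set ↥(G ⊗ R).left)) :=
      subset_closure_inter_of_isPreirreducible_of_isOpen hF.isPreirreducible (t.left ⁻¹ᵁ U).isOpen
        ⟨z₀, hz₀, by show t.left z₀ ∈ U; rw [ht₀]; exact hmem⟩
    exact hclosed.closure_subset_iff.mpr (fun w hw => hsub w hw.2) (hsub' rfl)
  -- conclusion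
  obtain ⟨w, hw1, hw2⟩ := Scheme.Pullback.exists_preimage_pullback
    (f := (G ◁ f).left) (g := (G ◁ f).left) p q hpq
  let T : Over (Spec (CommRingCat.of k)) :=
    Over.mk (pullback.fst (G ◁ f).left (G ◁ f).left ≫ (G ⊗ X).hom)
  let π₁ : T ⟶ G ⊗ X := Over.homMk (pullback.fst (G ◁ f).left (G ◁ f).left) rfl
  let π₂ : T ⟶ G ⊗ X := Over.homMk (pullback.snd (G ◁ f).left (G ◁ f).left) (by
    show _ = pullback.fst (G ◁ f).left (G ◁ f).left ≫ (G ⊗ X).hom
    rw [← Over.w (G ◁ f)]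
    exact (pullback.condition_assoc _).symm)
  have hπ : π₁ ≫ (G ◁ f) = π₂ ≫ (G ◁ f) := Over.OverMorphism.ext pullback.condition
  have hx : (π₁ ≫ snd G X) ≫ f = (π₂ ≫ snd G X) ≫ f := by
    rw [Category.assoc, Category.assoc, ← whiskerLeft_snd G f, ← Category.assoc, ← Category.assoc, hπ]
  let ρ : T ⟶ R := Over.homMk
    (pullback.lift (π₁ ≫ snd G X).left (π₂ ≫ snd G X).left (congrArg CommaMorphism.left hx))
    (by
      show pullback.lift _ _ _ ≫ pullback.fst f.left f.left ≫ X.hom = T.hom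
      rw [pullback.lift_fst_assoc]
      exact Over.w (π₁ ≫ snd G X))
  have hρ₁ : ρ ≫ r₁ = π₁ ≫ snd G X := Over.OverMorphism.ext (pullback.lift_fst _ _ _)
  have hρ₂ : ρ ≫ r₂ = π₂ ≫ snd G X := Over.OverMorphism.ext (pullback.lift_snd _ _ _)
  let φ : T ⟶ G ⊗ R := lift (π₁ ≫ fst G X) ρ
  have hφ₁ : φ ≫ (G ◁ r₁) = π₁ := by
    rw [lift_whiskerLeft, hρ₁]; exact lift_comp_fst_snd _
  have hφ₂ : φ ≫ (G ◁ r₂) = π₂ := by
    rw [lift_whiskerLeft, hρ₂]
    have hg : π₁ ≫ fst G X = π₂ ≫ fst G X := by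
      rw [← whiskerLeft_fst G f, ← Category.assoc, ← Category.assoc, hπ]
    rw [hg]; exact lift_comp_fst_snd _
  have hagree : a₁.left (φ.left w) = a₂.left (φ.left w) := hCeq _ (hall _)
  have ep : (G ◁ r₁).left (φ.left w) = p := (congr($(congrArg CommaMorphism.left hφ₁) w)).trans hw1
  have eq' : (G ◁ r₂).left (φ.left w) = q := (congr($(congrArg CommaMorphism.left hφ₂) w)).trans hw2
  rw [← ep, ← eq']
  exact hagree


/-- Let k be a field, G a connected k-group scheme of finite type, X and Y separated k-schemes of finite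
type, and f : X → Y a proper k-morphism such that O_Y → f_*O_X is an isomorphism (on sections over
every open subset of Y). For every action of G on X there is a unique action of G on Y for which f
is equivariant. No hypothesis on k and no smoothness of G are assumed. -/
theorem result (k : Type u) [Field k]
    (G X Y : Over (Spec (CommRingCat.of k))) [GrpObj G] [LocallyOfFiniteType G.hom] [QuasiCompact G.hom]
    [ConnectedSpace ↥G.left] [LocallyOfFiniteType X.hom] [QuasiCompact X.hom] [IsSeparated X.hom]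
    [LocallyOfFiniteType Y.hom] [QuasiCompact Y.hom] [IsSeparated Y.hom]
    (f : X ⟶ Y) [IsProper f.left] (hf : ∀ U : Y.left.Opens, IsIso (f.left.app U))
    (a : AlgGrp.Action G X) :
    ∃! b : AlgGrp.Action G Y, (G ◁ f) ≫ b.act = a.act ≫ f := by
  obtain ⟨b, hb⟩ := Groth.Agent.Blanchard.exists_action f hf a (fun p q h => const_fibres k G X Y f hf a p q h)
  refine ⟨b, hb, fun b' hb' => ?_⟩
  have h := Groth.Agent.Blanchard.epi_whiskerLeft f hf G Y (hb'.trans hb.symm)
  cases b'; cases b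
  congr

end Groth.Agent.S14579
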