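import Groth.Statements.S1458
import Mathlib

set_option autoImplicit false
universe u
open FlatMor

namespace Groth.Agent.S1458

open TensorProduct in
/-- Let A → B be a finite ring map of finite presentation. Then there are a finitely presented A-algebra
A_u and an idempotent e_u of B ⊗_A A_u such that for every A-algebra A' and every idempotent e of B
⊗_A A' there is an A-algebra map A_u → A' whose induced map B ⊗ A_u → B ⊗ A' sends e_u to e. -/
theorem result {A B : Type u} [CommRing A] [CommRing B] [Algebra A B] [Module.Finite A B] [Algebra.FinitePresentation A B] :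
    ∃ (Au : Type u) (_ : CommRing Au) (_ : Algebra A Au) (eu : B ⊗[A] Au), Algebra.FinitePresentation A Au ∧ IsIdempotentElem eu ∧
      ∀ (A' : Type u) [CommRing A'] [Algebra A A'] (e : B ⊗[A] A'), IsIdempotentElem e →
        ∃ φ : Au →ₐ[A] A', Algebra.TensorProduct.map (AlgHom.id A B) φ eu = e := by
  open MvPolynomial in
  classical
  haveI : Module.FinitePresentation A B := Module.FinitePresentation.of_finite_of_finitePresentation A B
  obtain ⟨n, π, hπ⟩ := Module.Finite.exists_fin' A B
  obtain ⟨r, κ, hκ⟩ : ∃ (r : ℕ) (κ : (Fin r → A) →ₗ[A] (Fin n → A)), LinearMap.range κ = LinearMap.ker π := by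
    haveI : Module.Finite A (LinearMap.ker π) := Module.Finite.iff_fg.mpr (Module.FinitePresentation.fg_ker π hπ)
    obtain ⟨r, κ, hκ⟩ := Module.Finite.exists_fin' A (LinearMap.ker π)
    refine ⟨r, (LinearMap.ker π).subtype ∘ₗ κ, ?_⟩
    rw [LinearMap.range_comp, LinearMap.range_eq_top.mpr hκ, Submodule.map_top, Submodule.range_subtype]
  let b : Fin n → B := fun l => π (Pi.single l 1)
  have hπb : ∀ v : Fin n → A, π v = ∑ l, v l • b l := fun v => by
    conv_lhs => rw [pi_eq_sum_univ v]
    rw [map_sum]
    refine Finset.sum_congr rfl (fun l _ => ?_)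
    rw [map_smul]
    congr 1
    exact congrArg π (funext fun j => by simp [Pi.single_apply, eq_comm])
  choose γ hγ using fun p : Fin n × Fin n => hπ (b p.1 * b p.2)
  let c : Fin n → MvPolynomial (Fin n ⊕ Fin r) A := fun l =>
    (∑ p : Fin n × Fin n, C (γ p l) * (X (Sum.inl p.1) * X (Sum.inl p.2))) - X (Sum.inl l)
  let g : Fin n → MvPolynomial (Fin n ⊕ Fin r) A := fun l =>
    c l - ∑ m, C (κ (Pi.single m 1) l) * X (Sum.inr m)
  let I : Ideal (MvPolynomial (Fin n ⊕ Fin r) A) := Ideal.span (Set.range g)
  let T : Fin n → MvPolynomial (Fin n ⊕ Fin r) A ⧸ I := fun l => Ideal.Quotient.mk I (X (Sum.inl l))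
  have key : ∀ (R' : Type u) [CommRing R'] [Algebra A R'] (a : Fin n → R'),
      (∑ l, b l ⊗ₜ[A] a l) * (∑ l, b l ⊗ₜ[A] a l) - ∑ l, b l ⊗ₜ[A] a l =
        ∑ l, b l ⊗ₜ[A] ((∑ p : Fin n × Fin n, γ p l • (a p.1 * a p.2)) - a l) := by
    intro R' _ _ a
    simp only [TensorProduct.tmul_sub, TensorProduct.tmul_sum, Finset.sum_sub_distrib]
    congr 1
    rw [Finset.sum_mul_sum, ← Fintype.sum_prod_type', Finset.sum_comm (s := (Finset.univ : Finset (Fin n)))]
    refine Finset.sum_congr rfl (fun p _ => ?_)
    rw [Algebra.TensorProduct.tmul_mul_tmul, ← hγ p, hπb, TensorProduct.sum_tmul]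
    refine Finset.sum_congr rfl (fun l _ => ?_)
    rw [TensorProduct.smul_tmul]
  refine ⟨MvPolynomial (Fin n ⊕ Fin r) A ⧸ I, inferInstance, inferInstance, ∑ l, b l ⊗ₜ[A] T l, ?_, ?_, ?_⟩
  · exact Algebra.FinitePresentation.quotient ⟨Finset.univ.image g, by simp [I]⟩
  · rw [IsIdempotentElem, ← sub_eq_zero, key]
    have hc : ∀ l, (∑ p : Fin n × Fin n, γ p l • (T p.1 * T p.2)) - T l =
        ∑ m, κ (Pi.single m 1) l • Ideal.Quotient.mk I (X (Sum.inr m)) := by
      intro l
      have : Ideal.Quotient.mk I (g l) = 0 := Ideal.Quotient.eq_zero_iff_mem.mpr (Ideal.subset_span ⟨l, rfl⟩)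
      simp only [g, c, map_sub, map_sum, map_mul, sub_eq_zero] at this
      have hsm : ∀ (z : A) (x : MvPolynomial (Fin n ⊕ Fin r) A ⧸ I), z • x = Ideal.Quotient.mk I (C z) * x :=
        fun z x => Algebra.smul_def (A := MvPolynomial (Fin n ⊕ Fin r) A ⧸ I) z x
      simp only [hsm]
      exact this
    simp only [hc, TensorProduct.tmul_sum]
    rw [Finset.sum_comm]
    refine Finset.sum_eq_zero (fun m _ => ?_)
    have hz : π (κ (Pi.single m 1)) = 0 := by
      rw [← LinearMap.mem_ker, ← hκ]; exact LinearMap.mem_range_self κ _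
    calc ∑ l, b l ⊗ₜ[A] (κ (Pi.single m 1) l • Ideal.Quotient.mk I (X (Sum.inr m)))
        = (∑ l, κ (Pi.single m 1) l • b l) ⊗ₜ[A] Ideal.Quotient.mk I (X (Sum.inr m)) := by
          rw [TensorProduct.sum_tmul]
          exact Finset.sum_congr rfl (fun l _ => by rw [TensorProduct.smul_tmul])
      _ = 0 := by rw [← hπb, hz, TensorProduct.zero_tmul]
  · intro A' _ _ e he
    obtain ⟨w, rfl⟩ := LinearMap.rTensor_surjective A' hπ e
    let a : Fin n → A' := fun l => TensorProduct.lid A A' ((LinearMap.proj l).rTensor A' w)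
    have hw : π.rTensor A' w = ∑ l, b l ⊗ₜ[A] a l := by
      clear he
      simp only [a]
      induction w using TensorProduct.induction_on with
      | zero => simp
      | tmul v z =>
        simp only [LinearMap.rTensor_tmul, LinearMap.proj_apply, TensorProduct.lid_tmul, hπb, TensorProduct.sum_tmul]
        exact Finset.sum_congr rfl (fun l _ => by rw [TensorProduct.smul_tmul])
      | add u v hu hv =>
        simp only [map_add, hu, hv, TensorProduct.tmul_add, Finset.sum_add_distrib]
    rw [hw] at he ⊢
    have he' := key A' a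
    rw [he.eq, sub_self] at he'
    let d : Fin n → A' := fun l => (∑ p : Fin n × Fin n, γ p l • (a p.1 * a p.2)) - a l
    obtain ⟨u, hu⟩ : ∃ u, κ.rTensor A' u = ∑ l, (Pi.single l 1 : Fin n → A) ⊗ₜ[A] d l := by
      have hex : Function.Exact κ π := LinearMap.exact_iff.mpr hκ.symm
      refine (rTensor_exact A' hex hπ _).mp ?_
      rw [map_sum]
      exact he'.symm
    let s : Fin r → A' := fun m => TensorProduct.lid A A' ((LinearMap.proj m).rTensor A' u)
    have hd : ∀ l, d l = ∑ m, κ (Pi.single m 1) l • s m := by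
      intro l
      have h1 := congrArg (fun t => TensorProduct.lid A A' ((LinearMap.proj l).rTensor A' t)) hu
      simp only [map_sum, LinearMap.rTensor_tmul, LinearMap.proj_apply, TensorProduct.lid_tmul] at h1
      rw [Finset.sum_eq_single l (fun j _ hj => by simp [Pi.single_eq_of_ne (Ne.symm hj)]) (by simp),
        Pi.single_eq_same, one_smul] at h1
      rw [← h1]
      simp only [s]
      clear h1 hu
      induction u using TensorProduct.induction_on with
      | zero => simp
      | tmul v z =>
        simp only [LinearMap.rTensor_tmul, LinearMap.proj_apply, TensorProduct.lid_tmul, smul_smul, ← Finset.sum_smul]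
        congr 1
        conv_lhs => rw [pi_eq_sum_univ v, map_sum, Finset.sum_apply]
        refine Finset.sum_congr rfl (fun m _ => ?_)
        rw [map_smul, Pi.smul_apply, smul_eq_mul, mul_comm]
        have hpe : (fun j => if m = j then (1 : A) else 0) = Pi.single m 1 :=
          funext fun j => by simp [Pi.single_apply, eq_comm]
        rw [hpe]
      | add u v hu hv =>
        simp (config := {zeta := true}) only [] at hu hv
        simp only [map_add, hu, hv, smul_add, Finset.sum_add_distrib]
    let φ₀ : MvPolynomial (Fin n ⊕ Fin r) A →ₐ[A] A' := MvPolynomial.aeval (Sum.elim a s)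
    refine ⟨Ideal.Quotient.liftₐ I φ₀ ?_, ?_⟩
    · intro x hx
      refine (Ideal.span_le (I := RingHom.ker φ₀)).mpr ?_ hx
      intro z hz
      obtain ⟨l, hl⟩ := Set.mem_range.mp hz
      subst hl
      rw [SetLike.mem_coe, RingHom.mem_ker]
      simp only [g, c, φ₀, map_sub, map_sum, map_mul, MvPolynomial.aeval_C, MvPolynomial.aeval_X, Sum.elim_inl, Sum.elim_inr]
      simp only [← Algebra.smul_def]
      exact sub_eq_zero.mpr (hd l)
    · rw [map_sum]
      refine Finset.sum_congr rfl (fun l _ => ?_)
      rw [Algebra.TensorProduct.map_tmul]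
      simp only [T, φ₀, AlgHom.id_apply]
      change b l ⊗ₜ[A] (MvPolynomial.aeval (Sum.elim a s) (MvPolynomial.X (Sum.inl l) : MvPolynomial (Fin n ⊕ Fin r) A)) = _
      simp

end Groth.Agent.S1458
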