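import Groth.Statements.S14581
import Groth.Agent.GrpSchLib.ProperQuotSmallest
-- import your own Groth.Agent.* helpers here

set_option autoImplicit false
set_option backward.isDefEq.respectTransparency.types false
set_option maxHeartbeats 1000000
universe u
open CategoryTheory MonoidalCategory CartesianMonoidalCategory MonObj GrpObj AlgebraicGeometry CategoryTheory.Limits
open AlgGrp

namespace Groth.Agent.S14581

/-- Smallest normal with proper quotient: let k be a field and G a k-group scheme of finite type. Then G
has a smallest normal subgroup scheme N with proper quotient: there are a closed normal subgroup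
scheme i : N → G and a flat surjective homomorphism q : G → Q of k-group schemes of finite type with
kernel N and Q proper over k, such that for every flat surjective homomorphism q' : G → Q' onto a
proper k-group scheme of finite type the composite N → G → Q' is trivial. Moreover N is affine and
connected. No smoothness and no hypothesis on k are assumed. -/
theorem result (k : Type u) [Field k]
    (G : Over (Spec (CommRingCat.of k))) [GrpObj G] [LocallyOfFiniteType G.hom] [QuasiCompact G.hom] :
    ∃ (N : Over (Spec (CommRingCat.of k))) (_ : GrpObj N) (i : N ⟶ G), IsMonHom i ∧ IsClosedImmersion i.left ∧ AlgGrp.IsNormalHom i ∧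
      IsAffine N.left ∧ ConnectedSpace ↥N.left ∧
      (∃ (Q : Over (Spec (CommRingCat.of k))) (_ : GrpObj Q) (q : G ⟶ Q),
        IsMonHom q ∧ Surjective q.left ∧ Flat q.left ∧ AlgGrp.IsKernel i q ∧ IsProper Q.hom) ∧
      ∀ (Q' : Over (Spec (CommRingCat.of k))) [GrpObj Q'] [IsProper Q'.hom]
        (q' : G ⟶ Q') [IsMonHom q'] [Surjective q'.left] [Flat q'.left], i ≫ q' = 1 := by
  obtain ⟨N, _, i, hi, hic, hin, haff, hconn, hQ, hall⟩ := GrpSchLib.ProperQuotSmallest.exists_smallest G
  exact ⟨N, inferInstance, i, hi, hic, hin, haff, hconn, hQ, fun Q' _ _ q' _ _ _ => hall Q' q'⟩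

end Groth.Agent.S14581
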