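import Groth.Statements.S14582
import Groth.Agent.AGFLib.AntPart

set_option autoImplicit false
set_option backward.isDefEq.respectTransparency false
set_option backward.isDefEq.respectTransparency.types false
universe u
open CategoryTheory MonoidalCategory CartesianMonoidalCategory MonObj GrpObj AlgebraicGeometry CategoryTheory.Limits
open AlgGrp

namespace Groth.Agent.S14582

/-- Let k be a field and G a smooth connected k-group scheme of finite type. Let i : N → G be a closed
normal subgroup scheme which is affine and is the kernel of a flat surjective homomorphism q : G → A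
of k-group schemes of finite type with A proper, and let j : M → G be the largest anti-affine
subgroup scheme of G (a closed subgroup scheme of finite type whose only global functions are the
constants, through which every other such subgroup scheme factors). Then G = N · M, in the sense
that the multiplication morphism N × M → G is surjective, and M is the smallest closed subgroup
scheme H of G with G = H · N: whenever the multiplication H × N → G is surjective, M factors through
H. -/
theorem result (k : Type u) [Field k]
    (G : Over (Spec (CommRingCat.of k))) [GrpObj G] [Smooth G.hom] [QuasiCompact G.hom] [ConnectedSpace ↥G.left]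
    (N : Over (Spec (CommRingCat.of k))) [GrpObj N] (i : N ⟶ G) [IsMonHom i] [IsClosedImmersion i.left] [IsAffine N.left]
    (hN : AlgGrp.IsNormalHom i)
    (A : Over (Spec (CommRingCat.of k))) [GrpObj A] [IsProper A.hom]
    (q : G ⟶ A) [IsMonHom q] [Surjective q.left] [Flat q.left] (hq : AlgGrp.IsKernel i q)
    (M : Over (Spec (CommRingCat.of k))) [GrpObj M] [LocallyOfFiniteType M.hom] [QuasiCompact M.hom] (j : M ⟶ G) [IsMonHom j] [IsClosedImmersion j.left]
    (hM : Function.Bijective ((Scheme.ΓSpecIso (CommRingCat.of k)).inv ≫ M.hom.appTop).hom)
    (hMmax : ∀ (M' : Over (Spec (CommRingCat.of k))) [GrpObj M'] [LocallyOfFiniteType M'.hom] [QuasiCompact M'.hom] (j' : M' ⟶ G) [IsMonHom j'] [IsClosedImmersion j'.left],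
      Function.Bijective ((Scheme.ΓSpecIso (CommRingCat.of k)).inv ≫ M'.hom.appTop).hom → ∃ g : M' ⟶ M, g ≫ j = j') :
    Surjective ((i ⊗ₘ j) ≫ μ[G]).left ∧
      ∀ (H : Over (Spec (CommRingCat.of k))) [GrpObj H] (h : H ⟶ G) [IsMonHom h] [IsClosedImmersion h.left],
        Surjective ((h ⊗ₘ i) ≫ μ[G]).left → ∃ g : M ⟶ H, g ≫ h = j := by
  exact Groth.Agent.AGFLib.AntPart.main_mul i q hq j (Groth.Agent.AGFLib.AntPart.isAnt_of_max G j hM hMmax)

end Groth.Agent.S14582
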