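import Groth.Statements.S14583
import Groth.Agent.GrpSchLib.MonoSubgroup
import Groth.Agent.FrobIter.Basic
import Mathlib.FieldTheory.PurelyInseparable.Exponent

set_option autoImplicit false
set_option synthInstance.maxHeartbeats 400000
set_option backward.isDefEq.respectTransparency false
set_option backward.isDefEq.respectTransparency.types false
universe u
open CategoryTheory MonoidalCategory CartesianMonoidalCategory MonObj GrpObj AlgebraicGeometry CategoryTheory.Limits
open AlgGrp

namespace Groth.Agent.S14583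

section general

variable {S S' : Scheme.{u}} {σ : S' ⟶ S} {e : S ⟶ S'} {G : Over S} {F : ∀ X : Over S, X.left ⟶ X.left}

/-- The twisted Frobenius `G ⟶ G_{S'}`. -/
noncomputable def θ (hbase : ∀ X : Over S, F X ≫ X.hom = X.hom ≫ e ≫ σ) : G.left ⟶ (Red.bc σ G).left :=
  pullback.lift (F G) (G.hom ≫ e) (by rw [Category.assoc, hbase G])

variable (hbase : ∀ X : Over S, F X ≫ X.hom = X.hom ≫ e ≫ σ)

theorem θ_fst : θ (G := G) hbase ≫ pullback.fst G.hom σ = F G := pullback.lift_fst _ _ _

theorem θ_snd : θ (G := G) hbase ≫ (Red.bc σ G).hom = G.hom ≫ e := pullback.lift_snd _ _ _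

/-- The twist of a point. -/
noncomputable def til {T : Over S} (g : T ⟶ G) : Over.mk (T.hom ≫ e) ⟶ Red.bc σ G :=
  Over.homMk (g.left ≫ θ hbase) (by rw [Category.assoc, θ_snd, Over.w_assoc]; rfl)

theorem homEquiv_fst {U : Over S'} (x : (Over.map σ).obj U ⟶ G) :
    (((Over.mapPullbackAdj σ).homEquiv U G) x).left ≫ pullback.fst G.hom σ = x.left := by
  simp [Over.mapPullbackAdj]

theorem til_eq (hnat : ∀ {X Y : Over S} (f : X ⟶ Y), F X ≫ f.left = f.left ≫ F Y) {T : Over S} (g : T ⟶ G) :
    til hbase g = ((Over.mapPullbackAdj σ).homEquiv (Over.mk (T.hom ≫ e)) G)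
      ((Over.homMk (F T) (by rw [hbase]; exact (Category.assoc _ _ _).symm) :
        (Over.map σ).obj (Over.mk (T.hom ≫ e)) ⟶ T) ≫ g) := by
  apply Over.OverMorphism.ext
  refine pullback.hom_ext ?_ ?_
  · rw [homEquiv_fst]
    show (g.left ≫ θ hbase) ≫ pullback.fst G.hom σ = F T ≫ g.left
    rw [Category.assoc, θ_fst, hnat g]
  · exact (Over.w (til hbase g)).trans (Over.w (_ : Over.mk (T.hom ≫ e) ⟶ Red.bc σ G)).symm

theorem homEquiv_mul [GrpObj G] {U : Over S'} (x y : (Over.map σ).obj U ⟶ G) :
    ((Over.mapPullbackAdj σ).homEquiv U G) (x * y) =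
      ((Over.mapPullbackAdj σ).homEquiv U G) x * ((Over.mapPullbackAdj σ).homEquiv U G) y := by
  simp only [Adjunction.homEquiv_unit]
  rw [Functor.map_mul, MonObj.comp_mul]

/-- The twist of points as a homomorphism. -/
noncomputable def tilHom [GrpObj G] (hnat : ∀ {X Y : Over S} (f : X ⟶ Y), F X ≫ f.left = f.left ≫ F Y)
    (T : Over S) : (T ⟶ G) →* (Over.mk (T.hom ≫ e) ⟶ Red.bc σ G) :=
  MonoidHom.mk' (til hbase) fun x y => by
    rw [til_eq hbase hnat, til_eq hbase hnat, til_eq hbase hnat, MonObj.comp_mul, homEquiv_mul]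

include hbase in
theorem general [GrpObj G] (hnat : ∀ {X Y : Over S} (f : X ⟶ Y), F X ≫ f.left = f.left ≫ F Y)
    (hbase' : ∀ X : Over S', F ((Over.map σ).obj X) ≫ X.hom = X.hom ≫ σ ≫ e)
    (hpt : ∀ (X : Over S) (x : X.left), (F X).base x = x)
    (H' : Over S') [GrpObj H'] (h' : H' ⟶ Red.bc σ G) [IsMonHom h'] [IsClosedImmersion h'.left] :
    ∃ (H : Over S) (_ : GrpObj H) (h : H ⟶ G), IsMonHom h ∧ IsClosedImmersion h.left ∧
      ∃ g : H' ⟶ Red.bc σ H, g ≫ (Over.pullback σ).map h = h' ∧ Surjective g.left := by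
  let i := pullback.fst (θ (G := G) hbase) h'.left
  let h : Over.mk (i ≫ G.hom) ⟶ G := Over.homMk i rfl
  haveI hci : IsClosedImmersion h.left := MorphismProperty.pullback_fst _ _ inferInstance
  haveI : Mono h := (Over.forget _).mono_of_mono_map (inferInstanceAs (Mono h.left))
  -- the points lifting to `H`
  let Fac : ∀ {T : Over S}, (T ⟶ G) → Prop := fun {T} g =>
    ∃ l : Over.mk (T.hom ≫ e) ⟶ H', l ≫ h' = tilHom hbase hnat T g
  have hlift : ∀ {T : Over S} (g : T ⟶ G), Fac g → ∃ g', g' ≫ h = g := by
    intro T g ⟨l, hl⟩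
    refine ⟨Over.homMk (pullback.lift g.left l.left (congrArg CommaMorphism.left hl).symm) ?_, ?_⟩
    · show pullback.lift g.left l.left _ ≫ i ≫ G.hom = T.hom
      rw [pullback.lift_fst_assoc, Over.w g]
    · ext : 1
      exact pullback.lift_fst _ _ _
  have hfac : ∀ {T : Over S} (x : T ⟶ Over.mk (i ≫ G.hom)), Fac (x ≫ h) := by
    intro T x
    refine ⟨Over.homMk (x.left ≫ pullback.snd (θ (G := G) hbase) h'.left) ?_, ?_⟩
    · show (x.left ≫ pullback.snd (θ (G := G) hbase) h'.left) ≫ H'.hom = T.hom ≫ e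
      rw [← Over.w h', Category.assoc, ← pullback.condition_assoc, θ_snd, ← Over.w x]
      simp [i]
    · ext : 1
      show (x.left ≫ pullback.snd (θ (G := G) hbase) h'.left) ≫ h'.left = (x.left ≫ i) ≫ θ hbase
      rw [Category.assoc, Category.assoc, pullback.condition]
  obtain ⟨η', hη⟩ := hlift (1 : 𝟙_ (Over S) ⟶ G) ⟨1, by rw [map_one, MonObj.one_comp]⟩
  obtain ⟨μ', hμ⟩ := hlift ((fst _ _ ≫ h) * (snd _ _ ≫ h)) (by
    obtain ⟨l, hl⟩ := hfac (fst (Over.mk (i ≫ G.hom)) (Over.mk (i ≫ G.hom)))
    obtain ⟨m, hm⟩ := hfac (snd (Over.mk (i ≫ G.hom)) (Over.mk (i ≫ G.hom)))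
    exact ⟨l * m, by rw [map_mul, MonObj.mul_comp, hl, hm]⟩)
  obtain ⟨ι', hι⟩ := hlift h⁻¹ (by
    obtain ⟨l, hl⟩ := hfac (𝟙 (Over.mk (i ≫ G.hom)))
    rw [Category.id_comp] at hl
    exact ⟨l⁻¹, by rw [GrpObj.inv_comp, hl]; exact (map_inv _ _).symm⟩)
  obtain ⟨str, hhom⟩ := GrpSchLib.exists_grpObj_of_mono h η'
    (by rw [hη, Hom.one_def, toUnit_unique (toUnit _) (𝟙 _), Category.id_comp]) μ' hμ ι' hι
  -- the factorisation
  let a : (Over.map σ).obj H' ⟶ G := ((Over.mapPullbackAdj σ).homEquiv H' G).symm h'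
  have ha : a.left = h'.left ≫ pullback.fst G.hom σ := rfl
  have key : a.left ≫ θ hbase = F ((Over.map σ).obj H') ≫ h'.left := by
    refine pullback.hom_ext ?_ ?_
    · rw [Category.assoc, θ_fst, Category.assoc, ← ha, hnat a]
    · show (a.left ≫ θ hbase) ≫ (Red.bc σ G).hom = _ ≫ (Red.bc σ G).hom
      rw [Category.assoc, θ_snd, Category.assoc, Over.w h', hbase', Over.w_assoc a]
      exact Category.assoc _ _ _
  let b : (Over.map σ).obj H' ⟶ Over.mk (i ≫ G.hom) :=
    Over.homMk (pullback.lift a.left (F ((Over.map σ).obj H')) key)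
      (by show pullback.lift a.left _ key ≫ i ≫ G.hom = _; rw [pullback.lift_fst_assoc, Over.w a])
  have hb : b ≫ h = a := by
    ext : 1
    exact pullback.lift_fst _ _ _
  refine ⟨_, str, h, hhom, hci, ((Over.mapPullbackAdj σ).homEquiv H' _) b, ?_, ?_⟩
  · rw [← Adjunction.homEquiv_naturality_right, hb]
    exact Equiv.apply_symm_apply _ _
  · generalize hg : ((Over.mapPullbackAdj σ).homEquiv H' _) b = g
    have hgh : g ≫ (Over.pullback σ).map h = h' := by
      rw [← hg, ← Adjunction.homEquiv_naturality_right, hb]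
      exact Equiv.apply_symm_apply _ _
    let m := ((Over.pullback σ).map h).left
    haveI : IsClosedImmersion m := MorphismProperty.overPullbackMap _ _ hci
    refine ⟨fun y => ?_⟩
    -- `fst ≫ θ` is the Frobenius of `G_{S'}`
    have hF : pullback.fst G.hom σ ≫ θ hbase = F ((Over.map σ).obj (Red.bc σ G)) := by
      refine pullback.hom_ext ?_ ?_
      · rw [Category.assoc, θ_fst]
        exact (hnat ((Over.mapPullbackAdj σ).counit.app G)).symm
      · show (pullback.fst G.hom σ ≫ θ hbase) ≫ (Red.bc σ G).hom = _ ≫ (Red.bc σ G).hom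
        rw [Category.assoc, θ_snd, hbase', ← Category.assoc, pullback.condition, Category.assoc]
        rfl
    have h1 : m ≫ pullback.fst G.hom σ = pullback.fst (i ≫ G.hom) σ ≫ i := pullback.lift_fst _ _ _
    have h2 : m.base y =
        h'.left.base ((pullback.snd (θ (G := G) hbase) h'.left).base ((pullback.fst (i ≫ G.hom) σ).base y)) := by
      refine (hpt ((Over.map σ).obj (Red.bc σ G)) (m.base y)).symm.trans ?_
      rw [← hF]
      show ((m ≫ pullback.fst G.hom σ ≫ θ hbase).base : _ → _) y = ((pullback.fst (i ≫ G.hom) σ ≫ pullback.snd (θ (G := G) hbase) h'.left ≫ h'.left).base : _ → _) y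
      congr 3
      rw [reassoc_of% h1, pullback.condition]
    refine ⟨(pullback.snd (θ (G := G) hbase) h'.left).base ((pullback.fst (i ≫ G.hom) σ).base y),
      m.isEmbedding.injective ?_⟩
    rw [h2, ← Scheme.Hom.comp_apply]
    show (g ≫ (Over.pullback σ).map h).left.base _ = _
    rw [hgh]

end general

/-- Let k ⊆ K be a finite purely inseparable field extension, G a k-group scheme of finite type and h' :
H' → G_K a closed subgroup scheme of the base change of G to K. Then there is a closed subgroup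
scheme h : H → G over k such that H' factors through the base change H_K → G_K by a morphism H' →
H_K which is surjective. (The published statement concludes that H' ⊆ H_K with H_K/H' finite; the
subgroup H produced by its proof, a Frobenius pull-back, has H_K with the same underlying space as
H', which is the form stated here.) -/
theorem result (k K : Type u) [Field k] [Field K] [Algebra k K]
    [Module.Finite k K] [IsPurelyInseparable k K]
    (G : Over (Spec (CommRingCat.of k))) [GrpObj G] [LocallyOfFiniteType G.hom] [QuasiCompact G.hom]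
    (H' : Over (Spec (CommRingCat.of K))) [GrpObj H']
    (h' : H' ⟶ Red.bc (Spec.map (CommRingCat.ofHom (algebraMap k K))) G) [IsMonHom h'] [IsClosedImmersion h'.left] :
    ∃ (H : Over (Spec (CommRingCat.of k))) (_ : GrpObj H) (h : H ⟶ G), IsMonHom h ∧ IsClosedImmersion h.left ∧
      ∃ g : H' ⟶ Red.bc (Spec.map (CommRingCat.ofHom (algebraMap k K))) H, g ≫ (Over.pullback (Spec.map (CommRingCat.ofHom (algebraMap k K)))).map h = h' ∧ Surjective g.left := by
  by_cases hc : CharZero k
  · obtain ⟨φ, hφ⟩ : ∃ φ : K →+* k, ∀ x, algebraMap k K (φ x) = x := by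
      let E := RingEquiv.ofBijective (algebraMap k K)
        ⟨(algebraMap k K).injective, IsPurelyInseparable.surjective_algebraMap_of_isSeparable k K⟩
      exact ⟨E.symm.toRingHom, E.apply_symm_apply⟩
    have h1 : Spec.map (CommRingCat.ofHom φ) ≫ Spec.map (CommRingCat.ofHom (algebraMap k K)) = 𝟙 _ := by
      rw [← Spec.map_comp, ← Spec.map_id]
      congr 1
      ext x
      exact (algebraMap k K).injective (hφ _)
    have h2 : Spec.map (CommRingCat.ofHom (algebraMap k K)) ≫ Spec.map (CommRingCat.ofHom φ) = 𝟙 _ := by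
      rw [← Spec.map_comp, ← Spec.map_id]
      congr 1
      ext x
      exact hφ x
    exact general (F := fun X => 𝟙 X.left) (e := Spec.map (CommRingCat.ofHom φ))
      (fun X => by rw [h1, Category.id_comp, Category.comp_id])
      (fun f => by rw [Category.id_comp, Category.comp_id])
      (fun X => by rw [h2, Category.comp_id]; exact Category.id_comp _) (fun X x => rfl) H' h'
  · obtain ⟨p, hp⟩ := ExpChar.exists k
    have hp' : p.Prime ∧ CharP k p := by
      cases hp with
      | zero => exact (hc inferInstance).elim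
      | prime h => exact ⟨h, inferInstance⟩
    haveI := hp'.2
    haveI : Fact p.Prime := ⟨hp'.1⟩
    haveI : ExpChar k p := ExpChar.prime hp'.1
    haveI : CharP K p := charP_of_injective_algebraMap (algebraMap k K).injective p
    haveI : ExpChar K p := ExpChar.prime hp'.1
    let n := IsPurelyInseparable.exponent k K
    let φ := IsPurelyInseparable.iterateFrobenius k K p (le_refl n)
    haveI : ∀ X : Over (Spec (CommRingCat.of k)), FrobSch.IsCharP X.left p := fun X => .of_hom X.hom p
    refine general (F := fun X => FrobIter.iter p X.left n) (e := Spec.map (CommRingCat.ofHom φ))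
      (fun X => ?_) (fun f => FrobIter.iter_comp f.left n) (fun X => ?_)
      (fun X x => FrobIter.iter_apply n x) H' h'
    · rw [FrobIter.iter_comp, FrobIter.iter_Spec, ← Spec.map_comp]
      congr 2
      ext x
      exact ((IsPurelyInseparable.iterateFrobenius_algebraMap K p (le_refl n) x).trans
        (iterateFrobenius_def p n x).symm).symm
    · haveI : FrobSch.IsCharP X.left p := .of_hom X.hom p
      show FrobIter.iter p X.left n ≫ X.hom = _
      rw [FrobIter.iter_comp, FrobIter.iter_Spec, ← Spec.map_comp]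
      congr 2
      ext x
      exact ((IsPurelyInseparable.algebraMap_iterateFrobenius k p (le_refl n) x).trans
        (iterateFrobenius_def p n x).symm).symm

end Groth.Agent.S14583
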