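import Groth.Statements.S14587
import Groth.Agent.GrpSchLib.PerfectSmooth
import Groth.Agent.GrpSchLib.AntiAffineHom
import Groth.Agent.H23.EqvUnr
import Mathlib.RingTheory.Smooth.Basic
import Groth.Agent.GrpSchLib.HomFlat
import Groth.Agent.UnramMisc.QFSmooth
import Mathlib.Topology.Separation.Connected
import Mathlib.AlgebraicGeometry.Morphisms.FormallyUnramified
-- import your own Groth.Agent.* helpers here

set_option autoImplicit false
universe u
open CategoryTheory MonoidalCategory CartesianMonoidalCategory MonObj GrpObj AlgebraicGeometry CategoryTheory.Limits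
open AlgGrp

namespace Groth.Agent.S14587

variable {k : Type u} [Field k]

/-- The kernel of global functions along a surjective morphism of affine noetherian schemes is nilpotent. -/
theorem isNilpotent_ker_appTop {Z T : Scheme.{u}} [IsAffine T] [IsAffine Z] [IsNoetherianRing Γ(T, ⊤)] (j : Z ⟶ T)
    [Surjective j] : IsNilpotent (RingHom.ker j.appTop.hom) := by
  refine (Ideal.FG.isNilpotent_iff_le_nilradical (IsNoetherian.noetherian _)).mpr ?_
  rw [nilradical_eq_sInf]
  intro a ha
  rw [Submodule.mem_sInf]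
  intro P' hP'
  let P : PrimeSpectrum Γ(T, ⊤) := ⟨P', hP'⟩
  show a ∈ P.asIdeal
  haveI : Surjective (Spec.map j.appTop) := by
    have e : Spec.map j.appTop = Z.isoSpec.inv ≫ j ≫ T.isoSpec.hom := by
      rw [← Scheme.isoSpec_inv_naturality_assoc, Iso.inv_hom_id, Category.comp_id]
    rw [e]
    infer_instance
  obtain ⟨Q, hQ⟩ := (Spec.map j.appTop).surjective P
  rw [← hQ]
  show a ∈ (PrimeSpectrum.comap j.appTop.hom Q).asIdeal
  show j.appTop.hom a ∈ (Q : PrimeSpectrum Γ(Z, ⊤)).asIdeal
  rw [(RingHom.mem_ker).mp ha]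
  exact Ideal.zero_mem _

theorem isNoetherianRing_of_isFinite {T : Over (Spec (CommRingCat.of k))} [IsFinite T.hom] [IsAffine T.left] :
    IsNoetherianRing Γ(T.left, ⊤) := by
  haveI : IsLocallyNoetherian T.left := LocallyOfFiniteType.isLocallyNoetherian T.hom
  exact IsLocallyNoetherian.component_noetherian ⟨⊤, isAffineOpen_top T.left⟩

/-- Morphisms to a formally unramified scheme are determined on a closed subscheme with the same points. -/
theorem hom_ext_of_nilimm {Z T X : Over (Spec (CommRingCat.of k))} [IsFinite Z.hom] [IsFinite T.hom]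
    [FormallyUnramified X.hom] (j : Z ⟶ T) [IsClosedImmersion j.left] [Surjective j.left]
    {g₁ g₂ : T ⟶ X} (h : j ≫ g₁ = j ≫ g₂) : g₁ = g₂ := by
  haveI : IsAffine T.left := isAffine_of_isAffineHom T.hom
  haveI : IsAffine Z.left := isAffine_of_isAffineHom Z.hom
  haveI := isNoetherianRing_of_isFinite (T := T)
  have hker : IsNilpotent j.left.ker := by
    obtain ⟨n, hn⟩ := isNilpotent_ker_appTop j.left
    refine ⟨n, Scheme.IdealSheafData.ext_of_isAffine ?_⟩
    rw [Scheme.IdealSheafData.ideal_pow, Pi.pow_apply, Scheme.Hom.ker_apply]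
    exact hn
  exact Over.OverMorphism.ext (FormallyUnramified.hom_ext j.left hker X.hom
    (congrArg CommaMorphism.left h) ((Over.w g₁).trans (Over.w g₂).symm))

/-- An etale finite closed subscheme with the same points is a retract. -/
theorem exists_retraction {Z T : Over (Spec (CommRingCat.of k))} [IsFinite Z.hom] [IsFinite T.hom]
    [Smooth Z.hom] (j : Z ⟶ T) [IsClosedImmersion j.left] [Surjective j.left] :
    ∃ ρ : T ⟶ Z, j ≫ ρ = 𝟙 Z := by
  haveI : IsAffine T.left := isAffine_of_isAffineHom T.hom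
  haveI : IsAffine Z.left := isAffine_of_isAffineHom Z.hom
  haveI := isNoetherianRing_of_isFinite (T := T)
  let γ : CommRingCat.of k ⟶ Γ(Z.left, ⊤) := (Scheme.ΓSpecIso (CommRingCat.of k)).inv ≫ Z.hom.appTop
  let δ : CommRingCat.of k ⟶ Γ(T.left, ⊤) := (Scheme.ΓSpecIso (CommRingCat.of k)).inv ≫ T.hom.appTop
  have hδγ : δ ≫ j.left.appTop = γ := by
    simp only [γ, δ, Category.assoc, ← Scheme.Hom.comp_appTop, Over.w j]
  letI : Algebra k Γ(Z.left, ⊤) := γ.hom.toAlgebra
  letI : Algebra k Γ(T.left, ⊤) := δ.hom.toAlgebra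
  haveI : Algebra.FormallySmooth k Γ(Z.left, ⊤) := by
    have h := HasRingHomProperty.appTop (P := @Smooth) Z.hom inferInstance
    have h2 : γ.hom.Smooth := RingHom.Smooth.respectsIso.right _
      (Scheme.ΓSpecIso (CommRingCat.of k)).symm.commRingCatIsoToRingEquiv h
    exact h2.formallySmooth
  let g : Γ(T.left, ⊤) →ₐ[k] Γ(Z.left, ⊤) :=
    { j.left.appTop.hom with commutes' := fun c => ConcreteCategory.congr_hom hδγ c }
  have hg : Function.Surjective g := IsClosedImmersion.isAffine_surjective_of_isAffine j.left |>.2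
  have hnil : IsNilpotent (RingHom.ker (g : Γ(T.left, ⊤) →+* Γ(Z.left, ⊤))) := isNilpotent_ker_appTop j.left
  let l := Algebra.FormallySmooth.liftOfSurjective (AlgHom.id k Γ(Z.left, ⊤)) g hg hnil
  have hl : g.comp l = AlgHom.id k _ := Algebra.FormallySmooth.comp_liftOfSurjective _ _ hg hnil
  let m : T.left ⟶ Z.left := T.left.isoSpec.hom ≫ Spec.map (CommRingCat.ofHom l.toRingHom) ≫ Z.left.isoSpec.inv
  have hm : m.appTop = CommRingCat.ofHom l.toRingHom := by
    apply Spec.map_injective
    rw [← cancel_epi T.left.isoSpec.hom, Scheme.isoSpec_hom_naturality]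
    simp [m]
  refine ⟨Over.homMk m ?_, Over.OverMorphism.ext (ext_of_isAffine ?_)⟩
  · refine ext_of_isAffine ?_
    rw [Scheme.Hom.comp_appTop, hm]
    ext c
    obtain ⟨d, rfl⟩ := (ConcreteCategory.bijective_of_isIso (Scheme.ΓSpecIso (CommRingCat.of k)).inv).2 c
    exact l.commutes d
  · rw [Over.comp_left, Scheme.Hom.comp_appTop, show (Over.homMk m _ : T ⟶ Z).left.appTop = m.appTop from rfl, hm]
    ext x
    exact AlgHom.congr_fun hl x

/-- Let k be a perfect field and G a finite k-group scheme, r : G_red → G its reduced subgroup scheme (a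
homomorphism and closed immersion from a reduced k-group scheme, surjective on underlying spaces)
and i₀ : G⁰ → G its neutral component (a homomorphism and open immersion from a connected k-group
scheme). Then the multiplication morphism G_red × G⁰ → G is an isomorphism, exhibiting G as the
semi-direct product of G⁰ by G_red. -/
theorem result (k : Type u) [Field k] [PerfectField k]
    (G Gr G₀ : Over (Spec (CommRingCat.of k))) [GrpObj G] [GrpObj Gr] [GrpObj G₀] [IsFinite G.hom]
    (r : Gr ⟶ G) [IsMonHom r] [IsClosedImmersion r.left] [IsReduced Gr.left] [Surjective r.left]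
    (i₀ : G₀ ⟶ G) [IsMonHom i₀] [IsOpenImmersion i₀.left] [ConnectedSpace ↥G₀.left] :
    IsIso ((r ⊗ₘ i₀) ≫ μ[G]) := by
  haveI : IsFinite Gr.hom := by rw [← Over.w r]; infer_instance
  haveI := Groth.Agent.GrpSchLib.smooth_of_perfectField_of_isReduced Gr
  haveI : LocallyQuasiFinite Gr.hom := inferInstance
  haveI : Etale Gr.hom := Groth.Agent.UnramMisc.etale_of_smooth_of_locallyQuasiFinite Gr.hom
  haveI : FormallyUnramified Gr.hom := inferInstance
  haveI : DiscreteTopology ↥G.left := by
    rw [← isDiscrete_univ_iff]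
    have h := (locallyQuasiFinite_iff_isDiscrete_preimage_singleton (f := G.hom)).mp inferInstance
      (IsLocalRing.closedPoint k)
    convert h
    ext x
    simp only [Set.mem_univ, Set.mem_preimage, Set.mem_singleton_iff, true_iff, iff_true]
    exact @Subsingleton.elim ↥(Spec (CommRingCat.of k)) inferInstance (G.hom x) (IsLocalRing.closedPoint k)
  haveI : IsClosedImmersion i₀.left := by
    haveI : IsPreimmersion i₀.left := inferInstance
    exact IsClosedImmersion.of_isPreimmersion i₀.left (isClosed_discrete _)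
  haveI : IsFinite G₀.hom := by rw [← Over.w i₀]; infer_instance
  haveI : DiscreteTopology ↥G₀.left := i₀.left.isEmbedding.discreteTopology
  haveI : Subsingleton ↥G₀.left := PreconnectedSpace.trivial_of_discrete
  obtain ⟨ρ, hρ⟩ := exists_retraction r
  -- the retraction is a homomorphism
  haveI : IsMonHom ρ := by
    haveI h1 : IsClosedImmersion (r ▷ Gr).left := Groth.Agent.GrpSchLib.property_whiskerRight r Gr @IsClosedImmersion ‹_›
    haveI h2 : IsClosedImmersion (G ◁ r).left := MorphismProperty.of_isPullback (P := @IsClosedImmersion) (Groth.Agent.H23.EqvUnr.isPullback_whiskerLeft G r).flip ‹_›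
    haveI h3 : Surjective (r ▷ Gr).left := Groth.Agent.GrpSchLib.property_whiskerRight r Gr @Surjective ‹_›
    haveI h4 : Surjective (G ◁ r).left := MorphismProperty.of_isPullback (P := @Surjective) (Groth.Agent.H23.EqvUnr.isPullback_whiskerLeft G r).flip ‹_›
    haveI : IsClosedImmersion (r ⊗ₘ r).left := by rw [tensorHom_def, Over.comp_left]; infer_instance
    haveI : Surjective (r ⊗ₘ r).left := by rw [tensorHom_def, Over.comp_left]; infer_instance
    haveI : IsFinite (Gr ⊗ Gr).hom := by
      rw [← Over.w (fst Gr Gr)]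
      haveI : IsFinite (fst Gr Gr).left := inferInstanceAs (IsFinite (pullback.fst Gr.hom Gr.hom))
      infer_instance
    haveI : IsFinite (G ⊗ G).hom := by
      rw [← Over.w (fst G G)]
      haveI : IsFinite (fst G G).left := inferInstanceAs (IsFinite (pullback.fst G.hom G.hom))
      infer_instance
    refine ⟨?_, hom_ext_of_nilimm (r ⊗ₘ r) ?_⟩
    · rw [← IsMonHom.one_hom r, Category.assoc, hρ, Category.comp_id]
    · rw [← Category.assoc, ← IsMonHom.mul_hom r, Category.assoc, hρ, Category.comp_id,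
        MonoidalCategory.tensorHom_comp_tensorHom_assoc, hρ, MonoidalCategory.id_tensorHom_id, Category.id_comp]
  haveI : Surjective η[G₀].left := ⟨fun x => ⟨IsLocalRing.closedPoint k, Subsingleton.elim _ _⟩⟩
  haveI : IsClosedImmersion η[G₀].left := by
    haveI := Groth.Agent.GrpSchLib.AntiAffine.isSeparated_grp G₀
    haveI : IsClosedImmersion (η[G₀].left ≫ G₀.hom) := by rw [Over.w]; exact inferInstanceAs (IsClosedImmersion (𝟙 _))
    exact IsClosedImmersion.of_comp η[G₀].left G₀.hom
  haveI : IsFinite (𝟙_ (Over (Spec (CommRingCat.of k)))).hom := inferInstanceAs (IsFinite (𝟙 _))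
  have hi₀ : i₀ ≫ ρ = 1 := hom_ext_of_nilimm η[G₀] (by
    rw [← Category.assoc, IsMonHom.one_hom i₀, IsMonHom.one_hom ρ, MonObj.comp_one, MonObj.one_eq_one])
  let d : G ⟶ G := (ρ ≫ r)⁻¹ * 𝟙 G
  have hd : d ≫ ρ = 1 := by
    simp [d, MonObj.mul_comp, GrpObj.inv_comp, hρ]
  have hrange : Set.range d.left ⊆ Set.range i₀.left := by
    rintro _ ⟨x, rfl⟩
    refine ⟨η[G₀].left (IsLocalRing.closedPoint k), ?_⟩
    obtain ⟨a, ha⟩ := r.left.surjective (d.left x)
    have hz : a = η[Gr].left (IsLocalRing.closedPoint k) := by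
      have h1 : ρ.left (r.left a) = a := by
        rw [← Scheme.Hom.comp_apply, ← Over.comp_left, hρ]; rfl
      rw [← h1, ha, ← Scheme.Hom.comp_apply, ← Over.comp_left, hd, Hom.one_def, Over.comp_left,
        Scheme.Hom.comp_apply]
      exact congrArg η[Gr].left (@Subsingleton.elim ↥(Spec (CommRingCat.of k)) inferInstance _ _)
    refine ((congrArg r.left hz).symm.trans ha).symm.trans ?_ |>.symm
    change (η[Gr] ≫ r).left _ = (η[G₀] ≫ i₀).left _
    rw [IsMonHom.one_hom r, IsMonHom.one_hom i₀]
  let d₀ : G ⟶ G₀ := Over.homMk (IsOpenImmersion.lift i₀.left d.left hrange) (by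
    rw [← Over.w i₀, IsOpenImmersion.lift_fac_assoc, Over.w])
  have hd₀ : d₀ ≫ i₀ = d := Over.OverMorphism.ext (IsOpenImmersion.lift_fac _ _ _)
  haveI : Mono i₀ := (Over.forget _).mono_of_mono_map (inferInstanceAs (Mono i₀.left))
  refine ⟨lift ρ d₀, ?_, ?_⟩
  · have e : ((r ⊗ₘ i₀) ≫ μ[G]) = (fst Gr G₀ ≫ r) * (snd Gr G₀ ≫ i₀) := by
      rw [Hom.mul_def, CartesianMonoidalCategory.lift_fst_comp_snd_comp]
    rw [e]
    set M := (fst Gr G₀ ≫ r) * (snd Gr G₀ ≫ i₀) with hM
    have hMρ : M ≫ ρ = fst Gr G₀ := by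
      simp [hM, MonObj.mul_comp, hρ, hi₀]
    ext : 1
    · rw [Category.assoc, lift_fst, hMρ, Category.id_comp]
    · rw [Category.assoc, lift_snd, ← cancel_mono i₀, Category.assoc, hd₀, Category.id_comp]
      rw [show M ≫ d = (M ≫ ρ ≫ r)⁻¹ * M from by simp [d, MonObj.comp_mul, GrpObj.comp_inv], ← Category.assoc, hMρ, hM,
        inv_mul_cancel_left]
  · have e : lift ρ d₀ ≫ (r ⊗ₘ i₀) ≫ μ[G] = (ρ ≫ r) * (d₀ ≫ i₀) := by
      rw [← Category.assoc, lift_map, ← Hom.mul_def]
    rw [e, hd₀]
    exact mul_inv_cancel_left _ _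

end Groth.Agent.S14587
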