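import Groth.Statements.S1459
import Groth.Agent.Triage.SliceFlatSch

set_option autoImplicit false
universe u
open FlatMor

set_option backward.isDefEq.respectTransparency false
set_option backward.isDefEq.respectTransparency.types false

namespace Groth.Agent.S1459

open AlgebraicGeometry CategoryTheory Limits in
/-- Let f : X → S be locally of finite presentation and flat at x with image s, and let h_1, …, h_r be
elements of O_{X,x} whose images in O_{X,x} / m_s O_{X,x} form a regular sequence. Then there are an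
affine open U ∋ x and sections on U with these germs such that the closed subscheme Z of U they cut
out is a regular closed immersion whose image contains x, Z → S is flat and locally of finite
presentation, and the base change of Z → U along any S' → S is again a regular closed immersion. -/
theorem result {X S : Scheme.{u}} (f : X ⟶ S) [LocallyOfFinitePresentation f] (x : X)
    (hflat : (f.stalkMap x).hom.Flat) (hs : List ↑(X.presheaf.stalk x))
    (hreg : RingTheory.Sequence.IsRegular (↑(X.presheaf.stalk x) ⧸ Ideal.map (f.stalkMap x).hom (IsLocalRing.maximalIdeal ↑(S.presheaf.stalk (f x))))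
      (hs.map (Ideal.Quotient.mk (Ideal.map (f.stalkMap x).hom (IsLocalRing.maximalIdeal ↑(S.presheaf.stalk (f x))))))) :
    ∃ (U : X.Opens) (hU : IsAffineOpen U) (hx : x ∈ U) (hs' : List Γ(X, U)), hs'.map (X.presheaf.germ U x hx) = hs ∧
      Mor2.IsRegularClosedImmersion (Spec.map (CommRingCat.ofHom (Ideal.Quotient.mk (Ideal.ofList hs'))) ≫ hU.isoSpec.inv) ∧
      x ∈ Set.range ⇑(Spec.map (CommRingCat.ofHom (Ideal.Quotient.mk (Ideal.ofList hs'))) ≫ hU.fromSpec) ∧
      Flat (Spec.map (CommRingCat.ofHom (Ideal.Quotient.mk (Ideal.ofList hs'))) ≫ hU.fromSpec ≫ f) ∧ LocallyOfFinitePresentation (Spec.map (CommRingCat.ofHom (Ideal.Quotient.mk (Ideal.ofList hs'))) ≫ hU.fromSpec ≫ f) ∧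
      ∀ (S' : Scheme.{u}) (g : S' ⟶ S), Mor2.IsRegularClosedImmersion
        (pullback.map (Spec.map (CommRingCat.ofHom (Ideal.Quotient.mk (Ideal.ofList hs'))) ≫ hU.isoSpec.inv ≫ U.ι ≫ f) g (U.ι ≫ f) g (Spec.map (CommRingCat.ofHom (Ideal.Quotient.mk (Ideal.ofList hs'))) ≫ hU.isoSpec.inv) (𝟙 S') (𝟙 S)
          (Category.comp_id _) ((Category.comp_id g).trans (Category.id_comp g).symm)) := by
  let J := Ideal.map (f.stalkMap x).hom (IsLocalRing.maximalIdeal ↑(S.presheaf.stalk (f x)))
  let m := Ideal.Quotient.mk J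
  have hm : ∀ h ∈ hs, h ∈ IsLocalRing.maximalIdeal (X.presheaf.stalk x) := by
    intro h hh hu
    refine hreg.top_ne_smul ?_
    rw [Ideal.smul_eq_mul, Ideal.mul_top]
    have hmem : m h ∈ Ideal.ofList (hs.map m) :=
      Ideal.subset_span (s := {r | r ∈ hs.map m}) (List.mem_map.2 ⟨h, hh, rfl⟩)
    exact (Ideal.eq_top_of_isUnit_mem _ hmem (hu.map m)).symm
  obtain ⟨V, hV, U, hU, hx, -, e, hs', hgerm, hfp, hwr, hfl⟩ :=
    Triage.SliceFlat.exists_slice_sch f x hflat hs hm (fun i hi z hz => by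
      have h0 := hreg.toIsWeaklyRegular.regular_mod_prev i (by simpa using hi)
      have hI : ∀ w, Submodule.Quotient.mk (p := (Ideal.ofList ((hs.map m).take i) • ⊤ : Submodule (↑(X.presheaf.stalk x) ⧸ J) (↑(X.presheaf.stalk x) ⧸ J))) (m w) = 0 ↔
          w ∈ Ideal.ofList (hs.take i) ⊔ J := by
        intro w
        rw [Submodule.Quotient.mk_eq_zero, Ideal.smul_eq_mul, Ideal.mul_top, ← List.map_take,
          ← Ideal.map_ofList, ← Ideal.mem_comap, Ideal.comap_map_of_surjective _ Ideal.Quotient.mk_surjective,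
          ← RingHom.ker_eq_comap_bot, Ideal.mk_ker]
      rw [← hI]
      refine h0.right_eq_zero_of_smul ?_
      rw [← Submodule.Quotient.mk_smul]
      simp only [List.getElem_map, smul_eq_mul, ← map_mul]
      exact (hI _).2 hz) ⊤ trivial
  subst hgerm
  have hrci := Triage.SliceFlat.isRegularClosedImmersion_spec hU.isoSpec.symm hs' hwr
  obtain ⟨hflS, hfpS⟩ := Triage.SliceFlat.flat_and_lfp_spec f hV hU e hs' hfp
    (by have h := hfl hs'.length; rw [List.take_length] at h; exact h)
  refine ⟨U, hU, hx, hs', rfl, hrci, ?_, hflS, hfpS, fun S' g => ?_⟩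
  · exact Triage.SliceFlat.mem_range_of_germ_mem hU x hx hs' fun a ha => hm _ (List.mem_map.2 ⟨a, ha, rfl⟩)
  haveI : IsAffine (U : Scheme.{u}) := hU
  haveI : IsClosedImmersion (Spec.map (CommRingCat.ofHom (Ideal.Quotient.mk (Ideal.ofList hs')))) :=
    IsClosedImmersion.spec_of_surjective _ Ideal.Quotient.mk_surjective
  have he : ⊤ ≤ (U.ι ≫ f) ⁻¹ᵁ V := fun z _ => e z.2
  have hφ : (Scheme.ΓSpecIso Γ(X, U)).inv ≫ hU.isoSpec.symm.inv.appTop = U.topIso.inv := by
    rw [show hU.isoSpec.symm.inv = hU.isoSpec.hom from rfl, hU.isoSpec_hom_appTop, Iso.inv_hom_id_assoc]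
  have happ : (U.ι ≫ f).appLE V ⊤ he = f.appLE V U e ≫ U.topIso.inv := by
    have h1 : (U.ι ≫ f).appLE V ⊤ he = f.appLE V U e ≫ U.ι.appLE U ⊤ (fun z _ => z.2) :=
      (Scheme.Hom.appLE_comp_appLE U.ι f V U ⊤ e (fun z _ => z.2)).symm
    rw [h1, Scheme.Opens.ι_appLE]
    congr 1
  refine Triage.SliceFlat.isRegularClosedImmersion_baseChange _ (U.ι ≫ f) _ g _ _ hV he
    (hs'.map U.topIso.inv) ?_ ?_ ?_
  · have hk := Triage.SliceFlat.ker_spec hU.isoSpec.symm hs'
    rw [hφ] at hk
    exact hk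
  · letI : Algebra Γ(X, U) Γ((U : Scheme.{u}), ⊤) := U.topIso.inv.hom.toAlgebra
    let eA : Γ(X, U) ≃ₐ[Γ(X, U)] Γ((U : Scheme.{u}), ⊤) :=
      AlgEquiv.ofRingEquiv (f := U.topIso.symm.commRingCatIsoToRingEquiv) (fun _ => rfl)
    exact (RingTheory.Sequence.isWeaklyRegular_map_algebraMap_iff Γ((U : Scheme.{u}), ⊤) Γ((U : Scheme.{u}), ⊤) hs').2
      ((eA.toLinearEquiv.isWeaklyRegular_congr hs').1 hwr)
  · intro j
    let q := Ideal.quotientEquiv (Ideal.ofList (hs'.take j)) (Ideal.ofList ((hs'.map U.topIso.inv).take j))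
      U.topIso.symm.commRingCatIsoToRingEquiv (by rw [← List.map_take, ← Ideal.map_ofList]; rfl)
    have h1 : ((Ideal.Quotient.mk (Ideal.ofList ((hs'.map U.topIso.inv).take j))).comp
        ((U.ι ≫ f).appLE V ⊤ he).hom) =
        (q : _ →+* _).comp ((Ideal.Quotient.mk (Ideal.ofList (hs'.take j))).comp (f.appLE V U e).hom) := by
      rw [happ]
      rfl
    rw [h1]
    exact (hfl j).comp (RingHom.Flat.of_bijective q.bijective)

end Groth.Agent.S1459
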