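import Groth.Statements.S14593
import Groth.Agent.GrpSchLib.ProperQuotSmallest
-- import your own Groth.Agent.* helpers here

set_option autoImplicit false
set_option backward.isDefEq.respectTransparency.types false
set_option maxHeartbeats 1000000
universe u
open CategoryTheory MonoidalCategory CartesianMonoidalCategory MonObj GrpObj AlgebraicGeometry CategoryTheory.Limits
open AlgGrp

namespace Groth.Agent.S14593

/-- Let k be a field, G a smooth k-group scheme of finite type, i₀ : G⁰ → G its neutral component (a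
connected open subgroup scheme) and α : G⁰ → A the Albanese homomorphism of G⁰: a flat surjective
homomorphism onto an abelian variety A (proper, smooth, connected) through which every morphism from
G⁰ to an abelian variety preserving the unit factors uniquely. Let j : N → G⁰ be the kernel of α.
Then N is normal in G, affine and connected; it is the kernel of a flat surjective homomorphism from
G onto a proper k-group scheme of finite type; and it is the smallest normal subgroup scheme of G
with proper quotient: every flat surjective homomorphism from G onto a proper k-group scheme of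
finite type kills N. -/
theorem result (k : Type u) [Field k]
    (G : Over (Spec (CommRingCat.of k))) [GrpObj G] [Smooth G.hom] [QuasiCompact G.hom]
    (G₀ : Over (Spec (CommRingCat.of k))) [GrpObj G₀] (i₀ : G₀ ⟶ G) [IsMonHom i₀] [IsOpenImmersion i₀.left] [ConnectedSpace ↥G₀.left]
    (A : Over (Spec (CommRingCat.of k))) [GrpObj A] [IsProper A.hom] [Smooth A.hom] [ConnectedSpace ↥A.left]
    (α : G₀ ⟶ A) [IsMonHom α] [Surjective α.left] [Flat α.left]
    (hα : ∀ (B : Over (Spec (CommRingCat.of k))) [GrpObj B] [IsProper B.hom] [Smooth B.hom] [ConnectedSpace ↥B.left] (f : G₀ ⟶ B),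
      η[G₀] ≫ f = η[B] → ∃! g : A ⟶ B, α ≫ g = f)
    (N : Over (Spec (CommRingCat.of k))) [GrpObj N] (j : N ⟶ G₀) [IsMonHom j] [IsClosedImmersion j.left] (hN : AlgGrp.IsKernel j α) :
    AlgGrp.IsNormalHom (j ≫ i₀) ∧ IsAffine N.left ∧ ConnectedSpace ↥N.left ∧
      (∃ (Q : Over (Spec (CommRingCat.of k))) (_ : GrpObj Q) (q : G ⟶ Q), IsMonHom q ∧ Surjective q.left ∧ Flat q.left ∧
        AlgGrp.IsKernel (j ≫ i₀) q ∧ IsProper Q.hom) ∧
      ∀ (Q' : Over (Spec (CommRingCat.of k))) [GrpObj Q'] [IsProper Q'.hom] (q' : G ⟶ Q') [IsMonHom q'] [Surjective q'.left] [Flat q'.left],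
        (j ≫ i₀) ≫ q' = 1 := by
  haveI := GrpSchLib.AntiAffine.isSeparated_grp G
  haveI : IsLocallyNoetherian G.left := LocallyOfFiniteType.isLocallyNoetherian G.hom
  haveI : Mono i₀ := GrpSchLib.ProperQuotNormal.mono_sub i₀
  haveI : Mono j := GrpSchLib.ProperQuotNormal.mono_sub j
  haveI : Smooth G₀.hom := by rw [← Over.w i₀]; infer_instance
  haveI : QuasiCompact G₀.hom := by rw [← Over.w i₀]; infer_instance
  have hall : ∀ (B : Over (Spec (CommRingCat.of k))) [GrpObj B] [IsProper B.hom] (f : G₀ ⟶ B) [IsMonHom f],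
      j ≫ f = 1 := by
    intro B _ _ f _
    obtain ⟨I, _, γ', e, hγ, hI, hIs, hIc, -, -, he⟩ := AGFLib.AlbaneseAny.exists_image_av f
    haveI := hγ; haveI := hI; haveI := hIs; haveI := hIc
    obtain ⟨g, hg, -⟩ := hα I γ' (IsMonHom.one_hom γ')
    have h1 : η[A] ≫ g = η[I] := by
      rw [← IsMonHom.one_hom α, Category.assoc, hg, IsMonHom.one_hom γ']
    have h2 : η[I] ≫ e = η[B] := by
      rw [← IsMonHom.one_hom γ', Category.assoc, he, IsMonHom.one_hom f]
    rw [← he, ← hg, Category.assoc, reassoc_of% hN.w, reassoc_of% h1, h2]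
    rfl
  obtain ⟨hr, hn₀⟩ := GrpSchLib.ProperQuotNormal.normal_connected_open i₀
  have hNn := GrpSchLib.ProperQuotNormal.normal_albanese i₀ hn₀ α j hN (fun B _ _ f _ => hall B f)
  refine ⟨hNn, GrpSchLib.ProperQuotSmallest.isAffine_of_killed j (fun B _ _ f _ => hall B f), ?_, ?_,
    fun Q' _ _ q' _ _ _ => by rw [Category.assoc]; exact hall Q' (i₀ ≫ q')⟩
  · obtain ⟨N', _, i', A', _, α', -, -, -, hc', hA', -, -, hα', hαs', hαf', hk', -, hall'⟩ :=
      AGFLib.AlbaneseAny.exists_albanese G₀
    haveI := hc'; haveI := hA'; haveI := hα'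
    let l := hN.lift i' (toUnit N') (by rw [hall' A α]; rfl)
    let r := hk'.lift j (toUnit N) (by rw [hall A' α']; rfl)
    have hl : r ≫ l = 𝟙 N := by
      rw [← cancel_mono j, Category.assoc, hN.lift_fst, hk'.lift_fst, Category.id_comp]
    refine Function.Surjective.connectedSpace (f := l.left) (fun y => ⟨r.left y, ?_⟩) l.left.continuous
    rw [← Scheme.Hom.comp_apply, ← Over.comp_left, hl]; rfl
  · haveI : QuasiCompact i₀.left := inferInstance
    haveI : LocallyOfFiniteType N.hom := by rw [← Over.w j]; infer_instance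
    haveI : QuasiCompact (j ≫ i₀).left := inferInstanceAs (QuasiCompact (j.left ≫ i₀.left))
    obtain ⟨Q, _, p, hp, hpf, hps, -, hpk, hQsep, -, hQs⟩ := S3030.result k N G (j ≫ i₀) hNn
    haveI := hp; haveI := hpf; haveI := hps
    haveI : Smooth Q.hom := hQs inferInstance
    exact ⟨Q, inferInstance, p, hp, hps, hpf, hpk, GrpSchLib.ProperQuotNormal.isProper_quot i₀ hn₀ α j hN p hpk⟩

end Groth.Agent.S14593
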