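import Groth.Statements.S14594
import Groth.Agent.GrpSchLib.SemiabIsog
-- import your own Groth.Agent.* helpers here

set_option autoImplicit false
set_option backward.isDefEq.respectTransparency.types false
set_option maxHeartbeats 1000000
universe u
open CategoryTheory MonoidalCategory CartesianMonoidalCategory MonObj GrpObj AlgebraicGeometry CategoryTheory.Limits
open AlgGrp

namespace Groth.Agent.S14594

/-- Let k be a field, G a smooth connected k-group scheme of finite type and f : G → H an isogeny onto a
k-group scheme of finite type H, i.e. a surjective homomorphism whose kernel N is finite. If H is a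
semi-abelian variety (an extension of a proper smooth connected k-group scheme by a torus), then G
is a semi-abelian variety. -/
theorem result (k : Type u) [Field k]
    (G H : Over (Spec (CommRingCat.of k))) [GrpObj G] [GrpObj H] [Smooth G.hom] [QuasiCompact G.hom] [ConnectedSpace ↥G.left]
    [LocallyOfFiniteType H.hom] [QuasiCompact H.hom] (f : G ⟶ H) [IsMonHom f] [Surjective f.left]
    (N : Over (Spec (CommRingCat.of k))) [GrpObj N] (n : N ⟶ G) [IsMonHom n] [IsClosedImmersion n.left] [IsFinite N.hom]
    (hker : AlgGrp.IsKernel n f) (hH : (∃ (T : Over (Spec (CommRingCat.of k))) (_ : GrpObj T) (i : T ⟶ H) (A : Over (Spec (CommRingCat.of k))) (_ : GrpObj A) (q : H ⟶ A),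
        IsMonHom i ∧ IsClosedImmersion i.left ∧ Red.IsTorus T ∧ IsMonHom q ∧ Surjective q.left ∧ Flat q.left ∧
        AlgGrp.IsKernel i q ∧ IsProper A.hom ∧ Smooth A.hom ∧ ConnectedSpace ↥A.left)) :
    (∃ (T : Over (Spec (CommRingCat.of k))) (_ : GrpObj T) (i : T ⟶ G) (A : Over (Spec (CommRingCat.of k))) (_ : GrpObj A) (q : G ⟶ A),
        IsMonHom i ∧ IsClosedImmersion i.left ∧ Red.IsTorus T ∧ IsMonHom q ∧ Surjective q.left ∧ Flat q.left ∧
        AlgGrp.IsKernel i q ∧ IsProper A.hom ∧ Smooth A.hom ∧ ConnectedSpace ↥A.left) := by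
  obtain ⟨T, _, i, A, _, q, hi, hic, hT, hq, hqs, hqf, hk, hA, hAs, hAc⟩ := hH
  haveI := hi; haveI := hic; haveI := hq; haveI := hqs; haveI := hqf; haveI := hA; haveI := hAs; haveI := hAc
  exact GrpSchLib.SemiabIsog.exists_semiab f n hker i hT q hk

end Groth.Agent.S14594
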