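import Groth.Statements.S5430
import Groth.Agent.TorusQI.HomExtend
import Groth.Agent.TorusQI.Image
-- import your own Groth.Agent.* helpers here

set_option autoImplicit false
universe u
open CategoryTheory MonoidalCategory CartesianMonoidalCategory MonObj GrpObj AlgebraicGeometry CategoryTheory.Limits
open SGA3x

namespace Groth.Agent.S5430

/-- Let S be a scheme and E an S-group scheme which is an extension of an S-group scheme U with
connected fibres by an S-group H of multiplicative type and of finite type: p : E → U is a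
homomorphism which is surjective, flat and quasi-compact (U is the fpqc quotient E/H) and i : H → E
is its kernel. Then the extension is central: every point of H commutes with every point of E. -/
theorem result (S : Scheme.{u}) (E H U : Over S) [GrpObj E] [GrpObj H] [GrpObj U]
    (p : E ⟶ U) [IsMonHom p] [Surjective p.left] [Flat p.left] [QuasiCompact p.left]
    (i : H ⟶ E) [IsMonHom i] (hker : AlgGrp.IsKernel i p) (hH : SGA3x.IsMultTypeFT H)
    (hU : ∀ s : S, _root_.IsConnected (U.hom.base ⁻¹' {s})) :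
    ∀ (X : Over S) (h : X ⟶ H) (e : X ⟶ E), (h ≫ i) * e = e * (h ≫ i) := by
  obtain ⟨A, υ, hA, _, _, -⟩ := Groth.Agent.TorusQI.exists_homScheme hH hH
  haveI : Mono i := ⟨fun a b h => hker.hom_ext h (toUnit_unique _ _)⟩
  have hp1 : ∀ (X : Over S) (h : X ⟶ H), (h ≫ i) ≫ p = 1 := fun X h => by
    rw [Category.assoc, hker.w, ← Category.assoc, toUnit_unique (h ≫ toUnit H) (toUnit X), ← Hom.one_def]
  obtain ⟨φ, hφ⟩ : ∃ φ : H ⊗ E ⟶ H, φ ≫ i = snd H E * (fst H E ≫ i) * (snd H E)⁻¹ := by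
    have h0 : (snd H E * (fst H E ≫ i) * (snd H E)⁻¹) ≫ p = toUnit (H ⊗ E) ≫ η[U] := by
      rw [MonObj.mul_comp _ _ p, MonObj.mul_comp _ _ p, hp1, _root_.mul_one, ← MonObj.mul_comp _ _ p, mul_inv_cancel,
        MonObj.one_comp p, Hom.one_def]
    exact ⟨hker.lift _ _ h0, hker.lift_fst _ _ h0⟩
  have hpt : ∀ (X : Over S) (h : X ⟶ H) (e : X ⟶ E), (lift h e ≫ φ) ≫ i = e * (h ≫ i) * e⁻¹ := fun X h e => by
    rw [Category.assoc, hφ, MonObj.comp_mul, MonObj.comp_mul, GrpObj.comp_inv, lift_snd, lift_fst_assoc]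
  have hφf : AutFam.IsHomFamily H H φ := fun X g₁ g₂ t => by
    rw [← cancel_mono i, MonObj.mul_comp _ _ i, hpt, hpt, hpt, MonObj.mul_comp _ _ i]
    group
  obtain ⟨a, ha, -⟩ := hA.2 E φ hφf
  have hid : AutFam.IsHomFamily H H (fst H (𝟙_ (Over S))) := fun X g₁ g₂ t => by simp only [lift_fst]
  obtain ⟨c₀, hc₀, -⟩ := hA.2 _ _ hid
  have hext : ∀ {X : Over S} (u v : X ⟶ A), (H ◁ u) ≫ υ = (H ◁ v) ≫ υ → u = v := fun {X} u v h =>
    (hA.2 X _ (Groth.Agent.HomRepLib.isHomFamily_comp hA.1 v)).unique h rfl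
  have hW : ∀ (X : Over S) (h : X ⟶ H) (x : X ⟶ E), lift h x ≫ φ = lift h (x ≫ a) ≫ υ := fun X h x => by
    rw [← ha, lift_whiskerLeft_assoc]
  have hca : η[E] ≫ a = c₀ := hext _ _ (by
    rw [hc₀, MonoidalCategory.whiskerLeft_comp, Category.assoc, ha, ← cancel_mono i, Category.assoc, hφ,
      MonObj.comp_mul, MonObj.comp_mul, GrpObj.comp_inv, whiskerLeft_snd, whiskerLeft_fst_assoc, ← toUnit_unique
        (toUnit (H ⊗ 𝟙_ (Over S))) (snd H (𝟙_ (Over S))), ← Hom.one_def, inv_one, _root_.mul_one, _root_.one_mul])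
  let σ : S ⟶ A.left := c₀.left
  have hσ : σ ≫ A.hom = 𝟙 S := Over.w c₀
  haveI : Etale (σ ≫ A.hom) := by rw [hσ]; infer_instance
  haveI : Etale σ := Etale.of_comp σ A.hom
  haveI : IsClosedImmersion (σ ≫ A.hom) := by rw [hσ]; infer_instance
  haveI : IsClosedImmersion σ := IsClosedImmersion.of_comp σ A.hom
  haveI : IsOpenImmersion σ := IsOpenImmersion.of_flat_of_mono σ
  let W : Set E.left := a.left ⁻¹' Set.range σ
  have hWo : IsOpen W := σ.isOpenEmbedding.isOpen_range.preimage a.left.continuous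
  have hWc : IsClosed W := σ.isClosedEmbedding.isClosed_range.preimage a.left.continuous
  have hsat : ∀ e e' : E.left, p.left e = p.left e' → e ∈ W → e' ∈ W := by
    intro e e' hee he
    obtain ⟨z, hz, hz'⟩ := Scheme.Pullback.exists_preimage_pullback e e' hee
    let R : Over S := Over.mk (Limits.pullback.fst p.left p.left ≫ E.hom)
    let r₁ : R ⟶ E := Over.homMk (Limits.pullback.fst p.left p.left) rfl
    let r₂ : R ⟶ E := Over.homMk (Limits.pullback.snd p.left p.left) (by
      show Limits.pullback.snd p.left p.left ≫ E.hom = Limits.pullback.fst p.left p.left ≫ E.hom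
      rw [← Over.w p, ← Category.assoc, ← Limits.pullback.condition, Category.assoc])
    have hr : r₁ ≫ p = r₂ ≫ p := Over.OverMorphism.ext Limits.pullback.condition
    have h0 : (r₂ * r₁⁻¹) ≫ p = toUnit R ≫ η[U] := by
      rw [MonObj.mul_comp _ _ p, ← hr, ← MonObj.mul_comp _ _ p, mul_inv_cancel, MonObj.one_comp p, Hom.one_def]
    let h₀ : R ⟶ H := hker.lift (r₂ * r₁⁻¹) (toUnit R) h0
    have hh₀ : h₀ ≫ i = r₂ * r₁⁻¹ := hker.lift_fst _ _ h0
    have : r₁ ≫ a = r₂ ≫ a := hext _ _ (by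
      rw [MonoidalCategory.whiskerLeft_comp, Category.assoc, ha, MonoidalCategory.whiskerLeft_comp, Category.assoc,
        ha, ← cancel_mono i, Category.assoc, Category.assoc, hφ]
      simp only [MonObj.comp_mul, GrpObj.comp_inv, whiskerLeft_snd, whiskerLeft_fst_assoc]
      have h2 : snd H R ≫ r₂ = ((snd H R ≫ h₀) ≫ i) * (snd H R ≫ r₁) := by
        rw [Category.assoc, hh₀, MonObj.comp_mul, GrpObj.comp_inv, inv_mul_cancel_right]
      have h6 : Commute ((snd H R ≫ h₀) ≫ i) ((snd H R ≫ r₁) * (fst H R ≫ i) * (snd H R ≫ r₁)⁻¹) := by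
        obtain ⟨y, hy⟩ : ∃ y : H ⊗ R ⟶ H, y ≫ i = (snd H R ≫ r₁) * (fst H R ≫ i) * (snd H R ≫ r₁)⁻¹ :=
          ⟨_, hpt _ (fst H R) (snd H R ≫ r₁)⟩
        rw [← hy]
        show _ * _ = _ * _
        rw [← MonObj.mul_comp _ _ i, ← MonObj.mul_comp _ _ i, Groth.Agent.TorusQI.mul_comm_of_multType hH]
      rw [h2, _root_.mul_inv_rev]
      calc _ = ((snd H R ≫ r₁) * (fst H R ≫ i) * (snd H R ≫ r₁)⁻¹) * 1 := (_root_.mul_one _).symm
        _ = ((snd H R ≫ r₁) * (fst H R ≫ i) * (snd H R ≫ r₁)⁻¹) *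
            (((snd H R ≫ h₀) ≫ i) * ((snd H R ≫ h₀) ≫ i)⁻¹) := by rw [mul_inv_cancel]
        _ = _ := by
          rw [← _root_.mul_assoc _ ((snd H R ≫ h₀) ≫ i), ← h6.eq]
          group)
    have h' := congrArg (fun k => k.left z) this
    simp only [Over.comp_left, r₁, r₂, Over.homMk_left, Scheme.Hom.comp_apply, hz, hz'] at h'
    show a.left e' ∈ Set.range σ
    rw [← h']
    exact he
  haveI : Surjective p.left := inferInstance
  have hq : Topology.IsQuotientMap p.left := Flat.isQuotientMap_of_surjective _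
  have hpre : p.left ⁻¹' (p.left '' W) = W :=
    Set.Subset.antisymm (fun x ⟨w, hw, hwx⟩ => hsat w x hwx hw) (Set.subset_preimage_image _ _)
  have hT : ∀ x : E.left, x ∈ W := by
    intro x
    let t : S := U.hom (p.left x)
    have hop : IsOpen (p.left '' W) := by rw [← hq.isOpen_preimage, hpre]; exact hWo
    have hcl : IsClosed (p.left '' W) := by rw [← hq.isClosed_preimage, hpre]; exact hWc
    have hone : (η[E] : 𝟙_ (Over S) ⟶ E).left t ∈ W := ⟨t, by
      show σ t = a.left ((η[E] : 𝟙_ (Over S) ⟶ E).left t)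
      exact (congrArg (fun k => k.left t) hca).symm⟩
    have hne : ((U.hom.base ⁻¹' {t}) ∩ p.left '' W).Nonempty := ⟨p.left ((η[E] : 𝟙_ (Over S) ⟶ E).left t), by
      show U.hom (p.left ((η[E] : 𝟙_ (Over S) ⟶ E).left t)) = t
      rw [← Scheme.Hom.comp_apply, Over.w p, ← Scheme.Hom.comp_apply, Over.w (η[E] : 𝟙_ (Over S) ⟶ E)]
      rfl, _, hone, rfl⟩
    have := (hU t).isPreconnected.subset_isClopen ⟨hcl, hop⟩ hne (show p.left x ∈ U.hom.base ⁻¹' {t} from rfl)
    rw [← hpre]
    exact this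
  let a' : E.left ⟶ S := IsOpenImmersion.lift σ a.left (by rintro _ ⟨x, rfl⟩; exact hT x)
  have ha' : a' ≫ σ = a.left := IsOpenImmersion.lift_fac _ _ _
  have haa : a = toUnit E ≫ c₀ := Over.OverMorphism.ext (by
    have h1 : a' = E.hom := by
      have := congrArg (· ≫ A.hom) ha'
      simp only [Category.assoc, hσ, Category.comp_id, Over.w] at this
      exact this
    rw [← ha', h1]
    rfl)
  have hφ1 : φ = fst H E := by
    rw [← ha, haa, MonoidalCategory.whiskerLeft_comp, Category.assoc, hc₀, whiskerLeft_fst]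
  intro X h e
  have h1 := hpt X h e
  rw [hφ1, lift_fst] at h1
  calc (h ≫ i) * e = e * (h ≫ i) * e⁻¹ * e := by rw [← h1]
    _ = e * (h ≫ i) := inv_mul_cancel_right _ _

end Groth.Agent.S5430
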