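import Groth.Statements.S8718
import Groth.Agent.GrpExtRigid.Basic
-- import your own Groth.Agent.* helpers here

set_option autoImplicit false
universe u
open CategoryTheory CategoryTheory.Limits MonoidalCategory CartesianMonoidalCategory MonObj AlgebraicGeometry
open SGA7

namespace Groth.Agent.S8718

/-- For group schemes over a base scheme S (the representable case on the fppf site): let P and G be
S-group schemes with G commutative, and u : G → E, v : E → P homomorphisms of S-group schemes
forming a sequence 1 → G → E → P → 1 exact for the fppf topology. Suppose every morphism of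
S-schemes P ×_S G → G whose restrictions to P × e_G and to e_P × G are trivial is trivial. Then u(G)
is central in E: for all points g of G and x of E with values in any S-scheme, u(g) x = x u(g). If
moreover P is commutative and every morphism of S-schemes P ×_S P → G trivial on P × e_P and on e_P
× P is trivial, then E is commutative. (The published statement is for sheaves of groups on an
arbitrary topos; this row is its case of representable sheaves on the fppf site of S. Morphisms to G
form a group; trivial means equal to its unit.) -/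
theorem result (S : Scheme.{u})
    (P G E : Over S) [GrpObj P] [GrpObj G] [GrpObj E] [IsCommMonObj G]
    (u : G ⟶ E) (v : E ⟶ P) (hex : NonAbH1.IsExactSeq Scheme.fppfPrecoverage u v)
    (hPG : ∀ f : P ⊗ G ⟶ G, lift (𝟙 P) (toUnit P ≫ η[G]) ≫ f = 1 → lift (toUnit G ≫ η[P]) (𝟙 G) ≫ f = 1 → f = 1) :
    (∀ (T : Over S) (g : T ⟶ G) (x : T ⟶ E), (g ≫ u) * x = x * (g ≫ u)) ∧
      (IsCommMonObj P →
        (∀ f : P ⊗ P ⟶ G, lift (𝟙 P) (toUnit P ≫ η[P]) ≫ f = 1 → lift (toUnit P ≫ η[P]) (𝟙 P) ≫ f = 1 → f = 1) →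
          IsCommMonObj E) := by
  open Groth.Agent.GrpExtRigid in
  haveI hu := hex.1
  haveI hv := hex.2.1
  have hC : ∀ (T : Over S) (g : T ⟶ G) (x : T ⟶ E), (g ≫ u) * x = x * (g ≫ u) := by
    let d : E ⊗ G ⟶ E := fst E G * (snd E G ≫ u) * (fst E G)⁻¹ * (snd E G ≫ u)⁻¹
    have hd : d ≫ v = 1 := by
      simp only [d, MonObj.mul_comp, GrpObj.inv_comp, GrpExtRigid.comp_u_v hex, _root_.mul_one, inv_one,
        mul_inv_cancel]
    obtain ⟨c, hc⟩ := GrpExtRigid.exists_ker hex hd
    have key : ∀ {T : Over S} (x : T ⟶ E) (g : T ⟶ G),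
        (lift x g ≫ c) ≫ u = x * (g ≫ u) * x⁻¹ * (g ≫ u)⁻¹ := by
      intro T x g
      rw [Category.assoc, hc]
      simp only [d, MonObj.comp_mul, GrpObj.comp_inv, lift_fst, lift_snd_assoc]
    have hj := GrpExtRigid.hasLocSec_tensor (GrpExtRigid.hasLocSec hex) (GrpExtRigid.hasLocSec_id G)
    have hinv : ∀ (T : Over S) (a b : T ⟶ E ⊗ G),
        a ≫ lift (fst E G ≫ v) (snd E G ≫ 𝟙 G) = b ≫ lift (fst E G ≫ v) (snd E G ≫ 𝟙 G) →
          a ≫ c = b ≫ c := by
      intro T a b hab
      have h1 := congrArg (· ≫ fst P G) hab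
      have h2 := congrArg (· ≫ snd P G) hab
      simp only [Category.assoc, lift_fst, lift_snd, Category.comp_id] at h1 h2
      rw [← Category.assoc, ← Category.assoc] at h1
      obtain ⟨h, hh⟩ := GrpExtRigid.exists_fibre hex h1
      have ea : a = lift (a ≫ fst E G) (a ≫ snd E G) := by rw [← comp_lift, lift_fst_snd, Category.comp_id]
      have eb : b = lift (b ≫ fst E G) (b ≫ snd E G) := by rw [← comp_lift, lift_fst_snd, Category.comp_id]
      refine GrpExtRigid.comp_u_eq_of_eq hex ?_
      rw [eb, ea, key, key, hh, ← h2]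
      generalize a ≫ fst E G = x
      generalize a ≫ snd E G = g
      have hcm : (h ≫ u) * (g ≫ u) * (h ≫ u)⁻¹ = g ≫ u := by
        rw [(GrpExtRigid.commute_u hex h g).eq, mul_inv_cancel_right]
      calc x * (g ≫ u) * x⁻¹ * (g ≫ u)⁻¹
          = x * ((h ≫ u) * (g ≫ u) * (h ≫ u)⁻¹) * x⁻¹ * (g ≫ u)⁻¹ := by rw [hcm]
        _ = _ := by group
    obtain ⟨χ, hχ, -⟩ := hj.existsUnique_desc c hinv
    have key' : ∀ {T : Over S} (x : T ⟶ E) (g : T ⟶ G),
        lift (x ≫ v) g ≫ χ = lift x g ≫ c := by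
      intro T x g
      rw [← hχ, ← Category.assoc]
      congr 1
      refine CartesianMonoidalCategory.hom_ext _ _ ?_ ?_ <;> simp
    have hχ1 : χ = 1 := by
      refine hPG χ ?_ ?_
      · refine (GrpExtRigid.hasLocSec hex).hom_ext ?_
        rw [MonObj.comp_one, ← Category.assoc, comp_lift, Category.comp_id, ← Hom.one_def,
          MonObj.comp_one]
        refine GrpExtRigid.comp_u_eq_of_eq hex ?_
        have := key' (𝟙 E) (1 : E ⟶ G)
        rw [Category.id_comp] at this
        rw [this, key, MonObj.one_comp]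
        simp
      · rw [← Hom.one_def, ← MonObj.one_comp (M := E) (f := v)]
        refine GrpExtRigid.comp_u_eq_of_eq hex ?_
        rw [key', key, MonObj.one_comp]
        simp
    intro T g x
    have := key x g
    rw [← key', hχ1, MonObj.comp_one, MonObj.one_comp] at this
    exact (mul_inv_eq_iff_eq_mul.mp (mul_inv_eq_one.mp this.symm)).symm
  refine ⟨hC, fun hP hPP => ?_⟩
  haveI := hP
  let d : E ⊗ E ⟶ E := fst E E * snd E E * (fst E E)⁻¹ * (snd E E)⁻¹
  have hd : d ≫ v = 1 := by
    simp only [d, MonObj.mul_comp, GrpObj.inv_comp]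
    rw [_root_.mul_comm (fst E E ≫ v) (snd E E ≫ v)]
    group
  obtain ⟨c, hc⟩ := GrpExtRigid.exists_ker hex hd
  have key : ∀ {T : Over S} (x y : T ⟶ E), (lift x y ≫ c) ≫ u = x * y * x⁻¹ * y⁻¹ := by
    intro T x y
    rw [Category.assoc, hc]
    simp only [d, MonObj.comp_mul, GrpObj.comp_inv, lift_fst, lift_snd]
  have hj := GrpExtRigid.hasLocSec_tensor (GrpExtRigid.hasLocSec hex) (GrpExtRigid.hasLocSec hex)
  have hinv : ∀ (T : Over S) (a b : T ⟶ E ⊗ E),
      a ≫ lift (fst E E ≫ v) (snd E E ≫ v) = b ≫ lift (fst E E ≫ v) (snd E E ≫ v) →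
        a ≫ c = b ≫ c := by
    intro T a b hab
    have h1 := congrArg (· ≫ fst P P) hab
    have h2 := congrArg (· ≫ snd P P) hab
    simp only [Category.assoc, lift_fst, lift_snd] at h1 h2
    rw [← Category.assoc, ← Category.assoc] at h1 h2
    obtain ⟨g, hg⟩ := GrpExtRigid.exists_fibre hex h1
    obtain ⟨h, hh⟩ := GrpExtRigid.exists_fibre hex h2
    have ea : a = lift (a ≫ fst E E) (a ≫ snd E E) := by rw [← comp_lift, lift_fst_snd, Category.comp_id]
    have eb : b = lift (b ≫ fst E E) (b ≫ snd E E) := by rw [← comp_lift, lift_fst_snd, Category.comp_id]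
    refine GrpExtRigid.comp_u_eq_of_eq hex ?_
    rw [eb, ea, key, key, hg, hh]
    generalize a ≫ fst E E = x
    generalize a ≫ snd E E = y
    have e1 : Commute (g ≫ u) y := hC T g y
    have e2 : Commute (h ≫ u) (x⁻¹) := hC T h x⁻¹
    have e3 : Commute (g ≫ u) (h ≫ u) := hC T g (h ≫ u)
    calc x * y * x⁻¹ * y⁻¹
        = x * ((g ≫ u) * y * (g ≫ u)⁻¹) * x⁻¹ * y⁻¹ := by rw [e1.eq, mul_inv_cancel_right]
      _ = x * (g ≫ u) * y * ((g ≫ u)⁻¹ * ((h ≫ u) * x⁻¹ * (h ≫ u)⁻¹)) * y⁻¹ := by
          rw [e2.eq, mul_inv_cancel_right]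
          group
      _ = x * (g ≫ u) * y * (((g ≫ u)⁻¹ * (h ≫ u)) * x⁻¹ * (h ≫ u)⁻¹) * y⁻¹ := by group
      _ = _ := by
          rw [(e3.inv_left).eq]
          group
  obtain ⟨χ, hχ, -⟩ := hj.existsUnique_desc c hinv
  have key' : ∀ {T : Over S} (x y : T ⟶ E), lift (x ≫ v) (y ≫ v) ≫ χ = lift x y ≫ c := by
    intro T x y
    rw [← hχ, ← Category.assoc]
    congr 1
    refine CartesianMonoidalCategory.hom_ext _ _ ?_ ?_ <;> simp
  have hχ1 : χ = 1 := by
    refine hPP χ ?_ ?_
    · refine (GrpExtRigid.hasLocSec hex).hom_ext ?_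
      rw [MonObj.comp_one, ← Category.assoc, comp_lift, Category.comp_id, ← Hom.one_def,
        MonObj.comp_one]
      refine GrpExtRigid.comp_u_eq_of_eq hex ?_
      have := key' (𝟙 E) (1 : E ⟶ E)
      rw [Category.id_comp, MonObj.one_comp] at this
      rw [this, key, MonObj.one_comp]
      simp
    · refine (GrpExtRigid.hasLocSec hex).hom_ext ?_
      rw [MonObj.comp_one, ← Category.assoc, comp_lift, Category.comp_id, ← Hom.one_def,
        MonObj.comp_one]
      refine GrpExtRigid.comp_u_eq_of_eq hex ?_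
      have := key' (1 : E ⟶ E) (𝟙 E)
      rw [Category.id_comp, MonObj.one_comp] at this
      rw [this, key, MonObj.one_comp]
      simp
  refine ⟨?_⟩
  have := key (fst E E) (snd E E)
  rw [← key', hχ1, MonObj.comp_one, MonObj.one_comp] at this
  have hμ : μ[E] = fst E E * snd E E := by rw [Hom.mul_def, lift_fst_snd, Category.id_comp]
  rw [hμ, MonObj.comp_mul]
  simp only [CartesianMonoidalCategory.braiding_hom_fst, CartesianMonoidalCategory.braiding_hom_snd]
  exact (mul_inv_eq_iff_eq_mul.mp (mul_inv_eq_one.mp this.symm)).symm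

end Groth.Agent.S8718
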