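import Groth.Statements.S14595
import Groth.Agent.AVTors.VarProd
import Groth.Agent.AVTors.TorusPts
import Groth.Agent.H23.MaxAbelian
import Groth.Agent.GrpSchLib.IsogenyFibre
import Groth.Agent.S8718
import Groth.Agent.S5430
import Groth.Agent.NQF.Main
import Groth.Agent.TorusQI.Geom
-- import your own Groth.Agent.* helpers here

set_option autoImplicit false
universe u
open CategoryTheory MonoidalCategory CartesianMonoidalCategory MonObj GrpObj AlgebraicGeometry CategoryTheory.Limits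
open AlgGrp

namespace Groth.Agent.S14595

set_option linter.style.haveILetI false
set_option backward.isDefEq.respectTransparency false
set_option backward.isDefEq.respectTransparency.types false
set_option maxHeartbeats 2000000
set_option synthInstance.maxHeartbeats 200000

/-- Let k be a field, X and Y varieties over k (separated, geometrically integral, of finite type) with
rational points x₀, y₀, G a semi-abelian variety (an extension of a proper smooth connected k-group
scheme by a torus) and f : X × Y → G a k-morphism. Then f(x, y) f(x, y₀)⁻¹ f(x₀, y)⁻¹ f(x₀, y₀) = e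
identically, in the group of morphisms X × Y → G. -/
theorem result (k : Type u) [Field k]
    (X Y G : Over (Spec (CommRingCat.of k)))
    [LocallyOfFiniteType X.hom] [QuasiCompact X.hom] [IsSeparated X.hom] [GeometricallyIntegral X.hom]
    [LocallyOfFiniteType Y.hom] [QuasiCompact Y.hom] [IsSeparated Y.hom] [GeometricallyIntegral Y.hom]
    [GrpObj G] [LocallyOfFiniteType G.hom] [QuasiCompact G.hom] (hG : (∃ (T : Over (Spec (CommRingCat.of k))) (_ : GrpObj T) (i : T ⟶ G) (A : Over (Spec (CommRingCat.of k))) (_ : GrpObj A) (q : G ⟶ A),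
        IsMonHom i ∧ IsClosedImmersion i.left ∧ Red.IsTorus T ∧ IsMonHom q ∧ Surjective q.left ∧ Flat q.left ∧
        AlgGrp.IsKernel i q ∧ IsProper A.hom ∧ Smooth A.hom ∧ ConnectedSpace ↥A.left))
    (x₀ : 𝟙_ (Over (Spec (CommRingCat.of k))) ⟶ X) (y₀ : 𝟙_ (Over (Spec (CommRingCat.of k))) ⟶ Y) (f : X ⊗ Y ⟶ G) :
    f * (fst X Y ≫ lift (𝟙 X) (toUnit X ≫ y₀) ≫ f)⁻¹ * (snd X Y ≫ lift (toUnit Y ≫ x₀) (𝟙 Y) ≫ f)⁻¹ *
      (toUnit (X ⊗ Y) ≫ lift x₀ y₀ ≫ f) = 1 := by
  classical
  obtain ⟨T, _, i, A, _, q, hi, hicl, hT, hq, hqs, hqf, hker, hAp, hAsm, hAc⟩ := hG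
  haveI := hi; haveI := hicl; haveI := hq; haveI := hqs; haveI := hqf
  haveI := hAp; haveI := hAsm; haveI := hAc
  haveI : GeometricallyReduced A.hom := Groth.Agent.GrpSchLib.IsogenyFibre.geometricallyReduced_of_smooth' A.hom
  haveI : GeometricallyIntegral A.hom := Groth.Agent.H23.MaxAbelian.geometricallyIntegral_of_connected A
  let K := AlgebraicClosure k
  let v := Spec.map (CommRingCat.ofHom (algebraMap k K))
  let F := Over.pullback v
  -- faithfulness
  have faith : ∀ {W : Over (Spec (CommRingCat.of k))} (a b : W ⟶ G), F.map a = F.map b → a = b := by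
    intro W a b hab
    have hfst : ∀ g : W ⟶ G, (F.map g).left ≫ pullback.fst G.hom v = pullback.fst W.hom v ≫ g.left := by
      intro g
      simp [F]
    haveI : Surjective v := ⟨fun p => ⟨IsLocalRing.closedPoint K, @Subsingleton.elim (PrimeSpectrum k) _ _ _⟩⟩
    haveI : Flat v := by
      rw [HasRingHomProperty.Spec_iff (P := @Flat)]
      show (algebraMap k K).Flat
      rw [RingHom.flat_algebraMap_iff]
      infer_instance
    haveI : Surjective (pullback.fst W.hom v) := MorphismProperty.pullback_fst (P := @Surjective) _ _ inferInstance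
    haveI : Flat (pullback.fst W.hom v) := MorphismProperty.pullback_fst (P := @Flat) _ _ inferInstance
    haveI : Epi (pullback.fst W.hom v) := Flat.epi_of_flat_of_surjective _
    refine Over.OverMorphism.ext ((cancel_epi (pullback.fst W.hom v)).1 ?_)
    rw [← hfst, ← hfst, hab]
  -- the extension over the algebraic closure
  let GK := Red.bc v G
  let AK := Red.bc v A
  let TK := Red.bc v T
  letI : GrpObj TK := Red.grpObj_bc v T
  letI : GrpObj GK := Red.grpObj_bc v G
  letI : GrpObj AK := Red.grpObj_bc v A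
  let iK : TK ⟶ GK := F.map i
  let qK : GK ⟶ AK := F.map q
  haveI : IsMonHom iK := inferInstanceAs (IsMonHom (F.map i))
  haveI : IsMonHom qK := inferInstanceAs (IsMonHom (F.map q))
  have hkerK : AlgGrp.IsKernel iK qK := Groth.Agent.NQF.isKernel_bc' v hker
  haveI : IsProper AK.hom := inferInstanceAs (IsProper (pullback.snd A.hom v))
  haveI : GeometricallyIntegral AK.hom := inferInstanceAs (GeometricallyIntegral (pullback.snd A.hom v))
  haveI : IsIntegral AK.left := Groth.Agent.H23.MaxAbelian.isIntegral_of_geometricallyIntegral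
  haveI : IsCommMonObj AK := isCommMonObj_of_isProper_of_geometricallyIntegral AK
  haveI : LocallyOfFiniteType GK.hom := inferInstanceAs (LocallyOfFiniteType (pullback.snd G.hom v))
  haveI : QuasiCompact GK.hom := inferInstanceAs (QuasiCompact (pullback.snd G.hom v))
  have hsq : IsPullback (pullback.fst G.hom v) qK.left q.left (pullback.fst A.hom v) := by
    refine IsPullback.of_bot ?_ ?_ (IsPullback.of_hasPullback A.hom v)
    · have e2 : qK.left ≫ pullback.snd A.hom v = pullback.snd G.hom v := Over.w qK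
      rw [e2, Over.w q]
      exact IsPullback.of_hasPullback G.hom v
    · simp [qK, F]
  haveI : Flat qK.left := MorphismProperty.of_isPullback (P := @Flat) hsq inferInstance
  haveI : Surjective qK.left := MorphismProperty.of_isPullback (P := @Surjective) hsq inferInstance
  haveI : IsLocallyNoetherian AK.left := LocallyOfFiniteType.isLocallyNoetherian AK.hom
  haveI : LocallyOfFiniteType qK.left := by
    haveI : LocallyOfFiniteType (qK.left ≫ AK.hom) := by rw [Over.w]; infer_instance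
    exact locallyOfFiniteType_of_comp _ AK.hom
  haveI : LocallyOfFinitePresentation qK.left := inferInstance
  haveI : QuasiCompact qK.left := by
    haveI : QuasiCompact (qK.left ≫ AK.hom) := by rw [Over.w]; infer_instance
    exact QuasiCompact.of_comp qK.left AK.hom
  haveI : Mono iK := ⟨fun a b h => hkerK.hom_ext h (toUnit_unique _ _)⟩
  have hη : (η[AK] : 𝟙_ _ ⟶ AK) = 1 := by rw [Hom.one_def, toUnit_unique (toUnit (𝟙_ _)) (𝟙 _), Category.id_comp]
  have hiq : iK ≫ qK = 1 := by rw [hkerK.w, hη, MonObj.comp_one]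
  -- split torus
  obtain ⟨r, ⟨eT⟩⟩ := Groth.Agent.TorusQI.exists_split_geom hT v
  let δ : TK ⟶ Red.DS (Spec (CommRingCat.of K)) (Fin r → ℤ) := eT.hom.hom.hom
  haveI : IsMonHom δ := eT.hom.hom.isMonHom_hom
  haveI : IsIso δ := ⟨eT.inv.hom.hom, congrArg (fun z => z.hom.hom) eT.hom_inv_id, congrArg (fun z => z.hom.hom) eT.inv_hom_id⟩
  have toT : ∀ {W : Over (Spec (CommRingCat.of K))} (a : W ⟶ TK),
      (∀ m, Groth.Agent.AVTors.TorusPts.chi (a ≫ δ) m *
        Ring.inverse (Groth.Agent.AVTors.TorusPts.chi (1 : W ⟶ Red.DS (Spec (CommRingCat.of K)) (Fin r → ℤ)) m) = 1) → a = 1 := by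
    intro W a ha
    rw [← cancel_mono δ, MonObj.one_comp]
    refine Groth.Agent.AVTors.TorusPts.chi_ext _ _ fun m => ?_
    have h1 := ha m
    have h2 := Ring.mul_inverse_cancel _ (Groth.Agent.AVTors.TorusPts.isUnit_chi (1 : W ⟶ Red.DS (Spec (CommRingCat.of K)) (Fin r → ℤ)) m)
    exact (Groth.Agent.AVTors.TorusPts.isUnit_chi _ m).ringInverse.mul_left_injective (h1.trans h2.symm)
  have pullT : ∀ {W W' : Over (Spec (CommRingCat.of K))} (p : W' ⟶ W) (a : W ⟶ TK) (m : Fin r → ℤ), p ≫ a = 1 →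
      p.left.appTop (Groth.Agent.AVTors.TorusPts.chi (a ≫ δ) m *
        Ring.inverse (Groth.Agent.AVTors.TorusPts.chi (1 : W ⟶ Red.DS (Spec (CommRingCat.of K)) (Fin r → ℤ)) m)) = 1 := by
    intro W W' p a m hp
    obtain ⟨c, hc⟩ := Groth.Agent.AVTors.TorusPts.isUnit_chi (1 : W ⟶ Red.DS (Spec (CommRingCat.of K)) (Fin r → ℤ)) m
    rw [← hc, Ring.inverse_unit, map_mul, ← Groth.Agent.AVTors.TorusPts.chi_comp, ← Category.assoc, hp,
      MonObj.one_comp, ← MonObj.comp_one p, Groth.Agent.AVTors.TorusPts.chi_comp, ← hc, ← map_mul, Units.mul_inv, map_one]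
  have hslice : ∀ (W : Over (Spec (CommRingCat.of K))) (g : AK ⊗ W ⟶ TK),
      lift (toUnit W ≫ η[AK]) (𝟙 W) ≫ g = 1 → g = 1 := fun W g hg =>
    toT g fun m => Groth.Agent.AVTors.TorusPts.eq_one_of_slice η[AK] _ (pullT _ g m hg)
  -- the extension is commutative
  have hcen := Groth.Agent.S5430.result (Spec (CommRingCat.of K)) GK TK AK qK iK hkerK
    (Groth.Agent.GrpSchLib.MultTypeBC.isMultTypeFT_bc v (Groth.Agent.TorusQI.isMultTypeFT_of_isTorus hT)) (fun s => ?_)
  swap
  · haveI : Subsingleton (Spec (CommRingCat.of K)) := inferInstanceAs (Subsingleton (PrimeSpectrum K))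
    have : AK.hom.base ⁻¹' {s} = Set.univ := Set.eq_univ_of_forall fun x => Subsingleton.elim _ _
    rw [this]
    exact isConnected_univ
  haveI : IsCommMonObj TK := ⟨by
    rw [← cancel_mono iK]
    have hμ : μ[TK] = fst TK TK * snd TK TK := by rw [Hom.mul_def, lift_fst_snd, Category.id_comp]
    rw [hμ, MonObj.comp_mul]
    simp only [CartesianMonoidalCategory.braiding_hom_fst, CartesianMonoidalCategory.braiding_hom_snd, MonObj.mul_comp]
    exact hcen _ (snd TK TK) (fst TK TK ≫ iK)⟩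
  have hex : NonAbH1.IsExactSeq Scheme.fppfPrecoverage iK qK := by
    refine ⟨inferInstance, inferInstance, hiq, ?_, ⟨_, qK.left.singleton_mem_fppfPrecoverage, fun S' g hg => by
      cases hg
      exact ⟨𝟙 _, Category.id_comp _⟩⟩⟩
    have h3 : (GK ◁ iK) ≫ μ[GK] = fst GK TK * (snd GK TK ≫ iK) := by
      rw [Hom.mul_def]
      congr 1
    have hd : ∀ s : PullbackCone qK qK, (s.fst⁻¹ * s.snd) ≫ qK = toUnit s.pt ≫ η[AK] := fun s => by
      rw [MonObj.mul_comp, GrpObj.inv_comp, s.condition, _root_.inv_mul_cancel, Hom.one_def]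
    have w : fst GK TK ≫ qK = ((GK ◁ iK) ≫ μ[GK]) ≫ qK := by
      rw [h3, MonObj.mul_comp, Category.assoc, hiq, MonObj.comp_one, _root_.mul_one]
    refine ⟨⟨w⟩, ⟨PullbackCone.IsLimit.mk w (fun s => lift s.fst (hkerK.lift (s.fst⁻¹ * s.snd) (toUnit _) (hd s)))
      (fun s => lift_fst _ _) (fun s => ?_) (fun s m hm1 hm2 => ?_)⟩⟩
    · rw [h3, MonObj.comp_mul, lift_fst, ← Category.assoc, lift_snd, hkerK.lift_fst, mul_inv_cancel_left]
    · refine CartesianMonoidalCategory.hom_ext _ _ (by rw [lift_fst]; exact hm1) ?_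
      rw [lift_snd, ← cancel_mono iK, hkerK.lift_fst, ← hm2, h3, MonObj.comp_mul, hm1, inv_mul_cancel_left,
        Category.assoc]
  haveI hcomm : IsCommMonObj GK := by
    refine (Groth.Agent.S8718.result (Spec (CommRingCat.of K)) AK TK GK iK qK hex ?_).2 inferInstance ?_
    · exact fun g _ hg => hslice TK g hg
    · exact fun g _ hg => hslice AK g hg
  haveI : IsCommMonObj G := ⟨by
    have hμ : μ[G] = fst G G * snd G G := by rw [Hom.mul_def, lift_fst_snd, Category.id_comp]
    rw [hμ, MonObj.comp_mul]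
    simp only [CartesianMonoidalCategory.braiding_hom_fst, CartesianMonoidalCategory.braiding_hom_snd]
    refine faith _ _ ?_
    show F.homMonoidHom (snd G G * fst G G) = F.homMonoidHom (fst G G * snd G G)
    rw [map_mul, map_mul]
    exact _root_.mul_comm (G := F.obj (G ⊗ G) ⟶ GK) _ _⟩
  -- slices over the base
  set Φ := f * (fst X Y ≫ lift (𝟙 X) (toUnit X ≫ y₀) ≫ f)⁻¹ * (snd X Y ≫ lift (toUnit Y ≫ x₀) (𝟙 Y) ≫ f)⁻¹ *
      (toUnit (X ⊗ Y) ≫ lift x₀ y₀ ≫ f) with hΦ
  have hunit : ∀ (Z : Over (Spec (CommRingCat.of k))) (z : 𝟙_ (Over (Spec (CommRingCat.of k))) ⟶ Z), z ≫ toUnit Z = 𝟙 _ :=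
    fun Z z => toUnit_unique _ _
  have hsX : lift (𝟙 X) (toUnit X ≫ y₀) ≫ Φ = 1 := by
    have e2 : lift (𝟙 X) (toUnit X ≫ y₀) ≫ snd X Y ≫ lift (toUnit Y ≫ x₀) (𝟙 Y) ≫ f = toUnit X ≫ lift x₀ y₀ ≫ f := by
      rw [lift_snd_assoc, Category.assoc]
      congr 1
      rw [← Category.assoc]
      congr 1
      ext1
      · simp [reassoc_of% hunit]
      · simp
    have e1 : lift (𝟙 X) (toUnit X ≫ y₀) ≫ toUnit (X ⊗ Y) ≫ lift x₀ y₀ ≫ f = toUnit X ≫ lift x₀ y₀ ≫ f := by
      rw [← Category.assoc, comp_toUnit]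
    rw [hΦ]
    simp only [MonObj.comp_mul, GrpObj.comp_inv]
    rw [e1, e2, lift_fst_assoc, Category.id_comp]
    group
  have hsY : lift (toUnit Y ≫ x₀) (𝟙 Y) ≫ Φ = 1 := by
    have e3 : lift (toUnit Y ≫ x₀) (𝟙 Y) ≫ fst X Y ≫ lift (𝟙 X) (toUnit X ≫ y₀) ≫ f = toUnit Y ≫ lift x₀ y₀ ≫ f := by
      rw [lift_fst_assoc, Category.assoc]
      congr 1
      rw [← Category.assoc]
      congr 1
      ext1
      · simp
      · simp [reassoc_of% hunit]
    have e1 : lift (toUnit Y ≫ x₀) (𝟙 Y) ≫ toUnit (X ⊗ Y) ≫ lift x₀ y₀ ≫ f = toUnit Y ≫ lift x₀ y₀ ≫ f := by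
      rw [← Category.assoc, comp_toUnit]
    rw [hΦ]
    simp only [MonObj.comp_mul, GrpObj.comp_inv]
    rw [e1, e3, lift_snd_assoc, Category.id_comp]
    generalize lift (toUnit Y ≫ x₀) (𝟙 Y) ≫ f = a
    generalize toUnit Y ≫ lift x₀ y₀ ≫ f = c
    rw [mul_right_comm a c⁻¹ a⁻¹, mul_inv_cancel, _root_.one_mul, inv_mul_cancel]
  clear_value Φ
  -- over the closure
  haveI : LocallyOfFiniteType (F.obj X).hom := inferInstanceAs (LocallyOfFiniteType (pullback.snd X.hom v))
  haveI : LocallyOfFiniteType (F.obj Y).hom := inferInstanceAs (LocallyOfFiniteType (pullback.snd Y.hom v))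
  haveI : IsSeparated (F.obj X).hom := inferInstanceAs (IsSeparated (pullback.snd X.hom v))
  haveI : IsSeparated (F.obj Y).hom := inferInstanceAs (IsSeparated (pullback.snd Y.hom v))
  haveI : QuasiCompact (F.obj X).hom := inferInstanceAs (QuasiCompact (pullback.snd X.hom v))
  haveI : QuasiCompact (F.obj Y).hom := inferInstanceAs (QuasiCompact (pullback.snd Y.hom v))
  haveI : GeometricallyIntegral (F.obj X).hom := inferInstanceAs (GeometricallyIntegral (pullback.snd X.hom v))
  haveI : GeometricallyIntegral (F.obj Y).hom := inferInstanceAs (GeometricallyIntegral (pullback.snd Y.hom v))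
  haveI : IsIntegral (F.obj X).left := Groth.Agent.H23.MaxAbelian.isIntegral_of_geometricallyIntegral
  haveI : IsIntegral (F.obj Y).left := Groth.Agent.H23.MaxAbelian.isIntegral_of_geometricallyIntegral
  haveI : IsIso (toUnit (F.obj (𝟙_ (Over (Spec (CommRingCat.of k)))))) := by
    haveI : IsIso ((Over.forget _).map (toUnit (F.obj (𝟙_ (Over (Spec (CommRingCat.of k))))))) :=
      (inferInstance : IsIso (pullback.snd (𝟙 (Spec (CommRingCat.of k))) v))
    exact isIso_of_reflects_iso _ (Over.forget _)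
  let t := inv (toUnit (F.obj (𝟙_ (Over (Spec (CommRingCat.of k))))))
  have ht : ∀ Z : Over (Spec (CommRingCat.of k)), F.map (toUnit Z) = toUnit (F.obj Z) ≫ t := fun Z => by
    rw [IsIso.eq_comp_inv]; exact toUnit_unique _ _
  let m := CartesianMonoidalCategory.prodComparison F X Y
  let ψ : F.obj X ⊗ F.obj Y ⟶ GK := inv m ≫ F.map Φ
  have hone : ∀ Z : Over (Spec (CommRingCat.of k)), F.map (1 : Z ⟶ G) = 1 := fun Z => map_one (F.homMonoidHom)
  have hψX : lift (𝟙 (F.obj X)) (toUnit (F.obj X) ≫ t ≫ F.map y₀) ≫ ψ = 1 := by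
    have e : lift (𝟙 (F.obj X)) (toUnit (F.obj X) ≫ t ≫ F.map y₀) ≫ inv m = F.map (lift (𝟙 X) (toUnit X ≫ y₀)) := by
      rw [IsIso.comp_inv_eq]
      ext1
      · rw [Category.assoc, CartesianMonoidalCategory.prodComparison_fst, ← F.map_comp, lift_fst, lift_fst, F.map_id]
      · rw [Category.assoc, CartesianMonoidalCategory.prodComparison_snd, ← F.map_comp, lift_snd, lift_snd, F.map_comp, ht, Category.assoc]
    rw [← Category.assoc, e, ← F.map_comp, hsX, hone]
  have hψY : lift (toUnit (F.obj Y) ≫ t ≫ F.map x₀) (𝟙 (F.obj Y)) ≫ ψ = 1 := by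
    have e : lift (toUnit (F.obj Y) ≫ t ≫ F.map x₀) (𝟙 (F.obj Y)) ≫ inv m = F.map (lift (toUnit Y ≫ x₀) (𝟙 Y)) := by
      rw [IsIso.comp_inv_eq]
      ext1
      · rw [Category.assoc, CartesianMonoidalCategory.prodComparison_fst, ← F.map_comp, lift_fst, lift_fst, F.map_comp, ht, Category.assoc]
      · rw [Category.assoc, CartesianMonoidalCategory.prodComparison_snd, ← F.map_comp, lift_snd, lift_snd, F.map_id]
    rw [← Category.assoc, e, ← F.map_comp, hsY, hone]
  have hψq : ψ ≫ qK = toUnit _ ≫ η[AK] := by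
    rw [← Hom.one_def]
    refine Groth.Agent.AVTors.VarProd.eq_one_of_slices (ψ ≫ qK) (t ≫ F.map x₀) (t ≫ F.map y₀) ?_ ?_
    · rw [← Category.assoc, hψX, MonObj.one_comp]
    · rw [← Category.assoc, hψY, MonObj.one_comp]
  let τ := hkerK.lift ψ (toUnit _) hψq
  have hτ : τ ≫ iK = ψ := hkerK.lift_fst _ _ _
  have hτX : lift (𝟙 (F.obj X)) (toUnit (F.obj X) ≫ t ≫ F.map y₀) ≫ τ = 1 := by
    rw [← cancel_mono iK, Category.assoc, hτ, hψX, MonObj.one_comp]
  have hτY : lift (toUnit (F.obj Y) ≫ t ≫ F.map x₀) (𝟙 (F.obj Y)) ≫ τ = 1 := by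
    rw [← cancel_mono iK, Category.assoc, hτ, hψY, MonObj.one_comp]
  have hτ1 : τ = 1 := toT τ fun c => by
    refine Groth.Agent.AVTors.TorusPts.eq_one_of_slices (t ≫ F.map x₀) (t ≫ F.map y₀) _ ?_
      (pullT _ τ c hτX) (pullT _ τ c hτY)
    exact (Groth.Agent.AVTors.TorusPts.isUnit_chi _ c).mul (Groth.Agent.AVTors.TorusPts.isUnit_chi _ c).ringInverse
  refine faith _ _ ?_
  rw [hone, ← IsIso.hom_inv_id_assoc m (F.map Φ)]
  show m ≫ ψ = 1
  rw [← hτ, hτ1, MonObj.one_comp, MonObj.comp_one]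

end Groth.Agent.S14595
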