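import Groth.Statements.S14596
import Groth.Agent.AGFLib.BorelExist
import Groth.Agent.AGFLib.QuasiComp.LiftPts
import Groth.Agent.DSPtsLib.Basic
import Groth.Agent.GrpSchLib.GenQuot
import Groth.Agent.GrpSchLib.Action
import Groth.Agent.GrpSchLib.AntiAffineHom
import Groth.Agent.H23.RedSub
-- import your own Groth.Agent.* helpers here

set_option autoImplicit false
set_option backward.isDefEq.respectTransparency false
set_option backward.isDefEq.respectTransparency.types false
set_option linter.style.haveILetI false
universe u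
open CategoryTheory MonoidalCategory CartesianMonoidalCategory MonObj GrpObj AlgebraicGeometry CategoryTheory.Limits
open AlgGrp

namespace Groth.Agent.S14596

open Groth.Agent

variable {k : Type u} [Field k]

/-- A subgroup scheme containing the image of a reduced scheme receives a map from it. -/
theorem exists_lift {W H G : Over (Spec (CommRingCat.of k))} [IsReduced W.left] (h : H ⟶ G) [IsClosedImmersion h.left]
    (w : W ⟶ G) (hr : Set.range w.left ⊆ Set.range h.left) : ∃ v : W ⟶ H, v ≫ h = w := by
  obtain ⟨v, hv⟩ := H23.RedSub.exists_lift_closed w.left h.left hr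
  exact ⟨Over.homMk v (by rw [← Over.w h, reassoc_of% hv, Over.w w]), Over.OverMorphism.ext hv⟩

variable {K : Type u} [Field K] [Algebra k K]

/-- A closed point carries a point over an algebraically closed extension. -/
theorem exists_geomPt [IsAlgClosed K] (X : Over (Spec (CommRingCat.of k))) [LocallyOfFiniteType X.hom]
    {x : X.left} (hx : IsClosed {x}) :
    ∃ z : Over.mk (Spec.map (CommRingCat.ofHom (algebraMap k K))) ⟶ X, x ∈ Set.range z.left := by
  let g := X.left.fromSpecResidueField x ≫ X.hom
  haveI : IsClosedImmersion (X.left.fromSpecResidueField x) :=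
    IsClosedImmersion.of_isPreimmersion _ (by rw [Scheme.range_fromSpecResidueField]; exact hx)
  haveI : IsFinite g := by
    haveI : LocallyQuasiFinite g := LocallyQuasiFinite.of_injective fun a b _ => Subsingleton.elim a b
    exact IsFinite.of_locallyQuasiFinite g
  letI : Algebra k (X.left.residueField x) := (Spec.preimage g).hom.toAlgebra
  have hg : g = Spec.map (CommRingCat.ofHom (algebraMap k (X.left.residueField x))) := by
    rw [RingHom.algebraMap_toAlgebra, CommRingCat.ofHom_hom, Spec.map_preimage]
  haveI : Module.Finite k (X.left.residueField x) := by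
    have := (IsFinite.SpecMap_iff (CommRingCat.ofHom (algebraMap k (X.left.residueField x)))).1 (hg ▸ ‹IsFinite g›)
    exact RingHom.finite_algebraMap.1 this
  let φ : X.left.residueField x →ₐ[k] K := IsAlgClosed.lift
  refine ⟨Over.homMk (Spec.map (CommRingCat.ofHom φ.toRingHom) ≫ X.left.fromSpecResidueField x) ?_,
    IsLocalRing.closedPoint K, ?_⟩
  · show (_ ≫ _) ≫ X.hom = _
    rw [Category.assoc]
    show _ ≫ g = _
    rw [hg, ← Spec.map_comp]
    congr 1
    exact CommRingCat.hom_ext (RingHom.ext φ.commutes)
  · exact X.left.fromSpecResidueField_apply x _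

/-- A finite scheme over a field has discrete underlying space. -/
theorem discreteTopology_of_finite (X : Over (Spec (CommRingCat.of k))) [IsFinite X.hom] : DiscreteTopology X.left := by
  haveI : Finite X.left := by
    refine Set.finite_univ_iff.1 ((X.hom.finite_preimage_singleton (IsLocalRing.closedPoint k)).subset fun x _ => ?_)
    exact Subsingleton.elim (α := Spec (CommRingCat.of k)) _ _
  haveI : JacobsonSpace X.left := LocallyOfFiniteType.jacobsonSpace X.hom
  haveI : T1Space X.left := ⟨fun x => by
    have h : closedPoints X.left = Set.univ := by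
      have hc : IsClosed (closedPoints X.left) := by
        rw [← Set.biUnion_of_singleton (closedPoints X.left)]
        exact (Set.toFinite _).isClosed_biUnion fun y hy => hy
      rw [← hc.closure_eq, closure_closedPoints]
    exact h.ge (Set.mem_univ x)⟩
  exact Finite.instDiscreteTopology

set_option maxHeartbeats 1000000 in
set_option synthInstance.maxHeartbeats 200000 in
/-- Let k be a perfect field, G a k-group scheme of finite type and r₀ : G⁰_red → G the reduced neutral
component of G, i.e. a homomorphism and closed immersion from a reduced k-group scheme whose image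
is the connected component of the identity. Then the homogeneous space G/G⁰_red is finite, and
G⁰_red is the smallest closed subgroup scheme H of G such that G/H is finite: every such H contains
G⁰_red. -/
theorem result (k : Type u) [Field k] [PerfectField k]
    (G G₀ : Over (Spec (CommRingCat.of k))) [GrpObj G] [GrpObj G₀] [LocallyOfFiniteType G.hom] [QuasiCompact G.hom]
    [LocallyOfFiniteType G₀.hom] [QuasiCompact G₀.hom]
    (r₀ : G₀ ⟶ G) [IsMonHom r₀] [IsClosedImmersion r₀.left] [IsReduced G₀.left] (t : ↥((𝟙_ (Over (Spec (CommRingCat.of k)))).left))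
    (hr₀ : Set.range ⇑r₀.left.base = connectedComponent ((η[G]).left.base t)) :
    (∀ (X : Over (Spec (CommRingCat.of k))) (a : AlgGrp.Action G X) (o : 𝟙_ (Over (Spec (CommRingCat.of k))) ⟶ X), AGF.IsQuotient r₀ X a o → IsFinite X.hom) ∧
    ∀ (H : Over (Spec (CommRingCat.of k))) [GrpObj H] (h : H ⟶ G) [IsMonHom h] [IsClosedImmersion h.left]
      (X : Over (Spec (CommRingCat.of k))) (a : AlgGrp.Action G X) (o : 𝟙_ (Over (Spec (CommRingCat.of k))) ⟶ X),
      AGF.IsQuotient h X a o → IsFinite X.hom → ∃ g : G₀ ⟶ H, g ≫ h = r₀ := by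
  haveI := GrpSchLib.AntiAffine.isSeparated_grp G
  haveI : Subsingleton ↥(𝟙_ (Over (Spec (CommRingCat.of k)))).left :=
    inferInstanceAs (Subsingleton (PrimeSpectrum k))
  refine ⟨fun X a o hX => ?_, fun H _ h _ _ X a o hX hXf => ?_⟩
  · obtain ⟨hl, hf, hs, sq⟩ := hX
    haveI := hl; haveI := hs
    let K : Type u := AlgebraicClosure k
    let σ : Spec (CommRingCat.of K) ⟶ Spec (CommRingCat.of k) := Spec.map (CommRingCat.ofHom (algebraMap k K))
    haveI : LocallyOfFiniteType (Red.bc σ G).hom := inferInstanceAs (LocallyOfFiniteType (pullback.snd G.hom σ))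
    haveI : QuasiCompact (Red.bc σ G).hom := inferInstanceAs (QuasiCompact (pullback.snd G.hom σ))
    obtain ⟨P0, _, ι', hι, -, -, hP0c, -, S, hS, hcov⟩ := AGFLib.BorelExist.exists_idComp (P := (Red.bc σ G))
    haveI := hι; haveI := hP0c
    let P : Over (Spec (CommRingCat.of k)) := Over.mk σ
    haveI : Subsingleton P.left := inferInstanceAs (Subsingleton (PrimeSpectrum K))
    haveI : IsReduced P.left := inferInstanceAs (IsReduced (Spec (CommRingCat.of K)))
    let e : P ⟶ (Over.map σ).obj (𝟙_ (Over (Spec (CommRingCat.of K)))) :=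
      Over.homMk (𝟙 (Spec (CommRingCat.of K))) (by
        show 𝟙 _ ≫ 𝟙 (Spec (CommRingCat.of K)) ≫ σ = σ
        simp)
    haveI : IsIso e := by
      haveI : IsIso ((Over.forget _).map e) := inferInstanceAs (IsIso (𝟙 (Spec (CommRingCat.of K))))
      exact isIso_of_reflects_iso e (Over.forget _)
    let π : (𝟙_ (Over (Spec (CommRingCat.of K))) ⟶ (Red.bc σ G)) → (P ⟶ G) := fun t => e ≫ DSPtsLib.theta σ t
    have hπ : ∀ u v, π (u * v) = π u * π v := fun u v => by
      simp only [π, DSPtsLib.theta_mul, MonObj.comp_mul]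
    have hπsurj : ∀ g, ∃ t, π t = g := fun g => by
      obtain ⟨t, ht⟩ := (DSPtsLib.theta_bijective σ).2 (inv e ≫ g)
      exact ⟨t, by simp [π, ht]⟩
    have hπ1 : π (1 : 𝟙_ (Over (Spec (CommRingCat.of K))) ⟶ Red.bc σ G) = 1 := by
      have h1 := hπ (1 : 𝟙_ (Over (Spec (CommRingCat.of K))) ⟶ Red.bc σ G) 1
      rw [_root_.mul_one] at h1
      exact left_eq_mul.1 h1
    -- the identity component goes into the connected component of the unit
    let p : (Red.bc σ G).left ⟶ G.left := pullback.fst G.hom σ
    have hC : ∀ q, ∃ v : P ⟶ G₀, v ≫ r₀ = π (q ≫ ι') := fun q => by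
      refine exists_lift r₀ _ ?_
      rw [hr₀]
      rintro _ ⟨z, rfl⟩
      let x₀ : P0.left := (1 : 𝟙_ (Over (Spec (CommRingCat.of K))) ⟶ P0).left z
      have hcon : (ι'.left ≫ p) '' Set.univ ⊆ connectedComponent ((ι'.left ≫ p) x₀) :=
        (isPreconnected_univ.image _ (ι'.left ≫ p).continuous.continuousOn).subset_connectedComponent
          ⟨x₀, trivial, rfl⟩
      have e1 : (ι'.left ≫ p) x₀ = (η[G]).left.base t := by
        have : (ι'.left ≫ p) x₀ = (π ((1 : 𝟙_ (Over (Spec (CommRingCat.of K))) ⟶ P0) ≫ ι')).left z := rfl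
        rw [this, MonObj.one_comp, hπ1, Hom.one_def, Over.comp_left, Scheme.Hom.comp_apply]
        exact congrArg _ (Subsingleton.elim _ _)
      rw [← e1]
      exact hcon ⟨q.left z, trivial, rfl⟩
    have hstab : ∀ (g : P ⟶ G) (v : P ⟶ G₀), (g * (v ≫ r₀)) ≫ a.orbitMap o = g ≫ a.orbitMap o := fun g v => by
      have := congrArg (lift g v ≫ ·) sq.w
      rw [← Category.assoc, ← Category.assoc (lift g v), lift_fst,
        show lift g v ≫ (G ◁ r₀) ≫ μ[G] = g * (v ≫ r₀) by
          rw [show (G ◁ r₀) ≫ μ[G] = GrpSchLib.GenQuot.act r₀ from rfl, GrpSchLib.GenQuot.comp_act, lift_fst,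
            lift_snd_assoc]] at this
      exact this.symm
    haveI : Finite (P ⟶ X) := by
      haveI : Finite S := hS.to_subtype
      refine Finite.of_surjective (fun s : S => π s.1 ≫ a.orbitMap o) fun x => ?_
      obtain ⟨g, rfl⟩ := AGFLib.QuasiComp.exists_geomPt_lift (a.orbitMap o) x
      obtain ⟨g', rfl⟩ := hπsurj g
      obtain ⟨s, hsS, q, rfl⟩ := hcov g'
      obtain ⟨v, hv⟩ := hC q
      exact ⟨⟨s, hsS⟩, by rw [hπ, ← hv, hstab]⟩
    haveI : CompactSpace G.left := QuasiCompact.compactSpace_of_compactSpace G.hom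
    haveI : CompactSpace X.left := (a.orbitMap o).left.surjective.compactSpace (a.orbitMap o).left.continuous
    haveI : QuasiCompact X.hom := (quasiCompact_iff_compactSpace X.hom).mpr inferInstance
    haveI : JacobsonSpace X.left := LocallyOfFiniteType.jacobsonSpace X.hom
    have hfin : (closedPoints X.left).Finite := by
      refine (Set.finite_range fun z : P ⟶ X => z.left (IsLocalRing.closedPoint K)).subset fun x hx => ?_
      obtain ⟨z, t', rfl⟩ := exists_geomPt (K := K) X hx
      exact ⟨z, congrArg _ (Subsingleton.elim _ _)⟩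
    have hall : closedPoints X.left = Set.univ := by
      have hc : IsClosed (closedPoints X.left) := by
        rw [← Set.biUnion_of_singleton (closedPoints X.left)]
        exact hfin.isClosed_biUnion fun y hy => hy
      rw [← hc.closure_eq, closure_closedPoints]
    haveI : Finite X.left := Set.finite_univ_iff.1 (hall ▸ hfin)
    haveI : LocallyQuasiFinite X.hom := LocallyQuasiFinite.of_finite_preimage_singleton X.hom fun _ => Set.toFinite _
    exact IsFinite.of_locallyQuasiFinite X.hom
  · obtain ⟨hl, hf, hs, sq⟩ := hX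
    haveI := discreteTopology_of_finite X
    haveI : ConnectedSpace G₀.left := by
      rw [connectedSpace_iff_univ]
      have h1 := isConnected_connectedComponent (x := (η[G]).left.base t)
      rw [← hr₀, ← Set.image_univ] at h1
      obtain ⟨_, ⟨y, -, -⟩⟩ := h1.1
      exact ⟨⟨y, trivial⟩, r₀.left.isClosedEmbedding.isInducing.isPreconnected_image.mp h1.2⟩
    let φ := r₀ ≫ a.orbitMap o
    have hunit : η[G] ≫ a.orbitMap o = o := by
      rw [AlgGrp.Action.orbitMap, ← Category.assoc, comp_lift, Category.comp_id, ← Category.assoc,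
        toUnit_unique (η[G] ≫ toUnit G) (𝟙 _), Category.id_comp, MonObj.one_eq_one, GrpSchLib.act_one]
    obtain ⟨x₀, hx₀⟩ : ∃ x₀, r₀.left x₀ = (η[G]).left.base t := by
      have : (η[G]).left.base t ∈ Set.range ⇑r₀.left.base := hr₀ ▸ mem_connectedComponent
      exact this
    haveI : IsSeparated X.hom := inferInstance
    haveI : IsClosedImmersion o.left := by
      haveI : IsClosedImmersion (o.left ≫ X.hom) := by
        rw [Over.w o]; exact inferInstanceAs (IsClosedImmersion (𝟙 _))
      exact IsClosedImmersion.of_comp o.left X.hom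
    have hpt : φ.left x₀ = o.left t := by
      show (a.orbitMap o).left (r₀.left x₀) = _
      rw [hx₀, ← Scheme.Hom.comp_apply, ← Over.comp_left, hunit]
    obtain ⟨v, hv⟩ := exists_lift o φ (by
      rintro _ ⟨y, rfl⟩
      exact ⟨t, by rw [← hpt]; exact (PreconnectedSpace.constant inferInstance φ.left.continuous).symm⟩)
    have hv' : r₀ ≫ a.orbitMap o = (1 : G₀ ⟶ G) ≫ a.orbitMap o := by
      show φ = _
      rw [← hv, toUnit_unique v (toUnit G₀), Hom.one_def, Category.assoc, hunit]
    let l := sq.lift (1 : G₀ ⟶ G) r₀ hv'.symm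
    refine ⟨l ≫ snd G H, ?_⟩
    have h1 : l ≫ fst G H = 1 := sq.lift_fst _ _ _
    have h2 : l ≫ ((G ◁ h) ≫ μ[G]) = r₀ := sq.lift_snd _ _ _
    rw [GrpSchLib.GenQuot.comp_act, h1, _root_.one_mul] at h2
    rw [Category.assoc]
    exact h2

end Groth.Agent.S14596
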