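import Groth.Statements.S1460
import Mathlib.RingTheory.Extension.Presentation.Core
-- import your own Groth.Agent.* helpers here

set_option autoImplicit false
set_option backward.isDefEq.respectTransparency.types false
universe u
open FlatMor

namespace Groth.Agent.S1460

open AlgebraicGeometry CategoryTheory Limits in
/-- Let f : X → S be a morphism of finite presentation between affine schemes. Then f is the base change
of a morphism of finite type f₀ : X₀ → S₀ between affine schemes with S₀ of finite type over ℤ. -/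
theorem result {X S : Scheme.{u}} (f : X ⟶ S) [IsAffine X] [IsAffine S] [LocallyOfFinitePresentation f] :
    ∃ (X₀ S₀ : Scheme.{u}) (f₀ : X₀ ⟶ S₀) (g : S ⟶ S₀) (g' : X ⟶ X₀), IsAffine X₀ ∧ IsAffine S₀ ∧ IsPullback g' f f₀ g ∧
      Algebra.FiniteType ℤ Γ(S₀, ⊤) ∧ LocallyOfFiniteType f₀ := by
  letI := f.appTop.hom.toAlgebra
  haveI : Algebra.FinitePresentation Γ(S, ⊤) Γ(X, ⊤) :=
    (HasRingHomProperty.iff_of_isAffine (P := @LocallyOfFinitePresentation)).mp ‹_›
  let P := Algebra.Presentation.ofFinitePresentation Γ(S, ⊤) Γ(X, ⊤)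
  let C := P.Core
  let B₀ := P.ModelOfHasCoeffs C
  let e := P.tensorModelOfHasCoeffsEquiv C
  have hp := CommRingCat.isPushout_tensorProduct C Γ(S, ⊤) B₀
  let h := isPullback_SpecMap_of_isPushout _ _ _ _ hp
  let ei : CommRingCat.of (TensorProduct C Γ(S, ⊤) B₀) ≅ Γ(X, ⊤) :=
    RingEquiv.toCommRingCatIso (R := CommRingCat.of (TensorProduct C Γ(S, ⊤) B₀)) e.toRingEquiv
  let iX : X ≅ Spec (CommRingCat.of (TensorProduct C Γ(S, ⊤) B₀)) :=
    X.isoSpec ≪≫ Scheme.Spec.mapIso ei.op
  have he : CommRingCat.ofHom (Algebra.TensorProduct.includeLeftRingHom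
      (R := C) (A := Γ(S, ⊤)) (B := B₀)) ≫ ei.hom = f.appTop := by
    ext x
    exact e.commutes x
  have hcomm : f ≫ S.isoSpec.hom = iX.hom ≫ Spec.map (CommRingCat.ofHom
      (Algebra.TensorProduct.includeLeftRingHom (R := C) (A := Γ(S, ⊤)) (B := B₀))) := by
    rw [← Scheme.isoSpec_hom_naturality, ← he, Spec.map_comp]
    simp only [iX, Iso.trans_hom, Functor.mapIso_hom, Iso.op_hom, Category.assoc]
    rfl
  refine ⟨Spec (CommRingCat.of B₀), Spec (CommRingCat.of C), Spec.map (CommRingCat.ofHom (algebraMap C B₀)),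
    S.isoSpec.hom ≫ Spec.map (CommRingCat.ofHom (algebraMap C Γ(S, ⊤))),
    iX.hom ≫ Spec.map (CommRingCat.ofHom (Algebra.TensorProduct.includeRight (R := C) (A := Γ(S, ⊤))
      (B := B₀)).toRingHom), inferInstance, inferInstance, ?_, ?_, ?_⟩
  · exact h.flip.of_iso iX.symm (Iso.refl _) S.isoSpec.symm (Iso.refl _) (by simp) (by
      simp only [Iso.symm_hom, Category.assoc]
      rw [Iso.eq_inv_comp, ← Category.assoc, Iso.comp_inv_eq]
      exact hcomm.symm) (by simp) (by simp)
  · haveI : Algebra.FiniteType ℤ C := inferInstance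
    have := (Scheme.ΓSpecIso (CommRingCat.of C)).commRingCatIsoToRingEquiv
    exact Algebra.FiniteType.equiv ‹Algebra.FiniteType ℤ C› this.symm.toIntAlgEquiv
  · rw [HasRingHomProperty.Spec_iff (P := @LocallyOfFiniteType)]
    exact RingHom.finiteType_algebraMap.mpr inferInstance

end Groth.Agent.S1460
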