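import Groth.Statements.S14601
import Groth.Agent.AGF20Lib.SemiabExp
-- import your own Groth.Agent.* helpers here

set_option autoImplicit false
set_option backward.isDefEq.respectTransparency.types false
set_option maxHeartbeats 1000000
set_option backward.isDefEq.respectTransparency false
set_option synthInstance.maxHeartbeats 400000
set_option linter.style.haveILetI false
universe u
open CategoryTheory MonoidalCategory CartesianMonoidalCategory MonObj GrpObj AlgebraicGeometry CategoryTheory.Limits
open AlgGrp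
open scoped CategoryTheory.Obj
open Groth.Agent.GrpSchLib Groth.Agent.AGF20Lib

namespace Groth.Agent.S14601

/-- Let k be a field of characteristic p > 0, G a commutative k-group scheme of finite type and s : S →
G its largest semi-abelian subvariety, i.e. a closed subgroup scheme which is an extension of a
proper smooth connected k-group scheme by a torus and through which every other such closed subgroup
scheme of G factors. Then (1) for every flat surjective homomorphism q : G → Q of k-group schemes of
finite type with kernel S, the group scheme Q has finite exponent: its n-th power endomorphism is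
trivial for some n ≥ 1; and (2) there is a closed subgroup scheme h : H → G such that G = S · H, in
the sense that the multiplication S × H → G is flat and surjective, and S ∩ H = S ×_G H is finite
over k. -/
theorem result (k : Type u) [Field k]
    (p : ℕ) [Fact p.Prime] [CharP k p]
    (G : Over (Spec (CommRingCat.of k))) [GrpObj G] [IsCommMonObj G] [LocallyOfFiniteType G.hom] [QuasiCompact G.hom]
    (S : Over (Spec (CommRingCat.of k))) [GrpObj S] (s : S ⟶ G) [IsMonHom s] [IsClosedImmersion s.left] (hS : (∃ (T : Over (Spec (CommRingCat.of k))) (_ : GrpObj T) (i : T ⟶ S) (A : Over (Spec (CommRingCat.of k))) (_ : GrpObj A) (q : S ⟶ A),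
        IsMonHom i ∧ IsClosedImmersion i.left ∧ Red.IsTorus T ∧ IsMonHom q ∧ Surjective q.left ∧ Flat q.left ∧
        AlgGrp.IsKernel i q ∧ IsProper A.hom ∧ Smooth A.hom ∧ ConnectedSpace ↥A.left))
    (hSmax : ∀ (S' : Over (Spec (CommRingCat.of k))) [GrpObj S'] (s' : S' ⟶ G) [IsMonHom s'] [IsClosedImmersion s'.left],
      (∃ (T : Over (Spec (CommRingCat.of k))) (_ : GrpObj T) (i : T ⟶ S') (A : Over (Spec (CommRingCat.of k))) (_ : GrpObj A) (q : S' ⟶ A),
        IsMonHom i ∧ IsClosedImmersion i.left ∧ Red.IsTorus T ∧ IsMonHom q ∧ Surjective q.left ∧ Flat q.left ∧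
        AlgGrp.IsKernel i q ∧ IsProper A.hom ∧ Smooth A.hom ∧ ConnectedSpace ↥A.left) → ∃ g : S' ⟶ S, g ≫ s = s') :
    (∀ (Q : Over (Spec (CommRingCat.of k))) [GrpObj Q] [LocallyOfFiniteType Q.hom] [QuasiCompact Q.hom] (q : G ⟶ Q) [IsMonHom q]
        [Surjective q.left] [Flat q.left], AlgGrp.IsKernel s q → ∃ n : ℕ, 0 < n ∧ (𝟙 Q) ^ n = 1) ∧
    ∃ (H : Over (Spec (CommRingCat.of k))) (_ : GrpObj H) (h : H ⟶ G), IsMonHom h ∧ IsClosedImmersion h.left ∧
      Flat ((s ⊗ₘ h) ≫ μ[G]).left ∧ Surjective ((s ⊗ₘ h) ≫ μ[G]).left ∧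
      IsFinite (pullback.fst s.left h.left ≫ S.hom) := by
  haveI := AntiAffine.isSeparated_grp G
  haveI : Mono s := SemiabIsog.mono_ci s
  obtain ⟨_, _⟩ := SemiabSub.lft_qc s
  haveI : IsCommMonObj S := SemiabIsog.isCommMonObj_of_mono s
  obtain ⟨n, u, hn, hu⟩ := SemiabExp.exists_factor p s hSmax
  refine ⟨fun Q _ _ _ q _ _ _ hk => ⟨n, hn, ?_⟩, ?_⟩
  · haveI := LocallyOfFiniteType.isLocallyNoetherian Q.hom
    haveI : LocallyOfFiniteType (q.left ≫ Q.hom) := by rw [Over.w]; infer_instance
    haveI := locallyOfFiniteType_of_comp q.left Q.hom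
    refine SemiabDescent.eq_of_epi_quot q ?_
    rw [SemiabExp.pow_apply, MonObj.comp_one, ← Category.id_comp q, ← TorusQI.npow_comp, ← hu, Category.assoc, hk.w,
      ← Category.assoc, comp_toUnit, ← Hom.one_def]
  · haveI : IsMonHom ((𝟙 G) ^ n) := SemiabIsog.isMonHom_powMap n
    obtain ⟨H, _, h, hh, hhc, -, hker⟩ := GrpSchLib.exists_kernel ((𝟙 G) ^ n)
    haveI := hh
    haveI := hhc
    haveI : Mono h := SemiabIsog.mono_ci h
    obtain ⟨hfin, hflat, hsurj⟩ := SemiabExp.pow_props (S := S) hS hn
    haveI := hfin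
    have hhn : h ^ n = 1 := by
      rw [← SemiabExp.pow_apply, hker.w, ← Hom.one_def]
    let f : S ⊗ H ⟶ G := (s ⊗ₘ h) ≫ μ[G]
    have hf : ∀ {W : Over (Spec (CommRingCat.of k))} (w : W ⟶ S ⊗ H),
        w ≫ f = (w ≫ fst S H ≫ s) * (w ≫ snd S H ≫ h) := fun {W} w => by
      show w ≫ (s ⊗ₘ h) ≫ μ = _
      rw [← CartesianMonoidalCategory.lift_fst_comp_snd_comp, ← Hom.mul_def, MonObj.comp_mul]
    have hf' : f = (fst S H ≫ s) * (snd S H ≫ h) := by simpa using hf (𝟙 _)
    have hsq : IsPullback f (fst S H) u ((𝟙 S) ^ n) := by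
      refine ⟨⟨?_⟩, ⟨PullbackCone.IsLimit.mk _ (fun c => lift c.snd (hker.lift (c.fst * (c.snd ≫ s)⁻¹) (toUnit _) ?_))
        (fun c => ?_) (fun c => lift_fst _ _) (fun c m h1 h2 => ?_)⟩⟩
      · rw [← cancel_mono s, Category.assoc, hu, SemiabExp.pow_apply, SemiabExp.pow_apply, TorusQI.npow_comp, hf',
          mul_pow, ← TorusQI.comp_npow (snd S H), hhn, MonObj.comp_one, _root_.mul_one]
      · have hc : c.fst ^ n = (c.snd ≫ s) ^ n := by
          rw [← SemiabExp.pow_apply c.fst, ← hu, ← Category.assoc, c.condition, SemiabExp.pow_apply,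
            TorusQI.npow_comp]
        rw [SemiabExp.pow_apply, mul_pow, inv_pow, hc, mul_inv_cancel]
        exact Hom.one_def
      · rw [hf, lift_fst_assoc, lift_snd_assoc, hker.lift_fst, mul_comm c.fst, mul_inv_cancel_left]
      · apply CartesianMonoidalCategory.hom_ext
        · rw [lift_fst]; exact h2
        · rw [lift_snd, ← cancel_mono h, hker.lift_fst, ← h1, ← h2, hf']
          simp only [MonObj.comp_mul, Category.assoc]
          rw [mul_comm, inv_mul_cancel_left]
    refine ⟨H, inferInstance, h, hh, hhc, ?_, ?_, ?_⟩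
    · exact MorphismProperty.of_isPullback (P := @Flat) (hsq.map (Over.forget _)).flip hflat
    · exact MorphismProperty.of_isPullback (P := @Surjective) (hsq.map (Over.forget _)).flip hsurj
    · let a := pullback.fst s.left h.left
      haveI : IsClosedImmersion a := MorphismProperty.pullback_fst _ _ hhc
      let Z : Over (Spec (CommRingCat.of k)) := Over.mk (a ≫ S.hom)
      let z : Z ⟶ S := Over.homMk a rfl
      let z' : Z ⟶ H := Over.homMk (pullback.snd s.left h.left) (by
        show pullback.snd s.left h.left ≫ H.hom = a ≫ S.hom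
        rw [← Over.w h, ← pullback.condition_assoc, Over.w s])
      have hzz : z ≫ s = z' ≫ h := Over.OverMorphism.ext pullback.condition
      have hz : z ≫ ((𝟙 S) ^ n) = toUnit Z ≫ η[S] := by
        rw [← Hom.one_def, SemiabExp.pow_apply, ← cancel_mono s, TorusQI.npow_comp, hzz, MonObj.one_comp,
          ← TorusQI.comp_npow, hhn, MonObj.comp_one]
      haveI : IsFinite (a ≫ ((𝟙 S) ^ n).left) := inferInstance
      haveI : IsFinite ((a ≫ S.hom) ≫ η[S].left) := by
        show IsFinite ((toUnit Z).left ≫ η[S].left)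
        rw [← Over.comp_left, ← hz, Over.comp_left]
        exact inferInstanceAs (IsFinite (a ≫ ((𝟙 S) ^ n).left))
      haveI : IsSeparated S.hom := AntiAffine.isSeparated_grp S
      haveI : IsSeparated η[S].left := by
        haveI : IsSeparated (η[S].left ≫ S.hom) := by rw [Over.w η[S]]; exact inferInstanceAs (IsSeparated (𝟙 _))
        exact IsSeparated.of_comp η[S].left S.hom
      exact IsFinite.of_comp (a ≫ S.hom) η[S].left

end Groth.Agent.S14601
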