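import Groth.Statements.S14603
import Groth.Agent.AGF20Lib.SemiabExp
-- import your own Groth.Agent.* helpers here

set_option autoImplicit false
set_option backward.isDefEq.respectTransparency.types false
set_option maxHeartbeats 1000000
set_option backward.isDefEq.respectTransparency false
set_option synthInstance.maxHeartbeats 400000
set_option linter.style.haveILetI false
universe u
open CategoryTheory MonoidalCategory CartesianMonoidalCategory MonObj GrpObj AlgebraicGeometry CategoryTheory.Limits
open AlgGrp
open scoped CategoryTheory.Obj
open Groth.Agent.GrpSchLib Groth.Agent.AGF20Lib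

namespace Groth.Agent.S14603

/-- Let k be a field of characteristic p > 0 and G a commutative k-group scheme of finite type. Then
G_sab is trivial — every closed subgroup scheme of G which is an extension of a proper smooth
connected k-group scheme by a torus is the trivial group — exactly when, for some positive integer
n, multiplication by n on G (the map n_G) is zero (G has finite exponent). (A third equivalent
condition, that G is affine with finite largest subgroup of multiplicative type, is not stated
here.) -/
theorem result (k : Type u) [Field k] (p : ℕ) [Fact p.Prime] [CharP k p]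
    (G : Over (Spec (CommRingCat.of k))) [GrpObj G] [IsCommMonObj G] [LocallyOfFiniteType G.hom] [QuasiCompact G.hom] :
    (∀ (S : Over (Spec (CommRingCat.of k))) [GrpObj S] (s : S ⟶ G) [IsMonHom s] [IsClosedImmersion s.left],
        (∃ (T : Over (Spec (CommRingCat.of k))) (_ : GrpObj T) (i : T ⟶ S) (A : Over (Spec (CommRingCat.of k))) (_ : GrpObj A) (q : S ⟶ A),
        IsMonHom i ∧ IsClosedImmersion i.left ∧ Red.IsTorus T ∧ IsMonHom q ∧ Surjective q.left ∧ Flat q.left ∧
        AlgGrp.IsKernel i q ∧ IsProper A.hom ∧ Smooth A.hom ∧ ConnectedSpace ↥A.left) → IsIso η[S]) ↔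
    ∃ n : ℕ, 0 < n ∧ (𝟙 G) ^ n = 1 := by
  constructor
  · intro h
    obtain ⟨S, _, s, hs, hsc, hS, hmax⟩ := SemiabSub.exists_largest (G := G)
    haveI := hs
    haveI := hsc
    obtain ⟨n, u, hn, hu⟩ := SemiabExp.exists_factor p s hmax
    haveI := h S s hS
    refine ⟨n, hn, ?_⟩
    have h1 : 𝟙 S = toUnit S ≫ η[S] := by
      rw [show toUnit S = inv η[S] from toUnit_unique _ _, IsIso.inv_hom_id]
    rw [← hu, ← Category.id_comp s, h1, Category.assoc, IsMonHom.one_hom s, ← Category.assoc, comp_toUnit,
      ← Hom.one_def]
  · rintro ⟨n, hn, hG⟩ S _ s _ _ hS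
    obtain ⟨_, _⟩ := SemiabSub.lft_qc s
    haveI : Mono s := SemiabIsog.mono_ci s
    haveI : IsCommMonObj S := SemiabIsog.isCommMonObj_of_mono s
    obtain ⟨hSs, -⟩ := SemiabSub.props hS
    haveI := hSs
    haveI : IsReduced S.left := isReduced_of_smooth_field S.hom
    obtain ⟨-, -, hsurj⟩ := SemiabExp.pow_props (S := S) hS hn
    have h1 : ((𝟙 S) ^ n) = toUnit S ≫ η[S] := by
      rw [← Hom.one_def, ← cancel_mono s, TorusQI.npow_comp, Category.id_comp, MonObj.one_comp,
        ← SemiabExp.pow_apply s, hG, MonObj.comp_one]
    haveI : Surjective ((toUnit S).left ≫ η[S].left) := by rw [← Over.comp_left, ← h1]; exact hsurj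
    haveI : Surjective η[S].left := Surjective.of_comp (toUnit S).left η[S].left
    haveI : IsSeparated S.hom := AntiAffine.isSeparated_grp S
    haveI : IsClosedImmersion η[S].left := by
      haveI : IsClosedImmersion (η[S].left ≫ S.hom) := by
        rw [Over.w η[S]]; exact inferInstanceAs (IsClosedImmersion (𝟙 (Spec (CommRingCat.of k))))
      exact IsClosedImmersion.of_comp η[S].left S.hom
    haveI : IsIso η[S].left := isIso_of_isClosedImmersion_of_surjective η[S].left
    haveI : IsIso ((Over.forget _).map η[S]) := inferInstanceAs (IsIso η[S].left)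
    exact isIso_of_reflects_iso η[S] (Over.forget _)

end Groth.Agent.S14603
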