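import Groth.Statements.S14605
import Groth.Agent.AGF20Lib.SemiabExp
-- import your own Groth.Agent.* helpers here

set_option autoImplicit false
set_option backward.isDefEq.respectTransparency.types false
set_option maxHeartbeats 1000000
set_option backward.isDefEq.respectTransparency false
set_option synthInstance.maxHeartbeats 400000
set_option linter.style.haveILetI false
universe u
open CategoryTheory MonoidalCategory CartesianMonoidalCategory MonObj GrpObj AlgebraicGeometry CategoryTheory.Limits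
open AlgGrp
open scoped CategoryTheory.Obj
open Groth.Agent.GrpSchLib Groth.Agent.AGF20Lib

namespace Groth.Agent.S14605

/-- Let k be a field of characteristic p > 0, G a commutative k-group scheme of finite type, h : H → G a
closed subgroup scheme and q : G → Q a flat surjective homomorphism of k-group schemes of finite
type with kernel H (Q = G/H). Let s : S → G and s' : S' → Q be the largest semi-abelian subvarieties
of G and of Q (closed subgroup schemes which are extensions of a proper smooth connected k-group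
scheme by a torus, through which every other such closed subgroup scheme factors). Then q maps S
onto S': the image of S → G → Q equals the underlying set of S'. Since S' is smooth, this is the
statement that G_sab/(G_sab ∩ H) → (G/H)_sab is an isomorphism. -/
theorem result (k : Type u) [Field k] (p : ℕ) [Fact p.Prime] [CharP k p]
    (G : Over (Spec (CommRingCat.of k))) [GrpObj G] [IsCommMonObj G] [LocallyOfFiniteType G.hom] [QuasiCompact G.hom]
    (H : Over (Spec (CommRingCat.of k))) [GrpObj H] (h : H ⟶ G) [IsMonHom h] [IsClosedImmersion h.left]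
    (Q : Over (Spec (CommRingCat.of k))) [GrpObj Q] [LocallyOfFiniteType Q.hom] [QuasiCompact Q.hom]
    (q : G ⟶ Q) [IsMonHom q] [Surjective q.left] [Flat q.left] (hq : AlgGrp.IsKernel h q)
    (S : Over (Spec (CommRingCat.of k))) [GrpObj S] (s : S ⟶ G) [IsMonHom s] [IsClosedImmersion s.left] (hS : (∃ (T : Over (Spec (CommRingCat.of k))) (_ : GrpObj T) (i : T ⟶ S) (A : Over (Spec (CommRingCat.of k))) (_ : GrpObj A) (q : S ⟶ A),
        IsMonHom i ∧ IsClosedImmersion i.left ∧ Red.IsTorus T ∧ IsMonHom q ∧ Surjective q.left ∧ Flat q.left ∧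
        AlgGrp.IsKernel i q ∧ IsProper A.hom ∧ Smooth A.hom ∧ ConnectedSpace ↥A.left))
    (hSmax : ∀ (S₁ : Over (Spec (CommRingCat.of k))) [GrpObj S₁] (s₁ : S₁ ⟶ G) [IsMonHom s₁] [IsClosedImmersion s₁.left],
      (∃ (T : Over (Spec (CommRingCat.of k))) (_ : GrpObj T) (i : T ⟶ S₁) (A : Over (Spec (CommRingCat.of k))) (_ : GrpObj A) (q : S₁ ⟶ A),
        IsMonHom i ∧ IsClosedImmersion i.left ∧ Red.IsTorus T ∧ IsMonHom q ∧ Surjective q.left ∧ Flat q.left ∧
        AlgGrp.IsKernel i q ∧ IsProper A.hom ∧ Smooth A.hom ∧ ConnectedSpace ↥A.left) → ∃ g : S₁ ⟶ S, g ≫ s = s₁)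
    (S' : Over (Spec (CommRingCat.of k))) [GrpObj S'] (s' : S' ⟶ Q) [IsMonHom s'] [IsClosedImmersion s'.left] (hS' : (∃ (T : Over (Spec (CommRingCat.of k))) (_ : GrpObj T) (i : T ⟶ S') (A : Over (Spec (CommRingCat.of k))) (_ : GrpObj A) (q : S' ⟶ A),
        IsMonHom i ∧ IsClosedImmersion i.left ∧ Red.IsTorus T ∧ IsMonHom q ∧ Surjective q.left ∧ Flat q.left ∧
        AlgGrp.IsKernel i q ∧ IsProper A.hom ∧ Smooth A.hom ∧ ConnectedSpace ↥A.left))
    (hS'max : ∀ (S₁ : Over (Spec (CommRingCat.of k))) [GrpObj S₁] (s₁ : S₁ ⟶ Q) [IsMonHom s₁] [IsClosedImmersion s₁.left],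
      (∃ (T : Over (Spec (CommRingCat.of k))) (_ : GrpObj T) (i : T ⟶ S₁) (A : Over (Spec (CommRingCat.of k))) (_ : GrpObj A) (q : S₁ ⟶ A),
        IsMonHom i ∧ IsClosedImmersion i.left ∧ Red.IsTorus T ∧ IsMonHom q ∧ Surjective q.left ∧ Flat q.left ∧
        AlgGrp.IsKernel i q ∧ IsProper A.hom ∧ Smooth A.hom ∧ ConnectedSpace ↥A.left) → ∃ g : S₁ ⟶ S', g ≫ s' = s₁) :
    Set.range ⇑(s ≫ q).left.base = Set.range ⇑s'.left.base := by
  haveI : Mono s := SemiabIsog.mono_ci s
  haveI : Mono s' := SemiabIsog.mono_ci s'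
  obtain ⟨_, _⟩ := SemiabSub.lft_qc s
  haveI : LocallyOfFiniteType S'.hom := by rw [← Over.w s']; infer_instance
  haveI : QuasiCompact S'.hom := by rw [← Over.w s']; infer_instance
  haveI := LocallyOfFiniteType.isLocallyNoetherian Q.hom
  haveI : LocallyOfFiniteType (q.left ≫ Q.hom) := by rw [Over.w]; infer_instance
  haveI := locallyOfFiniteType_of_comp q.left Q.hom
  haveI := CommAlgGrp.epi_tensor q
  haveI : IsCommMonObj Q := CommAlgGrp.isCommMonObj_of_epi q
  haveI : IsCommMonObj S' := SemiabIsog.isCommMonObj_of_mono s'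
  apply subset_antisymm
  · obtain ⟨I, _, a, i, ha, hi, hai, hic, haf, has, hIl, hIq⟩ := ImageFactor.exists_image (s ≫ q)
    haveI := ha; haveI := hi; haveI := hic; haveI := haf; haveI := has; haveI := hIl; haveI := hIq
    obtain ⟨g, hg⟩ := hS'max I i (SemiabSub.of_quot a hS)
    rintro _ ⟨x, rfl⟩
    refine ⟨(a ≫ g).left x, ?_⟩
    rw [← Scheme.Hom.comp_apply, ← Over.comp_left, Category.assoc, hg, hai]
  · obtain ⟨n, u, hn, hu⟩ := SemiabExp.exists_factor p s hSmax
    obtain ⟨-, -, hsurj⟩ := SemiabExp.pow_props (S := S') hS' hn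
    rintro _ ⟨y, rfl⟩
    obtain ⟨y', rfl⟩ := hsurj.surj y
    obtain ⟨g, hg⟩ := q.left.surjective (s'.left y')
    refine ⟨u.left g, ?_⟩
    have e : u ≫ s ≫ q = q ≫ ((𝟙 Q) ^ n) := by
      rw [← Category.assoc, hu, TorusQI.npow_comp, Category.id_comp, SemiabExp.pow_apply]
    have e' : ((𝟙 S') ^ n) ≫ s' = s' ≫ ((𝟙 Q) ^ n) := by
      rw [TorusQI.npow_comp, Category.id_comp, SemiabExp.pow_apply]
    rw [← Scheme.Hom.comp_apply, ← Scheme.Hom.comp_apply, ← Over.comp_left, ← Over.comp_left, e, e',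
      Over.comp_left, Over.comp_left, Scheme.Hom.comp_apply, Scheme.Hom.comp_apply, hg]

end Groth.Agent.S14605
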