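import Groth.Statements.S14606
import Mathlib.RingTheory.Nilpotent.GeometricallyReduced
import Mathlib.FieldTheory.Perfect
import Mathlib.RingTheory.Flat.Basic
import Mathlib.RingTheory.FiniteStability
import Mathlib.RingTheory.Noetherian.Nilpotent

set_option autoImplicit false
universe u
open FrobAlg
open scoped TensorProduct

namespace Groth.Agent.S14606

/-- Let k be a field of characteristic p > 0 and R a finitely generated commutative k-algebra. The
scheme-theoretic image of the n-th relative Frobenius morphism of Spec R is the spectrum of the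
k-subalgebra k[R^(p^n)] generated by all p^n-th powers; for n large enough this image is
geometrically reduced: there is an n such that k[R^(p^n)] is a geometrically reduced k-algebra.
(Stated in affine, ring-theoretic form.) -/
theorem result (k : Type u) [Field k] (p : ℕ) [Fact p.Prime] [CharP k p]
    (R : Type u) [CommRing R] [Algebra k R] [Algebra.FiniteType k R] :
    ∃ n : ℕ, Algebra.IsGeometricallyReduced k ↥(Algebra.adjoin k (Set.range (fun x : R => x ^ (p ^ n)))) := by
  classical
  let K := AlgebraicClosure k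
  haveI : Algebra.FiniteType K (K ⊗[k] R) := inferInstance
  haveI : IsNoetherianRing (K ⊗[k] R) := Algebra.FiniteType.isNoetherianRing K _
  haveI : CharP K p := charP_of_injective_algebraMap (algebraMap k K).injective p
  haveI : ExpChar K p := .prime Fact.out
  obtain ⟨N, hN⟩ := IsNoetherianRing.isNilpotent_nilradical (K ⊗[k] R)
  refine ⟨N, (Algebra.isGeometricallyReduced_field_iff _ _).mpr ?_⟩
  set A := Algebra.adjoin k (Set.range fun x : R => x ^ p ^ N) with hA
  let ι : K ⊗[k] A →ₐ[k] K ⊗[k] R := Algebra.TensorProduct.map (AlgHom.id k K) A.val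
  have hι : Function.Injective ι :=
    Module.Flat.lTensor_preserves_injective_linearMap (M := K) A.val.toLinearMap Subtype.val_injective
  haveI : Nontrivial K := inferInstance
  suffices himg : ∀ z, ∃ w : K ⊗[k] R, ι z = w ^ p ^ N by
    refine ⟨fun z hz => hι ?_⟩
    obtain ⟨w, hw⟩ := himg z
    have hwn : IsNilpotent w := by
      obtain ⟨m, hm⟩ := hz.map ι
      exact ⟨p ^ N * m, by rw [pow_mul, ← hw, hm]⟩
    have hle : N ≤ p ^ N := (Nat.lt_pow_self (Fact.out : p.Prime).one_lt).le
    have hmem : w ^ N ∈ nilradical (K ⊗[k] R) ^ N := Ideal.pow_mem_pow (mem_nilradical.mpr hwn) N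
    rw [hN, Ideal.zero_eq_bot, Ideal.mem_bot] at hmem
    rw [hw, map_zero, ← Nat.sub_add_cancel hle, pow_add, hmem, mul_zero]
  intro z
  by_cases hnt : Subsingleton (K ⊗[k] R)
  · exact ⟨0, Subsingleton.elim _ _⟩
  rw [not_subsingleton_iff_nontrivial] at hnt
  haveI : CharP (K ⊗[k] R) p := charP_of_injective_algebraMap (algebraMap K (K ⊗[k] R)).injective p
  haveI : ExpChar (K ⊗[k] R) p := .prime Fact.out
  let π := iterateFrobenius (K ⊗[k] R) p N
  have key : ∀ (c : K), ∀ a ∈ A, ∃ w, π w = c ⊗ₜ[k] (a : R) := by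
    intro c a ha
    induction ha using Algebra.adjoin_induction generalizing c with
    | mem x hx =>
      obtain ⟨y, rfl⟩ := hx
      obtain ⟨d, hd⟩ := (bijective_iterateFrobenius (R := K) p N).2 c
      exact ⟨d ⊗ₜ y, by rw [iterateFrobenius_def, Algebra.TensorProduct.tmul_pow, ← hd, iterateFrobenius_def]⟩
    | algebraMap r =>
      obtain ⟨d, hd⟩ := (bijective_iterateFrobenius (R := K) p N).2 (r • c)
      refine ⟨d ⊗ₜ 1, ?_⟩
      rw [iterateFrobenius_def, Algebra.TensorProduct.tmul_pow, one_pow, ← iterateFrobenius_def, hd,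
        TensorProduct.smul_tmul, Algebra.algebraMap_eq_smul_one]
    | add x y _ _ hx hy =>
      obtain ⟨v, hv⟩ := hx c
      obtain ⟨w, hw⟩ := hy c
      exact ⟨v + w, by rw [map_add, hv, hw, TensorProduct.tmul_add]⟩
    | mul x y _ _ hx hy =>
      obtain ⟨v, hv⟩ := hx c
      obtain ⟨w, hw⟩ := hy 1
      exact ⟨v * w, by rw [map_mul, hv, hw, Algebra.TensorProduct.tmul_mul_tmul, mul_one]⟩
  induction z using TensorProduct.induction_on with
  | zero => exact ⟨0, by rw [map_zero, zero_pow (pow_ne_zero _ (Fact.out : p.Prime).ne_zero)]⟩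
  | tmul c a =>
    obtain ⟨w, hw⟩ := key c a a.2
    exact ⟨w, by rw [← iterateFrobenius_def, show iterateFrobenius (K ⊗[k] R) p N w = π w from rfl, hw]; rfl⟩
  | add x y hx hy =>
    obtain ⟨v, hv⟩ := hx
    obtain ⟨w, hw⟩ := hy
    exact ⟨v + w, by rw [map_add, hv, hw, add_pow_expChar_pow]⟩

end Groth.Agent.S14606
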