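import Groth.Statements.S14608
import Mathlib
import Groth.Agent.FibreKer.Basic

set_option autoImplicit false
universe u v
open CAlg

namespace Groth.Agent.S14608

/-- A split injection from an exact sequence with projective cokernel. -/
theorem exists_leftInverse {R : Type*} [CommRing R] {X Y Z : Type*} [AddCommGroup X] [Module R X]
    [AddCommGroup Y] [Module R Y] [AddCommGroup Z] [Module R Z] [Module.Projective R Z]
    (f : X →ₗ[R] Y) (g : Y →ₗ[R] Z) (hf : Function.Injective f) (hg : Function.Surjective g)
    (h : Function.Exact f g) : ∃ r : Y →ₗ[R] X, r ∘ₗ f = LinearMap.id := by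
  have : Module.Projective R (Y ⧸ LinearMap.range f) :=
    Module.Projective.of_equiv (h.linearEquivOfSurjective hg).symm
  obtain ⟨r, hr⟩ := Groth.Agent.FibreKer.exists_retraction (LinearMap.range f)
  refine ⟨(LinearEquiv.ofInjective f hf).symm.toLinearMap ∘ₗ r, LinearMap.ext fun x => ?_⟩
  have := LinearMap.congr_fun hr ⟨f x, x, rfl⟩
  simp only [LinearMap.comp_apply, Submodule.coe_subtype, LinearMap.id_apply] at this ⊢
  rw [this]
  exact (LinearEquiv.ofInjective f hf).symm_apply_apply x

/-- Injectivity after tensoring with the residue field can be read over the local ring. -/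
theorem inj_iff {A : Type*} [CommRing A] (p : Ideal A) [p.IsPrime] {X Y : Type*} [AddCommGroup X]
    [Module A X] [AddCommGroup Y] [Module A Y] (g : X →ₗ[A] Y) :
    Function.Injective ((g.baseChange (Localization.AtPrime p)).lTensor p.ResidueField) ↔
      Function.Injective (g.lTensor p.ResidueField) := by
  let k := p.ResidueField
  let eX := TensorProduct.AlgebraTensorModule.cancelBaseChange A (Localization.AtPrime p) k k X
  let eY := TensorProduct.AlgebraTensorModule.cancelBaseChange A (Localization.AtPrime p) k k Y
  have h : ∀ z, eY ((g.baseChange (Localization.AtPrime p)).lTensor k z) = g.lTensor k (eX z) := by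
    intro z
    induction z using TensorProduct.induction_on with
    | zero => simp
    | add a b ha hb => simp [ha, hb]
    | tmul c w =>
      induction w using TensorProduct.induction_on with
      | zero => simp
      | add a b ha hb => rw [TensorProduct.tmul_add, map_add, map_add, map_add, map_add, ha, hb]
      | tmul a x => simp [eX, eY]
  constructor
  · intro hi a b hab
    obtain ⟨a, rfl⟩ := eX.surjective a
    obtain ⟨b, rfl⟩ := eX.surjective b
    rw [← h, ← h] at hab
    rw [hi (eY.injective hab)]
  · intro hi a b hab
    refine eX.injective (hi ?_)
    rw [← h, ← h, hab]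


open TensorProduct in
/-- Let A be a Noetherian ring, M a finitely generated A-module, F a finitely generated free A-module, δ
: M → F an A-linear map and p a prime of A with residue field κ(p). The following are equivalent:
(a) the natural map (ker δ) ⊗ κ(p) → ker(δ ⊗ κ(p)) is surjective (its image is the whole kernel);
(b) that map is bijective; (c) (F / im δ) localized at p is a free module over the local ring A_p.
Moreover, if these hold then (im δ) localized at p is free over A_p. (The published statement takes
M to be the cokernel of a map of finitely generated free modules; over a Noetherian ring this is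
every finitely generated M, which is what this row takes.) -/
theorem result (A : Type u) [CommRing A] [IsNoetherianRing A]
    (M : Type v) (F : Type v) [AddCommGroup M] [Module A M] [Module.Finite A M]
    [AddCommGroup F] [Module A F] [Module.Finite A F] [Module.Free A F]
    (δ : M →ₗ[A] F) (p : Ideal A) [p.IsPrime] :
    [ Function.Exact (LinearMap.lTensor p.ResidueField (LinearMap.ker δ).subtype)
        (LinearMap.lTensor p.ResidueField δ),
      Function.Exact (LinearMap.lTensor p.ResidueField (LinearMap.ker δ).subtype)
        (LinearMap.lTensor p.ResidueField δ) ∧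
        Function.Injective (LinearMap.lTensor p.ResidueField (LinearMap.ker δ).subtype),
      Module.Free (Localization.AtPrime p)
        (LocalizedModule p.primeCompl (F ⧸ LinearMap.range δ)) ].TFAE ∧
    (Function.Exact (LinearMap.lTensor p.ResidueField (LinearMap.ker δ).subtype)
        (LinearMap.lTensor p.ResidueField δ) →
      Module.Free (Localization.AtPrime p)
        (LocalizedModule p.primeCompl (LinearMap.range δ))) := by
  let Ap := Localization.AtPrime p
  let k := p.ResidueField
  let i : LinearMap.ker δ →ₗ[A] M := (LinearMap.ker δ).subtype
  let q : M →ₗ[A] LinearMap.range δ := δ.rangeRestrict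
  let j : LinearMap.range δ →ₗ[A] F := (LinearMap.range δ).subtype
  have hq : Function.Surjective q := δ.surjective_rangeRestrict
  have hiq : Function.Exact i q := by
    rw [LinearMap.exact_iff, LinearMap.ker_rangeRestrict, Submodule.range_subtype]
  have hδ : LinearMap.lTensor k δ = LinearMap.lTensor k j ∘ₗ LinearMap.lTensor k q := by
    rw [← LinearMap.lTensor_comp]
    rfl
  have hjb : Function.Injective (j.baseChange Ap) :=
    Module.Flat.lTensor_preserves_injective_linearMap (M := Ap) j Subtype.val_injective
  have hjm : Function.Exact (j.baseChange Ap) ((LinearMap.range δ).mkQ.baseChange Ap) :=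
    lTensor_exact Ap (LinearMap.exact_subtype_mkQ (LinearMap.range δ)) (Submodule.mkQ_surjective _)
  have hm : Function.Surjective ((LinearMap.range δ).mkQ.baseChange Ap) :=
    LinearMap.lTensor_surjective Ap (Submodule.mkQ_surjective _)
  have hib : Function.Exact (i.baseChange Ap) (q.baseChange Ap) := lTensor_exact Ap hiq hq
  have hiinj : Function.Injective (i.baseChange Ap) :=
    Module.Flat.lTensor_preserves_injective_linearMap (M := Ap) i Subtype.val_injective
  have hC : Module.Free (Localization.AtPrime p)
      (LocalizedModule p.primeCompl (F ⧸ LinearMap.range δ)) ↔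
      Module.Free Ap (Ap ⊗[A] (F ⧸ LinearMap.range δ)) :=
    ⟨fun _ => Module.Free.of_equiv (LocalizedModule.equivTensorProduct p.primeCompl _),
      fun _ => Module.Free.of_equiv (LocalizedModule.equivTensorProduct p.primeCompl _).symm⟩
  have hfree : Module.Free Ap (Ap ⊗[A] (F ⧸ LinearMap.range δ)) ↔
      Function.Injective (LinearMap.lTensor k j) := by
    constructor
    · intro _
      rw [← inj_iff]
      obtain ⟨r, hr⟩ := exists_leftInverse _ _ hjb hm hjm
      refine Function.LeftInverse.injective (g := r.lTensor p.ResidueField) fun x => ?_
      rw [← LinearMap.comp_apply, ← LinearMap.lTensor_comp, hr, LinearMap.lTensor_id]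
      rfl
    · intro h
      exact Module.free_of_lTensor_residueField_injective _ _ hm hjm ((inj_iff p j).2 h)
  have hIfree : Function.Injective (LinearMap.lTensor k j) →
      Module.Free Ap (Ap ⊗[A] LinearMap.range δ) := by
    intro h
    have := hfree.2 h
    obtain ⟨r, hr⟩ := exists_leftInverse _ _ hjb hm hjm
    have : Module.Projective Ap (Ap ⊗[A] LinearMap.range δ) := Module.Projective.of_split _ _ hr
    exact Module.free_of_flat_of_isLocalRing
  have ha : Function.Exact (LinearMap.lTensor k i) (LinearMap.lTensor k δ) ↔
      Function.Injective (LinearMap.lTensor k j) := by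
    constructor
    · intro h
      rw [injective_iff_map_eq_zero]
      intro a ha
      obtain ⟨b, rfl⟩ := LinearMap.lTensor_surjective k hq a
      obtain ⟨z, rfl⟩ := (h b).1 (by rw [hδ]; exact ha)
      exact (lTensor_exact k hiq hq).apply_apply_eq_zero z
    · intro h
      rw [hδ]
      exact (lTensor_exact k hiq hq).comp_injective _ h (map_zero _)
  refine ⟨?_, fun h => ?_⟩
  · tfae_have 1 → 3 := fun h => hC.2 (hfree.2 (ha.1 h))
    tfae_have 3 → 2 := fun h => by
      have hj := hfree.1 (hC.1 h)
      refine ⟨ha.2 hj, (inj_iff p i).1 ?_⟩
      have := hIfree hj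
      obtain ⟨r, hr⟩ := exists_leftInverse _ _ hiinj (LinearMap.lTensor_surjective Ap hq) hib
      refine Function.LeftInverse.injective (g := r.lTensor p.ResidueField) fun x => ?_
      rw [← LinearMap.comp_apply, ← LinearMap.lTensor_comp, hr, LinearMap.lTensor_id]
      rfl
    tfae_have 2 → 1 := fun h => h.1
    tfae_finish
  · have := hIfree (ha.1 h)
    exact Module.Free.of_equiv (LocalizedModule.equivTensorProduct p.primeCompl _).symm

end Groth.Agent.S14608
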