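import Groth.Statements.S14609
import Mathlib
import Groth.Agent.FibreKer.Basic

set_option autoImplicit false
universe u v
open CAlg

namespace Groth.Agent.S14609

open TensorProduct in
/-- Let A be a Noetherian ring, M a finitely generated A-module, F a finitely generated free A-module
and δ : M → F an A-linear map. Then the function on Spec A sending a prime p with residue field κ(p)
to the κ(p)-dimension of the kernel of δ ⊗ κ(p) : M ⊗ κ(p) → F ⊗ κ(p) is upper semicontinuous. -/
theorem result (A : Type u) [CommRing A]
    [IsNoetherianRing A] (M : Type v) (F : Type v) [AddCommGroup M] [Module A M] [Module.Finite A M]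
    [AddCommGroup F] [Module A F] [Module.Finite A F] [Module.Free A F] (δ : M →ₗ[A] F) :
    UpperSemicontinuous (fun x : PrimeSpectrum A =>
      Module.finrank x.asIdeal.ResidueField
        (LinearMap.ker (δ.baseChange x.asIdeal.ResidueField))) := by
  have h1 := Groth.Agent.FibreKer.isLocallyConstant_rk (A := A) F
  intro x n hn
  filter_upwards [(IsLocallyConstant.iff_eventually_eq _).1 h1 x,
    Groth.Agent.FibreKer.upperSemicontinuous_rk (A := A) M x _ (Nat.lt_succ_self _),
    Groth.Agent.FibreKer.upperSemicontinuous_rk (A := A) (F ⧸ LinearMap.range δ) x _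
      (Nat.lt_succ_self _)] with y e1 e2 e3
  have hx := Groth.Agent.FibreKer.finrank_ker_add (k := x.asIdeal.ResidueField) δ
  have hy := Groth.Agent.FibreKer.finrank_ker_add (k := y.asIdeal.ResidueField) δ
  simp only [Groth.Agent.FibreKer.rk] at e1 e2 e3 hn ⊢
  omega

end Groth.Agent.S14609
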