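import Groth.Statements.S14610
import Mathlib
import Groth.Agent.FibreKer.Basic

set_option autoImplicit false
universe u v
open CAlg

namespace Groth.Agent.S14610

open TensorProduct in
/-- Let A be a reduced Noetherian ring, M a finitely generated A-module, F a finitely generated free
A-module and δ : M → F an A-linear map such that the function p ↦ dim_{κ(p)} ker(δ ⊗ κ(p)) is
locally constant on Spec A. Then M, ker δ and coker δ = F / im δ are projective A-modules, and for
every A-module N the natural map (ker δ) ⊗ N → M ⊗ N is injective with image equal to the kernel of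
δ ⊗ N. -/
theorem result (A : Type u) [CommRing A]
    [IsNoetherianRing A] [IsReduced A] (M : Type v) (F : Type v) [AddCommGroup M] [Module A M]
    [Module.Finite A M] [AddCommGroup F] [Module A F] [Module.Finite A F] [Module.Free A F]
    (δ : M →ₗ[A] F)
    (h : IsLocallyConstant (fun x : PrimeSpectrum A =>
      Module.finrank x.asIdeal.ResidueField
        (LinearMap.ker (δ.baseChange x.asIdeal.ResidueField)))) :
    Module.Projective A M ∧ Module.Projective A (LinearMap.ker δ) ∧
      Module.Projective A (F ⧸ LinearMap.range δ) ∧
      ∀ (N : Type v) [AddCommGroup N] [Module A N],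
        Function.Injective (LinearMap.rTensor N (LinearMap.ker δ).subtype) ∧
        Function.Exact (LinearMap.rTensor N (LinearMap.ker δ).subtype) (LinearMap.rTensor N δ) := by
  have h1 := Groth.Agent.FibreKer.isLocallyConstant_rk (A := A) F
  obtain ⟨hM, hC⟩ := Groth.Agent.FibreKer.isLocallyConstant_of_add
    (Groth.Agent.FibreKer.upperSemicontinuous_rk (A := A) M)
    (Groth.Agent.FibreKer.upperSemicontinuous_rk (A := A) (F ⧸ LinearMap.range δ)) (by
      have e : (fun x => Groth.Agent.FibreKer.rk (A := A) M x +
          Groth.Agent.FibreKer.rk (A := A) (F ⧸ LinearMap.range δ) x) =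
        fun x => Module.finrank x.asIdeal.ResidueField
          (LinearMap.ker (δ.baseChange x.asIdeal.ResidueField)) + Groth.Agent.FibreKer.rk (A := A) F x :=
        funext fun x => (Groth.Agent.FibreKer.finrank_ker_add δ).symm
      rw [e]
      exact h.comp₂ h1 (· + ·))
  have hMp := Groth.Agent.FibreKer.projective_of_isLocallyConstant_rk M hM
  have hCp := Groth.Agent.FibreKer.projective_of_isLocallyConstant_rk _ hC
  have hIp : Module.Projective A (LinearMap.range δ) := Groth.Agent.FibreKer.projective_sub _
  have : Module.Projective A (M ⧸ LinearMap.ker δ) :=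
    Module.Projective.of_equiv δ.quotKerEquivRange.symm
  refine ⟨hMp, Groth.Agent.FibreKer.projective_sub _, hCp, fun N _ _ =>
    ⟨Groth.Agent.FibreKer.injective_rTensor _ N, ?_⟩⟩
  have e : LinearMap.rTensor N δ =
      LinearMap.rTensor N (LinearMap.range δ).subtype ∘ₗ LinearMap.rTensor N δ.rangeRestrict := by
    rw [← LinearMap.rTensor_comp]
    rfl
  have hex : Function.Exact (LinearMap.ker δ).subtype δ.rangeRestrict := by
    rw [LinearMap.exact_iff, LinearMap.ker_rangeRestrict, Submodule.range_subtype]
  rw [e]
  exact (rTensor_exact N hex δ.surjective_rangeRestrict).comp_injective _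
    (Groth.Agent.FibreKer.injective_rTensor _ N) (map_zero _)

end Groth.Agent.S14610
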