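import Groth.Statements.S14611
import Groth.Agent.H9Misc.ProjResidue

set_option autoImplicit false
universe u
open FlatCx

namespace Groth.Agent.S14611

open CategoryTheory CategoryTheory.Limits in
/-- Let A be a Noetherian ring, Q a cochain complex whose terms are finitely generated projective
A-modules, and d an integer such that H^p(Q) = 0 for every p < d and H^p(Q ⊗_A A/m) = 0 for every p
< d and every maximal ideal m of A. Then Q^d / im(Q^{d-1} → Q^d), the degree-d term of the
truncation τ_{≥ d} Q, is a projective A-module, so that τ_{≥ d} Q is again a complex of projective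
modules. (The published statement also asserts that Q → τ_{≥ d} Q is a quasi-isomorphism when H^p(Q)
= 0 for p < d; this row omits that clause.) -/
theorem result (A : Type u) [CommRing A] [IsNoetherianRing A]
    (Q : CochainComplex (ModuleCat.{u} A) ℤ)
    (hQ : ∀ i, Module.Finite A (Q.X i) ∧ Module.Projective A (Q.X i)) (d : ℤ)
    (h1 : ∀ p < d, IsZero (Q.homology p))
    (h2 : ∀ (m : Ideal A) [m.IsMaximal], ∀ p < d,
      IsZero ((CohIII.tensorObj Q (ModuleCat.of A (A ⧸ m))).homology p)) :
    Module.Projective A (Q.opcycles d) := by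
  haveI := (hQ d).1
  haveI := (hQ d).2
  let δ := (Q.d (d - 1) d).hom
  have key : Module.Projective A ((Q.X d : Type u) ⧸ LinearMap.range δ) := by
    refine Groth.Agent.H9Misc.ProjResidue.projective (N := (Q.X d : Type u)) (LinearMap.range δ) fun m hm => ?_
    haveI := hm
    have hz := h2 m (d - 1) (by lia)
    rw [← HomologicalComplex.exactAt_iff_isZero_homology,
      HomologicalComplex.exactAt_iff' _ (d - 1 - 1) (d - 1) d (by simp) (by simp),
      ShortComplex.ShortExact.moduleCat_exact_iff_function_exact] at hz
    change Function.Exact ((Q.d (d - 1 - 1) (d - 1)).hom.rTensor (A ⧸ m)) (δ.rTensor (A ⧸ m)) at hz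
    rw [LinearMap.lTensor_inj_iff_rTensor_inj]
    refine (injective_iff_map_eq_zero ((LinearMap.range δ).subtype.rTensor (A ⧸ m))).2 fun z hz0 => ?_
    obtain ⟨y, rfl⟩ := LinearMap.rTensor_surjective (A ⧸ m) δ.surjective_rangeRestrict z
    rw [← LinearMap.comp_apply, ← LinearMap.rTensor_comp, LinearMap.subtype_comp_codRestrict] at hz0
    obtain ⟨x, rfl⟩ := (hz y).1 hz0
    rw [← LinearMap.comp_apply, ← LinearMap.rTensor_comp]
    have h0 : δ.rangeRestrict ∘ₗ (Q.d (d - 1 - 1) (d - 1)).hom = 0 := LinearMap.ext fun a => Subtype.ext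
      (ConcreteCategory.congr_hom (Q.d_comp_d (d - 1 - 1) (d - 1) d) a)
    erw [h0, LinearMap.rTensor_zero]
    rfl
  let e : Q.opcycles d ≅ ModuleCat.of A ((Q.X d : Type u) ⧸ LinearMap.range δ) :=
    (Q.opcyclesIsCokernel (d - 1) d (by simp)).coconePointUniqueUpToIso
      (ModuleCat.cokernelIsColimit (Q.d (d - 1) d))
  haveI := key
  exact Module.Projective.of_equiv e.toLinearEquiv.symm

end Groth.Agent.S14611
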