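import Groth.Statements.S14614
import Mathlib.AlgebraicGeometry.Morphisms.Etale
import Mathlib.AlgebraicGeometry.Morphisms.FlatMono
import Mathlib.AlgebraicGeometry.Morphisms.Flat
import Mathlib.AlgebraicGeometry.Morphisms.UniversallyOpen
import Mathlib.RingTheory.Filtration
import Mathlib.RingTheory.Artinian.Module
import Mathlib.RingTheory.HopkinsLevitzki

set_option autoImplicit false
set_option backward.isDefEq.respectTransparency false
set_option backward.isDefEq.respectTransparency.types false
universe u
open Mor

namespace Groth.Agent.S14614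
open IsLocalRing

open CategoryTheory AlgebraicGeometry in
/-- Let S be a locally Noetherian scheme and i : Z → S a closed immersion with the following property:
for every Artinian local ring A with residue field k and every morphism g : Spec A → S, if the
restriction Spec k → Spec A → S of g factors through i then so does g. Then i is also an open
immersion, i.e. the closed subscheme Z is open in S as a subscheme. (The published hypothesis is an
equivalence; its other direction always holds, so this row assumes only the implication.) -/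
theorem result (S : Scheme.{u}) [IsLocallyNoetherian S]
    {Z : Scheme.{u}} (i : Z ⟶ S) [IsClosedImmersion i]
    (h : ∀ (A : Type u) [CommRing A] [IsArtinianRing A] [IsLocalRing A] (g : Spec (CommRingCat.of A) ⟶ S),
      (∃ t : Spec (CommRingCat.of (IsLocalRing.ResidueField A)) ⟶ Z,
          t ≫ i = Spec.map (CommRingCat.ofHom (IsLocalRing.residue A)) ≫ g) →
        ∃ g' : Spec (CommRingCat.of A) ⟶ Z, g' ≫ i = g) :
    IsOpenImmersion i := by
  haveI : LocallyOfFinitePresentation i := LocallyOfFinitePresentation.iff_locallyOfFiniteType.2 inferInstance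
  suffices hb : ∀ z : Z, Function.Bijective (i.stalkMap z).hom by
    haveI : Flat i := Flat.of_stalkMap _ fun z => RingHom.Flat.of_bijective (hb z)
    exact IsOpenImmersion.of_flat_of_mono i
  intro z
  refine ⟨(injective_iff_map_eq_zero _).2 fun x hx => ?_, i.stalkMap_surjective z⟩
  haveI : IsNoetherianRing (S.presheaf.stalk (i z)) := inferInstance
  let m := maximalIdeal (S.presheaf.stalk (i z))
  have key : ∀ n : ℕ, x ∈ m ^ (n + 1) := by
    intro n
    let J := m ^ (n + 1)
    have hJ : J ≤ m := Ideal.pow_le_self (Nat.succ_ne_zero n)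
    let A := S.presheaf.stalk (i z) ⧸ J
    haveI : Nontrivial A := Ideal.Quotient.nontrivial_iff.2 fun h => (IsLocalRing.maximalIdeal.isMaximal _).ne_top (top_le_iff.1 (h ▸ hJ))
    haveI : IsLocalRing A := .of_surjective' (Ideal.Quotient.mk J) Ideal.Quotient.mk_surjective
    haveI : IsLocalHom (Ideal.Quotient.mk J) := .of_surjective _ Ideal.Quotient.mk_surjective
    haveI : IsArtinianRing A := by
      refine (isArtinianRing_iff_isNilpotent_maximalIdeal A).2 ⟨n + 1, ?_⟩
      rw [Ideal.zero_eq_bot, ← map_maximalIdeal_of_surjective (Ideal.Quotient.mk J) Ideal.Quotient.mk_surjective,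
        ← Ideal.map_pow, Ideal.map_quotient_self]
    let mkA : S.presheaf.stalk (i z) ⟶ CommRingCat.of A := CommRingCat.ofHom (Ideal.Quotient.mk J)
    let g : Spec (CommRingCat.of A) ⟶ S := Spec.map mkA ≫ S.fromSpecStalk (i z)
    let ρ : S.presheaf.stalk (i z) →+* ResidueField A := (residue A).comp (Ideal.Quotient.mk J)
    have hker : RingHom.ker (i.stalkMap z).hom ≤ RingHom.ker ρ := by
      intro a ha
      have ham : a ∈ m := (mem_maximalIdeal _).2 fun hu => by
        have := hu.map (i.stalkMap z).hom
        rw [RingHom.mem_ker.1 ha] at this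
        exact not_isUnit_zero this
      refine RingHom.mem_ker.2 ((residue_eq_zero_iff _).2 ((mem_maximalIdeal _).2 fun hu => ?_))
      exact (mem_maximalIdeal _).1 ham (hu.of_map _)
    let θ := RingHom.liftOfSurjective (i.stalkMap z).hom (i.stalkMap_surjective z) ⟨ρ, hker⟩
    have hθ : i.stalkMap z ≫ CommRingCat.ofHom θ = mkA ≫ CommRingCat.ofHom (residue A) :=
      CommRingCat.hom_ext (RingHom.liftOfRightInverse_comp _ _ _ ⟨ρ, hker⟩)
    obtain ⟨g', hg'⟩ := h A g ⟨Spec.map (CommRingCat.ofHom θ) ≫ Z.fromSpecStalk z, by
      rw [Category.assoc, ← Scheme.SpecMap_stalkMap_fromSpecStalk, ← Spec.map_comp_assoc, hθ, Spec.map_comp_assoc]⟩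
    have hpt : i (g' (closedPoint A)) = i z := by
      rw [← Scheme.Hom.comp_apply, hg']
      show S.fromSpecStalk (i z) (Spec.map mkA (closedPoint A)) = i z
      refine (congrArg _ ?_).trans Scheme.fromSpecStalk_closedPoint
      exact comap_closedPoint (Ideal.Quotient.mk J)
    have hz : g' (closedPoint A) = z := i.isEmbedding.injective hpt
    obtain ⟨φ, hφ⟩ : ∃ φ : Z.presheaf.stalk z ⟶ CommRingCat.of A, Spec.map φ ≫ Z.fromSpecStalk z = g' := by
      have H : ∀ w, g' (closedPoint A) = w →
          ∃ φ : Z.presheaf.stalk w ⟶ CommRingCat.of A, Spec.map φ ≫ Z.fromSpecStalk w = g' := by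
        rintro w rfl
        exact ⟨Scheme.stalkClosedPointTo g', Scheme.Spec_stalkClosedPointTo_fromSpecStalk g'⟩
      exact H z hz
    have heq : i.stalkMap z ≫ φ = mkA := by
      apply Spec.map_injective
      rw [← cancel_mono (S.fromSpecStalk (i z)), Spec.map_comp, Category.assoc,
        Scheme.SpecMap_stalkMap_fromSpecStalk, reassoc_of% hφ, hg']
    refine Ideal.Quotient.eq_zero_iff_mem.1 ?_
    show mkA x = 0
    rw [← heq]
    show φ ((i.stalkMap z).hom x) = 0
    rw [hx, map_zero]
  have hmem : x ∈ ⨅ n : ℕ, m ^ n := (Submodule.mem_iInf _).2 fun n => Ideal.pow_le_pow_right (Nat.le_succ n) (key n)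
  rwa [Ideal.iInf_pow_eq_bot_of_isLocalRing m (IsLocalRing.maximalIdeal.isMaximal _).ne_top] at hmem

end Groth.Agent.S14614
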