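import Groth.Statements.S14615
import Mathlib.Tactic

set_option autoImplicit false
universe u
open Formal2

namespace Groth.Agent.S14615

/-- Let … → G_2 → G_1 → G_0 be an inverse system of abelian groups with transition maps t_n : G_{n+1} →
G_n, and suppose that for every i there is j ≥ i such that the composite transition map G_j → G_i is
zero; this is expressed by asking that every sequence (x_n) ∈ ∏ G_n satisfying x_n = t_n(x_{n+1})
for i ≤ n < j has x_i = 0. Then both lim G_n and lim¹ G_n vanish: the map (x_n) ↦ (x_n −
t_n(x_{n+1})) on ∏ G_n, whose kernel is lim and whose cokernel is lim¹, is injective and surjective. -/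
theorem result (G : ℕ → Type u)
    [∀ n, AddCommGroup (G n)] (t : ∀ n, G (n + 1) →+ G n)
    (h : ∀ i : ℕ, ∃ j : ℕ, i ≤ j ∧
      ∀ x : ∀ n, G n, (∀ n, i ≤ n → n < j → x n = t n (x (n + 1))) → x i = 0) :
    Formal2.limZero G t = ⊥ ∧ Function.Surjective (Formal2.towerDiff G t) := by
  constructor
  · refine (AddSubgroup.eq_bot_iff_forall _).2 fun x hx => ?_
    funext i
    obtain ⟨j, -, hj⟩ := h i
    exact hj x fun n _ _ => sub_eq_zero.1 (congrFun hx n)
  · intro y
    let push : ℕ → ∀ n, G n := fun k => Nat.rec (motive := fun _ => ∀ n, G n) y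
      (fun _ p n => y n + t n (p (n + 1))) k
    let D : ℕ → ∀ n, G n := fun k n => push (k + 1) n - push k n
    have hD : ∀ k n, D (k + 1) n = t n (D k (n + 1)) := fun k n => by
      show (y n + t n (push (k + 1) (n + 1))) - (y n + t n (push k (n + 1))) = _
      rw [map_sub]; abel
    choose j hij hj using h
    have hz : ∀ k n, j n ≤ n + k → D k n = 0 := fun k n hk => by
      have := hj n (fun m => D (n + k - m) m) fun m _ hmj => by
        rw [show n + k - m = (n + k - (m + 1)) + 1 by omega]; exact hD _ _
      rwa [show n + k - n = k by omega] at this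
    have hst : ∀ n d, push (j n - n + d) n = push (j n - n) n := fun n d => by
      induction d with
      | zero => rfl
      | succ d ih =>
        rw [← ih]
        exact sub_eq_zero.1 (hz (j n - n + d) n (by have := hij n; omega))
    refine ⟨fun n => push (j n - n) n, funext fun n => ?_⟩
    show push (j n - n) n - t n (push (j (n + 1) - (n + 1)) (n + 1)) = y n
    let K := (j n - n) + (j (n + 1) - (n + 1))
    rw [← hst n ((j (n + 1) - (n + 1)) + 1), ← hst (n + 1) (j n - n),
      show j n - n + ((j (n + 1) - (n + 1)) + 1) = (j (n + 1) - (n + 1) + (j n - n)) + 1 by omega]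
    show (y n + t n _) - _ = _
    abel

end Groth.Agent.S14615
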