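import Groth.Statements.S14616
import Mathlib.Tactic
import Groth.Agent.S14615

set_option autoImplicit false
universe u
open Formal2

namespace Groth.Agent.S14616

open CategoryTheory in
/-- Let … → G_2 → G_1 → G_0 be an inverse system of abelian groups with transition maps t_n : G_{n+1} →
G_n which satisfies the Mittag-Leffler condition: for every i there is j ≥ i such that for all k ≥ j
the images of G_k → G_i and G_j → G_i coincide. Then lim¹ G_n = 0, i.e. the map (x_n) ↦ (x_n −
t_n(x_{n+1})) on ∏ G_n is surjective. -/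
theorem result (G : ℕ → Type u) [∀ n, AddCommGroup (G n)]
    (t : ∀ n, G (n + 1) →+ G n)
    (h : (Functor.ofOpSequence (X := fun n => AddCommGrpCat.of (G n))
      (fun n => AddCommGrpCat.ofHom (t n)) ⋙ forget AddCommGrpCat).IsMittagLeffler) :
    Function.Surjective (Formal2.towerDiff G t) := by
  let F := Functor.ofOpSequence (X := fun n => AddCommGrpCat.of (G n)) (fun n => AddCommGrpCat.ofHom (t n))
  let π : ∀ {i j : ℕ}, i ≤ j → G j →+ G i := fun {i j} hij => (F.map (homOfLE hij).op).hom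
  have π_refl : ∀ {i : ℕ} (h : i ≤ i) (a : G i), π h a = a := fun {i} h a => by
    show (F.map (𝟙 _)).hom a = a
    rw [F.map_id]; rfl
  have π_comp : ∀ {i j k : ℕ} (h₁ : i ≤ j) (h₂ : j ≤ k) (a : G k), π h₁ (π h₂ a) = π (h₁.trans h₂) a :=
    fun {i j k} h₁ h₂ a => by
      show ((F.map (homOfLE h₂).op ≫ F.map (homOfLE h₁).op)).hom a = _
      rw [← F.map_comp]; rfl
  have π_succ : ∀ (n : ℕ) (h : n ≤ n + 1) (a : G (n + 1)), π h a = t n a := fun n h a => by
    show (F.map (homOfLE (Nat.le_add_right n 1)).op).hom a = _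
    rw [show F.map _ = _ from Functor.ofOpSequence_map_homOfLE_succ _ n]; rfl
  let S : ∀ i, AddSubgroup (G i) := fun i => ⨅ (k : ℕ) (hk : i ≤ k), (π hk).range
  have hml : ∀ i, ∃ j, ∃ hij : i ≤ j, ∀ a : G j, π hij a ∈ S i := fun i => by
    obtain ⟨⟨j⟩, f, hf⟩ := h (Opposite.op i)
    refine ⟨j, leOfHom f.unop, fun a => ?_⟩
    simp only [S, AddSubgroup.mem_iInf]
    intro k hk
    obtain ⟨b, hb⟩ := hf (homOfLE hk).op ⟨a, rfl⟩
    exact ⟨b, hb⟩
  have hSt : ∀ n, ∀ a ∈ S (n + 1), t n a ∈ S n := fun n a ha => by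
    simp only [S, AddSubgroup.mem_iInf] at ha ⊢
    intro k hk
    rcases eq_or_lt_of_le hk with rfl | hk'
    · exact ⟨t n a, π_refl _ _⟩
    · obtain ⟨b, rfl⟩ := ha k hk'
      exact ⟨b, ((π_succ n (Nat.le_add_right n 1) _).symm.trans (π_comp _ _ b)).symm⟩
  have hsurj : ∀ n, ∀ z ∈ S n, ∃ v ∈ S (n + 1), t n v = z := fun n z hz => by
    obtain ⟨j, hij, hj⟩ := hml (n + 1)
    simp only [S, AddSubgroup.mem_iInf] at hz
    obtain ⟨w, rfl⟩ := hz j (le_trans (Nat.le_add_right n 1) hij)
    exact ⟨π hij w, hj w, (π_succ n (Nat.le_add_right n 1) _).symm.trans (π_comp _ _ w)⟩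
  let t' : ∀ n, G (n + 1) ⧸ S (n + 1) →+ G n ⧸ S n := fun n =>
    QuotientAddGroup.map _ _ (t n) fun a ha => hSt n a ha
  have h' : ∀ i : ℕ, ∃ j : ℕ, i ≤ j ∧ ∀ x : ∀ n, G n ⧸ S n,
      (∀ n, i ≤ n → n < j → x n = t' n (x (n + 1))) → x i = 0 := fun i => by
    obtain ⟨j, hij, hj⟩ := hml i
    refine ⟨j, hij, fun x hx => ?_⟩
    choose a ha using fun n => QuotientAddGroup.mk_surjective (x n)
    have hdiff : ∀ m, ∀ h₁ : i ≤ m, m ≤ j → a i - π h₁ (a m) ∈ S i := by
      intro m h₁
      induction m, h₁ using Nat.le_induction with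
      | base => intro _; rw [π_refl, sub_self]; exact zero_mem _
      | succ m hm ih =>
        intro hmj
        have e : a m - t m (a (m + 1)) ∈ S m := by
          rw [← QuotientAddGroup.eq_zero_iff, QuotientAddGroup.mk_sub, sub_eq_zero, ha m, hx m hm hmj]
          show t' m (x (m + 1)) = _
          rw [← ha (m + 1)]; rfl
        have e' : π hm (a m - t m (a (m + 1))) ∈ S i := by
          simp only [S, AddSubgroup.mem_iInf] at e ⊢
          intro k hk
          rcases le_total k m with hkm | hkm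
          · obtain ⟨b, hb⟩ := e m le_rfl
            exact ⟨π hkm b, by rw [π_comp, ← hb, π_comp]⟩
          · obtain ⟨b, hb⟩ := e k hkm
            exact ⟨b, by rw [← hb, π_comp]⟩
        have := add_mem (ih (by omega)) e'
        rw [map_sub, ← π_succ m (Nat.le_add_right m 1), π_comp] at this
        simpa using this
    rw [← ha i, QuotientAddGroup.eq_zero_iff]
    have := add_mem (hdiff j hij le_rfl) (hj (a j))
    simpa using this
  intro y
  obtain ⟨x', hx'⟩ := (Groth.Agent.S14615.result (fun n => G n ⧸ S n) t' h').2 (fun n => QuotientAddGroup.mk (y n))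
  choose x hx using fun n => QuotientAddGroup.mk_surjective (x' n)
  have hr : ∀ n, y n - (x n - t n (x (n + 1))) ∈ S n := fun n => by
    rw [← QuotientAddGroup.eq_zero_iff, QuotientAddGroup.mk_sub, sub_eq_zero, QuotientAddGroup.mk_sub, hx n]
    have := congrFun hx' n
    rw [← this]
    show x' n - t' n (x' (n + 1)) = _
    rw [← hx (n + 1)]; rfl
  choose v hv hv' using hsurj
  let z : ∀ n, S n := fun n => Nat.rec (motive := fun n => S n) 0
    (fun n zn => ⟨v n (zn.1 - (y n - (x n - t n (x (n + 1))))) (sub_mem zn.2 (hr n)), hv _ _ _⟩) n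
  refine ⟨fun n => x n + (z n).1, funext fun n => ?_⟩
  show x n + (z n).1 - t n (x (n + 1) + v n ((z n).1 - (y n - (x n - t n (x (n + 1))))) _) = y n
  rw [map_add, hv']
  abel

end Groth.Agent.S14616
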