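import Groth.Statements.S14617
import Mathlib.Tactic

set_option autoImplicit false
universe u
open Formal2

namespace Groth.Agent.S14617

/-- Let 0 → (G'_n) → (G_n) → (G''_n) → 0 be a short exact sequence of inverse systems of abelian groups
indexed by ℕ: maps u_n : G'_n → G_n and v_n : G_n → G''_n commuting with the transition maps, with
u_n injective, v_n surjective and ker v_n = im u_n for every n. Writing lim and lim¹ for the kernel
and cokernel of (x_n) ↦ (x_n − t_n(x_{n+1})) on the product, there is an exact sequence 0 → lim G' →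
lim G → lim G'' → lim¹ G' → lim¹ G → lim¹ G'' → 0 in which the four outer maps are the ones induced
by u and v on products and the connecting map δ sends a compatible sequence (z_n) to the class of
the unique (w_n) with u_n(w_n) = y_n − t_n(y_{n+1}), for any levelwise lift (y_n) of (z_n). -/
theorem result (G' G G'' : ℕ → Type u)
    [∀ n, AddCommGroup (G' n)] [∀ n, AddCommGroup (G n)] [∀ n, AddCommGroup (G'' n)]
    (t' : ∀ n, G' (n + 1) →+ G' n) (t : ∀ n, G (n + 1) →+ G n) (t'' : ∀ n, G'' (n + 1) →+ G'' n)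
    (u : ∀ n, G' n →+ G n) (v : ∀ n, G n →+ G'' n)
    (hu : ∀ n x, t n (u (n + 1) x) = u n (t' n x)) (hv : ∀ n x, t'' n (v (n + 1) x) = v n (t n x))
    (hinj : ∀ n, Function.Injective (u n)) (hsurj : ∀ n, Function.Surjective (v n))
    (hex : ∀ n, (v n).ker = (u n).range) :
    ∃ (α : Formal2.limZero G' t' →+ Formal2.limZero G t) (β : Formal2.limZero G t →+ Formal2.limZero G'' t'')
      (δ : Formal2.limZero G'' t'' →+ Formal2.limOne G' t')
      (ε : Formal2.limOne G' t' →+ Formal2.limOne G t) (ζ : Formal2.limOne G t →+ Formal2.limOne G'' t''),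
      (∀ (x : Formal2.limZero G' t') (n : ℕ), (α x : ∀ n, G n) n = u n ((x : ∀ n, G' n) n)) ∧
      (∀ (x : Formal2.limZero G t) (n : ℕ), (β x : ∀ n, G'' n) n = v n ((x : ∀ n, G n) n)) ∧
      (∀ (z : Formal2.limZero G'' t'') (y : ∀ n, G n) (w : ∀ n, G' n),
          (∀ n, v n (y n) = (z : ∀ n, G'' n) n) → (∀ n, u n (w n) = Formal2.towerDiff G t y n) →
            δ z = (QuotientAddGroup.mk w : Formal2.limOne G' t')) ∧
      (∀ y : ∀ n, G' n, ε (QuotientAddGroup.mk y : Formal2.limOne G' t') =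
          (QuotientAddGroup.mk (fun n => u n (y n)) : Formal2.limOne G t)) ∧
      (∀ y : ∀ n, G n, ζ (QuotientAddGroup.mk y : Formal2.limOne G t) =
          (QuotientAddGroup.mk (fun n => v n (y n)) : Formal2.limOne G'' t'')) ∧
      Function.Injective α ∧ α.range = β.ker ∧ β.range = δ.ker ∧ δ.range = ε.ker ∧ ε.range = ζ.ker ∧
      Function.Surjective ζ := by
  let D' := Formal2.towerDiff G' t'
  let D := Formal2.towerDiff G t
  let D'' := Formal2.towerDiff G'' t''
  let U : (∀ n, G' n) →+ (∀ n, G n) := AddMonoidHom.mk' (fun x n => u n (x n)) (fun a b => funext fun n => map_add _ _ _)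
  let V : (∀ n, G n) →+ (∀ n, G'' n) := AddMonoidHom.mk' (fun x n => v n (x n)) (fun a b => funext fun n => map_add _ _ _)
  have hU : ∀ x, D (U x) = U (D' x) := fun x => funext fun n => by
    show u n (x n) - t n (u (n + 1) (x (n + 1))) = u n (x n - t' n (x (n + 1)))
    rw [hu, map_sub]
  have hV : ∀ x, D'' (V x) = V (D x) := fun x => funext fun n => by
    show v n (x n) - t'' n (v (n + 1) (x (n + 1))) = v n (x n - t n (x (n + 1)))
    rw [hv, map_sub]
  have Uinj : Function.Injective U := fun a b e => funext fun n => hinj n (congrFun e n)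
  have Vsurj : Function.Surjective V := fun z => by
    choose y hy using fun n => hsurj n (z n)
    exact ⟨y, funext hy⟩
  have UVex : ∀ y, V y = 0 → ∃ x, U x = y := fun y e => by
    choose x hx using fun n => (hex n ▸ (show y n ∈ (v n).ker from congrFun e n) : y n ∈ (u n).range)
    exact ⟨x, funext hx⟩
  have VU : ∀ x, V (U x) = 0 := fun x => funext fun n =>
    show u n (x n) ∈ (v n).ker from (hex n).symm ▸ ⟨x n, rfl⟩
  let α : D'.ker →+ D.ker := AddMonoidHom.codRestrict (U.comp D'.ker.subtype) _ fun x => by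
    show D (U x.1) = 0
    rw [hU, show D' x.1 = 0 from x.2, map_zero]
  let β : D.ker →+ D''.ker := AddMonoidHom.codRestrict (V.comp D.ker.subtype) _ fun x => by
    show D'' (V x.1) = 0
    rw [hV, show D x.1 = 0 from x.2, map_zero]
  have hlift : ∀ z : D''.ker, ∃ w : ∀ n, G' n, ∃ y, V y = z.1 ∧ U w = D y := fun z => by
    obtain ⟨y, hy⟩ := Vsurj z.1
    obtain ⟨w, hw⟩ := UVex (D y) (by rw [← hV, hy]; exact z.2)
    exact ⟨w, y, hy, hw⟩
  choose w y hy hw using hlift
  have δ_eq : ∀ (z : D''.ker) (y' : ∀ n, G n) (w' : ∀ n, G' n), V y' = z.1 → U w' = D y' →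
      (QuotientAddGroup.mk (w z) : (∀ n, G' n) ⧸ D'.range) = QuotientAddGroup.mk w' := fun z y' w' e₁ e₂ => by
    obtain ⟨a, ha⟩ := UVex (y' - y z) (by rw [map_sub, e₁, hy, sub_self])
    rw [QuotientAddGroup.eq]
    refine ⟨a, Uinj ?_⟩
    rw [← hU, ha, map_sub, map_add, map_neg, hw, e₂]; abel
  let δ : D''.ker →+ (∀ n, G' n) ⧸ D'.range := AddMonoidHom.mk' (fun z => QuotientAddGroup.mk (w z)) fun a b => by
    rw [← QuotientAddGroup.mk_add]
    exact δ_eq (a + b) (y a + y b) _ (by rw [map_add, hy, hy]; rfl) (by rw [map_add, map_add, hw, hw])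
  let ε : (∀ n, G' n) ⧸ D'.range →+ (∀ n, G n) ⧸ D.range := QuotientAddGroup.map _ _ U
    (by rintro _ ⟨a, rfl⟩; exact ⟨U a, hU a⟩)
  let ζ : (∀ n, G n) ⧸ D.range →+ (∀ n, G'' n) ⧸ D''.range := QuotientAddGroup.map _ _ V
    (by rintro _ ⟨a, rfl⟩; exact ⟨V a, hV a⟩)
  refine ⟨α, β, δ, ε, ζ, fun _ _ => rfl, fun _ _ => rfl,
    fun z y' w' e₁ e₂ => δ_eq z y' w' (funext e₁) (funext e₂), fun _ => rfl, fun _ => rfl,
    fun a b e => Subtype.ext (Uinj (congrArg Subtype.val e)), ?_, ?_, ?_, ?_, ?_⟩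
  · refine le_antisymm ?_ fun b hb => ?_
    · rintro _ ⟨a, rfl⟩; exact Subtype.ext (VU a.1)
    · obtain ⟨a, ha⟩ := UVex b.1 (congrArg Subtype.val hb)
      exact ⟨⟨a, Uinj (by rw [← hU, ha, map_zero]; exact b.2)⟩, Subtype.ext ha⟩
  · refine le_antisymm ?_ fun z hz => ?_
    · rintro _ ⟨b, rfl⟩
      refine (δ_eq (β b) b.1 0 rfl ?_).trans (QuotientAddGroup.mk_zero _)
      rw [map_zero]; exact b.2.symm
    · obtain ⟨a, ha⟩ := (QuotientAddGroup.eq_zero_iff (w z)).1 hz
      refine ⟨⟨y z - U a, ?_⟩, Subtype.ext ?_⟩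
      · show D (y z - U a) = 0
        rw [map_sub, hU, ha, hw, sub_self]
      · show V (y z - U a) = z.1
        rw [map_sub, VU, sub_zero, hy]
  · refine le_antisymm ?_ fun c hc => ?_
    · rintro _ ⟨z, rfl⟩
      exact (QuotientAddGroup.eq_zero_iff (U (w z))).2 ⟨y z, (hw z).symm⟩
    · obtain ⟨a, rfl⟩ := QuotientAddGroup.mk_surjective c
      obtain ⟨b, hb⟩ := (QuotientAddGroup.eq_zero_iff (U a)).1 hc
      exact ⟨⟨V b, by show D'' (V b) = 0; rw [hV, hb, VU]⟩, δ_eq _ b a rfl hb.symm⟩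
  · refine le_antisymm ?_ fun c hc => ?_
    · rintro _ ⟨a, rfl⟩
      obtain ⟨a, rfl⟩ := QuotientAddGroup.mk_surjective a
      exact (QuotientAddGroup.eq_zero_iff (V (U a))).2 (by rw [VU]; exact zero_mem _)
    · obtain ⟨a, rfl⟩ := QuotientAddGroup.mk_surjective c
      obtain ⟨b, hb⟩ := (QuotientAddGroup.eq_zero_iff (V a)).1 hc
      obtain ⟨b', rfl⟩ := Vsurj b
      obtain ⟨e, he⟩ := UVex (a - D b') (by rw [map_sub, ← hV, hb, sub_self])
      refine ⟨QuotientAddGroup.mk e, ?_⟩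
      show (QuotientAddGroup.mk (U e) : (∀ n, G n) ⧸ D.range) = _
      rw [QuotientAddGroup.eq, he]
      exact ⟨b', by abel⟩
  · intro c
    obtain ⟨a, rfl⟩ := QuotientAddGroup.mk_surjective c
    obtain ⟨b, rfl⟩ := Vsurj a
    exact ⟨QuotientAddGroup.mk b, rfl⟩

end Groth.Agent.S14617
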