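import Groth.Statements.S14618
import Groth.Agent.SplitFib17.Basic

set_option autoImplicit false
set_option backward.isDefEq.respectTransparency false
set_option backward.isDefEq.respectTransparency.types false
set_option linter.style.haveILetI false
universe u
open FlatMor

namespace Groth.Agent.S14618

open CategoryTheory CategoryTheory.Limits AlgebraicGeometry in
/-- Let f : X → S be a morphism of schemes and u : F → V a morphism of O_X-modules with F quasi-coherent
of finite type and V finite locally free. The following are equivalent: (a) u is a locally split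
monomorphism, i.e. every point of X has an open neighbourhood U such that the restriction of u to U
has a left inverse; (b) for every point s of S the pullback of u to the fibre X_s = X ×_S Spec κ(s)
is a locally split monomorphism on X_s; (c) for every point s of S the pullback of u to the
geometric fibre X ×_S Spec k̄, k̄ an algebraic closure of κ(s), is a locally split monomorphism.
Restrictions to opens and to fibres are written as module pullbacks along the corresponding
immersions/projections. (In the published statement X and S are schemes in a terminology where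
schemes are separated preschemes; the proof is local on X and on S, so this row assumes no
separatedness.) -/
theorem result {X S : Scheme.{u}} (f : X ⟶ S) {F V : X.Modules} (u : F ⟶ V)
    (hF : Coh.IsQCoh F) (hFt : CohB1.IsFT F) (hV : FlatMod.IsFinLocFree V) :
    [ ∀ x : X, ∃ U : X.Opens, x ∈ U ∧
        ∃ r : (Scheme.Modules.pullback U.ι).obj V ⟶ (Scheme.Modules.pullback U.ι).obj F,
          (Scheme.Modules.pullback U.ι).map u ≫ r = 𝟙 _,
      ∀ (s : S) (x : f.fiber s), ∃ U : (f.fiber s).Opens, x ∈ U ∧
        ∃ r : (Scheme.Modules.pullback U.ι).obj ((Scheme.Modules.pullback (f.fiberι s)).obj V) ⟶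
            (Scheme.Modules.pullback U.ι).obj ((Scheme.Modules.pullback (f.fiberι s)).obj F),
          (Scheme.Modules.pullback U.ι).map ((Scheme.Modules.pullback (f.fiberι s)).map u) ≫ r = 𝟙 _,
      ∀ (s : S) (x : ↑(pullback f (Spec.map (CommRingCat.ofHom (algebraMap (S.residueField s)
            (AlgebraicClosure (S.residueField s)))) ≫ S.fromSpecResidueField s))),
        ∃ U : Scheme.Opens _, x ∈ U ∧
        ∃ r : (Scheme.Modules.pullback U.ι).obj ((Scheme.Modules.pullback (pullback.fst f
              (Spec.map (CommRingCat.ofHom (algebraMap (S.residueField s) (AlgebraicClosure (S.residueField s)))) ≫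
                S.fromSpecResidueField s))).obj V) ⟶
            (Scheme.Modules.pullback U.ι).obj ((Scheme.Modules.pullback (pullback.fst f
              (Spec.map (CommRingCat.ofHom (algebraMap (S.residueField s) (AlgebraicClosure (S.residueField s)))) ≫
                S.fromSpecResidueField s))).obj F),
          (Scheme.Modules.pullback U.ι).map ((Scheme.Modules.pullback (pullback.fst f
              (Spec.map (CommRingCat.ofHom (algebraMap (S.residueField s) (AlgebraicClosure (S.residueField s)))) ≫
                S.fromSpecResidueField s))).map u) ≫ r = 𝟙 _ ].TFAE := by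
  tfae_have 1 → 2 := by
    intro h s x
    obtain ⟨U, hxU, hU⟩ := h (f.fiberι s x)
    refine ⟨f.fiberι s ⁻¹ᵁ U, hxU, (SplitFib17.splitAlong_iff _ _).1
      ((SplitFib17.splitAlong_comp_iff u _ (f.fiberι s)).1 ?_)⟩
    exact SplitFib17.SplitAlong.congr u (morphismRestrict_ι (f.fiberι s) U)
      (((SplitFib17.splitAlong_iff u U.ι).2 hU).comp u _)
  tfae_have 2 → 3 := by
    intro h s
    let i₀ := Spec.map (CommRingCat.ofHom (algebraMap (S.residueField s) (AlgebraicClosure (S.residueField s))))
    let c : pullback f (i₀ ≫ S.fromSpecResidueField s) ⟶ f.fiber s :=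
      pullback.map _ _ _ _ (𝟙 X) i₀ (𝟙 S) (by simp) (by simp)
    have hc : c ≫ f.fiberι s = pullback.fst f (i₀ ≫ S.fromSpecResidueField s) :=
      (pullback.lift_fst _ _ _).trans (Category.comp_id _)
    intro x
    obtain ⟨U, hxU, hU⟩ := h s (c x)
    have h1 : SplitFib17.SplitAlong u (U.ι ≫ f.fiberι s) :=
      (SplitFib17.splitAlong_comp_iff u U.ι (f.fiberι s)).2 ((SplitFib17.splitAlong_iff _ _).2 hU)
    refine ⟨c ⁻¹ᵁ U, hxU, (SplitFib17.splitAlong_iff _ _).1
      ((SplitFib17.splitAlong_comp_iff u _ (pullback.fst f (i₀ ≫ S.fromSpecResidueField s))).1 ?_)⟩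
    refine SplitFib17.SplitAlong.congr u ?_ (h1.comp u (c ∣_ U))
    rw [morphismRestrict_ι_assoc, hc]
  tfae_have 3 → 1 := by
    intro h y
    let s := f y
    let i₀ := Spec.map (CommRingCat.ofHom (algebraMap (S.residueField s) (AlgebraicClosure (S.residueField s))))
    let σ := i₀ ≫ S.fromSpecResidueField s
    have hσ : σ (IsLocalRing.closedPoint (AlgebraicClosure (S.residueField s))) = f y := by
      rw [Scheme.Hom.comp_apply]
      exact S.fromSpecResidueField_apply s _
    obtain ⟨z, hz, -⟩ := Scheme.Pullback.exists_preimage_pullback y _ hσ.symm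
    obtain ⟨U, hzU, hU⟩ := h s z
    let z' : U.toScheme := ⟨z, hzU⟩
    have h1 : SplitFib17.SplitAlong u ((U.toScheme.fromSpecResidueField z' ≫ U.ι) ≫ pullback.fst f σ) := by
      rw [Category.assoc]
      exact SplitFib17.SplitAlong.comp u _
        ((SplitFib17.splitAlong_comp_iff u U.ι (pullback.fst f σ)).2 ((SplitFib17.splitAlong_iff _ _).2 hU))
    have hy : y ∈ Set.range ((U.toScheme.fromSpecResidueField z' ≫ U.ι) ≫ pullback.fst f σ) :=
      ⟨IsLocalRing.closedPoint _, by
        rw [Scheme.Hom.comp_apply, Scheme.Hom.comp_apply, Scheme.fromSpecResidueField_apply]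
        exact hz⟩
    obtain ⟨U', hyU', hU'⟩ := SplitFib17.exists_splitAlong_open u hF hFt hV y _ hy h1
    exact ⟨U', hyU', (SplitFib17.splitAlong_iff u U'.ι).1 hU'⟩
  tfae_finish

end Groth.Agent.S14618
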