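import Groth.Statements.S14625
import Groth.Agent.EtLC12.MuConst
import Mathlib.RingTheory.Henselian
-- import your own Groth.Agent.* helpers here

set_option autoImplicit false
open CategoryTheory AlgebraicGeometry
universe u
open EtBase

namespace Groth.Agent.S14625

/-- Let A be a strictly henselian local ring, n ≥ 1 an integer invertible in A, and X a scheme over Spec
A. Then the étale sheaf μ_n of n-th roots of unity on X is isomorphic to the constant sheaf with
value ℤ/n. Only the existence of an isomorphism is asserted; it depends on the choice of a primitive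
n-th root of unity in A. -/
theorem result (A : Type u) [CommRing A]
    (hA : EtCoh.IsStrictlyHenselianLocalRing A) (n : ℕ) (hn : 1 ≤ n) (hu : IsUnit (n : A))
    (X : Scheme.{u}) (f : X ⟶ Spec (CommRingCat.of A)) :
    Nonempty (EtCoh.mu X n ≅ EtCoh.const X (ZMod n)) := by
  haveI : NeZero n := ⟨by omega⟩
  obtain ⟨_, hsep⟩ := hA
  haveI := hsep
  let kA := IsLocalRing.ResidueField A
  haveI : NeZero (n : kA) := ⟨(isUnit_iff_ne_zero.mp (by simpa using hu.map (IsLocalRing.residue A)))⟩
  obtain ⟨c, hc⟩ := IsSepClosed.exists_root (Polynomial.cyclotomic n kA)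
    (Polynomial.degree_cyclotomic_pos n kA (by omega)).ne' (Polynomial.separable_cyclotomic n kA)
  obtain ⟨a₀, rfl⟩ := IsLocalRing.residue_surjective c
  have hred : ∀ g : Polynomial A, IsLocalRing.residue A (g.eval a₀) =
      (g.map (IsLocalRing.residue A)).eval (IsLocalRing.residue A a₀) := fun g => by
    rw [Polynomial.eval_map]
    exact Polynomial.hom_eval₂ g (RingHom.id A) (IsLocalRing.residue A) a₀
  have h1 : (Polynomial.cyclotomic n A).eval a₀ ∈ IsLocalRing.maximalIdeal A := by
    rw [← IsLocalRing.residue_eq_zero_iff, hred, Polynomial.map_cyclotomic]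
    exact hc
  have h2 : IsUnit ((Polynomial.cyclotomic n A).derivative.eval a₀) := by
    rw [← IsLocalRing.notMem_maximalIdeal, ← IsLocalRing.residue_eq_zero_iff, hred,
      ← Polynomial.derivative_map, Polynomial.map_cyclotomic]
    intro h
    obtain ⟨p, q, hpq⟩ := Polynomial.separable_cyclotomic n kA
    have := congrArg (Polynomial.eval (IsLocalRing.residue A a₀)) hpq
    rw [Polynomial.eval_add, Polynomial.eval_mul, Polynomial.eval_mul, Polynomial.eval_one, h, hc.eq_zero,
      mul_zero, mul_zero, add_zero] at this
    exact zero_ne_one this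
  obtain ⟨a, ha, -⟩ := HenselianLocalRing.is_henselian _ (Polynomial.cyclotomic.monic n A) a₀ h1 h2
  let ψ : A →+* Γ(X, ⊤) := ((Scheme.ΓSpecIso (CommRingCat.of A)).inv ≫ f.appTop).hom
  have hr : Polynomial.aeval (ψ a) (Polynomial.cyclotomic n ℤ) = 0 := by
    have h0 : Polynomial.aeval a (Polynomial.cyclotomic n ℤ) = 0 := by
      rw [Polynomial.aeval_def, ← Polynomial.eval_map, Polynomial.map_cyclotomic]
      exact ha
    exact (Polynomial.aeval_algHom_apply ψ.toIntAlgHom a _).trans ((congrArg _ h0).trans (map_zero _))
  exact Groth.Agent.EtLC12.MuConst.nonempty_mu_iso_const (by simpa using hu.map ψ) (ψ a) hr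

end Groth.Agent.S14625
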