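import Groth.Statements.S14626
import Groth.Agent.EtFound.CechPushGen
-- import your own Groth.Agent.* helpers here

set_option autoImplicit false
open CategoryTheory CategoryTheory.Limits AlgebraicGeometry
universe u
open EtBase

namespace Groth.Agent.S14626

/-- For the direct image along a morphism of schemes on small étale sites; take a morphism of schemes f
: X → Y and an abelian étale sheaf F on X which is flasque in the Čech sense, i.e. for every étale U
over X and every jointly surjective family of étale U-schemes the Čech cohomology groups of F in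
positive degrees vanish. Then the direct image f_*F is flasque in the same sense on Y. The finite
products of the over categories (the fibre products entering the Čech complexes) are carried as
instance hypotheses. -/
theorem result {X Y : Scheme.{u}} (f : X ⟶ Y)
    [∀ U : X.Etale, HasFiniteProducts (Over U)] [∀ V : Y.Etale, HasFiniteProducts (Over V)]
    (F : EtCoh.Ab X)
    (hF : ∀ (U : X.Etale) (ι : Type (u + 1)) (Uf : ι → Over U),
      (∀ x : ↥(U.left), ∃ (i : ι) (y : ↥((Uf i).left.left)), (Uf i).hom.left.base y = x) →
      ∀ p : ℕ, 0 < p → IsZero (EtCech.cechH Uf F.obj p))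
    (V : Y.Etale) (ι : Type (u + 1)) (Vf : ι → Over V)
    (hV : ∀ x : ↥(V.left), ∃ (i : ι) (y : ↥((Vf i).left.left)), (Vf i).hom.left.base y = x)
    (p : ℕ) (hp : 0 < p) :
    IsZero (EtCech.cechH Vf ((EtCoh.push f).obj F).obj p) := by
  haveI : LocallySmall.{u + 1} Y.Etale := ⟨fun _ _ => inferInstance⟩
  haveI : LocallySmall.{u + 1} X.Etale := ⟨fun _ _ => inferInstance⟩
  have hcov : ∀ x : ↥(((EtCoh.bc f).obj V).left), ∃ (i : ι) (y : ↥(((Over.post (EtCoh.bc f)).obj (Vf i)).left.left)),
      ((Over.post (EtCoh.bc f)).obj (Vf i)).hom.left.base y = x := by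
    intro x
    obtain ⟨i, v, hv⟩ := hV ((pullback.fst V.hom f : ((EtCoh.bc f).obj V).left ⟶ V.left).base x)
    have sq := EtCoh.isPullback_bc_map f (Vf i).hom
    obtain ⟨z, hz1, -⟩ := Scheme.Pullback.exists_preimage_pullback
      (f := (pullback.fst V.hom f : ((EtCoh.bc f).obj V).left ⟶ V.left)) (g := (Vf i).hom.left) x v hv.symm
    refine ⟨i, sq.isoPullback.inv.base z, ?_⟩
    rw [← hz1]
    show (sq.isoPullback.inv ≫ ((EtCoh.bc f).map (Vf i).hom).left).base z = _
    rw [IsPullback.isoPullback_inv_fst]
    rfl
  refine IsZero.of_iso (hF _ ι _ hcov p hp) ?_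
  exact ((HomologicalComplex.homologyFunctor _ _ p).mapIso
    (Groth.Agent.EtFound.CechPushGen.complexIso (EtCoh.bc f) Vf F.obj)).symm

end Groth.Agent.S14626
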