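import Groth.Statements.S14627
import Mathlib.AlgebraicGeometry.Morphisms.UniversallyOpen
import Mathlib.AlgebraicGeometry.Morphisms.Smooth
-- import your own Groth.Agent.* helpers here

set_option autoImplicit false
open CategoryTheory AlgebraicGeometry
universe u
open EtBase
set_option backward.isDefEq.respectTransparency.types false

namespace Groth.Agent.S14627

/-- Let S be a quasi-compact scheme and U an étale S-scheme quasi-compact over S. Then every jointly
surjective family of étale U-schemes has a finite subfamily which is still jointly surjective (the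
étale site on finitely presented objects over a quasi-compact scheme is Noetherian). -/
theorem result (S : Scheme.{u}) [CompactSpace ↥S] (U : S.Etale)
    [QuasiCompact U.hom] (ι : Type (u + 1)) (Uf : ι → Over U)
    (hU : ∀ x : ↥(U.left), ∃ (i : ι) (y : ↥((Uf i).left.left)), (Uf i).hom.left.base y = x) :
    ∃ t : Finset ι, ∀ x : ↥(U.left), ∃ i ∈ t, ∃ y : ↥((Uf i).left.left), (Uf i).hom.left.base y = x := by
  haveI h0 : CompactSpace ↥((Functor.fromPUnit S).obj U.right) := ‹CompactSpace ↥S›
  have : CompactSpace ↥(U.left) := QuasiCompact.compactSpace_of_compactSpace U.hom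
  have ho : ∀ i, IsOpen (Set.range (Uf i).hom.left.base) := by
    intro i
    haveI : Etale (Uf i).hom.left := inferInstance
    exact (Scheme.Hom.isOpenMap ((Uf i).hom.left)).isOpen_range
  obtain ⟨t, ht⟩ := isCompact_univ.elim_finite_subcover _ ho (fun x _ => by
    obtain ⟨i, y, hy⟩ := hU x
    exact Set.mem_iUnion.2 ⟨i, y, hy⟩)
  refine ⟨t, fun x => ?_⟩
  obtain ⟨i, hi⟩ := Set.mem_iUnion.1 (ht (Set.mem_univ x))
  obtain ⟨hit, y, hy⟩ := Set.mem_iUnion.1 hi
  exact ⟨i, hit, y, hy⟩

end Groth.Agent.S14627
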