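import Groth.Statements.S14628
import Groth.Agent.EtFound.CechSurjGen
import Groth.Agent.EtFound.Basic
import Groth.Agent.SiteBase.AbSecExact
-- import your own Groth.Agent.* helpers here

set_option autoImplicit false
open CategoryTheory CategoryTheory.Limits AlgebraicGeometry
universe u
open EtBase

namespace Groth.Agent.S14628

/-- On the small étale site of a scheme, let 0 → F' → F → F'' → 0 be a short exact sequence of abelian
étale sheaves on a scheme X. If F' and F are flasque in the Čech sense (for every étale U over X and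
every jointly surjective family of étale U-schemes, Čech cohomology in positive degrees vanishes),
then so is F''. The finite products of the over categories (the fibre products entering the Čech
complexes) are carried as instance hypotheses. -/
theorem result {X : Scheme.{u}}
    [∀ U : X.Etale, HasFiniteProducts (Over U)] (S : ShortComplex (EtCoh.Ab X)) (hS : S.ShortExact)
    (h1 : (∀ (U : X.Etale) (ι : Type (u + 1)) (Uf : ι → Over U),
      (∀ x : ↥(U.left), ∃ (i : ι) (y : ↥((Uf i).left.left)), (Uf i).hom.left.base y = x) →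
      ∀ p : ℕ, 0 < p → IsZero (EtCech.cechH Uf S.X₁.obj p)))
    (h2 : (∀ (U : X.Etale) (ι : Type (u + 1)) (Uf : ι → Over U),
      (∀ x : ↥(U.left), ∃ (i : ι) (y : ↥((Uf i).left.left)), (Uf i).hom.left.base y = x) →
      ∀ p : ℕ, 0 < p → IsZero (EtCech.cechH Uf S.X₂.obj p)))
    (U : X.Etale) (ι : Type (u + 1)) (Uf : ι → Over U)
    (hU : ∀ x : ↥(U.left), ∃ (i : ι) (y : ↥((Uf i).left.left)), (Uf i).hom.left.base y = x)
    (p : ℕ) (hp : 0 < p) :
    IsZero (EtCech.cechH Uf S.X₃.obj p) := by
  haveI : LocallySmall.{u + 1} X.Etale := ⟨fun _ _ => inferInstance⟩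
  haveI := hS.mono_f
  haveI := hS.epi_g
  have hinj : ∀ T, Function.Injective (S.f.hom.app T).hom := fun T =>
    Groth.Agent.SiteBase.sheaf_app_injective S.f T.unop
  have hex : ∀ T, ∀ y, (S.g.hom.app T).hom y = 0 → ∃ x, (S.f.hom.app T).hom x = y := fun T y hy =>
    (Groth.Agent.SiteBase.secExact_iff S T.unop).1 (hS.exact.map_of_mono_of_preservesKernel
      (sheafToPresheaf X.smallEtaleTopology AddCommGrpCat.{u + 1} ⋙
        (evaluation X.Etaleᵒᵖ AddCommGrpCat.{u + 1}).obj T)
      inferInstance inferInstance) y hy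
  have hfg : ∀ T x, (S.g.hom.app T).hom ((S.f.hom.app T).hom x) = 0 := fun T x =>
    congrArg (fun t : S.X₁ ⟶ S.X₃ => (t.hom.app T).hom x) S.zero
  have hloc : Presheaf.IsLocallySurjective X.smallEtaleTopology S.g.hom :=
    (Sheaf.isLocallySurjective_iff_epi' AddCommGrpCat.{u + 1} S.g).2 inferInstance
  have hsheaf : ∀ (F : EtCoh.Ab X) (V : X.Etale) (κ : Type (u + 1)) (W : κ → Over V),
      (∀ x : ↥(V.left), ∃ (i : κ) (y : ↥((W i).left.left)), (W i).hom.left.base y = x) →
      Presieve.IsSheafFor (F.obj ⋙ forget AddCommGrpCat.{u + 1})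
        (Presieve.ofArrows (fun i => (W i).left) fun i => (W i).hom) := by
    intro F V κ W hW
    rw [Presieve.isSheafFor_iff_generate]
    refine ((isSheaf_iff_isSheaf_of_type _ _).1
      ((Presheaf.isSheaf_iff_isSheaf_forget X.smallEtaleTopology F.obj
        (forget AddCommGrpCat.{u + 1})).1 F.2)) _ ?_
    refine (Groth.Agent.EtFound.mem_topology_iff _).2 fun x => ?_
    obtain ⟨i, y, hy⟩ := hW x
    exact ⟨(W i).left, (W i).hom, y, Sieve.ofArrows_mk _ _ i, hy⟩
  have hsurj : ∀ V : X.Etale, Function.Surjective (S.g.hom.app (Opposite.op V)).hom := by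
    intro V z
    have hcov := (Groth.Agent.EtFound.mem_topology_iff _).1 (hloc.imageSieve_mem (U := V) z)
    choose W g v hg hv using hcov
    choose s hs using hg
    let Wf : ULift.{u + 1} V.left → Over V := fun x => Over.mk (g x.down)
    have hW : ∀ x : ↥(V.left), ∃ (i : ULift.{u + 1} V.left) (y : ↥((Wf i).left.left)),
        (Wf i).hom.left.base y = x := fun x => ⟨⟨x⟩, v x, hv x⟩
    exact Groth.Agent.EtFound.CechSurjGen.exists_lift_of_isZero_cechH_one (Uf := Wf) S.f.hom S.g.hom
      hinj hex hfg (h1 V _ Wf hW 1 one_pos) (hsheaf _ V _ Wf hW) (hsheaf _ V _ Wf hW) z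
      (fun x => s x.down) (fun x => hs x.down)
  obtain ⟨q, rfl⟩ := Nat.exists_eq_succ_of_ne_zero hp.ne'
  exact Groth.Agent.EtFound.CechSurjGen.isZero_cechH_quot S.f.hom S.g.hom hinj hex hfg q
    (h1 U ι Uf hU (q + 2) (Nat.succ_pos _)) (h2 U ι Uf hU (q + 1) (Nat.succ_pos _))
    (fun n i => hsurj _)

end Groth.Agent.S14628
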