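import Groth.Statements.S14631
-- import your own Groth.Agent.* helpers here

set_option autoImplicit false
open CategoryTheory AlgebraicGeometry
universe u
open EtBase
set_option backward.isDefEq.respectTransparency.types false

namespace Groth.Agent.S14631

/-- Let X be a quasi-separated scheme and U an étale X-scheme. Then there is a jointly surjective family
of étale U-schemes each of which is quasi-compact and quasi-separated, hence of finite presentation,
over X. (Sheaves on the small étale site are therefore determined by their values on étale X-schemes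
of finite presentation; that equivalence is not stated here.) -/
theorem result (X : Scheme.{u})
    [QuasiSeparatedSpace ↥X] (U : X.Etale) :
    ∃ (ι : Type u) (V : ι → Over U), (∀ i, QuasiCompact (V i).left.hom ∧ QuasiSeparated (V i).left.hom) ∧
      ∀ x : ↥(U.left), ∃ (i : ι) (y : ↥((V i).left.left)), (V i).hom.left.base y = x := by
  classical
  choose W hW hxW hWu using fun x : ↥(U.left) =>
    U.left.isBasis_affineOpens.exists_subset_of_mem_open (Set.mem_univ x) isOpen_univ
  choose V hV hVW using hW
  let V : ↥(U.left) → U.left.Opens := V
  haveI : Etale U.hom := U.prop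
  let obj : ↥(U.left) → X.Etale := fun x =>
    MorphismProperty.Over.mk ⊤ ((V x).ι ≫ U.hom) (by infer_instance)
  refine ⟨↥(U.left), fun x => Over.mk (MorphismProperty.Over.homMk (V x).ι rfl : obj x ⟶ U),
    fun x => ?_, fun x => ⟨x, ?_⟩⟩
  · haveI : IsAffine (V x).toScheme := hV x
    haveI : QuasiSeparatedSpace ↥((Functor.fromPUnit X).obj U.right) := ‹QuasiSeparatedSpace ↥X›
    exact ⟨quasiCompact_of_compactSpace ((V x).ι ≫ U.hom), QuasiSeparated.of_quasiSeparatedSpace ((V x).ι ≫ U.hom)⟩
  · obtain ⟨y, hy⟩ : ∃ y : ↥(V x).toScheme, (V x).ι.base y = x :=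
      ⟨⟨x, by have := hxW x; rw [← hVW x] at this; exact this⟩, rfl⟩
    exact ⟨y, hy⟩

end Groth.Agent.S14631
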