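import Groth.Statements.S14633
import Groth.Agent.GrpSchLib.SmoothReduced
import Groth.Agent.GrpSchLib.FieldComp
import Groth.Agent.GrpSchLib.CoincidenceBase
import Groth.Agent.FBaseLib.Product
import Mathlib.AlgebraicGeometry.Artinian
import Mathlib.AlgebraicGeometry.Morphisms.QuasiFinite
import Mathlib.AlgebraicGeometry.AlgClosed.Basic
-- import your own Groth.Agent.* helpers here

set_option autoImplicit false
universe u
open CategoryTheory MonoidalCategory CartesianMonoidalCategory MonObj GrpObj AlgebraicGeometry CategoryTheory.Limits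
open AlgGrp

namespace Groth.Agent.S14633

/-- Over a field k, let G be a smooth connected k-group scheme of finite type and let Z be a reduced
k-scheme of finite type of dimension at most 0 (for Z empty the conclusion is immediate). Then every
action of G on Z is trivial: the action morphism G × Z → Z is the second projection. -/
theorem result (k : Type u) [Field k]
    (G Z : Over (Spec (CommRingCat.of k))) [GrpObj G] [Smooth G.hom] [QuasiCompact G.hom] [ConnectedSpace ↥G.left]
    [LocallyOfFiniteType Z.hom] [QuasiCompact Z.hom] [IsReduced Z.left] (hdim : topologicalKrullDim ↥Z.left ≤ 0)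
    (a : AlgGrp.Action G Z) : a.act = CartesianMonoidalCategory.snd G Z := by
  let K := AlgebraicClosure k
  let σ : Spec (CommRingCat.of K) ⟶ Spec (CommRingCat.of k) :=
    Spec.map (CommRingCat.ofHom (algebraMap k K))
  -- `Z` is finite discrete, also after extension to `K`
  have : IsLocallyNoetherian Z.left := LocallyOfFiniteType.isLocallyNoetherian Z.hom
  have : IsLocallyArtinian Z.left := IsLocallyArtinian.of_topologicalKrullDim_le_zero hdim
  have : CompactSpace Z.left := QuasiCompact.compactSpace_of_compactSpace Z.hom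
  have : Finite Z.left := finite_of_compact_of_discrete
  have : LocallyQuasiFinite Z.hom :=
    LocallyQuasiFinite.of_finite_preimage_singleton Z.hom fun _ => Set.toFinite _
  have : IsLocallyArtinian (Limits.pullback Z.hom σ) :=
    IsLocallyArtinian.of_locallyQuasiFinite (f := Limits.pullback.snd Z.hom σ)
  have hsep : IsSeparated Z.hom := inferInstance
  -- `G` is geometrically irreducible
  obtain ⟨g₀, hg₀, hg₀e⟩ := GrpSchLib.exists_isMaxPt (η[G].left (IsLocalRing.closedPoint k))
  have huniv : closure {g₀} = (Set.univ : Set G.left) := by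
    rw [← GrpSchLib.connectedComponent_one hg₀ hg₀e]; exact PreconnectedSpace.connectedComponent_eq_univ _
  have : IsClosedImmersion (𝟙 G : G ⟶ G).left := inferInstanceAs (IsClosedImmersion (𝟙 G.left))
  have hgeo : GeometricallyIrreducible G.hom :=
    GrpSchLib.geometricallyIrreducible_one hg₀ hg₀e (𝟙 G) (by rw [huniv]; exact Set.range_id)
  have hirr : IrreducibleSpace ↥(Limits.pullback G.hom σ) :=
    hgeo.geometrically_irreducibleSpace σ _ _ (IsPullback.of_hasPullback _ _)
  -- the two maps agree on `K`-points
  have hpt : ∀ (g : Over.mk σ ⟶ G) (ζ : Over.mk σ ⟶ Z), lift g ζ ≫ a.act = ζ := by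
    intro g ζ
    let PG : Over (Spec (CommRingCat.of k)) := Over.mk (Limits.pullback.snd G.hom σ ≫ σ)
    let pg : PG ⟶ G := Over.homMk (Limits.pullback.fst G.hom σ) Limits.pullback.condition
    let pr : PG ⟶ Over.mk σ := Over.homMk (Limits.pullback.snd G.hom σ) rfl
    let Φ : PG ⟶ Z := lift pg (pr ≫ ζ) ≫ a.act
    let Φ' : Limits.pullback G.hom σ ⟶ Limits.pullback Z.hom σ :=
      Limits.pullback.lift Φ.left (Limits.pullback.snd G.hom σ) (Over.w Φ)
    let sec : ∀ h : Over.mk σ ⟶ G, Over.mk σ ⟶ PG := fun h =>
      Over.homMk (Limits.pullback.lift h.left (𝟙 _) (by rw [Category.id_comp]; exact Over.w h))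
        (by show Limits.pullback.lift h.left (𝟙 _) _ ≫ Limits.pullback.snd G.hom σ ≫ σ = σ
            rw [Limits.pullback.lift_snd_assoc, Category.id_comp])
    have hsec : ∀ h, sec h ≫ Φ = lift h ζ ≫ a.act := by
      intro h
      have e1 : sec h ≫ pg = h := Over.OverMorphism.ext (Limits.pullback.lift_fst _ _ _)
      have e2 : sec h ≫ pr = 𝟙 _ := Over.OverMorphism.ext (Limits.pullback.lift_snd _ _ _)
      simp only [Φ, comp_lift_assoc, e1, reassoc_of% e2]
    have hcomp : ∀ h, ((sec h).left ≫ Φ') ≫ Limits.pullback.snd Z.hom σ = 𝟙 _ := fun h => by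
      simp only [Φ', Category.assoc, Limits.pullback.lift_snd]
      exact Limits.pullback.lift_snd _ _ _
    have hsub : (Set.range Φ').Subsingleton :=
      (isPreconnected_range Φ'.continuous).subsingleton
    have heq : (sec g).left ≫ Φ' = (sec (toUnit _ ≫ η[G])).left ≫ Φ' :=
      ext_of_apply_closedPoint_eq (Limits.pullback.snd Z.hom σ) (hcomp _) (hcomp _)
        (hsub ⟨_, rfl⟩ ⟨_, rfl⟩)
    have h2 : sec g ≫ Φ = sec (toUnit _ ≫ η[G]) ≫ Φ := by
      apply Over.OverMorphism.ext
      have := congrArg (fun f => f ≫ Limits.pullback.fst Z.hom σ) heq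
      simp only [Φ', Category.assoc, Limits.pullback.lift_fst] at this
      exact this
    rw [hsec, hsec] at h2
    rw [h2]
    have h3 := congrArg (fun f => lift (toUnit (Over.mk σ)) ζ ≫ f) a.one_act
    simpa using h3
  -- conclude on the reduced scheme `G ⊗ Z`
  have : GeometricallyReduced G.hom := GrpSchLib.geometricallyReduced_of_smooth G.hom
  have : IsReduced (G ⊗ Z).left := FBaseLib.isReduced_pullback G.hom Z.hom
  have hab : a.act.left ≫ Z.hom = (CartesianMonoidalCategory.snd G Z).left ≫ Z.hom :=
    (Over.w a.act).trans (Over.w _).symm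
  let i := Limits.pullback.fst
    (Limits.pullback.lift a.act.left (CartesianMonoidalCategory.snd G Z).left hab)
    (Limits.pullback.diagonal Z.hom)
  have hi : IsClosedImmersion i := GrpSchLib.exists_closed_equalizer _ _ _ hab
  have : LocallyOfFiniteType (G ⊗ Z).hom :=
    inferInstanceAs (LocallyOfFiniteType (Limits.pullback.fst G.hom Z.hom ≫ G.hom))
  have := LocallyOfFiniteType.jacobsonSpace (G ⊗ Z).hom
  have hclosed : closedPoints (G ⊗ Z).left ⊆ Set.range i := by
    intro p hp
    let q := Limits.pullback.fst (G ⊗ Z).hom σ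
    have : Surjective σ := GrpSchLib.surjective_spec_map_field _
    have : JacobsonSpace ↥(Limits.pullback (G ⊗ Z).hom σ) :=
      LocallyOfFiniteType.jacobsonSpace (Limits.pullback.snd (G ⊗ Z).hom σ)
    obtain ⟨p₁, hp₁⟩ := q.surjective p
    obtain ⟨p', hp', hp'c⟩ := nonempty_inter_closedPoints (Z := q ⁻¹' {p}) ⟨p₁, hp₁⟩
      ((mem_closedPoints_iff.mp hp).preimage q.continuous).isLocallyClosed
    obtain ⟨⟨s, hs⟩, hs'⟩ :=
      (pointEquivClosedPoint (Limits.pullback.snd (G ⊗ Z).hom σ)).surjective ⟨p', hp'c⟩
    let t : Over.mk σ ⟶ G ⊗ Z := Over.homMk (s ≫ q)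
      (by show (s ≫ q) ≫ (G ⊗ Z).hom = σ
          rw [Category.assoc, Limits.pullback.condition, ← Category.assoc, hs, Category.id_comp])
    have ht : t ≫ a.act = t ≫ CartesianMonoidalCategory.snd G Z := by
      have := hpt (t ≫ CartesianMonoidalCategory.fst G Z) (t ≫ CartesianMonoidalCategory.snd G Z)
      rwa [← comp_lift, lift_fst_snd, Category.comp_id] at this
    obtain ⟨l, hl⟩ := (GrpSchLib.factors_equalizer_iff Z.hom _ _ hab t.left).mpr
      (by rw [← Over.comp_left, ← Over.comp_left, ht])
    refine ⟨l (IsLocalRing.closedPoint K), ?_⟩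
    show (l ≫ i) (IsLocalRing.closedPoint K) = p
    rw [hl]
    show q (s (IsLocalRing.closedPoint K)) = p
    rw [show s (IsLocalRing.closedPoint K) = p' from congrArg Subtype.val hs']
    exact hp'
  have : Surjective i := ⟨fun x => by
    have h1 : closure (closedPoints (G ⊗ Z).left) = Set.univ := closure_closedPoints
    have h2 := closure_minimal hclosed i.isClosedEmbedding.isClosed_range
    rw [h1] at h2
    exact h2 trivial⟩
  have : IsIso i := isIso_of_isClosedImmersion_of_surjective i
  have h := (GrpSchLib.factors_equalizer_iff Z.hom _ _ hab (𝟙 _)).mp ⟨inv i, IsIso.inv_hom_id i⟩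
  exact Over.OverMorphism.ext (by simpa using h)

end Groth.Agent.S14633
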