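import Groth.Statements.S14634
import Groth.Agent.GrpSchLib.SmoothReduced
import Groth.Agent.GrpSchLib.RankOneNonComm
import Groth.Agent.GrpSchLib.FieldComp
import Groth.Agent.GrpSchLib.Cartier
import Groth.Agent.FBaseLib.Product
import Groth.Agent.FibDim.BaseField
import Groth.Agent.S0348
import Mathlib.AlgebraicGeometry.Geometrically.Integral


set_option autoImplicit false
universe u
open CategoryTheory MonoidalCategory CartesianMonoidalCategory MonObj GrpObj AlgebraicGeometry CategoryTheory.Limits
open AlgGrp

namespace Groth.Agent.S14634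

open CategoryTheory MonoidalCategory CartesianMonoidalCategory MonObj AlgebraicGeometry

theorem dense_iff {k : Type u} [Field k] {G C : Over (Spec (CommRingCat.of k))} [GrpObj G] [Smooth G.hom]
    [QuasiCompact G.hom] [ConnectedSpace ↥G.left] [IsSeparated C.hom] [LocallyOfFiniteType C.hom]
    [GeometricallyIntegral C.hom] (hdim : topologicalKrullDim ↥C.left = 1) (a : AlgGrp.Action G C) :
    IsDominant (lift (snd G C) a.act).left ↔ a.act ≠ snd G C := by
  haveI : IsReduced (Spec (CommRingCat.of k)) := inferInstance
  haveI : Subsingleton ↥(Spec (CommRingCat.of k)) := inferInstanceAs (Subsingleton (PrimeSpectrum k))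
  haveI : IsIntegral C.left := GeometricallyIntegral.isIntegral_of_subsingleton C.hom
  haveI : IrreducibleSpace G.left := Groth.Agent.S0348.result k G
  haveI : IrreducibleSpace (G ⊗ C).left :=
    GeometricallyIrreducible.irreducibleSpace (Limits.pullback.fst G.hom C.hom) (Limits.pullback.fst G.hom C.hom).isOpenMap
  haveI : GeometricallyReduced G.hom := GrpSchLib.geometricallyReduced_of_smooth G.hom
  haveI : IsReduced (G ⊗ C).left := FBaseLib.isReduced_pullback G.hom C.hom
  haveI : IrreducibleSpace (C ⊗ C).left :=
    GeometricallyIrreducible.irreducibleSpace (Limits.pullback.fst C.hom C.hom) (Limits.pullback.fst C.hom C.hom).isOpenMap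
  haveI : Subsingleton ↥(Spec (CommRingCat.of k)) := inferInstanceAs (Subsingleton (PrimeSpectrum k))
  have h2 : topologicalKrullDim ↥(C ⊗ C).left = 2 := by
    show topologicalKrullDim ↥(Limits.pullback C.hom C.hom) = 2
    rw [FibDim.topologicalKrullDim_pullback, hdim]
    rfl
  let δ : C ⟶ C ⊗ C := lift (𝟙 C) (𝟙 C)
  haveI : IsClosedImmersion δ.left :=
    inferInstanceAs (IsClosedImmersion (Limits.pullback.diagonal C.hom))
  have hδ : Topology.IsClosedEmbedding δ.left := δ.left.isClosedEmbedding
  let φ := lift (snd G C) a.act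
  constructor
  · intro hdom h
    have e : (lift (snd G C) a.act).left = (snd G C).left ≫ δ.left := by
      rw [h, ← Over.comp_left]
      congr 1
      simp [δ, comp_lift]
    have hsurj : Set.range δ.left = Set.univ := by
      refine Set.eq_univ_of_univ_subset ?_
      rw [← hdom.denseRange.closure_range]
      refine hδ.isClosed_range.closure_subset_iff.mpr ?_
      rintro _ ⟨x, rfl⟩
      exact ⟨(snd G C).left x, by rw [e]; rfl⟩
    have := (IsHomeomorph.topologicalKrullDim_eq (f := δ.left)
      (isHomeomorph_iff_isEmbedding_surjective.mpr ⟨hδ.isEmbedding, Set.range_eq_univ.mp hsurj⟩))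
    rw [hdim, h2] at this
    exact absurd this (by decide)
  intro hne
  haveI : LocallyOfFiniteType (G ⊗ C).hom := inferInstanceAs (LocallyOfFiniteType (Limits.pullback.fst G.hom C.hom ≫ G.hom))
  haveI : JacobsonSpace ↥(G ⊗ C).left := LocallyOfFiniteType.jacobsonSpace (G ⊗ C).hom
  let A : TopologicalSpace.IrreducibleCloseds ↥(C ⊗ C).left :=
    ⟨closure (Set.range φ.left), (Set.image_univ ▸ (IrreducibleSpace.isIrreducible_univ _).image _ φ.left.continuous.continuousOn).closure, isClosed_closure⟩
  have hdiag : Set.range δ.left ⊆ Set.range φ.left := by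
    have hsplit : (lift (toUnit C ≫ η[G]) (𝟙 C) : C ⟶ G ⊗ C) ≫ φ = δ := by
      simp only [φ, δ, comp_lift, lift_snd]
      congr 1
      have h1 := congrArg (fun f => (lift (toUnit C) (𝟙 C)) ≫ f) a.one_act
      simpa using h1
    rintro _ ⟨x, rfl⟩
    exact ⟨(lift (toUnit C ≫ η[G]) (𝟙 C) : C ⟶ G ⊗ C).left x, by rw [← hsplit]; rfl⟩
  have hss : ¬ (A : Set ↥(C ⊗ C).left) ⊆ Set.range δ.left := by
    intro hsub
    obtain ⟨l, hl⟩ := GrpSchLib.RankOne.exists_fac_of_closedPoints (W := (G ⊗ C).left) δ.left φ.left fun w _ => hsub (subset_closure ⟨w, rfl⟩)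
    let l' : G ⊗ C ⟶ C := Over.homMk l (by rw [← Over.w δ, ← Category.assoc, hl, Over.w φ])
    have hl' : l' ≫ δ = φ := Over.OverMorphism.ext hl
    have e1 := congrArg (fun f => f ≫ fst C C) hl'
    have e2 := congrArg (fun f => f ≫ snd C C) hl'
    simp only [φ, δ, Category.assoc, lift_fst, lift_snd, Category.comp_id] at e1 e2
    exact hne (e2.symm.trans e1)
  rw [isDominant_iff, DenseRange, dense_iff_closure_eq]
  by_contra hA
  obtain ⟨l, hl⟩ := Order.le_krullDim_iff.1 (le_of_eq hdim.symm : ((1 : ℕ) : WithBot ℕ∞) ≤ _)
  let D : Fin 2 → TopologicalSpace.IrreducibleCloseds ↥(C ⊗ C).left := fun i =>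
    TopologicalSpace.IrreducibleCloseds.map δ.left hδ.continuous (l ⟨i, by omega⟩)
  let U : TopologicalSpace.IrreducibleCloseds ↥(C ⊗ C).left :=
    ⟨Set.univ, IrreducibleSpace.isIrreducible_univ _, isClosed_univ⟩
  have hD : ∀ i, (D i : Set ↥(C ⊗ C).left) = δ.left '' (l ⟨i, by omega⟩ : Set C.left) := fun i => by
    show closure (δ.left '' _) = _
    exact (hδ.isClosedMap _ (l ⟨i, by omega⟩).isClosed).closure_eq
  have h01 : D 0 < D 1 := by
    rw [← SetLike.coe_ssubset_coe, hD, hD]
    exact hδ.injective.image_strictMono (SetLike.coe_ssubset_coe.mpr (l.strictMono (show (⟨0, by omega⟩ : Fin (l.length + 1)) < ⟨1, by omega⟩ from Nat.zero_lt_one)))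
  have h1A : D 1 < A := by
    refine lt_of_le_of_ne ?_ fun h => hss ?_
    · rw [← SetLike.coe_subset_coe, hD]
      exact ((Set.image_subset_range _ _).trans hdiag).trans subset_closure
    · rw [← h, hD]; exact Set.image_subset_range _ _
  have hAU : A < U := by
    refine lt_of_le_of_ne ?_ fun h => hA (congrArg SetLike.coe h)
    exact SetLike.coe_subset_coe.mp (Set.subset_univ _)
  let c : LTSeries (TopologicalSpace.IrreducibleCloseds ↥(C ⊗ C).left) :=
    (((RelSeries.singleton _ (D 0)).snoc (D 1) h01).snoc A (by simpa using h1A)).snoc U (by simpa using hAU)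
  have := (Order.LTSeries.length_le_krullDim c).trans_eq h2
  rw [show c.length = 3 by simp [c]] at this
  exact absurd this (by decide)


/-- Over a field k, let G be a smooth connected k-group scheme of finite type acting on a curve C, i.e.
a separated, geometrically integral k-scheme of finite type of dimension 1. Then C is almost
homogeneous under G, meaning that the graph morphism G × C → C × C, (g, x) ↦ (x, g·x), is dominant,
if and only if the action is not the trivial one (the action morphism is not the second projection). -/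
theorem result (k : Type u) [Field k]
    (G C : Over (Spec (CommRingCat.of k))) [GrpObj G] [Smooth G.hom] [QuasiCompact G.hom] [ConnectedSpace ↥G.left]
    [IsSeparated C.hom] [LocallyOfFiniteType C.hom] [QuasiCompact C.hom] [GeometricallyIntegral C.hom] (hdim : topologicalKrullDim ↥C.left = 1)
    (a : AlgGrp.Action G C) :
    IsDominant (CartesianMonoidalCategory.lift (CartesianMonoidalCategory.snd G C) a.act).left ↔
      a.act ≠ CartesianMonoidalCategory.snd G C := by
  exact dense_iff hdim a

end Groth.Agent.S14634
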