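import Groth.Statements.S14637
import Groth.Agent.GrpSchLib.LineGroups


set_option autoImplicit false
universe u
open CategoryTheory MonoidalCategory CartesianMonoidalCategory MonObj GrpObj AlgebraicGeometry CategoryTheory.Limits
open AlgGrp

namespace Groth.Agent.S14637

/-- Over a field k, the only structure of algebraic group on the punctured affine line Spec k[T, T⁻¹]
with unit element the point T = 1 is the multiplicative group. Precisely: let G be a k-group scheme
and e an isomorphism of k-schemes from the underlying scheme of G to Spec k[T, T⁻¹] under which the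
unit section has T-coordinate 1; then for every k-scheme S and all S-valued points g, h of G, the
T-coordinate of g · h (the pull-back of the global function T along the point composed with e) is
the product of the T-coordinates of g and of h. -/
theorem result (k : Type u) [Field k]
    (G : Over (Spec (CommRingCat.of k))) [GrpObj G]
    (e : G.left ≅ Spec (CommRingCat.of (LaurentPolynomial k)))
    (he : e.hom ≫ Spec.map (CommRingCat.ofHom (algebraMap k (LaurentPolynomial k))) = G.hom)
    (hunit : ((η[G]).left ≫ e.hom).appTop.hom ((Scheme.ΓSpecIso (CommRingCat.of (LaurentPolynomial k))).inv.hom (LaurentPolynomial.T 1)) = 1)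
    (S : Over (Spec (CommRingCat.of k))) (g h : S ⟶ G) :
    ((g * h).left ≫ e.hom).appTop.hom ((Scheme.ΓSpecIso (CommRingCat.of (LaurentPolynomial k))).inv.hom (LaurentPolynomial.T 1)) =
      (g.left ≫ e.hom).appTop.hom ((Scheme.ΓSpecIso (CommRingCat.of (LaurentPolynomial k))).inv.hom (LaurentPolynomial.T 1)) * (h.left ≫ e.hom).appTop.hom ((Scheme.ΓSpecIso (CommRingCat.of (LaurentPolynomial k))).inv.hom (LaurentPolynomial.T 1)) := by
  haveI : IsAffine G.left := IsAffine.of_isIso e.hom
  let j : G ≅ Over.mk (Spec.map (CommRingCat.ofHom (algebraMap k (LaurentPolynomial k)))) := Over.isoMk e he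
  let φ : LaurentPolynomial k ≃ₐ[k] GrpSchLib.Kunneth.Fn G :=
    (GrpSchLib.LineGroups.spEquiv (k := k) (LaurentPolynomial k)).trans (GrpSchLib.LineGroups.fnEquiv j)
  have hw : GrpSchLib.Kunneth.evPt η[G] (φ (LaurentPolynomial.T 1)) = 1 :=
    (GrpSchLib.Kunneth.evPt_eq_one_iff _ _).mpr hunit
  have h1 := GrpSchLib.LineGroups.mul_coord_Gm G φ
  rw [hw, inv_one, one_smul] at h1
  have h2 := congrArg (GrpSchLib.Kunneth.ev (lift g h)) h1
  rw [map_mul, GrpSchLib.Kunneth.ev_ev, GrpSchLib.Kunneth.ev_ev, GrpSchLib.Kunneth.ev_ev, lift_fst, lift_snd,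
    ← Hom.mul_def] at h2
  exact h2


end Groth.Agent.S14637
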