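import Groth.Statements.S14639
import Mathlib.RingTheory.AdjoinRoot
import Mathlib.Tactic.LinearCombination
import Mathlib.Algebra.Polynomial.Inductions


set_option autoImplicit false
universe u
open Polynomial
open AlgGrp

namespace Groth.Agent.S14639

/-- Classification of the subalgebras of a truncated polynomial ring that are stable under the unipotent
substitutions, which is the algebraic step behind the classification of curves almost homogeneous
under the additive group in characteristic zero. Let k be a field of characteristic zero, N ≥ 0 and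
R = k[u]/(u^(N+1)). The additive group acts on R through the substitutions u ↦ u/(1 + a u), a in k.
If A is a k-subalgebra of R stable under all these substitutions (stated for every k-algebra
endomorphism σ of R with σ(u)(1 + a u) = u for some a in k), then there is an integer n with 1 ≤ n ≤
N + 1 such that A = k ⊕ (u^n): as a k-subspace, A is the span of 1 plus the ideal generated by u^n.
(In positive characteristic p and for N ≥ p + 1, the subalgebra generated by u^p is stable and not
of this form.) -/
theorem result (k : Type u) [Field k] [CharZero k]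
    (N : ℕ) (A : Subalgebra k (AdjoinRoot ((Polynomial.X : Polynomial k) ^ (N + 1))))
    (hA : ∀ (a : k) (σ : AdjoinRoot ((Polynomial.X : Polynomial k) ^ (N + 1)) →ₐ[k] AdjoinRoot ((Polynomial.X : Polynomial k) ^ (N + 1))),
      σ (AdjoinRoot.root ((Polynomial.X : Polynomial k) ^ (N + 1))) * (1 + algebraMap k (AdjoinRoot ((Polynomial.X : Polynomial k) ^ (N + 1))) a * AdjoinRoot.root ((Polynomial.X : Polynomial k) ^ (N + 1))) = AdjoinRoot.root ((Polynomial.X : Polynomial k) ^ (N + 1)) →
        A.map σ ≤ A) :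
    ∃ n : ℕ, 1 ≤ n ∧ n ≤ N + 1 ∧
      Subalgebra.toSubmodule A =
        Submodule.span k {1} ⊔ (Ideal.span {AdjoinRoot.root ((Polynomial.X : Polynomial k) ^ (N + 1)) ^ n}).restrictScalars k := by
  classical
  let R := AdjoinRoot ((Polynomial.X : Polynomial k) ^ (N + 1))
  let r : R := AdjoinRoot.root _
  have hr : r ^ (N + 1) = 0 := by
    show AdjoinRoot.root ((Polynomial.X : Polynomial k) ^ (N + 1)) ^ (N + 1) = 0
    rw [← AdjoinRoot.mk_X, ← map_pow, AdjoinRoot.mk_self]
  have dec : ∀ z : R, ∃ (c : k) (z' : R), z = algebraMap k R c + r * z' := fun z => by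
    obtain ⟨f, rfl⟩ := AdjoinRoot.mk_surjective z
    refine ⟨f.coeff 0, AdjoinRoot.mk _ f.divX, ?_⟩
    conv_lhs => rw [← Polynomial.X_mul_divX_add f, map_add, map_mul, AdjoinRoot.mk_X, AdjoinRoot.mk_C]
    rw [add_comm]; rfl
  obtain ⟨v, hv⟩ := (IsNilpotent.isUnit_one_add (r := r) ⟨N + 1, hr⟩).exists_right_inv
  let σ : R →ₐ[k] R := Ideal.Quotient.liftₐ _ (Polynomial.aeval (r * v)) fun f hf => by
    obtain ⟨g, rfl⟩ := Ideal.mem_span_singleton'.mp hf
    rw [map_mul, map_pow, Polynomial.aeval_X, mul_pow, hr, zero_mul, mul_zero]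
  have hσr : σ r = r * v := by
    show σ (AdjoinRoot.mk _ Polynomial.X) = _
    exact Polynomial.aeval_X _
  have hσA : ∀ x ∈ A, σ x ∈ A := fun x hx => hA 1 σ (by
    show σ r * (1 + algebraMap k R 1 * r) = r
    rw [hσr, map_one, one_mul, mul_assoc, mul_comm v, hv, mul_one]) ⟨x, hx, rfl⟩
  have hvm : ∀ m : ℕ, ∃ q, v ^ m = 1 - (m : R) * r + r ^ 2 * q := by
    intro m
    induction m with
    | zero => exact ⟨0, by simp⟩
    | succ m ih =>
      obtain ⟨q, hq⟩ := ih
      refine ⟨q * v + v + (m : R) * v, ?_⟩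
      rw [pow_succ, hq]
      push_cast
      linear_combination (1 - r - (m : R) * r) * hv
  have hmod : ∀ (m : ℕ) (z : R), ∃ s, v ^ m * σ z - z = r * s := fun m z => by
    obtain ⟨q, hq⟩ := hvm m
    obtain ⟨c, z', rfl⟩ := dec z
    refine ⟨v ^ m * (v * σ z') - z' + algebraMap k R c * (r * q - m), ?_⟩
    rw [map_add, map_mul, hσr, AlgHom.commutes]
    linear_combination algebraMap k R c * hq
  let P : ℕ → Prop := fun m => 1 ≤ m ∧ ∃ (c : k) (z : R), c ≠ 0 ∧ algebraMap k R c * r ^ m + r ^ (m + 1) * z ∈ A
  have hstep : ∀ m, P m → P (m + 1) := by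
    rintro m ⟨hm, c, z, hc, hx⟩
    obtain ⟨q, hq⟩ := hvm m
    obtain ⟨s, hs⟩ := hmod (m + 1) z
    refine ⟨by omega, -((m : k) * c), algebraMap k R c * q + s, neg_ne_zero.mpr (mul_ne_zero (Nat.cast_ne_zero.mpr (by omega)) hc), ?_⟩
    have h1 := A.sub_mem (hσA _ hx) hx
    rw [map_add, map_mul, map_mul, map_pow, map_pow, hσr, AlgHom.commutes] at h1
    convert h1 using 1
    rw [map_neg, map_mul, map_natCast]
    linear_combination -(algebraMap k R c * r ^ m) * hq - r ^ (m + 1) * hs
  have hN : P (N + 1) := ⟨by omega, 1, 0, one_ne_zero, by simp [hr]⟩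
  have hex : ∃ m, P m := ⟨_, hN⟩
  let n := Nat.find hex
  have hn : P n := Nat.find_spec hex
  have hP : ∀ j, P (n + j) := fun j => by
    induction j with
    | zero => exact hn
    | succ j ih => exact hstep _ ih
  have hin : ∀ j m, n ≤ m → m + j = N + 1 → ∀ w, r ^ m * w ∈ A := by
    intro j
    induction j with
    | zero => rintro m - rfl w; rw [hr, zero_mul]; exact A.zero_mem
    | succ j ih =>
      intro m hm hmj w
      obtain ⟨i, rfl⟩ := Nat.exists_eq_add_of_le hm
      obtain ⟨-, c, z, hc, hx⟩ := hP i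
      have h1 := ih (n + i + 1) (by omega) (by omega)
      have h2 : algebraMap k R c * r ^ (n + i) ∈ A := by simpa using A.sub_mem hx (h1 z)
      obtain ⟨c', w', rfl⟩ := dec w
      have h3 := A.add_mem (A.mul_mem (A.algebraMap_mem (c' * c⁻¹)) h2) (h1 w')
      convert h3 using 1
      rw [← mul_assoc, ← map_mul, mul_assoc, inv_mul_cancel₀ hc, mul_one]
      ring
  have hnN : n ≤ N + 1 := Nat.find_le hN
  refine ⟨n, hn.1, hnN, le_antisymm (fun x hx => ?_) (sup_le ?_ ?_)⟩
  · have key : ∀ j, 1 ≤ j → j ≤ n → ∃ (c : k) (z : R), x = algebraMap k R c + r ^ j * z := by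
      intro j h1 hjn
      induction j, h1 using Nat.le_induction with
      | base => obtain ⟨c, z, h⟩ := dec x; exact ⟨c, z, by rw [pow_one]; exact h⟩
      | succ j h1 ih =>
        obtain ⟨c₀, z, hxz⟩ := ih (by omega)
        obtain ⟨c, z', rfl⟩ := dec z
        have hc : c = 0 := by_contra fun hc => Nat.find_min hex (show j < n by omega)
          ⟨h1, c, z', hc, by
            convert A.sub_mem hx (A.algebraMap_mem c₀) using 1
            rw [hxz]; ring⟩
        exact ⟨c₀, z', by rw [hxz, hc, map_zero]; ring⟩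
    obtain ⟨c, z, rfl⟩ := key n hn.1 le_rfl
    refine Submodule.add_mem_sup ?_ ?_
    · rw [Algebra.algebraMap_eq_smul_one]; exact Submodule.smul_mem _ c (Submodule.subset_span rfl)
    · exact Ideal.mul_mem_right z _ (Ideal.subset_span rfl)
  · rw [Submodule.span_le]; rintro _ rfl; exact A.one_mem
  · intro x hx
    obtain ⟨w, rfl⟩ := Ideal.mem_span_singleton'.mp hx
    rw [mul_comm]
    exact hin (N + 1 - n) n le_rfl (by omega) w


end Groth.Agent.S14639
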