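import Groth.Statements.S1464
import Mathlib
import Groth.Agent.FlatMisc.ApproxDim

set_option autoImplicit false
universe u
open FlatMor

namespace Groth.Agent.S1464

open AlgebraicGeometry CategoryTheory Limits in
/-- Let f : X → S be a morphism of finite presentation between affine schemes all of whose fibres have
dimension d. Then f is the base change of a morphism of finite type f₀ : X₀ → S₀ between affine
schemes with S₀ of finite type over ℤ, where f₀ can be chosen with the same property. -/
theorem result {X S : Scheme.{u}} (f : X ⟶ S) [IsAffine X] [IsAffine S] [LocallyOfFinitePresentation f] (d : ℕ) (hd : ∀ s : S, topologicalKrullDim ↑(f.fiber s) = d) :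
    ∃ (X₀ S₀ : Scheme.{u}) (f₀ : X₀ ⟶ S₀) (g : S ⟶ S₀) (g' : X ⟶ X₀), IsAffine X₀ ∧ IsAffine S₀ ∧ IsPullback g' f f₀ g ∧
      Algebra.FiniteType ℤ Γ(S₀, ⊤) ∧ LocallyOfFiniteType f₀ ∧ ∀ s₀ : S₀, topologicalKrullDim ↑(f₀.fiber s₀) = d := by
  exact Groth.Agent.FlatMisc.ApproxDim.exists_model_dim f d hd

end Groth.Agent.S1464
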