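import Groth.Statements.S14643
import Groth.Agent.GrpSchLib.Action
import Groth.Agent.GrpSchLib.Descent
import Groth.Agent.GrpSchLib.HomFlat
import Groth.Agent.H23.EqvUnr
-- import your own Groth.Agent.* helpers here

set_option autoImplicit false
universe u
open CategoryTheory MonoidalCategory CartesianMonoidalCategory MonObj GrpObj AlgebraicGeometry CategoryTheory.Limits
open AlgGrp

namespace Groth.Agent.S14643

/-- Over a field k, let G be a smooth k-group scheme of finite type acting on a variety X (a separated,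
geometrically integral k-scheme of finite type). Let n : N → G be the kernel of the action: a closed
subgroup scheme such that, for every k-scheme T, a T-point of G factors through N exactly when it
acts as the identity on all points of X over T-schemes. Let π : G → Q be a homomorphism onto a
k-group scheme of finite type which is flat and surjective with kernel N (the quotient G/N). Then
there is a unique action of Q on X inducing the given one along π; this action of Q is faithful (a
T-point of Q acting as the identity on all points of X over T-schemes is the unit); and X is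
homogeneous under G (surjective graph morphism (g, x) ↦ (x, g·x)) if and only if it is homogeneous
under Q, and almost homogeneous under G (dominant graph morphism) if and only if it is almost
homogeneous under Q. -/
theorem result (k : Type u) [Field k]
    (G N Q X : Over (Spec (CommRingCat.of k))) [GrpObj G] [Smooth G.hom] [QuasiCompact G.hom]
    [IsSeparated X.hom] [LocallyOfFiniteType X.hom] [QuasiCompact X.hom] [GeometricallyIntegral X.hom] (a : AlgGrp.Action G X)
    [GrpObj N] (n : N ⟶ G) [IsMonHom n] [IsClosedImmersion n.left]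
    (hN : ∀ (T : Over (Spec (CommRingCat.of k))) (g : T ⟶ G),
      (∃ m : T ⟶ N, m ≫ n = g) ↔
        ∀ (T' : Over (Spec (CommRingCat.of k))) (s : T' ⟶ T) (x : T' ⟶ X), CartesianMonoidalCategory.lift (s ≫ g) x ≫ a.act = x)
    [GrpObj Q] [LocallyOfFiniteType Q.hom] [QuasiCompact Q.hom] (π : G ⟶ Q) [IsMonHom π] [Flat π.left] [Surjective π.left]
    (hker : AlgGrp.IsKernel n π) :
    (∃! b : AlgGrp.Action Q X, (π ▷ X) ≫ b.act = a.act) ∧
    ∀ b : AlgGrp.Action Q X, (π ▷ X) ≫ b.act = a.act →
      (∀ (T : Over (Spec (CommRingCat.of k))) (q : T ⟶ Q),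
        (∀ (T' : Over (Spec (CommRingCat.of k))) (s : T' ⟶ T) (x : T' ⟶ X), CartesianMonoidalCategory.lift (s ≫ q) x ≫ b.act = x) → q = 1) ∧
      (Surjective (CartesianMonoidalCategory.lift (CartesianMonoidalCategory.snd G X) a.act).left ↔
        Surjective (CartesianMonoidalCategory.lift (CartesianMonoidalCategory.snd Q X) b.act).left) ∧
      (IsDominant (CartesianMonoidalCategory.lift (CartesianMonoidalCategory.snd G X) a.act).left ↔
        IsDominant (CartesianMonoidalCategory.lift (CartesianMonoidalCategory.snd Q X) b.act).left) := by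
  have hπ : Groth.Agent.GrpSchLib.IsCover π := Groth.Agent.GrpSchLib.isCover_of_flat_surjective π
  obtain ⟨_, _, hqc⟩ := hπ
  have hR : ∀ {A B : Over (Spec (CommRingCat.of k))} (f : A ⟶ B) (P : Over (Spec (CommRingCat.of k))),
      Groth.Agent.GrpSchLib.IsCover f → Groth.Agent.GrpSchLib.IsCover (f ▷ P) := fun f P h =>
    ⟨Groth.Agent.GrpSchLib.property_whiskerRight f P @Flat h.1,
      Groth.Agent.GrpSchLib.property_whiskerRight f P @Surjective h.2.1,
      Groth.Agent.GrpSchLib.property_whiskerRight f P @QuasiCompact h.2.2⟩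
  have hL : ∀ {A B : Over (Spec (CommRingCat.of k))} (f : A ⟶ B) (P : Over (Spec (CommRingCat.of k))),
      Groth.Agent.GrpSchLib.IsCover f → Groth.Agent.GrpSchLib.IsCover (P ◁ f) := fun f P h =>
    ⟨MorphismProperty.of_isPullback (P := @Flat) (Groth.Agent.H23.EqvUnr.isPullback_whiskerLeft P f).flip h.1,
      MorphismProperty.of_isPullback (P := @Surjective) (Groth.Agent.H23.EqvUnr.isPullback_whiskerLeft P f).flip h.2.1,
      MorphismProperty.of_isPullback (P := @QuasiCompact) (Groth.Agent.H23.EqvUnr.isPullback_whiskerLeft P f).flip h.2.2⟩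
  have hπ : Groth.Agent.GrpSchLib.IsCover π := ⟨inferInstance, inferInstance, hqc⟩
  have hπX := hR π X hπ
  haveI : Epi (π ▷ X) := hπX.epi
  obtain ⟨_, _, _⟩ := hπX
  -- the kernel acts trivially
  have hdesc : ∀ {W : Over (Spec (CommRingCat.of k))} (w₁ w₂ : W ⟶ G ⊗ X),
      w₁ ≫ (π ▷ X) = w₂ ≫ (π ▷ X) → w₁ ≫ a.act = w₂ ≫ a.act := by
    intro W w₁ w₂ h
    have h1 := congrArg (· ≫ fst Q X) h
    have h2 := congrArg (· ≫ snd Q X) h
    simp only [Category.assoc, whiskerRight_fst, whiskerRight_snd] at h1 h2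
    rw [← Category.assoc, ← Category.assoc] at h1
    have e : ((w₂ ≫ fst G X)⁻¹ * (w₁ ≫ fst G X)) ≫ π = 1 := by
      rw [MonObj.mul_comp, GrpObj.inv_comp, h1, inv_mul_cancel]
    obtain ⟨m, hm, -⟩ := hker.exists_lift ((w₂ ≫ fst G X)⁻¹ * (w₁ ≫ fst G X)) (toUnit W) (by rw [e]; rfl)
    have ht := (hN W _).mp ⟨m, hm⟩ W (𝟙 W) (w₁ ≫ snd G X)
    rw [Category.id_comp] at ht
    have hw : ∀ w : W ⟶ G ⊗ X, w = lift (w ≫ fst G X) (w ≫ snd G X) := fun w => by
      apply CartesianMonoidalCategory.hom_ext <;> simp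
    rw [hw w₁, hw w₂, ← h2]
    conv_rhs => rw [← ht, Groth.Agent.GrpSchLib.act_mul, mul_inv_cancel_left]
  have hh : ∀ {W : Scheme.{u}} (g₁ g₂ : W ⟶ (G ⊗ X).left),
      g₁ ≫ (π ▷ X).left = g₂ ≫ (π ▷ X).left → g₁ ≫ a.act.left = g₂ ≫ a.act.left := by
    intro W g₁ g₂ hg
    have hw : g₂ ≫ (G ⊗ X).hom = g₁ ≫ (G ⊗ X).hom := by
      rw [← Over.w (π ▷ X), ← Category.assoc, ← hg, Category.assoc]
    exact congrArg CommaMorphism.left (hdesc (W := Over.mk (g₁ ≫ (G ⊗ X).hom)) (Over.homMk g₁ rfl)
      (Over.homMk g₂ hw) (Over.OverMorphism.ext hg))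
  let l := EffectiveEpi.desc (π ▷ X).left a.act.left fun g₁ g₂ hg => hh g₁ g₂ hg
  have hl : (π ▷ X).left ≫ l = a.act.left := EffectiveEpi.fac _ _ _
  let bact : Q ⊗ X ⟶ X := Over.homMk l (by
    rw [← cancel_epi (π ▷ X).left, ← Category.assoc, hl, Over.w a.act, Over.w (π ▷ X)])
  have hb : (π ▷ X) ≫ bact = a.act := Over.OverMorphism.ext hl
  have hpt : ∀ {T : Over (Spec (CommRingCat.of k))} (b : Q ⊗ X ⟶ X), (π ▷ X) ≫ b = a.act →
      ∀ (g : T ⟶ G) (x : T ⟶ X), lift (g ≫ π) x ≫ b = lift g x ≫ a.act := fun b hb g x => by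
    rw [← hb, lift_whiskerRight_assoc]
  let b : AlgGrp.Action Q X :=
    { act := bact
      one_act := by
        rw [← IsMonHom.one_hom π, comp_whiskerRight, Category.assoc, hb, a.one_act]
      mul_act := by
        have hc : Groth.Agent.GrpSchLib.IsCover (((G ◁ π) ≫ (π ▷ Q)) ▷ X) :=
          hR _ X ((hL π G hπ).comp (hR π Q hπ))
        haveI := hc.epi
        have e : ((G ◁ π) ≫ (π ▷ Q)) ▷ X =
            lift (lift ((fst (G ⊗ G) X ≫ fst G G) ≫ π) ((fst (G ⊗ G) X ≫ snd G G) ≫ π)) (snd (G ⊗ G) X) := by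
          apply CartesianMonoidalCategory.hom_ext
          · apply CartesianMonoidalCategory.hom_ext <;> simp
          · simp
        rw [← cancel_epi (((G ◁ π) ≫ (π ▷ Q)) ▷ X), e, lift_whiskerRight_assoc, lift_lift_associator_hom_assoc,
          lift_whiskerLeft_assoc, hpt bact hb, hpt bact hb, Groth.Agent.GrpSchLib.act_mul]
        show lift (((fst (G ⊗ G) X ≫ fst G G) ≫ π) * ((fst (G ⊗ G) X ≫ snd G G) ≫ π)) (snd (G ⊗ G) X) ≫ bact = _
        rw [← MonObj.mul_comp, hpt bact hb] }
  refine ⟨⟨b, hb, fun b' hb' => ?_⟩, fun b hb => ?_⟩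
  · have e : b'.act = bact := (cancel_epi (π ▷ X)).mp (hb'.trans hb.symm)
    cases b'
    subst e
    rfl
  have egr : lift (snd G X) a.act = (π ▷ X) ≫ lift (snd Q X) b.act := by
    apply CartesianMonoidalCategory.hom_ext <;> simp [hb]
  refine ⟨fun T q hq => ?_, ?_, ?_⟩
  · obtain ⟨T', c, g, hc, hcg⟩ := hπ.exists_pullback q
    haveI := hc.epi
    obtain ⟨m, hm⟩ := (hN T' g).mpr fun T'' s x => by
      rw [← hpt b.act hb, Category.assoc, ← hcg, ← Category.assoc]
      exact hq T'' (s ≫ c) x
    rw [← cancel_epi c, hcg, ← hm, Category.assoc, hker.w, MonObj.comp_one, ← Category.assoc, comp_toUnit]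
    rfl
  · rw [egr, Over.comp_left]
    exact ⟨fun h => Surjective.of_comp (π ▷ X).left _, fun h => inferInstance⟩
  · rw [egr, Over.comp_left]
    exact ⟨fun h => IsDominant.of_comp (π ▷ X).left _, fun h => inferInstance⟩

end Groth.Agent.S14643
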