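import Groth.Statements.S14645
import Groth.Agent.HomogLib.Points

set_option autoImplicit false
universe u
open CategoryTheory MonoidalCategory CartesianMonoidalCategory MonObj GrpObj AlgebraicGeometry CategoryTheory.Limits
open AlgGrp

namespace Groth.Agent.S14645

/-- Over a field k with algebraic closure K, let G be a smooth k-group scheme of finite type acting on a
variety X (a separated, geometrically integral k-scheme of finite type). Then X is homogeneous under
G, i.e. the graph morphism G × X → X × X, (g, x) ↦ (x, g·x), is surjective, if and only if the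
abstract group G(K) of K-points over k acts transitively on the set X(K): for all K-points x, y of X
there is a K-point g of G with g · x = y. -/
theorem result (k : Type u) [Field k]
    (G X : Over (Spec (CommRingCat.of k))) [GrpObj G] [Smooth G.hom] [QuasiCompact G.hom]
    [IsSeparated X.hom] [LocallyOfFiniteType X.hom] [QuasiCompact X.hom] [GeometricallyIntegral X.hom] (a : AlgGrp.Action G X)
    (K : Type u) [Field K] [Algebra k K] [IsAlgClosure k K] :
    Surjective (CartesianMonoidalCategory.lift (CartesianMonoidalCategory.snd G X) a.act).left ↔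
      ∀ x y : Over.mk (Spec.map (CommRingCat.ofHom (algebraMap k K))) ⟶ X, ∃ g : Over.mk (Spec.map (CommRingCat.ofHom (algebraMap k K))) ⟶ G, CartesianMonoidalCategory.lift g x ≫ a.act = y := by
  haveI : IsAlgClosed K := IsAlgClosure.isAlgClosed k
  haveI : LocallyOfFiniteType G.hom := inferInstance
  haveI hGX : LocallyOfFiniteType (G ⊗ X).hom :=
    inferInstanceAs (LocallyOfFiniteType (Limits.pullback.fst G.hom X.hom ≫ G.hom))
  haveI : QuasiCompact (G ⊗ X).hom :=
    inferInstanceAs (QuasiCompact (Limits.pullback.fst G.hom X.hom ≫ G.hom))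
  haveI : LocallyOfFiniteType (X ⊗ X).hom :=
    inferInstanceAs (LocallyOfFiniteType (Limits.pullback.fst X.hom X.hom ≫ X.hom))
  haveI : QuasiCompact (X ⊗ X).hom :=
    inferInstanceAs (QuasiCompact (Limits.pullback.fst X.hom X.hom ≫ X.hom))
  haveI : IsSeparated (X ⊗ X).hom :=
    inferInstanceAs (IsSeparated (Limits.pullback.fst X.hom X.hom ≫ X.hom))
  rw [HomogLib.surjective_iff_points K]
  constructor
  · intro h x y
    obtain ⟨w, hw⟩ := h (lift x y)
    have h1 : w ≫ snd G X = x := by
      simpa using congrArg (· ≫ fst X X) hw
    have h2 : w ≫ a.act = y := by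
      simpa using congrArg (· ≫ snd X X) hw
    refine ⟨w ≫ fst G X, ?_⟩
    rw [← h2, ← h1]
    simp [← comp_lift_assoc]
  · intro h v
    obtain ⟨g, hg⟩ := h (v ≫ fst X X) (v ≫ snd X X)
    refine ⟨lift g (v ≫ fst X X), CartesianMonoidalCategory.hom_ext _ _ ?_ ?_⟩
    · simp
    · simpa using hg

end Groth.Agent.S14645
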