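import Groth.Statements.S1465
import Mathlib
import Groth.Agent.RingPO.ChartPushout
import Groth.Agent.RingPO.FibreAffine
import Groth.Agent.RingPO.Sep

set_option autoImplicit false
universe u
open FlatMor

namespace Groth.Agent.S1465

open AlgebraicGeometry CategoryTheory Limits in
/-- Let i : Z → X be a closed immersion and j : Z → Y an integral morphism such that each fibre of j
lies in the preimage of an affine open of X. Let i' : Z' → X', j' : Z' → Y' and f : X' → X, g : Y' →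
Y, h : Z' → Z form cartesian squares over i and j, with f, g, h separated and locally quasi-finite.
Then the pushouts W of (i, j) and W' of (i', j') exist in the category of schemes, the induced W' →
W is separated and locally quasi-finite, and the squares comparing Y' → W', X' → W' with Y → W, X →
W are cartesian. -/
theorem result {X Y Z X' Y' Z' : Scheme.{u}}
    (i : Z ⟶ X) [IsClosedImmersion i] (j : Z ⟶ Y) [IsIntegralHom j]
    (h3 : ∀ y : Y, ∃ U : X.Opens, IsAffineOpen U ∧ j ⁻¹' {y} ⊆ (i ⁻¹ᵁ U : Set ↑Z))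
    (i' : Z' ⟶ X') (j' : Z' ⟶ Y') (f : X' ⟶ X) (g : Y' ⟶ Y) (h : Z' ⟶ Z)
    (hX : IsPullback h i' i f) (hY : IsPullback h j' j g)
    [IsSeparated f] [LocallyQuasiFinite f] [LocallyOfFiniteType f] [IsSeparated g] [LocallyQuasiFinite g] [LocallyOfFiniteType g]
    [IsSeparated h] [LocallyQuasiFinite h] [LocallyOfFiniteType h] :
    ∃ (W W' : Scheme.{u}) (a : Y ⟶ W) (b : X ⟶ W) (a' : Y' ⟶ W') (b' : X' ⟶ W') (k : W' ⟶ W),
      IsPushout j i a b ∧ IsPushout j' i' a' b' ∧ a' ≫ k = g ≫ a ∧ b' ≫ k = f ≫ b ∧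
      IsSeparated k ∧ LocallyQuasiFinite k ∧ LocallyOfFiniteType k ∧ IsPullback g a' a k ∧ IsPullback f b' b k := by
  haveI : IsClosedImmersion i' := MorphismProperty.of_isPullback hX ‹_›
  haveI : IsIntegralHom j' := MorphismProperty.of_isPullback hY ‹_›
  have hc : ∀ y : Y, ∃ c : RingPO.Chart i j, y ∈ c.V := RingPO.chart_of_integral h3
  have hc' : ∀ y : Y', ∃ c : RingPO.Chart i' j', y ∈ c.V :=
    RingPO.chart_of_integral (fun y => RingPO.exists_affine_fibre h3 hX.w hY.w y)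
  have hP : IsPushout i j (RingPO.inX hc) (RingPO.inY hc) := RingPO.isPushout_glued hc
  have hP' : IsPushout i' j' (RingPO.inX hc') (RingPO.inY hc') := RingPO.isPushout_glued hc'
  have hw : i' ≫ f ≫ RingPO.inX hc = j' ≫ g ≫ RingPO.inY hc := by
    rw [← reassoc_of% hX.w, ← reassoc_of% hY.w, hP.w]
  let k : RingPO.glued i' j' ⟶ RingPO.glued i j := hP'.desc _ _ hw
  have hb : RingPO.inX hc' ≫ k = f ≫ RingPO.inX hc := hP'.inl_desc _ _ hw
  have ha : RingPO.inY hc' ≫ k = g ≫ RingPO.inY hc := hP'.inr_desc _ _ hw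
  haveI : IsAffineHom (RingPO.inX hc) := RingPO.isAffineHom_inl hP hc
  haveI : IsAffineHom (RingPO.inX hc') := RingPO.isAffineHom_inl hP' hc'
  haveI : IsClosedImmersion (RingPO.inY hc) := RingPO.isClosedImmersion_inr hP hc
  haveI : IsClosedImmersion (RingPO.inY hc') := RingPO.isClosedImmersion_inr hP' hc'
  haveI : IsIntegralHom (RingPO.inX hc) := RingPO.isIntegralHom_inl hP hc
  haveI : IsSeparated (RingPO.inX hc' ≫ k) := by rw [hb]; infer_instance
  haveI : IsSeparated (RingPO.inY hc' ≫ k) := by rw [ha]; infer_instance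
  let ι := { p : (RingPO.glued i j).affineOpens × (RingPO.glued i' j').affineOpens // p.2.1 ≤ k ⁻¹ᵁ p.1.1 }
  have e₁ : ∀ p : ι, RingPO.inX hc' ⁻¹ᵁ p.1.2.1 ≤ f ⁻¹ᵁ RingPO.inX hc ⁻¹ᵁ p.1.1.1 := fun p => by
    rw [← Scheme.Hom.comp_preimage, ← hb, Scheme.Hom.comp_preimage]; exact (RingPO.inX hc').preimage_mono p.2
  have e₂ : ∀ p : ι, RingPO.inY hc' ⁻¹ᵁ p.1.2.1 ≤ g ⁻¹ᵁ RingPO.inY hc ⁻¹ᵁ p.1.1.1 := fun p => by
    rw [← Scheme.Hom.comp_preimage, ← ha, Scheme.Hom.comp_preimage]; exact (RingPO.inY hc').preimage_mono p.2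
  have spec := fun p : ι => RingPO.chart_spec (P := RingPO.glued i j) (P' := RingPO.glued i' j') hP hc hP' hc'
    hX.flip hY.flip hb ha p.1.1 p.1.2 p.2 (e₁ p) (e₂ p)
  have hcov : ∀ x, ∃ p : ι, x ∈ p.1.2.1 := by
    intro x
    obtain ⟨U, hU, hxU, -⟩ := exists_isAffineOpen_mem_and_subset (x := k x) (U := (⊤ : (RingPO.glued i j).Opens)) (by simp)
    obtain ⟨U', hU', hxU', hle⟩ := exists_isAffineOpen_mem_and_subset (x := x) (U := k ⁻¹ᵁ U) hxU
    exact ⟨⟨(⟨U, hU⟩, ⟨U', hU'⟩), hle⟩, hxU'⟩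
  have hcov' : ∀ x, ∃ p : ι, x ∈ Set.range p.1.2.2.fromSpec := fun x => by
    obtain ⟨p, hp⟩ := hcov x
    exact ⟨p, by rw [p.1.2.2.range_fromSpec]; exact hp⟩
  haveI hopen : ∀ p : ι, IsOpenImmersion p.1.2.2.fromSpec := fun p => IsAffineOpen.isOpenImmersion_fromSpec p.1.2.2
  refine ⟨_, _, RingPO.inY hc, RingPO.inX hc, RingPO.inY hc', RingPO.inX hc', k, hP.flip, hP'.flip, ha, hb,
    RingPO.isSeparated_of_isPushout hP' hc' k, ?_, ?_, ?_, ?_⟩
  · refine (HasRingHomProperty.iff_exists_appLE (P := @LocallyQuasiFinite)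
      (RingHom.QuasiFinite.stableUnderComposition.stableUnderCompositionWithLocalizationAway
        RingHom.QuasiFinite.holdsForLocalizationAway).1).mpr fun x => ?_
    obtain ⟨p, hp⟩ := hcov x
    exact ⟨p.1.1, p.1.2, hp, p.2, (spec p).2.2.2
      (HasRingHomProperty.appLE @LocallyQuasiFinite f ‹_› ⟨_, p.1.1.2.preimage _⟩ ⟨_, p.1.2.2.preimage _⟩ (e₁ p))
      (HasRingHomProperty.appLE @LocallyQuasiFinite g ‹_› ⟨_, p.1.1.2.preimage _⟩ ⟨_, p.1.2.2.preimage _⟩ (e₂ p))⟩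
  · refine (HasRingHomProperty.iff_exists_appLE (P := @LocallyOfFiniteType)
      (RingHom.finiteType_stableUnderComposition.stableUnderCompositionWithLocalizationAway
        RingHom.finiteType_holdsForLocalizationAway).1).mpr fun x => ?_
    obtain ⟨p, hp⟩ := hcov x
    exact ⟨p.1.1, p.1.2, hp, p.2, (spec p).2.2.1
      (HasRingHomProperty.appLE @LocallyOfFiniteType f ‹_› ⟨_, p.1.1.2.preimage _⟩ ⟨_, p.1.2.2.preimage _⟩ (e₁ p))
      (HasRingHomProperty.appLE @LocallyOfFiniteType g ‹_› ⟨_, p.1.1.2.preimage _⟩ ⟨_, p.1.2.2.preimage _⟩ (e₂ p))⟩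
  · refine RingPO.isPullback_of_cover ha.symm (fun p : ι => Spec Γ(_, p.1.2.1))
      (fun p : ι => Spec Γ(_, RingPO.inY hc' ⁻¹ᵁ p.1.2.1)) (fun p => p.1.2.2.fromSpec) hcov'
      (fun p => (p.1.2.2.preimage (RingPO.inY hc')).fromSpec)
      (fun p => Spec.map ((RingPO.inY hc').appLE p.1.2 _ le_rfl)) (fun p => RingPO.isPullback_fromSpec _ p.1.2.2)
      (fun p => ?_)
    have h2 := (isPullback_SpecMap_of_isPushout _ _ _ _ (spec p).1).paste_horiz
      (RingPO.isPullback_fromSpec (RingPO.inY hc) p.1.1.2)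
    rwa [(p.1.1.2.preimage (RingPO.inY hc)).SpecMap_appLE_fromSpec g (p.1.2.2.preimage (RingPO.inY hc')) (e₂ p),
      p.1.1.2.SpecMap_appLE_fromSpec k p.1.2.2 p.2] at h2
  · refine RingPO.isPullback_of_cover hb.symm (fun p : ι => Spec Γ(_, p.1.2.1))
      (fun p : ι => Spec Γ(_, RingPO.inX hc' ⁻¹ᵁ p.1.2.1)) (fun p => p.1.2.2.fromSpec) hcov'
      (fun p => (p.1.2.2.preimage (RingPO.inX hc')).fromSpec)
      (fun p => Spec.map ((RingPO.inX hc').appLE p.1.2 _ le_rfl)) (fun p => RingPO.isPullback_fromSpec _ p.1.2.2)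
      (fun p => ?_)
    have h2 := (isPullback_SpecMap_of_isPushout _ _ _ _ (spec p).2.1).paste_horiz
      (RingPO.isPullback_fromSpec (RingPO.inX hc) p.1.1.2)
    rwa [(p.1.1.2.preimage (RingPO.inX hc)).SpecMap_appLE_fromSpec f (p.1.2.2.preimage (RingPO.inX hc')) (e₁ p),
      p.1.1.2.SpecMap_appLE_fromSpec k p.1.2.2 p.2] at h2

end Groth.Agent.S1465
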