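import Groth.Statements.S14652
import Mathlib.RingTheory.Polynomial.IsIntegral
import Mathlib.RingTheory.Localization.FractionRing
import Mathlib.RingTheory.Valuation.Basic
import Mathlib.Tactic.Linarith
-- import your own Groth.Agent.* helpers here

set_option autoImplicit false
universe u
open FiltBl

namespace Groth.Agent.S14652

section helpers

open Polynomial

variable {A K : Type u} [CommRing A] [IsDomain A] [Field K] [Algebra A K] [IsFractionRing A K]
variable (w : AddValuation K (WithTop ℤ)) (p q : ℤ)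

/-- The value of `w` on `A`, as an integer (junk at `0`). -/
noncomputable def V (a : A) : ℤ := (w (algebraMap A K a)).untopD 0

lemma coe_V {a : A} (ha : a ≠ 0) : w (algebraMap A K a) = ((V w a : ℤ) : WithTop ℤ) := by
  have h : w (algebraMap A K a) ≠ ⊤ :=
    (AddValuation.ne_top_iff w).mpr ((map_ne_zero_iff _ (IsFractionRing.injective A K)).mpr ha)
  obtain ⟨z, hz⟩ := WithTop.ne_top_iff_exists.mp h
  rw [V, ← hz]; rfl

lemma V_mul {a b : A} (ha : a ≠ 0) (hb : b ≠ 0) : V w (a * b) = V w a + V w b := by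
  have := coe_V w (mul_ne_zero ha hb)
  rw [map_mul, AddValuation.map_mul, coe_V w ha, coe_V w hb, ← WithTop.coe_add, WithTop.coe_inj] at this
  exact this.symm

/-- The weight of `a Xⁱ`. -/
noncomputable def W (i : ℕ) (a : A) : ℤ := q * V w a - (i : ℤ) * p

lemma W_mul {i j : ℕ} {a b : A} (ha : a ≠ 0) (hb : b ≠ 0) :
    W w p q (i + j) (a * b) = W w p q i a + W w p q j b := by
  simp only [W, V_mul w ha hb]; push_cast; ring

variable (hq : 0 < q)
include hq

lemma le_W_sum {ι : Type*} (s : Finset ι) (g : ι → A) (i : ℕ) (c : ℤ)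
    (h : ∀ x ∈ s, g x ≠ 0 → c ≤ W w p q i (g x)) (hne : ∑ x ∈ s, g x ≠ 0) :
    c ≤ W w p q i (∑ x ∈ s, g x) := by
  classical
  obtain ⟨x₀, hx₀, hx₀'⟩ := Finset.exists_ne_zero_of_sum_ne_zero hne
  obtain ⟨j, hj, hmin⟩ := (s.filter (fun x => g x ≠ 0)).exists_min_image (fun x => V w (g x))
    ⟨x₀, Finset.mem_filter.mpr ⟨hx₀, hx₀'⟩⟩
  rw [Finset.mem_filter] at hj
  have h1 : ((V w (g j) : ℤ) : WithTop ℤ) ≤ w (algebraMap A K (∑ x ∈ s, g x)) := by
    rw [map_sum]
    refine AddValuation.map_le_sum w fun x hx => ?_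
    by_cases h0 : g x = 0
    · rw [h0, map_zero, AddValuation.map_zero]; exact le_top
    · rw [coe_V w h0, WithTop.coe_le_coe]; exact hmin x (Finset.mem_filter.mpr ⟨hx, h0⟩)
  rw [coe_V w hne, WithTop.coe_le_coe] at h1
  refine (h j hj.1 hj.2).trans ?_
  simp only [W]
  have := mul_le_mul_of_nonneg_left h1 hq.le
  linarith

/-- `t` is the least weight of `f`, first attained in degree `k`. -/
def Ext (f : A[X]) (t : ℤ) (k : ℕ) : Prop :=
  (f.coeff k ≠ 0 ∧ W w p q k (f.coeff k) = t) ∧
    ∀ i, f.coeff i ≠ 0 → t ≤ W w p q i (f.coeff i) ∧ (i < k → t < W w p q i (f.coeff i))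

lemma ext_mul {f g : A[X]} {t t' : ℤ} {k k' : ℕ} (hf : Ext w p q f t k) (hg : Ext w p q g t' k') :
    Ext w p q (f * g) (t + t') (k + k') := by
  classical
  have term : ∀ (i : ℕ) (x : ℕ × ℕ), x ∈ Finset.antidiagonal i → f.coeff x.1 * g.coeff x.2 ≠ 0 →
      t + t' ≤ W w p q i (f.coeff x.1 * g.coeff x.2) ∧
        ((x.1 < k ∨ x.2 < k') → t + t' < W w p q i (f.coeff x.1 * g.coeff x.2)) := by
    intro i x hx hne
    obtain ⟨h1, h2⟩ := mul_ne_zero_iff.mp hne
    rw [← Finset.mem_antidiagonal.mp hx, W_mul w p q h1 h2]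
    obtain ⟨a1, a2⟩ := hf.2 _ h1
    obtain ⟨b1, b2⟩ := hg.2 _ h2
    refine ⟨add_le_add a1 b1, ?_⟩
    rintro (h | h)
    · exact add_lt_add_of_lt_of_le (a2 h) b1
    · exact add_lt_add_of_le_of_lt a1 (b2 h)
  have hne0 := mul_ne_zero hf.1.1 hg.1.1
  have hmain : W w p q (k + k') (f.coeff k * g.coeff k') = t + t' := by
    rw [W_mul w p q hf.1.1 hg.1.1, hf.1.2, hg.1.2]
  refine ⟨?_, fun i hi => ⟨?_, fun hik => ?_⟩⟩
  · rw [coeff_mul, ← Finset.add_sum_erase _ _
      (show (k, k') ∈ Finset.antidiagonal (k + k') from Finset.mem_antidiagonal.mpr rfl)]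
    set R := ∑ x ∈ (Finset.antidiagonal (k + k')).erase (k, k'), f.coeff x.1 * g.coeff x.2 with hR
    simp only
    by_cases hR0 : R = 0
    · rw [hR0, add_zero]; exact ⟨hne0, hmain⟩
    have hlt : t + t' + 1 ≤ W w p q (k + k') R := by
      refine le_W_sum w p q hq _ _ _ _ (fun x hx hne => ?_) hR0
      obtain ⟨hxne, hx⟩ := Finset.mem_erase.mp hx
      refine (term _ x hx hne).2 ?_
      by_contra hc
      push Not at hc
      have := Finset.mem_antidiagonal.mp hx
      exact hxne (Prod.ext_iff.mpr ⟨show x.1 = k by omega, show x.2 = k' by omega⟩)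
    have hV : V w (f.coeff k * g.coeff k') < V w R := by
      by_contra hc
      push Not at hc
      have h1 := mul_le_mul_of_nonneg_left hc hq.le
      simp only [W] at hmain hlt
      linarith
    have hsum : w (algebraMap A K (f.coeff k * g.coeff k' + R)) = ((V w (f.coeff k * g.coeff k') : ℤ) : WithTop ℤ) := by
      rw [map_add, AddValuation.map_add_eq_of_lt_left w, coe_V w hne0]
      rw [coe_V w hne0, coe_V w hR0, WithTop.coe_lt_coe]; exact hV
    have hne1 : f.coeff k * g.coeff k' + R ≠ 0 := fun h => by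
      rw [h, map_zero, AddValuation.map_zero] at hsum
      exact WithTop.top_ne_coe hsum
    refine ⟨hne1, ?_⟩
    rw [coe_V w hne1, WithTop.coe_inj] at hsum
    simp only [W] at hmain ⊢
    rw [hsum]; exact hmain
  · rw [coeff_mul] at hi ⊢
    exact le_W_sum w p q hq _ _ _ _ (fun x hx hne => (term i x hx hne).1) hi
  · rw [coeff_mul] at hi ⊢
    refine lt_of_lt_of_le (lt_add_one _) (le_W_sum w p q hq _ _ _ (t + t' + 1) (fun x hx hne => (term i x hx hne).2 ?_) hi)
    have := Finset.mem_antidiagonal.mp hx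
    omega

omit hq in
lemma ext_one (hw : ∀ a : A, 0 ≤ w (algebraMap A K a)) : Ext w p q (1 : A[X]) 0 0 := by
  have h1 : V w (1 : A) = 0 := by
    rw [V, map_one, AddValuation.map_one]; rfl
  refine ⟨⟨by simp, by simp [W, h1]⟩, fun i hi => ?_⟩
  rw [coeff_one] at hi ⊢
  split_ifs at hi ⊢ with h
  · subst h; simp [W, h1]
  · exact absurd rfl hi

lemma ext_pow (hw : ∀ a : A, 0 ≤ w (algebraMap A K a)) {f : A[X]} {t : ℤ} {k : ℕ} (hf : Ext w p q f t k) :
    ∀ n : ℕ, Ext w p q (f ^ n) ((n : ℤ) * t) (n * k)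
  | 0 => by simpa using ext_one w p q hw
  | n + 1 => by
    rw [pow_succ, Nat.cast_succ, add_mul, one_mul, add_mul, one_mul]
    exact ext_mul w p q hq (ext_pow hw hf n) hf

/-- A polynomial integral over those of nonnegative weight has nonnegative weight. -/
lemma W_nonneg_of_integral (hw : ∀ a : A, 0 ≤ w (algebraMap A K a)) (f : A[X]) (n : ℕ) (r : ℕ → A[X])
    (hr : ∀ j i, (r j).coeff i ≠ 0 → 0 ≤ W w p q i ((r j).coeff i))
    (heq : f ^ n + ∑ j ∈ Finset.range n, r j * f ^ j = 0) (i : ℕ) (hi : f.coeff i ≠ 0) :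
    0 ≤ W w p q i (f.coeff i) := by
  classical
  obtain ⟨i₁, hi₁, hmin⟩ := f.support.exists_min_image (fun j => W w p q j (f.coeff j))
    ⟨i, mem_support_iff.mpr hi⟩
  by_contra hneg
  push Not at hneg
  set t := W w p q i₁ (f.coeff i₁) with ht
  have htneg : t < 0 := lt_of_le_of_lt (hmin i (mem_support_iff.mpr hi)) hneg
  have hex : ∃ k, f.coeff k ≠ 0 ∧ W w p q k (f.coeff k) = t := ⟨i₁, mem_support_iff.mp hi₁, ht.symm⟩
  have hf : Ext w p q f t (Nat.find hex) := ⟨Nat.find_spec hex, fun j hj =>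
    ⟨hmin j (mem_support_iff.mpr hj), fun hjk => lt_of_le_of_ne (hmin j (mem_support_iff.mpr hj))
      fun e => Nat.find_min hex hjk ⟨hj, e.symm⟩⟩⟩
  obtain ⟨⟨hne, hW⟩, -⟩ := ext_pow w p q hq hw hf n
  set N := n * Nat.find hex
  have hcoeff : (f ^ n).coeff N = ∑ x ∈ Finset.range n, -((r x * f ^ x).coeff N) := by
    rw [eq_neg_of_add_eq_zero_left heq, coeff_neg, finsetSum_coeff, Finset.sum_neg_distrib]
  have hVneg : ∀ a : A, a ≠ 0 → V w (-a) = V w a := fun a ha => by
    rw [V, V, map_neg, AddValuation.map_neg]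
  have hlow : (n : ℤ) * t + 1 ≤ W w p q N ((f ^ n).coeff N) := by
    rw [hcoeff]
    refine le_W_sum w p q hq _ _ _ _ (fun x hx hne' => ?_) (hcoeff ▸ hne)
    rw [neg_ne_zero] at hne'
    simp only [W, hVneg _ hne']
    show _ ≤ W w p q N _
    rw [coeff_mul] at hne' ⊢
    refine le_W_sum w p q hq _ _ _ _ (fun y hy hy' => ?_) hne'
    obtain ⟨h1, h2⟩ := mul_ne_zero_iff.mp hy'
    rw [← Finset.mem_antidiagonal.mp hy, W_mul w p q h1 h2]
    have := hr x _ h1
    have := ((ext_pow w p q hq hw hf x).2 _ h2).1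
    have : (x : ℤ) + 1 ≤ n := by exact_mod_cast Finset.mem_range.mp hx
    nlinarith
  omega

end helpers


/-- Let A be a Noetherian integrally closed domain with fraction field K, let v_1, …, v_s be finitely
many valuations on K with values in ℤ ∪ {∞} (written additively) that are non-negative on A, and let
r_i = p_i / q_i be positive rationals (p_i, q_i positive integers). Let F be the filtration of
ideals of A given by F^k = {x ∈ A | q_i · v_i(x) ≥ k · p_i for every i}. Then the Rees algebra ⊕_{k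
≥ 0} F^k X^k ⊆ A[X] is an integrally closed domain (it need not be Noetherian). -/
theorem result (A K : Type u) [CommRing A] [IsDomain A]
    [IsNoetherianRing A] [IsIntegrallyClosed A] [Field K] [Algebra A K] [IsFractionRing A K]
    (ι : Type) [Finite ι] (v : ι → AddValuation K (WithTop ℤ))
    (hv : ∀ (i : ι) (x : A), 0 ≤ v i (algebraMap A K x)) (p q : ι → ℕ) (hp : ∀ i, 0 < p i)
    (hq : ∀ i, 0 < q i) (𝓕 : FiltBl.IdealFiltration A)
    (hF : ∀ (k : ℕ) (x : A), x ∈ 𝓕.F k ↔
      ∀ i, ((k * p i : ℕ) : WithTop ℤ) ≤ (q i : WithTop ℤ) * v i (algebraMap A K x)) :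
    IsIntegrallyClosed 𝓕.rees := by
  have hinj : Function.Injective (algebraMap 𝓕.rees (Polynomial A)) := Subtype.val_injective
  let g : 𝓕.rees →+* FractionRing (Polynomial A) :=
    (algebraMap (Polynomial A) (FractionRing (Polynomial A))).comp (algebraMap 𝓕.rees (Polynomial A))
  have hg : Function.Injective g :=
    (IsFractionRing.injective (Polynomial A) (FractionRing (Polynomial A))).comp hinj
  letI : Algebra (FractionRing 𝓕.rees) (FractionRing (Polynomial A)) :=
    (IsFractionRing.lift (A := 𝓕.rees) (K := FractionRing 𝓕.rees) hg).toAlgebra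
  haveI : IsScalarTower 𝓕.rees (FractionRing 𝓕.rees) (FractionRing (Polynomial A)) :=
    IsScalarTower.of_algebraMap_eq fun x => (IsFractionRing.lift_algebraMap _ x).symm
  rw [isIntegrallyClosed_iff (FractionRing 𝓕.rees)]
  intro z hz
  have h1 : IsIntegral 𝓕.rees (algebraMap (FractionRing 𝓕.rees) (FractionRing (Polynomial A)) z) := hz.algebraMap
  obtain ⟨f, hf⟩ := (isIntegrallyClosed_iff (FractionRing (Polynomial A))).mp inferInstance (h1.tower_top (A := Polynomial A))
  have hfint : IsIntegral 𝓕.rees f :=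
    (isIntegral_algebraMap_iff (IsFractionRing.injective (Polynomial A) (FractionRing (Polynomial A)))).mp (hf ▸ h1)
  obtain ⟨P, hP, hP0⟩ := hfint
  have hmem : f ∈ 𝓕.rees := by
    intro k
    rw [hF]
    intro i
    by_cases hk : f.coeff k = 0
    · rw [hk, map_zero, AddValuation.map_zero, WithTop.mul_top (by exact_mod_cast (hq i).ne')]
      exact le_top
    have hW := W_nonneg_of_integral (v i) (p i : ℤ) (q i : ℤ) (by exact_mod_cast hq i) (hv i) f P.natDegree
      (fun j => ((P.coeff j : 𝓕.rees) : Polynomial A)) (fun j l hl => by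
        have h2 := (hF l _).mp ((P.coeff j).2 l) i
        rw [coe_V (v i) hl, ← WithTop.coe_natCast, ← WithTop.coe_natCast, ← WithTop.coe_mul, WithTop.coe_le_coe] at h2
        have h3 := h2
        simp only [W]
        push_cast at h3
        linarith) (by
        rw [← hP0, Polynomial.eval₂_eq_sum_range, Finset.sum_range_succ, add_comm]
        congr 1
        rw [hP.coeff_natDegree, map_one, one_mul]) k hk
    rw [coe_V (v i) hk]
    simp only [W] at hW
    have h3 : ((k * p i : ℕ) : ℤ) ≤ (q i : ℤ) * V (v i) (f.coeff k) := by push_cast; linarith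
    rw [← WithTop.coe_natCast, ← WithTop.coe_natCast, ← WithTop.coe_mul, WithTop.coe_le_coe]
    exact h3
  refine ⟨⟨f, hmem⟩, (algebraMap (FractionRing 𝓕.rees) (FractionRing (Polynomial A))).injective ?_⟩
  rw [← IsScalarTower.algebraMap_apply, ← hf]
  rfl

end Groth.Agent.S14652
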