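import Groth.Statements.S14655
import Groth.Agent.ProjCM.Stalk
import Groth.Agent.LC.LiaisonLocal
-- import your own Groth.Agent.* helpers here

set_option autoImplicit false
universe u
open FiltBl

namespace Groth.Agent.S14655

open AlgebraicGeometry in
/-- Let A be a Noetherian ℕ-graded commutative ring which is a Cohen–Macaulay ring. Then the scheme Proj
A is Cohen–Macaulay: every local ring of Proj A is a Cohen–Macaulay local ring. -/
theorem result (A : Type u) [CommRing A]
    (𝒜 : ℕ → AddSubgroup A) [GradedRing 𝒜] [LocCoh.IsCohenMacaulayRing A] (x : Proj 𝒜) :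
    LocCoh.IsCohenMacaulayLocalRing ((Proj 𝒜).presheaf.stalk x) := by
  haveI : x.asHomogeneousIdeal.toIdeal.IsPrime := x.isPrime
  have hP : x.asHomogeneousIdeal.toIdeal.IsHomogeneous 𝒜 := x.asHomogeneousIdeal.isHomogeneous
  haveI h := ProjCM.isCohenMacaulayLocalRing 𝒜 hP (ProjCM.rel_of_point 𝒜 x)
    (LocCoh.IsCohenMacaulayRing.isCohenMacaulayLocalRing_localization x.asHomogeneousIdeal.toIdeal)
  let e : ((Proj 𝒜).presheaf.stalk x) ≃+* HomogeneousLocalization.AtPrime 𝒜 x.asHomogeneousIdeal.toIdeal :=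
    Proj.stalkIso' 𝒜 x
  haveI : IsNoetherianRing ((Proj 𝒜).presheaf.stalk x) :=
    isNoetherianRing_of_ringEquiv (HomogeneousLocalization.AtPrime 𝒜 x.asHomogeneousIdeal.toIdeal) e.symm
  exact LC.Liaison.isCMLocal_of_ringEquiv e.symm

end Groth.Agent.S14655
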