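import Groth.Statements.S14656
import Groth.Agent.ProjCM.Stalk
import Groth.Agent.FlatLoc6.FiberSelf
-- import your own Groth.Agent.* helpers here

set_option autoImplicit false
universe u
open FiltBl

namespace Groth.Agent.S14656

open AlgebraicGeometry in
/-- Let A be a Noetherian ℕ-graded commutative ring satisfying Serre's condition (S_1) (every
localization A_p has depth at least min(1, dim A_p)). Then every local ring of the scheme Proj A
satisfies (S_1). -/
theorem result (A : Type u) [CommRing A] [IsNoetherianRing A]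
    (𝒜 : ℕ → AddSubgroup A) [GradedRing 𝒜] (hA : LocCoh.HasSk 1 A A) (x : Proj 𝒜) :
    LocCoh.HasSk 1 ((Proj 𝒜).presheaf.stalk x) ((Proj 𝒜).presheaf.stalk x) := by
  haveI : x.asHomogeneousIdeal.toIdeal.IsPrime := x.isPrime
  have hP : x.asHomogeneousIdeal.toIdeal.IsHomogeneous 𝒜 := x.asHomogeneousIdeal.isHomogeneous
  haveI := ProjCM.isNoetherianRing 𝒜 hP
  let e : ((Proj 𝒜).presheaf.stalk x) ≃+* HomogeneousLocalization.AtPrime 𝒜 x.asHomogeneousIdeal.toIdeal :=
    Proj.stalkIso' 𝒜 x
  exact FlatLoc6.hasSk_of_ringEquiv e.symm 1 (ProjCM.hasSk_one 𝒜 hP (ProjCM.rel_of_point 𝒜 x) hA)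

end Groth.Agent.S14656
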