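import Groth.Statements.S14658
import Groth.Agent.GrUnit.Basic
-- import your own Groth.Agent.* helpers here

set_option autoImplicit false
universe u
open FiltBl

namespace Groth.Agent.S14658

/-- Let R be a Noetherian ℤ-graded commutative ring which is regular (every localization at a prime is a
regular local ring) and whose degree-0 subring R_0 is a local ring with maximal ideal m. Let t ∈ R_N
be a homogeneous unit of R of positive degree N such that R_i · R_j ⊆ m · t for all positive i, j
with i + j = N (every product a b with a ∈ R_i, b ∈ R_j is c t for some c ∈ m). Then the ring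
R[U]/(U^N − t), U an indeterminate, is again regular: all its localizations at prime ideals are
regular local rings. -/
theorem result (R : Type u) [CommRing R]
    [IsNoetherianRing R] (𝒜 : ℤ → AddSubgroup R) [GradedRing 𝒜]
    (hreg : ∀ (p : Ideal R) [p.IsPrime], IsRegularLocalRing (Localization.AtPrime p))
    [IsLocalRing (GrLC.deg0 𝒜)] (N : ℕ) (hN : 0 < N) (t : R) (ht : t ∈ 𝒜 (N : ℤ))
    (htu : IsUnit t)
    (hm : ∀ (i j : ℤ), 0 < i → 0 < j → i + j = (N : ℤ) → ∀ a ∈ 𝒜 i, ∀ b ∈ 𝒜 j,
      ∃ c : GrLC.deg0 𝒜, c ∈ IsLocalRing.maximalIdeal (GrLC.deg0 𝒜) ∧ a * b = (c : R) * t)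
    (q : Ideal (AdjoinRoot (Polynomial.X ^ N - Polynomial.C t))) [q.IsPrime] :
    IsRegularLocalRing (Localization.AtPrime q) := by
  have hmin : ∀ (n : ℤ), 0 < n → n < (N : ℤ) → ∀ s ∈ 𝒜 n, ¬ IsUnit s := by
    intro i hi hiN a ha hu
    have hmem : a * ((hu.unit⁻¹ : Rˣ) : R) * t ∈ 𝒜 (N : ℤ) := by rw [hu.mul_val_inv, one_mul]; exact ht
    classical
    let b : R := (DirectSum.decompose 𝒜 (((hu.unit⁻¹ : Rˣ) : R) * t) ((N : ℤ) - i) : R)
    have hb : a * b = t := by
      have h := DirectSum.coe_decompose_mul_add_of_left_mem 𝒜 (j := (N : ℤ) - i)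
        (b := ((hu.unit⁻¹ : Rˣ) : R) * t) ha
      rw [← mul_assoc, hu.mul_val_inv, one_mul, add_sub_cancel, DirectSum.decompose_of_mem_same 𝒜 ht] at h
      exact h.symm
    obtain ⟨c, hc, hcab⟩ := hm i ((N : ℤ) - i) hi (by omega) (by omega) a ha b
      (DirectSum.decompose 𝒜 _ _).2
    rw [hb] at hcab
    have h1 : (c : R) = 1 := (htu.mul_right_cancel (hcab.symm.trans (one_mul t).symm))
    have h2 : c = 1 := Subtype.ext h1
    exact hc (h2 ▸ isUnit_one)
  haveI : IsRegularLocalRing (R ⧸ Ideal.span {t - 1}) := GrUnit.isRegularLocalRing_quotient 𝒜 ht htu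
    (fun i hi a ha => GrUnit.minimal_of_least 𝒜 htu hN ht hmin hi ha) hN hreg
  haveI : IsRegularRing (R ⧸ Ideal.span {t - 1}) := RegLoc6.isRegularRing_of_isRegularLocalRing _
  haveI : IsRegularRing (LaurentPolynomial (R ⧸ Ideal.span {t - 1})) := by
    haveI := LaurentPolynomial.isLocalization (R := R ⧸ Ideal.span {t - 1})
    exact GrUnit.isRegularRing_of_isLocalization
      (Submonoid.powers (Polynomial.X : Polynomial (R ⧸ Ideal.span {t - 1})))
  obtain ⟨e⟩ := GrUnit.nonempty_root_equiv 𝒜 ht htu hN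
  haveI := IsRegularRing.of_ringEquiv e
  exact IsRegularRing.isRegularLocalRing_localization q

end Groth.Agent.S14658
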