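import Groth.Statements.S14666
import Groth.Agent.H23.Rigid

set_option autoImplicit false
universe u
open CategoryTheory CategoryTheory.Limits AlgebraicGeometry
open AbSch

namespace Groth.Agent.S14666

/-- Let S be a locally Noetherian scheme, ξ : X ⟶ S a proper morphism all of whose geometric fibres are
integral and for which O_S ⟶ ξ_*O_X is an isomorphism (the map Γ(U, O_S) → Γ(ξ⁻¹U, O_X) is bijective
for every open U of S), v : Y ⟶ S an arbitrary S-scheme and f : X ⟶ Y a morphism over S. Let U be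
the set of points s of S such that f sends every point of the fibre ξ⁻¹(s) to one and the same point
of Y. Then U is open in S, and for every morphism τ : T ⟶ S the base change of f to T factors
through the projection X ×_S T ⟶ T — that is, there is r : T ⟶ Y with r ≫ v = τ and fst ≫ f = snd ≫
r on X ×_S T — if and only if τ maps every point of T into U. -/
theorem result {X Y S : Scheme.{u}} [IsLocallyNoetherian S]
    (ξ : X ⟶ S) [IsProper ξ] [GeometricallyIntegral ξ]
    (h0 : ∀ U : S.Opens, Function.Bijective (ξ.app U).hom)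
    (v : Y ⟶ S) (f : X ⟶ Y) (hf : f ≫ v = ξ) :
    IsOpen {s : ↥S | ∃ y : ↥Y, ∀ x : ↥X, ξ.base x = s → f.base x = y} ∧
    ∀ (T : Scheme.{u}) (τ : T ⟶ S),
      ((∃ r : T ⟶ Y, r ≫ v = τ ∧ pullback.fst ξ τ ≫ f = pullback.snd ξ τ ≫ r) ↔
        ∀ t : ↥T, τ.base t ∈ {s : ↥S | ∃ y : ↥Y, ∀ x : ↥X, ξ.base x = s → f.base x = y}) := by
  have hcl : IsClosedMap ξ := ξ.isClosedMap
  have hsurj := Groth.Agent.H23.Rigid.surjective_of_bijective_app ξ h0 hcl
  let C : Set S := {s | ∃ y : Y, ∀ x : X, ξ.base x = s → f.base x = y}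
  have hopen : IsOpen C := by
    refine isOpen_iff_forall_mem_open.mpr fun s hs => ?_
    obtain ⟨U, V, hV, hsU, hle⟩ := Groth.Agent.H23.Rigid.exists_nhd_collapsed ξ hcl f s hs
    obtain ⟨r, hr⟩ := Groth.Agent.H23.Rigid.exists_factor_of_le ξ h0 f U V hV hle
    exact ⟨U, fun s' hs' => Groth.Agent.H23.Rigid.collapsed_of_factor ξ f U r hr s' hs', U.isOpen, hsU⟩
  refine ⟨hopen, fun T τ => ⟨?_, ?_⟩⟩
  · rintro ⟨r, -, hr⟩ t
    refine ⟨r.base t, fun x hx => ?_⟩
    obtain ⟨w, hw1, hw2⟩ := Scheme.Pullback.exists_preimage_pullback (f := ξ) (g := τ) x t hx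
    have := congr($hr w)
    simp only [Scheme.Hom.comp_apply, hw1, hw2] at this
    exact this
  · intro h
    let U : S.Opens := ⟨C, hopen⟩
    let ξU := ξ ∣_ U
    have hclU : IsClosedMap ξU := ξU.isClosedMap
    obtain ⟨r, hr⟩ := Groth.Agent.H23.Rigid.exists_factor ξU
      (Groth.Agent.H23.Rigid.app_restrict_bijective ξ h0 U) hclU ((ξ ⁻¹ᵁ U).ι ≫ f) (fun s => by
        obtain ⟨y, hy⟩ := s.2
        refine ⟨y, fun x hx => hy x.1 ?_⟩
        exact (congr($(morphismRestrict_ι ξ U) x)).symm.trans (congrArg Subtype.val hx))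
    have hτ : Set.range τ ⊆ Set.range U.ι := by
      rintro _ ⟨t, rfl⟩; rw [Scheme.Opens.range_ι]; exact h t
    let τ' := IsOpenImmersion.lift U.ι τ hτ
    refine ⟨τ' ≫ r, ?_, ?_⟩
    · have hv : r ≫ v = U.ι := by
        refine Groth.Agent.H23.Rigid.cancel_left ξU (Groth.Agent.H23.Rigid.app_restrict_bijective ξ h0 U)
          (Groth.Agent.H23.Rigid.surjective_of_bijective_app ξU
            (Groth.Agent.H23.Rigid.app_restrict_bijective ξ h0 U) hclU) _ _ ?_
        rw [← Category.assoc, hr, Category.assoc, hf, morphismRestrict_ι]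
      rw [Category.assoc, hv, IsOpenImmersion.lift_fac]
    · have hfst : Set.range (pullback.fst ξ τ) ⊆ Set.range (ξ ⁻¹ᵁ U).ι := by
        rintro _ ⟨w, rfl⟩; rw [Scheme.Opens.range_ι]
        change ξ (pullback.fst ξ τ w) ∈ U
        have := congr($(pullback.condition (f := ξ) (g := τ)) w)
        simp only [Scheme.Hom.comp_apply] at this
        rw [this]; exact h _
      have e : pullback.snd ξ τ ≫ τ' = IsOpenImmersion.lift (ξ ⁻¹ᵁ U).ι _ hfst ≫ ξU := by
        rw [← cancel_mono U.ι, Category.assoc, Category.assoc, IsOpenImmersion.lift_fac, morphismRestrict_ι,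
          IsOpenImmersion.lift_fac_assoc, pullback.condition]
      rw [← Category.assoc, e, Category.assoc, hr, IsOpenImmersion.lift_fac_assoc]

end Groth.Agent.S14666
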