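import Groth.Statements.S14668
import Groth.Agent.H23.PnChart
import Groth.Agent.H23.RigidGen
import Groth.Agent.H23.RigidGamma
-- import your own Groth.Agent.* helpers here

set_option autoImplicit false
universe u
open CategoryTheory CategoryTheory.Limits MonoidalCategory CartesianMonoidalCategory MonObj GrpObj AlgebraicGeometry
open AbSch

namespace Groth.Agent.S14668

/-- Let S be a locally Noetherian scheme, A an abelian scheme over S (an S-group scheme whose structure
morphism is proper and flat with geometrically integral fibres), and P an S-scheme whose structure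
morphism is proper and flat and whose geometric fibres are projective spaces: for every
algebraically closed field K and every K-point of S, the fibre P ×_S Spec K is isomorphic over Spec
K to projective n-space over K for some n. Then every S-morphism P ⟶ A factors through the structure
morphism of P: it is the composite of P ⟶ S with a section S ⟶ A. -/
theorem result {S : Scheme.{u}} [IsLocallyNoetherian S]
    (A : Over S) [GrpObj A] [IsProper A.hom] [Flat A.hom] [GeometricallyIntegral A.hom]
    (P : Over S) [IsProper P.hom] [Flat P.hom]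
    (hP : ∀ (K : Type u) [Field K] [IsAlgClosed K] (s : Spec (CommRingCat.of K) ⟶ S),
      ∃ (n : ℕ) (e : pullback P.hom s ≅ CohB1.ProjSpace n K), e.hom ≫ CohB1.ProjSpace.toSpec n K = pullback.snd P.hom s)
    (φ : P ⟶ A) :
    ∃ a : 𝟙_ (Over S) ⟶ A, φ = toUnit P ≫ a := by
  
  haveI : LocallyOfFinitePresentation P.hom := inferInstance
  have h0 : Groth.Agent.H23.RigidApply.ConstFibres P.hom := fun s => by
    let K := AlgebraicClosure (S.residueField s)
    let t := Spec.map (CommRingCat.ofHom (algebraMap (S.residueField s) K))
    obtain ⟨n, e, -⟩ := hP K (t ≫ S.fromSpecResidueField s)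
    let e' : pullback (pullback.snd P.hom (S.fromSpecResidueField s)) t ≅ CohB1.ProjSpace n K :=
      pullbackLeftPullbackSndIso P.hom (S.fromSpecResidueField s) t ≪≫ e
    haveI := Groth.Agent.H23.PnChart.isIntegral_projSpace n K
    haveI : IsReduced (pullback (pullback.snd P.hom (S.fromSpecResidueField s)) t) :=
      isReduced_of_isOpenImmersion e'.hom
    haveI : ConnectedSpace ↥(pullback (pullback.snd P.hom (S.fromSpecResidueField s)) t) :=
      e'.hom.homeomorph.connectedSpace_iff.mpr inferInstance
    exact Groth.Agent.H23.RigidGamma.bijective_appTop_of_algClosure (k := S.residueField s)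
      (pullback.snd P.hom (S.fromSpecResidueField s))
  obtain ⟨C, -, hC, k, hk⟩ := Groth.Agent.H23.RigidGen.rigidity P.hom h0 A.hom φ.left (𝟙 S)
    ((Over.w φ).trans (Category.comp_id _).symm)
  have hall : ∀ s, s ∈ Groth.Agent.H23.RigidNoeth.collapsed P.hom φ.left := fun s => by
    let K := AlgebraicClosure (S.residueField s)
    let t := Spec.map (CommRingCat.ofHom (algebraMap (S.residueField s) K)) ≫ S.fromSpecResidueField s
    obtain ⟨n, e, he⟩ := hP K t
    let At : Over (Spec (CommRingCat.of K)) := (Over.pullback t).obj A
    haveI : GrpObj At := Functor.grpObjObj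
    haveI : IsProper At.hom := inferInstanceAs (IsProper (pullback.snd A.hom t))
    haveI : GeometricallyIntegral At.hom := inferInstanceAs (GeometricallyIntegral (pullback.snd A.hom t))
    let g : Over.mk (CohB1.ProjSpace.toSpec n K) ⟶ At := Over.homMk
      (pullback.lift (e.inv ≫ pullback.fst P.hom t ≫ φ.left) (CohB1.ProjSpace.toSpec n K) (by
        rw [Category.assoc, Category.assoc, Over.w φ, pullback.condition, ← he]
        simp)) (pullback.lift_snd _ _ _)
    obtain ⟨a, ha⟩ := Groth.Agent.H23.PnChart.const n K g
    refine ⟨(a.left ≫ pullback.fst A.hom t) (IsLocalRing.closedPoint K), fun x hx => ?_⟩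
    have hts : t (IsLocalRing.closedPoint K) = s := by
      show S.fromSpecResidueField s _ = s
      exact Scheme.fromSpecResidueField_apply _ _
    obtain ⟨w, hw, -⟩ := Scheme.Pullback.exists_preimage_pullback (f := P.hom) (g := t) x
      (IsLocalRing.closedPoint K) (hx.trans hts.symm)
    have h1 : e.inv ≫ pullback.fst P.hom t ≫ φ.left =
        CohB1.ProjSpace.toSpec n K ≫ a.left ≫ pullback.fst A.hom t := by
      have h := congrArg (fun m => m.left ≫ pullback.fst A.hom t) ha
      simp only [g, Over.homMk_left, Over.comp_left, Category.assoc] at h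
      exact (pullback.lift_fst _ _ _).symm.trans h
    rw [← hw, ← Scheme.Hom.comp_apply, show pullback.fst P.hom t ≫ φ.left =
      e.hom ≫ CohB1.ProjSpace.toSpec n K ≫ a.left ≫ pullback.fst A.hom t by
        rw [← h1, Iso.hom_inv_id_assoc]]
    simp only [Scheme.Hom.comp_apply]
    exact congrArg _ (congrArg _ (@Subsingleton.elim (Spec (CommRingCat.of K)) inferInstance _ _))
  have htop : C = ⊤ := by
    ext1
    exact hC.trans (Set.eq_univ_of_forall hall)
  subst htop
  haveI : Surjective P.hom := ⟨fun s => Groth.Agent.H23.RigidNoeth.surjective_of_h0 P.hom s (h0 s)⟩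
  let a : S ⟶ A.left := S.topIso.inv ≫ k
  haveI : IsIso (P.hom ⁻¹ᵁ (⊤ : S.Opens)).ι := inferInstanceAs (IsIso P.left.topIso.hom)
  have hφ : φ.left = P.hom ≫ a := by
    rw [← cancel_epi (P.hom ⁻¹ᵁ (⊤ : S.Opens)).ι, hk, ← Category.assoc,
      ← morphismRestrict_ι P.hom ⊤]
    simp [a, ← Scheme.topIso_hom]
  have ha : a ≫ A.hom = 𝟙 S := by
    haveI : EffectiveEpi P.hom := inferInstance
    rw [← cancel_epi P.hom, ← Category.assoc, ← hφ, Over.w φ, Category.comp_id]
  exact ⟨Over.homMk a ha, Over.OverMorphism.ext hφ⟩

end Groth.Agent.S14668
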