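import Groth.Statements.S1996
import Mathlib.RingTheory.Etale.Weakly
import Mathlib.RingTheory.Flat.FaithfullyFlat.Algebra
import Mathlib.RingTheory.RingHom.Flat

set_option autoImplicit false
universe u
open EtAlg

namespace Groth.Agent.S1996

open scoped TensorProduct in
theorem descend (A B C : Type u) [CommRing A] [CommRing B] [CommRing C] [Algebra A B]
    [Algebra B C] [Algebra A C] [IsScalarTower A B C] [Module.FaithfullyFlat B C] [Module.Flat A C] :
    Module.Flat A B := by
  refine Module.Flat.iff_lTensor_preserves_injective_linearMap.mpr fun N N' _ _ _ _ g hg => ?_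
  let φ : ∀ (X : Type u) [AddCommGroup X] [Module A X], B ⊗[A] X → C ⊗[A] X := fun X _ _ z =>
    TensorProduct.AlgebraTensorModule.cancelBaseChange A B C C X ((1 : C) ⊗ₜ[B] z)
  have hφ : ∀ (X : Type u) [AddCommGroup X] [Module A X], Function.Injective (φ X) := fun X _ _ =>
    (TensorProduct.AlgebraTensorModule.cancelBaseChange A B C C X).injective.comp
      (Module.FaithfullyFlat.tensorProduct_mk_injective (A := B) (B := C) _)
  have hnat : ∀ z, φ N' (g.lTensor B z) = g.lTensor C (φ N z) := fun z => by
    induction z using TensorProduct.induction_on with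
    | zero => simp [φ]
    | tmul b x => simp [φ]
    | add x y hx hy => simp only [φ, map_add, TensorProduct.tmul_add] at hx hy ⊢; rw [hx, hy]
  intro z w h
  refine hφ N (Module.Flat.lTensor_preserves_injective_linearMap g hg ?_)
  rw [← hnat, ← hnat, h]

/-- Let A -> B -> C be ring maps with B -> C faithfully flat. Weak etaleness of A -> C then implies weak
etaleness of A -> B. -/
theorem result (A B C : Type u) [CommRing A] [CommRing B] [CommRing C] [Algebra A B]
    [Algebra B C] [Algebra A C] [IsScalarTower A B C] [Module.FaithfullyFlat B C] [Algebra.WeaklyEtale A C] :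
    Algebra.WeaklyEtale A B := by
  have hflat : Module.Flat A B := descend A B C
  refine { flat := hflat, flat_lmul' := ?_ }
  open scoped TensorProduct in
  let μB := Algebra.TensorProduct.lmul' A (S := B)
  let f : B →ₐ[A] C := IsScalarTower.toAlgHom A B C
  have hf : f.toRingHom.Flat := RingHom.flat_algebraMap_iff.mpr (inferInstance : Module.Flat B C)
  have hM : (Algebra.TensorProduct.map f f).toRingHom.Flat := RingHom.Flat.tensorProductMap hf hf
  let g : B ⊗[A] B →ₐ[A] C := (Algebra.TensorProduct.lmul' A (S := C)).comp (Algebra.TensorProduct.map f f)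
  have hg : g.toRingHom.Flat := RingHom.Flat.comp hM (Algebra.WeaklyEtale.flat_lmul' A C)
  have heq : g = f.comp μB := by
    refine Algebra.TensorProduct.ext' fun x y => ?_
    simp [g, μB, f]
  let : Algebra (B ⊗[A] B) B := μB.toRingHom.toAlgebra
  let : Algebra (B ⊗[A] B) C := g.toRingHom.toAlgebra
  have : IsScalarTower (B ⊗[A] B) B C := IsScalarTower.of_algebraMap_eq fun z => congr($heq z)
  have : Module.Flat (B ⊗[A] B) C := hg
  exact (descend (B ⊗[A] B) B C : Module.Flat (B ⊗[A] B) B)


end Groth.Agent.S1996
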