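import Groth.Statements.S1467
import Mathlib
import Groth.Agent.S1412
import Groth.Agent.S1996
import Groth.Agent.S0736
import Groth.Agent.S12237
import Groth.Agent.S7127
import Groth.Agent.S0427
import Groth.Agent.S0537
import Groth.Agent.S0539
import Groth.Agent.EtFound.StrictMap

set_option autoImplicit false
set_option linter.style.haveILetI false
universe u
open FlatMor

namespace Groth.Agent.S1467

open IsLocalRing

/-- transport of a strict henselization along an isomorphism of local rings under the base -/
theorem of_bijective {A S R : Type u} [CommRing A] [IsLocalRing A] [CommRing S] [IsLocalRing S]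
    [CommRing R] [IsLocalRing R] [Algebra A S] [IsLocalHom (algebraMap A S)]
    [Hensel.IsStrictHenselization A S] [Algebra A R] [IsLocalHom (algebraMap A R)]
    (g : S →+* R) (hg : Function.Bijective g) (hc : g.comp (algebraMap A S) = algebraMap A R)
    (hH : HenselianLocalRing R) :
    Hensel.IsStrictHenselization A R := by
  let e : S ≃+* R := RingEquiv.ofBijective g hg
  have he : ∀ s, e s = g s := fun _ => rfl
  haveI : IsLocalHom g := ⟨fun s hs => by
    obtain ⟨u, hu⟩ := hs
    have h := (Units.map (e.symm : R →+* S).toMonoidHom u).isUnit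
    simpa [hu, ← he] using h⟩
  have hS : IsSepClosure (ResidueField A) (ResidueField S) :=
    Hensel.IsStrictHenselization.isSepClosure
  have hb : Function.Bijective (ResidueField.map g) := by
    refine ⟨(ResidueField.map g).injective, fun z => ?_⟩
    obtain ⟨r, rfl⟩ := residue_surjective z
    obtain ⟨s, rfl⟩ := hg.2 r
    exact ⟨residue S s, ResidueField.map_residue _ s⟩
  have hcomm : ∀ a : ResidueField A, ResidueField.map g (algebraMap _ (ResidueField S) a) =
      algebraMap _ (ResidueField R) a := by
    intro a
    obtain ⟨a, rfl⟩ := residue_surjective a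
    show residue R (g (algebraMap A S a)) = residue R (algebraMap A R a)
    rw [← hc]; rfl
  let φ : ResidueField S ≃ₐ[ResidueField A] ResidueField R :=
    AlgEquiv.ofRingEquiv (f := RingEquiv.ofBijective (ResidueField.map g) hb) hcomm
  refine ⟨hH, ?_, ?_⟩
  · haveI := hS.separable
    haveI := hS.sep_closed
    exact ⟨Groth.Agent.Hensel.isSepClosed_of_ringEquiv φ.toRingEquiv, Algebra.IsSeparable.of_algHom _ _ φ.symm.toAlgHom⟩
  · intro T _ _ f _ τ hτ
    obtain ⟨h, ⟨h1, h2⟩, hu⟩ := Hensel.IsStrictHenselization.universal (R := A) (S := S) T f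
      (τ.comp (ResidueField.map g)) (by
        refine RingHom.ext fun a => ?_
        rw [← hτ]
        exact congrArg τ (hcomm a))
    refine ⟨h.comp (e.symm : R →+* S), ⟨RingHom.ext fun a => ?_, fun r => ?_⟩, fun h' hh' => ?_⟩
    · show h (e.symm (algebraMap A R a)) = f a
      rw [← hc, RingHom.comp_apply, ← he, e.symm_apply_apply]
      exact congr($h1 a)
    · show residue T (h (e.symm r)) = _
      rw [h2]
      show τ (residue R (g (e.symm r))) = _
      rw [← he, e.apply_symm_apply]
    · have : h'.comp g = h := hu _ ⟨by rw [RingHom.comp_assoc, hc]; exact hh'.1, fun s => hh'.2 (g s)⟩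
      rw [← this]
      refine RingHom.ext fun r => ?_
      show h' r = h' (g (e.symm r))
      rw [← he, e.apply_symm_apply]

/-- a strict henselization of a local ring is weakly etale over it -/
theorem weaklyEtale_strict (B R : Type u) [CommRing B] [IsLocalRing B] [CommRing R] [IsLocalRing R]
    [Algebra B R] [IsLocalHom (algebraMap B R)] [Hensel.IsStrictHenselization B R] :
    Algebra.WeaklyEtale B R :=
  Groth.Agent.S0736.result _ _ (Groth.Agent.S12237.result _ R)

theorem forward (A B R : Type u) [CommRing A] [IsLocalRing A] [CommRing B] [IsLocalRing B]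
    [CommRing R] [IsLocalRing R] [Algebra A B] [IsLocalHom (algebraMap A B)] [Algebra.WeaklyEtale A B]
    [Algebra B R] [IsLocalHom (algebraMap B R)] [Hensel.IsStrictHenselization B R]
    [Algebra A R] [IsScalarTower A B R] :
    ∃ _ : IsLocalHom (algebraMap A R), Hensel.IsStrictHenselization A R := by
  haveI : IsLocalHom (algebraMap A R) := by
    rw [IsScalarTower.algebraMap_eq A B R]; infer_instance
  refine ⟨inferInstance, ?_⟩
  haveI := weaklyEtale_strict B R
  haveI : Algebra.WeaklyEtale A R := Algebra.WeaklyEtale.trans A B R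
  obtain ⟨S, _, _, _, _, hS⟩ := Groth.Agent.S0537.result A
  haveI : HenselianLocalRing S := Hensel.IsStrictHenselization.henselian A
  haveI : HenselianLocalRing R := Hensel.IsStrictHenselization.henselian B
  haveI : IsSepClosed (ResidueField S) :=
    (Hensel.IsStrictHenselization.isSepClosure (R := A) (S := S)).sep_closed
  obtain ⟨g, hgl, hg⟩ := Groth.Agent.EtFound.exists_strictMap S R (algebraMap A B)
  rw [← IsScalarTower.algebraMap_eq A B R] at hg
  letI := g.toAlgebra
  haveI : IsScalarTower A S R := IsScalarTower.of_algebraMap_eq' hg.symm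
  haveI : IsLocalHom (algebraMap S R) := hgl
  haveI := weaklyEtale_strict A S
  haveI := Groth.Agent.S7127.result A S R
  exact of_bijective g (Groth.Agent.S0427.result (A := S) (B := R)) hg inferInstance

open AlgebraicGeometry CategoryTheory Limits in
/-- A morphism f : X → Y is weakly étale if and only if, for every point x of X, strict henselizations
of the local rings at f x and at x coincide under the stalk map: every strict henselization of O_{X,
x} is, through the composite map O_{Y, f x} → O_{X, x} → (strict henselization), a strict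
henselization of O_{Y, f x}. -/
theorem result {X Y : Scheme.{u}} (f : X ⟶ Y) :
    WeaklyEtale f ↔ ∀ (x : X) (R : Type u) [CommRing R] [IsLocalRing R] [Algebra ↑(X.presheaf.stalk x) R]
      [IsLocalHom (algebraMap ↑(X.presheaf.stalk x) R)] [Hensel.IsStrictHenselization ↑(X.presheaf.stalk x) R],
      letI : Algebra ↑(Y.presheaf.stalk (f x)) R := ((algebraMap ↑(X.presheaf.stalk x) R).comp (f.stalkMap x).hom).toAlgebra
      ∃ _ : IsLocalHom (algebraMap ↑(Y.presheaf.stalk (f x)) R), Hensel.IsStrictHenselization ↑(Y.presheaf.stalk (f x)) R := by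
  rw [Groth.Agent.S1412.result]
  constructor
  · intro h x R _ _ _ _ _
    letI : Algebra ↑(Y.presheaf.stalk (f x)) ↑(X.presheaf.stalk x) := (f.stalkMap x).hom.toAlgebra
    letI : Algebra ↑(Y.presheaf.stalk (f x)) R :=
      ((algebraMap ↑(X.presheaf.stalk x) R).comp (f.stalkMap x).hom).toAlgebra
    haveI : IsScalarTower ↑(Y.presheaf.stalk (f x)) ↑(X.presheaf.stalk x) R := IsScalarTower.of_algebraMap_eq' rfl
    haveI : Algebra.WeaklyEtale ↑(Y.presheaf.stalk (f x)) ↑(X.presheaf.stalk x) := { flat := (h x).1, flat_lmul' := (h x).2 }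
    haveI : IsLocalHom (algebraMap ↑(Y.presheaf.stalk (f x)) ↑(X.presheaf.stalk x)) := f.toLRSHom.prop x
    exact forward ↑(Y.presheaf.stalk (f x)) ↑(X.presheaf.stalk x) R
  · intro h x
    obtain ⟨R, _, _, _, _, hR⟩ := Groth.Agent.S0537.result ↑(X.presheaf.stalk x)
    letI : Algebra ↑(Y.presheaf.stalk (f x)) ↑(X.presheaf.stalk x) := (f.stalkMap x).hom.toAlgebra
    letI : Algebra ↑(Y.presheaf.stalk (f x)) R :=
      ((algebraMap ↑(X.presheaf.stalk x) R).comp (f.stalkMap x).hom).toAlgebra
    haveI : IsScalarTower ↑(Y.presheaf.stalk (f x)) ↑(X.presheaf.stalk x) R := IsScalarTower.of_algebraMap_eq' rfl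
    obtain ⟨_, hA⟩ := h x R
    haveI := weaklyEtale_strict ↑(Y.presheaf.stalk (f x)) R
    haveI := Groth.Agent.S0539.result ↑(X.presheaf.stalk x) R
    haveI := Groth.Agent.S1996.result ↑(Y.presheaf.stalk (f x)) ↑(X.presheaf.stalk x) R
    exact ⟨Algebra.WeaklyEtale.flat, Algebra.WeaklyEtale.flat_lmul' _ _⟩

end Groth.Agent.S1467
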