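import Groth.Agent.FlatLoc6.Miracle
import Groth.Agent.EGA41Lib.IntDim
import Groth.Agent.Neron6.EtalePuritySch
import Groth.Agent.RegLoc6.Normal
import Groth.Statements.S14670
-- import your own Groth.Agent.* helpers here

set_option autoImplicit false
universe u
open CAlg

namespace Groth.Agent.S14670

open Groth.Agent

/-- Let R be a regular local ring and S an integral domain containing R as a subring over which it is a
finitely generated module, such that the localization of S at each of its maximal ideals is a
Cohen–Macaulay local ring. Then S is a flat R-module. (The published statement does not require S to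
be a domain; in that generality it fails — for a discrete valuation ring R with residue field κ the
ring R × κ contains R diagonally, is finite over R with Cohen–Macaulay localizations, and is not
flat — and the printed argument needs every maximal ideal of S to have height dim R, which holds
when S is a domain by going down.) -/
theorem result (R S : Type u) [CommRing R] [CommRing S]
    [IsRegularLocalRing R] [IsDomain S] [Algebra R S] [Module.Finite R S]
    (hinj : Function.Injective (algebraMap R S))
    (hCM : ∀ (q : Ideal S) [q.IsMaximal], LocCoh.IsCohenMacaulayLocalRing (Localization.AtPrime q)) :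
    Module.Flat R S := by
  haveI : IsDomain R := RegLoc6.isDomain_of_isRegularLocalRing R
  haveI : IsIntegrallyClosed R := RegLoc6.isIntegrallyClosed_of_isRegularLocalRing R
  haveI : FaithfulSMul R S := (faithfulSMul_iff_algebraMap_injective R S).mpr hinj
  haveI : IsNoetherianRing S := IsNoetherianRing.of_finite R S
  haveI : Algebra.HasGoingDown R S := inferInstance
  refine Module.flat_of_isLocalized_maximal S S (fun q _ => Localization.AtPrime q)
    (fun q _ => Algebra.linearMap S (Localization.AtPrime q)) fun q _ => ?_
  haveI hcm : (q.comap (algebraMap R S)).IsMaximal := Ideal.isMaximal_comap_of_isIntegral_of_isMaximal q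
  have hm : q.comap (algebraMap R S) = IsLocalRing.maximalIdeal R := IsLocalRing.eq_maximalIdeal hcm
  have hh : (q.height : WithBot ℕ∞) = ringKrullDim R := by
    refine le_antisymm ?_ ?_
    · rw [← EGA41Lib.ringKrullDim_eq_of_integral hinj]
      exact Ideal.height_le_ringKrullDim_of_ne_top (Ideal.IsPrime.ne_top inferInstance)
    · rw [← IsLocalRing.maximalIdeal_height_eq_ringKrullDim, ← hm]
      exact WithBot.coe_le_coe.mpr (Neron6.height_under_le ⟨q, inferInstance⟩)
  haveI : IsLocalHom (algebraMap R (Localization.AtPrime q)) := by
    refine ⟨fun a ha => ?_⟩
    by_contra hna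
    have h1 : algebraMap R S a ∈ q := (hm.symm.le hna : _)
    rw [IsScalarTower.algebraMap_apply R S (Localization.AtPrime q),
      IsLocalization.AtPrime.isUnit_to_map_iff (S := Localization.AtPrime q) (I := q)] at ha
    exact ha h1
  have hCMq := (hCM q)
  refine FlatLoc6.flat_of_isCM (B := Localization.AtPrime q) hCMq.supportDim_eq_depth ?_
  rw [Module.supportDim_self_eq_ringKrullDim, IsLocalization.AtPrime.ringKrullDim_eq_height q, hh]
  have hN : FlatLoc6.mN R (Localization.AtPrime q) (Localization.AtPrime q) =
      ((IsLocalRing.maximalIdeal R).map (algebraMap R (Localization.AtPrime q))) := by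
    simp [FlatLoc6.mN]
  rw [hN, Module.supportDim_eq_ringKrullDim_quotient_annihilator, Ideal.annihilator_quotient]
  have h0 : ringKrullDim (Localization.AtPrime q ⧸
      (IsLocalRing.maximalIdeal R).map (algebraMap R (Localization.AtPrime q))) = 0 := by
    set I := (IsLocalRing.maximalIdeal R).map (algebraMap R (Localization.AtPrime q))
    haveI : Nontrivial (Localization.AtPrime q ⧸ I) := Ideal.Quotient.nontrivial_iff.mpr fun h =>
      (IsLocalRing.maximalIdeal.isMaximal (Localization.AtPrime q)).ne_top (top_le_iff.mp
        (h.symm.le.trans (IsLocalRing.map_maximalIdeal_le (algebraMap R (Localization.AtPrime q)))))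
    haveI : Ring.KrullDimLE 0 (Localization.AtPrime q ⧸ I) := Ring.KrullDimLE.mk₀ fun P hP => by
      suffices hQ : (P.comap (Ideal.Quotient.mk I)) = IsLocalRing.maximalIdeal (Localization.AtPrime q) by
        have := Ideal.map_comap_of_surjective (Ideal.Quotient.mk I) Ideal.Quotient.mk_surjective P
        rw [hQ] at this
        rw [← this]
        exact (Ideal.map_eq_top_or_isMaximal_of_surjective (Ideal.Quotient.mk I) Ideal.Quotient.mk_surjective
          (IsLocalRing.maximalIdeal.isMaximal (Localization.AtPrime q))).resolve_left (this.trans_ne hP.ne_top)
      have hIP : I ≤ P.comap (Ideal.Quotient.mk I) := fun x hx => by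
        simp [Ideal.Quotient.eq_zero_iff_mem.mpr hx]
      haveI : ((P.comap (Ideal.Quotient.mk I)).comap (algebraMap S (Localization.AtPrime q))).IsPrime :=
        inferInstance
      haveI : ((P.comap (Ideal.Quotient.mk I)).comap (algebraMap S (Localization.AtPrime q))).IsMaximal := by
        refine Ideal.isMaximal_of_isIntegral_of_isMaximal_comap (R := R) _ ?_
        rw [Ideal.comap_comap, ← IsScalarTower.algebraMap_eq]
        convert IsLocalRing.maximalIdeal.isMaximal R
        exact ((IsLocalRing.maximalIdeal.isMaximal R).eq_of_le (Ideal.IsPrime.ne_top inferInstance)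
          (Ideal.map_le_iff_le_comap.mp hIP)).symm
      have hle : (P.comap (Ideal.Quotient.mk I)).comap (algebraMap S (Localization.AtPrime q)) ≤ q := fun x hx => by
        by_contra hxq
        exact (Ideal.IsPrime.ne_top (inferInstance : (P.comap (Ideal.Quotient.mk I)).IsPrime))
          (Ideal.eq_top_of_isUnit_mem _ hx
            ((IsLocalization.AtPrime.isUnit_to_map_iff (S := Localization.AtPrime q) (I := q) x).mpr hxq))
      have heq := Ideal.IsMaximal.eq_of_le (inferInstance :
        ((P.comap (Ideal.Quotient.mk I)).comap (algebraMap S (Localization.AtPrime q))).IsMaximal)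
        (Ideal.IsPrime.ne_top inferInstance) hle
      rw [← IsLocalization.map_comap q.primeCompl (Localization.AtPrime q) (P.comap (Ideal.Quotient.mk I)), Ideal.under_def, heq,
        Localization.AtPrime.map_eq_maximalIdeal]
    exact ringKrullDimZero_iff_ringKrullDim_eq_zero.mp inferInstance
  rw [h0, add_zero]

end Groth.Agent.S14670
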