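import Groth.Statements.S14671
import Groth.Agent.PolLib.FlatTS

set_option autoImplicit false
universe u
open scoped TensorProduct
open SymTen

namespace Groth.Agent.S14671

/-- Let R be a commutative ring, M a flat R-module and n ≥ 0. Then the module of symmetric tensors of
degree n — the R-submodule of the n-fold tensor power of M over R consisting of the tensors fixed by
every permutation of the factors — is a flat R-module. (The published corollary also asserts that
forming symmetric tensors of a flat module commutes with every base change; only the flatness
assertion is stated here.) -/
theorem result (R : Type u) [CommRing R] (M : Type u) [AddCommGroup M] [Module R M]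
    [Module.Flat R M] (n : ℕ) :
    Module.Flat R ↥(⨅ σ : Equiv.Perm (Fin n),
      LinearMap.eqLocus (PiTensorProduct.reindex R (fun _ : Fin n => M) σ).toLinearMap LinearMap.id) := by
  exact PolLib.flat_invSub

end Groth.Agent.S14671
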