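import Groth.Statements.S14674
import Groth.Agent.CubeX17.AbSch
import Groth.Agent.H23.CubeAb

set_option backward.isDefEq.respectTransparency false
set_option backward.isDefEq.respectTransparency.types false
set_option linter.style.haveILetI false

set_option autoImplicit false
universe u
open CategoryTheory CategoryTheory.Limits MonoidalCategory CartesianMonoidalCategory MonObj GrpObj AlgebraicGeometry
open AbSch

namespace Groth.Agent.S14674

open Groth.Agent.H23 Groth.Agent.CubeX17.AbSch in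
open scoped Groth.Agent.H23.PicMul in
theorem aux {S : Scheme.{u}} (X : Over S) [GrpObj X] [IsProper X.hom] [Flat X.hom] [LocallyOfFinitePresentation X.hom]
    [GeometricallyReduced X.hom] [GeometricallyConnected X.hom] (c : PicF.Cl X.left) (hc : PicF.IsInvertibleCl c) (n : ℤ) :
    F c (𝟙 X ^ n) * PicMul.pullHom X.hom (PicMul.pullHom (η[X]).left c) ^ (n.natAbs ^ 2) =
      c ^ ((n ^ 2 + n) / 2).toNat * PicMul.pullHom (𝟙 X ^ (-1 : ℤ)).left (c ^ ((n ^ 2 - n) / 2).toNat) *
        PicMul.pullHom X.hom (PicMul.pullHom (η[X]).left c) := by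
  have hu : ∀ f : X ⟶ X, IsUnit (F c f) := fun f => (PicMul.isUnit_of_isInvertibleCl hc).map _
  let G : ℤ → (PicF.Cl X.left)ˣ := fun k => (hu (𝟙 X ^ k)).unit
  have hm : ∀ k : ℤ, F c (𝟙 X ^ k) * F c (𝟙 X ^ k) * (F c (𝟙 X ^ (1 : ℤ)) * F c (𝟙 X ^ (-1 : ℤ))) =
      F c (𝟙 X ^ (k + 1)) * F c (𝟙 X ^ (k - 1)) * (F c (𝟙 X ^ (0 : ℤ)) * F c (𝟙 X ^ (0 : ℤ))) := fun k => by
    have h := cube hc (𝟙 X ^ k) (𝟙 X ^ (1 : ℤ)) (𝟙 X ^ (-1 : ℤ))
    rw [← zpow_add, ← zpow_add, ← zpow_add, ← zpow_add, ← zpow_zero (𝟙 X), add_neg_cancel_right,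
      show (1 : ℤ) + -1 = 0 from rfl, ← sub_eq_add_neg] at h
    simpa only [_root_.mul_assoc] using h
  have hG := rec_solution (G 1) (G (-1)) (G 0) G rfl rfl (fun k => Units.ext (hm k).symm) n
  have hnn : ∀ k : ℤ, 0 ≤ tri k := fun k => by
    have := two_mul_tri k
    rcases le_or_gt 0 k with h | h <;> nlinarith
  have h0 : (G 0 : PicF.Cl X.left) = PicMul.pullHom X.hom (PicMul.pullHom (η[X]).left c) := by
    show F c (𝟙 X ^ (0 : ℤ)) = _
    rw [zpow_zero]
    exact (PicClLib.pullCl_comp X.hom (η[X]).left c).symm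
  have h1 : (G 1 : PicF.Cl X.left) = c := by
    show F c (𝟙 X ^ (1 : ℤ)) = c
    rw [zpow_one]; exact PicClLib.pullCl_id c
  have hn : ((n.natAbs ^ 2 : ℕ) : ℤ) = n ^ 2 := by rw [Nat.cast_pow, Int.natAbs_sq]
  have h : G n * G 0 ^ (n.natAbs ^ 2) = G 1 ^ (tri n).toNat * G (-1) ^ (tri (-n)).toNat * G 0 := by
    rw [hG, ← zpow_natCast, ← zpow_natCast, ← zpow_natCast, Int.toNat_of_nonneg (hnn n),
      Int.toNat_of_nonneg (hnn (-n)), hn, _root_.mul_assoc, ← zpow_add, sub_add_cancel, zpow_one]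
  have h' := congrArg Units.val h
  simp only [Units.val_mul, Units.val_pow_eq_pow_val, h0, h1] at h'
  rw [map_pow, show n ^ 2 - n = (-n) ^ 2 + (-n) by ring]
  exact h'

/-- Let S be a locally Noetherian scheme, X an abelian scheme over S (an S-group scheme whose structure
morphism α is proper and flat with geometrically integral fibres) with unit section e : S ⟶ X, L an
invertible O_X-module and n an integer; write [n] for the n-th multiple of the identity in the group
of S-endomorphisms of X. Then [n]^*L ⊗ α^*(e^*L)^{⊗ n²} is isomorphic to L^{⊗(n²+n)/2} ⊗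
[-1]^*L^{⊗(n²−n)/2} ⊗ α^*e^*L; equivalently [n]^*L ≅ L^{⊗(n²+n)/2} ⊗ [-1]^*L^{⊗(n²−n)/2} ⊗
[0]^*L^{⊗(1−n²)} with [0]^*L = α^*e^*L (existence of an isomorphism of O_X-modules only). -/
theorem result {S : Scheme.{u}} [IsLocallyNoetherian S] (X : Over S) [GrpObj X] [IsProper X.hom] [Flat X.hom] [GeometricallyIntegral X.hom]
    (L : X.left.Modules) (hL : PicF.IsInvertible L) (n : ℤ) :
    Nonempty (CohB1.tensorMod ((Scheme.Modules.pullback (𝟙 X ^ n).left).obj L)
        ((Scheme.Modules.pullback X.hom).obj (CohB1.tensorPow ((Scheme.Modules.pullback (η[X]).left).obj L) (n.natAbs ^ 2))) ≅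
      CohB1.tensorMod (CohB1.tensorMod (CohB1.tensorPow L ((n ^ 2 + n) / 2).toNat)
          ((Scheme.Modules.pullback (𝟙 X ^ (-1 : ℤ)).left).obj (CohB1.tensorPow L ((n ^ 2 - n) / 2).toNat)))
        ((Scheme.Modules.pullback X.hom).obj ((Scheme.Modules.pullback (η[X]).left).obj L))) := by
  haveI : LocallyOfFinitePresentation X.hom := inferInstance
  haveI := Groth.Agent.H23.CubeAb.geometricallyConnected_of_integral X.hom
  haveI : GeometricallyReduced X.hom := inferInstance
  open Groth.Agent.H23 in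
  open scoped Groth.Agent.H23.PicMul in
  refine PicMul.cl_eq_iff.1 ?_
  open Groth.Agent.H23 in
  open scoped Groth.Agent.H23.PicMul in
  have h := aux X (PicF.cl L) ⟨L, rfl, hL⟩ n
  open Groth.Agent.H23 in
  open scoped Groth.Agent.H23.PicMul in
  rw [PicMul.cl_tensor, PicMul.cl_tensor, PicMul.cl_tensor, PicMul.cl_tensorPow]
  open Groth.Agent.H23 in
  open scoped Groth.Agent.H23.PicMul in
  show PicMul.pullHom _ (PicF.cl L) * PicMul.pullHom _ (PicF.cl (CohB1.tensorPow _ _)) =
    _ * PicMul.pullHom _ (PicF.cl (CohB1.tensorPow _ _)) * _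
  open Groth.Agent.H23 in
  open scoped Groth.Agent.H23.PicMul in
  rw [PicMul.cl_tensorPow, PicMul.cl_tensorPow, map_pow]
  exact h

end Groth.Agent.S14674
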