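import Groth.Statements.S14676
import Mathlib

set_option autoImplicit false
universe u
open CAlg

namespace Groth.Agent.S14676

/-- Let A be a commutative ring which is separated and complete for the I-adic topology of an ideal I,
let P be any polynomial over A (not assumed monic) and a₀ an element of A such that P(a₀) lies in I
and P'(a₀) is a unit modulo I. Then there is a unique a in A congruent to a₀ modulo I with P(a) = 0. -/
theorem result (A : Type u) [CommRing A] (I : Ideal A) [IsAdicComplete I A]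
    (P : Polynomial A) (a₀ : A) (h₀ : P.eval a₀ ∈ I)
    (h₁ : IsUnit (Ideal.Quotient.mk I (P.derivative.eval a₀))) :
    ∃! a : A, a - a₀ ∈ I ∧ P.IsRoot a := by
  have hjac : I ≤ Ideal.jacobson ⊥ := IsAdicComplete.le_jacobson_bot I
  have hloc := isLocalHom_of_le_jacobson_bot I hjac
  have hunit : ∀ b : A, b - a₀ ∈ I → IsUnit (P.derivative.eval b) := by
    intro b hb
    refine IsUnit.of_map (Ideal.Quotient.mk I) _ ?_
    have h : Ideal.Quotient.mk I (P.derivative.eval b) = Ideal.Quotient.mk I (P.derivative.eval a₀) :=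
      Ideal.Quotient.eq.2 (Ideal.mem_of_dvd I (Polynomial.sub_dvd_eval_sub b a₀ _) hb)
    rw [h]; exact h₁
  let c : ℕ → A := fun n => Nat.recOn n a₀ fun _ b => b - P.eval b * Ring.inverse (P.derivative.eval b)
  have hc : ∀ n, c (n + 1) = c n - P.eval (c n) * Ring.inverse (P.derivative.eval (c n)) := fun n => rfl
  have hinv : ∀ n, c n - a₀ ∈ I ∧ P.eval (c n) ∈ I ^ (n + 1) := by
    intro n
    induction n with
    | zero => exact ⟨by simp [c], by simpa [c] using h₀⟩
    | succ n ih =>
      have hI : P.eval (c n) ∈ I := Ideal.pow_le_self (by omega) ih.2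
      refine ⟨?_, ?_⟩
      · rw [hc, sub_right_comm]
        exact I.sub_mem ih.1 (I.mul_mem_right _ hI)
      · obtain ⟨k, hk⟩ := P.binomExpansion (c n) (-(P.eval (c n) * Ring.inverse (P.derivative.eval (c n))))
        rw [hc, sub_eq_add_neg, hk, mul_neg, mul_left_comm,
          Ring.mul_inverse_cancel _ (hunit _ ih.1), mul_one, add_neg_cancel, zero_add, neg_sq]
        refine Ideal.mul_mem_left _ k (Ideal.pow_le_pow_right (show n + 1 + 1 ≤ (n + 1) + (n + 1) by omega) ?_)
        rw [sq, pow_add]
        exact Ideal.mul_mem_mul (Ideal.mul_mem_right _ _ ih.2) (Ideal.mul_mem_right _ _ ih.2)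
  have hcauchy : ∀ {m n : ℕ}, m ≤ n → c m ≡ c n [SMOD (I ^ m • ⊤ : Ideal A)] := by
    intro m n hmn
    rw [SModEq.sub_mem, Ideal.smul_eq_mul, Ideal.mul_top]
    induction n, hmn using Nat.le_induction with
    | base => simp
    | succ n hn ih =>
      rw [hc, ← sub_add]
      exact Ideal.add_mem _ ih (Ideal.mul_mem_right _ _
        (Ideal.pow_le_pow_right (by omega) (hinv n).2))
  obtain ⟨a, ha⟩ := IsPrecomplete.prec inferInstance hcauchy
  have ha' : ∀ n, c n - a ∈ I ^ n := fun n => by
    have := ha n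
    rwa [SModEq.sub_mem, Ideal.smul_eq_mul, Ideal.mul_top] at this
  have haI : a - a₀ ∈ I := by
    have h1 := ha' 1
    rw [pow_one] at h1
    have := I.sub_mem (hinv 1).1 h1
    rwa [sub_sub_sub_cancel_left] at this
  have hroot : P.IsRoot a := by
    rw [Polynomial.IsRoot.def]
    refine IsHausdorff.haus (I := I) inferInstance _ fun n => ?_
    rw [SModEq.zero, Ideal.smul_eq_mul, Ideal.mul_top]
    have h1 := Ideal.mem_of_dvd _ (Polynomial.sub_dvd_eval_sub (c n) a P) (ha' n)
    have := Ideal.sub_mem _ (Ideal.pow_le_pow_right (Nat.le_succ n) (hinv n).2) h1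
    rwa [sub_sub_cancel] at this
  refine ⟨a, ⟨haI, hroot⟩, fun b ⟨hb, hbr⟩ => ?_⟩
  obtain ⟨k, hk⟩ := P.binomExpansion a (b - a)
  rw [add_sub_cancel, hbr.eq_zero, hroot.eq_zero, zero_add, sq, ← mul_assoc, ← add_mul] at hk
  have hu : IsUnit (P.derivative.eval a + k * (b - a)) := by
    refine IsUnit.of_map (Ideal.Quotient.mk I) _ ?_
    have h : b - a ∈ I := by
      have := I.sub_mem hb haI
      rwa [sub_sub_sub_cancel_right] at this
    rw [map_add, (Ideal.Quotient.eq_zero_iff_mem).2 (I.mul_mem_left k h), add_zero]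
    exact (hunit a haI).map _
  exact sub_eq_zero.1 (hu.mul_right_eq_zero.1 hk.symm)

end Groth.Agent.S14676
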