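import Groth.Statements.S14677
import Mathlib.RingTheory.AdicCompletion.Exactness
import Mathlib.RingTheory.AdicCompletion.Algebra
import Mathlib.RingTheory.Noetherian.Basic

set_option autoImplicit false
universe u
open CAlg

namespace Groth.Agent.S14677

/-- Let A be a Noetherian commutative ring, I and J ideals of A and M a finitely generated A-module.
Then the map of I-adic completions induced by the inclusion of the submodule JM into M is injective
with image exactly J·M̂, where M̂ is the I-adic completion of M; that is, the completion of JM is J
times the completion of M. (The published statement does not say that A is Noetherian; its proof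
uses exactness of completion on finitely generated modules, which needs it, so this row assumes A
Noetherian.) -/
theorem result (A : Type u) [CommRing A] [IsNoetherianRing A] (I J : Ideal A)
    (M : Type u) [AddCommGroup M] [Module A M] [Module.Finite A M] :
    Function.Injective (AdicCompletion.map I (J • (⊤ : Submodule A M)).subtype) ∧
      LinearMap.range (AdicCompletion.map I (J • (⊤ : Submodule A M)).subtype) =
        (J.map (algebraMap A (AdicCompletion I A))) • (⊤ : Submodule (AdicCompletion I A) (AdicCompletion I M)) := by
  classical
  refine ⟨AdicCompletion.map_injective I Subtype.val_injective, le_antisymm ?_ ?_⟩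
  · obtain ⟨r, j, hj⟩ := Submodule.fg_iff_exists_fin_generating_family.1 (IsNoetherian.noetherian J)
    have hjJ : ∀ i, j i ∈ J := fun i => hj ▸ Submodule.subset_span ⟨i, rfl⟩
    let Φ : (Fin r → M) →ₗ[A] ↥(J • (⊤ : Submodule A M)) :=
      (∑ i, j i • LinearMap.proj i).codRestrict _ fun v => by
        rw [LinearMap.sum_apply]
        exact sum_mem fun i _ => Submodule.smul_mem_smul (hjJ i) Submodule.mem_top
    have hΦ : Function.Surjective Φ := by
      rintro ⟨z, hz⟩
      suffices ∃ v, (∑ i, j i • LinearMap.proj i : (Fin r → M) →ₗ[A] M) v = z by
        obtain ⟨v, hv⟩ := this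
        exact ⟨v, Subtype.ext hv⟩
      induction hz using Submodule.smul_induction_on' with
      | smul a ha m _ =>
        obtain ⟨c, rfl⟩ := (Submodule.mem_span_range_iff_exists_fun _).1 (hj.ge ha)
        refine ⟨fun i => c i • m, ?_⟩
        simp [Finset.sum_smul, smul_smul, mul_comm]
      | add u _ v _ hu hv =>
        obtain ⟨a, rfl⟩ := hu
        obtain ⟨b, rfl⟩ := hv
        exact ⟨a + b, map_add _ _ _⟩
    rintro _ ⟨y, rfl⟩
    obtain ⟨z, rfl⟩ := AdicCompletion.map_surjective I hΦ y
    have e : AdicCompletion.map I (J • (⊤ : Submodule A M)).subtype (AdicCompletion.map I Φ z) =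
        ∑ i, algebraMap A (AdicCompletion I A) (j i) • AdicCompletion.map I (LinearMap.proj i) z := by
      rw [← LinearMap.comp_apply, AdicCompletion.map_comp]
      refine AdicCompletion.ext fun n => ?_
      obtain ⟨v, hv⟩ := Submodule.mkQ_surjective _ (z.1 n)
      simp only [AdicCompletion.map_val_apply, AdicCompletion.val_sum_apply, algebraMap_smul, AdicCompletion.val_smul_apply, ← hv]
      simp [Φ]
      exact map_sum (Submodule.mkQ _) _ _
    rw [e]
    exact sum_mem fun i _ => Submodule.smul_mem_smul (Ideal.mem_map_of_mem _ (hjJ i)) Submodule.mem_top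
  · rw [Ideal.map, Ideal.span, Submodule.span_smul_eq]
    refine Submodule.set_smul_le _ _ _ ?_
    rintro _ y ⟨a, ha, rfl⟩ -
    refine ⟨AdicCompletion.map I ((a • LinearMap.id : M →ₗ[A] M).codRestrict _ fun m => Submodule.smul_mem_smul ha Submodule.mem_top) y, ?_⟩
    rw [algebraMap_smul, ← LinearMap.comp_apply, AdicCompletion.map_comp]
    refine AdicCompletion.ext fun n => ?_
    obtain ⟨v, hv⟩ := Submodule.mkQ_surjective _ (y.1 n)
    simp only [AdicCompletion.map_val_apply, AdicCompletion.val_smul_apply, ← hv]
    simp

end Groth.Agent.S14677
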