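import Groth.Statements.S14678
import Mathlib.RingTheory.AdjoinRoot
import Mathlib.RingTheory.Polynomial.ScaleRoots
import Mathlib.RingTheory.Polynomial.IntegralNormalization
import Mathlib.FieldTheory.Minpoly.Field
import Mathlib.AlgebraicGeometry.Morphisms.FinitePresentation
import Mathlib.AlgebraicGeometry.Morphisms.Flat
import Mathlib.RingTheory.RingHom.FinitePresentation
-- import your own Groth.Agent.* helpers here

set_option autoImplicit false
universe u
open CategoryTheory CategoryTheory.Limits AlgebraicGeometry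
open EtBase

namespace Groth.Agent.S14678

namespace Aux

open Polynomial

/-- Adjoining finitely many roots of monic polynomials reaches a given finite list of integral
elements. -/
theorem exists_alg {A ℓ : Type u} [CommRing A] [CommRing ℓ] [Nontrivial ℓ] [Algebra A ℓ] (L : List ℓ)
    (hL : ∀ b ∈ L, IsIntegral A b) :
    ∃ (B : Type u) (_ : CommRing B) (_ : Algebra A B) (_ : Module.Flat A B)
      (_ : Algebra.FinitePresentation A B) (ψ : B →ₐ[A] ℓ), ∀ b ∈ L, b ∈ ψ.range := by
  induction L with
  | nil => exact ⟨A, inferInstance, inferInstance, inferInstance, inferInstance, Algebra.ofId A ℓ, by simp⟩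
  | cons b L ih =>
    obtain ⟨B, _, _, _, _, ψ, hψ⟩ := ih fun x hx => hL x (List.mem_cons_of_mem _ hx)
    obtain ⟨g, hg, hgb⟩ := hL b (List.mem_cons_self ..)
    let gB := g.map (algebraMap A B)
    have hgB : gB.Monic := hg.map _
    haveI : Module.Free B (AdjoinRoot gB) := Module.Free.of_basis (AdjoinRoot.powerBasis' hgB).basis
    haveI : Module.Flat B (AdjoinRoot gB) := inferInstance
    haveI : Module.Flat A (AdjoinRoot gB) := Module.Flat.trans A B (AdjoinRoot gB)
    haveI : Algebra.FinitePresentation B (AdjoinRoot gB) := inferInstance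
    haveI : Algebra.FinitePresentation A (AdjoinRoot gB) :=
      Algebra.FinitePresentation.trans A B (AdjoinRoot gB)
    have hb : gB.eval₂ (ψ : B →+* ℓ) b = 0 := by
      rw [Polynomial.eval₂_map, AlgHom.comp_algebraMap]
      exact hgb
    refine ⟨AdjoinRoot gB, inferInstance, inferInstance, inferInstance, inferInstance,
      { AdjoinRoot.lift (ψ : B →+* ℓ) b hb with
        commutes' := fun a => ?_ }, ?_⟩
    · show AdjoinRoot.lift (ψ : B →+* ℓ) b hb (algebraMap A (AdjoinRoot gB) a) = algebraMap A ℓ a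
      rw [IsScalarTower.algebraMap_apply A B (AdjoinRoot gB), AdjoinRoot.algebraMap_eq, AdjoinRoot.lift_of]
      exact ψ.commutes a
    · intro x hx
      rcases List.mem_cons.mp hx with rfl | hx
      · exact ⟨AdjoinRoot.root gB, AdjoinRoot.lift_root hb⟩
      · obtain ⟨y, hy⟩ := hψ x hx
        exact ⟨AdjoinRoot.of gB y, (AdjoinRoot.lift_of hb).trans hy⟩

/-- Over a field whose elements are fractions from `A`, a finite extension is generated by elements
integral over `A`, up to denominators. -/
theorem exists_smul_integral {A K ℓ : Type u} [CommRing A] [Field K] [Field ℓ] [Algebra A K] [Algebra K ℓ]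
    [Algebra A ℓ] [IsScalarTower A K ℓ] [Module.Finite K ℓ]
    (hK : ∀ c : K, ∃ a d : A, algebraMap A K d ≠ 0 ∧ c * algebraMap A K d = algebraMap A K a) (b : ℓ) :
    ∃ d : A, algebraMap A K d ≠ 0 ∧ IsIntegral A (algebraMap A ℓ d * b) := by
  classical
  choose a d hd had using hK
  let e := minpoly K b
  have he : e.Monic := minpoly.monic (Algebra.IsIntegral.isIntegral b)
  let D : A := ∏ i ∈ Finset.range e.natDegree, d (e.coeff i)
  have hD : algebraMap A K D ≠ 0 := by
    rw [map_prod]
    exact Finset.prod_ne_zero_iff.mpr fun i _ => hd _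
  refine ⟨D, hD, ?_⟩
  let e' := e.scaleRoots (algebraMap A K D)
  have hlift : e' ∈ Polynomial.lifts (algebraMap A K) := by
    rw [Polynomial.lifts_iff_coeff_lifts]
    intro i
    rw [Polynomial.coeff_scaleRoots]
    rcases lt_trichotomy i e.natDegree with hi | rfl | hi
    · obtain ⟨r, hr⟩ : d (e.coeff i) ∣ D := Finset.dvd_prod_of_mem (fun i => d (e.coeff i)) (Finset.mem_range.mpr hi)
      refine ⟨a (e.coeff i) * r * D ^ (e.natDegree - i - 1), ?_⟩
      have h1 : e.natDegree - i = (e.natDegree - i - 1) + 1 := by omega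
      conv_rhs => rw [h1, pow_succ, congrArg (algebraMap A K) hr, map_mul]
      simp only [map_mul, map_pow, ← had, hr]
      ring
    · exact ⟨1, by simp [he.coeff_natDegree]⟩
    · exact ⟨0, by simp [Polynomial.coeff_eq_zero_of_natDegree_lt hi]⟩
  obtain ⟨g, hg, -, hgm⟩ := Polynomial.lifts_and_degree_eq_and_monic hlift
    ((Polynomial.monic_scaleRoots_iff _).mpr he)
  refine ⟨g, hgm, ?_⟩
  rw [IsScalarTower.algebraMap_apply A K ℓ D, IsScalarTower.algebraMap_eq A K ℓ, ← Polynomial.eval₂_map, hg]
  exact Polynomial.scaleRoots_eval₂_eq_zero _ (minpoly.aeval K b)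

/-- A homomorphism to a field, each of whose elements is a fraction from the source, gives a
preimmersion. -/
theorem isPreimmersion_SpecMap {B ℓ : Type u} [CommRing B] [Field ℓ] (ψ : B →+* ℓ)
    (h : ∀ x : ℓ, ∃ a d : B, ψ d ≠ 0 ∧ x * ψ d = ψ a) : IsPreimmersion (Spec.map (CommRingCat.ofHom ψ)) := by
  refine IsPreimmersion.mk_SpecMap ?_ ?_
  · exact Topology.IsEmbedding.of_subsingleton _
  · show ψ.SurjectiveOnStalks
    haveI : (RingHom.ker ψ).IsPrime := RingHom.ker_isPrime ψ
    have hu : (RingHom.ker ψ).primeCompl ≤ Submonoid.comap ψ (IsUnit.submonoid ℓ) :=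
      fun x hx => isUnit_iff_ne_zero.mpr fun h0 => hx h0
    let χ : (RingHom.ker ψ).ResidueField →+* ℓ := Ideal.ResidueField.lift _ ψ le_rfl hu
    have hχ : Function.Surjective χ := by
      intro x
      obtain ⟨a, d, hd, hx⟩ := h x
      refine ⟨algebraMap B _ a / algebraMap B _ d, ?_⟩
      rw [map_div₀, Ideal.ResidueField.lift_algebraMap, Ideal.ResidueField.lift_algebraMap, ← hx,
        mul_div_cancel_right₀ _ hd]
    have e : ψ = χ.comp (algebraMap B _) :=
      RingHom.ext fun x => (Ideal.ResidueField.lift_algebraMap (RingHom.ker ψ) ψ le_rfl hu x).symm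
    rw [e]
    exact (RingHom.surjectiveOnStalks_of_surjective hχ).comp (Ideal.surjectiveOnStalks_residueField _)

end Aux

/-- Let S be a scheme, s a point of S and ℓ a finite field extension of the residue field κ(s). Then,
fppf-locally around s, ℓ occurs as a residue field: there are an affine scheme U', a flat morphism b
: U' ⟶ S locally of finite presentation (so with open image containing s) and a morphism t : Spec ℓ
⟶ U' over the canonical morphism Spec ℓ ⟶ Spec κ(s) ⟶ S which is a preimmersion, i.e. the inclusion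
of a point s' of U' above s together with an identification of κ(s') with ℓ over κ(s); such a point
is closed in its fibre over s. (The published statement gives an affine open neighbourhood U of s
and an fppf morphism U' ⟶ U; this row asks only for a flat, locally finitely presented U' ⟶ S, whose
open image then contains s.) -/
theorem result (S : Scheme.{u}) (s : ↥S)
    (ℓ : Type u) [Field ℓ] [Algebra (S.residueField s) ℓ] [Module.Finite (S.residueField s) ℓ] :
    ∃ (U' : Scheme.{u}) (b : U' ⟶ S) (t : Spec (CommRingCat.of ℓ) ⟶ U'),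
      IsAffine U' ∧ Flat b ∧ LocallyOfFinitePresentation b ∧ IsPreimmersion t ∧
        t ≫ b = Spec.map (CommRingCat.ofHom (algebraMap (S.residueField s) ℓ)) ≫ S.fromSpecResidueField s := by
  obtain ⟨U, hU, hsU, -⟩ := TopologicalSpace.Opens.isBasis_iff_nbhd.mp S.isBasis_affineOpens
    (TopologicalSpace.Opens.mem_top s)
  let K := S.residueField s
  let φ : Γ(S, U) ⟶ K := S.evaluation U s hsU
  letI : Algebra Γ(S, U) K := φ.hom.toAlgebra
  letI : Algebra Γ(S, U) ℓ := ((algebraMap K ℓ).comp φ.hom).toAlgebra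
  haveI : IsScalarTower Γ(S, U) K ℓ := IsScalarTower.of_algebraMap_eq' rfl
  have hK : ∀ c : K, ∃ a d : Γ(S, U), algebraMap Γ(S, U) K d ≠ 0 ∧
      c * algebraMap Γ(S, U) K d = algebraMap Γ(S, U) K a := by
    intro c
    obtain ⟨z, rfl⟩ := S.residue_surjective s c
    haveI := hU.isLocalization_stalk ⟨s, hsU⟩
    letI : Algebra Γ(S, U) (S.presheaf.stalk s) := (S.presheaf.germ U s hsU).hom.toAlgebra
    obtain ⟨⟨a, d⟩, had⟩ := IsLocalization.surj (hU.primeIdealOf ⟨s, hsU⟩).asIdeal.primeCompl z
    refine ⟨a, d.1, ?_, ?_⟩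
    · have hu : IsUnit (algebraMap Γ(S, U) (S.presheaf.stalk s) d.1) :=
        IsLocalization.map_units (S.presheaf.stalk s) d
      exact (hu.map (S.residue s).hom).ne_zero
    · exact (map_mul _ _ _).symm.trans (congrArg (S.residue s).hom had)
  obtain ⟨m, bas, hspan⟩ := Module.Finite.exists_fin (R := K) (M := ℓ)
  choose d hd hint using fun i => Aux.exists_smul_integral (A := Γ(S, U)) hK (bas i)
  obtain ⟨B, _, _, _, _, ψ, hψ⟩ := Aux.exists_alg (A := Γ(S, U)) (ℓ := ℓ)
    (List.ofFn fun i => algebraMap Γ(S, U) ℓ (d i) * bas i)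
    (fun b hb => by obtain ⟨i, rfl⟩ := List.mem_ofFn.mp hb; exact hint i)
  refine ⟨Spec (CommRingCat.of B), Spec.map (CommRingCat.ofHom (algebraMap Γ(S, U) B)) ≫ hU.fromSpec,
    Spec.map (CommRingCat.ofHom ψ.toRingHom), inferInstance, ?_, ?_, ?_, ?_⟩
  · haveI : Flat (Spec.map (CommRingCat.ofHom (algebraMap Γ(S, U) B))) :=
      (HasRingHomProperty.Spec_iff (P := @Flat)).2 ((RingHom.flat_algebraMap_iff).2 inferInstance)
    infer_instance
  · haveI : LocallyOfFinitePresentation (Spec.map (CommRingCat.ofHom (algebraMap Γ(S, U) B))) :=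
      (HasRingHomProperty.Spec_iff (P := @LocallyOfFinitePresentation)).2
        ((RingHom.finitePresentation_algebraMap).2 inferInstance)
    infer_instance
  · refine Aux.isPreimmersion_SpecMap _ ?_
    let F : Subfield ℓ := Subfield.closure (Set.range ψ)
    have hF : ∀ x, x ∈ F := by
      have hKF : ∀ c : K, algebraMap K ℓ c ∈ F := by
        intro c
        obtain ⟨a, e, he, hc⟩ := hK c
        rw [← eq_div_iff he] at hc
        rw [hc, map_div₀, ← IsScalarTower.algebraMap_apply, ← IsScalarTower.algebraMap_apply,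
          ← ψ.commutes, ← ψ.commutes]
        exact F.div_mem (Subfield.subset_closure ⟨_, rfl⟩) (Subfield.subset_closure ⟨_, rfl⟩)
      have hbas : ∀ i, bas i ∈ F := by
        intro i
        obtain ⟨y, hy⟩ := hψ _ (List.mem_ofFn.mpr ⟨i, rfl⟩)
        have hne : algebraMap Γ(S, U) ℓ (d i) ≠ 0 := by
          rw [IsScalarTower.algebraMap_apply Γ(S, U) K ℓ]
          exact (map_ne_zero _).mpr (hd i)
        have h1 : bas i = (algebraMap Γ(S, U) ℓ (d i) * bas i) / algebraMap Γ(S, U) ℓ (d i) := by
          field_simp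
        rw [h1, ← hy, ← ψ.commutes]
        exact F.div_mem (Subfield.subset_closure ⟨_, rfl⟩) (Subfield.subset_closure ⟨_, rfl⟩)
      intro x
      obtain ⟨c, rfl⟩ := (Submodule.mem_span_range_iff_exists_fun K).mp
        (hspan.ge (Submodule.mem_top : x ∈ ⊤))
      exact F.sum_mem fun i _ => by rw [Algebra.smul_def]; exact F.mul_mem (hKF _) (hbas i)
    intro x
    obtain ⟨a, ha, e, he, rfl⟩ := Subfield.mem_closure_iff.mp (hF x)
    have hle : Subring.closure (Set.range ψ) ≤ ψ.toRingHom.range :=
      Subring.closure_le.mpr fun z ⟨w, hw⟩ => ⟨w, hw⟩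
    obtain ⟨a, rfl⟩ := hle ha
    obtain ⟨e, rfl⟩ := hle he
    by_cases h0 : ψ.toRingHom e = 0
    · exact ⟨0, 1, by simp, by simp only [h0, div_zero, zero_mul, map_zero]⟩
    · exact ⟨a, e, h0, div_mul_cancel₀ _ h0⟩
  · rw [← Spec.map_comp_assoc]
    have e : CommRingCat.ofHom (algebraMap Γ(S, U) B) ≫ CommRingCat.ofHom ψ.toRingHom =
        φ ≫ CommRingCat.ofHom (algebraMap K ℓ) :=
      CommRingCat.hom_ext (RingHom.ext fun a => ψ.commutes a)
    rw [e, Spec.map_comp_assoc]
    refine congrArg (_ ≫ ·) ?_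
    rw [Scheme.fromSpecResidueField, ← hU.fromSpecStalk_eq_fromSpecStalk hsU, IsAffineOpen.fromSpecStalk,
      ← Spec.map_comp_assoc]
    rfl

end Groth.Agent.S14678
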