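import Groth.Statements.S14679
import Mathlib.AlgebraicGeometry.PullbackCarrier

set_option autoImplicit false
universe u
open CategoryTheory CategoryTheory.Limits AlgebraicGeometry
open EtBase

namespace Groth.Agent.S14679

open CategoryTheory CategoryTheory.Limits AlgebraicGeometry

private theorem subsingleton_tensor {X Y S : Scheme.{u}} {f : X ⟶ S} {g : Y ⟶ S}
    (T : Scheme.Pullback.Triplet f g) (h : IsIso (f.residueFieldMap T.x)) :
    Subsingleton (Spec T.tensor) := by
  let e : Y.residueField T.y ≅ T.tensor := @asIso _ _ _ _ T.tensorInr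
    (inferInstanceAs (IsIso (pushout.inr ((S.residueFieldCongr T.hx).inv ≫ f.residueFieldMap T.x) _)))
  have : Subsingleton (Spec (Y.residueField T.y)) :=
    inferInstanceAs (Subsingleton (PrimeSpectrum (Y.residueField T.y)))
  exact (Spec.map e.hom).homeomorph.toEquiv.subsingleton

/-- Given a morphism of schemes f : X ⟶ Y and a point x ∈ X with image y = f(x), such that the residue
field map κ(y) → κ(x) is bijective; let ℓ be an algebraic extension field of κ(y) and form the base
change X ×_Y Spec ℓ along Spec ℓ ⟶ Spec κ(y) ⟶ Y. Then there is exactly one point of X ×_Y Spec ℓ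
mapping to x under the first projection. (The published statement takes ℓ to be an algebraic closure
of κ(y), noting that any algebraic extension works, and also identifies the local ring at the point
with O_{X,x} ⊗_{O_{Y,y}} ℓ; this row allows any algebraic extension ℓ and states only the first
assertion.) -/
theorem result {X Y : Scheme.{u}} (f : X ⟶ Y) (x : ↥X)
    (hx : Function.Bijective (f.residueFieldMap x).hom)
    (ℓ : Type u) [Field ℓ] [Algebra (Y.residueField (f.base x)) ℓ] [Algebra.IsAlgebraic (Y.residueField (f.base x)) ℓ] :
    ∃! z : ↥(pullback f (Spec.map (CommRingCat.ofHom (algebraMap (Y.residueField (f.base x)) ℓ)) ≫ Y.fromSpecResidueField (f.base x))),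
      (pullback.fst f (Spec.map (CommRingCat.ofHom (algebraMap (Y.residueField (f.base x)) ℓ)) ≫ Y.fromSpecResidueField (f.base x))).base z = x := by
  have hiso : IsIso (f.residueFieldMap x) :=
    (ConcreteCategory.isIso_iff_bijective _).mpr hx
  set g := Spec.map (CommRingCat.ofHom (algebraMap (Y.residueField (f.base x)) ℓ)) ≫
    Y.fromSpecResidueField (f.base x) with hg
  have hgz : ∀ p, g.base p = f.base x := fun p => by
    rw [hg, Scheme.Hom.comp_apply]
    exact Scheme.fromSpecResidueField_apply _ _
  obtain ⟨z, hz, -⟩ := Scheme.Pullback.exists_preimage_pullback (f := f) (g := g) x default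
    (hgz default).symm
  refine ⟨z, hz, fun w hw => Scheme.Pullback.carrierEquiv.injective ?_⟩
  have hT : Scheme.Pullback.Triplet.ofPoint w = Scheme.Pullback.Triplet.ofPoint z :=
    Scheme.Pullback.Triplet.ext (hw.trans hz.symm) (Subsingleton.elim _ _)
  have hs : Subsingleton (Spec (Scheme.Pullback.Triplet.ofPoint z).tensor) :=
    subsingleton_tensor _ (by
      show IsIso (f.residueFieldMap ((pullback.fst f g).base z))
      exact hz.symm ▸ hiso)
  rw [Scheme.Pullback.carrierEquiv_eq_iff]
  exact ⟨hT, @Subsingleton.elim _ hs _ _⟩

end Groth.Agent.S14679
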