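import Groth.Statements.S1468
import Groth.Agent.GeomReg.Basic
import Mathlib.AlgebraicGeometry.Morphisms.Smooth

set_option autoImplicit false
universe u
open FlatMor

set_option backward.isDefEq.respectTransparency false
set_option backward.isDefEq.respectTransparency.types false

namespace Groth.Agent.S1468

open AlgebraicGeometry CategoryTheory Limits in
/-- A smooth morphism is regular; concretely, for affine opens U ⊆ f⁻¹(V) the ring map O_Y(V) → O_X(U)
is a regular ring map (flat, with Noetherian and geometrically regular fibre rings). -/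
theorem result {X Y : Scheme.{u}} (f : X ⟶ Y) [Smooth f] (U : X.Opens) (V : Y.Opens) (hU : IsAffineOpen U) (hV : IsAffineOpen V) (hUV : U ≤ f ⁻¹ᵁ V) :
    letI := (f.appLE V U hUV).hom.toAlgebra
    CAlg.IsRegularHom Γ(Y, V) Γ(X, U) := by
  letI := (f.appLE V U hUV).hom.toAlgebra
  have hs : RingHom.Smooth (f.appLE V U hUV).hom :=
    HasRingHomProperty.appLE @Smooth f ‹_› ⟨V, hV⟩ ⟨U, hU⟩ hUV
  haveI : Algebra.Smooth Γ(Y, V) Γ(X, U) := hs
  refine ⟨HasRingHomProperty.appLE @Flat f inferInstance ⟨V, hV⟩ ⟨U, hU⟩ hUV, fun p _ => ⟨?_, fun L _ _ _ => ?_⟩⟩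
  · haveI : Algebra.Smooth p.ResidueField (p.Fiber Γ(X, U)) := inferInstance
    exact Algebra.FiniteType.isNoetherianRing p.ResidueField _
  · haveI : Algebra.Smooth p.ResidueField (p.Fiber Γ(X, U)) := inferInstance
    exact GeomReg.isRegularRing_of_smooth L _

end Groth.Agent.S1468
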