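import Groth.Statements.S14680
import Mathlib.RingTheory.AdicCompletion.Exactness
import Mathlib.RingTheory.Filtration

set_option autoImplicit false
universe u
open CAlg

namespace Groth.Agent.S14680
/-- An element lying in a submodule up to every power of every maximal ideal lies in it. -/
theorem mem_of_forall {A : Type u} [CommRing A] [IsNoetherianRing A] {M : Type u} [AddCommGroup M] [Module A M]
    [Module.Finite A M] (N : Submodule A M) (x : M)
    (h : ∀ (m : Ideal A), m.IsMaximal → ∀ n : ℕ, ∃ y ∈ N, x - y ∈ (m ^ n • ⊤ : Submodule A M)) : x ∈ N := by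
  let c : Ideal A := LinearMap.ker (LinearMap.toSpanSingleton A (M ⧸ N) (Submodule.Quotient.mk x))
  suffices hc : (1 : A) ∈ c by
    rw [LinearMap.mem_ker, LinearMap.toSpanSingleton_apply, one_smul] at hc
    exact (Submodule.Quotient.mk_eq_zero N).1 hc
  rw [← Ideal.eq_top_iff_one]
  by_contra hne
  obtain ⟨m, hm, hle⟩ := Ideal.exists_le_maximal _ hne
  have hx : (Submodule.Quotient.mk x : M ⧸ N) ∈ (⨅ i : ℕ, m ^ i • ⊤ : Submodule A (M ⧸ N)) := by
    rw [Submodule.mem_iInf]
    intro n
    obtain ⟨y, hy, hxy⟩ := h m hm n
    have := Submodule.mem_map_of_mem (f := N.mkQ) hxy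
    rw [Submodule.map_smul'', Submodule.map_top, Submodule.range_mkQ, map_sub, Submodule.mkQ_apply, Submodule.mkQ_apply,
      (Submodule.Quotient.mk_eq_zero N).2 hy, sub_zero] at this
    exact this
  obtain ⟨r, hr⟩ := (Ideal.mem_iInf_smul_pow_eq_bot_iff m _).1 hx
  have : 1 - (r : A) ∈ m := hle (by
    rw [LinearMap.mem_ker, LinearMap.toSpanSingleton_apply, sub_smul, one_smul, hr, sub_self])
  exact hm.ne_top ((Ideal.eq_top_iff_one m).2 (by simpa using add_mem this r.2))

/-- Equality in the completion means congruence modulo every power. -/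
theorem sub_mem_of_of_eq {A : Type u} [CommRing A] {M : Type u} [AddCommGroup M] [Module A M] (m : Ideal A) {a b : M}
    (h : AdicCompletion.of m M a = AdicCompletion.of m M b) (n : ℕ) : a - b ∈ (m ^ n • ⊤ : Submodule A M) := by
  have := congrArg (fun z => z.1 n) h
  simp only [AdicCompletion.of_apply, Submodule.mkQ_apply] at this
  exact (Submodule.Quotient.eq _).1 this

/-- Let A be a Noetherian commutative ring and f : M' → M, g : M → M'' linear maps between finitely
generated A-modules. Then the sequence 0 → M' → M → M'' → 0 is exact — f injective, the image of f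
equal to the kernel of g, g surjective — if and only if for every maximal ideal m of A the sequence
of m-adic completions 0 → M'^ → M^ → M''^ → 0 (maps induced by f and g) is exact in the same sense. -/
theorem result (A : Type u) [CommRing A] [IsNoetherianRing A]
    (M' M M'' : Type u) [AddCommGroup M'] [Module A M'] [AddCommGroup M] [Module A M] [AddCommGroup M''] [Module A M'']
    [Module.Finite A M'] [Module.Finite A M] [Module.Finite A M''] (f : M' →ₗ[A] M) (g : M →ₗ[A] M'') :
    (Function.Injective f ∧ Function.Exact f g ∧ Function.Surjective g) ↔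
      ∀ (m : Ideal A) [m.IsMaximal],
        Function.Injective (AdicCompletion.map m f) ∧ Function.Exact (AdicCompletion.map m f) (AdicCompletion.map m g) ∧
          Function.Surjective (AdicCompletion.map m g) := by
  constructor
  · rintro ⟨hf, hfg, hg⟩ m hm
    exact ⟨AdicCompletion.map_injective m hf, AdicCompletion.map_exact hf hfg hg, AdicCompletion.map_surjective m hg⟩
  · intro h
    refine ⟨(injective_iff_map_eq_zero f).2 fun x hx => ?_, fun y => ⟨fun hy => ?_, ?_⟩, fun z => ?_⟩
    · refine (Submodule.mem_bot A).1 (mem_of_forall ⊥ x fun m hm n => ⟨0, zero_mem _, sub_mem_of_of_eq m ?_ n⟩)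
      exact (h m).1 (by rw [AdicCompletion.map_of, AdicCompletion.map_of, hx, map_zero, map_zero, map_zero])
    · refine mem_of_forall (LinearMap.range f) y fun m hm n => ?_
      obtain ⟨w, hw⟩ := ((h m).2.1 (AdicCompletion.of m M y)).1 (by rw [AdicCompletion.map_of, hy, map_zero])
      obtain ⟨a, ha⟩ := Submodule.mkQ_surjective _ (w.1 n)
      refine ⟨f a, ⟨a, rfl⟩, ?_⟩
      have := congrArg (fun z => z.1 n) hw
      simp only [AdicCompletion.of_apply, AdicCompletion.map_val_apply, ← ha] at this
      rw [← neg_sub, neg_mem_iff]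
      exact (Submodule.Quotient.eq _).1 this
    · rintro ⟨a, rfl⟩
      refine (Submodule.mem_bot A).1 (mem_of_forall ⊥ _ fun m hm n => ⟨0, zero_mem _, sub_mem_of_of_eq m ?_ n⟩)
      rw [map_zero, ← AdicCompletion.map_of, ← AdicCompletion.map_of]
      exact ((h m).2.1 _).2 ⟨_, rfl⟩
    · refine mem_of_forall (LinearMap.range g) z fun m hm n => ?_
      obtain ⟨w, hw⟩ := (h m).2.2 (AdicCompletion.of m M'' z)
      obtain ⟨a, ha⟩ := Submodule.mkQ_surjective _ (w.1 n)
      refine ⟨g a, ⟨a, rfl⟩, ?_⟩
      have := congrArg (fun z => z.1 n) hw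
      simp only [AdicCompletion.of_apply, AdicCompletion.map_val_apply, ← ha] at this
      rw [← neg_sub, neg_mem_iff]
      exact (Submodule.Quotient.eq _).1 this

end Groth.Agent.S14680
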