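import Groth.Statements.S14682
import Groth.Agent.H23.SymHilb
-- import your own Groth.Agent.* helpers here

set_option autoImplicit false
universe u
open CategoryTheory CategoryTheory.Limits AlgebraicGeometry
open SymProd

namespace Groth.Agent.S14682

/-- Let S be a locally Noetherian scheme and f : C ⟶ S a proper morphism, smooth of relative dimension
1, such that every finite set of points of C lying over a single point of S is contained in an
affine open of C; let n ≥ 0 and let (Y, q, g) be an n-th symmetric power of C over S (q : C ×_S ⋯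
×_S C ⟶ Y a quotient of the n-fold fibre power by the symmetric group permuting the factors: affine,
invariant, identifying sections of O_Y with invariant sections; q ≫ g = the structure map). On the
fibre product of the n-fold fibre power with C consider the divisor D̃ = sum of the graphs of the n
projections, i.e. the product of the kernel ideal sheaves of the n sections (id, p_i). Then there is
exactly one quasi-coherent ideal sheaf J on Y ×_S C whose inverse image along q × id is D̃, and the
closed subscheme of Y ×_S C defined by any such J is finite locally free of degree n over Y (an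
effective relative Cartier divisor of degree n). (The published statement is for a flat projective
family whose geometric fibres are connected regular curves; this row assumes properness, smoothness
of relative dimension 1 and the affine-open property, which is what the proof uses.) -/
theorem result {C S Y : Scheme.{u}} [IsLocallyNoetherian S]
    (f : C ⟶ S) [IsProper f] [SmoothOfRelativeDimension 1 f] (hAF : SymProd.IsAF f)
    (n : ℕ) (q : SymProd.fibPow f n ⟶ Y) (g : Y ⟶ S) (hq : SymProd.IsSymProd f n q g) :
    (∃! J : (pullback g f).IdealSheafData, J.comap (pullback.map (WidePullback.base fun _ : Fin n => f) f g f q (𝟙 C) (𝟙 S) ((Category.comp_id _).trans hq.over.symm) ((Category.comp_id f).trans (Category.id_comp f).symm)) = ∏ i : Fin n, (pullback.lift (𝟙 (SymProd.fibPow f n)) (WidePullback.π (fun _ : Fin n => f) i) ((Category.id_comp _).trans (WidePullback.π_arrow (fun _ : Fin n => f) i).symm) : SymProd.fibPow f n ⟶ pullback (WidePullback.base fun _ : Fin n => f) f).ker) ∧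
    ∀ J : (pullback g f).IdealSheafData, J.comap (pullback.map (WidePullback.base fun _ : Fin n => f) f g f q (𝟙 C) (𝟙 S) ((Category.comp_id _).trans hq.over.symm) ((Category.comp_id f).trans (Category.id_comp f).symm)) = ∏ i : Fin n, (pullback.lift (𝟙 (SymProd.fibPow f n)) (WidePullback.π (fun _ : Fin n => f) i) ((Category.id_comp _).trans (WidePullback.π_arrow (fun _ : Fin n => f) i).symm) : SymProd.fibPow f n ⟶ pullback (WidePullback.base fun _ : Fin n => f) f).ker →
      Mor2.IsFinLocFreeOfDeg n (J.subschemeι ≫ pullback.fst g f) := by
  classical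
  obtain ⟨Z, -, hZ⟩ := H23.SymHilb.exists_iso f hAF n q g hq
  obtain ⟨⟨hq1, hq2, -⟩, -⟩ := H23.SymCurve.finLocFreeOfDeg_symProd f hAF hq
  haveI := hq1
  haveI := hq2
  haveI : Surjective q := ⟨SGA1Q.surjective hq.isQuot⟩
  let qO : H23.SymHilb.powOver f n ⟶ Over.mk g := Over.homMk q hq.over
  let M := pullback.map (WidePullback.base fun _ : Fin n => f) f g f q (𝟙 C) (𝟙 S)
    ((Category.comp_id _).trans hq.over.symm) ((Category.comp_id f).trans (Category.id_comp f).symm)
  let s : pullback g f ≅ pullback f g := pullbackSymmetry g f
  let sP : pullback (WidePullback.base fun _ : Fin n => f) f ≅ pullback f (WidePullback.base fun _ : Fin n => f) :=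
    pullbackSymmetry _ _
  have hM : M ≫ s.hom = sP.hom ≫ PicF.XTmap f qO := by
    apply pullback.hom_ext
    · simp only [M, s, sP, PicF.XTmap, Category.assoc, pullback.map, pullback.lift_fst, pullback.lift_fst_assoc,
        pullback.lift_snd, pullback.lift_snd_assoc, pullbackSymmetry_hom_comp_fst,
        pullbackSymmetry_hom_comp_fst_assoc, pullbackSymmetry_hom_comp_snd, pullbackSymmetry_hom_comp_snd_assoc,
        Category.comp_id]
      erw [pullback.lift_fst, pullbackSymmetry_hom_comp_fst]
    · simp only [M, s, sP, PicF.XTmap, qO, Category.assoc, pullback.map, pullback.lift_fst, pullback.lift_fst_assoc,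
        pullback.lift_snd, pullback.lift_snd_assoc, pullbackSymmetry_hom_comp_fst,
        pullbackSymmetry_hom_comp_fst_assoc, pullbackSymmetry_hom_comp_snd, pullbackSymmetry_hom_comp_snd_assoc,
        Category.comp_id, Over.homMk_left]
      erw [pullback.lift_snd, pullbackSymmetry_hom_comp_snd_assoc]
  obtain ⟨hp1, hp2, hp3⟩ : Flat (PicF.XTmap f qO) ∧ Surjective (PicF.XTmap f qO) ∧ QuasiCompact (PicF.XTmap f qO) :=
    ⟨MorphismProperty.of_isPullback (P := @Flat) (HilbDLib.isPullback_XTmap f qO).flip (inferInstanceAs (Flat q)),
      MorphismProperty.of_isPullback (P := @Surjective) (HilbDLib.isPullback_XTmap f qO).flip (inferInstanceAs (Surjective q)),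
      MorphismProperty.of_isPullback (P := @QuasiCompact) (HilbDLib.isPullback_XTmap f qO).flip (inferInstanceAs (QuasiCompact q))⟩
  have hD : (H23.SymHilb.sumDiv f n).comap sP.hom = ∏ i : Fin n,
      (pullback.lift (𝟙 (SymProd.fibPow f n)) (WidePullback.π (fun _ : Fin n => f) i)
        ((Category.id_comp _).trans (WidePullback.π_arrow (fun _ : Fin n => f) i).symm) :
          SymProd.fibPow f n ⟶ pullback (WidePullback.base fun _ : Fin n => f) f).ker := by
    refine (map_prod (⟨⟨fun J => Scheme.IdealSheafData.comap J sP.hom, by simp⟩, fun J J' => FComplLib.comap_mul _ J J'⟩ :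
      (pullback f (WidePullback.base fun _ : Fin n => f)).IdealSheafData →*
        (pullback (WidePullback.base fun _ : Fin n => f) f).IdealSheafData) _ Finset.univ).trans ?_
    refine Finset.prod_congr rfl fun i _ => ?_
    show (HilbDLib.sec f (H23.SymHilb.powOver f n) (WidePullback.π (fun _ : Fin n => f) i)
      (WidePullback.π_arrow (fun _ : Fin n => f) i)).ker.comap sP.hom = _
    rw [← Scheme.IdealSheafData.ker_fst_of_isClosedImmersion]
    have hp : IsPullback (pullback.lift (𝟙 (SymProd.fibPow f n)) (WidePullback.π (fun _ : Fin n => f) i)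
        ((Category.id_comp _).trans (WidePullback.π_arrow (fun _ : Fin n => f) i).symm) :
          SymProd.fibPow f n ⟶ pullback (WidePullback.base fun _ : Fin n => f) f) (𝟙 _) sP.hom
        (HilbDLib.sec f (H23.SymHilb.powOver f n) (WidePullback.π (fun _ : Fin n => f) i)
          (WidePullback.π_arrow (fun _ : Fin n => f) i)) :=
      IsPullback.of_vert_isIso ⟨by
        refine Eq.trans ?_ (Category.id_comp _).symm
        apply pullback.hom_ext
        · simp [sP, HilbDLib.sec]
          erw [pullback.lift_snd, pullback.lift_fst]
        · simp [sP, HilbDLib.sec]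
          erw [pullback.lift_fst, pullback.lift_snd]⟩
    rw [← hp.isoPullback_hom_fst, Scheme.Hom.ker_comp_of_isIso]
  have hex : (Z.1.comap s.hom).comap M = (H23.SymHilb.sumDiv f n).comap sP.hom := by
    rw [← Scheme.IdealSheafData.comap_comp, hM, Scheme.IdealSheafData.comap_comp, ← HilbDLib.pull_eq_comap]
    exact congrArg (fun J => Scheme.IdealSheafData.comap J sP.hom) hZ
  have huniq : ∀ J : (pullback g f).IdealSheafData,
      J.comap M = (H23.SymHilb.sumDiv f n).comap sP.hom → J = Z.1.comap s.hom := by
    intro J hJ
    have h1 : (J.comap s.inv).comap (PicF.XTmap f qO) = Z.1.comap (PicF.XTmap f qO) := by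
      have e : sP.inv ≫ M = PicF.XTmap f qO ≫ s.inv := by
        rw [Iso.inv_comp_eq, ← Category.assoc, Iso.eq_comp_inv, hM]
      rw [← Scheme.IdealSheafData.comap_comp, ← e, Scheme.IdealSheafData.comap_comp, hJ,
        ← Scheme.IdealSheafData.comap_comp, Iso.inv_hom_id, Scheme.IdealSheafData.comap_id, ← HilbDLib.pull_eq_comap]
      exact hZ.symm
    rw [← H23.SymHilb.eq_of_comap_eq (PicF.XTmap f qO) h1, ← Scheme.IdealSheafData.comap_comp, Iso.hom_inv_id,
      Scheme.IdealSheafData.comap_id]
  refine ⟨⟨Z.1.comap s.hom, hex.trans hD, fun J hJ => huniq J (hJ.trans hD.symm)⟩, fun J hJ => ?_⟩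
  rw [huniq J (hJ.trans hD.symm), ← Z.1.ker_subschemeι, ← Scheme.IdealSheafData.ker_fst_of_isClosedImmersion,
    HilbDLib.finLocFreeOfDeg_ker]
  refine RelCurveDiv.finLocFreeOfDeg_of_isPullback (a := pullback.snd s.hom Z.1.subschemeι) (b := 𝟙 Y)
    (IsPullback.of_horiz_isIso ⟨?_⟩) Z.2
  rw [Category.comp_id]
  erw [← pullback.condition_assoc]
  exact congrArg (fun k => pullback.fst s.hom Z.1.subschemeι ≫ k) (pullbackSymmetry_hom_comp_snd g f)

end Groth.Agent.S14682
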