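import Groth.Statements.S14683
import Groth.Agent.SekSuwaLib.GKPoints
-- import your own Groth.Agent.* helpers here

set_option autoImplicit false
universe u
open CategoryTheory AlgebraicGeometry MonoidalCategory CartesianMonoidalCategory MonObj GrpObj
open SekSuwa

namespace Groth.Agent.S14683

open CategoryTheory MonoidalCategory CartesianMonoidalCategory MonObj AlgebraicGeometry Groth.Agent

/-- Let R be a discrete valuation ring of characteristic zero and residue characteristic p, and let λ, μ
∈ R satisfy the divisibility condition under which the finite R-group schemes G_{λ,1} and G_{μ,1}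
(the kernels of the isogenies ψ of the one-parameter groups with law s + t + λst, resp. μ) are
defined. Then every action of G_{μ,1} on G_{λ,1} by group automorphisms is trivial: for every
R-scheme T and all T-valued points g of G_{μ,1} and x of G_{λ,1}, g · x = x. An action by group
automorphisms is an action of the group scheme G_{μ,1} on the scheme G_{λ,1} whose action map is
multiplicative in the second variable on points. (The published statement is made under standing
assumptions that R contains a primitive p²-th root of unity and that λ, μ have positive valuation;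
this row drops both, which the argument does not use.) -/
theorem result (R : Type u) [CommRing R] [IsDomain R] [IsDiscreteValuationRing R] [CharZero R]
    (p : ℕ) [Fact p.Prime] [CharP (IsLocalRing.ResidueField R) p]
    (lam mu : R) (h₁ : SekSuwa.DivCond lam p) (h₂ : SekSuwa.DivCond mu p)
    (a : AlgGrp.Action (SekSuwa.GK R mu p h₂) (SekSuwa.GK R lam p h₁))
    (hmul : ∀ (T : Over (Spec (CommRingCat.of R))) (g : T ⟶ SekSuwa.GK R mu p h₂)
      (x y : T ⟶ SekSuwa.GK R lam p h₁), lift g (x * y) ≫ a.act = (lift g x ≫ a.act) * (lift g y ≫ a.act))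
    (T : Over (Spec (CommRingCat.of R))) (g : T ⟶ SekSuwa.GK R mu p h₂) (x : T ⟶ SekSuwa.GK R lam p h₁) :
    lift g x ≫ a.act = x := by
  let Ω := AlgebraicClosure (FractionRing R)
  have hinj : Function.Injective (algebraMap R Ω) := by
    rw [IsScalarTower.algebraMap_eq R (FractionRing R) Ω]
    exact (algebraMap (FractionRing R) Ω).injective.comp (IsFractionRing.injective R (FractionRing R))
  haveI : CharZero Ω := charZero_of_injective_algebraMap hinj
  haveI : NeZero (p : Ω) := ⟨Nat.cast_ne_zero.mpr (Fact.out : p.Prime).ne_zero⟩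
  have hl : ∀ {l : R}, SekSuwa.DivCond l p → algebraMap R Ω l ≠ 0 := fun hd h0 =>
    nonZeroDivisors.ne_zero hd.nzd (hinj (by rw [h0, map_zero]))
  let T₀ := SekSuwaLib.aff R Ω
  have hpts : ∀ (g : T₀ ⟶ SekSuwa.GK R mu p h₂) (x : T₀ ⟶ SekSuwa.GK R lam p h₁), lift g x ≫ a.act = x := by
    letI : MulAction (T₀ ⟶ SekSuwa.GK R mu p h₂) (T₀ ⟶ SekSuwa.GK R lam p h₁) :=
      { smul := fun g x => lift g x ≫ a.act
        one_smul := fun x => by
          show lift 1 x ≫ a.act = x
          rw [Hom.one_def, show lift (toUnit T₀ ≫ η[SekSuwa.GK R mu p h₂]) x = lift (toUnit T₀) x ≫ (η[SekSuwa.GK R mu p h₂] ▷ _) by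
            rw [lift_whiskerRight], Category.assoc, a.one_act]
          simp
        mul_smul := fun g g' x => by
          show lift (g * g') x ≫ a.act = lift g (lift g' x ≫ a.act) ≫ a.act
          rw [Hom.mul_def, show lift (lift g g' ≫ μ[SekSuwa.GK R mu p h₂]) x = lift (lift g g') x ≫ (μ[SekSuwa.GK R mu p h₂] ▷ _) by
            rw [lift_whiskerRight], Category.assoc, a.mul_act]
          simp only [lift_lift_associator_hom_assoc, lift_whiskerLeft_assoc] }
    intro g x
    show g • x = x
    have h1 : ∀ g' : T₀ ⟶ SekSuwa.GK R mu p h₂, g' • (1 : T₀ ⟶ SekSuwa.GK R lam p h₁) = 1 := fun g' => by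
      have h := hmul T₀ g' 1 1
      rw [_root_.one_mul] at h
      exact mul_eq_left.mp h.symm
    by_cases hx : x = 1
    · rw [hx, h1]
    have hcardG : Nat.card (T₀ ⟶ SekSuwa.GK R mu p h₂) = p := SekSuwaLib.natCard_points h₂ (hl h₂)
    have hcardX : Nat.card (T₀ ⟶ SekSuwa.GK R lam p h₁) = p := SekSuwaLib.natCard_points h₁ (hl h₁)
    haveI := Nat.finite_of_card_ne_zero (α := T₀ ⟶ SekSuwa.GK R mu p h₂) (by rw [hcardG]; exact (Fact.out : p.Prime).ne_zero)
    haveI := Nat.finite_of_card_ne_zero (α := T₀ ⟶ SekSuwa.GK R lam p h₁) (by rw [hcardX]; exact (Fact.out : p.Prime).ne_zero)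
    have hdvd : (MulAction.orbit (T₀ ⟶ SekSuwa.GK R mu p h₂) x).ncard ∣ p := by
      rw [← Nat.card_coe_set_eq]
      erw [Nat.card_congr (MulAction.orbitEquivQuotientStabilizer (T₀ ⟶ SekSuwa.GK R mu p h₂) x)]
      conv_rhs => rw [← hcardG]
      exact Subgroup.card_quotient_dvd_card _
    have hlt : (MulAction.orbit (T₀ ⟶ SekSuwa.GK R mu p h₂) x).ncard < p := by
      refine lt_of_lt_of_eq (Set.ncard_lt_card fun htop => hx ?_) hcardX
      obtain ⟨g', hg'⟩ := (htop ▸ Set.mem_univ (1 : T₀ ⟶ SekSuwa.GK R lam p h₁) : (1 : T₀ ⟶ SekSuwa.GK R lam p h₁) ∈ MulAction.orbit _ x)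
      have h2 := congrArg (fun y => g'⁻¹ • y) hg'
      simp only [inv_smul_smul, h1] at h2
      exact h2
    have hone : (MulAction.orbit (T₀ ⟶ SekSuwa.GK R mu p h₂) x).ncard = 1 :=
      ((Nat.dvd_prime (Fact.out : p.Prime)).mp hdvd).resolve_right hlt.ne
    obtain ⟨y, hy⟩ := Set.ncard_eq_one.mp hone
    have hgx : g • x ∈ MulAction.orbit (T₀ ⟶ SekSuwa.GK R mu p h₂) x := MulAction.mem_orbit _ _
    have hxx : x ∈ MulAction.orbit (T₀ ⟶ SekSuwa.GK R mu p h₂) x := MulAction.mem_orbit_self _
    rw [hy, Set.mem_singleton_iff] at hgx hxx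
    rw [hgx, ← hxx]
  have hact : a.act = snd (SekSuwa.GK R mu p h₂) (SekSuwa.GK R lam p h₁) := by
    let M := SekSuwa.AK R mu p h₂
    let L := SekSuwa.AK R lam p h₁
    let e := pullbackSpecIso R M L
    let W := (SekSuwa.GK R mu p h₂ ⊗ SekSuwa.GK R lam p h₁)
    let f : Spec (CommRingCat.of (TensorProduct R M L)) ⟶ W.left := e.inv
    haveI : IsIso f := inferInstanceAs (IsIso e.inv)
    apply Over.OverMorphism.ext
    rw [← cancel_epi f]
    have hsnd : f ≫ (snd (SekSuwa.GK R mu p h₂) (SekSuwa.GK R lam p h₁)).left =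
        Spec.map (CommRingCat.ofHom (R := L) (Algebra.TensorProduct.includeRight (R := R) (A := M) (B := L)).toRingHom) :=
      pullbackSpecIso_inv_snd R M L
    rw [hsnd]
    refine (Spec.map_preimage (f ≫ a.act.left)).symm.trans ?_
    refine congrArg Spec.map (CommRingCat.hom_ext (RingHom.ext fun z => sub_eq_zero.mp ?_))
    refine SekSuwaLib.eq_zero_of_forall_lift (Ω := Ω) h₂ h₁ hinj (hl h₂) (hl h₁) fun g x => ?_
    rw [map_sub, sub_eq_zero]
    let v := Algebra.TensorProduct.lift g x (fun _ _ => .all _ _)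
    have hq : Spec.map (CommRingCat.ofHom v.toRingHom) ≫ f =
        (lift (SekSuwaLib.algHomEquiv M Ω g) (SekSuwaLib.algHomEquiv L Ω x)).left := by
      refine Limits.pullback.hom_ext ?_ ?_
      · show (_ ≫ f) ≫ _ = (lift (SekSuwaLib.algHomEquiv M Ω g) (SekSuwaLib.algHomEquiv L Ω x) ≫ fst _ _).left
        rw [lift_fst]
        refine (Category.assoc _ _ _).trans ?_
        refine (congrArg (_ ≫ ·) (pullbackSpecIso_inv_fst R M L)).trans ?_
        refine (Spec.map_comp _ _).symm.trans ?_
        exact congrArg Spec.map (CommRingCat.hom_ext (RingHom.ext fun m =>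
          (Algebra.TensorProduct.lift_tmul g x (fun _ _ => .all _ _) m 1).trans (by rw [map_one, _root_.mul_one]; rfl)))
      · show (_ ≫ f) ≫ _ = (lift (SekSuwaLib.algHomEquiv M Ω g) (SekSuwaLib.algHomEquiv L Ω x) ≫ snd _ _).left
        rw [lift_snd]
        refine (Category.assoc _ _ _).trans ?_
        refine (congrArg (_ ≫ ·) (pullbackSpecIso_inv_snd R M L)).trans ?_
        refine (Spec.map_comp _ _).symm.trans ?_
        exact congrArg Spec.map (CommRingCat.hom_ext (RingHom.ext fun m =>
          (Algebra.TensorProduct.lift_tmul g x (fun _ _ => .all _ _) 1 m).trans (by rw [map_one, _root_.one_mul]; rfl)))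
    have h3 : Spec.map (Spec.preimage (f ≫ a.act.left) ≫ CommRingCat.ofHom v.toRingHom) =
        Spec.map (CommRingCat.ofHom x.toRingHom) := by
      rw [Spec.map_comp]
      refine (congrArg (_ ≫ ·) (Spec.map_preimage (f ≫ a.act.left))).trans ?_
      refine ((Category.assoc _ _ _).symm.trans (congrArg (· ≫ a.act.left) hq)).trans ?_
      exact (Over.comp_left ..).symm.trans (congrArg (fun m => m.left) (hpts _ _))
    refine (congrArg (fun φ => φ.hom z) (Spec.map_injective h3)).trans ?_
    show x z = v ((1 : M) ⊗ₜ[R] z)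
    rw [Algebra.TensorProduct.lift_tmul, map_one, _root_.one_mul]
  rw [hact, lift_snd]

end Groth.Agent.S14683
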