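import Groth.Statements.S14684
import Groth.Agent.SekSuwaLib.GLamTorsor
-- import your own Groth.Agent.* helpers here

set_option autoImplicit false
universe u
open CategoryTheory AlgebraicGeometry
open SekSuwa

open MonoidalCategory CartesianMonoidalCategory

namespace Groth.Agent.S14684

/-- Let R be a discrete valuation ring of characteristic zero and residue characteristic p, λ ≠ 0 in R,
and X a scheme which is faithfully flat over Spec R. Then every torsor for the fppf topology over X
under (the base change to X of) the affine R-group G^(λ) = Spec R[T, 1/(1+λT)], with group law s + t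
+ λst, is locally trivial for the Zariski topology; that is, the first higher direct image of G^(λ)
under the morphism from the flat site to the Zariski site of X vanishes, and fppf and Zariski H¹ of
X with coefficients in G^(λ) agree. -/
theorem result (R : Type u) [CommRing R] [IsDomain R] [IsDiscreteValuationRing R] [CharZero R]
    (p : ℕ) [Fact p.Prime] [CharP (IsLocalRing.ResidueField R) p]
    (lam : R) (hlam : lam ≠ 0)
    (X : Scheme.{u}) (f : X ⟶ Spec (CommRingCat.of R)) [Flat f] [Surjective f]
    (P : Over X) (a : AlgGrp.Action (Red.bc f (SekSuwa.G R lam)) P)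
    (hP : NonAbH1.IsTorsorFor Scheme.fppfPrecoverage a) :
    NonAbH1.IsTorsorFor Scheme.zariskiPrecoverage a := by
  exact ⟨hP.1, by
    have e : (toUnit P).left = P.hom := (Category.comp_id _).symm.trans (Over.w (toUnit P))
    have hloc : NonAbH1.IsLocallyTrivialFor Scheme.fpqcPrecoverage (Over.mk (toUnit P).left : Over (𝟙_ (Over X)).left) := by
      rw [e]
      exact ⟨hP.2.choose, Scheme.fppfPrecoverage_le_fpqcPrecoverage _ hP.2.choose_spec.1, hP.2.choose_spec.2⟩
    have key := Groth.Agent.SekSuwaLib.GLamTorsor.isLocallyTrivial_of_localH90On
      (Groth.Agent.SekSuwaLib.GLamTorsor.localH90On f hlam)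
      (fun R' _ v hv => by
        have : IsOpenImmersion v := hv
        have : Flat (𝟙_ (Over X)).hom := (inferInstance : Flat (𝟙 X))
        show Flat ((v ≫ (𝟙_ (Over X)).hom) ≫ f)
        infer_instance)
      a (toUnit P)
      (toUnit_unique _ _) (fun T x y _ => Groth.Agent.SchTorsor.exists_div hP.1 x y)
      (fun T g g' y hg => Groth.Agent.SchTorsor.act_free hP.1 hg) hloc
    rw [e] at key
    exact key⟩

end Groth.Agent.S14684
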