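import Groth.Statements.S14685
import Groth.Agent.SekSuwaLib.OrderPrime
import Groth.Agent.GrpSchLib.AffineHopf
import Mathlib.AlgebraicGeometry.Morphisms.Finite
import Mathlib.AlgebraicGeometry.Morphisms.Flat
import Mathlib.RingTheory.Flat.TorsionFree
import Mathlib.LinearAlgebra.FreeModule.PID
import Mathlib.RingTheory.Localization.FractionRing
-- import your own Groth.Agent.* helpers here

set_option autoImplicit false
universe u
open CategoryTheory AlgebraicGeometry
open SekSuwa

namespace Groth.Agent.S14685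

open CategoryTheory CategoryTheory.Limits MonoidalCategory CartesianMonoidalCategory MonObj GrpObj AlgebraicGeometry
open TensorProduct WithConv
open Groth.Agent.GrpSchLib.AffineHopf Groth.Agent.SekSuwaLib

set_option linter.style.haveILetI false

/-- A finite disjoint union of copies of `Spec K` isomorphic to `Spec B` splits `B`. -/
theorem bijective_of_isIso_sigma {K B : Type u} [CommRing K] [CommRing B] {M : Type} [Finite M]
    (f : (∐ fun _ : M => Spec (CommRingCat.of K)) ⟶ Spec (CommRingCat.of B)) [IsIso f]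
    (π : M → (B →+* K)) (h : ∀ m, Sigma.ι (fun _ : M => Spec (CommRingCat.of K)) m ≫ f =
      Spec.map (CommRingCat.ofHom (π m))) :
    Function.Bijective fun (b : B) (m : M) => π m b := by
  classical
  let Ψ : B →+* (ULift.{u} M → K) := Pi.ringHom fun i => π i.down
  let θ : (∐ fun _ : ULift.{u} M => Spec (CommRingCat.of K)) ⟶
      (∐ fun _ : M => Spec (CommRingCat.of K)) :=
    Sigma.desc fun i => Sigma.ι (fun _ : M => Spec (CommRingCat.of K)) i.down
  haveI : IsIso θ := ⟨Sigma.desc fun m => Sigma.ι (fun _ : ULift.{u} M => Spec (CommRingCat.of K)) ⟨m⟩,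
    Sigma.hom_ext _ _ fun i => by simp [θ], Sigma.hom_ext _ _ fun i => by simp [θ]⟩
  have key : sigmaSpec (fun _ : ULift.{u} M => CommRingCat.of K) ≫ Spec.map (CommRingCat.ofHom Ψ) = θ ≫ f := by
    refine Sigma.hom_ext _ _ fun i => ?_
    rw [ι_sigmaSpec_assoc, ← Spec.map_comp, Sigma.ι_desc_assoc, h]
    rfl
  haveI : IsIso (sigmaSpec (fun _ : ULift.{u} M => CommRingCat.of K) ≫ Spec.map (CommRingCat.ofHom Ψ)) := by
    rw [key]; infer_instance
  haveI : IsIso (Spec.map (CommRingCat.ofHom Ψ)) :=
    IsIso.of_isIso_comp_left (sigmaSpec (fun _ : ULift.{u} M => CommRingCat.of K)) _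
  let g := Spec.preimage (inv (Spec.map (CommRingCat.ofHom Ψ)))
  have hg1 : CommRingCat.ofHom Ψ ≫ g = 𝟙 _ := Spec.map_injective (by rw [Spec.map_comp, Spec.map_preimage, Spec.map_id]; exact IsIso.inv_hom_id _)
  have hg2 : g ≫ CommRingCat.ofHom Ψ = 𝟙 _ := Spec.map_injective (by rw [Spec.map_comp, Spec.map_preimage, Spec.map_id]; exact IsIso.hom_inv_id _)
  have hΨ : Function.Bijective Ψ := Function.bijective_iff_has_inverse.mpr
    ⟨g.hom, fun x => congrArg (fun h => h.hom x) hg1, fun x => congrArg (fun h => h.hom x) hg2⟩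
  exact (Equiv.bijective (Equiv.piCongrLeft' (fun _ : ULift.{u} M => K) Equiv.ulift)).comp hΨ

/-- Points of a constant group scheme presented as the spectrum of a bialgebra. -/
theorem exists_points {K : Type u} [CommRing K] {B : Type u} [CommRing B] [HopfAlgebra K B]
    {M : Type} [Group M] [Finite M]
    (φ : TwC.const (Spec (CommRingCat.of K)) M ⟶ sp K B) [IsIso φ]
    (hφ : ∀ m n, (TwC.pt (Spec (CommRingCat.of K)) M m ≫ φ) * (TwC.pt (Spec (CommRingCat.of K)) M n ≫ φ) = TwC.pt (Spec (CommRingCat.of K)) M (m * n) ≫ φ) :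
    ∃ π : M → (B →ₐ[K] K), Function.Bijective (fun (b : B) (m : M) => π m b) ∧
      ∀ m n, (toConv (π m) * toConv (π n)).ofConv = π (m * n) := by
  classical
  let v : sp K K ⟶ 𝟙_ (Over (Spec (CommRingCat.of K))) := toUnit _
  have hv : v.left = 𝟙 _ := by
    have h := Over.w v
    simp only [Over.tensorUnit_hom, Functor.id_obj, Functor.const_obj_obj] at h
    refine ((Category.comp_id _).symm.trans h).trans ?_
    show Spec.map (CommRingCat.ofHom (algebraMap K K)) = 𝟙 _
    exact Spec.map_id _
  choose π hπ using fun m => exists_eq_spMap (v ≫ TwC.pt (Spec (CommRingCat.of K)) M m ≫ φ)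
  refine ⟨π, ?_, fun m n => spMap_injective ?_⟩
  swap
  · rw [← spMap_mul, ← hπ, ← hπ, ← hπ, ← hφ m n, MonObj.comp_mul]
  haveI : IsIso φ.left := inferInstanceAs (IsIso ((Over.forget _).map φ))
  refine @bijective_of_isIso_sigma K B _ _ M _ φ.left ‹_› (fun m => (π m).toRingHom) fun m => ?_
  have h := congrArg Over.Hom.left (hπ m)
  rw [Over.comp_left, Over.comp_left, hv] at h
  exact (Category.id_comp _).symm.trans h

/-- A character of a split Hopf order of prime rank takes integral values. -/
theorem exists_character {R : Type u} [CommRing R] [IsDomain R] [IsDiscreteValuationRing R] (p : ℕ) [hp : Fact p.Prime]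
    (ζ : R) (hζ : IsPrimitiveRoot ζ p) {A : Type u} [CommRing A] [HopfAlgebra R A] [Module.Finite R A] [Module.Free R A]
    (π : Multiplicative (ZMod p) → (FractionRing R ⊗[R] A →ₐ[FractionRing R] FractionRing R))
    (hbij : Function.Bijective fun b m => π m b)
    (hmul : ∀ m n, (toConv (π m) * toConv (π n)).ofConv = π (m * n)) :
    ∃ (_ : Module.Basis (Fin p) R A) (t : A), t ^ p = 1 ∧ t ≠ 1 ∧ IsGroupLikeElem R t := by
  classical
  let K := FractionRing R
  let b₀ := Module.Free.chooseBasis R A
  let L : K ⊗[R] A →ₗ[K] (Multiplicative (ZMod p) → K) := LinearMap.pi fun m => (π m).toLinearMap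
  let Le := LinearEquiv.ofBijective L hbij
  have hcard : Fintype.card (Module.Free.ChooseBasisIndex R A) = p := by
    rw [← Module.finrank_eq_card_basis (b₀.baseChange K), Le.finrank_eq, Module.finrank_pi, Fintype.card_multiplicative,
      ZMod.card]
  let b : Module.Basis (Fin p) R A := b₀.reindex (Fintype.equivFinOfCardEq hcard)
  let ev : Multiplicative (ZMod p) → (A →ₐ[R] K) := fun m =>
    ((π m).restrictScalars R).comp Algebra.TensorProduct.includeRight
  let β : Fin p → (Multiplicative (ZMod p) → K) := fun l m => ev m (b l)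
  have hβ : LinearIndependent K β := by
    have h := (b.baseChange K).linearIndependent.map' Le.toLinearMap Le.ker
    have e : (Le.toLinearMap ∘ (b.baseChange K)) = β := by
      funext l m
      simp [Le, L, β, ev, Module.Basis.baseChange_apply, LinearEquiv.ofBijective_apply]
    rwa [e] at h
  -- separation of functions of two variables
  have hsep : ∀ X : Fin p × Fin p → K,
      (∀ m n, ∑ uv : Fin p × Fin p, X uv * (β uv.1 m * β uv.2 n) = 0) → X = 0 := by
    intro X hX
    have h1 : ∀ n u, ∑ v, X (u, v) * β v n = 0 := fun n => by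
      refine Fintype.linearIndependent_iff.mp hβ (fun u => ∑ v, X (u, v) * β v n) (funext fun m => ?_)
      rw [Finset.sum_apply, Pi.zero_apply, ← hX m n, Fintype.sum_prod_type]
      refine Finset.sum_congr rfl fun u _ => ?_
      rw [Pi.smul_apply, smul_eq_mul, Finset.sum_mul]
      exact Finset.sum_congr rfl fun v _ => by ring
    funext uv
    exact Fintype.linearIndependent_iff.mp hβ (fun v => X (uv.1, v)) (funext fun n => by
      rw [Finset.sum_apply, Pi.zero_apply, ← h1 n uv.1]
      exact Finset.sum_congr rfl fun v _ => rfl) uv.2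
  let bb := b.tensorProduct b
  have hev2 : ∀ (m n : Multiplicative (ZMod p)) (x : A ⊗[R] A),
      Algebra.TensorProduct.lift (ev m) (ev n) (fun _ _ => Commute.all _ _) x =
        ∑ uv : Fin p × Fin p, algebraMap R K (bb.repr x uv) * (β uv.1 m * β uv.2 n) := fun m n x => by
    conv_lhs => rw [← bb.sum_repr x]
    rw [map_sum]
    refine Finset.sum_congr rfl fun uv _ => ?_
    rw [map_smul, Algebra.smul_def, Module.Basis.tensorProduct_apply', Algebra.TensorProduct.lift_tmul]
  have hevmul : ∀ m n (a : A), ev (m * n) a =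
      Algebra.TensorProduct.lift (ev m) (ev n) (fun _ _ => Commute.all _ _) (Coalgebra.comul (R := R) a) := fun m n a => by
    show π (m * n) ((1 : K) ⊗ₜ[R] a) = _
    rw [← hmul m n]
    simp only [AlgHom.convMul_apply, TensorProduct.comul_tmul, CommSemiring.comul_apply]
    induction Coalgebra.comul (R := R) a using TensorProduct.induction_on with
    | zero => simp
    | tmul x y => simp [ev]
    | add x y hx hy => simp only [TensorProduct.tmul_add, map_add, hx, hy]
  -- the character
  let χ : Multiplicative (ZMod p) → K := fun m => algebraMap R K ζ ^ (Multiplicative.toAdd m).val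
  have hζp : algebraMap R K ζ ^ p = 1 := by rw [← map_pow, hζ.pow_eq_one, map_one]
  have hχ : ∀ m n, χ (m * n) = χ m * χ n := fun m n => by
    simp only [χ, toAdd_mul, ← pow_add, ZMod.val_add]
    exact (pow_eq_pow_mod _ hζp).symm
  let c : Fin p → K := fun l => (b.baseChange K).repr (Le.symm χ) l
  have hc : ∀ m, ∑ l, c l * β l m = χ m := fun m => by
    conv_rhs => rw [← Le.apply_symm_apply χ, ← (b.baseChange K).sum_repr (Le.symm χ)]
    rw [map_sum, Finset.sum_apply]
    refine Finset.sum_congr rfl fun l _ => ?_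
    rw [map_smul, Pi.smul_apply, smul_eq_mul]
    simp [Le, L, β, ev, c, Module.Basis.baseChange_apply, LinearEquiv.ofBijective_apply]
  let D : Fin p → Fin p × Fin p → R := fun l uv => bb.repr (Coalgebra.comul (R := R) (b l)) uv
  have hcc : ∀ uv : Fin p × Fin p, c uv.1 * c uv.2 = ∑ l, D l uv • c l := by
    intro uv
    have h := hsep (fun uv => c uv.1 * c uv.2 - ∑ l, D l uv • c l) fun m n => by
      simp only [sub_mul, Finset.sum_sub_distrib, Algebra.smul_def]
      rw [sub_eq_zero]
      refine Eq.trans ?_ ((Finset.sum_comm (f := fun l uv => algebraMap R K (D l uv) * c l * (β uv.1 m * β uv.2 n))).trans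
        (Finset.sum_congr rfl fun uv _ => (Finset.sum_mul _ _ _).symm))
      calc ∑ uv : Fin p × Fin p, c uv.1 * c uv.2 * (β uv.1 m * β uv.2 n) = χ m * χ n := by
            rw [← hc m, ← hc n, Finset.sum_mul_sum, Fintype.sum_prod_type]
            exact Finset.sum_congr rfl fun u _ => Finset.sum_congr rfl fun v _ => by ring
        _ = ∑ l, c l * β l (m * n) := by rw [hc, hχ]
        _ = _ := Finset.sum_congr rfl fun l _ => by
            rw [show β l (m * n) = _ from hevmul m n (b l), hev2, Finset.mul_sum]
            exact Finset.sum_congr rfl fun uv _ => by show _ = algebraMap R K (D l uv) * c l * _; ring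
    exact sub_eq_zero.mp (congrFun h uv)
  let N : Submodule R K := Submodule.span R (insert 1 (Set.range c))
  have hN1 : (1 : K) ∈ N := Submodule.subset_span (Set.mem_insert _ _)
  have hNc : ∀ l, c l ∈ N := fun l => Submodule.subset_span (Set.mem_insert_of_mem _ ⟨l, rfl⟩)
  have hNN : N * N ≤ N := by
    rw [Submodule.span_mul_span, Submodule.span_le]
    rintro _ ⟨x, hx, y, hy, rfl⟩
    rcases hx with rfl | ⟨l, rfl⟩
    · show 1 * y ∈ N
      rw [_root_.one_mul]; exact Submodule.subset_span hy
    rcases hy with rfl | ⟨l', rfl⟩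
    · show c l * 1 ∈ N
      rw [_root_.mul_one]; exact hNc l
    show c l * c l' ∈ N
    rw [show c l * c l' = _ from hcc (l, l')]
    exact sum_mem fun i _ => N.smul_mem _ (hNc i)
  have hint : ∀ l, IsIntegral R (c l) := fun l => by
    refine IsIntegral.of_mem_of_fg (N.toSubalgebra hN1 fun x y hx hy => hNN (Submodule.mul_mem_mul hx hy)) ?_ _ (hNc l)
    show (Subalgebra.toSubmodule _).FG
    rw [Submodule.toSubalgebra_toSubmodule]
    exact Submodule.fg_span ((Set.finite_range c).insert 1)
  choose r hr using fun l => IsIntegrallyClosed.isIntegral_iff.mp (hint l)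
  let t : A := b.equivFun.symm r
  have hevt : ∀ m, ev m t = χ m := fun m => by
    rw [← hc m]
    simp [t, Module.Basis.equivFun_symm_apply, map_sum, map_smul, Algebra.smul_def, hr, β]
  have hinj : ∀ a a' : A, (∀ m, ev m a = ev m a') → a = a' := fun a a' h => by
    have h1 : (1 : K) ⊗ₜ[R] a = (1 : K) ⊗ₜ[R] a' := hbij.1 (funext h)
    refine b.repr.injective (Finsupp.ext fun l => IsFractionRing.injective R K ?_)
    have h2 := congrArg (fun z => (b.baseChange K).repr z l) h1
    simpa [Algebra.smul_def] using h2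
  have hcomul : Coalgebra.comul (R := R) t = t ⊗ₜ[R] t := by
    refine bb.repr.injective (Finsupp.ext fun uv => IsFractionRing.injective R K (sub_eq_zero.mp ?_))
    refine congrFun (hsep (fun uv => algebraMap R K (bb.repr (Coalgebra.comul (R := R) t) uv) -
      algebraMap R K (bb.repr (t ⊗ₜ[R] t) uv)) fun m n => ?_) uv
    simp only [sub_mul, Finset.sum_sub_distrib]
    rw [← hev2, ← hev2, ← hevmul, Algebra.TensorProduct.lift_tmul, hevt, hevt, hevt, hχ, sub_self]
  have hne : t ≠ 1 := fun h => by
    have h1 := hevt (Multiplicative.ofAdd (1 : ZMod p))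
    rw [h, map_one] at h1
    simp only [χ, toAdd_ofAdd] at h1
    haveI : Fact (1 < p) := ⟨hp.out.one_lt⟩
    rw [ZMod.val_one, pow_one] at h1
    exact hζ.ne_one hp.out.one_lt (IsFractionRing.injective R K (by rw [← h1, map_one]))
  have htp : t ^ p = 1 := hinj _ _ fun m => by
    rw [map_pow, map_one, hevt]
    simp only [χ]
    rw [← pow_mul, mul_comm, pow_mul, hζp, one_pow]
  refine ⟨b, t, htp, hne, ?_, hcomul⟩
  have h1 := Coalgebra.rTensor_counit_comul (R := R) t
  rw [hcomul, LinearMap.rTensor_tmul] at h1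
  have h2 := congrArg (TensorProduct.lid R A) h1
  simp only [TensorProduct.lid_tmul, one_smul] at h2
  have hu : IsUnit t := IsUnit.of_mul_eq_one (b := t ^ (p - 1)) (by rw [← pow_succ', Nat.sub_add_cancel hp.out.one_le, htp])
  have h3 : algebraMap R A (Coalgebra.counit (R := R) t) = 1 := hu.mul_right_cancel (by rw [← Algebra.smul_def, h2, _root_.one_mul])
  have h4 := congrArg (Coalgebra.counit (R := R)) h3
  simpa using h4

/-- Let R be a discrete valuation ring of characteristic zero and residue characteristic p containing a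
primitive p-th root of unity, with fraction field K, and let G be a finite flat R-group scheme whose
generic fibre is isomorphic, as a K-group scheme, to the constant group ℤ/pℤ. Then G is isomorphic
as an R-group scheme to G_{λ,1} = Spec R[T]/(((1 + λT)^p − 1)/λ^p) (the kernel of the isogeny ψ on
the one-parameter group with law s + t + λst) for some nonzero λ ∈ R for which that polynomial has
coefficients in R. -/
theorem result (R : Type u) [CommRing R] [IsDomain R] [IsDiscreteValuationRing R] [CharZero R]
    (p : ℕ) [Fact p.Prime] [CharP (IsLocalRing.ResidueField R) p]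
    (ζ : R) (hζ : IsPrimitiveRoot ζ p)
    (G : Over (Spec (CommRingCat.of R))) [GrpObj G] [IsFinite G.hom] [Flat G.hom]
    (e : Red.bc (Spec.map (CommRingCat.ofHom (algebraMap R (FractionRing R)))) G ≅ TwC.const (Spec (CommRingCat.of (FractionRing R))) (Multiplicative (ZMod p)))
    (he : TwC.IsConstGrp (Multiplicative (ZMod p)) (Red.bc (Spec.map (CommRingCat.ofHom (algebraMap R (FractionRing R)))) G) e) :
    ∃ (lam : R) (h : SekSuwa.DivCond lam p), lam ≠ 0 ∧ Nonempty (Grp.mk G ≅ Grp.mk (SekSuwa.GK R lam p h)) := by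
  classical
  let f : Spec (CommRingCat.of (FractionRing R)) ⟶ Spec (CommRingCat.of R) :=
    Spec.map (CommRingCat.ofHom (algebraMap R (FractionRing R)))
  haveI : IsAffine G.left := isAffine_of_isAffineHom G.hom
  obtain ⟨A, _, _, ⟨eG⟩⟩ := exists_hopf G
  let il : (sp R A).left ≅ G.left :=
    (Over.forget _).mapIso (asIso eG.hom.hom.hom)
  have hhom : (sp R A).hom = il.hom ≫ G.hom := (Over.w eG.hom.hom.hom).symm
  haveI : IsFinite (Spec.map (CommRingCat.ofHom (algebraMap R A))) := by
    show IsFinite (sp R A).hom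
    rw [hhom]; infer_instance
  haveI : Flat (Spec.map (CommRingCat.ofHom (algebraMap R A))) := by
    show Flat (sp R A).hom
    rw [hhom]; infer_instance
  haveI : Module.Finite R A := RingHom.finite_algebraMap.1 ((IsFinite.SpecMap_iff (CommRingCat.ofHom (algebraMap R A))).1 inferInstance)
  haveI : Module.Flat R A := RingHom.flat_algebraMap_iff.1 ((Flat.SpecMap_iff (f := CommRingCat.ofHom (algebraMap R A))).1 inferInstance)
  haveI : Module.Free R A := Module.free_of_finite_type_torsion_free'
  let w0 : Grp.mk (Red.bc f (sp R A)) ≅ Grp.mk (Red.bc f G) :=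
    (Over.pullback f).mapGrp.mapIso eG
  obtain ⟨w⟩ := nonempty_bc_sp (R := R) (FractionRing R) A
  let W := w.symm ≪≫ w0
  let φ : TwC.const (Spec (CommRingCat.of (FractionRing R))) (Multiplicative (ZMod p)) ⟶
      sp (FractionRing R) (FractionRing R ⊗[R] A) := e.inv ≫ W.inv.hom.hom
  haveI : IsIso W.inv.hom.hom :=
    inferInstanceAs (IsIso ((Grp.forget _).map W.inv))
  haveI hW : IsMonHom W.inv.hom.hom := W.inv.hom.isMonHom_hom
  haveI : IsIso φ := inferInstanceAs (IsIso (e.inv ≫ W.inv.hom.hom))
  have hφ : ∀ m n, (TwC.pt (Spec (CommRingCat.of (FractionRing R))) (Multiplicative (ZMod p)) m ≫ φ) *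
      (TwC.pt (Spec (CommRingCat.of (FractionRing R))) (Multiplicative (ZMod p)) n ≫ φ) =
      TwC.pt (Spec (CommRingCat.of (FractionRing R))) (Multiplicative (ZMod p)) (m * n) ≫ φ := fun m n => by
    show (_ ≫ e.inv ≫ _) * (_ ≫ e.inv ≫ _) = _ ≫ e.inv ≫ _
    rw [← Category.assoc, ← Category.assoc, ← Category.assoc, ← he m n]
    exact (@MonObj.mul_comp _ _ _ _ _ _ _ _ _ _ W.inv.hom.hom hW).symm
  obtain ⟨π, hbij, hmul⟩ := exists_points φ hφ
  obtain ⟨b, t, htp, ht1, ht⟩ := exists_character p ζ hζ π hbij hmul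
  obtain ⟨lam, h, hlam, ⟨E⟩⟩ := exists_bialgEquiv_AK p b t htp ht1 ht (Nat.cast_ne_zero.mpr (Fact.out : p.Prime).ne_zero)
  exact ⟨lam, h, hlam, ⟨eG.symm ≪≫ spIso E⟩⟩

end Groth.Agent.S14685
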