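import Groth.Statements.S14686
import Groth.Agent.SekSuwaLib.Exact
import Groth.Agent.SekSuwaLib.Points
import Groth.Agent.GrpSchLib.HopfFlat
import Mathlib.GroupTheory.Sylow
import Mathlib.GroupTheory.PGroup
import Mathlib.AlgebraicGeometry.Morphisms.Finite
import Mathlib.AlgebraicGeometry.Morphisms.Flat
import Mathlib.AlgebraicGeometry.Morphisms.FlatRank
import Mathlib.AlgebraicGeometry.Sites.Fpqc
import Mathlib.RingTheory.Flat.TorsionFree
import Mathlib.LinearAlgebra.FreeModule.PID
import Mathlib.RingTheory.Spectrum.Prime.RingHom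
-- import your own Groth.Agent.* helpers here

set_option autoImplicit false
universe u
open CategoryTheory AlgebraicGeometry
open SekSuwa

namespace Groth.Agent.S14686

open CategoryTheory CategoryTheory.Limits MonoidalCategory CartesianMonoidalCategory MonObj GrpObj AlgebraicGeometry
open TensorProduct WithConv
open Groth.Agent.GrpSchLib.AffineHopf Groth.Agent.SekSuwaLib

set_option linter.style.haveILetI false

/-- Exactness from the kernel property and local triviality. -/
theorem isExactSeq_of_kernel {S : Scheme.{u}} {G' G G'' : Over S} [GrpObj G'] [GrpObj G] [GrpObj G'']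
    (u : G' ⟶ G) (v : G ⟶ G'') [IsMonHom u] [IsMonHom v] (huv : u ≫ v = 1)
    (hker : ∀ {T : Over S} (d : T ⟶ G), d ≫ v = 1 → ∃ k : T ⟶ G', k ≫ u = d ∧ ∀ k', k' ≫ u = d → k' = k)
    (htriv : NonAbH1.IsLocallyTrivialFor Scheme.fppfPrecoverage (Over.mk v.left : Over G''.left)) :
    NonAbH1.IsExactSeq Scheme.fppfPrecoverage u v := by
  have h3 : (G ◁ u) ≫ μ[G] = fst G G' * (snd G G' ≫ u) := by
    rw [Hom.mul_def]
    congr 1
  have w : fst G G' ≫ v = ((G ◁ u) ≫ μ[G]) ≫ v := by
    rw [h3, MonObj.mul_comp, Category.assoc, huv, MonObj.comp_one, _root_.mul_one]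
  have hd : ∀ s : PullbackCone v v, (s.fst⁻¹ * s.snd) ≫ v = 1 := fun s => by
    rw [MonObj.mul_comp, GrpObj.inv_comp, s.condition, _root_.inv_mul_cancel]
  choose k hk hku using fun s : PullbackCone v v => hker _ (hd s)
  refine ⟨‹_›, ‹_›, huv, ⟨⟨w⟩, ⟨PullbackCone.IsLimit.mk w (fun s => lift s.fst (k s)) (fun s => lift_fst _ _) (fun s => ?_)
    (fun s m hm1 hm2 => ?_)⟩⟩, htriv⟩
  · rw [h3, MonObj.comp_mul, lift_fst, ← Category.assoc, lift_snd, hk, mul_inv_cancel_left]
  · refine CartesianMonoidalCategory.hom_ext _ _ (by rw [lift_fst]; exact hm1) ?_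
    rw [lift_snd]
    refine hku s _ (mul_left_cancel (a := s.fst) ?_)
    rw [mul_inv_cancel_left, ← hm2, h3, MonObj.comp_mul, hm1, Category.assoc]

variable {R : Type u} [CommRing R]

/-- An element with the deformed additive law generates a Hopf ideal. -/
theorem isHopfIdeal_span {A : Type u} [CommRing A] [HopfAlgebra R A] (y : A) (mu : R)
    (hyc : Coalgebra.counit (R := R) y = 0)
    (hyΔ : Coalgebra.comul (R := R) y = y ⊗ₜ[R] (1 : A) + (1 : A) ⊗ₜ[R] y + mu • (y ⊗ₜ[R] y)) :
    (Ideal.span {y}).IsHopfIdeal R := by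
  have hS : HopfAlgebraStruct.antipode (R := R) y ∈ Ideal.span {y} := by
    have h := HopfAlgebra.mul_antipode_rTensor_comul_apply (R := R) y
    rw [hyΔ, hyc, map_zero] at h
    simp only [map_add, map_smul, LinearMap.rTensor_tmul, LinearMap.mul'_apply, HopfAlgebra.antipode_one,
      _root_.one_mul, _root_.mul_one] at h
    refine Ideal.mem_span_singleton'.mpr ⟨-(1 + mu • HopfAlgebraStruct.antipode (R := R) y), ?_⟩
    rw [Algebra.smul_def] at h ⊢
    linear_combination (-1 : A) * h
  have hco : ((Ideal.span {y}).restrictScalars R).IsCoideal := by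
    refine Submodule.IsCoideal.mk ?_ ?_
    · intro z hz
      obtain ⟨a, rfl⟩ := Ideal.mem_span_singleton'.mp hz
      change Bialgebra.counitAlgHom R A (a * y) = 0
      rw [map_mul, Bialgebra.counitAlgHom_apply R A y, hyc, mul_zero]
    · intro z hz
      obtain ⟨a, rfl⟩ := Ideal.mem_span_singleton'.mp hz
      have hmk : (Submodule.restrictScalars R (Ideal.span {y})).mkQ =
          (Ideal.Quotient.mkₐ R (Ideal.span {y})).toLinearMap := rfl
      rw [hmk]
      change Algebra.TensorProduct.map (Ideal.Quotient.mkₐ R (Ideal.span {y})) (Ideal.Quotient.mkₐ R (Ideal.span {y}))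
          (Bialgebra.comulAlgHom R A (a * y)) = 0
      rw [map_mul, map_mul, Bialgebra.comulAlgHom_apply R A y, hyΔ]
      have h0 : Ideal.Quotient.mkₐ R (Ideal.span {y}) y = 0 :=
        (Ideal.Quotient.eq_zero_iff_mem).mpr (Ideal.subset_span rfl)
      simp [h0]
  refine { hco with antipode_mem := ?_ }
  intro z hz
  obtain ⟨a, rfl⟩ := Ideal.mem_span_singleton'.mp hz
  rw [HopfAlgebra.antipode_mul_distrib]
  exact Ideal.mul_mem_left _ _ hS

/-- The kernel of `Spec F` is `Spec` of the quotient by `F t`. -/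
theorem kernel_spec {A : Type u} [CommRing A] [HopfAlgebra R A] {B : Type u} [CommRing B] [HopfAlgebra R B] (p : ℕ) (mu : R)
    (h₂ : SekSuwa.DivCond mu p) (F : SekSuwa.AK R mu p h₂ →ₐc[R] A) (q : A →ₐc[R] B) (hq : Function.Surjective q)
    (hkerq : ∀ a, q a = 0 ↔ a ∈ Ideal.span {F SekSuwa.AK.t}) :
    SekSuwa.specHom q ≫ SekSuwa.specHom F = 1 ∧
    ∀ {T : Over (Spec (CommRingCat.of R))} (d : T ⟶ aff R A), d ≫ SekSuwa.specHom F = 1 →
      ∃ k : T ⟶ aff R B, k ≫ SekSuwa.specHom q = d ∧ ∀ k', k' ≫ SekSuwa.specHom q = d → k' = k := by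
  have hext : ∀ {T : Over (Spec (CommRingCat.of R))} (f g : T ⟶ aff R (SekSuwa.AK R mu p h₂)),
      ptRingHom f SekSuwa.AK.t = ptRingHom g SekSuwa.AK.t → f = g := by
    intro T f g h
    letI := algΓ T
    let fa : SekSuwa.AK R mu p h₂ →ₐ[R] Γ(T.left, ⊤) := ⟨ptRingHom f, fun r => ptRingHom_algebraMap f r⟩
    let ga : SekSuwa.AK R mu p h₂ →ₐ[R] Γ(T.left, ⊤) := ⟨ptRingHom g, fun r => ptRingHom_algebraMap g r⟩
    have e1 : (1 + mu • (SekSuwa.AK.t : SekSuwa.AK R mu p h₂)) * SekSuwa.AK.inv = 1 := by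
      have := congrArg (SekSuwa.AK.mkHom R mu p h₂) (SekSuwa.A.u_mul_inv (R := R) (lam := mu))
      rw [map_mul, map_one, SekSuwa.A.u, map_add, map_one, map_smul] at this
      exact this
    have hi : fa SekSuwa.AK.inv = ga SekSuwa.AK.inv := by
      have hf := congrArg fa e1
      have hg := congrArg ga e1
      simp only [map_mul, map_add, map_one, map_smul, show fa SekSuwa.AK.t = ga SekSuwa.AK.t from h] at hf hg
      calc fa SekSuwa.AK.inv = fa SekSuwa.AK.inv * ((1 + mu • ga SekSuwa.AK.t) * ga SekSuwa.AK.inv) := by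
            rw [hg, _root_.mul_one]
        _ = ga SekSuwa.AK.inv := by rw [← _root_.mul_assoc, mul_comm (fa SekSuwa.AK.inv), hf, _root_.one_mul]
    exact ptRingHom_injective (congrArg AlgHom.toRingHom (SekSuwa.AK.algHom_ext (f := fa) (g := ga) h hi))
  have hone : ∀ {T : Over (Spec (CommRingCat.of R))}, ptRingHom (1 : T ⟶ aff R (SekSuwa.AK R mu p h₂)) SekSuwa.AK.t = 0 := by
    intro T
    rw [Hom.one_def, ptRingHom_one, SekSuwa.AK.counit_t, map_zero]
  refine ⟨hext _ _ ?_, fun {T} d hd => ?_⟩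
  · rw [hone, ptRingHom_comp_specHom]
    have h1 : q (F SekSuwa.AK.t) = 0 := (hkerq _).mpr (Ideal.mem_span_singleton_self _)
    have h2 : ∀ a, ptRingHom (SekSuwa.specHom q) a = ptRingHom (𝟙 (aff R B)) (q a) := fun a => by
      rw [← ptRingHom_comp_specHom, Category.id_comp]
    rw [h2, h1, map_zero]
  · have h1 : ptRingHom d (F SekSuwa.AK.t) = 0 := by
      rw [← ptRingHom_comp_specHom, hd, hone]
    have hle : ∀ a, q a = 0 → ptRingHom d a = 0 := fun a ha => by
      obtain ⟨c, rfl⟩ := Ideal.mem_span_singleton'.mp ((hkerq a).mp ha)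
      rw [map_mul, h1, mul_zero]
    let φ : B →+* Γ(T.left, ⊤) := (q : A →+* B).liftOfSurjective hq
      ⟨ptRingHom d, fun a ha => hle a ha⟩
    have hφq : ∀ a, φ (q a) = ptRingHom d a := fun a =>
      RingHom.liftOfRightInverse_comp_apply (q : A →+* B) _ (Function.rightInverse_surjInv hq) ⟨ptRingHom d, fun a ha => hle a ha⟩ a
    have hφ : ∀ r, φ (algebraMap R B r) = strHom T r := fun r => by
      rw [← (q : A →ₐ[R] B).commutes r]
      exact (hφq _).trans (ptRingHom_algebraMap d r)
    refine ⟨ofRingHom φ hφ, ptRingHom_injective (RingHom.ext fun a => ?_), fun k' hk' => ptRingHom_injective (RingHom.ext fun b => ?_)⟩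
    · rw [ptRingHom_comp_specHom, ptRingHom_ofRingHom, hφq]
    · obtain ⟨a, rfl⟩ := hq b
      rw [← ptRingHom_comp_specHom, hk', ptRingHom_ofRingHom, hφq]

/-- A flat algebra stays flat modulo an ideal of the base. -/
theorem flat_quotientMap {B A : Type u} [CommRing B] [CommRing A] [Algebra B A] [Module.Flat B A] (I : Ideal B) :
    (Ideal.quotientMap (I.map (algebraMap B A)) (algebraMap B A) Ideal.le_comap_map).Flat := by
  let e : (B ⧸ I) ⊗[B] A ≃ₐ[B] A ⧸ I.map (algebraMap B A) :=
    (Algebra.TensorProduct.comm B _ _).trans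
      ((Algebra.TensorProduct.quotIdealMapEquivTensorQuot A I).symm.restrictScalars B)
  have h2 : Ideal.quotientMap (I.map (algebraMap B A)) (algebraMap B A) Ideal.le_comap_map =
      (e.toRingEquiv.toRingHom).comp Algebra.TensorProduct.includeLeftRingHom := by
    refine Ideal.Quotient.ringHom_ext (RingHom.ext fun x => ?_)
    simp only [RingHom.comp_apply, Ideal.quotientMap_mk]
    exact (e.commutes x).symm
  rw [h2]
  refine RingHom.Flat.comp ?_ (RingHom.Flat.of_bijective e.bijective)
  exact RingHom.flat_algebraMap_iff.2 (inferInstance : Module.Flat (B ⧸ I) ((B ⧸ I) ⊗[B] A))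

/-- A quotient by an ideal extended from a base with residue ring `R` is flat over `R`. -/
theorem flat_of_quotient_bijective {B A : Type u} [CommRing B] [CommRing A] [Algebra R B] [Algebra B A] [Algebra R A]
    [IsScalarTower R B A] [Module.Flat B A] (I : Ideal B) (J : Ideal A) (hIJ : I.map (algebraMap B A) = J)
    (hbij : Function.Bijective (algebraMap R (B ⧸ I))) : Module.Flat R (A ⧸ J) := by
  subst hIJ
  refine RingHom.flat_algebraMap_iff.1 ?_
  have h2 : algebraMap R (A ⧸ I.map (algebraMap B A)) =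
      (Ideal.quotientMap (I.map (algebraMap B A)) (algebraMap B A) Ideal.le_comap_map).comp (algebraMap R (B ⧸ I)) :=
    RingHom.ext fun r => by
      rw [RingHom.comp_apply, IsScalarTower.algebraMap_apply R B (B ⧸ I), Ideal.Quotient.algebraMap_eq, Ideal.quotientMap_mk,
        ← IsScalarTower.algebraMap_apply R B A, IsScalarTower.algebraMap_apply R A (A ⧸ _), Ideal.Quotient.algebraMap_eq]
  rw [h2]
  exact (RingHom.Flat.of_bijective hbij).comp (flat_quotientMap I)

/-- The quotient of an algebra by an element of the base is its tensor with the residue field. -/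
theorem exists_quotEquiv [IsDomain R] [IsDiscreteValuationRing R] (B : Type u) [CommRing B] [Algebra R B] {ϖ : R}
    (hϖ : Irreducible ϖ) :
    ∃ e : (B ⧸ Ideal.span {algebraMap R B ϖ}) ≃+* IsLocalRing.ResidueField R ⊗[R] B,
      ∀ b, e (Ideal.Quotient.mk _ b) = (1 : IsLocalRing.ResidueField R) ⊗ₜ[R] b := by
  let k := IsLocalRing.ResidueField R
  have hk : algebraMap R k ϖ = 0 := by
    rw [IsLocalRing.ResidueField.algebraMap_eq]
    exact Ideal.Quotient.eq_zero_iff_mem.mpr (hϖ.maximalIdeal_eq ▸ Ideal.mem_span_singleton_self ϖ)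
  let φ : (B ⧸ Ideal.span {algebraMap R B ϖ}) →ₐ[R] k ⊗[R] B :=
    Ideal.Quotient.liftₐ _ Algebra.TensorProduct.includeRight fun z hz => by
      obtain ⟨c, rfl⟩ := Ideal.mem_span_singleton'.mp hz
      rw [map_mul, AlgHom.commutes, IsScalarTower.algebraMap_apply R k (k ⊗[R] B), hk, map_zero, mul_zero]
  have hle : IsLocalRing.maximalIdeal R ≤ RingHom.ker (algebraMap R (B ⧸ Ideal.span {algebraMap R B ϖ})) := by
    rw [hϖ.maximalIdeal_eq, Ideal.span_singleton_le_iff_mem, RingHom.mem_ker, IsScalarTower.algebraMap_apply R B]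
    exact Ideal.Quotient.eq_zero_iff_mem.mpr (Ideal.mem_span_singleton_self _)
  let j : k →ₐ[R] (B ⧸ Ideal.span {algebraMap R B ϖ}) :=
    ⟨Ideal.Quotient.lift _ (algebraMap R _) (fun a ha => hle ha), fun r => rfl⟩
  let ψ : k ⊗[R] B →ₐ[R] (B ⧸ Ideal.span {algebraMap R B ϖ}) :=
    Algebra.TensorProduct.lift j (Ideal.Quotient.mkₐ R _) fun _ _ => Commute.all _ _
  refine ⟨(AlgEquiv.ofAlgHom φ ψ ?_ ?_).toRingEquiv, fun b => rfl⟩
  · refine Algebra.TensorProduct.ext ?_ (AlgHom.ext fun b => ?_)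
    · refine AlgHom.ext fun c => ?_
      obtain ⟨r, rfl⟩ := Ideal.Quotient.mk_surjective c
      exact (((φ.comp ψ).comp Algebra.TensorProduct.includeLeft).commutes r).trans
        (((AlgHom.id R (k ⊗[R] B)).comp Algebra.TensorProduct.includeLeft).commutes r).symm
    · simp [φ, ψ] <;> rfl
  · refine Ideal.Quotient.algHom_ext R (AlgHom.ext fun b => ?_)
    show ψ ((1 : k) ⊗ₜ[R] b) = _
    simp [ψ]

/-- Flatness of the special fibre, from the theorem on Hopf subalgebras over a field. -/
theorem flat_mod [IsDomain R] [IsDiscreteValuationRing R] {B A : Type u} [CommRing B] [HopfAlgebra R B] [CommRing A]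
    [HopfAlgebra R A] [Module.Finite R B] [Module.Finite R A] (F : B →ₐc[R] A) [Algebra B A] {ϖ : R} (hϖ : Irreducible ϖ)
    (hinj : Function.Injective (Bialgebra.TensorProduct.map (BialgHom.id (IsLocalRing.ResidueField R) (IsLocalRing.ResidueField R)) F))
    (hF : algebraMap B A = (F : B →+* A) := by rfl) :
    Module.Flat (B ⧸ Ideal.span {algebraMap R B ϖ}) ((B ⧸ Ideal.span {algebraMap R B ϖ}) ⊗[B] A) := by
  let k := IsLocalRing.ResidueField R
  set I := Ideal.span {algebraMap R B ϖ} with hI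
  have hIA : I.map (algebraMap B A) = Ideal.span {algebraMap R A ϖ} := by
    rw [hI, Ideal.map_span, Set.image_singleton, hF]
    exact congrArg (fun a => Ideal.span {a}) ((F : B →ₐ[R] A).commutes ϖ)
  obtain ⟨eB, heB⟩ := exists_quotEquiv (R := R) B hϖ
  obtain ⟨eA, heA⟩ := exists_quotEquiv (R := R) A hϖ
  let Fk := Bialgebra.TensorProduct.map (BialgHom.id k k) F
  have hfl := Groth.Agent.GrpSchLib.HopfFlat.flat Fk hinj
  have hq : (Ideal.quotientMap (I.map (algebraMap B A)) (algebraMap B A) Ideal.le_comap_map).Flat := by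
    have h2 : Ideal.quotientMap (I.map (algebraMap B A)) (algebraMap B A) Ideal.le_comap_map =
        ((eA.symm.trans (Ideal.quotEquivOfEq hIA.symm)).toRingHom.comp
          ((Fk : k ⊗[R] B →ₐ[k] k ⊗[R] A).toRingHom)).comp eB.toRingHom := by
      refine Ideal.Quotient.ringHom_ext (RingHom.ext fun x => ?_)
      simp only [RingHom.comp_apply, Ideal.quotientMap_mk, RingEquiv.toRingHom_eq_coe, RingHom.coe_coe, heB]
      have h3 : Fk ((1 : k) ⊗ₜ[R] x) = eA (Ideal.Quotient.mk _ (F x)) := by rw [heA]; simp [Fk]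
      show _ = Ideal.quotEquivOfEq hIA.symm (eA.symm (Fk (eB (Ideal.Quotient.mk I x))))
      rw [heB, h3, RingEquiv.symm_apply_apply]
      exact congrArg (Ideal.Quotient.mk _) (RingHom.congr_fun hF x)
    rw [h2]
    exact (RingHom.Flat.of_bijective eB.bijective).comp
      (hfl.comp (RingHom.Flat.of_bijective (eA.symm.trans (Ideal.quotEquivOfEq hIA.symm)).bijective))
  let e : (B ⧸ I) ⊗[B] A ≃ₐ[B] A ⧸ I.map (algebraMap B A) :=
    (Algebra.TensorProduct.comm B _ _).trans
      ((Algebra.TensorProduct.quotIdealMapEquivTensorQuot A I).symm.restrictScalars B)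
  have h2 : Algebra.TensorProduct.includeLeftRingHom =
      (e.symm.toRingEquiv.toRingHom).comp (Ideal.quotientMap (I.map (algebraMap B A)) (algebraMap B A) Ideal.le_comap_map) := by
    refine Ideal.Quotient.ringHom_ext (RingHom.ext fun x => ?_)
    simp only [RingHom.comp_apply, Ideal.quotientMap_mk]
    exact (e.symm.commutes x).symm
  have h3 : (Algebra.TensorProduct.includeLeftRingHom : B ⧸ I →+* (B ⧸ I) ⊗[B] A).Flat := by
    rw [h2]
    exact hq.comp (RingHom.Flat.of_bijective e.symm.bijective)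
  exact RingHom.flat_algebraMap_iff.1 h3

/-- The kernel has flat coordinate ring. -/
theorem free_quotient [IsDomain R] [IsDiscreteValuationRing R] {A : Type u} [CommRing A] [HopfAlgebra R A] (p : ℕ)
    [hp : Fact p.Prime] (mu : R) (hmu : mu ≠ 0) (h₂ : SekSuwa.DivCond mu p) (hp0 : (p : R) ≠ 0)
    (F : SekSuwa.AK R mu p h₂ →ₐc[R] A) (hflat : RingHom.Flat (F : SekSuwa.AK R mu p h₂ →+* A)) :
    Module.Flat R (A ⧸ Ideal.span {F SekSuwa.AK.t}) := by
  letI : Algebra (SekSuwa.AK R mu p h₂) A := (F : SekSuwa.AK R mu p h₂ →ₐ[R] A).toRingHom.toAlgebra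
  haveI : Module.Flat (SekSuwa.AK R mu p h₂) A := hflat
  let I := Ideal.span {(SekSuwa.AK.t : SekSuwa.AK R mu p h₂)}
  have hI : I.map (algebraMap (SekSuwa.AK R mu p h₂) A) = Ideal.span {F SekSuwa.AK.t} := by
    rw [Ideal.map_span, Set.image_singleton]; rfl
  have hbij : Function.Bijective (algebraMap R (SekSuwa.AK R mu p h₂ ⧸ I)) := by
    constructor
    · refine (injective_iff_map_eq_zero _).mpr fun r hr => ?_
      rw [IsScalarTower.algebraMap_apply R (SekSuwa.AK R mu p h₂), Ideal.Quotient.algebraMap_eq,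
        Ideal.Quotient.eq_zero_iff_mem] at hr
      obtain ⟨c, hc⟩ := Ideal.mem_span_singleton'.mp hr
      have h := congrArg (Bialgebra.counitAlgHom R (SekSuwa.AK R mu p h₂)) hc
      rw [map_mul, Bialgebra.counitAlgHom_apply R _ SekSuwa.AK.t, SekSuwa.AK.counit_t, mul_zero, AlgHom.commutes] at h
      exact h.symm
    · intro z
      obtain ⟨b, rfl⟩ := Ideal.Quotient.mk_surjective z
      obtain ⟨c, hc⟩ := (Submodule.mem_span_range_iff_exists_fun R).mp
        ((span_pow_t p mu hmu h₂ hp0).ge (Submodule.mem_top (x := b)))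
      refine ⟨c ⟨0, hp.out.pos⟩, ?_⟩
      rw [← hc, map_sum, Finset.sum_eq_single (⟨0, hp.out.pos⟩ : Fin p)]
      · rw [pow_zero, Algebra.smul_def, _root_.mul_one]
        rfl
      · intro i _ hi
        refine Ideal.Quotient.eq_zero_iff_mem.mpr (Submodule.smul_of_tower_mem _ _ ?_)
        exact Ideal.pow_mem_of_mem _ (Ideal.mem_span_singleton_self _) _ (Nat.pos_of_ne_zero fun h => hi (Fin.ext h))
      · simp
  haveI : IsScalarTower R (SekSuwa.AK R mu p h₂) A :=
    IsScalarTower.of_algebraMap_eq fun r => ((F : SekSuwa.AK R mu p h₂ →ₐ[R] A).commutes r).symm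
  exact flat_of_quotient_bijective (R := R) (B := SekSuwa.AK R mu p h₂) (A := A) I _ hI hbij

/-- The points of the kernel on the generic fibre. -/
theorem exists_kernel_points [IsDomain R] {A A' : Type u} [CommRing A] [HopfAlgebra R A] [CommRing A'] [HopfAlgebra R A']
    {M N : Type} [Group M] [Group N] (p : ℕ)
    (π : M → (FractionRing R ⊗[R] A →ₐ[FractionRing R] FractionRing R))
    (hbij : Function.Bijective fun b m => π m b)
    (hmul : ∀ m n, (toConv (π m) * toConv (π n)).ofConv = π (m * n))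
    (y : A) (mk' : A →ₐc[R] A') (hmk' : Function.Surjective mk') (hker : RingHom.ker (mk' : A →ₐ[R] A') = Ideal.span {y})
    (j₀ : N → M) (hj₀ : ∀ a b, j₀ (a * b) = j₀ a * j₀ b) (hj₀i : Function.Injective j₀)
    (t : A) (mu : R) (hFt : 1 + mu • y = t) (χ : M → FractionRing R)
    (hπt : ∀ m, π m ((1 : FractionRing R) ⊗ₜ[R] t) = χ m)
    (hyπ : ∀ n, π (j₀ n) ((1 : FractionRing R) ⊗ₜ[R] y) = 0)
    (hχ : ∀ m, χ m = 1 → ∃ n, j₀ n = m) :
    ∃ π' : N → (FractionRing R ⊗[R] A' →ₐ[FractionRing R] FractionRing R),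
      Function.Bijective (fun b n => π' n b) ∧ ∀ m n, (toConv (π' m) * toConv (π' n)).ofConv = π' (m * n) := by
  classical
  let K := FractionRing R
  have hmky : (mk' : A →ₐ[R] A') y = 0 := RingHom.mem_ker.mp (hker.ge (Ideal.mem_span_singleton_self y))
  let g : N → (A' →ₐ[R] K) := fun n => AlgHom.liftOfSurjective (mk' : A →ₐ[R] A') hmk'
    (((π (j₀ n)).restrictScalars R).comp Algebra.TensorProduct.includeRight) (by
      intro a ha
      obtain ⟨c, rfl⟩ := Ideal.mem_span_singleton'.mp (hker.le ha)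
      rw [RingHom.mem_ker, map_mul]
      exact mul_eq_zero_of_right _ (hyπ n))
  let π' : N → (K ⊗[R] A' →ₐ[K] K) := fun n =>
    Algebra.TensorProduct.lift (AlgHom.id K K) (g n) fun _ _ => Commute.all _ _
  have hg : ∀ n a, g n (mk' a) = π (j₀ n) ((1 : K) ⊗ₜ[R] a) := fun n a =>
    AlgHom.liftOfSurjective_apply (mk' : A →ₐ[R] A') hmk' _ _ a
  let P : K ⊗[R] A →ₐ[K] K ⊗[R] A' := Algebra.TensorProduct.map (AlgHom.id K K) (mk' : A →ₐ[R] A')
  have hP : Function.Surjective P := by
    intro z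
    induction z using TensorProduct.induction_on with
    | zero => exact ⟨0, map_zero _⟩
    | tmul c a => obtain ⟨a, rfl⟩ := hmk' a; exact ⟨c ⊗ₜ[R] a, rfl⟩
    | add z w hz hw =>
      obtain ⟨a, rfl⟩ := hz; obtain ⟨b, rfl⟩ := hw
      exact ⟨a + b, map_add _ _ _⟩
  have hπP : ∀ n z, π' n (P z) = π (j₀ n) z := fun n z => by
    refine AlgHom.congr_fun (φ₁ := (π' n).comp P) (φ₂ := π (j₀ n)) ?_ z
    refine Algebra.TensorProduct.ext (Subsingleton.elim _ _) (AlgHom.ext fun a => ?_)
    simp [P, π', hg]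
  refine ⟨π', ⟨?_, ?_⟩, fun m n => ?_⟩
  · intro z₁ z₂ h
    obtain ⟨z, hz⟩ := hP (z₁ - z₂)
    rw [← sub_eq_zero, ← hz]
    have h0 : ∀ n, π (j₀ n) z = 0 := fun n => by
      rw [← hπP, hz, map_sub, sub_eq_zero]; exact congrFun h n
    let G : M → K := fun m => π m z / (χ m - 1)
    obtain ⟨w, hw⟩ := hbij.2 G
    have hw' : ∀ m, π m w = G m := congrFun hw
    have hz' : z = ((1 : K) ⊗ₜ[R] (mu • y)) * w := by
      refine hbij.1 (funext fun m => ?_)
      show π m z = π m (_ * w)
      rw [map_mul, hw' m, show mu • y = t - 1 by rw [← hFt, add_sub_cancel_left], TensorProduct.tmul_sub, map_sub,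
        hπt, ← Algebra.TensorProduct.one_def, map_one]
      by_cases hm : χ m = 1
      · obtain ⟨n, rfl⟩ := hχ m hm
        rw [h0, hm, sub_self, zero_mul]
      · show _ = (χ m - 1) * (π m z / (χ m - 1))
        rw [mul_div_cancel₀ _ (sub_ne_zero.mpr hm)]
    rw [hz', map_mul]
    show P ((1 : K) ⊗ₜ[R] (mu • y)) * P w = 0
    rw [show P ((1 : K) ⊗ₜ[R] (mu • y)) = (1 : K) ⊗ₜ[R] (mk' : A →ₐ[R] A') (mu • y) from rfl, map_smul, hmky, smul_zero,
      TensorProduct.tmul_zero, zero_mul]
  · intro f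
    obtain ⟨z, hz⟩ := hbij.2 (Function.extend j₀ f 0)
    refine ⟨P z, funext fun n => ?_⟩
    show π' n (P z) = f n
    rw [hπP]
    exact (congrFun hz (j₀ n)).trans (hj₀i.extend_apply _ _ _)
  · refine Algebra.TensorProduct.ext (Subsingleton.elim _ _) (AlgHom.ext fun a' => ?_)
    obtain ⟨a, rfl⟩ := hmk' a'
    show (toConv (π' m) * toConv (π' n)).ofConv ((1 : K) ⊗ₜ[R] mk' a) = π' (m * n) ((1 : K) ⊗ₜ[R] mk' a)
    rw [show π' (m * n) ((1 : K) ⊗ₜ[R] mk' a) = π (j₀ (m * n)) ((1 : K) ⊗ₜ[R] a) from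
      (congrArg (π' (m * n)) (by simp [P])).trans (hπP (m * n) ((1 : K) ⊗ₜ[R] a)), hj₀, ← hmul]
    simp only [AlgHom.convMul_apply, TensorProduct.comul_tmul, CommSemiring.comul_apply, ← CoalgHomClass.map_comp_comul_apply mk']
    induction Coalgebra.comul (R := R) a using TensorProduct.induction_on with
    | zero => simp
    | tmul x y => simp [π', hg]
    | add x y hx hy => simp only [TensorProduct.tmul_add, map_add, hx, hy]

variable [IsDomain R] [IsDiscreteValuationRing R]

/-- The coordinate ring of `G_{μ,1}` is Noetherian. -/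
theorem isNoetherianRing_AK (p : ℕ) [Fact p.Prime] (mu : R) (hmu : mu ≠ 0) (h₂ : SekSuwa.DivCond mu p) (hp0 : (p : R) ≠ 0) :
    IsNoetherianRing (SekSuwa.AK R mu p h₂) := by
  haveI : Module.Finite R (SekSuwa.AK R mu p h₂) :=
    ⟨span_pow_t p mu hmu h₂ hp0 ▸ Submodule.fg_span (Set.finite_range _)⟩
  exact Algebra.FiniteType.isNoetherianRing R _

/-- Flatness over `G_{μ,1}`. -/
theorem flat_of_residual {A : Type u} [CommRing A] [HopfAlgebra R A] [Module.Finite R A] [Module.Free R A] (p : ℕ)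
    [hp : Fact p.Prime] (mu : R) (hmu : mu ≠ 0) (h₂ : SekSuwa.DivCond mu p) (hp0 : (p : R) ≠ 0)
    (F : SekSuwa.AK R mu p h₂ →ₐc[R] A)
    (hli : LinearIndependent (IsLocalRing.ResidueField R)
        fun i : Fin p => ((1 : IsLocalRing.ResidueField R) ⊗ₜ[R] F SekSuwa.AK.t) ^ (i : ℕ)) :
    RingHom.Flat (F : SekSuwa.AK R mu p h₂ →+* A) ∧ RingHom.Finite (F : SekSuwa.AK R mu p h₂ →+* A) ∧
      Function.Injective F := by
  classical
  let B := SekSuwa.AK R mu p h₂
  let k := IsLocalRing.ResidueField R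
  have hinj := injective_of_linearIndependent_residue p (Module.Free.chooseBasis R A) mu hmu h₂ hp0 F hli
  letI : Algebra B A := (F : B →ₐ[R] A).toRingHom.toAlgebra
  haveI : IsScalarTower R B A := IsScalarTower.of_algebraMap_eq fun r => ((F : B →ₐ[R] A).commutes r).symm
  haveI : Module.Finite B A := Module.Finite.of_restrictScalars_finite R B A
  haveI := isNoetherianRing_AK p mu hmu h₂ hp0
  haveI : Module.Finite R B := ⟨span_pow_t p mu hmu h₂ hp0 ▸ Submodule.fg_span (Set.finite_range _)⟩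
  refine ⟨?_, (RingHom.finite_algebraMap (A := B) (B := A)).mpr inferInstance, hinj⟩
  show Module.Flat B A
  obtain ⟨ϖ, hϖ⟩ := IsDiscreteValuationRing.exists_irreducible R
  have hmax : ∀ P : Ideal B, P.IsMaximal → algebraMap R B ϖ ∈ P := fun P hP => by
    haveI : Module.Finite R B := ⟨span_pow_t p mu hmu h₂ hp0 ▸ Submodule.fg_span (Set.finite_range _)⟩
    haveI : Algebra.IsIntegral R B := Algebra.IsIntegral.of_finite R B
    haveI : P.IsMaximal := hP
    have h1 := IsLocalRing.eq_maximalIdeal (Ideal.isMaximal_comap_of_isIntegral_of_isMaximal (R := R) P)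
    exact h1.ge (hϖ.maximalIdeal_eq ▸ Ideal.mem_span_singleton_self ϖ)
  have hreg : IsSMulRegular A (algebraMap R B ϖ) := fun a b hab => by
    simp only [algebraMap_smul] at hab
    exact smul_right_injective A hϖ.ne_zero hab
  haveI : Module.Flat (B ⧸ Ideal.span {algebraMap R B ϖ}) ((B ⧸ Ideal.span {algebraMap R B ϖ}) ⊗[B] A) :=
    flat_mod F hϖ (by
      let bk := (Module.Free.chooseBasis R A).baseChange k
      refine (injective_iff_map_eq_zero _).mpr fun z hz => ?_
      have hsp : Submodule.span k (Set.range fun i : Fin p => (1 : k) ⊗ₜ[R] ((SekSuwa.AK.t : B) ^ (i : ℕ))) = ⊤ := by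
        refine eq_top_iff.mpr fun w hw => ?_
        clear hw
        induction w using TensorProduct.induction_on with
        | zero => exact zero_mem _
        | add a b ha hb => exact add_mem ha hb
        | tmul c b =>
          obtain ⟨r, hr⟩ := (Submodule.mem_span_range_iff_exists_fun R).mp
            ((span_pow_t p mu hmu h₂ hp0).ge (Submodule.mem_top (x := b)))
          rw [← hr, TensorProduct.tmul_sum]
          refine Submodule.sum_mem _ fun i _ => ?_
          rw [TensorProduct.tmul_smul, ← algebraMap_smul k (r i)]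
          refine Submodule.smul_mem _ _ ?_
          rw [show c ⊗ₜ[R] ((SekSuwa.AK.t : B) ^ (i : ℕ)) = c • ((1 : k) ⊗ₜ[R] ((SekSuwa.AK.t : B) ^ (i : ℕ))) by
            rw [TensorProduct.smul_tmul', smul_eq_mul, _root_.mul_one]]
          exact Submodule.smul_mem _ _ (Submodule.subset_span ⟨i, rfl⟩)
      obtain ⟨c, hc⟩ := (Submodule.mem_span_range_iff_exists_fun k).mp (hsp.ge (Submodule.mem_top (x := z)))
      rw [← hc, map_sum] at hz
      have h0 := Fintype.linearIndependent_iff.mp hli c (by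
        refine Eq.trans ?_ hz
        exact Finset.sum_congr rfl fun i _ => by simp [map_smul, Algebra.TensorProduct.tmul_pow])
      rw [← hc]
      simp [h0])
  exact flat_of_flat_quotient A (algebraMap R B ϖ) hmax hreg

/-- Let R be a discrete valuation ring of characteristic zero and residue characteristic p containing a
primitive p²-th root of unity, with fraction field K, and let G be a finite flat R-group scheme of
order p² (finite locally free of degree p² over Spec R) whose generic fibre is a constant K-group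
scheme (so the underlying group has order p²). Then G is an extension of G_{μ,1} by G_{λ,1} for some
nonzero λ, μ ∈ R satisfying the divisibility condition defining these kernels: there are
homomorphisms of R-group schemes G_{λ,1} → G and G → G_{μ,1} whose composite is trivial, with G a
pseudo-torsor under G_{λ,1} over G_{μ,1} and G → G_{μ,1} admitting sections locally for the fppf
topology. -/
theorem result (R : Type u) [CommRing R] [IsDomain R] [IsDiscreteValuationRing R] [CharZero R]
    (p : ℕ) [Fact p.Prime] [CharP (IsLocalRing.ResidueField R) p]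
    (ζ : R) (hζ : IsPrimitiveRoot ζ (p ^ 2))
    (G : Over (Spec (CommRingCat.of R))) [GrpObj G] (hG : Mor2.IsFinLocFreeOfDeg (p ^ 2) G.hom)
    (M : Type) [Group M] [Finite M]
    (e : Red.bc (Spec.map (CommRingCat.ofHom (algebraMap R (FractionRing R)))) G ≅ TwC.const (Spec (CommRingCat.of (FractionRing R))) M)
    (he : TwC.IsConstGrp M (Red.bc (Spec.map (CommRingCat.ofHom (algebraMap R (FractionRing R)))) G) e) :
    ∃ (lam mu : R) (h₁ : SekSuwa.DivCond lam p) (h₂ : SekSuwa.DivCond mu p)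
      (u : SekSuwa.GK R lam p h₁ ⟶ G) (v : G ⟶ SekSuwa.GK R mu p h₂),
      lam ≠ 0 ∧ mu ≠ 0 ∧ NonAbH1.IsExactSeq Scheme.fppfPrecoverage u v := by
  classical
  have hp : p.Prime := Fact.out
  have hp0 : (p : R) ≠ 0 := Nat.cast_ne_zero.mpr hp.ne_zero
  let f : Spec (CommRingCat.of (FractionRing R)) ⟶ Spec (CommRingCat.of R) :=
    Spec.map (CommRingCat.ofHom (algebraMap R (FractionRing R)))
  haveI : IsFinite G.hom := hG.1.1
  haveI : Flat G.hom := hG.1.2.1
  haveI : IsAffine G.left := isAffine_of_isAffineHom G.hom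
  obtain ⟨A, _, _, ⟨eG⟩⟩ := exists_hopf G
  let il : (sp R A).left ≅ G.left :=
    (Over.forget _).mapIso (asIso eG.hom.hom.hom)
  have hhom : (sp R A).hom = il.hom ≫ G.hom := (Over.w eG.hom.hom.hom).symm
  haveI : IsFinite (Spec.map (CommRingCat.ofHom (algebraMap R A))) := by
    show IsFinite (sp R A).hom
    rw [hhom]; infer_instance
  haveI : Flat (Spec.map (CommRingCat.ofHom (algebraMap R A))) := by
    show Flat (sp R A).hom
    rw [hhom]; infer_instance
  haveI : Module.Finite R A := RingHom.finite_algebraMap.1 ((IsFinite.SpecMap_iff (CommRingCat.ofHom (algebraMap R A))).1 inferInstance)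
  haveI : Module.Flat R A := RingHom.flat_algebraMap_iff.1 ((Flat.SpecMap_iff (f := CommRingCat.ofHom (algebraMap R A))).1 inferInstance)
  haveI : Module.Free R A := Module.free_of_finite_type_torsion_free'
  let w0 : Grp.mk (Red.bc f (sp R A)) ≅ Grp.mk (Red.bc f G) := (Over.pullback f).mapGrp.mapIso eG
  obtain ⟨w⟩ := nonempty_bc_sp (R := R) (FractionRing R) A
  let W := w.symm ≪≫ w0
  let φ : TwC.const (Spec (CommRingCat.of (FractionRing R))) M ⟶
      sp (FractionRing R) (FractionRing R ⊗[R] A) := e.inv ≫ W.inv.hom.hom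
  haveI : IsIso W.inv.hom.hom := inferInstanceAs (IsIso ((Grp.forget _).map W.inv))
  haveI hW : IsMonHom W.inv.hom.hom := W.inv.hom.isMonHom_hom
  haveI : IsIso φ := inferInstanceAs (IsIso (e.inv ≫ W.inv.hom.hom))
  have hφ : ∀ m n, (TwC.pt (Spec (CommRingCat.of (FractionRing R))) M m ≫ φ) *
      (TwC.pt (Spec (CommRingCat.of (FractionRing R))) M n ≫ φ) =
      TwC.pt (Spec (CommRingCat.of (FractionRing R))) M (m * n) ≫ φ := fun m n => by
    show (_ ≫ e.inv ≫ _) * (_ ≫ e.inv ≫ _) = _ ≫ e.inv ≫ _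
    rw [← Category.assoc, ← Category.assoc, ← Category.assoc, ← he m n]
    exact (@MonObj.mul_comp _ _ _ _ _ _ _ _ _ _ W.inv.hom.hom hW).symm
  obtain ⟨π, hbij, hmul⟩ := exists_points φ hφ
  haveI := Fintype.ofFinite M
  have hrank : Module.finrank R A = p ^ 2 := by
    obtain ⟨y⟩ : Nonempty (Spec (CommRingCat.of R)) := ⟨⟨⊥, Ideal.isPrime_bot⟩⟩
    haveI : Algebra.FinitePresentation R A := Algebra.FinitePresentation.of_finiteType.mp inferInstance
    have h1 : (sp R A).hom.finrank y = p ^ 2 := by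
      rw [hhom, Scheme.Hom.finrank_comp_left_of_isIso]
      exact hG.2 y
    rw [← h1]
    refine Eq.symm ((Scheme.Hom.finrank_SpecMap_algebraMap R A y).trans ?_)
    rw [Module.rankAtStalk_eq_finrank_of_free]
    rfl
  have hM : Nat.card M = p ^ 2 := by
    rw [← hrank, Nat.card_eq_fintype_card, ← Module.finrank_pi (FractionRing R),
      ← LinearEquiv.finrank_eq (LinearEquiv.ofBijective (LinearMap.pi fun m => (π m).toLinearMap) hbij),
      Module.finrank_baseChange]
  -- a subgroup of order `p`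
  obtain ⟨N, hN⟩ := Sylow.exists_subgroup_card_pow_prime (G := M) p (n := 1) (by rw [hM, pow_one]; exact dvd_pow_self p two_ne_zero)
  rw [pow_one] at hN
  letI : CommGroup M := IsPGroup.commGroupOfCardEqPrimeSq hM
  have hq : Nat.card (M ⧸ N) = p := by
    have h := N.card_eq_card_quotient_mul_card_subgroup
    rw [hM, hN, pow_two] at h
    exact (Nat.eq_of_mul_eq_mul_right hp.pos h).symm
  let eQ : M ⧸ N ≃* Multiplicative (ZMod p) := mulEquivOfPrimeCardEq hq (by simp)
  let eN : Multiplicative (ZMod p) ≃* N := mulEquivOfPrimeCardEq (by simp) hN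
  have hζp : IsPrimitiveRoot (ζ ^ p) p := hζ.pow (pow_pos hp.pos 2) (by rw [pow_two])
  let cζ : Multiplicative (ZMod p) → R := fun x => (ζ ^ p) ^ (Multiplicative.toAdd x).val
  have hcmul : ∀ x y, cζ (x * y) = cζ x * cζ y := fun x y => by
    simp only [cζ, toAdd_mul, ← pow_add, ZMod.val_add]
    exact (pow_eq_pow_mod _ hζp.pow_eq_one).symm
  have hc1 : ∀ x, cζ x = 1 → x = 1 := fun x hx => by
    have := (hζp.pow_eq_one_iff_dvd _).mp hx
    have h1 : (Multiplicative.toAdd x).val = 0 := Nat.eq_zero_of_dvd_of_lt this (ZMod.val_lt _)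
    exact (ZMod.val_eq_zero _).mp h1
  have hcp : ∀ x, cζ x ^ p = 1 := fun x => by
    simp only [cζ]
    rw [← pow_mul, mul_comm, pow_mul, hζp.pow_eq_one, one_pow]
  have hcω : cζ (Multiplicative.ofAdd 1) ≠ 1 := fun h => by
    have := congrArg Multiplicative.toAdd (hc1 _ h)
    simp only [toAdd_ofAdd, toAdd_one] at this
    exact one_ne_zero this
  obtain ⟨m₀, hm₀⟩ := QuotientGroup.mk_surjective (eQ.symm (Multiplicative.ofAdd 1))
  let χ : M → R := fun m => cζ (eQ (QuotientGroup.mk m))
  obtain ⟨t, htp, ht1, ht, hπt⟩ := exists_character p π hbij hmul χ (fun m n => by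
    simp only [χ, QuotientGroup.mk_mul, map_mul, hcmul]) (fun m => hcp _) m₀ (by
    simp only [χ, hm₀, MulEquiv.apply_symm_apply]; exact hcω)
  obtain ⟨mu, h₂, F, hmu, hFt, hli⟩ := exists_bialgHom_AK p (Module.Free.chooseBasis R A) t htp ht1 ht hp0
  obtain ⟨hflat, hfin, hinj⟩ := flat_of_residual p mu hmu h₂ hp0 F hli
  -- the kernel
  letI : Algebra (SekSuwa.AK R mu p h₂) A := (F : SekSuwa.AK R mu p h₂ →ₐ[R] A).toRingHom.toAlgebra
  set y : A := F SekSuwa.AK.t with hy
  have hyc : Coalgebra.counit (R := R) y = 0 :=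
    (CoalgHomClass.counit_comp_apply F _).trans SekSuwa.AK.counit_t
  have hyΔ : Coalgebra.comul (R := R) y = y ⊗ₜ[R] (1 : A) + (1 : A) ⊗ₜ[R] y + mu • (y ⊗ₜ[R] y) := by
    rw [hy, ← CoalgHomClass.map_comp_comul_apply, SekSuwa.AK.comul_t]
    simp
  haveI hJ : (Ideal.span {y}).IsHopfIdeal R := isHopfIdeal_span y mu hyc hyΔ
  haveI : Module.Free R (A ⧸ Ideal.span {y}) := by
    haveI := free_quotient p mu hmu h₂ hp0 F hflat
    exact Module.free_of_finite_type_torsion_free'
  let A' := A ⧸ Ideal.span {y}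
  let mk' : A →ₐc[R] A' := Bialgebra.Quotient.mkBialgHom (Ideal.span {y})
  have hmk' : Function.Surjective mk' := Ideal.Quotient.mk_surjective
  -- the generic fibre of the kernel
  have hyπ : ∀ n : Multiplicative (ZMod p), π (eN n : M) ((1 : FractionRing R) ⊗ₜ[R] y) = 0 := fun n => by
    have h1 := hπt (eN n : M)
    have h2 : χ (eN n : M) = 1 := by
      simp only [χ, (QuotientGroup.eq_one_iff _).mpr (eN n).2, map_one]
      simp [cζ]
    rw [h2, map_one, ← hFt, TensorProduct.tmul_add, map_add,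
      ← Algebra.TensorProduct.one_def, map_one, add_eq_left, TensorProduct.tmul_smul,
      ← algebraMap_smul (FractionRing R) mu, map_smul, smul_eq_mul] at h1
    exact (mul_eq_zero.mp h1).resolve_left (by simp [hmu])
  obtain ⟨π', hbij', hmul'⟩ := exists_kernel_points p π hbij hmul y mk' hmk' (Ideal.Quotient.mkₐ_ker R (Ideal.span {y}))
    (fun n => (eN n : M)) (fun a b => by simp [map_mul]) (Subtype.val_injective.comp eN.injective)
    t mu hFt (fun m => algebraMap R (FractionRing R) (χ m)) hπt hyπ (fun m hm => by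
      have h1 : χ m = 1 := IsFractionRing.injective R (FractionRing R) (hm.trans (map_one _).symm)
      have h2 : m ∈ N := (QuotientGroup.eq_one_iff m).mp (eQ.injective ((hc1 _ h1).trans (map_one eQ).symm))
      exact ⟨eN.symm ⟨m, h2⟩, by simp⟩)
  obtain ⟨t', ht'p, ht'1, ht', -⟩ := exists_character p π' hbij' hmul' cζ hcmul hcp _ hcω
  have hcard : Fintype.card (Module.Free.ChooseBasisIndex R A') = p := by
    rw [← Module.finrank_eq_card_basis ((Module.Free.chooseBasis R A').baseChange (FractionRing R)),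
      LinearEquiv.finrank_eq (LinearEquiv.ofBijective (LinearMap.pi fun m => (π' m).toLinearMap) hbij'),
      Module.finrank_pi, Fintype.card_multiplicative, ZMod.card]
  obtain ⟨lam, h₁, hlam, ⟨E⟩⟩ := exists_bialgEquiv_AK p
    ((Module.Free.chooseBasis R A').reindex (Fintype.equivFinOfCardEq hcard)) t' ht'p ht'1 ht' hp0
  -- the sequence
  let q : A →ₐc[R] SekSuwa.AK R lam p h₁ := (E.symm : A' →ₐc[R] _).comp mk'
  let u : SekSuwa.GK R lam p h₁ ⟶ G := SekSuwa.specHom q ≫ eG.hom.hom.hom
  let v : G ⟶ SekSuwa.GK R mu p h₂ := eG.inv.hom.hom ≫ SekSuwa.specHom F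
  haveI hu0 : IsMonHom eG.hom.hom.hom := eG.hom.hom.isMonHom_hom
  haveI hv0 : IsMonHom eG.inv.hom.hom := eG.inv.hom.isMonHom_hom
  have hi1 : eG.hom.hom.hom ≫ eG.inv.hom.hom = 𝟙 (sp R A) := congrArg (fun g => g.hom.hom) eG.hom_inv_id
  have hi2 : eG.inv.hom.hom ≫ eG.hom.hom.hom = 𝟙 G := congrArg (fun g => g.hom.hom) eG.inv_hom_id
  have hq : Function.Surjective q := E.symm.surjective.comp hmk'
  have hkerq : ∀ a, q a = 0 ↔ a ∈ Ideal.span {y} := fun a => by
    show E.symm (mk' a) = 0 ↔ _
    refine Iff.trans ?_ Ideal.Quotient.eq_zero_iff_mem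
    exact ⟨fun h => E.symm.injective (h.trans (map_zero E.symm).symm), fun h => (congrArg E.symm h).trans (map_zero E.symm)⟩
  have hker := kernel_spec p mu h₂ F q hq hkerq
  refine ⟨lam, mu, h₁, h₂, u, v, hlam, hmu, isExactSeq_of_kernel u v ?_ ?_ ?_⟩
  · show (SekSuwa.specHom q ≫ eG.hom.hom.hom) ≫ eG.inv.hom.hom ≫ SekSuwa.specHom F = 1
    rw [Category.assoc, reassoc_of% hi1]
    exact hker.1
  · intro T d hd
    have h1 : (d ≫ eG.inv.hom.hom) ≫ SekSuwa.specHom F = 1 := by rw [Category.assoc]; exact hd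
    obtain ⟨k, hk, huniq⟩ := hker.2 (d ≫ eG.inv.hom.hom) h1
    refine ⟨k, ?_, fun k' hk' => huniq k' ?_⟩
    · show k ≫ SekSuwa.specHom q ≫ eG.hom.hom.hom = d
      rw [← Category.assoc]
      refine (congrArg (· ≫ eG.hom.hom.hom) hk).trans ?_
      rw [Category.assoc, hi2, Category.comp_id]
    · rw [← hk']
      show _ = (k' ≫ SekSuwa.specHom q ≫ eG.hom.hom.hom) ≫ eG.inv.hom.hom
      rw [Category.assoc, Category.assoc, hi1, Category.comp_id]
  · haveI : IsIso eG.inv.hom.hom.left := inferInstanceAs (IsIso ((Grp.forget _ ⋙ Over.forget _).map eG.inv))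
    have hFhom : RingHom.Flat (F : SekSuwa.AK R mu p h₂ →+* A) := hflat
    have hFfin : RingHom.Finite (F : SekSuwa.AK R mu p h₂ →+* A) := hfin
    haveI hfl : Flat (SekSuwa.specHom F).left := by
      rw [SekSuwa.specHom_left]; exact Flat.SpecMap_iff.2 hFhom
    haveI : IsFinite (SekSuwa.specHom F).left := by
      rw [SekSuwa.specHom_left]; exact (IsFinite.SpecMap_iff _).2 hFfin
    haveI : Surjective (SekSuwa.specHom F).left := by
      rw [SekSuwa.specHom_left]
      exact ⟨hFfin.to_isIntegral.comap_surjective hinj⟩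
    haveI : Flat v.left := by
      show Flat (eG.inv.hom.hom.left ≫ (SekSuwa.specHom F).left); infer_instance
    haveI : Surjective v.left := by
      show Surjective (eG.inv.hom.hom.left ≫ (SekSuwa.specHom F).left); infer_instance
    haveI : LocallyOfFinitePresentation v.left := by
      haveI : LocallyOfFinitePresentation (SekSuwa.specHom F).left := by
        rw [SekSuwa.specHom_left]
        refine (HasRingHomProperty.Spec_iff (P := @LocallyOfFinitePresentation)).2 ?_
        haveI : IsNoetherianRing (SekSuwa.AK R mu p h₂) := isNoetherianRing_AK p mu hmu h₂ hp0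
        exact RingHom.FinitePresentation.of_finiteType.mp hFfin.finiteType
      show LocallyOfFinitePresentation (eG.inv.hom.hom.left ≫ (SekSuwa.specHom F).left); infer_instance
    exact ⟨_, v.left.singleton_mem_fppfPrecoverage, fun S' g hg => by
      cases hg
      exact ⟨𝟙 _, Category.id_comp _⟩⟩

end Groth.Agent.S14686
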