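import Groth.Statements.S14690
import Groth.Agent.GKBase.Coord
import Groth.Agent.GKBase.Div
import Groth.Agent.GKBase.Fibre

set_option autoImplicit false
set_option backward.isDefEq.respectTransparency false
set_option backward.isDefEq.respectTransparency.types false
set_option linter.style.haveILetI false
universe u
open CategoryTheory AlgebraicGeometry MonoidalCategory
open SekSuwa

namespace Groth.Agent.S14690

open CategoryTheory.Limits CartesianMonoidalCategory MonObj GrpObj Groth.Agent.SekSuwaLib Groth.Agent.GKBase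

/-- Let R be a discrete valuation ring of characteristic zero and residue characteristic p with perfect
residue field k, n ≥ 1, λ ∈ R satisfying the divisibility condition under which the finite flat
R-group scheme G_{λ,n} (of order p^n, the kernel of ψ on the one-parameter group with law s + t +
λst) and its homomorphism α^{λ,n} to μ_{p^n} are defined, and X a locally Noetherian normal integral
scheme, faithfully flat over Spec R, with reduced special fibre X ×_R k. Let P be an fppf torsor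
over X under G_{λ,n} and P' an fppf μ_{p^n}-torsor over X with an α^{λ,n}-equivariant X-morphism P →
P'. If P' is equivariantly isomorphic to the pullback to X of some fppf μ_{p^n}-torsor over Spec R
(pulled-back scheme with the pulled-back action), then P is equivariantly isomorphic to the pullback
to X of some fppf G_{λ,n}-torsor over Spec R. So the map H¹(X, G_{λ,n})/H¹(R, G_{λ,n}) → H¹(X,
μ_{p^n})/H¹(R, μ_{p^n}) has trivial kernel, giving the filtration of H¹(X, μ_{p^n})/H¹(R, μ_{p^n})
by the H¹(X, G_{π^i,n})/H¹(R, G_{π^i,n}). (The published statement is that filtration, for the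
commutative groups in question injectivity of these homomorphisms; the trivial-kernel assertion
stated here is what the argument establishes. X is taken locally Noetherian; the published statement
assumes all schemes Noetherian, and the argument uses the Krull intersection property ⋂ₙ πⁿA = 0 on
affine opens.) -/
theorem result (R : Type u) [CommRing R] [IsDomain R] [IsDiscreteValuationRing R] [CharZero R]
    (p : ℕ) [Fact p.Prime] [CharP (IsLocalRing.ResidueField R) p]
    [PerfectField (IsLocalRing.ResidueField R)]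
    (n : ℕ) (hn : 0 < n) (lam : R) (h : SekSuwa.DivCond lam (p ^ n))
    (X : Scheme.{u}) [IsIntegral X] [IsLocallyNoetherian X] (hX : Pi1.IsNormalScheme X)
    (f : X ⟶ Spec (CommRingCat.of R)) [Flat f] [Surjective f]
    [IsReduced (Limits.pullback f (Spec.map (CommRingCat.ofHom (IsLocalRing.residue R))))]
    (P : Over X) (a : AlgGrp.Action (Red.bc f (SekSuwa.GK R lam (p ^ n) h)) P)
    (hP : NonAbH1.IsTorsorFor Scheme.fppfPrecoverage a)
    (P' : Over X) (a' : AlgGrp.Action (Red.bc f (Red.diag R (ZMod (p ^ n)))) P')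
    (hP' : NonAbH1.IsTorsorFor Scheme.fppfPrecoverage a')
    (hpush : NonAbH1.IsPushforwardAlongSch ((Over.pullback f).map (SekSuwa.alphaN R lam (p ^ n) h)) a a')
    (Q' : Over (Spec (CommRingCat.of R))) (b' : AlgGrp.Action (Red.diag R (ZMod (p ^ n))) Q')
    (hQ' : NonAbH1.IsTorsorFor Scheme.fppfPrecoverage b')
    (i' : P' ≅ Red.bc f Q')
    (hi' : a'.act ≫ i'.hom = (Red.bc f (Red.diag R (ZMod (p ^ n))) ◁ i'.hom) ≫
      Functor.LaxMonoidal.μ (Over.pullback f) (Red.diag R (ZMod (p ^ n))) Q' ≫ (Over.pullback f).map b'.act) :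
    ∃ (Q : Over (Spec (CommRingCat.of R))) (b : AlgGrp.Action (SekSuwa.GK R lam (p ^ n) h) Q)
      (i : P ≅ Red.bc f Q), NonAbH1.IsTorsorFor Scheme.fppfPrecoverage b ∧
      a.act ≫ i.hom = (Red.bc f (SekSuwa.GK R lam (p ^ n) h) ◁ i.hom) ≫
        Functor.LaxMonoidal.μ (Over.pullback f) (SekSuwa.GK R lam (p ^ n) h) Q ≫ (Over.pullback f).map b.act := by
  have hN : 0 < p ^ n := pow_pos (Fact.out : p.Prime).pos n
  haveI : NeZero (p ^ n) := ⟨hN.ne'⟩
  have hlam : lam ≠ 0 := nonZeroDivisors.ne_zero h.1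
  -- the torsor is finite flat
  haveI : Module.Finite R (SekSuwa.AK R lam (p ^ n) h) := by
    obtain ⟨b, -⟩ := exists_basis_pow h hN
    exact Module.Finite.of_basis b
  haveI : Module.Free R (SekSuwa.AK R lam (p ^ n) h) := by
    obtain ⟨b, -⟩ := exists_basis_pow h hN
    exact Module.Free.of_basis b
  haveI : Flat (SekSuwa.GK R lam (p ^ n) h).hom :=
    (HasRingHomProperty.Spec_iff (P := @Flat)).2 (RingHom.flat_algebraMap_iff.2 inferInstance)
  haveI hGf : Flat (Red.bc f (SekSuwa.GK R lam (p ^ n) h)).hom := MorphismProperty.pullback_snd _ _ ‹_›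
  have hPf : NonAbH1.IsTorsorFor Scheme.fpqcPrecoverage a :=
    ⟨hP.1, hP.2.choose, Scheme.fppfPrecoverage_le_fpqcPrecoverage _ hP.2.choose_spec.1, hP.2.choose_spec.2⟩
  haveI : Flat P.hom := Groth.Agent.SchTorsor.torsor_property @Flat hPf hGf
  -- the coordinate
  obtain ⟨γ, a₀, ha₀, hγN, hγ⟩ := exists_coord b' hQ'
  obtain ⟨φ, hφ⟩ := hpush
  let α := SekSuwa.alphaN R lam (p ^ n) h
  let he := fun (W : Over X) (Y : Over (Spec (CommRingCat.of R))) => (Over.mapPullbackAdj f).homEquiv W Y
  let φ₀ : (Over.map f).obj P ⟶ Q' := (he P Q').symm (φ ≫ i'.hom)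
  let z : Γ(P.left, ⊤) := dc (φ₀ ≫ γ)
  have hzN : z ^ (p ^ n) = lamOn f a₀ P := by
    have : z = φ₀.left.appTop (dc γ) := dc_comp φ₀ γ
    rw [this]
    refine (map_pow φ₀.left.appTop.hom (dc γ) (p ^ n)).symm.trans ?_
    rw [hγN]
    exact (strHom_comp_left φ₀ a₀).symm
  let tK : ∀ (W : Over X), (W ⟶ Red.bc f (SekSuwa.GK R lam (p ^ n) h)) → Γ(W.left, ⊤) :=
    fun W g => ptRingHom ((he W _).symm g) SekSuwa.AK.t
  have hφ₀ : ∀ (W : Over X) (g : W ⟶ Red.bc f (SekSuwa.GK R lam (p ^ n) h)) (q : W ⟶ P),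
      (lift g q ≫ a.act).left.appTop z = q.left.appTop z *
        (1 + lamOn f lam W * tK W g) := by
    intro W g q
    have e1 : (lift g q ≫ a.act) ≫ φ ≫ i'.hom =
        lift (g ≫ (Over.pullback f).map α) (q ≫ φ ≫ i'.hom) ≫ (b'.bc f).act := by
      rw [Category.assoc, ← Category.assoc a.act φ, hφ, Category.assoc, comp_lift_assoc, lift_fst_assoc,
        lift_snd_assoc, hi', lift_whiskerLeft_assoc, Category.assoc]
      rfl
    have eq1 : g ≫ (Over.pullback f).map α = he W _ ((he W _).symm g ≫ α) := by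
      rw [Adjunction.homEquiv_naturality_right, Equiv.apply_symm_apply]
    have eq2 : q ≫ φ ≫ i'.hom = he W _ ((Over.map f).map q ≫ φ₀) := by
      rw [Adjunction.homEquiv_naturality_left, Equiv.apply_symm_apply]
    rw [eq1, eq2, AlgGrp.Action.lift_homEquiv_bc_act] at e1
    have e2 := congrArg (he W _).symm e1
    rw [Equiv.symm_apply_apply, Adjunction.homEquiv_naturality_left_symm] at e2
    have e3 := congrArg (fun m => dc (m ≫ γ)) e2
    rw [hγ, Category.assoc, Category.assoc, dc_comp, dc_comp] at e3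
    refine e3.trans ?_
    show ((Over.map f).map q).left.appTop z * ptRingHom (_ ≫ SekSuwa.alphaN R lam (p ^ n) h) _ = _
    rw [SekSuwa.alphaN, ptRingHom_comp_specHom,
      show SekSuwa.alphaNHom R lam (p ^ n) h (gen₁ R (p ^ n)) = 1 + lam • SekSuwa.AK.t from
        SekSuwa.alphaNHom_single_one R lam (p ^ n) h,
      map_add, map_one, Algebra.smul_def, map_mul, ptRingHom_algebraMap]
    rfl
  obtain ⟨r, x, hr, ⟨c₀, hc₀⟩, hzr⟩ := exists_congr f p n h hlam hPf.2 z a₀ ha₀ hzN fun W x y => by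
    obtain ⟨g, rfl⟩ := Groth.Agent.SchTorsor.exists_div hP.1 x y
    exact ⟨_, hφ₀ W g y⟩
  obtain ⟨ri, hri⟩ := (hr.pow (p ^ n)).exists_left_inv
  let c : R := c₀ * ri
  have hac : a₀ = r ^ (p ^ n) * (1 + lam ^ (p ^ n) * c) := by
    show _ = r ^ (p ^ n) * (1 + lam ^ (p ^ n) * (c₀ * ri))
    linear_combination hc₀ - lam ^ (p ^ n) * c₀ * hri
  have hc : IsUnit (1 + lam ^ (p ^ n) * c) := (IsUnit.mul_iff.1 (hac ▸ ha₀)).2
  -- the map to the fibre
  let P₀ := (Over.map f).obj P
  haveI hP₀ : Flat P₀.hom := inferInstanceAs (Flat (P.hom ≫ f))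
  let x₀ : P₀ ⟶ SekSuwa.G R lam := (he P _).symm x
  have hx₀ : ptRingHom x₀ SekSuwa.A.t = tCoord f x := rfl
  have hx₀c : ptRingHom x₀ (SekSuwa.kerGen lam (p ^ n) h) = strHom P₀ c := by
    letI := algΓ P₀
    rw [ptRingHom_kerGen, hx₀, ← sub_eq_zero]
    refine Groth.Agent.SekSuwaLib.eq_zero_of_mul_eq_zero h.pow_nzd ?_
    rw [mul_sub, sub_eq_zero, ← map_mul]
    refine (SekSuwa.aeval_psiPoly h (B := Γ(P₀.left, ⊤)) (tCoord f x)).trans ?_
    have hz := hzN
    rw [hzr, mul_pow] at hz
    have e1 : lamOn f r P ^ (p ^ n) * (1 + lamOn f lam P * tCoord f x) ^ (p ^ n) =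
        lamOn f r P ^ (p ^ n) * (1 + lamOn f (lam ^ (p ^ n) * c) P) := by
      rw [hz, hac]
      show strHom P₀ _ = strHom P₀ r ^ (p ^ n) * _
      rw [map_mul, map_pow, map_add, map_one]
      rfl
    have e2 := (IsUnit.pow (p ^ n) (show IsUnit (lamOn f r P) from hr.map _)).mul_left_cancel e1
    show (1 + lamOn f lam P * tCoord f x) ^ (p ^ n) - 1 = _
    rw [e2, add_sub_cancel_left]
    rfl
  obtain ⟨q₀, hq₀⟩ := exists_lift h hN hc hx₀c
  let b := fibAct h hN hc
  let Ψ : P ⟶ Red.bc f (fib h c) := he P _ q₀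
  have hΨ : a.act ≫ Ψ = (Red.bc f (SekSuwa.GK R lam (p ^ n) h) ◁ Ψ) ≫ (b.bc f).act := by
    let W := Red.bc f (SekSuwa.GK R lam (p ^ n) h) ⊗ P
    let g : W ⟶ Red.bc f (SekSuwa.GK R lam (p ^ n) h) := fst _ _
    let q : W ⟶ P := snd _ _
    let g₀ := (he W _).symm g
    haveI : Flat W.hom := by
      show Flat (pullback.fst (Red.bc f (SekSuwa.GK R lam (p ^ n) h)).hom P.hom ≫ _)
      infer_instance
    haveI : Flat (W.hom ≫ f) := inferInstance
    have key : (Over.map f).map a.act ≫ q₀ = lift g₀ ((Over.map f).map q ≫ q₀) ≫ b.act := by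
      refine jQ_inj h hN hc (G_ext ?_)
      rw [fibAct_jQ, Category.assoc, Category.assoc, hq₀, ← sub_eq_zero]
      refine Groth.Agent.SekSuwaLib.eq_zero_of_lamOn_mul f (V := W) hlam ?_
      let tG : ((Over.map f).obj W ⟶ SekSuwa.G R lam) → Γ(W.left, ⊤) := fun m => ptRingHom m SekSuwa.A.t
      let uG : ((Over.map f).obj W ⟶ SekSuwa.G R lam) → Γ(W.left, ⊤) := fun m => ptRingHom m SekSuwa.A.u
      have h1 : ∀ (m : (Over.map f).obj W ⟶ SekSuwa.G R lam),
          1 + lamOn f lam W * tG m = uG m := fun m => (ptRingHom_u m).symm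
      have h2 : ∀ (m : W ⟶ P), 1 + lamOn f lam W * tG ((Over.map f).map m ≫ x₀) =
          m.left.appTop (1 + lamOn f lam P * tCoord f x) := fun m => by
        have : tG ((Over.map f).map m ≫ x₀) = m.left.appTop (tCoord f x) := ptRingHom_comp_left _ x₀ _
        rw [this, map_add, map_one, map_mul, ← lamOn_comp f m]
      have hprod : uG _ = uG _ * uG _ := ptRingHom_mul_of_isGroupLike (g₀ ≫ SekSuwa.incl R lam (p ^ n) h) ((Over.map f).map q ≫ x₀)
        (SekSuwa.A.isGroupLikeElem_u (R := R) (lam := lam))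
      rw [← h1, ← h1, ← h1, h2] at hprod
      have hl := h2 a.act
      have hg₀ : tG (g₀ ≫ SekSuwa.incl R lam (p ^ n) h) = tK W g :=
        ptRingHom_comp_specHom _ _ _
      rw [hg₀] at hprod
      have e3 := hφ₀ W g q
      rw [show lift g q = 𝟙 W from lift_fst_snd, Category.id_comp, hzr, map_mul, map_mul, ← lamOn_comp f a.act,
        ← lamOn_comp f q, _root_.mul_assoc, ← hl] at e3
      have e4 := (show IsUnit (lamOn f r W) from hr.map _).mul_left_cancel e3
      change 1 + lamOn f lam W * _ = q.left.appTop _ * (1 + lamOn f lam W * tK W g) at e4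
      linear_combination e4 - hprod
    show a.act ≫ he P _ q₀ = _
    rw [← Adjunction.homEquiv_naturality_left, key, ← AlgGrp.Action.lift_homEquiv_bc_act,
      Adjunction.homEquiv_naturality_left, Equiv.apply_symm_apply]
    congr 1
  haveI : IsIso Ψ := Groth.Agent.SchTorsor.isIso_of_equivariant hPf
    (NonAbH1.isPseudoTorsorSch_bc f (isPseudo h hN hc)) Ψ hΨ
  exact ⟨fib h c, b, asIso Ψ, isTorsor h hN hc, hΨ⟩

end Groth.Agent.S14690
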