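import Groth.Statements.S14691
import Groth.Agent.GrpSchLib.AffineHopf
import Groth.Agent.GrpSchLib.Deligne
import Mathlib.AlgebraicGeometry.Morphisms.Finite
import Mathlib.AlgebraicGeometry.Morphisms.Flat
import Mathlib.AlgebraicGeometry.Morphisms.FlatRank
import Mathlib.RingTheory.Flat.TorsionFree
import Mathlib.LinearAlgebra.FreeModule.PID
-- import your own Groth.Agent.* helpers here

set_option autoImplicit false
universe u
open CategoryTheory AlgebraicGeometry
open SekSuwa

namespace Groth.Agent.S14691

open CategoryTheory CategoryTheory.Limits MonoidalCategory CartesianMonoidalCategory MonObj GrpObj AlgebraicGeometry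
open TensorProduct WithConv
open Groth.Agent.GrpSchLib Groth.Agent.GrpSchLib.AffineHopf

set_option linter.style.haveILetI false

/-- The Hopf algebra of an affine commutative group is cocommutative. -/
theorem isCocomm_of_iso {R : Type u} [CommRing R] {A : Type u} [CommRing A] [HopfAlgebra R A]
    {G : Over (Spec (CommRingCat.of R))} [GrpObj G] [IsCommMonObj G] (e : sp R A ⟶ G) [IsMonHom e] [IsIso e] :
    Coalgebra.IsCocomm R A := by
  let l : A →ₐ[R] A ⊗[R] A := Algebra.TensorProduct.includeLeft
  let r : A →ₐ[R] A ⊗[R] A := Algebra.TensorProduct.includeRight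
  have h : (toConv l * toConv r).ofConv = (toConv r * toConv l).ofConv := by
    apply spMap_injective
    rw [← spMap_mul, ← spMap_mul, ← cancel_mono e, MonObj.mul_comp, MonObj.mul_comp, mul_comm]
  constructor
  refine LinearMap.ext fun a => ?_
  have h' := AlgHom.congr_fun h a
  simp only [AlgHom.convMul_apply] at h'
  have key : ∀ z : A ⊗[R] A, Algebra.TensorProduct.lift l r (fun _ _ => Commute.all _ _) z = z := fun z => by
    induction z using TensorProduct.induction_on with
    | zero => simp
    | tmul p q => simp [l, r]
    | add p q hp hq => simp only [map_add, hp, hq]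
  have key' : ∀ z : A ⊗[R] A, Algebra.TensorProduct.lift r l (fun _ _ => Commute.all _ _) z = TensorProduct.comm R A A z := fun z => by
    induction z using TensorProduct.induction_on with
    | zero => simp
    | tmul p q => simp [l, r]
    | add p q hp hq => simp only [map_add, hp, hq]
  show TensorProduct.comm R A A (Coalgebra.comul (R := R) a) = Coalgebra.comul (R := R) a
  refine (key' _).symm.trans (Eq.trans ?_ (key _))
  convert h'.symm using 1

/-- Let R be a discrete valuation ring of characteristic zero and residue characteristic p, and G a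
commutative finite flat R-group scheme of order m (finite locally free of degree m over Spec R).
Then the endomorphism of Ext¹(G, 𝔾_m) induced by the m-th power map of the multiplicative group —
that is, multiplication by m on this group — is zero. Here Ext¹ is taken between the abelian sheaves
of points of G and of the split multiplicative group on the big fppf site of Spec R. (The published
statement is made under a standing assumption that R contains a primitive p²-th root of unity; this
row does not assume it, the argument not using it.) -/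
theorem result (R : Type u) [CommRing R] [IsDomain R] [IsDiscreteValuationRing R] [CharZero R]
    (p : ℕ) [Fact p.Prime] [CharP (IsLocalRing.ResidueField R) p]
    (G : Over (Spec (CommRingCat.of R))) [GrpObj G] [IsCommMonObj G]
    (m : ℕ) (hG : Mor2.IsFinLocFreeOfDeg m G.hom)
    (x : CGrpSh.ExtS Scheme.fppfPrecoverage G (Red.diag R ℤ) 1) : m • x = 0 := by
  haveI : IsFinite G.hom := hG.1.1
  haveI : Flat G.hom := hG.1.2.1
  haveI : IsAffine G.left := isAffine_of_isAffineHom G.hom
  obtain ⟨A, _, _, ⟨eG⟩⟩ := exists_hopf G
  haveI : IsMonHom eG.hom.hom.hom := eG.hom.hom.isMonHom_hom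
  let il : (sp R A).left ≅ G.left :=
    (Over.forget _).mapIso (asIso eG.hom.hom.hom)
  have hhom : (sp R A).hom = il.hom ≫ G.hom := (Over.w eG.hom.hom.hom).symm
  haveI : IsFinite (Spec.map (CommRingCat.ofHom (algebraMap R A))) := by
    show IsFinite (sp R A).hom
    rw [hhom]; infer_instance
  haveI : Flat (Spec.map (CommRingCat.ofHom (algebraMap R A))) := by
    show Flat (sp R A).hom
    rw [hhom]; infer_instance
  haveI : Module.Finite R A := RingHom.finite_algebraMap.1 ((IsFinite.SpecMap_iff (CommRingCat.ofHom (algebraMap R A))).1 inferInstance)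
  haveI : Module.Flat R A := RingHom.flat_algebraMap_iff.1 ((Flat.SpecMap_iff (f := CommRingCat.ofHom (algebraMap R A))).1 inferInstance)
  haveI : Module.Free R A := Module.free_of_finite_type_torsion_free'
  have hrank : ∀ q : PrimeSpectrum R, Module.rankAtStalk A q = m := fun q => by
    haveI : Algebra.FinitePresentation R A := Algebra.FinitePresentation.of_finiteType.mp inferInstance
    refine (Scheme.Hom.finrank_SpecMap_algebraMap R A q).symm.trans ?_
    show (sp R A).hom.finrank q = m
    rw [hhom, Scheme.Hom.finrank_comp_left_of_isIso]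
    exact hG.2 q
  haveI : Coalgebra.IsCocomm R A := isCocomm_of_iso eG.hom.hom.hom
  -- `m` kills `G`
  have hpow : ∀ (T : Over (Spec (CommRingCat.of R))) (y : T ⟶ G), y ^ m = 1 := fun T y => by
    haveI : IsIso eG.hom.hom.hom := inferInstanceAs (IsIso ((Grp.forget _).map eG.hom))
    have h1 : (𝟙 (sp R A)) ^ m = 1 := by
      rw [← spMap_id, spMap_eq_mapMulEquiv, ← map_pow, pow_rank_eq_one hrank, map_one]
    have h2 : (eG.hom.hom.hom) ^ m = 1 := by
      rw [← Category.id_comp eG.hom.hom.hom, ← MonObj.pow_comp, h1, MonObj.one_comp]
    rw [show y = (y ≫ inv eG.hom.hom.hom) ≫ eG.hom.hom.hom by simp, ← MonObj.comp_pow, h2, MonObj.comp_one]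
  have hzero : m • 𝟙 (CGrpSh.pts Scheme.fppfPrecoverage G) = 0 := by
    refine Sheaf.hom_ext (NatTrans.ext (funext fun T => AddCommGrpCat.ext fun y => ?_))
    have e1 : ∀ n : ℕ, ((n • 𝟙 (CGrpSh.pts Scheme.fppfPrecoverage G)).hom.app T) y = n • y := by
      intro n
      induction n with
      | zero => rw [zero_smul, zero_smul]; rfl
      | succ n ih =>
        rw [succ_nsmul, succ_nsmul, ← ih]
        rfl
    refine (e1 m).trans (ULift.ext _ _ ?_)
    show m • y.down = 0
    exact congrArg Additive.ofMul (hpow _ y.down.toMul)
  have hx : ∀ n : ℕ, n • x = (Abelian.Ext.mk₀ (n • 𝟙 (CGrpSh.pts Scheme.fppfPrecoverage G))).comp x (zero_add 1) := by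
    intro n
    induction n with
    | zero => simp
    | succ n ih =>
      rw [succ_nsmul, succ_nsmul, ih, Abelian.Ext.mk₀_add, Abelian.Ext.add_comp, Abelian.Ext.mk₀_id_comp]
  rw [hx, hzero, Abelian.Ext.mk₀_zero, Abelian.Ext.zero_comp]

end Groth.Agent.S14691
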