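import Groth.Statements.S14692
import Mathlib.Algebra.CharP.Lemmas
import Mathlib.RingTheory.IntegralClosure.IntegrallyClosed
import Mathlib.RingTheory.IntegralClosure.IsIntegralClosure.Basic
import Mathlib.RingTheory.AdjoinRoot
import Mathlib.RingTheory.Localization.FractionRing
import Mathlib.RingTheory.Flat.FaithfullyFlat.Algebra

set_option autoImplicit false
universe u
open CAlg

namespace Groth.Agent.S14692
open Polynomial

/-- The tail of the expansion of `(1 + μ w) ^ p`. -/
noncomputable def tail {A : Type*} [CommRing A] (p : ℕ) (μ : A) : A[X] :=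
  ∑ k ∈ Finset.Ioo 0 p, C (μ ^ (k - 1) * ((p.choose k / p : ℕ) : A)) * X ^ k

theorem expand {A S : Type*} [CommRing A] [CommRing S] [Algebra A S] (p : ℕ) (hp : p.Prime) (μ r : A)
    (hr : (p : A) = μ ^ (p - 1) * r) (w : S) :
    (1 + algebraMap A S μ * w) ^ p =
      1 + algebraMap A S μ ^ p * (w ^ p + algebraMap A S r * aeval w (tail p μ)) := by
  have h := add_pow_prime_eq hp (algebraMap A S μ * w) 1
  rw [add_comm, h, tail, map_sum, one_pow, mul_one, mul_pow, mul_add, Finset.mul_sum, Finset.mul_sum, Finset.mul_sum]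
  have hp' : (p : S) = algebraMap A S μ ^ (p - 1) * algebraMap A S r := by
    rw [← map_natCast (algebraMap A S), hr, map_mul, map_pow]
  rw [add_comm (_ ^ p * _) 1, add_assoc]
  congr 2
  refine Finset.sum_congr rfl fun k hk => ?_
  obtain ⟨hk0, hkp⟩ := Finset.mem_Ioo.1 hk
  obtain ⟨i, rfl⟩ : ∃ i, k = i + 1 := ⟨k - 1, by omega⟩
  obtain ⟨q, hq⟩ : ∃ q, p = q + 1 := ⟨p - 1, by omega⟩
  rw [hp', show (p.choose (i + 1) / p) = (p.choose (i + 1) / p) from rfl]
  simp only [map_mul, map_pow, map_natCast, aeval_X, aeval_C, one_pow, mul_one, Nat.add_sub_cancel, mul_pow]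
  rw [show algebraMap A S μ ^ p = algebraMap A S μ ^ (p - 1) * algebraMap A S μ by
    rw [← pow_succ, Nat.sub_add_cancel hp.pos]]
  ring

/-- Descending and congruence. -/
theorem descend {A S : Type*} [CommRing A] [CommRing S] [Algebra A S] (p : ℕ) (hp : p.Prime) (μ t r : A)
    (hr : (p : A) = μ ^ (p - 1) * (t * r)) (hμ : IsUnit (algebraMap A S μ)) (w c : S)
    (h : (1 + algebraMap A S μ * w) ^ p = 1 + algebraMap A S μ ^ p * c) (hc : IsIntegral A c) :
    IsIntegral A w ∧ ∃ d, IsIntegral A d ∧ c = w ^ p + algebraMap A S t * d := by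
  rw [expand p hp μ (t * r) hr] at h
  have hceq : c = w ^ p + algebraMap A S (t * r) * aeval w (tail p μ) :=
    ((hμ.pow p).mul_left_cancel (add_left_cancel h)).symm
  let B := integralClosure A S
  have hdeg : ((tail p μ).map (algebraMap A B) * C (algebraMap A B (t * r)) - C (⟨c, hc⟩ : B)).degree < (p : ℕ) := by
    refine Polynomial.mem_degreeLT.1 (sub_mem ?_ (Polynomial.mem_degreeLT.2 (degree_C_le.trans_lt (Nat.cast_lt.2 hp.pos))))
    rw [tail, Polynomial.map_sum, Finset.sum_mul]
    refine sum_mem fun k hk => Polynomial.mem_degreeLT.2 ?_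
    rw [Polynomial.map_mul, Polynomial.map_pow, Polynomial.map_X, Polynomial.map_C, mul_right_comm, ← C_mul]
    exact (degree_C_mul_X_pow_le _ _).trans_lt (Nat.cast_lt.2 (Finset.mem_Ioo.1 hk).2)
  have hwB : IsIntegral B w := by
    refine ⟨X ^ p + ((tail p μ).map (algebraMap A B) * C (algebraMap A B (t * r)) - C (⟨c, hc⟩ : B)),
      monic_X_pow_add hdeg, ?_⟩
    rw [← Polynomial.aeval_def, map_add, map_sub, map_mul, map_pow, aeval_X, aeval_map_algebraMap, aeval_C, aeval_C,
      ← IsScalarTower.algebraMap_apply]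
    show w ^ p + (aeval w (tail p μ) * algebraMap A S (t * r) - c) = 0
    rw [hceq]; ring
  have hw : IsIntegral A w := isIntegral_trans w hwB
  refine ⟨hw, algebraMap A S r * aeval w (tail p μ), ?_, ?_⟩
  · refine isIntegral_algebraMap.mul ?_
    rw [tail, map_sum]
    exact IsIntegral.sum _ fun k _ => by rw [map_mul, map_pow, aeval_X, aeval_C]; exact isIntegral_algebraMap.mul (hw.pow k)
  · rw [hceq, map_mul, mul_assoc]


set_option maxHeartbeats 1600000 in
/-- The computation, in an abstract cover. -/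
theorem core {A S : Type u} [CommRing A] [CommRing S] [Algebra A S] (p n j : ℕ) (hp : p.Prime) (hn : 0 < n)
    (t r₁ : A) (hr₁ : (p : A) = t ^ (p ^ (n - 1) * (p - 1) * (j + 1)) * r₁)
    (hlift : ∀ a : A, IsUnit (Ideal.Quotient.mk (Ideal.span {t}) a) → IsUnit a)
    (f g : Aˣ) (f₀ g₀ h₀ : A) (hh₀ : h₀ * t = f₀ - g₀ ^ p ^ n)
    (hfg : (f : A) * (g : A) ^ (p ^ n) = 1 + t ^ (j * p ^ n) * f₀)
    (Z : S) (hZ : Z ^ p ^ n = algebraMap A S f) (htu : IsUnit (algebraMap A S t))
    (hred : (Ideal.span {algebraMap A (integralClosure A S) t}).IsRadical)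
    (hdiv : ∀ (e : ℕ) (x : A) (c : S), IsIntegral A c → algebraMap A S x = algebraMap A S (t ^ e) * c → ∃ b, x = t ^ e * b) :
    ∃ (g' : Aˣ) (c : A), (f : A) * (g' : A) ^ (p ^ n) = 1 + t ^ ((j + 1) * p ^ n) * c := by
  let a := algebraMap A S
  have hle : ∀ k, k ≤ n - 1 → p ^ k ≤ p ^ (n - 1) := fun k hk => Nat.pow_le_pow_right hp.pos hk
  have hp2 := hp.two_le
  have hexp : ∀ k, k ≤ n - 1 → ∃ r, (p : A) = (t ^ (j * p ^ k)) ^ (p - 1) * (t * r) := by
    intro k hk
    have : j * p ^ k * (p - 1) + 1 ≤ p ^ (n - 1) * (p - 1) * (j + 1) := by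
      have h1 : j * p ^ k * (p - 1) ≤ p ^ (n - 1) * (p - 1) * j := by
        calc j * p ^ k * (p - 1) = p ^ k * (p - 1) * j := by ring
          _ ≤ _ := Nat.mul_le_mul_right _ (Nat.mul_le_mul_right _ (hle k hk))
      have h2 : 1 ≤ p ^ (n - 1) * (p - 1) := Nat.mul_pos (pow_pos hp.pos _) (by omega)
      rw [Nat.mul_succ]; omega
    obtain ⟨i, hi⟩ := Nat.exists_eq_add_of_le this
    exact ⟨t ^ i * r₁, by rw [hr₁, hi, ← pow_mul, pow_add, pow_succ]; ring⟩
  have hexp' : ∀ k, k ≤ n - 1 → ∃ r, (p : A) = (t ^ ((j + 1) * p ^ k)) ^ (p - 1) * r := by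
    intro k hk
    have : (j + 1) * p ^ k * (p - 1) ≤ p ^ (n - 1) * (p - 1) * (j + 1) := by
      calc (j + 1) * p ^ k * (p - 1) = p ^ k * (p - 1) * (j + 1) := by ring
        _ ≤ _ := Nat.mul_le_mul_right _ (Nat.mul_le_mul_right _ (hle k hk))
    obtain ⟨i, hi⟩ := Nat.exists_eq_add_of_le this
    exact ⟨t ^ i * r₁, by rw [hr₁, hi, ← pow_mul, pow_add]; ring⟩
  let z : S := Z * a g
  have hzN : z ^ p ^ n = 1 + a t ^ (j * p ^ n) * a f₀ := by
    rw [mul_pow, hZ,
      ← map_pow, ← map_pow, ← map_mul, hfg, map_add, map_one, map_mul, map_pow]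
  let w : ℕ → S := fun k => (z ^ p ^ k - 1) * (htu.unit⁻¹ : Sˣ) ^ (j * p ^ k)
  have hinv : a t * ((htu.unit⁻¹ : Sˣ) : S) = 1 := htu.mul_val_inv
  have hw : ∀ k, a t ^ (j * p ^ k) * w k = z ^ p ^ k - 1 := fun k => by
    rw [mul_left_comm, ← mul_pow, hinv, one_pow, mul_one]
  have hwn : w n = a f₀ := (htu.pow (j * p ^ n)).mul_left_cancel (by rw [hw, hzN, add_sub_cancel_left])
  have hstep : ∀ k, (1 + a (t ^ (j * p ^ k)) * w k) ^ p = 1 + a (t ^ (j * p ^ k)) ^ p * w (k + 1) := fun k => by
    rw [map_pow, hw, add_sub_cancel, ← pow_mul, ← pow_succ, ← pow_mul, show j * p ^ k * p = j * p ^ (k + 1) by rw [pow_succ, mul_assoc],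
      hw, add_sub_cancel]
  have hint : ∀ i, i ≤ n → IsIntegral A (w (n - i)) := by
    intro i
    induction i with
    | zero => intro _; rw [Nat.sub_zero, hwn]; exact isIntegral_algebraMap
    | succ i ih =>
      intro hi
      obtain ⟨r, hr⟩ := hexp (n - (i + 1)) (by omega)
      refine (descend p hp _ t r hr (by rw [map_pow]; exact htu.pow _) _ _ (hstep _) ?_).1
      rw [show n - (i + 1) + 1 = n - i by omega]
      exact ih (by omega)
  have hintk : ∀ k, k ≤ n → IsIntegral A (w k) := fun k hk => by simpa [Nat.sub_sub_self hk] using hint (n - k) (by omega)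
  let B := integralClosure A S
  let y : B := ⟨w 0, hintk 0 (by omega)⟩
  let q := Ideal.Quotient.mk (Ideal.span {algebraMap A B t})
  have hqt : q (algebraMap A B t) = 0 := Ideal.Quotient.eq_zero_iff_mem.2 (Ideal.mem_span_singleton_self _)
  have hcong : ∀ k (hk : k ≤ n), q ⟨w k, hintk k hk⟩ = q y ^ p ^ k := by
    intro k
    induction k with
    | zero => intro _; rw [pow_zero, pow_one]
    | succ k ih =>
      intro hk
      obtain ⟨r, hr⟩ := hexp k (by omega)
      obtain ⟨-, d, hd, hc⟩ := descend p hp _ t r hr (by rw [map_pow]; exact htu.pow _) _ _ (hstep k) (hintk (k + 1) hk)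
      have : (⟨w (k + 1), hintk (k + 1) hk⟩ : B) = ⟨w k, hintk k (by omega)⟩ ^ p + algebraMap A B t * ⟨d, hd⟩ := Subtype.ext hc
      rw [this, map_add, map_mul, hqt, zero_mul, add_zero, map_pow, ih (by omega), ← pow_mul, ← pow_succ]
  have hqp : q (p : B) = 0 := by
    obtain ⟨r, hr⟩ := hexp 0 (by omega)
    rw [show (p : B) = algebraMap A B (p : A) by rw [map_natCast], hr, map_mul, map_mul, map_mul, map_mul, hqt, zero_mul, mul_zero]
  have hy : (y - algebraMap A B g₀) ^ p ^ n ∈ Ideal.span {algebraMap A B t} := by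
    rw [← Ideal.Quotient.eq_zero_iff_mem]
    obtain ⟨r, hr⟩ := exists_add_pow_prime_pow_eq hp (y - algebraMap A B g₀) (algebraMap A B g₀) n
    rw [sub_add_cancel] at hr
    have h1 := congrArg q hr
    rw [map_add, map_add, map_mul, map_mul, map_mul, hqp, zero_mul, zero_mul, zero_mul, add_zero, map_pow q y, ← hcong n le_rfl,
      show (⟨w n, hintk n le_rfl⟩ : B) = algebraMap A B f₀ from Subtype.ext hwn,
      show f₀ = g₀ ^ p ^ n + h₀ * t by rw [hh₀]; ring, map_add, map_mul, map_add, map_mul, hqt, mul_zero, add_zero, map_pow] at h1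
    exact left_eq_add.1 (h1.trans (add_comm _ _))
  obtain ⟨y', hy'⟩ := Ideal.mem_span_singleton'.1 (hred ⟨_, hy⟩)
  let u₀ : A := 1 + t ^ j * g₀
  have hu₀ : IsUnit u₀ := by
    refine hlift _ ?_
    let q₀ := Ideal.Quotient.mk (Ideal.span {t})
    have hq₀ : q₀ t = 0 := Ideal.Quotient.eq_zero_iff_mem.2 (Ideal.mem_span_singleton_self _)
    have hq₀p : q₀ (p : A) = 0 := by
      obtain ⟨r, hr⟩ := hexp 0 (by omega)
      rw [hr, map_mul, map_mul, hq₀, zero_mul, mul_zero]
    refine (isUnit_pow_iff (pow_ne_zero n hp.ne_zero)).1 ?_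
    obtain ⟨r, hr⟩ := exists_add_pow_prime_pow_eq hp (1 : A) (t ^ j * g₀) n
    have : q₀ u₀ ^ p ^ n = q₀ ((f : A) * (g : A) ^ p ^ n) := by
      rw [← map_pow, hr, hfg, show f₀ = g₀ ^ p ^ n + h₀ * t by rw [hh₀]; ring]
      simp only [map_add, map_mul, map_pow, hq₀p, hq₀, mul_zero, zero_mul, add_zero, one_pow, map_one, mul_pow, ← pow_mul]
    rw [this]
    exact (f.isUnit.mul (g.isUnit.pow _)).map _
  let g' : Aˣ := g * hu₀.unit⁻¹
  let z' : S := Z * a g'
  let y'' : S := a ((hu₀.unit⁻¹ : Aˣ) : A) * (y' : S)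
  have hz' : z' = 1 + a (t ^ (j + 1)) * y'' := by
    have h1 : (y' : S) * a t = w 0 - a g₀ := congrArg Subtype.val hy'
    have h2 := hw 0
    rw [pow_zero, mul_one, pow_one] at h2
    have h3 : a ((hu₀.unit⁻¹ : Aˣ) : A) * a u₀ = 1 := by rw [← map_mul, IsUnit.val_inv_mul, map_one]
    have h4 : z' = z * a ((hu₀.unit⁻¹ : Aˣ) : A) := by
      show Z * a ((g : A) * ((hu₀.unit⁻¹ : Aˣ) : A)) = _
      rw [map_mul]; exact (mul_assoc _ _ _).symm
    rw [h4, map_pow, pow_succ, show a t ^ j * a t * (a ((hu₀.unit⁻¹ : Aˣ) : A) * (y' : S)) = a ((hu₀.unit⁻¹ : Aˣ) : A) * (a t ^ j * ((y' : S) * a t)) by ring,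
      h1, mul_sub, h2]
    calc z * a ((hu₀.unit⁻¹ : Aˣ) : A) = 1 - a ((hu₀.unit⁻¹ : Aˣ) : A) * a u₀ + z * a ((hu₀.unit⁻¹ : Aˣ) : A) := by rw [h3, sub_self, zero_add]
      _ = _ := by simp only [u₀, map_add, map_one, map_mul, map_pow]; ring
  have hasc : ∀ k, k ≤ n → ∃ c, IsIntegral A c ∧ z' ^ p ^ k = 1 + a (t ^ ((j + 1) * p ^ k)) * c := by
    intro k
    induction k with
    | zero => exact fun _ => ⟨y'', isIntegral_algebraMap.mul y'.2, by simp [hz']⟩
    | succ k ih =>
      intro hk
      obtain ⟨c, hc, hck⟩ := ih (by omega)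
      obtain ⟨r, hr⟩ := hexp' k (by omega)
      refine ⟨c ^ p + a r * aeval c (tail p (t ^ ((j + 1) * p ^ k))), (hc.pow p).add (isIntegral_algebraMap.mul ?_), ?_⟩
      · rw [tail, map_sum]
        exact IsIntegral.sum _ fun i _ => by rw [map_mul, map_pow, aeval_X, aeval_C]; exact isIntegral_algebraMap.mul (hc.pow i)
      · rw [pow_succ, pow_mul, hck, expand p hp _ r hr, ← map_pow, ← pow_mul, mul_assoc]
  obtain ⟨c, hc, hcn⟩ := hasc n le_rfl
  have hz'N : z' ^ p ^ n = a ((f : A) * (g' : A) ^ p ^ n) := by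
    rw [mul_pow, hZ, map_mul, map_pow]
  obtain ⟨b, hb⟩ := hdiv ((j + 1) * p ^ n) ((f : A) * (g' : A) ^ p ^ n - 1) c hc (by
    rw [map_sub, map_one]
    show a _ - 1 = _
    rw [← hz'N, hcn, add_sub_cancel_left])
  exact ⟨g', b, by rw [← hb, add_sub_cancel]⟩

/-- Let R be a discrete valuation ring of characteristic zero and residue characteristic p, with
uniformizer π and a primitive p^n-th root of unity ζ (n ≥ 1), and A a Noetherian integrally closed
domain which is a faithfully flat R-algebra, in which πA is a prime ideal and every element that is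
a unit modulo π is a unit (as when A is π-adically complete, or local). Let f, g be units of A, j a
natural number with π^{p^{n−1}(p−1)(j+1)} dividing p (that is, j is less than the valuation of ζ −
1, so that the polynomials ((1 + π^{j}T)^{p^n} − 1)/π^{jp^n} and ((1 + π^{j+1}T)^{p^n} −
1)/π^{(j+1)p^n} have coefficients in R), and f₀ ∈ A with f·g^{p^n} = 1 + π^{j p^n}·f₀; suppose j is
maximal with this property: there is no unit g' of A with f·g'^{p^n} ≡ 1 modulo π^{(j+1)p^n}.
Suppose moreover that the algebra L = A[1/π][Z]/(Z^{p^n} − f) is an integral domain (the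
μ_{p^n}-torsor Z^{p^n} = f is connected on the generic fibre) and that, B denoting the integral
closure of A in L (the normalization of Spec A in that cover), the ideal πB is radical (the
normalization has reduced special fibre). Then f₀ is not congruent modulo πA to a p^n-th power. (The
published statement phrases the hypothesis on j as: the class of the torsor Z^{p^n} = f lies in
H¹(Spec A, G_{π^j,n}) and not in H¹(Spec A, G_{π^{j+1},n}); the conditions on g and g' are its
ring-theoretic form, which is the first assertion of the same lemma; A is there factorial and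
π-adically complete, or normal local, which this row keeps only through the consequences used:
integrally closed, and units lift modulo π.) -/
theorem result
    (R : Type u) [CommRing R] [IsDomain R] [IsDiscreteValuationRing R] [CharZero R]
    (p : ℕ) [Fact p.Prime] [CharP (IsLocalRing.ResidueField R) p] (ϖ : R) (hϖ : Irreducible ϖ)
    (n : ℕ) (hn : 0 < n) (ζ : R) (hζ : IsPrimitiveRoot ζ (p ^ n))
    (A : Type u) [CommRing A] [IsDomain A] [IsNoetherianRing A] [IsIntegrallyClosed A] [Algebra R A]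
    [Module.FaithfullyFlat R A]
    (hprime : (Ideal.span {algebraMap R A ϖ}).IsPrime)
    (hlift : ∀ a : A, IsUnit (Ideal.Quotient.mk (Ideal.span {algebraMap R A ϖ}) a) → IsUnit a)
    (f g : Aˣ) (j : ℕ) (hj : ϖ ^ (p ^ (n - 1) * (p - 1) * (j + 1)) ∣ (p : R)) (f₀ : A)
    (hfg : (f : A) * (g : A) ^ (p ^ n) = 1 + (algebraMap R A ϖ) ^ (j * p ^ n) * f₀)
    (hmax : ∀ (g' : Aˣ) (c : A), (f : A) * (g' : A) ^ (p ^ n) ≠ 1 + (algebraMap R A ϖ) ^ ((j + 1) * p ^ n) * c)
    [IsDomain (AdjoinRoot (Polynomial.X ^ (p ^ n) - Polynomial.C (algebraMap A (Localization.Away (algebraMap R A ϖ)) (f : A))))]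
    (hred : (Ideal.span {algebraMap A (integralClosure A (AdjoinRoot (Polynomial.X ^ (p ^ n) - Polynomial.C (algebraMap A (Localization.Away (algebraMap R A ϖ)) (f : A))))) (algebraMap R A ϖ)}).IsRadical)
    (g₀ : A) : f₀ - g₀ ^ (p ^ n) ∉ Ideal.span {(algebraMap R A ϖ)} := by
  intro hmem
  obtain ⟨h₀, hh₀⟩ := Ideal.mem_span_singleton'.1 hmem
  have hp := (Fact.out : p.Prime)
  let t := algebraMap R A ϖ
  let L := Localization.Away t
  let P := Polynomial.X ^ (p ^ n) - Polynomial.C (algebraMap A L (f : A))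
  let S := AdjoinRoot P
  have ht0 : t ≠ 0 := fun h => hϖ.ne_zero (FaithfulSMul.algebraMap_injective R A (by rw [map_zero]; exact h))
  have htu : IsUnit (algebraMap A S t) := by
    rw [IsScalarTower.algebraMap_apply A L S]
    exact (IsLocalization.Away.algebraMap_isUnit t).map _
  obtain ⟨r₁, hr₁⟩ : ∃ r, (p : A) = t ^ (p ^ (n - 1) * (p - 1) * (j + 1)) * r := by
    have := map_dvd (algebraMap R A) hj
    rwa [map_pow, map_natCast] at this
  have hZ : AdjoinRoot.root P ^ p ^ n = algebraMap A S f := by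
    have h := AdjoinRoot.eval₂_root P
    rw [eval₂_sub, eval₂_X_pow, eval₂_C, sub_eq_zero] at h
    rw [h]
    exact (IsScalarTower.algebraMap_apply A L S _).symm
  have hle : Submonoid.powers t ≤ nonZeroDivisors A := powers_le_nonZeroDivisors_of_noZeroDivisors ht0
  haveI : IsDomain L := IsLocalization.isDomain_localization hle
  have hinjLS : Function.Injective (algebraMap L S) := AdjoinRoot.of.injective_of_degree_ne_zero (by
    rw [Polynomial.degree_X_pow_sub_C (pow_pos hp.pos n)]
    exact_mod_cast (pow_pos hp.pos n).ne')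
  let ι : L →ₐ[A] FractionRing A := IsLocalization.liftAlgHom (M := Submonoid.powers t) (f := Algebra.ofId A (FractionRing A))
    (fun y => IsLocalization.map_units (FractionRing A) (⟨y, hle y.2⟩ : nonZeroDivisors A))
  have hdiv : ∀ (e : ℕ) (x : A) (c : S), IsIntegral A c → algebraMap A S x = algebraMap A S (t ^ e) * c → ∃ b, x = t ^ e * b := by
    intro e x c hc hx
    have hinvL : algebraMap A L t * IsLocalization.Away.invSelf t = 1 := IsLocalization.Away.mul_invSelf t
    let c₀ : L := algebraMap A L x * IsLocalization.Away.invSelf t ^ e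
    have hte : algebraMap A L (t ^ e) * c₀ = algebraMap A L x := by
      rw [map_pow, mul_left_comm, ← mul_pow, hinvL, one_pow, mul_one]
    have hc₀ : algebraMap L S c₀ = c := by
      refine (htu.pow e).mul_left_cancel ?_
      rw [← map_pow, ← hx, IsScalarTower.algebraMap_apply A L S, ← map_mul, hte]
      exact (IsScalarTower.algebraMap_apply A L S x).symm
    have hc₀i : IsIntegral A c₀ := (isIntegral_algHom_iff (IsScalarTower.toAlgHom A L S) hinjLS).1 (by
      rw [IsScalarTower.toAlgHom_apply, hc₀]; exact hc)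
    obtain ⟨b, hb⟩ := IsIntegrallyClosed.isIntegral_iff.1 (hc₀i.map ι)
    refine ⟨b, IsFractionRing.injective A (FractionRing A) ?_⟩
    have h5 := congrArg ι hte
    rw [map_mul, AlgHom.commutes, AlgHom.commutes, ← hb, ← map_mul] at h5
    exact h5.symm
  obtain ⟨g', c, h⟩ := core p n j hp hn t r₁ hr₁ hlift f g f₀ g₀ h₀ hh₀ hfg (AdjoinRoot.root P) hZ htu hred hdiv
  exact hmax g' c h

end Groth.Agent.S14692
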