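import Groth.Statements.S14694
import Groth.Agent.SekSuwaLib.Points
import Mathlib.RingTheory.AdjoinRoot
import Mathlib.AlgebraicGeometry.Morphisms.FlatRank
import Mathlib.RingTheory.Spectrum.Prime.FreeLocus
-- import your own Groth.Agent.* helpers here

set_option autoImplicit false
universe u
open CategoryTheory AlgebraicGeometry
open SekSuwa

namespace Groth.Agent.S14694

/-- For any commutative ring R, λ ∈ R and N ≥ 1 such that λ is a non-zero-divisor and λ^N divides (1 +
λX)^N − 1 in R[X] with quotient P_{λ,N}, the R-group scheme G_{λ,N}, defined as the closed subscheme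
of the affine R-group G^(λ) = Spec R[T, 1/(1+λT)] cut out by P_{λ,N}(T), is finite locally free of
degree N over Spec R (its coordinate ring is R[T]/(P_{λ,N}(T)) with P_{λ,N} monic of degree N). (The
published text states this over a discrete valuation ring with N = p^n: G_{λ,n} is a commutative
finite flat group scheme of rank p^n.) -/
theorem result (R : Type u) [CommRing R] (lam : R) (N : ℕ) (hN : 0 < N) (h : SekSuwa.DivCond lam N) :
    Mor2.IsFinLocFreeOfDeg N (SekSuwa.GK R lam N h).hom := by
  classical
  set P := psiPoly lam N h with hP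
  have hcoeff : ∀ k, 0 < k → lam ^ N * P.coeff k = lam ^ k * (N.choose k : R) := by
    intro k hk
    have h1 := congrArg (fun q => Polynomial.coeff q k) (psiPoly_spec h)
    simp only [Polynomial.coeff_C_mul] at h1
    rw [← hP] at h1
    rw [h1, Polynomial.coeff_sub, Polynomial.coeff_one, if_neg hk.ne', sub_zero, add_comm, add_pow,
      Polynomial.finsetSum_coeff]
    simp only [mul_pow, one_pow, _root_.mul_one, ← Polynomial.C_pow, ← Polynomial.C_eq_natCast, Polynomial.coeff_mul_C,
      Polynomial.coeff_C_mul_X_pow]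
    rw [Finset.sum_eq_single k]
    · simp
    · intro b _ hb; simp [Ne.symm hb]
    · intro hb
      rw [Finset.mem_range, not_lt] at hb
      simp [Nat.choose_eq_zero_of_lt (show N < k by omega)]
  have hN1 : P.coeff N = 1 := SekSuwa.cancel_nzd h.pow_nzd (by rw [hcoeff N hN, Nat.choose_self, Nat.cast_one])
  have hdeg : P.natDegree ≤ N := Polynomial.natDegree_le_iff_coeff_eq_zero.2 fun k hk =>
    SekSuwa.cancel_nzd h.pow_nzd (by rw [hcoeff k (by omega), Nat.choose_eq_zero_of_lt hk, Nat.cast_zero, mul_zero, mul_zero])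
  have hm : P.Monic := Polynomial.monic_of_natDegree_le_of_coeff_eq_one N hdeg hN1
  let x : AdjoinRoot P := AdjoinRoot.root P
  have hx : Polynomial.aeval x P = 0 := by rw [Polynomial.aeval_def]; exact AdjoinRoot.eval₂_root P
  have hu : (1 + lam • x) * (1 + lam • x) ^ (N - 1) = 1 := by
    rw [← pow_succ', show N - 1 + 1 = N by omega, Algebra.smul_def]
    have h1 := aeval_psiPoly h x
    rw [← hP, hx, mul_zero] at h1
    exact (sub_eq_zero.1 h1.symm)
  let l : A R lam →ₐ[R] AdjoinRoot P := A.lift R lam x ((1 + lam • x) ^ (N - 1)) hu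
  let toB : AK R lam N h →ₐ[R] AdjoinRoot P := Ideal.Quotient.liftₐ (kerIdeal lam N h) l (by
    intro z hz
    obtain ⟨c, rfl⟩ := Ideal.mem_span_singleton'.mp hz
    rw [map_mul, kerGen, ← Polynomial.aeval_algHom_apply, A.lift_t, ← hP, hx, mul_zero])
  have ht : toB AK.t = x := A.lift_t _ _ hu
  have hi : toB AK.inv = (1 + lam • x) ^ (N - 1) := A.lift_inv _ _ hu
  let toA : AdjoinRoot P →ₐ[R] AK R lam N h := AdjoinRoot.liftAlgHom P (Algebra.ofId R _) AK.t
    (by have := AK.aeval_t (R := R) (lam := lam) (N := N) (h := h); rwa [← hP, Polynomial.aeval_def] at this)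
  have hx' : toA x = AK.t := AdjoinRoot.liftAlgHom_root ..
  have hinv : (AK.inv : AK R lam N h) = (1 + lam • AK.t) ^ (N - 1) := by
    have e1 : (1 + lam • (AK.t : AK R lam N h)) * AK.inv = 1 := by
      have := congrArg (AK.mkHom R lam N h) (A.u_mul_inv (R := R) (lam := lam))
      rw [map_mul, map_one, A.u, map_add, map_one, map_smul] at this
      exact this
    calc (AK.inv : AK R lam N h) = (1 + lam • AK.t) ^ N * AK.inv := by rw [AK.u_pow, _root_.one_mul]
      _ = _ := by rw [← pow_sub_one_mul hN.ne' (1 + lam • (AK.t : AK R lam N h)), _root_.mul_assoc, e1, _root_.mul_one]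
  let e : AK R lam N h ≃ₐ[R] AdjoinRoot P := AlgEquiv.ofAlgHom toB toA
    (AdjoinRoot.algHom_ext (by rw [AlgHom.comp_apply, hx', ht]; rfl))
    (AK.algHom_ext (by rw [AlgHom.comp_apply, ht, hx']; rfl) (by
      rw [AlgHom.comp_apply, hi, map_pow, map_add, map_one, map_smul, hx', ← hinv]
      rfl))
  let b := (AdjoinRoot.powerBasis' hm).basis.map e.symm.toLinearEquiv
  haveI : Module.Finite R (AK R lam N h) := Module.Finite.of_basis b
  haveI : Module.Free R (AK R lam N h) := Module.Free.of_basis b
  have hfin : IsFinite (GK R lam N h).hom :=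
    (IsFinite.SpecMap_iff _).2 (RingHom.finite_algebraMap.2 inferInstance)
  refine ⟨⟨hfin, (Flat.SpecMap_iff).2 (RingHom.flat_algebraMap_iff.2 inferInstance), ?_⟩, fun y => ?_⟩
  · exact (HasRingHomProperty.Spec_iff (P := @LocallyOfFinitePresentation)).2
      (RingHom.finitePresentation_algebraMap.2 (Algebra.FinitePresentation.equiv e.symm))
  · refine (Scheme.Hom.finrank_SpecMap_algebraMap R (AK R lam N h) y).trans ?_
    haveI : Nontrivial R := y.nontrivial
    rw [Module.rankAtStalk_eq_finrank_of_free, Module.finrank_eq_card_basis b, Fintype.card_fin,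
      AdjoinRoot.powerBasis'_dim]
    exact le_antisymm hdeg (Polynomial.le_natDegree_of_ne_zero (by rw [hN1]; exact one_ne_zero))

end Groth.Agent.S14694
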