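import Groth.Statements.S14695
import Groth.Agent.SchTorsor.NormalExt
import Groth.Agent.SchTorsor.Props
import Groth.Prelude.Def_ActBC
-- import your own Groth.Agent.* helpers here

set_option autoImplicit false
universe u
open CategoryTheory AlgebraicGeometry
open NonAbH1

open CategoryTheory.Limits MonoidalCategory CartesianMonoidalCategory

namespace Groth.Agent.S14695

/-- In the case where the morphism Y → X is the identity of X: let X be a normal integral scheme
(integral, with every local ring an integrally closed domain), G and G' X-group schemes which are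
finite and flat over X, and g : G → G' a homomorphism which becomes an isomorphism after base change
to the spectrum of the function field of X. If an fppf G-torsor P over X becomes trivial after
extension of the structure group along g — there is an fppf G'-torsor P' over X with a g-equivariant
X-morphism P → P', and P' has a section over X — then P has a section over X. (The published
statement takes G, G' commutative and all schemes Noetherian, allows also composition with the
pull-back along a morphism Y → X admitting a rational section, and is phrased as injectivity of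
H¹(X, G) → H¹(Y, G'_Y); this row is the case where Y → X is the identity of X, as the trivial-kernel
assertion the argument establishes, for which commutativity and the Noetherian condition are not
needed.) -/
theorem result {X : Scheme.{u}} [IsIntegral X]
    (hX : Pi1.IsNormalScheme X) (G G' : Over X) [GrpObj G] [GrpObj G']
    [IsFinite G.hom] [Flat G.hom] [IsFinite G'.hom] [Flat G'.hom]
    (g : G ⟶ G') [IsMonHom g]
    (hg : IsIso ((Over.pullback (X.fromSpecStalk (genericPoint X))).map g))
    (P : Over X) (a : AlgGrp.Action G P) (hP : NonAbH1.IsTorsorFor Scheme.fppfPrecoverage a)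
    (P' : Over X) (a' : AlgGrp.Action G' P') (hP' : NonAbH1.IsTorsorFor Scheme.fppfPrecoverage a')
    (hpush : NonAbH1.IsPushforwardAlongSch g a a') (htriv : NonAbH1.HasSectionOver P' (𝟙 X)) :
    NonAbH1.HasSectionOver P (𝟙 X) := by
  obtain ⟨φ, hφ⟩ := hpush
  obtain ⟨s, hs⟩ := htriv
  let η := X.fromSpecStalk (genericPoint X)
  haveI := hg
  have haq : NonAbH1.IsTorsorFor Scheme.fpqcPrecoverage a :=
    ⟨hP.1, hP.2.imp fun R hR => ⟨Scheme.fppfPrecoverage_le_fpqcPrecoverage _ hR.1, hR.2⟩⟩
  haveI : MorphismProperty.DescendsAlong @IsFinite (@Surjective ⊓ @Flat ⊓ @QuasiCompact : MorphismProperty Scheme.{u}) :=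
    Groth.Agent.EtFound.fpqc_isFinite
  haveI : IsFinite P.hom := Groth.Agent.SchTorsor.torsor_property @IsFinite haq inferInstance
  have hφ' : AlgGrp.Action.IsEquivariant a (a'.restrict g) φ := by
    unfold AlgGrp.Action.IsEquivariant
    rw [hφ, AlgGrp.Action.restrict_act, ← Category.assoc]
    congr 1
    apply CartesianMonoidalCategory.hom_ext <;> simp
  have hφη := AlgGrp.Action.isEquivariant_bc η hφ'
  rw [AlgGrp.Action.bc_restrict] at hφη
  have hps : NonAbH1.IsPseudoTorsorSch ((a'.bc η).restrict ((Over.pullback η).map g)) := by
    haveI : IsIso (lift (a'.bc η).act (snd _ _)) := NonAbH1.isPseudoTorsorSch_bc η hP'.1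
    show IsIso (lift ((a'.bc η).restrict ((Over.pullback η).map g)).act (snd _ _))
    have e : lift ((a'.bc η).restrict ((Over.pullback η).map g)).act (snd _ _) =
        (((Over.pullback η).map g) ▷ _) ≫ lift (a'.bc η).act (snd _ _) := by
      rw [AlgGrp.Action.restrict_act, comp_lift, whiskerRight_snd]
    rw [e]
    infer_instance
  haveI : IsIso ((Over.pullback η).map φ) :=
    Groth.Agent.SchTorsor.isIso_of_equivariant (NonAbH1.isTorsorFor_bc η Scheme.fpqcPrecoverage haq) hps _ hφη
  let x' : 𝟙_ (Over (Spec (X.presheaf.stalk (genericPoint X)))) ⟶ (Over.pullback η).obj P' :=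
    Over.homMk (pullback.lift (η ≫ s) (𝟙 _) (by rw [Category.assoc, hs, Category.comp_id]; exact (Category.id_comp _).symm))
      (pullback.lift_snd _ _ _)
  let x := x' ≫ inv ((Over.pullback η).map φ)
  have hx : x.left ≫ pullback.snd P.hom η = 𝟙 _ := Over.w x
  obtain ⟨σ, hσ, -⟩ := Groth.Agent.SchTorsor.exists_section_of_normal hX P.hom (x.left ≫ pullback.fst P.hom η)
    (by rw [Category.assoc, pullback.condition, ← Category.assoc, hx]; exact Category.id_comp _)
  exact ⟨σ, hσ⟩

end Groth.Agent.S14695
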