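import Groth.Statements.S14697
import Groth.Agent.SurfRows.BirPair
import Groth.Agent.HilbPoly.EllSimple
import Groth.Agent.CurveCohLib.RegularCurve
import Groth.Agent.PnCoh.Chow.Proper

set_option autoImplicit false
set_option backward.isDefEq.respectTransparency false
set_option backward.isDefEq.respectTransparency.types false
set_option linter.style.haveILetI false
set_option linter.unusedSectionVars false
set_option maxHeartbeats 800000
universe u
open CategoryTheory CategoryTheory.Limits AlgebraicGeometry
open Surf

namespace Groth.Agent.S14697

open Groth.Agent.H23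
attribute [local instance] PicMul.clMonoid

/-- Let k be an algebraically closed field and X an integral normal scheme of dimension two admitting a
closed immersion into some P^n_k over k. Let φ : Y → X be a k-morphism from an integral scheme Y of
dimension two with all local rings regular, itself admitting a closed immersion into some P^m_k over
k, such that φ restricts to an isomorphism over an open subset U of X with finite complement (any
such resolution: φ may also fail to be an isomorphism over finitely many regular points). Let W be a
canonical module of Y, a second exterior power of Ω_{Y/k}, and L an invertible O_X-module. Then 2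
χ(X, L) = (φ^*L · φ^*L) - (φ^*L · W) + 2 χ(X, O_X), the intersection numbers being taken on Y as
(A·B) = χ(O_Y) - χ(A) - χ(B) + χ(A ⊗ B) (packaged as FGA.intNum). In the published form D.D and
D.K_* are the intersection numbers of the Cartier divisor D of L with itself and with the direct
image K_* of a canonical divisor of Y, in the rational-valued pairing defined through the
resolution; for a Cartier divisor both equal the numbers on Y written here. (The published statement
takes a resolved model, that is, φ an isomorphism exactly over the complement of the singular points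
with exceptional curves nonsingular and crossing normally; this row allows any φ that is an
isomorphism over some open subset with finite complement, to which the same proof applies. The
published display has constant term the arithmetic genus p_a(X) = χ(O_X) - 1 of the surface; the
proof given establishes the constant χ(O_X) used here, and with p_a(X) the identity already fails
for the trivial divisor, whose two sides would read χ(O_X) and χ(O_X) - 1.) -/
theorem result (k : Type u) [Field k] [IsAlgClosed k] (X : Scheme.{u}) [X.Over (Spec (CommRingCat.of k))]
    [IsIntegral X] (hdim : topologicalKrullDim X = 2)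
    (hproj : ∃ (n : ℕ) (ι : X ⟶ CohB1.ProjSpace n k), IsClosedImmersion ι ∧ ι ≫ CohB1.ProjSpace.toSpec n k = (X ↘ (Spec (CommRingCat.of k))))
    (hnorm : Pi1.IsNormalScheme X) (U : X.Opens) (hU : ((U : Set X)ᶜ).Finite)
    (Y : Scheme.{u}) (φ : Y ⟶ X) [IsIntegral Y] (hdimY : topologicalKrullDim Y = 2)
    (hregY : ∀ y : Y, IsRegularLocalRing (Y.presheaf.stalk y))
    (hprojY : ∃ (n : ℕ) (ι : Y ⟶ CohB1.ProjSpace n k), IsClosedImmersion ι ∧ ι ≫ CohB1.ProjSpace.toSpec n k = φ ≫ (X ↘ (Spec (CommRingCat.of k))))
    (hisoY : IsIso (φ ∣_ U))
    (W : Y.Modules) (hW : ExtPow.IsExtPow 2 (Omega.sheaf (φ ≫ (X ↘ (Spec (CommRingCat.of k))))) W)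
    (L : X.Modules) (hL : PicF.IsInvertible L) :
    letI : Y.Over (Spec (CommRingCat.of k)) := ⟨φ ≫ (X ↘ (Spec (CommRingCat.of k)))⟩
    2 * Curv2.euler k X L =
      FGA.intNum k Y 2 ![(Scheme.Modules.pullback φ).obj L, (Scheme.Modules.pullback φ).obj L] (Coh.structureModule Y) -
        FGA.intNum k Y 2 ![(Scheme.Modules.pullback φ).obj L, W] (Coh.structureModule Y) +
        2 * Curv2.euler k X (Coh.structureModule X) := by
  obtain ⟨n, ι, hι, hfac⟩ := hproj
  obtain ⟨N, ι', hι', hfac'⟩ := hprojY
  haveI := hι
  haveI := hι'
  haveI := PnCoh.Chow.isProper_toSpec N k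
  haveI := PnCoh.Chow.isProper_toSpec n k
  letI : Y.Over (Spec (CommRingCat.of k)) := ⟨φ ≫ (X ↘ (Spec (CommRingCat.of k)))⟩
  haveI : IsProper (X ↘ Spec (CommRingCat.of k)) := by
    rw [← hfac]
    infer_instance
  haveI : IsProper (Y ↘ Spec (CommRingCat.of k)) := by
    show IsProper (φ ≫ _)
    rw [← hfac']
    infer_instance
  haveI : Smooth (Y ↘ Spec (CommRingCat.of k)) := CurveCohLib.RegularCurve.smooth_of_regular k fun x _ => hregY x
  haveI := hisoY
  have hgU : genericPoint X ∈ U := by
    have hne : (U : Set X).Nonempty := by
      rw [Set.nonempty_iff_ne_empty]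
      intro h0
      rw [h0, Set.compl_empty] at hU
      haveI : Finite X := Set.finite_univ_iff.1 hU
      haveI : JacobsonSpace X := LocallyOfFiniteType.jacobsonSpace (X ↘ Spec (CommRingCat.of k))
      haveI : DiscreteTopology X := inferInstance
      have h1 : topologicalKrullDim X ≤ 0 := topologicalKrullDim_zero_of_discreteTopology _
      rw [hdim] at h1
      exact absurd h1 (by decide)
    obtain ⟨z, hz⟩ := hne
    exact (genericPoint_specializes z).mem_open U.2 hz
  have hgen : φ (genericPoint Y) = genericPoint X := by
    obtain ⟨w, hw⟩ := (φ ∣_ U).surjective (⟨_, hgU⟩ : U)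
    have h := congrArg Subtype.val hw
    rw [morphismRestrict_base] at h
    have h' : φ w.1 = genericPoint X := h
    exact ((h' ▸ (genericPoint_specializes w.1).map φ.continuous :
      φ (genericPoint Y) ⤳ genericPoint X).antisymm (genericPoint_specializes _)).eq
  have h := SurfRows.euler_pullback_sub k φ rfl U hdim.le hdimY.le hgen (HilbPoly.isAmple_pullback_pn ι) hU hL
  have hP := PicClLib.isInvertible_pullback φ hL
  have hrr := SurfAdj.rr k hdimY (W := W) hW hP
  rw [SurfPairing.intNum_eq_pair k hdimY.le hP hP,
    SurfPairing.intNum_eq_pair k hdimY.le hP (SurfAdj.isInvertible_W k hdimY hW)]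
  linarith

end Groth.Agent.S14697
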