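import Groth.Statements.S14698
import Mathlib
import Groth.Agent.FibrePP.Curves
import Groth.Agent.AlgSpLib.CartierDim
import Groth.Agent.PnCoh.Chow.Basic

set_option autoImplicit false
set_option linter.style.haveILetI false
set_option backward.isDefEq.respectTransparency false
set_option backward.isDefEq.respectTransparency.types false
universe u
open CategoryTheory CategoryTheory.Limits AlgebraicGeometry
open Resolve

open TopologicalSpace

namespace Groth.Agent.S14698

/-- Let k be an algebraically closed field and X an integral normal scheme of dimension two admitting a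
closed immersion into some P^n_k over k. Let φ : Y → X be a k-morphism from an integral scheme Y of
dimension two with all local rings regular, itself admitting a closed immersion into some P^m_k over
k, which restricts to an isomorphism over an open subset U of X with finite complement. Then for
every point x of X at which the local ring is not regular, the fibre φ⁻¹(x) (with the topology
induced from Y) is nonempty and every irreducible component of it has dimension one: such a
desingularization is a monoidal model. (The published statement takes φ an isomorphism exactly over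
the complement of the singular points; this row allows any open U with finite complement over which
φ is an isomorphism.) -/
theorem result (k : Type u) [Field k] [IsAlgClosed k] (X : Scheme.{u}) [X.Over (Spec (CommRingCat.of k))]
    [IsIntegral X] (hdim : topologicalKrullDim X = 2)
    (hproj : ∃ (n : ℕ) (ι : X ⟶ CohB1.ProjSpace n k), IsClosedImmersion ι ∧ ι ≫ CohB1.ProjSpace.toSpec n k = (X ↘ (Spec (CommRingCat.of k))))
    (hnorm : Pi1.IsNormalScheme X) (U : X.Opens) (hU : ((U : Set X)ᶜ).Finite)
    (Y : Scheme.{u}) (φ : Y ⟶ X) [IsIntegral Y] (hdimY : topologicalKrullDim Y = 2)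
    (hregY : ∀ y : Y, IsRegularLocalRing (Y.presheaf.stalk y))
    (hprojY : ∃ (n : ℕ) (ι : Y ⟶ CohB1.ProjSpace n k), IsClosedImmersion ι ∧ ι ≫ CohB1.ProjSpace.toSpec n k = φ ≫ (X ↘ (Spec (CommRingCat.of k))))
    (hisoY : IsIso (φ ∣_ U))
    (x : X) (hx : ¬ IsRegularLocalRing (X.presheaf.stalk x)) :
    (φ.base ⁻¹' ({x} : Set X)).Nonempty ∧
      ∀ Z ∈ irreducibleComponents ↥(φ.base ⁻¹' ({x} : Set X)), topologicalKrullDim ↥Z = 1 := by
  obtain ⟨n, ι, hι, hιk⟩ := hproj
  obtain ⟨m, ι', hι', hι'k⟩ := hprojY
  haveI := hι; haveI := hι'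
  haveI : IsProper (CohB1.ProjSpace.toSpec n k) := PnCoh.Chow.isProper_toSpec n k
  haveI : IsProper (CohB1.ProjSpace.toSpec m k) := PnCoh.Chow.isProper_toSpec m k
  haveI : IsProper (X ↘ Spec (CommRingCat.of k)) := hιk ▸ inferInstance
  haveI : IsProper (φ ≫ (X ↘ Spec (CommRingCat.of k))) := hι'k ▸ inferInstance
  haveI : IsProper φ := IsProper.of_comp φ (X ↘ Spec (CommRingCat.of k))
  haveI : JacobsonSpace X := LocallyOfFiniteType.jacobsonSpace (X ↘ Spec (CommRingCat.of k))
  haveI : IsLocallyNoetherian X := LocallyOfFiniteType.isLocallyNoetherian (X ↘ Spec (CommRingCat.of k))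
  haveI : IsLocallyNoetherian Y := LocallyOfFiniteType.isLocallyNoetherian (φ ≫ (X ↘ Spec (CommRingCat.of k)))
  haveI : CompactSpace Y := QuasiCompact.compactSpace_of_compactSpace (φ ≫ (X ↘ Spec (CommRingCat.of k)))
  haveI : IsNoetherian Y := {}
  haveI : NoetherianSpace ↥Y := inferInstance
  have hUne : (U : Set X).Nonempty := by
    by_contra h
    rw [Set.not_nonempty_iff_eq_empty] at h
    rw [h, Set.compl_empty] at hU
    haveI : Finite X := Set.finite_univ_iff.1 hU
    haveI : Subsingleton X := ⟨fun a b => by
      have h1 : ∀ c : X, c = genericPoint X := fun c =>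
        (((genericPoint_specializes c).mem_closed (isClosed_discrete {genericPoint X}) rfl : c ∈ ({genericPoint X} : Set X)))
      exact (h1 a).trans (h1 b).symm⟩
    haveI : Subsingleton (IrreducibleCloseds X) := ⟨fun a b => SetLike.coe_injective
      ((Set.Nonempty.eq_univ a.isIrreducible.1).trans (Set.Nonempty.eq_univ b.isIrreducible.1).symm)⟩
    have h2 : topologicalKrullDim X ≤ 0 := Order.krullDim_nonpos_of_subsingleton
    rw [hdim] at h2
    exact absurd h2 (by norm_num)
  haveI := hisoY
  obtain ⟨V, hV, hno⟩ := FibrePP.exists_isoLocus φ hUne hnorm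
  have hxV : x ∉ V := fun hxV => hx (by
    obtain ⟨z, hz⟩ := (ConcreteCategory.bijective_of_isIso (φ ∣_ V).base).2 ⟨x, hxV⟩
    have e : φ z.1 = x := (morphismRestrict_base_coe φ V z).symm.trans (congrArg Subtype.val hz)
    subst e
    haveI : IsIso (φ.stalkMap z.1) :=
      (MorphismProperty.isomorphisms CommRingCat).arrow_mk_iso_iff
        (morphismRestrictStalkMap φ V z) |>.1 (inferInstanceAs (IsIso _))
    haveI := hregY z.1
    exact IsRegularLocalRing.of_ringEquiv (asIso (φ.stalkMap z.1)).commRingCatIsoToRingEquiv.symm)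
  have hxU : x ∉ U := fun hxU => hx (by
    obtain ⟨z, hz⟩ := (ConcreteCategory.bijective_of_isIso (φ ∣_ U).base).2 ⟨x, hxU⟩
    have e : φ z.1 = x := (morphismRestrict_base_coe φ U z).symm.trans (congrArg Subtype.val hz)
    subst e
    haveI : IsIso (φ.stalkMap z.1) :=
      (MorphismProperty.isomorphisms CommRingCat).arrow_mk_iso_iff
        (morphismRestrictStalkMap φ U z) |>.1 (inferInstanceAs (IsIso _))
    haveI := hregY z.1
    exact IsRegularLocalRing.of_ringEquiv (asIso (φ.stalkMap z.1)).commRingCatIsoToRingEquiv.symm)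
  have hxc : IsClosed ({x} : Set X) := by
    refine isClosed_singleton_of_isLocallyClosed_singleton ?_
    have h1 : IsClosed ((U : Set X)ᶜ) := U.2.isClosed_compl
    haveI : Finite ↥((U : Set X)ᶜ) := hU.to_subtype
    haveI : JacobsonSpace ↥((U : Set X)ᶜ) := .of_isClosedEmbedding h1.isClosedEmbedding_subtypeVal
    have h2 := h1.isClosedEmbedding_subtypeVal.isClosedMap _ (isClosed_discrete ({⟨x, hxU⟩} : Set ↥((U : Set X)ᶜ)))
    rw [Set.image_singleton] at h2
    exact h2.isLocallyClosed
  have hF : IsClosed (φ.base ⁻¹' ({x} : Set X)) := hxc.preimage φ.continuous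
  refine ⟨(H26.BiratFibre.surjective φ hUne x).imp fun _ => id, fun Z hZ => ?_⟩
  obtain ⟨z, ξ, hzZ, hξ, hzc, hne, -⟩ := FibrePP.exists_closed_point φ (hno x hxV) hZ
  have hgenne : φ (genericPoint Y) ≠ x := fun h => hxU (by
    rw [← h, H26.BiratFibre.apply_genericPoint_eq φ hUne]
    exact ((genericPoint_spec X).mem_open_set_iff U.2).2 (by simpa using hUne))
  have hZc : IsClosed Z := isClosed_of_mem_irreducibleComponents Z hZ
  refine le_antisymm ?_ ?_
  · have h1 : topologicalKrullDim ↥(φ.base ⁻¹' ({x} : Set X)) < topologicalKrullDim Y :=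
      AlgSpLib.CartierDim.topologicalKrullDim_lt hF (fun w hw => ⟨genericPoint Y, hgenne, genericPoint_specializes w⟩)
        (by rw [hdimY]; decide)
    rw [hdimY] at h1
    have h2 : topologicalKrullDim ↥Z ≤ topologicalKrullDim ↥(φ.base ⁻¹' ({x} : Set X)) :=
      Topology.IsInducing.subtypeVal.topologicalKrullDim_le
    refine h2.trans ?_
    generalize topologicalKrullDim ↥(φ.base ⁻¹' ({x} : Set X)) = d at h1 ⊢
    induction d using WithBot.recBotCoe with
    | bot => exact bot_le
    | coe d =>
      have h1' : d < 2 := WithBot.coe_lt_coe.1 h1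
      exact WithBot.coe_le_coe.2 (Order.le_of_lt_succ h1')
  · let zZ : ↥Z := ⟨z, hzZ⟩
    let T₀ : IrreducibleCloseds ↥Z := ⟨{zZ}, isIrreducible_singleton, by
      have : ({zZ} : Set ↥Z) = Subtype.val ⁻¹' {z} := by ext w; simp [zZ, Subtype.ext_iff]
      rw [this]; exact hzc.preimage continuous_subtype_val⟩
    haveI : IrreducibleSpace ↥Z := Subtype.irreducibleSpace hZ.1
    let T₁ : IrreducibleCloseds ↥Z := ⟨Set.univ, IrreducibleSpace.isIrreducible_univ _, isClosed_univ⟩
    have hlt : T₀ < T₁ := by
      refine SetLike.coe_ssubset_coe.1 ⟨Set.subset_univ _, fun h => hne ?_⟩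
      exact (congrArg Subtype.val (h (Set.mem_univ (⟨ξ, hξ.mem⟩ : ↥Z)) : (⟨ξ, hξ.mem⟩ : ↥Z) = zZ)).symm
    simpa [topologicalKrullDim] using Order.LTSeries.length_le_krullDim ((RelSeries.singleton _ T₀).snoc T₁ hlt)

end Groth.Agent.S14698
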