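import Groth.Statements.S1470
import Groth.Agent.FlatAssoc.Specialize
import Groth.Agent.FibDim.Basic

set_option autoImplicit false
universe u
open FlatMor

namespace Groth.Agent.S1470

open AlgebraicGeometry CategoryTheory Limits in
/-- Let f : X → S be locally of finite type, F a quasi-coherent O_X-module of finite type, and y a point
of the relative assassin of F with image t; let Y be the closure of y. For a point s of S and a
point x of the fibre of Y over s which is generic in an irreducible component of that fibre, if F is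
flat over S at x then x belongs to the relative assassin of F and the local dimension of the fibre
of Y over s at x equals the dimension of the fibre of Y over t (fibres taken as subspaces of X). -/
theorem result {X S : Scheme.{u}} (f : X ⟶ S) [LocallyOfFiniteType f]
    (F : X.Modules) (hF : Coh.IsCoh F) (y : X) (hy : y ∈ MoreMor.relAss f F) (s : S) (x : X) (hx : x ∈ closure ({y} : Set ↑X)) (hxs : f x = s)
    (hgen : ∃ C ∈ irreducibleComponents ↑(closure ({y} : Set ↑X) ∩ f ⁻¹' {s}), IsGenericPoint (⟨x, hx, hxs⟩ : ↑(closure ({y} : Set ↑X) ∩ f ⁻¹' {s})) C)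
    (hfl : FlatMod.IsFlatOverAt f F x) :
    x ∈ MoreMor.relAss f F ∧
      FlatMor.localDim ↑(closure ({y} : Set ↑X) ∩ f ⁻¹' {s}) ⟨x, hx, hxs⟩ = topologicalKrullDim ↑(closure ({y} : Set ↑X) ∩ f ⁻¹' {f y}) := by
  obtain ⟨C, hC, hg⟩ := hgen
  have hmin : ∀ z, y ⤳ z → z ⤳ x → f z = f x → z = x := by
    intro z hyz hzx hfz
    let W : ↑(closure ({y} : Set ↑X) ∩ f ⁻¹' {s}) := ⟨z, specializes_iff_mem_closure.1 hyz, hfz.trans hxs⟩
    have h1 : W ⤳ (⟨x, hx, hxs⟩ : ↑(closure ({y} : Set ↑X) ∩ f ⁻¹' {s})) :=
      Topology.IsInducing.subtypeVal.specializes_iff.1 hzx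
    have h2 : C ≤ closure {W} := by
      rw [← hg.def]
      exact closure_minimal (Set.singleton_subset_iff.2 (specializes_iff_mem_closure.1 h1)) isClosed_closure
    have h3 : W ∈ C := hC.2 isIrreducible_singleton.closure h2 (subset_closure rfl)
    exact congrArg Subtype.val (h1.antisymm (hg.specializes h3)).eq
  obtain ⟨h1, h2⟩ := Groth.Agent.FlatAssoc.relAss_of_flat f F hF.1 hF.2 hy
    (specializes_iff_mem_closure.2 hx) hmin hfl
  refine ⟨h1, ?_⟩
  subst hxs
  obtain ⟨z, hz, hzx, hfz, he, -⟩ := Groth.Agent.FibDim.exists_localDim_inter_eq f isClosed_closure x hx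
  rw [he, hmin z (specializes_iff_mem_closure.2 hz) hzx hfz, h2,
    ← Groth.Agent.FibDim.dim_closure_inter f y]

end Groth.Agent.S1470
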