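import Groth.Statements.S14700
import Groth.Agent.SurfRows.RatFacts
import Groth.Agent.AffCompl.InterFinite
import Groth.Agent.CurveCohLib.RegularCurve
import Groth.Agent.PnCoh.Chow.Proper
-- import your own Groth.Agent.* helpers here

set_option autoImplicit false
set_option backward.isDefEq.respectTransparency false
set_option backward.isDefEq.respectTransparency.types false
set_option maxHeartbeats 1000000
universe u
open CategoryTheory CategoryTheory.Limits AlgebraicGeometry
open Surf

namespace Groth.Agent.S14700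

open Groth.Agent Groth.Agent.H23

attribute [local instance] PicMul.clMonoid

/-- A connected weighted graph has total weight at least the number of vertices minus one. -/
theorem tree_bound {n : ℕ} (G : Fin n → Fin n → ℤ) (hsymm : ∀ i j, G i j = G j i)
    (hnn : ∀ i j, i ≠ j → 0 ≤ G i j)
    (hconn : ∀ S : Finset (Fin n), S.Nonempty → Sᶜ.Nonempty → ∃ i ∈ S, ∃ j ∈ Sᶜ, 1 ≤ G i j) (hn : 0 < n) :
    2 * ((n : ℤ) - 1) ≤ ∑ i, ∑ j, if i = j then 0 else G i j := by
  classical
  suffices h : ∀ m : ℕ, m < n → ∃ S : Finset (Fin n), S.card = m + 1 ∧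
      2 * (m : ℤ) ≤ ∑ i ∈ S, ∑ j ∈ S, if i = j then 0 else G i j by
    obtain ⟨S, hS, hle⟩ := h (n - 1) (by omega)
    have hu : S = Finset.univ := Finset.eq_univ_of_card _ (by rw [hS, Fintype.card_fin]; omega)
    rw [hu] at hle
    push_cast [Nat.cast_sub (show 1 ≤ n from hn)] at hle
    exact hle
  intro m
  induction m with
  | zero => exact fun _ => ⟨{⟨0, hn⟩}, by simp, by simp⟩
  | succ m ih =>
    intro hm
    obtain ⟨S, hS, hle⟩ := ih (by omega)
    obtain ⟨i, hi, j, hj, hij⟩ := hconn S (Finset.card_pos.1 (by omega)) (Finset.card_pos.1 (by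
      rw [Finset.card_compl, hS, Fintype.card_fin]; omega))
    rw [Finset.mem_compl] at hj
    refine ⟨insert j S, by rw [Finset.card_insert_of_notMem hj, hS], ?_⟩
    have hge : ∀ l ∈ S, 0 ≤ (if l = j then 0 else G l j) := fun l hl => by
      rw [if_neg (fun e => hj (by rw [← e]; exact hl))]
      exact hnn l j fun e => hj (by rw [← e]; exact hl)
    have h1 : 1 ≤ ∑ l ∈ S, if l = j then 0 else G l j := by
      refine le_trans ?_ (Finset.single_le_sum hge hi)
      rw [if_neg (fun e => hj (by rw [← e]; exact hi))]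
      exact hij
    have h2 : (∑ l ∈ S, if j = l then 0 else G j l) = ∑ l ∈ S, if l = j then 0 else G l j :=
      Finset.sum_congr rfl fun l _ => by
        by_cases h : j = l
        · rw [if_pos h, if_pos h.symm]
        · rw [if_neg h, if_neg (Ne.symm h), hsymm]
    simp only [Finset.sum_insert hj, Finset.sum_add_distrib, if_pos, zero_add]
    rw [h2]
    push_cast
    linarith

/-- The ideal of an integral closed subscheme on an affine open is prime or trivial. -/
theorem isPrime_or_eq_top {X : Scheme.{u}} (C : X.IdealSheafData) [IsIntegral C.subscheme] (V : X.affineOpens) :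
    ((C.ideal V).IsPrime ∧ ((C.support : Set X) ∩ (V.1 : Set X)).Nonempty) ∨ C.ideal V = ⊤ := by
  by_cases hne : Nonempty (C.subschemeι ⁻¹ᵁ V.1 : C.subscheme.Opens)
  · left
    obtain ⟨z, hz⟩ := hne
    haveI : Nonempty (C.subschemeι ⁻¹ᵁ V.1 : C.subscheme.Opens) := ⟨⟨z, hz⟩⟩
    refine ⟨?_, ⟨C.subschemeι z, C.range_subschemeι.le ⟨z, rfl⟩, hz⟩⟩
    rw [← C.ker_subschemeι_app V]
    exact RingHom.ker_isPrime _
  · right
    rw [← C.ker_subschemeι_app V, eq_top_iff]
    intro a _
    rw [RingHom.mem_ker]
    haveI : Subsingleton Γ(C.subscheme, C.subschemeι ⁻¹ᵁ V.1) := by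
      rw [show (C.subschemeι ⁻¹ᵁ V.1 : C.subscheme.Opens) = ⊥ from eq_bot_iff.2 fun z hz => hne ⟨⟨z, hz⟩⟩]
      infer_instance
    exact Subsingleton.elim _ _

/-- Distinct integral locally principal subschemes: the union is the sum. -/
theorem prod_eq_iInf {X : Scheme.{u}} [IsIntegral X] {n : ℕ} (C : Fin n → X.IdealSheafData)
    (hint : ∀ i, IsIntegral (C i).subscheme) (heff : ∀ i, BlowUp.IsEffCartierIdeal (C i))
    (hmax : ∀ i j, ((C i).support : Set X) ⊆ (C j).support → i = j) : ∏ i, C i = ⨅ i, C i := by
  classical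
  choose U hxU hU using fun x : X => show ∃ V : X.affineOpens, x ∈ V.1 ∧ ∀ i, ∃ a : Γ(X, V.1), (C i).ideal V = Ideal.span {a} from by
    choose W hxW a ha haW using fun i => heff i x
    let W' : X.Opens := ⟨⋂ i, ((W i).1 : Set X), isOpen_iInter_of_finite fun i => (W i).1.2⟩
    obtain ⟨V, hV, hxV, hVW⟩ := exists_isAffineOpen_mem_and_subset (x := x) (U := W') (Set.mem_iInter.2 hxW)
    refine ⟨⟨V, hV⟩, hxV, fun i => ?_⟩
    have hle : V ≤ (W i).1 := fun y hy => Set.mem_iInter.1 (hVW hy) i
    refine ⟨X.presheaf.map (homOfLE hle).op (a i), ?_⟩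
    rw [← (C i).map_ideal (U := ⟨V, hV⟩) (V := W i) hle, haW, Ideal.map_span, Set.image_singleton]
    rfl
  refine Scheme.IdealSheafData.ext_of_iSup_eq_top U (top_le_iff.1 fun x _ => TopologicalSpace.Opens.mem_iSup.2 ⟨x, hxU x⟩) fun x => ?_
  haveI : Nonempty (U x).1 := ⟨⟨x, hxU x⟩⟩
  have key : ∀ T : Finset (Fin n), (∏ i ∈ T, C i).ideal (U x) = T.inf fun i => (C i).ideal (U x) := by
    intro T
    induction T using Finset.induction with
    | empty =>
      rw [Finset.prod_empty, Finset.inf_empty, Scheme.IdealSheafData.one_eq_top, Scheme.IdealSheafData.ideal_top]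
      rfl
    | insert i T hi ih =>
      rw [Finset.prod_insert hi, Finset.inf_insert, Scheme.IdealSheafData.ideal_mul, Pi.mul_apply, ih]
      haveI := hint i
      rcases isPrime_or_eq_top (C i) (U x) with ⟨hp, hne⟩ | ht
      swap
      · rw [ht, Ideal.top_mul, top_inf_eq]
      refine le_antisymm Ideal.mul_le_inf fun z hz => ?_
      obtain ⟨hzi, hzT⟩ := hz
      obtain ⟨c, hc⟩ := hU x i
      obtain ⟨d, hd⟩ : ∃ d, (∏ j ∈ T, C j).ideal (U x) = Ideal.span {d} := by
        choose a ha using hU x
        refine ⟨∏ j ∈ T, a j, ?_⟩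
        clear ih hzT hi
        induction T using Finset.induction with
        | empty => simp [Scheme.IdealSheafData.one_eq_top]
        | insert j T hj ih =>
          rw [Finset.prod_insert hj, Finset.prod_insert hj, Scheme.IdealSheafData.ideal_mul, Pi.mul_apply, ha j, ih,
            Ideal.span_singleton_mul_span_singleton]
      have hdn : d ∉ (C i).ideal (U x) := fun hdi => by
        have hle : ∏ j ∈ T, (C j).ideal (U x) ≤ (C i).ideal (U x) := by
          refine le_trans Ideal.prod_le_inf ?_
          rw [← ih, hd, Ideal.span_singleton_le_iff_mem]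
          exact hdi
        obtain ⟨j, hjT, hj⟩ := (Ideal.IsPrime.prod_le hp).1 hle
        refine hi ((hmax i j ?_) ▸ hjT)
        haveI := hint i
        have hirr : IsIrreducible ((C i).support : Set X) := by
          rw [← Scheme.IdealSheafData.range_subschemeι, ← Set.image_univ]
          exact (IrreducibleSpace.isIrreducible_univ _).image _ (C i).subschemeι.continuous.continuousOn
        have hopen : ((C i).support : Set X) ∩ (U x).1 ⊆ (C j).support := fun z hz => by
          have h1 : z ∈ X.zeroLocus (U := (U x).1) ((C i).ideal (U x)) := ((C i).coe_support_inter (U x)).le hz |>.1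
          exact (((C j).coe_support_inter (U x)).ge ⟨X.zeroLocus_mono (SetLike.coe_subset_coe.2 hj) h1, hz.2⟩).1
        intro z hz
        exact (closure_minimal hopen (C j).support.isClosed)
          ((subset_closure_inter_of_isPreirreducible_of_isOpen hirr.2 (U x).1.2 hne) hz)
      rw [SetLike.mem_coe, ← ih, hd, Ideal.mem_span_singleton] at hzT
      obtain ⟨b, rfl⟩ := hzT
      rw [← ih, hd]
      rcases hp.mem_or_mem hzi with h | h
      · exact absurd h hdn
      · rw [mul_comm d b]
        exact Ideal.mul_mem_mul h (Ideal.mem_span_singleton_self d)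
  rw [key, Scheme.IdealSheafData.ideal_iInf, Finset.inf_univ_eq_iInf]
  simp

/-- Let k be an algebraically closed field and X an integral scheme of dimension two with all local
rings regular, admitting a closed immersion into some P^n_k over k. Let C_1, …, C_n be pairwise
distinct integral one-dimensional closed subschemes of X with ideal sheaves I_1, …, I_n, and let Y
be the reduced closed subscheme with ideal I_1 ∩ ⋯ ∩ I_n (their union); assume Y is connected. Then
χ(O_Y) ≤ 1, i.e. the arithmetic genus 1 - χ(O_Y) of Y is nonnegative. If moreover χ(O_Y) = 1, then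
χ(O_{C_i}) = 1 for every i (each C_i has arithmetic genus zero) and Σ_{i<j} (C_i · C_j) = n - 1, so
that the incidence graph of the C_i, which is connected with Σ_{i<j} (C_i · C_j) edges, contains no
cycle; here (C_i · C_j) = χ(O_X) - χ(I_i) - χ(I_j) + χ(I_i ⊗ I_j) is the intersection number
(packaged as FGA.intNum). (The published statement allows any integral projective surface regular in
codimension one; this row takes X with all local rings regular, where the intersection numbers used
by the proof are defined.) -/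
theorem result (k : Type u) [Field k] [IsAlgClosed k] (X : Scheme.{u}) [X.Over (Spec (CommRingCat.of k))]
    [IsIntegral X] (hdim : topologicalKrullDim X = 2)
    (hproj : ∃ (n : ℕ) (ι : X ⟶ CohB1.ProjSpace n k), IsClosedImmersion ι ∧ ι ≫ CohB1.ProjSpace.toSpec n k = (X ↘ (Spec (CommRingCat.of k))))
    (hreg : ∀ x : X, IsRegularLocalRing (X.presheaf.stalk x))
    (n : ℕ) (C : Fin n → X.IdealSheafData) (hCint : ∀ i, IsIntegral (C i).subscheme)
    (hCdim : ∀ i, topologicalKrullDim ((C i).support : Set X) = 1)
    (hCinj : Function.Injective fun i => ((C i).support : Set X))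
    (hconn : _root_.IsConnected ((⨅ i, C i).support : Set X)) :
    Curv2.euler k X (ClSub.quotMod (⨅ i, C i)) ≤ 1 ∧
      (Curv2.euler k X (ClSub.quotMod (⨅ i, C i)) = 1 →
        (∀ i, Curv2.euler k X (ClSub.quotMod (C i)) = 1) ∧
          (∑ i : Fin n, ∑ j : Fin n,
              if i < j then FGA.intNum k X 2 ![ClSub.idealMod (C i), ClSub.idealMod (C j)] (Coh.structureModule X) else 0) =
            (n : ℤ) - 1) := by
  classical
  obtain ⟨N, ι, hι, hfac⟩ := hproj
  haveI := hι
  haveI := PnCoh.Chow.isProper_toSpec N k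
  haveI : IsProper (X ↘ Spec (CommRingCat.of k)) := by
    rw [← hfac]
    infer_instance
  haveI : Smooth (X ↘ Spec (CommRingCat.of k)) :=
    CurveCohLib.RegularCurve.smooth_of_regular k fun x _ => hreg x
  have hI : ∀ i, PicF.IsInvertible (ClSub.idealMod (C i)) := fun i => SurfNef.invertible_ideal k hdim (hCint i) (hCdim i)
  have hE : ∀ i, BlowUp.IsEffCartierIdeal (C i) := fun i => (S8914.result _).1 (hI i)
  have hmax : ∀ i j, ((C i).support : Set X) ⊆ (C j).support → i = j := fun i j h => by
    haveI := hCint i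
    haveI := hCint j
    exact hCinj (congrArg (fun J : X.IdealSheafData => (J.support : Set X)) (SurfNegDef.eq_of_support_subset k (hCdim i) (hCdim j) h))
  have hprod := prod_eq_iInf C hCint hE hmax
  let G : Fin n → Fin n → ℤ := fun i j => SurfPairing.pair k (PicF.cl (ClSub.idealMod (C i))) (PicF.cl (ClSub.idealMod (C j)))
  have hGs : ∀ i j, G i j = G j i := fun i j => SurfPairing.pair_comm k _ _
  have hG0 : ∀ i j, i ≠ j → 0 ≤ G i j := fun i j hij => by
    haveI := hCint i
    exact SurfNegDef.pair_ideal_nonneg (k := k) hdim (SurfHodge.regular k) (hCdim i) (hE j) fun h => hij (hmax i j h)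
  have hn : 0 < n := by
    by_contra h0
    obtain rfl : n = 0 := by omega
    obtain ⟨z, hz⟩ := hconn.nonempty
    rw [iInf_of_empty, Scheme.IdealSheafData.support_top] at hz
    exact hz
  let s : Multiset X.IdealSheafData := (Finset.univ : Finset (Fin n)).val.map C
  have hs : ∀ D ∈ s, IsIntegral D.subscheme ∧ topologicalKrullDim (D.support : Set X) = 1 := fun D hD => by
    obtain ⟨i, -, rfl⟩ := Multiset.mem_map.1 hD
    exact ⟨hCint i, hCdim i⟩
  have hsp : s.prod = ⨅ i, C i := hprod
  have hsupp : ((⨅ i, C i).support : Set X) = ⋃ i, ((C i).support : Set X) := by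
    refine Set.Subset.antisymm (fun x hx => ?_) (Set.iUnion_subset fun i => ?_)
    · rw [← hsp] at hx
      obtain ⟨D, hD, hx⟩ := SurfRows.exists_mem_support s hx
      obtain ⟨i, -, rfl⟩ := Multiset.mem_map.1 hD
      exact Set.mem_iUnion.2 ⟨i, hx⟩
    · exact Scheme.IdealSheafData.support_antitone (iInf_le _ i)
  have hconn' : ∀ S : Finset (Fin n), S.Nonempty → Sᶜ.Nonempty → ∃ i ∈ S, ∃ j ∈ Sᶜ, 1 ≤ G i j := by
    intro S hS hS'
    obtain ⟨i₀, hi₀⟩ := hS
    obtain ⟨j₀, hj₀⟩ := hS'
    have hne : ∀ i, ((C i).support : Set X).Nonempty := fun i => by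
      haveI := hCint i
      obtain ⟨z⟩ : Nonempty (C i).subscheme := inferInstance
      exact ⟨_, (C i).range_subschemeι.le ⟨z, rfl⟩⟩
    have hA : IsClosed (⋃ i ∈ S, ((C i).support : Set X)) := isClosed_biUnion_finset fun i _ => (C i).support.isClosed
    have hB : IsClosed (⋃ i ∈ Sᶜ, ((C i).support : Set X)) := isClosed_biUnion_finset fun i _ => (C i).support.isClosed
    rw [hsupp] at hconn
    obtain ⟨z, hz, hzA, hzB⟩ := (isPreconnected_closed_iff.1 hconn.isPreconnected) _ _ hA hB (fun z hz => by
        obtain ⟨i, hi⟩ := Set.mem_iUnion.1 hz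
        by_cases h : i ∈ S
        · exact Or.inl (Set.mem_biUnion h hi)
        · exact Or.inr (Set.mem_biUnion (Finset.mem_compl.2 h) hi))
      (by obtain ⟨z, hz⟩ := hne i₀; exact ⟨z, Set.mem_iUnion.2 ⟨i₀, hz⟩, Set.mem_biUnion hi₀ hz⟩)
      (by obtain ⟨z, hz⟩ := hne j₀; exact ⟨z, Set.mem_iUnion.2 ⟨j₀, hz⟩, Set.mem_biUnion hj₀ hz⟩)
    obtain ⟨i, hi, hzi⟩ := Set.mem_iUnion₂.1 hzA
    obtain ⟨j, hj, hzj⟩ := Set.mem_iUnion₂.1 hzB
    refine ⟨i, hi, j, hj, ?_⟩
    have hij : i ≠ j := fun e => (Finset.mem_compl.1 hj) (e ▸ hi)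
    have hzs : z ∈ ((C i ⊔ C j).support : Set X) := by
      rw [Scheme.IdealSheafData.support_sup]
      exact ⟨hzi, hzj⟩
    have hfin : ((C i ⊔ C j).support : Set X).Finite := by
      let i' := (C i).subschemeι
      haveI := hCint i
      letI : (C i).subscheme.Over (Spec (CommRingCat.of k)) := ⟨i' ≫ (X ↘ (Spec (CommRingCat.of k)))⟩
      haveI : IsProper ((C i).subscheme ↘ Spec (CommRingCat.of k)) :=
        show IsProper (i' ≫ (X ↘ Spec (CommRingCat.of k))) from inferInstance
      haveI := CurveCohLib.isNoetherian_of_proper (k := k) (X := (C i).subscheme)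
      have hrange : Set.range i' = ((C i).support : Set X) := (C i).range_subschemeι
      have hd' : topologicalKrullDim (C i).subscheme = 1 := SurfRows.topologicalKrullDim_subscheme.trans (hCdim i)
      have hT : IsClosed (i' ⁻¹' ((C j).support : Set X)) := (C j).support.isClosed.preimage i'.continuous
      have hclosed : ∀ w ∈ i' ⁻¹' ((C j).support : Set X), IsClosed ({w} : Set (C i).subscheme) := fun w hw => by
        by_contra hw'
        rw [CurveCohLib.eq_genericPoint_of_not_isClosed hd' hw'] at hw
        refine hij (hmax i j fun y hy => ?_)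
        obtain ⟨v, rfl⟩ := hrange.ge hy
        exact (genericPoint_specializes v).mem_closed hT hw
      obtain ⟨S', hSf, hSc, hSi, hS⟩ := TopologicalSpace.NoetherianSpace.exists_finite_set_isClosed_irreducible hT
      have hfinT : (i' ⁻¹' ((C j).support : Set X)).Finite := by
        rw [hS]
        refine hSf.sUnion fun t ht => ?_
        obtain ⟨τ, hτ⟩ := QuasiSober.sober (hSi t ht) (hSc t ht)
        rw [← hτ.def, (hclosed τ (hS.ge ⟨t, ht, hτ.mem⟩)).closure_eq]
        exact Set.finite_singleton τ
      refine (hfinT.image i').subset fun y hy => ?_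
      rw [Scheme.IdealSheafData.support_sup] at hy
      obtain ⟨v, rfl⟩ := hrange.ge hy.1
      exact ⟨v, hy.2, rfl⟩
    have hd2 : ∀ Z ∈ irreducibleComponents (X : Type u), topologicalKrullDim Z = 2 := fun Z hZ => by
      rw [irreducibleComponents_eq_singleton] at hZ
      rw [Set.mem_singleton_iff.1 hZ, (Homeomorph.Set.univ X).isHomeomorph.topologicalKrullDim_eq, hdim]
    have h := InterFinite.intNum_eq k hd2 (fun x => by
      haveI := hreg x
      exact AvramovLib.isCM_of_regular _) (C i) (C j) (hE i) (hE j) hfin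
    rw [SurfPairing.intNum_eq_pair k hdim.le (hI i) (hI j)] at h
    show 1 ≤ SurfPairing.pair k _ _
    rw [h]
    have := SurfRows.one_le_h0 k (D := C i ⊔ C j) fun htop => by
      rw [htop, Scheme.IdealSheafData.support_top] at hzs
      exact hzs
    exact_mod_cast this
  have htree := tree_bound G hGs hG0 hconn' hn
  have hd := SurfRows.euler_prod k hdim s hs
  have hpairs : ∀ i, SurfPairing.pair k (PicF.cl (ClSub.idealMod (C i))) (PicF.cl (ClSub.idealMod s.prod)) = ∑ j, G i j := fun i => by
    rw [SurfPairing.pair_comm, (SurfRows.eff_prod k hdim s hs).2 _ (hI i), Multiset.map_map]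
    exact Finset.sum_congr rfl fun j _ => SurfPairing.pair_comm k _ _
  rw [Multiset.map_map] at hd
  replace hd : 2 * Curv2.euler k X (ClSub.quotMod s.prod) =
      ∑ i, (2 * Curv2.euler k X (ClSub.quotMod (C i)) + G i i - ∑ j, G i j) :=
    hd.trans (Finset.sum_congr rfl fun i _ => by
      show 2 * Curv2.euler k X (ClSub.quotMod (C i)) + G i i - SurfPairing.pair k _ _ = _
      rw [hpairs i])
  have hoff : ∀ i, ∑ j, G i j = G i i + ∑ j, (if i = j then 0 else G i j) := fun i => by
    rw [show (∑ j, if i = j then 0 else G i j) = ∑ j, (G i j - if i = j then G i j else 0) from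
      Finset.sum_congr rfl fun j _ => by split <;> simp, Finset.sum_sub_distrib, Finset.sum_ite_eq, if_pos (Finset.mem_univ i)]
    ring
  have hlt : (∑ i, ∑ j, if i = j then 0 else G i j) = 2 * ∑ i, ∑ j, if i < j then G i j else 0 := by
    have hsplit : ∀ i j : Fin n, (if i = j then (0 : ℤ) else G i j) =
        (if i < j then G i j else 0) + (if j < i then G j i else 0) := fun i j => by
      rcases lt_trichotomy i j with h | h | h
      · rw [if_neg h.ne, if_pos h, if_neg h.asymm, add_zero]
      · subst h; simp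
      · rw [if_neg h.ne', if_neg h.asymm, if_pos h, zero_add, hGs]
    simp only [hsplit, Finset.sum_add_distrib]
    rw [Finset.sum_comm (f := fun i j => if j < i then G j i else 0)]
    ring
  have hE' : Curv2.euler k X (ClSub.quotMod (⨅ i, C i)) =
      ∑ i, Curv2.euler k X (ClSub.quotMod (C i)) - ∑ i, ∑ j, if i < j then G i j else 0 := by
    rw [← hsp]
    simp only [hoff, Finset.sum_sub_distrib, Finset.sum_add_distrib, ← Finset.mul_sum] at hd
    linarith
  have hone : ∀ i, Curv2.euler k X (ClSub.quotMod (C i)) ≤ 1 := fun i =>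
    SurfRows.euler_curve_le_one k hdim (hCint i) (hCdim i)
  have hsum : ∑ i, Curv2.euler k X (ClSub.quotMod (C i)) ≤ (n : ℤ) :=
    (Finset.sum_le_sum fun i _ => hone i).trans (by simp)
  refine ⟨by linarith, fun he => ?_⟩
  have hEn : ∑ i, Curv2.euler k X (ClSub.quotMod (C i)) = (n : ℤ) := by linarith
  refine ⟨fun i => ?_, ?_⟩
  · refine le_antisymm (hone i) ?_
    by_contra hlt'
    have := Finset.sum_lt_sum (fun j _ => hone j) ⟨i, Finset.mem_univ i, not_le.1 hlt'⟩
    simp at this
    omega
  · refine Eq.trans (Finset.sum_congr rfl fun i _ => Finset.sum_congr rfl fun j _ => ?_)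
      (show (∑ i, ∑ j, if i < j then G i j else 0) = (n : ℤ) - 1 by linarith)
    split
    · exact SurfPairing.intNum_eq_pair k hdim.le (hI i) (hI j)
    · rfl

end Groth.Agent.S14700
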