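import Groth.Statements.S15544
import Groth.Agent.Lib.ZarConn
import Groth.Agent.Lib.NormalPush

set_option autoImplicit false
open CategoryTheory AlgebraicGeometry
universe u
open Coherent

namespace Groth.Agent.S15544

/-- Let X and Y be integral schemes, Y locally Noetherian with all local rings integrally closed, and f
: X ⟶ Y a proper birational morphism (the generic point of X maps to that of Y and the stalk map
there is an isomorphism). Then every fibre of f is connected and nonempty. (The published statement
takes X and Y Noetherian; over a locally Noetherian Y this is the same assertion fibre by fibre.) -/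
theorem result {X Y : Scheme.{u}} [IsIntegral X]
    [IsIntegral Y] [IsLocallyNoetherian Y] (hY : Pi1.IsNormalScheme Y) (f : X ⟶ Y) [IsProper f]
    (hgen : f.base (genericPoint X) = genericPoint Y) (hbir : IsIso (f.stalkMap (genericPoint X)))
    (y : Y) : ConnectedSpace ↥(f.fiber y) := by
  haveI := hbir
  have hdom : f.base (genericPoint X) ⤳ genericPoint Y := (Inseparable.of_eq hgen).specializes
  refine Groth.Agent.ZarConn.connectedSpace_fibre f (fun V => Groth.Agent.Lib.NormalPush.isIso_app hY f hdom (fun x _ => ?_) V) y
  haveI : IsIso (Y.presheaf.stalkSpecializes hdom) := by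
    have hrev : genericPoint Y ⤳ f.base (genericPoint X) := (Inseparable.of_eq hgen.symm).specializes
    exact ⟨Y.presheaf.stalkSpecializes hrev, by simp, by simp⟩
  obtain ⟨a, ha⟩ := (ConcreteCategory.bijective_of_isIso (Y.presheaf.stalkSpecializes hdom ≫ f.stalkMap (genericPoint X))).2 x
  exact ⟨a, ha⟩

end Groth.Agent.S15544
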