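import Groth.Statements.S14701
import Groth.Agent.S14698
import Groth.Agent.S14700
import Groth.Agent.S7834
import Groth.Agent.S15544
import Groth.Agent.ExcVan.Main
import Groth.Agent.H23.EquidimFibres

set_option backward.isDefEq.respectTransparency false
set_option backward.isDefEq.respectTransparency.types false
set_option maxHeartbeats 1000000

set_option autoImplicit false
universe u
open CategoryTheory CategoryTheory.Limits AlgebraicGeometry
open Resolve

namespace Groth.Agent.S14701

open TopologicalSpace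

/-- The first cohomology of a subscheme over the point vanishes. -/
theorem h1_quot {X Y : Scheme.{u}} [IsIntegral X] [IsIntegral Y] [IsLocallyNoetherian X] (φ : Y ⟶ X) [IsProper φ]
    (hd : topologicalKrullDim X ≤ (2 : ℕ)) (U : X.Opens) (hU : (U : Set X).Nonempty) [IsIso (φ ∣_ U)]
    (h : IsZero ((Coh.RpushAb φ 1).obj (Coh.toAb (Coh.structureModule Y)))) (x : X)
    (W : Y.IdealSheafData) (hW : (W.support : Set Y) ⊆ φ.base ⁻¹' {x}) :
    Subsingleton (Coh.HH Y (ClSub.quotMod W) 1) := by
  obtain ⟨V, hV, hxV, -⟩ := exists_isAffineOpen_mem_and_subset (x := x) (U := ⊤) trivial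
  have h1 : Subsingleton (Coh.HH (φ ⁻¹ᵁ V).toScheme (Coh.structureModule _) 1) :=
    QCoh.subsingleton_HH_of_iso (RelPC17.restrictStructureIso (φ ⁻¹ᵁ V).ι) 1
      (H28.BlowHH.hh_of_rz φ (QCoh.isQCoh_structureModule (X := Y)) 0 h hV)
  rw [ExcVan.hh_quot_iff (φ ⁻¹ᵁ V) W (fun y hy => show φ y ∈ V by rw [show φ y = x from hW hy]; exact hxV) 1]
  haveI : IsAffine V.toScheme := hV
  haveI := ClosedHom7.epi_toSubscheme (W.comap (φ ⁻¹ᵁ V).ι)
  haveI : Nonempty V := ⟨⟨x, hxV⟩⟩
  haveI : IsIntegral V.toScheme := isIntegral_of_isOpenImmersion V.ι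
  have hne : ((U : Set X) ∩ (V : Set X)).Nonempty :=
    nonempty_preirreducible_inter U.isOpen V.isOpen hU ⟨x, hxV⟩
  haveI : IsIso (φ ∣_ V ∣_ (V.ι ⁻¹ᵁ U)) := by
    haveI : IsIso (φ ∣_ (V ⊓ U)) := PointBlow.isIso_restrict_mono φ (U := U) inf_le_right
    have h : MorphismProperty.isomorphisms Scheme (φ ∣_ (V.ι ''ᵁ (V.ι ⁻¹ᵁ U))) := by
      rw [(MorphismProperty.isomorphisms Scheme).arrow_mk_iso_iff (morphismRestrictEq φ
        (show V.ι ''ᵁ (V.ι ⁻¹ᵁ U) = V ⊓ U by rw [V.ι.image_preimage_eq_opensRange_inf, V.opensRange_ι]))]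
      exact ‹IsIso (φ ∣_ (V ⊓ U))›
    exact ((MorphismProperty.isomorphisms Scheme).arrow_mk_iso_iff (morphismRestrictRestrict φ V _)).2 h
  haveI : Nonempty (φ ⁻¹ᵁ V : Y.Opens) := by
    obtain ⟨y, hy⟩ := H26.BiratFibre.surjective φ hU x
    exact ⟨⟨y, show φ y ∈ V by rw [hy]; exact hxV⟩⟩
  haveI : IsIntegral (φ ⁻¹ᵁ V).toScheme := isIntegral_of_isOpenImmersion (φ ⁻¹ᵁ V).ι
  have hne' : ((V.ι ⁻¹ᵁ U : V.toScheme.Opens) : Set V.toScheme).Nonempty := by
    obtain ⟨z, hzU, hzV⟩ := hne
    exact ⟨⟨z, hzV⟩, hzU⟩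
  have hdV : topologicalKrullDim ↥V.toScheme ≤ (2 : ℕ) :=
    V.ι.isOpenEmbedding.isInducing.topologicalKrullDim_le.trans hd
  exact (RelPC17.DimOne.hmap_surjective (φ ∣_ V)
    (RelPC17.BirFibre.fibre_dim_le_one (φ ∣_ V) hdV (V.ι ⁻¹ᵁ U) hne')
    (ClSub.toSubscheme (W.comap (φ ⁻¹ᵁ V).ι)) (QCoh.isQCoh_structureModule (X := (φ ⁻¹ᵁ V).toScheme))
    (QCoh.isQCoh_pushforward _ (QCoh.isQCoh_structureModule (X := (W.comap (φ ⁻¹ᵁ V).ι).subscheme)))).subsingleton

/-- Let k be an algebraically closed field and X an integral normal scheme of dimension two admitting a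
closed immersion into some P^n_k over k. Let φ : Y → X be a k-morphism from an integral scheme Y of
dimension two with all local rings regular, itself admitting a closed immersion into some P^m_k over
k, which restricts to an isomorphism over an open subset U of X with finite complement, and assume
R^1 φ_* O_Y = 0 (first right derived functor of the direct image on abelian sheaves), so that the
singular points of X are rational singularities. Let x be a point of X whose local ring is not
regular and E_1, …, E_n pairwise distinct integral one-dimensional closed subschemes of Y mapped by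
φ to x such that every integral one-dimensional closed subscheme of Y mapped to x has the support of
one of them. Then every E_i is isomorphic to the projective line P^1_k, and Σ_{i<j} (E_i · E_j) = n
- 1, so that the incidence graph of the E_i (connected, as the fibre is connected) is a tree; here
(E_i · E_j) = χ(O_Y) - χ(I_i) - χ(I_j) + χ(I_i ⊗ I_j), I_i the ideal sheaves (packaged as
FGA.intNum). (The published statement is for a resolved model, whose exceptional curves are
nonsingular with normal crossings, and takes rationality in any of five forms it quotes as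
equivalent; this row assumes the vanishing of R^1 φ_* O_Y, the first of them, and the passage from
it to the nonpositivity of arithmetic genera of exceptional cycles used in the proof is taken from
the literature.) -/
theorem result (k : Type u) [Field k] [IsAlgClosed k] (X : Scheme.{u}) [X.Over (Spec (CommRingCat.of k))]
    [IsIntegral X] (hdim : topologicalKrullDim X = 2)
    (hproj : ∃ (n : ℕ) (ι : X ⟶ CohB1.ProjSpace n k), IsClosedImmersion ι ∧ ι ≫ CohB1.ProjSpace.toSpec n k = (X ↘ (Spec (CommRingCat.of k))))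
    (hnorm : Pi1.IsNormalScheme X) (U : X.Opens) (hU : ((U : Set X)ᶜ).Finite)
    (Y : Scheme.{u}) (φ : Y ⟶ X) [IsIntegral Y] (hdimY : topologicalKrullDim Y = 2)
    (hregY : ∀ y : Y, IsRegularLocalRing (Y.presheaf.stalk y))
    (hprojY : ∃ (n : ℕ) (ι : Y ⟶ CohB1.ProjSpace n k), IsClosedImmersion ι ∧ ι ≫ CohB1.ProjSpace.toSpec n k = φ ≫ (X ↘ (Spec (CommRingCat.of k))))
    (hisoY : IsIso (φ ∣_ U))
    (hrat : IsZero ((Coh.RpushAb φ 1).obj (Coh.toAb (Coh.structureModule Y))))
    (x : X) (hx : ¬ IsRegularLocalRing (X.presheaf.stalk x))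
    (n : ℕ) (E : Fin n → Y.IdealSheafData) (hEint : ∀ i, IsIntegral (E i).subscheme)
    (hEdim : ∀ i, topologicalKrullDim ((E i).support : Set Y) = 1)
    (hEpt : ∀ i, φ.base '' ((E i).support : Set Y) = {x})
    (hEinj : Function.Injective fun i => ((E i).support : Set Y))
    (hEall : ∀ F : Y.IdealSheafData, IsIntegral F.subscheme → topologicalKrullDim (F.support : Set Y) = 1 →
      φ.base '' (F.support : Set Y) = {x} → ∃ i, (F.support : Set Y) = (E i).support) :
    letI : Y.Over (Spec (CommRingCat.of k)) := ⟨φ ≫ (X ↘ (Spec (CommRingCat.of k)))⟩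
    (∀ i, Nonempty ((E i).subscheme ≅ CohB1.ProjSpace 1 k)) ∧
      (∑ i : Fin n, ∑ j : Fin n,
          if i < j then FGA.intNum k Y 2 ![ClSub.idealMod (E i), ClSub.idealMod (E j)] (Coh.structureModule Y) else 0) =
        (n : ℤ) - 1 := by
  classical
  letI : Y.Over (Spec (CommRingCat.of k)) := ⟨φ ≫ (X ↘ (Spec (CommRingCat.of k)))⟩
  obtain ⟨N, ι, hι, hιk⟩ := hproj
  obtain ⟨M, ι', hι', hι'k⟩ := hprojY
  have hprojY' : ∃ (n : ℕ) (ι : Y ⟶ CohB1.ProjSpace n k), IsClosedImmersion ι ∧
      ι ≫ CohB1.ProjSpace.toSpec n k = (Y ↘ (Spec (CommRingCat.of k))) := ⟨M, ι', hι', hι'k⟩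
  haveI := hι; haveI := hι'
  haveI : IsProper (CohB1.ProjSpace.toSpec N k) := PnCoh.Chow.isProper_toSpec N k
  haveI : IsProper (CohB1.ProjSpace.toSpec M k) := PnCoh.Chow.isProper_toSpec M k
  haveI : IsProper (X ↘ Spec (CommRingCat.of k)) := hιk ▸ inferInstance
  haveI hYp : IsProper (φ ≫ (X ↘ Spec (CommRingCat.of k))) := hι'k ▸ inferInstance
  haveI : IsProper (Y ↘ Spec (CommRingCat.of k)) := hYp
  haveI : IsProper φ := IsProper.of_comp φ (X ↘ Spec (CommRingCat.of k))
  haveI : Smooth (Y ↘ Spec (CommRingCat.of k)) :=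
    CurveCohLib.RegularCurve.smooth_of_regular k fun y _ => hregY y
  haveI : JacobsonSpace X := LocallyOfFiniteType.jacobsonSpace (X ↘ Spec (CommRingCat.of k))
  haveI : IsLocallyNoetherian X := LocallyOfFiniteType.isLocallyNoetherian (X ↘ Spec (CommRingCat.of k))
  haveI : IsLocallyNoetherian Y := LocallyOfFiniteType.isLocallyNoetherian (φ ≫ (X ↘ Spec (CommRingCat.of k)))
  haveI := hisoY
  have hxU : x ∉ U := fun hxU => hx (by
    obtain ⟨z, hz⟩ := (ConcreteCategory.bijective_of_isIso (φ ∣_ U).base).2 ⟨x, hxU⟩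
    have e : φ z.1 = x := (morphismRestrict_base_coe φ U z).symm.trans (congrArg Subtype.val hz)
    subst e
    haveI : IsIso (φ.stalkMap z.1) :=
      (MorphismProperty.isomorphisms CommRingCat).arrow_mk_iso_iff
        (morphismRestrictStalkMap φ U z) |>.1 (inferInstanceAs (IsIso _))
    haveI := hregY z.1
    exact IsRegularLocalRing.of_ringEquiv (asIso (φ.stalkMap z.1)).commRingCatIsoToRingEquiv.symm)
  have hxc : IsClosed ({x} : Set X) := by
    refine isClosed_singleton_of_isLocallyClosed_singleton ?_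
    have h1 : IsClosed ((U : Set X)ᶜ) := U.2.isClosed_compl
    haveI : Finite ↥((U : Set X)ᶜ) := hU.to_subtype
    haveI : JacobsonSpace ↥((U : Set X)ᶜ) := .of_isClosedEmbedding h1.isClosedEmbedding_subtypeVal
    have h2 := h1.isClosedEmbedding_subtypeVal.isClosedMap _ (isClosed_discrete ({⟨x, hxU⟩} : Set ↥((U : Set X)ᶜ)))
    rw [Set.image_singleton] at h2
    exact h2.isLocallyClosed
  have hUne : (U : Set X).Nonempty := by
    by_contra h
    rw [Set.not_nonempty_iff_eq_empty] at h
    rw [h, Set.compl_empty] at hU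
    haveI : Finite X := Set.finite_univ_iff.1 hU
    have hgen : IsClosed ({genericPoint X} : Set X) := isClosed_discrete _
    have h1 : x = genericPoint X := (genericPoint_specializes x).mem_closed hgen rfl
    apply hx
    rw [h1]
    exact (inferInstanceAs (IsRegularLocalRing X.functionField))
  obtain ⟨hFne, hFdim⟩ := S14698.result k X hdim ⟨N, ι, hι, hιk⟩ hnorm U hU Y φ hdimY hregY ⟨M, ι', hι', hι'k⟩
    hisoY x hx
  have hF : IsClosed (φ.base ⁻¹' ({x} : Set X)) := hxc.preimage φ.continuous
  have hcover : φ.base ⁻¹' ({x} : Set X) = ⋃ i, ((E i).support : Set Y) := by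
    refine Set.Subset.antisymm (fun y hy => ?_) (Set.iUnion_subset fun i y hy => ?_)
    · let T := irreducibleComponent (⟨y, hy⟩ : ↥(φ.base ⁻¹' ({x} : Set X)))
      have hT := irreducibleComponent_mem_irreducibleComponents (⟨y, hy⟩ : ↥(φ.base ⁻¹' ({x} : Set X)))
      let S : Set Y := Subtype.val '' T
      have hSc : IsClosed S := hF.isClosedEmbedding_subtypeVal.isClosedMap _ (isClosed_of_mem_irreducibleComponents T hT)
      have hSi : IsIrreducible S := hT.1.image _ continuous_subtype_val.continuousOn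
      have hSd : topologicalKrullDim ↥S = 1 := by
        rw [← (Topology.IsEmbedding.subtypeVal.homeomorphImage T).isHomeomorph.topologicalKrullDim_eq]
        exact hFdim T hT
      have hsupp : ((Scheme.IdealSheafData.vanishingIdeal ⟨S, hSc⟩).support : Set Y) = S :=
        Scheme.IdealSheafData.coe_support_vanishingIdeal ⟨S, hSc⟩
      have hyS : y ∈ S := ⟨⟨y, hy⟩, mem_irreducibleComponent, rfl⟩
      obtain ⟨i, hi⟩ := hEall (Scheme.IdealSheafData.vanishingIdeal ⟨S, hSc⟩)
        (by
          obtain ⟨ξ, hξ⟩ := QuasiSober.sober hSi hSc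
          rw [show (⟨S, hSc⟩ : Closeds Y) = Closeds.closure {ξ} from Closeds.ext hξ.def.symm]
          exact QCoh.isIntegral_closure_point ξ) (by rw [hsupp]; exact hSd) (by
          rw [hsupp]
          refine Set.Subset.antisymm ?_ ?_
          · rintro _ ⟨z, ⟨w, -, rfl⟩, rfl⟩
            exact w.2
          · rintro _ rfl
            exact ⟨y, hyS, hy⟩)
      rw [hsupp] at hi
      exact Set.mem_iUnion.2 ⟨i, hi ▸ hyS⟩
    · exact (hEpt i).subset ⟨y, hy, rfl⟩
  have hgen : φ (genericPoint Y) = genericPoint X := H26.BiratFibre.apply_genericPoint_eq φ hUne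
  have hgU : genericPoint Y ∈ φ ⁻¹ᵁ U := by
    show φ (genericPoint Y) ∈ U
    rw [hgen]; exact ((genericPoint_spec X).mem_open_set_iff U.2).2 (by simpa using hUne)
  have hbir : IsIso (φ.stalkMap (genericPoint Y)) :=
    (MorphismProperty.isomorphisms CommRingCat).arrow_mk_iso_iff
      (morphismRestrictStalkMap φ U ⟨genericPoint Y, hgU⟩) |>.1 (inferInstanceAs (IsIso _))
  have hconn : _root_.IsConnected (φ.base ⁻¹' ({x} : Set X)) := by
    haveI := S15544.result hnorm φ hgen hbir x
    rw [show φ.base ⁻¹' ({x} : Set X) = Set.range (φ.fiberι x) from (φ.range_fiberι x).symm]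
    exact isConnected_range (φ.fiberι x).continuous
  have hinj' : Function.Injective fun i => ((E i).support : Set Y) := hEinj
  have hmax : ∀ i j, ((E i).support : Set Y) ⊆ (E j).support → i = j := fun i j h => by
    haveI := hEint i
    haveI := hEint j
    exact hEinj (congrArg (fun J : Y.IdealSheafData => (J.support : Set Y))
      (SurfNegDef.eq_of_support_subset k (hEdim i) (hEdim j) h))
  have hI : ∀ i, BlowUp.IsEffCartierIdeal (E i) := fun i =>
    (S8914.result _).1 (SurfNef.invertible_ideal k hdimY (hEint i) (hEdim i))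
  let s : Multiset Y.IdealSheafData := (Finset.univ : Finset (Fin n)).val.map E
  have hs : ∀ D ∈ s, IsIntegral D.subscheme ∧ topologicalKrullDim (D.support : Set Y) = 1 := fun D hD => by
    obtain ⟨i, -, rfl⟩ := Multiset.mem_map.1 hD
    exact ⟨hEint i, hEdim i⟩
  have hsp : s.prod = ⨅ i, E i := S14700.prod_eq_iInf E hEint hI hmax
  have hsupp : ((⨅ i, E i).support : Set Y) = φ.base ⁻¹' ({x} : Set X) := by
    rw [hcover]
    refine Set.Subset.antisymm (fun z hz => ?_) (Set.iUnion_subset fun i => ?_)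
    · rw [← hsp] at hz
      obtain ⟨D, hD, hz⟩ := SurfRows.exists_mem_support s hz
      obtain ⟨i, -, rfl⟩ := Multiset.mem_map.1 hD
      exact Set.mem_iUnion.2 ⟨i, hz⟩
    · exact Scheme.IdealSheafData.support_antitone (iInf_le _ i)
  have hd2 : topologicalKrullDim X ≤ (2 : ℕ) := hdim.le
  have hchi : Curv2.euler k Y (ClSub.quotMod (⨅ i, E i)) = 1 := by
    have hle := (S14700.result k Y hdimY hprojY' hregY n E hEint hEdim hEinj (hsupp ▸ hconn)).1
    have hE := SurfRows.euler_eq_prod k hdimY s hs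
    rw [hsp] at hE
    haveI := h1_quot φ hd2 U hUne hrat x (⨅ i, E i) hsupp.le
    rw [Module.finrank_zero_of_subsingleton (M := Coh.HH Y (ClSub.quotMod (⨅ i, E i)) 1)] at hE
    have h0 := SurfRows.one_le_h0 k (D := ⨅ i, E i) fun htop => by
      obtain ⟨z, hz⟩ := hconn.nonempty
      rw [← hsupp, htop, Scheme.IdealSheafData.support_top] at hz
      exact hz
    omega
  obtain ⟨-, hres⟩ := S14700.result k Y hdimY hprojY' hregY n E hEint hEdim hEinj (hsupp ▸ hconn)
  refine ⟨fun i => ?_, (hres hchi).2⟩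
  haveI := hEint i
  let C := (E i).subscheme
  letI : C.Over (Spec (CommRingCat.of k)) := ⟨(E i).subschemeι ≫ (Y ↘ Spec (CommRingCat.of k))⟩
  haveI : IsProper (C ↘ Spec (CommRingCat.of k)) :=
    inferInstanceAs (IsProper ((E i).subschemeι ≫ (Y ↘ Spec (CommRingCat.of k))))
  haveI : GeometricallyIntegral (C ↘ Spec (CommRingCat.of k)) :=
    haveI : IsIntegral (Over.mk (C ↘ Spec (CommRingCat.of k))).left := hEint i
    haveI : LocallyOfFiniteType (Over.mk (C ↘ Spec (CommRingCat.of k))).hom :=
      inferInstanceAs (LocallyOfFiniteType (C ↘ Spec (CommRingCat.of k)))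
    H23.EquidimFibres.geometricallyIntegral_of_isAlgClosed (V := Over.mk (C ↘ Spec (CommRingCat.of k)))
  haveI : IsSepClosed k := inferInstance
  have hd1 : topologicalKrullDim C = 1 := SurfRows.topologicalKrullDim_subscheme.trans (hEdim i)
  have hg : Curv2.genus k C = 0 := by
    have hq := h1_quot φ hd2 U hUne hrat x (E i) fun y hy => (hEpt i).subset ⟨y, hy, rfl⟩
    obtain ⟨e⟩ := QCoh.HH_push_of_isAffineHom (E i).subschemeι (QCoh.isQCoh_structureModule (X := C)) 1
    haveI : Subsingleton (Coh.HH C (Coh.structureModule C) 1) := @Equiv.subsingleton _ _ e.toEquiv hq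
    exact Module.finrank_zero_of_subsingleton
  obtain ⟨e, -⟩ := S7834.result k C hd1 hg
  exact ⟨e⟩

end Groth.Agent.S14701
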