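import Groth.Statements.S14702
import Groth.Agent.Lib.DualSheaf
import Groth.Agent.Lib.ExtShCoh
import Groth.Agent.Lib.ClosedShriek
import Groth.Agent.Lib.TopFormsPn
import Groth.Agent.Lib.SmoothPn
import Groth.Agent.ModTensor.SheafHom
import Groth.Agent.KFlatLib.Scheme.RpushRestrict
import Groth.Agent.KFlatLib.Scheme.LocalDevissage
import Groth.Agent.CurveCohLib.RegularCurve
import Groth.Agent.CurveFin.RelDim
import Groth.Agent.PnCoh.Chow.Proper
import Groth.Agent.Synt29.ExtPowPull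
import Groth.Agent.S13313
import Groth.Agent.S11318
import Groth.Agent.S11906
import Groth.Agent.S9370
import Groth.Agent.S9776
import Groth.Agent.S10829
-- import your own Groth.Agent.* helpers here

set_option autoImplicit false
set_option backward.isDefEq.respectTransparency false
set_option backward.isDefEq.respectTransparency.types false
set_option maxHeartbeats 1000000
universe u
open CategoryTheory CategoryTheory.Limits AlgebraicGeometry
open ProjDual

namespace Groth.Agent.S14702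

open Groth.Agent TopologicalSpace

theorem exists_preimage_eq {X P : Scheme.{u}} (ι : X ⟶ P) [IsClosedImmersion ι] (U : X.Opens) :
    ∃ V : P.Opens, ι ⁻¹ᵁ V = U := by
  obtain ⟨O, hO, hOU⟩ := ι.isEmbedding.isInducing.isOpen_iff.1 U.2
  exact ⟨⟨O, hO⟩, Opens.ext hOU⟩

/-- Two sheaves with the same top forms description along a closed immersion into projective space. -/
theorem restrict_iso {k : Type u} [Field k] {N : ℕ} {X : Scheme.{u}}
    (ι : X ⟶ CohB1.ProjSpace N k) [IsClosedImmersion ι] (f : X ⟶ Spec (CommRingCat.of k))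
    (hι : ι ≫ CohB1.ProjSpace.toSpec N k = f) (V : (CohB1.ProjSpace N k).Opens) (d : ℕ)
    [SmoothOfRelativeDimension d ((ι ⁻¹ᵁ V).ι ≫ f)]
    (ω : X.Modules) (hω : Coh.IsCoh ω)
    (I : InjectiveResolution (Twist.twistProjSpace N k (-((N : ℤ) + 1))))
    (eω : (Scheme.Modules.pushforward ι).obj ω ≅
      (ExtShShift.cx I ((Scheme.Modules.pushforward ι).obj (Coh.structureModule X))).homology (N - d))
    (W : ((ι ⁻¹ᵁ V : X.Opens) : Scheme.{u}).Modules)
    (hW : ExtPow.IsExtPow d (Omega.sheaf ((ι ⁻¹ᵁ V).ι ≫ f)) W) :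
    Nonempty ((Scheme.Modules.restrictFunctor (ι ⁻¹ᵁ V).ι).obj ω ≅ W) := by
  haveI := NegVanStalk.noetherian k N
  haveI : IsLocallyNoetherian X := LocallyOfFiniteType.isLocallyNoetherian ι
  have hgf : (ι ∣_ V) ≫ V.ι ≫ CohB1.ProjSpace.toSpec N k = (ι ⁻¹ᵁ V).ι ≫ f := by
    rw [morphismRestrict_ι_assoc, hι]
  haveI : SmoothOfRelativeDimension N (CohB1.ProjSpace.toSpec N k) :=
    SmoothPn.smoothOfRelativeDimension_toSpec N k
  haveI : SmoothOfRelativeDimension N (V.ι ≫ CohB1.ProjSpace.toSpec N k) :=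
    by simpa only [zero_add] using
      (inferInstance : SmoothOfRelativeDimension (0 + N) (V.ι ≫ CohB1.ProjSpace.toSpec N k))
  -- top forms on `V`
  let g := CohB1.ProjSpace.toSpec N k
  have hcast : (-((N : ℤ) + 1)) = -((N + 1 : ℕ) : ℤ) := by push_cast; ring
  have hΩ : ExtPow.IsExtPow N (Omega.sheaf g) (Twist.twistProjSpace N k (-((N : ℤ) + 1))) := by
    rw [hcast]; exact TopFormsPn.isExtPow_twist N k
  obtain ⟨cΩ, hcΩ, -⟩ := S9370.result g (V.ι ≫ g) V.ι (𝟙 _) (by rw [Category.comp_id]) (Omega.sheaf g)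
    (OmegaSh.dOmega g) (OmegaUniv.isUniversal_dOmega g) (Omega.sheaf (V.ι ≫ g)) (OmegaSh.dOmega (V.ι ≫ g))
    (OmegaUniv.isUniversal_dOmega (V.ι ≫ g))
  haveI : IsIso cΩ := S9776.result g (V.ι ≫ g) V.ι (𝟙 _) (by rw [Category.comp_id]) (Omega.sheaf g)
    (OmegaSh.dOmega g) (OmegaUniv.isUniversal_dOmega g) (Omega.sheaf (V.ι ≫ g)) (OmegaSh.dOmega (V.ι ≫ g))
    (OmegaUniv.isUniversal_dOmega (V.ι ≫ g)) cΩ hcΩ
  have hΩV := S13313.isExtPow_of_iso_right
    ((Scheme.Modules.restrictFunctorIsoPullback V.ι).symm.app _)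
    (Synt29.ExtPowPull.isExtPow_of_iso (asIso cΩ)
      (Synt29.ExtPowPull.isExtPow_pullback V.ι (OmegaUniv.isQCoh_omega g) hΩ))
  let G := (Scheme.Modules.pushforward (ι ∣_ V)).obj (Coh.structureModule ((ι ⁻¹ᵁ V : X.Opens) : Scheme.{u}))
  haveI : ModSite.HasSheafHom (O := V.toScheme.sheaf) G := ModTensor.hasSheafHom _
  haveI : IsGrothendieckAbelian.{u} (ModSite.Mod V.toScheme.sheaf) :=
    inferInstanceAs (IsGrothendieckAbelian.{u} V.toScheme.Modules)
  haveI : EnoughInjectives (ModSite.Mod V.toScheme.sheaf) := inferInstance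
  haveI : HasInjectiveResolutions (ModSite.Mod V.toScheme.sheaf) := inferInstance
  obtain ⟨e1⟩ := S11906.result (Spec (CommRingCat.of k)) V.toScheme ((ι ⁻¹ᵁ V : X.Opens) : Scheme.{u})
    (V.ι ≫ g) ((ι ⁻¹ᵁ V).ι ≫ f) (ι ∣_ V) hgf N d _ hΩV W hW
  let I' := ExtShLocal.restrictRes V.ι I
  obtain ⟨e2⟩ := ExtShShift.nonempty_extSh_iso I' G (N - d)
  obtain ⟨e3⟩ := ExtShCoh.nonempty_homology_restrict V.ι I
    ((Scheme.Modules.pushforward ι).obj (Coh.structureModule X)) (N - d)
  let a : (Scheme.Modules.restrictFunctor V.ι).obj ((Scheme.Modules.pushforward ι).obj (Coh.structureModule X)) ≅ G :=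
    (KFlatLib.pushRestrictIso ι V).app _ ≪≫
      (Scheme.Modules.pushforward (ι ∣_ V)).mapIso (KFlatLib.restrictStructureIso (ι ⁻¹ᵁ V).ι)
  let ah : SheafHomX.hom G ≅
      SheafHomX.hom ((Scheme.Modules.restrictFunctor V.ι).obj ((Scheme.Modules.pushforward ι).obj (Coh.structureModule X))) :=
    { hom := SheafHomX.homMap a.hom
      inv := SheafHomX.homMap a.inv
      hom_inv_id := NatTrans.ext (funext fun M => by
        rw [NatTrans.comp_app, ← SheafHomX.homMap_comp, Iso.inv_hom_id, SheafHomX.homMap_id]; rfl)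
      inv_hom_id := NatTrans.ext (funext fun M => by
        rw [NatTrans.comp_app, ← SheafHomX.homMap_comp, Iso.hom_inv_id, SheafHomX.homMap_id]; rfl) }
  let e4 : (ExtShShift.cx I' G).homology (N - d) ≅
      (ExtShShift.cx I' ((Scheme.Modules.restrictFunctor V.ι).obj
        ((Scheme.Modules.pushforward ι).obj (Coh.structureModule X)))).homology (N - d) :=
    HomologicalComplex.homologyMapIso ((NatIso.mapHomologicalComplex ah _).app I'.cocomplex) _
  let e5 : (Scheme.Modules.pushforward (ι ∣_ V)).obj ((Scheme.Modules.restrictFunctor (ι ⁻¹ᵁ V).ι).obj ω) ≅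
      (Scheme.Modules.pushforward (ι ∣_ V)).obj W :=
    ((KFlatLib.pushRestrictIso ι V).app ω).symm ≪≫ (Scheme.Modules.restrictFunctor V.ι).mapIso eω ≪≫
      e3 ≪≫ e4.symm ≪≫ e2.symm ≪≫ e1.symm
  exact DualSheaf.nonempty_iso_of_push (ι ∣_ V)
    (QCoh.isQCoh_pushforward _ (QCoh.isQCoh_restrict _ hω.1)) e5

/-- Let k be an algebraically closed field and X an integral closed subscheme of P^N_k of dimension two
which is a local complete intersection (every local ring is a complete intersection) with only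
finitely many non-regular points; let U ⊆ X be the open subset of regular points. Let (ω, t) be a
dualizing sheaf for X: ω coherent, t a k-linear form on H^2(X, ω), and for every coherent F and
every k-linear form ψ on H^2(X, F) there is exactly one φ : F → ω with ψ = t ∘ H^2(φ). Then the
restriction of ω to U is isomorphic to ω_U, a second exterior power of the sheaf of differentials
Ω_{U/k} (existence of an isomorphism of O_U-modules; the published statement also asserts an unnamed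
isomorphism). -/
theorem result (k : Type u) [Field k] [IsAlgClosed k] (N : ℕ)
    (X : Scheme.{u}) [X.Over (Spec (CommRingCat.of k))] [IsIntegral X] (hdim : topologicalKrullDim X = 2)
    (ι : X ⟶ CohB1.ProjSpace N k) [IsClosedImmersion ι] (hι : ι ≫ CohB1.ProjSpace.toSpec N k = X ↘ (Spec (CommRingCat.of k)))
    (hlci : ∀ x : X, Pi1.IsCompleteIntersection (X.presheaf.stalk x))
    (U : X.Opens) (hUreg : ∀ x : X, x ∈ U ↔ IsRegularLocalRing (X.presheaf.stalk x)) (hU : ((U : Set X)ᶜ).Finite)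
    (ω : X.Modules) (hωcoh : Coh.IsCoh ω) (t : Coh.HH X ω 2 →ₗ[k] k)
    (hdual : ∀ F : X.Modules, Coh.IsCoh F → ∀ ψ : Coh.HH X F 2 →ₗ[k] k,
        ∃! φ : F ⟶ ω, ∀ x : Coh.HH X F 2,
          ψ x = t (Sheaf.H.map ((SheafOfModules.toSheaf X.ringCatSheaf).map φ) 2 x))
    (W : (U : Scheme.{u}).Modules) (hW : ExtPow.IsExtPow 2 (Omega.sheaf (U.ι ≫ (X ↘ (Spec (CommRingCat.of k))))) W) :
    Nonempty ((Scheme.Modules.restrictFunctor U.ι).obj ω ≅ W) := by
  haveI hP : IsNoetherian (CohB1.ProjSpace N k) :=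
    (Proj16.isNoetherian_proj _ : IsNoetherian (Proj (CohB1.polyGrading N k)))
  haveI : IsLocallyNoetherian X := LocallyOfFiniteType.isLocallyNoetherian ι
  let P := CohB1.ProjSpace N k
  haveI : ModSite.HasSheafHom (O := (CohB1.ProjSpace N k).sheaf)
      ((Scheme.Modules.pushforward ι).obj (Coh.structureModule X)) :=
    ModTensor.hasSheafHom _
  haveI : IsGrothendieckAbelian.{u} (ModSite.Mod (CohB1.ProjSpace N k).sheaf) :=
    inferInstanceAs (IsGrothendieckAbelian.{u} (CohB1.ProjSpace N k).Modules)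
  haveI : EnoughInjectives (ModSite.Mod (CohB1.ProjSpace N k).sheaf) := inferInstance
  haveI : HasInjectiveResolutions (ModSite.Mod (CohB1.ProjSpace N k).sheaf) := inferInstance
  haveI : HasInjectiveResolutions (CohB1.ProjSpace N k).Modules :=
    ‹HasInjectiveResolutions (ModSite.Mod (CohB1.ProjSpace N k).sheaf)›
  let I : InjectiveResolution (Twist.twistProjSpace N k (-((N : ℤ) + 1))) := InjectiveResolution.of _
  let ω' := (ClosedShriek.scx ι I).homology (N - 2)
  obtain ⟨e⟩ := ClosedShriek.nonempty_homology_iso ι I (N - 2)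
  have hpω : Coh.IsCoh ((Scheme.Modules.pushforward ι).obj ω') :=
    SheafHomX.isCoh_of_iso e.symm (DualSheaf.isCoh_omega ι (N - 2))
  haveI := KZ.ClosedDev.isIso_counit ι hpω.1
  have hωc : Coh.IsCoh ω' := SheafHomX.isCoh_of_iso
    (asIso ((Scheme.Modules.pullbackPushforwardAdjunction ι).counit.app ω'))
    (ZClosLib.isCoh_pullback (f := ι) hpω)
  have hN : 2 ≤ N := by
    have h1 : topologicalKrullDim X ≤ topologicalKrullDim (CohB1.ProjSpace N k) :=
      ι.isClosedEmbedding.isInducing.topologicalKrullDim_le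
    rw [hdim, S10829.result k N] at h1
    exact_mod_cast h1
  obtain ⟨t', ht'⟩ := DualSheaf.exists_trace ι hι 2 (N - 2) (by omega) hdim.le ω' ⟨e⟩
  haveI : IsProper (X ↘ Spec (CommRingCat.of k)) := by
    haveI := PnCoh.Chow.isProper_toSpec N k
    rw [← hι]; infer_instance
  obtain ⟨φ, hφ, -, -⟩ := S11318.result k X 2 hdim ω ω' hωcoh hωc t t' hdual ht'
  obtain ⟨V, rfl⟩ := exists_preimage_eq ι U
  set f := X ↘ Spec (CommRingCat.of k) with hf
  let Y : Scheme.{u} := (ι ⁻¹ᵁ V : X.Opens)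
  letI : Y.Over (Spec (CommRingCat.of k)) := ⟨(ι ⁻¹ᵁ V).ι ≫ f⟩
  haveI : LocallyOfFiniteType (Y ↘ Spec (CommRingCat.of k)) :=
    inferInstanceAs (LocallyOfFiniteType ((ι ⁻¹ᵁ V).ι ≫ f))
  have hgen : genericPoint X ∈ ι ⁻¹ᵁ V := by
    rw [hUreg]
    haveI : IsRegularRing (X.presheaf.stalk (genericPoint X)) := inferInstanceAs (IsRegularRing X.functionField)
    infer_instance
  haveI : Nonempty Y := ⟨⟨_, hgen⟩⟩
  haveI : IsIntegral Y := isIntegral_of_isOpenImmersion (ι ⁻¹ᵁ V).ι
  haveI : Smooth (Y ↘ Spec (CommRingCat.of k)) := CurveCohLib.RegularCurve.smooth_of_regular k fun x _ =>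
    haveI : IsRegularLocalRing (X.presheaf.stalk ((ι ⁻¹ᵁ V).ι x)) := (hUreg x.1).1 x.2
    IsRegularLocalRing.of_ringEquiv (asIso ((ι ⁻¹ᵁ V).ι.stalkMap x)).commRingCatIsoToRingEquiv
  haveI : Smooth ((ι ⁻¹ᵁ V).ι ≫ f) := ‹Smooth (Y ↘ Spec (CommRingCat.of k))›
  have hd : topologicalKrullDim Y = (2 : ℕ) := by
    show topologicalKrullDim ((ι ⁻¹ᵁ V : X.Opens) : Set X) = _
    rw [VarDim.topologicalKrullDim_opens_eq_iSup_deg f,
      show ((2 : ℕ) : WithBot ℕ∞) = topologicalKrullDim X from hdim.symm,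
      VarDim.topologicalKrullDim_eq_deg_genericPoint f]
    refine le_antisymm (iSup_le fun z => ?_) ?_
    · exact_mod_cast VarDim.deg_le_of_specializes f (genericPoint_specializes z.1)
    · exact le_iSup_of_le ⟨genericPoint X, hgen⟩ le_rfl
  haveI : SmoothOfRelativeDimension 2 ((ι ⁻¹ᵁ V).ι ≫ f) :=
    CurveFin.smoothOfRelativeDimension_of_dim _ hd
  obtain ⟨a⟩ := ExtShShift.nonempty_extSh_iso I
    ((Scheme.Modules.pushforward ι).obj (Coh.structureModule X)) (N - 2)
  obtain ⟨r⟩ := restrict_iso ι f hι V 2 ω' hωc I (e ≪≫ a) W hW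
  exact ⟨(Scheme.Modules.restrictFunctor (ι ⁻¹ᵁ V).ι).mapIso (asIso φ) ≪≫ r⟩

end Groth.Agent.S14702
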