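import Groth.Statements.S14703
import Groth.Agent.SurfRows.CurvesUnique
import Groth.Agent.SurfRows.Fibre
import Groth.Agent.S8862
import Groth.Agent.ParShLib.ResStalk
import Groth.Agent.CurveCohLib.RegularCurve
import Groth.Agent.PnCoh.Chow.Proper

set_option autoImplicit false
set_option backward.isDefEq.respectTransparency false
set_option backward.isDefEq.respectTransparency.types false
set_option linter.style.haveILetI false
set_option linter.unusedSectionVars false
set_option maxHeartbeats 800000
universe u
open CategoryTheory CategoryTheory.Limits AlgebraicGeometry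
open Surf

namespace Groth.Agent.S14703

open Groth.Agent.H23
attribute [local instance] PicMul.clMonoid

/-- Let k be an algebraically closed field, X an integral scheme of dimension two admitting a closed
immersion into some P^n_k over k, and U ⊆ X open with finite complement. Let φ : Y → X be a
k-morphism from an integral scheme of dimension two with all local rings regular, itself admitting a
closed immersion into some projective space over k, restricting to an isomorphism over U; let μ_1,
…, μ_s be distinct integral one-dimensional closed subschemes of Y, each mapped to a point, such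
that every integral one-dimensional closed subscheme of Y mapped to a point has the support of one
of them. Let D be an effective Cartier divisor on X (an ideal sheaf I_D locally generated by one
nonzerodivisor) and D̃ an effective Cartier divisor on Y whose support contains no μ_j and whose
ideal agrees with the inverse-image ideal φ⁻¹I_D · O_Y on every affine open contained in φ⁻¹(U) —
the strict transform of D. Then there are natural numbers γ_1, …, γ_s such that φ⁻¹I_D · O_Y =
I_{D̃} · ∏_j I_{μ_j}^{γ_j} (the total transform is the strict transform plus Σ γ_j μ_j) and Σ_j (μ_i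
· μ_j) γ_j = -(D̃ · μ_i) for every i (the total transform meets every μ_i with intersection number
zero), where (A · B) = χ(O_Y) - χ(I_A) - χ(I_B) + χ(I_A ⊗ I_B) (packaged as FGA.intNum). (The
published statement writes the coefficient vector as γ = -d⁻¹ (D̃ · μ), with d = (μ_i · μ_j), for a
locally principal divisor on a normal surface and a resolution that is an isomorphism exactly off
the singular points with exceptional fibres of pure dimension one; this row states the linear system
d γ = -(D̃ · μ), for effective Cartier divisors, any resolution that is an isomorphism over an open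
subset with finite complement, and X not assumed normal.) -/
theorem result (k : Type u) [Field k] [IsAlgClosed k] (X : Scheme.{u}) [X.Over (Spec (CommRingCat.of k))]
    [IsIntegral X] (hdim : topologicalKrullDim X = 2)
    (hproj : ∃ (n : ℕ) (ι : X ⟶ CohB1.ProjSpace n k), IsClosedImmersion ι ∧ ι ≫ CohB1.ProjSpace.toSpec n k = (X ↘ (Spec (CommRingCat.of k))))
    (U : X.Opens) (hU : ((U : Set X)ᶜ).Finite)
    (Y : Scheme.{u}) (φ : Y ⟶ X) [IsIntegral Y] (hdimY : topologicalKrullDim Y = 2)
    (hregY : ∀ y : Y, IsRegularLocalRing (Y.presheaf.stalk y))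
    (hprojY : ∃ (n : ℕ) (ι : Y ⟶ CohB1.ProjSpace n k), IsClosedImmersion ι ∧ ι ≫ CohB1.ProjSpace.toSpec n k = φ ≫ (X ↘ (Spec (CommRingCat.of k))))
    (hiso : IsIso (φ ∣_ U))
    (s : ℕ) (μ : Fin s → Y.IdealSheafData) (hμint : ∀ j, IsIntegral (μ j).subscheme)
    (hμdim : ∀ j, topologicalKrullDim ((μ j).support : Set Y) = 1)
    (hμpt : ∀ j, ∃ x : X, φ.base '' ((μ j).support : Set Y) = {x})
    (hμinj : Function.Injective fun j => ((μ j).support : Set Y))
    (hμall : ∀ E : Y.IdealSheafData, IsIntegral E.subscheme → topologicalKrullDim (E.support : Set Y) = 1 →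
      (∃ x : X, φ.base '' (E.support : Set Y) = {x}) → ∃ j, (E.support : Set Y) = (μ j).support)
    (D : X.IdealSheafData) (hD : FGA.IsEffCartier D) (Dt : Y.IdealSheafData) (hDt : FGA.IsEffCartier Dt)
    (hDtexc : ∀ j, ¬ ((μ j).support : Set Y) ⊆ Dt.support)
    (hDtU : ∀ W : Y.affineOpens, (W : Y.Opens) ≤ φ ⁻¹ᵁ U → Dt.ideal W = (D.comap φ).ideal W) :
    letI : Y.Over (Spec (CommRingCat.of k)) := ⟨φ ≫ (X ↘ (Spec (CommRingCat.of k)))⟩
    ∃ γ : Fin s → ℕ, D.comap φ = Dt * ∏ j : Fin s, μ j ^ γ j ∧
      ∀ i : Fin s, (∑ j : Fin s, FGA.intNum k Y 2 ![ClSub.idealMod (μ i), ClSub.idealMod (μ j)] (Coh.structureModule Y) * (γ j : ℤ)) =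
        - FGA.intNum k Y 2 ![ClSub.idealMod Dt, ClSub.idealMod (μ i)] (Coh.structureModule Y) := by
  classical
  obtain ⟨N, ι, hι, hfac⟩ := hprojY
  haveI := hι
  obtain ⟨n, ι', hι', hfac'⟩ := hproj
  haveI := hι'
  haveI := PnCoh.Chow.isProper_toSpec N k
  haveI := PnCoh.Chow.isProper_toSpec n k
  letI : Y.Over (Spec (CommRingCat.of k)) := ⟨φ ≫ (X ↘ (Spec (CommRingCat.of k)))⟩
  haveI : IsProper (X ↘ Spec (CommRingCat.of k)) := by
    rw [← hfac']
    infer_instance
  haveI : IsProper (Y ↘ Spec (CommRingCat.of k)) := by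
    show IsProper (φ ≫ _)
    rw [← hfac]
    infer_instance
  haveI : Smooth (Y ↘ Spec (CommRingCat.of k)) := CurveCohLib.RegularCurve.smooth_of_regular k fun x _ => hregY x
  haveI : IsProper (φ ≫ (X ↘ Spec (CommRingCat.of k))) :=
    show IsProper (Y ↘ Spec (CommRingCat.of k)) from inferInstance
  haveI : IsProper φ := IsProper.of_comp φ (X ↘ Spec (CommRingCat.of k))
  haveI : JacobsonSpace X := LocallyOfFiniteType.jacobsonSpace (X ↘ Spec (CommRingCat.of k))
  have hμ := fun j => SurfNef.invertible_ideal k hdimY (hμint j) (hμdim j)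
  have hμeq : ∀ (C : Y.IdealSheafData) (j : Fin s), IsIntegral C.subscheme →
      topologicalKrullDim (C.support : Set Y) = 1 → (C.support : Set Y) = (μ j).support → C = μ j := fun C j h1 h2 h3 => by
    haveI := h1
    haveI := hμint j
    exact SurfNegDef.eq_of_support_subset (k := k) h2 (hμdim j) h3.le
  have hμinj' : Function.Injective μ := fun i j h => hμinj (by simp only [h])
  let O : Y.Opens := φ ⁻¹ᵁ U
  haveI := hiso
  -- the generic point avoids the divisor
  haveI : IsIso (φ ∣_ U) := hiso
  have hgU : genericPoint X ∈ U := by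
    have hne : (U : Set X).Nonempty := by
      rw [Set.nonempty_iff_ne_empty]
      intro h0
      rw [h0, Set.compl_empty] at hU
      haveI : Finite X := Set.finite_univ_iff.1 hU
      haveI : DiscreteTopology X := inferInstance
      have h1 : topologicalKrullDim X ≤ 0 := topologicalKrullDim_zero_of_discreteTopology _
      rw [hdim] at h1
      exact absurd h1 (by decide)
    obtain ⟨z, hz⟩ := hne
    exact (genericPoint_specializes z).mem_open U.2 hz
  have hgen : φ (genericPoint Y) = genericPoint X := by
    obtain ⟨w, hw⟩ := (φ ∣_ U).surjective (⟨_, hgU⟩ : U)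
    have h := congrArg Subtype.val hw
    rw [morphismRestrict_base] at h
    have h' : φ w.1 = genericPoint X := h
    exact ((h' ▸ (genericPoint_specializes w.1).map φ.continuous :
      φ (genericPoint Y) ⤳ genericPoint X).antisymm (genericPoint_specializes _)).eq
  have hT : BlowUp.IsEffCartierIdeal (D.comap φ) := Groth.Agent.S8862.result φ D hD fun ξ hξ => by
    rw [← hξ _ (genericPoint_specializes ξ), hgen]
    exact ParShLib.genericPoint_notMem_support D hD
  -- curves meeting the open are the non-exceptional ones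
  have hexc : ∀ C : Y.IdealSheafData, IsIntegral C.subscheme → topologicalKrullDim (C.support : Set Y) = 1 →
      ¬ ((C.support : Set Y) ∩ O).Nonempty → ∃ j, C = μ j := fun C hC hCd hne => by
    haveI := hC
    have himg : φ '' (C.support : Set Y) ⊆ (U : Set X)ᶜ := by
      rintro _ ⟨z, hz, rfl⟩ hzU
      exact hne ⟨z, hz, hzU⟩
    have hirr : IsIrreducible (C.support : Set Y) := by
      rw [← Scheme.IdealSheafData.range_subschemeι, ← Set.image_univ]
      exact (IrreducibleSpace.isIrreducible_univ _).image _ C.subschemeι.continuous.continuousOn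
    have hpre := (hirr.image φ φ.continuous.continuousOn).isPreirreducible.isPreconnected
    haveI := hU.to_subtype
    haveI : JacobsonSpace ((U : Set X)ᶜ : Set X) := .of_isClosedEmbedding U.2.isClosed_compl.isClosedEmbedding_subtypeVal
    haveI : DiscreteTopology ((U : Set X)ᶜ : Set X) := inferInstance
    have hsub : (φ '' (C.support : Set Y)).Subsingleton := by
      intro a ha b hb
      haveI : Subsingleton (Subtype.val ⁻¹' (φ '' (C.support : Set Y)) : Set ((U : Set X)ᶜ : Set X)) := by
        refine (Set.subsingleton_coe _).2 ?_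
        refine IsPreconnected.subsingleton ?_
        exact hpre.preimage_of_isClosedMap Subtype.val_injective U.2.isClosed_compl.isClosedEmbedding_subtypeVal.isClosedMap
          (by rwa [Subtype.range_coe])
      have := congrArg (fun v : (Subtype.val ⁻¹' (φ '' (C.support : Set Y)) : Set ((U : Set X)ᶜ : Set X)) => v.1.1)
        (Subsingleton.elim ⟨⟨a, himg ha⟩, ha⟩ ⟨⟨b, himg hb⟩, hb⟩)
      exact this
    obtain ⟨z, hz⟩ := hirr.nonempty
    obtain ⟨j, hj⟩ := hμall C hC hCd ⟨φ z, hsub.eq_singleton_of_mem ⟨z, hz, rfl⟩⟩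
    exact ⟨j, hμeq C j hC hCd hj⟩
  have hμO : ∀ j, ∀ z ∈ O, z ∉ (μ j).support := fun j z hzO hz => by
    obtain ⟨x, hx⟩ := hμpt j
    have hxz : φ z = x := hx.le ⟨z, hz, rfl⟩
    have hall : (μ j).support = ({z} : Set Y) := by
      refine Set.Subset.antisymm (fun w hw => ?_) (Set.singleton_subset_iff.2 hz)
      have hxw : φ w = x := hx.le ⟨w, hw, rfl⟩
      have hwO : w ∈ O := show φ w ∈ U by rw [hxw, ← hxz]; exact hzO
      have hinj : Function.Injective (φ ∣_ U) := (φ ∣_ U).homeomorph.injective
      have heq : (φ ∣_ U) ⟨w, hwO⟩ = (φ ∣_ U) ⟨z, hzO⟩ := by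
        apply Subtype.ext
        rw [morphismRestrict_base]
        exact hxw.trans hxz.symm
      exact congrArg Subtype.val (hinj heq)
    have h1 : topologicalKrullDim ((μ j).support : Set Y) ≤ 0 := by
      haveI : Subsingleton ((μ j).support : Set Y) := (Set.subsingleton_coe _).2 (hall ▸ Set.subsingleton_singleton)
      exact topologicalKrullDim_zero_of_discreteTopology _
    rw [hμdim j] at h1
    exact absurd h1 (by decide)
  obtain ⟨sT, hsT, eT⟩ := SurfRows.exists_curves k hdimY hT
  obtain ⟨sD, hsD, eD⟩ := SurfRows.exists_curves k hdimY (show BlowUp.IsEffCartierIdeal Dt from hDt)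
  set P : Y.IdealSheafData → Prop := fun C => ((C.support : Set Y) ∩ O).Nonempty
  have hsplit := Multiset.filter_add_not P sT
  set r := sT.filter fun C => ¬ P C with hr
  have hrμ : ∀ C ∈ r, ∃ j, C = μ j := fun C hC => by
    rw [hr, Multiset.mem_filter] at hC
    exact hexc C (hsT C hC.1).1 (hsT C hC.1).2 hC.2
  let γ : Fin s → ℕ := fun j => r.count (μ j)
  have hrsum : r = ∑ j, Multiset.replicate (γ j) (μ j) := by
    ext C
    rw [Multiset.count_sum']
    simp only [Multiset.count_replicate]
    by_cases hC : ∃ j, C = μ j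
    · obtain ⟨j, rfl⟩ := hC
      rw [Finset.sum_eq_single j (fun b _ hb => by rw [if_neg fun e => hb (hμinj' e)]) (by simp), if_pos rfl]
    · rw [Finset.sum_eq_zero fun b _ => by rw [if_neg fun e => hC ⟨b, e.symm⟩]]
      exact Multiset.count_eq_zero.2 fun h => hC (hrμ C h)
  have hrprod : r.prod = ∏ j, μ j ^ γ j := by
    rw [hrsum, Multiset.prod_sum]
    simp only [Multiset.prod_replicate]
  have hmain : sT.filter P = sD := by
    refine SurfRows.curves_unique k hdimY O _ _ (fun C hC => ?_) (fun C hC => ?_) ?_
    · rw [Multiset.mem_filter] at hC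
      exact ⟨(hsT C hC.1).1, (hsT C hC.1).2, hC.2⟩
    · refine ⟨(hsD C hC).1, (hsD C hC).2, ?_⟩
      by_contra hne
      obtain ⟨j, rfl⟩ := hexc C (hsD C hC).1 (hsD C hC).2 hne
      exact hDtexc j (eD ▸ Scheme.IdealSheafData.support_antitone (SurfRows.eq_top_or_le sD hC))
    · have h1 : r.prod.comap O.ι = ⊤ := SurfRows.comap_iota_eq_top fun z hz hzr => by
        obtain ⟨C, hC, hzC⟩ := SurfRows.exists_mem_support r hzr
        obtain ⟨j, rfl⟩ := hrμ C hC
        exact hμO j z hz hzC
      have h2 := SurfRows.comap_iota_congr (I := Dt) (J := D.comap φ) (O := O) hDtU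
      rw [eD, eT, ← hsplit, Multiset.prod_add, ModPairLib.ideal_comap_mul, h1, ← Scheme.IdealSheafData.one_eq_top,
        mul_one] at h2
      exact h2.symm
  have hdecomp : D.comap φ = Dt * ∏ j, μ j ^ γ j := by
    rw [← hrprod, eD, ← hmain, eT, ← Multiset.prod_add, hsplit]
  refine ⟨γ, hdecomp, fun i => ?_⟩
  have hTi := (S8914.result _).2 hT
  have hzero : SurfPairing.pair k (PicF.cl (ClSub.idealMod (μ i))) (PicF.cl (ClSub.idealMod (D.comap φ))) = 0 := by
    obtain ⟨x, hx⟩ := hμpt i
    haveI := hμint i
    have hxc : IsClosed ({x} : Set X) := hx ▸ φ.isClosedMap _ (μ i).support.isClosed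
    haveI : IsClosedImmersion (X.fromSpecResidueField x) :=
      IsClosedImmersion.of_isPreimmersion _ (by rw [Scheme.range_fromSpecResidueField]; exact hxc)
    obtain ⟨e⟩ := H26.InterDiv.nonempty_pullback_idealMod φ D hD hT
    let i' := (μ i).subschemeι
    letI : (μ i).subscheme.Over (Spec (CommRingCat.of k)) := ⟨i' ≫ (Y ↘ (Spec (CommRingCat.of k)))⟩
    haveI : IsProper ((μ i).subscheme ↘ Spec (CommRingCat.of k)) :=
      show IsProper (i' ≫ (Y ↘ Spec (CommRingCat.of k))) from inferInstance
    obtain ⟨g, hg⟩ := H23.RedSub.exists_lift_closed (i' ≫ φ) (X.fromSpecResidueField x) (by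
      rintro _ ⟨z, rfl⟩
      rw [Scheme.range_fromSpecResidueField]
      exact hx.le ⟨i' z, (μ i).range_subschemeι.le ⟨z, rfl⟩, rfl⟩)
    have hJ := PicClLib.isInvertible_pullback (X.fromSpecResidueField x) ((S8914.result _).2 hD)
    obtain ⟨e₂⟩ := PicMul.cl_eq_iff.1 ((SurfRows.cl_eq_one_of_subsingleton hJ).trans PicMul.one_def)
    obtain ⟨e₃⟩ := PicClLib.nonempty_pullback_structureModule g
    let E : (Scheme.Modules.pullback i').obj (ClSub.idealMod (D.comap φ)) ≅ Coh.structureModule (μ i).subscheme :=
      (Scheme.Modules.pullback i').mapIso e.symm ≪≫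
        (Scheme.Modules.pullbackComp i' φ).app _ ≪≫ (Scheme.Modules.pullbackCongr hg.symm).app _ ≪≫
        ((Scheme.Modules.pullbackComp g (X.fromSpecResidueField x)).app _).symm ≪≫
        (Scheme.Modules.pullback g).mapIso e₂ ≪≫ e₃
    have hp' := CurveOnSurf.pair_ideal (k := k) i' hTi (by rw [Scheme.IdealSheafData.ker_subschemeι]; exact hμ i)
    rw [Scheme.IdealSheafData.ker_subschemeι] at hp'
    rw [hp', CurveRR.deg_congr k E, CurveDeg.deg_structureModule, neg_zero]
  have hDti := (S8914.result Dt).2 hDt
  rw [SurfPairing.intNum_eq_pair k hdimY.le hDti (hμ i)]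
  rw [SurfPairing.pair_comm, eT, ← hsplit, (SurfRows.eff_prod k hdimY _ (fun C hC => hsT C (hsplit ▸ hC))).2 _ (hμ i),
    Multiset.map_add, Multiset.sum_add, hmain, ← (SurfRows.eff_prod k hdimY sD hsD).2 _ (hμ i), ← eD, hrsum,
    ← Multiset.coe_mapAddMonoidHom, map_sum, ← Multiset.coe_sumAddMonoidHom, map_sum] at hzero
  simp only [Multiset.coe_sumAddMonoidHom, Multiset.coe_mapAddMonoidHom, Multiset.map_replicate,
    Multiset.sum_replicate, nsmul_eq_mul] at hzero
  rw [eq_neg_iff_add_eq_zero, add_comm, ← hzero]
  congr 1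
  refine Finset.sum_congr rfl fun j _ => ?_
  rw [SurfPairing.intNum_eq_pair k hdimY.le (hμ i) (hμ j), SurfPairing.pair_comm, mul_comm]

end Groth.Agent.S14703
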