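import Groth.Statements.S14718
import Groth.Agent.GITLin.Sym
import Groth.Agent.GITLin.Pull
import Groth.Agent.GITQuot.Orbit
import Groth.Agent.AmpleX.Pow
import Groth.Agent.H23.SectionFinset
-- import your own Groth.Agent.* helpers here

set_option autoImplicit false
universe u
open CategoryTheory MonoidalCategory CartesianMonoidalCategory MonObj GrpObj AlgebraicGeometry Topology
open GIT
open Groth.Agent.H23.PicMul

namespace Groth.Agent.S14718

/-- Let k be a field, G a group scheme over k acting by σ on a k-scheme X, φ : X → Y an invariant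
k-morphism (φ ∘ σ = φ ∘ p₂) which is affine, and M an ample invertible sheaf on Y. Then there is a
G-linearised line bundle L on X, taken in total-space form, with X = X^ss(L): every point x has an
invariant section s of some L^n, n ≥ 1, with s(x) ≠ 0 and X_s affine. If moreover (Y, φ) is a
geometric quotient of X by G, then X = X^s(L) for the same L (the action of G on those X_s is
closed; no condition on stabilisers). (The published statement assumes G reductive, X of finite type
and (Y, φ) a categorical quotient with Y quasi-projective; this row keeps only what the construction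
uses: φ invariant and affine, M ample. L is taken in total-space form.) -/
theorem result (k : Type u) [Field k]
    (G X Y : Over (Spec (CommRingCat.of k))) [GrpObj G]
    (a : AlgGrp.Action G X) (φ : X ⟶ Y) (hφ : GIT.IsInvariant a φ) [IsAffineHom φ.left]
    (M : Y.left.Modules) (hM : CohB1.IsAmple M) :
    ∃ B : GLinSh.LinBun G a, B.ssLocus = Set.univ ∧ (GIT.IsGeomQuot a φ → B.sLocus = Set.univ) := by
  classical
  obtain ⟨hM1, hc, hx⟩ := Groth.Agent.AmpleX.isAmple_iff.1 hM
  choose m hm σ hσ hσa using hx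
  haveI : CompactSpace Y.left := hc
  obtain ⟨t, ht⟩ := isCompact_univ.elim_finite_subcover
    (fun y => (CohB1.genLocus _ (σ y) : Set Y.left)) (fun y => (CohB1.genLocus _ (σ y)).2)
    (fun y _ => Set.mem_iUnion.2 ⟨y, hσ y⟩)
  let D := ∏ y ∈ t, m y
  have hE : PicF.IsInvertible (CohB1.tensorPow M D) := Groth.Agent.InvX.isInvertible_tensorPow hM1 D
  have hq : Coh.IsQCoh (CohB1.tensorPow M D) :=
    Groth.Agent.QCoh.isQCoh_of_isFinLocFree (Groth.Agent.H23.PullPush.isFinLocFree_of_isInvertible hE)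
  have hA := Groth.Agent.SymAlgX.isSymAlg_symAlg hq
  let A := Groth.Agent.SymAlgX.symAlg hq
  obtain ⟨B, hB⟩ := Groth.Agent.GITLin.exists_linBun (a := a)
    (IsPullback.of_hasPullback φ (Groth.Agent.GITLin.totHom Y A))
    (Groth.Agent.GITLin.atlas hE hq hA) hφ
  have key : ∀ x : X.left, ∃ f : Γ(B.V.left, ⊤), B.IsInvSection 1 f ∧ x ∈ GLinSh.nonvanishing B.π f ∧
      ∃ U : X.left.Opens, (U : Set X.left) = GLinSh.nonvanishing B.π f ∧ IsAffineOpen U := by
    intro x
    obtain ⟨y, hyt, hxy⟩ := Set.mem_iUnion₂.1 (ht (Set.mem_univ (φ.left.base x)))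
    obtain ⟨c, hc'⟩ : m y ∣ D := Finset.dvd_prod_of_mem _ hyt
    have hDpos : 0 < D := Finset.prod_pos fun z _ => hm z
    obtain ⟨e, rfl⟩ : ∃ e, c = e + 1 := Nat.exists_eq_add_of_le'
      (Nat.pos_of_ne_zero fun h0 => by rw [h0, mul_zero] at hc'; exact hDpos.ne' hc')
    obtain ⟨s, hs⟩ := Groth.Agent.AmpleX.exists_section_of_cl_eq (B := CohB1.tensorPow M D)
      (by rw [Groth.Agent.H23.PicMul.cl_tensorPow, Groth.Agent.H23.PicMul.cl_tensorPow,
        Groth.Agent.H23.PicMul.cl_tensorPow, ← pow_mul, hc'])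
      (Groth.Agent.InvX.powHom (σ y) (e + 1))
    rw [Groth.Agent.InvX.genLocus_powHom (Groth.Agent.InvX.isInvertible_tensorPow hM1 _) _ e] at hs
    obtain ⟨f', hf', hnv⟩ := hB 1 _ (Groth.Agent.GITLin.hasWeight_tau_one (A' := A)
      (j' := Groth.Agent.SymAlgX.symJ hq) s)
    have hnv' : GLinSh.nonvanishing B.π f' = (φ.left ⁻¹ᵁ CohB1.genLocus _ (σ y) : X.left.Opens) := by
      rw [hnv, Groth.Agent.GITLin.nonvanishing_tau_one hE hq hA, hs]
      rfl
    exact ⟨f', hf', hnv' ▸ hxy, φ.left ⁻¹ᵁ CohB1.genLocus _ (σ y), hnv'.symm, (hσa y).preimage φ.left⟩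
  refine ⟨B, Set.eq_univ_of_forall fun x => ?_, fun hg => Set.eq_univ_of_forall fun x => ?_⟩
  · obtain ⟨f, hf, hxf, hU⟩ := key x
    exact ⟨1, f, le_rfl, hf, hxf, hU⟩
  · obtain ⟨f, hf, hxf, U, hU, hUa⟩ := key x
    refine ⟨1, f, le_rfl, hf, hxf, U, hU, hUa, fun Ω _ _ T e g _ => ?_⟩
    exact (Groth.Agent.GITQuot.isClosedAction hg Ω T e g).preimage continuous_subtype_val

end Groth.Agent.S14718
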