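import Groth.Statements.S14719
import Groth.Agent.GITProper.PsLocus
-- import your own Groth.Agent.* helpers here

set_option autoImplicit false
universe u
open CategoryTheory MonoidalCategory CartesianMonoidalCategory MonObj GrpObj AlgebraicGeometry Topology
open GIT

namespace Groth.Agent.S14719

/-- Let k be an algebraically closed field of characteristic zero, G a connected reductive algebraic
group over k acting by σ on a finite-type k-scheme X (not necessarily separated), and L a
G-linearised line bundle on X, taken in total-space form. Then the set X^s_(0)(L) of properly stable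
points (stable points whose stabilisers are finite) is open, and G acts properly on it: for the
action restricted to this open, Ψ = (σ, p₂) : G × X^s_(0)(L) → X^s_(0)(L) × X^s_(0)(L) is proper.
(The published statement is for any reductive G over an algebraically closed field of any
characteristic; this row is the characteristic-zero case with G connected.) -/
theorem result (k : Type u) [Field k] [IsAlgClosed k] [CharZero k]
    (G X : Over (Spec (CommRingCat.of k))) [GrpObj G] (hG : Red.IsReductive G)
    [LocallyOfFiniteType X.hom] [QuasiCompact X.hom]
    (a : AlgGrp.Action G X) (B : GLinSh.LinBun G a) :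
    ∃ U : X.left.Opens, (U : Set X.left) = B.psLocus ∧
      ∀ (aP : AlgGrp.Action G (Over.mk (U.ι ≫ X.hom))) (jU : Over.mk (U.ι ≫ X.hom) ⟶ X),
        jU.left = U.ι → aP.act ≫ jU = (G ◁ jU) ≫ a.act →
          IsProper (GIT.psi aP (𝟙 (Over.mk (U.ι ≫ X.hom)))).left := by
  obtain ⟨U, hU, h⟩ := Groth.Agent.GITProper.isProper_psi_psLocus hG B
  refine ⟨U, hU, fun aP jU hj haP => h aP ?_⟩
  have e : jU = Groth.Agent.GITSS.iS U := Over.OverMorphism.ext hj
  exact e ▸ haP

end Groth.Agent.S14719
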