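import Groth.Statements.S14725
import Groth.Agent.GITProper.GenericIff
-- import your own Groth.Agent.* helpers here

set_option autoImplicit false
universe u
open CategoryTheory MonoidalCategory CartesianMonoidalCategory MonObj GrpObj AlgebraicGeometry Topology
open GIT

namespace Groth.Agent.S14725

/-- Let k be an algebraically closed field of characteristic zero, G a connected reductive algebraic
group over k acting by σ on a connected scheme X smooth and of finite type over k (not necessarily
separated), such that the stabiliser of the generic point xg of X is 0-dimensional (the stabiliser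
group scheme of the κ(xg)-valued point xg has dimension 0), and let U be an invariant open subset of
X (σ⁻¹U = p₂⁻¹U) with the action restricted to U. Then the following are equivalent: (ii) a
geometric quotient (Y, φ) of U by G exists with φ affine and Y quasi-projective (of finite type over
k with an ample invertible sheaf); (iii) the action of G on U is proper (Ψ = (σ, p₂) : G × U → U × U
is proper) and a geometric quotient (Y, φ) of U by G exists with Y quasi-projective. (The published
statement is over any ground field and in any characteristic; this row is the case of an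
algebraically closed field of characteristic zero, where the properness criterion it invokes is
proved.) -/
theorem result (k : Type u) [Field k] [IsAlgClosed k] [CharZero k]
    (G X : Over (Spec (CommRingCat.of k))) [GrpObj G] (hG : Red.IsReductive G)
    [LocallyOfFiniteType X.hom] [QuasiCompact X.hom] [Smooth X.hom] [ConnectedSpace X.left]
    (a : AlgGrp.Action G X)
    (xg : X.left) (hxg : closure ({xg} : Set X.left) = Set.univ)
    (hσ : topologicalKrullDim (GLinSh.stab a (Over.homMk (X.left.fromSpecResidueField xg) rfl :
        Over.mk (X.left.fromSpecResidueField xg ≫ X.hom) ⟶ X)) = 0)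
    (U : X.left.Opens) (hinv : a.act.left ⁻¹ᵁ U = (snd G X).left ⁻¹ᵁ U)
    (aU : AlgGrp.Action G (Over.mk (U.ι ≫ X.hom)))
    (jU : Over.mk (U.ι ≫ X.hom) ⟶ X) (hjU : jU.left = U.ι) (haU : aU.act ≫ jU = (G ◁ jU) ≫ a.act) :
    (∃ (Y : Over (Spec (CommRingCat.of k))) (φ : Over.mk (U.ι ≫ X.hom) ⟶ Y),
        GIT.IsGeomQuot aU φ ∧ IsAffineHom φ.left ∧ LocallyOfFiniteType Y.hom ∧
        ∃ M : Y.left.Modules, CohB1.IsAmple M) ↔
      IsProper (GIT.psi aU (𝟙 (Over.mk (U.ι ≫ X.hom)))).left ∧
        ∃ (Y : Over (Spec (CommRingCat.of k))) (φ : Over.mk (U.ι ≫ X.hom) ⟶ Y),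
          GIT.IsGeomQuot aU φ ∧ LocallyOfFiniteType Y.hom ∧ ∃ M : Y.left.Modules, CohB1.IsAmple M := by
  have e : jU = Groth.Agent.GITSS.iS U := Over.OverMorphism.ext hjU
  exact Groth.Agent.GITProper.exists_affine_geomQuot_iff hG hxg hσ aU (e ▸ haU)

end Groth.Agent.S14725
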