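import Groth.Statements.S14726
import Groth.Agent.ValEtale7.Local

set_option autoImplicit false
universe u
open ValPrufer

namespace Groth.Agent.S14726
theorem sameValues_trans {V W X : Type u} [CommRing V] [CommRing W] [CommRing X] [Algebra V W] [Algebra W X]
    [Algebra V X] [IsScalarTower V W X] (h : ValEtale7.SameValues V W) (h' : ValEtale7.SameValues W X) :
    ValEtale7.SameValues V X where
  isDomain := h'.isDomain
  dvd_total := h'.dvd_total
  inj := by rw [IsScalarTower.algebraMap_eq V W X]; exact h'.inj.comp h.inj
  isLocalHom := by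
    refine ⟨fun a ha => h.isLocalHom.map_nonunit a (h'.isLocalHom.map_nonunit _ ?_)⟩
    rwa [← IsScalarTower.algebraMap_apply]
  exists_eq b hb := by
    obtain ⟨w, u, rfl⟩ := h'.exists_eq b hb
    have hw : w ≠ 0 := fun h0 => hb (by rw [h0, map_zero, mul_zero])
    obtain ⟨a, t, rfl⟩ := h.exists_eq w hw
    exact ⟨a, u * t.map (algebraMap W X).toMonoidHom, by
      rw [Units.val_mul, map_mul, ← IsScalarTower.algebraMap_apply V W X, Units.coe_map, mul_assoc]; rfl⟩

theorem atPrime_congr {A L : Type*} [CommRing A] [CommRing L] [Algebra A L] {q₀ q : Ideal A} [q₀.IsPrime]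
    [q.IsPrime] (h : q₀ = q) [IsLocalization.AtPrime L q₀] : IsLocalization.AtPrime L q := by
  subst h
  assumption

theorem exists_dvd_all {V : Type u} [CommRing V] [IsDomain V] [ValuationRing V] {ι : Type*} (s : Finset ι)
    (hs : s.Nonempty) (f : ι → V) : ∃ i ∈ s, ∀ j ∈ s, f i ∣ f j := by
  induction hs using Finset.Nonempty.cons_induction with
  | singleton a => exact ⟨a, by simp⟩
  | cons a s ha hs ih =>
    obtain ⟨i, hi, hij⟩ := ih
    rcases ValuationRing.dvd_total (f a) (f i) with h | h
    · exact ⟨a, Finset.mem_cons_self _ _, fun j hj => (Finset.mem_cons.mp hj).elim (fun e => e ▸ dvd_rfl)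
        fun hj => h.trans (hij j hj)⟩
    · exact ⟨i, Finset.mem_cons.mpr (.inr hi), fun j hj => (Finset.mem_cons.mp hj).elim (fun e => e ▸ h)
        fun hj => hij j hj⟩

/-- The Gauss valuation ring. -/
theorem sameValues_gauss {V : Type u} [CommRing V] [IsDomain V] [ValuationRing V] (n : ℕ)
    (Q0 : Ideal (MvPolynomial (Fin n) V)) [Q0.IsPrime]
    (hQ0 : Q0 = (IsLocalRing.maximalIdeal V).map MvPolynomial.C) :
    ValEtale7.SameValues V (Localization.AtPrime Q0) := by
  let W := Localization.AtPrime Q0
  have hle : Q0.primeCompl ≤ nonZeroDivisors _ := Q0.primeCompl_le_nonZeroDivisors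
  have hPW : Function.Injective (algebraMap (MvPolynomial (Fin n) V) W) := IsLocalization.injective W hle
  have hC : ∀ c : V, algebraMap V W c = algebraMap (MvPolynomial (Fin n) V) W (MvPolynomial.C c) :=
    fun c => IsScalarTower.algebraMap_apply V (MvPolynomial (Fin n) V) W c
  have hinj : Function.Injective (algebraMap V W) := fun a b h => by
    rw [hC, hC] at h
    exact MvPolynomial.C_injective _ _ (hPW h)
  have hCu : ∀ f : MvPolynomial (Fin n) V, f ≠ 0 → ∃ (c : V) (u : Wˣ), algebraMap _ W f = u * algebraMap V W c := by
    intro f hf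
    obtain ⟨d, hd, hdd⟩ := exists_dvd_all f.support (MvPolynomial.support_nonempty.mpr hf) (fun e => f.coeff e)
    set c := f.coeff d with hc
    have hd0 : c ≠ 0 := MvPolynomial.mem_support_iff.mp hd
    obtain ⟨f0, hf0⟩ : MvPolynomial.C c ∣ f := by
      rw [MvPolynomial.C_dvd_iff_dvd_coeff]
      intro e
      by_cases he : e ∈ f.support
      · exact hdd e he
      · simp [MvPolynomial.notMem_support_iff.mp he]
    have h1 : f0.coeff d = 1 := by
      have h := congrArg (MvPolynomial.coeff d) hf0
      rw [MvPolynomial.coeff_C_mul] at h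
      exact mul_left_cancel₀ hd0 (by rw [mul_one]; exact h.symm)
    have hf0Q : f0 ∈ Q0.primeCompl := fun h => by
      have h' : f0 ∈ Q0 := h
      rw [hQ0, MvPolynomial.mem_map_C_iff] at h'
      exact (IsLocalRing.mem_maximalIdeal _).mp (h' d) (h1 ▸ isUnit_one)
    refine ⟨c, (IsLocalization.map_units W (⟨f0, hf0Q⟩ : Q0.primeCompl)).unit, ?_⟩
    rw [IsUnit.unit_spec, hC, ← map_mul, hf0, mul_comm]
  have hex : ∀ x : W, x ≠ 0 → ∃ (c : V) (u : Wˣ), x = u * algebraMap V W c := by
    intro x hx
    obtain ⟨⟨f, s⟩, hxs⟩ := IsLocalization.surj Q0.primeCompl x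
    have hs := IsLocalization.map_units W s
    have hf : f ≠ 0 := fun h => hx ((hs.mul_left_eq_zero).mp (hxs.trans (by simp [h])))
    obtain ⟨c, u, hu⟩ := hCu f hf
    refine ⟨c, u * hs.unit⁻¹, hs.mul_right_cancel ?_⟩
    rw [hxs, hu, Units.val_mul]
    have := hs.val_inv_mul
    linear_combination (-((u : W) * algebraMap V W c)) * this
  refine ⟨IsLocalization.isDomain_localization hle, fun a b => ?_, hinj, ⟨fun a ha => ?_⟩, hex⟩
  · rcases eq_or_ne a 0 with rfl | ha
    · exact Or.inr (dvd_zero b)
    rcases eq_or_ne b 0 with rfl | hb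
    · exact Or.inl (dvd_zero a)
    obtain ⟨c, u, rfl⟩ := hex a ha
    obtain ⟨d, t, rfl⟩ := hex b hb
    simp only [Units.mul_left_dvd, Units.dvd_mul_left]
    exact (ValuationRing.dvd_total c d).imp (map_dvd _) (map_dvd _)
  · by_contra h
    rw [hC] at ha
    refine (IsLocalRing.mem_maximalIdeal _).mp ?_ ha
    exact (IsLocalization.AtPrime.to_map_mem_maximal_iff W Q0 _).mpr
      (hQ0 ▸ Ideal.mem_map_of_mem _ ((IsLocalRing.mem_maximalIdeal _).mpr h))


/-- Let V be a valuation ring with maximal ideal m, A an integral domain that is a smooth V-algebra, and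
p a prime ideal of A minimal among the primes containing mA (a generic point of the special fibre of
Spec A over V). Then A_p is a valuation ring, V → A_p is an injective local homomorphism, and every
nonzero element of A_p is a unit of A_p times the image of an element of V, so that V → A_p induces
a bijection on value groups. (The published statement takes A faithfully flat and a semilocalisation
of a smooth V-algebra at finitely many primes; the local ring A_p is then a local ring of the smooth
algebra itself at such a prime, and faithful flatness follows from the existence of p, so this row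
states the smooth case, which carries the whole content.) -/
theorem result
    (V : Type u) [CommRing V] [IsDomain V] [ValuationRing V]
    (A : Type u) [CommRing A] [IsDomain A] [Algebra V A] [Algebra.Smooth V A]
    (p : Ideal A) [p.IsPrime]
    (hp : p ∈ ((IsLocalRing.maximalIdeal V).map (algebraMap V A)).minimalPrimes) :
    ValuationRing (Localization.AtPrime p) ∧
      Function.Injective (algebraMap V (Localization.AtPrime p)) ∧
      IsLocalHom (algebraMap V (Localization.AtPrime p)) ∧
      ∀ x : Localization.AtPrime p, x ≠ 0 →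
        ∃ (v : V) (w : (Localization.AtPrime p)ˣ), x = algebraMap V (Localization.AtPrime p) v * w := by
  classical
  haveI : Algebra.FinitePresentation V A := Algebra.Smooth.finitePresentation
  obtain ⟨g, hgp, hg⟩ := Algebra.IsSmoothAt.exists_notMem_isStandardSmooth V p
  let A' := Localization.Away g
  haveI : Algebra.IsStandardSmooth V A' := hg
  obtain ⟨ι, σ, _, _, ⟨Pres⟩⟩ := ‹Algebra.IsStandardSmooth V A'›.out
  haveI : Algebra.IsStandardSmoothOfRelativeDimension Pres.dimension V A' :=
    ⟨ι, σ, inferInstance, inferInstance, Pres, rfl⟩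
  obtain ⟨φ, hφ⟩ := Algebra.IsStandardSmoothOfRelativeDimension.exists_etale_mvPolynomial (n := Pres.dimension) V A'
  let P := MvPolynomial (Fin Pres.dimension) V
  letI : Algebra P A' := φ.toRingHom.toAlgebra
  haveI : IsScalarTower V P A' := IsScalarTower.of_algebraMap_eq fun a => (φ.commutes a).symm
  haveI : Algebra.Etale P A' := hφ
  haveI : Module.Flat P A' := inferInstance
  have hdisj : Disjoint (Submonoid.powers g : Set A) (p : Set A) := by
    rw [Set.disjoint_left]
    rintro _ ⟨k, rfl⟩ hk
    exact hgp (Ideal.IsPrime.mem_of_pow_mem ‹_› k hk)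
  let p' : Ideal A' := p.map (algebraMap A A')
  haveI : p'.IsPrime := IsLocalization.isPrime_of_isPrime_disjoint (Submonoid.powers g) A' p ‹_› hdisj
  have hp'p : p'.comap (algebraMap A A') = p :=
    IsLocalization.comap_map_of_isPrime_disjoint (Submonoid.powers g) A' ‹_› hdisj
  let Q0 : Ideal P := (IsLocalRing.maximalIdeal V).map MvPolynomial.C
  haveI hQ0p : Q0.IsPrime := by
    rw [← Ideal.Quotient.isDomain_iff_prime]
    exact MulEquiv.isDomain (MvPolynomial (Fin Pres.dimension) (V ⧸ IsLocalRing.maximalIdeal V))
      (MvPolynomial.quotientEquivQuotientMvPolynomial (σ := Fin Pres.dimension) (IsLocalRing.maximalIdeal V)).symm.toMulEquiv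
  have hQle : Q0 ≤ p'.comap (algebraMap P A') := Ideal.map_le_iff_le_comap.mpr fun a ha => by
    show algebraMap P A' (MvPolynomial.C a) ∈ p'
    rw [← MvPolynomial.algebraMap_eq, ← IsScalarTower.algebraMap_apply, IsScalarTower.algebraMap_apply V A A']
    exact Ideal.mem_map_of_mem _ (hp.1.2 (Ideal.mem_map_of_mem _ ha))
  haveI : p'.LiesOver (p'.comap (algebraMap P A')) := ⟨rfl⟩
  obtain ⟨q, hqp, hq, hqQ⟩ := Ideal.exists_ideal_le_liesOver_of_le (p := Q0) (q := p'.comap (algebraMap P A')) p' hQle
  have hQ : p'.comap (algebraMap P A') = Q0 := by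
    have hqA : p ≤ q.comap (algebraMap A A') := by
      refine hp.2 ⟨Ideal.IsPrime.comap _, Ideal.map_le_iff_le_comap.mpr fun a ha => ?_⟩
        (hp'p ▸ Ideal.comap_mono hqp)
      show algebraMap A A' (algebraMap V A a) ∈ q
      rw [← IsScalarTower.algebraMap_apply, IsScalarTower.algebraMap_apply V P A', ← Ideal.mem_comap]
      have h0 : (algebraMap V P a) ∈ Q0 := Ideal.mem_map_of_mem _ ha
      rw [hqQ.over] at h0
      exact h0
    have : p' = q := le_antisymm (Ideal.map_le_iff_le_comap.mpr hqA) hqp
    rw [this]
    exact hqQ.over.symm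
  let W := Localization.AtPrime Q0
  have hW : ValEtale7.SameValues V W := sameValues_gauss _ Q0 rfl
  haveI : IsDomain W := hW.isDomain
  haveI : ValuationRing W := hW.valuationRing
  let M := Algebra.algebraMapSubmonoid A' Q0.primeCompl
  let S' := Localization M
  haveI hloc : IsLocalization (Submonoid.map (algebraMap P A') Q0.primeCompl) S' := (inferInstance : IsLocalization M S')
  letI : Algebra W S' := (IsLocalization.map S' (algebraMap P A') (Submonoid.le_comap_map Q0.primeCompl) : W →+* S').toAlgebra
  haveI : IsScalarTower P W S' := IsScalarTower.of_algebraMap_eq fun x => by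
    show algebraMap P S' x = IsLocalization.map S' (algebraMap P A') _ (algebraMap P W x)
    rw [IsLocalization.map_eq, IsScalarTower.algebraMap_apply P A' S']
  haveI : IsScalarTower V W S' := IsScalarTower.of_algebraMap_eq fun x => by
    rw [IsScalarTower.algebraMap_apply V P W, ← IsScalarTower.algebraMap_apply P W S',
      IsScalarTower.algebraMap_apply P A' S', ← IsScalarTower.algebraMap_apply V P A',
      ← IsScalarTower.algebraMap_apply V A' S']
  haveI : Algebra.IsPushout P A' W S' := Algebra.isPushout_of_isLocalization Q0.primeCompl W A' S'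
  haveI : Algebra.IsPushout P W A' S' := Algebra.IsPushout.symm inferInstance
  haveI : Algebra.Etale W (TensorProduct P W A') := inferInstance
  haveI : Algebra.Etale W S' := Algebra.Etale.of_equiv (R := W) (A := TensorProduct P W A') (B := S') (Algebra.IsPushout.equiv P W A' S')
  have hdisj' : Disjoint (M : Set A') (p' : Set A') := by
    rw [Set.disjoint_left]
    rintro _ ⟨s, hs, rfl⟩ h
    exact hs (hQ ▸ h)
  let m : Ideal S' := p'.map (algebraMap A' S')
  haveI : m.IsPrime := IsLocalization.isPrime_of_isPrime_disjoint M S' p' ‹_› hdisj'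
  have hm' : m.comap (algebraMap A' S') = p' := IsLocalization.comap_map_of_isPrime_disjoint M S' ‹_› hdisj'
  have hm : m.comap (algebraMap W S') = IsLocalRing.maximalIdeal W := by
    have h1 : (m.comap (algebraMap W S')).comap (algebraMap P W) = Q0 := by
      rw [Ideal.comap_comap, ← IsScalarTower.algebraMap_eq, IsScalarTower.algebraMap_eq P A' S',
        ← Ideal.comap_comap, hm', hQ]
    rw [← IsLocalization.map_comap Q0.primeCompl W (m.comap (algebraMap W S')),
      show Ideal.under P (m.comap (algebraMap W S')) = Q0 from h1]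
    exact (Localization.AtPrime.map_eq_maximalIdeal)
  have hS : ValEtale7.SameValues V (Localization.AtPrime m) :=
    sameValues_trans hW (ValEtale7.sameValues_localization (A := W) m hm)
  -- compare the local rings
  haveI : IsLocalization.AtPrime (Localization.AtPrime m) (m.comap (algebraMap A' S')) :=
    IsLocalization.isLocalization_isLocalization_atPrime_isLocalization M (Localization.AtPrime m) m
  haveI : IsLocalization.AtPrime (Localization.AtPrime m) ((m.comap (algebraMap A' S')).comap (algebraMap A A')) :=
    IsLocalization.isLocalization_isLocalization_atPrime_isLocalization (Submonoid.powers g) (Localization.AtPrime m) _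
  haveI : IsLocalization.AtPrime (Localization.AtPrime m) p :=
    atPrime_congr (L := Localization.AtPrime m) (q := p) (show (m.comap (algebraMap A' S')).comap (algebraMap A A') = p by rw [hm', hp'p])
  have h := hS.of_algEquiv ((IsLocalization.algEquiv p.primeCompl (Localization.AtPrime m)
    (Localization.AtPrime p)).restrictScalars V)
  haveI := h.isDomain
  refine ⟨h.valuationRing, h.inj, h.isLocalHom, fun x hx => ?_⟩
  obtain ⟨v, w, rfl⟩ := h.exists_eq x hx
  exact ⟨v, w, mul_comm _ _⟩


end Groth.Agent.S14726
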