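import Groth.Statements.S14727
import Mathlib

set_option autoImplicit false
universe u
open ValPrufer

namespace Groth.Agent.S14727

/-- Let R be a semilocal ring (finitely many maximal ideals) and I an ideal of R of co-height zero, i.e.
every prime ideal containing I is maximal. Then the canonical map from the I-adic completion of R to
the product, over the maximal ideals m ⊇ I, of the I-adic completions of the local rings R_m
(equivalently their IR_m-adic completions) is bijective; it is the continuous ring isomorphism of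
the source, stated here as bijectivity of the canonical map of completed modules. -/
theorem result
    (R : Type u) [CommRing R] (hR : Finite (MaximalSpectrum R)) (I : Ideal R)
    (hI : ∀ (p : Ideal R), p.IsPrime → I ≤ p → p.IsMaximal) :
    Function.Bijective (LinearMap.pi (fun m : {m : MaximalSpectrum R // I ≤ m.asIdeal} =>
      AdicCompletion.map I (Algebra.linearMap R (Localization.AtPrime m.1.asIdeal)))) := by
  classical
  let S := {m : MaximalSpectrum R // I ≤ m.asIdeal}
  let A : S → Type u := fun m => Localization.AtPrime m.1.asIdeal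
  have hmem : ∀ (k : ℕ) (m : S) (r : R),
      algebraMap R (A m) r ∈ I ^ k • (⊤ : Submodule R (A m)) ↔ ∃ s ∈ m.1.asIdeal.primeCompl, s * r ∈ I ^ k := by
    intro k m r
    rw [Ideal.smul_top_eq_map, Submodule.restrictScalars_mem,
      IsLocalization.algebraMap_mem_map_algebraMap_iff m.1.asIdeal.primeCompl]
  -- the kernel ideals
  let J : ℕ → S → Ideal R := fun k m => (I ^ k • (⊤ : Submodule R (A m))).comap (Algebra.linearMap R (A m))
  have hJ : ∀ k m r, r ∈ J k m ↔ ∃ s ∈ m.1.asIdeal.primeCompl, s * r ∈ I ^ k := fun k m r => hmem k m r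
  have hJpow : ∀ k (m : S) x, x ∈ m.1.asIdeal → ∃ n, x ^ n ∈ J k m := by
    intro k m x hx
    by_contra! hne
    obtain ⟨P, hP, hle, hdisj⟩ := Ideal.exists_le_prime_disjoint (I ^ k)
      (m.1.asIdeal.primeCompl ⊔ Submonoid.powers x) (by
        rw [Set.disjoint_left]
        intro y hy hy'
        obtain ⟨s, hs, _, ⟨n, rfl⟩, rfl⟩ := Submonoid.mem_sup.1 hy'
        exact hne n ((hJ k m _).2 ⟨s, hs, hy⟩))
    have hIP : I ≤ P := by
      rcases Nat.eq_zero_or_pos k with rfl | hk
      · exact absurd (top_le_iff.1 (by simpa using hle)) hP.ne_top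
      · exact (hP.pow_le_iff hk.ne').1 hle
    have hPm : P ≤ m.1.asIdeal := fun y hy => by
      by_contra hym
      exact Set.disjoint_left.1 hdisj hy (Submonoid.mem_sup_left (S := m.1.asIdeal.primeCompl) hym)
    have := (hI P hP hIP).eq_of_le m.1.isMaximal.ne_top hPm
    exact Set.disjoint_left.1 hdisj ((SetLike.ext_iff.1 this x).2 hx) (Submonoid.mem_sup_right (Submonoid.mem_powers x))
  have honly : ∀ k (m : S) (P : Ideal R), P.IsMaximal → J k m ≤ P → P = m.1.asIdeal := by
    intro k m P hP hle
    refine (m.1.isMaximal.eq_of_le hP.ne_top fun x hx => ?_).symm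
    obtain ⟨n, hn⟩ := hJpow k m x hx
    exact hP.isPrime.mem_of_pow_mem n (hle hn)
  have hinj : ∀ k (r : R), (∀ m : S, r ∈ J k m) → r ∈ I ^ k := by
    intro k r hr
    let C : Ideal R := (I ^ k).colon ({r} : Set R)
    have hC : ∀ x, x ∈ C ↔ x * r ∈ I ^ k := fun x => by simp [C, Submodule.mem_colon_singleton]
    suffices h : (1 : R) ∈ C by simpa using (hC 1).1 h
    rw [← Ideal.eq_top_iff_one]
    by_contra hne
    obtain ⟨P, hP, hle⟩ := Ideal.exists_le_maximal C hne
    by_cases hIP : I ≤ P
    · obtain ⟨s, hs, hsr⟩ := (hJ k ⟨⟨P, hP⟩, hIP⟩ r).1 (hr _)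
      exact hs (hle ((hC s).2 hsr))
    · obtain ⟨x, hx, hxP⟩ := SetLike.not_le_iff_exists.1 hIP
      exact hxP (hP.isPrime.mem_of_pow_mem k (hle ((hC _).2 (Ideal.mul_mem_right _ _ (Ideal.pow_mem_pow hx k)))))
  have hsurj1 : ∀ k (m : S) (y : A m), ∃ r : R, algebraMap R (A m) r - y ∈ I ^ k • (⊤ : Submodule R (A m)) := by
    intro k m y
    obtain ⟨⟨a, s⟩, has⟩ := IsLocalization.surj m.1.asIdeal.primeCompl y
    have hcop : Ideal.span {(s : R)} ⊔ J k m = ⊤ := by
      by_contra hne
      obtain ⟨P, hP, hle⟩ := Ideal.exists_le_maximal _ hne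
      have hPm := honly k m P hP (le_sup_right.trans hle)
      exact s.2 ((SetLike.ext_iff.1 hPm _).1 (hle (Submodule.mem_sup_left (Ideal.mem_span_singleton_self _))))
    obtain ⟨u, hu, v, hv, huv⟩ := Submodule.mem_sup.1 (hcop ▸ Submodule.mem_top : (1 : R) ∈ Ideal.span {(s : R)} ⊔ J k m)
    obtain ⟨t, rfl⟩ := Ideal.mem_span_singleton'.1 hu
    refine ⟨a * t, ?_⟩
    have h1 : algebraMap R (A m) v ∈ I ^ k • (⊤ : Submodule R (A m)) := hv
    rw [Ideal.smul_top_eq_map, Submodule.restrictScalars_mem] at h1 ⊢
    have e : algebraMap R (A m) (a * t) - y = y * (-algebraMap R (A m) v) := by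
      have := congrArg (algebraMap R (A m)) huv
      simp only [map_add, map_mul, map_one] at this
      rw [map_mul, ← has]
      linear_combination y * this
    rw [e]
    exact Ideal.mul_mem_left _ _ (neg_mem h1)
  have hsurj : ∀ k (v : ∀ m : S, A m), ∃ r : R, ∀ m, algebraMap R (A m) r - v m ∈ I ^ k • (⊤ : Submodule R (A m)) := by
    intro k v
    choose r hr using fun m => hsurj1 k m (v m)
    have hcop : Pairwise fun m m' : S => IsCoprime (J k m) (J k m') := by
      intro m m' hne
      rw [Ideal.isCoprime_iff_sup_eq]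
      by_contra hne'
      obtain ⟨P, hP, hle⟩ := Ideal.exists_le_maximal _ hne'
      exact hne (Subtype.ext (MaximalSpectrum.ext
        ((honly k m P hP (le_sup_left.trans hle)).symm.trans (honly k m' P hP (le_sup_right.trans hle)))))
    obtain ⟨z, hz⟩ := Ideal.exists_forall_sub_mem_ideal hcop r
    refine ⟨z, fun m => ?_⟩
    have h1 : algebraMap R (A m) (z - r m) ∈ I ^ k • (⊤ : Submodule R (A m)) := hz m
    have := add_mem h1 (hr m)
    rwa [map_sub, sub_add_sub_cancel] at this
  constructor
  · rw [injective_iff_map_eq_zero]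
    intro x hx
    obtain ⟨a, rfl⟩ := AdicCompletion.mk_surjective I R x
    refine AdicCompletion.ext fun k => ?_
    rw [AdicCompletion.mk_apply_coe, Submodule.mkQ_apply, AdicCompletion.val_zero_apply,
      Submodule.Quotient.mk_eq_zero, smul_eq_mul, Ideal.mul_top]
    refine hinj k _ fun m => ?_
    have h1 := congrArg (fun z => z.val k) (congrFun hx m)
    simp only [LinearMap.pi_apply, AdicCompletion.map_mk, AdicCompletion.mk_apply_coe, Submodule.mkQ_apply,
      Pi.zero_apply, AdicCompletion.val_zero_apply, Submodule.Quotient.mk_eq_zero] at h1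
    exact h1
  · intro v
    choose b hb using fun m => AdicCompletion.mk_surjective I (A m) (v m)
    choose r hr using fun k => hsurj k fun m => b m k
    have hcau : ∀ {i j : ℕ}, i ≤ j → r i ≡ r j [SMOD (I ^ i • ⊤ : Submodule R R)] := by
      intro i j hij
      rw [SModEq.sub_mem, smul_eq_mul, Ideal.mul_top]
      refine hinj i _ fun m => ?_
      show algebraMap R (A m) (r i - r j) ∈ I ^ i • (⊤ : Submodule R (A m))
      have h2 := Submodule.smul_mono (Ideal.pow_le_pow_right hij) le_rfl (hr j m)
      have h3 := SModEq.sub_mem.1 ((b m).property hij)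
      have := sub_mem (add_mem (hr i m) h3) h2
      rw [map_sub]
      convert this using 1
      abel
    refine ⟨AdicCompletion.mk I R ⟨r, hcau⟩, funext fun m => ?_⟩
    rw [LinearMap.pi_apply, AdicCompletion.map_mk, ← hb m]
    refine AdicCompletion.ext fun k => ?_
    rw [AdicCompletion.mk_apply_coe, AdicCompletion.mk_apply_coe, Submodule.mkQ_apply, Submodule.mkQ_apply,
      Submodule.Quotient.eq]
    exact hr k m


end Groth.Agent.S14727
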