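import Groth.Statements.S14728
import Mathlib

set_option autoImplicit false
universe u
open ValPrufer

namespace Groth.Agent.S14728
theorem valuationRing_of_surjective {A B : Type*} [CommRing A] [IsDomain A] [ValuationRing A] [CommRing B]
    [IsDomain B] (f : A →+* B) (hf : Function.Surjective f) : ValuationRing B := by
  haveI : PreValuationRing B := ⟨fun a b => by
    obtain ⟨a, rfl⟩ := hf a
    obtain ⟨b, rfl⟩ := hf b
    obtain ⟨c, hc⟩ := PreValuationRing.cond a b
    exact ⟨f c, hc.imp (fun h => by rw [← map_mul, h]) (fun h => by rw [← map_mul, h])⟩⟩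
  exact ⟨⟩


/-- Let R be a Prüfer domain, i.e. a domain all of whose local rings at primes are valuation rings. (a)
For a multiplicative subset S, any localisation B = S⁻¹R that is a domain (S not containing 0) is a
Prüfer domain. (b) For a prime ideal I, the quotient R/I is a Prüfer domain. -/
theorem result
    (R : Type u) [CommRing R] [IsDomain R]
    (hR : ∀ (p : Ideal R) [p.IsPrime], ValuationRing (Localization.AtPrime p))
    (S : Submonoid R) (B : Type u) [CommRing B] [IsDomain B] [Algebra R B] [IsLocalization S B]
    (I : Ideal R) [I.IsPrime] :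
    (∀ (q : Ideal B) [q.IsPrime], ValuationRing (Localization.AtPrime q)) ∧
      (∀ (q : Ideal (R ⧸ I)) [q.IsPrime], ValuationRing (Localization.AtPrime q)) := by
  refine ⟨fun q hq => ?_, fun q hq => ?_⟩
  · haveI := hR (q.comap (algebraMap R B))
    haveI : IsLocalization.AtPrime (Localization.AtPrime q) (q.comap (algebraMap R B)) :=
      IsLocalization.isLocalization_isLocalization_atPrime_isLocalization S _ q
    let e := IsLocalization.algEquiv (q.comap (algebraMap R B)).primeCompl
      (Localization.AtPrime (q.comap (algebraMap R B))) (Localization.AtPrime q)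
    exact valuationRing_of_surjective e.toRingEquiv.toRingHom e.surjective
  · haveI := hR (q.comap (Ideal.Quotient.mk I))
    refine valuationRing_of_surjective (Localization.localRingHom (q.comap (Ideal.Quotient.mk I)) q (Ideal.Quotient.mk I) rfl) ?_
    intro z
    obtain ⟨x, s, rfl⟩ := IsLocalization.exists_mk'_eq q.primeCompl z
    obtain ⟨x, rfl⟩ := Ideal.Quotient.mk_surjective x
    obtain ⟨t, ht⟩ := Ideal.Quotient.mk_surjective s.1
    refine ⟨IsLocalization.mk' _ x (⟨t, fun h => s.2 (ht ▸ (Ideal.mem_comap.1 h))⟩ : (q.comap (Ideal.Quotient.mk I)).primeCompl), ?_⟩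
    rw [Localization.localRingHom_mk']
    simp only [ht]


end Groth.Agent.S14728
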