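import Groth.Statements.S14729
import Mathlib

set_option autoImplicit false
universe u
open ValPrufer

namespace Groth.Agent.S14729
open Finset in
lemma geom_frac {R L : Type*} [CommRing R] [Field L] [Algebra R L] (hinj : Function.Injective (algebraMap R L))
    (q : ℕ) {x : L} {a s : R} (m : Ideal R) [m.IsPrime] (hs : s ∉ m) (hx : x * algebraMap R L s = algebraMap R L a)
    (hσ : ∑ j ∈ range q, a ^ j * s ^ (q - 1 - j) ∉ m) :
    (∑ j ∈ range q, x ^ j) ≠ 0 ∧ ∀ j < q, ∃ b t : R, t ∉ m ∧
      x ^ j / (∑ i ∈ range q, x ^ i) * algebraMap R L t = algebraMap R L b := by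
  have hs0 : algebraMap R L s ≠ 0 := fun h => hs ((hinj (h.trans (map_zero _).symm)) ▸ m.zero_mem)
  have hpow : ∀ j < q, x ^ j * algebraMap R L (s ^ (q - 1)) = algebraMap R L (a ^ j * s ^ (q - 1 - j)) := fun j hj => by
    conv_lhs => rw [show q - 1 = j + (q - 1 - j) by omega, pow_add, map_mul, map_pow, ← mul_assoc, ← mul_pow, hx]
    rw [map_mul, map_pow, map_pow]
  have hsum : (∑ j ∈ range q, x ^ j) * algebraMap R L (s ^ (q - 1)) =
      algebraMap R L (∑ j ∈ range q, a ^ j * s ^ (q - 1 - j)) := by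
    rw [sum_mul, map_sum]
    exact sum_congr rfl fun j hj => hpow j (mem_range.1 hj)
  have hne : (∑ j ∈ range q, x ^ j) ≠ 0 := fun h => hσ (by
    rw [h, zero_mul] at hsum
    rw [hinj (hsum.symm.trans (map_zero _).symm)]
    exact m.zero_mem)
  refine ⟨hne, fun j hj => ⟨a ^ j * s ^ (q - 1 - j), _, hσ, ?_⟩⟩
  rw [← hsum, ← mul_assoc, div_mul_cancel₀ _ hne, hpow j hj]


/-- Let R be a semilocal Prüfer domain (an integral domain with finitely many maximal ideals whose
localisations at primes are valuation rings) with fraction field L, and let K ⊆ L be a subfield.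
Then R ∩ K is again a semilocal Prüfer domain and its fraction field is K, i.e. every element of K
is a quotient of two elements of R ∩ K. -/
theorem result
    (R L : Type u) [CommRing R] [IsDomain R] [Field L] [Algebra R L] [IsFractionRing R L]
    (hR : ∀ (p : Ideal R) [p.IsPrime], ValuationRing (Localization.AtPrime p))
    (hfin : Finite (MaximalSpectrum R)) (K : Subfield L) :
    (∀ (p : Ideal ↥((algebraMap R L).range ⊓ K.toSubring)) [p.IsPrime],
        ValuationRing (Localization.AtPrime p)) ∧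
      Finite (MaximalSpectrum ↥((algebraMap R L).range ⊓ K.toSubring)) ∧
      ∀ x : L, x ∈ K → ∃ a b : L, a ∈ (algebraMap R L).range ⊓ K.toSubring ∧
        b ∈ (algebraMap R L).range ⊓ K.toSubring ∧ b ≠ 0 ∧ x = a / b := by
  classical
  have hinj : Function.Injective (algebraMap R L) := IsFractionRing.injective R L
  set A := (algebraMap R L).range ⊓ K.toSubring
  have hval : ∀ (m : Ideal R) [m.IsPrime] (x : L),
      (∃ a s, s ∉ m ∧ x * algebraMap R L s = algebraMap R L a) ∨
        (x ≠ 0 ∧ ∃ a s, s ∉ m ∧ a ∈ m ∧ x⁻¹ * algebraMap R L s = algebraMap R L a) := by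
    intro m _ x
    obtain ⟨a, b, hb, rfl⟩ := IsFractionRing.div_surjective R x
    have hb0 : algebraMap R L b ≠ 0 := fun h => nonZeroDivisors.ne_zero hb (hinj (h.trans (map_zero _).symm))
    have hloc : Function.Injective (algebraMap R (Localization.AtPrime m)) :=
      IsLocalization.injective _ m.primeCompl_le_nonZeroDivisors
    have hdvd : ∀ c d : R, algebraMap R (Localization.AtPrime m) c ∣ algebraMap R (Localization.AtPrime m) d →
        ∃ u t, t ∉ m ∧ d * t = c * u := by
      rintro c d ⟨e, he⟩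
      obtain ⟨⟨u, t⟩, hu⟩ := IsLocalization.surj m.primeCompl e
      exact ⟨u, t, t.2, hloc (by rw [map_mul, map_mul, he, mul_assoc, hu])⟩
    rcases (ValuationRing.iff_dvd_total.1 (hR m)).total (algebraMap R (Localization.AtPrime m) b)
      (algebraMap R (Localization.AtPrime m) a) with hd | hd
    · obtain ⟨u, t, ht, e⟩ := hdvd b a hd
      refine Or.inl ⟨u, t, ht, ?_⟩
      rw [div_mul_eq_mul_div, div_eq_iff hb0, ← map_mul, ← map_mul, e, mul_comm]
    · obtain ⟨u, t, ht, e⟩ := hdvd a b hd
      rcases eq_or_ne (algebraMap R L a) 0 with ha | ha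
      · exact Or.inl ⟨0, 1, fun h => ‹m.IsPrime›.ne_top ((Ideal.eq_top_iff_one _).2 h), by rw [ha, zero_div, zero_mul, map_zero]⟩
      by_cases hu : u ∈ m
      · refine Or.inr ⟨div_ne_zero ha hb0, u, t, ht, hu, ?_⟩
        rw [inv_div, div_mul_eq_mul_div, div_eq_iff ha, ← map_mul, ← map_mul, e, mul_comm]
      · refine Or.inl ⟨t, u, hu, ?_⟩
        rw [div_mul_eq_mul_div, div_eq_iff hb0, ← map_mul, ← map_mul, mul_comm t, e]
  have hglob : ∀ z : L, (∀ m : MaximalSpectrum R, ∃ b t : R, t ∉ m.asIdeal ∧ z * algebraMap R L t = algebraMap R L b) →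
      z ∈ (algebraMap R L).range := by
    intro z hz
    let D : Ideal R := (LinearMap.range (Algebra.linearMap R L)).comap (LinearMap.toSpanSingleton R L z)
    have hD : D = ⊤ := by
      by_contra hne
      obtain ⟨m, hm, hle⟩ := Ideal.exists_le_maximal D hne
      obtain ⟨b, t, ht, e⟩ := hz ⟨m, hm⟩
      exact ht (hle ⟨b, by simp [Algebra.smul_def, mul_comm _ z, e]⟩)
    obtain ⟨b, hb⟩ := (Ideal.eq_top_iff_one D).1 hD
    exact ⟨b, by simpa using hb⟩
  have key : ∀ x ∈ K, ∃ q, 2 ≤ q ∧ (∑ i ∈ Finset.range q, x ^ i) ≠ 0 ∧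
      ∀ j < q, x ^ j / (∑ i ∈ Finset.range q, x ^ i) ∈ A := by
    intro x hxK
    have := Fintype.ofFinite (MaximalSpectrum R)
    -- residues
    have hbad : ∀ m : MaximalSpectrum R, ∃ B : ℕ, ∀ q : ℕ, q.Prime → B < q →
        (∑ i ∈ Finset.range q, x ^ i) ≠ 0 ∧ ∀ j < q, ∃ b t : R, t ∉ m.asIdeal ∧
          x ^ j / (∑ i ∈ Finset.range q, x ^ i) * algebraMap R L t = algebraMap R L b := by
      intro m
      rcases hval m.asIdeal x with ⟨a, s, hs, hx⟩ | ⟨hx0, a, s, hs, ha, hx⟩
      · let := Ideal.Quotient.field m.asIdeal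
        let π := Ideal.Quotient.mk m.asIdeal
        have hs' : π s ≠ 0 := fun h => hs (Ideal.Quotient.eq_zero_iff_mem.1 h)
        refine ⟨max (ringChar (R ⧸ m.asIdeal)) (max (orderOf (π a / π s)) 1), fun q hq hlt => ?_⟩
        simp only [max_lt_iff] at hlt
        refine geom_frac hinj q m.asIdeal hs hx fun hσ => ?_
        have hσ' := Ideal.Quotient.eq_zero_iff_mem.2 hσ
        have h1 : ∑ j ∈ Finset.range q, (π a / π s) ^ j = 0 := by
          have : (∑ j ∈ Finset.range q, (π a / π s) ^ j) * π s ^ (q - 1) = 0 := by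
            rw [← hσ', map_sum, Finset.sum_mul]
            refine Finset.sum_congr rfl fun j hj => ?_
            have := Finset.mem_range.1 hj
            rw [map_mul, map_pow, map_pow, div_pow, div_mul_eq_mul_div, div_eq_iff (pow_ne_zero _ hs'), mul_assoc,
              ← pow_add, show q - 1 - j + j = q - 1 by omega]
          exact (mul_eq_zero.1 this).resolve_right (pow_ne_zero _ hs')
        by_cases hone : π a / π s = 1
        · simp only [hone, one_pow, Finset.sum_const, Finset.card_range, nsmul_one] at h1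
          rcases (Nat.dvd_prime hq).1 (ringChar.dvd h1) with h | h
          · exact CharP.ringChar_ne_one h
          · omega
        · have h2 : (π a / π s) ^ q = 1 := by
            have := geom_sum_mul (π a / π s) q
            rw [h1, zero_mul] at this
            exact sub_eq_zero.1 this.symm
          rcases (Nat.dvd_prime hq).1 (orderOf_dvd_of_pow_eq_one h2) with h | h
          · exact hone (orderOf_eq_one_iff.1 h)
          · omega
      · refine ⟨1, fun q hq hlt => ?_⟩
        obtain ⟨hne, hw⟩ := geom_frac hinj q (x := x⁻¹) m.asIdeal hs hx (by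
          obtain ⟨r, rfl⟩ : ∃ r, q = r + 1 := ⟨q - 1, by omega⟩
          rw [Finset.sum_range_succ']
          intro h
          refine hs (m.isMaximal.isPrime.mem_of_pow_mem r ?_)
          have := (Ideal.add_mem_iff_right _ (Ideal.sum_mem _ fun i _ =>
            Ideal.mul_mem_right _ _ (Ideal.pow_mem_of_mem _ ha (i + 1) i.succ_pos))).1 h
          simpa using this)
        have hpow : ∀ j < q, x⁻¹ ^ (q - 1 - j) * x ^ (q - 1) = x ^ j := fun j hj => by
          conv_lhs => rw [show q - 1 = (q - 1 - j) + j by omega, show q - 1 - j + j - j = q - 1 - j by omega, pow_add, ← mul_assoc, ← mul_pow, inv_mul_cancel₀ hx0, one_pow, one_mul]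
        have hsum : (∑ i ∈ Finset.range q, x ^ i) = (∑ i ∈ Finset.range q, x⁻¹ ^ i) * x ^ (q - 1) := by
          rw [Finset.sum_mul, ← Finset.sum_range_reflect (fun i => x⁻¹ ^ i * x ^ (q - 1))]
          exact Finset.sum_congr rfl fun j hj => (hpow j (Finset.mem_range.1 hj)).symm
        refine ⟨by rw [hsum]; exact mul_ne_zero hne (pow_ne_zero _ hx0), fun j hj => ?_⟩
        obtain ⟨b, t, ht, e⟩ := hw (q - 1 - j) (by omega)
        refine ⟨b, t, ht, ?_⟩
        rw [hsum, ← hpow j hj, mul_div_mul_right _ _ (pow_ne_zero _ hx0)]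
        exact e
    choose B hB using hbad
    obtain ⟨q, hqle, hq⟩ := Nat.exists_infinite_primes (Finset.univ.sup B + 2)
    have hB' : ∀ m, B m < q := fun m => by
      have := Finset.le_sup (f := B) (Finset.mem_univ m); omega
    obtain ⟨m₀, hm₀⟩ := Ideal.exists_maximal R
    refine ⟨q, hq.two_le, (hB ⟨m₀, hm₀⟩ q hq (hB' _)).1, fun j hj => ⟨hglob _ fun m => (hB m q hq (hB' m)).2 j hj, ?_⟩⟩
    exact K.div_mem (pow_mem hxK j) (sum_mem fun i _ => pow_mem hxK i)
  have hfrac : ∀ x : L, x ∈ K → ∃ a b : L, a ∈ A ∧ b ∈ A ∧ b ≠ 0 ∧ x = a / b := by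
    intro x hx
    obtain ⟨q, hq2, hne, hA⟩ := key x hx
    refine ⟨_, _, hA 1 (by omega), hA 0 (by omega), div_ne_zero (by simp) hne, ?_⟩
    rw [pow_one, pow_zero, div_div_div_cancel_right₀ hne, div_one]
  refine ⟨fun p _ => ?_, ?_, hfrac⟩
  · have hloc : Function.Injective (algebraMap A (Localization.AtPrime p)) :=
      IsLocalization.injective _ p.primeCompl_le_nonZeroDivisors
    have hcmp : ∀ a b : A, b ≠ 0 → ∃ u v : A, v ∉ p ∧ (a * v = b * u ∨ b * v = a * u) := by
      intro a b hb
      have hb0 : (b : L) ≠ 0 := fun h => hb (Subtype.ext h)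
      obtain ⟨q, hq2, hne, hA⟩ := key ((a : L) / b) (K.div_mem a.2.2 b.2.2)
      set x := (a : L) / b
      let β : ∀ j < q, A := fun j hj => ⟨_, hA j hj⟩
      have hstep : ∀ j (hj : j + 1 < q), a * β j (by omega) = b * β (j + 1) hj := fun j hj => Subtype.ext (by
        show (a : L) * (x ^ j / _) = (b : L) * (x ^ (j + 1) / _)
        rw [pow_succ', ← mul_div_assoc, ← mul_div_assoc, ← mul_assoc, mul_div_cancel₀ _ hb0])
      have hsum : (∑ j : Fin q, β j.1 j.2) = 1 := by
        refine Subtype.ext ?_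
        push_cast [β]
        rw [← Finset.sum_div, Fin.sum_univ_eq_sum_range fun i => x ^ i, div_self hne]
      obtain ⟨j, hj⟩ : ∃ j : Fin q, β j.1 j.2 ∉ p := by
        by_contra! hall
        exact (Ideal.IsPrime.ne_top ‹_›) ((Ideal.eq_top_iff_one _).2 (hsum ▸ Ideal.sum_mem _ fun j _ => hall j))
      obtain ⟨j, hjq⟩ := j
      rcases Nat.eq_zero_or_pos j with rfl | hj0
      · exact ⟨β 1 (by omega), _, hj, Or.inl (hstep 0 (by omega))⟩
      · obtain ⟨i, rfl⟩ : ∃ i, j = i + 1 := ⟨j - 1, by omega⟩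
        exact ⟨β i (by omega), _, hj, Or.inr (hstep i hjq).symm⟩
    rw [ValuationRing.iff_dvd_total]
    refine ⟨fun z w => ?_⟩
    obtain ⟨⟨a, s⟩, rfl⟩ := IsLocalization.mk'_surjective p.primeCompl z
    obtain ⟨⟨b, t⟩, rfl⟩ := IsLocalization.mk'_surjective p.primeCompl w
    have hass : ∀ (c : A) (r : p.primeCompl), Associated (IsLocalization.mk' (Localization.AtPrime p) c r)
        (algebraMap A (Localization.AtPrime p) c) := fun c r =>
      ⟨(IsLocalization.map_units (Localization.AtPrime p) r).unit, by rw [IsUnit.unit_spec, IsLocalization.mk'_spec]⟩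
    simp only [(hass a s).dvd_iff_dvd_left, (hass b t).dvd_iff_dvd_right, (hass a s).dvd_iff_dvd_right, (hass b t).dvd_iff_dvd_left]
    rcases eq_or_ne b 0 with rfl | hb
    · exact Or.inl (by rw [map_zero]; exact dvd_zero _)
    obtain ⟨u, v, hv, h | h⟩ := hcmp a b hb
    · right
      rw [← (IsLocalization.map_units (Localization.AtPrime p) (⟨v, hv⟩ : p.primeCompl)).dvd_mul_right (b := algebraMap A _ a), ← map_mul, h, map_mul]
      exact dvd_mul_right _ _
    · left
      rw [← (IsLocalization.map_units (Localization.AtPrime p) (⟨v, hv⟩ : p.primeCompl)).dvd_mul_right (b := algebraMap A _ b), ← map_mul, h, map_mul]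
      exact dvd_mul_right _ _
  · -- maximal ideals
    have := Fintype.ofFinite (MaximalSpectrum R)
    let P : MaximalSpectrum R → Ideal A := fun m =>
      { carrier := {z | ∃ a s, a ∈ m.asIdeal ∧ s ∉ m.asIdeal ∧ (z : L) * algebraMap R L s = algebraMap R L a}
        zero_mem' := ⟨0, 1, zero_mem _, fun h => m.isMaximal.ne_top ((Ideal.eq_top_iff_one _).2 h), by simp⟩
        add_mem' := by
          rintro z w ⟨a, s, ha, hs, e⟩ ⟨b, t, hb, ht, e'⟩
          refine ⟨a * t + b * s, s * t, add_mem (Ideal.mul_mem_right _ _ ha) (Ideal.mul_mem_right _ _ hb),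
            fun h => (m.isMaximal.isPrime.mem_or_mem h).elim hs ht, ?_⟩
          show ((z : L) + w) * _ = _
          rw [map_add, map_mul, map_mul, map_mul, ← e, ← e']; ring
        smul_mem' := by
          rintro c z ⟨a, s, ha, hs, e⟩
          obtain ⟨c', hc'⟩ := c.2.1
          refine ⟨c' * a, s, Ideal.mul_mem_left _ _ ha, hs, ?_⟩
          show ((c : L) * z) * _ = _
          rw [map_mul, hc', ← e]; ring }
    have hPprime : ∀ m, (P m).IsPrime := by
      intro m
      refine ⟨fun htop => ?_, fun {z w} hzw => ?_⟩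
      · obtain ⟨a, s, ha, hs, e⟩ := (htop ▸ Submodule.mem_top : (1 : A) ∈ P m)
        exact hs (hinj (by simpa using e) ▸ ha)
      · obtain ⟨z', hz'⟩ := z.2.1
        obtain ⟨w', hw'⟩ := w.2.1
        obtain ⟨a, s, ha, hs, e⟩ := hzw
        have : z' * w' * s = a := hinj (by rw [map_mul, map_mul, hz', hw']; simpa using e)
        have h1 : z' * w' ∈ m.asIdeal := (m.isMaximal.isPrime.mem_or_mem (this ▸ ha)).resolve_right hs
        have h1' : (1 : R) ∉ m.asIdeal := fun h => m.isMaximal.ne_top ((Ideal.eq_top_iff_one _).2 h)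
        exact (m.isMaximal.isPrime.mem_or_mem h1).imp (fun h => ⟨z', 1, h, h1', by simp [hz']⟩)
          fun h => ⟨w', 1, h, h1', by simp [hw']⟩
    have hcov : ∀ M : MaximalSpectrum A, ∃ m, M.asIdeal = P m := by
      intro M
      have hsub : (M.asIdeal : Set A) ⊆ ⋃ m ∈ ((Finset.univ : Finset (MaximalSpectrum R)) : Set (MaximalSpectrum R)), (P m : Set A) := by
        intro z hz
        by_contra hnot
        simp only [Set.mem_iUnion, SetLike.mem_coe, not_exists] at hnot
        obtain ⟨z', hz'⟩ := z.2.1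
        have hu : IsUnit z' := by
          by_contra hnu
          obtain ⟨m, hm, hzm⟩ := exists_max_ideal_of_mem_nonunits hnu
          exact hnot ⟨m, hm⟩ (Finset.mem_univ _) ⟨z', 1, hzm, fun h => hm.ne_top ((Ideal.eq_top_iff_one _).2 h), by simp [hz']⟩
        obtain ⟨u, rfl⟩ := hu
        have hinv : algebraMap R L ((u⁻¹ : Rˣ) : R) = (z : L)⁻¹ :=
          eq_inv_of_mul_eq_one_left (by rw [← hz', ← map_mul, Units.inv_mul, map_one])
        refine M.isMaximal.ne_top ((Ideal.eq_top_iff_one _).2 ?_)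
        have hmem : (z : L)⁻¹ ∈ A := ⟨⟨_, hinv⟩, K.inv_mem z.2.2⟩
        have : (⟨_, hmem⟩ : A) * z = 1 := Subtype.ext (by
          show (z : L)⁻¹ * z = 1
          rw [← hinv, ← hz', ← map_mul, Units.inv_mul, map_one])
        rw [← this]
        exact M.asIdeal.mul_mem_left _ hz
      obtain ⟨m, -, hle⟩ := (Ideal.subset_union_prime (Classical.choice inferInstance) (Classical.choice inferInstance) fun m _ _ _ => hPprime m).1 hsub
      exact ⟨m, M.isMaximal.eq_of_le (hPprime m).ne_top hle⟩
    choose g hg using hcov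
    exact Finite.of_injective g fun M M' h => MaximalSpectrum.ext (by rw [hg M, hg M', h])


end Groth.Agent.S14729
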