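import Groth.Statements.S14730
import Groth.Agent.S14729

set_option autoImplicit false
universe u
open ValPrufer

namespace Groth.Agent.S14730
lemma coeff_chain {k D : Type*} [CommRing k] [CommRing D] (φ : k →+* D) (𝔭 : Ideal k) :
    ∀ (n : ℕ) (P : Fin (n + 1) → Ideal D), (∀ i, (P i).IsPrime) → (∀ i, (P i).comap φ = 𝔭) →
      ∀ x : Fin n → D, (∀ i, P i.castSucc ≤ P i.succ ∧ x i ∈ P i.succ ∧ x i ∉ P i.castSucc) →
      ∀ F : MvPolynomial (Fin n) k, (∃ m, F.coeff m ∉ 𝔭) → MvPolynomial.eval₂Hom φ x F ∉ P 0 := by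
  intro n
  induction n with
  | zero =>
    intro P _ hc x _ F ⟨m, hm⟩ hF
    obtain ⟨c, rfl⟩ := MvPolynomial.C_surjective (Fin 0) F
    have hm0 : m = 0 := Subsingleton.elim _ _
    rw [MvPolynomial.eval₂Hom_C, ← Ideal.mem_comap, hc] at hF
    rw [hm0, MvPolynomial.coeff_C, if_pos rfl] at hm
    exact hm hF
  | succ n ih =>
    intro P hP hc x hx F ⟨m, hm⟩ hF
    classical
    let f := MvPolynomial.finSuccEquiv k n F
    have hev : ∀ G : MvPolynomial (Fin (n + 1)) k, MvPolynomial.eval₂Hom φ x G =
        Polynomial.eval₂ (MvPolynomial.eval₂Hom φ (x ∘ Fin.succ)) (x 0) (MvPolynomial.finSuccEquiv k n G) := by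
      intro G
      induction G using MvPolynomial.induction_on with
      | C a => rw [← MvPolynomial.algebraMap_eq, AlgEquiv.commutes, IsScalarTower.algebraMap_apply k (MvPolynomial (Fin n) k) (Polynomial _), Polynomial.algebraMap_eq, Polynomial.eval₂_C, MvPolynomial.algebraMap_eq, MvPolynomial.algebraMap_eq, MvPolynomial.eval₂Hom_C, MvPolynomial.eval₂Hom_C]
      | add p q hp hq => simp only [map_add, Polynomial.eval₂_add, hp, hq]
      | mul_X p i hp =>
        simp only [map_mul, Polynomial.eval₂_mul, hp, MvPolynomial.eval₂Hom_X']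
        congr 1
        induction i using Fin.cases with
        | zero => simp [MvPolynomial.finSuccEquiv_X_zero]
        | succ i => simp [MvPolynomial.finSuccEquiv_X_succ]
    have hex : ∃ i, ∃ m', (f.coeff i).coeff m' ∉ 𝔭 := by
      refine ⟨m 0, m.tail, ?_⟩
      rwa [MvPolynomial.finSuccEquiv_coeff_coeff, Finsupp.cons_tail]
    let e := Nat.find hex
    have hlow : ∀ i < e, MvPolynomial.eval₂Hom φ (x ∘ Fin.succ) (f.coeff i) ∈ P 0 := by
      intro i hi
      have := Nat.find_min hex hi
      push Not at this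
      rw [(f.coeff i).as_sum, map_sum]
      refine Ideal.sum_mem _ fun m' _ => ?_
      rw [MvPolynomial.eval₂Hom_monomial]
      exact Ideal.mul_mem_right _ _ (Ideal.mem_comap.1 ((hc 0).symm ▸ this m'))
    let c : ℕ → D := fun i => MvPolynomial.eval₂Hom φ (x ∘ Fin.succ) (f.coeff i)
    obtain ⟨N, hN, hN'⟩ : ∃ N, f.natDegree < N ∧ e < N := ⟨f.natDegree + e + 1, by omega, by omega⟩
    rw [hev, Polynomial.eval₂_eq_sum_range' _ hN, ← Finset.sum_range_add_sum_Ico _ hN'.le] at hF
    have h1 := (Ideal.add_mem_iff_right _ (Ideal.sum_mem _ fun i hi => Ideal.mul_mem_right _ _ (hlow i (Finset.mem_range.1 hi)))).1 hF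
    rw [Finset.sum_eq_sum_Ico_succ_bot hN'] at h1
    obtain ⟨u, hu⟩ : x 0 ^ (e + 1) ∣ ∑ i ∈ Finset.Ico (e + 1) N, c i * x 0 ^ i :=
      Finset.dvd_sum fun i hi => Dvd.dvd.mul_left (pow_dvd_pow _ (Finset.mem_Ico.1 hi).1) _
    have h2 : x 0 ^ e * (c e + x 0 * u) ∈ P 0 := by
      have : x 0 ^ e * (c e + x 0 * u) = c e * x 0 ^ e + ∑ i ∈ Finset.Ico (e + 1) N, c i * x 0 ^ i := by
        rw [hu]; ring
      rw [this]; exact h1
    have hx0 := hx 0
    have h3 : c e + x 0 * u ∈ P 0 :=
      ((hP 0).mem_or_mem h2).resolve_left fun h => hx0.2.2 ((hP 0).mem_of_pow_mem e h)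
    have h4 : c e ∈ P 1 := (Ideal.add_mem_iff_left _ (Ideal.mul_mem_right _ _ hx0.2.1)).1 (hx0.1 h3)
    exact ih (fun i => P i.succ) (fun i => hP _) (fun i => hc _) (x ∘ Fin.succ)
      (fun i => by have := hx i.succ; rw [← Fin.succ_castSucc] at this; exact this) (f.coeff e) (Nat.find_spec hex) h4


/-- Let R be a semilocal Prüfer domain (an integral domain with finitely many maximal ideals whose
localisations at primes are valuation rings). Then R is the increasing union of subrings that are
semilocal Prüfer domains of finite Krull dimension; equivalently, every finite subset of R is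
contained in such a subring. -/
theorem result
    (R : Type u) [CommRing R] [IsDomain R]
    (hR : ∀ (p : Ideal R) [p.IsPrime], ValuationRing (Localization.AtPrime p))
    (hfin : Finite (MaximalSpectrum R)) (s : Finset R) :
    ∃ R' : Subring R, (↑s : Set R) ⊆ R' ∧
      (∀ (p : Ideal R') [p.IsPrime], ValuationRing (Localization.AtPrime p)) ∧
      Finite (MaximalSpectrum R') ∧ ringKrullDim R' < ⊤ := by
  classical
  let L := FractionRing R
  let K : Subfield L := Subfield.closure (algebraMap R L '' (s : Set R))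
  let A := (algebraMap R L).range ⊓ K.toSubring
  obtain ⟨hA, hAfin, -⟩ := S14729.result R L hR hfin K
  have hinj : Function.Injective (algebraMap R L) := IsFractionRing.injective R L
  let R' : Subring R := K.toSubring.comap (algebraMap R L)
  let θ : R' ≃+* A := RingEquiv.ofBijective
    (((algebraMap R L).comp R'.subtype).codRestrict A fun z => ⟨⟨_, rfl⟩, z.2⟩)
    ⟨fun a b h => Subtype.ext (hinj (congrArg Subtype.val h)),
      fun a => by obtain ⟨r, hr⟩ := a.2.1; exact ⟨⟨r, by show algebraMap R L r ∈ K; rw [hr]; exact a.2.2⟩, Subtype.ext hr⟩⟩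
  refine ⟨R', fun x hx => Subfield.subset_closure ⟨x, hx, rfl⟩, fun p _ => ?_, ?_, ?_⟩
  · let q := p.comap (θ.symm : A →+* R')
    have hq := hA q
    let e : Localization.AtPrime q ≃+* Localization.AtPrime p :=
      IsLocalization.ringEquivOfRingEquiv (Localization.AtPrime q) (Localization.AtPrime p) (M := q.primeCompl) (T := p.primeCompl) θ.symm (by
        ext y
        constructor
        · rintro ⟨z, hz, rfl⟩; exact hz
        · intro hy; exact ⟨θ y, fun h => hy (by simpa [q] using h), θ.symm_apply_apply y⟩)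
    refine ValuationRing.iff_dvd_total.2 ⟨fun a b => ?_⟩
    rcases (ValuationRing.iff_dvd_total.1 hq).total (e.symm a) (e.symm b) with h | h
    · exact Or.inl (by simpa using map_dvd e h)
    · exact Or.inr (by simpa using map_dvd e h)
  · have : Finite (MaximalSpectrum A) := hAfin
    exact Finite.of_injective
      (fun m : MaximalSpectrum R' => (⟨m.asIdeal.comap (θ.symm : A →+* R'), Ideal.comap_isMaximal_of_surjective _ θ.symm.surjective⟩ : MaximalSpectrum A))
      fun a b h => MaximalSpectrum.ext (Ideal.comap_injective_of_surjective _ θ.symm.surjective (congrArg MaximalSpectrum.asIdeal h))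
  -- the dimension bound
  let Z : Subring K := (Int.castRingHom K).range
  have : IsPrincipalIdealRing Z := IsPrincipalIdealRing.of_surjective (Int.castRingHom K).rangeRestrict (Int.castRingHom K).rangeRestrict_surjective
  let s' : Set K := Subtype.val ⁻¹' (algebraMap R L '' (s : Set R))
  have hs' : s'.Finite := (s.finite_toSet.image _).preimage Subtype.val_injective.injOn
  have : Algebra.IsAlgebraic (Algebra.adjoin Z s') K := by
    refine ⟨fun x => ?_⟩
    obtain ⟨y, hy, z, hz, hyz⟩ := Subfield.mem_closure_iff.1 x.2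
    have hsub : ∀ w ∈ Subring.closure (algebraMap R L '' (s : Set R)), ∃ w' : K, w' ∈ Algebra.adjoin Z s' ∧ (w' : L) = w := by
      intro w hw
      induction hw using Subring.closure_induction with
      | mem w hw => exact ⟨⟨w, Subfield.subset_closure hw⟩, Algebra.subset_adjoin hw, rfl⟩
      | zero => exact ⟨0, zero_mem _, rfl⟩
      | one => exact ⟨1, one_mem _, rfl⟩
      | add a b _ _ ha hb =>
        obtain ⟨a', ha, rfl⟩ := ha; obtain ⟨b', hb, rfl⟩ := hb
        exact ⟨a' + b', add_mem ha hb, rfl⟩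
      | neg a _ ha => obtain ⟨a', ha, rfl⟩ := ha; exact ⟨-a', neg_mem ha, rfl⟩
      | mul a b _ _ ha hb =>
        obtain ⟨a', ha, rfl⟩ := ha; obtain ⟨b', hb, rfl⟩ := hb
        exact ⟨a' * b', mul_mem ha hb, rfl⟩
    obtain ⟨y', hy', rfl⟩ := hsub y hy
    obtain ⟨z', hz', rfl⟩ := hsub z hz
    have hxe : y' / z' = x := Subtype.ext hyz
    by_cases hz0 : z' = 0
    · rw [← hxe, hz0, div_zero]; exact isAlgebraic_zero
    refine ⟨Polynomial.C ⟨z', hz'⟩ * Polynomial.X - Polynomial.C ⟨y', hy'⟩, fun h => hz0 ?_, ?_⟩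
    · simpa using congrArg (fun p => Subtype.val (p.coeff 1)) h
    · simp only [map_sub, map_mul, Polynomial.aeval_C, Polynomial.aeval_X, sub_eq_zero]
      show z' * x = y'
      rw [← hxe, mul_div_cancel₀ _ hz0]
  let d := hs'.toFinset.card
  have hrel : ∀ v : Fin (d + 1) → K, ∀ 𝔭 : Ideal Z, 𝔭 ≠ ⊤ → ∃ G : MvPolynomial (Fin (d + 1)) Z,
      MvPolynomial.aeval v G = 0 ∧ ∃ m, G.coeff m ∉ 𝔭 := by
    intro v 𝔭 h𝔭
    have hdep : ¬ AlgebraicIndependent Z v := by
      intro hv
      have h1 := hv.lift_cardinalMk_le_trdeg.trans (Cardinal.lift_le.2 (Algebra.IsAlgebraic.trdeg_le_cardinalMk Z s'))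
      rw [Cardinal.mk_fintype, Fintype.card_fin, Cardinal.lift_natCast, ← hs'.coe_toFinset] at h1
      simp only [Finset.coe_sort_coe, Cardinal.mk_fintype, Fintype.card_coe, Cardinal.lift_natCast, Nat.cast_le] at h1
      omega
    rw [algebraicIndependent_iff] at hdep
    push Not at hdep
    obtain ⟨F, hF, hF0⟩ := hdep
    obtain ⟨g, hg⟩ := (IsPrincipalIdealRing.principal (Ideal.span (F.coeff '' (F.support : Set _)))).principal
    change _ = Ideal.span {g} at hg
    have hb : ∀ m ∈ F.support, ∃ b, F.coeff m = g * b := fun m hm =>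
      Ideal.mem_span_singleton.1 (hg ▸ Ideal.subset_span ⟨m, hm, rfl⟩)
    choose! b hb using hb
    let G : MvPolynomial (Fin (d + 1)) Z := ∑ m ∈ F.support, MvPolynomial.monomial m (b m)
    have hGF : MvPolynomial.C g * G = F := by
      conv_rhs => rw [F.as_sum]
      rw [Finset.mul_sum]
      exact Finset.sum_congr rfl fun m hm => by rw [MvPolynomial.C_mul_monomial, ← hb m hm]
    have hg0 : g ≠ 0 := fun h => hF0 (by rw [← hGF, h, map_zero, zero_mul])
    refine ⟨G, ?_, ?_⟩
    · rw [← hGF, map_mul, MvPolynomial.aeval_C, mul_eq_zero] at hF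
      exact hF.resolve_left fun h => hg0 (Subtype.ext h)
    · by_contra! hall
      have hgmem : g ∈ Ideal.span (F.coeff '' (F.support : Set _)) := hg ▸ Ideal.mem_span_singleton_self g
      rw [Finset.coe_image.symm] at hgmem
      have hle : Ideal.span ((F.support.image F.coeff : Finset Z) : Set Z) ≤ Ideal.span {g} * 𝔭 := by
        rw [Ideal.span_le, Finset.coe_image]
        rintro _ ⟨m, hm, rfl⟩
        show F.coeff m ∈ _
        rw [hb m hm]
        refine Ideal.mul_mem_mul (Ideal.mem_span_singleton_self g) ?_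
        have := hall m
        rw [MvPolynomial.coeff_sum, Finset.sum_eq_single m (fun i _ hi => by rw [MvPolynomial.coeff_monomial, if_neg hi]) (fun h => absurd hm h), MvPolynomial.coeff_monomial, if_pos rfl] at this
        exact this
      obtain ⟨z, hz, e⟩ := Ideal.mem_span_singleton_mul.1 (hle hgmem)
      have : z = 1 := mul_left_cancel₀ hg0 (by rw [e, mul_one])
      exact h𝔭 ((Ideal.eq_top_iff_one _).2 (this ▸ hz))
  let φ : Z →+* R' :=
    { toFun := fun z => θ.symm ⟨((z : K) : L), by
        obtain ⟨n, hn⟩ := z.2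
        exact ⟨⟨(n : R), by rw [← hn]; simp⟩, (z : K).2⟩⟩
      map_one' := θ.symm.map_one
      map_mul' := fun a b => by rw [← map_mul]; rfl
      map_zero' := θ.symm.map_zero
      map_add' := fun a b => by rw [← map_add]; rfl }
  let j : R' →+* K := ((Subring.inclusion inf_le_right : A →+* K.toSubring).comp θ.toRingHom)
  have hjinj : Function.Injective j :=
    (Subring.inclusion_injective (show A ≤ K.toSubring from inf_le_right)).comp θ.injective
  have hjφ : ∀ z, j (φ z) = (z : K) := fun z => by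
    show Subring.inclusion (show A ≤ K.toSubring from inf_le_right) (θ (θ.symm _)) = _
    rw [RingEquiv.apply_symm_apply]; rfl
  have hshort : ∀ P : Fin (d + 2) → PrimeSpectrum R', StrictMono P →
      (P 0).asIdeal.comap φ ≠ (P (Fin.last (d + 1))).asIdeal.comap φ := by
    intro P hP heq
    set 𝔭 := (P 0).asIdeal.comap φ
    have hc : ∀ i, (P i).asIdeal.comap φ = 𝔭 := fun i => le_antisymm
      (heq ▸ Ideal.comap_mono (hP.monotone (Fin.le_last i))) (Ideal.comap_mono (hP.monotone (Fin.zero_le i)))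
    have hx : ∀ i : Fin (d + 1), ∃ x, x ∈ (P i.succ).asIdeal ∧ x ∉ (P i.castSucc).asIdeal := fun i =>
      SetLike.exists_of_lt (hP (Fin.castSucc_lt_succ (i := i)))
    choose x hx using hx
    obtain ⟨G, hG0, hGc⟩ := hrel (j ∘ x) 𝔭 (Ideal.comap_ne_top _ (P 0).isPrime.ne_top)
    refine coeff_chain φ 𝔭 (d + 1) (fun i => (P i).asIdeal) (fun i => (P i).isPrime) hc x
      (fun i => ⟨hP.monotone (Fin.castSucc_le_succ i), hx i⟩) G hGc ?_
    have : MvPolynomial.eval₂Hom φ x G = 0 := hjinj (by
      rw [map_zero, ← RingHom.comp_apply, MvPolynomial.comp_eval₂Hom, ← hG0]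
      show MvPolynomial.eval₂Hom _ _ G = MvPolynomial.eval₂Hom (algebraMap Z K) _ G
      rw [show j.comp φ = algebraMap Z K from RingHom.ext hjφ]; rfl)
    rw [this]; exact zero_mem _
  have hbound : ringKrullDim R' ≤ ((2 * d + 1 : ℕ) : WithBot ℕ∞) := by
    refine iSup_le fun l => ?_
    by_contra hlt
    replace hlt : 2 * d + 1 < l.length := by
      by_contra h
      exact hlt (by exact_mod_cast (not_lt.1 h))
    let P₁ : Fin (d + 2) → PrimeSpectrum R' := fun i => l ⟨i, by omega⟩
    let P₂ : Fin (d + 2) → PrimeSpectrum R' := fun i => l ⟨d + 1 + i, by omega⟩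
    have hs₁ : StrictMono P₁ := fun a b hab => l.strictMono (by simpa using hab)
    have hs₂ : StrictMono P₂ := fun a b hab => l.strictMono (by simpa using hab)
    have h1 := hshort P₁ hs₁
    have h2 := hshort P₂ hs₂
    have hne : (P₁ (Fin.last _)).asIdeal.comap φ ≠ ⊥ := fun h => h1 (le_antisymm
      (Ideal.comap_mono (hs₁.monotone (Fin.zero_le _))) (h ▸ bot_le))
    have hmax := (inferInstance : ((P₁ (Fin.last _)).asIdeal.comap φ).IsPrime).isMaximal hne
    refine h2 ?_
    have e : P₂ 0 = P₁ (Fin.last _) := congrArg l (Fin.ext (by simp))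
    rw [e]
    refine hmax.eq_of_le (Ideal.comap_ne_top _ (P₂ _).isPrime.ne_top) (Ideal.comap_mono ?_)
    rw [← e]; exact hs₂.monotone (Fin.zero_le _)
  exact hbound.trans_lt (WithBot.coe_lt_coe.2 (ENat.coe_lt_top _))


end Groth.Agent.S14730
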