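import Groth.Statements.S14731
import Mathlib
import Groth.Agent.CoeffField.Smooth
import Groth.Agent.SmoothModel.Basic

set_option autoImplicit false
universe u
open ValPrufer

namespace Groth.Agent.S14731

/-- In characteristic zero, every field K generated as a field by a finite set is the fraction field of
a subring A of K of finite type and smooth over the integers. -/
theorem result
    (K : Type u) [Field K] [CharZero K] (s : Finset K)
    (hs : Subfield.closure (↑s : Set K) = ⊤) :
    ∃ A : Subring K, Algebra.FiniteType ℤ A ∧ Algebra.Smooth ℤ A ∧ IsFractionRing A K := by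
  haveI : Algebra.FormallySmooth ℚ K := Groth.Agent.CoeffField.formallySmooth_of_perfectField ℚ K
  haveI : Algebra.FormallyEtale ℤ ℚ := Algebra.FormallyEtale.of_isLocalization (nonZeroDivisors ℤ)
  haveI : Algebra.FormallySmooth ℤ K := Algebra.FormallySmooth.comp ℤ ℚ K
  obtain ⟨A, h1, h2, h3⟩ := Groth.Agent.SmoothModel.exists_smooth_model ℤ K s hs
  let A' : Subring K := A.toSubring
  let e : A ≃ₐ[ℤ] A' := AlgEquiv.ofRingEquiv (f := RingEquiv.refl A) (fun n => by simp)
  exact ⟨A', Algebra.FiniteType.equiv h1 e, Algebra.Smooth.of_equiv e, h3⟩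


end Groth.Agent.S14731
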