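import Groth.Statements.S14733
import Groth.Agent.FibDim.Comp
import Groth.Agent.FibDim.BaseChange

set_option autoImplicit false
open CategoryTheory AlgebraicGeometry
universe u
open ValPrufer

namespace Groth.Agent.S14733

/-- Let R be a Prüfer domain (an integral domain whose localisations at primes are valuation rings), X
an irreducible scheme and f : X ⟶ Spec R a dominant morphism of finite type. If the fibre of f over
a point γ of Spec R is nonempty, then it has the same dimension as the fibre over the generic point. -/
theorem result
    (R : Type u) [CommRing R] [IsDomain R]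
    (hR : ∀ (p : Ideal R) [p.IsPrime], ValuationRing (Localization.AtPrime p))
    (X : Scheme.{u}) [IrreducibleSpace X] (f : X ⟶ Spec (CommRingCat.of R))
    [LocallyOfFiniteType f] [QuasiCompact f] [IsDominant f] (γ : Spec (CommRingCat.of R))
    (h0 : Nonempty ↥(f.fiber γ)) :
    topologicalKrullDim ↥(f.fiber γ) =
      topologicalKrullDim ↥(f.fiber (genericPoint (Spec (CommRingCat.of R)))) := by
  classical
  set η := genericPoint X
  have hη : f.base η = genericPoint (Spec (CommRingCat.of R)) := by
    have h := (genericPoint_spec X).image f.continuous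
    rw [Set.image_univ, f.denseRange.closure_range] at h
    exact IsGenericPoint.eq h (genericPoint_spec _)
  have hgen : ∀ y, f η ⤳ y := fun y => by
    rw [show f η = genericPoint (Spec (CommRingCat.of R)) from hη]; exact genericPoint_specializes y
  refine le_antisymm (FibDim.topologicalKrullDim_fiber_mono f fun z hz => ⟨η, hη, ?_⟩)
    (FibDim.topologicalKrullDim_fiber_mono f fun z hz => ?_)
  · haveI := hR γ.asIdeal
    let τ : Spec (CommRingCat.of (Localization.AtPrime γ.asIdeal)) ⟶ Spec (CommRingCat.of R) :=
      Spec.map (CommRingCat.ofHom (algebraMap R (Localization.AtPrime γ.asIdeal)))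
    haveI : IsPreimmersion τ := IsPreimmersion.of_isLocalization γ.asIdeal.primeCompl
    let q : Spec (CommRingCat.of (Localization.AtPrime γ.asIdeal)) :=
      ⟨IsLocalRing.maximalIdeal (Localization.AtPrime γ.asIdeal), inferInstance⟩
    have hq : τ q = γ := PrimeSpectrum.ext (IsLocalization.AtPrime.under_maximalIdeal _ γ.asIdeal)
    obtain ⟨x', hx'p, hx'q, hx'rd⟩ :=
      FibDim.exists_rd_baseChange_eq (IsPullback.of_hasPullback f τ) z q (by rw [hq, hz])
    let o : Spec (CommRingCat.of (Localization.AtPrime γ.asIdeal)) :=
      ⟨⊥, Ideal.isPrime_bot⟩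
    have ho : τ o = f η := by
      refine ((hgen (τ o)).antisymm ?_).eq.symm
      refine (PrimeSpectrum.le_iff_specializes _ _).mp ?_
      show Ideal.comap (algebraMap R (Localization.AtPrime γ.asIdeal)) ⊥ ≤ (f η).asIdeal
      intro r hr
      rw [Ideal.mem_comap, Ideal.mem_bot, IsLocalization.to_map_eq_zero_iff
        (Localization.AtPrime γ.asIdeal) γ.asIdeal.primeCompl_le_nonZeroDivisors] at hr
      rw [hr]
      exact zero_mem _
    obtain ⟨η', hη'p, hη'q⟩ := Scheme.Pullback.exists_preimage_pullback η o ho.symm
    haveI : IsPreimmersion (Limits.pullback.fst f τ) :=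
      MorphismProperty.pullback_fst (P := @IsPreimmersion) f τ inferInstance
    have hspec : η' ⤳ x' := by
      rw [← (Limits.pullback.fst f τ).isEmbedding.isInducing.specializes_iff]
      rw [show Limits.pullback.fst f τ η' = η from hη'p]
      exact genericPoint_specializes _
    have h1 := FibDim.rd_le_of_valuationRing (Limits.pullback.snd f τ) hspec
      (fun t => by
        rw [show Limits.pullback.snd f τ η' = o from hη'q]
        exact (PrimeSpectrum.le_iff_specializes _ _).mp bot_le)
    rw [hx'rd] at h1
    exact h1.trans ((FibDim.rd_baseChange_le (IsPullback.of_hasPullback f τ) η').trans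
      (le_of_eq (congrArg _ hη'p)))
  · obtain ⟨w⟩ := h0
    obtain ⟨u, -, -, hfu, hge⟩ := FibDim.exists_rd_ge f (x := f.fiberι γ w)
      (genericPoint_specializes (α := X) _)
    refine ⟨u, hfu.trans (FibDim.fiber_apply_fiberι f w), le_trans ?_ hge⟩
    exact FibDim.rd_le_of_specializes f (genericPoint_specializes z) (hη.trans hz.symm)


end Groth.Agent.S14733
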