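import Groth.Statements.S14734
import Groth.Agent.ValPrufer.DimFun
import Groth.Agent.DimFormula.Catenary

set_option autoImplicit false
universe u
open ValPrufer

namespace Groth.Agent.S14734

/-- Let R be a Prüfer domain (an integral domain whose localisations at primes are valuation rings) of
finite Krull dimension and S an R-algebra of finite type. Then S, and every localisation T of S at a
multiplicative subset, is catenary and of finite Krull dimension. (The published statement is for a
scheme X of finite type over R and the spectrum of any semilocalisation of X; catenarity is local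
and finiteness of dimension is checked on a finite affine cover, so this row states the affine case
together with arbitrary localisations.) -/
theorem result
    (R : Type u) [CommRing R] [IsDomain R]
    (hR : ∀ (p : Ideal R) [p.IsPrime], ValuationRing (Localization.AtPrime p))
    (hdim : ringKrullDim R < ⊤)
    (S : Type u) [CommRing S] [Algebra R S] [Algebra.FiniteType R S]
    (M : Submonoid S) (T : Type u) [CommRing T] [Algebra S T] [IsLocalization M T] :
    CAlg.IsCatenary S ∧ ringKrullDim S < ⊤ ∧ CAlg.IsCatenary T ∧ ringKrullDim T < ⊤ := by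
  have hlt := @Groth.Agent.ValPrufer.DimFun.δ_lt R S _ _ _ _ _ hR hdim
  have hcov := @Groth.Agent.ValPrufer.DimFun.δ_covBy R S _ _ _ _ _ hR hdim
  obtain ⟨N, hN⟩ := Groth.Agent.ValPrufer.DimFun.exists_fd_bound (R := R) (S := S)
  obtain ⟨D, hD⟩ := Groth.Agent.ValPrufer.DimFun.exists_height_bound hdim
  let δ : PrimeSpectrum S → ℤ := Groth.Agent.ValPrufer.DimFun.δ R
  have hlen : ∀ s : LTSeries (PrimeSpectrum S), (s.length : ℤ) ≤ δ s.head - δ s.last := fun s => by
    have : ∀ i : Fin (s.length + 1), ((i : ℕ) : ℤ) ≤ δ s.head - δ (s i) := fun i => by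
      induction i using Fin.induction with
      | zero => simp [RelSeries.head]
      | succ i ih =>
        have := hlt (P := s i.castSucc) (Q := s i.succ) (s.step i)
        rw [Fin.val_succ]
        rw [Fin.val_castSucc] at ih
        simp only [δ] at ih ⊢
        push_cast
        omega
    exact this (Fin.last _)
  have hsat : ∀ s : LTSeries (PrimeSpectrum S), (∀ i : Fin s.length, s (Fin.castSucc i) ⋖ s (Fin.succ i)) →
      (s.length : ℤ) = δ s.head - δ s.last := fun s hs => by
    have : ∀ i : Fin (s.length + 1), ((i : ℕ) : ℤ) = δ s.head - δ (s i) := fun i => by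
      induction i using Fin.induction with
      | zero => simp [RelSeries.head]
      | succ i ih =>
        have := hcov (P := s i.castSucc) (Q := s i.succ) (hs i)
        rw [Fin.val_succ]
        rw [Fin.val_castSucc] at ih
        simp only [δ] at ih ⊢
        push_cast
        omega
    exact this (Fin.last _)
  have hcat : CAlg.IsCatenary S := by
    refine ⟨fun p q _ => ⟨(δ p - δ q).toNat, fun s h1 h2 => ?_⟩, fun s t h1 h2 hs ht => ?_⟩
    · have := hlen s
      rw [h1, h2] at this
      omega
    · have a := hsat s hs
      have b := hsat t ht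
      rw [h1, h2] at a
      omega
  have hbound : ringKrullDim S ≤ ((N + D : ℕ) : WithBot ℕ∞) := by
    refine iSup_le fun s => ?_
    have h1 := hlen s
    have hb1 : δ s.head ≤ N := by
      have := hN s.head
      simp only [δ, Groth.Agent.ValPrufer.DimFun.δ]
      omega
    have hb2 : -(D : ℤ) ≤ δ s.last := by
      have h3 : (s.last.asIdeal.under R).height.toNat ≤ D :=
        ENat.toNat_le_of_le_natCast (hD _ (@Ideal.IsPrime.under R _ _ _ _ s.last.asIdeal s.last.isPrime))
      simp only [δ, Groth.Agent.ValPrufer.DimFun.δ]
      omega
    exact_mod_cast (show s.length ≤ N + D by omega)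
  have hSfin : ringKrullDim S < ⊤ := hbound.trans_lt (WithBot.coe_lt_coe.2 (ENat.coe_lt_top _))
  have hle : ∀ a b : PrimeSpectrum T, PrimeSpectrum.comap (algebraMap S T) a ≤ PrimeSpectrum.comap (algebraMap S T) b ↔ a ≤ b :=
    fun a b => ⟨fun h => (IsLocalization.map_under M T a.asIdeal).ge.trans
      ((Ideal.map_mono h).trans (IsLocalization.map_under M T b.asIdeal).le), fun h => Ideal.comap_mono h⟩
  refine ⟨hcat, hSfin, Groth.Agent.DimFormula.isCatenary_of_embedding hcat _ hle fun a b x ha hb => ?_, ?_⟩
  · rw [PrimeSpectrum.localization_comap_range T M]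
    refine Set.disjoint_left.2 fun s hs hsx => ?_
    exact b.isPrime.ne_top (Ideal.eq_top_of_isUnit_mem _ (hb hsx) (IsLocalization.map_units T ⟨s, hs⟩))
  · refine (Order.krullDim_le_of_strictMono (PrimeSpectrum.comap (algebraMap S T)) fun a b hab => ?_).trans_lt hSfin
    exact lt_of_le_not_ge ((hle a b).2 hab.le) fun h => hab.not_ge ((hle b a).1 h)


end Groth.Agent.S14734
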