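import Groth.Statements.S14737
import Groth.Agent.GSGlue.Main
import Groth.Agent.RegLoc6.Basic
import Groth.Agent.Adic7.Misc

set_option autoImplicit false
universe u
open CategoryTheory MonoidalCategory CartesianMonoidalCategory MonObj AlgebraicGeometry
open ValPrufer

namespace Groth.Agent.S14737

/-- Let R be a regular local ring with fraction field K, r ∈ R, R̂ the r-adic completion of R, and G a
reductive R-group scheme. Assume the Grothendieck–Serre statement for R and G: every G-torsor for
the fppf topology over Spec R that has a K-point has a section. Then G(R̂[1/r]) = G(R̂) · G(R[1/r]):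
every point g of G over R̂[1/r] is the product, in the group of R̂[1/r]-points, of the restriction
of an R̂-point g₂ and the restriction of an R[1/r]-point g₁; the product is written through the pair
morphism h = (g₂, g₁) into G ×_R G followed by the multiplication of G. (The published statement is
the implication from the Grothendieck–Serre conjecture; only its instance for this R and this G
enters the proof, so that instance is the hypothesis here.) -/
theorem result (R : Type u) [CommRing R] [IsRegularLocalRing R] (r : R)
    (G : Over (Spec (CommRingCat.of R))) [GrpObj G] (hG : Red.IsReductive G)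
    (hGS : ∀ (X : Over (Spec (CommRingCat.of R))) (a : AlgGrp.Action G X),
      NonAbH1.IsTorsorFor Scheme.fppfPrecoverage a →
      NonAbH1.HasSectionOver X (Spec.map (CommRingCat.ofHom (algebraMap R (FractionRing R)))) →
      NonAbH1.HasSectionOver X (𝟙 (Spec (CommRingCat.of R))))
    (g : Spec (CommRingCat.of (Localization.Away
            (algebraMap R (AdicCompletion (Ideal.span {r}) R) r))) ⟶ G.left)
    (hg : g ≫ G.hom = Spec.map (CommRingCat.ofHom (algebraMap R (Localization.Away
            (algebraMap R (AdicCompletion (Ideal.span {r}) R) r))))) :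
    ∃ (g₁ : Spec (CommRingCat.of (Localization.Away r)) ⟶ G.left)
      (g₂ : Spec (CommRingCat.of (AdicCompletion (Ideal.span {r}) R)) ⟶ G.left)
      (h : Spec (CommRingCat.of (Localization.Away
            (algebraMap R (AdicCompletion (Ideal.span {r}) R) r))) ⟶ (G ⊗ G).left),
      g₁ ≫ G.hom = Spec.map (CommRingCat.ofHom (algebraMap R (Localization.Away r))) ∧
      g₂ ≫ G.hom = Spec.map (CommRingCat.ofHom (algebraMap R (AdicCompletion (Ideal.span {r}) R))) ∧
      h ≫ (fst G G).left = Spec.map (CommRingCat.ofHom (algebraMap (AdicCompletion (Ideal.span {r}) R)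
                (Localization.Away (algebraMap R (AdicCompletion (Ideal.span {r}) R) r)))) ≫ g₂ ∧
      h ≫ (snd G G).left = Spec.map (CommRingCat.ofHom (Localization.awayMap
                (algebraMap R (AdicCompletion (Ideal.span {r}) R)) r)) ≫ g₁ ∧
      g = h ≫ (μ[G]).left := by
  haveI : IsDomain R := Groth.Agent.RegLoc6.isDomain_of_isRegularLocalRing R
  set R' := AdicCompletion (Ideal.span {r}) R
  set R₂ := Localization.Away (algebraMap R R' r)
  by_cases htriv : r = 0 ∨ IsUnit r
  · haveI : Subsingleton R₂ := by
      rcases htriv with h0 | hu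
      · exact IsLocalization.subsingleton (M := Submonoid.powers (algebraMap R R' r)) ⟨1, by simp [h0]⟩
      · haveI : Subsingleton R' := by
          refine subsingleton_of_forall_eq 0 fun x => AdicCompletion.ext_evalₐ fun n => ?_
          haveI : Subsingleton (R ⧸ (Ideal.span {r}) ^ n) := Submodule.Quotient.subsingleton_iff.2 (by
            rw [Ideal.span_singleton_pow, Ideal.span_singleton_eq_top]
            exact hu.pow n)
          exact Subsingleton.elim _ _
        exact (algebraMap R' R₂).codomain_trivial
    haveI : IsEmpty (Spec (CommRingCat.of R₂)) := inferInstanceAs (IsEmpty (PrimeSpectrum R₂))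
    let o : ∀ T : Over (Spec (CommRingCat.of R)), T ⟶ G := fun T => toUnit T ≫ η[G]
    refine ⟨(o (Groth.Agent.GSGlue.Sp R (Localization.Away r))).left, (o (Groth.Agent.GSGlue.Sp R R')).left,
      (isInitialOfIsEmpty (X := Spec (CommRingCat.of R₂))).to _, Over.w (o _), Over.w (o _), ?_, ?_, ?_⟩
    all_goals exact (isInitialOfIsEmpty (X := Spec (CommRingCat.of R₂))).hom_ext _ _
  push Not at htriv
  obtain ⟨hr0, hru⟩ := htriv
  haveI : Module.FaithfullyFlat R R' :=
    ((Groth.Agent.Adic7.le_jacobson_tfae R (Ideal.span {r})).out 0 1).1 (by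
      rw [IsLocalRing.jacobson_eq_maximalIdeal ⊥ bot_ne_top, Ideal.span_singleton_le_iff_mem]
      exact hru)
  have hreg : IsSMulRegular R' r := IsSMulRegular.of_flat_of_isBaseChange
    (IsBaseChange.linearMap R R') (IsRegular.of_ne_zero hr0).left
  have hinjR : ∀ x : R, algebraMap R R' x = 0 → x = 0 := fun x hx =>
    FaithfulSMul.algebraMap_injective R R' (hx.trans (map_zero _).symm)
  have hle : Submonoid.powers (algebraMap R R' r) ≤ nonZeroDivisors R' := Submonoid.powers_le.2 (by
    refine mem_nonZeroDivisors_iff_right.2 fun x hx => hreg (?_ : r • x = r • (0 : R'))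
    rw [smul_zero, Algebra.smul_def, mul_comm]
    exact hx)
  let iA : R' →ₐ[R] R₂ := IsScalarTower.toAlgHom R R' R₂
  have hiA : Function.Injective iA := IsLocalization.injective R₂ hle
  let jA : Localization.Away r →ₐ[R] R₂ :=
    { Localization.awayMap (algebraMap R R') r with
      commutes' := fun x => (IsLocalization.map_eq _ x).trans (IsScalarTower.algebraMap_apply R R' R₂ x).symm }
  have hden₁ : ∀ y : Localization.Away r, ∃ (n : ℕ) (a : R), r ^ n • y = algebraMap R (Localization.Away r) a := by
    intro y
    obtain ⟨⟨a, ⟨_, n, rfl⟩⟩, h⟩ := IsLocalization.surj (Submonoid.powers r) y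
    exact ⟨n, a, by rw [Algebra.smul_def, mul_comm]; exact h⟩
  let Q : Groth.Agent.GSGlue.Sq R R' (Localization.Away r) R₂ r :=
    { i := iA
      j := jA
      i_inj := hiA
      j_inj := (injective_iff_map_eq_zero _).2 fun y hy => by
        obtain ⟨n, a, ha⟩ := hden₁ y
        have h1 : algebraMap R R₂ a = 0 := by rw [← jA.commutes, ← ha, map_smul, hy, smul_zero]
        have h2 : a = 0 := hinjR a (hiA (by rw [map_zero, iA.commutes]; exact h1))
        rw [h2, map_zero, Algebra.smul_def] at ha
        exact ((IsLocalization.map_units (Localization.Away r) (⟨r ^ n, n, rfl⟩ : Submonoid.powers r)).mul_right_eq_zero).1 ha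
      unit₁ := IsLocalization.Away.algebraMap_isUnit r
      den₁ := hden₁
      den₂ := fun y => by
        obtain ⟨⟨a, ⟨_, n, rfl⟩⟩, h⟩ := IsLocalization.surj (Submonoid.powers (algebraMap R R' r)) y
        refine ⟨n, a, ?_⟩
        rw [Algebra.smul_def, mul_comm, IsScalarTower.algebraMap_apply R R' R₂, map_pow (algebraMap R R')]
        exact h
      qb := fun n hn => by
        constructor
        · refine Ideal.quotientMap_injective' ?_
          rw [Ideal.comap_map_eq_self_of_faithfullyFlat]
        · intro y
          obtain ⟨y, rfl⟩ := Ideal.Quotient.mk_surjective y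
          obtain ⟨a, ha⟩ := Ideal.Quotient.mk_surjective (AdicCompletion.evalₐ (Ideal.span {r}) n y)
          refine ⟨Ideal.Quotient.mk _ a, ?_⟩
          rw [Ideal.quotientMap_mk, Ideal.Quotient.eq]
          have h0 : AdicCompletion.evalₐ (Ideal.span {r}) n (algebraMap R R' a - y) = 0 := by
            rw [map_sub, AlgHom.commutes, ← ha]; simp
          have h1 : AdicCompletion.eval (Ideal.span {r}) R n (algebraMap R R' a - y) = 0 := by
            have hh : ((Ideal.span {r}) ^ n • ⊤ : Ideal R) = (Ideal.span {r}) ^ n := by
              rw [Ideal.smul_eq_mul, Ideal.mul_top]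
            exact (Ideal.quotientEquivAlgOfEq R hh).injective (h0.trans (map_zero _).symm)
          have h2 : algebraMap R R' a - y ∈ ((Ideal.span {r}) ^ n • ⊤ : Submodule R R') := by
            rw [AdicCompletion.pow_smul_top_eq_ker_eval (Submodule.fg_span_singleton r)]
            exact h1
          rw [Ideal.smul_top_eq_map, Ideal.span_singleton_pow] at h2
          exact h2
      inj := hinjR }
  haveI := hG.1
  haveI : IsAffine G.left := isAffine_of_isAffineHom G.hom
  let H : Type u := Γ(G.left, ⊤)
  letI algH : Algebra R H :=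
    RingHom.toAlgebra ((Scheme.ΓSpecIso (CommRingCat.of R)).inv ≫ G.hom.appTop).hom
  have hw : G.left.isoSpec.hom ≫ Spec.map (CommRingCat.ofHom (algebraMap R H)) = G.hom := by
    rw [← cancel_mono (Spec (CommRingCat.of R)).isoSpec.hom, Scheme.isoSpec_Spec_hom, Category.assoc,
      ← Spec.map_comp]
    rw [show (Scheme.ΓSpecIso (CommRingCat.of R)).hom ≫ CommRingCat.ofHom (algebraMap R H) = G.hom.appTop by
      rw [show CommRingCat.ofHom (algebraMap R H) = (Scheme.ΓSpecIso (CommRingCat.of R)).inv ≫ G.hom.appTop from rfl,
        Iso.hom_inv_id_assoc]]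
    rw [Scheme.isoSpec_hom_naturality G.hom, Scheme.isoSpec_Spec_hom]
  let eG : G ≅ Groth.Agent.GSGlue.Sp R H := Over.isoMk G.left.isoSpec hw
  haveI hsm : Smooth (Spec.map (CommRingCat.ofHom (algebraMap R H))) := by
    have := hG.2.1
    rw [show Spec.map (CommRingCat.ofHom (algebraMap R H)) = G.left.isoSpec.inv ≫ G.hom by
      rw [Iso.eq_inv_comp]; exact hw]
    infer_instance
  haveI : Algebra.Smooth R H := by
    have := (HasRingHomProperty.Spec_iff (P := @Smooth)).1 hsm
    rw [CommRingCat.hom_ofHom, RingHom.smooth_algebraMap] at this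
    exact this
  haveI : Module.Flat R H := inferInstance
  haveI : Algebra.FinitePresentation R H := Algebra.Smooth.finitePresentation
  let κ : Localization.Away r →ₐ[R] FractionRing R := IsLocalization.liftAlgHom (M := Submonoid.powers r)
    (f := Algebra.ofId R (FractionRing R)) fun y => by
      obtain ⟨_, n, rfl⟩ := y
      show IsUnit (algebraMap R (FractionRing R) (r ^ n))
      rw [map_pow]
      exact (IsUnit.mk0 _ (fun h => hr0 (IsFractionRing.injective R (FractionRing R) (h.trans (map_zero _).symm)))).pow n
  let gO : Groth.Agent.GSGlue.Sp R R₂ ⟶ G := Over.homMk g hg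
  obtain ⟨g', g₁, hgg⟩ := Groth.Agent.GSGlue.exists_factor Q G eG κ hGS gO
  refine ⟨g₁.left, g'.left,
    (lift (Groth.Agent.GSGlue.spMap Q.i ≫ g') (Groth.Agent.GSGlue.spMap Q.j ≫ g₁)).left, Over.w g₁, Over.w g', ?_, ?_, ?_⟩
  · rw [← Over.comp_left, lift_fst]
    rfl
  · rw [← Over.comp_left, lift_snd]
    rfl
  · have := congrArg (fun φ => φ.left) hgg
    exact this


end Groth.Agent.S14737
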