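import Groth.Statements.S14738
import Groth.Agent.ValPrufer.Basic

set_option autoImplicit false
universe u
open ValPrufer

namespace Groth.Agent.S14738

/-- Let R be a semilocal Prüfer domain (an integral domain with finitely many maximal ideals whose
localisations at primes are valuation rings) of finite Krull dimension, and m a maximal ideal of R.
Then there is a ∈ R with V(a) = {m}, i.e. m is the only prime ideal containing a, and there is b ∉ m
such that R[1/b] is the localisation R_m (every element outside m becomes invertible after inverting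
b); consequently the spectra of the local rings R_m form a Zariski open covering of Spec R. (The
published remark assumes positive Krull dimension to construct a; for R a field the assertions hold
with a = 0 and b = 1. It also takes b to be the product of the elements a_n chosen in the same way
for the other maximal ideals n; that choice fails as soon as a non-maximal prime lies in another
maximal ideal but not in m, e.g. for the intersection of two independent rank-two valuation rings of
a field, so this row asserts only that some such b exists.) -/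
theorem result
    (R : Type u) [CommRing R] [IsDomain R]
    (hR : ∀ (p : Ideal R) [p.IsPrime], ValuationRing (Localization.AtPrime p))
    (hfin : Finite (MaximalSpectrum R)) (hdim : ringKrullDim R < ⊤)
    (m : Ideal R) [m.IsMaximal] :
    (∃ a : R, ∀ (p : Ideal R), p.IsPrime → (a ∈ p ↔ p = m)) ∧
      ∃ b : R, b ∉ m ∧ IsLocalization.AtPrime (Localization.Away b) m := by
  classical
  have := ValPrufer.finite_primeSpectrum hR hfin hdim
  have := Fintype.ofFinite (PrimeSpectrum R)
  constructor
  · by_contra! h
    have hsub : (m : Set R) ⊆ ⋃ p ∈ ((Finset.univ.filter fun p : PrimeSpectrum R => p.asIdeal ≠ m) : Set (PrimeSpectrum R)), (p.asIdeal : Set R) := by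
      intro a ha
      obtain ⟨p, hp, h'⟩ := h a
      rcases h' with ⟨hap, hne⟩ | ⟨hna, he⟩
      · exact Set.mem_biUnion (Finset.mem_coe.2 (Finset.mem_filter.2 ⟨Finset.mem_univ ⟨p, hp⟩, hne⟩)) hap
      · exact absurd (he ▸ ha) hna
    obtain ⟨p, hp, hle⟩ := (Ideal.subset_union_prime ⟨⊥, Ideal.isPrime_bot⟩ ⟨⊥, Ideal.isPrime_bot⟩ fun p _ _ _ => p.isPrime).1 hsub
    exact (Finset.mem_filter.1 hp).2 (‹m.IsMaximal›.eq_of_le p.isPrime.ne_top hle).symm
  · let S := Finset.univ.filter fun p : PrimeSpectrum R => ¬ p.asIdeal ≤ m
    have hch : ∀ p ∈ S, ∃ x ∈ p.asIdeal, x ∉ m := fun p hp => SetLike.not_le_iff_exists.1 (Finset.mem_filter.1 hp).2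
    choose! x hx hxm using hch
    refine ⟨∏ p ∈ S, x p, fun hb => ?_, ?_⟩
    · obtain ⟨p, hp, hpm⟩ := (Ideal.IsPrime.prod_mem_iff (p := m)).1 hb
      exact hxm p hp hpm
    have hbm : (∏ p ∈ S, x p) ∈ m.primeCompl := fun hb => by
      obtain ⟨p, hp, hpm⟩ := (Ideal.IsPrime.prod_mem_iff (p := m)).1 hb
      exact hxm p hp hpm
    refine IsLocalization.of_le (Submonoid.powers (∏ p ∈ S, x p)) m.primeCompl (Submonoid.powers_le.2 hbm) fun s hs => ?_
    by_contra hnu
    obtain ⟨P, hP, hsP⟩ := exists_max_ideal_of_mem_nonunits hnu
    let p : PrimeSpectrum R := ⟨P.comap (algebraMap R _), Ideal.IsPrime.comap _⟩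
    by_cases hle : p.asIdeal ≤ m
    · exact hs (hle hsP)
    · have hp : p ∈ S := Finset.mem_filter.2 ⟨Finset.mem_univ _, hle⟩
      have h1 : algebraMap R (Localization.Away (∏ p ∈ S, x p)) (∏ p ∈ S, x p) ∈ P :=
        Ideal.mem_comap.1 (Ideal.mem_of_dvd p.asIdeal (Finset.dvd_prod_of_mem x hp) (hx p hp))
      exact hP.ne_top (Ideal.eq_top_of_isUnit_mem _ h1
        (IsLocalization.map_units (M := Submonoid.powers (∏ p ∈ S, x p)) (Localization.Away (∏ p ∈ S, x p))
          ⟨_, Submonoid.mem_powers _⟩))


end Groth.Agent.S14738
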