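import Groth.Statements.S14740
import Groth.Agent.PruferCoh.Closed

set_option autoImplicit false
universe u
open CategoryTheory AlgebraicGeometry MonoidalCategory
open ValPrufer

namespace Groth.Agent.S14740

/-- Let R be a semilocal Prüfer domain (an integral domain with finitely many maximal ideals whose
localisations at primes are valuation rings) of finite Krull dimension, m ≥ 1, X a closed subscheme
of projective (m-1)-space over R which is flat over R, O_X(1) the pullback of O(1), and φ : F ⟶ G an
epimorphism of finitely presented (equivalently, coherent) O_X-modules. Then there is N such that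
for every n ≥ N the map induced by φ on global sections of the twists, Γ(X, F ⊗ O_X(1)^{⊗ n}) → Γ(X,
G ⊗ O_X(1)^{⊗ n}), is surjective. -/
theorem result
    (R : Type u) [CommRing R] [IsDomain R]
    (hR : ∀ (p : Ideal R) [p.IsPrime], ValuationRing (Localization.AtPrime p))
    (hfin : Finite (MaximalSpectrum R)) (hdim : ringKrullDim R < ⊤)
    (m : ℕ) (hm : 1 ≤ m) (X : Scheme.{u}) (ι : X ⟶ CohB1.ProjSpace (m - 1) R) [IsClosedImmersion ι]
    [Flat (ι ≫ CohB1.ProjSpace.toSpec (m - 1) R)]
    (F G : X.Modules) (hF : CohB1.IsFP F) (hG : CohB1.IsFP G) (φ : F ⟶ G) [Epi φ] :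
    ∃ N : ℕ, ∀ n : ℕ, N ≤ n →
      Function.Surjective (((CohB1.sheafifyMod X).map (MonoidalCategoryStruct.whiskerRight (C := CohB1.PMod X)
        φ.val (CohB1.toPMod (CohB1.tensorPow ((Scheme.Modules.pullback ι).obj (Twist.twistProjSpace (m - 1) R 1)) n)))).val.app (Opposite.op ⊤)).hom := by
  haveI := hfin
  exact Groth.Agent.PruferCoh.exists_surjective_closed ι hR hF hG φ


end Groth.Agent.S14740
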