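import Groth.Statements.S14741
import Groth.Agent.PnCoh.Finite.ProjSpace
import Groth.Agent.QCoh.Support

set_option autoImplicit false
universe u
open CategoryTheory AlgebraicGeometry
open ValPrufer

namespace Groth.Agent.S14741

/-- Let R be a semilocal Prüfer domain (an integral domain with finitely many maximal ideals whose
localisations at primes are valuation rings) of finite Krull dimension, m ≥ 1, X a closed subscheme
of projective (m-1)-space over R which is flat over R, and F a finitely presented (equivalently,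
coherent) O_X-module. Then H^q(X, F) = 0 for all q > m. -/
theorem result
    (R : Type u) [CommRing R] [IsDomain R]
    (hR : ∀ (p : Ideal R) [p.IsPrime], ValuationRing (Localization.AtPrime p))
    (hfin : Finite (MaximalSpectrum R)) (hdim : ringKrullDim R < ⊤)
    (m : ℕ) (hm : 1 ≤ m) (X : Scheme.{u}) (ι : X ⟶ CohB1.ProjSpace (m - 1) R) [IsClosedImmersion ι]
    [Flat (ι ≫ CohB1.ProjSpace.toSpec (m - 1) R)]
    (F : X.Modules) (hF : CohB1.IsFP F) (q : ℕ) (hq : m < q) :
    Subsingleton (Coh.HH X F q) := by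
  let 𝒜 := CohB1.polyGrading (m - 1) R
  have hD : ∀ j : Fin (m - 1 + 1), IsAffineOpen (Proj.basicOpen 𝒜 (MvPolynomial.X j)) := fun j =>
    Proj.isAffineOpen_basicOpen 𝒜 _ (MvPolynomial.isHomogeneous_X R j) Nat.one_pos
  haveI : X.IsSeparated := by
    haveI : (CohB1.ProjSpace (m - 1) R).IsSeparated := inferInstanceAs ((Proj 𝒜).IsSeparated)
    exact ⟨by rw [← CategoryTheory.Limits.terminal.comp_from ι]; infer_instance⟩
  have hι : IsAffineHom ι := inferInstance
  refine Groth.Agent.QCoh.HH_subsingleton_of_cover (X := X) (m - 1 + 1)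
    (fun j => ι ⁻¹ᵁ Proj.basicOpen 𝒜 (MvPolynomial.X j)) (fun j => @IsAffineOpen.preimage X _ _ (hD j) ι hι) ?_
    (fun V W hV hW => hV.inf hW) (Groth.Agent.QCoh.isQCoh_of_isFP hF) q (by omega)
  refine top_le_iff.1 fun x _ => ?_
  have h : ι.base x ∈ (⊤ : (Proj 𝒜).Opens) := trivial
  rw [← Groth.Agent.PnCoh.iSup_mOpen_single (ι := Fin (m - 1 + 1)) (R := R)] at h
  obtain ⟨j, hj⟩ := TopologicalSpace.Opens.mem_iSup.1 h
  exact TopologicalSpace.Opens.mem_iSup.2 ⟨j, hj⟩


end Groth.Agent.S14741
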