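import Groth.Statements.S14742
import Groth.Agent.PruferCoh.General
import Groth.Agent.PruferCoh.Ring

set_option autoImplicit false
universe u
open ValPrufer

namespace Groth.Agent.S14742

/-- Let R be a Prüfer domain (an integral domain whose localisations at primes are valuation rings) and
A a finitely presented R-algebra. Then A is a coherent ring: every finitely generated ideal I of A
is finitely presented as an A-module. -/
theorem result
    (R : Type u) [CommRing R] [IsDomain R]
    (hR : ∀ (p : Ideal R) [p.IsPrime], ValuationRing (Localization.AtPrime p))
    (A : Type u) [CommRing A] [Algebra R A] [Algebra.FinitePresentation R A]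
    (I : Ideal A) (hI : I.FG) : Module.FinitePresentation A I := by
  obtain ⟨n, φ, hφ, hker⟩ := Algebra.FinitePresentation.out (R := R) (A := A)
  letI : Algebra (MvPolynomial (Fin n) R) A := φ.toRingHom.toAlgebra
  exact Groth.Agent.PruferCoh.subFP_quotient (P := MvPolynomial (Fin n) R) (B := A) hφ hker
    (Groth.Agent.PruferCoh.subFP_mvPolynomial_prufer hR) I hI


end Groth.Agent.S14742
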