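import Groth.Statements.S14743


set_option autoImplicit false
universe u
open CategoryTheory MonoidalCategory CartesianMonoidalCategory MonObj GrpObj AlgebraicGeometry
open AlgGrp

namespace Groth.Agent.S14743

/-- Over an algebraically closed field k let L, G, B be commutative k-group schemes, i : L → G and π : G
→ B homomorphisms with i the kernel of π, and suppose that every k-morphism B × B → L is constant
(factors through a k-point of L). If π admits a section which is a morphism of k-schemes, then it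
admits a section which is a homomorphism, so the extension splits. (The published statement is for
algebraic groups, that is, of finite type over k; finiteness plays no role and is not assumed here.) -/
theorem result (k : Type u) [Field k] [IsAlgClosed k]
    (L G B : Over (Spec (CommRingCat.of k))) [GrpObj L] [GrpObj G] [GrpObj B]
    [IsCommMonObj L] [IsCommMonObj G] [IsCommMonObj B]
    (i : L ⟶ G) [IsMonHom i] (π : G ⟶ B) [IsMonHom π] (hker : AlgGrp.IsKernel i π)
    (hconst : ∀ f : B ⊗ B ⟶ L, ∃ l : 𝟙_ (Over (Spec (CommRingCat.of k))) ⟶ L, f = toUnit (B ⊗ B) ≫ l)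
    (s : B ⟶ G) (hs : s ≫ π = 𝟙 B) :
    ∃ s' : B ⟶ G, IsMonHom s' ∧ s' ≫ π = 𝟙 B := by
  let s1 : 𝟙_ (Over (Spec (CommRingCat.of k))) ⟶ G := η[B] ≫ s
  let δ : B ⊗ B ⟶ G := ((fst B B * snd B B) ≫ s) * ((fst B B ≫ s) * (snd B B ≫ s))⁻¹
  have hδ : δ ≫ π = toUnit _ ≫ η[B] := by
    simp only [δ, MonObj.mul_comp, GrpObj.inv_comp, Category.assoc, hs, Category.comp_id, mul_inv_cancel]
    simp [MonObj.one_eq_one, MonObj.comp_one]
  obtain ⟨l, hl⟩ := hconst (hker.lift δ (toUnit _) hδ)
  have hδ2 : δ = toUnit (B ⊗ B) ≫ (l ≫ i) := by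
    rw [← hker.lift_fst δ (toUnit _) hδ, hl, Category.assoc]
  have hl1 : l ≫ i = s1⁻¹ := by
    have h := congrArg (lift η[B] η[B] ≫ ·) hδ2
    simp only [δ, MonObj.comp_mul, GrpObj.comp_inv, ← Category.assoc, lift_fst, lift_snd] at h
    rw [toUnit_unique (lift η[B] η[B] ≫ toUnit (B ⊗ B)) (𝟙 _), Category.id_comp] at h
    rw [← h, MonObj.one_eq_one, _root_.one_mul]
    simp [s1, MonObj.one_eq_one, _root_.mul_inv_rev]
  refine ⟨s * (toUnit B ≫ s1)⁻¹, ⟨?_, ?_⟩, ?_⟩
  · rw [MonObj.comp_mul, GrpObj.comp_inv, ← Category.assoc, toUnit_unique (η[B] ≫ toUnit B) (𝟙 _),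
      Category.id_comp, mul_inv_cancel, MonObj.one_eq_one]
  · have hm : (fst B B * snd B B) ≫ s = (toUnit (B ⊗ B) ≫ s1)⁻¹ * ((fst B B ≫ s) * (snd B B ≫ s)) := by
      have h := hδ2
      rw [hl1, GrpObj.comp_inv] at h
      exact mul_inv_eq_iff_eq_mul.mp h
    rw [MonObj.mul_eq_mul, MonObj.mul_eq_mul, MonObj.comp_mul, MonObj.comp_mul, tensorHom_fst, tensorHom_snd,
      MonObj.comp_mul, MonObj.comp_mul, GrpObj.comp_inv, GrpObj.comp_inv, GrpObj.comp_inv, hm]
    simp only [← Category.assoc]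
    rw [toUnit_unique (fst B B ≫ toUnit B) (toUnit _), toUnit_unique (snd B B ≫ toUnit B) (toUnit _),
      toUnit_unique ((fst B B * snd B B) ≫ toUnit B) (toUnit _)]
    simp [_root_.mul_comm, _root_.mul_assoc, mul_left_comm]
  · rw [MonObj.mul_comp, GrpObj.inv_comp, hs, Category.assoc, Category.assoc, hs, Category.comp_id,
      MonObj.one_eq_one, MonObj.comp_one, inv_one, _root_.mul_one]

end Groth.Agent.S14743
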