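import Groth.Statements.S14746
import Groth.Agent.AGFLib.QuotProper
import Groth.Agent.GrpSchLib.SmoothReduced
import Groth.Agent.S0348
import Groth.Agent.VarDim.FibreDim
import Groth.Agent.VarDim.IrredFibres
-- import your own Groth.Agent.* helpers here

set_option autoImplicit false
set_option backward.isDefEq.respectTransparency false
set_option backward.isDefEq.respectTransparency.types false
universe u
open CategoryTheory MonoidalCategory CartesianMonoidalCategory MonObj GrpObj AlgebraicGeometry CategoryTheory.Limits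
open AlgGrp

namespace Groth.Agent.S14746

open Groth.Agent.GrpSchLib Groth.Agent.AGFLib Groth.Agent.AGFLib.Gen

variable {k : Type u} [Field k] [IsAlgClosed k] {H : Over (Spec (CommRingCat.of k))}

local notation "PT" => 𝟙_ (Over (Spec (CommRingCat.of k)))

omit [IsAlgClosed k] in
theorem constructible_range [LocallyOfFiniteType H.hom] [QuasiCompact H.hom] [IsSeparated H.hom] (f : H ⟶ H) :
    Topology.IsConstructible (Set.range f.left) := by
  haveI : IsLocallyNoetherian H.left := LocallyOfFiniteType.isLocallyNoetherian H.hom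
  haveI : LocallyOfFiniteType (f.left ≫ H.hom) := by rw [Over.w f]; infer_instance
  haveI : LocallyOfFiniteType f.left := locallyOfFiniteType_of_comp f.left H.hom
  haveI : QuasiCompact (f.left ≫ H.hom) := by rw [Over.w f]; infer_instance
  haveI : QuasiCompact f.left := QuasiCompact.of_comp f.left H.hom
  haveI : CompactSpace H.left := (quasiCompact_iff_compactSpace H.hom).mp inferInstance
  haveI : LocallyOfFinitePresentation f.left := inferInstance
  rw [← Set.image_univ]
  exact f.left.isConstructible_image Topology.IsConstructible.univ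

/-- An endomorphism of an irreducible variety with a finite fibre has image containing a nonempty open. -/
theorem exists_open [LocallyOfFiniteType H.hom] [QuasiCompact H.hom] [IsSeparated H.hom] [IrreducibleSpace H.left]
    (f : H ⟶ H) (w : PT ⟶ H) (hfin : {t : PT ⟶ H | t ≫ f = w ≫ f}.Finite) :
    ∃ U : Set H.left, IsOpen U ∧ U.Nonempty ∧ U ⊆ Set.range f.left := by
  haveI : JacobsonSpace H.left := LocallyOfFiniteType.jacobsonSpace H.hom
  haveI : LocallyOfFiniteType (f.left ≫ H.hom) := by rw [Over.w f]; infer_instance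
  haveI : LocallyOfFiniteType f.left := locallyOfFiniteType_of_comp f.left H.hom
  let T := f.left ⁻¹' {f.left (cp w)}
  have hT : IsClosed T := (isClosed_cp (w ≫ f)).preimage f.left.continuous
  have hclosed : ∀ y ∈ T, IsClosed ({y} : Set H.left) := by
    intro y hy
    have hsub : T ⊆ cp '' {t : PT ⟶ H | t ≫ f = w ≫ f} := by
      have hfc : IsClosed (cp '' {t : PT ⟶ H | t ≫ f = w ≫ f}) := by
        rw [← Set.biUnion_of_singleton (cp '' _)]
        exact (hfin.image _).isClosed_biUnion fun x ⟨t, _, ht⟩ => ht ▸ isClosed_cp t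
      rw [← JacobsonSpace.closure_inter_closedPoints hT]
      refine closure_minimal ?_ hfc
      rintro z ⟨hz1, hz2⟩
      obtain ⟨t, rfl⟩ := exists_cp hz2
      exact ⟨t, cp_injective hz1, rfl⟩
    obtain ⟨t, -, rfl⟩ := hsub hy
    exact isClosed_cp t
  obtain ⟨x', hx1, -, hx3, hx4⟩ := VarDim.exists_fdeg_ge (k := k) f.left H.hom
    (genericPoint_specializes (cp w))
  have h0 : VarDim.deg H.hom x' = 0 := (VarDim.closedPoint_iff_deg_eq_zero H.hom x').1 (hclosed x' hx3)
  have h1 := VarDim.deg_eq_add f.left H.hom (Over.w f) x'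
  have h2 : VarDim.fdeg f.left (genericPoint H.left) = 0 := by omega
  have h3 := VarDim.deg_eq_add f.left H.hom (Over.w f) (genericPoint H.left)
  have hgen : f.left (genericPoint H.left) = genericPoint H.left :=
    (VarDim.eq_of_specializes_of_deg_le H.hom (genericPoint_specializes _) (by omega)).symm
  obtain ⟨U, hU, hne, hsub⟩ : ∃ U : Set H.left, IsOpen U ∧ U.Nonempty ∧ U ⊆ Set.range f.left := by
    have hmem : genericPoint H.left ∈ Set.range f.left := ⟨_, hgen⟩
    have hd : closure (Set.range f.left) = Set.univ :=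
      Set.univ_subset_iff.mp ((genericPoint_closure (α := H.left)).symm.subset.trans
        (closure_mono (Set.singleton_subset_iff.mpr hmem)))
    refine ⟨interior (Set.range f.left), isOpen_interior, ⟨genericPoint H.left, ?_⟩, interior_subset⟩
    exact mem_interior_iff_mem_nhds.mpr
      ((VarDim.mem_nhds_of_isConstructible genericPoint_specializes (constructible_range f)).1 hmem)
  exact ⟨U, hU, hne, hsub⟩

/-- Two twisted conjugacy classes with finite stabilisers coincide. -/
theorem exists_lang [GrpObj H] [LocallyOfFiniteType H.hom] [QuasiCompact H.hom] [IrreducibleSpace H.left]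
    (τ : H ⟶ H) [IsMonHom τ] (z : PT ⟶ H) (h1 : {t : PT ⟶ H | t ≫ τ = t}.Finite)
    (hz : {t : PT ⟶ H | t * z * (t ≫ τ)⁻¹ = z}.Finite) : ∃ c : PT ⟶ H, c⁻¹ * (c ≫ τ) = z := by
  haveI := GrpSchLib.AntiAffine.isSeparated_grp H
  haveI : JacobsonSpace H.left := LocallyOfFiniteType.jacobsonSpace H.hom
  let ψ : (PT ⟶ H) → (H ⟶ H) := fun x => 𝟙 H * (toUnit H ≫ x) * τ⁻¹
  have hψ : ∀ x t : PT ⟶ H, t ≫ ψ x = t * x * (t ≫ τ)⁻¹ := fun x t => by
    simp only [ψ, MonObj.comp_mul, GrpObj.comp_inv, Category.comp_id, ← Category.assoc]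
    rw [toUnit_unique (t ≫ toUnit H) (𝟙 _), Category.id_comp]
  obtain ⟨U, hU, hUne, hUs⟩ := exists_open (ψ z) 1 (by simpa [hψ] using hz)
  obtain ⟨V, hV, hVne, hVs⟩ := exists_open (ψ 1) 1 (by
    refine h1.subset fun t ht => ?_
    simp only [Set.mem_setOf_eq, hψ, MonObj.one_comp, _root_.one_mul, _root_.mul_one, inv_one] at ht ⊢
    exact (mul_inv_eq_one.mp ht).symm)
  obtain ⟨y, ⟨hyU, hyV⟩, hy⟩ := nonempty_inter_closedPoints (Z := U ∩ V)
    (nonempty_preirreducible_inter hU hV hUne hVne) (hU.inter hV).isLocallyClosed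
  obtain ⟨t, rfl⟩ := exists_cp hy
  obtain ⟨p, hp⟩ := exists_of_mem_range (ψ z) t (hUs hyU)
  obtain ⟨q, hq⟩ := exists_of_mem_range (ψ 1) t (hVs hyV)
  rw [hψ] at hp hq
  refine ⟨q⁻¹ * p, ?_⟩
  rw [MonObj.mul_comp, GrpObj.inv_comp]
  have e := hp.trans hq.symm
  generalize p ≫ τ = P at e ⊢
  generalize q ≫ τ = Q at e ⊢
  calc (q⁻¹ * p)⁻¹ * (Q⁻¹ * P) = p⁻¹ * (q * 1 * Q⁻¹) * P := by group
    _ = z := by rw [← e]; group

/-- Over an algebraically closed field k let G be a k-group scheme of finite type, i : H → G a smooth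
connected affine closed subgroup scheme, and X = G/H the quotient with its G-action, base point o
and orbit map G → X. Let σ be an endomorphism of G restricting to a surjective endomorphism τ of H
and compatible with an endomorphism φ of X under the orbit map, and suppose σ has only finitely many
fixed k-points. Then the number of fixed k-points of σ equals the number of fixed k-points of τ
times the number of fixed k-points of φ. (The published statement allows any subgroup H and any
restriction τ; for the square roots of unity inside the multiplicative group and the cube map the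
count fails, and the published proof applies the surjectivity of the Lang map h ↦ h⁻¹τ(h) of H, so H
is taken smooth, connected and affine and τ surjective here.) -/
theorem result (k : Type u) [Field k] [IsAlgClosed k]
    (G H : Over (Spec (CommRingCat.of k))) [GrpObj G] [GrpObj H] [QuasiCompact G.hom] [LocallyOfFiniteType G.hom]
    (i : H ⟶ G) [IsMonHom i] [IsClosedImmersion i.left] [Smooth H.hom] [ConnectedSpace ↥H.left] [IsAffine H.left]
    (X : Over (Spec (CommRingCat.of k))) (a : AlgGrp.Action G X) (o : 𝟙_ (Over (Spec (CommRingCat.of k))) ⟶ X)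
    (hX : AGF.IsQuotient i X a o)
    (σ : G ⟶ G) [IsMonHom σ] (τ : H ⟶ H) [IsMonHom τ] (hτ : τ ≫ i = i ≫ σ) (hτs : Surjective τ.left)
    (φ : X ⟶ X) (hφ : a.orbitMap o ≫ φ = σ ≫ a.orbitMap o)
    (hfin : Finite {g : 𝟙_ (Over (Spec (CommRingCat.of k))) ⟶ G // g ≫ σ = g}) :
    Nat.card {g : 𝟙_ (Over (Spec (CommRingCat.of k))) ⟶ G // g ≫ σ = g} =
      Nat.card {h : 𝟙_ (Over (Spec (CommRingCat.of k))) ⟶ H // h ≫ τ = h} *
        Nat.card {x : 𝟙_ (Over (Spec (CommRingCat.of k))) ⟶ X // x ≫ φ = x} := by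
  obtain ⟨hl, _, _, _⟩ := id hX
  haveI : LocallyOfFiniteType H.hom := by rw [← Over.w i]; infer_instance
  haveI : QuasiCompact H.hom := by rw [← Over.w i]; infer_instance
  haveI : IrreducibleSpace H.left := Groth.Agent.S0348.result k H
  haveI : Mono i := (Over.forget _).mono_of_mono_map (inferInstanceAs (Mono i.left))
  haveI := hl
  haveI : IsSeparated X.hom := QuotProper.quot_isSeparated hX
  let G' := 𝟙_ (Over (Spec (CommRingCat.of k))) ⟶ G
  let H' := 𝟙_ (Over (Spec (CommRingCat.of k))) ⟶ H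
  have horb : ∀ (g : G') (h : H'), (g * (h ≫ i)) ≫ a.orbitMap o = g ≫ a.orbitMap o := fun g h => by
    have := congrArg (lift g h ≫ ·) hX.2.2.2.w
    rw [← Category.assoc, lift_fst, ← Category.assoc, ← QuotProper.mul_eq_comp, lift_fst, ← Category.assoc,
      lift_snd] at this
    exact this.symm
  have hτi : ∀ h : H', (h ≫ τ) ≫ i = (h ≫ i) ≫ σ := fun h => by rw [Category.assoc, hτ, Category.assoc]
  have hfinG : {g : G' | g ≫ σ = g}.Finite := Set.finite_coe_iff.mp hfin
  have h1 : {t : H' | t ≫ τ = t}.Finite :=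
    (hfinG.preimage (f := fun t : H' => t ≫ i) (fun a _ b _ e => (cancel_mono i).mp e)).subset fun t ht => by
      show (t ≫ i) ≫ σ = t ≫ i
      rw [← hτi, ht]
  have hsurj : ∀ x : {x : 𝟙_ (Over (Spec (CommRingCat.of k))) ⟶ X // x ≫ φ = x},
      ∃ g : {g : G' // g ≫ σ = g}, g.1 ≫ a.orbitMap o = x.1 := by
    rintro ⟨x, hx⟩
    haveI := hX.2.2.1
    obtain ⟨g, rfl⟩ := exists_of_mem_range (a.orbitMap o) x ((a.orbitMap o).left.surjective _)
    obtain ⟨z, hz⟩ := QuotProper.exists_mul_eq hX g (g ≫ σ)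
      (by rw [Category.assoc g σ, ← hφ, ← Category.assoc, hx])
    have hzfin : {t : H' | t * z * (t ≫ τ)⁻¹ = z}.Finite :=
      (hfinG.preimage (f := fun t : H' => g * (t ≫ i) * g⁻¹)
        (fun a _ b _ e => (cancel_mono i).mp (mul_left_cancel (mul_right_cancel e)))).subset fun t ht => by
        have e : (t ≫ τ) = z⁻¹ * t * z := by
          calc t ≫ τ = z⁻¹ * (t * z * (t ≫ τ)⁻¹) * (t ≫ τ) := by rw [ht]; group
            _ = z⁻¹ * t * z := by group
        show (g * (t ≫ i) * g⁻¹) ≫ σ = g * (t ≫ i) * g⁻¹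
        rw [MonObj.mul_comp, MonObj.mul_comp, GrpObj.inv_comp, ← hτi, e, MonObj.mul_comp, MonObj.mul_comp,
          GrpObj.inv_comp, ← hz]
        group
    obtain ⟨c, hc⟩ := exists_lang τ z h1 hzfin
    refine ⟨⟨g * (c⁻¹ ≫ i), ?_⟩, horb g _⟩
    rw [MonObj.mul_comp, ← hτi, ← hz, GrpObj.inv_comp c τ, _root_.mul_assoc, ← MonObj.mul_comp, ← hc,
      mul_inv_cancel_right]
  choose s hs using hsurj
  have hquot : ∀ g : {g : G' // g ≫ σ = g}, (g.1 ≫ a.orbitMap o) ≫ φ = g.1 ≫ a.orbitMap o := fun g => by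
    rw [Category.assoc, hφ, ← Category.assoc, g.2]
  let F : {h : H' // h ≫ τ = h} × {x : 𝟙_ (Over (Spec (CommRingCat.of k))) ⟶ X // x ≫ φ = x} →
      {g : G' // g ≫ σ = g} := fun p =>
    ⟨(s p.2).1 * (p.1.1 ≫ i), by rw [MonObj.mul_comp, (s p.2).2, ← hτi, p.1.2]⟩
  have hF : Function.Bijective F := by
    refine ⟨fun p q e => ?_, fun g => ?_⟩
    · have e1 : (s p.2).1 * (p.1.1 ≫ i) = (s q.2).1 * (q.1.1 ≫ i) := congrArg Subtype.val e
      have e2 : p.2 = q.2 := Subtype.ext (by
        rw [← hs p.2, ← hs q.2, ← horb _ p.1.1, e1, horb])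
      rw [e2] at e1
      exact Prod.ext (Subtype.ext ((cancel_mono i).mp (mul_left_cancel e1))) e2
    · obtain ⟨h, hh⟩ := QuotProper.exists_mul_eq hX (s ⟨_, hquot g⟩).1 g.1 (hs ⟨_, hquot g⟩)
      refine ⟨(⟨h, ?_⟩, ⟨_, hquot g⟩), Subtype.ext hh⟩
      have e := g.2
      rw [← hh, MonObj.mul_comp, (s _).2, ← hτi] at e
      exact (cancel_mono i).mp (mul_left_cancel e)
  rw [← Nat.card_prod]
  exact (Nat.card_congr (Equiv.ofBijective F hF)).symm

end Groth.Agent.S14746
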