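import Groth.Statements.S14751
import Groth.Agent.AGFLib.BorelImage
import Groth.Agent.GrpSchLib.AntiAffineHom
-- import your own Groth.Agent.* helpers here

set_option autoImplicit false
set_option backward.isDefEq.respectTransparency false
set_option backward.isDefEq.respectTransparency.types false
universe u
open CategoryTheory CategoryTheory.Limits MonoidalCategory CartesianMonoidalCategory MonObj GrpObj AlgebraicGeometry
open AlgGrp

namespace Groth.Agent.S14751

/-- The intersection of a proper and an affine closed subscheme is finite. -/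
theorem finite_inter {k : Type u} [Field k] {K G N A : Over (Spec (CommRingCat.of k))} {j : A ⟶ G} {i : N ⟶ G}
    [IsClosedImmersion i.left] [IsClosedImmersion j.left] [IsAffine N.left] [IsProper A.hom]
    {a : K ⟶ A} {b : K ⟶ N} (sq : CategoryTheory.IsPullback a b j i) : IsFinite K.hom := by
  have sqL := sq.map (Over.forget _)
  haveI ha : IsClosedImmersion a.left := MorphismProperty.of_isPullback sqL.flip ‹_›
  haveI hb : IsClosedImmersion b.left := MorphismProperty.of_isPullback sqL ‹_›
  haveI : IsAffineHom N.hom := isAffineHom_of_isAffine N.hom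
  refine IsFinite.iff_isProper_and_isAffineHom.mpr ⟨?_, ?_⟩
  · rw [← Over.w a]; infer_instance
  · rw [← Over.w b]; infer_instance

/-- Over an algebraically closed field k let G be a group variety (smooth connected k-group scheme of
finite type), i : N → G an affine closed subgroup scheme which is the kernel of a flat surjective
homomorphism π : G → Q, and j : A → G an abelian subvariety (a smooth connected proper closed
subgroup scheme) with A · N = G, that is, the multiplication A × N → G is surjective. Then the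
multiplication A × N → G is a homomorphism and an isogeny (surjective with finite kernel), and so is
the composite A → G → Q. (In the published statement N is the largest connected affine normal
subgroup variety and Q = G/N the Albanese quotient; only the listed properties are used.) -/
theorem result (k : Type u) [Field k] [IsAlgClosed k]
    (G N A Q : Over (Spec (CommRingCat.of k))) [GrpObj G] [GrpObj N] [GrpObj A] [GrpObj Q]
    [Smooth G.hom] [QuasiCompact G.hom] [ConnectedSpace ↥G.left]
    (i : N ⟶ G) [IsMonHom i] [IsClosedImmersion i.left] [IsAffine N.left]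
    (π : G ⟶ Q) [IsMonHom π] [Flat π.left] [Surjective π.left] (hker : AlgGrp.IsKernel i π)
    (j : A ⟶ G) [IsMonHom j] [IsClosedImmersion j.left] [Smooth A.hom] [ConnectedSpace ↥A.left] [IsProper A.hom]
    (hsurj : Surjective ((j ⊗ₘ i) ≫ μ[G]).left) :
    IsMonHom ((j ⊗ₘ i) ≫ μ[G]) ∧ SGA7.IsIsogenyOver ((j ⊗ₘ i) ≫ μ[G]) ∧ SGA7.IsIsogenyOver (j ≫ π) := by
  haveI : LocallyOfFiniteType G.hom := inferInstance
  haveI := GrpSchLib.AntiAffine.isSeparated_grp G
  haveI : QuasiCompact A.hom := inferInstance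
  haveI : IrreducibleSpace A.left := Groth.Agent.S0348.result k A
  haveI : IsReduced A.left := GrpSchLib.isReduced_of_smooth_field A.hom
  haveI : IsIntegral A.left := isIntegral_of_irreducibleSpace_of_isReduced _
  have hc : ∀ {T : Over (Spec (CommRingCat.of k))} (a : T ⟶ A) (b : T ⟶ G), (a ≫ j) * b = b * (a ≫ j) :=
    fun a b => GrpSchLib.AntiAffine.commute (AGFLib.BorelImage.bijective_appTop_of_isProper A.hom) j
      ((IsMonHom.one_hom j).trans (MonObj.one_eq_one G)) a b
  have hm : ∀ {T : Over (Spec (CommRingCat.of k))} (p : T ⟶ A ⊗ N),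
      p ≫ (j ⊗ₘ i) ≫ μ[G] = ((p ≫ fst A N) ≫ j) * ((p ≫ snd A N) ≫ i) := fun p => by
    have : p ≫ (j ⊗ₘ i) = lift ((p ≫ fst A N) ≫ j) ((p ≫ snd A N) ≫ i) := by
      apply CartesianMonoidalCategory.hom_ext <;> simp
    rw [Hom.mul_def, ← this, Category.assoc]
  have hmul : ∀ {T : Over (Spec (CommRingCat.of k))} (p q : T ⟶ A ⊗ N),
      (p * q) ≫ (j ⊗ₘ i) ≫ μ[G] = (p ≫ (j ⊗ₘ i) ≫ μ[G]) * (q ≫ (j ⊗ₘ i) ≫ μ[G]) := fun p q => by
    rw [hm, hm, hm, MonObj.mul_comp, MonObj.mul_comp, MonObj.mul_comp, MonObj.mul_comp]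
    have e := hc (q ≫ fst A N) ((p ≫ snd A N) ≫ i)
    generalize (p ≫ fst A N) ≫ j = P
    generalize (p ≫ snd A N) ≫ i = P' at e
    generalize (q ≫ fst A N) ≫ j = R at e
    generalize (q ≫ snd A N) ≫ i = R'
    rw [_root_.mul_assoc, ← _root_.mul_assoc R, e]
    group
  haveI hhom : IsMonHom ((j ⊗ₘ i) ≫ μ[G]) := by
    refine ⟨?_, ?_⟩
    · have h1 := hmul (T := 𝟙_ _) 1 1
      rw [_root_.mul_one] at h1
      rw [MonObj.one_eq_one]
      exact (mul_eq_left.mp h1.symm).trans (MonObj.one_eq_one G).symm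
    · have h1 := hmul (fst (A ⊗ N) (A ⊗ N)) (snd (A ⊗ N) (A ⊗ N))
      rw [Hom.mul_def, lift_fst_snd, Category.id_comp] at h1
      rw [h1, Hom.mul_def]
      congr 1
  refine ⟨hhom, ⟨hsurj, fun K κ hK => ?_⟩, ⟨?_, fun K κ hK => ?_⟩⟩
  · have hκ : ((κ ≫ fst A N) ≫ j) = ((κ ≫ snd A N)⁻¹ ≫ i) := by
      have h := (hm κ).symm.trans hK.w
      rw [show toUnit K ≫ η[G] = (1 : K ⟶ G) from rfl, mul_eq_one_iff_eq_inv] at h
      rw [GrpObj.inv_comp]; exact h
    refine finite_inter (a := κ ≫ fst A N) (b := (κ ≫ snd A N)⁻¹) (j := j) (i := i)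
      ⟨⟨hκ⟩, ⟨PullbackCone.IsLimit.mk _ (fun s => hK.lift (lift s.fst s.snd⁻¹) (toUnit _) ?_)
      (fun s => ?_) (fun s => ?_) (fun s m h1 h2 => ?_)⟩⟩
    · rw [hm, lift_fst, lift_snd, GrpObj.inv_comp, s.condition, mul_inv_cancel]; rfl
    · rw [← Category.assoc, hK.lift_fst, lift_fst]
    · rw [GrpObj.comp_inv, ← Category.assoc, hK.lift_fst, lift_snd, _root_.inv_inv]
    · refine hK.hom_ext ?_ (toUnit_unique _ _)
      rw [hK.lift_fst, ← h1, ← h2, GrpObj.comp_inv, _root_.inv_inv, ← Category.assoc, ← Category.assoc]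
      apply CartesianMonoidalCategory.hom_ext <;> simp
  · have e : fst A N ≫ j ≫ π = ((j ⊗ₘ i) ≫ μ[G]) ≫ π := by
      have h2 : i ≫ π = 1 := hker.w
      have h1 := hm (𝟙 (A ⊗ N))
      simp only [Category.id_comp] at h1
      rw [h1, MonObj.mul_comp, Category.assoc _ i π, h2, MonObj.comp_one, _root_.mul_one, Category.assoc]
    haveI : Surjective ((j ⊗ₘ i) ≫ μ[G]).left := hsurj
    haveI : Surjective ((fst A N).left ≫ (j ≫ π).left) := by
      rw [← Over.comp_left, e, Over.comp_left]
      infer_instance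
    exact Surjective.of_comp (fst A N).left (j ≫ π).left
  · have hκ : (κ ≫ j) ≫ π = toUnit K ≫ η[Q] := by rw [Category.assoc]; exact hK.w
    refine finite_inter (a := κ) (b := hker.lift (κ ≫ j) (toUnit K) hκ) (j := j) (i := i)
      ⟨⟨(hker.lift_fst _ _ hκ).symm⟩, ⟨PullbackCone.IsLimit.mk _ (fun s => hK.lift s.fst (toUnit _) ?_)
      (fun s => hK.lift_fst _ _ _) (fun s => ?_) (fun s m h1 h2 => ?_)⟩⟩
    · rw [← Category.assoc, s.condition, Category.assoc, hker.w, ← Category.assoc, comp_toUnit]
    · haveI : Mono i := (Over.forget _).mono_of_mono_map (inferInstanceAs (Mono i.left))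
      rw [← cancel_mono i, Category.assoc, hker.lift_fst, ← Category.assoc, hK.lift_fst, s.condition]
    · refine hK.hom_ext ?_ (toUnit_unique _ _)
      rw [hK.lift_fst, h1]

end Groth.Agent.S14751
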