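import Groth.Statements.S14754
import Groth.Agent.TorusQI.Split
import Groth.Agent.S5237
import Groth.Agent.HomRepLib.ApplyFpqc
import Groth.Agent.GrpSchLib.MultTypeLfp
import Groth.Agent.AGFLib.QuasiComp.Albanese
-- import your own Groth.Agent.* helpers here

set_option autoImplicit false
set_option backward.isDefEq.respectTransparency false
set_option backward.isDefEq.respectTransparency.types false
set_option linter.style.haveILetI false
universe u
open CategoryTheory CategoryTheory.Limits MonoidalCategory CartesianMonoidalCategory MonObj GrpObj AlgebraicGeometry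
open AlgGrp

namespace Groth.Agent.S14754

open Groth.Agent Groth.Agent.TorusQI Groth.Agent.HomRepLib

theorem DSmap_zero {S : Scheme.{u}} {M N : Type} [AddCommGroup M] [AddCommGroup N] :
    Red.DSmap S (0 : N →+ M) = 1 :=
  ev_ext fun n => by
    rw [← Category.id_comp (Red.DSmap S (0 : N →+ M)), ev_DSmap, AddMonoidHom.zero_apply, ev_zero, ev_one]

/-- A homomorphism between diagonalisable groups over a point is induced by one of the character groups. -/
theorem exists_eq_DSmap {S : Scheme.{u}} [Nonempty S] [Subsingleton S] {M N : Type} [AddCommGroup M] [AddCommGroup N]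
    [AddGroup.FG N] (f : Red.DS S M ⟶ Red.DS S N) [IsMonHom f] : ∃ ψ : N →+ M, f = Red.DSmap S ψ := by
  obtain ⟨y⟩ := ‹Nonempty S›
  obtain ⟨ψ, V, hy, hV⟩ := exists_induced f y
  exact ⟨ψ, by simpa using hV _ (𝟙 _) fun z _ => (Subsingleton.elim y z) ▸ hy⟩

set_option maxHeartbeats 1000000 in
/-- Over an algebraically closed field k, every exact sequence of split tori splits: if K, G, Q are
split tori over k, i : K → G a closed subgroup scheme which is the kernel of a flat surjective
homomorphism π : G → Q, then π has a section which is a homomorphism. -/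
theorem result (k : Type u) [Field k] [IsAlgClosed k]
    (K G Q : Over (Spec (CommRingCat.of k))) [GrpObj K] [GrpObj G] [GrpObj Q] (nK nG nQ : ℕ)
    (hK : Red.IsSplitTorusWith (Fin nK → ℤ) K) (hG : Red.IsSplitTorusWith (Fin nG → ℤ) G)
    (hQ : Red.IsSplitTorusWith (Fin nQ → ℤ) Q)
    (i : K ⟶ G) [IsMonHom i] [IsClosedImmersion i.left]
    (π : G ⟶ Q) [IsMonHom π] [Flat π.left] [Surjective π.left] (hker : AlgGrp.IsKernel i π) :
    ∃ s : Q ⟶ G, IsMonHom s ∧ s ≫ π = 𝟙 Q := by
  haveI : AddGroup.FG ℤ := Module.Finite.iff_addGroup_fg.1 inferInstance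
  haveI : ∀ n : ℕ, AddGroup.FG (Fin n → ℤ) := fun n => Module.Finite.iff_addGroup_fg.1 inferInstance
  haveI : Nonempty ↥(Spec (CommRingCat.of k)) := ⟨IsLocalRing.closedPoint k⟩
  haveI : Subsingleton ↥(Spec (CommRingCat.of k)) := inferInstance
  obtain ⟨eK⟩ := hK
  obtain ⟨eG⟩ := hG
  obtain ⟨eQ⟩ := hQ
  let a : Red.DS (Spec (CommRingCat.of k)) (Fin nK → ℤ) ⟶ K := eK.inv.hom.hom
  let b : G ⟶ Red.DS (Spec (CommRingCat.of k)) (Fin nG → ℤ) := eG.hom.hom.hom
  let b' : Red.DS (Spec (CommRingCat.of k)) (Fin nG → ℤ) ⟶ G := eG.inv.hom.hom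
  let c : Q ⟶ Red.DS (Spec (CommRingCat.of k)) (Fin nQ → ℤ) := eQ.hom.hom.hom
  let c' : Red.DS (Spec (CommRingCat.of k)) (Fin nQ → ℤ) ⟶ Q := eQ.inv.hom.hom
  haveI : IsMonHom a := eK.inv.hom.isMonHom_hom
  haveI : IsMonHom b := eG.hom.hom.isMonHom_hom
  haveI : IsMonHom b' := eG.inv.hom.isMonHom_hom
  haveI : IsMonHom c := eQ.hom.hom.isMonHom_hom
  haveI : IsMonHom c' := eQ.inv.hom.isMonHom_hom
  have hbb : b ≫ b' = 𝟙 G := congrArg (fun t => t.hom.hom) eG.hom_inv_id
  have hb'b : b' ≫ b = 𝟙 _ := congrArg (fun t => t.hom.hom) eG.inv_hom_id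
  have hcc : c ≫ c' = 𝟙 Q := congrArg (fun t => t.hom.hom) eQ.hom_inv_id
  have hc'c : c' ≫ c = 𝟙 _ := congrArg (fun t => t.hom.hom) eQ.inv_hom_id
  haveI : IsIso a := ⟨eK.hom.hom.hom, congrArg (fun t => t.hom.hom) eK.inv_hom_id,
    congrArg (fun t => t.hom.hom) eK.hom_inv_id⟩
  haveI : IsIso b := ⟨b', hbb, hb'b⟩
  haveI : IsIso b' := ⟨b, hb'b, hbb⟩
  haveI : IsIso c := ⟨c', hcc, hc'c⟩
  haveI : Mono i := ⟨fun x y e => hker.hom_ext e (toUnit_unique _ _)⟩
  have hcomm : ∀ {T : Over (Spec (CommRingCat.of k))} (x y : T ⟶ G), x * y = y * x := fun x y =>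
    (cancel_mono b).1 (((MonObj.mul_comp x y b).trans (DS_mul_comm (x ≫ b) (y ≫ b))).trans (MonObj.mul_comp y x b).symm)
  obtain ⟨φ, hφs, hφ⟩ := exists_surjective_of_mono (a ≫ i ≫ b)
  obtain ⟨ψ, hψ⟩ := exists_eq_DSmap (b' ≫ π ≫ c)
  haveI := HomRepLib.isAffineHom_DS (Spec (CommRingCat.of k)) (Fin nG → ℤ)
  haveI := HomRepLib.isAffineHom_DS (Spec (CommRingCat.of k)) (Fin nQ → ℤ)
  haveI : Epi π := by
    haveI : EffectiveEpi π.left := by
      haveI : QuasiCompact π.left := by
        haveI : IsAffineHom G.hom := by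
          rw [← Over.w b]
          haveI : IsIso b.left := ((Over.forget _).mapIso (asIso b)).isIso_hom
          infer_instance
        haveI : IsAffineHom Q.hom := by
          rw [← Over.w c]
          haveI : IsIso c.left := ((Over.forget _).mapIso (asIso c)).isIso_hom
          infer_instance
        haveI : QuasiCompact (π.left ≫ Q.hom) := by rw [Over.w π]; infer_instance
        exact QuasiCompact.of_comp π.left Q.hom
      infer_instance
    exact (Over.forget _).epi_of_epi_map (inferInstanceAs (Epi π.left))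
  have hψi : Function.Injective ψ := (injective_iff_map_eq_zero ψ).2 fun n hn => by
    have h : (b' ≫ π ≫ c) ≫ Red.chi _ n = (b' ≫ π ≫ c) ≫ Red.DSmap _ (0 : ℤ →+ _) := by
      rw [hψ, Red.chi, DSmap_comp, DSmap_comp]
      congr 1
      exact AddMonoidHom.ext_int (by simpa using hn)
    rw [cancel_epi] at h
    simpa using DFunLike.congr_fun (DSmap_injective (S := Spec (CommRingCat.of k)) h) 1
  have hφψ : φ.comp ψ = 0 := by
    refine DSmap_injective (S := Spec (CommRingCat.of k)) ?_
    rw [← DSmap_comp, DSmap_zero, ← hφ, ← hψ]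
    have h1 : i ≫ π = 1 := by rw [hker.w]; rfl
    simp only [Category.assoc, reassoc_of% hbb, reassoc_of% h1, MonObj.one_comp, MonObj.comp_one]
  have hexact : ∀ x, φ x = 0 → ∃ y, ψ y = x := fun x hx => by
    haveI : IsMonHom (Red.chi (Spec (CommRingCat.of k)) x) := isMonHom_chi x
    let f : G ⟶ Red.Gm (Spec (CommRingCat.of k)) := b ≫ Red.chi _ x
    have hf : i ≫ f = 1 := by
      rw [← cancel_epi a, MonObj.comp_one]
      show a ≫ i ≫ b ≫ Red.chi _ x = 1
      rw [← Category.assoc i, ← Category.assoc a, hφ, Red.chi, DSmap_comp, ← DSmap_zero]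
      congr 1
      exact AddMonoidHom.ext_int (by simpa using hx)
    haveI : LocallyOfFinitePresentation π.left := by
      haveI : IsIso b.left := ((Over.forget _).mapIso (asIso b)).isIso_hom
      haveI : IsIso c.left := ((Over.forget _).mapIso (asIso c)).isIso_hom
      haveI := GrpSchLib.MultTypeLfp.lfp_DS (Spec (CommRingCat.of k)) (Fin nG → ℤ)
      haveI := GrpSchLib.MultTypeLfp.lfp_DS (Spec (CommRingCat.of k)) (Fin nQ → ℤ)
      haveI : LocallyOfFinitePresentation G.hom := by rw [← Over.w b]; infer_instance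
      haveI : LocallyOfFinitePresentation Q.hom := by rw [← Over.w c]; infer_instance
      haveI : LocallyOfFinitePresentation (π.left ≫ Q.hom) := by rw [Over.w π]; infer_instance
      exact AlgSpPts.locallyOfFinitePresentation_of_comp π.left Q.hom
    obtain ⟨g, ⟨hg, hgm⟩, -⟩ := S5237.result i (fun T u v => ⟨v, by
        rw [hcomm u, mul_inv_cancel_right]⟩) π
      (AGFLib.QuasiComp.isQuotient_of_kernel i π hker) f hf
    haveI := hgm
    obtain ⟨η', hη⟩ := exists_eq_DSmap (M := Fin nQ → ℤ) (N := ℤ) (c' ≫ g)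
    refine ⟨η' 1, ?_⟩
    have h2 : Red.DSmap (Spec (CommRingCat.of k)) (ψ.comp η') = Red.DSmap _ (zmultiplesHom _ x) := by
      rw [← DSmap_comp, ← hψ, ← hη]
      simp only [Category.assoc, reassoc_of% hcc, hg, f, reassoc_of% hb'b]
      rfl
    simpa using DFunLike.congr_fun (DSmap_injective h2) 1
  obtain ⟨s₀, hs₀⟩ := Module.projective_lifting_property φ.toIntLinearMap LinearMap.id hφs
  have hr : ∀ x, ∃ y, ψ y = x - s₀ (φ x) := fun x => hexact _ (by
    rw [map_sub, sub_eq_zero]
    exact (LinearMap.congr_fun hs₀ (φ x)).symm)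
  choose r hr using hr
  let R : (Fin nG → ℤ) →+ (Fin nQ → ℤ) := AddMonoidHom.mk' r fun x y => hψi (by
    rw [map_add, hr, hr, hr, map_add, map_add]; abel)
  have hR : R.comp ψ = AddMonoidHom.id _ := AddMonoidHom.ext fun y => hψi (by
    show ψ (r (ψ y)) = ψ y
    rw [hr, show φ (ψ y) = 0 from DFunLike.congr_fun hφψ y, map_zero, sub_zero])
  haveI := Groth.Agent.S5427.isMonHom_DSmap (Spec (CommRingCat.of k)) R
  refine ⟨c ≫ Red.DSmap _ R ≫ b', inferInstance, ?_⟩
  rw [← cancel_mono c]
  simp only [Category.assoc, Category.id_comp]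
  rw [show b' ≫ π ≫ c = Red.DSmap _ ψ from hψ, DSmap_comp, hR, DSmap_id, Category.comp_id]

end Groth.Agent.S14754
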