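import Groth.Statements.S17454
import Groth.Agent.AGFLib.QuasiComp.AnyField
import Groth.Agent.AGFLib.QuasiComp.LiftPts
import Groth.Agent.S8000
import Groth.Agent.S3280
-- import your own Groth.Agent.* helpers here

set_option autoImplicit false
set_option backward.isDefEq.respectTransparency false
set_option backward.isDefEq.respectTransparency.types false
set_option linter.style.haveILetI false
universe u
open CategoryTheory MonoidalCategory CartesianMonoidalCategory MonObj GrpObj AlgebraicGeometry CategoryTheory.Limits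
open AlgGrp
open Groth.Agent

namespace Groth.Agent.S17454

open AGFLib.QuasiComp

/-- A map into a subgroup is a homomorphism when the composite is. -/
theorem isMonHom_of_comp {k : Type u} [Field k] {A B C : Over (Spec (CommRingCat.of k))} [GrpObj A] [GrpObj B]
    [GrpObj C] (f : A ⟶ B) (j : B ⟶ C) [IsMonHom j] [Mono j] (h : IsMonHom (f ≫ j)) : IsMonHom f where
  one_hom := by rw [← cancel_mono j, Category.assoc, IsMonHom.one_hom (f ≫ j), IsMonHom.one_hom j]
  mul_hom := by
    rw [← cancel_mono j, Category.assoc, IsMonHom.mul_hom (f ≫ j), Category.assoc, IsMonHom.mul_hom j,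
      MonoidalCategory.tensorHom_comp_tensorHom_assoc]

/-- A subgroup scheme contained in another is normal there. -/
theorem normal_restrict {k : Type u} [Field k] {M N G : Over (Spec (CommRingCat.of k))} [GrpObj M] [GrpObj N]
    [GrpObj G] (m : M ⟶ N) (i : N ⟶ G) [IsMonHom i] [Mono i] (h : AlgGrp.IsNormalHom (m ≫ i)) :
    AlgGrp.IsNormalHom m := by
  intro T g a
  obtain ⟨a', ha'⟩ := h T (g ≫ i) a
  refine ⟨a', (cancel_mono i).1 ?_⟩
  rw [MonObj.mul_comp, MonObj.mul_comp, GrpObj.inv_comp, Category.assoc, Category.assoc, ha']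


/-- Let k be a perfect field and f : G' → G a surjective homomorphism of smooth connected k-group
schemes of finite type. Let N' → G' and N → G be Chevalley decompositions: normal closed subgroup
schemes which are smooth, connected and affine, kernels of flat surjective homomorphisms q' : G' →
A' and q : G → A onto proper smooth connected k-group schemes. Then f maps N' onto N: there is a
homomorphism g : N' → N, compatible with f and the two inclusions, whose underlying map is
surjective; and f induces a homomorphism A' → A compatible with q' and q whose underlying map is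
surjective. (The isogeny refinement of the published statement is not stated.) -/
theorem result (k : Type u) [Field k] [PerfectField k]
    (G' G : Over (Spec (CommRingCat.of k))) [GrpObj G'] [GrpObj G]
    [Smooth G'.hom] [QuasiCompact G'.hom] [ConnectedSpace ↥G'.left]
    [Smooth G.hom] [QuasiCompact G.hom] [ConnectedSpace ↥G.left]
    (f : G' ⟶ G) [IsMonHom f] [Surjective f.left]
    (N' : Over (Spec (CommRingCat.of k))) [GrpObj N'] (i' : N' ⟶ G') [IsMonHom i'] [IsClosedImmersion i'.left]
    [Smooth N'.hom] [ConnectedSpace ↥N'.left] [IsAffine N'.left] (hn' : AlgGrp.IsNormalHom i')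
    (A' : Over (Spec (CommRingCat.of k))) [GrpObj A'] (q' : G' ⟶ A') [IsMonHom q'] [Surjective q'.left] [Flat q'.left]
    [IsProper A'.hom] [Smooth A'.hom] [ConnectedSpace ↥A'.left] (hk' : AlgGrp.IsKernel i' q')
    (N : Over (Spec (CommRingCat.of k))) [GrpObj N] (i : N ⟶ G) [IsMonHom i] [IsClosedImmersion i.left]
    [Smooth N.hom] [ConnectedSpace ↥N.left] [IsAffine N.left] (hn : AlgGrp.IsNormalHom i)
    (A : Over (Spec (CommRingCat.of k))) [GrpObj A] (q : G ⟶ A) [IsMonHom q] [Surjective q.left] [Flat q.left]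
    [IsProper A.hom] [Smooth A.hom] [ConnectedSpace ↥A.left] (hk : AlgGrp.IsKernel i q) :
    (∃ g : N' ⟶ N, IsMonHom g ∧ g ≫ i = i' ≫ f ∧ Surjective g.left) ∧
      (∃ h : A' ⟶ A, IsMonHom h ∧ q' ≫ h = f ≫ q ∧ Surjective h.left) := by
  haveI hm : Mono i := (Over.forget _).mono_of_mono_map (inferInstanceAs (Mono i.left))
  haveI : Mono i' := (Over.forget _).mono_of_mono_map (inferInstanceAs (Mono i'.left))
  haveI : QuasiCompact N'.hom := by rw [← Over.w i']; infer_instance
  haveI : QuasiCompact N.hom := by rw [← Over.w i]; infer_instance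
  have h1 : i' ≫ f ≫ q = 1 := hom_eq_one_of_affine _
  let g : N' ⟶ N := hk.lift (i' ≫ f) (toUnit _) ((Category.assoc _ _ _).trans h1)
  have hg : g ≫ i = i' ≫ f := hk.lift_fst _ _ _
  haveI : IsMonHom g := isMonHom_of_comp g i (hg ▸ inferInstance)
  obtain ⟨h, hh, hqh, -⟩ := S3280.result k G' N' A' A q' i' hk' (f ≫ q) h1
  haveI := hh
  haveI : Surjective h.left := by
    haveI : Surjective (q'.left ≫ h.left) := by
      rw [← Over.comp_left, hqh, Over.comp_left]; infer_instance
    exact Surjective.of_comp q'.left h.left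
  obtain ⟨M, _, p, m, hp, hm', hpm, hmc, hpf, hps, hMl, hMq⟩ := GrpSchLib.ImageFactor.exists_image g
  haveI := hp; haveI := hm'; haveI := hmc; haveI := hpf; haveI := hps; haveI := hMl; haveI := hMq
  haveI : Smooth M.hom := GrpSchLib.smooth_of_quotient p
  haveI : IsClosedImmersion (m ≫ i).left := inferInstanceAs (IsClosedImmersion (m.left ≫ i.left))
  have hMn : AlgGrp.IsNormalHom (m ≫ i) := by
    refine S8000.result k (AlgebraicClosure k) G M (m ≫ i) fun x y => ?_
    obtain ⟨x', rfl⟩ := exists_geomPt_lift f x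
    obtain ⟨y', rfl⟩ := exists_geomPt_lift p y
    obtain ⟨z, hz⟩ := hn' _ x' y'
    refine ⟨z ≫ p, ?_⟩
    have e := congrArg (· ≫ f) hz
    simp only [MonObj.mul_comp, GrpObj.inv_comp, Category.assoc] at e ⊢
    rw [← hg, ← hpm] at e
    simpa only [Category.assoc] using e
  obtain ⟨Q, _, r, hr, hQa, hQl, hrf, hrs, hrk⟩ :=
    GrpSchLib.NormalQuot.exists_quot N M m (normal_restrict m i hMn)
  haveI := hr; haveI := hQa; haveI := hQl; haveI := hrf; haveI := hrs
  haveI : IsSeparated A.hom := inferInstance
  obtain ⟨P, _, ιP, hιP, hιPc, -, hkP⟩ := GrpSchLib.exists_kernel (f ≫ q)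
  obtain ⟨K, _, κ, hκ, hκc, -, hkK⟩ := GrpSchLib.exists_kernel h
  haveI := hιP; haveI := hιPc; haveI := hκ; haveI := hκc
  haveI : Mono ιP := (Over.forget _).mono_of_mono_map (inferInstanceAs (Mono ιP.left))
  haveI : Mono κ := (Over.forget _).mono_of_mono_map (inferInstanceAs (Mono κ.left))
  haveI : LocallyOfFiniteType P.hom := by rw [← Over.w ιP]; infer_instance
  haveI : QuasiCompact P.hom := by rw [← Over.w ιP]; infer_instance
  haveI : IsProper K.hom := by rw [← Over.w κ]; infer_instance
  let φ : P ⟶ K := hkK.lift (ιP ≫ q') (toUnit _) (by rw [Category.assoc, hqh]; exact hkP.w)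
  have hφ : φ ≫ κ = ιP ≫ q' := hkK.lift_fst _ _ _
  haveI : IsMonHom φ := isMonHom_of_comp φ κ (hφ ▸ inferInstance)
  let ψ : P ⟶ N := hk.lift (ιP ≫ f) (toUnit _) ((Category.assoc _ _ _).trans hkP.w)
  have hψ : ψ ≫ i = ιP ≫ f := hk.lift_fst _ _ _
  haveI : IsMonHom ψ := isMonHom_of_comp ψ i (hψ ▸ inferInstance)
  have sqφ : IsPullback ιP φ q' κ := isPullback_of_mono hφ.symm fun x y e =>
    ⟨hkP.lift x (toUnit _) (by
      rw [← hqh, ← Category.assoc x, e, Category.assoc, hkK.w, ← Category.assoc, comp_toUnit]), hkP.lift_fst _ _ _⟩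
  have sqψ : IsPullback ιP ψ f i := isPullback_of_mono hψ.symm fun x y e =>
    ⟨hkP.lift x (toUnit _) (by
      rw [← Category.assoc x, e, Category.assoc, hk.w, ← Category.assoc, comp_toUnit]), hkP.lift_fst _ _ _⟩
  haveI : Flat φ.left := MorphismProperty.of_isPullback (P := @Flat) (sqφ.map (Over.forget _)) ‹Flat q'.left›
  haveI : Surjective φ.left :=
    MorphismProperty.of_isPullback (P := @Surjective) (sqφ.map (Over.forget _)) ‹Surjective q'.left›
  haveI : Surjective ψ.left :=
    MorphismProperty.of_isPullback (P := @Surjective) (sqψ.map (Over.forget _)) ‹Surjective f.left›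
  let e : N' ⟶ P := hkP.lift i' (toUnit _) h1
  have he : e ≫ ιP = i' := hkP.lift_fst _ _ _
  have hkφ : AlgGrp.IsKernel e φ := by
    haveI : Mono (e ≫ ιP) := by rw [he]; infer_instance
    haveI : Mono e := mono_of_mono e ιP
    haveI : Mono η[K] := ⟨fun a b _ => toUnit_unique _ _⟩
    refine isPullback_of_mono ?_ fun x y hxy => ?_
    · rw [← cancel_mono κ, Category.assoc, hφ, ← Category.assoc, he, Category.assoc, IsMonHom.one_hom κ]
      exact hk'.w
    · refine ⟨hk'.lift (x ≫ ιP) (toUnit _) ?_, ?_⟩
      · rw [Category.assoc, ← hφ, ← Category.assoc, hxy, Category.assoc, IsMonHom.one_hom κ,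
          toUnit_unique y (toUnit _)]
      · rw [← cancel_mono ιP, Category.assoc, he]
        exact hk'.lift_fst _ _ _
  have heψ : e ≫ ψ = g := by rw [← cancel_mono i, Category.assoc, hψ, ← Category.assoc, he, hg]
  haveI : QuasiCompact Q.hom := inferInstance
  obtain ⟨ψ', hψ'm, hψ', -⟩ := S3280.result k P N' K Q φ e hkφ (ψ ≫ r) (by
    rw [← Category.assoc, heψ, ← hpm, Category.assoc, hrk.w, ← Category.assoc, comp_toUnit])
  haveI : Surjective (φ.left ≫ ψ'.left) := by
    rw [← Over.comp_left, hψ', Over.comp_left]; infer_instance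
  haveI : Surjective ψ'.left := Surjective.of_comp φ.left ψ'.left
  haveI : UniversallyClosed (ψ'.left ≫ Q.hom) := by rw [Over.w ψ']; infer_instance
  haveI : UniversallyClosed Q.hom := UniversallyClosed.of_comp_surjective ψ'.left Q.hom
  haveI : IsProper Q.hom := IsProper.mk
  have hr1 : r = 1 := hom_eq_one_of_affine r
  obtain ⟨s, hs⟩ : ∃ s : N ⟶ M, s ≫ m = 𝟙 N :=
    ⟨hrk.lift (𝟙 N) (toUnit _) (by rw [Category.id_comp, hr1]; rfl), hrk.lift_fst _ _ _⟩
  haveI : Surjective m.left := by
    haveI : Surjective (s.left ≫ m.left) := by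
      rw [← Over.comp_left, hs, Over.id_left]; infer_instance
    exact Surjective.of_comp s.left m.left
  refine ⟨⟨g, inferInstance, hg, ?_⟩, h, hh, hqh, inferInstance⟩
  rw [← hpm, Over.comp_left]
  infer_instance

end Groth.Agent.S17454
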