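import Groth.Statements.S14756
import Groth.Agent.AGFLib.QuasiComp.IdComp
import Groth.Agent.S17454
-- import your own Groth.Agent.* helpers here

set_option autoImplicit false
set_option backward.isDefEq.respectTransparency false
set_option backward.isDefEq.respectTransparency.types false
set_option linter.style.haveILetI false
universe u
open CategoryTheory CategoryTheory.Limits MonoidalCategory CartesianMonoidalCategory MonObj GrpObj AlgebraicGeometry
open AlgGrp
open Groth.Agent AGFLib.QuasiComp AGFLib.Gen AGFLib.BorelFixed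

namespace Groth.Agent.S14756

/-- Over an algebraically closed field k let e → K → G → Q → e be an exact sequence of k-group schemes
of finite type with G smooth (i : K → G a closed subgroup scheme, kernel of the flat surjective
homomorphism π : G → Q), and let G_lin ⊆ G and Q_lin ⊆ Q be the largest smooth connected affine
normal closed subgroup schemes (every other such subgroup factors through them). Then π maps G_lin
into Q_lin and the induced homomorphism G_lin → Q_lin is surjective. (The published proposition is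
stated for all algebraic groups G; for the semidirect product of α_p by the multiplicative group
acting by scaling, with K = α_p, the largest smooth connected affine normal subgroup of G is trivial
while that of Q = G_m is everything, so G is taken smooth here, the case in which the published
proof's use of the Chevalley quotient G/G_lin being proper is valid. The published proposition also
treats unipotent and solvable parts of linear groups and the finite index of K_lin in G_lin ∩ K;
only this assertion is stated.) -/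
theorem result (k : Type u) [Field k] [IsAlgClosed k]
    (K G Q : Over (Spec (CommRingCat.of k))) [GrpObj K] [GrpObj G] [GrpObj Q]
    [QuasiCompact K.hom] [LocallyOfFiniteType K.hom] [Smooth G.hom] [QuasiCompact G.hom] [QuasiCompact Q.hom] [LocallyOfFiniteType Q.hom]
    (i : K ⟶ G) [IsMonHom i] [IsClosedImmersion i.left]
    (π : G ⟶ Q) [IsMonHom π] [Flat π.left] [Surjective π.left] (hker : AlgGrp.IsKernel i π)
    (NG : Over (Spec (CommRingCat.of k))) [GrpObj NG] (iG : NG ⟶ G) [IsMonHom iG] [IsClosedImmersion iG.left]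
    [Smooth NG.hom] [ConnectedSpace ↥NG.left] [IsAffine NG.left] (hNG : AlgGrp.IsNormalHom iG)
    (hNGmax : ∀ (N' : Over (Spec (CommRingCat.of k))) [GrpObj N'] (i' : N' ⟶ G) [IsMonHom i'] [IsClosedImmersion i'.left]
      [Smooth N'.hom] [ConnectedSpace ↥N'.left] [IsAffine N'.left], AlgGrp.IsNormalHom i' → ∃ f : N' ⟶ NG, f ≫ iG = i')
    (NQ : Over (Spec (CommRingCat.of k))) [GrpObj NQ] (iQ : NQ ⟶ Q) [IsMonHom iQ] [IsClosedImmersion iQ.left]
    [Smooth NQ.hom] [ConnectedSpace ↥NQ.left] [IsAffine NQ.left] (hNQ : AlgGrp.IsNormalHom iQ)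
    (hNQmax : ∀ (N' : Over (Spec (CommRingCat.of k))) [GrpObj N'] (i' : N' ⟶ Q) [IsMonHom i'] [IsClosedImmersion i'.left]
      [Smooth N'.hom] [ConnectedSpace ↥N'.left] [IsAffine N'.left], AlgGrp.IsNormalHom i' → ∃ f : N' ⟶ NQ, f ≫ iQ = i') :
    ∃ f : NG ⟶ NQ, f ≫ iQ = iG ≫ π ∧ Surjective f.left := by
  haveI : LocallyOfFiniteType G.hom := inferInstance
  haveI : Smooth Q.hom := GrpSchLib.smooth_of_quotient π
  haveI : QuasiCompact NG.hom := by rw [← Over.w iG]; infer_instance
  haveI : QuasiCompact NQ.hom := by rw [← Over.w iQ]; infer_instance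
  obtain ⟨G₀, _, j, i₀, A, _, α, hj, hjc, hjo, hGs, hGq, hGc, hjr, hi₀, hi₀c, hi₀j, hα, hAp, hAs, hAc, hαs, hαf, hαk⟩ :=
    exists_idComp_abelian_quot iG hNG hNGmax
  obtain ⟨Q₀, _, j', i₀', A', _, α', hj', hjc', hjo', hQs, hQq, hQc, hjr', hi₀', hi₀c', hi₀j', hα', hAp', hAs', hAc', hαs', hαf', hαk'⟩ :=
    exists_idComp_abelian_quot iQ hNQ hNQmax
  haveI := hj; haveI := hjc; haveI := hjo; haveI := hGs; haveI := hGq; haveI := hGc; haveI := hi₀; haveI := hi₀c
  haveI := hα; haveI := hAp; haveI := hAs; haveI := hAc; haveI := hαs; haveI := hαf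
  haveI := hj'; haveI := hjc'; haveI := hjo'; haveI := hQs; haveI := hQq; haveI := hQc; haveI := hi₀'; haveI := hi₀c'
  haveI := hα'; haveI := hAp'; haveI := hAs'; haveI := hAc'; haveI := hαs'; haveI := hαf'
  haveI : Mono j := (Over.forget _).mono_of_mono_map (inferInstanceAs (Mono j.left))
  haveI : Mono j' := (Over.forget _).mono_of_mono_map (inferInstanceAs (Mono j'.left))
  -- the image of the identity component is open and closed
  haveI : LocallyOfFinitePresentation π.left := by
    haveI : LocallyOfFinitePresentation (π.left ≫ Q.hom) := by rw [Over.w π]; infer_instance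
    exact AlgSpPts.locallyOfFinitePresentation_of_comp π.left Q.hom
  haveI : LocallyOfFiniteType G₀.hom := inferInstance
  haveI : LocallyOfFiniteType Q.hom := inferInstance
  obtain ⟨I, _, p, m, _, _, hpm, hmc, -, hps, -, -⟩ := GrpSchLib.ImageFactor.exists_image (j ≫ π)
  haveI := hmc; haveI := hps
  have hclosed : IsClosed (Set.range (j ≫ π).left) := by
    rw [← hpm, Over.comp_left, Scheme.Hom.comp_base, TopCat.coe_comp, p.left.surjective.range_comp]
    exact m.left.isClosedEmbedding.isClosed_range
  haveI : UniversallyOpen π.left := inferInstance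
  have hopen : IsOpen (Set.range (j ≫ π).left) := by
    rw [Over.comp_left, Scheme.Hom.comp_base, TopCat.coe_comp, Set.range_comp]
    exact π.left.isOpenMap _ j.left.isOpenEmbedding.isOpen_range
  have h1 : cp (1 : 𝟙_ _ ⟶ Q) ∈ Set.range (j ≫ π).left :=
    ⟨cp (1 : 𝟙_ _ ⟶ G₀), by rw [← cp_comp, MonObj.one_comp]⟩
  have hsub : Set.range j'.left ⊆ Set.range (j ≫ π).left := by
    rw [hjr']
    exact IsClopen.connectedComponent_subset ⟨hclosed, hopen⟩ h1
  obtain ⟨f₀, hf₀⟩ : ∃ f₀ : G₀ ⟶ Q₀, f₀ ≫ j' = j ≫ π := by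
    have hs : Set.range (j ≫ π).left ⊆ Set.range j'.left := by
      rw [hjr']
      exact (isConnected_range (j ≫ π).left.continuous).isPreconnected.subset_connectedComponent h1
    refine ⟨Over.homMk (IsOpenImmersion.lift j'.left (j ≫ π).left hs) ?_,
      Over.OverMorphism.ext (IsOpenImmersion.lift_fac _ _ _)⟩
    rw [← Over.w j', ← Category.assoc, IsOpenImmersion.lift_fac, Over.w (j ≫ π)]
  haveI : IsMonHom f₀ := S17454.isMonHom_of_comp f₀ j' (hf₀ ▸ inferInstance)
  haveI : Surjective f₀.left := ⟨fun y => by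
    obtain ⟨x, hx⟩ := hsub ⟨y, rfl⟩
    refine ⟨x, j'.left.isClosedEmbedding.injective ?_⟩
    rw [← hx, ← hf₀]
    rfl⟩
  have hn : AlgGrp.IsNormalHom i₀ := S17454.normal_restrict i₀ j (hi₀j.symm ▸ hNG)
  have hn' : AlgGrp.IsNormalHom i₀' := S17454.normal_restrict i₀' j' (hi₀j'.symm ▸ hNQ)
  obtain ⟨⟨g, -, hg, hgs⟩, -⟩ := S17454.result k G₀ Q₀ f₀ NG i₀ hn A α hαk NQ i₀' hn' A' α' hαk'
  refine ⟨g, ?_, hgs⟩
  rw [← hi₀j', reassoc_of% hg, hf₀, ← hi₀j, Category.assoc]

end Groth.Agent.S14756
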