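import Groth.Statements.S14757
import Groth.Agent.AGFLib.ChevalleyPerfect
-- import your own Groth.Agent.* helpers here

set_option autoImplicit false
set_option backward.isDefEq.respectTransparency.types false
set_option maxHeartbeats 1000000
universe u
open CategoryTheory CategoryTheory.Limits MonoidalCategory CartesianMonoidalCategory MonObj GrpObj AlgebraicGeometry
open AlgGrp

namespace Groth.Agent.S14757

/-- Let k be a perfect field and G a group variety over k (smooth connected k-group scheme of finite
type); let i : N → G be its largest smooth connected affine normal closed subgroup scheme G_lin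
(every other such subgroup factors through it) and j : M → G its largest anti-affine closed subgroup
scheme G_ant (the global functions of M are the constants k, and every closed subgroup scheme with
that property factors through it). Then the multiplication G_ant × G_lin → G is a homomorphism and
is surjective. (The published statement says it is a quotient map; surjectivity is what the
published proof establishes, faithful flatness then being automatic for a surjective homomorphism of
algebraic groups.) -/
theorem result (k : Type u) [Field k] [PerfectField k]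
    (G : Over (Spec (CommRingCat.of k))) [GrpObj G] [Smooth G.hom] [QuasiCompact G.hom] [ConnectedSpace ↥G.left]
    (N : Over (Spec (CommRingCat.of k))) [GrpObj N] (i : N ⟶ G) [IsMonHom i] [IsClosedImmersion i.left]
    [Smooth N.hom] [ConnectedSpace ↥N.left] [IsAffine N.left] (hN : AlgGrp.IsNormalHom i)
    (hNmax : ∀ (N' : Over (Spec (CommRingCat.of k))) [GrpObj N'] (i' : N' ⟶ G) [IsMonHom i'] [IsClosedImmersion i'.left]
      [Smooth N'.hom] [ConnectedSpace ↥N'.left] [IsAffine N'.left], AlgGrp.IsNormalHom i' → ∃ f : N' ⟶ N, f ≫ i = i')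
    (M : Over (Spec (CommRingCat.of k))) [GrpObj M] (j : M ⟶ G) [IsMonHom j] [IsClosedImmersion j.left]
    (hM : Function.Bijective ((Scheme.ΓSpecIso (CommRingCat.of k)).inv ≫ M.hom.appTop).hom)
    (hMmax : ∀ (M' : Over (Spec (CommRingCat.of k))) [GrpObj M'] (j' : M' ⟶ G) [IsMonHom j'] [IsClosedImmersion j'.left],
      Function.Bijective ((Scheme.ΓSpecIso (CommRingCat.of k)).inv ≫ M'.hom.appTop).hom → ∃ f : M' ⟶ M, f ≫ j = j') :
    IsMonHom ((j ⊗ₘ i) ≫ μ[G]) ∧ Surjective ((j ⊗ₘ i) ≫ μ[G]).left := by
  obtain ⟨A, _, q, hq, hA, hAs, hAc, hqs, hqf, hk⟩ := AGFLib.ChevalleyPerfect.exists_quot G i hN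
    fun Z _ z _ _ _ _ _ hn => hNmax Z z hn
  haveI := hq; haveI := hA; haveI := hqs; haveI := hqf
  haveI := GrpSchLib.AntiAffine.isSeparated_grp G
  haveI : LocallyOfFiniteType M.hom := by rw [← Over.w j]; infer_instance
  haveI : QuasiCompact M.hom := by rw [← Over.w j]; infer_instance
  have hj : AGFLib.AntPart.IsAnt j := AGFLib.AntPart.isAnt_of_max (G := G) j hM fun M₁ _ _ _ j₁ _ _ h1 => hMmax M₁ j₁ h1
  have hsurj := (AGFLib.AntPart.main_mul i q hk j hj).1
  have hc : ∀ {X : Over (Spec (CommRingCat.of k))} (a : X ⟶ M) (g : X ⟶ G), (a ≫ j) * g = g * (a ≫ j) := fun {X} a g => by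
    simpa using S7996.result k M G hM j X a X (𝟙 X) g
  have hcomm : fst M N ≫ j = fst M N ≫ j := rfl
  have e : (j ⊗ₘ i) ≫ μ[G] = (fst M N ≫ j) * (snd M N ≫ i) := by
    rw [Hom.mul_def, CartesianMonoidalCategory.lift_fst_comp_snd_comp]
  constructor
  · rw [e]
    haveI := AGFLib.AntPart.mono_sub i
    refine ⟨?_, ?_⟩
    · rw [MonObj.comp_mul, ← Category.assoc, ← Category.assoc, IsMonHom.one_hom (fst M N), IsMonHom.one_hom (snd M N),
        IsMonHom.one_hom j, IsMonHom.one_hom i, MonObj.one_eq_one, _root_.mul_one]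
    · rw [MonObj.comp_mul, ← Category.assoc, ← Category.assoc, IsMonHom.mul_hom (fst M N), IsMonHom.mul_hom (snd M N),
        Category.assoc, Category.assoc, IsMonHom.mul_hom j, IsMonHom.mul_hom i,
        MonoidalCategory.tensorHom_comp_tensorHom_assoc, MonoidalCategory.tensorHom_comp_tensorHom_assoc,
        ← CartesianMonoidalCategory.lift_fst_comp_snd_comp, ← CartesianMonoidalCategory.lift_fst_comp_snd_comp,
        ← Hom.mul_def, ← Hom.mul_def, ← CartesianMonoidalCategory.lift_fst_comp_snd_comp, ← Hom.mul_def,
        MonObj.comp_mul, MonObj.comp_mul]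
      have hc' := hc (snd (M ⊗ N) (M ⊗ N) ≫ fst M N) (fst (M ⊗ N) (M ⊗ N) ≫ snd M N ≫ i)
      simp only [Category.assoc] at hc' ⊢
      rw [_root_.mul_assoc, _root_.mul_assoc, ← _root_.mul_assoc (_ ≫ snd M N ≫ i), ← hc', _root_.mul_assoc]
  · have e2 : (j ⊗ₘ i) ≫ μ[G] = (β_ M N).hom ≫ (i ⊗ₘ j) ≫ μ[G] := by
      rw [e, ← CartesianMonoidalCategory.lift_fst_comp_snd_comp, ← Hom.mul_def, MonObj.comp_mul]
      simp only [← Category.assoc]
      rw [show (β_ M N).hom ≫ fst N M = snd M N by simp, show (β_ M N).hom ≫ snd N M = fst M N by simp]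
      exact hc (fst M N) (snd M N ≫ i)
    rw [e2, Over.comp_left]
    haveI := hsurj
    haveI : IsIso (β_ M N).hom.left := ((Over.forget _).mapIso (β_ M N)).isIso_hom
    infer_instance

end Groth.Agent.S14757
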