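import Groth.Statements.S14758
import Groth.Agent.EtFound.PullExt
import Groth.Agent.EtMVLib.PullSquare
-- import your own Groth.Agent.* helpers here

set_option autoImplicit false
universe u
open CategoryTheory CategoryTheory.Limits MonoidalCategory CartesianMonoidalCategory MonObj GrpObj AlgebraicGeometry
open EtAdic

namespace Groth.Agent.S14758

open Groth.Agent.EtMVLib Groth.Agent.EtFound CategoryTheory.Abelian

set_option backward.isDefEq.respectTransparency.types false

variable {X U W : Scheme.{u}} (j : U ⟶ X) (k : W ⟶ U) (w : W ⟶ X) (e : k ≫ j = w) (M : Type) [AddCommGroup M]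

private theorem pullSec_θ' (G : EtCoh.Ab X) :
    (pullSec j).app G ≫ (pullSec k).app ((EtCoh.pull j).obj G) ≫
      (EtCore.gsec W).map ((θPull k j w e).hom.app G) = (pullSec w).app G := by
  subst e
  refine ((Category.assoc _ _ _).symm.trans
    (congrArg (· ≫ _) (pullSec_comp k j G).symm)).trans ((Category.assoc _ _ _).trans ?_)
  have : (EtCore.pullComp k j).hom.app G ≫ (θPull k j (k ≫ j) rfl).hom.app G = 𝟙 _ := by
    simp [θPull, EtCore.pullCongr]
  refine (congrArg (fun m => _ ≫ m) ((Functor.map_comp _ _ _).symm.trans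
    (congrArg (EtCore.gsec W).map this))).trans ?_
  simp

/-- The comparison isomorphisms of constant sheaves compose. -/
private theorem pullConst_comp' :
    (EtCore.pullConst k M).inv ≫ (EtCoh.pull k).map (EtCore.pullConst j M).inv ≫
      (θPull k j w e).hom.app (EtCoh.const X M) = (EtCore.pullConst w M).inv := by
  apply ((EtCore.constAdj W).homEquiv _ _).injective
  have n1 := (pullSec k).naturality (EtCore.pullConst j M).inv
  have hU : (EtCore.constAdj U).unit.app (AddCommGrpCat.of (ULift.{u + 1} M)) ≫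
      (EtCore.gsec U).map (EtCore.pullConst j M).inv = _ :=
    ((EtCore.constAdj U).homEquiv_unit _ _ (EtCore.pullConst j M).inv).symm.trans
      (homEquiv_pullConst_inv j M)
  set c := (EtCore.pullConst j M).inv
  set t := (θPull k j w e).hom.app (EtCoh.const X M)
  refine ((EtCore.constAdj W).homEquiv_naturality_right _ _).trans ?_
  refine (eq_whisker (homEquiv_pullConst_inv k M) _).trans ?_
  refine (whisker_eq _ (Functor.map_comp (EtCore.gsec W) _ _)).trans ?_
  refine ((Category.assoc _ _ _).trans (whisker_eq _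
    ((Category.assoc _ _ _).symm.trans (eq_whisker n1.symm _)))).trans ?_
  refine ((whisker_eq _ (Category.assoc _ _ _)).trans
    ((Category.assoc _ _ _).symm.trans (eq_whisker hU _))).trans ?_
  refine ((Category.assoc _ _ _).trans (whisker_eq _ (pullSec_θ' j k w e _))).trans ?_
  exact (homEquiv_pullConst_inv w M).symm

/-- Pullback of cohomology is natural in the coefficients. -/
private theorem Hpull_natural [PreservesFiniteLimits (EtCoh.pull k)] {G G' : EtCoh.Ab U} (a : G ⟶ G') (n : ℕ)
    (x : EtCoh.H U G n) :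
    EtCore.Hpull k G' n (x.comp (Ext.mk₀ a) (add_zero n)) =
      (EtCore.Hpull k G n x).comp (Ext.mk₀ ((EtCoh.pull k).map a)) (add_zero n) := by
  show (Ext.mk₀ (EtCore.pullConst k ℤ).inv).comp ((x.comp (Ext.mk₀ a) (add_zero n)).mapExactFunctor (EtCoh.pull k))
      (zero_add n) = Ext.comp ((Ext.mk₀ (EtCore.pullConst k ℤ).inv).comp (x.mapExactFunctor (EtCoh.pull k)) (zero_add n))
        (Ext.mk₀ ((EtCoh.pull k).map a)) (add_zero n)
  rw [Ext.mapExactFunctor_comp, Ext.mapExactFunctor_mk₀]
  exact (Ext.comp_assoc_of_third_deg_zero _ _ _ _).symm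

/-- Pullback of `H^i(-, Z/ℓ^ν)` is functorial. -/
private theorem Hmap_comp (e : k ≫ j = w) (ℓ : ℕ) (hj : PreservesFiniteLimits (EtCoh.pull j))
    (hk : PreservesFiniteLimits (EtCoh.pull k)) (hw : PreservesFiniteLimits (EtCoh.pull w)) (r ν : ℕ)
    (x : EtAdic.Hmod X ℓ r ν) :
    EtAdic.Hmap ℓ w hw r ν x = EtAdic.Hmap ℓ k hk r ν (EtAdic.Hmap ℓ j hj r ν x) := by
  haveI := hj; haveI := hk; haveI := hw
  let M := ZMod (ℓ ^ ν)
  have h1 : (θPull k j w e).hom.app (EtCoh.const X M) ≫ (EtCore.pullConst w M).hom =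
      (EtCoh.pull k).map (EtCore.pullConst j M).hom ≫ (EtCore.pullConst k M).hom := by
    rw [← cancel_epi ((EtCoh.pull k).map (EtCore.pullConst j M).inv), ← cancel_epi (EtCore.pullConst k M).inv]
    conv_rhs => rw [← Functor.map_comp_assoc, Iso.inv_hom_id, CategoryTheory.Functor.map_id, Category.id_comp, Iso.inv_hom_id]
    rw [← Category.assoc, ← Category.assoc, Category.assoc _ _ ((θPull k j w e).hom.app _), pullConst_comp' j k w e M,
      Iso.inv_hom_id]
  show (EtCore.Hpull w (EtCoh.const X M) r x).comp (Ext.mk₀ (EtCore.pullConst w M).hom) (add_zero r) =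
    (EtCore.Hpull k (EtCoh.const U M) r
      ((EtCore.Hpull j (EtCoh.const X M) r x).comp (Ext.mk₀ (EtCore.pullConst j M).hom) (add_zero r))).comp
      (Ext.mk₀ (EtCore.pullConst k M).hom) (add_zero r)
  rw [Hpull_natural, EtFound.Hpull_comp k j w e]
  simp only [Ext.comp_assoc_of_third_deg_zero, Ext.mk₀_comp_mk₀]
  exact congrArg (fun f => Ext.comp _ (Ext.mk₀ f) _) h1


/-- Let k be a field, ℓ, ν natural numbers, G and G' commutative k-group schemes and φ, ψ : G → G'
homomorphisms. If x ∈ H^r(G'_et, Z/ℓ^ν) is primitive, that is m^*x = p_1^*x + p_2^*x for the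
multiplication m and the projections p_1, p_2 of G' × G', then (φ + ψ)^*x = φ^*x + ψ^*x, where φ + ψ
is the sum in the group of homomorphisms. (The published lemma is for H^r_T(−, L) with T any of the
Zariski, étale or flat topologies and L any commutative algebraic group as coefficients; this row is
its case T = étale, L = Z/ℓ^ν constant, the one used later.) -/
theorem result (k : Type u) [Field k] (ℓ ν r : ℕ)
    (G G' : Over (Spec (CommRingCat.of k))) [GrpObj G] [GrpObj G'] [IsCommMonObj G] [IsCommMonObj G']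
    (φ ψ : G ⟶ G') [IsMonHom φ] [IsMonHom ψ]
    [hm : PreservesFiniteLimits (EtCoh.pull (μ[G']).left)]
    [h1 : PreservesFiniteLimits (EtCoh.pull (fst G' G').left)]
    [h2 : PreservesFiniteLimits (EtCoh.pull (snd G' G').left)]
    [hφ : PreservesFiniteLimits (EtCoh.pull φ.left)] [hψ : PreservesFiniteLimits (EtCoh.pull ψ.left)]
    [hs : PreservesFiniteLimits (EtCoh.pull (φ * ψ).left)]
    (x : EtAdic.Hmod G'.left ℓ r ν)
    (hx : EtAdic.Hmap ℓ (μ[G']).left hm r ν x =
      EtAdic.Hmap ℓ (fst G' G').left h1 r ν x + EtAdic.Hmap ℓ (snd G' G').left h2 r ν x) :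
    EtAdic.Hmap ℓ (φ * ψ).left hs r ν x = EtAdic.Hmap ℓ φ.left hφ r ν x + EtAdic.Hmap ℓ ψ.left hψ r ν x := by
  let l : G ⟶ G' ⊗ G' := lift φ ψ
  haveI : PreservesFiniteLimits (EtCoh.pull l.left) := Groth.Agent.EtFound.pull_preservesFiniteLimits l.left
  have e₁ : l ≫ μ[G'] = φ * ψ := rfl
  have e₂ : l ≫ fst G' G' = φ := lift_fst _ _
  have e₃ : l ≫ snd G' G' = ψ := lift_snd _ _
  rw [Hmap_comp (μ[G']).left l.left (φ * ψ).left (congrArg (fun f : G ⟶ G' => f.left) e₁) ℓ hm inferInstance hs r ν x, hx,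
    map_add, ← Hmap_comp (fst G' G').left l.left φ.left (congrArg (fun f : G ⟶ G' => f.left) e₂) ℓ h1 inferInstance hφ r ν x,
    ← Hmap_comp (snd G' G').left l.left ψ.left (congrArg (fun f : G ⟶ G' => f.left) e₃) ℓ h2 inferInstance hψ r ν x]

end Groth.Agent.S14758
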