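import Groth.Statements.S5320
import Groth.Agent.GrpSchLib.HomKer
-- import your own Groth.Agent.* helpers here

set_option autoImplicit false
universe u
open CategoryTheory CategoryTheory.Limits MonoidalCategory CartesianMonoidalCategory MonObj GrpObj AlgebraicGeometry
open SGA3

namespace Groth.Agent.S5320

/-- Let u : G → H be a homomorphism of S-group schemes which is locally of finite presentation, with
every fibre G_s locally of finite type over κ(s), and let i : K → G be the kernel of u (the square
i, u, unit of H is cartesian, K with the group structure making i a homomorphism). The following are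
equivalent: u is unramified (formally unramified); every fibre u_s : G_s → H_s is unramified; K is
unramified over S; the unit section of K is an open immersion. -/
theorem result (S : Scheme.{u}) (G H : Over S) [GrpObj G] [GrpObj H] (u : G ⟶ H) [IsMonHom u]
    [LocallyOfFinitePresentation u.left] (hG : ∀ s : S, LocallyOfFiniteType (G.hom.fiberToSpecResidueField s)) (K : Over S) [GrpObj K] (i : K ⟶ G) [IsMonHom i] (hK : AlgGrp.IsKernel i u) :
    (FormallyUnramified u.left ↔ ∀ s : S, FormallyUnramified ((Over.pullback (S.fromSpecResidueField s)).map u).left) ∧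
    (FormallyUnramified u.left ↔ FormallyUnramified K.hom) ∧
    (FormallyUnramified u.left ↔ IsOpenImmersion η[K].left) := by
  have hsq := Agent.GrpSchLib.HomKer.kernel_square i hK
  haveI : LocallyOfFinitePresentation K.hom :=
    MorphismProperty.of_isPullback (P := @LocallyOfFinitePresentation) hsq ‹_›
  have hKu : FormallyUnramified u.left → FormallyUnramified K.hom := fun h =>
    MorphismProperty.of_isPullback (P := @FormallyUnramified) hsq h
  have hsect : η[K].left ≫ K.hom = (𝟙_ (Over S)).hom := Over.w η[K]
  have hoi : FormallyUnramified K.hom → IsOpenImmersion η[K].left := fun h => by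
    haveI := h
    haveI : IsIso (η[K].left ≫ K.hom) := by rw [hsect]; exact inferInstanceAs (IsIso (𝟙 S))
    haveI : Etale η[K].left := Etale.of_comp η[K].left K.hom
    haveI : Mono (η[K].left ≫ K.hom) := inferInstance
    haveI : Mono η[K].left := mono_of_mono η[K].left K.hom
    exact IsOpenImmersion.of_flat_of_mono _
  have hunit : IsOpenImmersion η[K].left → FormallyUnramified u.left := fun h => by
    haveI := h
    have hall := Agent.GrpSchLib.HomKer.all_of_unit u Agent.GrpSchLib.Loci.compat_UR
      (Agent.GrpSchLib.HomFibre.unram_iff u) hG fun s => by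
        have hs : Agent.MorLib.UnrLocus.Loc K.hom (η[K].left s) := by
          refine (Agent.MorLib.UnrLocus.loc_comp_left η[K].left K.hom s).mp ⟨⊤, trivial, ?_⟩
          rw [hsect]
          exact MorphismProperty.comp_mem @FormallyUnramified _ _ inferInstance (inferInstanceAs (FormallyUnramified (𝟙 S)))
        rw [← hsq.isoPullback_hom_snd, Agent.MorLib.UnrLocus.loc_comp_left, Agent.MorLib.UnrLocus.loc_pullback,
          ← Scheme.Hom.comp_apply, hsq.isoPullback_hom_fst, Agent.GrpSchLib.HomKer.i_unit] at hs
        obtain ⟨W, hW, hu⟩ := hs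
        exact ⟨W, hW, hu, MorphismProperty.comp_mem @LocallyOfFinitePresentation _ _ inferInstance ‹_›⟩
    refine Agent.GrpSchLib.Loci.of_forall_mem @FormallyUnramified _ fun x => ?_
    obtain ⟨W, hx, hW, -⟩ := hall x
    exact ⟨W, hx, hW⟩
  refine ⟨⟨fun h s => MorphismProperty.of_isPullback (P := @FormallyUnramified)
      (Agent.GrpSchLib.HomFibre.map_isPullback u _) h, fun h => ?_⟩, ⟨hKu, fun h => hunit (hoi h)⟩,
    ⟨fun h => hoi (hKu h), hunit⟩⟩
  refine Agent.GrpSchLib.Loci.of_forall_mem @FormallyUnramified _ fun x => ?_
  obtain ⟨z, hz⟩ := Agent.GrpSchLib.HomFibre.exists_incl x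
  haveI := h (G.hom x)
  haveI := Agent.GrpSchLib.HomFibre.fib_lfp u (S.fromSpecResidueField (G.hom x))
  obtain ⟨W, hxW, hW, -⟩ := (Agent.GrpSchLib.HomFibre.unram_iff u _ z).mp
    ⟨⊤, trivial, MorphismProperty.comp_mem @FormallyUnramified _ _ inferInstance (h _),
      MorphismProperty.comp_mem @LocallyOfFinitePresentation _ _ inferInstance inferInstance⟩
  exact ⟨W, hz ▸ hxW, hW⟩

end Groth.Agent.S5320
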