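import Groth.Statements.S5353
import Groth.Agent.S5320
import Groth.Agent.SrcDescent.SmoothFppf
import Groth.Agent.GrpSchLib.HomKer
import Mathlib.AlgebraicGeometry.Morphisms.FlatDescent
-- import your own Groth.Agent.* helpers here

set_option autoImplicit false
universe u
open CategoryTheory CategoryTheory.Limits MonoidalCategory CartesianMonoidalCategory MonObj GrpObj AlgebraicGeometry
open SGA3

namespace Groth.Agent.S5353

/-- Let A be a local artinian ring, G an A-group scheme which is flat and locally of finite type, i : G⁰
→ G an open subgroup scheme whose image is the connected component of the unit (the neutral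
component), and p : G → Q a homomorphism of A-group schemes which is surjective, flat and locally of
finite presentation with kernel G⁰ (Q is the quotient of G by G⁰). Then Q is etale over A. -/
theorem result (A : Type u) [CommRing A] [IsArtinianRing A] [IsLocalRing A] (G0 G Q : Over (Spec (CommRingCat.of A))) [GrpObj G0] [GrpObj G] [GrpObj Q]
    [Flat G.hom] [LocallyOfFiniteType G.hom] (i : G0 ⟶ G) [IsMonHom i] [IsOpenImmersion i.left]
    (pt : ↥(𝟙_ (Over (Spec (CommRingCat.of A)))).left) (hi : Set.range i.left.base = connectedComponent (η[G].left.base pt))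
    (p : G ⟶ Q) [IsMonHom p] [Surjective p.left] [Flat p.left] [LocallyOfFinitePresentation p.left]
    (hK : AlgGrp.IsKernel i p) : Etale Q.hom := by
  haveI : IsNoetherianRing (CommRingCat.of A) := inferInstanceAs (IsNoetherianRing A)
  have hsq := Agent.GrpSchLib.HomKer.kernel_square i hK
  have hη : IsOpenImmersion η[Q].left :=
    MorphismProperty.of_isPullback_of_descendsAlong (P := @IsOpenImmersion)
      (Q := @Surjective ⊓ @Flat ⊓ @LocallyOfFinitePresentation) hsq ⟨⟨‹_›, ‹_›⟩, ‹_›⟩ ‹_›
  haveI : LocallyOfFinitePresentation (p.left ≫ Q.hom) := by rw [Over.w p]; infer_instance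
  haveI : LocallyOfFinitePresentation Q.hom := Agent.SrcDescent.locallyOfFinitePresentation_of_fppf_comp p.left Q.hom
  haveI : Flat (p.left ≫ Q.hom) := by rw [Over.w p]; infer_instance
  haveI : Flat Q.hom := Agent.SrcDescent.flat_of_fppf_comp p.left Q.hom
  have e : (toUnit Q).left = Q.hom := (Category.comp_id _).symm.trans (Over.w (toUnit Q))
  haveI : LocallyOfFinitePresentation (toUnit Q).left := by rw [e]; infer_instance
  haveI : IsIso η[𝟙_ (Over (Spec (CommRingCat.of A)))] :=
    ⟨toUnit _, toUnit_unique _ _, toUnit_unique _ _⟩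
  have hker : AlgGrp.IsKernel (𝟙 Q) (toUnit Q) := IsPullback.of_horiz_isIso ⟨toUnit_unique _ _⟩
  have hu : FormallyUnramified (toUnit Q).left :=
    (S5320.result (Spec (CommRingCat.of A)) Q (𝟙_ _) (toUnit Q)
      (fun s => MorphismProperty.pullback_snd (P := @LocallyOfFiniteType) _ _ inferInstance) Q (𝟙 Q) hker).2.2.mpr hη
  rw [e] at hu
  exact Etale.iff_flat_and_formallyUnramified.mpr ⟨inferInstance, hu, inferInstance⟩

end Groth.Agent.S5353
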