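import Groth.Statements.S14759
import Groth.Agent.GrpSchLib.RadicialQuot
import Groth.Agent.GrpSchLib.KernelGrp
import Groth.Agent.GrpSchLib.IdentityComp
import Groth.Agent.S5237
import Groth.Agent.H23.RedSub
import Groth.Agent.S5353
import Mathlib.AlgebraicGeometry.Morphisms.FlatMono
import Mathlib.AlgebraicGeometry.ZariskisMainTheorem
-- import your own Groth.Agent.* helpers here

set_option autoImplicit false
set_option backward.isDefEq.respectTransparency false
set_option backward.isDefEq.respectTransparency.types false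
set_option linter.style.haveILetI false
universe u
open CategoryTheory CategoryTheory.Limits MonoidalCategory CartesianMonoidalCategory MonObj GrpObj AlgebraicGeometry
open AlgGrp

namespace Groth.Agent.S14759

open Groth.Agent

/-- A finite scheme over a field with irreducible underlying space is a point. -/
theorem subsingleton_of_finite_irreducible {k : Type u} [Field k] {X : Scheme.{u}} (f : X ⟶ Spec (CommRingCat.of k))
    [IsFinite f] [IrreducibleSpace X] : Subsingleton X := by
  haveI : Subsingleton ↥(Spec (CommRingCat.of k)) := inferInstance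
  haveI : Finite X := by
    refine Set.finite_univ_iff.1 ((f.finite_preimage_singleton (IsLocalRing.closedPoint k)).subset fun x _ => ?_)
    exact Subsingleton.elim (α := Spec (CommRingCat.of k)) _ _
  haveI : JacobsonSpace X := LocallyOfFiniteType.jacobsonSpace f
  haveI : T1Space X := ⟨fun x => by
    have h : closedPoints X = Set.univ := by
      have hc : IsClosed (closedPoints X) := by
        rw [← Set.biUnion_of_singleton (closedPoints X)]
        exact (Set.toFinite _).isClosed_biUnion fun y hy => hy
      rw [← hc.closure_eq, closure_closedPoints]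
    exact h.ge (Set.mem_univ x)⟩
  haveI : DiscreteTopology X := Finite.instDiscreteTopology
  refine ⟨fun a b => ?_⟩
  by_contra hab
  obtain ⟨c, -, h1, h2⟩ := (IrreducibleSpace.isIrreducible_univ X).2 {a} {b} (isOpen_discrete _) (isOpen_discrete _)
    ⟨a, trivial, rfl⟩ ⟨b, trivial, rfl⟩
  exact hab (h1.symm.trans h2)


/-- A one-point scheme with a rational point receives only one map from a field over the base. -/
theorem eq_of_point {k : Type u} [Field k] {X : Scheme.{u}} (f : X ⟶ Spec (CommRingCat.of k)) [Subsingleton X] [IsSeparated f]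
    {K : Type u} [Field K] (a b : Spec (CommRingCat.of K) ⟶ X) (h : a ≫ f = b ≫ f)
    (hs : ∃ s : Spec (CommRingCat.of k) ⟶ X, s ≫ f = 𝟙 _) : a = b := by
  obtain ⟨s, hs⟩ := hs
  haveI : Surjective s := ⟨fun x => ⟨IsLocalRing.closedPoint k, Subsingleton.elim _ _⟩⟩
  haveI : IsClosedImmersion s := by
    haveI : IsClosedImmersion (s ≫ f) := by rw [hs]; infer_instance
    exact IsClosedImmersion.of_comp s f
  have key : ∀ c : Spec (CommRingCat.of K) ⟶ X, c = (c ≫ f) ≫ s := fun c => by
    obtain ⟨d, hd⟩ := Groth.Agent.H23.RedSub.exists_lift_closed c s (by rw [s.surjective.range_eq]; exact Set.subset_univ _)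
    rw [← hd, Category.assoc, Category.assoc, reassoc_of% hs]
  rw [key a, key b, h]


/-- A morphism with a surjective section is radicial. -/
theorem univInj_of_section {X S : Scheme.{u}} (f : X ⟶ S) [Subsingleton X] (s : S ⟶ X) (hs : s ≫ f = 𝟙 S)
    [Nonempty S] : UniversallyInjective f := by
  haveI : Surjective s := ⟨fun x => ⟨Classical.arbitrary _, Subsingleton.elim _ _⟩⟩
  constructor
  intro X' S' i₁ i₂ f' sq a b e
  let s' : S' ⟶ X' := sq.lift (𝟙 S') (i₂ ≫ s) (by rw [Category.assoc, hs, Category.comp_id, Category.id_comp])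
  have hs' : s' ≫ f' = 𝟙 S' := sq.lift_fst _ _ _
  haveI : IsIso (s' ≫ f') := hs' ▸ inferInstance
  haveI : IsIso (s ≫ f) := hs ▸ inferInstance
  have hsq : IsPullback s' i₂ i₁ s :=
    IsPullback.of_right (IsPullback.of_horiz_isIso ⟨by rw [hs', hs, Category.id_comp, Category.comp_id]⟩)
      (sq.lift_snd _ _ _) sq
  haveI : Surjective s' := MorphismProperty.of_isPullback (P := @Surjective) hsq.flip ‹_›
  obtain ⟨a', rfl⟩ := s'.surjective a
  obtain ⟨b', rfl⟩ := s'.surjective b
  rw [← Scheme.Hom.comp_apply, ← Scheme.Hom.comp_apply, hs'] at e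
  exact congrArg s' e

/-- Over a field k, every isogeny φ : G → H of k-group schemes of finite type (a surjective homomorphism
with finite kernel) factors as φ = χ ∘ ψ with ψ : G → Q a purely inseparable isogeny (its kernel is
connected) followed by a separable isogeny χ : Q → H (its kernel is etale over k). (The published
definition of isogeny asks only for a finite kernel and an image of finite index in H; this row
takes φ surjective, which is the same notion when H is connected.) -/
theorem result (k : Type u) [Field k]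
    (G H : Over (Spec (CommRingCat.of k))) [GrpObj G] [GrpObj H]
    [QuasiCompact G.hom] [LocallyOfFiniteType G.hom] [QuasiCompact H.hom] [LocallyOfFiniteType H.hom]
    (φ : G ⟶ H) [IsMonHom φ] (hφ : SGA7.IsIsogenyOver φ) :
    ∃ (Q : Over (Spec (CommRingCat.of k))) (_ : GrpObj Q) (ψ : G ⟶ Q) (χ : Q ⟶ H),
      IsMonHom ψ ∧ IsMonHom χ ∧ ψ ≫ χ = φ ∧ SGA7.IsIsogenyOver ψ ∧ SGA7.IsIsogenyOver χ ∧
      (∀ (N : Over (Spec (CommRingCat.of k))) (n : N ⟶ G), AlgGrp.IsKernel n ψ → ConnectedSpace ↥N.left) ∧
      (∀ (N : Over (Spec (CommRingCat.of k))) (n : N ⟶ Q), AlgGrp.IsKernel n χ → Etale N.hom) := by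
  haveI : Surjective φ.left := hφ.1
  haveI : IsSeparated H.hom := GrpSchLib.AntiAffine.isSeparated_grp H
  haveI : IsSeparated G.hom := GrpSchLib.AntiAffine.isSeparated_grp G
  obtain ⟨N, _, n, hn, hnc, hnn, hN⟩ := GrpSchLib.exists_kernel φ
  haveI := hn; haveI := hnc
  haveI : IsFinite N.hom := hφ.2 N n hN
  haveI : IsSeparated N.hom := inferInstance
  haveI : LocallyOfFiniteType N.hom := inferInstance
  haveI : QuasiCompact N.hom := inferInstance
  haveI : Mono n := ⟨fun a b e => hN.hom_ext e (toUnit_unique _ _)⟩
  obtain ⟨N0, _, jo, hι, hιc, hιf, hrange, hgi, -⟩ := GrpSchLib.exists_identityComponent (G := N)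
  haveI := hι; haveI := hιc; haveI := hιf; haveI := hgi
  haveI : IsFinite N0.hom := by rw [← Over.w jo]; infer_instance
  haveI : LocallyOfFinitePresentation jo.left := by
    haveI : LocallyOfFinitePresentation N.hom := LocallyOfFinitePresentation.iff_locallyOfFiniteType.2 inferInstance
    haveI : LocallyOfFinitePresentation (jo.left ≫ N.hom) := by
      rw [Over.w jo]; exact LocallyOfFinitePresentation.iff_locallyOfFiniteType.2 inferInstance
    exact AlgSpPts.locallyOfFinitePresentation_of_comp jo.left N.hom
  haveI : IsOpenImmersion jo.left := IsOpenImmersion.of_flat_of_mono jo.left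
  haveI : IrreducibleSpace N0.left := GeometricallyIrreducible.irreducibleSpace (f := N0.hom) N0.hom.isOpenMap
  haveI : ConnectedSpace N0.left := inferInstance
  haveI : Subsingleton N0.left := subsingleton_of_finite_irreducible N0.hom
  let n0 : N0 ⟶ G := jo ≫ n
  haveI : IsClosedImmersion n0.left := inferInstanceAs (IsClosedImmersion (jo.left ≫ n.left))
  haveI : IsMonHom n0 := inferInstanceAs (IsMonHom (jo ≫ n))
  have hnorm : AlgGrp.IsNormalHom n0 := fun T g x => by
    obtain ⟨y, hy⟩ := hnn T g (x ≫ jo)
    have hy' : y ≫ n = g * (x ≫ n0) * g⁻¹ := by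
      rw [show x ≫ n0 = (x ≫ jo) ≫ n from (Category.assoc _ _ _).symm, hy]
    suffices h : Set.range y.left ⊆ Set.range jo.left by
      let c : T ⟶ N0 := Over.homMk (IsOpenImmersion.lift jo.left y.left h)
        (by rw [← Over.w jo, IsOpenImmersion.lift_fac_assoc, Over.w])
      have hc : c ≫ jo = y := Over.OverMorphism.ext (IsOpenImmersion.lift_fac jo.left y.left h)
      refine ⟨c, ?_⟩
      rw [← hy', ← hc, Category.assoc]
    rintro _ ⟨t, rfl⟩
    let P : Over (Spec (CommRingCat.of k)) := Over.mk (T.left.fromSpecResidueField t ≫ T.hom)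
    let p : P ⟶ T := Over.homMk (T.left.fromSpecResidueField t) rfl
    have hx : p ≫ x = 1 := by
      refine Over.OverMorphism.ext ?_
      exact eq_of_point N0.hom (p ≫ x).left (1 : P ⟶ N0).left (by rw [Over.w, Over.w])
        ⟨η[N0].left, Over.w η[N0]⟩
    have hy1 : p ≫ y = 1 := by
      rw [← cancel_mono n, Category.assoc, hy', MonObj.one_comp, MonObj.comp_mul, MonObj.comp_mul, GrpObj.comp_inv,
        ← Category.assoc, hx, MonObj.one_comp, _root_.mul_one, mul_inv_cancel]
    refine ⟨η[N0].left ((toUnit P).left (IsLocalRing.closedPoint (T.left.residueField t))), ?_⟩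
    have := congrArg (fun f : P ⟶ N => f.left (IsLocalRing.closedPoint (T.left.residueField t))) hy1
    simp only [Over.comp_left, Scheme.Hom.comp_apply] at this
    rw [show p.left (IsLocalRing.closedPoint (T.left.residueField t)) = t from
      T.left.fromSpecResidueField_apply t _] at this
    rw [this, Hom.one_def, Over.comp_left, Scheme.Hom.comp_apply, ← Scheme.Hom.comp_apply η[N0].left, ← Over.comp_left,
      IsMonHom.one_hom jo]
  haveI : Mono jo := (Over.forget _).mono_of_mono_map (inferInstanceAs (Mono jo.left))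
  haveI : Mono n0 := mono_comp jo n
  haveI : UniversallyInjective N0.hom := univInj_of_section N0.hom η[N0].left (Over.w η[N0])
  obtain ⟨Q, _, ψ, hψ, hψs, hψf, hψl, hQl, hQq, hQsep, hψk, hψq⟩ := GrpSchLib.RadicialQuot.exists_quot n0 hnorm
  haveI := hψ; haveI := hψs; haveI := hψf; haveI := hψl; haveI := hQl; haveI := hQq; haveI := hQsep
  haveI : Mono n0 := ⟨fun a b e => hψk.hom_ext e (toUnit_unique _ _)⟩
  obtain ⟨χ, ⟨hχ, hχm⟩, -⟩ := S5237.result n0 hnorm ψ hψq φ (by
    rw [Category.assoc, hN.w, ← Category.assoc, comp_toUnit]; rfl)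
  haveI := hχm
  haveI : Surjective (ψ.left ≫ χ.left) := by rw [← Over.comp_left, hχ]; infer_instance
  haveI : Surjective χ.left := Surjective.of_comp ψ.left χ.left
  obtain ⟨M, _, m, hm, hmc, -, hM⟩ := GrpSchLib.exists_kernel χ
  haveI := hm; haveI := hmc
  haveI : Mono m := ⟨fun a b e => hM.hom_ext e (toUnit_unique _ _)⟩
  haveI : LocallyOfFiniteType M.hom := by rw [← Over.w m]; infer_instance
  haveI : IsSeparated M.hom := by rw [← Over.w m]; infer_instance
  let q : N ⟶ M := hM.lift (n ≫ ψ) (toUnit N) (by rw [Category.assoc, hχ, hN.w])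
  have hq : q ≫ m = n ≫ ψ := hM.lift_fst _ _ _
  haveI : IsMonHom q :=
    { one_hom := by rw [← cancel_mono m, Category.assoc, hq, ← Category.assoc, IsMonHom.one_hom n, IsMonHom.one_hom ψ,
        IsMonHom.one_hom m]
      mul_hom := by
        rw [← cancel_mono m, Category.assoc, hq, ← Category.assoc, IsMonHom.mul_hom n, Category.assoc,
          IsMonHom.mul_hom ψ, Category.assoc, IsMonHom.mul_hom m, MonoidalCategory.tensorHom_comp_tensorHom_assoc,
          MonoidalCategory.tensorHom_comp_tensorHom_assoc, hq] }
  have sq : IsPullback n q ψ m :=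
    IsPullback.of_bot (by rw [hχ, toUnit_unique (q ≫ toUnit M) (toUnit N)]; exact hN) hq.symm hM
  have sqL := sq.map (Over.forget _)
  haveI : Surjective q.left := MorphismProperty.of_isPullback (P := @Surjective) sqL hψs
  haveI : Flat q.left := MorphismProperty.of_isPullback (P := @Flat) sqL hψf
  haveI : LocallyOfFinitePresentation q.left :=
    MorphismProperty.of_isPullback (P := @LocallyOfFinitePresentation) sqL hψl
  have hqk : AlgGrp.IsKernel jo q := by
    refine IsPullback.of_right (h₁₂ := n) (v₁₃ := ψ) (h₂₂ := m) ?_ ?_ sq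
    · rw [IsMonHom.one_hom m]; exact hψk
    · rw [← cancel_mono m, Category.assoc, hq, Category.assoc, IsMonHom.one_hom m]
      exact hψk.w
  haveI : IsArtinianRing k := inferInstance
  haveI : IsArtinianRing (CommRingCat.of k) := ‹IsArtinianRing k›
  haveI : Etale M.hom := S5353.result k N0 N M jo (IsLocalRing.closedPoint k) hrange q hqk
  haveI : UniversallyClosed (q.left ≫ M.hom) := by rw [Over.w q]; infer_instance
  haveI : UniversallyClosed M.hom := UniversallyClosed.of_comp_surjective q.left M.hom
  haveI : IsProper M.hom := IsProper.mk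
  haveI : IsFinite M.hom := (IsFinite.iff_isProper_and_locallyQuasiFinite M.hom).2 ⟨inferInstance, inferInstance⟩
  refine ⟨Q, inferInstance, ψ, χ, hψ, hχm, hχ, ⟨hψs, fun K i hK => ?_⟩, ⟨inferInstance, fun K i hK => ?_⟩,
    fun K i hK => ?_, fun K i hK => ?_⟩
  · let e := hK.isoIsPullback _ _ hψk
    haveI : IsIso e.hom.left := ((Over.forget _).mapIso e).isIso_hom
    rw [← Over.w e.hom]; infer_instance
  · let e := hK.isoIsPullback _ _ hM
    haveI : IsIso e.hom.left := ((Over.forget _).mapIso e).isIso_hom
    rw [← Over.w e.hom]; infer_instance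
  · let e := hK.isoIsPullback _ _ hψk
    haveI : ConnectedSpace ↥((Over.forget (Spec (CommRingCat.of k))).obj N0) := ‹ConnectedSpace N0.left›
    exact ((Over.forget _).mapIso e).inv.homeomorph.surjective.connectedSpace
      ((Over.forget _).mapIso e).inv.continuous
  · let e := hK.isoIsPullback _ _ hM
    haveI : IsIso e.hom.left := ((Over.forget _).mapIso e).isIso_hom
    rw [← Over.w e.hom]; infer_instance

end Groth.Agent.S14759
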