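import Groth.Statements.S14760
import Groth.Agent.AGFLib.GenericSection
-- import your own Groth.Agent.* helpers here

set_option autoImplicit false
set_option backward.isDefEq.respectTransparency.types false
set_option maxHeartbeats 1000000
universe u
open CategoryTheory CategoryTheory.Limits MonoidalCategory CartesianMonoidalCategory MonObj GrpObj AlgebraicGeometry
open AlgGrp

namespace Groth.Agent.S14760

/-- Let k be an algebraically closed field, L a connected commutative linear group variety over k
(smooth, connected, affine, commutative k-group scheme), Y an integral k-scheme of finite type and π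
: X → Y a principal L-bundle: π is flat, surjective and of finite type, and the base change L_Y acts
on X over Y so that (l, x) ↦ (l·x, x) is an isomorphism L_Y ×_Y X ≅ X ×_Y X. Then π has a section
over some non-empty open subset of Y. (The published statement says π is locally trivial for the
Zariski topology; the published proof constructs a section at the generic point from the vanishing
of H^1 of a field with coefficients in G_a and G_m, which gives exactly a section over a dense open,
the assertion stated here.) -/
theorem result (k : Type u) [Field k] [IsAlgClosed k]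
    (L : Over (Spec (CommRingCat.of k))) [GrpObj L] [IsCommMonObj L] [Smooth L.hom] [ConnectedSpace ↥L.left] [IsAffine L.left]
    {X Y : Scheme.{u}} (qY : Y ⟶ Spec (CommRingCat.of k)) [IsIntegral Y] [LocallyOfFiniteType qY] [QuasiCompact qY]
    (π : X ⟶ Y) [Flat π] [Surjective π] [LocallyOfFiniteType π] [QuasiCompact π]
    (a : AlgGrp.Action (Red.bc qY L) (Over.mk π))
    (htors : IsIso (lift a.act (snd (Red.bc qY L) (Over.mk π)))) :
    ∃ U : Y.Opens, (U : Set ↥Y).Nonempty ∧ ∃ s : (↑U : Scheme.{u}) ⟶ X, s ≫ π = U.ι := by
  haveI : Nonempty Y := inferInstance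
  let K : Type u := Y.functionField
  let ξ : Spec (CommRingCat.of K) ⟶ Y := Y.fromSpecStalk (genericPoint Y)
  let σ : Spec (CommRingCat.of K) ⟶ Spec (CommRingCat.of k) := ξ ≫ qY
  let e : Red.bc σ L ≅ Red.bc ξ (Red.bc qY L) := (ActBC.bcCompIso ξ qY L (rfl : ξ ≫ qY = σ)).symm
  haveI : IsMonHom e.hom := inferInstanceAs (IsMonHom (ActBC.bcCompIso ξ qY L (rfl : ξ ≫ qY = σ)).inv)
  have hsolv : Red.IsSolvableGrp L := ⟨1, fun T => by
    rw [derivedSeries_one, commutator_def, Subgroup.commutator_eq_bot_iff_le_centralizer]
    exact fun a _ => Subgroup.mem_centralizer_iff.mpr fun b _ => mul_comm b a⟩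
  haveI : Nonempty (Red.bc ξ (Over.mk π)).left := by
    haveI : Surjective (pullback.snd π ξ) := inferInstance
    exact ⟨((pullback.snd π ξ).surjective (IsLocalRing.closedPoint K)).choose⟩
  obtain ⟨x⟩ := Groth.Agent.AGFLib.GenericSection.exists_point hsolv σ ((a.bc ξ).restrict e.hom)
    (Groth.Agent.AGFLib.GenericSection.isPseudoTorsorSch_restrict e (NonAbH1.isPseudoTorsorSch_bc ξ htors))
  obtain ⟨U, hU, s, hs⟩ := Groth.Agent.AGFLib.GenericSection.exists_open_section π
    (x.left ≫ pullback.fst π ξ) (by
      have hx : x.left ≫ pullback.snd π ξ = 𝟙 _ := Over.w x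
      rw [Category.assoc, pullback.condition, reassoc_of% hx])
  exact ⟨U, hU, s, hs⟩

end Groth.Agent.S14760
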