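import Groth.Statements.S14762
import Groth.Agent.SolvGrp.Reductive4
import Groth.Agent.SolvGrp.Sub
import Groth.Agent.GrpSchLib.QuotAffine
-- import your own Groth.Agent.* helpers here

set_option autoImplicit false
universe u
open CategoryTheory CategoryTheory.Limits MonoidalCategory CartesianMonoidalCategory MonObj GrpObj AlgebraicGeometry
open Red

namespace Groth.Agent.S14762

/-- Over an algebraically closed field k, every quotient of a reductive group variety is reductive: if G
is a reductive k-group (affine, smooth, connected, with trivial unipotent radical) and π : G → H is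
a flat surjective homomorphism onto a k-group scheme of finite type H, then H is reductive. (The
published lemma also covers the properties complete, semisimple and solvable.) -/
theorem result (k : Type u) [Field k] [IsAlgClosed k]
    (G H : Over (Spec (CommRingCat.of k))) [GrpObj G] [GrpObj H] (hG : Red.IsReductiveOver k G)
    [QuasiCompact H.hom] [LocallyOfFiniteType H.hom]
    (π : G ⟶ H) [IsMonHom π] [Flat π.left] [Surjective π.left] :
    Red.IsReductiveOver k H := by
  set_option backward.isDefEq.respectTransparency.types false in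
  obtain ⟨haG, hsG, hcG, hU⟩ := id hG
  haveI := haG
  haveI := hsG
  haveI := hcG
  haveI : IsAffine H.left := Groth.Agent.GrpSchLib.isAffine_of_quotient π
  haveI : Smooth H.hom := Groth.Agent.GrpSchLib.smooth_of_quotient π
  haveI hcH : ConnectedSpace H.left := (Scheme.Hom.surjective π.left).connectedSpace π.left.continuous
  refine ⟨inferInstance, inferInstance, hcH, fun V _ v _ hcv hsV hcV hnV htV => ?_⟩
  haveI := hcv
  haveI := hsV
  haveI := hcV
  obtain ⟨haV, hlV, hqV, hmV, -⟩ := Groth.Agent.SolvGrp.sub_props v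
  haveI := haV
  haveI := hlV
  haveI := hmV
  haveI : IsReduced V.left := Groth.Agent.GrpSchLib.isReduced_of_smooth_field V.hom
  let r : 𝟙_ (Over (Spec (CommRingCat.of k))) ⟶ G := 1
  haveI : IsClosedImmersion r.left := by
    haveI : IsClosedImmersion (r.left ≫ G.hom) := by
      rw [Over.w r]; exact inferInstanceAs (IsClosedImmersion (𝟙 _))
    exact IsClosedImmersion.of_comp _ G.hom
  haveI : IsMonHom r := ⟨by
      show η ≫ (1 : _ ⟶ G) = η
      rw [MonObj.comp_one, Hom.one_def, toUnit_unique (toUnit _) (𝟙 _), Category.id_comp],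
    by
      have e : ((1 : 𝟙_ (Over (Spec (CommRingCat.of k))) ⟶ G) ⊗ₘ (1 : 𝟙_ _ ⟶ G)) ≫ μ[G] =
          (fst _ _ ≫ 1) * (snd _ _ ≫ 1) := by
        rw [Hom.mul_def, ← lift_map, lift_fst_snd, Category.id_comp]
      show μ ≫ (1 : _ ⟶ G) = _
      rw [e, MonObj.comp_one, MonObj.comp_one, MonObj.comp_one, _root_.one_mul]⟩
  have hbot : ∀ z ∈ Groth.Agent.SolvGrp.rangePts r, z = 1 := fun z hz => by
    obtain ⟨x, rfl⟩ := hz
    exact MonObj.comp_one x
  have hnr : (Groth.Agent.SolvGrp.rangePts r).Normal := ⟨fun z hz g => by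
    rw [hbot z hz, _root_.mul_one, mul_inv_cancel]
    exact one_mem _⟩
  have hnv : (Groth.Agent.SolvGrp.rangePts v).Normal := ⟨fun z hz g => by
    obtain ⟨x, rfl⟩ := hz
    obtain ⟨y, hy⟩ := hnV _ g x
    exact ⟨y, hy.symm⟩⟩
  have hle := Groth.Agent.SolvGrp.le_map_unipRad π r hnr (fun U _ u _ hcu hsU hcU hnU htU => by
    haveI := hcu
    haveI := hsU
    haveI := hcU
    have htriv : Red.IsTrivialGrp U := hU U u hcu hsU hcU (Groth.Agent.SolvGrp.isNormalHom_of_pts u hnU) htU
    haveI : IsIso U.hom := htriv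
    rintro _ ⟨z, rfl⟩
    have hz : z = 1 := Over.OverMorphism.ext (by rw [← cancel_mono U.hom, Over.w, Over.w])
    show z ≫ u ∈ _
    rw [hz, MonObj.one_comp]
    exact one_mem _) v hnv (Groth.Agent.SolvGrp.isUnipPt_of_hasNoSubtorus htV)
  refine Groth.Agent.SolvGrp.isTrivialGrp_of_pts fun x => ?_
  obtain ⟨z, hz, hzx⟩ := hle (⟨x, rfl⟩ : x ≫ v ∈ Groth.Agent.SolvGrp.rangePts v)
  rw [hbot z hz, map_one] at hzx
  exact (cancel_mono v).1 (hzx.symm.trans (MonObj.one_comp v).symm)

end Groth.Agent.S14762
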