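import Groth.Statements.S14763
import Groth.Agent.AGFLib.QuasiComp.Albanese
import Groth.Agent.Lib.AVMulN
import Groth.Agent.GrpSchLib.HomClosedRange
import Groth.Agent.GrpSchLib.ImageFactor
-- import your own Groth.Agent.* helpers here

set_option autoImplicit false
set_option backward.isDefEq.respectTransparency false
set_option backward.isDefEq.respectTransparency.types false
set_option linter.style.haveILetI false
universe u
open CategoryTheory CategoryTheory.Limits MonoidalCategory CartesianMonoidalCategory MonObj GrpObj AlgebraicGeometry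
open AlgGrp

open Groth.Agent Groth.Agent.AGFLib

namespace Groth.Agent.S14763

/-- Over an algebraically closed field k let G be a commutative group variety (smooth connected
commutative k-group scheme of finite type) written as an extension 0 → L → G → A → 0 of an abelian
variety by its largest connected affine subgroup: i : L → G a smooth connected affine closed
subgroup scheme, kernel of a flat surjective homomorphism π : G → A onto an abelian variety A
(proper, smooth, connected). Then the following are equivalent: (a) for some d ≥ 1 there is a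
homomorphism s : A → G with π ∘ s equal to multiplication by d on A (the class of the extension is
killed by d: its pullback along multiplication by d splits); (b) there is an abelian subvariety A'
of G (a smooth connected proper closed subgroup scheme) with A' · L = G, that is, the multiplication
A' × L → G is surjective. (The published statement phrases (a) as the class of G having finite order
in the group of extension classes and (b) as G being isogenous to L × A; the published proof passes
through exactly the two conditions stated here.) -/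
theorem result (k : Type u) [Field k] [IsAlgClosed k]
    (G L A : Over (Spec (CommRingCat.of k))) [GrpObj G] [GrpObj L] [GrpObj A] [IsCommMonObj G]
    [Smooth G.hom] [QuasiCompact G.hom] [ConnectedSpace ↥G.left]
    (i : L ⟶ G) [IsMonHom i] [IsClosedImmersion i.left] [IsAffine L.left] [Smooth L.hom] [ConnectedSpace ↥L.left]
    (π : G ⟶ A) [IsMonHom π] [Flat π.left] [Surjective π.left] (hker : AlgGrp.IsKernel i π)
    [IsProper A.hom] [Smooth A.hom] [ConnectedSpace ↥A.left] :
    (∃ d : ℕ, 0 < d ∧ ∃ s : A ⟶ G, IsMonHom s ∧ s ≫ π = (𝟙 A) ^ d) ↔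
      (∃ (A' : Over (Spec (CommRingCat.of k))) (_ : GrpObj A') (j : A' ⟶ G), IsMonHom j ∧ IsClosedImmersion j.left ∧
        Smooth A'.hom ∧ ConnectedSpace ↥A'.left ∧ IsProper A'.hom ∧ Surjective ((j ⊗ₘ i) ≫ μ[G]).left) := by
  haveI := GrpSchLib.AntiAffine.isSeparated_grp G
  haveI : IrreducibleSpace A.left := Rosen.irreducibleSpace_of_connected
  haveI : IsReduced A.left := GrpSchLib.isReduced_of_smooth_field A.hom
  haveI : IsIntegral A.left := isIntegral_of_irreducibleSpace_of_isReduced A.left
  haveI : GeometricallyIntegral A.hom := H23.EquidimFibres.geometricallyIntegral_of_isAlgClosed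
  haveI : Mono i := by
    have : Mono i.left := inferInstance
    exact Over.mono_of_mono_left i
  constructor
  · rintro ⟨d, hd, s, hs, hsd⟩
    obtain ⟨I, _, p, j, hp, hj, hpj, hjc, hpf, hps, hIl, hIq⟩ := GrpSchLib.ImageFactor.exists_image s
    haveI := GrpSchLib.AntiAffine.isSeparated_grp I
    haveI : Smooth (p.left ≫ I.hom) := by rw [Over.w p]; infer_instance
    haveI : Smooth I.hom := GrpSchLib.smooth_of_flat_surjective p.left I.hom
    haveI : UniversallyClosed (p.left ≫ I.hom) := by rw [Over.w p]; infer_instance
    haveI : UniversallyClosed I.hom := UniversallyClosed.of_comp_surjective p.left I.hom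
    haveI : IsProper I.hom := {}
    refine ⟨I, inferInstance, j, hj, hjc, inferInstance, p.left.surjective.connectedSpace p.left.continuous,
      inferInstance, ?_⟩
    let Φ := (j ⊗ₘ i) ≫ μ[G]
    have hΦ : Φ = (fst I L ≫ j) * (snd I L ≫ i) := by
      rw [Hom.mul_def, CartesianMonoidalCategory.lift_fst_comp_snd_comp]
    haveI : IsMonHom Φ := inferInstance
    haveI : LocallyOfFiniteType (I ⊗ L).hom := inferInstanceAs (LocallyOfFiniteType (pullback.fst I.hom L.hom ≫ I.hom))
    haveI : QuasiCompact (I ⊗ L).hom := inferInstanceAs (QuasiCompact (pullback.fst I.hom L.hom ≫ I.hom))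
    haveI : QuasiCompact Φ.left := by
      haveI : QuasiCompact (Φ.left ≫ G.hom) := by rw [Over.w Φ]; infer_instance
      exact QuasiCompact.of_comp Φ.left G.hom
    haveI := AVMulN.surjective_pow (A := A) d hd
    have hall := Gen.eq_univ_of_forall_cp (GrpSchLib.HomClosedRange.isClosed_range Φ) fun g => by
      obtain ⟨b, hb⟩ := Gen.exists_of_mem_range ((𝟙 A) ^ d) (g ≫ π)
        (Set.mem_range.2 (((𝟙 A) ^ d : A ⟶ A).left.surjective _))
      refine ⟨Gen.cp (lift (b ≫ p) (hker.lift ((b ≫ s)⁻¹ * g) (toUnit _) ?_)), ?_⟩
      · rw [MonObj.mul_comp, GrpObj.inv_comp, Category.assoc, hsd, hb, inv_mul_cancel]; rfl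
      · rw [← Gen.cp_comp, hΦ, MonObj.comp_mul, lift_fst_assoc, lift_snd_assoc, hker.lift_fst, Category.assoc,
          hpj, mul_inv_cancel_left]
    exact ⟨fun y => hall.ge (Set.mem_univ y)⟩
  · rintro ⟨A', _, j, hj, hjc, hA's, hA'c, hA'p, hsurj⟩
    obtain ⟨f, hf, n, hn, hfn⟩ := QuasiComp.exists_hom j
    haveI : LocallyOfFinitePresentation π.left := by
      haveI : LocallyOfFinitePresentation (π.left ≫ A.hom) := by rw [Over.w π]; infer_instance
      exact AlgSpPts.locallyOfFinitePresentation_of_comp π.left A.hom
    obtain ⟨g, ⟨hg, hgm⟩, -⟩ := S5237.result i (fun T x l => ⟨l, by rw [mul_comm x, mul_inv_cancel_right]⟩) π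
      (QuasiComp.isQuotient_of_kernel i π hker) f (QuasiComp.hom_eq_one (i ≫ f))
    refine ⟨n, hn, g ≫ j, inferInstance, ?_⟩
    haveI := hgm
    refine QuasiComp.hom_ext_of_points fun a => ?_
    obtain ⟨x, rfl⟩ := Gen.exists_of_mem_range π a (Set.mem_range.2 (π.left.surjective _))
    haveI : LocallyOfFiniteType (A' ⊗ L).hom := inferInstanceAs (LocallyOfFiniteType (pullback.fst A'.hom L.hom ≫ A'.hom))
    obtain ⟨w, hw⟩ := Gen.exists_of_mem_range ((j ⊗ₘ i) ≫ μ[G]) x (Set.mem_range.2 (hsurj.surj _))
    have hx : x ≫ π = (w ≫ fst A' L) ≫ j ≫ π := by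
      rw [← hw, ← CartesianMonoidalCategory.lift_fst_comp_snd_comp, ← Hom.mul_def, MonObj.comp_mul,
        MonObj.mul_comp]
      simp only [Category.assoc]
      rw [hker.w]
      simp only [← Category.assoc, comp_toUnit]
      simp only [Category.assoc]
      rw [show toUnit _ ≫ η[A] = (1 : 𝟙_ _ ⟶ A) from rfl, _root_.mul_one]
    let φ : (𝟙_ (Over (Spec (CommRingCat.of k))) ⟶ A') →* (𝟙_ (Over (Spec (CommRingCat.of k))) ⟶ A) :=
      { toFun := fun y => y ≫ j ≫ π, map_one' := MonObj.one_comp _, map_mul' := fun y z => MonObj.mul_comp y z _ }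
    have e : (x ≫ π) ≫ g = (w ≫ fst A' L) ^ n := by
      rw [Category.assoc, hg, ← hw, ← CartesianMonoidalCategory.lift_fst_comp_snd_comp, ← Hom.mul_def,
        MonObj.comp_mul, MonObj.mul_comp]
      simp only [Category.assoc]
      rw [QuasiComp.hom_eq_one (i ≫ f), MonObj.comp_one, MonObj.comp_one, _root_.mul_one, hfn, MonObj.comp_pow,
        MonObj.comp_pow, Category.comp_id]
    rw [MonObj.comp_pow, Category.comp_id, ← Category.assoc, ← Category.assoc, e, hx]
    show φ _ = (φ _) ^ n
    exact map_pow φ _ n

end Groth.Agent.S14763
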