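import Groth.Statements.S14769
import Groth.Agent.DescLib.SubtrVal

set_option autoImplicit false
set_option backward.isDefEq.respectTransparency false
set_option backward.isDefEq.respectTransparency.types false
universe u
open CategoryTheory CategoryTheory.Limits AlgebraicGeometry
open Subtr

namespace Groth.Agent.S14769

/-- Let f : X ⟶ Y be any morphism of schemes. Then every base change of f has the lifting property for
ordered pairs of points if and only if, for every valuation ring V and morphism g : Spec V ⟶ Y,
there are a valuation ring V', a morphism a : Spec V' ⟶ X and a surjective morphism b : Spec V' ⟶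
Spec V with a ≫ f = b ≫ g. (The published statement assumes f universally submersive for the
constructible topologies and concludes universal subtrusiveness; for quasi-compact f the two agree.) -/
theorem result {X Y : Scheme.{u}} (f : X ⟶ Y) :
    Subtr.UnivSSubtrusive f ↔
      ∀ (V : Type u) [CommRing V] [IsDomain V] [ValuationRing V] (g : Spec (CommRingCat.of V) ⟶ Y),
        ∃ (V' : Type u) (_ : CommRing V') (_ : IsDomain V') (_ : ValuationRing V')
          (a : Spec (CommRingCat.of V') ⟶ X) (b : Spec (CommRingCat.of V') ⟶ Spec (CommRingCat.of V)),
          Surjective b ∧ a ≫ f = b ≫ g := by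
  rw [Groth.Agent.DescLib.univSSubtrusive_iff_valuationRing]
  refine ⟨fun h V _ _ _ g => ?_, fun h V _ _ _ g => ?_⟩
  · obtain ⟨W, i1, i2, i3, a, ha⟩ :=
      ((Groth.Agent.DescLib.tfae_over_valuationRing (pullback.snd f g)).out 1 4 rfl rfl).1 (h V g)
    exact ⟨W, i1, i2, i3, a ≫ pullback.fst f g, a ≫ pullback.snd f g, ha,
      by rw [Category.assoc, Category.assoc, pullback.condition]⟩
  · obtain ⟨W, i1, i2, i3, a, b, hb, e⟩ := h V g
    exact ((Groth.Agent.DescLib.tfae_over_valuationRing (pullback.snd f g)).out 1 4 rfl rfl).2
      ⟨W, i1, i2, i3, pullback.lift a b e, by rw [pullback.lift_snd]; exact hb⟩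

end Groth.Agent.S14769
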