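import Groth.Statements.S14772
import Groth.Agent.DescLib.SubtrSubm

set_option autoImplicit false
set_option backward.isDefEq.respectTransparency false
set_option backward.isDefEq.respectTransparency.types false
universe u
open CategoryTheory CategoryTheory.Limits AlgebraicGeometry
open Subtr

namespace Groth.Agent.S14772

/-- Let f : X ⟶ Y be a quasi-compact morphism of schemes. Then every base change of f has the lifting
property for ordered pairs of points if and only if, for every integer n ≥ 1, the base change X ×_Y
𝔸ⁿ_Y ⟶ 𝔸ⁿ_Y has it. (The published statement is about universally subtrusive morphisms f, with the
condition that f be universally submersive for the constructible topologies added on both sides, and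
does not assume f quasi-compact; this row states the quasi-compact case, where that condition is
automatic once f is surjective.) -/
theorem result {X Y : Scheme.{u}} (f : X ⟶ Y) [QuasiCompact f] :
    Subtr.UnivSSubtrusive f ↔
      ∀ n : ℕ, 0 < n →
        Subtr.IsSSubtrusive (pullback.snd f (AffineSpace (ULift.{u} (Fin n)) Y ↘ Y)) := by
  exact ⟨fun h n _ => h _ _ _ (IsPullback.of_hasPullback f _).flip, Groth.Agent.DescLib.univSSubtrusive_of_affineSpace f⟩

end Groth.Agent.S14772
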