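import Groth.Statements.S14773
import Groth.Agent.DescLib.EtProper
import Groth.Agent.DescLib.EtSchDD
-- import your own Groth.Agent.* helpers here

set_option autoImplicit false
set_option backward.isDefEq.respectTransparency false
set_option backward.isDefEq.respectTransparency.types false
set_option linter.style.haveILetI false
universe u
open CategoryTheory CategoryTheory.Limits AlgebraicGeometry
open Subtr

namespace Groth.Agent.S14773

/-- Let g : S' ⟶ S be proper, surjective and locally of finite presentation. Then every descent datum
relative to g whose underlying scheme is étale, separated and quasi-compact over S' is isomorphic to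
the canonical descent datum of a scheme étale, separated and quasi-compact over S. (Descent data
relative to g are taken in functor-of-points form. The published setting takes S quasi-separated;
the statement is local on S.) -/
theorem result {S' S : Scheme.{u}} (g : S' ⟶ S)
    [IsProper g] [Surjective g] [LocallyOfFinitePresentation g]
    (D : Desc.SchDD g) [QuasiCompact D.obj.hom] [IsSeparated D.obj.hom] [Etale D.obj.hom] :
    ∃ U : Over S, QuasiCompact U.hom ∧ IsSeparated U.hom ∧ Etale U.hom ∧ Nonempty ((Desc.toDD g).obj U ≅ D) := by
  haveI : Etale (((Desc.SchDDFam.ofSchDD.{0, u} g).obj D).obj ⟨⟩).hom := ‹Etale D.obj.hom›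
  haveI : QuasiCompact (((Desc.SchDDFam.ofSchDD.{0, u} g).obj D).obj ⟨⟩).hom := inferInstanceAs (QuasiCompact D.obj.hom)
  haveI : IsSeparated (((Desc.SchDDFam.ofSchDD.{0, u} g).obj D).obj ⟨⟩).hom := inferInstanceAs (IsSeparated D.obj.hom)
  exact DescLib.effective_schDD_of_fam g (DescLib.univSubmersive_of_universallyClosed g) D DescLib.effective_etale_proper

end Groth.Agent.S14773
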