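import Groth.Statements.S14777
import Groth.Agent.DescLib.EtSubtrusiveSep
-- import your own Groth.Agent.* helpers here

set_option autoImplicit false
set_option backward.isDefEq.respectTransparency false
set_option backward.isDefEq.respectTransparency.types false
set_option linter.style.haveILetI false
universe u
open CategoryTheory CategoryTheory.Limits AlgebraicGeometry
open Subtr

namespace Groth.Agent.S14777

/-- Let S and S' be quasi-separated schemes and g : S' ⟶ S universally closed, surjective and of finite
presentation. Then every descent datum relative to g whose underlying scheme is étale and separated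
over S' is isomorphic to the canonical descent datum of a scheme étale and separated over S. (The
published result is stated for étale algebraic spaces, which need not be separated; this row states
the case of separated objects, where everything is a scheme. Descent data are taken in
functor-of-points form.) -/
theorem result {S' S : Scheme.{u}}
    [QuasiSeparatedSpace S] [QuasiSeparatedSpace S'] (g : S' ⟶ S)
    [UniversallyClosed g] [Surjective g] [LocallyOfFinitePresentation g] [QuasiCompact g]
    [QuasiSeparated g] (D : Desc.SchDD g) [IsSeparated D.obj.hom] [Etale D.obj.hom] :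
    ∃ U : Over S, IsSeparated U.hom ∧ Etale U.hom ∧ Nonempty ((Desc.toDD g).obj U ≅ D) := by
  have hs : Subtr.UnivSSubtrusive g := fun X' Y' a b f' sq => by
    haveI : UniversallyClosed f' := MorphismProperty.of_isPullback sq.flip ‹UniversallyClosed g›
    haveI : Surjective f' := MorphismProperty.of_isPullback sq.flip ‹Surjective g›
    intro y y' h
    obtain ⟨x', rfl⟩ := f'.surjective y'
    obtain ⟨x, hx, e⟩ := f'.isClosedMap.specializingMap h
    exact ⟨x, x', hx, e, rfl⟩
  haveI : Etale (((Desc.SchDDFam.ofSchDD.{0, u} g).obj D).obj ⟨⟩).hom := ‹Etale D.obj.hom›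
  haveI : IsSeparated (((Desc.SchDDFam.ofSchDD.{0, u} g).obj D).obj ⟨⟩).hom := ‹IsSeparated D.obj.hom›
  obtain ⟨U, h₁, h₂, ⟨J⟩⟩ := DescLib.effective_subtr_sep (g := g) (D := (Desc.SchDDFam.ofSchDD.{0, u} g).obj D) hs
  exact ⟨U, h₁, h₂, ⟨(Desc.SchDDFam.toSchDD.{0, u} g).mapIso J⟩⟩

end Groth.Agent.S14777
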