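import Groth.Statements.S1478
import Groth.Agent.OmegaUniv.Unram
-- import your own Groth.Agent.* helpers here

set_option autoImplicit false
universe u
open FlatMor

namespace Groth.Agent.S1478

open AlgebraicGeometry CategoryTheory Limits in
/-- For separated morphisms (where the sheaf of differentials is literally the conormal sheaf of the
closed diagonal): a separated morphism f : X → S is formally unramified if and only if Ω_{X/S}, the
conormal sheaf of the diagonal, is the zero O_X-module. -/
theorem result {X S : Scheme.{u}} (f : X ⟶ S) [IsSeparated f] :
    FormallyUnramified f ↔ IsZero (Omega.sheaf f) := by
  exact (Groth.Agent.OmegaUniv.isZero_iff f).symm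

end Groth.Agent.S1478
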