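import Groth.Statements.S14784
import Groth.Agent.ProConsLib.Image
import Groth.Agent.S19530
import Mathlib.AlgebraicGeometry.Morphisms.FinitePresentation
import Mathlib.AlgebraicGeometry.Fiber

set_option autoImplicit false
set_option backward.isDefEq.respectTransparency false
set_option backward.isDefEq.respectTransparency.types false
universe u
open CategoryTheory CategoryTheory.Limits AlgebraicGeometry
open Subtr

namespace Groth.Agent.S14784

/-- Let f : S' ⟶ S be a morphism of schemes of finite presentation every base change of which has the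
lifting property for ordered pairs of points, and E ⊆ S a subset. Then E is locally closed if and
only if f⁻¹(E) is locally closed. (The published statement is for algebraic spaces; this row is the
case of schemes.) -/
theorem result {S' S : Scheme.{u}} (f : S' ⟶ S)
    [LocallyOfFinitePresentation f] [QuasiCompact f] [QuasiSeparated f]
    (hf : Subtr.UnivSSubtrusive f) (E : Set S) :
    IsLocallyClosed E ↔ IsLocallyClosed (f ⁻¹' E) := by
  refine ⟨fun h => h.preimage f.continuous, fun hlc => ?_⟩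
  obtain ⟨O, C, hO, hC, hOC⟩ := id hlc
  let C' : Set S' := closure (f ⁻¹' E) \ f ⁻¹' E
  have hC' : IsClosed C' := by
    simpa [coborder, isClosed_compl_iff, ← isOpen_compl_iff] using hlc.isOpen_coborder
  have hpc : ProCons.IsProConstructible C' :=
    Groth.Agent.ProConsLib.isProConstructible_of_isLocallyClosed hC'.isLocallyClosed
      fun V hV => hV.isCompact.inter_left hC'
  rw [isLocallyClosed_iff_isOpen_coborder, isOpen_iff_forall_mem_open]
  intro z hz
  by_cases hzE : z ∈ E
  swap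
  · exact ⟨(closure E)ᶜ, fun y hy h => hy h.1, isClosed_closure.isOpen_compl,
      fun h => hz ⟨h, hzE⟩⟩
  obtain ⟨_, ⟨V, hV, rfl⟩, hzV, -⟩ :=
    S.isBasis_affineOpens.exists_subset_of_mem_open (Set.mem_univ z) isOpen_univ
  have hsub : f ⁻¹' {z} ⊆ O ∩ f ⁻¹' (V : Set S) := fun x hx => by
    obtain rfl : f x = z := hx
    have : x ∈ f ⁻¹' E := hzE
    rw [hOC] at this
    exact ⟨this.1, hzV⟩
  choose W hW hxW hWle using fun x : {x : S' // x ∈ O ∩ f ⁻¹' (V : Set S)} =>
    exists_isAffineOpen_mem_and_subset (U := ⟨O ∩ f ⁻¹' (V : Set S), hO.inter (V.isOpen.preimage f.continuous)⟩) x.2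
  obtain ⟨t, ht⟩ := (f.isCompact_preimage_singleton z).elim_finite_subcover (fun x => (W x : Set S'))
    (fun x => (W x).isOpen) fun x hx => Set.mem_iUnion.2 ⟨⟨x, hsub hx⟩, hxW _⟩
  let g := fun x => f.resLE V (W x) fun w hw => (hWle x hw).2
  have hg : ∀ x (w : W x), (g x w).1 = f w.1 := fun x w =>
    congr($(Scheme.Hom.resLE_comp_ι f (fun w hw => (hWle x hw).2)).base w)
  haveI : IsAffine V := hV
  haveI : ∀ x, IsAffine (W x) := hW
  haveI : QuasiSeparatedSpace (V : Scheme) := inferInstance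
  let T : Set V := ⋃ x ∈ t, Set.range (g x)
  have hT : Topology.IsConstructible T := Topology.IsConstructible.biUnion t.finite_toSet fun x _ => by
    rw [← Set.image_univ]
    exact (g x).isConstructible_image Topology.IsConstructible.univ
  have hzT : (⟨z, hzV⟩ : V) ∉ closure Tᶜ := fun hcl => by
    obtain ⟨y, hy, hyz⟩ := (Groth.Agent.ProConsLib.consClosed_of_isConstructible
      (X := (V : Scheme)) hT.compl).exists_specializes_of_mem_closure hcl
    have hyz' : y.1 ⤳ z := hyz.map continuous_subtype_val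
    obtain ⟨p, hp, hpy⟩ := Groth.Agent.S19530.result f hf 1 ![y.1, z] (fun i j hij => by
      fin_cases i <;> fin_cases j <;> simp_all [specializes_rfl])
    have h0 : f (p 0) = y.1 := hpy 0
    have h1 : f (p 1) = z := hpy 1
    obtain ⟨x, hx, hpx⟩ := Set.mem_iUnion₂.1 (ht (show p 1 ∈ f ⁻¹' {z} from h1))
    exact hy (Set.mem_iUnion₂.2 ⟨x, hx, ⟨p 0, (hp 0 1 (by simp)).mem_open (W x).isOpen hpx⟩,
      Subtype.ext ((hg x _).trans h0)⟩)
  have hgen : ∀ y ∈ closure E, y ∈ Subtype.val '' (closure Tᶜ)ᶜ → ∃ e ∈ E, e ⤳ y := fun y hy hyU => by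
    obtain ⟨v, hv, rfl⟩ := hyU
    have hv' : v ∈ closure (Subtype.val ⁻¹' E ∩ T) := by
      have h1 : v ∈ closure (Subtype.val ⁻¹' E : Set V) :=
        V.isOpen.isOpenEmbedding_subtypeVal.isOpenMap.preimage_closure_subset_closure_preimage hy
      have := (isClosed_closure (s := (Tᶜ : Set V))).isOpen_compl.inter_closure ⟨hv, h1⟩
      exact closure_mono (fun w (hw : w ∈ (closure Tᶜ)ᶜ ∩ _) => (⟨hw.2, not_not.1 fun h => hw.1 (subset_closure h)⟩ :
        w ∈ Subtype.val ⁻¹' E ∩ T)) this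
    have hv'' : v ∈ closure (⋃ x ∈ t, g x '' (Subtype.val ⁻¹' C)) := by
      refine closure_mono ?_ hv'
      rintro w ⟨hwE, hwT⟩
      obtain ⟨x, hx, p, rfl⟩ := Set.mem_iUnion₂.1 hwT
      refine Set.mem_biUnion hx ⟨p, ?_, rfl⟩
      have : p.1 ∈ f ⁻¹' E := by
        show f p.1 ∈ E
        rw [← hg x p]
        exact hwE
      rw [hOC] at this
      exact this.2
    rw [show (⋃ x ∈ t, g x '' (Subtype.val ⁻¹' C)) = ⋃ x ∈ (t : Set _), g x '' (Subtype.val ⁻¹' C) from rfl] at hv''
    erw [t.finite_toSet.closure_biUnion] at hv''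
    rw [Set.mem_iUnion₂] at hv''
    obtain ⟨x, hx, hvx⟩ := hv''
    have hCW : IsClosed (Subtype.val ⁻¹' C : Set (W x)) := hC.preimage continuous_subtype_val
    obtain ⟨p, hp, hpv⟩ := Groth.Agent.ProConsLib.exists_specializes_of_mem_closure_image_scheme
      (Groth.Agent.ProConsLib.isProConstructible_of_isLocallyClosed (X := (W x : Scheme)) hCW.isLocallyClosed
        fun V hV => hV.isCompact.inter_left hCW) (g x) hvx
    refine ⟨f p.1, ?_, ?_⟩
    · show p.1 ∈ f ⁻¹' E
      rw [hOC]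
      exact ⟨(hWle x p.2).1, hp⟩
    · rw [← hg x p]
      exact hpv.map continuous_subtype_val
  let U : Set S := Subtype.val '' (closure Tᶜ)ᶜ
  have hU : IsOpen U := V.isOpen.isOpenEmbedding_subtypeVal.isOpenMap _ isClosed_closure.isOpen_compl
  have hzU : z ∈ U := ⟨⟨z, hzV⟩, hzT, rfl⟩
  have hzc : z ∉ closure (f '' C') := fun hcl => by
    obtain ⟨x, hx, hxz⟩ := Groth.Agent.ProConsLib.exists_specializes_of_mem_closure_image_scheme hpc f hcl
    obtain ⟨e, he, hey⟩ := hgen (f x) (map_mem_closure f.continuous hx.1 fun _ h => h) (hxz.mem_open hU hzU)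
    obtain ⟨p, hp, hpy⟩ := Groth.Agent.S19530.result f hf 2 ![e, f x, z] (fun i j hij => by
      fin_cases i <;> fin_cases j <;> simp_all [specializes_rfl, hey.trans hxz])
    have h0 : f (p 0) = e := hpy 0
    have h1 : f (p 1) = f x := hpy 1
    have h2 : f (p 2) = z := hpy 2
    have hp0 : p 0 ∈ f ⁻¹' E := show f (p 0) ∈ E by rwa [h0]
    have hp2 : p 2 ∈ f ⁻¹' E := show f (p 2) ∈ E by rwa [h2]
    rw [hOC] at hp0 hp2
    have : p 1 ∈ f ⁻¹' E := hOC ▸ ⟨(hp 1 2 (by decide)).mem_open hO hp2.1, (hp 0 1 (by simp)).mem_closed hC hp0.2⟩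
    exact hx.2 (show f x ∈ E by rwa [← h1])
  refine ⟨U ∩ (closure (f '' C'))ᶜ, ?_, hU.inter isClosed_closure.isOpen_compl, hzU, hzc⟩
  rintro y ⟨hyU, hyc⟩ ⟨hy, hyE⟩
  obtain ⟨e, he, hey⟩ := hgen y hy hyU
  obtain ⟨p, hp, hpy⟩ := Groth.Agent.S19530.result f hf 1 ![e, y] (fun i j hij => by
    fin_cases i <;> fin_cases j <;> simp_all [specializes_rfl])
  have h0 : f (p 0) = e := hpy 0
  have h1 : f (p 1) = y := hpy 1
  exact hyc (subset_closure ⟨p 1, ⟨(hp 0 1 (by simp)).mem_closed isClosed_closure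
    (subset_closure (show f (p 0) ∈ E by rwa [h0])), fun h => hyE (h1 ▸ h)⟩, h1⟩)

end Groth.Agent.S14784
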