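import Groth.Statements.S14789
import Mathlib.AlgebraicGeometry.Properties

set_option autoImplicit false
set_option backward.isDefEq.respectTransparency false
set_option backward.isDefEq.respectTransparency.types false
universe u
open CategoryTheory CategoryTheory.Limits AlgebraicGeometry
open Subtr

namespace Groth.Agent.S14789

/-- Let f : X ⟶ Y be a morphism of schemes with the lifting property for ordered pairs of points, and U
⊆ Y a subset containing every maximal point of Y (every point all of whose generizations are equal
to it). Then the closure of f⁻¹(U) maps onto Y. -/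
theorem result {X Y : Scheme.{u}} (f : X ⟶ Y)
    (hf : Subtr.IsSSubtrusive f) (U : Set Y) (hU : ∀ y : Y, (∀ y' : Y, y' ⤳ y → y' = y) → y ∈ U) :
    f '' closure (f ⁻¹' U) = Set.univ := by
  rw [Set.eq_univ_iff_forall]
  intro y
  obtain ⟨η, hη⟩ : ∃ η, IsGenericPoint η (irreducibleComponent y) :=
    QuasiSober.sober isIrreducible_irreducibleComponent isClosed_irreducibleComponent
  have hy : η ⤳ y := hη.specializes mem_irreducibleComponent
  have hmax : η ∈ U := hU η fun y' h' => by
    have hsub : irreducibleComponent y ⊆ closure {y'} := by
      rw [← hη.def]; exact specializes_iff_closure_subset.1 h'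
    have he := eq_irreducibleComponent isIrreducible_singleton.closure.2 hsub
    have : η ⤳ y' := hη.specializes (he ▸ subset_closure rfl)
    exact (h'.antisymm this).eq
  obtain ⟨x, x', hxx, hfx, hfx'⟩ := hf hy
  refine ⟨x, ?_, hfx⟩
  exact hxx.mem_closed isClosed_closure (subset_closure (by simpa [hfx'] using hmax))

end Groth.Agent.S14789
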