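import Groth.Statements.S14790
import Groth.Agent.FlatLocus.Basic
import Groth.Agent.FDescent.QuasiFlat
import Groth.Agent.FDescent.Generalizing

set_option autoImplicit false
set_option backward.isDefEq.respectTransparency false
set_option backward.isDefEq.respectTransparency.types false
universe u
open CategoryTheory CategoryTheory.Limits AlgebraicGeometry
open Subtr

namespace Groth.Agent.S14790

/-- Take a scheme Y that is reduced, quasi-compact and quasi-separated, whose set of maximal points
(points with no proper generization) is quasi-compact, and f : X ⟶ Y a morphism of finite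
presentation. Then there is a dense quasi-compact open subset U ⊆ Y over which f is flat. -/
theorem result {X Y : Scheme.{u}} [IsReduced Y]
    [CompactSpace Y] [QuasiSeparatedSpace Y]
    (hgen : IsCompact {y : Y | ∀ y' : Y, y' ⤳ y → y' = y})
    (f : X ⟶ Y) [LocallyOfFinitePresentation f] [QuasiCompact f] [QuasiSeparated f] :
    ∃ U : Y.Opens, Dense (U : Set Y) ∧ IsCompact (U : Set Y) ∧ Flat (f ∣_ U) := by
  classical
  let M : Set Y := {y : Y | ∀ y' : Y, y' ⤳ y → y' = y}
  let Zc : TopologicalSpace.Closeds X := ⟨{x : X | (f.stalkMap x).hom.Flat}ᶜ,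
    (FlatLocus.isOpen_flat_locus f).isClosed_compl⟩
  let i := (Scheme.IdealSheafData.vanishingIdeal Zc).subschemeι
  have hi : Set.range i.base = (Zc : Set X) := by
    simp [i]
  have hfield : ∀ y ∈ M, IsField (Y.presheaf.stalk y) := fun y hy =>
    isField_stalk_of_closure_mem_irreducibleComponents Y y (FDescent.closure_singleton_mem_components hy)
  have hflat : ∀ x : X, f.base x ∈ M → (f.stalkMap x).hom.Flat := fun x hx => by
    letI := (f.stalkMap x).hom.toAlgebra
    letI := (hfield _ hx).toField
    exact (inferInstance : Module.Flat (Y.presheaf.stalk (f.base x)) (X.presheaf.stalk x))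
  have hM : ∀ y ∈ M, y ∉ closure (Set.range (i ≫ f).base) := fun y hy hc => by
    obtain ⟨z, hz⟩ := FDescent.exists_specializes_of_mem_closure_range (i ≫ f) hc
    have e := hy _ hz
    rw [Scheme.Hom.comp_apply] at e
    exact (hi ▸ Set.mem_range_self z : i.base z ∈ (Zc : Set X)) (hflat _ (by rw [e]; exact hy))
  have hloc : ∀ y : M, ∃ V : Y.Opens, IsAffineOpen V ∧ y.1 ∈ V ∧ (V : Set Y) ⊆ (closure (Set.range (i ≫ f).base))ᶜ :=
    fun y => exists_isAffineOpen_mem_and_subset (U := ⟨_, isClosed_closure.isOpen_compl⟩) (hM y.1 y.2)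
  choose V hV hyV hVsub using hloc
  obtain ⟨s, hs⟩ := hgen.elim_finite_subcover (fun y : M => (V y : Set Y)) (fun y => (V y).2)
    (fun y hy => Set.mem_iUnion.2 ⟨⟨y, hy⟩, hyV ⟨y, hy⟩⟩)
  let U : Y.Opens := ⨆ y ∈ s, V y
  have hU : (U : Set Y) = ⋃ y ∈ s, (V y : Set Y) := by simp [U]
  refine ⟨U, ?_, ?_, ?_⟩
  · intro y
    let η := (isIrreducible_irreducibleComponent (x := y)).genericPoint
    have hη : IsGenericPoint η (irreducibleComponent y) :=
      isIrreducible_irreducibleComponent.isGenericPoint_genericPoint isClosed_irreducibleComponent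
    have hηM : η ∈ M := fun y' hy' =>
      FDescent.eq_of_specializes_of_mem (irreducibleComponent_mem_irreducibleComponents y) hη hy'
    have hηU : η ∈ (U : Set Y) := hU.symm ▸ hs hηM
    refine closure_mono (Set.singleton_subset_iff.2 hηU) ?_
    rw [hη.def]
    exact mem_irreducibleComponent
  · rw [hU]
    exact s.finite_toSet.isCompact_biUnion fun y _ => (hV y).isCompact
  · rw [Flat.iff_flat_stalkMap]
    intro x
    refine ((RingHom.toMorphismProperty RingHom.Flat).arrow_mk_iso_iff (morphismRestrictStalkMap f U x)).2 ?_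
    by_contra hx
    obtain ⟨z, hz⟩ : x.1 ∈ Set.range i.base := hi.symm ▸ hx
    have hxU : f.base x.1 ∈ (U : Set Y) := x.2
    rw [hU, Set.mem_iUnion₂] at hxU
    obtain ⟨y, -, hy⟩ := hxU
    exact hVsub y hy (subset_closure ⟨z, by rw [Scheme.Hom.comp_apply, hz]⟩)

end Groth.Agent.S14790
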