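import Groth.Statements.S14791
import Groth.Agent.DescLib.SubtrLim

set_option autoImplicit false
set_option backward.isDefEq.respectTransparency false
set_option backward.isDefEq.respectTransparency.types false
universe u
open CategoryTheory CategoryTheory.Limits AlgebraicGeometry
open Subtr

namespace Groth.Agent.S14791

/-- Let S = lim S_i be a cofiltered limit of schemes with affine transition morphisms, Y₀ a scheme over
a stage S_{i₀}, f₀ : X₀ ⟶ Y₀ a quasi-compact morphism, and write f_i, f for the base changes of f₀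
to the stages S_i and to S (realised as second projections of fibre products). If there is a stage
S_{i₁} such that f_i has the lifting property for ordered pairs of points for every stage S_i over
S_{i₁}, then f has it. (The published statement is about subtrusive morphisms and assumes f a
quotient map for the constructible topologies; this row keeps only the lifting property and assumes
f₀ quasi-compact, which makes the fibres quasi-compact as the filtered-intersection step of the
argument requires.) -/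
theorem result {I : Type u} [SmallCategory I] [IsCofiltered I]
    (D : I ⥤ Scheme.{u}) (c : Limits.Cone D) (hc : Limits.IsLimit c)
    [∀ (i j : I) (a : i ⟶ j), IsAffineHom (D.map a)] (i₀ : I)
    {X₀ Y₀ : Scheme.{u}} (f₀ : X₀ ⟶ Y₀) (g₀ : Y₀ ⟶ D.obj i₀) [QuasiCompact f₀]
    (h : ∃ (i₁ : I) (ψ : i₁ ⟶ i₀), ∀ (i : I) (φ : i ⟶ i₁),
      Subtr.IsSSubtrusive (pullback.snd f₀ (pullback.fst g₀ (D.map (φ ≫ ψ))))) :
    Subtr.IsSSubtrusive (pullback.snd f₀ (pullback.fst g₀ (c.π.app i₀))) := by
  open Groth.Agent.MorLib in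
  classical
  obtain ⟨i₁, ψ, h⟩ := h
  intro y y' hyy
  obtain ⟨_, ⟨U, hU, rfl⟩, hyU, -⟩ := Y₀.isBasis_affineOpens.exists_subset_of_mem_open
    (Set.mem_univ (pullback.fst g₀ (c.π.app i₀) y)) isOpen_univ
  choose W hW hxW hWle using fun x : f₀ ⁻¹ᵁ U => exists_isAffineOpen_mem_and_subset x.2
  obtain ⟨t, ht⟩ := (f₀.isCompact_preimage hU.isCompact).elim_finite_subcover (fun x => (W x : Set X₀))
    (fun x => (W x).2) fun x hx => Set.mem_iUnion.2 ⟨⟨x, hx⟩, hxW _⟩
  have hY := IsPullback.of_hasPullback g₀ (c.π.app i₀)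
  have hYlim := BC.isLimitCone D g₀ hY hc
  let yj : ∀ j : Over i₀, ↥(pullback g₀ (D.map j.hom)) := fun j => BC.proj D g₀ hY j y
  let yj' : ∀ j : Over i₀, ↥(pullback g₀ (D.map j.hom)) := fun j => BC.proj D g₀ hY j y'
  let xi : ∀ k, (W k : Scheme) ⟶ D.obj i₀ := fun k => (W k).ι ≫ f₀ ≫ g₀
  let q : ∀ k (j : Over i₀), (BC.diag D (xi k)).obj j ⟶ pullback g₀ (D.map j.hom) := fun k j =>
    pullback.lift (pullback.fst (xi k) (D.map j.hom) ≫ (W k).ι ≫ f₀) (pullback.snd (xi k) (D.map j.hom))
      (by simpa [xi] using pullback.condition (f := xi k) (g := D.map j.hom))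
  have hq : ∀ k (a b : Over i₀) (φ : a ⟶ b), (BC.diag D (xi k)).map φ ≫ q k b = q k a ≫ (BC.diag D g₀).map φ := by
    intro k a b φ
    apply pullback.hom_ext
    · erw [Category.assoc, pullback.lift_fst, Category.assoc, BC.map_fst D g₀ φ, pullback.lift_fst]
      exact (Category.assoc _ _ _).symm.trans (congrArg (· ≫ (W k).ι ≫ f₀) (BC.map_fst D (xi k) φ))
    · erw [Category.assoc, pullback.lift_snd, Category.assoc, BC.map_snd D g₀ φ, BC.map_snd D (xi k) φ,
        pullback.lift_snd_assoc]
  have hcompat : ∀ (z : ↥(pullback g₀ (c.π.app i₀))) (a b : Over i₀) (φ : a ⟶ b),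
      (BC.diag D g₀).map φ (BC.proj D g₀ hY a z) = BC.proj D g₀ hY b z := fun z a b φ => by
    have e := (BC.cone D g₀ hY).w φ
    exact congr(($e).base z)
  haveI : ∀ k (j : Over i₀), IsAffine ((BC.diag D (xi k)).obj j) := fun k j => by
    haveI : IsAffine (W k : Scheme) := hW k
    haveI := BC.isAffineHom_fst D (xi k) j
    exact isAffine_of_isAffineHom (pullback.fst (xi k) (D.map j.hom))
  haveI : ∀ k {a b : Over i₀} (φ : a ⟶ b), IsAffineHom ((BC.diag D (xi k)).map φ) := fun k _ _ φ =>
    BC.isAffineHom_map D (xi k) φ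
  haveI : ∀ {a b : Over i₀} (φ : a ⟶ b), IsAffineHom ((BC.diag D g₀).map φ) := fun φ =>
    BC.isAffineHom_map D g₀ φ
  have hex : ∃ k, ∀ (j : Over i₀) (_ : j ⟶ Over.mk ψ), ∃ x x' : (BC.diag D (xi k)).obj j,
      x' ⤳ x ∧ q k j x = yj j ∧ q k j x' = yj' j := by
    by_contra! hcon
    choose a b hab using hcon
    obtain ⟨m, hm⟩ := IsCofiltered.inf_objs_exists (insert (Over.mk ψ) (t.image a))
    obtain ⟨φ⟩ := hm (Finset.mem_insert_self _ _)
    have hS := h m.left φ.left
    rw [show φ.left ≫ ψ = m.hom from Over.w φ] at hS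
    obtain ⟨x, x', hx, e, e'⟩ := hS (show yj' m ⤳ yj m from hyy.map (BC.proj D g₀ hY m).continuous)
    have hxU : pullback.fst f₀ (pullback.fst g₀ (D.map m.hom)) x ∈ f₀ ⁻¹ᵁ U := by
      show f₀ (pullback.fst f₀ _ x) ∈ U
      rw [← Scheme.Hom.comp_apply, pullback.condition, Scheme.Hom.comp_apply, e]
      show (BC.proj D g₀ hY m ≫ pullback.fst g₀ (D.map m.hom)) y ∈ U
      rw [BC.proj_fst]
      exact hyU
    obtain ⟨k, hk, hxk⟩ := Set.mem_iUnion₂.1 (ht hxU)
    let w := pullback.snd (W k).ι (pullback.fst f₀ (pullback.fst g₀ (D.map m.hom)))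
    let r : pullback (W k).ι (pullback.fst f₀ (pullback.fst g₀ (D.map m.hom))) ⟶ (BC.diag D (xi k)).obj m :=
      pullback.lift (pullback.fst _ _) (w ≫ pullback.snd f₀ _ ≫ pullback.snd g₀ (D.map m.hom)) (by
        simp only [xi, Category.assoc, w]
        rw [pullback.condition_assoc, pullback.condition_assoc, pullback.condition])
    have hr : r ≫ q k m = w ≫ pullback.snd f₀ _ := by
      apply pullback.hom_ext
      · erw [Category.assoc, pullback.lift_fst, pullback.lift_fst_assoc]
        rw [Category.assoc, pullback.condition_assoc, pullback.condition]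
      · erw [Category.assoc, pullback.lift_snd, pullback.lift_snd, Category.assoc]
    obtain ⟨z, -, hz⟩ := Scheme.Pullback.exists_preimage_pullback (f := (W k).ι)
      (g := pullback.fst f₀ (pullback.fst g₀ (D.map m.hom))) ⟨_, hxk⟩ x rfl
    obtain ⟨z', -, hz'⟩ := Scheme.Pullback.exists_preimage_pullback (f := (W k).ι)
      (g := pullback.fst f₀ (pullback.fst g₀ (D.map m.hom)))
      ⟨_, (hx.map (pullback.fst f₀ _).continuous).mem_open (W k).2 hxk⟩ x' rfl
    have hzz : z' ⤳ z := w.isOpenEmbedding.isInducing.specializes_iff.1 (by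
      rw [show w z' = x' from hz', show w z = x from hz]; exact hx)
    obtain ⟨φk⟩ := hm (Finset.mem_insert_of_mem (Finset.mem_image_of_mem a hk))
    have key : ∀ (p : ↥(pullback (W k).ι (pullback.fst f₀ (pullback.fst g₀ (D.map m.hom)))))
        (v : ↥(pullback g₀ (c.π.app i₀))), pullback.snd f₀ _ (w p) = BC.proj D g₀ hY m v →
        q k (a k) (((BC.diag D (xi k)).map φk) (r p)) = BC.proj D g₀ hY (a k) v := fun p v hp => by
      rw [← Scheme.Hom.comp_apply, hq, Scheme.Hom.comp_apply, ← Scheme.Hom.comp_apply r, hr,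
        Scheme.Hom.comp_apply, hp]
      exact hcompat v m (a k) φk
    exact hab k _ _ ((hzz.map r.continuous).map ((BC.diag D (xi k)).map φk).continuous)
      (key z y (by rw [show w z = x from hz]; exact e)) (key z' y' (by rw [show w z' = x' from hz']; exact e'))
  obtain ⟨k, hk⟩ := hex
  have hX := IsPullback.of_hasPullback (xi k) (c.π.app i₀)
  obtain ⟨s, s', hss, hs, hs'⟩ := Groth.Agent.DescLib.exists_lift_pair
    (BC.isLimitCone D (xi k) hX hc) (Over.mk ψ) (q k) (fun a b φ => (BC.diag D g₀).map φ) (hq k)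
    yj yj' (hcompat y) (hcompat y') hk
  let qinf : pullback (xi k) (c.π.app i₀) ⟶ pullback g₀ (c.π.app i₀) :=
    pullback.lift (pullback.fst _ _ ≫ (W k).ι ≫ f₀) (pullback.snd _ _)
      (by simpa [xi] using pullback.condition (f := xi k) (g := c.π.app i₀))
  have hqinf : ∀ j, qinf ≫ BC.proj D g₀ hY j = BC.proj D (xi k) hX j ≫ q k j := fun j => by
    apply pullback.hom_ext
    · erw [Category.assoc, BC.proj_fst, pullback.lift_fst, Category.assoc, pullback.lift_fst, BC.proj_fst_assoc]
    · erw [Category.assoc, BC.proj_snd, Category.assoc, pullback.lift_snd, BC.proj_snd, pullback.lift_snd_assoc]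
  let emb : pullback (xi k) (c.π.app i₀) ⟶ pullback f₀ (pullback.fst g₀ (c.π.app i₀)) :=
    pullback.lift (pullback.fst _ _ ≫ (W k).ι) qinf (by erw [pullback.lift_fst, Category.assoc])
  have hemb : ∀ (p : ↥(pullback (xi k) (c.π.app i₀))) (v : ↥(pullback g₀ (c.π.app i₀))),
      (∀ j, q k j (BC.proj D (xi k) hX j p) = BC.proj D g₀ hY j v) → pullback.snd f₀ _ (emb p) = v := fun p v hp => by
    rw [← Scheme.Hom.comp_apply, pullback.lift_snd]
    refine LimSpace.point_ext hYlim fun j => ?_
    show BC.proj D g₀ hY j (qinf p) = BC.proj D g₀ hY j v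
    rw [← Scheme.Hom.comp_apply, hqinf, Scheme.Hom.comp_apply]
    exact hp j
  exact ⟨emb s, emb s', hss.map emb.continuous, hemb s y hs, hemb s' y' hs'⟩

end Groth.Agent.S14791
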