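import Groth.Statements.S14795
import Groth.Agent.DescLib.WeakSub

set_option autoImplicit false
set_option backward.isDefEq.respectTransparency false
set_option backward.isDefEq.respectTransparency.types false
universe u
open CategoryTheory CategoryTheory.Limits AlgebraicGeometry
open Subtr

namespace Groth.Agent.S14795

open scoped TensorProduct

/-- Let A ⊆ B be an integral ring extension and C ⊆ B the weak subintegral closure of A in B, that is
the largest A-subalgebra C of B such that Spec C ⟶ Spec A is a universal homeomorphism (C is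
characterised here by that maximality). Then b ∈ B lies in C if and only if b ⊗ 1 − 1 ⊗ b is
nilpotent in B ⊗_A B (b ⊗ 1 = 1 ⊗ b in the reduction of B ⊗_A B). -/
theorem result {A B : Type u} [CommRing A] [CommRing B]
    [Algebra A B] (hinj : Function.Injective (algebraMap A B)) [Algebra.IsIntegral A B]
    (C : Subalgebra A B) (hC : FlatMor.IsUnivHomeo (Spec.map (CommRingCat.ofHom (algebraMap A C))))
    (hmax : ∀ D : Subalgebra A B, FlatMor.IsUnivHomeo (Spec.map (CommRingCat.ofHom (algebraMap A D))) → D ≤ C) (b : B) :
    b ∈ C ↔ IsNilpotent (b ⊗ₜ[A] (1 : B) - (1 : B) ⊗ₜ[A] b) := by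
  constructor
  · intro hb
    obtain ⟨-, hu, -⟩ := Groth.Agent.MorLib.isUnivHomeo_iff.1 hC
    have hk := (Groth.Agent.DescLib.universallyInjective_Spec_iff A C).1 hu
    have hn : IsNilpotent ((⟨b, hb⟩ : C) ⊗ₜ[A] (1 : C) - (1 : C) ⊗ₜ[A] (⟨b, hb⟩ : C)) :=
      hk (by simp [RingHom.mem_ker])
    simpa using hn.map (Algebra.TensorProduct.map C.val C.val)
  · intro hb
    let D : Subalgebra A B := Algebra.adjoin A {b}
    refine hmax D ?_ (Algebra.subset_adjoin rfl)
    haveI : Algebra.IsIntegral A D := ⟨fun d => (isIntegral_algHom_iff D.val Subtype.val_injective).1 (Algebra.IsIntegral.isIntegral (d : B))⟩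
    have hDB : Surjective (Spec.map (CommRingCat.ofHom D.val.toRingHom)) := ⟨by
      letI := D.val.toRingHom.toAlgebra
      haveI : IsScalarTower A D B := IsScalarTower.of_algebraMap_eq' rfl
      haveI : Algebra.IsIntegral D B := Algebra.IsIntegral.tower_top A
      haveI : FaithfulSMul D B := (faithfulSMul_iff_algebraMap_injective D B).2 Subtype.val_injective
      exact Algebra.IsIntegral.comap_surjective (R := D) (S := B)⟩
    have h1 : ∀ (S : Type u) [CommRing S] [Algebra A S], Function.Surjective (PrimeSpectrum.comap
        (Algebra.TensorProduct.map D.val (AlgHom.id A S)).toRingHom) := by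
      intro S _ _
      have sB := isPullback_SpecMap_of_isPushout _ _ _ _ (CommRingCat.isPushout_tensorProduct A B S)
      have sD := isPullback_SpecMap_of_isPushout _ _ _ _ (CommRingCat.isPushout_tensorProduct A D S)
      let M := Spec.map (CommRingCat.ofHom (Algebra.TensorProduct.map D.val (AlgHom.id A S)).toRingHom)
      have eR : M ≫ Spec.map (CommRingCat.ofHom (Algebra.TensorProduct.includeRight : S →ₐ[A] D ⊗[A] S).toRingHom) =
          Spec.map (CommRingCat.ofHom (Algebra.TensorProduct.includeRight : S →ₐ[A] B ⊗[A] S).toRingHom) := by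
        rw [← Spec.map_comp]
        rfl
      have eL : Spec.map (CommRingCat.ofHom D.val.toRingHom) ≫ Spec.map (CommRingCat.ofHom (algebraMap A D)) =
          Spec.map (CommRingCat.ofHom (algebraMap A B)) := by
        rw [← Spec.map_comp]
        rfl
      have sq : IsPullback (Spec.map (CommRingCat.ofHom (Algebra.TensorProduct.includeLeftRingHom : B →+* B ⊗[A] S))) M
          (Spec.map (CommRingCat.ofHom D.val.toRingHom))
          (Spec.map (CommRingCat.ofHom (Algebra.TensorProduct.includeLeftRingHom : D →+* D ⊗[A] S))) := by
        refine IsPullback.of_bot ?_ ?_ sD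
        · rw [eR, eL]
          exact sB
        · rw [← Spec.map_comp, ← Spec.map_comp]
          rfl
      exact (MorphismProperty.of_isPullback (P := @Surjective) sq hDB).surj
    have h2 : ∀ z : D ⊗[A] D, IsNilpotent (Algebra.TensorProduct.map D.val D.val z) → IsNilpotent z := by
      intro z hz
      rw [← mem_nilradical, nilradical_eq_sInf, Ideal.mem_sInf]
      intro P hP
      haveI : P.IsPrime := hP
      obtain ⟨P', hP'⟩ := h1 D ⟨P.comap (Algebra.TensorProduct.comm A D D).toRingEquiv.toRingHom, Ideal.IsPrime.comap _⟩
      let P1 : PrimeSpectrum (D ⊗[A] B) := PrimeSpectrum.comap (Algebra.TensorProduct.comm A D B).toRingEquiv.toRingHom P'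
      obtain ⟨Q, hQ⟩ := h1 B P1
      have hzQ : Algebra.TensorProduct.map D.val D.val z ∈ Q.asIdeal := nilradical_le_prime Q.asIdeal hz
      have e : ∀ z : D ⊗[A] D, Algebra.TensorProduct.map D.val D.val z =
          Algebra.TensorProduct.map D.val (AlgHom.id A B) ((Algebra.TensorProduct.comm A D B).symm
            (Algebra.TensorProduct.map D.val (AlgHom.id A D) (Algebra.TensorProduct.comm A D D z))) := fun z => by
        induction z using TensorProduct.induction_on with
        | zero => simp
        | tmul a c => simp
        | add p q hp hq => simp only [map_add, hp, hq]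
      rw [e] at hzQ
      have h3 : (Algebra.TensorProduct.comm A D B).symm
          (Algebra.TensorProduct.map D.val (AlgHom.id A D) (Algebra.TensorProduct.comm A D D z)) ∈ P1.asIdeal := by
        rw [← hQ]; exact hzQ
      have h4 : Algebra.TensorProduct.map D.val (AlgHom.id A D) (Algebra.TensorProduct.comm A D D z) ∈ P'.asIdeal := by
        simpa [P1] using h3
      have h5 : Algebra.TensorProduct.comm A D D z ∈
          (P.comap (Algebra.TensorProduct.comm A D D).toRingEquiv.toRingHom) := by
        rw [show P.comap (Algebra.TensorProduct.comm A D D).toRingEquiv.toRingHom =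
          (PrimeSpectrum.comap (Algebra.TensorProduct.map D.val (AlgHom.id A D)).toRingHom P').asIdeal from
            (congrArg PrimeSpectrum.asIdeal hP').symm]
        exact h4
      have h6 : Algebra.TensorProduct.comm A D D (Algebra.TensorProduct.comm A D D z) = z :=
        (Algebra.TensorProduct.comm_symm A D D) ▸ AlgEquiv.symm_apply_apply _ z
      rw [← h6]
      exact h5
    have hall : ∀ d : D, IsNilpotent (d ⊗ₜ[A] (1 : D) - (1 : D) ⊗ₜ[A] d) := fun d => h2 _ (by
      have hd : (d : B) ∈ Groth.Agent.DescLib.radicialSubalgebra A B :=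
        Algebra.adjoin_le (Set.singleton_subset_iff.2 hb) d.2
      simpa using! hd)
    refine Groth.Agent.MorLib.isUnivHomeo_iff.2 ⟨?_,
      (Groth.Agent.DescLib.universallyInjective_Spec_iff A D).2 (Groth.Agent.DescLib.ker_lmul_le_of_forall hall), ⟨?_⟩⟩
    · haveI : IsIntegralHom (Spec.map (CommRingCat.ofHom (algebraMap A D))) :=
        IsIntegralHom.SpecMap_iff.2 (algebraMap_isIntegral_iff.2 inferInstance)
      infer_instance
    · haveI : FaithfulSMul A D := (faithfulSMul_iff_algebraMap_injective A D).2
        fun x y h => hinj (congrArg Subtype.val h)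
      exact Algebra.IsIntegral.comap_surjective (R := A) (S := D)

end Groth.Agent.S14795
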