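import Groth.Statements.S14796
import Groth.Agent.MorLib.RingUnivHomeo
import Groth.Agent.Hensel.EtaleReduced
import Mathlib.RingTheory.Smooth.IntegralClosure
import Mathlib.RingTheory.LocalProperties.Reduced
-- import your own Groth.Agent.* helpers here

set_option autoImplicit false
universe u
open CategoryTheory CategoryTheory.Limits AlgebraicGeometry
open Subtr

namespace Groth.Agent.S14796


open scoped TensorProduct
open Groth.Agent.MorLib

/-- Ring maps into an algebraically closed field extend along injective integral maps. -/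
theorem exists_extension {A B K : Type u} [CommRing A] [CommRing B] [Algebra A B]
    [Field K] [IsAlgClosed K] [Algebra.IsIntegral A B] (hinj : Function.Injective (algebraMap A B))
    (f : A →+* K) : ∃ g : B →+* K, g.comp (algebraMap A B) = f := by
  let P := RingHom.ker f
  haveI hP : P.IsPrime := RingHom.ker_isPrime f
  obtain ⟨Q, -, hQ, hQP⟩ := Ideal.exists_ideal_over_prime_of_isIntegral (R := A) (S := B) P ⊥ (by
    intro a ha; rw [show a = 0 from hinj (by simpa using ha)]; exact zero_mem _)
  haveI : Q.LiesOver P := ⟨hQP.symm⟩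
  letI : Algebra (A ⧸ P) K := (RingHom.kerLift f).toAlgebra
  haveI : Module.IsTorsionFree (A ⧸ P) K :=
    Module.isTorsionFree_iff_algebraMap_injective.mpr f.kerLift_injective
  haveI : Module.IsTorsionFree (A ⧸ P) (B ⧸ Q) := Module.isTorsionFree_iff_algebraMap_injective.mpr
    (FaithfulSMul.algebraMap_injective _ _)
  haveI : Algebra.IsAlgebraic (A ⧸ P) (B ⧸ Q) := Algebra.IsIntegral.isAlgebraic
  let l : B ⧸ Q →ₐ[A ⧸ P] K := IsAlgClosed.lift
  exact ⟨l.toRingHom.comp (Ideal.Quotient.mk Q), RingHom.ext fun a => l.commutes (Ideal.Quotient.mk P a)⟩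

variable {A B : Type u} [CommRing A] [CommRing B] [Algebra A B]

abbrev SelfRed (A B : Type u) [CommRing A] [CommRing B] [Algebra A B] :=
  (integralClosure A B ⊗[A] integralClosure A B) ⧸ nilradical (integralClosure A B ⊗[A] integralClosure A B)

/-- The first coordinate map to the reduced self tensor product. -/
noncomputable def pr₁ : integralClosure A B →ₐ[A] SelfRed A B :=
  (Ideal.Quotient.mkₐ A _).comp Algebra.TensorProduct.includeLeft

/-- The second coordinate map to the reduced self tensor product. -/
noncomputable def pr₂ : integralClosure A B →ₐ[A] SelfRed A B :=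
  (Ideal.Quotient.mkₐ A _).comp Algebra.TensorProduct.includeRight

theorem mem_of_pr_eq (hinj : Function.Injective (algebraMap A B)) (C : Subalgebra A B)
    (hmax : ∀ D : Subalgebra A B, FlatMor.IsUnivHomeo (Spec.map (CommRingCat.ofHom (algebraMap A D))) → D ≤ C)
    (b : integralClosure A B) (hb : (pr₁ (A := A) (B := B)) b = (pr₂ (A := A) (B := B)) b) : (b : B) ∈ C := by
  let W : Subalgebra A (integralClosure A B) := AlgHom.equalizer (pr₁ (A := A) (B := B)) (pr₂ (A := A) (B := B))
  let D : Subalgebra A B := W.map (integralClosure A B).val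
  refine hmax D ?_ ⟨b, hb, rfl⟩
  refine RUH.isUnivHomeo_of_injective _ (fun x y h => hinj congr(Subtype.val $h)) ?_ ?_
  · intro x
    obtain ⟨_, w, -, rfl⟩ := x
    exact (isIntegral_algHom_iff D.val Subtype.val_injective).1 w.2
  intro K _ f g hfg
  let e := algebraMap K (AlgebraicClosure K)
  let j : W →+* D :=
    RingHom.codRestrict ((integralClosure A B).val.comp W.val).toRingHom D.toSubring fun x => ⟨x.1, x.2, rfl⟩
  haveI : Algebra.IsIntegral W (integralClosure A B) := Algebra.IsIntegral.tower_top A
  obtain ⟨f', hf'⟩ := exists_extension (A := W) (B := integralClosure A B) Subtype.val_injective ((e.comp f).comp j)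
  obtain ⟨g', hg'⟩ := exists_extension (A := W) (B := integralClosure A B) Subtype.val_injective ((e.comp g).comp j)
  have hA : ∀ a, f' (algebraMap A _ a) = g' (algebraMap A _ a) := fun a => by
    have h1 := congr($hf' (algebraMap A W a))
    have h2 := congr($hg' (algebraMap A W a))
    exact h1.trans ((congrArg e congr($hfg a)).trans h2.symm)
  letI : Algebra A (AlgebraicClosure K) := (f'.comp (algebraMap A (integralClosure A B))).toAlgebra
  let F : integralClosure A B →ₐ[A] AlgebraicClosure K := ⟨f', fun a => rfl⟩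
  let G : integralClosure A B →ₐ[A] AlgebraicClosure K := ⟨g', fun a => (hA a).symm⟩
  let T := Algebra.TensorProduct.lift F G fun _ _ => Commute.all _ _
  refine RingHom.ext fun d => e.injective ?_
  obtain ⟨_, w, hw, rfl⟩ := d
  have hw' : T (w ⊗ₜ 1 - 1 ⊗ₜ w) = 0 :=
    ((mem_nilradical.1 (Ideal.Quotient.eq.1 hw)).map T).eq_zero
  rw [map_sub, sub_eq_zero] at hw'
  simp only [T, Algebra.TensorProduct.lift_tmul, map_one, one_mul, mul_one] at hw'
  exact (congr($hf' ⟨w, hw⟩)).symm.trans (hw'.trans congr($hg' ⟨w, hw⟩))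

theorem isUnivHomeo_range {A' : Type u} [CommRing A'] [Algebra A A'] [Module.Flat A A']
    (hinj : Function.Injective (algebraMap A B)) (C : Subalgebra A B)
    (hC : FlatMor.IsUnivHomeo (Spec.map (CommRingCat.ofHom (algebraMap A C)))) :
    FlatMor.IsUnivHomeo (Spec.map (CommRingCat.ofHom (algebraMap A'
      (Algebra.TensorProduct.map (AlgHom.id A' A') C.val : A' ⊗[A] C →ₐ[A'] A' ⊗[A] B).range))) := by
  obtain ⟨hi, hr, -⟩ := (RUH.isUnivHomeo_SpecMap_iff _).1 hC
  haveI : Algebra.IsIntegral A C := ⟨hi⟩
  let g : A' ⊗[A] C →ₐ[A'] A' ⊗[A] B := Algebra.TensorProduct.map (AlgHom.id A' A') C.val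
  refine RUH.isUnivHomeo_of_injective _ (fun x y h => ?_) (fun x => ?_) ?_
  · exact Algebra.TensorProduct.includeLeft_injective (S := A') hinj congr(Subtype.val $h)
  · obtain ⟨_, z, rfl⟩ := x
    exact (Algebra.IsIntegral.isIntegral (R := A') z).map g.rangeRestrict
  intro K _ f f' hff'
  let π : A' ⊗[A] C →ₐ[A'] g.range := g.rangeRestrict
  have h1 : ∀ a : A', f (π (algebraMap A' _ a)) = f' (π (algebraMap A' _ a)) := fun a => by
    rw [π.commutes]; exact congr($hff' a)
  let ι : C →ₐ[A] A' ⊗[A] C := Algebra.TensorProduct.includeRight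
  have h2 := hr K ((f.comp π.toRingHom).comp ι.toRingHom) ((f'.comp π.toRingHom).comp ι.toRingHom)
    (RingHom.ext fun a => by
      change f (π (ι (algebraMap A C a))) = f' (π (ι (algebraMap A C a)))
      rw [ι.commutes, IsScalarTower.algebraMap_apply A A' (A' ⊗[A] C)]
      exact h1 _)
  have key : f.comp π.toRingHom = f'.comp π.toRingHom := by
    refine RingHom.ext fun z => ?_
    induction z with
    | zero => simp
    | add x y hx hy => simp only [map_add, hx, hy]
    | tmul a c =>
      rw [show a ⊗ₜ[A] c = algebraMap A' (A' ⊗[A] C) a * ι c by simp [ι], map_mul, map_mul]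
      exact congr_arg₂ (· * ·) (h1 a) congr($h2 c)
  refine RingHom.ext fun ⟨_, z, rfl⟩ => ?_
  exact congr($key z)

theorem isReduced_tensor {A' S : Type u} [CommRing A'] [CommRing S] [Algebra A A'] [Algebra A S] [IsReduced S]
    (hA' : (∃ M : Submonoid A, IsLocalization M A') ∨ Algebra.Etale A A') :
    IsReduced (A' ⊗[A] S) := by
  suffices IsReduced (S ⊗[A] A') from
    isReduced_of_injective (Algebra.TensorProduct.comm A A' S).toRingEquiv.toRingHom
      (Algebra.TensorProduct.comm A A' S).injective
  rcases hA' with ⟨M, hM⟩ | h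
  · exact isReduced_localizationPreserves (Algebra.algebraMapSubmonoid S M) (S ⊗[A] A') inferInstance
  · exact Groth.Agent.Hensel.isReduced_of_etale S _

theorem exists_lTensor_ker {A' I S E : Type u} [CommRing A'] [Algebra A A'] [CommRing I] [Algebra A I]
    [CommRing S] [Algebra A S] [CommRing E] [Algebra A' E] [IsReduced (A' ⊗[A] S)] [Module.Flat A A']
    (p q : I →ₐ[A] S) (θ : E →ₐ[A'] A' ⊗[A] I) (hr : RUH.Radicial (algebraMap A' E)) (c : E) :
    ∃ w, (p.toLinearMap - q.toLinearMap).ker.subtype.lTensor A' w = θ c := by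
  let p' : A' ⊗[A] I →ₐ[A'] A' ⊗[A] S := Algebra.TensorProduct.map (AlgHom.id A' A') p
  let q' : A' ⊗[A] I →ₐ[A'] A' ⊗[A] S := Algebra.TensorProduct.map (AlgHom.id A' A') q
  have hpq : p' (θ c) - q' (θ c) = 0 := by
    apply IsReduced.eq_zero
    rw [← mem_nilradical, nilradical_eq_sInf, Ideal.mem_sInf]
    intro P hP
    haveI : P.IsPrime := hP
    let ev := algebraMap (A' ⊗[A] S) P.ResidueField
    have h := hr P.ResidueField (ev.comp (p'.comp θ).toRingHom) (ev.comp (q'.comp θ).toRingHom)
      (RingHom.ext fun a => congrArg ev (((p'.comp θ).commutes a).trans ((q'.comp θ).commutes a).symm))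
    rw [← Ideal.algebraMap_residueField_eq_zero, map_sub, sub_eq_zero]
    exact congr($h c)
  exact (Module.Flat.lTensor_exact A' (LinearMap.exact_subtype_ker_map _) (θ c)).1 (by
    rw [LinearMap.lTensor_sub, LinearMap.sub_apply]; exact hpq)

/-- Let A ⊆ B be a ring extension and A ⟶ A' a ring map that is a localization or étale; put B' = A' ⊗_A
B. Let C ⊆ B be the weak subintegral closure of A in B and C' ⊆ B' that of A' in B' (each the
largest subalgebra whose spectrum maps to the base by a universal homeomorphism, characterised here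
by that maximality). Then C' is the image of A' ⊗_A C ⟶ A' ⊗_A B: the weak subintegral closure
commutes with such base changes. -/
theorem result {A B A' : Type u} [CommRing A] [CommRing B]
    [CommRing A'] [Algebra A B] [Algebra A A'] (hinj : Function.Injective (algebraMap A B))
    (hA' : (∃ M : Submonoid A, IsLocalization M A') ∨ Algebra.Etale A A')
    (C : Subalgebra A B) (hC : FlatMor.IsUnivHomeo (Spec.map (CommRingCat.ofHom (algebraMap A C))))
    (hmax : ∀ D : Subalgebra A B, FlatMor.IsUnivHomeo (Spec.map (CommRingCat.ofHom (algebraMap A D))) → D ≤ C)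
    (C' : Subalgebra A' (TensorProduct A A' B)) (hC' : FlatMor.IsUnivHomeo (Spec.map (CommRingCat.ofHom (algebraMap A' C'))))
    (hmax' : ∀ D : Subalgebra A' (TensorProduct A A' B), FlatMor.IsUnivHomeo (Spec.map (CommRingCat.ofHom (algebraMap A' D))) → D ≤ C') :
    (C' : Set (TensorProduct A A' B)) =
      Set.range (Algebra.TensorProduct.map (AlgHom.id A A') C.val) := by
  haveI : Module.Flat A A' := by
    rcases hA' with ⟨M, hM⟩ | h
    · exact IsLocalization.flat A' M
    · infer_instance
  refine Set.Subset.antisymm (fun x hx => ?_) (hmax' _ (isUnivHomeo_range hinj C hC))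
  obtain ⟨hi, hr, -⟩ := (RUH.isUnivHomeo_SpecMap_iff _).1 hC'
  have hbij : Function.Bijective (TensorProduct.toIntegralClosure A A' B) := by
    rcases hA' with ⟨M, hM⟩ | h
    · exact TensorProduct.toIntegralClosure_bijective_of_isLocalization M
    · exact TensorProduct.toIntegralClosure_bijective_of_smooth
  let ψ : A' ⊗[A] integralClosure A B →ₐ[A'] A' ⊗[A] B :=
    Algebra.TensorProduct.map (AlgHom.id A' A') (integralClosure A B).val
  have hψ : Function.Injective ψ :=
    Module.Flat.lTensor_preserves_injective_linearMap (M := A') (integralClosure A B).val.toLinearMap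
      Subtype.val_injective
  have hle : C' ≤ ψ.range := fun y hy => by
    obtain ⟨z, hz⟩ := hbij.2 ⟨y, (isIntegral_algHom_iff C'.val Subtype.val_injective).2 (hi ⟨y, hy⟩)⟩
    exact ⟨z, congr(Subtype.val $hz)⟩
  let θ : C' →ₐ[A'] A' ⊗[A] integralClosure A B :=
    (AlgEquiv.ofInjective ψ hψ).symm.toAlgHom.comp (Subalgebra.inclusion hle)
  have hθ : ∀ c, ψ (θ c) = c := fun c =>
    congr(Subtype.val $((AlgEquiv.ofInjective ψ hψ).apply_symm_apply (Subalgebra.inclusion hle c)))
  haveI : IsReduced (SelfRed A B) :=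
    (Ideal.isRadical_iff_quotient_reduced _).1 (Ideal.radical_isRadical _)
  haveI : IsReduced (A' ⊗[A] SelfRed A B) := isReduced_tensor (S := SelfRed A B) hA'
  let δ := (pr₁ (A := A) (B := B)).toLinearMap - (pr₂ (A := A) (B := B)).toLinearMap
  obtain ⟨w, hw⟩ := exists_lTensor_ker (S := SelfRed A B) (pr₁ (A := A) (B := B)) (pr₂ (A := A) (B := B)) θ hr ⟨x, hx⟩
  let incl : δ.ker →ₗ[A] C := LinearMap.codRestrict (Subalgebra.toSubmodule C)
    ((integralClosure A B).val.toLinearMap.comp δ.ker.subtype)
    fun b => mem_of_pr_eq hinj C hmax b.1 (sub_eq_zero.1 b.2)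
  refine ⟨incl.lTensor A' w, ?_⟩
  change C.val.toLinearMap.lTensor A' (incl.lTensor A' w) = x
  rw [← LinearMap.lTensor_comp_apply,
    show C.val.toLinearMap.comp incl = (integralClosure A B).val.toLinearMap.comp δ.ker.subtype from rfl,
    LinearMap.lTensor_comp_apply, hw]
  exact hθ ⟨x, hx⟩

end Groth.Agent.S14796
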