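import Groth.Statements.S1480
import Mathlib
import Groth.Agent.FlatMisc.QFSections

set_option autoImplicit false
universe u
open FlatMor

namespace Groth.Agent.S1480

open AlgebraicGeometry CategoryTheory Limits in
/-- Let f : X → S be flat, locally of finite presentation and locally quasi-finite, and g a nonzero
global function on X. Then there are affine opens V of X and U of S with f(V) ⊆ U and g nonzero on
V, an ideal F of O_S(U), a positive integer r and an injective O_S(U)-linear map from F^r to O_X(V)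
whose image contains the restriction of g to V. -/
theorem result {X S : Scheme.{u}} (f : X ⟶ S) [Flat f] [LocallyOfFinitePresentation f] [LocallyQuasiFinite f]
    (g : Γ(X, ⊤)) (hg : g ≠ 0) :
    ∃ (U : S.Opens) (hU : IsAffineOpen U) (V : X.Opens) (hV : IsAffineOpen V) (hVU : V ≤ f ⁻¹ᵁ U),
      X.presheaf.map (homOfLE le_top).op g ≠ (0 : Γ(X, V)) ∧
      ∃ (F : Ideal Γ(S, U)) (r : ℕ), 0 < r ∧
        letI := (f.appLE U V hVU).hom.toAlgebra
        ∃ φ : (Fin r → ↥F) →ₗ[Γ(S, U)] Γ(X, V), Function.Injective φ ∧ X.presheaf.map (homOfLE le_top).op g ∈ LinearMap.range φ := by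
  classical
  obtain ⟨x, hx⟩ : ∃ x : X, X.presheaf.germ ⊤ x trivial g ≠ 0 := by
    by_contra h
    push Not at h
    exact hg (TopCat.Presheaf.section_ext X.sheaf ⊤ g 0 fun x hx => (h x).trans (map_zero _).symm)
  obtain ⟨_, ⟨U₀, hU₀', rfl⟩, hxU₀, -⟩ := S.isBasis_affineOpens.exists_subset_of_mem_open (Set.mem_univ (f x)) isOpen_univ
  obtain ⟨_, ⟨V₀, hV₀', rfl⟩, hxV₀, hVU⟩ := X.isBasis_affineOpens.exists_subset_of_mem_open
    (show x ∈ (f ⁻¹ᵁ U₀ : Set X) from hxU₀) (f ⁻¹ᵁ U₀).isOpen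
  have hU₀ : IsAffineOpen U₀ := hU₀'
  have hV₀ : IsAffineOpen V₀ := hV₀'
  have e : V₀ ≤ f ⁻¹ᵁ U₀ := hVU
  have hg₀ : X.presheaf.map (homOfLE (le_top : V₀ ≤ ⊤)).op g ≠ (0 : Γ(X, V₀)) := fun h0 => hx (by
    rw [← TopCat.Presheaf.germ_res_apply X.presheaf (homOfLE (le_top : V₀ ≤ ⊤)) x hxV₀ g]
    exact (congrArg _ h0).trans (map_zero _))
  letI := (f.appLE U₀ V₀ e).hom.toAlgebra
  haveI : Module.Flat Γ(S, U₀) Γ(X, V₀) := f.flat_appLE hU₀ hV₀ e
  haveI : Algebra.FinitePresentation Γ(S, U₀) Γ(X, V₀) := f.finitePresentation_appLE hU₀ hV₀ e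
  haveI : Algebra.QuasiFinite Γ(S, U₀) Γ(X, V₀) := LocallyQuasiFinite.quasiFinite_appLE (f := f) hU₀ hV₀ e
  obtain ⟨u, r, ee, J, hJ, hJg, hu, hgen, ψ, hψ⟩ :=
    Groth.Agent.QFSections.exists_data (A := Γ(S, U₀)) hg₀
  have hUa : IsAffineOpen (S.basicOpen u) := hU₀.basicOpen u
  have hVa : IsAffineOpen (X.basicOpen (f.appLE U₀ V₀ e u)) := hV₀.basicOpen _
  have e' : X.basicOpen (f.appLE U₀ V₀ e u) ≤ f ⁻¹ᵁ S.basicOpen u := by
    rw [Scheme.basicOpen_appLE]; exact inf_le_right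
  haveI := hU₀.isLocalization_basicOpen u
  haveI := hV₀.isLocalization_basicOpen (f.appLE U₀ V₀ e u)
  letI := (f.appLE (S.basicOpen u) (X.basicOpen (f.appLE U₀ V₀ e u)) e').hom.toAlgebra
  letI : Algebra Γ(S, U₀) Γ(X, X.basicOpen (f.appLE U₀ V₀ e u)) :=
    ((algebraMap Γ(X, V₀) Γ(X, X.basicOpen (f.appLE U₀ V₀ e u))).comp (algebraMap Γ(S, U₀) Γ(X, V₀))).toAlgebra
  haveI : IsScalarTower Γ(S, U₀) Γ(X, V₀) Γ(X, X.basicOpen (f.appLE U₀ V₀ e u)) := IsScalarTower.of_algebraMap_eq fun _ => rfl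
  haveI : IsScalarTower Γ(S, U₀) Γ(S, S.basicOpen u) Γ(X, X.basicOpen (f.appLE U₀ V₀ e u)) := by
    refine IsScalarTower.of_algebraMap_eq fun a => ?_
    show (f.appLE U₀ V₀ e ≫ X.presheaf.map (homOfLE (X.basicOpen_le _)).op).hom a =
      (S.presheaf.map (homOfLE (S.basicOpen_le u)).op ≫ f.appLE (S.basicOpen u) _ e').hom a
    rw [Scheme.Hom.appLE_map, Scheme.Hom.map_appLE]
  haveI : Module.Flat Γ(S, S.basicOpen u) Γ(X, X.basicOpen (f.appLE U₀ V₀ e u)) := f.flat_appLE hUa hVa e'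
  have hres : X.presheaf.map (homOfLE (le_top : X.basicOpen (f.appLE U₀ V₀ e u) ≤ ⊤)).op g =
      algebraMap Γ(X, V₀) Γ(X, X.basicOpen (f.appLE U₀ V₀ e u)) (X.presheaf.map (homOfLE (le_top : V₀ ≤ ⊤)).op g) := by
    show _ = X.presheaf.map (homOfLE (X.basicOpen_le _)).op _
    rw [← ConcreteCategory.comp_apply, ← X.presheaf.map_comp]
    rfl
  have hgne : algebraMap Γ(X, V₀) Γ(X, X.basicOpen (f.appLE U₀ V₀ e u)) (X.presheaf.map (homOfLE (le_top : V₀ ≤ ⊤)).op g) ≠ 0 := by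
    intro h0
    obtain ⟨⟨_, n, rfl⟩, hn⟩ := (IsLocalization.map_eq_zero_iff (Submonoid.powers (f.appLE U₀ V₀ e u)) _ _).1 h0
    apply hu n
    rw [Algebra.smul_def, map_pow]
    exact hn
  obtain ⟨F, k, hk, φ, hφ, hgφ⟩ := Groth.Agent.QFSections.exists_map (A := Γ(S, U₀)) hJ hJg hgen ψ hψ
    (A' := Γ(S, S.basicOpen u)) (B' := Γ(X, X.basicOpen (f.appLE U₀ V₀ e u))) hgne
  refine ⟨S.basicOpen u, hUa, _, hVa, e', ?_, F, k, hk, φ, hφ, ?_⟩
  · rw [hres]; exact hgne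
  · rw [hres]; exact hgφ

end Groth.Agent.S1480
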