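import Groth.Statements.S14806
import Mathlib
import Groth.Agent.CompLatLib.Basic

set_option autoImplicit false
open Finset
open CompLat

namespace Groth.Agent.S14806

/-- Let n ≥ 1, let D, D' : ℤⁿ → ℤⁿ be given by diagonal matrices with nonzero diagonal entries, A : ℤⁿ →
ℤⁿ an integer matrix of rank n - 1, S : ℤⁿ → ℤ the sum of the coordinates and Δ : ℤ → ℤⁿ the
diagonal embedding, with S D A = 0 and A D' Δ = 0; let d, d' be the greatest common divisors of the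
diagonal entries of D and of D' (dℤ = im(S D), d'ℤ = im(S D')). Then #(ker(S D)/im A) · |det D| ·
|det D'| = d d' · #(ker S/im(D A D')). -/
theorem result (n : ℕ) (hn : 0 < n) (δ δ' : Fin n → ℤ) (hδ : ∀ i, δ i ≠ 0) (hδ' : ∀ i, δ' i ≠ 0)
    (A : Matrix (Fin n) (Fin n) ℤ) (hA : A.rank = n - 1)
    (hSDA : (∑ i : Fin n, (LinearMap.proj i : (Fin n → ℤ) →ₗ[ℤ] ℤ)) ∘ₗ
        (Matrix.mulVecLin (Matrix.diagonal δ)) ∘ₗ (Matrix.mulVecLin A) = 0)
    (hADΔ : (Matrix.mulVecLin A) ∘ₗ (Matrix.mulVecLin (Matrix.diagonal δ')) ∘ₗ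
        (LinearMap.pi fun _ : Fin n => (LinearMap.id : ℤ →ₗ[ℤ] ℤ)) = 0) :
    (Nat.card (LinearMap.ker ((∑ i : Fin n, (LinearMap.proj i : (Fin n → ℤ) →ₗ[ℤ] ℤ)) ∘ₗ (Matrix.mulVecLin (Matrix.diagonal δ))) ⧸
          (LinearMap.range (Matrix.mulVecLin A)).comap (LinearMap.ker ((∑ i : Fin n, (LinearMap.proj i : (Fin n → ℤ) →ₗ[ℤ] ℤ)) ∘ₗ (Matrix.mulVecLin (Matrix.diagonal δ)))).subtype) : ℤ) * |∏ i, δ i| * |∏ i, δ' i| =
      (univ.gcd δ) * (univ.gcd δ') * Nat.card (LinearMap.ker (∑ i : Fin n, (LinearMap.proj i : (Fin n → ℤ) →ₗ[ℤ] ℤ)) ⧸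
          (LinearMap.range ((Matrix.mulVecLin (Matrix.diagonal δ)) ∘ₗ (Matrix.mulVecLin A) ∘ₗ (Matrix.mulVecLin (Matrix.diagonal δ')))).comap (LinearMap.ker (∑ i : Fin n, (LinearMap.proj i : (Fin n → ℤ) →ₗ[ℤ] ℤ))).subtype) := by
  have hd : (0 : ℤ) ≤ univ.gcd δ := (Int.nonneg_iff_normalize_eq_self _).mp Finset.normalize_gcd
  have hd' : (0 : ℤ) ≤ univ.gcd δ' := (Int.nonneg_iff_normalize_eq_self _).mp Finset.normalize_gcd
  have hKd : LinearMap.range (Matrix.mulVecLin A) ≤ LinearMap.ker (Groth.Agent.CompLatLib.sumL n ∘ₗ Matrix.mulVecLin (Matrix.diagonal δ)) := by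
    rintro _ ⟨x, rfl⟩
    exact LinearMap.congr_fun hSDA x
  have hker : Matrix.mulVecLin A δ' = 0 := by
    have := LinearMap.congr_fun hADΔ 1
    rw [LinearMap.zero_apply] at this
    refine Eq.trans ?_ this
    simp only [LinearMap.comp_apply, Matrix.mulVecLin_apply]
    congr 1
    funext i
    simp [Matrix.mulVec_diagonal]
  have hle : (LinearMap.range (Matrix.mulVecLin (Matrix.diagonal δ'))).map (Matrix.mulVecLin A) ≤
      LinearMap.range (Matrix.mulVecLin A) := LinearMap.map_le_range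
  have h := Groth.Agent.CompLatLib.main δ hn hδ _ (hle.trans hKd)
  have h' := Groth.Agent.CompLatLib.image_index A hn hδ' hA hker
  have hr := AddSubgroup.relIndex_mul_relIndex _ _ _ (Submodule.toAddSubgroup_mono hle) (Submodule.toAddSubgroup_mono hKd)
  rw [Groth.Agent.CompLatLib.card_quot, Groth.Agent.CompLatLib.card_quot, ← hr] at h
  rw [LinearMap.range_comp, LinearMap.range_comp, Groth.Agent.CompLatLib.card_quot, Groth.Agent.CompLatLib.card_quot,
    ← Int.natCast_natAbs, ← Int.natCast_natAbs, ← Int.natAbs_of_nonneg hd, ← Int.natAbs_of_nonneg hd',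
    show ∀ a b c, ((a : ℕ) : ℤ) * (b : ℕ) * (c : ℕ) = ((a * b * c : ℕ) : ℤ) from fun _ _ _ => by push_cast; rfl,
    show ∀ a b c, ((a : ℕ) : ℤ) * (b : ℕ) * (c : ℕ) = ((a * b * c : ℕ) : ℤ) from fun _ _ _ => by push_cast; rfl,
    Nat.cast_inj]
  rw [← h']
  conv_rhs => rw [mul_comm ((univ.gcd δ).natAbs * (univ.gcd δ').natAbs), ← mul_assoc, h]
  ring

end Groth.Agent.S14806
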