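import Groth.Statements.S14807
import Mathlib.Data.Fintype.Pigeonhole

set_option autoImplicit false
universe u
open CAlg

namespace Groth.Agent.S14807

/-- Let G be a finite abelian group, written additively, and ℓ a prime number. Every sequence (g_n)_{n ≥
0} of elements of G with ℓ^n · g_n = 0 and ℓ · g_{n+1} = g_n for all n is identically zero; in other
words the inverse limit of the subgroups of ℓ^n-torsion elements, with transition maps
multiplication by ℓ, vanishes. -/
theorem result (G : Type u) [AddCommGroup G] [Finite G]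
    (ℓ : ℕ) (hℓ : ℓ.Prime) (g : ℕ → G) (htor : ∀ n : ℕ, ℓ ^ n • g n = 0)
    (hcomp : ∀ n : ℕ, ℓ • g (n + 1) = g n) (n : ℕ) : g n = 0 := by
  classical
  have hs : ∀ i k : ℕ, ℓ ^ k • g (i + k) = g i := by
    intro i k
    induction k with
    | zero => simp
    | succ k ih => rw [pow_succ, mul_smul, ← add_assoc, hcomp, ih]
  obtain ⟨i, j, hne, hij⟩ := Finite.exists_ne_map_eq_of_infinite (fun m : ℕ => g (n + m))
  have hlt : ∀ i j, i < j → g (n + i) = g (n + j) → g n = 0 := by
    intro i j h he
    obtain ⟨d, rfl⟩ := Nat.exists_eq_add_of_lt h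
    have h1 : ℓ ^ (d + 1) • g (n + i) = g (n + i) := by
      conv_rhs => rw [← hs (n + i) (d + 1)]
      rw [he]; congr 2; omega
    have h2 : ∀ m, ℓ ^ ((d + 1) * m) • g (n + i) = g (n + i) := by
      intro m; induction m with
      | zero => simp
      | succ m ih => rw [Nat.mul_succ, pow_add, mul_smul, h1, ih]
    have h0 : g (n + i) = 0 := by
      have hle : n + i ≤ (d + 1) * (n + i) := Nat.le_mul_of_pos_left _ (Nat.succ_pos _)
      obtain ⟨r, hr⟩ := Nat.exists_eq_add_of_le hle
      rw [← h2 (n + i), hr, pow_add, mul_comm, mul_smul, htor, smul_zero]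
    rw [← hs n i, h0, smul_zero]
  rcases lt_or_gt_of_ne hne with h | h
  · exact hlt i j h hij
  · exact hlt j i h hij.symm

end Groth.Agent.S14807
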