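import Groth.Statements.S14808
import Groth.Agent.H23.ModLoc

set_option autoImplicit false
universe u
open CategoryTheory CategoryTheory.Limits AlgebraicGeometry
open PicF

namespace Groth.Agent.S14808

open AlgebraicGeometry CategoryTheory Groth.Agent.H23.ModLoc

/-- Let X be an integral scheme such that Γ(X, O_X) is a field and L an invertible O_X-module. If L has
a nonzero global section (a nonzero morphism O_X → L) and its dual has a nonzero global section (a
nonzero morphism L → O_X), then L is isomorphic to O_X. -/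
theorem result (X : Scheme.{u}) [IsIntegral X]
    (hfield : IsField (Γ(X, ⊤) : Type u)) (L : X.Modules) (hL : PicF.IsInvertible L)
    (s : Coh.structureModule X ⟶ L) (hs : s ≠ 0) (t : L ⟶ Coh.structureModule X) (ht : t ≠ 0) :
    Nonempty (L ≅ Coh.structureModule X) := by
  obtain ⟨x⟩ := (inferInstance : Nonempty X)
  suffices IsIso s from ⟨(asIso s).symm⟩
  -- the composite is multiplication by a nonzero global function
  have hc : coeff (s ≫ t) ≠ 0 := by
    intro hc
    have h0 : s ≫ t = 0 := coeff_injective (hc.trans coeff_zero.symm)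
    obtain ⟨U, hx, ⟨e⟩⟩ := hL x
    let ρ := Scheme.Modules.restrictUnitIso U.ι
    let a := ρ.inv ≫ (Scheme.Modules.restrictFunctor U.ι).map s ≫ e.hom
    let b := e.inv ≫ (Scheme.Modules.restrictFunctor U.ι).map t ≫ ρ.hom
    have hab : coeff a * coeff b = 0 := by
      rw [← coeff_comp, show a ≫ b = 0 by simp [a, b, ← Functor.map_comp_assoc, h0], coeff_zero]
    have : IsIntegral U.toScheme :=
      have : Nonempty U.toScheme := ⟨⟨x, hx⟩⟩
      isIntegral_of_isOpenImmersion U.ι
    rcases mul_eq_zero.mp hab with ha | hb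
    · have hs0 : (Scheme.Modules.restrictFunctor U.ι).map s = 0 := by
        have : a = 0 := coeff_injective (ha.trans coeff_zero.symm)
        rw [← cancel_epi ρ.inv, ← cancel_mono e.hom]
        simpa [a] using this
      apply hs
      have hone : (s.app ⊤) (1 : Γ(X, ⊤)) = 0 := by
        refine section_eq_zero_of_restrict_eq_zero hL (U.ι ''ᵁ ⊤) ?_ ⊤ le_top _ ?_
        · exact ⟨x, ⟨x, hx⟩, trivial, rfl⟩
        · have h1 := ConcreteCategory.congr_hom (s.mapPresheaf.naturality (homOfLE (le_top : U.ι ''ᵁ ⊤ ≤ ⊤)).op) (1 : Γ(X, ⊤))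
          refine h1.symm.trans ?_
          exact congr(($hs0).app ⊤ _)
      refine Scheme.Modules.hom_ext _ _ fun V => ?_
      ext r
      have h1 := ConcreteCategory.congr_hom (s.mapPresheaf.naturality (homOfLE (le_top : V ≤ ⊤)).op) (1 : Γ(X, ⊤))
      have key : ∀ r' : Γ(X, V), s.app V r' = r' • s.app V (1 : Γ(X, V)) := fun r' =>
        (congrArg (s.app V) (mul_one r').symm).trans (s.app_smul r' (1 : Γ(X, V)))
      change s.app V r = 0
      refine (key r).trans ?_
      have h3 : s.app V (X.presheaf.map (homOfLE (le_top : V ≤ ⊤)).op (1 : Γ(X, ⊤))) =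
          L.presheaf.map (homOfLE (le_top : V ≤ ⊤)).op (s.app ⊤ (1 : Γ(X, ⊤))) := h1
      rw [hone, map_zero, map_one] at h3
      rw [h3, smul_zero]
    · have ht0 : (Scheme.Modules.restrictFunctor U.ι).map t = 0 := by
        have : b = 0 := coeff_injective (hb.trans coeff_zero.symm)
        rw [← cancel_epi e.inv, ← cancel_mono ρ.hom]
        simpa [b] using this
      apply ht
      refine Scheme.Modules.hom_ext _ _ fun V => ?_
      ext m
      change t.app V m = 0
      by_cases hV : (V : Set X).Nonempty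
      · obtain ⟨y, hyU, hyV⟩ := nonempty_preirreducible_inter U.isOpen V.isOpen ⟨x, hx⟩ hV
        have hW : U.ι ''ᵁ (U.ι ⁻¹ᵁ V) ≤ V := Scheme.Hom.image_preimage_le _ _
        have : Nonempty V := ⟨⟨y, hyV⟩⟩
        have : Nonempty (U.ι ''ᵁ (U.ι ⁻¹ᵁ V)) := ⟨⟨y, ⟨y, hyU⟩, hyV, rfl⟩⟩
        apply map_injective_of_isIntegral X (homOfLE hW)
        refine Eq.trans ?_ (map_zero (X.presheaf.map (homOfLE hW).op).hom).symm
        have h1 := ConcreteCategory.congr_hom (t.mapPresheaf.naturality (homOfLE hW).op) m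
        refine h1.symm.trans ?_
        exact congr(($ht0).app (U.ι ⁻¹ᵁ V) _)
      · have : V = ⊥ := by ext1; simpa [Set.not_nonempty_iff_eq_empty] using hV
        subst this
        exact Subsingleton.elim (α := Γ(X, ⊥)) _ _
  have hunit : IsUnit (coeff (s ≫ t)) := isUnit_iff_exists_inv.mpr (hfield.mul_inv_cancel hc)
  refine isIso_of_locally s fun y => ?_
  obtain ⟨U, hy, ⟨e⟩⟩ := hL y
  refine ⟨U, hy, ?_⟩
  let ρ := Scheme.Modules.restrictUnitIso U.ι
  let a := ρ.inv ≫ (Scheme.Modules.restrictFunctor U.ι).map s ≫ e.hom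
  let b := e.inv ≫ (Scheme.Modules.restrictFunctor U.ι).map t ≫ ρ.hom
  have hab : coeff a * coeff b = U.ι.appTop (coeff (s ≫ t)) := by
    rw [← coeff_comp, ← coeff_natural]
    simp [a, b, ρ]
  have : IsIso a := isIso_of_isUnit_coeff a (isUnit_of_mul_isUnit_left (hab ▸ hunit.map U.ι.appTop.hom))
  have : (Scheme.Modules.restrictFunctor U.ι).map s = ρ.hom ≫ a ≫ e.inv := by simp [a]
  rw [this]
  infer_instance

end Groth.Agent.S14808
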