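import Groth.Statements.S14809
import Groth.Agent.H23.InvStalk
import Groth.Agent.H23.ModLoc
import Groth.Agent.H23.Frame
-- import your own Groth.Agent.* helpers here

set_option autoImplicit false
universe u
open CategoryTheory CategoryTheory.Limits AlgebraicGeometry
open PicF

namespace Groth.Agent.S14809

/-- Let X be an integral scheme such that Γ(X, O_X) is a field and L an invertible O_X-module with a
nonzero global section (a nonzero morphism O_X → L). If some tensor power L^{⊗d} with d ≥ 1 is
isomorphic to O_X, then L itself is isomorphic to O_X. -/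
theorem result (X : Scheme.{u}) [IsIntegral X]
    (hfield : IsField (Γ(X, ⊤) : Type u)) (L : X.Modules) (hL : PicF.IsInvertible L)
    (s : Coh.structureModule X ⟶ L) (hs : s ≠ 0) (d : ℕ) (hd : 0 < d)
    (htriv : Nonempty (CohB1.tensorPow L d ≅ Coh.structureModule X)) :
    Nonempty (L ≅ Coh.structureModule X) := by
  obtain ⟨m, rfl⟩ : ∃ m, d = m + 1 := ⟨d - 1, (Nat.succ_pred_eq_of_pos hd).symm⟩
  obtain ⟨t⟩ := htriv
  open Groth.Agent.H23 in
  have hη : Function.Surjective ((DerSch.stalkFunctor X (genericPoint X)).map s) := by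
    obtain ⟨e⟩ := InvStalk.exists_stalk_equiv hL (genericPoint X)
    obtain ⟨e₀⟩ := InvStalk.exists_stalk_equiv (InvStalk.isInvertible_structureModule (X := X)) (genericPoint X)
    let η := genericPoint X
    let g := e.toLinearMap ∘ₗ ((DerSch.stalkFunctor X η).map s).hom ∘ₗ e₀.symm.toLinearMap
    have hg : g 1 ≠ 0 := by
      intro h0
      have hz : ∀ m, (DerSch.stalkFunctor X η).map s m = 0 := fun m => by
        have h2 : g (e₀ m) = e₀ m • g 1 := by rw [← map_smul, smul_eq_mul, _root_.mul_one]
        rw [h0, smul_zero] at h2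
        simpa [g] using h2
      refine hs ?_
      have h1 := hz ((Coh.structureModule X).presheaf.germ ⊤ η trivial (Frame.one (X := X) ⊤))
      rw [DerSch.stalkFunctor_map_germ] at h1
      obtain ⟨W, hW, i, j, h2⟩ := L.presheaf.germ_eq (U := ⊤) (V := ⊤) η trivial trivial _ 0 (h1.trans (map_zero _).symm)
      have h3 : s.app ⊤ (Frame.one (X := X) ⊤) = 0 := ModLoc.section_eq_zero_of_restrict_eq_zero hL W ⟨η, hW⟩ ⊤ le_top _
        (h2.trans (map_zero _))
      refine Scheme.Modules.hom_ext _ _ fun U => ?_
      ext a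
      have h4 := congrArg (L.presheaf.map (homOfLE (le_top : U ≤ ⊤)).op) h3
      rw [Frame.app_one_res, map_zero] at h4
      show s.app U a = (0 : Coh.structureModule X ⟶ L).app U a
      rw [Frame.app_eq_smul, h4, smul_zero]
      rfl
    intro y
    refine ⟨e₀.symm (e y / g 1), e.injective ?_⟩
    show g (e y / g 1) = e y
    calc g (e y / g 1) = (e y / g 1) • g 1 := by rw [← map_smul, smul_eq_mul, _root_.mul_one]
      _ = e y := div_mul_cancel₀ _ hg
  let P := Groth.Agent.H23.InvStalk.powSec s (m + 1)
  have hP : IsUnit (Groth.Agent.H23.ModLoc.coeff (P ≫ t.hom)) := by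
    letI := hfield.toField
    refine Ne.isUnit fun h0 => ?_
    have h1 : P ≫ t.hom = 0 := Groth.Agent.H23.ModLoc.coeff_injective (h0.trans Groth.Agent.H23.ModLoc.coeff_zero.symm)
    have h2 : P = 0 := by
      rw [← cancel_mono t.hom, h1, zero_comp]
    obtain ⟨e⟩ := Groth.Agent.H23.InvStalk.exists_stalk_equiv_pow hL (genericPoint X) (m + 1)
    obtain ⟨y, hy⟩ := Groth.Agent.H23.InvStalk.powSec_surjective hL s (genericPoint X) hη (m + 1) (e.symm 1)
    change (DerSch.stalkFunctor X (genericPoint X)).map P y = _ at hy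
    rw [h2, Functor.map_zero] at hy
    have h3 := congrArg e hy
    rw [LinearEquiv.apply_symm_apply] at h3
    exact one_ne_zero (h3.symm.trans (map_zero e))
  haveI : IsIso (P ≫ t.hom) := Groth.Agent.H23.ModLoc.isIso_of_isUnit_coeff _ hP
  haveI : IsIso P := IsIso.of_isIso_comp_right P t.hom
  haveI : IsIso s := by
    refine Groth.Agent.KFlatLib.isIso_of_stalk s fun x => ?_
    rw [ConcreteCategory.isIso_iff_bijective]
    obtain ⟨e⟩ := Groth.Agent.H23.InvStalk.exists_stalk_equiv hL x
    obtain ⟨e₀⟩ := Groth.Agent.H23.InvStalk.exists_stalk_equiv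
      (Groth.Agent.H23.InvStalk.isInvertible_structureModule (X := X)) x
    exact Groth.Agent.H23.InvStalk.bijective_of_surjective e₀ e ((DerSch.stalkFunctor X x).map s).hom
      (Groth.Agent.H23.InvStalk.surjective_of_powSec_succ hL s x m
        (ConcreteCategory.bijective_of_isIso ((DerSch.stalkFunctor X x).map P)).2)
  exact ⟨(asIso s).symm⟩

end Groth.Agent.S14809
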