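import Groth.Statements.S1481
import Mathlib
import Groth.Agent.ValThrough.Basic

set_option autoImplicit false
universe u
open FlatMor

namespace Groth.Agent.S1481

open AlgebraicGeometry CategoryTheory Limits in
/-- Let f : X → S, y a point of X with image t, Y the closure of y, s a point of S and x a point of Y
over s which is generic in an irreducible component of the fibre of Y over s (fibres as subspaces).
Then there are a valuation ring R and a morphism g : Spec R → S sending the generic point to t and
the closed point to s, such that, writing X' for the base change with projections g' : X' → X and f'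
: X' → Spec R, there is a point y' of X' over the generic point with g' y' = y which is generic in
an irreducible component of the generic fibre of g'⁻¹(Y), and a point x' in the closure of y' over
the closed point with g' x' = x which is generic in an irreducible component of the special fibre of
the closure of y'. -/
theorem result {X S : Scheme.{u}} (f : X ⟶ S) (y : X) (s : S) (x : X)
    (hx : x ∈ closure ({y} : Set ↑X)) (hxs : f x = s)
    (hgen : ∃ C ∈ irreducibleComponents ↑(closure ({y} : Set ↑X) ∩ f ⁻¹' {s}), IsGenericPoint (⟨x, hx, hxs⟩ : ↑(closure ({y} : Set ↑X) ∩ f ⁻¹' {s})) C) :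
    ∃ (R : Type u) (_ : CommRing R) (_ : IsDomain R) (_ : ValuationRing R) (g : Spec (CommRingCat.of R) ⟶ S),
      g (⊥ : PrimeSpectrum R) = f y ∧ g (IsLocalRing.closedPoint R) = s ∧
      ∃ (y' : ↑(pullback f g)) (hy't : pullback.snd f g y' = (⊥ : PrimeSpectrum R)) (hy'Y : pullback.fst f g y' ∈ closure ({y} : Set ↑X)),
        pullback.fst f g y' = y ∧
        (∃ C ∈ irreducibleComponents ↑((pullback.fst f g) ⁻¹' closure ({y} : Set ↑X) ∩ (pullback.snd f g) ⁻¹' {(⊥ : PrimeSpectrum R)}),
          IsGenericPoint (⟨y', hy'Y, hy't⟩ : ↑((pullback.fst f g) ⁻¹' closure ({y} : Set ↑X) ∩ (pullback.snd f g) ⁻¹' {(⊥ : PrimeSpectrum R)})) C) ∧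
        ∃ (x' : ↑(pullback f g)) (hx' : x' ∈ closure ({y'} : Set ↑(pullback f g))) (hx's : pullback.snd f g x' = IsLocalRing.closedPoint R),
          pullback.fst f g x' = x ∧
          ∃ C ∈ irreducibleComponents ↑(closure ({y'} : Set ↑(pullback f g)) ∩ (pullback.snd f g) ⁻¹' {IsLocalRing.closedPoint R}),
            IsGenericPoint (⟨x', hx', hx's⟩ : ↑(closure ({y'} : Set ↑(pullback f g)) ∩ (pullback.snd f g) ⁻¹' {IsLocalRing.closedPoint R})) C := by
  subst hxs
  classical
  obtain ⟨R, V, hX, g, ρ, hρl, hρi, hXc, hXb, hgc, hgj, hsq⟩ :=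
    Groth.Agent.ValThrough.exists_valuationRing f (specializes_iff_mem_closure.2 hx)
  let jR : Spec (S.residueField (f y)) ⟶ Spec (CommRingCat.of R) := Spec.map (CommRingCat.ofHom R.subtype)
  have hbot : ∀ t, jR t = (⊥ : PrimeSpectrum R) := fun t => by
    refine PrimeSpectrum.ext (Ideal.ext fun a => ?_)
    show R.subtype a ∈ PrimeSpectrum.asIdeal t ↔ a ∈ (⊥ : Ideal R)
    rw [((Ideal.eq_bot_or_top _).resolve_right (PrimeSpectrum.isPrime t).ne_top : PrimeSpectrum.asIdeal t = ⊥),
      Ideal.mem_bot, Ideal.mem_bot]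
    exact map_eq_zero_iff R.subtype Subtype.val_injective
  have hgj' : jR ≫ g = S.fromSpecResidueField (f y) := hgj
  have hgb : g (⊥ : PrimeSpectrum R) = f y := by
    rw [← hbot (IsLocalRing.closedPoint _), ← Scheme.Hom.comp_apply, hgj', Scheme.fromSpecResidueField_apply]
  let m : Spec (CommRingCat.of V) ⟶ pullback f g := pullback.lift hX (Spec.map (CommRingCat.ofHom ρ)) hsq
  have hm1 : ∀ t, pullback.fst f g (m t) = hX t := fun t => by rw [← Scheme.Hom.comp_apply, pullback.lift_fst]
  have hm2 : ∀ t, pullback.snd f g (m t) = Spec.map (CommRingCat.ofHom ρ) t := fun t => by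
    rw [← Scheme.Hom.comp_apply, pullback.lift_snd]
  let y' := m (⊥ : PrimeSpectrum V)
  let x₀ := m (IsLocalRing.closedPoint V)
  have hy't : pullback.snd f g y' = (⊥ : PrimeSpectrum R) := by
    rw [hm2]; exact PrimeSpectrum.ext (Ideal.comap_bot_of_injective ρ hρi)
  have hy'1 : pullback.fst f g y' = y := (hm1 _).trans hXb
  have hy'Y : pullback.fst f g y' ∈ closure ({y} : Set ↑X) := by rw [hy'1]; exact subset_closure rfl
  refine ⟨R, inferInstance, inferInstance, inferInstance, g, hgb, hgc, y', hy't, hy'Y, hy'1, ?_, ?_⟩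
  · -- the generic fibre
    have hjp : IsPreimmersion (jR ≫ g) := by rw [hgj']; infer_instance
    haveI := hjp
    let T := ↑((pullback.fst f g) ⁻¹' closure ({y} : Set ↑X) ∩ (pullback.snd f g) ⁻¹' {(⊥ : PrimeSpectrum R)})
    let y'T : T := ⟨y', hy'Y, hy't⟩
    have hgen' : ∀ a : T, y'T ⤳ a := by
      intro a
      have key : ∀ w : ↑(pullback f g), pullback.snd f g w = (⊥ : PrimeSpectrum R) →
          ∃ v : ↑(pullback f (jR ≫ g)), (pullback.map f (jR ≫ g) f g (𝟙 X) jR (𝟙 S) (by simp) (by simp)) v = w ∧
            pullback.fst f (jR ≫ g) v = pullback.fst f g w := by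
        intro w hw
        let k := pullback.map f (jR ≫ g) f g (𝟙 X) jR (𝟙 S) (by simp) (by simp)
        have hk : IsPullback k (pullback.snd f (jR ≫ g)) (pullback.snd f g) jR :=
          IsPullback.of_right (by
            rw [show k ≫ pullback.fst f g = pullback.fst f (jR ≫ g) from (pullback.lift_fst ..).trans (Category.comp_id _)]
            exact IsPullback.of_hasPullback f (jR ≫ g)) (pullback.lift_snd ..) (IsPullback.of_hasPullback f g)
        obtain ⟨v, hv⟩ : w ∈ Set.range k := by
          obtain ⟨v, h1, -⟩ := Scheme.Pullback.exists_preimage_pullback (f := pullback.snd f g) (g := jR) w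
            (IsLocalRing.closedPoint _) (by rw [hbot]; exact hw)
          exact ⟨hk.isoPullback.inv v, by rw [← Scheme.Hom.comp_apply, hk.isoPullback_inv_fst]; exact h1⟩
        exact ⟨v, hv, by rw [← hv, ← Scheme.Hom.comp_apply, show k ≫ pullback.fst f g = pullback.fst f (jR ≫ g) from (pullback.lift_fst ..).trans (Category.comp_id _)]⟩
      obtain ⟨b, hb, hb1⟩ := key y' hy't
      obtain ⟨c, hc, hc1⟩ := key a.1 a.2.2
      have h1 : b ⤳ c := by
        rw [← (pullback.fst f (jR ≫ g)).isEmbedding.isInducing.specializes_iff, hb1, hc1, hy'1]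
        exact specializes_iff_mem_closure.2 a.2.1
      refine (subtype_specializes_iff _ _).2 ?_
      show y' ⤳ a.1
      rw [← hb, ← hc]
      exact h1.map (Scheme.Hom.continuous _)
    have hcl : closure ({y'T} : Set T) = Set.univ := Set.eq_univ_of_forall fun a => (hgen' a).mem_closure
    refine ⟨Set.univ, ⟨?_, fun Z _ _ => Set.subset_univ Z⟩, hcl⟩
    show IsIrreducible (Set.univ : Set T)
    rw [← hcl]
    exact isIrreducible_singleton.closure
  · -- the closed fibre
    let U := ↑(closure ({y'} : Set ↑(pullback f g)) ∩ (pullback.snd f g) ⁻¹' {IsLocalRing.closedPoint R})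
    haveI : QuasiSober U := ((isClosed_closure.inter
      ((IsLocalRing.isClosed_singleton_closedPoint R).preimage (pullback.snd f g).continuous)).isClosedEmbedding_subtypeVal).quasiSober
    have hx₀ : x₀ ∈ closure ({y'} : Set ↑(pullback f g)) := by
      refine specializes_iff_mem_closure.1 (Specializes.map ?_ m.continuous)
      exact (PrimeSpectrum.le_iff_specializes (⊥ : PrimeSpectrum V) (IsLocalRing.closedPoint V)).1 bot_le
    have hx₀c : pullback.snd f g x₀ = IsLocalRing.closedPoint R := by
      rw [hm2]; exact IsLocalRing.comap_closedPoint ρ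
    obtain ⟨C, hC, hxC⟩ := exists_mem_irreducibleComponents_subset_of_isIrreducible
      {(⟨x₀, hx₀, hx₀c⟩ : U)} isIrreducible_singleton
    have hgC : IsGenericPoint hC.1.genericPoint C :=
      hC.1.isGenericPoint_genericPoint (isClosed_of_mem_irreducibleComponents C hC)
    obtain ⟨⟨z, hz1, hz2⟩, hz⟩ : ∃ z : U, z = hC.1.genericPoint := ⟨_, rfl⟩
    refine ⟨z, hz1, hz2, ?_, C, hC, hz ▸ hgC⟩
    obtain ⟨C₀, hC₀, hxC₀⟩ := hgen
    have hzY : pullback.fst f g z ∈ closure ({y} : Set ↑X) := by
      refine specializes_iff_mem_closure.1 ?_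
      have h1 := (specializes_iff_mem_closure.2 hz1).map (pullback.fst f g).continuous
      rwa [hy'1] at h1
    have hzs : f (pullback.fst f g z) = f x := by
      rw [← Scheme.Hom.comp_apply, pullback.condition, Scheme.Hom.comp_apply, hz2, hgc]
    let p : ↑(closure ({y} : Set ↑X) ∩ f ⁻¹' {f x}) := ⟨pullback.fst f g z, hzY, hzs⟩
    have hpx : p ⤳ (⟨x, hx, rfl⟩ : ↑(closure ({y} : Set ↑X) ∩ f ⁻¹' {f x})) := by
      refine (subtype_specializes_iff _ _).2 ?_
      show pullback.fst f g z ⤳ x
      rw [← hXc, ← hm1]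
      have h1 : (⟨z, hz1, hz2⟩ : U) ⤳ ⟨x₀, hx₀, hx₀c⟩ := hz ▸ hgC.specializes (hxC rfl)
      exact (h1.map continuous_subtype_val).map (pullback.fst f g).continuous
    have hle : C₀ ⊆ closure {p} := by
      rw [← hxC₀.def]
      exact closure_minimal (Set.singleton_subset_iff.2 hpx.mem_closure) isClosed_closure
    have hp : p ∈ C₀ := hC₀.2 isIrreducible_singleton.closure hle (subset_closure rfl)
    have h1 := (hxC₀.specializes hp).map continuous_subtype_val
    exact ((hpx.map continuous_subtype_val).antisymm h1).eq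

end Groth.Agent.S1481
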