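import Groth.Statements.S14810
import Groth.Agent.Pic13Lib.MixedPos
import Groth.Agent.Pic13Lib.CurveThru

set_option autoImplicit false
universe u
open CategoryTheory CategoryTheory.Limits AlgebraicGeometry
open Pic13

namespace Groth.Agent.S14810
open Groth.Agent Groth.Agent.H23 Groth.Agent.H23.PicMul


/-- Let X be an integral scheme, proper over a field k, such that Γ(X, O_X) is a field, and let L be an
invertible O_X-module which is numerically trivial: its restriction to every closed subscheme of X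
which is integral of dimension one has degree 0. If L has a nonzero global section (a nonzero
morphism O_X → L), then L is isomorphic to O_X. -/
theorem result (k : Type u) [Field k] (X : Scheme.{u})
    [X.Over (Spec (CommRingCat.of k))] [IsProper (X ↘ Spec (CommRingCat.of k))] [IsIntegral X]
    (hfield : IsField (Γ(X, ⊤) : Type u)) (L : X.Modules) (hL : PicF.IsInvertible L)
    (hnum : Pic13.IsNumEquivZero k X L) (s : Coh.structureModule X ⟶ L) (hs : s ≠ 0) :
    Nonempty (L ≅ Coh.structureModule X) := by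
  haveI := CurveCohLib.isNoetherian_of_proper (k := k) (X := X)
  let t : Γ(L, ⊤) := InvX.one s
  have hts : InvX.ofSect t = s := AVAmple.ofSect_one s
  have ht : t ≠ 0 := fun h => hs (AmpleX.eq_zero_of_one_eq_zero s h)
  by_cases htop : TrivBasic.locus t = ⊤
  · exact TrivBasic.triv_of_frame (TrivBasic.locus_eq_top_iff.1 htop)
  exfalso
  obtain ⟨z, hz⟩ := (Set.ne_univ_iff_exists_notMem _).1 (fun h => htop (TopologicalSpace.Opens.ext h))
  obtain ⟨x, hzx, hx⟩ := VarDim.exists_closed_specialization (X ↘ Spec (CommRingCat.of k)) z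
  have hxl : x ∉ TrivBasic.locus t := fun h => hz (hzx.mem_open (TrivBasic.locus t).isOpen h)
  have hZ : ((TrivBasic.locus t : Set X)ᶜ) ≠ Set.univ := fun h => by
    obtain ⟨w, hw⟩ := (TopologicalSpace.Opens.ne_bot_iff_nonempty _).1 (TrivBasic.locus_ne_bot hL ht)
    exact absurd (h.ge (Set.mem_univ w)) (not_not.2 hw)
  obtain ⟨ξ, hξx, hξd, hξ⟩ := Pic13Lib.exists_curve_leaving (X ↘ Spec (CommRingCat.of k)) hx
    (TrivBasic.locus t).isOpen.isClosed_compl hZ hxl
  haveI : IsIntegral (IntMult.ptIdeal ξ).subscheme := QCoh.isIntegral_closure_point ξ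
  let ι := (IntMult.ptIdeal ξ).subschemeι
  letI : (IntMult.ptIdeal ξ).subscheme.Over (Spec (CommRingCat.of k)) := ⟨ι ≫ (X ↘ Spec (CommRingCat.of k))⟩
  haveI : IsProper ((IntMult.ptIdeal ξ).subscheme ↘ Spec (CommRingCat.of k)) :=
    show IsProper (ι ≫ (X ↘ Spec (CommRingCat.of k))) from inferInstance
  have hrange : Set.range ι = closure ({ξ} : Set X) := by
    rw [Scheme.IdealSheafData.range_subschemeι, IntMult.ptIdeal, Scheme.IdealSheafData.coe_support_vanishingIdeal]
    rfl
  have hdim : topologicalKrullDim (IntMult.ptIdeal ξ).subscheme = 1 := by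
    refine (IsHomeomorph.topologicalKrullDim_eq _
      (ι.isClosedEmbedding.isEmbedding.toHomeomorph.isHomeomorph)).trans ?_
    rw [hrange, VarDim.topologicalKrullDim_closure_singleton (X ↘ Spec (CommRingCat.of k)), hξd]
    rfl
  obtain ⟨t', ht'⟩ := Pic13Lib.exists_section_pullback ι hL t
  obtain ⟨a, ha⟩ : ξ ∈ Set.range ι := hrange.ge (subset_closure rfl)
  obtain ⟨b, hb⟩ : x ∈ Set.range ι := hrange.ge (specializes_iff_mem_closure.1 hξx)
  have hta : a ∈ TrivBasic.locus t' := (ht' a).2 (ha.symm ▸ not_not.1 hξ)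
  have ht0 : t' ≠ 0 := by
    intro h0
    obtain ⟨W, haW, hW⟩ := TrivBasic.mem_locus_iff.1 hta
    rw [h0, map_zero] at hW
    haveI : Nonempty W := ⟨⟨a, haW⟩⟩
    exact zero_ne_one (hW.coord_unique le_rfl (r := (0 : Γ((IntMult.ptIdeal ξ).subscheme, W))) (r' := 1) (by simp))
  have hne : TrivBasic.locus t' ≠ ⊤ := fun h => hxl (hb ▸ (ht' b).1 (h ▸ trivial))
  have hLC := PicClLib.isInvertible_pullback ι hL
  have hpos := CurveAmple.deg_pos_of_section (k := k) hdim hLC ht0 hne
  have h0 : Pic13.curveDeg k (ι ≫ (X ↘ Spec (CommRingCat.of k))) ((Scheme.Modules.pullback ι).obj L) = 0 :=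
    hnum _ ι inferInstance hdim
  have hd1 : topologicalKrullDim (IntMult.ptIdeal ξ).subscheme ≤ ((1 : ℕ) : WithBot ℕ∞) := by rw [hdim, Nat.cast_one]
  haveI := CurveCohLib.isNoetherian_of_proper (k := k) (X := (IntMult.ptIdeal ξ).subscheme)
  unfold Curv2.deg at hpos
  unfold Pic13.curveDeg at h0
  rw [Pic13Lib.eulerCharLE_eq hd1 (AmpleVan.isCoh_invertible hLC).1,
    Pic13Lib.eulerCharLE_eq hd1 QCoh.isQCoh_structureModule] at h0
  push_cast at hpos
  linarith

end Groth.Agent.S14810
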