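import Groth.Statements.S14811
import Groth.Agent.Pic13Lib.NumTrivBC

set_option autoImplicit false
universe u
open CategoryTheory CategoryTheory.Limits AlgebraicGeometry
open Pic13

namespace Groth.Agent.S14811
open Groth.Agent Groth.Agent.H23 Groth.Agent.H23.PicMul
attribute [local instance] PicMul.clMonoid
set_option backward.isDefEq.respectTransparency false
set_option backward.isDefEq.respectTransparency.types false
set_option linter.style.haveILetI false


/-- Let X be a proper scheme over a field k, L an invertible O_X-module and k ⊆ E an arbitrary field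
extension. Then L is numerically trivial on X (degree 0 on every closed subscheme of X which is
integral of dimension one) if and only if the pullback of L to X_E = X ×_k Spec E is numerically
trivial on X_E regarded as a scheme over E. -/
theorem result (k : Type u) [Field k] (X : Scheme.{u})
    [X.Over (Spec (CommRingCat.of k))] [IsProper (X ↘ Spec (CommRingCat.of k))] (L : X.Modules) (hL : PicF.IsInvertible L)
    (E : Type u) [Field E] [Algebra k E] :
    Pic13.IsNumEquivZero k X L ↔
      @Pic13.IsNumEquivZero E _ (pullback (X ↘ Spec (CommRingCat.of k)) (Spec.map (CommRingCat.ofHom (algebraMap k E))))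
        ⟨pullback.snd (X ↘ Spec (CommRingCat.of k)) (Spec.map (CommRingCat.ofHom (algebraMap k E)))⟩
        ((Scheme.Modules.pullback (pullback.fst (X ↘ Spec (CommRingCat.of k)) (Spec.map (CommRingCat.ofHom (algebraMap k E))))).obj L) := by
  let g := pullback.fst (X ↘ Spec (CommRingCat.of k)) (Spec.map (CommRingCat.ofHom (algebraMap k E)))
  letI : (pullback (X ↘ Spec (CommRingCat.of k)) (Spec.map (CommRingCat.ofHom (algebraMap k E)))).Over
      (Spec (CommRingCat.of E)) := ⟨pullback.snd _ _⟩
  haveI : IsProper (pullback (X ↘ Spec (CommRingCat.of k)) (Spec.map (CommRingCat.ofHom (algebraMap k E))) ↘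
      Spec (CommRingCat.of E)) := MorphismProperty.pullback_snd (P := @IsProper) _ _ inferInstance
  have sq : IsPullback g (pullback (X ↘ Spec (CommRingCat.of k)) (Spec.map (CommRingCat.ofHom (algebraMap k E))) ↘
      Spec (CommRingCat.of E)) (X ↘ Spec (CommRingCat.of k)) (Spec.map (CommRingCat.ofHom (algebraMap k E))) :=
    IsPullback.of_hasPullback _ _
  exact ⟨fun h => (Pic13Lib.NumTriv.isNT_bc g sq ⟨hL, h⟩).2,
    fun h => (Pic13Lib.NumTriv.isNT_of_bc g sq hL ⟨PicClLib.isInvertible_pullback g hL, h⟩).2⟩

end Groth.Agent.S14811
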