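import Groth.Statements.S14812
import Groth.Agent.Pic13Lib.NumTrivBC

set_option autoImplicit false
universe u
open CategoryTheory CategoryTheory.Limits AlgebraicGeometry
open Pic13

namespace Groth.Agent.S14812
open Groth.Agent Groth.Agent.H23 Groth.Agent.H23.PicMul
attribute [local instance] PicMul.clMonoid
set_option backward.isDefEq.respectTransparency false
set_option backward.isDefEq.respectTransparency.types false
set_option linter.style.haveILetI false


/-- Take any field k, a proper k-scheme X and an invertible O_X-module L. Then L is numerically trivial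
(degree 0 on every closed subscheme of X which is integral of dimension one) if and only if χ(F ⊗ L)
= χ(F) for every coherent O_X-module F; here χ is the alternating sum of the dimensions dim_k H^i(X,
·) over 0 ≤ i ≤ d, for any natural number d bounding the dimension of X. The field k is not assumed
algebraically closed. -/
theorem result (k : Type u) [Field k] (X : Scheme.{u})
    [X.Over (Spec (CommRingCat.of k))] [IsProper (X ↘ Spec (CommRingCat.of k))] (L : X.Modules) (hL : PicF.IsInvertible L) :
    Pic13.IsNumEquivZero k X L ↔
      ∀ (F : X.Modules), Coh.IsCoh F → ∀ d : ℕ, topologicalKrullDim X ≤ d →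
        FGA.eulerCharLE k X (CohB1.tensorMod F L) d = FGA.eulerCharLE k X F d := by
  haveI := CurveCohLib.isNoetherian_of_proper (k := k) (X := X)
  refine ⟨fun h F hF d hd => ?_, fun h => ?_⟩
  · rw [Pic13Lib.eulerCharLE_eq hd (AmpleVan.isCoh_tensor hF (AmpleVan.isCoh_invertible hL)).1,
      Pic13Lib.eulerCharLE_eq hd hF.1]
    exact Pic13Lib.NumTriv.euler_tensor_nt k ⟨hL, h⟩ hF
  · refine (Pic13Lib.NumTriv.isNT_of_euler (k := k) hL fun F hF => ?_).2
    obtain ⟨d, hd₀⟩ := HilbPoly.exists_dim_bound X k
    have hd : topologicalKrullDim X ≤ (d : WithBot ℕ∞) :=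
      (IsHomeomorph.topologicalKrullDim_eq _ (Homeomorph.Set.univ X).isHomeomorph).ge.trans (hd₀ Set.univ)
    rw [← Pic13Lib.eulerCharLE_eq (k := k) (hd) (AmpleVan.isCoh_tensor hF (AmpleVan.isCoh_invertible hL)).1,
      ← Pic13Lib.eulerCharLE_eq (k := k) (hd) hF.1]
    exact h F hF _ hd

end Groth.Agent.S14812
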