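import Groth.Statements.S14813
import Groth.Agent.Lib.EulerEtale
import Groth.Agent.Pic13Lib.AlgEqEuler
import Groth.Agent.S9683

set_option autoImplicit false
universe u
open CategoryTheory CategoryTheory.Limits AlgebraicGeometry
open FGA

namespace Groth.Agent.S14813

/-- Let k be an arbitrary field and let X and X' be smooth, integral, proper k-schemes, X of dimension
n, with an étale k-morphism φ : X' → X (it is then finite étale); suppose φ is finite locally free
of constant degree d. Then χ(O_{X'}) = d · χ(O_X), where χ denotes the alternating sum of dim_k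
H^i(·, O) over 0 ≤ i ≤ n (X' has dimension n as well). -/
theorem result (k : Type u) [Field k] (X X' : Scheme.{u})
    [X.Over (Spec (CommRingCat.of k))] [X'.Over (Spec (CommRingCat.of k))]
    [IsProper (X ↘ Spec (CommRingCat.of k))] [IsProper (X' ↘ Spec (CommRingCat.of k))] [Smooth (X ↘ Spec (CommRingCat.of k))] [Smooth (X' ↘ Spec (CommRingCat.of k))]
    [IsIntegral X] [IsIntegral X'] (φ : X' ⟶ X) [Etale φ] (hφ : φ ≫ (X ↘ Spec (CommRingCat.of k)) = X' ↘ Spec (CommRingCat.of k))
    (d : ℕ) (hd : Mor2.IsFinLocFreeOfDeg d φ) (n : ℕ) (hn : topologicalKrullDim X = n) :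
    FGA.eulerCharLE k X' (Coh.structureModule X') n = d * FGA.eulerCharLE k X (Coh.structureModule X) n := by
  obtain ⟨⟨hfin, hflat, -⟩, hrank⟩ := hd
  haveI := hfin
  haveI := hflat
  haveI := CurveCohLib.isNoetherian_of_proper (k := k) (X := X)
  haveI := CurveCohLib.isNoetherian_of_proper (k := k) (X := X')
  have hn' : topologicalKrullDim X' ≤ (n : WithBot ℕ∞) := hn ▸ (S9683.result φ).1
  rw [Pic13Lib.eulerCharLE_eq hn' QCoh.isQCoh_structureModule,
    Pic13Lib.eulerCharLE_eq hn.le QCoh.isQCoh_structureModule]
  obtain ⟨e⟩ := PicClLib.nonempty_pullback_structureModule φ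
  rw [← Euler.euler_congr k e]
  exact EulerEtale.euler_pullback d X' X φ hφ hrank _ (AmpleVan.isCoh_invertible InvX.isInvertible_structureModule)

end Groth.Agent.S14813
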