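import Groth.Statements.S14814
import Groth.Agent.Pic13Lib.Bdd.Rigid
import Groth.Agent.Pic13Lib.NumTrivBC
import Groth.Agent.ASB24.Setup

set_option autoImplicit false
universe u
open CategoryTheory CategoryTheory.Limits AlgebraicGeometry
open Pic13

namespace Groth.Agent.S14814
open Groth.Agent Groth.Agent.Pic13Lib Groth.Agent.H23 Groth.Agent.H23.PicMul
open scoped TensorProduct
attribute [local instance] PicMul.clMonoid
set_option backward.isDefEq.respectTransparency false
set_option backward.isDefEq.respectTransparency.types false
set_option linter.style.haveILetI false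

/-- Take any field k and a proper k-scheme X with H^1(X, O_X) = 0. Then the group of numerically trivial
invertible sheaves is torsion: every invertible O_X-module L whose restriction to each closed
subscheme of X which is integral of dimension one has degree 0 satisfies L^{⊗d} ≅ O_X for some d ≥
1. -/
theorem result (k : Type u) [Field k] (X : Scheme.{u})
    [X.Over (Spec (CommRingCat.of k))] [IsProper (X ↘ Spec (CommRingCat.of k))]
    (h1 : Subsingleton (Coh.HH X (Coh.structureModule X) 1))
    (L : X.Modules) (hL : PicF.IsInvertible L) (hnum : Pic13.IsNumEquivZero k X L) :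
    ∃ d : ℕ, 0 < d ∧ Nonempty (CohB1.tensorPow L d ≅ Coh.structureModule X) := by
  classical
  let K := AlgebraicClosure k
  let p := X ↘ Spec (CommRingCat.of k)
  let g := pullback.fst p (Spec.map (CommRingCat.ofHom (algebraMap k K)))
  letI : (pullback p (Spec.map (CommRingCat.ofHom (algebraMap k K)))).Over (Spec (CommRingCat.of K)) :=
    ⟨pullback.snd _ _⟩
  haveI : IsProper (pullback p (Spec.map (CommRingCat.ofHom (algebraMap k K))) ↘ Spec (CommRingCat.of K)) :=
    MorphismProperty.pullback_snd (P := @IsProper) _ _ inferInstance
  have sq : IsPullback g (pullback p (Spec.map (CommRingCat.ofHom (algebraMap k K))) ↘ Spec (CommRingCat.of K))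
      (X ↘ Spec (CommRingCat.of k)) (Spec.map (CommRingCat.ofHom (algebraMap k K))) :=
    IsPullback.of_hasPullback _ _
  haveI := CurveCohLib.isNoetherian_of_proper (k := k) (X := X)
  haveI : X.IsSeparated := ⟨by
    rw [← Limits.terminal.comp_from (X ↘ Spec (CommRingCat.of k))]
    infer_instance⟩
  obtain ⟨u⟩ := PicClLib.nonempty_pullback_structureModule g
  have h1K : Subsingleton (Coh.HH (pullback p (Spec.map (CommRingCat.ofHom (algebraMap k K))))
      (Coh.structureModule _) 1) := by
    obtain ⟨b⟩ := QCoh.HH_flatBaseChange (A := k) (B := K) sq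
      (QCoh.isCoh_structureModule' (X := X)).1 1
    haveI := h1
    have hT : Subsingleton (K ⊗[k] Coh.HH X (Coh.structureModule X) 1) := by
      refine subsingleton_of_forall_eq 0 fun z => ?_
      induction z using TensorProduct.induction_on with
      | zero => rfl
      | tmul a c => rw [Subsingleton.elim c 0, TensorProduct.tmul_zero]
      | add a c ha hc => rw [ha, hc, add_zero]
    exact QCoh.subsingleton_HH_of_iso u 1 b.toEquiv.symm.subsingleton
  have hLK := NumTriv.isNT_bc g sq (show NumTriv.IsNT k L from ⟨hL, hnum⟩)
  obtain ⟨d, hd, ⟨e⟩⟩ := Bdd.exists_tensorPow_trivial h1K hLK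
  obtain ⟨a⟩ := AmpleVan.RelVanish.pullback_tensorPow g L d
  exact ⟨d, hd, ASB24.nonempty_iso_of_bc p K (AmpleVan.isCoh_invertible (InvX.isInvertible_tensorPow hL d))
    QCoh.isCoh_structureModule' (a ≪≫ e ≪≫ u.symm)⟩

end Groth.Agent.S14814
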