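import Groth.Statements.S14815
import Groth.Agent.PicTorsFF.Main
set_option autoImplicit false
universe u
open CategoryTheory CategoryTheory.Limits AlgebraicGeometry
open Pic13

namespace Groth.Agent.S14815

/-- Let k be an algebraically closed field of characteristic p > 0 which is algebraic over its prime
field, i.e. every element x of k satisfies x^(p^n) = x for some n ≥ 1, and let X be a normal proper
k-scheme (all local rings integrally closed domains). Then every numerically trivial invertible
O_X-module L (degree 0 on every closed subscheme of X integral of dimension one) has finite order: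
L^{⊗d} ≅ O_X for some d ≥ 1. (The published statement allows k any algebraic extension of the prime
field and X geometrically normal; the printed proof first passes to the algebraic closure, and this
row is the case it then establishes.) -/
theorem result
    (p : ℕ) [Fact (Nat.Prime p)] (k : Type u) [Field k] [IsAlgClosed k] [CharP k p]
    (halg : ∀ x : k, ∃ n : ℕ, 0 < n ∧ x ^ (p ^ n) = x)
    (X : Scheme.{u}) [X.Over (Spec (CommRingCat.of k))] [IsProper (X ↘ Spec (CommRingCat.of k))] (hX : Pi1.IsNormalScheme X)
    (L : X.Modules) (hL : PicF.IsInvertible L) (hnum : Pic13.IsNumEquivZero k X L) :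
    ∃ d : ℕ, 0 < d ∧ Nonempty (CohB1.tensorPow L d ≅ Coh.structureModule X) := by
  exact Groth.Agent.PicTorsFF.exists_pow_eq_one p halg hX ⟨hL, hnum⟩

end Groth.Agent.S14815
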