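import Groth.Statements.S14816
import Groth.Agent.H23.RatlPoints
-- import your own Groth.Agent.* helpers here

set_option autoImplicit false
universe u
open CategoryTheory MonoidalCategory CartesianMonoidalCategory MonObj GrpObj AlgebraicGeometry
open AbVar

namespace Groth.Agent.S14816

/-- Let k be an algebraically closed field of characteristic p > 0 which is algebraic over its prime
field (every element x satisfies x^(p^n) = x for some n ≥ 1) and let A be an abelian variety over k
(a proper, geometrically integral group scheme over k). Then every k-rational point of A has finite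
order in the group A(k) of k-points. -/
theorem result
    (p : ℕ) [Fact (Nat.Prime p)] (k : Type u) [Field k] [IsAlgClosed k] [CharP k p]
    (halg : ∀ x : k, ∃ n : ℕ, 0 < n ∧ x ^ (p ^ n) = x)
    (A : Over (Spec (CommRingCat.of k))) [GrpObj A] [IsProper A.hom] [GeometricallyIntegral A.hom]
    (a : 𝟙_ (Over (Spec (CommRingCat.of k))) ⟶ A) : IsOfFinOrder a := by
  obtain ⟨n, hn, h⟩ := isOfFinOrder_iff_pow_eq_one.1 (Groth.Agent.H23.RatlPoints.isOfFinOrder p halg A
    (toUnit (Groth.Agent.H23.RatSpec.specOver k k) ≫ a))
  refine isOfFinOrder_iff_pow_eq_one.2 ⟨n, hn, ?_⟩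
  have hiso : IsIso (toUnit (Groth.Agent.H23.RatSpec.specOver k k)).left := by
    have e : (toUnit (Groth.Agent.H23.RatSpec.specOver k k)).left = Spec.map (CommRingCat.ofHom (algebraMap k k)) := by
      have := Over.w (toUnit (Groth.Agent.H23.RatSpec.specOver k k))
      simpa using this
    rw [e]
    haveI : IsIso (CommRingCat.ofHom (algebraMap k k)) :=
      (ConcreteCategory.isIso_iff_bijective _).2 Function.bijective_id
    infer_instance
  haveI : IsIso (toUnit (Groth.Agent.H23.RatSpec.specOver k k)) :=
    @isIso_of_reflects_iso _ _ _ _ _ _ (toUnit (Groth.Agent.H23.RatSpec.specOver k k)) (Over.forget _) hiso _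
  rw [← cancel_epi (toUnit (Groth.Agent.H23.RatSpec.specOver k k)), MonObj.comp_pow, h, MonObj.comp_one]

end Groth.Agent.S14816
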