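import Groth.Statements.S14818
import Groth.Agent.H23.CoverPush
import Groth.Agent.H23.PicMul
import Groth.Agent.H28.ExtSh
import Groth.Agent.Synt29.ExtPowPull
import Groth.Agent.Lib.GenFinPush
import Groth.Agent.Lib.InvEnd
import Groth.Agent.Lib.CurveDualPrep
import Groth.Agent.Lib.AVTraceRetract
import Groth.Agent.S15827

set_option autoImplicit false
universe u
open CategoryTheory CategoryTheory.Limits AlgebraicGeometry
open PicF

namespace Groth.Agent.S14818
set_option backward.isDefEq.respectTransparency false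
set_option backward.isDefEq.respectTransparency.types false
open Groth.Agent in
open scoped Groth.Agent.H23.PicMul in

/-- Let X be a connected locally Noetherian scheme, f : X' → X a finite locally free morphism of
constant degree d (a finite flat covering of X of degree d) and L an invertible O_X-module whose
pullback f^*L is isomorphic to O_{X'}. Then L^{⊗d} ≅ O_X; in particular L has finite order in Pic(X)
dividing the degree of f. -/
theorem result (X X' : Scheme.{u})
    [IsLocallyNoetherian X] [ConnectedSpace X] (f : X' ⟶ X) (d : ℕ) (hf : Mor2.IsFinLocFreeOfDeg d f)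
    (L : X.Modules) (hL : PicF.IsInvertible L)
    (htriv : Nonempty ((Scheme.Modules.pullback f).obj L ≅ Coh.structureModule X')) :
    Nonempty (CohB1.tensorPow L d ≅ Coh.structureModule X) := by
  haveI : IsFinite f := hf.1.1
  let E := (Scheme.Modules.pushforward f).obj (Coh.structureModule X')
  have hE : FlatMod.IsFinLocFreeOfRank d E := H23.CoverPush.isFinLocFreeOfRank_push_of_isCover f hf
  have hEf : FlatMod.IsFinLocFree E := H23.DblAlg.isFinLocFree_of_rank hE
  obtain ⟨p⟩ := GenFinPush.nonempty_projection f (H23.PullPush.isFinLocFree_of_isInvertible hL)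
  let e : CohB1.tensorMod E L ≅ E := p ≪≫ (Scheme.Modules.pushforward f).mapIso htriv.some
  let N := H28.ExtBase.L E d
  have hN : ExtPow.IsExtPow d E N := H28.ExtSh.isExtPow_L d hEf
  have hN' : ExtPow.IsExtPow d (CohB1.tensorMod E L) N := Synt29.ExtPowPull.isExtPow_of_iso e.symm hN
  obtain ⟨u⟩ := Groth.Agent.S15827.result E L hEf (InvEnd.isFinLocFreeOfRank_one hL) d N N hN' hN
  have hNi : PicF.IsInvertible N := CurveDuality.isInvertible_of_rank_one fun x => by
    obtain ⟨U, hx, ⟨g⟩⟩ := hE x
    obtain ⟨s, hs⟩ := H23.Frame.exists_frame g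
    refine ⟨U, hx, ?_⟩
    have hc : Fintype.card (Set.powersetCard (Fin d) d) = 1 := by
      rw [← Nat.card_eq_fintype_card, Set.powersetCard.card, Nat.card_eq_fintype_card, Fintype.card_fin, Nat.choose_self]
    exact hc ▸ H23.Frame.exists_iso_of_frame _ (H28.ExtSh.isFrame_wFrame (m := d) hs)
  obtain ⟨b, hb⟩ := H23.PicMul.exists_inv (X := X) ⟨PicF.cl N, N, rfl, hNi⟩
  refine H23.PicMul.cl_eq_iff.1 ?_
  show PicF.cl (CohB1.tensorPow L d) = 1
  have h1 : PicF.cl N = PicF.cl N * PicF.cl (CohB1.tensorPow L d) := H23.PicMul.cl_eq_iff.2 ⟨u⟩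
  calc PicF.cl (CohB1.tensorPow L d) = (b.1 * PicF.cl N) * PicF.cl (CohB1.tensorPow L d) := by rw [hb, one_mul]
    _ = b.1 * (PicF.cl N * PicF.cl (CohB1.tensorPow L d)) := mul_assoc _ _ _
    _ = 1 := by rw [← h1, hb]

end Groth.Agent.S14818
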