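import Groth.Statements.S14824
import Groth.Agent.Lib.AVGen

set_option autoImplicit false
set_option backward.isDefEq.respectTransparency false
set_option backward.isDefEq.respectTransparency.types false
set_option linter.style.haveILetI false
set_option linter.unusedSectionVars false
set_option maxHeartbeats 400000
universe u
open CategoryTheory MonoidalCategory CartesianMonoidalCategory MonObj GrpObj AlgebraicGeometry
open AbVar

namespace Groth.Agent.S14824

/-- Let k be a field and X a proper k-scheme with H^0(X, O_X) one-dimensional and a k-rational point x₀;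
let alb : X → A be the Albanese morphism, i.e. A is an abelian variety over k (proper, geometrically
integral group scheme), alb(x₀) = 0, and every k-morphism g : X → B to an abelian variety B
(geometrically reduced, connected, proper group scheme) with g(x₀) = 0 factors as alb ≫ h for a
unique homomorphism h. Then dim A ≤ dim_k H^1(X, O_X); consequently the Albanese dimension of X (the
dimension of the image of alb) is at most h^1(O_X). (The published statement does not assume a
rational point (it works with the Albanese torsor); this row assumes one.) -/
theorem result (k : Type u) [Field k] (X : Scheme.{u}) [X.Over (Spec (CommRingCat.of k))]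
    [IsProper (X ↘ Spec (CommRingCat.of k))] (h0 : Module.finrank k (Coh.HH X (Coh.structureModule X) 0) = 1)
    (x₀ : 𝟙_ (Over (Spec (CommRingCat.of k))) ⟶ Over.mk (X ↘ Spec (CommRingCat.of k)))
    (A : Over (Spec (CommRingCat.of k))) [GrpObj A] [IsProper A.hom] [GeometricallyIntegral A.hom]
    (alb : Over.mk (X ↘ Spec (CommRingCat.of k)) ⟶ A) (halb : x₀ ≫ alb = η[A])
    (huniv : ∀ (B : Over (Spec (CommRingCat.of k))) [GrpObj B] [IsProper B.hom] [GeometricallyReduced B.hom] [ConnectedSpace ↥B.left]
      (g : Over.mk (X ↘ Spec (CommRingCat.of k)) ⟶ B), x₀ ≫ g = η[B] → ∃! h : A ⟶ B, IsMonHom h ∧ alb ≫ h = g) :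
    topologicalKrullDim ↥A.left ≤ (Module.finrank k (Coh.HH X (Coh.structureModule X) 1) : WithBot ℕ∞) := by
  haveI : IsProper (Over.mk (X ↘ Spec (CommRingCat.of k))).hom := ‹IsProper (X ↘ Spec (CommRingCat.of k))›
  exact AVGen.krullDim_le (X := Over.mk (X ↘ Spec (CommRingCat.of k))) (H23.AlbFormal.bijective_appTop_of_finrank X h0) x₀ alb halb
    (AVGen.gen_of_universal (X := Over.mk (X ↘ Spec (CommRingCat.of k))) (H23.AlbFormal.bijective_appTop_of_finrank X h0) x₀ A alb halb huniv)

end Groth.Agent.S14824
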