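import Groth.Statements.S14825
import Groth.Agent.H23.AlbFormal

set_option autoImplicit false
universe u
open CategoryTheory MonoidalCategory CartesianMonoidalCategory MonObj GrpObj AlgebraicGeometry
open AbVar

namespace Groth.Agent.S14825

/-- In the pointed case, let k be a field and X a proper k-scheme with H^0(X, O_X) one-dimensional and a
k-rational point x₀; let alb : X → A be the Albanese morphism (A an abelian variety over k — proper,
geometrically integral group scheme — with alb(x₀) = 0, universal among pointed k-morphisms from X
to abelian varieties, the latter being geometrically reduced, connected, proper group schemes). Then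
X has Albanese dimension zero, i.e. the image of alb is a single point of A (X is connected, so this
says the image is zero-dimensional), if and only if A is the trivial abelian variety, i.e. A → Spec
k is an isomorphism. (The published statement does not assume a rational point (it works with the
Albanese torsor); this row assumes one.) -/
theorem result (k : Type u) [Field k] (X : Scheme.{u}) [X.Over (Spec (CommRingCat.of k))]
    [IsProper (X ↘ Spec (CommRingCat.of k))] (h0 : Module.finrank k (Coh.HH X (Coh.structureModule X) 0) = 1)
    (x₀ : 𝟙_ (Over (Spec (CommRingCat.of k))) ⟶ Over.mk (X ↘ Spec (CommRingCat.of k)))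
    (A : Over (Spec (CommRingCat.of k))) [GrpObj A] [IsProper A.hom] [GeometricallyIntegral A.hom]
    (alb : Over.mk (X ↘ Spec (CommRingCat.of k)) ⟶ A) (halb : x₀ ≫ alb = η[A])
    (huniv : ∀ (B : Over (Spec (CommRingCat.of k))) [GrpObj B] [IsProper B.hom] [GeometricallyReduced B.hom] [ConnectedSpace ↥B.left]
      (g : Over.mk (X ↘ Spec (CommRingCat.of k)) ⟶ B), x₀ ≫ g = η[B] → ∃! h : A ⟶ B, IsMonHom h ∧ alb ≫ h = g) :
    (Set.range alb.left.base).Subsingleton ↔ IsIso A.hom := by
  refine ⟨fun hr => ?_, fun hA => ?_⟩
  · have hb := Groth.Agent.H23.AlbFormal.bijective_appTop_of_finrank X h0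
    have hc := Groth.Agent.H23.AlbFormal.const_of_subsingleton
      (X := Over.mk (X ↘ Spec (CommRingCat.of k))) hb x₀ alb hr
    rw [halb] at hc
    have : GeometricallyReduced A.hom := inferInstance
    have : ConnectedSpace ↥A.left := by
      have : IrreducibleSpace ↥A.left := GeometricallyIrreducible.irreducibleSpace_of_subsingleton A.hom
      infer_instance
    have h1 : (toUnit A ≫ η[A] : A ⟶ A) = 1 := rfl
    obtain ⟨h, -, hu⟩ := huniv A alb halb
    have e1 : (𝟙 A : A ⟶ A) = h := hu _ ⟨inferInstance, Category.comp_id _⟩
    have e2 : (1 : A ⟶ A) = h := hu _ ⟨Groth.Agent.H23.AlbFormal.isMonHom_of_one _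
      (by rw [← h1, Groth.Agent.H23.AlbFormal.pt_toUnit]), by
      rw [← h1, hc, Category.assoc, Groth.Agent.H23.AlbFormal.pt_toUnit]⟩
    have h2 : toUnit A ≫ η[A] = 𝟙 A := h1.trans (e2.trans e1.symm)
    refine ⟨η[A].left, congrArg CommaMorphism.left h2, Over.w η[A]⟩
  · exact by
      have : Subsingleton ↥A.left := (Scheme.homeoOfIso (asIso A.hom)).injective.subsingleton
      exact Set.subsingleton_of_subsingleton

end Groth.Agent.S14825
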