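import Groth.Statements.S14828
import Groth.Agent.Lib.DualDiv.Core
import Groth.Agent.Lib.DualDiv.Seq
import Groth.Agent.Lib.PushHNat
import Groth.Agent.AlgSpLib.CartierDepth
import Groth.Agent.S8914
import Groth.Agent.H9Misc.ClosedPushFull
import Groth.Agent.AmpleVan.ThickPush

set_option autoImplicit false
universe u
open CategoryTheory CategoryTheory.Limits AlgebraicGeometry
open Canon

set_option maxHeartbeats 2000000
set_option backward.isDefEq.respectTransparency false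
set_option backward.isDefEq.respectTransparency.types false
attribute [local instance] HasDerivedCategory.standard

namespace Groth.Agent.S14828

open Groth.Agent Groth.Agent.KExact Groth.Agent.KFlatLib CategoryTheory.Abelian

theorem natCast_add_one_cancel {r : WithBot ℕ∞} {n : ℕ} (h : r + 1 = (n : WithBot ℕ∞)) :
    ∃ m : ℕ, n = m + 1 ∧ r = (m : WithBot ℕ∞) := by
  cases r with
  | bot => rw [WithBot.bot_add] at h; exact absurd h WithBot.bot_ne_coe
  | coe a =>
    rw [show (n : WithBot ℕ∞) = ((n : ℕ∞) : WithBot ℕ∞) from rfl, show (1 : WithBot ℕ∞) = ((1 : ℕ∞) : WithBot ℕ∞) from rfl,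
      ← WithBot.coe_add, WithBot.coe_inj] at h
    cases a with
    | top => simp at h
    | coe a => exact ⟨a, by exact_mod_cast h.symm, rfl⟩

theorem add_one_cancel {r : WithBot ℕ∞} {a : ℕ∞} (h : r + 1 = (a : WithBot ℕ∞) + 1) : r = a := by
  cases r with
  | bot => rw [WithBot.bot_add, show (1 : WithBot ℕ∞) = ((1 : ℕ∞) : WithBot ℕ∞) from rfl, ← WithBot.coe_add] at h; exact absurd h WithBot.bot_ne_coe
  | coe r =>
    rw [show (1 : WithBot ℕ∞) = ((1 : ℕ∞) : WithBot ℕ∞) from rfl, ← WithBot.coe_add, ← WithBot.coe_add, WithBot.coe_inj] at h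
    exact WithBot.coe_inj.2 (ENat.add_left_injective_of_ne_top ENat.one_ne_top h)

/-- Local rings of an effective divisor on a Cohen–Macaulay scheme. -/
theorem stalk_cm {X D : Scheme.{u}} [IsLocallyNoetherian X] (i : D ⟶ X) [IsClosedImmersion i]
    (hI : BlowUp.IsEffCartierIdeal i.ker) (hCM : ∀ x : X, LocCoh.IsCohenMacaulayLocalRing (X.presheaf.stalk x))
    (d : D) :
    LocCoh.IsCohenMacaulayLocalRing (D.presheaf.stalk d) ∧
      ringKrullDim (D.presheaf.stalk d) + 1 = ringKrullDim (X.presheaf.stalk (i.ker.subschemeι (i.toImage d))) := by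
  haveI := hCM (i.ker.subschemeι (i.toImage d))
  haveI : IsNoetherianRing (i.ker.subscheme.presheaf.stalk (i.toImage d)) :=
    isNoetherianRing_of_surjective _ _ (i.ker.subschemeι.stalkMap (i.toImage d)).hom
      (i.ker.subschemeι.stalkMap_surjective (i.toImage d))
  let e := (asIso (i.toImage.stalkMap d)).commRingCatIsoToRingEquiv
  haveI : IsNoetherianRing (D.presheaf.stalk d) := isNoetherianRing_of_ringEquiv _ e
  obtain ⟨h1, h2⟩ := AlgSpLib.CartierDepth.depth_dim_subscheme hI (i.toImage d)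
  have he := Codepth5.dd_congr (X := D.presheaf.stalk d) (X' := i.ker.subscheme.presheaf.stalk (i.toImage d))
    e.toRingHom e.surjective e.toAddEquiv fun r s => map_mul e r s
  obtain ⟨e1, e2⟩ := Prod.ext_iff.1 he
  rw [ringKrullDim_eq_of_ringEquiv e] at h2
  refine ⟨⟨?_⟩, h2⟩
  have hX := (hCM (i.ker.subschemeι (i.toImage d))).supportDim_eq_depth
  rw [Module.supportDim_self_eq_ringKrullDim, ← h1, ← h2] at hX
  rw [Module.supportDim_self_eq_ringKrullDim]
  have e2' : LocCoh.depth (i.ker.subscheme.presheaf.stalk (i.toImage d)) (i.ker.subscheme.presheaf.stalk (i.toImage d)) =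
      LocCoh.depth (D.presheaf.stalk d) (D.presheaf.stalk d) := e2
  rw [e2'] at hX
  rw [WithBot.coe_add, WithBot.coe_one] at hX
  exact add_one_cancel hX

/-- Take any field k and a proper k-scheme X that is Cohen–Macaulay and equidimensional of dimension n
(the local ring at every closed point is Cohen–Macaulay of dimension n, and dim X = n), let (ω_X,
tr_X) be a dualizing sheaf of X in the sense that Hom(F, ω_X) → H^n(X, F)^∨, φ ↦ tr_X ∘ H^n(φ), is
bijective for every quasi-coherent F, and let i : D → X be an effective Cartier divisor, i.e. a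
closed subscheme whose ideal sheaf I is an invertible O_X-module, with O_X(D) an inverse of I. Then
(i) D is Cohen–Macaulay and every closed point of D has local ring of dimension n − 1, and (ii) for
every dualizing sheaf (ω_D, tr_D) of D in degree n − 1 there is an isomorphism ω_D ≅ (O_X(D) ⊗
ω_X)|_D (existence of an isomorphism; the canonical identification through Ext¹(O_D, ω_X) is not
constructed here). -/
theorem result (k : Type u) [Field k]
    (X : Scheme.{u}) [X.Over (Spec (CommRingCat.of k))] [IsProper (X ↘ Spec (CommRingCat.of k))] (n : ℕ) (hn : topologicalKrullDim ↥X = n)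
    (hCM : ∀ x : X, LocCoh.IsCohenMacaulayLocalRing (X.presheaf.stalk x))
    (heq : ∀ x : X, IsClosed ({x} : Set ↥X) → ringKrullDim (X.presheaf.stalk x) = n)
    (ωX : X.Modules) (trX : Coh.HH X ωX n →ₗ[k] k) (hωX : Canon.IsRDualOver k X n ωX trX)
    (D : Scheme.{u}) (i : D ⟶ X) [IsClosedImmersion i] (hI : PicF.IsInvertible (ClSub.idealMod i.ker))
    (OD : X.Modules) (hOD : ClSub.IsInverseOf OD (ClSub.idealMod i.ker)) :
    letI : D.Over (Spec (CommRingCat.of k)) := ⟨i ≫ (X ↘ Spec (CommRingCat.of k))⟩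
    (∀ d : D, LocCoh.IsCohenMacaulayLocalRing (D.presheaf.stalk d) ∧
        (IsClosed ({d} : Set ↥D) → ringKrullDim (D.presheaf.stalk d) = (n - 1 : ℕ))) ∧
      ∀ (ωD : D.Modules) (trD : Coh.HH D ωD (n - 1) →ₗ[k] k), Canon.IsRDualOver k D (n - 1) ωD trD →
        Nonempty (ωD ≅ (Scheme.Modules.pullback i).obj (CohB1.tensorMod OD ωX)) := by
  letI : D.Over (Spec (CommRingCat.of k)) := ⟨i ≫ (X ↘ Spec (CommRingCat.of k))⟩
  haveI hDp : IsProper (D ↘ Spec (CommRingCat.of k)) := (inferInstance : IsProper (i ≫ (X ↘ Spec (CommRingCat.of k))))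
  haveI : ∀ (U V : Scheme.{u}) (j : U ⟶ V) [IsOpenImmersion j],
      PreservesFiniteLimits (Scheme.Modules.restrictFunctor j) := fun U V j _ => inferInstance
  haveI : ∀ (R : CommRingCat.{u}), PreservesFiniteLimits (tilde.functor R) := fun R => QCoh.tilde_preservesFiniteLimits
  haveI := BCNat.isNoetherian_of_ft (X ↘ Spec (CommRingCat.of k))
  haveI := BCNat.isNoetherian_of_ft (D ↘ Spec (CommRingCat.of k))
  have hI' : BlowUp.IsEffCartierIdeal i.ker := (S8914.result i.ker).1 hI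
  have hpt : ∀ d : D, i.ker.subschemeι (i.toImage d) = i d := fun d => by
    rw [← Scheme.Hom.comp_apply]
    exact congrArg (fun g : D ⟶ X => g d) i.toImage_imageι
  have hstalk : ∀ d : D, IsClosed ({d} : Set ↥D) → ∃ m : ℕ, n = m + 1 ∧
      ringKrullDim (D.presheaf.stalk d) = (m : WithBot ℕ∞) := fun d hd => by
    have hc : IsClosed ({i.ker.subschemeι (i.toImage d)} : Set ↥X) := by
      rw [hpt, ← Set.image_singleton]
      exact i.isClosedEmbedding.isClosedMap _ hd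
    exact natCast_add_one_cancel ((stalk_cm i hI' hCM d).2.trans (heq _ hc))
  refine ⟨fun d => ⟨(stalk_cm i hI' hCM d).1, fun hd => ?_⟩, fun ωD trD hωD => ?_⟩
  · obtain ⟨m, rfl, hm⟩ := hstalk d hd
    exact hm
  rcases isEmpty_or_nonempty D with hDe | hDn
  · exact ⟨(CurveCohLib.isZero_of_subsingleton_stalks fun d => isEmptyElim d).iso
      (CurveCohLib.isZero_of_subsingleton_stalks fun d => isEmptyElim d)⟩
  obtain ⟨d₀⟩ := hDn
  obtain ⟨d₁, hd₁, -⟩ := DualNormalized.exists_closed d₀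
  obtain ⟨m, rfl, -⟩ := hstalk d₁ hd₁
  change Coh.HH D ωD m →ₗ[k] k at trD
  change Canon.IsRDualOver k D m ωD trD at hωD
  haveI : X.IsSeparated := ⟨by rw [← terminal.comp_from (X ↘ Spec (CommRingCat.of k))]; infer_instance⟩
  haveI : D.IsSeparated := ⟨by rw [← terminal.comp_from (D ↘ Spec (CommRingCat.of k))]; infer_instance⟩
  haveI := hasRpush_scheme (X ↘ Spec (CommRingCat.of k))
  have hf : DCoh.RpushPreservesQCoh (X ↘ Spec (CommRingCat.of k)) := fun K hK => isQCohD_rpush _ hK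
  obtain ⟨a, ⟨adj⟩⟩ := BCNat.exists_adj (X ↘ Spec (CommRingCat.of k)) hf
  obtain ⟨hω, hnz⟩ := DualNormalized.field_normalized k
  let W : DCoh.DQCoh (Spec (CommRingCat.of k)) :=
    ⟨(DCoh.tildeD (CommRingCat.of k)).obj (Dual.inD k k), isQCohD_tildeD _ _⟩
  obtain ⟨-, hK, hM⟩ := DualNormalized.proper_package (hf := hf) hω hnz (X ↘ Spec (CommRingCat.of k)) adj W (Iso.refl _)
  obtain ⟨hconc, -⟩ := DualNormalized.cm_global hK hM hCM (m + 1)
    (DualDiv.dim_component (k := k) (m + 1) hn heq)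
  let K : DCoh.D X := (a.obj W).obj
  -- concentration
  haveI : K.IsGE (-((m + 1 : ℕ) : ℤ)) := (DerivedCategory.isGE_iff _ _).2 fun j hj => hconc j (by omega)
  haveI : K.IsLE (-((m + 1 : ℕ) : ℤ)) := (DerivedCategory.isLE_iff _ _).2 fun j hj => hconc j (by omega)
  haveI : (K⟦(-((m + 1 : ℕ) : ℤ))⟧).IsGE 0 :=
    DerivedCategory.TStructure.t.isGE_shift K (-((m + 1 : ℕ) : ℤ)) (-((m + 1 : ℕ) : ℤ)) 0 (by omega)
  haveI : (K⟦(-((m + 1 : ℕ) : ℤ))⟧).IsLE 0 :=
    DerivedCategory.TStructure.t.isLE_shift K (-((m + 1 : ℕ) : ℤ)) (-((m + 1 : ℕ) : ℤ)) 0 (by omega)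
  obtain ⟨ω₀, ⟨e₀⟩⟩ := DerivedCategory.exists_iso_singleFunctor_obj_of_isGE_of_isLE (K⟦(-((m + 1 : ℕ) : ℤ))⟧) 0
  have hω₀ : Coh.IsQCoh ω₀ := by
    let e : ω₀ ≅ DCoh.HD K (-((m + 1 : ℕ) : ℤ)) :=
      ((DerivedCategory.singleFunctorCompHomologyFunctorIso X.Modules 0).app ω₀).symm ≪≫
        (DerivedCategory.homologyFunctor X.Modules 0).mapIso e₀.symm ≪≫
        ((DerivedCategory.homologyFunctor X.Modules 0).shiftIso (-((m + 1 : ℕ) : ℤ)) 0 (-((m + 1 : ℕ) : ℤ))
          (by omega)).app K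
    exact KFlatLib.isQCoh_of_iso e.symm (DualNormalized.isCoh_hd hK _).1
  -- cohomology vanishing
  have hgoodX : ∀ G : X.Modules, Coh.IsQCoh G → SerreTop.Good X (m + 1) G := fun G hG =>
    ⟨hG, fun j hj => Snapper.subsingleton_HH_of_dim_le hn.le hG hj⟩
  have hdimD : topologicalKrullDim ↥D ≤ (m : ℕ) := DualDiv.topologicalKrullDim_le_of_closed m fun d hd => by
    obtain ⟨m', hm', hm''⟩ := hstalk d hd
    obtain rfl : m' = m := by omega
    exact hm''.le
  have hι : i ≫ (X ↘ Spec (CommRingCat.of k)) = D ↘ Spec (CommRingCat.of k) := rfl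
  let push := Scheme.Modules.pushforward i
  let pE : ∀ (F : D.Modules) (q : ℕ), Coh.HH D F q ≃ₗ[k] Coh.HH X (push.obj F) q := fun F q =>
    LinearEquiv.ofBijective (PushHNat.pushHLin i hι F q) (PushHNat.bijective_pushHLin i hι F q)
  have hvanD : ∀ (F : D.Modules), Coh.IsQCoh F → ∀ q : ℕ, m < q → Subsingleton (Coh.HH X (push.obj F) q) :=
    fun F hF q hq => by
      haveI := Snapper.subsingleton_HH_of_dim_le hdimD hF hq
      exact (pE F q).symm.toEquiv.subsingleton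
  have hgoodD : ∀ F : D.Modules, Coh.IsQCoh F → SerreTop.Good X m (push.obj F) := fun F hF =>
    ⟨QCoh.isQCoh_pushforward i hF, hvanD F hF⟩
  -- representability
  obtain ⟨Φ, hΦ⟩ := DualDiv.exists_dual (hf := hf) adj W (Iso.refl _) (m + 1)
  let single := DerivedCategory.singleFunctor X.Modules 0
  let ff : single.FullyFaithful := Functor.FullyFaithful.ofFullyFaithful _
  let β : ∀ G : X.Modules, Coh.IsQCoh G → ((G ⟶ ω₀) ≃ (Coh.HH X G (m + 1) →ₗ[k] k)) := fun G hG =>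
    (ff.homEquiv.trans e₀.symm.homToEquiv).trans (Φ ⟨G, hgoodX G hG⟩)
  have hβ : ∀ (G G' : X.Modules) (hG : Coh.IsQCoh G) (hG' : Coh.IsQCoh G') (φ : G ⟶ G') (ψ : G' ⟶ ω₀),
      β G hG (φ ≫ ψ) = (β G' hG' ψ).comp (Canon.HHlin k φ (m + 1)) := fun G G' hG hG' φ ψ => by
    refine Eq.trans ?_ (hΦ ⟨G, hgoodX G hG⟩ ⟨G', hgoodX G' hG'⟩ (ObjectProperty.homMk φ) _)
    refine congrArg (Φ ⟨G, hgoodX G hG⟩) ?_
    show single.map (φ ≫ ψ) ≫ e₀.inv = single.map φ ≫ single.map ψ ≫ e₀.inv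
    rw [Functor.map_comp, Category.assoc]
  let γ : ∀ G : X.Modules, Coh.IsQCoh G → ((G ⟶ ωX) ≃ (Coh.HH X G (m + 1) →ₗ[k] k)) := fun G hG =>
    Equiv.ofBijective _ (hωX.2 G hG)
  have hγ : ∀ (G G' : X.Modules) (hG : Coh.IsQCoh G) (hG' : Coh.IsQCoh G') (φ : G ⟶ G') (ψ : G' ⟶ ωX),
      γ G hG (φ ≫ ψ) = (γ G' hG' ψ).comp (Canon.HHlin k φ (m + 1)) := fun G G' hG hG' φ ψ => by
    refine LinearMap.ext fun x => congrArg trX ?_
    show Sheaf.H.map ((SheafOfModules.toSheaf X.ringCatSheaf).map (φ ≫ ψ)) (m + 1) x = _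
    rw [Functor.map_comp, Sheaf.H.map_comp_apply]
    rfl
  obtain ⟨eX⟩ := DualDiv.iso_of_reps (P := fun G : X.Modules => Coh.IsQCoh G) hωX.1 hω₀
    (fun G hG => (γ G hG).trans (β G hG).symm)
    (fun G G' hG hG' φ ψ => by
      show (β G hG).symm (γ G hG (φ ≫ ψ)) = φ ≫ (β G' hG').symm (γ G' hG' ψ)
      rw [Equiv.symm_apply_eq, hβ G G' hG hG', Equiv.apply_symm_apply, hγ G G' hG hG'])
  have hvan : ∀ F : D.Modules, Coh.IsQCoh F → ∀ g : push.obj F ⟶ ωX, g = 0 := fun F hF g => by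
    haveI := hvanD F hF (m + 1) (by omega)
    haveI : Subsingleton (Coh.HH X (push.obj F) (m + 1) →ₗ[k] k) :=
      ⟨fun f g => LinearMap.ext fun x => by rw [Subsingleton.elim x 0, map_zero, map_zero]⟩
    exact (γ _ (QCoh.isQCoh_pushforward i hF)).subsingleton.elim _ _
  haveI : HasExt.{u} X.Modules := IsGrothendieckAbelian.hasExt _
  obtain ⟨hL, c, hc⟩ := DualDiv.exists_class i hI hOD hωX.1 hvan
  obtain ⟨Φ', hΦ'⟩ := DualDiv.exists_dual (hf := hf) adj W (Iso.refl _) m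
  let eK : (DCoh.inD X ωX)⟦((1 : ℕ) : ℤ)⟧ ≅ K⟦(-(m : ℤ))⟧ :=
    (shiftFunctor (DCoh.D X) ((1 : ℕ) : ℤ)).mapIso (single.mapIso eX ≪≫ e₀.symm) ≪≫
      ((shiftFunctorAdd' (DCoh.D X) (-((m + 1 : ℕ) : ℤ)) ((1 : ℕ) : ℤ) (-(m : ℤ)) (by omega)).app K).symm
  let L := (Scheme.Modules.pullback i).obj (CohB1.tensorMod OD ωX)
  haveI := AmpleVan.faithful_push i
  have hmap : ∀ F : D.Modules, Function.Bijective fun φ : F ⟶ L => push.map φ := fun F =>
    ⟨fun φ φ' h => push.map_injective h, fun χ => H9Misc.ClosedPushFull.exists_map i χ⟩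
  let R : ∀ F : D.Modules, Coh.IsQCoh F → ((F ⟶ L) ≃ (Coh.HH D F m →ₗ[k] k)) := fun F hF =>
    ((((Equiv.ofBijective _ (hmap F)).trans (Equiv.ofBijective _ (hc F hF))).trans
      Ext.homEquiv).trans eK.homToEquiv).trans
      ((Φ' ⟨push.obj F, hgoodD F hF⟩).trans ((pE F m).symm.arrowCongr (LinearEquiv.refl k k)).toEquiv)
  have hR : ∀ (F F' : D.Modules) (hF : Coh.IsQCoh F) (hF' : Coh.IsQCoh F') (φ : F ⟶ F') (ψ : F' ⟶ L),
      R F hF (φ ≫ ψ) = (R F' hF' ψ).comp (Canon.HHlin k φ m) := fun F F' hF hF' φ ψ => by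
    let x' : Ext (push.obj F') ωX 1 := (Ext.mk₀ (push.map ψ)).comp c (zero_add 1)
    have h1 : ((Ext.mk₀ (push.map (φ ≫ ψ))).comp c (zero_add 1)).hom =
        single.map (push.map φ) ≫ x'.hom := by
      rw [Functor.map_comp, ← Ext.mk₀_comp_mk₀, Ext.comp_assoc_of_second_deg_zero, Ext.comp_hom, Ext.mk₀_hom,
        ShiftedHom.mk₀_comp]
    refine LinearMap.ext fun x => ?_
    show Φ' ⟨push.obj F, hgoodD F hF⟩ (((Ext.mk₀ (push.map (φ ≫ ψ))).comp c (zero_add 1)).hom ≫ eK.hom)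
        (PushHNat.pushHLin i hι F m x) =
      Φ' ⟨push.obj F', hgoodD F' hF'⟩ (x'.hom ≫ eK.hom) (PushHNat.pushHLin i hι F' m (Canon.HHlin k φ m x))
    rw [h1, Category.assoc]
    refine (LinearMap.congr_fun (hΦ' ⟨push.obj F, hgoodD F hF⟩ ⟨push.obj F', hgoodD F' hF'⟩
      (ObjectProperty.homMk (push.map φ)) (x'.hom ≫ eK.hom)) _).trans ?_
    exact congrArg (Φ' ⟨push.obj F', hgoodD F' hF'⟩ (x'.hom ≫ eK.hom))
      (PushHNat.pushHLin_natural i hι φ m x).symm
  let γD : ∀ G : D.Modules, Coh.IsQCoh G → ((G ⟶ ωD) ≃ (Coh.HH D G m →ₗ[k] k)) := fun G hG =>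
    Equiv.ofBijective _ (hωD.2 G hG)
  have hγD : ∀ (G G' : D.Modules) (hG : Coh.IsQCoh G) (hG' : Coh.IsQCoh G') (φ : G ⟶ G') (ψ : G' ⟶ ωD),
      γD G hG (φ ≫ ψ) = (γD G' hG' ψ).comp (Canon.HHlin k φ m) := fun G G' hG hG' φ ψ => by
    refine LinearMap.ext fun x => congrArg trD ?_
    show Sheaf.H.map ((SheafOfModules.toSheaf D.ringCatSheaf).map (φ ≫ ψ)) m x = _
    rw [Functor.map_comp, Sheaf.H.map_comp_apply]
    rfl
  exact DualDiv.iso_of_reps (P := fun G : D.Modules => Coh.IsQCoh G) hωD.1 hL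
    (fun G hG => (γD G hG).trans (R G hG).symm)
    (fun G G' hG hG' φ ψ => by
      show (R G hG).symm (γD G hG (φ ≫ ψ)) = φ ≫ (R G' hG').symm (γD G' hG' ψ)
      rw [Equiv.symm_apply_eq, hR G G' hG hG', Equiv.apply_symm_apply, hγD G G' hG hG'])
end Groth.Agent.S14828
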