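import Groth.Statements.S14830
import Groth.Agent.H23.AlbFormal
-- import your own Groth.Agent.* helpers here

set_option autoImplicit false
universe u
open CategoryTheory MonoidalCategory CartesianMonoidalCategory MonObj GrpObj AlgebraicGeometry
open AbVar

namespace Groth.Agent.S14830

/-- Let k be a field and X, Y proper, geometrically integral k-schemes with k-rational points x₀ and y₀.
Let albX : X → A and albY : Y → B be Albanese morphisms: A, B abelian varieties over k (proper,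
geometrically integral group schemes), albX(x₀) = 0, albY(y₀) = 0, each universal among pointed
k-morphisms into abelian varieties (geometrically reduced, connected, proper group schemes). Then
the product morphism albX × albY : X ×_k Y → A ×_k B is the Albanese morphism of X ×_k Y pointed at
(x₀, y₀): for every abelian variety C and every k-morphism g : X ×_k Y → C with g(x₀, y₀) = 0 there
is a unique homomorphism h : A ×_k B → C with (albX × albY) ≫ h = g. -/
theorem result (k : Type u) [Field k] (X Y : Scheme.{u}) [X.Over (Spec (CommRingCat.of k))] [Y.Over (Spec (CommRingCat.of k))]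
    [IsProper (X ↘ Spec (CommRingCat.of k))] [IsProper (Y ↘ Spec (CommRingCat.of k))]
    [GeometricallyIntegral (X ↘ Spec (CommRingCat.of k))] [GeometricallyIntegral (Y ↘ Spec (CommRingCat.of k))]
    (x₀ : 𝟙_ (Over (Spec (CommRingCat.of k))) ⟶ Over.mk (X ↘ Spec (CommRingCat.of k))) (y₀ : 𝟙_ (Over (Spec (CommRingCat.of k))) ⟶ Over.mk (Y ↘ Spec (CommRingCat.of k)))
    (A : Over (Spec (CommRingCat.of k))) [GrpObj A] [IsProper A.hom] [GeometricallyIntegral A.hom]
    (albX : Over.mk (X ↘ Spec (CommRingCat.of k)) ⟶ A) (halbX : x₀ ≫ albX = η[A])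
    (hunivA : ∀ (C : Over (Spec (CommRingCat.of k))) [GrpObj C] [IsProper C.hom] [GeometricallyReduced C.hom] [ConnectedSpace ↥C.left]
      (g : Over.mk (X ↘ Spec (CommRingCat.of k)) ⟶ C), x₀ ≫ g = η[C] → ∃! h : A ⟶ C, IsMonHom h ∧ albX ≫ h = g)
    (B : Over (Spec (CommRingCat.of k))) [GrpObj B] [IsProper B.hom] [GeometricallyIntegral B.hom]
    (albY : Over.mk (Y ↘ Spec (CommRingCat.of k)) ⟶ B) (halbY : y₀ ≫ albY = η[B])
    (hunivB : ∀ (C : Over (Spec (CommRingCat.of k))) [GrpObj C] [IsProper C.hom] [GeometricallyReduced C.hom] [ConnectedSpace ↥C.left]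
      (g : Over.mk (Y ↘ Spec (CommRingCat.of k)) ⟶ C), y₀ ≫ g = η[C] → ∃! h : B ⟶ C, IsMonHom h ∧ albY ≫ h = g)
    (C : Over (Spec (CommRingCat.of k))) [GrpObj C] [IsProper C.hom] [GeometricallyReduced C.hom] [ConnectedSpace ↥C.left]
    (g : Over.mk (X ↘ Spec (CommRingCat.of k)) ⊗ Over.mk (Y ↘ Spec (CommRingCat.of k)) ⟶ C) (hg : lift x₀ y₀ ≫ g = η[C]) :
    ∃! h : A ⊗ B ⟶ C, IsMonHom h ∧ (albX ⊗ₘ albY) ≫ h = g := by
  let Sk := Over (Spec (CommRingCat.of k))
  let X' : Sk := Over.mk (X ↘ Spec (CommRingCat.of k))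
  let Y' : Sk := Over.mk (Y ↘ Spec (CommRingCat.of k))
  haveI : IsProper X'.hom := ‹IsProper (X ↘ Spec (CommRingCat.of k))›
  haveI : GeometricallyIntegral X'.hom := ‹GeometricallyIntegral (X ↘ Spec (CommRingCat.of k))›
  haveI : IsProper Y'.hom := ‹IsProper (Y ↘ Spec (CommRingCat.of k))›
  haveI : GeometricallyIntegral Y'.hom := ‹GeometricallyIntegral (Y ↘ Spec (CommRingCat.of k))›
  let x₁ : 𝟙_ Sk ⟶ X' := x₀
  let y₁ : 𝟙_ Sk ⟶ Y' := y₀
  let g₁ : X' ⊗ Y' ⟶ C := g
  have hc : ∀ {T T' : Sk}, toUnit T ≫ η[C] = (1 : T ⟶ C) := fun {T T'} => rfl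
  let gA : X' ⟶ C := lift (𝟙 X') (toUnit X' ≫ y₁) ≫ g₁
  let gB : Y' ⟶ C := lift (toUnit Y' ≫ x₁) (𝟙 Y') ≫ g₁
  have hgA0 : x₁ ≫ gA = η[C] := by
    show x₁ ≫ lift (𝟙 X') (toUnit X' ≫ y₁) ≫ g₁ = _
    rw [comp_lift_assoc, Category.comp_id, Groth.Agent.H23.AlbFormal.pt_toUnit]
    exact hg
  have hgB0 : y₁ ≫ gB = η[C] := by
    show y₁ ≫ lift (toUnit Y' ≫ x₁) (𝟙 Y') ≫ g₁ = _
    rw [comp_lift_assoc, Category.comp_id, Groth.Agent.H23.AlbFormal.pt_toUnit]
    exact hg
  have hxA : x₁ ≫ gA = (1 : 𝟙_ Sk ⟶ C) := by rw [hgA0, MonObj.one_eq_one]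
  have hyB : y₁ ≫ gB = (1 : 𝟙_ Sk ⟶ C) := by rw [hgB0, MonObj.one_eq_one]
  have hsplit : g₁ = (fst X' Y' ≫ gA) * (snd X' Y' ≫ gB) := by
    rw [← mul_inv_eq_one]
    refine (Groth.Agent.H23.Rigid.eq_const _ x₁ y₁ η[C] ?_ ?_).trans rfl
    · rw [MonObj.comp_mul, GrpObj.comp_inv, MonObj.comp_mul, lift_fst_assoc, lift_snd_assoc, Category.id_comp,
        Category.assoc, hyB, MonObj.comp_one, _root_.mul_one, mul_inv_cancel]
      rfl
    · rw [MonObj.comp_mul, GrpObj.comp_inv, MonObj.comp_mul, lift_fst_assoc, lift_snd_assoc, Category.id_comp,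
        Category.assoc, hxA, MonObj.comp_one, _root_.one_mul, mul_inv_cancel]
      rfl
  obtain ⟨hA, ⟨mA, eA⟩, uA⟩ := hunivA C gA hgA0
  obtain ⟨hB, ⟨mB, eB⟩, uB⟩ := hunivB C gB hgB0
  have h1A : η[A] ≫ hA = η[C] := IsMonHom.one_hom _
  have h1B : η[B] ≫ hB = η[C] := IsMonHom.one_hom _
  have hcomm : ∀ {T : Sk} (a : T ⟶ A) (b : T ⟶ B), (a ≫ hA) * (b ≫ hB) = (b ≫ hB) * (a ≫ hA) := by
    intro T a b
    have h : ((fst A B ≫ hA) * (snd A B ≫ hB)) * ((snd A B ≫ hB) * (fst A B ≫ hA))⁻¹ = 1 := by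
      refine (Groth.Agent.H23.Rigid.eq_const _ η[A] η[B] η[C] ?_ ?_).trans rfl
      · simp only [MonObj.comp_mul, GrpObj.comp_inv, lift_fst_assoc, lift_snd_assoc, Category.id_comp,
          Category.assoc, h1B]
        rw [show toUnit A ≫ η[C] = (1 : A ⟶ C) from rfl, _root_.mul_one, _root_.one_mul, mul_inv_cancel]
      · simp only [MonObj.comp_mul, GrpObj.comp_inv, lift_fst_assoc, lift_snd_assoc, Category.id_comp,
          Category.assoc, h1A]
        rw [show toUnit B ≫ η[C] = (1 : B ⟶ C) from rfl, _root_.mul_one, _root_.one_mul, mul_inv_cancel]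
    rw [mul_inv_eq_one] at h
    have := congrArg (fun v => lift a b ≫ v) h
    simp only [MonObj.comp_mul, lift_fst_assoc, lift_snd_assoc] at this
    exact this
  let h : A ⊗ B ⟶ C := (fst A B ≫ hA) * (snd A B ≫ hB)
  have hh : IsMonHom h := by
    refine ⟨?_, ?_⟩
    · show η[A ⊗ B] ≫ ((fst A B ≫ hA) * (snd A B ≫ hB)) = _
      rw [MonObj.comp_mul, ← Category.assoc, ← Category.assoc, MonObj.one_eq_one, MonObj.one_comp, MonObj.one_comp,
        MonObj.one_comp, MonObj.one_comp, _root_.mul_one, MonObj.one_eq_one]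
    · rw [MonObj.mul_eq_mul, MonObj.mul_eq_mul, MonObj.comp_mul]
      rw [MonObj.comp_mul (h ⊗ₘ h), tensorHom_fst, tensorHom_snd]
      simp only [h, MonObj.comp_mul, ← Category.assoc, MonObj.mul_comp]
      rw [_root_.mul_assoc, _root_.mul_assoc, ← _root_.mul_assoc (((snd (A ⊗ B) (A ⊗ B)) ≫ fst A B) ≫ hA),
        hcomm, _root_.mul_assoc]
  refine ⟨h, ⟨hh, ?_⟩, fun h' hh' => ?_⟩
  · show (albX ⊗ₘ albY) ≫ ((fst A B ≫ hA) * (snd A B ≫ hB)) = g₁
    rw [MonObj.comp_mul, tensorHom_fst_assoc, tensorHom_snd_assoc, eA, eB, ← hsplit]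
  · obtain ⟨mh, eh⟩ := hh'
    let iA : A ⟶ A ⊗ B := lift (𝟙 A) 1
    let iB : B ⟶ A ⊗ B := lift 1 (𝟙 B)
    have hid : (fst A B ≫ iA) * (snd A B ≫ iB) = 𝟙 (A ⊗ B) := by
      refine CartesianMonoidalCategory.hom_ext _ _ ?_ ?_ <;>
        simp only [iA, iB, MonObj.mul_comp, Category.assoc, lift_fst, lift_snd, MonObj.comp_one, Category.comp_id,
          Category.id_comp, _root_.mul_one, _root_.one_mul]
    haveI : IsMonHom iA := ⟨by simp only [MonObj.one_eq_one, iA]; apply CartesianMonoidalCategory.hom_ext <;>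
        simp only [Category.assoc, lift_fst, lift_snd, Category.comp_id, MonObj.comp_one, MonObj.one_comp], by
      rw [MonObj.mul_eq_mul, MonObj.mul_eq_mul]
      apply CartesianMonoidalCategory.hom_ext <;>
        simp only [iA, Category.assoc, MonObj.mul_comp, MonObj.comp_mul, tensorHom_fst, tensorHom_snd, lift_fst, lift_snd, Category.comp_id, MonObj.comp_one, _root_.mul_one]⟩
    haveI : IsMonHom iB := ⟨by simp only [MonObj.one_eq_one, iB]; apply CartesianMonoidalCategory.hom_ext <;>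
        simp only [Category.assoc, lift_fst, lift_snd, Category.comp_id, MonObj.comp_one, MonObj.one_comp], by
      rw [MonObj.mul_eq_mul, MonObj.mul_eq_mul]
      apply CartesianMonoidalCategory.hom_ext <;>
        simp only [iB, Category.assoc, MonObj.mul_comp, MonObj.comp_mul, tensorHom_fst, tensorHom_snd, lift_fst, lift_snd, Category.comp_id, MonObj.comp_one, _root_.mul_one]⟩
    have a1 : iA ≫ h' = hA := uA _ ⟨inferInstance, by
      show _ = lift (𝟙 X') (toUnit X' ≫ y₁) ≫ g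
      rw [← eh, ← Category.assoc, ← Category.assoc]
      congr 1
      apply CartesianMonoidalCategory.hom_ext
      · simp only [iA, X', Y', Category.assoc, lift_fst, tensorHom_fst, lift_fst_assoc, Category.comp_id, Category.id_comp]
      · simp only [iA, X', Y', y₁, Category.assoc, lift_snd, tensorHom_snd, lift_snd_assoc, MonObj.comp_one, halbY]
        rfl⟩
    have a2 : iB ≫ h' = hB := uB _ ⟨inferInstance, by
      show _ = lift (toUnit Y' ≫ x₁) (𝟙 Y') ≫ g
      rw [← eh, ← Category.assoc, ← Category.assoc]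
      congr 1
      apply CartesianMonoidalCategory.hom_ext
      · simp only [iB, X', Y', x₁, Category.assoc, lift_fst, tensorHom_fst, lift_fst_assoc, MonObj.comp_one, halbX]
        rfl
      · simp only [iB, X', Y', Category.assoc, lift_snd, tensorHom_snd, lift_snd_assoc, Category.comp_id, Category.id_comp]⟩
    calc h' = 𝟙 _ ≫ h' := (Category.id_comp _).symm
      _ = h := by rw [← hid, MonObj.mul_comp, Category.assoc, Category.assoc, a1, a2]

end Groth.Agent.S14830
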