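import Groth.Statements.S14834
import Groth.Agent.H23.AlbFormal

set_option autoImplicit false
universe u
open CategoryTheory MonoidalCategory CartesianMonoidalCategory MonObj GrpObj AlgebraicGeometry
open AbVar

namespace Groth.Agent.S14834

/-- Let k be a field, X a proper k-scheme with H^0(X, O_X) = k (k → Γ(X, O_X) bijective) and a
k-rational point x₀, and alb : X → A the Albanese morphism (A an abelian variety — proper,
geometrically integral group scheme — with alb(x₀) = 0, universal among pointed k-morphisms from X
to geometrically reduced, connected, proper group schemes). Let X → Y → A be a Stein factorisation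
of alb: Y proper over k, r : X → Y a k-morphism with O_Y → r_*O_X an isomorphism, s : Y → A finite
with r ≫ s = alb. Then s is the Albanese morphism of Y pointed at r(x₀): for every abelian variety B
and every k-morphism g : Y → B with g(r(x₀)) = 0 there is a unique homomorphism h : A → B with s ≫ h
= g. (The published statement has no rational point and also identifies the maximal abelian
subschemes of the Picard schemes of the Albanese, of Y and of X by pullback; this row is the pointed
statement about the Albanese of Y only.) -/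
theorem result (k : Type u) [Field k] (X Y : Over (Spec (CommRingCat.of k)))
    [IsProper X.hom] [IsProper Y.hom] (h0 : Function.Bijective (X.hom.appTop).hom)
    (x₀ : 𝟙_ (Over (Spec (CommRingCat.of k))) ⟶ X)
    (A : Over (Spec (CommRingCat.of k))) [GrpObj A] [IsProper A.hom] [GeometricallyIntegral A.hom]
    (alb : X ⟶ A) (halb : x₀ ≫ alb = η[A])
    (huniv : ∀ (B : Over (Spec (CommRingCat.of k))) [GrpObj B] [IsProper B.hom] [GeometricallyReduced B.hom] [ConnectedSpace ↥B.left]
      (g : X ⟶ B), x₀ ≫ g = η[B] → ∃! h : A ⟶ B, IsMonHom h ∧ alb ≫ h = g)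
    (r : X ⟶ Y) (hr : ∀ U : Y.left.Opens, IsIso (r.left.app U)) (s : Y ⟶ A) [IsFinite s.left]
    (hrs : r ≫ s = alb)
    (B : Over (Spec (CommRingCat.of k))) [GrpObj B] [IsProper B.hom] [GeometricallyReduced B.hom] [ConnectedSpace ↥B.left]
    (g : Y ⟶ B) (hg : x₀ ≫ r ≫ g = η[B]) :
    ∃! h : A ⟶ B, IsMonHom h ∧ s ≫ h = g := by
  have hr' : Function.Surjective r.left := by
    have h1 : IsProper (r.left ≫ Y.hom) := by rw [Over.w r]; infer_instance
    have : IsProper r.left := IsProper.of_comp r.left Y.hom
    exact Groth.Agent.H23.Rigid.surjective_of_bijective_app r.left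
      (fun U => (ConcreteCategory.isIso_iff_bijective _).mp (hr U)) r.left.isClosedMap
  have hepi : ∀ {g₁ g₂ : Y ⟶ B}, r ≫ g₁ = r ≫ g₂ → g₁ = g₂ := fun {g₁ g₂} e =>
    Over.OverMorphism.ext (Groth.Agent.H23.Rigid.cancel_left r.left
      (fun U => (ConcreteCategory.isIso_iff_bijective _).mp (hr U)) hr' _ _ (congrArg CommaMorphism.left e))
  obtain ⟨h, ⟨hm, hh⟩, huniq⟩ := huniv B (r ≫ g) hg
  refine ⟨h, ⟨hm, hepi (by rw [← Category.assoc, hrs, hh])⟩, fun h' hh' => huniq h' ⟨hh'.1, ?_⟩⟩
  rw [← hrs, Category.assoc, hh'.2]

end Groth.Agent.S14834
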