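import Groth.Statements.S14835
import Groth.Agent.S7811
import Groth.Agent.S2501
import Groth.Agent.GenusLe.Finite
import Groth.Agent.GenusLe.Birat
import Groth.Agent.CurveCover.SmoothCompletion
import Groth.Agent.CurveCohLib.SmoothCurve
import Groth.Agent.CurveCohLib.RegularCurve

set_option autoImplicit false
set_option backward.isDefEq.respectTransparency false
set_option backward.isDefEq.respectTransparency.types false
set_option linter.style.haveILetI false
set_option maxHeartbeats 1000000
universe u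
open CategoryTheory CategoryTheory.Limits AlgebraicGeometry
open Curves

namespace Groth.Agent.S14835

/-- Let k be an algebraically closed field, C and B proper curves over k (proper k-schemes of dimension
one) with B connected and regular (all local rings regular), φ : C → B a k-morphism, and ι : C_i → C
a closed integral one-dimensional subscheme (an integral component) such that the composite C_i → B
is finite. Then dim_k H^1(C, O_C) ≥ dim_k H^1(C_i, O_{C_i}) ≥ dim_k H^1(B, O_B). -/
theorem result (k : Type u) [Field k] [IsAlgClosed k]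
    (C B Ci : Scheme.{u}) [C.Over (Spec (CommRingCat.of k))] [B.Over (Spec (CommRingCat.of k))] [Ci.Over (Spec (CommRingCat.of k))]
    [IsProper (C ↘ Spec (CommRingCat.of k))] [IsProper (B ↘ Spec (CommRingCat.of k))]
    (hC : topologicalKrullDim ↥C = 1) (hB : topologicalKrullDim ↥B = 1) [ConnectedSpace ↥B]
    (hBreg : ∀ b : B, IsRegularLocalRing (B.presheaf.stalk b))
    (φ : C ⟶ B) (hφ : φ ≫ (B ↘ Spec (CommRingCat.of k)) = C ↘ Spec (CommRingCat.of k))
    (ι : Ci ⟶ C) [IsClosedImmersion ι] [IsIntegral Ci] (hCi : topologicalKrullDim ↥Ci = 1)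
    (hι : ι ≫ (C ↘ Spec (CommRingCat.of k)) = Ci ↘ Spec (CommRingCat.of k)) [IsFinite (ι ≫ φ)] :
    Module.finrank k (Coh.HH Ci (Coh.structureModule Ci) 1) ≤ Module.finrank k (Coh.HH C (Coh.structureModule C) 1) ∧
      Module.finrank k (Coh.HH B (Coh.structureModule B) 1) ≤ Module.finrank k (Coh.HH Ci (Coh.structureModule Ci) 1) := by
  haveI : IsProper (Ci ↘ Spec (CommRingCat.of k)) := by rw [← hι]; infer_instance
  haveI := CurveCohLib.isNoetherian_of_proper (k := k) (X := Ci)
  haveI := CurveCohLib.isNoetherian_of_proper (k := k) (X := B)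
  haveI : IsClosedImmersion (ι ∣_ (⊤ : C.Opens)) := inferInstance
  refine ⟨GenusLe.genus_le (Y := Ci) k hC.le ι hι ⊤ (by simp), ?_⟩
  -- the normalisation of the component
  haveI : Subsingleton ↥(Spec (Ci.presheaf.stalk (genericPoint Ci))) :=
    (inferInstance : Subsingleton (PrimeSpectrum Ci.functionField))
  haveI : QuasiCompact (Ci.fromSpecStalk (genericPoint Ci)) :=
    ⟨fun _ _ _ => Set.subsingleton_of_subsingleton.isCompact⟩
  haveI : QuasiSeparated (Ci.fromSpecStalk (genericPoint Ci)) := inferInstance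
  let N := Curv2.normalization Ci
  let ν : N ⟶ Ci := Curv2.normalizationι Ci
  have hN := fun U : Ci.affineOpens => NagataLib.isNagata_affineOpen (Ci ↘ Spec (CommRingCat.of k)) U
  haveI : IsFinite ν := NormCurve.isFinite_normalizationι Ci hN
  obtain ⟨V, hV, hVi⟩ := NormCurve.exists_isIso Ci hN
  haveI : IsIntegral N := inferInstanceAs (IsIntegral (Ci.fromSpecStalk (genericPoint Ci)).normalization)
  letI : N.Over (Spec (CommRingCat.of k)) := ⟨ν ≫ (Ci ↘ Spec (CommRingCat.of k))⟩
  haveI : IsProper (N ↘ Spec (CommRingCat.of k)) :=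
    inferInstanceAs (IsProper (ν ≫ (Ci ↘ Spec (CommRingCat.of k))))
  haveI hiso : IsIso (ν ∣_ V) := hVi
  have hVne : ((ν ⁻¹ᵁ V : N.Opens) : Set N).Nonempty := by
    obtain ⟨v, hv⟩ := hV.nonempty
    obtain ⟨w, -⟩ := (ConcreteCategory.bijective_of_isIso (ν ∣_ V).base).2 ⟨v, hv⟩
    exact ⟨w.1, w.2⟩
  have hdN : topologicalKrullDim N = 1 := by
    haveI : Nonempty ↥((ν ⁻¹ᵁ V : N.Opens).toScheme) := hVne.to_subtype
    haveI : Nonempty ↥(V.toScheme) := hV.nonempty.to_subtype
    haveI : IsIntegral (ν ⁻¹ᵁ V : N.Opens).toScheme := isIntegral_of_isOpenImmersion (ν ⁻¹ᵁ V).ι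
    haveI : IsIntegral V.toScheme := isIntegral_of_isOpenImmersion V.ι
    rw [← CurveCover.SmoothCompletion.topologicalKrullDim_eq (ν ⁻¹ᵁ V).ι (N ↘ Spec (CommRingCat.of k)),
      CurveCover.SmoothCompletion.topologicalKrullDim_eq ((ν ∣_ V) ≫ V.ι) (Ci ↘ Spec (CommRingCat.of k))]
    exact hCi
  haveI : Smooth (N ↘ Spec (CommRingCat.of k)) :=
    CurveCohLib.RegularCurve.smooth_of_regular k fun y _ => CurveRes.regular_normalization Ci hCi.le y
  haveI : Smooth (B ↘ Spec (CommRingCat.of k)) :=
    CurveCohLib.RegularCurve.smooth_of_regular k fun y _ => hBreg y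
  haveI := S2501.result (N ↘ Spec (CommRingCat.of k))
  haveI := S2501.result (B ↘ Spec (CommRingCat.of k))
  have hcomp : (ν ≫ ι ≫ φ) ≫ (B ↘ Spec (CommRingCat.of k)) = N ↘ Spec (CommRingCat.of k) := by
    rw [Category.assoc, Category.assoc, hφ, hι]
    rfl
  haveI : IsFinite (ν ≫ ι ≫ φ) := inferInstance
  have h1 := S7811.result k (N ↘ Spec (CommRingCat.of k)) (B ↘ Spec (CommRingCat.of k)) hdN hB (ν ≫ ι ≫ φ) hcomp
  exact h1.trans (GenusLe.genus_le (Y := N) k hCi.le ν rfl V hV)

end Groth.Agent.S14835
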