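import Groth.Statements.S14836
import Groth.Agent.H23.PullPush
set_option autoImplicit false
universe u
open CategoryTheory CategoryTheory.Limits AlgebraicGeometry
open Formal2

namespace Groth.Agent.S14836
set_option backward.isDefEq.respectTransparency false
set_option backward.isDefEq.respectTransparency.types false
set_option linter.style.haveILetI false
open AlgebraicGeometry CategoryTheory CategoryTheory.Limits


/-- Let k be a field and f : X → Y a k-morphism between proper k-schemes which is a fibration, i.e. O_Y
→ f_*O_X is an isomorphism (Γ(V, O_Y) → Γ(f⁻¹V, O_X) bijective for every open V ⊆ Y). Then N ↦ f^*N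
is injective on Picard groups: every invertible O_Y-module whose pullback to X is trivial is
trivial. -/
theorem result (k : Type u) [Field k] (X Y : Scheme.{u})
    [X.Over (Spec (CommRingCat.of k))] [Y.Over (Spec (CommRingCat.of k))] [IsProper (X ↘ Spec (CommRingCat.of k))] [IsProper (Y ↘ Spec (CommRingCat.of k))]
    (f : X ⟶ Y) (hf : f ≫ (Y ↘ Spec (CommRingCat.of k)) = X ↘ Spec (CommRingCat.of k)) (hfib : ∀ V : Y.Opens, IsIso (f.app V)) :
    Formal2.PicPullbackInjective f := by

  intro L hL ⟨e⟩
  have hf : ∀ V : Y.Opens, Function.Bijective (f.app V) := fun V => (ConcreteCategory.isIso_iff_bijective _).1 (hfib V)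
  haveI := Groth.Agent.H23.PullPush.isIso_unit_of_isFinLocFree f hf L (Groth.Agent.H23.PullPush.isFinLocFree_of_isInvertible hL)
  exact ⟨asIso ((Scheme.Modules.pullbackPushforwardAdjunction f).unit.app L) ≪≫ (Scheme.Modules.pushforward f).mapIso e ≪≫
    (Groth.Agent.H23.PullPush.structureModuleIsoPush f hf).symm⟩

end Groth.Agent.S14836
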