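import Groth.Statements.S14837
import Groth.Agent.CohPullX.EdgeOne
import Groth.Agent.CurveCohLib.Proper

set_option autoImplicit false
universe u
open CategoryTheory CategoryTheory.Limits AlgebraicGeometry
open Coh

namespace Groth.Agent.S14837
namespace Aux
open CategoryTheory CategoryTheory.Limits AlgebraicGeometry Opposite TopologicalSpace
open Groth.Agent
set_option backward.isDefEq.respectTransparency false
set_option backward.isDefEq.respectTransparency.types false
set_option linter.style.haveILetI false

variable {X Y : Scheme.{u}} (f : X ⟶ Y)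

/-- The map of functions. -/
noncomputable def unitAb : Coh.toAb (Coh.structureModule Y) ⟶
    (CohTop.push f.base).obj (Coh.toAb (Coh.structureModule X)) :=
  ⟨{ app := fun U => AddCommGrpCat.ofHom ((f.app U.unop).hom.toAddMonoidHom :
        Γ(Y, U.unop) →+ Γ(X, f ⁻¹ᵁ U.unop))
     naturality := fun U V i => by
      ext m
      exact congr($(f.naturality i) m) }⟩

theorem isIso_unitAb (hfib : ∀ V : Y.Opens, IsIso (f.app V)) : IsIso (unitAb f) := by
  haveI : ∀ U, IsIso ((unitAb f).hom.app U) := fun U => by
    haveI := hfib U.unop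
    exact (ConcreteCategory.isIso_iff_bijective _).2 (ConcreteCategory.bijective_of_isIso (f.app U.unop))
  haveI : IsIso (unitAb f).hom := NatIso.isIso_of_isIso_app _
  haveI : IsIso ((sheafToPresheaf _ _).map (unitAb f)) := (inferInstance : IsIso (unitAb f).hom)
  exact isIso_of_reflects_iso (unitAb f) (sheafToPresheaf _ _)

theorem unitAb_smul (r : Γ(Y, ⊤)) :
    unitAb f ≫ (CohTop.push f.base).map (Coh.smulAb (Coh.structureModule X) (f.appTop r)) =
      Coh.smulAb (Coh.structureModule Y) r ≫ unitAb f := by
  ext U m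
  show X.presheaf.map (homOfLE (le_top (a := f ⁻¹ᵁ U.unop))).op (f.appTop r) * f.app U.unop (show Γ(Y, U.unop) from m) =
    f.app U.unop (Y.presheaf.map (homOfLE (le_top (a := U.unop))).op r * (show Γ(Y, U.unop) from m))
  rw [map_mul]
  exact congrArg (· * f.app U.unop (show Γ(Y, U.unop) from m)) (congr($(f.naturality (homOfLE (le_top (a := U.unop))).op) r)).symm

theorem finrank_le (k : Type u) [Field k] [X.Over (Spec (CommRingCat.of k))] [Y.Over (Spec (CommRingCat.of k))]
    [IsProper (X ↘ Spec (CommRingCat.of k))] (hf : f ≫ (Y ↘ Spec (CommRingCat.of k)) = X ↘ Spec (CommRingCat.of k))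
    (hfib : ∀ V : Y.Opens, IsIso (f.app V)) :
    Module.finrank k (Coh.HH Y (Coh.structureModule Y) 1) ≤ Module.finrank k (Coh.HH X (Coh.structureModule X) 1) := by
  haveI := isIso_unitAb f hfib
  let e := (CohPullX.edge f.base (Coh.toAb (Coh.structureModule X)) 1).comp (Sheaf.H.map (unitAb f) 1)
  have hinj : Function.Injective e := by
    refine (CohPullX.injective_edge_one f.base _).comp fun x y h => ?_
    have h' := congrArg (Sheaf.H.map (inv (unitAb f)) 1) h
    rwa [← Sheaf.H.map_comp_apply, ← Sheaf.H.map_comp_apply, IsIso.hom_inv_id, Sheaf.H.map_id_apply,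
      Sheaf.H.map_id_apply] at h'
  have htg : ∀ c : k, Coh.toGlobal (X ↘ Spec (CommRingCat.of k)) c =
      f.appTop (Coh.toGlobal (Y ↘ Spec (CommRingCat.of k)) c) := fun c => by
    rw [← hf]; rfl
  let el : Coh.HH Y (Coh.structureModule Y) 1 →ₗ[k] Coh.HH X (Coh.structureModule X) 1 :=
    { toFun := e
      map_add' := map_add e
      map_smul' := fun c x => by
        show CohPullX.edge f.base _ 1 (Sheaf.H.map (unitAb f) 1
            (Sheaf.H.map (Coh.smulAb _ (Coh.toGlobal (Y ↘ Spec (CommRingCat.of k)) c)) 1 x)) =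
          Sheaf.H.map (Coh.smulAb _ (Coh.toGlobal (X ↘ Spec (CommRingCat.of k)) c)) 1
            (CohPullX.edge f.base _ 1 (Sheaf.H.map (unitAb f) 1 x))
        rw [htg, ← CohPullX.edge_naturality, ← Sheaf.H.map_comp_apply, ← Sheaf.H.map_comp_apply, unitAb_smul] }
  haveI : Module.Finite k (Coh.HH X (Coh.structureModule X) 1) :=
    haveI := CurveCohLib.isNoetherian_of_proper (X := X) (k := k)
    CurveCohLib.finite_HH (QCoh.isCoh_structureModule') 1
  exact LinearMap.finrank_le_finrank_of_injective (f := el) hinj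

end Aux


/-- Let k be a field and f : X → Y a k-morphism between proper k-schemes which is a fibration (Γ(V, O_Y)
→ Γ(f⁻¹V, O_X) bijective for every open V ⊆ Y). Then H^1(Y, O_Y) injects naturally into H^1(X, O_X)
(edge map of the Leray spectral sequence); stated here as the inequality dim_k H^1(Y, O_Y) ≤ dim_k
H^1(X, O_X) of finite dimensions. -/
theorem result (k : Type u) [Field k] (X Y : Scheme.{u})
    [X.Over (Spec (CommRingCat.of k))] [Y.Over (Spec (CommRingCat.of k))] [IsProper (X ↘ Spec (CommRingCat.of k))] [IsProper (Y ↘ Spec (CommRingCat.of k))]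
    (f : X ⟶ Y) (hf : f ≫ (Y ↘ Spec (CommRingCat.of k)) = X ↘ Spec (CommRingCat.of k)) (hfib : ∀ V : Y.Opens, IsIso (f.app V)) :
    Module.finrank k (Coh.HH Y (Coh.structureModule Y) 1) ≤ Module.finrank k (Coh.HH X (Coh.structureModule X) 1) := by

    exact Aux.finrank_le f k hf hfib

end Groth.Agent.S14837
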