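import Groth.Statements.S14838
import Groth.Agent.S14828
import Groth.Agent.S14810
import Groth.Agent.S15827
import Groth.Agent.FibrePP.Push
import Groth.Agent.H28.PBCores
import Groth.Agent.H23.CoverPush
import Groth.Agent.Lib.GenFinPush
import Groth.Agent.GeomField.GlobalFunctions
import Groth.Agent.VarDim.Top
import Groth.Agent.VarDim.Local
import Groth.Agent.Pic13Lib.NumTrivBasic
import Groth.Agent.Synt29.ExtPowPull

set_option linter.style.haveILetI false
set_option maxHeartbeats 1000000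
set_option backward.isDefEq.respectTransparency false
set_option backward.isDefEq.respectTransparency.types false

set_option autoImplicit false
universe u
open CategoryTheory CategoryTheory.Limits AlgebraicGeometry
open Canon

namespace Groth.Agent.S14838

open Groth.Agent Groth.Agent.H23 Groth.Agent.Pic13Lib
open scoped Groth.Agent.H23.PicMul

/-- Local rings at closed points of an integral variety have the dimension of the variety. -/
theorem dim_stalk_closed (k : Type u) [Field k] {X : Scheme.{u}} (p : X ⟶ Spec (CommRingCat.of k))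
    [LocallyOfFiniteType p] [IrreducibleSpace X] (n : ℕ) (hn : topologicalKrullDim X = n)
    (x : X) (hx : IsClosed ({x} : Set X)) : ringKrullDim (X.presheaf.stalk x) = n := by
  obtain ⟨b, hb, ⟨η, hη, hd⟩, hle⟩ := VarDim.exists_deg_add_stalk p x
  have h0 := (VarDim.closedPoint_iff_deg_eq_zero p x).1 hx
  have hg : (genericPoint X) ⤳ η := genericPoint_specializes η
  have h1 := hle (genericPoint X) (genericPoint_specializes x)
  have h2 := VarDim.deg_le_of_specializes p hg
  have h3 := VarDim.topologicalKrullDim_eq_deg_genericPoint p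
  rw [hn] at h3
  have h4 : n = VarDim.deg p (genericPoint X) := by exact_mod_cast h3
  rw [hb]
  exact_mod_cast (show b = n by omega)

/-- A line bundle with a numerically trivial power is numerically trivial. -/
theorem isNT_of_pow (k : Type u) [Field k] {X : Scheme.{u}} [X.Over (Spec (CommRingCat.of k))]
    [IsProper (X ↘ Spec (CommRingCat.of k))] {L : X.Modules} (hL : PicF.IsInvertible L) (q : ℕ) (hq : 0 < q)
    (h : NumTriv.IsNT k (CohB1.tensorPow L q)) : NumTriv.IsNT k L := by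
  refine ⟨hL, fun W ι _ hW hd => ?_⟩
  haveI := hW
  have key : ∀ j : ℕ,
      Pic13.curveDeg k (ι ≫ (X ↘ Spec (CommRingCat.of k))) ((Scheme.Modules.pullback ι).obj (CohB1.tensorPow L j)) =
        (j : ℤ) * Pic13.curveDeg k (ι ≫ (X ↘ Spec (CommRingCat.of k))) ((Scheme.Modules.pullback ι).obj L) := by
    intro j
    induction j with
    | zero => rw [Nat.cast_zero, zero_mul]; exact Pic13Lib.curveDeg_structure ι
    | succ j ih =>
      show Pic13.curveDeg k _ ((Scheme.Modules.pullback ι).obj (CohB1.tensorMod (CohB1.tensorPow L j) L)) = _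
      rw [NumTriv.curveDeg_tensor k ι hd (PicMul.isInvertible_tensorPow hL j) hL, ih]
      push_cast
      ring
  have h1 := key q
  rw [h.2 W ι hW hd] at h1
  rcases mul_eq_zero.1 h1.symm with h2 | h2
  · omega
  · exact h2

/-- Restriction to a closed subscheme preserves numerical triviality. -/
theorem isNT_pullback (k : Type u) [Field k] {X D : Scheme.{u}} [X.Over (Spec (CommRingCat.of k))]
    [D.Over (Spec (CommRingCat.of k))] [IsProper (X ↘ Spec (CommRingCat.of k))]
    (i : D ⟶ X) [IsClosedImmersion i] (hi : i ≫ (X ↘ Spec (CommRingCat.of k)) = D ↘ Spec (CommRingCat.of k))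
    {L : X.Modules} (h : NumTriv.IsNT k L) : NumTriv.IsNT k ((Scheme.Modules.pullback i).obj L) := by
  refine ⟨PicClLib.isInvertible_pullback i h.1, fun W ι _ hW hd => ?_⟩
  refine (NumTriv.curveDeg_congr k (ι ≫ (D ↘ Spec (CommRingCat.of k))) ((Scheme.Modules.pullbackComp ι i).app L)).trans ?_
  rw [← hi, ← Category.assoc]
  exact h.2 W (ι ≫ i) hW hd

/-- Let k be a field and X an integral proper k-scheme of dimension n which is Gorenstein: every local
ring is Cohen–Macaulay and X carries an invertible dualizing sheaf (ω_X, tr_X) in degree n (Hom(F,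
ω_X) → H^n(X, F)^∨ bijective for all quasi-coherent F); assume ω_X is numerically trivial. Let i : D
→ X be an integral effective Cartier divisor (integral closed subscheme with invertible ideal sheaf
I; O_X(D) an inverse of I) with a dualizing sheaf (ω_D, tr_D) in degree n − 1, let Y be a proper
k-scheme and f : X → Y a surjective k-morphism, and let m₁, m₂, m₃ ≥ 1 be integers with: (i)
ω_D^{⊗m₁} ≅ O_D and O_D(m₂D) = (O_X(D)|_D)^{⊗m₂} has a nonzero global section; (ii) ω_X^{⊗m₃} ≅ f^*N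
for some invertible O_Y-module N; (iii) the restriction f|_D factors as D → Z → Y with O_Z → α_*O_D
an isomorphism and β : Z → Y finite locally free of constant degree r (a flat Stein factorisation).
Then ω_X^{⊗(r·lcm(m₁,m₂,m₃))} ≅ O_X; thus ω_X has finite order in Pic(X) dividing r·lcm(m₁,m₂,m₃).
(The published statement prints the bound r·lcm(m₁, m₂, m₂); its proof takes m to be a common
multiple for which (i) and (ii) hold with m in place of m₁, m₂ and m₃, i.e. m = lcm(m₁, m₂, m₃),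
which is the bound this row states.) -/
theorem result (k : Type u) [Field k]
    (X : Scheme.{u}) [X.Over (Spec (CommRingCat.of k))] [IsProper (X ↘ Spec (CommRingCat.of k))] [IsIntegral X] (n : ℕ) (hn : topologicalKrullDim ↥X = n)
    (hCM : ∀ x : X, LocCoh.IsCohenMacaulayLocalRing (X.presheaf.stalk x))
    (ωX : X.Modules) (trX : Coh.HH X ωX n →ₗ[k] k) (hωX : Canon.IsRDualOver k X n ωX trX) (hωXinv : PicF.IsInvertible ωX)
    (hnum : Pic13.IsNumEquivZero k X ωX)
    (D : Scheme.{u}) (i : D ⟶ X) [IsClosedImmersion i] [IsIntegral D] (hI : PicF.IsInvertible (ClSub.idealMod i.ker))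
    (OD : X.Modules) (hOD : ClSub.IsInverseOf OD (ClSub.idealMod i.ker))
    (Y : Scheme.{u}) [Y.Over (Spec (CommRingCat.of k))] [IsProper (Y ↘ Spec (CommRingCat.of k))] (f : X ⟶ Y) [Surjective f] (hf : f ≫ (Y ↘ Spec (CommRingCat.of k)) = X ↘ Spec (CommRingCat.of k))
    (m₁ m₂ m₃ : ℕ) (hm₁ : 0 < m₁) (hm₂ : 0 < m₂) (hm₃ : 0 < m₃)
    (N : Y.Modules) (hN : PicF.IsInvertible N) (hii : Nonempty (CohB1.tensorPow ωX m₃ ≅ (Scheme.Modules.pullback f).obj N))
    (Z : Scheme.{u}) (α : D ⟶ Z) (β : Z ⟶ Y) (hαβ : α ≫ β = i ≫ f) (hα : ∀ V : Z.Opens, IsIso (α.app V))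
    (r : ℕ) (hβ : Mor2.IsFinLocFreeOfDeg r β) :
    letI : D.Over (Spec (CommRingCat.of k)) := ⟨i ≫ (X ↘ Spec (CommRingCat.of k))⟩
    ∀ (ωD : D.Modules) (trD : Coh.HH D ωD (n - 1) →ₗ[k] k), Canon.IsRDualOver k D (n - 1) ωD trD →
      Nonempty (CohB1.tensorPow ωD m₁ ≅ Coh.structureModule D) →
      ∀ (s : Coh.structureModule D ⟶ CohB1.tensorPow ((Scheme.Modules.pullback i).obj OD) m₂), s ≠ 0 →
        Nonempty (CohB1.tensorPow ωX (r * Nat.lcm m₁ (Nat.lcm m₂ m₃)) ≅ Coh.structureModule X) := by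
  letI : D.Over (Spec (CommRingCat.of k)) := ⟨i ≫ (X ↘ Spec (CommRingCat.of k))⟩
  haveI : IsProper (D ↘ Spec (CommRingCat.of k)) := (inferInstance : IsProper (i ≫ (X ↘ Spec (CommRingCat.of k))))
  intro ωD trD hωD htors s hs
  obtain ⟨eD⟩ := (S14828.result k X n hn hCM
    (fun x hx => dim_stalk_closed k (X ↘ Spec (CommRingCat.of k)) n hn x hx) ωX trX hωX D i hI OD hOD).2 ωD trD hωD
  obtain ⟨eN⟩ := hii
  have hODi : PicF.IsInvertible OD := (CurveOnSurf.isInvertible_of_inverse hI hOD).1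
  let a := PicF.pullCl i (PicF.cl ωX)
  let b := PicF.pullCl i (PicF.cl OD)
  let A := (Scheme.Modules.pullback i).obj ωX
  let B := (Scheme.Modules.pullback i).obj OD
  have hA : PicF.IsInvertible A := PicClLib.isInvertible_pullback i hωXinv
  have hB : PicF.IsInvertible B := PicClLib.isInvertible_pullback i hODi
  have hab : PicF.cl ωD = b * a := by
    rw [PicMul.cl_eq_iff.2 ⟨eD⟩]
    show PicF.pullCl i (PicF.cl (CohB1.tensorMod OD ωX)) = _
    rw [PicMul.cl_tensor, PicMul.pullCl_mul]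
  let l := Nat.lcm m₁ (Nat.lcm m₂ m₃)
  have hl : 0 < l := Nat.pos_of_ne_zero (Nat.lcm_ne_zero hm₁.ne' (Nat.lcm_ne_zero hm₂.ne' hm₃.ne'))
  obtain ⟨q₁, hq₁⟩ : m₁ ∣ l := Nat.dvd_lcm_left _ _
  obtain ⟨q₂, hq₂⟩ : m₂ ∣ l := (Nat.dvd_lcm_left _ _).trans (Nat.dvd_lcm_right _ _)
  obtain ⟨q₃, hq₃⟩ : m₃ ∣ l := (Nat.dvd_lcm_right _ _).trans (Nat.dvd_lcm_right _ _)
  have hba : b ^ l * a ^ l = 1 := by
    obtain ⟨e⟩ := htors
    have h1 : (b * a) ^ m₁ = 1 := by
      rw [← hab, ← PicMul.cl_tensorPow, PicMul.one_def]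
      exact PicMul.cl_eq_iff.2 ⟨e⟩
    rw [← mul_pow, hq₁, pow_mul, h1, one_pow]
  -- the divisor is numerically trivial on itself
  have hAnt : NumTriv.IsNT k A := isNT_pullback k i rfl ⟨hωXinv, hnum⟩
  have hBnt : NumTriv.IsNT k (CohB1.tensorPow B m₂) := by
    refine isNT_of_pow k (PicMul.isInvertible_tensorPow hB m₂) q₂
      (Nat.pos_of_ne_zero fun h => hl.ne' (by rw [hq₂, h, mul_zero])) ?_
    refine (hAnt.pow k l).inverse k (PicMul.isInvertible_tensorPow (PicMul.isInvertible_tensorPow hB m₂) q₂) ?_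
    rw [PicMul.cl_tensorPow, PicMul.cl_tensorPow, PicMul.cl_tensorPow, ← pow_mul, ← hq₂]
    show a ^ l * b ^ l = 1
    rw [mul_comm]
    exact hba
  haveI : ConnectedSpace ↥D := inferInstance
  obtain ⟨eB⟩ := S14810.result k D (GeomField.isField_globalFunctions k D) (CohB1.tensorPow B m₂) hBnt.1 hBnt.2 s hs
  have hbl : b ^ l = 1 := by
    have h1 : b ^ m₂ = 1 := by
      show PicF.cl B ^ m₂ = 1
      rw [← PicMul.cl_tensorPow, PicMul.one_def]
      exact PicMul.cl_eq_iff.2 ⟨eB⟩
    rw [hq₂, pow_mul, h1, one_pow]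
  have hal : a ^ l = 1 := by rwa [hbl, one_mul] at hba
  -- descend to `Z`
  let Nq := CohB1.tensorPow N q₃
  have hNq : PicF.IsInvertible Nq := PicMul.isInvertible_tensorPow hN q₃
  have hXl : PicF.cl ωX ^ l = PicF.pullCl f (PicF.cl Nq) := by
    rw [hq₃, pow_mul, ← PicMul.cl_tensorPow, PicMul.cl_eq_iff.2 ⟨eN⟩, PicMul.cl_tensorPow, PicMul.pullCl_pow]
    rfl
  let M := (Scheme.Modules.pullback β).obj Nq
  have hM : PicF.IsInvertible M := PicClLib.isInvertible_pullback β hNq
  obtain ⟨eαM⟩ : Nonempty ((Scheme.Modules.pullback α).obj M ≅ (Scheme.Modules.pullback α).obj (Coh.structureModule Z)) := by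
    refine PicMul.cl_eq_iff.1 ?_
    show PicF.pullCl α (PicF.pullCl β (PicF.cl Nq)) = PicF.pullCl α (PicF.cl (Coh.structureModule Z))
    rw [PicClLib.pullCl_comp, hαβ, ← PicClLib.pullCl_comp, ← hXl, PicMul.pullCl_pow, ← PicMul.one_def,
      PicMul.pullCl_one]
    exact hal
  obtain ⟨eM⟩ := FibrePP.nonempty_iso_of_pullback α
    (fun V => haveI := hα V; ConcreteCategory.bijective_of_isIso (α.app V)) hM InvX.isInvertible_structureModule eαM
  -- take determinants on `Y`
  obtain ⟨⟨h1, h2, h3⟩, hrank⟩ := hβ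
  haveI := h1; haveI := h2; haveI := h3
  let E := (Scheme.Modules.pushforward β).obj (Coh.structureModule Z)
  have hE : FlatMod.IsFinLocFreeOfRank r E :=
    H23.CoverPush.isFinLocFreeOfRank_push_of_isCover β ⟨⟨inferInstance, inferInstance, inferInstance⟩, hrank⟩
  have hElf : FlatMod.IsFinLocFree E := fun y => by
    obtain ⟨U, hy, he⟩ := hE y
    exact ⟨U, r, hy, he⟩
  have hNr := H28.PBCores.isInvertible_iff_rank.1 hNq
  have hNlf : FlatMod.IsFinLocFree Nq := fun y => by
    obtain ⟨U, hy, he⟩ := hNr y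
    exact ⟨U, 1, hy, he⟩
  obtain ⟨eP⟩ := GenFinPush.nonempty_projection β hNlf
  let eE : E ≅ CohB1.tensorMod E Nq := ((Scheme.Modules.pushforward β).mapIso eM.symm) ≪≫ eP.symm
  have hdet : ExtPow.IsExtPow r E (H28.ExtBase.L E r) := H28.ExtSh.isExtPow_L r hElf
  obtain ⟨eL⟩ := S15827.result E Nq hElf hNr r _ _ (Synt29.ExtPowPull.isExtPow_of_iso eE hdet) hdet
  have hnr : PicF.cl Nq ^ r = 1 := by
    have hu : IsUnit (PicF.cl (H28.ExtBase.L E r)) :=
      PicMul.isUnit_cl (H28.PBCores.isInvertible_iff_rank.2 (H28.PBCores.rank_top hE))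
    refine hu.mul_left_cancel ?_
    rw [mul_one, ← PicMul.cl_tensorPow, ← PicMul.cl_tensor]
    exact (PicMul.cl_eq_iff.2 ⟨eL⟩).symm
  refine PicMul.cl_eq_iff.1 ?_
  rw [PicMul.cl_tensorPow, ← PicMul.one_def, mul_comm r, pow_mul, hXl, ← PicMul.pullCl_pow, hnr, PicMul.pullCl_one]
end Groth.Agent.S14838
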