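import Groth.Statements.S14839
import Groth.Agent.ComodLib.Coalg
-- import your own Groth.Agent.* helpers here

set_option autoImplicit false
universe u v
open HopfRep

namespace Groth.Agent.S14839

open TensorProduct in
/-- Over a field K, every simple coalgebra is finite-dimensional. Here a subcoalgebra of C is a subspace
B whose comultiplication lands in the image of B ⊗ B in C ⊗ C, and C is simple when it is nonzero
and its only subcoalgebras are 0 and C. -/
theorem result {K : Type u} {C : Type v} [Field K] [AddCommGroup C]
    [Module K C] [Coalgebra K C] [Nontrivial C]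
    (hsimple : ∀ B : Submodule K C,
      (∀ b ∈ B, CoalgebraStruct.comul (R := K) b ∈ LinearMap.range (TensorProduct.map B.subtype B.subtype)) →
        B = ⊥ ∨ B = ⊤) :
    Module.Finite K C := by
  open Groth.Agent.ComodLib in
  obtain ⟨S, -, hSf, hS, hS0, hmin⟩ := exists_simple_le (isSubcomod_top (k := K) (C := C) (V := C)) top_ne_bot
  letI : HopfRep.Comod K C S := ComodSub.Comod.restr (HopfRep.Comod.regular K C) S hS
  haveI : Nontrivial S := Submodule.nontrivial_iff_ne_bot.mpr hS0
  haveI := Groth.Agent.ComodLib.finite_coeffSpace (k := K) (C := C) (V := S)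
  rcases hsimple _ (Groth.Agent.ComodLib.isSubcoalg_coeffSpace (k := K) (C := C) (V := S)) with h | h
  · exact absurd h Groth.Agent.ComodLib.coeffSpace_ne_bot
  · exact Module.Finite.equiv (LinearEquiv.ofTop _ h)

end Groth.Agent.S14839
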