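import Groth.Statements.S1484
import Mathlib

set_option autoImplicit false
universe u
open FlatMor

namespace Groth.Agent.S1484

/-- Let R be a ring, p_1, …, p_r primes of R none of which is contained in another, k_i ⊆ κ(p_i)
subfields over which κ(p_i) is not algebraic, and J an ideal of R contained in none of the p_i. Then
some x ∈ J has image in κ(p_i) transcendental over k_i for every i. -/
theorem result {R : Type u} [CommRing R] {r : ℕ} (p : Fin r → Ideal R) [∀ i, (p i).IsPrime]
    (hp : ∀ i j, i ≠ j → ¬ p i ≤ p j) (k : ∀ i, Subfield (p i).ResidueField)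
    (hk : ∀ i, ¬ Algebra.IsAlgebraic ↥(k i) (p i).ResidueField) (J : Ideal R) (hJ : ∀ i, ¬ J ≤ p i) :
    ∃ x ∈ J, ∀ i, Transcendental ↥(k i) (algebraMap R (p i).ResidueField x) := by
  classical
  have h : ∀ i, ∃ x : R, x ∈ J ∧ (∀ j, j ≠ i → x ∈ p j) ∧ Transcendental ↥(k i) (algebraMap R (p i).ResidueField x) := by
    intro i
    obtain ⟨y, hy1, hy2, hyi⟩ : ∃ y, y ∈ J ∧ (∀ j, j ≠ i → y ∈ p j) ∧ y ∉ p i := by
      by_contra hcon
      push_neg at hcon
      have : (J * ∏ j ∈ Finset.univ.erase i, p j) ≤ p i := by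
        intro z hz
        refine hcon z (Ideal.mul_le_left (I := J) hz) (fun j hj => ?_)
        exact (Ideal.le_of_dvd (Finset.dvd_prod_of_mem _ (Finset.mem_erase.mpr ⟨hj, Finset.mem_univ j⟩))) (Ideal.mul_le_right (I := J) hz)
      rcases (Ideal.IsPrime.mul_le (inferInstance : (p i).IsPrime)).mp this with h | h
      · exact hJ i h
      · obtain ⟨j, hj, hle⟩ := (Ideal.IsPrime.prod_le (inferInstance : (p i).IsPrime)).mp h
        exact hp j i (Finset.mem_erase.mp hj).1 hle
    by_cases hyt : Transcendental ↥(k i) (algebraMap R (p i).ResidueField y)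
    · exact ⟨y, hy1, hy2, hyt⟩
    obtain ⟨r, hr⟩ : ∃ r : R, Transcendental ↥(k i) (algebraMap R (p i).ResidueField r) := by
      by_contra hcon
      push_neg at hcon
      refine hk i ⟨fun z => ?_⟩
      obtain ⟨a, b, hb, rfl⟩ := IsFractionRing.div_surjective (A := R ⧸ p i) z
      obtain ⟨a, rfl⟩ := Ideal.Quotient.mk_surjective a
      obtain ⟨b, rfl⟩ := Ideal.Quotient.mk_surjective b
      have ha := hcon a
      have hb := hcon b
      simp only [Transcendental, not_not] at ha hb
      rw [div_eq_mul_inv]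
      exact ha.mul hb.inv
    refine ⟨r * y, Ideal.mul_mem_left _ _ hy1, fun j hj => Ideal.mul_mem_left _ _ (hy2 j hj), fun halg => ?_⟩
    simp only [Transcendental, not_not] at hyt
    have hy0 : algebraMap R (p i).ResidueField y ≠ 0 := fun h => hyi (Ideal.algebraMap_residueField_eq_zero.mp h)
    refine hr ?_
    have := halg.mul hyt.inv
    rw [map_mul, mul_assoc, mul_inv_cancel₀ hy0, mul_one] at this
    exact this
  choose x hxJ hxp hxt using h
  refine ⟨∑ j, x j, Ideal.sum_mem _ (fun j _ => hxJ j), fun i => ?_⟩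
  rw [map_sum, Finset.sum_eq_single i (fun j _ hj => Ideal.algebraMap_residueField_eq_zero.mpr (hxp j i (Ne.symm hj))) (fun h => absurd (Finset.mem_univ i) h)]
  exact hxt i

end Groth.Agent.S1484
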