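import Groth.Statements.S14841
import Groth.Agent.ComodLib.Coalg
-- import your own Groth.Agent.* helpers here

set_option autoImplicit false
universe u v w
open HopfRep

namespace Groth.Agent.S14841

open TensorProduct in
/-- Over a field K, let C be a coalgebra and E a simple right C-comodule, and let D be the coefficient
space of E, the least subspace D' of C such that the coaction of E lands in E ⊗ D'. Then D is a
simple subcoalgebra of C: it is nonzero, its comultiplication lands in the image of D ⊗ D, and any
subcoalgebra of C contained in D is 0 or D. Here a subcoalgebra of C is a subspace B whose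
comultiplication lands in the image of B ⊗ B, and a simple subcoalgebra is a nonzero subcoalgebra D
whose only subcoalgebras contained in D are 0 and D. (Stated for right comodules; the published
statement is for left comodules, with D' ⊗ E in place of E ⊗ D'.) -/
theorem result {K : Type u} {C : Type v} [Field K]
    [AddCommGroup C] [Module K C] [Coalgebra K C]
    {E : Type w} [AddCommGroup E] [Module K E] [HopfRep.Comod K C E]
    (hE : HopfRep.IsSimpleComod K C E) (D : Submodule K C)
    (hD : IsLeast {D' : Submodule K C |
      ∀ e : E, HopfRep.Comod.coact (k := K) (A := C) e ∈ LinearMap.range (LinearMap.lTensor E D'.subtype)} D) :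
    D ≠ ⊥ ∧ (∀ b ∈ D, CoalgebraStruct.comul (R := K) b ∈ LinearMap.range (TensorProduct.map D.subtype D.subtype)) ∧
      ∀ B : Submodule K C, B ≤ D → (∀ b ∈ B, CoalgebraStruct.comul (R := K) b ∈ LinearMap.range (TensorProduct.map B.subtype B.subtype)) → B = ⊥ ∨ B = D := by
  obtain rfl := hD.unique Groth.Agent.ComodLib.isLeast_coeffSpace
  haveI := hE.1
  exact ⟨Groth.Agent.ComodLib.coeffSpace_ne_bot, Groth.Agent.ComodLib.isSubcoalg_coeffSpace,
    fun B hB hBs => Groth.Agent.ComodLib.isSimpleSubcoalg_coeffSpace hE hB hBs⟩

end Groth.Agent.S14841
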