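import Groth.Statements.S14842
import Groth.Agent.ComodLib.Coalg
-- import your own Groth.Agent.* helpers here

set_option autoImplicit false
universe u v
open HopfRep

namespace Groth.Agent.S14842

open TensorProduct in
/-- Over a field K, every simple subcoalgebra D of a coalgebra C is the coefficient space of a simple
comodule. Precisely: there is a subspace E of C contained in D which is a simple subcomodule of the
regular right comodule C (E is nonzero, stable under the coaction, and its only subcomodules are 0
and E) and such that D is the least subspace D' of C with comul(E) inside the image of E ⊗ D'. Here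
a subcoalgebra of C is a subspace B whose comultiplication lands in the image of B ⊗ B, and a simple
subcoalgebra is a nonzero subcoalgebra D whose only subcoalgebras contained in D are 0 and D.
(Stated for right comodules; the published statement is for left comodules.) -/
theorem result {K : Type u} {C : Type v} [Field K]
    [AddCommGroup C] [Module K C] [Coalgebra K C]
    (D : Submodule K C) (hD0 : D ≠ ⊥) (hD : (∀ b ∈ D, CoalgebraStruct.comul (R := K) b ∈ LinearMap.range (TensorProduct.map D.subtype D.subtype)))
    (hDs : ∀ B : Submodule K C, B ≤ D → (∀ b ∈ B, CoalgebraStruct.comul (R := K) b ∈ LinearMap.range (TensorProduct.map B.subtype B.subtype)) → B = ⊥ ∨ B = D) :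
    ∃ E : Submodule K C, E ≤ D ∧ E ≠ ⊥ ∧ HopfRep.IsSubcomod (k := K) (A := C) E ∧
      (∀ E' : Submodule K C, E' ≤ E → HopfRep.IsSubcomod (k := K) (A := C) E' → E' = ⊥ ∨ E' = E) ∧
      IsLeast {D' : Submodule K C |
        ∀ e ∈ E, CoalgebraStruct.comul (R := K) e ∈ LinearMap.range (TensorProduct.map E.subtype D'.subtype)} D := by
  obtain ⟨E, hED, -, hE, hE0, hmin⟩ :=
    Groth.Agent.ComodLib.exists_simple_le ((Groth.Agent.ComodLib.isSubcoalg_iff D).mp hD).1 hD0
  refine ⟨E, hED, hE0, hE, fun E' h1 h2 => hmin E' h2 h1, ?_⟩
  letI : HopfRep.Comod K C E := ComodSub.Comod.restr (HopfRep.Comod.regular K C) E hE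
  have hDE := Groth.Agent.ComodLib.eq_coeffSpace_of_minimal ⟨hD0, hD, hDs⟩ ⟨hE, hE0, hmin⟩ hED
  have hiff : ∀ (D' : Submodule K C),
      (∀ e ∈ E, CoalgebraStruct.comul (R := K) e ∈ LinearMap.range (TensorProduct.map E.subtype D'.subtype)) ↔
        ∀ e : E, HopfRep.Comod.coact (k := K) (A := C) e ∈ LinearMap.range (LinearMap.lTensor E D'.subtype) := fun D' => by
    rw [← LinearMap.rTensor_comp_lTensor]
    constructor
    · intro h e
      obtain ⟨z, hz⟩ := h e e.2
      exact ⟨z, ComodSub.rTensor_subtype_injective (A := C) E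
        (hz.trans (ComodSub.restr_coact_coe (HopfRep.Comod.regular K C) E hE e).symm)⟩
    · intro h e he
      obtain ⟨z, hz⟩ := h ⟨e, he⟩
      refine ⟨z, ?_⟩
      rw [LinearMap.comp_apply, hz]
      exact ComodSub.restr_coact_coe (HopfRep.Comod.regular K C) E hE ⟨e, he⟩
  rw [hDE]
  exact ⟨(hiff _).mpr Groth.Agent.ComodLib.isLeast_coeffSpace.1,
    fun D' hD' => Groth.Agent.ComodLib.isLeast_coeffSpace.2 ((hiff D').mp hD')⟩

end Groth.Agent.S14842
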