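import Groth.Statements.S14843
import Groth.Agent.ComodLib.Coalg
-- import your own Groth.Agent.* helpers here

set_option autoImplicit false
universe u v
open HopfRep

namespace Groth.Agent.S14843

open TensorProduct in
/-- Over a field K, a coalgebra C is cosemisimple, i.e. C is the internal direct sum of a family of
simple subcoalgebras, if and only if every right C-comodule is completely reducible (every
subcomodule admits a complementary subcomodule). Here a subcoalgebra of C is a subspace B whose
comultiplication lands in the image of B ⊗ B, and a simple subcoalgebra is a nonzero subcoalgebra D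
whose only subcoalgebras contained in D are 0 and D. (Comodules are quantified in the universe of C;
the published statement is for left comodules, and the equivalence of 'direct sum of simple
subcomodules' with 'every subcomodule is a direct summand' is the standard one.) -/
theorem result {K : Type u} {C : Type v} [Field K]
    [AddCommGroup C] [Module K C] [Coalgebra K C] :
    (∃ (ι : Type v) (D : ι → Submodule K C), iSupIndep D ∧ iSup D = ⊤ ∧ ∀ i,
        D i ≠ ⊥ ∧ (∀ b ∈ D i, CoalgebraStruct.comul (R := K) b ∈ LinearMap.range (TensorProduct.map (D i).subtype (D i).subtype)) ∧
        ∀ B : Submodule K C, B ≤ D i → (∀ b ∈ B, CoalgebraStruct.comul (R := K) b ∈ LinearMap.range (TensorProduct.map B.subtype B.subtype)) → B = ⊥ ∨ B = D i) ↔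
      ∀ (V : Type v) [AddCommGroup V] [Module K V] [HopfRep.Comod K C V],
        HopfRep.IsSemisimpleComod K C V := by
  constructor
  · rintro ⟨ι, D, -, htop, hD⟩ V _ _ _
    exact Groth.Agent.ComodLib.isSemisimpleComod_of_regular
      (Groth.Agent.ComodLib.isSemisimpleComod_regular_of_simpleSubcoalg hD htop)
  · intro h
    exact Groth.Agent.ComodLib.exists_simpleSubcoalg_decomposition (h C)

end Groth.Agent.S14843
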