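import Groth.Statements.S14844
import Mathlib.Algebra.DirectSum.Module
import Mathlib.RingTheory.Flat.Basic
-- import your own Groth.Agent.* helpers here

set_option autoImplicit false
universe u v w w'
open HopfRep DirectSum

namespace Groth.Agent.S14844

open TensorProduct in
/-- Let R be a commutative ring and C an R-coalgebra, flat over R, which is the internal direct sum of
subcoalgebras D_i (submodules whose comultiplication lands in the image of D_i ⊗ D_i, independent
and with supremum C). Then every right C-comodule V is the internal direct sum of the subcomodules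
V_i, where V_i is the preimage under the coaction of the image of V ⊗ D_i in V ⊗ C, and the coaction
maps V_i into the image of V_i ⊗ D_i, so that the comodule structure of V_i reduces to a
D_i-comodule structure. (The published statement is for a flat sheaf of coalgebras over a base
scheme and left comodules on a scheme over it; this row is the case of an affine base with modules
of global sections, for right comodules.) -/
theorem result {R : Type u} {C : Type v} [CommRing R]
    [AddCommGroup C] [Module R C] [Coalgebra R C] [Module.Flat R C]
    {ι : Type w} (D : ι → Submodule R C)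
    (hD : ∀ i, ∀ d ∈ D i, CoalgebraStruct.comul (R := R) d ∈
      LinearMap.range (TensorProduct.map (D i).subtype (D i).subtype))
    (hind : iSupIndep D) (htop : iSup D = ⊤)
    {V : Type w'} [AddCommGroup V] [Module R V] [HopfRep.Comod R C V] :
    (∀ i, HopfRep.IsSubcomod (k := R) (A := C) ((LinearMap.range (LinearMap.lTensor V (D i).subtype)).comap
        (HopfRep.Comod.coact (k := R) (A := C) (V := V)))) ∧
    iSupIndep (fun i => ((LinearMap.range (LinearMap.lTensor V (D i).subtype)).comap
        (HopfRep.Comod.coact (k := R) (A := C) (V := V)))) ∧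
    (⨆ i, ((LinearMap.range (LinearMap.lTensor V (D i).subtype)).comap
        (HopfRep.Comod.coact (k := R) (A := C) (V := V)))) = ⊤ ∧
    ∀ i, ∀ v ∈ ((LinearMap.range (LinearMap.lTensor V (D i).subtype)).comap
        (HopfRep.Comod.coact (k := R) (A := C) (V := V))),
      HopfRep.Comod.coact (k := R) (A := C) v ∈
        LinearMap.range (TensorProduct.map ((LinearMap.range (LinearMap.lTensor V (D i).subtype)).comap
        (HopfRep.Comod.coact (k := R) (A := C) (V := V))).subtype (D i).subtype) := by
  classical
  have hint : DirectSum.IsInternal D :=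
    (DirectSum.isInternal_submodule_iff_iSupIndep_and_iSup_eq_top D).mpr ⟨hind, htop⟩
  let e : (⨁ i, D i) ≃ₗ[R] C := LinearEquiv.ofBijective (DirectSum.coeLinearMap D) hint
  let p : ι → C →ₗ[R] C := fun i =>
    (D i).subtype ∘ₗ DirectSum.component R ι (fun i => D i) i ∘ₗ e.symm.toLinearMap
  have hp_mem : ∀ i, ∀ c ∈ D i, ∀ j, p j c = if i = j then c else 0 := fun i c hc j => by
    have h1 : e.symm c = DirectSum.lof R ι (fun i => D i) i ⟨c, hc⟩ := by
      rw [LinearEquiv.symm_apply_eq]
      exact (DirectSum.coeLinearMap_of D i ⟨c, hc⟩).symm
    simp only [p, LinearMap.comp_apply, LinearEquiv.coe_coe, h1]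
    split
    · next h => subst h; simp
    · next h => rw [DirectSum.component.of, dif_neg h]; simp
  have hpd : ∀ i (c : C), p i c ∈ D i := fun i c => Submodule.coe_mem _
  have hspan : ∀ c : C, ∃ s : Finset ι, ∑ i ∈ s, p i c = c := fun c => by
    refine ⟨(e.symm c).support, ?_⟩
    conv_rhs => rw [← e.apply_symm_apply c, ← DirectSum.sum_support_of (e.symm c)]
    rw [map_sum]
    refine Finset.sum_congr rfl fun i _ => ?_
    exact (DirectSum.coeLinearMap_of D i _).symm
  let ep : ι → C →ₗ[R] R := fun i => Coalgebra.counit ∘ₗ p i
  have hcp : ∀ i (c : C), TensorProduct.lid R C ((ep i).rTensor C (Coalgebra.comul (R := R) c)) = p i c := fun i c => by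
    have hj : ∀ j, ∀ d ∈ D j,
        TensorProduct.lid R C ((ep i).rTensor C (Coalgebra.comul (R := R) d)) = p i d := fun j d hd => by
      obtain ⟨z, hz⟩ := hD j d hd
      rw [hp_mem j d hd i]
      by_cases hji : j = i
      · subst hji
        rw [if_pos rfl]
        have h1 := congrArg (TensorProduct.lid R C) (Coalgebra.rTensor_counit_comul (R := R) d)
        rw [TensorProduct.lid_tmul, one_smul] at h1
        refine Eq.trans ?_ h1
        rw [← hz]
        clear hz h1
        induction z using TensorProduct.induction_on with
        | zero => simp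
        | add x y hx hy => simp only [map_add, hx, hy]
        | tmul x y => simp [ep, hp_mem j x x.2]
      · rw [if_neg hji, ← hz]
        clear hz
        induction z using TensorProduct.induction_on with
        | zero => simp
        | add x y hx hy => simp only [map_add, hx, hy, add_zero]
        | tmul x y => simp [ep, hp_mem j x x.2, hji]
    obtain ⟨s, hs⟩ := hspan c
    rw [← hs, map_sum, map_sum, map_sum, map_sum]
    exact Finset.sum_congr rfl fun j _ => hj j _ (hpd j c)
  have hcp' : ∀ i (c : C), TensorProduct.rid R C ((ep i).lTensor C (Coalgebra.comul (R := R) c)) = p i c := fun i c => by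
    have hj : ∀ j, ∀ d ∈ D j,
        TensorProduct.rid R C ((ep i).lTensor C (Coalgebra.comul (R := R) d)) = p i d := fun j d hd => by
      obtain ⟨z, hz⟩ := hD j d hd
      rw [hp_mem j d hd i]
      by_cases hji : j = i
      · subst hji
        rw [if_pos rfl]
        have h1 := congrArg (TensorProduct.rid R C) (Coalgebra.lTensor_counit_comul (R := R) d)
        rw [TensorProduct.rid_tmul, one_smul] at h1
        refine Eq.trans ?_ h1
        rw [← hz]
        clear hz h1
        induction z using TensorProduct.induction_on with
        | zero => simp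
        | add x y hx hy => simp only [map_add, hx, hy]
        | tmul x y => simp [ep, hp_mem j y y.2]
      · rw [if_neg hji, ← hz]
        clear hz
        induction z using TensorProduct.induction_on with
        | zero => simp
        | add x y hx hy => simp only [map_add, hx, hy, add_zero]
        | tmul x y => simp [ep, hp_mem j y y.2, hji]
    obtain ⟨s, hs⟩ := hspan c
    rw [← hs, map_sum, map_sum, map_sum, map_sum]
    exact Finset.sum_congr rfl fun j _ => hj j _ (hpd j c)
  let ρ : V →ₗ[R] V ⊗[R] C := HopfRep.Comod.coact (k := R) (A := C)
  let q : ι → V →ₗ[R] V := fun i => (TensorProduct.rid R V).toLinearMap ∘ₗ (ep i).lTensor V ∘ₗ ρ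
  have hq2 : ∀ i v, (q i).rTensor C (ρ v) = (p i).lTensor V (ρ v) := fun i v => by
    have hc := congrArg (fun z => ((TensorProduct.lid R C).toLinearMap ∘ₗ (ep i).rTensor C).lTensor V z)
      (LinearMap.congr_fun (HopfRep.Comod.coassoc (k := R) (A := C) (V := V)) v)
    simp only [LinearMap.comp_apply, LinearEquiv.coe_coe] at hc
    refine Eq.trans ?_ (hc.trans ?_)
    · induction ρ v using TensorProduct.induction_on with
      | zero => simp
      | add x y hx hy => simp only [map_add, hx, hy]
      | tmul x c =>
        rw [LinearMap.rTensor_tmul, LinearMap.rTensor_tmul]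
        show (TensorProduct.rid R V ((ep i).lTensor V (ρ x))) ⊗ₜ[R] c = _
        induction ρ x using TensorProduct.induction_on with
        | zero => simp
        | add a b ha hb => simp only [map_add, TensorProduct.add_tmul, ha, hb]
        | tmul a b => simp [TensorProduct.smul_tmul]
    · show _ = (p i).lTensor V (ρ v)
      induction ρ v using TensorProduct.induction_on with
      | zero => simp
      | add x y hx hy => simp only [map_add, hx, hy]
      | tmul x c => simp [hcp]
  have hq1 : ∀ i v, ρ (q i v) = (q i).rTensor C (ρ v) := fun i v => by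
    have hnat : ∀ z : V ⊗[R] C, ρ (TensorProduct.rid R V ((ep i).lTensor V z)) =
        (TensorProduct.rid R (V ⊗[R] C)) ((ep i).lTensor (V ⊗[R] C) (ρ.rTensor C z)) := fun z => by
      induction z using TensorProduct.induction_on with
      | zero => simp
      | add x y hx hy => simp only [map_add, hx, hy]
      | tmul x c => simp
    show ρ (TensorProduct.rid R V ((ep i).lTensor V (ρ v))) = _
    rw [hnat, hq2]
    have hc := congrArg (TensorProduct.assoc R V C C).symm
      (LinearMap.congr_fun (HopfRep.Comod.coassoc (k := R) (A := C) (V := V)) v)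
    simp only [LinearMap.comp_apply, LinearEquiv.coe_coe, LinearEquiv.symm_apply_apply] at hc
    rw [hc]
    induction ρ v using TensorProduct.induction_on with
    | zero => simp
    | add x y hx hy => simp only [map_add, hx, hy]
    | tmul x c =>
      rw [LinearMap.lTensor_tmul, LinearMap.lTensor_tmul, ← hcp' i c]
      induction Coalgebra.comul (R := R) c using TensorProduct.induction_on with
      | zero => simp
      | add a b ha hb => simp only [TensorProduct.tmul_add, map_add, ha, hb]
      | tmul a b => simp
  let U : ι → Submodule R V := fun i => (LinearMap.range (LinearMap.lTensor V (D i).subtype)).comap ρ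
  have hpr : ∀ i (z : V ⊗[R] C), (p i).lTensor V z ∈ LinearMap.range (LinearMap.lTensor V (D i).subtype) := fun i z =>
    ⟨((p i).codRestrict (D i) (hpd i)).lTensor V z, by
      rw [← LinearMap.comp_apply, ← LinearMap.lTensor_comp]
      rfl⟩
  have hfixU : ∀ i j, ∀ v ∈ U i, (p j).lTensor V (ρ v) = if i = j then ρ v else 0 := fun i j v hv => by
    obtain ⟨z, hz⟩ := hv
    rw [← hz]
    clear hz
    induction z using TensorProduct.induction_on with
    | zero => simp
    | tmul x c =>
      rw [LinearMap.lTensor_tmul, LinearMap.lTensor_tmul, Submodule.subtype_apply, hp_mem i c c.2 j]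
      split <;> simp
    | add x y hx hy =>
      simp only [map_add, hx, hy]
      split <;> simp
  have hε : ∀ v, TensorProduct.rid R V ((Coalgebra.counit (R := R)).lTensor V (ρ v)) = v := fun v => by
    have h := congrArg (TensorProduct.rid R V)
      (LinearMap.congr_fun (HopfRep.Comod.counit_comp (k := R) (A := C) (V := V)) v)
    simp only [LinearMap.comp_apply, LinearMap.flip_apply, TensorProduct.mk_apply, TensorProduct.rid_tmul,
      one_smul] at h
    exact h
  have hqU : ∀ i j, ∀ v ∈ U i, q j v = if i = j then v else 0 := fun i j v hv => by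
    show TensorProduct.rid R V ((ep j).lTensor V (ρ v)) = _
    rw [LinearMap.lTensor_comp, LinearMap.comp_apply, hfixU i j v hv]
    split
    · exact hε v
    · simp
  have hqmem : ∀ i v, q i v ∈ U i := fun i v => by
    show ρ (q i v) ∈ LinearMap.range (LinearMap.lTensor V (D i).subtype)
    rw [hq1, hq2]
    exact hpr i _
  have hlast : ∀ i, ∀ v ∈ U i, ρ v ∈ LinearMap.range (TensorProduct.map (U i).subtype (D i).subtype) := fun i v hv => by
    have h1 : ρ v = TensorProduct.map (q i) (p i) (ρ v) := by
      rw [← LinearMap.rTensor_comp_lTensor, LinearMap.comp_apply, hfixU i i v hv, if_pos rfl, hq2,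
        hfixU i i v hv, if_pos rfl]
    rw [h1]
    refine ⟨TensorProduct.map ((q i).codRestrict (U i) (hqmem i)) ((p i).codRestrict (D i) (hpd i)) (ρ v), ?_⟩
    rw [← LinearMap.comp_apply, ← TensorProduct.map_comp]
    rfl
  refine ⟨fun i v hv => ?_, ?_, ?_, hlast⟩
  · have h := hlast i v hv
    rw [← LinearMap.rTensor_comp_lTensor] at h
    exact LinearMap.range_comp_le_range _ _ h
  · intro i
    rw [Submodule.disjoint_def]
    intro v hv hv'
    have hker : (⨆ (j) (_ : j ≠ i), U j) ≤ LinearMap.ker (q i) := iSup₂_le fun j hj x hx => by
      rw [LinearMap.mem_ker, hqU j i x hx, if_neg hj]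
    have h1 : q i v = 0 := hker hv'
    rwa [hqU i i v hv, if_pos rfl] at h1
  · refine eq_top_iff.mpr fun v _ => ?_
    have key : ∀ z : V ⊗[R] C, TensorProduct.rid R V ((Coalgebra.counit (R := R)).lTensor V z) ∈
        Submodule.span R {x | ∃ i, x = TensorProduct.rid R V ((ep i).lTensor V z)} := fun z => by
      obtain ⟨s, hs⟩ : ∃ s : Finset ι, ∑ i ∈ s, (p i).lTensor V z = z := by
        suffices h : ∃ s₀ : Finset ι, ∀ s, s₀ ⊆ s → ∑ i ∈ s, (p i).lTensor V z = z by
          obtain ⟨s₀, h⟩ := h
          exact ⟨s₀, h s₀ le_rfl⟩
        induction z using TensorProduct.induction_on with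
        | zero => exact ⟨∅, fun s _ => by simp⟩
        | tmul x c =>
          refine ⟨(e.symm c).support, fun s hs => ?_⟩
          simp only [LinearMap.lTensor_tmul, ← TensorProduct.tmul_sum]
          congr 1
          rw [← Finset.sum_subset hs fun i _ hi => ?_]
          · conv_rhs => rw [← e.apply_symm_apply c, ← DirectSum.sum_support_of (e.symm c), map_sum]
            exact Finset.sum_congr rfl fun i _ => (DirectSum.coeLinearMap_of D i _).symm
          · rw [DFinsupp.notMem_support_iff] at hi
            simp [p, DirectSum.component.lof_self, DirectSum.apply_eq_component, ← DirectSum.apply_eq_component, hi]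
        | add x y hx hy =>
          obtain ⟨a, ha⟩ := hx
          obtain ⟨b, hb⟩ := hy
          exact ⟨a ∪ b, fun s hs => by
            simp only [map_add, Finset.sum_add_distrib]
            rw [ha s (Finset.union_subset_left hs), hb s (Finset.union_subset_right hs)]⟩
      have hsum : TensorProduct.rid R V ((Coalgebra.counit (R := R)).lTensor V z) =
          ∑ i ∈ s, TensorProduct.rid R V ((ep i).lTensor V z) := by
        refine (congrArg (fun y => TensorProduct.rid R V ((Coalgebra.counit (R := R)).lTensor V y)) hs.symm).trans ?_
        simp only [map_sum, ep, LinearMap.lTensor_comp, LinearMap.comp_apply]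
      rw [hsum]
      exact Submodule.sum_mem _ fun i _ => Submodule.subset_span ⟨i, rfl⟩
    rw [← hε v]
    refine (Submodule.span_le.mpr ?_) (key (ρ v))
    rintro _ ⟨i, rfl⟩
    exact Submodule.mem_iSup_of_mem i (hqmem i v)

end Groth.Agent.S14844
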