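import Groth.Statements.S14845
import Groth.Agent.HilbDLib.Diagonal

set_option autoImplicit false
open CategoryTheory CategoryTheory.Limits AlgebraicGeometry
universe u
open HilbD

namespace Groth.Agent.S14845

/-- For a separated morphism f : X → S, the Hilbert functor of one point of X over S is represented by X
with the diagonal as universal family: the diagonal of X ×_S X (the graph of the identity section of
X over itself) is a closed subscheme finite locally free of degree 1 over X, and every closed
subscheme of X ×_S T which is finite locally free of degree 1 over T is its base change along a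
unique S-morphism T → X. (The published statement takes S Noetherian, f locally of finite type and
the Hilbert functor on locally Noetherian S-schemes with flat proper families of Hilbert polynomial
1; this row uses the functor of families finite locally free of degree 1 on all S-schemes, for which
the same argument applies without Noetherian hypotheses.) -/
theorem result {X S : Scheme.{u}} (f : X ⟶ S) [IsSeparated f] :
    ∃ Δ : HilbD.Obj f 1 (Over.mk f),
      Δ.1 = HilbD.secGraph f (Over.mk f) (𝟙 X) (Category.id_comp f) ∧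
      HilbD.IsUniversal f 1 (Over.mk f) Δ := by
  let Δ := HilbDLib.sec f (Over.mk f) (𝟙 X) (Category.id_comp f)
  haveI : IsClosedImmersion Δ := HilbDLib.isClosedImmersion_sec f _ _ _
  have hdeg : Mor2.IsFinLocFreeOfDeg 1 (Δ.ker.subschemeι ≫ PicF.XTproj f (Over.mk f)) := by
    have h1 : Δ.toImage ≫ Δ.ker.subschemeι ≫ PicF.XTproj f (Over.mk f) = 𝟙 _ := by
      rw [← Category.assoc, show Δ.toImage ≫ Δ.ker.subschemeι = Δ from Δ.toImage_imageι]
      exact HilbDLib.sec_proj f _ _ _
    haveI : IsIso (Δ.ker.subschemeι ≫ PicF.XTproj f (Over.mk f)) := IsIso.of_isIso_fac_left h1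
    exact ⟨⟨inferInstance, inferInstance, inferInstance⟩, congrFun (Scheme.Hom.finrank_eq_one_of_isIso _)⟩
  refine ⟨⟨Δ.ker, hdeg⟩, rfl, fun T Z' => ?_⟩
  let ι : Z'.1.subscheme ⟶ PicF.XT f T := Z'.1.subschemeι
  let q : Z'.1.subscheme ⟶ T.left := ι ≫ PicF.XTproj f T
  obtain ⟨⟨hfin, hflat, hlfp⟩, hrk⟩ : Mor2.IsFinLocFreeOfDeg 1 q := Z'.2
  haveI : IsIso q := (Scheme.Hom.isIso_iff_finrank_eq q).2 (funext hrk)
  let x : T.left ⟶ X := inv q ≫ ι ≫ pullback.fst f T.hom
  have hx : x ≫ f = T.hom := by
    simp only [x, Category.assoc]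
    rw [pullback.condition, IsIso.inv_comp_eq]
    exact (Category.assoc _ _ _).symm
  have hsec : HilbDLib.sec f T x hx = inv q ≫ ι := by
    apply pullback.hom_ext
    · rw [HilbDLib.sec_fst, Category.assoc]
    · exact (HilbDLib.sec_proj f T x hx).trans (((Category.assoc _ _ _).trans (IsIso.inv_hom_id q)).symm)
  have hker : (HilbDLib.sec f T x hx).ker = Z'.1 := by
    rw [hsec, Scheme.Hom.ker_comp_of_isIso]
    exact Scheme.IdealSheafData.ker_subschemeι _
  refine ⟨Over.homMk x hx, (HilbDLib.pull_diagonal f (Over.homMk x hx)).trans hker, fun g hg => ?_⟩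
  have hg' : (HilbDLib.sec f T g.left (Over.w g)).ker = Z'.1 := (HilbDLib.pull_diagonal f g).symm.trans hg
  have hle : ι.ker ≤ (HilbDLib.sec f T g.left (Over.w g)).ker := by
    rw [hg']; exact le_of_eq (Scheme.IdealSheafData.ker_subschemeι _)
  let e := IsClosedImmersion.lift ι (HilbDLib.sec f T g.left (Over.w g)) hle
  have he : e ≫ ι = HilbDLib.sec f T g.left (Over.w g) := IsClosedImmersion.lift_fac _ _ _
  have heq : e ≫ q = 𝟙 _ := by
    rw [← Category.assoc, he]; exact HilbDLib.sec_proj f _ _ _
  apply Over.OverMorphism.ext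
  show g.left = inv q ≫ ι ≫ pullback.fst f T.hom
  rw [← IsIso.eq_comp_inv, Category.id_comp] at heq
  rw [← heq, ← Category.assoc, he, HilbDLib.sec_fst]

end Groth.Agent.S14845
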