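import Groth.Statements.S14846
import Mathlib.FieldTheory.Galois.Infinite
import Mathlib.RingTheory.TwoSidedIdeal.Operations
import Mathlib.RingTheory.SimpleRing.Basic
import Mathlib.LinearAlgebra.TensorProduct.Basis
import Mathlib.LinearAlgebra.Basis.VectorSpace

set_option autoImplicit false
universe u v w
open Brauer

namespace Groth.Agent.S14846

open TensorProduct in
/-- Let L/K be a Galois extension with group Γ = Aut_K(L), and A a K-algebra which is a simple ring. If
L ⊗_K A is semisimple, then Γ, acting on L ⊗_K A through the first tensor factor, permutes its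
simple components, i.e. its minimal nonzero two-sided ideals, transitively: any minimal two-sided
ideal is carried onto any other by some γ ⊗ id. -/
theorem result
    {K : Type u} {L : Type v} [Field K] [Field L] [Algebra K L] [IsGalois K L]
    {A : Type w} [Ring A] [Algebra K A] [IsSimpleRing A]
    [IsSemisimpleRing (L ⊗[K] A)]
    (I J : TwoSidedIdeal (L ⊗[K] A)) (hI : IsAtom I) (hJ : IsAtom J) :
    ∃ γ : L ≃ₐ[K] L, (J : Set (L ⊗[K] A)) =
      Algebra.TensorProduct.map (γ : L →ₐ[K] L) (AlgHom.id K A) '' (I : Set (L ⊗[K] A)) := by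
  classical
  let μ : (L ≃ₐ[K] L) → (L ⊗[K] A →ₐ[K] L ⊗[K] A) := fun γ =>
    Algebra.TensorProduct.map (γ : L →ₐ[K] L) (AlgHom.id K A)
  have hμ : ∀ γ δ x, μ γ (μ δ x) = μ (γ * δ) x := fun γ δ x => by
    induction x using TensorProduct.induction_on with
    | zero => simp
    | add a b ha hb => simp only [map_add, ha, hb]
    | tmul l a => simp [μ]
  have hμ1 : ∀ x, μ 1 x = x := fun x => by
    induction x using TensorProduct.induction_on with
    | zero => simp
    | add a b ha hb => simp only [map_add, ha, hb]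
    | tmul l a => simp [μ]
  by_contra hcon
  push Not at hcon
  -- translates of `I` annihilate `J`
  have hann : ∀ γ, ∀ x ∈ I, ∀ j ∈ J, j * μ γ x = 0 := by
    intro γ x hx j hj
    let I' : TwoSidedIdeal (L ⊗[K] A) := I.comap (μ γ⁻¹)
    have hI' : ∀ z, z ∈ I' ↔ z ∈ μ γ '' (I : Set (L ⊗[K] A)) := fun z => by
      rw [TwoSidedIdeal.mem_comap]
      exact ⟨fun h => ⟨_, h, by rw [hμ, mul_inv_cancel, hμ1]⟩,
        fun ⟨y, hy, e⟩ => by rw [← e, hμ, inv_mul_cancel, hμ1]; exact hy⟩
    have hm : j * μ γ x ∈ J ⊓ I' := (TwoSidedIdeal.mem_inf _).2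
      ⟨J.mul_mem_right _ _ hj, I'.mul_mem_left _ _ ((hI' _).2 ⟨x, hx, rfl⟩)⟩
    rcases hJ.le_iff.1 (inf_le_left : J ⊓ I' ≤ J) with h | h
    · rw [h] at hm
      exact (TwoSidedIdeal.mem_bot _).1 hm
    · exfalso
      refine hcon γ (Set.Subset.antisymm (fun z hz => (hI' z).1 ?_) fun z hz => ?_)
      · rw [← h] at hz
        exact ((TwoSidedIdeal.mem_inf _).1 hz).2
      · obtain ⟨y, hy, rfl⟩ := hz
        let J' : TwoSidedIdeal (L ⊗[K] A) := J.comap (μ γ)
        have hle : J' ⊓ I ≠ ⊥ := by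
          obtain ⟨z, hz0⟩ : ∃ z, z ∈ J ∧ z ≠ 0 := by
            by_contra! h0
            exact hJ.1 (le_antisymm (fun z hz => (TwoSidedIdeal.mem_bot _).2 (h0 z hz)) bot_le)
          obtain ⟨w, hw, hwz⟩ := (hI' z).1 (((TwoSidedIdeal.mem_inf _).1 (h.symm ▸ hz0.1)).2)
          intro hb
          apply hz0.2
          have hwm : w ∈ J' ⊓ I := (TwoSidedIdeal.mem_inf _).2
            ⟨(TwoSidedIdeal.mem_comap _).2 (by rw [hwz]; exact hz0.1), hw⟩
          rw [hb, TwoSidedIdeal.mem_bot] at hwm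
          rw [← hwz, hwm, map_zero]
        have := (hI.le_iff.1 (inf_le_right : J' ⊓ I ≤ I)).resolve_left hle
        rw [← this] at hy
        exact (TwoSidedIdeal.mem_comap _).1 ((TwoSidedIdeal.mem_inf _).1 hy).1
  -- the largest stable subset of the right annihilator of `J`
  let N : Set (L ⊗[K] A) := {x | ∀ γ, ∀ j ∈ J, j * μ γ x = 0}
  have hNadd : ∀ {x y}, x ∈ N → y ∈ N → x - y ∈ N := fun hx hy γ j hj => by
    rw [map_sub, mul_sub, hx γ j hj, hy γ j hj, sub_zero]
  have hNl : ∀ c {x}, x ∈ N → c * x ∈ N := fun c x hx γ j hj => by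
    rw [map_mul, ← mul_assoc, hx γ _ (J.mul_mem_right _ _ hj)]
  have hNr : ∀ c {x}, x ∈ N → x * c ∈ N := fun c x hx γ j hj => by
    rw [map_mul, ← mul_assoc, hx γ j hj, zero_mul]
  have hNμ : ∀ δ {x}, x ∈ N → μ δ x ∈ N := fun δ x hx γ j hj => by rw [hμ]; exact hx _ j hj
  let b := Module.Free.chooseBasis K A
  let bL := b.baseChange L
  have hrepr : ∀ γ x i, bL.repr (μ γ x) i = γ (bL.repr x i) := fun γ x i => by
    induction x using TensorProduct.induction_on with
    | zero => simp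
    | add a c ha hc => simp [map_add, ha, hc]
    | tmul l a => simp [μ, bL, Algebra.smul_def]
  have hex : ∃ n : ℕ, ∃ x ∈ N, x ≠ 0 ∧ (bL.repr x).support.card = n := by
    obtain ⟨x, hx, hx0⟩ : ∃ x, x ∈ I ∧ x ≠ 0 := by
      by_contra! h0
      exact hI.1 (le_antisymm (fun z hz => (TwoSidedIdeal.mem_bot _).2 (h0 z hz)) bot_le)
    exact ⟨_, x, fun γ j hj => hann γ x hx j hj, hx0, rfl⟩
  obtain ⟨x, hxN, hx0, hxn⟩ := Nat.find_spec hex
  have hne : (bL.repr x).support.Nonempty := by
    rw [Finsupp.support_nonempty_iff]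
    simpa using hx0
  obtain ⟨i₀, hi₀⟩ := hne
  rw [Finsupp.mem_support_iff] at hi₀
  let t := ((bL.repr x i₀)⁻¹ ⊗ₜ[K] (1 : A)) * x
  have htr : ∀ i, bL.repr t i = (bL.repr x i₀)⁻¹ * bL.repr x i := fun i => by
    have : t = (bL.repr x i₀)⁻¹ • x := by
      rw [Algebra.smul_def, Algebra.TensorProduct.algebraMap_apply]; rfl
    rw [this, map_smul, Finsupp.smul_apply, smul_eq_mul]
  have htN : t ∈ N := hNl _ hxN
  have hfix : ∀ γ, μ γ t = t := by
    intro γ
    by_contra hg
    have hmem := hNadd (hNμ γ htN) htN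
    refine Nat.find_min hex ?_ ⟨μ γ t - t, hmem, sub_ne_zero.2 hg, rfl⟩
    rw [← hxn]
    refine Finset.card_lt_card ⟨fun i hi => ?_, fun hsub => ?_⟩
    · rw [Finsupp.mem_support_iff] at hi ⊢
      intro h0
      apply hi
      rw [map_sub, Finsupp.sub_apply, hrepr, htr, h0, mul_zero, map_zero, sub_zero]
    · have h1 := hsub (Finsupp.mem_support_iff.2 hi₀)
      rw [Finsupp.mem_support_iff, map_sub, Finsupp.sub_apply, hrepr, htr, inv_mul_cancel₀ hi₀,
        map_one, sub_self] at h1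
      exact h1 rfl
  have hcoef : ∀ i, ∃ r : K, algebraMap K L r = bL.repr t i := fun i =>
    IntermediateField.mem_bot.1 ((InfiniteGalois.mem_bot_iff_fixed _).2 fun γ => by
      rw [← hrepr, hfix])
  choose r hr using hcoef
  let a : A := ∑ i ∈ (bL.repr t).support, r i • b i
  have hta : t = (1 : L) ⊗ₜ[K] a := by
    conv_lhs => rw [← bL.linearCombination_repr t]
    rw [Finsupp.linearCombination_apply, Finsupp.sum, TensorProduct.tmul_sum]
    refine Finset.sum_congr rfl fun i _ => ?_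
    rw [← hr i, algebraMap_smul, TensorProduct.tmul_smul, Module.Basis.baseChange_apply]
  have ha0 : a ≠ 0 := by
    intro h0
    have := htr i₀
    rw [hta, h0, TensorProduct.tmul_zero, map_zero, inv_mul_cancel₀ hi₀] at this
    exact zero_ne_one this
  let P : TwoSidedIdeal A := TwoSidedIdeal.mk' {y : A | (1 : L) ⊗ₜ[K] y ∈ N}
    (fun γ j hj => by simp)
    (fun {y z} hy hz => by
      have h0 : (0 : L ⊗[K] A) ∈ N := fun γ j hj => by simp
      have := hNadd hy (hNadd h0 hz)
      simpa [TensorProduct.tmul_add, sub_eq_add_neg] using this)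
    (fun {y} hy => by
      have h0 : (0 : L ⊗[K] A) ∈ N := fun γ j hj => by simp
      have := hNadd h0 hy
      simpa [TensorProduct.tmul_neg] using this)
    (fun {c y} hy => by
      have := hNl ((1 : L) ⊗ₜ[K] c) hy
      simpa using this)
    (fun {y c} hy => by
      have := hNr ((1 : L) ⊗ₜ[K] c) hy
      simpa using this)
  have hP : P = ⊤ := (eq_bot_or_eq_top P).resolve_left fun h => ha0 (by
    have : a ∈ P := (TwoSidedIdeal.mem_mk' ..).2 (show (1 : L) ⊗ₜ[K] a ∈ N from hta ▸ htN)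
    rwa [h, TwoSidedIdeal.mem_bot] at this)
  have h1 : (1 : A) ∈ P := hP ▸ trivial
  have h1N : (1 : L) ⊗ₜ[K] (1 : A) ∈ N := by
    simp only [P, TwoSidedIdeal.mem_mk'] at h1
    exact h1
  apply hJ.1
  refine le_antisymm (fun j hj => (TwoSidedIdeal.mem_bot _).2 ?_) bot_le
  have := h1N 1 j hj
  rwa [hμ1, ← Algebra.TensorProduct.one_def, mul_one] at this

end Groth.Agent.S14846
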