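import Groth.Statements.S14847
import Groth.Agent.ComodLib.Coalg
import Groth.Agent.ComodLib.TraceIntegral
-- import your own Groth.Agent.* helpers here

set_option autoImplicit false
universe u v
open HopfRep

namespace Groth.Agent.S14847

open TensorProduct in
/-- When K is a field of characteristic zero and G = Spec A is a finite group scheme over K, the
coordinate Hopf algebra A is cosemisimple, i.e. A is the internal direct sum of simple
subcoalgebras. Here a subcoalgebra of A is a subspace B whose comultiplication lands in the image of
B ⊗ B, and a simple subcoalgebra is a nonzero subcoalgebra D whose only subcoalgebras contained in D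
are 0 and D. -/
theorem result {K : Type u} {A : Type v} [Field K] [CharZero K]
    [CommRing A] [HopfAlgebra K A] [Module.Finite K A] :
    ∃ (ι : Type v) (D : ι → Submodule K A), iSupIndep D ∧ iSup D = ⊤ ∧ ∀ i,
        D i ≠ ⊥ ∧ (∀ b ∈ (D i), CoalgebraStruct.comul (R := K) b ∈ LinearMap.range (TensorProduct.map (D i).subtype (D i).subtype)) ∧
        ∀ B : Submodule K A, B ≤ D i → (∀ b ∈ B, CoalgebraStruct.comul (R := K) b ∈ LinearMap.range (TensorProduct.map B.subtype B.subtype)) → B = ⊥ ∨ B = D i := by
  have h1 : (1 : A) ≠ 0 := fun h0 => by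
    have h2 := congrArg (Coalgebra.counit (R := K)) h0
    rw [Bialgebra.counit_one, map_zero] at h2
    exact one_ne_zero h2
  haveI : Nontrivial A := nontrivial_of_ne 1 0 h1
  have hn : (Module.finrank K A : K) ≠ 0 := Nat.cast_ne_zero.mpr Module.finrank_pos.ne'
  let α : A →ₗ[K] K := (Module.finrank K A : K)⁻¹ • Algebra.trace K A
  have hα : Groth.Agent.ComodLib.IsIntegral K α := fun a => by
    rw [LinearMap.rTensor_smul, LinearMap.smul_apply, Groth.Agent.ComodLib.isIntegral_trace K A a,
      LinearMap.smul_apply, TensorProduct.smul_tmul']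
  have hα1 : α 1 = 1 := by
    simp only [α, LinearMap.smul_apply, smul_eq_mul]
    rw [← map_one (algebraMap K A), Algebra.trace_algebraMap, nsmul_eq_mul, mul_one, inv_mul_cancel₀ hn]
  exact Groth.Agent.ComodLib.exists_simpleSubcoalg_decomposition
    (Groth.Agent.ComodLib.isSemisimpleComod_of_integral hα hα1)

end Groth.Agent.S14847
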