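import Groth.Statements.S14848
import Mathlib


set_option autoImplicit false
universe u v
open McKay

namespace Groth.Agent.S14848

/-- Let K be a field of characteristic zero, L an extension field of K and ξ ∈ L a primitive n-th root
of unity (n ≥ 1) with ξ + ξ⁻¹ ∈ K, say ξ + ξ⁻¹ = 2c with c ∈ K (the character of the natural
two-dimensional representation of the cyclic group of order n takes values in K). Then the cyclic
group of order n is realisable over K as a subgroup of SL(2, K): there is an element of SL(2, K) of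
order n. -/
theorem result {K : Type u} {L : Type v} [Field K] [Field L]
    [CharZero K] [Algebra K L] (n : ℕ) (hn : 1 ≤ n) (ξ : L) (hξ : IsPrimitiveRoot ξ n) (c : K)
    (hc : algebraMap K L (2 * c) = ξ + ξ⁻¹) :
    ∃ M : Matrix.SpecialLinearGroup (Fin 2) K, orderOf M = n := by
  rcases Nat.lt_or_ge n 3 with h3 | h3
  · rcases (show n = 1 ∨ n = 2 by omega) with rfl | rfl
    · exact ⟨1, orderOf_one⟩
    · refine ⟨-1, ?_⟩
      refine orderOf_eq_prime (by simp) ?_
      intro h
      have := congrArg (fun M : Matrix.SpecialLinearGroup (Fin 2) K =>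
        (M : Matrix (Fin 2) (Fin 2) K) 0 0) h
      simp at this
      norm_num at this
  · have hx0 : ξ ≠ 0 := hξ.ne_zero (by omega)
    let M : Matrix.SpecialLinearGroup (Fin 2) K := ⟨!![2 * c, -1; 1, 0], by simp [Matrix.det_fin_two]⟩
    refine ⟨M, ?_⟩
    let ML : Matrix (Fin 2) (Fin 2) L := (M : Matrix (Fin 2) (Fin 2) K).map (algebraMap K L)
    have hML : ML = !![ξ + ξ⁻¹, -1; 1, 0] := by
      ext i j; fin_cases i <;> fin_cases j <;> simp [ML, M, ← hc]
    let P : Matrix (Fin 2) (Fin 2) L := !![ξ, ξ⁻¹; 1, 1]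
    let D : Matrix (Fin 2) (Fin 2) L := Matrix.diagonal ![ξ, ξ⁻¹]
    have hne : ξ ≠ ξ⁻¹ := by
      intro h
      have h2 : ξ ^ 2 = 1 := by
        rw [pow_two]; nth_rw 2 [h]; exact mul_inv_cancel₀ hx0
      have := Nat.le_of_dvd (by norm_num) ((hξ.pow_eq_one_iff_dvd 2).1 h2)
      omega
    have hP : P.det ≠ 0 := by simp [P, Matrix.det_fin_two, sub_eq_zero, hne]
    have hMP : ML * P = P * D := by
      rw [hML]
      ext i j
      fin_cases i <;> fin_cases j <;> simp [P, D, Matrix.mul_apply, Fin.sum_univ_two] <;>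
        field_simp <;> ring
    have hpow : ∀ k : ℕ, ML ^ k * P = P * D ^ k := by
      intro k
      induction k with
      | zero => simp
      | succ k ih => rw [pow_succ, mul_assoc, hMP, ← mul_assoc, ih, mul_assoc, ← pow_succ]
    have hiff : ∀ k : ℕ, M ^ k = 1 ↔ n ∣ k := by
      intro k
      have hunit : IsUnit P := (Matrix.isUnit_iff_isUnit_det P).2 (isUnit_iff_ne_zero.2 hP)
      have e1 : M ^ k = 1 ↔ ML ^ k = 1 := by
        have hmap : ML ^ k = ((M ^ k : Matrix.SpecialLinearGroup (Fin 2) K) :
            Matrix (Fin 2) (Fin 2) K).map (algebraMap K L) := by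
          rw [Matrix.SpecialLinearGroup.coe_pow]
          exact (map_pow (algebraMap K L).mapMatrix _ k).symm
        rw [hmap, ← Matrix.map_one (algebraMap K L) (map_zero _) (map_one _),
          (Matrix.map_injective (algebraMap K L).injective).eq_iff]
        exact ⟨fun h => by rw [h]; rfl, fun h => Subtype.ext h⟩
      rw [e1, ← hunit.mul_left_inj, hpow k, one_mul,
        show P * D ^ k = P ↔ D ^ k = 1 from hunit.mul_eq_left, Matrix.diagonal_pow,
        ← Matrix.diagonal_one, Matrix.diagonal_eq_diagonal_iff, ← hξ.pow_eq_one_iff_dvd]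
      constructor
      · intro h; simpa using h 0
      · intro h i; fin_cases i <;> simp [h]
    refine (orderOf_eq_iff (by omega)).2 ⟨(hiff n).2 dvd_rfl, fun m hm h0 h => ?_⟩
    exact absurd (Nat.le_of_dvd h0 ((hiff m).1 h)) (by omega)

end Groth.Agent.S14848
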