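import Groth.Statements.S14849
import Groth.Agent.H9Misc.BinDihedral

set_option autoImplicit false
universe u v
open McKay

namespace Groth.Agent.S14849

/-- Let K be a field of characteristic zero, L an extension field of K, n ≥ 2, and ξ ∈ L a primitive
2n-th root of unity with ξ + ξ⁻¹ = 2c for some c ∈ K. If the Hilbert symbol of -1 and c² - 1 over K
equals 1, i.e. x² - (c² - 1) y² = -1 has a solution in K, then the binary dihedral group of order 4n
(generators σ, τ with τ² = σⁿ = (τσ)²) is isomorphic to a subgroup of SL(2, K). (The published
statement is an equivalence; this row is the direction realising the group from a solution of the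
conic.) -/
theorem result {K : Type u} {L : Type v}
    [Field K] [Field L] [CharZero K] [Algebra K L] (n : ℕ) (hn : 2 ≤ n) (ξ : L)
    (hξ : IsPrimitiveRoot ξ (2 * n)) (c : K) (hc : algebraMap K L (2 * c) = ξ + ξ⁻¹)
    (hsol : ∃ x y : K, x ^ 2 - (c ^ 2 - 1) * y ^ 2 = -1) :
    ∃ f : QuaternionGroup n →* Matrix.SpecialLinearGroup (Fin 2) K, Function.Injective f := by
  exact Groth.Agent.H9Misc.exists_embedding n hn ξ hξ c hc hsol

end Groth.Agent.S14849
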