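import Groth.Statements.S1485
import Groth.Agent.RelPC17.DimOneFibres

set_option autoImplicit false
set_option backward.isDefEq.respectTransparency false
set_option backward.isDefEq.respectTransparency.types false
universe u
open FlatMor

namespace Groth.Agent.S1485

open AlgebraicGeometry CategoryTheory Limits in
/-- Let f : X → Y be proper and y a point with fibre of dimension ≤ 1. Suppose there is a morphism g :
Y' → Y whose image contains y such that, for the base change f' : X' → Y', H^1 of the structure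
sheaf vanishes over the preimage of every affine open of Y' (that is, R^1 f'_* O = 0; taking g the
identity covers the case R^1 f_* O_X = 0). Then H^1(X_y, O_{X_y}) = 0. -/
theorem result {X Y Y' : Scheme.{u}} (f : X ⟶ Y) [IsProper f] (y : Y) (hdim : topologicalKrullDim ↑(f.fiber y) ≤ 1)
    (g : Y' ⟶ Y) (hy : y ∈ Set.range ⇑g)
    (hR1 : ∀ U : Y'.Opens, IsAffineOpen U → Subsingleton (Coh.HHon (pullback f g) (Coh.structureModule (pullback f g)) (pullback.snd f g ⁻¹ᵁ U) 1)) :
    Subsingleton (Coh.HH (f.fiber y) (Coh.structureModule (f.fiber y)) 1) := by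
  have hd : topologicalKrullDim ↥(f.fiber y) ≤ (1 : ℕ) := by simpa using hdim
  obtain ⟨W, hyW, hW, hdW⟩ := Groth.Agent.RelPC17.HighVanish.exists_nhd_dim f y 1 hd
  obtain ⟨y', rfl⟩ := hy
  obtain ⟨U, hU, hyU, hUW⟩ := exists_isAffineOpen_mem_and_subset (show y' ∈ g ⁻¹ᵁ W from hyW)
  haveI : IsAffine (U : Scheme.{u}) := hU
  let p := pullback.snd f g
  have hsq : IsPullback ((Scheme.Opens.ι (p ⁻¹ᵁ U)) ≫ pullback.fst f g) (p ∣_ U) f (Scheme.Opens.ι U ≫ g) :=
    (isPullback_morphismRestrict p U).flip.paste_horiz (IsPullback.of_hasPullback _ _)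
  have hdU : ∀ z : (U : Scheme.{u}), topologicalKrullDim ↥((p ∣_ U).fiber z) ≤ (1 : ℕ) := fun z => by
    rw [Groth.Agent.FlatMisc.ApproxDim.fibre_dim_baseChange hsq z]
    have hzW : g (Scheme.Opens.ι U z) ∈ W := hUW z.2
    have h1 := hdW ⟨_, hzW⟩
    rw [Groth.Agent.FlatMisc.ApproxDim.fibre_dim_baseChange (isPullback_morphismRestrict f W).flip] at h1
    exact h1
  haveI : IsProper (p ∣_ U) := MorphismProperty.of_isPullback hsq ‹IsProper f›
  have h0 := Groth.Agent.QCoh.subsingleton_HH_of_iso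
    (Groth.Agent.RelPC17.DimOne.restrictStructIso (p ⁻¹ᵁ U)) 1 (hR1 U hU)
  let t : Spec (CommRingCat.of ((U : Scheme.{u}).residueField ⟨y', hyU⟩)) ⟶ (U : Scheme.{u}) :=
    (U : Scheme.{u}).fromSpecResidueField ⟨y', hyU⟩
  have h1 := (IsPullback.of_hasPullback (p ∣_ U) t)
  refine Groth.Agent.RelPC17.DimOne.subsingleton_fiber_of_point f (g y') (t ≫ Scheme.Opens.ι U ≫ g) ?_
    _ _ (h1.paste_horiz hsq)
    (Groth.Agent.RelPC17.DimOne.subsingleton_baseChange (p ∣_ U) hdU h0 t _ _ h1)
  rw [Scheme.Hom.comp_apply]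
  show g (Scheme.Opens.ι U ((U : Scheme.{u}).fromSpecResidueField ⟨y', hyU⟩ _)) = g y'
  rw [Scheme.fromSpecResidueField_apply]
  rfl

end Groth.Agent.S1485
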