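import Groth.Statements.S14850
import Groth.Agent.ComodLib.Coalg
-- import your own Groth.Agent.* helpers here

set_option autoImplicit false
universe u v
open HopfRep

namespace Groth.Agent.S14850

open TensorProduct in
/-- Over a field K, a nonzero coalgebra C is simple if and only if C is isotypic as a right comodule
over itself, i.e. C is the internal direct sum of the images of a family of injective comodule maps
from one simple right C-comodule E. Here a subcoalgebra of C is a subspace B whose comultiplication
lands in the image of B ⊗ B, and C is simple when its only subcoalgebras are 0 and C. (Stated for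
the right regular comodule; the published statement allows left or right.) -/
theorem result {K : Type u} {C : Type v} [Field K] [AddCommGroup C]
    [Module K C] [Coalgebra K C] [Nontrivial C] :
    (∀ B : Submodule K C, (∀ b ∈ B, CoalgebraStruct.comul (R := K) b ∈ LinearMap.range (TensorProduct.map B.subtype B.subtype)) → B = ⊥ ∨ B = ⊤) ↔
    ∃ (E : Type v) (_ : AddCommGroup E) (_ : Module K E) (_ : HopfRep.Comod K C E),
      HopfRep.IsSimpleComod K C E ∧
      ∃ (ι : Type v) (f : ι → (E →ₗ[K] C)),
        (∀ i, Hoch.IsComodHom C (f i) ∧ Function.Injective (f i)) ∧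
        iSupIndep (fun i => LinearMap.range (f i)) ∧ (⨆ i, LinearMap.range (f i)) = ⊤ := by
  constructor
  · intro h
    obtain ⟨S, -, hSf, hS, hS0, hmin⟩ :=
      Groth.Agent.ComodLib.exists_simple_le (Groth.Agent.ComodLib.isSubcomod_top (k := K) (C := C) (V := C)) top_ne_bot
    letI : HopfRep.Comod K C S := ComodSub.Comod.restr (HopfRep.Comod.regular K C) S hS
    have hsimple : HopfRep.IsSimpleComod K C S := Groth.Agent.ComodLib.isSimpleComod_restr hS hS0 hmin
    have hD : Groth.Agent.ComodLib.IsSimpleSubcoalg K C ⊤ :=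
      ⟨top_ne_bot, (Groth.Agent.ComodLib.isSubcoalg_iff _).mpr
        ⟨Groth.Agent.ComodLib.isSubcomod_top, fun _ _ _ => trivial⟩, fun B _ hB => h B hB⟩
    have htop := Groth.Agent.ComodLib.eq_coeffSpace_of_minimal hD ⟨hS, hS0, hmin⟩ le_top
    have hss := Groth.Agent.ComodLib.isSemisimpleComod_regular_of_simpleSubcoalg (ι := Unit) (D := fun _ => ⊤)
      (fun _ => hD) (by simp)
    obtain ⟨s, hs, hind, hsup⟩ := Groth.Agent.ComodLib.exists_minimal_decomposition hss
    choose j hj hjinj hjr using fun U : s => Groth.Agent.ComodLib.exists_equiv_of_isMinSubcomod_le hsimple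
      (fun f : S →ₗ[K] K => Groth.Agent.ComodLib.coefFun (C := C) f) Groth.Agent.ComodLib.isComodHom_coefFun
      (hs U U.2) (le_top.trans htop.le)
    refine ⟨S, inferInstance, inferInstance, inferInstance, hsimple, s, j, fun U => ⟨hj U, hjinj U⟩, ?_, ?_⟩
    · simpa only [hjr] using hind
    · simpa only [hjr] using hsup
  · rintro ⟨E, _, _, _, hE, ι, f, hf, -, hsup⟩ B hB
    by_cases h0 : B = ⊥
    · exact Or.inl h0
    right
    obtain ⟨T, hTB, -, hT, hT0, hmin⟩ :=
      Groth.Agent.ComodLib.exists_simple_le ((Groth.Agent.ComodLib.isSubcoalg_iff B).mp hB).1 h0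
    obtain ⟨j, hj, hjinj, hjr⟩ := Groth.Agent.ComodLib.exists_equiv_of_isMinSubcomod_le hE f (fun i => (hf i).1)
      ⟨hT, hT0, hmin⟩ (hsup ▸ le_top)
    refine eq_top_iff.mpr (hsup ▸ iSup_le fun i => (Groth.Agent.ComodLib.range_le_coeffSpace (hf i).1).trans ?_)
    exact Groth.Agent.ComodLib.coeffSpace_le_of_hom hj hjinj hB (hjr ▸ hTB)

end Groth.Agent.S14850
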