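import Groth.Statements.S14851
import Groth.Agent.ComodLib.Coalg
-- import your own Groth.Agent.* helpers here

set_option autoImplicit false
universe u v w w'
open HopfRep

namespace Groth.Agent.S14851

open TensorProduct in
/-- The map E ↦ C(E) from isomorphism classes of simple comodules to simple subcoalgebras is injective,
that is: over a field K, two simple right comodules E, E' over a coalgebra C with the same
coefficient space D (the least subspace D' of C such that the coaction lands in E ⊗ D', resp. E' ⊗
D') are isomorphic as comodules. (The published statement is made for a cosemisimple coalgebra and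
for left comodules; the printed argument for this part uses neither restriction.) -/
theorem result {K : Type u} {C : Type v} [Field K]
    [AddCommGroup C] [Module K C] [Coalgebra K C]
    {E : Type w} [AddCommGroup E] [Module K E] [HopfRep.Comod K C E]
    {E' : Type w'} [AddCommGroup E'] [Module K E'] [HopfRep.Comod K C E']
    (hE : HopfRep.IsSimpleComod K C E) (hE' : HopfRep.IsSimpleComod K C E') (D : Submodule K C)
    (hD : IsLeast {D' : Submodule K C |
      ∀ e : E, HopfRep.Comod.coact (k := K) (A := C) e ∈ LinearMap.range (LinearMap.lTensor E D'.subtype)} D)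
    (hD' : IsLeast {D' : Submodule K C |
      ∀ e : E', HopfRep.Comod.coact (k := K) (A := C) e ∈ LinearMap.range (LinearMap.lTensor E' D'.subtype)} D) :
    ∃ e : E ≃ₗ[K] E', Hoch.IsComodHom C e.toLinearMap := by
  haveI := hE'.1
  obtain rfl := hD.unique Groth.Agent.ComodLib.isLeast_coeffSpace
  have hDD := hD'.unique Groth.Agent.ComodLib.isLeast_coeffSpace
  obtain ⟨v, hv⟩ := exists_ne (0 : E')
  obtain ⟨f, hf⟩ := Module.Projective.exists_dual_ne_zero K hv
  let g : E' →ₗ[K] C := Groth.Agent.ComodLib.coefFun (C := C) f
  have hg : Hoch.IsComodHom C g := Groth.Agent.ComodLib.isComodHom_coefFun f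
  have hg0 : g ≠ 0 := fun h => hf (by
    rw [← Groth.Agent.ComodLib.counit_coefFun (C := C) f v]
    show Coalgebra.counit (R := K) (g v) = 0
    rw [h, LinearMap.zero_apply, map_zero])
  have hginj : Function.Injective g := by
    rcases hE'.2 _ (Groth.Agent.ComodLib.isSubcomod_ker hg) with h | h
    · exact LinearMap.ker_eq_bot.mp h
    · exact absurd (LinearMap.ker_eq_top.mp h) hg0
  obtain ⟨j, hj, hjinj, hjr⟩ := Groth.Agent.ComodLib.exists_equiv_of_isMinSubcomod_le hE
    (fun f : E →ₗ[K] K => Groth.Agent.ComodLib.coefFun (C := C) f) Groth.Agent.ComodLib.isComodHom_coefFun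
    (Groth.Agent.ComodLib.isMinSubcomod_range hg hginj hE')
    ((Groth.Agent.ComodLib.range_le_coeffSpace hg).trans hDD.ge)
  let e : E ≃ₗ[K] E' := (LinearEquiv.ofInjective j hjinj).trans
    ((LinearEquiv.ofEq _ _ hjr).trans (LinearEquiv.ofInjective g hginj).symm)
  refine ⟨e, ?_⟩
  have hge : ∀ x, g (e x) = j x := fun x => by
    show g ((LinearEquiv.ofInjective g hginj).symm _) = _
    rw [LinearEquiv.ofInjective_symm_apply]
    rfl
  exact Groth.Agent.ComodLib.isComodHom_iff_actF.mpr fun φ x => hginj (by
    simp only [LinearEquiv.coe_coe]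
    rw [hge, Groth.Agent.ComodLib.comodHom_actF hg, hge, Groth.Agent.ComodLib.comodHom_actF hj])

end Groth.Agent.S14851
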