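import Groth.Statements.S14852
import Groth.Agent.ComodLib.Coalg
-- import your own Groth.Agent.* helpers here

set_option autoImplicit false
universe u v w w'
open HopfRep

namespace Groth.Agent.S14852

open TensorProduct in
/-- Over a field K, let C be a cosemisimple coalgebra and D₁ ≠ D₂ simple subcoalgebras of C. If V is a
right C-comodule whose coaction lands in V ⊗ D₁ and W one whose coaction lands in W ⊗ D₂, then the
only comodule map V → W is zero. Here a subcoalgebra of C is a subspace B whose comultiplication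
lands in the image of B ⊗ B, and a simple subcoalgebra is a nonzero subcoalgebra D whose only
subcoalgebras contained in D are 0 and D; cosemisimple means C is the internal direct sum of a
family of simple subcoalgebras. (The published statement is for quasi-coherent G-sheaves on a scheme
with trivial action of G = Spec C; this row is the statement on spaces of sections to which its
proof reduces.) -/
theorem result {K : Type u} {C : Type v} [Field K]
    [AddCommGroup C] [Module K C] [Coalgebra K C]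
    (hC : ∃ (ι : Type v) (D : ι → Submodule K C), iSupIndep D ∧ iSup D = ⊤ ∧ ∀ i,
        D i ≠ ⊥ ∧ (∀ b ∈ (D i), CoalgebraStruct.comul (R := K) b ∈ LinearMap.range (TensorProduct.map (D i).subtype (D i).subtype)) ∧
        ∀ B : Submodule K C, B ≤ D i → (∀ b ∈ B, CoalgebraStruct.comul (R := K) b ∈ LinearMap.range (TensorProduct.map B.subtype B.subtype)) → B = ⊥ ∨ B = D i)
    (D₁ D₂ : Submodule K C) (hne : D₁ ≠ D₂)
    (h₁ : D₁ ≠ ⊥ ∧ (∀ b ∈ D₁, CoalgebraStruct.comul (R := K) b ∈ LinearMap.range (TensorProduct.map D₁.subtype D₁.subtype)) ∧ ∀ B : Submodule K C, B ≤ D₁ → (∀ b ∈ B, CoalgebraStruct.comul (R := K) b ∈ LinearMap.range (TensorProduct.map B.subtype B.subtype)) → B = ⊥ ∨ B = D₁)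
    (h₂ : D₂ ≠ ⊥ ∧ (∀ b ∈ D₂, CoalgebraStruct.comul (R := K) b ∈ LinearMap.range (TensorProduct.map D₂.subtype D₂.subtype)) ∧ ∀ B : Submodule K C, B ≤ D₂ → (∀ b ∈ B, CoalgebraStruct.comul (R := K) b ∈ LinearMap.range (TensorProduct.map B.subtype B.subtype)) → B = ⊥ ∨ B = D₂)
    {V : Type w} [AddCommGroup V] [Module K V] [HopfRep.Comod K C V]
    {W : Type w'} [AddCommGroup W] [Module K W] [HopfRep.Comod K C W]
    (hV : ∀ v : V, HopfRep.Comod.coact (k := K) (A := C) v ∈ LinearMap.range (LinearMap.lTensor V D₁.subtype))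
    (hW : ∀ w : W, HopfRep.Comod.coact (k := K) (A := C) w ∈ LinearMap.range (LinearMap.lTensor W D₂.subtype))
    (φ : V →ₗ[K] W) (hφ : Hoch.IsComodHom C φ) : φ = 0 := by
  refine LinearMap.ext fun v => ?_
  have h := LinearMap.congr_fun hφ v
  simp only [LinearMap.comp_apply] at h
  have hmem : ∀ f : W →ₗ[K] K,
      TensorProduct.lid K C (f.rTensor C (HopfRep.Comod.coact (k := K) (A := C) (φ v))) ∈ D₁ ⊓ D₂ := fun f => by
    refine ⟨?_, (Groth.Agent.ComodLib.mem_range_lTensor_subtype_iff D₂ _).mp (hW (φ v)) f⟩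
    have h1 := (Groth.Agent.ComodLib.mem_range_lTensor_subtype_iff D₁ _).mp (hV v) (f ∘ₗ φ)
    rw [h, ← LinearMap.comp_apply (f.rTensor C), ← LinearMap.rTensor_comp]
    exact h1
  have hinf : D₁ ⊓ D₂ = ⊥ := by
    have hsub : Groth.Agent.ComodLib.IsSubcoalg K C (D₁ ⊓ D₂) := by
      obtain ⟨a1, a2⟩ := (Groth.Agent.ComodLib.isSubcoalg_iff D₁).mp h₁.2.1
      obtain ⟨b1, b2⟩ := (Groth.Agent.ComodLib.isSubcoalg_iff D₂).mp h₂.2.1
      exact (Groth.Agent.ComodLib.isSubcoalg_iff _).mpr
        ⟨Groth.Agent.ComodLib.isSubcomod_inf a1 b1, fun f b hb => ⟨a2 f b hb.1, b2 f b hb.2⟩⟩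
    rcases h₁.2.2 _ inf_le_left hsub with h | h
    · exact h
    · rcases h₂.2.2 D₁ (h ▸ inf_le_right) h₁.2.1 with h' | h'
      · exact absurd h' h₁.1
      · exact absurd h' hne
  by_contra h0
  obtain ⟨f, hf⟩ := Module.Projective.exists_dual_ne_zero K h0
  have h2 := hmem f
  rw [hinf, Submodule.mem_bot] at h2
  apply hf
  rw [← Groth.Agent.ComodLib.counit_coefFun (C := C) f (φ v), Groth.Agent.ComodLib.coefFun_apply, h2, map_zero]

end Groth.Agent.S14852
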