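import Groth.Statements.S14856
import Mathlib

set_option autoImplicit false
universe u
open CAlg

namespace Groth.Agent.S14856

/-- Let p be a prime and S a commutative ring in which p is a non-zero-divisor. For a p-typical Witt
vector x over S, a natural number m and an integer s ≥ 1, the power p^s divides each of the Witt
components x_0, …, x_m if and only if p^(n+s) divides the n-th ghost component w_n(x) = x_0^(p^n) +
p x_1^(p^(n-1)) + ⋯ + p^n x_n for every n ≤ m. -/
theorem result (p : ℕ) [Fact p.Prime] (S : Type u) [CommRing S]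
    (hS : ∀ y : S, (p : S) * y = 0 → y = 0) (x : WittVector p S) (m s : ℕ) (hs : 1 ≤ s) :
    (∀ i ≤ m, (p : S) ^ s ∣ x.coeff i) ↔
      (∀ n ≤ m, (p : S) ^ (n + s) ∣ WittVector.ghostComponent n x) := by
  have hp : Nat.Prime p := Fact.out
  have hexp : ∀ i n : ℕ, i ≤ n → n + s ≤ i + s * p ^ (n - i) := by
    intro i n hin
    have h1 : n - i + 1 ≤ p ^ (n - i) :=
      Nat.succ_le_of_lt (Nat.lt_pow_self hp.one_lt)
    have h2 : s * (n - i + 1) ≤ s * p ^ (n - i) := Nat.mul_le_mul_left s h1
    have h3 : n - i + s ≤ s * (n - i + 1) := by nlinarith [Nat.zero_le (n - i)]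
    omega
  have hg : ∀ n, WittVector.ghostComponent n x =
      ∑ i ∈ Finset.range (n + 1), (p : S) ^ i * x.coeff i ^ p ^ (n - i) := by
    intro n
    rw [WittVector.ghostComponent_apply, wittPolynomial_eq_sum_C_mul_X_pow, map_sum]
    simp
  have hterm : ∀ i n : ℕ, i ≤ n → (p : S) ^ s ∣ x.coeff i →
      (p : S) ^ (n + s) ∣ (p : S) ^ i * x.coeff i ^ p ^ (n - i) := by
    intro i n hin hd
    refine (pow_dvd_pow _ (hexp i n hin)).trans ?_
    rw [pow_add, pow_mul]
    exact mul_dvd_mul_left _ (pow_dvd_pow_of_dvd hd _)
  constructor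
  · intro h n hn
    rw [hg]
    refine Finset.dvd_sum fun i hi => ?_
    rw [Finset.mem_range] at hi
    exact hterm i n (by omega) (h i (by omega))
  · intro h i
    induction i using Nat.strong_induction_on with
    | _ i ih =>
      intro hi
      have h1 := h i hi
      rw [hg, Finset.sum_range_succ, Nat.sub_self, pow_zero, pow_one, add_comm] at h1
      have h2 : (p : S) ^ (s + i) ∣ (p : S) ^ i * x.coeff i := by
        refine (dvd_add_right (Finset.dvd_sum fun j hj => ?_)).1 h1
        rw [Finset.mem_range] at hj
        rw [add_comm]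
        exact hterm j i hj.le (ih j hj (by omega))
      obtain ⟨c, hc⟩ := h2
      refine ⟨c, ?_⟩
      have hcancel : ∀ k : ℕ, ∀ y : S, (p : S) ^ k * y = 0 → y = 0 := by
        intro k
        induction k with
        | zero => simp
        | succ k ihk =>
          intro y hy
          exact hS y (ihk _ (by rw [← hy]; ring))
      exact sub_eq_zero.1 (hcancel i _ (by rw [mul_sub, hc, pow_add]; ring))

end Groth.Agent.S14856
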