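import Groth.Statements.S14857
import Mathlib

set_option autoImplicit false
open CAlg

namespace Groth.Agent.S14857

/-- For a prime p, the Teichmüller representative [p^p] of the element p^p of the p-adic integers is
divisible by p in the ring of p-typical Witt vectors W(ℤ_p). -/
theorem result (p : ℕ) [Fact p.Prime] :
    (p : WittVector p ℤ_[p]) ∣ WittVector.teichmuller p ((p : ℤ_[p]) ^ p) := by
  classical
  have hp : (p : ℤ_[p]) ≠ 0 := by exact_mod_cast (Fact.out : p.Prime).ne_zero
  -- ghost components of the quotient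
  let w : ℕ → ℤ_[p] := fun n => (p : ℤ_[p]) ^ (p ^ (n + 1) - 1)
  let nxt : (ℕ → ℤ_[p]) → ℕ → ℤ_[p] := fun F n =>
    if h : (p : ℤ_[p]) ^ n ∣ w n - ∑ i ∈ Finset.range n, (p : ℤ_[p]) ^ i * F i ^ p ^ (n - i) then h.choose else 0
  let F : ℕ → ℕ → ℤ_[p] := fun n => Nat.rec (fun _ => 0) (fun n Fn => Function.update Fn n (nxt Fn n)) n
  have hF : ∀ n, F (n + 1) = Function.update (F n) n (nxt (F n) n) := fun _ => rfl
  let y : ℕ → ℤ_[p] := fun n => F (n + 1) n
  have hstab : ∀ n i, i < n → F n i = y i := by
    intro n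
    induction n with
    | zero => intro i hi; omega
    | succ n ih =>
      intro i hi
      rcases (Nat.lt_succ_iff.1 hi).lt_or_eq with h | rfl
      · rw [hF, Function.update_of_ne h.ne]; exact ih i h
      · rfl
  have hflt : ∀ a : ℤ_[p], (p : ℤ_[p]) ∣ a ^ p - a := by
    intro a
    rw [← Ideal.mem_span_singleton, ← PadicInt.maximalIdeal_eq_span_p, ← PadicInt.ker_toZMod,
      RingHom.mem_ker, map_sub, map_pow, ZMod.pow_card, sub_self]
  have hy : ∀ n, ∑ i ∈ Finset.range (n + 1), (p : ℤ_[p]) ^ i * y i ^ p ^ (n - i) = w n := by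
    intro n
    induction n using Nat.strong_induction_on with
    | h n ih =>
      have hdiv : (p : ℤ_[p]) ^ n ∣ w n - ∑ i ∈ Finset.range n, (p : ℤ_[p]) ^ i * y i ^ p ^ (n - i) := by
        rcases n with _ | n
        · simp
        · have hw : ∀ m, n + 1 ≤ p ^ (m + 1) - 1 → (p : ℤ_[p]) ^ (n + 1) ∣ w m := fun m hm => pow_dvd_pow _ hm
          have hbig : ∀ m : ℕ, m + 1 ≤ p ^ (m + 1) - 1 := fun m => by
            have := Nat.lt_pow_self (n := m + 1) (Fact.out : p.Prime).one_lt
            omega
          have hdiff : (p : ℤ_[p]) ^ (n + 1) ∣ ∑ i ∈ Finset.range (n + 1), (p : ℤ_[p]) ^ i * y i ^ p ^ (n + 1 - i)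
              - ∑ i ∈ Finset.range (n + 1), (p : ℤ_[p]) ^ i * y i ^ p ^ (n - i) := by
            rw [← Finset.sum_sub_distrib]
            refine Finset.dvd_sum fun i hi => ?_
            have hin := Finset.mem_range.1 hi
            rw [← mul_sub, show n + 1 - i = (n - i) + 1 by omega]
            have e : y i ^ p ^ (n - i + 1) = (y i ^ p) ^ p ^ (n - i) := by rw [← pow_mul, ← pow_succ']
            have e2 : (p : ℤ_[p]) ^ (n + 1) = (p : ℤ_[p]) ^ i * (p : ℤ_[p]) ^ (n - i + 1) := by
              rw [← pow_add]; congr 1; omega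
            rw [e, e2]
            exact mul_dvd_mul_left _ (dvd_sub_pow_of_dvd_sub (hflt (y i)) (n - i))
          rw [ih n n.lt_succ_self] at hdiff
          have h1 : (p : ℤ_[p]) ^ (n + 1) ∣ w n := by
            refine hw n ?_
            exact hbig n
          have h2 : (p : ℤ_[p]) ^ (n + 1) ∣ w (n + 1) := hw (n + 1) (le_trans (Nat.le_succ _) (hbig (n + 1)))
          have := dvd_sub h2 (dvd_add hdiff h1)
          simpa using this
      have hsum : ∑ i ∈ Finset.range n, (p : ℤ_[p]) ^ i * F n i ^ p ^ (n - i) =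
          ∑ i ∈ Finset.range n, (p : ℤ_[p]) ^ i * y i ^ p ^ (n - i) :=
        Finset.sum_congr rfl fun i hi => by rw [hstab n i (Finset.mem_range.1 hi)]
      have hyn : y n = nxt (F n) n := by
        show F (n + 1) n = _
        rw [hF, Function.update_self]
      rw [← hsum] at hdiv
      rw [Finset.sum_range_succ, Nat.sub_self, pow_zero, pow_one, hyn]
      simp only [nxt, dif_pos hdiv]
      rw [← hdiv.choose_spec, hsum]
      ring
  refine ⟨WittVector.mk p y, ?_⟩
  have hinj : Function.Injective (algebraMap ℤ_[p] ℚ_[p]) := IsFractionRing.injective _ _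
  refine WittVector.map_injective (algebraMap ℤ_[p] ℚ_[p]) hinj ?_
  haveI : Invertible (p : ℚ_[p]) := invertibleOfNonzero (by exact_mod_cast (Fact.out : p.Prime).ne_zero)
  refine (WittVector.ghostEquiv p ℚ_[p]).injective (funext fun n => ?_)
  show WittVector.ghostComponent n _ = WittVector.ghostComponent n _
  rw [map_mul, map_natCast, map_mul, map_natCast, WittVector.map_teichmuller,
    WittVector.ghostComponent_teichmuller, WittVector.ghostComponent_apply, aeval_wittPolynomial]
  simp only [WittVector.map_coeff, WittVector.coeff_mk]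
  rw [← map_natCast (algebraMap ℤ_[p] ℚ_[p])]
  simp only [← map_pow, ← map_mul, ← map_sum]
  rw [hy]
  congr 1
  rw [← pow_succ', ← pow_mul, ← pow_succ', Nat.sub_add_cancel (Nat.one_le_pow _ _ (Fact.out : p.Prime).pos)]

end Groth.Agent.S14857
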