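import Groth.Statements.S14859
import Groth.Agent.DispLib.Basic
import Mathlib.RingTheory.OrzechProperty
import Mathlib.LinearAlgebra.Prod
-- import your own Groth.Agent.* helpers here

set_option autoImplicit false
universe u v w
open Disp

namespace Groth.Agent.S14859

/-- Let p be a prime, R a commutative ring with p-typical Witt vectors W = W(R), and (P, Q, F, V⁻¹) a
3n-display over R with a normal decomposition P = L ⊕ T, Q = L + I_R·T. Then V⁻¹ ⊕ F : L ⊕ T → P is
a Frobenius-linear isomorphism; stated here in the case where L and T are free with bases (l_i) and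
(t_j): the family consisting of the V⁻¹(l_i) and the F(t_j) is a basis of the W-module P, i.e. it is
linearly independent over W and spans P. -/
theorem result (p : ℕ) [Fact p.Prime] (R : Type u) [CommRing R]
    (P : Type v) [AddCommGroup P] [Module (WittVector p R) P] (D : W4c1extbt610.Display3n p R P)
    (L T : Submodule (WittVector p R) P) (hLT : IsCompl L T)
    (hQ : D.Q = L ⊔ W4c1extbt610.IV p R • T) (hLQ : L ≤ D.Q)
    (ιL ιT : Type w) (bL : Module.Basis ιL (WittVector p R) L) (bT : Module.Basis ιT (WittVector p R) T) :
    LinearIndependent (WittVector p R)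
        (Sum.elim (fun i : ιL => D.Vinv ⟨(bL i : P), hLQ (bL i).2⟩) (fun j : ιT => D.F (bT j : P))) ∧
      Submodule.span (WittVector p R)
        (Set.range (Sum.elim (fun i : ιL => D.Vinv ⟨(bL i : P), hLQ (bL i).2⟩) (fun j : ιT => D.F (bT j : P)))) = ⊤ := by
  haveI := D.finite
  let φ := DispLib.normalMap D hLT hLQ
  have hφ := DispLib.span_normalMap D hLT hLQ hQ
  let e : (L × T) ≃ₗ[WittVector p R] P := Submodule.prodEquivOfIsCompl L T hLT
  let b : Module.Basis (ιL ⊕ ιT) (WittVector p R) P := (bL.prod bT).map e
  have hb : ∀ i, φ (b i) = Sum.elim (fun i : ιL => D.Vinv ⟨(bL i : P), hLQ (bL i).2⟩) (fun j : ιT => D.F (bT j : P)) i := by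
    rintro (i | j)
    · rw [show b (Sum.inl i) = (bL i : P) by simp [b, e, Module.Basis.prod_apply, Submodule.coe_prodEquivOfIsCompl], DispLib.normalMap_L]
      rfl
    · rw [show b (Sum.inr j) = (bT j : P) by simp [b, e, Module.Basis.prod_apply, Submodule.coe_prodEquivOfIsCompl], DispLib.normalMap_T]
      rfl
  have hspan : Submodule.span (WittVector p R) (Set.range fun i => φ (b i)) = ⊤ := by
    rw [eq_top_iff, ← hφ, Submodule.span_le]
    rintro _ ⟨x, rfl⟩
    have hx : x ∈ Submodule.span (WittVector p R) (Set.range b) := by rw [b.span_eq]; trivial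
    rw [SetLike.mem_coe]
    induction hx using Submodule.span_induction with
    | mem y hy => obtain ⟨i, rfl⟩ := hy; exact Submodule.subset_span ⟨i, rfl⟩
    | zero => rw [map_zero]; exact zero_mem _
    | add y z _ _ hy hz => rw [map_add]; exact add_mem hy hz
    | smul a y _ hy => rw [map_smulₛₗ]; exact Submodule.smul_mem _ _ hy
  have hbij : Function.Bijective (b.constr (WittVector p R) fun i => φ (b i)) := by
    have hs : Function.Surjective (b.constr (WittVector p R) fun i => φ (b i)) := by
      rw [← LinearMap.range_eq_top, Module.Basis.constr_range, hspan]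
    exact ⟨OrzechProperty.injective_of_surjective_endomorphism _ hs, hs⟩
  rw [← funext hb]
  refine ⟨?_, hspan⟩
  have h := (b.map (LinearEquiv.ofBijective _ hbij)).linearIndependent
  convert h using 1
  funext i
  rw [Module.Basis.map_apply (b := b)]
  exact ((b.constr_basis (WittVector p R) (fun i => φ (b i)) i)).symm

end Groth.Agent.S14859
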