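import Groth.Statements.S14860
import Mathlib
import Groth.Agent.WittProj.Basic
import Groth.Agent.WittProj.Filtered

set_option autoImplicit false
universe u v
open CAlg

namespace Groth.Agent.S14860

/-- Let p be a prime and R a commutative ring in which p is nilpotent; write W = W(R) for the p-typical
Witt vectors and, for n ≥ 0, I_n ⊆ W for the ideal of Witt vectors whose first n components vanish
(the kernel of the truncation W → W_n(R), so W/I_n = W_n(R)). For a W-module P conditions (i) and
(ii) below are equivalent: (i) P is a projective W-module of finite type; (ii) P is separated for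
the filtration by the submodules I_n P, and for every n the W_n(R)-module P/I_n P is finitely
generated and projective. (The published statement is made for every ℤ_(p)-algebra R, the section's
standing convention; over R = ℚ, where W(ℚ) ≅ ℚ^ℕ by the ghost map, the module ⊕_ℕ ℚ satisfies (ii)
but is not finitely generated, and the published proof uses that I_1 is nilpotent in each W_n(R),
which holds when p is nilpotent in R; so p is taken nilpotent here. The third equivalent condition
of the published statement, freeness Zariski-locally on R, is not rendered.) -/
theorem result (p : ℕ) [Fact p.Prime] (R : Type u) [CommRing R]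
    (hp : IsNilpotent (p : R))
    (P : Type v) [AddCommGroup P] [Module (WittVector p R) P] :
    (Module.Finite (WittVector p R) P ∧ Module.Projective (WittVector p R) P) ↔
      ((⨅ n : ℕ, (RingHom.ker (WittVector.truncate (p := p) (R := R) n) • (⊤ : Submodule (WittVector p R) P))) = ⊥ ∧
        ∀ n : ℕ, Module.Finite (WittVector p R ⧸ RingHom.ker (WittVector.truncate (p := p) (R := R) n))
              (P ⧸ (RingHom.ker (WittVector.truncate (p := p) (R := R) n) • (⊤ : Submodule (WittVector p R) P))) ∧
            Module.Projective (WittVector p R ⧸ RingHom.ker (WittVector.truncate (p := p) (R := R) n))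
              (P ⧸ (RingHom.ker (WittVector.truncate (p := p) (R := R) n) • (⊤ : Submodule (WittVector p R) P)))) := by
  constructor
  · rintro ⟨hf, hpr⟩
    refine ⟨le_bot_iff.1 fun y hy => ?_, fun n => WittProj.quotient_finite_projective _⟩
    rw [Submodule.mem_iInf] at hy
    exact WittProj.eq_zero_of_forall_mem_smul (fun n => WittProj.I p R n) (fun w h => WittProj.eq_zero_of_forall_mem h) hy
  · rintro ⟨hsep, hn⟩
    obtain ⟨N, hN⟩ := hp
    refine WittProj.finite_projective_of_filtered (fun n => WittProj.I p R (n + 1))
      (fun m n h => WittProj.I_anti (by omega)) ?_ (fun w h => WittProj.eq_zero_of_forall_mem fun n =>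
        WittProj.I_anti (Nat.le_succ n) (h n)) ?_ (fun y hy => ?_) (hn 1).1 (fun n => (hn (n + 1)).2)
    · intro s hs
      obtain ⟨x, hx⟩ := WittProj.exists_limit (fun n => Nat.casesOn n 0 s) (fun n => by
        cases n with
        | zero => exact (WittProj.mem_I_iff _ _).2 fun i hi => absurd hi (Nat.not_lt_zero i)
        | succ n => exact hs n)
      exact ⟨x, fun n => hx (n + 1)⟩
    · intro n
      induction n with
      | zero => exact ⟨1, (pow_one _).le⟩
      | succ n ih =>
        obtain ⟨k, hk⟩ := ih
        exact ⟨k * (N + 1), by rw [pow_mul]; exact (Ideal.pow_right_mono hk _).trans (WittProj.pow_le hN n)⟩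
    · rw [← Submodule.mem_bot (WittVector p R), ← hsep, Submodule.mem_iInf]
      intro n
      exact Submodule.smul_mono_left (WittProj.I_anti (Nat.le_succ n)) (hy n)

end Groth.Agent.S14860
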