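import Groth.Statements.S14863
import Groth.Agent.DispLib.ExactFV
import Groth.Agent.DispLib.LiftDecomp
import Groth.Agent.S14855
-- import your own Groth.Agent.* helpers here

set_option autoImplicit false
universe u v
open Disp

namespace Groth.Agent.S14863

/-- Let p be a prime and k a perfect commutative ring of characteristic p, so that the Frobenius σ of W
= W(k) is an automorphism. Let M be a Dieudonné module over k, that is, a projective W-module of
finite type with a σ-semilinear operator F and a σ⁻¹-semilinear operator V such that FV = VF = p.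
Then (M, VM, F, V⁻¹) is a 3n-display over k: there exists a 3n-display structure on the W-module M
whose distinguished submodule is exactly the image of V, whose Frobenius operator is F, and whose
operator V⁻¹ sends V m to m for every m. (The published statement is the equivalence of the category
of 3n-displays over k with that of Dieudonné modules, displays corresponding to topologically
nilpotent V; this row is the passage from a Dieudonné module to a 3n-display.) -/
theorem result (p : ℕ) [Fact p.Prime] (k : Type u) [CommRing k]
    [CharP k p] [PerfectRing k p]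
    (M : Type v) [AddCommGroup M] [Module (WittVector p k) M]
    [Module.Finite (WittVector p k) M] [Module.Projective (WittVector p k) M]
    (F : M →ₛₗ[(WittVector.frobenius : WittVector p k →+* WittVector p k)] M)
    (V : M →ₛₗ[((WittVector.frobeniusEquiv p k).symm : WittVector p k →+* WittVector p k)] M)
    (hFV : ∀ m : M, F (V m) = (p : WittVector p k) • m) (hVF : ∀ m : M, V (F m) = (p : WittVector p k) • m) :
    ∃ D : W4c1extbt610.Display3n p k M,
      D.F = F ∧ (∀ x : M, x ∈ D.Q ↔ x ∈ Set.range V) ∧
        ∀ (m : M) (h : V m ∈ D.Q), D.Vinv ⟨V m, h⟩ = m := by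
    classical
    have hp0 : IsNilpotent (p : k) := ⟨1, by rw [pow_one, CharP.cast_eq_zero]⟩
    have hker : RingHom.ker (algebraMap (WittVector p k) (WittVector p k)) ≤ Ideal.span {(p : WittVector p k) ^ 2} :=
      fun x hx => by rw [show x = 0 from hx]; exact zero_mem _
    set I := W4c1extbt610.IV p k with hI
    haveI := DispLib.isAdicComplete_of_isNilpotent (R := k) hp0
    haveI : IsAdicComplete I (WittVector p k) := by
      rw [hI, DispLib.IV_eq_ker]
      exact (S14855.result p k).2
    -- `V` is injective
    obtain ⟨s, hs⟩ := Module.projective_def.1 (inferInstance : Module.Projective (WittVector p k) M)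
    have hVinj : Function.Injective V := by
      rw [injective_iff_map_eq_zero]
      intro x hx
      have h0 : (p : WittVector p k) • x = 0 := by rw [← hFV, hx, map_zero]
      have h1 : s x = 0 := by
        refine Finsupp.ext fun i => ?_
        have h2 := congrArg (fun c : M →₀ WittVector p k => c i) (congrArg s h0)
        simp only [map_smul, Finsupp.smul_apply, smul_eq_mul, map_zero, Finsupp.zero_apply] at h2 ⊢
        apply (WittVector.frobenius_bijective (p := p) (R := k)).1
        apply WittVector.verschiebung_injective p k
        rw [WittVector.verschiebung_frobenius, mul_comm, h2, map_zero, map_zero]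
      rw [← hs x, h1, map_zero]
    let fe := WittVector.frobeniusEquiv p k
    let Q : Submodule (WittVector p k) M :=
      { carrier := Set.range V
        add_mem' := by rintro _ _ ⟨a, rfl⟩ ⟨b, rfl⟩; exact ⟨a + b, map_add V a b⟩
        zero_mem' := ⟨0, map_zero V⟩
        smul_mem' := by
          rintro c _ ⟨a, rfl⟩
          refine ⟨fe c • a, ?_⟩
          rw [LinearMap.map_smulₛₗ]
          congr 1
          exact fe.symm_apply_apply c }
    have hQmem : ∀ x, x ∈ Q ↔ x ∈ Set.range V := fun x => Iff.rfl
    choose inv hinv using fun q : Q => (hQmem (q : M)).1 q.2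
    have hsymm : ∀ a, (fe.symm : WittVector p k →+* WittVector p k) (WittVector.frobenius a) = a := fun a =>
      fe.symm_apply_apply a
    have hIp : ∀ a ∈ I, ∃ u, a = (p : WittVector p k) * u ∧ ∀ w, a = WittVector.verschiebung w → w = WittVector.frobenius u := by
      intro a ha
      obtain ⟨w, hw⟩ := DispLib.exists_verschiebung_eq ha
      obtain ⟨u, hu⟩ := (WittVector.frobenius_bijective (p := p) (R := k)).2 w
      refine ⟨u, by rw [hw, ← hu, WittVector.verschiebung_frobenius, mul_comm], fun w' hw' => ?_⟩
      rw [hu]
      exact WittVector.verschiebung_injective p k (hw'.symm.trans hw)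
    have hIle : I • (⊤ : Submodule (WittVector p k) M) ≤ Q := Submodule.smul_le.2 fun a ha x _ => by
      obtain ⟨u, rfl, -⟩ := hIp a ha
      exact ⟨F (u • x), by rw [hVF, mul_smul]⟩
    have hp_eq : I = Ideal.span {(p : WittVector p k)} := by
      refine le_antisymm (fun a ha => ?_) (Ideal.span_le.2 ?_)
      · obtain ⟨u, rfl, -⟩ := hIp a ha
        exact Ideal.mul_mem_right _ _ (Ideal.subset_span rfl)
      · rw [Set.singleton_subset_iff, SetLike.mem_coe, hI, DispLib.mem_IV_iff, map_natCast, CharP.cast_eq_zero]
    haveI hproj := DispLib.ExactFV.projective_coker (WittVector p k) F V hFV hVF hker Function.surjective_id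
    -- a complement of `Q` modulo `I M`
    set P0 := Ideal.span {(p : WittVector p k)} • (⊤ : Submodule (WittVector p k) M)
    set A := WittVector p k ⧸ Ideal.span {(p : WittVector p k)}
    set S := Submodule.span A (Set.range fun m : M => P0.mkQ (V m))
    obtain ⟨g, hg⟩ := Module.projective_lifting_property S.mkQ LinearMap.id (Submodule.mkQ_surjective S)
    have hS : ∀ x : M, P0.mkQ x ∈ S ↔ x ∈ Q := by
      intro x
      refine ⟨fun hx => ?_, fun ⟨y, hy⟩ => Submodule.subset_span ⟨y, by rw [← hy]⟩⟩
      suffices h : ∀ z ∈ S, ∀ x, P0.mkQ x = z → x ∈ Q from h _ hx x rfl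
      intro z hz
      have hP : ∀ x y : M, P0.mkQ x = P0.mkQ y → y ∈ Q → x ∈ Q := fun x y e hy => by
        rw [← sub_add_cancel x y]
        exact add_mem (hIle (hp_eq ▸ (Submodule.Quotient.eq P0).1 e)) hy
      induction hz using Submodule.span_induction with
      | mem z hz =>
        obtain ⟨y, rfl⟩ := hz
        exact fun x e => hP x (V y) e ⟨y, rfl⟩
      | zero => exact fun x e => hP x 0 (by rw [e, map_zero]) (zero_mem _)
      | add a b _ _ ha hb =>
        intro x e
        obtain ⟨a', rfl⟩ := Submodule.mkQ_surjective P0 a
        obtain ⟨b', rfl⟩ := Submodule.mkQ_surjective P0 b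
        exact hP x (a' + b') (by rw [e, map_add]) (add_mem (ha a' rfl) (hb b' rfl))
      | smul r y _ hy =>
        intro x e
        obtain ⟨r, rfl⟩ := Ideal.Quotient.mk_surjective r
        obtain ⟨y', rfl⟩ := Submodule.mkQ_surjective P0 y
        exact hP x (r • y') (by rw [e, map_smul]; rfl) (Submodule.smul_mem _ r (hy y' rfl))
    let C : Submodule (WittVector p k) M := (LinearMap.range (g.restrictScalars (WittVector p k))).comap P0.mkQ
    have hgS : ∀ z, S.mkQ (g z) = z := fun z => LinearMap.congr_fun hg z
    have hsup : Q ⊔ C = ⊤ := by
      rw [eq_top_iff]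
      rintro x -
      obtain ⟨c, hc⟩ := Submodule.mkQ_surjective P0 (g (S.mkQ (P0.mkQ x)))
      rw [← sub_add_cancel x c]
      refine Submodule.add_mem_sup ((hS _).1 ?_) ⟨S.mkQ (P0.mkQ x), hc.symm⟩
      rw [map_sub, hc, ← Submodule.Quotient.mk_eq_zero, Submodule.Quotient.mk_sub, sub_eq_zero]
      exact (hgS _).symm
    have hinf : Q ⊓ C = I • (⊤ : Submodule (WittVector p k) M) := by
      refine le_antisymm ?_ (le_inf hIle fun x hx => ⟨0, ?_⟩)
      · rintro x ⟨hxQ, z, hz⟩
        rw [hp_eq, ← Submodule.Quotient.mk_eq_zero, ← Submodule.mkQ_apply, ← hz]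
        have h0 : z = 0 := by
          rw [← hgS z]
          exact (Submodule.Quotient.mk_eq_zero S).2 (by rw [show g z = P0.mkQ x from hz]; exact (hS x).2 hxQ)
        rw [h0, map_zero]
      · rw [map_zero]
        exact ((Submodule.Quotient.mk_eq_zero P0).2 (show x ∈ Ideal.span _ • _ by rw [← hp_eq]; exact hx)).symm
    obtain ⟨L, T, hLT, hQLT⟩ := DispLib.LiftDecomp.exists_isCompl I Q C hsup hinf
    refine ⟨{ Q := Q
              F := F
              Vinv := { toFun := inv
                        map_add' := fun a b => hVinj (by rw [map_add, hinv, hinv, hinv]; rfl)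
                        map_smul' := fun c a => hVinj (by rw [hinv, LinearMap.map_smulₛₗ, hsymm, hinv]; rfl) }
              finite := inferInstance
              projective := inferInstance
              IV_smul_le := hIle
              exists_normal := ⟨L, T, hLT, hQLT⟩
              span_range_Vinv := ?_
              Vinv_verschiebung_smul := fun w x => hVinj ?_ }, rfl, hQmem, fun m h => hVinj (hinv ⟨V m, h⟩)⟩
    · rw [eq_top_iff]
      rintro x -
      exact Submodule.subset_span ⟨⟨V x, x, rfl⟩, hVinj (hinv _)⟩
    · change V (inv _) = _
      rw [hinv, LinearMap.map_smulₛₗ, hVF, ← mul_smul]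
      obtain ⟨u, hu, huw⟩ := hIp _ (W4c1extbt610.verschiebung_mem_IV p k w)
      rw [huw w rfl, hsymm]
      change WittVector.verschiebung (WittVector.frobenius u) • x = _
      rw [WittVector.verschiebung_frobenius]

end Groth.Agent.S14863
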