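import Groth.Statements.S14864
import Groth.Agent.WittProj.Basic

set_option autoImplicit false
universe u
open CAlg

namespace Groth.Agent.S14864

/-- Let p be a prime and R a commutative ring in which p is nilpotent; write W = W(R) for the p-typical
Witt vectors, I ⊆ W for the kernel of the projection onto the zeroth component, and I_n ⊆ W for the
kernel of the truncation W → W_n(R). The p-adic topology on W equals its I-adic topology — every
power of the ideal pW contains some power of I and every power of I contains some power of pW — and
this common topology is finer than the V-adic one: every I_n contains some power of pW. -/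
theorem result (p : ℕ) [Fact p.Prime] (R : Type u) [CommRing R]
    (hp : IsNilpotent (p : R)) :
    (∀ n : ℕ, ∃ m : ℕ, (RingHom.ker (WittVector.constantCoeff : WittVector p R →+* R)) ^ m ≤ Ideal.span {(p : WittVector p R)} ^ n) ∧
      (∀ n : ℕ, ∃ m : ℕ, Ideal.span {(p : WittVector p R)} ^ m ≤ (RingHom.ker (WittVector.constantCoeff : WittVector p R →+* R)) ^ n) ∧
        ∀ n : ℕ, ∃ m : ℕ, Ideal.span {(p : WittVector p R)} ^ m ≤ RingHom.ker (WittVector.truncate (p := p) (R := R) n) := by
  classical
  have hdec : ∀ x : WittVector p R, WittVector.constantCoeff x = 0 → ∃ a, x = WittVector.verschiebung a := fun x hx =>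
    ⟨x.shift 1, WittVector.eq_iterate_verschiebung (n := 1) fun i hi => by
      obtain rfl : i = 0 := by omega
      exact hx⟩
  let I : Ideal (WittVector p R) := RingHom.ker (WittVector.constantCoeff : WittVector p R →+* R)
  have hsq : I * I ≤ Ideal.span {(p : WittVector p R)} * I := Ideal.mul_le.2 fun x hx y hy => by
    obtain ⟨a, rfl⟩ := hdec x hx
    obtain ⟨b, rfl⟩ := hdec y hy
    rw [← WittVector.verschiebung_mul_frobenius, WittVector.frobenius_verschiebung, ← mul_assoc,
      show WittVector.verschiebung (a * b * (p : WittVector p R)) = (p : WittVector p R) * WittVector.verschiebung (a * b) by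
        rw [mul_comm _ (WittVector.verschiebung (a * b)), ← map_natCast (WittVector.frobenius : WittVector p R →+* _) p,
          WittVector.verschiebung_mul_frobenius, map_natCast]]
    exact Ideal.mul_mem_mul (Ideal.mem_span_singleton_self _) (WittVector.verschiebung_coeff_zero (p := p) (a * b))
  obtain ⟨N, hN⟩ := id hp
  refine ⟨fun n => ⟨n + 1, ?_⟩, fun n => ⟨N * n, ?_⟩, fun n => ?_⟩
  · induction n with
    | zero => simp
    | succ n ih =>
      have h1 : I ^ (n + 1 + 1) ≤ Ideal.span {(p : WittVector p R)} ^ (n + 1) * I := by
        clear ih
        induction n with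
        | zero =>
          rw [zero_add, pow_one, show (1 + 1 : ℕ) = 2 from rfl, pow_two]
          exact hsq
        | succ n ih =>
          rw [pow_succ I, pow_succ (Ideal.span {(p : WittVector p R)}) (n + 1), mul_assoc]
          refine (Ideal.mul_mono ih le_rfl).trans ?_
          rw [mul_assoc]
          exact Ideal.mul_mono le_rfl hsq
      exact h1.trans Ideal.mul_le_left
  · rw [pow_mul]
    refine Ideal.pow_right_mono ?_ n
    rw [Ideal.span_singleton_pow, Ideal.span_singleton_le_iff_mem, RingHom.mem_ker, map_pow, map_natCast, hN]
  · obtain ⟨k, hk⟩ := WittProj.exists_pow_mem hp (x := (p : WittVector p R))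
      (by rwa [show (p : WittVector p R).coeff 0 = (p : R) from map_natCast WittVector.constantCoeff p]) n
    exact ⟨k, by rwa [Ideal.span_singleton_pow, Ideal.span_singleton_le_iff_mem]⟩

end Groth.Agent.S14864
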