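import Groth.Statements.S14867
import Mathlib
import Groth.Agent.WittProj.Basic
import Groth.Agent.WittProj.Lift

set_option autoImplicit false
universe u
open CAlg

namespace Groth.Agent.S14867

open Matrix


/-- Let p be a prime and S → R a surjective homomorphism of commutative rings such that every element of
its kernel 𝔞 is nilpotent and p is nilpotent in S; write J = W(𝔞) for the kernel of the induced
surjection W(S) → W(R) of rings of p-typical Witt vectors. Then finitely generated projective
modules lift along W(S) → W(R), uniquely up to isomorphism: for every finitely generated projective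
W(R)-module P there is a finitely generated projective W(S)-module P̃ together with a surjection P̃
→ P, semilinear over W(S) → W(R), whose kernel is J·P̃ (that is, an isomorphism W(R) ⊗_{W(S)} P̃ ≅
P); and for any two such pairs (P̃_1, π_1), (P̃_2, π_2) there is a W(S)-linear isomorphism P̃_1 ≅
P̃_2 compatible with π_1 and π_2. -/
theorem result (p : ℕ) [Fact p.Prime] (S R : Type u)
    [CommRing S] [CommRing R] (φ : S →+* R) (hφ : Function.Surjective φ)
    (hnil : ∀ a : S, φ a = 0 → IsNilpotent a) (hp : IsNilpotent (p : S))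
    (P : Type u) [AddCommGroup P] [Module (WittVector p R) P]
    [Module.Finite (WittVector p R) P] [Module.Projective (WittVector p R) P] :
    (∃ (P' : Type u) (_ : AddCommGroup P') (_ : Module (WittVector p S) P'),
        Module.Finite (WittVector p S) P' ∧ Module.Projective (WittVector p S) P' ∧
          ∃ π : P' →ₛₗ[WittVector.map (p := p) φ] P, Function.Surjective π ∧
            LinearMap.ker π = RingHom.ker (WittVector.map (p := p) φ) • (⊤ : Submodule (WittVector p S) P')) ∧
      ∀ (P₁ : Type u) [AddCommGroup P₁] [Module (WittVector p S) P₁]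
        [Module.Finite (WittVector p S) P₁] [Module.Projective (WittVector p S) P₁]
        (P₂ : Type u) [AddCommGroup P₂] [Module (WittVector p S) P₂]
        [Module.Finite (WittVector p S) P₂] [Module.Projective (WittVector p S) P₂]
        (π₁ : P₁ →ₛₗ[WittVector.map (p := p) φ] P) (π₂ : P₂ →ₛₗ[WittVector.map (p := p) φ] P),
        Function.Surjective π₁ →
          LinearMap.ker π₁ = RingHom.ker (WittVector.map (p := p) φ) • (⊤ : Submodule (WittVector p S) P₁) →
        Function.Surjective π₂ →
          LinearMap.ker π₂ = RingHom.ker (WittVector.map (p := p) φ) • (⊤ : Submodule (WittVector p S) P₂) →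
        ∃ e : P₁ ≃ₗ[WittVector p S] P₂, ∀ x : P₁, π₂ (e x) = π₁ x := by
  set Φ : WittVector p S →+* WittVector p R := WittVector.map (p := p) φ with hΦ
  have hΦs : Function.Surjective Φ := WittVector.map_surjective φ hφ
  have hnil0 : ∀ x ∈ RingHom.ker Φ, IsNilpotent (x.coeff 0) := fun x hx => hnil _ (by
    have := congrArg (fun z : WittVector p R => z.coeff 0) hx
    simpa [hΦ, WittVector.map_coeff] using this)
  have hjac : RingHom.ker Φ ≤ Ideal.jacobson ⊥ := fun x hx => WittProj.mem_jacobson hp (hnil0 x hx)
  refine ⟨?_, fun P₁ _ _ _ _ P₂ _ _ _ _ π₁ π₂ h₁ k₁ h₂ k₂ => WittProj.exists_equiv_lift Φ hjac π₁ π₂ h₁ k₁ h₂ k₂⟩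
  obtain ⟨d, f, g, -, -, hfg⟩ := Module.Finite.exists_comp_eq_id_of_projective (WittVector p R) P
  have hfg' : ∀ y, f (g y) = y := fun y => LinearMap.congr_fun hfg y
  have hε : LinearMap.toMatrix' (g.comp f) * LinearMap.toMatrix' (g.comp f) = LinearMap.toMatrix' (g.comp f) := by
    rw [← LinearMap.toMatrix'_comp]
    congr 1
    exact LinearMap.ext fun v => congrArg g (hfg' (f v))
  obtain ⟨e, he, heε⟩ := WittProj.exists_idempotent_lift Φ (fun n => WittProj.I p S n) hΦs WittProj.I_anti
    WittProj.exists_limit (fun w h => WittProj.eq_zero_of_forall_mem h)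
    (fun x hx => RingHom.mem_ker.2 (WittVector.ext fun i => by
      obtain ⟨y, hy, hxy⟩ := hx (i + 1)
      have h0 := congrArg (fun z : WittVector p R => z.coeff i) hy
      simpa [hΦ, WittVector.map_coeff, (WittProj.sub_mem_I_iff _ _ _).1 hxy i (Nat.lt_succ_self i)] using h0))
    (fun D hD hDJ n => WittProj.exists_ideal_pow_le hp hD (fun x hx => hnil0 x (hDJ hx)) n)
    _ hε
  let ι : (Fin d → WittVector p S) →ₗ[WittVector p S] (Fin d → WittVector p S) := Matrix.toLin' e
  have hι : ∀ v, ι (ι v) = ι v := fun v => by
    show Matrix.toLin' e (Matrix.toLin' e v) = Matrix.toLin' e v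
    rw [← LinearMap.comp_apply, ← Matrix.toLin'_mul, he]
  have hιP : ∀ v : LinearMap.range ι, ι v.1 = v.1 := by
    rintro ⟨_, w, rfl⟩; exact hι w
  have hΦι : ∀ v, (fun j => Φ (ι v j)) = g (f (fun j => Φ (v j))) := by
    intro v
    funext j
    show Φ ((e *ᵥ v) j) = _
    have h2 : (Φ.mapMatrix e *ᵥ (fun j => Φ (v j))) = g (f (fun j => Φ (v j))) := by
      rw [heε, LinearMap.toMatrix'_mulVec]; rfl
    rw [RingHom.map_mulVec]
    exact congrFun h2 j
  let π : LinearMap.range ι →ₛₗ[Φ] P :=
    { toFun := fun v => f (fun j => Φ (v.1 j))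
      map_add' := fun a b => by
        rw [← map_add]; congr 1; funext j; exact map_add Φ _ _
      map_smul' := fun c a => by
        rw [← map_smul]; congr 1; funext j; exact map_mul Φ _ _ }
  refine ⟨LinearMap.range ι, inferInstance, inferInstance,
    Module.Finite.of_surjective ι.rangeRestrict ι.surjective_rangeRestrict,
    Module.Projective.of_split (LinearMap.range ι).subtype ι.rangeRestrict
      (LinearMap.ext fun v => Subtype.ext (hιP v)), π, fun y => ?_, ?_⟩
  · choose v hv using fun j => hΦs (g y j)
    refine ⟨⟨ι v, v, rfl⟩, ?_⟩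
    show f (fun j => Φ (ι v j)) = y
    rw [hΦι, show (fun j => Φ (v j)) = g y from funext hv, hfg', hfg']
  · refine le_antisymm (fun v hv => ?_) (Submodule.smul_le.2 fun a ha v _ => ?_)
    · have h0 : (fun j => Φ (v.1 j)) = 0 := by
        have h := hΦι v.1
        rw [hιP v, show f (fun j => Φ (v.1 j)) = 0 from hv, map_zero] at h
        exact h
      have hsum : v = ∑ j, v.1 j • ι.rangeRestrict (Pi.single j 1) := by
        refine Subtype.ext ?_
        conv_lhs => rw [← hιP v, pi_eq_sum_univ' v.1, map_sum]
        rw [AddSubmonoidClass.coe_finsetSum]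
        exact Finset.sum_congr rfl fun j _ => map_smul ι _ _
      rw [hsum]
      exact Submodule.sum_mem _ fun j _ => Submodule.smul_mem_smul (RingHom.mem_ker.2 (congrFun h0 j)) trivial
    · show π (a • v) = 0
      rw [LinearMap.map_smulₛₗ, RingHom.mem_ker.1 ha, zero_smul]

end Groth.Agent.S14867
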