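import Groth.Statements.S14869
import Mathlib.LinearAlgebra.TensorProduct.RightExactness

set_option autoImplicit false
universe u v w
open CAlg

namespace Groth.Agent.S14869

open TensorProduct in
lemma one_tmul_surjective {S R : Type u} [CommRing S] [CommRing R] [Algebra S R]
    (hSR : Function.Surjective (algebraMap S R)) (P : Type v) [AddCommGroup P] [Module S P] :
    Function.Surjective (fun x : P => (1 : R) ⊗ₜ[S] x) := by
  intro t
  induction t using TensorProduct.induction_on with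
  | zero => exact ⟨0, by simp⟩
  | tmul r x =>
    obtain ⟨s, rfl⟩ := hSR r
    exact ⟨s • x, by show (1 : R) ⊗ₜ[S] (s • x) = _; rw [TensorProduct.tmul_smul, Algebra.algebraMap_eq_smul_one, TensorProduct.smul_tmul']⟩
  | add t₁ t₂ h₁ h₂ =>
    obtain ⟨x₁, rfl⟩ := h₁
    obtain ⟨x₂, rfl⟩ := h₂
    exact ⟨x₁ + x₂, TensorProduct.tmul_add _ _ _⟩


open TensorProduct in
/-- Let S → R be a surjective homomorphism of commutative rings, let π : P_1 → P_2 be a surjective
homomorphism of S-modules with P_2 projective, and let π̄ : R ⊗_S P_1 → R ⊗_S P_2 be its base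
change. Then every R-linear section σ̄ of π̄ lifts to a section of π: there is an S-linear map σ :
P_2 → P_1 with π ∘ σ = id whose base change R ⊗_S σ is σ̄. -/
theorem result (S R : Type u) [CommRing S] [CommRing R] [Algebra S R]
    (hSR : Function.Surjective (algebraMap S R))
    (P₁ : Type v) [AddCommGroup P₁] [Module S P₁]
    (P₂ : Type w) [AddCommGroup P₂] [Module S P₂] [Module.Projective S P₂]
    (π : P₁ →ₗ[S] P₂) (hπ : Function.Surjective π)
    (σ' : R ⊗[S] P₂ →ₗ[R] R ⊗[S] P₁) (hσ' : (π.baseChange R).comp σ' = LinearMap.id) :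
    ∃ σ : P₂ →ₗ[S] P₁, π.comp σ = LinearMap.id ∧ σ.baseChange R = σ' := by
  let m₁ : P₁ →ₗ[S] R ⊗[S] P₁ := TensorProduct.mk S R P₁ 1
  obtain ⟨σ₀, hσ₀⟩ := Module.projective_lifting_property m₁
    ((σ'.restrictScalars S).comp (TensorProduct.mk S R P₂ 1)) (one_tmul_surjective hSR P₁)
  have hσ₀' : ∀ y, (1 : R) ⊗ₜ[S] σ₀ y = σ' ((1 : R) ⊗ₜ[S] y) := fun y => LinearMap.congr_fun hσ₀ y
  have hdel : ∀ y, (1 : R) ⊗ₜ[S] (π (σ₀ y) - y) = 0 := by
    intro y
    rw [TensorProduct.tmul_sub, ← LinearMap.baseChange_tmul, hσ₀', ← LinearMap.comp_apply, hσ', LinearMap.id_apply, sub_self]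
  let K₁ := LinearMap.ker m₁
  let K₂ := LinearMap.ker (TensorProduct.mk S R P₂ 1)
  let π' : K₁ →ₗ[S] K₂ := LinearMap.codRestrict K₂ (π.comp K₁.subtype) fun x => by
    show (1 : R) ⊗ₜ[S] π x.1 = 0
    rw [← LinearMap.baseChange_tmul, show (1 : R) ⊗ₜ[S] x.1 = 0 from x.2, map_zero]
  have hπ' : Function.Surjective π' := by
    rintro ⟨y, hy⟩
    obtain ⟨x, rfl⟩ := hπ y
    have hex := _root_.lTensor_exact R (f := (LinearMap.ker π).subtype) (g := π) (LinearMap.exact_subtype_ker_map π) hπ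
    obtain ⟨z, hz⟩ := (hex ((1 : R) ⊗ₜ[S] x)).1 hy
    have : ∃ k : LinearMap.ker π, (1 : R) ⊗ₜ[S] k = z := by
      clear hz
      induction z using TensorProduct.induction_on with
      | zero => exact ⟨0, by simp⟩
      | tmul r k =>
        obtain ⟨s, rfl⟩ := hSR r
        exact ⟨s • k, by show (1 : R) ⊗ₜ[S] (s • _) = _; rw [TensorProduct.tmul_smul, Algebra.algebraMap_eq_smul_one, TensorProduct.smul_tmul']⟩
      | add t₁ t₂ h₁ h₂ =>
        obtain ⟨x₁, rfl⟩ := h₁
        obtain ⟨x₂, rfl⟩ := h₂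
        exact ⟨x₁ + x₂, TensorProduct.tmul_add _ _ _⟩
    obtain ⟨k, rfl⟩ := this
    rw [LinearMap.lTensor_tmul] at hz
    refine ⟨⟨x - k.1, ?_⟩, ?_⟩
    · show (1 : R) ⊗ₜ[S] (x - k.1) = 0
      rw [TensorProduct.tmul_sub, ← hz, sub_eq_zero]; rfl
    · apply Subtype.ext
      show π (x - k.1) = π x
      rw [map_sub, LinearMap.mem_ker.1 k.2, sub_zero]
  obtain ⟨τ, hτ⟩ := Module.projective_lifting_property π'
    (LinearMap.codRestrict K₂ (π.comp σ₀ - LinearMap.id) hdel) hπ'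
  refine ⟨σ₀ - K₁.subtype.comp τ, ?_, ?_⟩
  · ext y
    have : π (τ y).1 = π (σ₀ y) - y := congrArg Subtype.val (LinearMap.congr_fun hτ y)
    simp [this]
  · refine LinearMap.ext fun t => ?_
    obtain ⟨y, rfl⟩ := one_tmul_surjective hSR P₂ t
    show _ = σ' ((1 : R) ⊗ₜ[S] y)
    rw [LinearMap.baseChange_tmul, LinearMap.sub_apply, TensorProduct.tmul_sub, hσ₀',
      show (1 : R) ⊗ₜ[S] (K₁.subtype.comp τ) y = 0 from (τ y).2, sub_zero]

end Groth.Agent.S14869
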