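import Groth.Statements.S14871
import Groth.Agent.PLieLib.Ideals
-- import your own Groth.Agent.* helpers here

set_option autoImplicit false
universe u v
open PLie

namespace Groth.Agent.S14871

/-- Let `L` be a finite-dimensional Lie algebra over a field of characteristic `p` equipped with a
`p`-mapping `φ`. Then the solvable radical of `L` is stable under `φ` (it is a `p`-subalgebra). -/
theorem result
    (k : Type u) [Field k] (p : ℕ) [Fact p.Prime] [CharP k p]
    (L : Type v) [LieRing L] [LieAlgebra k L] [Module.Finite k L]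
    (φ : PLie.PMap k p L) (x : L) (hx : x ∈ LieAlgebra.radical k L) :
    φ x ∈ LieAlgebra.radical k L := by
  let r := LieAlgebra.radical k L
  let C : LieIdeal k L :=
    { carrier := {z | ∀ y : L, ⁅z, y⁆ ∈ r}
      add_mem' := fun {a b} ha hb y => by rw [add_lie]; exact add_mem (ha y) (hb y)
      zero_mem' := fun y => by rw [zero_lie]; exact zero_mem _
      smul_mem' := fun c a ha y => by rw [smul_lie]; exact SMulMemClass.smul_mem c (ha y)
      lie_mem := fun {w z} hz y => by
        rw [lie_lie]
        exact sub_mem (r.lie_mem (hz y)) (hz _) }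
  have hC : LieAlgebra.derivedSeriesOfIdeal k L 1 C ≤ r := by
    rw [LieAlgebra.derivedSeriesOfIdeal_succ, LieAlgebra.derivedSeriesOfIdeal_zero, LieSubmodule.lie_le_iff]
    exact fun z hz y _ => hz y
  obtain ⟨n, hn⟩ := (LieAlgebra.isSolvable_iff k r).mp (inferInstance : LieAlgebra.IsSolvable r)
  have hsolv : LieAlgebra.IsSolvable C := by
    refine (LieAlgebra.isSolvable_iff k C).mpr ⟨n + 1, ?_⟩
    rw [LieIdeal.derivedSeries_eq_bot_iff] at hn ⊢
    rw [LieAlgebra.derivedSeriesOfIdeal_add, eq_bot_iff, ← hn]
    exact LieAlgebra.derivedSeriesOfIdeal_mono hC n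
  refine (LieAlgebra.LieIdeal.solvable_iff_le_radical k L C).mp hsolv (fun y => ?_ : φ x ∈ C)
  rw [← LieAlgebra.ad_apply k, φ.ad_map]
  exact Groth.Agent.PLieLib.ad_pow_mem r hx p (Fact.out : p.Prime).pos y

end Groth.Agent.S14871
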