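import Groth.Statements.S14873
import Groth.Agent.PLieLib.Ideals
-- import your own Groth.Agent.* helpers here

set_option autoImplicit false
universe u v
open PLie

namespace Groth.Agent.S14873

/-- Let `L` be a finite-dimensional Lie algebra over a field of characteristic `p` equipped with a
`p`-mapping `φ`, and let `I` be an ideal of `L` stable under `φ` all of whose elements are
`p`-nilpotent (for instance the `p`-radical, the largest such ideal). Then `I` is nilpotent as a Lie
ring, hence lies in the nilradical of `L`. (The published item also records that the nilradical lies
in the solvable radical, which is immediate since nilpotent ideals are solvable.) -/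
theorem result
    (k : Type u) [Field k] (p : ℕ) [Fact p.Prime] [CharP k p]
    (L : Type v) [LieRing L] [LieAlgebra k L] [Module.Finite k L]
    (φ : PLie.PMap k p L) (I : LieIdeal k L) (hsub : ∀ x ∈ I, φ x ∈ I)
    (hnil : ∀ x ∈ I, PLie.IsPNilpotent φ x) : LieRing.IsNilpotent I := by
  exact Groth.Agent.PLieLib.isNilpotent_of_forall_pNilpotent φ I hnil

end Groth.Agent.S14873
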