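import Groth.Statements.S14875
import Groth.Agent.PLieLib.Ideals
import Mathlib.Algebra.Lie.Engel
import Mathlib.Algebra.Lie.TraceForm
import Mathlib.Algebra.Lie.Killing
import Mathlib.LinearAlgebra.BilinearForm.Orthogonal

set_option autoImplicit false
universe u v
open PLie

namespace Groth.Agent.S14875

theorem main
    (k : Type u) [Field k] (p : ℕ) [Fact p.Prime] [CharP k p]
    (L : Type v) [LieRing L] [LieAlgebra k L] [Module.Finite k L]
    (φ : PLie.PMap k p L) (hκ : (killingForm k L).Nondegenerate)
    (U H : LieSubalgebra k L) (hH : H = U.normalizer)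
    (hU : ∀ x : L, x ∈ U ↔ ∃ hx : x ∈ H, (⟨x, hx⟩ : ↥H) ∈ LieAlgebra.radical k ↥H ∧ PLie.IsPNilpotent φ x)
    (hperp : ∀ a b : L, (∀ y ∈ U, killingForm k L a y = 0) → (∀ y ∈ U, killingForm k L b y = 0) →
      ∀ y ∈ U, killingForm k L ⁅a, b⁆ y = 0) :
    ∀ x : L, x ∈ U ↔ ∀ h ∈ H, killingForm k L h x = 0 := by
  let B := killingForm k L
  have hsymm : ∀ a b, B a b = B b a := fun a b => LieModule.traceForm_comm k L L a b
  -- `U` is an ideal of `H` acting nilpotently
  have hUH : ∀ x ∈ U, x ∈ H := fun x hx => ((hU x).1 hx).1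
  let I : LieIdeal k H :=
    { (U.toSubmodule.comap H.toSubmodule.subtype) with
      lie_mem := fun {h y} hy => (LieSubalgebra.mem_normalizer_iff U (h : L)).1 (hH ▸ h.2) _ hy }
  have hnil : LieModule.IsNilpotent I L := by
    rw [LieModule.isNilpotent_iff_forall' (R := k)]
    intro x
    obtain ⟨n, hn⟩ := ((hU (x.1 : L)).1 x.2).2.2
    refine ⟨p ^ n, ?_⟩
    have h := Groth.Agent.PLieLib.ad_iterate φ n (x.1 : L)
    rw [hn, map_zero] at h
    exact h.symm
  obtain ⟨n, hn⟩ := LieModule.IsNilpotent.nilpotent k I L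
  have hbot : I.lcs L n = ⊥ := by
    rw [← LieSubmodule.toSubmodule_inj, I.coe_lcs_eq, hn]; rfl
  have hUperp : ∀ u ∈ U, ∀ h ∈ H, B u h = 0 := by
    intro u hu h hh
    let T : Module.End k L := LieAlgebra.ad k L u * LieAlgebra.ad k L h
    have hT : ∀ j y, (T ^ j) y ∈ I.lcs L j := by
      intro j
      induction j with
      | zero => intro y; simp
      | succ j ih =>
        intro y
        rw [LieIdeal.lcs_succ, pow_succ', Module.End.mul_apply]
        exact LieSubmodule.lie_mem_lie (x := (⟨u, hUH u hu⟩ : H)) hu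
          ((I.lcs L j).lie_mem (x := (⟨h, hh⟩ : H)) (ih y))
    have hTn : IsNilpotent T := ⟨n, LinearMap.ext fun y => by
      have := hT n y
      rwa [hbot, LieSubmodule.mem_bot] at this⟩
    exact (LinearMap.isNilpotent_trace_of_isNilpotent hTn).eq_zero
  let P := LinearMap.BilinForm.orthogonal B U.toSubmodule
  have hP : ∀ a, a ∈ P ↔ ∀ y ∈ U, B a y = 0 := fun a =>
    ⟨fun h y hy => (hsymm a y).trans (h y hy), fun h y hy => (hsymm y a).trans (h y hy)⟩
  have hoo : ∀ z, (∀ q ∈ P, B q z = 0) → z ∈ U := fun z hz => by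
    have h2 : z ∈ LinearMap.BilinForm.orthogonal B P := hz
    rw [LinearMap.BilinForm.orthogonal_orthogonal hκ (fun a b h => (hsymm b a).trans h)] at h2
    exact h2
  refine fun x => ⟨fun hx h hh => (hsymm h x).trans (hUperp x hx h hh), fun hx => hoo x fun q hq => hx q ?_⟩
  rw [hH, LieSubalgebra.mem_normalizer_iff]
  refine fun u hu => hoo _ fun a ha => ?_
  have h1 := hperp a q ((hP a).1 ha) ((hP q).1 hq) u hu
  rwa [LieModule.traceForm_apply_lie_apply] at h1


/-- Let `L` be a finite-dimensional Lie algebra over a field of characteristic `p` equipped with a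
`p`-mapping `φ`, whose Killing form is non-degenerate. Let `U` and `H` be Lie subalgebras of `L`
such that `H` is the normaliser of `U`, `U` is the set of elements of `H` that lie in the solvable
radical of `H` and are `p`-nilpotent, and the orthogonal of `U` for the Killing form is closed under
the bracket. Then `U` is the orthogonal of `H` for the Killing form. (The published statement is for
the Lie algebra of a reductive group over a field of characteristic `p` with its canonical
`p`-structure; this row states it for any finite-dimensional Lie algebra with a `p`-mapping.) -/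
theorem result
    (k : Type u) [Field k] (p : ℕ) [Fact p.Prime] [CharP k p]
    (L : Type v) [LieRing L] [LieAlgebra k L] [Module.Finite k L]
    (φ : PLie.PMap k p L) (hκ : (killingForm k L).Nondegenerate)
    (U H : LieSubalgebra k L) (hH : H = U.normalizer)
    (hU : ∀ x : L, x ∈ U ↔ ∃ hx : x ∈ H, (⟨x, hx⟩ : ↥H) ∈ LieAlgebra.radical k ↥H ∧ PLie.IsPNilpotent φ x)
    (hperp : ∀ a b : L, (∀ y ∈ U, killingForm k L a y = 0) → (∀ y ∈ U, killingForm k L b y = 0) →
      ∀ y ∈ U, killingForm k L ⁅a, b⁆ y = 0) :
    ∀ x : L, x ∈ U ↔ ∀ h ∈ H, killingForm k L h x = 0 :=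
  main k p L φ hκ U H hH hU hperp

end Groth.Agent.S14875
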