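import Groth.Statements.S14877
import Groth.Agent.GrpSchLib.TorsorMap
import Groth.Agent.GrpSchLib.RankOneBig
import Groth.Agent.GrpSchLib.Action
import Mathlib.AlgebraicGeometry.Morphisms.Etale
-- import your own Groth.Agent.* helpers here

set_option autoImplicit false
set_option backward.isDefEq.respectTransparency.types false
universe u
open CategoryTheory MonoidalCategory CartesianMonoidalCategory MonObj GrpObj AlgebraicGeometry CategoryTheory.Limits
open AlgGrp

namespace Groth.Agent.S14877

open Limits in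
/-- An affine shear on a trivial bundle: the square of the trivial bundle is cartesian. -/
theorem isPullback_shear {S : Scheme.{u}} (G U : Over S) [GrpObj G] :
    IsPullback (lift (snd G (U ⊗ G) ≫ fst U G) (fst G (U ⊗ G) * (snd G (U ⊗ G) ≫ snd U G))).left
      (snd G (U ⊗ G)).left (fst U G).left (fst U G).left := by
  suffices h : IsPullback (lift (snd G (U ⊗ G) ≫ fst U G) (fst G (U ⊗ G) * (snd G (U ⊗ G) ≫ snd U G)))
      (snd G (U ⊗ G)) (fst U G) (fst U G) from h.map (Over.forget S)
  refine IsPullback.of_isLimit' ⟨by simp⟩ (PullbackCone.IsLimit.mk _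
    (fun c => lift ((c.fst ≫ snd U G) * (c.snd ≫ snd U G)⁻¹) c.snd) (fun c => ?_) (fun c => by simp)
    (fun c m h1 h2 => ?_))
  · have := c.condition
    apply CartesianMonoidalCategory.hom_ext
    · simp [this]
    · simp [MonObj.comp_mul, GrpObj.comp_inv]
  · have e1 := congrArg (· ≫ snd U G) h1
    simp [MonObj.comp_mul] at e1
    have h2' : m ≫ snd G (U ⊗ G) = c.snd := h2
    apply CartesianMonoidalCategory.hom_ext
    · rw [lift_fst, ← e1, ← h2', Category.assoc, mul_inv_cancel_right]
    · rw [lift_snd, h2']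

/-- Over an algebraically closed field k of characteristic zero, let G be an algebraic group (a smooth
k-group scheme of finite type) acting on a variety P (reduced, separated, of finite type over k),
and let π : P → X be a geometric quotient by this action onto a variety X: π is invariant,
surjective and open, the map (g, p) ↦ (g·p, p) from G × P to P ×_X P is surjective on points, and
for every open U of X the sections of O_X over U are exactly the invariant sections of O_P over
π⁻¹U. Suppose the bundle is locally isotrivial: every point of X has an open neighbourhood U with a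
finite étale surjective morphism U' → U and a morphism s : U' → P lifting U' → U → X such that (u,
g) ↦ g·s(u) exhibits U' × G as the fibre product U' ×_X P. Then the bundle is principal: (g, p) ↦
(g·p, p) is an isomorphism of G × P onto P ×_X P, and π is flat. (The published definition of an
étale covering asks only for a finite étale morphism; this row also requires it to be surjective,
since an empty cover would make every bundle isotrivial.) -/
theorem result (k : Type u) [Field k] [IsAlgClosed k] [CharZero k]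
    (G P X : Over (Spec (CommRingCat.of k))) [GrpObj G] [Smooth G.hom] [QuasiCompact G.hom]
    [LocallyOfFiniteType P.hom] [QuasiCompact P.hom] [IsSeparated P.hom] [IsReduced P.left]
    [LocallyOfFiniteType X.hom] [QuasiCompact X.hom] [IsSeparated X.hom] [IsReduced X.left]
    (a : AlgGrp.Action G P) (π : P ⟶ X) (hinv : GIT.IsInvariant a π)
    (hq : Function.Surjective π.left.base ∧ IsOpenMap π.left.base ∧
      Function.Surjective (GIT.PsiY a π hinv).base ∧
      ∀ U : X.left.Opens, Function.Injective (π.left.app U) ∧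
        Set.range (π.left.app U) = {f | GIT.IsInvSection a π U f})
    (hli : ∀ x : ↥X.left, ∃ (U : X.left.Opens) (_ : x ∈ U) (U' : Scheme.{u}) (φ : U' ⟶ ↑U)
      (_ : IsFinite φ) (_ : Etale φ) (_ : Surjective φ) (s : Over.mk (φ ≫ U.ι ≫ X.hom) ⟶ P),
      s.left ≫ π.left = φ ≫ U.ι ∧
      IsPullback (fst (Over.mk (φ ≫ U.ι ≫ X.hom)) G).left (lift (snd (Over.mk (φ ≫ U.ι ≫ X.hom)) G) (fst (Over.mk (φ ≫ U.ι ≫ X.hom)) G ≫ s) ≫ a.act).left
        (φ ≫ U.ι) π.left) :
    IsIso (GIT.PsiY a π hinv) ∧ Flat π.left := by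
  classical
  choose U hxU U' φ hfin het hsurj s hsπ hcart using hli
  let Pi' : X.left → Over (Spec (CommRingCat.of k)) := fun x => Over.mk (φ x ≫ (U x).ι ≫ X.hom) ⊗ G
  let gP : ∀ x, Pi' x ⟶ P := fun x => lift (snd _ G) (fst _ G ≫ s x) ≫ a.act
  have hgP : ∀ x, IsPullback (fst (Over.mk (φ x ≫ (U x).ι ≫ X.hom)) G).left (gP x).left (φ x ≫ (U x).ι) π.left :=
    hcart
  have hgEt : ∀ x, Etale (gP x).left := fun x => by
    haveI := het x
    exact MorphismProperty.of_isPullback (P := @Etale) (hgP x) inferInstance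
  have hgr : ∀ x (p : ↥P.left), π.left p ∈ U x → p ∈ Set.range (gP x).left := fun x p hp => by
    obtain ⟨v, hv⟩ := (hsurj x).surj ⟨π.left p, hp⟩
    obtain ⟨z, -, hz⟩ := Scheme.exists_preimage_of_isPullback (hgP x) v p (by
      rw [Scheme.Hom.comp_apply, hv]
      rfl)
    exact ⟨z, hz⟩
  have hflat : Flat π.left := by
    refine IsZariskiLocalAtSource.of_iSup_eq_top (P := @Flat) (fun x => π.left ⁻¹ᵁ U x)
      (top_unique fun p _ => TopologicalSpace.Opens.mem_iSup.mpr ⟨π.left p, hxU _⟩) fun x => ?_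
    have hr : Set.range (gP x).left ⊆ Set.range (π.left ⁻¹ᵁ U x).ι := by
      rintro _ ⟨z, rfl⟩
      have : π.left ((gP x).left z) ∈ U x := by
        rw [← Scheme.Hom.comp_apply, ← (hgP x).w]
        exact (φ x ((fst (Over.mk (φ x ≫ (U x).ι ≫ X.hom)) G).left z)).2
      exact ⟨⟨_, this⟩, rfl⟩
    let l := IsOpenImmersion.lift (π.left ⁻¹ᵁ U x).ι (gP x).left hr
    have hl : l ≫ (π.left ⁻¹ᵁ U x).ι = (gP x).left := IsOpenImmersion.lift_fac _ _ _
    haveI := hgEt x
    haveI := het x
    haveI : Flat (l ≫ (π.left ⁻¹ᵁ U x).ι) := by rw [hl]; infer_instance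
    haveI : Flat l := MorphismProperty.of_postcomp (W := @Flat) (W' := @IsOpenImmersion) l (π.left ⁻¹ᵁ U x).ι
      (inferInstanceAs (IsOpenImmersion (π.left ⁻¹ᵁ U x).ι)) ‹_›
    haveI : Surjective l := ⟨fun p => by
      obtain ⟨z, hz⟩ := hgr x p.1 p.2
      refine ⟨z, (π.left ⁻¹ᵁ U x).ι.isOpenEmbedding.injective ?_⟩
      rw [← Scheme.Hom.comp_apply, hl]
      exact hz⟩
    haveI : Flat (l ≫ (π.left ⁻¹ᵁ U x).ι ≫ π.left) := by
      rw [← Category.assoc, hl, ← (hgP x).w]
      haveI : Flat (fst (Over.mk (φ x ≫ (U x).ι ≫ X.hom)) G).left :=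
        inferInstanceAs (Flat (Limits.pullback.fst (φ x ≫ (U x).ι ≫ X.hom) G.hom))
      infer_instance
    exact Groth.Agent.GrpSchLib.RankOne.flat_of_comp l _
  refine ⟨?_, hflat⟩
  let W := Limits.pullback π.left π.left
  let c : (G ⊗ P).left ⟶ W := GIT.PsiY a π hinv
  have hc1 : c ≫ Limits.pullback.fst π.left π.left = a.act.left := Limits.pullback.lift_fst _ _ _
  have hc2 : c ≫ Limits.pullback.snd π.left π.left = (snd G P).left := Limits.pullback.lift_snd _ _ _
  have hρ : ∀ x, IsPullback ((G ◁ gP x).left ≫ c) (snd G (Pi' x)).left (Limits.pullback.snd π.left π.left) (gP x).left := by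
    intro x
    let θ : G ⊗ Pi' x ⟶ Pi' x := lift (snd G (Pi' x) ≫ fst _ G) (fst G (Pi' x) * (snd G (Pi' x) ≫ snd _ G))
    have e : (G ◁ gP x) ≫ a.act = θ ≫ gP x := by
      let A := fst G (Pi' x)
      have e1 : G ◁ gP x = lift A (lift (snd G (Pi' x) ≫ snd _ G) (snd G (Pi' x) ≫ fst _ G ≫ s x) ≫ a.act) := by
        ext <;> simp [A, gP, comp_lift_assoc]
      rw [e1, Groth.Agent.GrpSchLib.act_mul]
      simp [θ, A, gP, comp_lift_assoc]
    have s1 : IsPullback ((G ◁ gP x) ≫ a.act).left (snd G (Pi' x)).left π.left (gP x ≫ π).left := by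
      have := (isPullback_shear G (Over.mk (φ x ≫ (U x).ι ≫ X.hom))).paste_horiz (hgP x).flip
      rw [show (gP x ≫ π).left = _ from (hgP x).w.symm, e, Over.comp_left]
      exact this
    refine IsPullback.of_right ?_ ?_ (IsPullback.of_hasPullback π.left π.left)
    · rw [Category.assoc, hc1, ← Over.comp_left, ← Over.comp_left]
      exact s1
    · rw [Category.assoc, hc2, ← Over.comp_left, whiskerLeft_snd, Over.comp_left]
  let O : X.left → W.Opens := fun x => Limits.pullback.snd π.left π.left ⁻¹ᵁ (π.left ⁻¹ᵁ U x)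
  suffices h : MorphismProperty.isomorphisms Scheme c from h
  refine IsZariskiLocalAtTarget.of_iSup_eq_top (P := MorphismProperty.isomorphisms Scheme) O
    (top_unique fun w _ => TopologicalSpace.Opens.mem_iSup.mpr ⟨_, hxU (π.left (Limits.pullback.snd π.left π.left w))⟩)
    fun x => ?_
  let ρ := (G ◁ gP x).left ≫ c
  haveI := hgEt x
  haveI : Etale ρ := MorphismProperty.of_isPullback (P := @Etale) (hρ x).flip inferInstance
  have hρr : Set.range ρ ⊆ Set.range (O x).ι := by
    rintro _ ⟨z, rfl⟩
    have : π.left (Limits.pullback.snd π.left π.left (ρ z)) ∈ U x := by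
      rw [← Scheme.Hom.comp_apply ρ (Limits.pullback.snd π.left π.left), (hρ x).w, Scheme.Hom.comp_apply,
        ← Scheme.Hom.comp_apply, ← (hgP x).w]
      exact (φ x _).2
    exact ⟨⟨_, this⟩, rfl⟩
  let ρ' := IsOpenImmersion.lift (O x).ι ρ hρr
  have hρ' : ρ' ≫ (O x).ι = ρ := IsOpenImmersion.lift_fac _ _ _
  haveI : Flat ρ' := MorphismProperty.of_postcomp (W := @Flat) (W' := @IsOpenImmersion) ρ' (O x).ι
    (inferInstanceAs (IsOpenImmersion (O x).ι)) (by rw [hρ']; infer_instance)
  haveI : LocallyOfFinitePresentation ρ' := MorphismProperty.of_postcomp (W := @LocallyOfFinitePresentation) (W' := @IsOpenImmersion) ρ' (O x).ι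
    (inferInstanceAs (IsOpenImmersion (O x).ι)) (by rw [hρ']; infer_instance)
  haveI : Surjective ρ' := ⟨fun w => by
    obtain ⟨z, hz⟩ := hgr x _ w.2
    obtain ⟨v, hv, -⟩ := Scheme.exists_preimage_of_isPullback (hρ x) w.1 z hz.symm
    refine ⟨v, (O x).ι.isOpenEmbedding.injective ?_⟩
    rw [← Scheme.Hom.comp_apply, hρ']
    exact hv⟩
  have s4 : IsPullback (G ◁ gP x).left (𝟙 _) c ρ := by
    refine IsPullback.of_bot ?_ (by rw [Category.id_comp]) (hρ x)
    rw [Category.id_comp, hc2]
    exact Groth.Agent.H23.EqvUnr.isPullback_whiskerLeft G (gP x)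
  have hr' : Set.range (G ◁ gP x).left ⊆ Set.range (c ⁻¹ᵁ O x).ι := by
    rintro _ ⟨z, rfl⟩
    obtain ⟨w, hw⟩ := hρr ⟨z, rfl⟩
    have : c ((G ◁ gP x).left z) ∈ O x := by
      rw [← Scheme.Hom.comp_apply]
      exact hw ▸ w.2
    exact ⟨⟨_, this⟩, rfl⟩
  have s5 : IsPullback (IsOpenImmersion.lift (c ⁻¹ᵁ O x).ι (G ◁ gP x).left hr') (𝟙 _) (c ∣_ O x) ρ' := by
    refine IsPullback.of_right ?_ ?_ (isPullback_morphismRestrict c (O x)).flip
    · rw [IsOpenImmersion.lift_fac, hρ']
      exact s4
    · rw [← cancel_mono (O x).ι, Category.assoc, morphismRestrict_ι, IsOpenImmersion.lift_fac_assoc,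
        Category.assoc, hρ', Category.id_comp]
  have hsnd : MorphismProperty.isomorphisms Scheme (Limits.pullback.snd (c ∣_ O x) ρ') := by
    show IsIso _
    rw [← s5.isoPullback_inv_snd]
    infer_instance
  exact MorphismProperty.of_pullback_snd_of_descendsAlong (P := MorphismProperty.isomorphisms Scheme)
    (Q := @Surjective ⊓ @Flat ⊓ @LocallyOfFinitePresentation) (f := c ∣_ O x) (g := ρ')
    ⟨⟨‹_›, ‹_›⟩, ‹_›⟩ hsnd

end Groth.Agent.S14877
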