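import Groth.Statements.S14879
import Mathlib.GroupTheory.Perm.Fin
import Mathlib.LinearAlgebra.Matrix.Determinant.Basic


set_option autoImplicit false
universe u
open Finset
open AlgGrp

namespace Groth.Agent.S14879

/-- Let k be a field of characteristic zero, n = p + r with p, r ≥ 1, M an n × n matrix over k, A a set
of p row indices and B a set of r row indices, both listed increasingly. For a permutation π of the
indices, with permutation matrix P_π, let Y_A(M·P_π) be the minor of M·P_π on the rows A and the
first p columns, and Z_B(M·P_π) the minor on the rows B and the last r columns. Then the sum over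
all π of sign(π)·Y_A(M·P_π)·Z_B(M·P_π) equals p!·r!·(−1)^N·det M when B is the complement of A,
where N is the number of pairs (a, b) with a in A, b outside A and b < a, and equals 0 otherwise.
Taking det M = 1 this says that the pairing (f, h) ↦ Σ_π sign(π) f(π) h(π) between the spans of the
left p-minors and of the right r-minors is invariant under left translation by matrices of
determinant one and pairs Y_A with the signed complementary minor to p!·r!. (The published statement
asserts that the two families of minors are dual bases for this pairing, that is, the value 1 in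
place of p!·r!; the p!·r! permutations preserving the two column blocks each contribute the same
signed term, so this row carries that factor, which is 1 only for n = 2.) -/
theorem result (k : Type u) [Field k] [CharZero k]
    (p r : ℕ) (hp : 1 ≤ p) (hr : 1 ≤ r) (M : Matrix (Fin (p + r)) (Fin (p + r)) k)
    (A : Finset (Fin (p + r))) (hA : A.card = p) (B : Finset (Fin (p + r))) (hB : B.card = r) :
    ∑ π : Equiv.Perm (Fin (p + r)), (((Equiv.Perm.sign π : ℤˣ) : ℤ) : k) *
      ((M * π.permMatrix k).submatrix (A.orderEmbOfFin hA) (Fin.castAdd r)).det *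
      ((M * π.permMatrix k).submatrix (B.orderEmbOfFin hB) (Fin.natAdd p)).det =
    if B = Aᶜ then ((p.factorial * r.factorial : ℕ) : k) *
      (-1 : k) ^ ((A ×ˢ Aᶜ).filter (fun ab => ab.2 < ab.1)).card * M.det else 0 := by
  classical
  set a := A.orderEmbOfFin hA
  set b := B.orderEmbOfFin hB
  let f : Fin (p + r) → Fin (p + r) := Fin.append a b
  have hfl : ∀ j, f (Fin.castAdd r j) = a j := fun j => Fin.append_left _ _ j
  have hfr : ∀ j, f (Fin.natAdd p j) = b j := fun j => Fin.append_right _ _ j
  -- the expansion
  have key : ∑ π : Equiv.Perm (Fin (p + r)), (((Equiv.Perm.sign π : ℤˣ) : ℤ) : k) *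
      ((M * π.permMatrix k).submatrix a (Fin.castAdd r)).det *
      ((M * π.permMatrix k).submatrix b (Fin.natAdd p)).det =
      ((p.factorial * r.factorial : ℕ) : k) * (M.submatrix f id).det := by
    have hentry : ∀ (π : Equiv.Perm (Fin (p + r))) i j, (M * π.permMatrix k) i j = M i (π⁻¹ j) := by
      intro π i j
      rw [Matrix.mul_apply, Finset.sum_eq_single (π⁻¹ j)]
      · simp [Equiv.Perm.permMatrix, PEquiv.toMatrix_apply, Equiv.toPEquiv_apply]
      · intro l _ hl
        have : π l ≠ j := fun h => hl (by rw [← h]; simp)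
        simp [Equiv.Perm.permMatrix, PEquiv.toMatrix_apply, Equiv.toPEquiv_apply, this]
      · simp
    generalize hD : (M.submatrix f id).det = D
    rw [← Equiv.sum_comp (Equiv.inv (Equiv.Perm (Fin (p + r))))]
    simp only [Matrix.det_apply', Equiv.inv_apply, Equiv.Perm.sign_inv, Matrix.submatrix_apply, hentry, inv_inv,
      Finset.mul_sum, Finset.sum_mul, id]
    rw [Finset.sum_comm]
    refine (Finset.sum_congr rfl fun σ _ => Finset.sum_comm).trans ?_
    have hst : ∀ (σ : Equiv.Perm (Fin r)) (τ : Equiv.Perm (Fin p)),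
        (∑ π : Equiv.Perm (Fin (p + r)), (((Equiv.Perm.sign π : ℤˣ) : ℤ) : k) *
          ((((Equiv.Perm.sign τ : ℤˣ) : ℤ) : k) * ∏ x, M (a (τ x)) (π (Fin.castAdd r x))) *
          ((((Equiv.Perm.sign σ : ℤˣ) : ℤ) : k) * ∏ x, M (b (σ x)) (π (Fin.natAdd p x)))) =
        D := by
      intro σ τ
      rw [← hD]
      let ρ : Equiv.Perm (Fin (p + r)) := finSumFinEquiv.permCongr (Equiv.Perm.sumCongr τ σ)
      have hρl : ∀ x, ρ (Fin.castAdd r x) = Fin.castAdd r (τ x) := fun x => by simp [ρ, Equiv.permCongr_apply]
      have hρr : ∀ x, ρ (Fin.natAdd p x) = Fin.natAdd p (σ x) := fun x => by simp [ρ, Equiv.permCongr_apply]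
      have hρs : Equiv.Perm.sign ρ = Equiv.Perm.sign τ * Equiv.Perm.sign σ := by simp [ρ]
      rw [← Matrix.det_transpose, Matrix.det_apply', ← Equiv.sum_comp (Equiv.mulRight ρ)]
      refine Finset.sum_congr rfl fun π _ => ?_
      simp only [Equiv.coe_mulRight, Equiv.Perm.sign_mul, hρs, Equiv.Perm.mul_apply, hρl, hρr,
        Equiv.prod_comp τ (fun y => M (a y) (π (Fin.castAdd r y))),
        Equiv.prod_comp σ (fun y => M (b y) (π (Fin.natAdd p y))), Matrix.transpose_apply, Matrix.submatrix_apply, id]
      rw [Fin.prod_univ_add (fun i => M (f i) (π i))]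
      simp only [hfl, hfr, Units.val_mul, Int.cast_mul]
      have s1 : (((Equiv.Perm.sign τ : ℤˣ) : ℤ) : k) * (((Equiv.Perm.sign τ : ℤˣ) : ℤ) : k) = 1 := by
        rw [← Int.cast_mul, ← Units.val_mul, Int.units_mul_self]; simp
      have s2 : (((Equiv.Perm.sign σ : ℤˣ) : ℤ) : k) * (((Equiv.Perm.sign σ : ℤˣ) : ℤ) : k) = 1 := by
        rw [← Int.cast_mul, ← Units.val_mul, Int.units_mul_self]; simp
      linear_combination (((Equiv.Perm.sign π : ℤˣ) : ℤ) : k) * (∏ x, M (a x) (π (Fin.castAdd r x))) *
        (∏ x, M (b x) (π (Fin.natAdd p x))) * ((((Equiv.Perm.sign σ : ℤˣ) : ℤ) : k) * (((Equiv.Perm.sign σ : ℤˣ) : ℤ) : k) * s1 + s2)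
    rw [Finset.sum_congr rfl fun σ _ => Finset.sum_congr rfl fun τ _ => hst σ τ]
    simp [Fintype.card_perm, Nat.cast_mul]
    ring
  rw [key]
  split_ifs with hBA
  · -- a permutation
    subst hBA
    have hinj : Function.Injective f := by
      refine Fin.append_injective_iff.2 ⟨a.injective, b.injective, fun i j h => ?_⟩
      exact Finset.mem_compl.1 (Finset.orderEmbOfFin_mem Aᶜ hB j) (h ▸ Finset.orderEmbOfFin_mem A hA i)
    let e : Equiv.Perm (Fin (p + r)) := Equiv.ofBijective f (Finite.injective_iff_bijective.1 hinj)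
    have hsign : Equiv.Perm.sign e = (-1) ^ ((A ×ˢ Aᶜ).filter (fun ab => ab.2 < ab.1)).card := by
      rw [Equiv.Perm.sign_eq_prod_prod_Iio, Finset.prod_sigma', Finset.prod_ite]
      simp only [Finset.prod_const_one, one_mul, Finset.prod_const]
      congr 1
      refine Finset.card_bij (fun x _ => (e x.2, e x.1)) ?_ ?_ ?_
      · rintro ⟨j, i⟩ hx
        simp only [Finset.mem_filter, Finset.mem_sigma, Finset.mem_univ, Finset.mem_Iio, true_and, not_lt] at hx
        obtain ⟨hij, hle⟩ := hx
        have hlt : f j < f i := lt_of_le_of_ne hle fun h => hij.ne' (hinj h)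
        show (f i, f j) ∈ _
        induction i using Fin.addCases with
        | left i =>
          induction j using Fin.addCases with
          | left j => exact absurd (a.strictMono (show i < j from hij)) (by rw [not_lt, ← hfl, ← hfl]; exact hlt.le)
          | right j =>
            simp only [Finset.mem_filter, Finset.mem_product, hfl, hfr]
            exact ⟨⟨Finset.orderEmbOfFin_mem A hA i, Finset.orderEmbOfFin_mem Aᶜ hB j⟩, by rwa [← hfl, ← hfr]⟩
        | right i =>
          induction j using Fin.addCases with
          | left j => exact absurd hij (by simp [Fin.lt_def]; omega)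
          | right j =>
            exact absurd (b.strictMono (show i < j from Fin.lt_def.2 (by have := Fin.lt_def.1 hij; simp only [Fin.val_natAdd] at this; omega)))
              (by rw [not_lt, ← hfr, ← hfr]; exact hlt.le)
      · rintro ⟨j, i⟩ _ ⟨j', i'⟩ _ h
        obtain ⟨h1, h2⟩ := Prod.mk.inj h
        cases e.injective h1; cases e.injective h2; rfl
      · rintro ⟨x, y⟩ hxy
        simp only [Finset.mem_filter, Finset.mem_product] at hxy
        obtain ⟨i, hi⟩ : x ∈ Set.range a := by rw [Finset.range_orderEmbOfFin]; exact hxy.1.1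
        obtain ⟨j, hj⟩ : y ∈ Set.range b := by rw [Finset.range_orderEmbOfFin]; exact hxy.1.2
        have hij : Fin.castAdd r i < Fin.natAdd p j := by simp [Fin.lt_def]; omega
        refine ⟨⟨Fin.natAdd p j, Fin.castAdd r i⟩, ?_, ?_⟩
        · simp only [Finset.mem_filter, Finset.mem_sigma, Finset.mem_univ, Finset.mem_Iio, true_and]
          refine ⟨hij, ?_⟩
          show ¬ f (Fin.castAdd r i) < f (Fin.natAdd p j)
          rw [hfl, hfr, hi, hj]; exact not_lt.2 hxy.2.le
        · show (f (Fin.castAdd r i), f (Fin.natAdd p j)) = _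
          rw [hfl, hfr, hi, hj]
    rw [show M.submatrix f id = M.submatrix e id from rfl, Matrix.det_permute, hsign]
    push_cast
    ring
  · have : ¬ Disjoint A B := fun hd => hBA (Finset.eq_of_subset_of_card_le (fun x hx => Finset.mem_compl.2
      fun hxA => Finset.disjoint_left.1 hd hxA hx) (by simp [Finset.card_compl, hA, hB]))
    obtain ⟨x, hxA, hxB⟩ := Finset.not_disjoint_iff.1 this
    obtain ⟨i, hi⟩ : x ∈ Set.range a := by rw [Finset.range_orderEmbOfFin]; exact hxA
    obtain ⟨j, hj⟩ : x ∈ Set.range b := by rw [Finset.range_orderEmbOfFin]; exact hxB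
    rw [Matrix.det_zero_of_row_eq (i := Fin.castAdd r i) (j := Fin.natAdd p j) ?_ ?_, mul_zero]
    · intro h
      simp [Fin.ext_iff] at h
      omega
    · funext l
      simp [hfl, hfr, hi, hj]

end Groth.Agent.S14879
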