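import Groth.Statements.S14885
import Mathlib.Topology.ContinuousMap.Basic

set_option autoImplicit false
universe u v w
open CategoryTheory TopologicalSpace Opposite AlgebraicGeometry Topology
open AlgGrp

namespace Groth.Agent.S14885

theorem res_res {T : TopCat.{w}} (P : TopCat.Presheaf CommRingCat.{u} T) {A B B' C : (Opens T)ᵒᵖ}
    (a : A ⟶ B) (b : B ⟶ C) (a' : A ⟶ B') (b' : B' ⟶ C) (s : P.obj A) :
    P.map b (P.map a s) = P.map b' (P.map a' s) := by
  rw [← CommRingCat.comp_apply, ← CommRingCat.comp_apply, ← P.map_comp, ← P.map_comp]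
  rfl

theorem res_self {T : TopCat.{w}} (P : TopCat.Presheaf CommRingCat.{u} T) {A : (Opens T)ᵒᵖ}
    (a : A ⟶ A) (s : P.obj A) : P.map a s = s := by
  rw [show a = 𝟙 A from Quiver.Hom.unop_inj (Subsingleton.elim _ _), P.map_id]
  rfl

theorem hom_ext_of_injective {X Y Z : SheafedSpace CommRingCat.{u}} (π : X ⟶ Y)
    (hs : Function.Surjective π.hom.base)
    (hc : ∀ V : Opens Y, Function.Injective (π.hom.c.app (op V)))
    (α β : Y ⟶ Z) (h : π ≫ α = π ≫ β) : α = β := by
  have hb : α.hom.base = β.hom.base := by
    ext y
    obtain ⟨x, rfl⟩ := hs y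
    exact congr($(congrArg (fun t : X ⟶ Z => t.hom.base) h) x)
  obtain ⟨⟨αb, αc⟩⟩ := α
  obtain ⟨⟨βb, βc⟩⟩ := β
  subst hb
  suffices αc = βc by subst this; rfl
  refine NatTrans.ext (funext fun W => ?_)
  ext s
  refine hc ((Opens.map αb).obj W.unop) ?_
  have := congr($(PresheafedSpace.congr_app (congrArg (fun t : X ⟶ Z => t.hom) h) W) s)
  refine this.trans ?_
  exact res_self X.presheaf _ _

/-- Let a group Γ act on a ringed space X (a topological space with a sheaf of rings) by automorphisms
τ_g, and let π : X → Y be a Γ-invariant morphism of ringed spaces which exhibits Y as the quotient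
ringed space X/Γ: the underlying continuous map of π is a topological quotient map whose fibres are
exactly the Γ-orbits, and for every open subset V of Y the ring map O_Y(V) → O_X(π⁻¹V) is injective
with image the sections s satisfying τ_g^♯(s) = s for all g. Then (Y, π) is a categorical quotient
for the action in the category of ringed spaces: every morphism of ringed spaces f : X → Z with f ∘
τ_g = f for all g (as morphisms of ringed spaces) factors uniquely as f = f̄ ∘ π. -/
theorem result (X Y : SheafedSpace CommRingCat.{u}) (Γ : Type v) [Group Γ]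
    (τ : Γ →* Aut X) (π : X ⟶ Y) (hτ : ∀ g : Γ, (τ g).hom ≫ π = π)
    (h1 : IsQuotientMap π.hom.base)
    (h2 : ∀ x x' : X, π.hom.base x = π.hom.base x' ↔ ∃ g : Γ, (τ g).hom.hom.base x = x')
    (h3 : ∀ V : Opens Y, Function.Injective (π.hom.c.app (op V)) ∧
      Set.range (π.hom.c.app (op V)) =
        {s | ∀ g : Γ, (τ g).hom.hom.c.app (op ((Opens.map π.hom.base).obj V)) s =
          X.presheaf.map (eqToHom (congrArg (fun f : X ⟶ Y => op ((Opens.map f.hom.base).obj V)) (hτ g).symm)) s})
    (Z : SheafedSpace CommRingCat.{u}) (f : X ⟶ Z) (hf : ∀ g : Γ, (τ g).hom ≫ f = f) :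
    ∃! fbar : Y ⟶ Z, π ≫ fbar = f := by
  have hcomm : ∀ (g : Γ) (x : X), f.hom.base ((τ g).hom.hom.base x) = f.hom.base x := fun g x =>
    congr($(congrArg (fun t : X ⟶ Z => t.hom.base) (hf g)) x)
  have hfac : Function.FactorsThrough f.hom.base π.hom.base := by
    intro x x' e
    obtain ⟨g, rfl⟩ := (h2 x x').mp e
    exact (hcomm g x).symm
  let b : Y.toPresheafedSpace.carrier ⟶ Z.toPresheafedSpace.carrier :=
    TopCat.ofHom ((show IsQuotientMap ⇑π.hom.base.hom from h1).lift f.hom.base.hom hfac)
  have hb : π.hom.base ≫ b = f.hom.base := TopCat.hom_ext (IsQuotientMap.lift_comp _ _ _)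
  have hW : ∀ W : Opens Z, (Opens.map f.hom.base).obj W =
      (Opens.map π.hom.base).obj ((Opens.map b).obj W) := fun W => by rw [← hb]; rfl
  let p : ∀ W : Opens Z, Z.presheaf.obj (op W) →+*
      X.presheaf.obj (op ((Opens.map π.hom.base).obj ((Opens.map b).obj W))) := fun W =>
    (f.hom.c.app (op W) ≫ X.presheaf.map (eqToHom (congrArg op (hW W)))).hom
  have hp : ∀ (W : Opens Z) (s : Z.presheaf.obj (op W)),
      p W s ∈ Set.range (π.hom.c.app (op ((Opens.map b).obj W))) := by
    intro W s
    rw [(h3 _).2]
    intro g
    have e1 := congr($(PresheafedSpace.congr_app (congrArg (fun t : X ⟶ Z => t.hom) (hf g)) (op W)) s)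
    have e2 := congr($((τ g).hom.hom.c.naturality (eqToHom (congrArg op (hW W)))) (f.hom.c.app (op W) s))
    refine e2.trans ?_
    refine (congrArg _ e1).trans ?_
    exact res_res X.presheaf _ _ _ _ _
  choose q hq using hp
  let c : ∀ W : Opens Z, Z.presheaf.obj (op W) ⟶ Y.presheaf.obj (op ((Opens.map b).obj W)) := fun W =>
    CommRingCat.ofHom
      { toFun := q W
        map_one' := (h3 _).1 (by rw [hq, map_one, map_one])
        map_mul' := fun s t => (h3 _).1 (by rw [map_mul, hq, hq, hq, map_mul])
        map_zero' := (h3 _).1 (by rw [hq, map_zero, map_zero])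
        map_add' := fun s t => (h3 _).1 (by rw [map_add, hq, hq, hq, map_add]) }
  let fbar : Y ⟶ Z := InducedCategory.homMk
    { base := b
      c := { app := fun W => c W.unop
             naturality := fun W W' j => by
              ext s
              refine (h3 _).1 ?_
              refine (hq _ _).trans ?_
              refine Eq.trans ?_
                (congr($(π.hom.c.naturality ((Opens.map b).map j.unop).op) (q W.unop s))).symm
              refine Eq.trans ?_ (congrArg
                (fun t => X.presheaf.map ((Opens.map π.hom.base).map ((Opens.map b).map j.unop)).op t)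
                (hq W.unop s).symm)
              show X.presheaf.map _ (f.hom.c.app W' (Z.presheaf.map j s)) =
                X.presheaf.map ((Opens.map π.hom.base).map ((Opens.map b).map j.unop)).op
                  (X.presheaf.map _ (f.hom.c.app W s))
              refine (congrArg _ (congr($(f.hom.c.naturality j) s))).trans ?_
              exact res_res X.presheaf _ _ _ _ _ } }
  have hfbar : π ≫ fbar = f := by
    refine SheafedSpace.ext _ _ hb ?_
    refine NatTrans.ext (funext fun W => ?_)
    ext s
    show X.presheaf.map _ (π.hom.c.app (op ((Opens.map b).obj W.unop)) (q W.unop s)) = f.hom.c.app W s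
    refine (congrArg _ (hq W.unop s)).trans ?_
    show X.presheaf.map _ (X.presheaf.map _ (f.hom.c.app W s)) = _
    exact (res_res X.presheaf _ _ (𝟙 _) (𝟙 _) _).trans
      ((congrArg _ (res_self _ _ _)).trans (res_self _ _ _))
  exact ⟨fbar, hfbar, fun g hg =>
    hom_ext_of_injective π h1.surjective (fun V => (h3 V).1) g fbar (hg.trans hfbar.symm)⟩

end Groth.Agent.S14885
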