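import Groth.Statements.S14886
import Groth.Agent.GrpSchLib.TorsorMap
import Groth.Agent.GrpSchLib.HomFlat
-- import your own Groth.Agent.* helpers here

set_option autoImplicit false
universe u
open CategoryTheory MonoidalCategory CartesianMonoidalCategory MonObj GrpObj AlgebraicGeometry CategoryTheory.Limits
open AlgGrp

namespace Groth.Agent.S14886

section
open Limits

variable {k : Type u} [Field k]

theorem quasiCompact_of_tensor {G X Q : Over (Spec (CommRingCat.of k))} [QuasiCompact G.hom] [QuasiCompact X.hom]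
    [IsSeparated Q.hom] (q : G ⊗ X ⟶ Q) : QuasiCompact q.left := by
  haveI : QuasiCompact (q.left ≫ Q.hom) := by
    rw [Over.w q, ← Over.w (fst G X)]
    haveI : QuasiCompact (fst G X).left := inferInstanceAs (QuasiCompact (pullback.fst G.hom X.hom))
    infer_instance
  exact QuasiCompact.of_comp q.left Q.hom

theorem act_equivariant {G H X Y : Over (Spec (CommRingCat.of k))} [GrpObj G] [GrpObj H] (j : H ⟶ G)
    (aX : AlgGrp.Action H X) (aY : AlgGrp.Action H Y) (i : X ⟶ Y) (hi : aX.act ≫ i = (H ◁ i) ≫ aY.act)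
    (b : AlgGrp.Action H (G ⊗ X))
    (hb : ∀ (T : Over (Spec (CommRingCat.of k))) (h : T ⟶ H) (g : T ⟶ G) (x : T ⟶ X),
      lift h (lift g x) ≫ b.act = lift (g * (h ≫ j)⁻¹) (lift h x ≫ aX.act))
    (c : AlgGrp.Action H (G ⊗ Y))
    (hc : ∀ (T : Over (Spec (CommRingCat.of k))) (h : T ⟶ H) (g : T ⟶ G) (x : T ⟶ Y),
      lift h (lift g x) ≫ c.act = lift (g * (h ≫ j)⁻¹) (lift h x ≫ aY.act)) :
    (H ◁ (G ◁ i)) ≫ c.act = b.act ≫ (G ◁ i) := by
  have e1 : (H ◁ (G ◁ i)) = lift (fst H (G ⊗ X)) (lift (snd H (G ⊗ X) ≫ fst G X) (snd H (G ⊗ X) ≫ snd G X ≫ i)) := by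
    ext <;> simp
  have e2 : 𝟙 (H ⊗ (G ⊗ X)) = lift (fst H (G ⊗ X)) (lift (snd H (G ⊗ X) ≫ fst G X) (snd H (G ⊗ X) ≫ snd G X)) := by
    ext <;> simp
  conv_rhs => rw [← Category.id_comp (b.act ≫ (G ◁ i)), e2, ← Category.assoc, hb]
  rw [e1, hc, lift_whiskerLeft, Category.assoc, hi, lift_whiskerLeft_assoc, Category.assoc]

end

/-- Over an algebraically closed field k of characteristic zero, let G be a connected algebraic group (a
smooth connected k-group scheme of finite type) and H an algebraic subgroup (a smooth closed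
subgroup scheme, j : H → G). Let π : G → B be the quotient of G by H (a geometric quotient for the
action h·g = g·h⁻¹ which is a principal H-bundle: (h, g) ↦ (g·h⁻¹, g) is an isomorphism H × G ≅ G
×_B G and π is flat). Let X and Y be varieties (reduced, separated, of finite type over k) with
H-actions, in each of which every finite set of points lies in an affine open subset, and let qX : G
× X → QX, qY : G × Y → QY and qXY : G × (X × Y) → QXY be the associated bundles G_H(X), G_H(Y) and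
G_H(X × Y): geometric quotients (invariant, surjective, open, fibre-pair map surjective on points,
sections = invariant sections) which are principal H-bundles, for the actions h·(g, x) = (g·h⁻¹,
h·x), h·(g, y) = (g·h⁻¹, h·y) and h·(g, x, y) = (g·h⁻¹, h·x, h·y), with QX, QY, QXY varieties over B
= G/H through pX, pY, pXY satisfying p ∘ q = π ∘ pr₁. Let fX : QXY → QX and fY : QXY → QY be the
morphisms over B induced by the projections, fX ∘ qXY = qX ∘ (id × pr₁) and fY ∘ qXY = qY ∘ (id ×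
pr₂). Then the square formed by fX, fY, pX, pY is cartesian: G_H(X × Y) is the fibre product of
G_H(X) and G_H(Y) over G/H. -/
theorem result (k : Type u) [Field k] [IsAlgClosed k] [CharZero k]
    (G H : Over (Spec (CommRingCat.of k))) [GrpObj G] [Smooth G.hom] [QuasiCompact G.hom]
    [ConnectedSpace ↥G.left] [GrpObj H] (j : H ⟶ G) [IsMonHom j] [IsClosedImmersion j.left] [Smooth H.hom]
    (B : Over (Spec (CommRingCat.of k))) [LocallyOfFiniteType B.hom] [QuasiCompact B.hom] [IsSeparated B.hom] [IsReduced B.left]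
    (r : AlgGrp.Action H G) (hr : ∀ (T : Over (Spec (CommRingCat.of k))) (h : T ⟶ H) (g : T ⟶ G),
      lift h g ≫ r.act = g * (h ≫ j)⁻¹)
    (π : G ⟶ B) (hπinv : GIT.IsInvariant r π)
    (hπ : (Function.Surjective π.left.base ∧ IsOpenMap π.left.base ∧
      Function.Surjective (GIT.PsiY r π hπinv).base ∧
      (∀ U : B.left.Opens, Function.Injective (π.left.app U) ∧
        Set.range (π.left.app U) = {f | GIT.IsInvSection r π U f}) ∧
      IsIso (GIT.PsiY r π hπinv) ∧ Flat π.left))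
    (X Y : Over (Spec (CommRingCat.of k))) [LocallyOfFiniteType X.hom] [QuasiCompact X.hom] [IsSeparated X.hom] [IsReduced X.left] [LocallyOfFiniteType Y.hom] [QuasiCompact Y.hom] [IsSeparated Y.hom] [IsReduced Y.left]
    (hFX : ∀ F : Finset ↥X.left, ∃ U : X.left.Opens, IsAffineOpen U ∧ (↑F : Set ↥X.left) ⊆ (U : Set ↥X.left))
    (hFY : ∀ F : Finset ↥Y.left, ∃ U : Y.left.Opens, IsAffineOpen U ∧ (↑F : Set ↥Y.left) ⊆ (U : Set ↥Y.left))
    (aX : AlgGrp.Action H X) (aY : AlgGrp.Action H Y)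
    (b : AlgGrp.Action H (G ⊗ X))
    (hb : ∀ (T : Over (Spec (CommRingCat.of k))) (h : T ⟶ H) (g : T ⟶ G) (x : T ⟶ X),
      lift h (lift g x) ≫ b.act = lift (g * (h ≫ j)⁻¹) (lift h x ≫ aX.act))
    (c : AlgGrp.Action H (G ⊗ Y))
    (hc : ∀ (T : Over (Spec (CommRingCat.of k))) (h : T ⟶ H) (g : T ⟶ G) (x : T ⟶ Y),
      lift h (lift g x) ≫ c.act = lift (g * (h ≫ j)⁻¹) (lift h x ≫ aY.act))
    (d : AlgGrp.Action H (G ⊗ (X ⊗ Y)))
    (hd : ∀ (T : Over (Spec (CommRingCat.of k))) (h : T ⟶ H) (g : T ⟶ G) (x : T ⟶ X) (y : T ⟶ Y),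
      lift h (lift g (lift x y)) ≫ d.act = lift (g * (h ≫ j)⁻¹) (lift (lift h x ≫ aX.act) (lift h y ≫ aY.act)))
    (QX QY QXY : Over (Spec (CommRingCat.of k))) [LocallyOfFiniteType QX.hom] [QuasiCompact QX.hom] [IsSeparated QX.hom] [IsReduced QX.left] [LocallyOfFiniteType QY.hom] [QuasiCompact QY.hom] [IsSeparated QY.hom] [IsReduced QY.left] [LocallyOfFiniteType QXY.hom] [QuasiCompact QXY.hom] [IsSeparated QXY.hom] [IsReduced QXY.left]
    (qX : G ⊗ X ⟶ QX) (hqXinv : GIT.IsInvariant b qX) (hqX : (Function.Surjective qX.left.base ∧ IsOpenMap qX.left.base ∧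
      Function.Surjective (GIT.PsiY b qX hqXinv).base ∧
      (∀ U : QX.left.Opens, Function.Injective (qX.left.app U) ∧
        Set.range (qX.left.app U) = {f | GIT.IsInvSection b qX U f}) ∧
      IsIso (GIT.PsiY b qX hqXinv) ∧ Flat qX.left))
    (qY : G ⊗ Y ⟶ QY) (hqYinv : GIT.IsInvariant c qY) (hqY : (Function.Surjective qY.left.base ∧ IsOpenMap qY.left.base ∧
      Function.Surjective (GIT.PsiY c qY hqYinv).base ∧
      (∀ U : QY.left.Opens, Function.Injective (qY.left.app U) ∧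
        Set.range (qY.left.app U) = {f | GIT.IsInvSection c qY U f}) ∧
      IsIso (GIT.PsiY c qY hqYinv) ∧ Flat qY.left))
    (qXY : G ⊗ (X ⊗ Y) ⟶ QXY) (hqXYinv : GIT.IsInvariant d qXY) (hqXY : (Function.Surjective qXY.left.base ∧ IsOpenMap qXY.left.base ∧
      Function.Surjective (GIT.PsiY d qXY hqXYinv).base ∧
      (∀ U : QXY.left.Opens, Function.Injective (qXY.left.app U) ∧
        Set.range (qXY.left.app U) = {f | GIT.IsInvSection d qXY U f}) ∧
      IsIso (GIT.PsiY d qXY hqXYinv) ∧ Flat qXY.left))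
    (pX : QX ⟶ B) (hpX : qX ≫ pX = fst G X ≫ π) (pY : QY ⟶ B) (hpY : qY ≫ pY = fst G Y ≫ π)
    (pXY : QXY ⟶ B) (hpXY : qXY ≫ pXY = fst G (X ⊗ Y) ≫ π)
    (fX : QXY ⟶ QX) (hfX : qXY ≫ fX = (G ◁ fst X Y) ≫ qX) (hfXp : fX ≫ pX = pXY)
    (fY : QXY ⟶ QY) (hfY : qXY ≫ fY = (G ◁ snd X Y) ≫ qY) (hfYp : fY ≫ pY = pXY) :
    IsPullback fX.left fY.left pX.left pY.left := by
  haveI : QuasiCompact qX.left := quasiCompact_of_tensor qX
  haveI : QuasiCompact qY.left := quasiCompact_of_tensor qY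
  haveI : QuasiCompact (X ⊗ Y).hom := by
    rw [← Over.w (fst X Y)]
    haveI : QuasiCompact (fst X Y).left := inferInstanceAs (QuasiCompact (Limits.pullback.fst X.hom Y.hom))
    infer_instance
  haveI : QuasiCompact qXY.left := quasiCompact_of_tensor qXY
  haveI : QuasiCompact π.left := by
    haveI : QuasiCompact (π.left ≫ B.hom) := by rw [Over.w π]; infer_instance
    exact QuasiCompact.of_comp π.left B.hom
  haveI : Surjective qX.left := ⟨hqX.1⟩
  haveI : Surjective qY.left := ⟨hqY.1⟩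
  haveI : Surjective qXY.left := ⟨hqXY.1⟩
  haveI : Surjective π.left := ⟨hπ.1⟩
  haveI : Flat qX.left := hqX.2.2.2.2.2
  haveI : Flat qY.left := hqY.2.2.2.2.2
  haveI : Flat qXY.left := hqXY.2.2.2.2.2
  haveI : Flat π.left := hπ.2.2.2.2.2
  have iX := Groth.Agent.GrpSchLib.TorsorMap.isPullback_of_isIso_psiY b qX hqXinv hqX.2.2.2.2.1
  have iY := Groth.Agent.GrpSchLib.TorsorMap.isPullback_of_isIso_psiY c qY hqYinv hqY.2.2.2.2.1
  have iXY := Groth.Agent.GrpSchLib.TorsorMap.isPullback_of_isIso_psiY d qXY hqXYinv hqXY.2.2.2.2.1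
  have iG := Groth.Agent.GrpSchLib.TorsorMap.isPullback_of_isIso_psiY r π hπinv hπ.2.2.2.2.1
  have hd' : ∀ (T : Over (Spec (CommRingCat.of k))) (h : T ⟶ H) (g : T ⟶ G) (z : T ⟶ X ⊗ Y),
      lift h (lift g z) ≫ d.act = lift (g * (h ≫ j)⁻¹) (lift (lift h (z ≫ fst X Y) ≫ aX.act) (lift h (z ≫ snd X Y) ≫ aY.act)) := by
    intro T h g z
    have := hd T h g (z ≫ fst X Y) (z ≫ snd X Y)
    rwa [← comp_lift, lift_fst_snd, Category.comp_id] at this
  let id₂ := 𝟙 (H ⊗ (G ⊗ Y))
  have eY : (H ◁ fst G Y) ≫ r.act = c.act ≫ fst G Y := by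
    have e1 : (H ◁ fst G Y) = lift (fst H (G ⊗ Y)) (snd H (G ⊗ Y) ≫ fst G Y) := by ext <;> simp
    have e2 : 𝟙 (H ⊗ (G ⊗ Y)) = lift (fst H (G ⊗ Y)) (lift (snd H (G ⊗ Y) ≫ fst G Y) (snd H (G ⊗ Y) ≫ snd G Y)) := by
      ext <;> simp
    conv_rhs => rw [← Category.id_comp (c.act ≫ fst G Y), e2, ← Category.assoc, hc, lift_fst]
    rw [e1, hr]
  have eX : (H ◁ fst G X) ≫ r.act = b.act ≫ fst G X := by
    have e1 : (H ◁ fst G X) = lift (fst H (G ⊗ X)) (snd H (G ⊗ X) ≫ fst G X) := by ext <;> simp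
    have e2 : 𝟙 (H ⊗ (G ⊗ X)) = lift (fst H (G ⊗ X)) (lift (snd H (G ⊗ X) ≫ fst G X) (snd H (G ⊗ X) ≫ snd G X)) := by
      ext <;> simp
    conv_rhs => rw [← Category.id_comp (b.act ≫ fst G X), e2, ← Category.assoc, hb, lift_fst]
    rw [e1, hr]
  have eXY : (H ◁ (G ◁ fst X Y)) ≫ b.act = d.act ≫ (G ◁ fst X Y) := by
    have e1 : (H ◁ (G ◁ fst X Y)) = lift (fst H (G ⊗ (X ⊗ Y))) (lift (snd H (G ⊗ (X ⊗ Y)) ≫ fst G (X ⊗ Y))
        (snd H (G ⊗ (X ⊗ Y)) ≫ snd G (X ⊗ Y) ≫ fst X Y)) := by ext <;> simp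
    have e2 : 𝟙 (H ⊗ (G ⊗ (X ⊗ Y))) = lift (fst H (G ⊗ (X ⊗ Y))) (lift (snd H (G ⊗ (X ⊗ Y)) ≫ fst G (X ⊗ Y))
        (snd H (G ⊗ (X ⊗ Y)) ≫ snd G (X ⊗ Y))) := by
      ext <;> simp
    conv_rhs => rw [← Category.id_comp (d.act ≫ (G ◁ fst X Y)), e2, ← Category.assoc, hd']
    rw [e1, hb, lift_whiskerLeft, lift_fst, Category.assoc]
  have hX := Groth.Agent.GrpSchLib.TorsorMap.isPullback_of_equivariant b r qX π iX iG (fst G X) eX pX hpX
  have hY := Groth.Agent.GrpSchLib.TorsorMap.isPullback_of_equivariant c r qY π iY iG (fst G Y) eY pY hpY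
  have hXY := Groth.Agent.GrpSchLib.TorsorMap.isPullback_of_equivariant d b qXY qX iXY iX (G ◁ fst X Y) eXY fX hfX
  -- the fibre product over the group
  have hG : IsPullback (G ◁ fst X Y).left (G ◁ snd X Y).left (fst G X).left (fst G Y).left := by
    suffices h : IsPullback (G ◁ fst X Y) (G ◁ snd X Y) (fst G X) (fst G Y) from h.map (Over.forget _)
    refine (IsPullback.of_isLimit' ⟨by simp⟩
      (Limits.PullbackCone.IsLimit.mk _ (fun s => lift (s.fst ≫ fst G X) (lift (s.fst ≫ snd G X) (s.snd ≫ snd G Y)))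
        (fun s => ?_) (fun s => ?_) (fun s m h1 h2 => ?_)))
    · ext <;> simp
    · have := s.condition
      ext <;> simp [this]
    · have e1 := congrArg (· ≫ fst G X) h1
      have e2 := congrArg (· ≫ snd G X) h1
      have e3 := congrArg (· ≫ snd G Y) h2
      apply CartesianMonoidalCategory.hom_ext
      · simpa using e1
      · apply CartesianMonoidalCategory.hom_ext
        · simpa using e2
        · simpa using e3
  have s1 : IsPullback (G ◁ fst X Y).left ((G ◁ snd X Y) ≫ qY).left ((fst G X) ≫ π).left pY.left :=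
    hG.paste_vert hY
  have e0 : (fst G X ≫ π).left = qX.left ≫ pX.left := by rw [← hpX, Over.comp_left]
  rw [e0] at s1
  -- the comparison morphism
  have hw : fX.left ≫ pX.left = fY.left ≫ pY.left := by rw [← Over.comp_left, ← Over.comp_left, hfXp, hfYp]
  let c₀ : QXY.left ⟶ Limits.pullback pX.left pY.left := Limits.pullback.lift fX.left fY.left hw
  have hc1 : c₀ ≫ Limits.pullback.fst pX.left pY.left = fX.left := Limits.pullback.lift_fst _ _ _
  have hc2 : c₀ ≫ Limits.pullback.snd pX.left pY.left = fY.left := Limits.pullback.lift_snd _ _ _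
  have s2 : IsPullback (qXY.left ≫ c₀) (G ◁ fst X Y).left (Limits.pullback.fst pX.left pY.left) qX.left := by
    refine (IsPullback.of_right ?_ ?_ (IsPullback.of_hasPullback pX.left pY.left).flip)
    · rw [Category.assoc, hc2, show qXY.left ≫ fY.left = ((G ◁ snd X Y) ≫ qY).left by rw [← Over.comp_left, hfY]]
      exact s1.flip
    · rw [Category.assoc, hc1, ← Over.comp_left, hfX, Over.comp_left]
  have s3 := s2.paste_vert hX.flip
  haveI : Surjective (qXY.left ≫ c₀) := MorphismProperty.of_isPullback (P := @Surjective) s3.flip ‹_›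
  haveI : Flat (qXY.left ≫ c₀) := MorphismProperty.of_isPullback (P := @Flat) s3.flip ‹_›
  haveI : QuasiCompact (qXY.left ≫ c₀) := MorphismProperty.of_isPullback (P := @QuasiCompact) s3.flip ‹_›
  have s4 : IsPullback qXY.left (𝟙 _) c₀ (qXY.left ≫ c₀) := by
    refine IsPullback.of_bot ?_ (by rw [Category.id_comp]) s3
    rw [Category.id_comp, ← Category.assoc, hc1]
    exact hXY.flip.paste_vert hX.flip
  haveI : IsIso c₀ := Groth.Agent.GrpSchLib.TorsorMap.isIso_of_bc c₀ (qXY.left ≫ c₀) qXY.left (𝟙 _) s4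
  exact IsPullback.of_iso_pullback ⟨hw⟩ (asIso c₀) hc1 hc2

end Groth.Agent.S14886
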