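import Groth.Statements.S14887
import Mathlib
import Groth.Agent.FlatMisc.ValuationFibGeneric

set_option autoImplicit false
universe u
open CategoryTheory AlgebraicGeometry
open FlatMor

namespace Groth.Agent.S14887

/-- Let R be a valuation ring and let φ : X → Spec R be flat and locally of finite presentation. Call x
∈ X fibre-generic when it is the generic point of an irreducible component of its fibre, i.e. no
point y ≠ x with φ y = φ x specializes to x. Then every generization of a fibre-generic point is
fibre-generic. (The published statement allows an arbitrary base scheme and takes φ finitely
presented. Over a two-dimensional base it fails: for the affine line over the affine plane with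
coordinates a, b, the closed point u = a/b of the generic fibre specializes to the generic point of
the fibre over a = b = 0, and the chain-lifting step of the published proof does not hold in that
generality. This row takes the base to be the spectrum of a valuation ring, the case in which the
result is applied to relative curves, and assumes only local finite presentation, the property being
local on X.) -/
theorem result
    (R : Type u) [CommRing R] [IsDomain R] [ValuationRing R] {X : Scheme.{u}}
    (φ : X ⟶ Spec (CommRingCat.of R)) [Flat φ] [LocallyOfFinitePresentation φ]
    (x x' : X) (hgen : x' ⤳ x) (hx : ∀ y : X, y ⤳ x → φ y = φ x → y = x) :
    ∀ y : X, y ⤳ x' → φ y = φ x' → y = x' := by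
  exact Groth.Agent.FlatMisc.ValuationFibGeneric.fibMax_generization φ hgen hx

end Groth.Agent.S14887
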