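import Mathlib
import Groth.Statements.S14888
-- import your own Groth.Agent.* helpers here

set_option autoImplicit false
universe u
open CategoryTheory AlgebraicGeometry
open CAlg

namespace Groth.Agent.S14888

/-- In a ring with finite spectrum, a localization at a prime is a localization at one element. -/
lemma exists_isLocalizationAway {B : Type*} [CommRing B] [Finite (PrimeSpectrum B)] (P : Ideal B) [P.IsPrime]
    (A : Type*) [CommRing A] [Algebra B A] [IsLocalization.AtPrime A P] : ∃ f : B, IsLocalization.Away f A := by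
  classical
  haveI := Fintype.ofFinite (PrimeSpectrum B)
  have hch : ∀ q : PrimeSpectrum B, ∃ t : B, t ∉ P ∧ (¬ q.asIdeal ≤ P → t ∈ q.asIdeal) := by
    intro q
    by_cases hq : q.asIdeal ≤ P
    · exact ⟨1, P.ne_top_iff_one.1 Ideal.IsPrime.ne_top', fun h => absurd hq h⟩
    · obtain ⟨t, ht, ht'⟩ := SetLike.not_le_iff_exists.1 hq
      exact ⟨t, ht', fun _ => ht⟩
  choose t ht1 ht2 using hch
  have hf : (∏ q, t q) ∉ P := fun h => by
    obtain ⟨q, -, hq⟩ := (Ideal.IsPrime.prod_mem_iff).1 h
    exact ht1 q hq
  refine ⟨∏ q, t q, ?_⟩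
  haveI : IsLocalization P.primeCompl (Localization (Submonoid.powers (∏ q, t q))) := by
    refine IsLocalization.of_le_of_exists_dvd (Submonoid.powers (∏ q, t q)) P.primeCompl ?_ ?_
    · rintro _ ⟨m, rfl⟩
      exact fun h => hf (Ideal.IsPrime.mem_of_pow_mem ‹_› m h)
    · intro s hs
      by_contra! hc
      have hdisj : Disjoint ((Ideal.span {s} : Ideal B) : Set B) (Submonoid.powers (∏ q, t q) : Set B) := by
        rw [Set.disjoint_left]
        intro b hb hb'
        exact hc b hb' (Ideal.mem_span_singleton.1 hb)
      obtain ⟨q, hq, hsq, hqd⟩ := Ideal.exists_le_prime_disjoint _ _ hdisj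
      refine Set.disjoint_left.1 hqd ?_ (Submonoid.mem_powers _)
      exact Ideal.mem_of_dvd q (Finset.dvd_prod_of_mem t (Finset.mem_univ (⟨q, hq⟩ : PrimeSpectrum B)))
        (ht2 ⟨q, hq⟩ fun hle => hs (hle (hsq (Ideal.mem_span_singleton_self s))))
  exact IsLocalization.isLocalization_of_algEquiv _
    (IsLocalization.algEquiv P.primeCompl (Localization (Submonoid.powers (∏ q, t q))) A)


/-- Let R be a valuation ring whose spectrum is finite (finite height) and let f : X → Spec R be locally
of finite type with locally quasi-finite fibres. For every x ∈ X the canonical morphism Spec O_{X,x}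
→ X is an open immersion, and the composite Spec O_{X,x} → Spec R is locally of finite type; in
particular O_{X,x} is finitely generated as an R-algebra. (The published statement takes X
quasi-finite over Spec R; the assertions are local at x, so this row assumes only that X is locally
of finite type with discrete fibres.) -/
theorem result
    (R : Type u) [CommRing R] [IsDomain R] [ValuationRing R] [Finite (PrimeSpectrum R)]
    {X : Scheme.{u}} (f : X ⟶ Spec (CommRingCat.of R)) [LocallyOfFiniteType f] [LocallyQuasiFinite f]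
    (x : X) :
    IsOpenImmersion (X.fromSpecStalk x) ∧ LocallyOfFiniteType (X.fromSpecStalk x ≫ f) := by
  obtain ⟨_, ⟨W, hW, rfl⟩, hxW, -⟩ :=
    X.isBasis_affineOpens.exists_subset_of_mem_open (Set.mem_univ x) isOpen_univ
  replace hW : IsAffineOpen W := hW
  haveI : IsAffine (W : Scheme.{u}) := hW
  haveI : Finite (W : Scheme.{u}) := by
    haveI : IsAffineHom (Scheme.Opens.ι W ≫ f) := isAffineHom_of_isAffine _
    haveI : Finite (Spec (CommRingCat.of R)) := inferInstanceAs (Finite (PrimeSpectrum R))
    have := (Set.finite_univ (α := Spec (CommRingCat.of R))).preimage' (f := (Scheme.Opens.ι W ≫ f))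
      (fun y _ => (Scheme.Opens.ι W ≫ f).finite_preimage_singleton y)
    rw [Set.preimage_univ] at this
    exact Set.finite_univ_iff.1 this
  haveI : Finite (PrimeSpectrum Γ(X, W)) :=
    Finite.of_injective (α := PrimeSpectrum Γ(X, W)) (β := (W : Scheme.{u})) (fun p => hW.isoSpec.inv p)
      hW.isoSpec.inv.isOpenEmbedding.injective
  letI : Algebra Γ(X, W) (X.presheaf.stalk x) := TopCat.Presheaf.algebra_section_stalk X.presheaf ⟨x, hxW⟩
  haveI := hW.isLocalization_stalk ⟨x, hxW⟩
  obtain ⟨g, hg⟩ := exists_isLocalizationAway (hW.primeIdealOf ⟨x, hxW⟩).asIdeal (X.presheaf.stalk x)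
  haveI : IsOpenImmersion (X.fromSpecStalk x) := by
    rw [← hW.fromSpecStalk_eq_fromSpecStalk hxW, IsAffineOpen.fromSpecStalk]
    haveI : IsOpenImmersion (Spec.map (X.presheaf.germ W x hxW)) :=
      IsOpenImmersion.of_isLocalization (S := X.presheaf.stalk x) g
    infer_instance
  exact ⟨inferInstance, inferInstance⟩

end Groth.Agent.S14888
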