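import Groth.Statements.S14891
import Mathlib.RingTheory.AlgebraicIndependent.TranscendenceBasis
import Mathlib.RingTheory.Valuation.Extension
import Mathlib.LinearAlgebra.Dimension.Localization
import Mathlib.RingTheory.MvPolynomial.Tower
-- import your own Groth.Agent.* helpers here

set_option autoImplicit false
universe u
open CAlg

namespace Groth.Agent.S14891

open IsLocalRing MvPolynomial in
theorem exists_val_aeval {K L Γ₀ Γ₁ : Type u} [Field K] [Field L] [Algebra K L]
    [LinearOrderedCommGroupWithZero Γ₀] [LinearOrderedCommGroupWithZero Γ₁]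
    (vK : Valuation K Γ₀) (vL : Valuation L Γ₁) [vK.HasExtension vL] {κ : Type u}
    (y : κ → vL.valuationSubring)
    (hy : AlgebraicIndependent (ResidueField vK.valuationSubring) fun j => residue vL.valuationSubring (y j))
    (Q : MvPolynomial κ K) (hQ : Q ≠ 0) :
    ∃ c : K, c ≠ 0 ∧ vL (aeval (fun j => (y j : L)) Q) = vL (algebraMap K L c) := by
  classical
  obtain ⟨d, hd, hmax⟩ := Q.support.exists_max_image (fun e => vK (Q.coeff e)) (support_nonempty.2 hQ)
  have hc : Q.coeff d ≠ 0 := mem_support_iff.1 hd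
  refine ⟨Q.coeff d, hc, ?_⟩
  let a : (κ →₀ ℕ) → vK.valuationSubring := fun e => if h : vK (Q.coeff e / Q.coeff d) ≤ 1 then ⟨_, h⟩ else 0
  let Q₀ : MvPolynomial κ vK.valuationSubring := ∑ e ∈ Q.support, monomial e (a e)
  have ha : ∀ e ∈ Q.support, (a e : K) = Q.coeff e / Q.coeff d := fun e he => by
    have h : vK (Q.coeff e / Q.coeff d) ≤ 1 := by
      rw [map_div₀, div_le_one₀ (by rw [zero_lt_iff]; exact vK.ne_zero_iff.2 hc)]
      exact hmax e he
    simp only [a, dif_pos h]
  have hQ₀ : MvPolynomial.map (algebraMap vK.valuationSubring K) Q₀ = C (Q.coeff d)⁻¹ * Q := by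
    rw [map_sum, show C (Q.coeff d)⁻¹ * Q = ∑ e ∈ Q.support, C (Q.coeff d)⁻¹ * monomial e (Q.coeff e) by
      rw [← Finset.mul_sum, ← Q.as_sum]]
    refine Finset.sum_congr rfl fun e he => ?_
    rw [map_monomial, C_mul_monomial, show algebraMap vK.valuationSubring K (a e) = (a e : K) from rfl, ha e he, div_eq_inv_mul]
  have hres : MvPolynomial.map (algebraMap vK.valuationSubring (ResidueField vK.valuationSubring)) Q₀ ≠ 0 := by
    intro h0
    have h1 := congrArg (coeff d) h0
    have h2 : a d = 1 := Subtype.ext (by rw [ha d hd, div_self hc]; rfl)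
    rw [coeff_map, coeff_sum, Finset.sum_eq_single d (fun e _ hne => by rw [coeff_monomial, if_neg hne])
      (fun h => absurd hd h), coeff_monomial, if_pos rfl, h2, map_one, coeff_zero] at h1
    exact one_ne_zero h1
  let z : vL.valuationSubring := aeval y Q₀
  have hz : residue vL.valuationSubring z ≠ 0 := by
    intro h0
    apply hres
    refine (injective_iff_map_eq_zero _).1 hy _ ?_
    rw [← h0, aeval_map_algebraMap]
    exact aeval_algebraMap_apply (ResidueField vL.valuationSubring) y Q₀
  have hvz : vL (z : L) = 1 := by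
    refine le_antisymm z.2 ?_
    obtain ⟨w, hw⟩ := (residue_ne_zero_iff_isUnit z).1 hz
    have h1 : (z : L) * ((w⁻¹ : (vL.valuationSubring)ˣ) : vL.valuationSubring) = 1 := by
      rw [← hw]; exact congrArg Subtype.val w.mul_inv
    calc (1 : Γ₁) = vL (z : L) * vL (((w⁻¹ : (vL.valuationSubring)ˣ) : vL.valuationSubring) : L) := by
          rw [← map_mul, h1, map_one]
      _ ≤ vL (z : L) * 1 := mul_le_mul_right ((w⁻¹ : (vL.valuationSubring)ˣ) : vL.valuationSubring).2 _
      _ = vL (z : L) := mul_one _
  have hval : (z : L) = algebraMap K L (Q.coeff d)⁻¹ * aeval (fun j => (y j : L)) Q := by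
    have h1 : aeval (fun j => (y j : L)) (MvPolynomial.map (algebraMap vK.valuationSubring K) Q₀) = (z : L) := by
      rw [aeval_map_algebraMap]
      exact aeval_algebraMap_apply L y Q₀
    rw [← h1, hQ₀, map_mul, aeval_C]
  rw [hval, map_mul, map_inv₀ (algebraMap K L), map_inv₀ vL] at hvz
  exact (eq_of_inv_mul_eq_one hvz).symm

open IsLocalRing MvPolynomial in
theorem independent_sum {K L Γ₀ Γ₁ : Type u} [Field K] [Field L] [Algebra K L]
    [LinearOrderedCommGroupWithZero Γ₀] [LinearOrderedCommGroupWithZero Γ₁]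
    (vK : Valuation K Γ₀) (vL : Valuation L Γ₁) [vK.HasExtension vL] {ι κ : Type u}
    (t : ι → Lˣ) (ht : LinearIndependent ℤ fun i => (QuotientAddGroup.mk (Additive.ofMul (t i)) :
      Additive Lˣ ⧸ Subgroup.toAddSubgroup (vL.valuationSubring.unitGroup ⊔ (Units.map (algebraMap K L).toMonoidHom).range)))
    (y : κ → vL.valuationSubring)
    (hy : AlgebraicIndependent (ResidueField vK.valuationSubring) fun j => residue vL.valuationSubring (y j)) :
    AlgebraicIndependent K (Sum.elim (fun i => (t i : L)) fun j => (y j : L)) := by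
  classical
  have hyK : AlgebraicIndependent K fun j => (y j : L) := by
    refine (injective_iff_map_eq_zero _).2 fun Q hQ => ?_
    by_contra hne
    obtain ⟨c, hc, h⟩ := exists_val_aeval vK vL y hy Q hne
    rw [hQ, map_zero, eq_comm, vL.zero_iff, map_eq_zero] at h
    exact hc h
  refine hyK.sumElim ((injective_iff_map_eq_zero _).2 fun P hP => ?_)
  by_contra hne
  let S := Algebra.adjoin K (Set.range fun j => (y j : L))
  let T : (ι →₀ ℕ) → Lˣ := fun a => a.prod fun i n => t i ^ n
  have hc : ∀ a ∈ P.support, ∃ c : K, c ≠ 0 ∧ vL ((P.coeff a : S) : L) = vL (algebraMap K L c) := by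
    intro a ha
    have hmem := (Algebra.adjoin_range_eq_range_aeval K (fun j => (y j : L))).le (P.coeff a).2
    obtain ⟨Q, hQ⟩ := hmem
    obtain ⟨c, hc, h⟩ := exists_val_aeval vK vL y hy Q (fun h0 => (mem_support_iff.1 ha) (Subtype.ext (by
      rw [h0] at hQ
      exact hQ.symm.trans (map_zero _))))
    exact ⟨c, hc, by rw [← h]; exact congrArg vL hQ.symm⟩
  choose! c hc hvc using hc
  let q : ι → Additive Lˣ ⧸ Subgroup.toAddSubgroup
      (vL.valuationSubring.unitGroup ⊔ (Units.map (algebraMap K L).toMonoidHom).range) :=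
    fun i => QuotientAddGroup.mk (Additive.ofMul (t i))
  have hT : ∀ a : ι →₀ ℕ, QuotientAddGroup.mk (Additive.ofMul (T a)) =
      Finsupp.linearCombination ℤ q (a.mapRange (fun n : ℕ => (n : ℤ)) Nat.cast_zero) := by
    intro a
    rw [Finsupp.linearCombination_apply, Finsupp.sum_mapRange_index (fun i => by rw [zero_smul])]
    simp only [T, Finsupp.prod, Finsupp.sum, ofMul_prod, QuotientAddGroup.mk_sum, ofMul_pow, QuotientAddGroup.mk_nsmul,
      natCast_zsmul, q]
  let f : (ι →₀ ℕ) → L := fun a => ((P.coeff a : S) : L) * T a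
  have hdist : ∀ a ∈ P.support, ∀ b ∈ P.support, vL (f a) = vL (f b) → a = b := by
    intro a ha b hb h
    simp only [f, map_mul, hvc a ha, hvc b hb] at h
    let ca : Lˣ := Units.map (algebraMap K L).toMonoidHom (Units.mk0 _ (hc a ha))
    let cb : Lˣ := Units.map (algebraMap K L).toMonoidHom (Units.mk0 _ (hc b hb))
    have hu : ca * T a * (cb * T b)⁻¹ ∈ vL.valuationSubring.unitGroup := by
      rw [Valuation.mem_unitGroup_iff, Units.val_mul, map_mul, Units.val_inv_eq_inv_val, map_inv₀]
      have e : vL ((ca * T a : Lˣ) : L) = vL ((cb * T b : Lˣ) : L) := by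
        rw [Units.val_mul, Units.val_mul, map_mul, map_mul]; exact h
      rw [e, mul_inv_cancel₀ (vL.ne_zero_iff.2 (Units.ne_zero _))]
    have hmem : (T b)⁻¹ * T a ∈ vL.valuationSubring.unitGroup ⊔ (Units.map (algebraMap K L).toMonoidHom).range := by
      have e : (T b)⁻¹ * T a = ca * T a * (cb * T b)⁻¹ * (ca⁻¹ * cb) := by
        rw [mul_inv]; simp [mul_comm, mul_left_comm]
      rw [e]
      exact mul_mem (Subgroup.mem_sup_left hu) (Subgroup.mem_sup_right
        (mul_mem (inv_mem ⟨_, rfl⟩) ⟨_, rfl⟩))
    have h1 : (QuotientAddGroup.mk (Additive.ofMul (T b)) : Additive Lˣ ⧸ Subgroup.toAddSubgroup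
        (vL.valuationSubring.unitGroup ⊔ (Units.map (algebraMap K L).toMonoidHom).range)) =
        QuotientAddGroup.mk (Additive.ofMul (T a)) := QuotientAddGroup.eq.2 hmem
    rw [hT, hT] at h1
    exact (Finsupp.mapRange_injective _ Nat.cast_zero Nat.cast_injective (ht h1)).symm
  obtain ⟨a, ha, hmax⟩ := P.support.exists_max_image (fun a => vL (f a)) (support_nonempty.2 hne)
  have hsum : ∑ e ∈ P.support, f e = 0 := by
    refine Eq.trans ?_ hP
    rw [MvPolynomial.aeval_def, MvPolynomial.eval₂_eq]
    refine Finset.sum_congr rfl fun e _ => ?_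
    show ((P.coeff e : S) : L) * T e = _
    simp only [T, Finsupp.prod, Units.coe_prod, Units.val_pow_eq_pow_val]
    rfl
  have h := Valuation.map_sum_eq_of_lt vL (f := f) ha fun e he =>
    lt_of_le_of_ne (hmax e (Finset.mem_sdiff.1 he).1) fun h =>
      (Finset.mem_sdiff.1 he).2 (Finset.mem_singleton.2 (hdist e (Finset.mem_sdiff.1 he).1 a ha h))
  rw [hsum, map_zero, eq_comm, vL.zero_iff, mul_eq_zero] at h
  exact h.elim (fun h => mem_support_iff.1 ha (Subtype.ext h)) (Units.ne_zero _)

/-- Let L/K be an extension of valued fields, i.e. v_L is a valuation on L whose restriction to K is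
equivalent to v_K. Write E for the rational rank of the quotient of value groups |L^×|/|K^×| — here
the rank of the abelian group L^× modulo the subgroup generated by the units of the valuation ring
of v_L and the image of K^× — and F for the transcendence degree of the residue field of v_L over
that of v_K. Then E + F ≤ tr.deg(L/K) (an inequality of cardinals). -/
theorem result
    {K L Γ₀ Γ₁ : Type u} [Field K] [Field L] [Algebra K L]
    [LinearOrderedCommGroupWithZero Γ₀] [LinearOrderedCommGroupWithZero Γ₁]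
    (vK : Valuation K Γ₀) (vL : Valuation L Γ₁) [vK.HasExtension vL] :
    Module.rank ℤ (Additive Lˣ ⧸ Subgroup.toAddSubgroup
        (vL.valuationSubring.unitGroup ⊔ (Units.map (algebraMap K L).toMonoidHom).range)) +
      Algebra.trdeg (IsLocalRing.ResidueField vK.valuationSubring)
        (IsLocalRing.ResidueField vL.valuationSubring) ≤ Algebra.trdeg K L := by
  obtain ⟨s, hs, hli⟩ := exists_set_linearIndependent ℤ (Additive Lˣ ⧸ Subgroup.toAddSubgroup
        (vL.valuationSubring.unitGroup ⊔ (Units.map (algebraMap K L).toMonoidHom).range))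
  obtain ⟨κ, w, hw⟩ := exists_isTranscendenceBasis' (IsLocalRing.ResidueField vK.valuationSubring)
    (IsLocalRing.ResidueField vL.valuationSubring)
  choose t ht using fun i : s => QuotientAddGroup.mk_surjective (i : Additive Lˣ ⧸ Subgroup.toAddSubgroup
        (vL.valuationSubring.unitGroup ⊔ (Units.map (algebraMap K L).toMonoidHom).range))
  choose y hy using fun j => IsLocalRing.residue_surjective (w j)
  have h := independent_sum vK vL (fun i => (t i).toMul)
    (by simpa only [ofMul_toMul, ht] using (hli : LinearIndependent ℤ (Subtype.val : s → _)))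
    y (by simpa only [hy] using hw.1)
  have h2 := h.lift_cardinalMk_le_trdeg
  rw [Cardinal.lift_id, Cardinal.lift_id, Cardinal.mk_sum, Cardinal.lift_id, Cardinal.lift_id] at h2
  rw [← hs, ← hw.cardinalMk_eq_trdeg]
  exact h2

end Groth.Agent.S14891
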