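import Mathlib
import Groth.Statements.S14892
-- import your own Groth.Agent.* helpers here

set_option autoImplicit false
universe u
open CAlg

namespace Groth.Agent.S14892

lemma monomial_unique {R : Type u} [CommRing R] [IsDomain R] : ∀ (m : ℕ) (a : Fin m → R) (P : Fin m → Ideal R),
    (∀ i, (P i).IsPrime) → (∀ i, a i ∈ P i) → (∀ i j, i < j → a j ∉ P i) → (∀ i, a i ≠ 0) →
    ∀ f g : Fin m → ℕ, Associated (∏ i, a i ^ f i) (∏ i, a i ^ g i) → f = g := by
  intro m
  induction m with
  | zero => intro a P _ _ _ _ f g _; exact funext fun i => i.elim0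
  | succ m ih =>
    intro a P hP hmem hnot h0 f g h
    rw [Fin.prod_univ_succ, Fin.prod_univ_succ] at h
    have key : ∀ f g : Fin (m + 1) → ℕ, f 0 < g 0 →
        ¬ Associated (a 0 ^ f 0 * ∏ i : Fin m, a i.succ ^ f i.succ) (a 0 ^ g 0 * ∏ i : Fin m, a i.succ ^ g i.succ) := by
      intro f g hlt h
      have h1 : a 0 ^ f 0 * ∏ i : Fin m, a i.succ ^ f i.succ ∈
          Ideal.span {a 0 ^ f 0} * P 0 := by
        obtain ⟨u, hu⟩ := h.symm
        rw [← hu, show g 0 = f 0 + (g 0 - f 0) by omega, pow_add, mul_assoc, mul_assoc]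
        exact Ideal.mul_mem_mul (Ideal.mem_span_singleton_self _)
          (Ideal.mul_mem_right _ _ (Ideal.pow_mem_of_mem _ (hmem 0) _ (by omega)))
      rw [Ideal.mem_span_singleton_mul] at h1
      obtain ⟨z, hz, hzz⟩ := h1
      rw [mul_left_cancel₀ (pow_ne_zero _ (h0 0)) hzz, Ideal.IsPrime.prod_mem_iff (hp := hP 0)] at hz
      obtain ⟨i, -, hi⟩ := hz
      exact hnot 0 i.succ (Fin.succ_pos i) ((hP 0).mem_of_pow_mem _ hi)
    have h00 : f 0 = g 0 := by
      rcases Nat.lt_trichotomy (f 0) (g 0) with h' | h' | h'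
      · exact absurd h (key f g h')
      · exact h'
      · exact absurd h.symm (key g f h')
    have htail := ih (fun i => a i.succ) (fun i => P i.succ) (fun i => hP _) (fun i => hmem _)
      (fun i j hij => hnot _ _ (Fin.succ_lt_succ_iff.mpr hij)) (fun i => h0 _)
      (fun i => f i.succ) (fun i => g i.succ) (Associated.of_mul_left h (Associated.of_eq (by rw [h00])) (pow_ne_zero _ (h0 0)))
    funext i
    exact Fin.cases h00 (fun j => congrFun htail j) i

lemma prod_update {R : Type*} [CommMonoid R] {m : ℕ} (a : Fin m → R) (s : Fin m) (N : ℕ)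
    (e : {i : Fin m // i ≠ s} → ℕ) :
    ∏ i, a i ^ (if h : i = s then N else e ⟨i, h⟩) = a s ^ N * ∏ j : {i : Fin m // i ≠ s}, a j ^ e j := by
  classical
  rw [← Finset.mul_prod_erase Finset.univ _ (Finset.mem_univ s), dif_pos rfl,
    Finset.prod_subtype (p := fun i => i ≠ s) (Finset.univ.erase s) (by simp)]
  exact congrArg _ (Finset.prod_congr rfl fun j _ => by rw [dif_neg j.2])

/-- The length of a chain of primes is bounded through algebraic independence. -/
lemma le_of_chain {K : Type u} [Field K] (A : ValuationSubring K) (d : ℕ)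
    (hd : Algebra.trdeg (⊥ : Subfield K) K = d) (l : LTSeries (PrimeSpectrum A))
    (hhead : l.head.asIdeal = ⊥) (hlast : l.last = IsLocalRing.closedPoint A) : l.length ≤ d + 1 := by
  classical
  rcases Nat.eq_zero_or_pos l.length with h | hpos
  · omega
  set m := l.length with hm
  have hlt : ∀ i : Fin m, (l i.castSucc).asIdeal < (l i.succ).asIdeal := fun i => l.step i
  choose a₀ ha₀ ha₀' using fun i => SetLike.exists_of_lt (hlt i)
  have hmono : ∀ i j : Fin (m + 1), i ≤ j → (l i).asIdeal ≤ (l j).asIdeal := fun i j h => l.monotone h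
  obtain ⟨a, s, ha, ha', hint⟩ : ∃ (a : Fin m → A) (s : Fin m), (∀ i, a i ∈ (l i.succ).asIdeal) ∧
      (∀ i, a i ∉ (l i.castSucc).asIdeal) ∧
      ∀ n : ℕ, (n : A) ≠ 0 → ∃ k : ℕ, Associated (n : A) (a s ^ k) := by
    obtain ⟨p, hp⟩ := CharP.exists (IsLocalRing.ResidueField A)
    have hiff : ∀ n : ℕ, ¬ IsUnit (n : A) ↔ p ∣ n := fun n => by
      rw [← CharP.cast_eq_zero_iff (IsLocalRing.ResidueField A) p, ← map_natCast (IsLocalRing.residue A),
        IsLocalRing.residue_eq_zero_iff, IsLocalRing.mem_maximalIdeal, mem_nonunits_iff]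
    by_cases hpA : (p : A) = 0
    · refine ⟨a₀, ⟨0, hpos⟩, ha₀, ha₀', fun n hn => ⟨0, ?_⟩⟩
      rw [pow_zero, associated_one_iff_isUnit]
      by_contra hu
      obtain ⟨t, rfl⟩ := (hiff n).mp hu
      exact hn (by rw [Nat.cast_mul, hpA, zero_mul])
    have hp0 : p ≠ 0 := fun h => hpA (by rw [h, Nat.cast_zero])
    have hpp : p.Prime := (CharP.char_is_prime_or_zero (IsLocalRing.ResidueField A) p).resolve_right hp0
    have hex : ∃ i : ℕ, ∃ h : i < m, (p : A) ∈ (l (Fin.succ ⟨i, h⟩)).asIdeal := by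
      refine ⟨m - 1, by omega, ?_⟩
      have e : Fin.succ ⟨m - 1, by omega⟩ = Fin.last m := Fin.ext (by simp; omega)
      rw [e, show l (Fin.last m) = l.last from rfl, hlast]
      exact (IsLocalRing.mem_maximalIdeal _).mpr ((hiff p).mpr dvd_rfl)
    obtain ⟨hs, hsp⟩ := Nat.find_spec hex
    let s : Fin m := ⟨Nat.find hex, hs⟩
    have hsp' : (p : A) ∉ (l s.castSucc).asIdeal := by
      intro h
      rcases Nat.eq_zero_or_pos (Nat.find hex) with h0 | h0
      · rw [show s.castSucc = 0 from Fin.ext (by simpa [s] using h0), show l 0 = l.head from rfl, hhead] at h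
        exact hpA h
      · refine Nat.find_min hex (show Nat.find hex - 1 < Nat.find hex by omega) ⟨by omega, ?_⟩
        rw [show Fin.succ ⟨Nat.find hex - 1, by omega⟩ = s.castSucc from Fin.ext (by simp [s]; omega)]
        exact h
    refine ⟨Function.update a₀ s (p : A), s, fun i => ?_, fun i => ?_, fun n hn => ?_⟩
    · rcases eq_or_ne i s with rfl | h
      · rw [Function.update_self]; exact hsp
      · rw [Function.update_of_ne h]; exact ha₀ i
    · rcases eq_or_ne i s with rfl | h
      · rw [Function.update_self]; exact hsp'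
      · rw [Function.update_of_ne h]; exact ha₀' i
    · obtain ⟨k, n', hn', rfl⟩ := Nat.exists_eq_pow_mul_and_not_dvd (fun h : n = 0 => hn (by simp [h])) p hpp.ne_one
      refine ⟨k, ?_⟩
      rw [Nat.cast_mul, Nat.cast_pow, Function.update_self]
      exact associated_mul_unit_left _ _ (not_not.mp fun h => hn' ((hiff n').mp h))
  have hne : ∀ i, a i ≠ 0 := fun i h => ha' i (h ▸ zero_mem _)
  have huniq := monomial_unique m a (fun i => (l i.succ).asIdeal) (fun i => (l i.succ).isPrime) ha
    (fun i j hij h => ha' j (hmono i.succ j.castSucc (Fin.succ_le_castSucc_iff.mpr hij) h)) hne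
  let v := A.valuation
  have hassoc : ∀ x y : A, v x = v y → Associated x y := fun x y h => by
    obtain ⟨w, hw⟩ := (A.valuation_eq_iff (x : K) y).mp h
    exact (show Associated y x from ⟨w, Subtype.ext (by rw [← hw]; exact mul_comm _ _)⟩).symm
  have hv0 : ∀ i, v (a i : K) ≠ 0 := fun i => v.ne_zero_iff.mpr fun h => hne i (Subtype.ext h)
  have hc : ∀ c : (⊥ : Subfield K), c ≠ 0 → ∃ k k' : ℕ, v (c : K) * v (a s : K) ^ k' = v (a s : K) ^ k := by
    intro c hc0
    have hmem : (c : K) ∈ Subfield.closure (∅ : Set K) := by rw [Subfield.closure_empty]; exact c.2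
    obtain ⟨y, hy, z, hz, hyz⟩ := Subfield.mem_closure_iff.mp hmem
    rw [Subring.closure_empty, Subring.mem_bot] at hy hz
    obtain ⟨n, rfl⟩ := hy
    obtain ⟨n', rfl⟩ := hz
    have hv : ∀ n : ℤ, (n : K) ≠ 0 → ∃ k : ℕ, v (n : K) = v (a s : K) ^ k := by
      intro n hn
      have hnat : (n.natAbs : K) ≠ 0 := fun h => hn (by
        rcases Int.natAbs_eq n with e | e <;> conv_lhs => rw [e]
        · rw [Int.cast_natCast, h]
        · rw [Int.cast_neg, Int.cast_natCast, h, neg_zero])
      obtain ⟨k, u, hu⟩ := hint n.natAbs (fun h => hnat (by simpa using congrArg (fun x : A => (x : K)) h))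
      refine ⟨k, ?_⟩
      have h1 : v (n : K) = v (n.natAbs : K) := by
        rcases Int.natAbs_eq n with e | e <;> conv_lhs => rw [e]
        · rw [Int.cast_natCast]
        · rw [Int.cast_neg, Int.cast_natCast, Valuation.map_neg]
      have h2 := congrArg (fun x : A => v (x : K)) hu
      simp only [MulMemClass.coe_mul, map_mul, SubmonoidClass.coe_pow, map_pow] at h2
      rw [h1, ← h2, show v ((u : A) : K) = 1 from (A.valuation_eq_one_iff _).mp u.isUnit, mul_one]
      exact congrArg v (map_natCast A.subtype n.natAbs).symm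
    have hn : (n : K) ≠ 0 := fun h => hc0 (Subtype.ext (by rw [← hyz, h, zero_div]; rfl))
    have hn' : (n' : K) ≠ 0 := fun h => hc0 (Subtype.ext (by rw [← hyz, h, div_zero]; rfl))
    obtain ⟨k, hk⟩ := hv n hn
    obtain ⟨k', hk'⟩ := hv n' hn'
    exact ⟨k, k', by rw [← hk, ← hk', ← map_mul, ← hyz, div_mul_cancel₀ _ hn']⟩
  have hind : AlgebraicIndependent (⊥ : Subfield K) fun j : {i : Fin m // i ≠ s} => (a j : K) := by
    refine (injective_iff_map_eq_zero _).2 fun P hP => ?_
    by_contra hPne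
    let f : ({i : Fin m // i ≠ s} →₀ ℕ) → K := fun e => ((P.coeff e : (⊥ : Subfield K)) : K) * ∏ j : {i : Fin m // i ≠ s}, (a j : K) ^ e j
    have hdist : ∀ e ∈ P.support, ∀ e' ∈ P.support, v (f e) = v (f e') → e = e' := by
      intro e he e' he' h
      obtain ⟨k, k', hk⟩ := hc _ (MvPolynomial.mem_support_iff.mp he)
      obtain ⟨q, q', hq⟩ := hc _ (MvPolynomial.mem_support_iff.mp he')
      have h' : v ((a s ^ (k + q') * ∏ j : {i : Fin m // i ≠ s}, a j ^ e j : A) : K) =
          v ((a s ^ (q + k') * ∏ j : {i : Fin m // i ≠ s}, a j ^ e' j : A) : K) := by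
        simp only [f, map_mul] at h
        simp only [MulMemClass.coe_mul, SubmonoidClass.coe_finset_prod, SubmonoidClass.coe_pow, map_mul, map_pow,
          pow_add, ← hk, ← hq]
        rw [mul_right_comm _ _ (v _), mul_right_comm _ _ (v (∏ _, _)), h]
        ac_rfl
      have := hassoc _ _ h'
      rw [← prod_update, ← prod_update] at this
      refine Finsupp.ext fun j => ?_
      simpa [j.2] using congrFun (huniq _ _ this) (j : Fin m)
    obtain ⟨e, he, hmax⟩ := P.support.exists_max_image (fun e => v (f e)) (MvPolynomial.support_nonempty.2 hPne)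
    have hsum : ∑ e ∈ P.support, f e = 0 := by
      refine Eq.trans ?_ hP
      rw [MvPolynomial.aeval_def, MvPolynomial.eval₂_eq']
      rfl
    have h := Valuation.map_sum_eq_of_lt v (f := f) he fun e' he' =>
      lt_of_le_of_ne (hmax e' (Finset.mem_sdiff.1 he').1) fun h =>
        (Finset.mem_sdiff.1 he').2 (Finset.mem_singleton.2 (hdist e' (Finset.mem_sdiff.1 he').1 e he h))
    rw [hsum, map_zero, eq_comm, v.zero_iff, mul_eq_zero, Finset.prod_eq_zero_iff] at h
    rcases h with h | ⟨j, -, hj⟩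
    · exact MvPolynomial.mem_support_iff.1 he (Subtype.ext h)
    · exact hne j (Subtype.ext (eq_zero_of_pow_eq_zero hj))
  have h2 := hind.lift_cardinalMk_le_trdeg
  rw [hd] at h2
  simp [Fintype.card_subtype_compl] at h2
  omega

/-- If the field K has finite transcendence degree d over its prime subfield, then every valuation
subring of K has height (Krull dimension) at most d + 1. -/
theorem result
    (K : Type u) [Field K] (A : ValuationSubring K) (d : ℕ)
    (hd : Algebra.trdeg (⊥ : Subfield K) K = d) :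
    ringKrullDim A ≤ ((d + 1 : ℕ) : WithBot ℕ∞) := by
  refine iSup_le fun l => ?_
  obtain ⟨l₁, h₁, hl₁⟩ : ∃ l₁ : LTSeries (PrimeSpectrum A), l₁.head.asIdeal = ⊥ ∧ l.length ≤ l₁.length := by
    by_cases h : l.head.asIdeal = ⊥
    · exact ⟨l, h, le_rfl⟩
    · exact ⟨l.cons ⟨⊥, Ideal.isPrime_bot⟩ (show (⊥ : Ideal A) < l.head.asIdeal from bot_lt_iff_ne_bot.mpr h),
        by rw [RelSeries.head_cons], by simp⟩
  obtain ⟨l₂, h₂, h₂', hl₂⟩ : ∃ l₂ : LTSeries (PrimeSpectrum A),
      l₂.head.asIdeal = ⊥ ∧ l₂.last = IsLocalRing.closedPoint A ∧ l₁.length ≤ l₂.length := by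
    by_cases h : l₁.last = IsLocalRing.closedPoint A
    · exact ⟨l₁, h₁, h, le_rfl⟩
    · refine ⟨l₁.snoc (IsLocalRing.closedPoint A)
        (lt_of_le_of_ne (show l₁.last ≤ IsLocalRing.closedPoint A from IsLocalRing.le_maximalIdeal l₁.last.isPrime.ne_top) h), ?_, RelSeries.last_snoc _ _ _, by simp⟩
      rw [RelSeries.head_snoc]
      exact h₁
  exact WithBot.coe_le_coe.mpr (ENat.coe_le_coe.mpr
    (hl₁.trans (hl₂.trans (le_of_chain A d hd l₂ h₂ h₂'))))

end Groth.Agent.S14892
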