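import Groth.Agent.S14892
import Groth.Statements.S14893
-- import your own Groth.Agent.* helpers here

set_option autoImplicit false
universe u
open CAlg

namespace Groth.Agent.S14893

lemma finite_spec {R : Type u} [CommRing R] [IsDomain R] [ValuationRing R] (d : ℕ)
    (h : ringKrullDim R ≤ (d : WithBot ℕ∞)) : Finite (PrimeSpectrum R) := by
  have hb : ∀ p : PrimeSpectrum R, Order.height p ≤ (d : ℕ∞) := fun p =>
    WithBot.coe_le_coe.1 ((Order.height_le_krullDim p).trans h)
  have hfin : ∀ p : PrimeSpectrum R, Order.height p < ⊤ := fun p =>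
    lt_of_le_of_lt (hb p) (WithTop.coe_lt_top _)
  refine Finite.of_injective (fun p => (⟨(Order.height p).toNat, ?_⟩ : Fin (d + 1))) ?_
  · have := ENat.toNat_le_toNat (hb p) (ENat.coe_ne_top d)
    simp at this; omega
  · intro p q hpq
    simp only [Fin.mk.injEq] at hpq
    have he : Order.height p = Order.height q := by
      rw [← ENat.coe_toNat (hfin p).ne, ← ENat.coe_toNat (hfin q).ne, hpq]
    rcases Std.Total.total (r := (· ≤ ·)) p.asIdeal q.asIdeal with hle | hle
    · rcases eq_or_lt_of_le (show p ≤ q from hle) with h' | h'
      · exact h'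
      · exact absurd he (Order.height_strictMono h' (hfin _)).ne
    · rcases eq_or_lt_of_le (show q ≤ p from hle) with h' | h'
      · exact h'.symm
      · exact absurd he.symm (Order.height_strictMono h' (hfin _)).ne

lemma finite_spec_comap {K : Type u} [Field K] (A : ValuationSubring K) (s : Finset K) :
    Finite (PrimeSpectrum (A.comap (Subfield.closure (s : Set K)).subtype)) := by
  set L := Subfield.closure (s : Set K) with hL
  let t : Set L := {x | (x : K) ∈ (s : Set K)}
  have ht : t.Finite := s.finite_toSet.preimage (fun a _ b _ h => Subtype.ext h)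
  haveI : Algebra.IsAlgebraic (Algebra.adjoin (⊥ : Subfield L) t) L := by
    have htop : IntermediateField.adjoin (⊥ : Subfield L) t = ⊤ := by
      have h0 : (Subfield.closure t).map L.subtype = L := by
        rw [RingHom.map_field_closure]
        conv_rhs => rw [hL]
        congr 1
        ext x
        exact ⟨fun ⟨y, hy, e⟩ => e ▸ hy, fun hx => ⟨⟨x, Subfield.subset_closure hx⟩, hx, rfl⟩⟩
      have h1 : Subfield.closure t = ⊤ := by
        rw [eq_top_iff]
        intro x _
        have : (x : K) ∈ (Subfield.closure t).map L.subtype := by rw [h0]; exact x.2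
        obtain ⟨y, hy, e⟩ := this
        rwa [← Subtype.ext e]
      rw [eq_top_iff]
      intro x _
      have : Subfield.closure t ≤ (IntermediateField.adjoin (⊥ : Subfield L) t).toSubfield :=
        Subfield.closure_le.2 (IntermediateField.subset_adjoin _ _)
      exact this (by rw [h1]; trivial)
    rw [← IntermediateField.isAlgebraic_adjoin_iff_top, htop]
    exact ⟨fun x => isAlgebraic_algebraMap (⟨x, trivial⟩ : (⊤ : IntermediateField (⊥ : Subfield L) L))⟩
  have hd : Algebra.trdeg (⊥ : Subfield L) L < Cardinal.aleph0 :=
    (Algebra.IsAlgebraic.trdeg_le_cardinalMk (⊥ : Subfield L) t).trans_lt ht.lt_aleph0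
  obtain ⟨d, hd'⟩ := Cardinal.lt_aleph0.1 hd
  exact finite_spec _ (Groth.Agent.S14892.result L (A.comap L.subtype) d hd')

/-- Every valuation ring R is a filtered union of subrings which are valuation rings with finite
spectrum (finite height): there is a nonempty directed index type and a monotone family of such
subrings of R whose supremum is R. -/
theorem result
    (R : Type u) [CommRing R] [IsDomain R] [ValuationRing R] :
    ∃ (ι : Type u) (_ : Preorder ι) (_ : IsDirected ι (fun a b ↦ a ≤ b)) (_ : Nonempty ι)
      (F : ι → Subring R), Monotone F ∧ (⨆ i, F i) = ⊤ ∧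
        ∀ i, ValuationRing (F i) ∧ Finite (PrimeSpectrum (F i)) := by
  classical
  let K := FractionRing R
  let φ := algebraMap R K
  have hφ : Function.Injective φ := IsFractionRing.injective R K
  let A : ValuationSubring K := ValuationSubring.ofSubring φ.range fun x => by
    rcases ValuationRing.isInteger_or_isInteger R x with h | h
    · exact Or.inl h
    · exact Or.inr h
  let F : Finset K → Subring R := fun s => (Subfield.closure (s : Set K)).toSubring.comap φ
  have e : ∀ s : Finset K, ↥(F s) ≃+* ↥(A.comap (Subfield.closure (s : Set K)).subtype) := fun s =>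
    RingEquiv.ofBijective
      (RingHom.codRestrict (RingHom.codRestrict (φ.comp (F s).subtype) (Subfield.closure (s : Set K)) (fun a => a.2))
        (A.comap (Subfield.closure (s : Set K)).subtype) (fun a => ⟨a.1, rfl⟩))
      ⟨fun a b h => Subtype.ext (hφ (congrArg (fun x : ↥(A.comap (Subfield.closure (s : Set K)).subtype) => ((x : Subfield.closure (s : Set K)) : K)) h)),
       fun x => by
        obtain ⟨r, hr⟩ := (x.2 : ((x : Subfield.closure (s : Set K)) : K) ∈ A)
        exact ⟨⟨r, show φ r ∈ _ by rw [hr]; exact (x : Subfield.closure (s : Set K)).2⟩, Subtype.ext (Subtype.ext hr)⟩⟩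
  refine ⟨Finset K, inferInstance, inferInstance, inferInstance, F,
    fun s t hst r hr => Subfield.closure_mono (Finset.coe_subset.2 hst) hr, ?_, fun s => ?_⟩
  · rw [eq_top_iff]
    intro r _
    exact (le_iSup F {φ r}) (show φ r ∈ Subfield.closure _ from Subfield.subset_closure (by simp))
  · haveI : ValuationRing (F s) := ValuationRing.iff_dvd_total.2 ⟨fun a b => by
      rcases (ValuationRing.iff_dvd_total.1 (inferInstance : ValuationRing
        ↥(A.comap (Subfield.closure (s : Set K)).subtype))).total (e s a) (e s b) with h | h
      · exact Or.inl ((map_dvd_iff (e s)).1 h)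
      · exact Or.inr ((map_dvd_iff (e s)).1 h)⟩
    exact ⟨inferInstance, by
      haveI := finite_spec_comap A s
      exact Finite.of_equiv _ (PrimeSpectrum.comapEquiv (e s)).toEquiv.symm⟩

end Groth.Agent.S14893
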