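import Groth.Statements.S14894
import Mathlib
import Groth.Agent.EtaMod.Iso
import Groth.Agent.KbMod.Basic

set_option autoImplicit false
universe u
open CategoryTheory CategoryTheory.Limits AlgebraicGeometry
open FlatMor

namespace Groth.Agent.S14894

/-- Let S be integral, quasi-compact and quasi-separated with generic point η, φ : X → S flat, locally
of finite presentation, quasi-compact and quasi-separated, and f₁ : X₁ → X, f₂ : X₂ → X finite
morphisms, each restricting to an isomorphism over a schematically dense open of X whose preimage is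
schematically dense, and each an isomorphism after base change to the generic fibre X ×_S Spec
O_{S,η}. Suppose X₁ and X₂ are flat over S with geometrically reduced fibres. Then there are a
finite morphism g : S' → S, restricting to an isomorphism over a nonempty open V of S with g⁻¹(V)
schematically dense in S', and an isomorphism X₁ ×_S S' ≅ X₂ ×_S S' over X ×_S S'; moreover such an
isomorphism is unique. (Base changes are written as pullbacks along the projection X ×_S S' → X.) -/
theorem result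
    {S X X₁ X₂ : Scheme.{u}} [IsIntegral S] [CompactSpace S] [QuasiSeparatedSpace S]
    (φ : X ⟶ S) [Flat φ] [LocallyOfFinitePresentation φ] [QuasiCompact φ] [QuasiSeparated φ]
    (f₁ : X₁ ⟶ X) (f₂ : X₂ ⟶ X) [IsFinite f₁] [IsFinite f₂]
    (U₁ : X.Opens) (hU₁ : IsSchemeTheoreticallyDominant U₁.ι)
    (hU₁' : IsSchemeTheoreticallyDominant (f₁ ⁻¹ᵁ U₁).ι) (hf₁ : IsIso (f₁ ∣_ U₁))
    (U₂ : X.Opens) (hU₂ : IsSchemeTheoreticallyDominant U₂.ι)
    (hU₂' : IsSchemeTheoreticallyDominant (f₂ ⁻¹ᵁ U₂).ι) (hf₂ : IsIso (f₂ ∣_ U₂))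
    (hη₁ : IsIso (pullback.snd f₁ (pullback.fst φ (S.fromSpecStalk (genericPoint S)))))
    (hη₂ : IsIso (pullback.snd f₂ (pullback.fst φ (S.fromSpecStalk (genericPoint S)))))
    [Flat (f₁ ≫ φ)] [Flat (f₂ ≫ φ)]
    (hred₁ : ∀ (K : Type u) [Field K] (k : Spec (CommRingCat.of K) ⟶ S), IsReduced (pullback (f₁ ≫ φ) k))
    (hred₂ : ∀ (K : Type u) [Field K] (k : Spec (CommRingCat.of K) ⟶ S), IsReduced (pullback (f₂ ≫ φ) k)) :
    ∃ (S' : Scheme.{u}) (g : S' ⟶ S) (V : S.Opens), IsFinite g ∧ (V : Set S).Nonempty ∧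
      IsIso (g ∣_ V) ∧ IsSchemeTheoreticallyDominant (g ⁻¹ᵁ V).ι ∧
      ∃ e : pullback f₁ (pullback.fst φ g) ⟶ pullback f₂ (pullback.fst φ g), IsIso e ∧
        e ≫ pullback.snd f₂ (pullback.fst φ g) = pullback.snd f₁ (pullback.fst φ g) ∧
        ∀ e' : pullback f₁ (pullback.fst φ g) ⟶ pullback f₂ (pullback.fst φ g), IsIso e' →
          e' ≫ pullback.snd f₂ (pullback.fst φ g) = pullback.snd f₁ (pullback.fst φ g) → e' = e := by
  obtain ⟨T₁, g₁, t₁, hg₁, ht₁, a₁, ha₁⟩ := Groth.Agent.EtaMod.exists_hom_finite φ f₁ f₂ hred₁ hη₂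
  obtain ⟨T₂, g₂, t₂, hg₂, ht₂, a₂, ha₂⟩ := Groth.Agent.EtaMod.exists_hom_finite φ f₂ f₁ hred₂ hη₁
  have := hg₁
  have := hg₂
  let w := pullback.lift (f := g₁) (g := g₂) t₁ t₂ (ht₁.trans ht₂.symm)
  have hwη : w ≫ pullback.fst g₁ g₂ ≫ g₁ = S.fromSpecStalk (genericPoint S) := by
    rw [pullback.lift_fst_assoc, ht₁]
  have : QuasiSeparatedSpace ↥(pullback g₁ g₂) :=
    quasiSeparatedSpace_of_quasiSeparated (pullback.fst g₁ g₂ ≫ g₁)
  have : QuasiCompact w := quasiCompact_of_compactSpace w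
  have := Groth.Agent.Triage.SchDense.isSchemeTheoreticallyDominant_toImage w
  have : IsIntegral w.image := Groth.Agent.KbMod.isIntegral_of_dominant_point (K := S.functionField) w.toImage
  let g : w.image ⟶ S := w.imageι ≫ pullback.fst g₁ g₂ ≫ g₁
  have hg : IsFinite g := inferInstance
  have hs : w.toImage ≫ g = S.fromSpecStalk (genericPoint S) := by
    simp only [g]; rw [w.toImage_imageι_assoc, hwη]
  obtain ⟨V, hV, hiso⟩ := Groth.Agent.EtaMod.exists_open_isIso g w.toImage hs
  have : IsDominant g := by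
    have : IsDominant (w.toImage ≫ g) := by
      rw [hs, isDominant_iff]
      intro y
      have : genericPoint S ∈ Set.range (S.fromSpecStalk (genericPoint S)) := by
        rw [Scheme.range_fromSpecStalk]
        exact specializes_rfl
      exact closure_mono (Set.singleton_subset_iff.2 this) (genericPoint_specializes y).mem_closure
    exact IsDominant.of_comp w.toImage g
  have hVdom : IsSchemeTheoreticallyDominant (g ⁻¹ᵁ V).ι := by
    have : IsDominant (g ⁻¹ᵁ V).ι := by
      rw [isDominant_iff, DenseRange, Scheme.Opens.range_ι]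
      obtain ⟨_, hy, y, rfl⟩ := g.denseRange.inter_open_nonempty _ V.2 hV
      exact (g ⁻¹ᵁ V).2.dense ⟨y, hy⟩
    exact IsSchemeTheoreticallyDominant.of_isDominant _
  have : QuasiSeparatedSpace w.image := quasiSeparatedSpace_of_quasiSeparated g
  let π₁ : w.image ⟶ T₁ := w.imageι ≫ pullback.fst g₁ g₂
  let π₂ : w.image ⟶ T₂ := w.imageι ≫ pullback.snd g₁ g₂
  have hπ₁ : π₁ ≫ g₁ = g := Category.assoc _ _ _
  have hπ₂ : π₂ ≫ g₂ = g := by
    simp only [π₂, g, Category.assoc, pullback.condition]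
  have mk : ∀ {Y Y' T : Scheme.{u}} (h : Y ⟶ X) (h' : Y' ⟶ X) (γ : T ⟶ S) (a : pullback (h ≫ φ) γ ⟶ Y'),
      a ≫ h' = pullback.fst (h ≫ φ) γ ≫ h → ∀ (π : w.image ⟶ T), π ≫ γ = g →
      ∃ e : pullback h (pullback.fst φ g) ⟶ pullback h' (pullback.fst φ g),
        e ≫ pullback.snd h' (pullback.fst φ g) = pullback.snd h (pullback.fst φ g) := by
    intro Y Y' T h h' γ a ha π hπ
    let k : pullback h (pullback.fst φ g) ⟶ pullback (h ≫ φ) γ :=
      pullback.lift (pullback.fst _ _) (pullback.snd _ _ ≫ pullback.snd φ g ≫ π) (by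
        simp only [Category.assoc, hπ]
        rw [← pullback.condition (f := φ) (g := g), pullback.condition_assoc])
    refine ⟨pullback.lift (k ≫ a) (pullback.snd _ _) (by
      rw [Category.assoc, ha, pullback.lift_fst_assoc, pullback.condition]), pullback.lift_snd _ _ _⟩
  obtain ⟨e, he⟩ := mk f₁ f₂ g₁ a₁ ha₁ π₁ hπ₁
  obtain ⟨e', he'⟩ := mk f₂ f₁ g₂ a₂ ha₂ π₂ hπ₂
  let F₁ := pullback.snd f₁ (pullback.fst φ g)
  let F₂ := pullback.snd f₂ (pullback.fst φ g)
  have hflat : ∀ {Y : Scheme.{u}} (h : Y ⟶ X), Flat (h ≫ φ) →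
      Flat (pullback.snd h (pullback.fst φ g) ≫ pullback.snd φ g) := fun h hh =>
    MorphismProperty.of_isPullback
      ((IsPullback.of_hasPullback h (pullback.fst φ g)).paste_vert (IsPullback.of_hasPullback φ g)) hh
  have := hflat f₁ inferInstance
  have := hflat f₂ inferInstance
  have hi₁ := Groth.Agent.EtaMod.isIso_generic_baseChange φ f₁ hη₁ g
  have hi₂ := Groth.Agent.EtaMod.isIso_generic_baseChange φ f₂ hη₂ g
  refine ⟨w.image, g, V, hg, hV, hiso, hVdom, e, ⟨e', ?_, ?_⟩, he, fun e'' _ he'' => ?_⟩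
  · exact Groth.Agent.EtaMod.hom_unique (pullback.snd φ g) F₁ F₁ hi₁
      (by simp only [F₁, Category.assoc, he', he]) (Category.id_comp _)
  · exact Groth.Agent.EtaMod.hom_unique (pullback.snd φ g) F₂ F₂ hi₂
      (by simp only [F₂, Category.assoc, he', he]) (Category.id_comp _)
  · exact Groth.Agent.EtaMod.hom_unique (pullback.snd φ g) F₁ F₂ hi₂ he'' he

end Groth.Agent.S14894
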