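import Mathlib
import Groth.Statements.S14896
-- import your own Groth.Agent.* helpers here

set_option autoImplicit false
universe u
open CAlg

namespace Groth.Agent.S14896

/-- In a ring with finite spectrum, a localization at a prime is a localization at one element. -/
lemma exists_isLocalizationAway {B : Type*} [CommRing B] [Finite (PrimeSpectrum B)] (P : Ideal B) [P.IsPrime]
    (A : Type*) [CommRing A] [Algebra B A] [IsLocalization.AtPrime A P] : ∃ f : B, IsLocalization.Away f A := by
  classical
  haveI := Fintype.ofFinite (PrimeSpectrum B)
  have hch : ∀ q : PrimeSpectrum B, ∃ t : B, t ∉ P ∧ (¬ q.asIdeal ≤ P → t ∈ q.asIdeal) := by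
    intro q
    by_cases hq : q.asIdeal ≤ P
    · exact ⟨1, P.ne_top_iff_one.1 Ideal.IsPrime.ne_top', fun h => absurd hq h⟩
    · obtain ⟨t, ht, ht'⟩ := SetLike.not_le_iff_exists.1 hq
      exact ⟨t, ht', fun _ => ht⟩
  choose t ht1 ht2 using hch
  have hf : (∏ q, t q) ∉ P := fun h => by
    obtain ⟨q, -, hq⟩ := (Ideal.IsPrime.prod_mem_iff).1 h
    exact ht1 q hq
  refine ⟨∏ q, t q, ?_⟩
  haveI : IsLocalization P.primeCompl (Localization (Submonoid.powers (∏ q, t q))) := by
    refine IsLocalization.of_le_of_exists_dvd (Submonoid.powers (∏ q, t q)) P.primeCompl ?_ ?_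
    · rintro _ ⟨m, rfl⟩
      exact fun h => hf (Ideal.IsPrime.mem_of_pow_mem ‹_› m h)
    · intro s hs
      by_contra! hc
      have hdisj : Disjoint ((Ideal.span {s} : Ideal B) : Set B) (Submonoid.powers (∏ q, t q) : Set B) := by
        rw [Set.disjoint_left]
        intro b hb hb'
        exact hc b hb' (Ideal.mem_span_singleton.1 hb)
      obtain ⟨q, hq, hsq, hqd⟩ := Ideal.exists_le_prime_disjoint _ _ hdisj
      refine Set.disjoint_left.1 hqd ?_ (Submonoid.mem_powers _)
      exact Ideal.mem_of_dvd q (Finset.dvd_prod_of_mem t (Finset.mem_univ (⟨q, hq⟩ : PrimeSpectrum B)))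
        (ht2 ⟨q, hq⟩ fun hle => hs (hle (hsq (Ideal.mem_span_singleton_self s))))
  exact IsLocalization.isLocalization_of_algEquiv _
    (IsLocalization.algEquiv P.primeCompl (Localization (Submonoid.powers (∏ q, t q))) A)

/-- Let L/K be a finite extension of valued fields, v_L extending v_K, with K° = the valuation ring of
v_K having finite spectrum (finite height), and L° the valuation ring of v_L. If L° is local-étale
over K°, i.e. L° is the localization at a prime ideal of some étale K°-algebra B compatibly with the
K°-algebra structures, then L° is étale over K°. (For valued fields of finite height 'unramified' in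
the local-étale sense is thus the same as K° → L° étale; the published lemma phrases the hypothesis
as 'L/K unramified'.) -/
theorem result
    {K L Γ₀ Γ₁ : Type u} [Field K] [Field L] [Algebra K L] [FiniteDimensional K L]
    [LinearOrderedCommGroupWithZero Γ₀] [LinearOrderedCommGroupWithZero Γ₁]
    (vK : Valuation K Γ₀) (vL : Valuation L Γ₁) [vK.HasExtension vL]
    [Finite (PrimeSpectrum vK.valuationSubring)]
    (B : Type u) [CommRing B] [Algebra vK.valuationSubring B] [Algebra.Etale vK.valuationSubring B]
    [Algebra B vL.valuationSubring] [IsScalarTower vK.valuationSubring B vL.valuationSubring]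
    (P : Ideal B) [P.IsPrime] [IsLocalization.AtPrime vL.valuationSubring P] :
    Algebra.Etale vK.valuationSubring vL.valuationSubring := by
  haveI : Algebra.QuasiFinite vK.valuationSubring B := inferInstance
  haveI : Finite (PrimeSpectrum B) := by
    have := Algebra.QuasiFinite.finite_comap_preimage (R := vK.valuationSubring) (S := B) Set.finite_univ
    rw [Set.preimage_univ] at this
    exact Set.finite_univ_iff.1 this
  obtain ⟨f, hf⟩ := exists_isLocalizationAway P vL.valuationSubring
  haveI : Algebra.Etale B vL.valuationSubring := Algebra.Etale.of_isLocalizationAway f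
  exact Algebra.Etale.comp vK.valuationSubring B vL.valuationSubring

end Groth.Agent.S14896
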