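import Groth.Statements.S14898
import Mathlib
import Groth.Agent.KbMod.Basic

set_option autoImplicit false
universe u
open CategoryTheory CategoryTheory.Limits AlgebraicGeometry
open FlatMor

namespace Groth.Agent.S14898

/-- Let S be integral, quasi-compact and quasi-separated and η̄ : Spec K̄ → S dominant, K̄ a field.
Suppose given finitely many K̄-quasi-modifications of S: schematically dominant t_i : Spec K̄ → T_i
followed by separated, quasi-compact, locally finite type p_i : T_i → S with t_i ≫ p_i = η̄. Then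
there is a K̄-modification of S — a schematically dominant s : Spec K̄ → S' followed by a proper q :
S' → S with s ≫ q = η̄ — and opens V_i ⊆ S' through which s factors, together with proper
S-morphisms r_i : V_i → T_i sending the K̄-point to t_i; that is, each V_i is a K̄-modification of
T_i sitting inside S' as an open subscheme over S. -/
theorem result
    {S : Scheme.{u}} [IsIntegral S] [CompactSpace S] [QuasiSeparatedSpace S]
    (Kb : Type u) [Field Kb] (ηb : Spec (CommRingCat.of Kb) ⟶ S) [IsDominant ηb]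
    {ι : Type u} [Finite ι] (T : ι → Scheme.{u}) (t : ∀ i, Spec (CommRingCat.of Kb) ⟶ T i)
    (p : ∀ i, T i ⟶ S) [∀ i, IsSchemeTheoreticallyDominant (t i)] [∀ i, IsSeparated (p i)]
    [∀ i, LocallyOfFiniteType (p i)] [∀ i, QuasiCompact (p i)] (hp : ∀ i, t i ≫ p i = ηb) :
    ∃ (S' : Scheme.{u}) (s : Spec (CommRingCat.of Kb) ⟶ S') (q : S' ⟶ S),
      IsSchemeTheoreticallyDominant s ∧ IsProper q ∧ s ≫ q = ηb ∧
      ∀ i, ∃ (V : S'.Opens) (v : Spec (CommRingCat.of Kb) ⟶ (V : Scheme.{u}))
        (r : (V : Scheme.{u}) ⟶ T i),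
        v ≫ V.ι = s ∧ IsProper r ∧ v ≫ r = t i ∧ r ≫ p i = V.ι ≫ q := by
  obtain ⟨m, ⟨e⟩⟩ := Finite.exists_equiv_fin ι
  haveI : ∀ j, IsSchemeTheoreticallyDominant (t (e.symm j)) := fun j => inferInstance
  obtain ⟨S', s, q, h1, h2, h3, h4⟩ := Groth.Agent.KbMod.exists_modification ηb m (fun j => T (e.symm j))
    (fun j => t (e.symm j)) (fun j => p (e.symm j)) (fun j => hp _)
  refine ⟨S', s, q, h1, h2, h3, fun i => ?_⟩
  obtain ⟨j, rfl⟩ : ∃ j, e.symm j = i := ⟨e i, e.symm_apply_apply i⟩
  exact h4 j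

end Groth.Agent.S14898
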