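import Groth.Statements.S14901
import Groth.Agent.H23.DimImage
-- import your own Groth.Agent.* helpers here

set_option autoImplicit false
universe u
open MovLem

namespace Groth.Agent.S14901

open AlgebraicGeometry CategoryTheory in
/-- Let k be a field, let S and X be separated k-schemes of finite type that are locally equidimensional
(all irreducible components passing through a given point have the same dimension), let f : S → X be
a k-morphism and Z ⊆ X a closed subset. Let d be the dimension of the image f(S), as a subspace of
X. If every point s of S with f(s) ∈ Z satisfies dim O_{S,s} ≥ d + 1 (equivalently: the closed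
subset f⁻¹(Z) of S has local codimension at least d + 1 at each of its points), then f⁻¹(Z) is
empty. -/
theorem result (k : Type u) [Field k] (S X : Scheme.{u})
    (pS : S ⟶ Spec (CommRingCat.of k)) (pX : X ⟶ Spec (CommRingCat.of k))
    [IsSeparated pS] [LocallyOfFiniteType pS] [QuasiCompact pS]
    [IsSeparated pX] [LocallyOfFiniteType pX] [QuasiCompact pX]
    (hS : ∀ (s : S) (A B : Set S), A ∈ irreducibleComponents (S : Type u) → B ∈ irreducibleComponents (S : Type u) →
      s ∈ A → s ∈ B → topologicalKrullDim A = topologicalKrullDim B)
    (hX : ∀ (x : X) (A B : Set X), A ∈ irreducibleComponents (X : Type u) → B ∈ irreducibleComponents (X : Type u) →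
      x ∈ A → x ∈ B → topologicalKrullDim A = topologicalKrullDim B)
    (f : S ⟶ X) (hf : f ≫ pX = pS) (Z : Set X) (hZ : IsClosed Z)
    (h : ∀ s : S, f.base s ∈ Z →
      topologicalKrullDim (Set.range f.base) + 1 ≤ ringKrullDim (S.presheaf.stalk s)) :
    f.base ⁻¹' Z = ∅ := by
  exact Groth.Agent.H23.DimImage.preimage_eq_empty pS pX f hf Z h

end Groth.Agent.S14901
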