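import Groth.Statements.S14909
import Groth.Agent.H26.TypeII
import Mathlib.Tactic

set_option autoImplicit false
universe u
open Neron

namespace Groth.Agent.S14909

/-- Let R be a discrete valuation ring with uniformizer ϖ, let a₁, a₆ ∈ R with a₁ of valuation v ≥ 1, a₆
of valuation 1, and 2 of valuation at least v (so the residue characteristic is 2; 2 = 0 is
allowed). In the power series ring S = R[[x, y]] let M = (ϖ, x, y) be the maximal ideal and I the
ideal generated by y² + a₁xy − x³ − a₆, 2y + a₁x and 3x² − a₁y, so that S/I is a local ring with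
maximal ideal m = M/I. Then the classes of y^(2v) and x·y^(2v−1) form a basis of the vector space
m^(2v)/m^(2v+1) over the residue field: M^(2v) + I = (y^(2v), x·y^(2v−1)) + I, and whenever a·y^(2v)
+ b·x·y^(2v−1) ∈ M^(2v+1) + I with a, b ∈ R, both a and b lie in the maximal ideal of R. (Generation
holds with any exponent i ≥ 1 in place of 2v: M^i + I = (y^i, x·y^(i−1)) + I.) -/
theorem result (R : Type u) [CommRing R] [IsDomain R] [IsDiscreteValuationRing R]
    (ϖ a₁ a₆ : R) (hϖ : Irreducible ϖ) (v : ℕ) (hv : 1 ≤ v) (u₁ u₆ : Rˣ) (ha₁ : a₁ = u₁ * ϖ ^ v) (ha₆ : a₆ = u₆ * ϖ)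
    (h2 : (2 : R) ∈ IsLocalRing.maximalIdeal R ^ v)
    (x y : MvPowerSeries (Fin 2) R) (hx : x = MvPowerSeries.X 0) (hy : y = MvPowerSeries.X 1)
    (I M : Ideal (MvPowerSeries (Fin 2) R))
    (hI : I = Ideal.span {y ^ 2 + a₁ • (x * y) - x ^ 3 - algebraMap R (MvPowerSeries (Fin 2) R) a₆,
      2 * y + a₁ • x, 3 * x ^ 2 - a₁ • y})
    (hM : M = Ideal.span {algebraMap R (MvPowerSeries (Fin 2) R) ϖ, x, y}) :
    M ^ (2 * v) ⊔ I = Ideal.span {y ^ (2 * v), x * y ^ (2 * v - 1)} ⊔ I ∧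
      ∀ a b : R, a • y ^ (2 * v) + b • (x * y ^ (2 * v - 1)) ∈ M ^ (2 * v + 1) ⊔ I →
        a ∈ IsLocalRing.maximalIdeal R ∧ b ∈ IsLocalRing.maximalIdeal R := by
  subst hx hy
  have hv2 : ϖ ^ v ∣ (2 : R) := by
    rwa [(IsDiscreteValuationRing.irreducible_iff_uniformizer ϖ).1 hϖ, Ideal.span_singleton_pow,
      Ideal.mem_span_singleton] at h2
  have hu3 : IsUnit (3 : R) := by
    by_contra h
    have h3 : ϖ ∣ 3 := by
      have := (IsLocalRing.mem_maximalIdeal _).2 h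
      rwa [(IsDiscreteValuationRing.irreducible_iff_uniformizer ϖ).1 hϖ, Ideal.mem_span_singleton] at this
    exact hϖ.not_isUnit (isUnit_of_dvd_one (by
      simpa [show (3 : R) - 2 = 1 by norm_num] using dvd_sub h3 ((dvd_pow_self ϖ (by omega)).trans hv2)))
  have hda₁ : ϖ ^ v ∣ a₁ := ⟨u₁, by rw [ha₁, mul_comm]⟩
  have hda₆ : ϖ ∣ a₆ := ⟨u₆, by rw [ha₆, mul_comm]⟩
  have hC : algebraMap R (MvPowerSeries (Fin 2) R) = MvPowerSeries.C := RingHom.ext fun r => by
    simp [MvPowerSeries.algebraMap_apply]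
  rw [hC] at hI hM
  simp only [MvPowerSeries.smul_eq_C_mul] at hI ⊢
  constructor
  · refine le_antisymm (sup_le ?_ le_sup_right) (sup_le_sup_right ?_ _)
    · refine ((hM ▸ Groth.Agent.H26.TypeII.span_pow_le ϖ (2 * v) : M ^ (2 * v) ≤ _)).trans (Ideal.span_le.2 ?_)
      rintro _ ⟨a, b, c, habc, rfl⟩
      rw [SetLike.mem_coe, ← Ideal.mem_quotient_iff_mem_sup, Ideal.map_span, Set.image_pair]
      let q := Ideal.Quotient.mk I
      have hmem : ∀ f ∈ ({(MvPowerSeries.X 1 : MvPowerSeries (Fin 2) R) ^ 2 + MvPowerSeries.C a₁ * (MvPowerSeries.X 0 * MvPowerSeries.X 1) -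
          MvPowerSeries.X 0 ^ 3 - MvPowerSeries.C a₆,
        2 * MvPowerSeries.X 1 + MvPowerSeries.C a₁ * MvPowerSeries.X 0,
        3 * MvPowerSeries.X 0 ^ 2 - MvPowerSeries.C a₁ * MvPowerSeries.X 1} : Set (MvPowerSeries (Fin 2) R)), q f = 0 :=
        fun f hf => Ideal.Quotient.eq_zero_iff_mem.2 (hI ▸ Ideal.subset_span hf)
      have e1 := hmem _ (Or.inl rfl)
      have e2 := hmem _ (Or.inr (Or.inl rfl))
      have e3 := hmem _ (Or.inr (Or.inr rfl))
      simp only [map_add, map_sub, map_mul, map_pow, map_ofNat] at e1 e2 e3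
      have := Groth.Agent.H26.TypeII.first_part (q (MvPowerSeries.X 0)) (q (MvPowerSeries.X 1)) (q (MvPowerSeries.C ϖ))
        (q (MvPowerSeries.C a₁)) (q (MvPowerSeries.C a₆)) (q (MvPowerSeries.C (u₁ : R))) (q (MvPowerSeries.C (u₆ : R))) v hv
        ((u₆.isUnit.map MvPowerSeries.C).map q)
        (by simpa only [map_ofNat] using (hu3.map MvPowerSeries.C).map q)
        (by rw [← map_pow, ← map_mul, ← map_pow, ← map_mul, ha₁]) (by rw [← map_mul, ← map_mul, ha₆])
        e1 e2 e3 a b c habc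
      simpa only [map_mul, map_pow] using this
    · rw [Ideal.span_le]
      rintro _ (rfl | rfl)
      · exact Ideal.pow_mem_pow (hM ▸ Ideal.subset_span (Or.inr (Or.inr rfl))) _
      · rw [show M ^ (2 * v) = M * M ^ (2 * v - 1) by rw [← pow_succ']; congr 1; omega]
        exact Ideal.mul_mem_mul (hM ▸ Ideal.subset_span (Or.inr (Or.inl rfl)))
          (Ideal.pow_mem_pow (hM ▸ Ideal.subset_span (Or.inr (Or.inr rfl))) _)
  · intro a b hab
    have hle : M ^ (2 * v + 1) ⊔ I ≤ Groth.Agent.H26.TypeII.Kill a₆ v ϖ := by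
      refine sup_le ((hM ▸ Groth.Agent.H26.TypeII.span_pow_le ϖ (2 * v + 1) : M ^ (2 * v + 1) ≤ _).trans
        (Ideal.span_le.2 ?_)) (hI ▸ Ideal.span_le.2 (Groth.Agent.H26.TypeII.mem_kill_eqns a₆ v ϖ hda₆ hv a₁ hda₁ hv2))
      rintro _ ⟨a, b, c, habc, rfl⟩
      exact Groth.Agent.H26.TypeII.mem_kill_mono a₆ v ϖ hda₆ hv a b c habc.ge
    have h0 := hle hab 0 1
    have h1 := hle hab 1 1
    rw [one_mul, (Groth.Agent.H26.TypeII.L_monomial_self a₆ v hv a b).1] at h0
    rw [one_mul, (Groth.Agent.H26.TypeII.L_monomial_self a₆ v hv a b).2] at h1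
    rw [(IsDiscreteValuationRing.irreducible_iff_uniformizer ϖ).1 hϖ, Ideal.mem_span_singleton, Ideal.mem_span_singleton]
    have key : ∀ (x : R) (n : ℕ), ϖ ^ (n + 1) ∣ x * a₆ ^ n → ϖ ∣ x := by
      intro x n h
      rw [ha₆, pow_succ'] at h
      have h2 : ϖ * ϖ ^ n ∣ x * ϖ ^ n := by
        rw [← (u₆.isUnit.pow n).dvd_mul_right (a := ϖ * ϖ ^ n)]
        convert h using 1
        ring
      exact (mul_dvd_mul_iff_right (pow_ne_zero n hϖ.ne_zero)).1 h2
    refine ⟨key a v h0, key b (v - 1) ?_⟩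
    have : v - 1 + 1 = v + 1 - ((1 : Fin 2) : ℕ) := by simp; omega
    rw [this]
    exact h1

end Groth.Agent.S14909
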