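import Groth.Statements.S14922
import Groth.Agent.H9Misc.PerfSchRows

set_option autoImplicit false
universe u
open CategoryTheory AlgebraicGeometry
open PerfSch

namespace Groth.Agent.S14922

/-- Let p be a prime and let X, Y, X', Y' be schemes of characteristic p (p = 0 in the structure sheaf).
Let π_X : X' ⟶ X and π_Y : Y' ⟶ Y be perfections: X' is perfect (its absolute Frobenius is an
isomorphism) and every morphism from a perfect scheme of characteristic p to X factors uniquely
through π_X, and likewise for π_Y. Let f : X ⟶ Y be a morphism and f' : X' ⟶ Y' the induced morphism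
of perfections, the one with f' ≫ π_Y = π_X ≫ f. If f is etale, then the commutative square formed
by f', π_X, π_Y and f is cartesian, i.e. X' with the maps f' and π_X is a fibre product of Y' and X
over Y; in particular f', being a base change of f, is etale. (The published item states that the
perfection of an etale morphism is etale; this row states what its proof establishes, that X' ⟶ X
×_Y Y' is an isomorphism, from which etaleness of f' follows by base change.) -/
theorem result (p : ℕ) [Fact p.Prime] {X Y XP YP : Scheme.{u}}
    [FrobSch.IsCharP X p] [FrobSch.IsCharP Y p] [FrobSch.IsCharP XP p] [FrobSch.IsCharP YP p]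
    (πX : XP ⟶ X) (πY : YP ⟶ Y) (hX : FrobSch.IsPerfection πX p) (hY : FrobSch.IsPerfection πY p)
    (f : X ⟶ Y) (fP : XP ⟶ YP) (w : fP ≫ πY = πX ≫ f)
    [AlgebraicGeometry.Etale f] : IsPullback fP πX πY f := by
  exact Groth.Agent.H9Misc.PerfSchLib.isPullback hX hY w

end Groth.Agent.S14922
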