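import Groth.Statements.S14925
import Groth.Agent.H9Misc.PerfPic

set_option autoImplicit false
universe u
open CategoryTheory AlgebraicGeometry
open PerfSch

namespace Groth.Agent.S14925

/-- Let p be a prime and X a quasi-compact quasi-separated scheme of characteristic p. Let π : X' ⟶ X be
a perfection of X: X' is a perfect scheme of characteristic p (its absolute Frobenius is an
isomorphism) and every morphism from a perfect scheme of characteristic p to X factors uniquely
through π. For an invertible O_X-module L, the pullback π^*L is isomorphic to the structure sheaf of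
X' if and only if some tensor power L^{⊗ p^n}, n ≥ 0, is isomorphic to the structure sheaf of X.
(The published statement is that pullback along π induces an isomorphism Pic(X)[1/p] ≅ Pic(X'); this
row is the assertion that the kernel of Pic(X) → Pic(X') is the p-power torsion.) -/
theorem result (p : ℕ) [Fact p.Prime] {X XP : Scheme.{u}} [FrobSch.IsCharP X p] [FrobSch.IsCharP XP p]
    [CompactSpace X] [QuasiSeparatedSpace X] (πX : XP ⟶ X) (hX : FrobSch.IsPerfection πX p)
    (L : X.Modules) (hL : PicF.IsInvertible L) :
    PicF.IsTrivialCl (PicF.pullCl πX (PicF.cl L)) ↔
      ∃ n : ℕ, PicF.IsTrivialCl (PicF.cl (CohB1.tensorPow L (p ^ n))) := by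
  open Groth.Agent.H23.PicMul in
  simp only [cl_tensorPow]
  exact Groth.Agent.H9Misc.PerfPic.pullCl_eq_one_iff p πX hX hL

end Groth.Agent.S14925
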