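import Groth.Statements.S14927
import Groth.Agent.H9Misc.PerfPic

set_option autoImplicit false
universe u
open CategoryTheory AlgebraicGeometry
open PerfSch

namespace Groth.Agent.S14927

/-- Let p be a prime and X a quasi-compact quasi-separated scheme of characteristic p. Let π : X' ⟶ X be
a perfection of X: X' is a perfect scheme of characteristic p (its absolute Frobenius is an
isomorphism) and every morphism from a perfect scheme of characteristic p to X factors uniquely
through π. An invertible O_X-module L is ample (every point of the quasi-compact scheme X has an
affine open neighbourhood of the form X_s with s a global section of a positive tensor power of L)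
if and only if its pullback π^*L to X' is ample. (Invertibility of L is assumed: for the spectrum of
the dual numbers over the prime field, whose perfection is a point, the pullback of the
non-invertible module O/(ε) is the structure sheaf.) -/
theorem result (p : ℕ) [Fact p.Prime] {X XP : Scheme.{u}} [FrobSch.IsCharP X p] [FrobSch.IsCharP XP p]
    [CompactSpace X] [QuasiSeparatedSpace X] (πX : XP ⟶ X) (hX : FrobSch.IsPerfection πX p)
    (L : X.Modules) (hL : PicF.IsInvertible L) :
    CohB1.IsAmple L ↔ CohB1.IsAmple ((Scheme.Modules.pullback πX).obj L) := by
  exact Groth.Agent.H9Misc.PerfPic.isAmple_iff_perfection p πX hX hL

end Groth.Agent.S14927
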