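import Groth.Statements.S1549
import Groth.Agent.S2155
import Groth.Agent.H23.RigidGamma
import Mathlib.AlgebraicGeometry.Morphisms.SchemeTheoreticallyDominant
import Mathlib.AlgebraicGeometry.Geometrically.Reduced
import Mathlib.AlgebraicGeometry.Noetherian
import Mathlib.FieldTheory.IsAlgClosed.AlgebraicClosure

set_option autoImplicit false
universe u
open CategoryTheory CategoryTheory.Limits AlgebraicGeometry
open Variety

namespace Groth.Agent.S1549

open CategoryTheory CategoryTheory.Limits AlgebraicGeometry in
theorem nonempty_smoothLocus {k : Type u} [Field k] {V : Scheme.{u}} (f : V ⟶ Spec (CommRingCat.of k))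
    [LocallyOfFinitePresentation f] [GeometricallyReduced f] [Nonempty V] :
    ∃ z, z ∈ f.smoothLocus := by
  let τ := Spec.map (CommRingCat.ofHom (algebraMap k (AlgebraicClosure k)))
  have hflat : Flat τ := by
    rw [HasRingHomProperty.Spec_iff (P := @Flat)]
    exact RingHom.Flat.of_isField (Field.toIsField k) _
  haveI : Surjective τ := ⟨fun y => ⟨IsLocalRing.closedPoint _, Subsingleton.elim _ _⟩⟩
  have hsq := IsPullback.of_hasPullback f τ
  haveI : IsReduced (pullback f τ) :=
    ‹GeometricallyReduced f›.geometrically_isReduced _ _ _ hsq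
  haveI : Nonempty ↑(pullback f τ) := by
    obtain ⟨z, -⟩ := (pullback.fst f τ).surjective (Classical.arbitrary V)
    exact ⟨z⟩
  obtain ⟨z, hz⟩ := (Scheme.Hom.dense_smoothLocus_of_perfectField (pullback.snd f τ)).nonempty
  exact ⟨_, (Groth.Agent.S2155.result f τ (pullback.snd f τ) _ hsq (.inr hflat)).le hz⟩

open CategoryTheory CategoryTheory.Limits AlgebraicGeometry TopologicalSpace in
theorem main (k : Type u) [Field k] (X : Scheme.{u}) (s : X ⟶ Spec (CommRingCat.of k))
    [IsReduced X] [LocallyOfFiniteType s] :
    GeometricallyReduced s ↔ ∃ U : X.Opens, Dense (U : Set X) ∧ Smooth (U.ι ≫ s) := by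
  haveI : LocallyOfFinitePresentation s := LocallyOfFinitePresentation.iff_locallyOfFiniteType.2 inferInstance
  refine ⟨fun hs => ⟨s.smoothLocus, ?_, ?_⟩, ?_⟩
  · refine dense_iff_inter_open.2 fun V hV hVne => ?_
    let V' : X.Opens := ⟨V, hV⟩
    haveI : Nonempty V'.toScheme := hVne.to_subtype
    haveI : GeometricallyReduced (V'.ι ≫ s) := by
      refine ⟨fun K _ y Z fst snd h => ?_⟩
      have h1 : IsPullback (pullback.fst V'.ι (pullback.fst s y)) (pullback.snd V'.ι (pullback.fst s y) ≫ pullback.snd s y)
          (V'.ι ≫ s) y := (IsPullback.of_hasPullback _ _).paste_vert (IsPullback.of_hasPullback s y)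
      haveI : IsReduced (pullback s y) :=
        hs.geometrically_isReduced _ _ _ (IsPullback.of_hasPullback s y)
      haveI : IsReduced (pullback V'.ι (pullback.fst s y)) :=
        isReduced_of_isOpenImmersion (pullback.snd V'.ι (pullback.fst s y))
      exact isReduced_of_isOpenImmersion (h.isoPullback ≪≫ h1.isoPullback.symm).hom
    obtain ⟨z, hz⟩ := nonempty_smoothLocus (V'.ι ≫ s)
    rw [← Scheme.Hom.preimage_smoothLocus_eq] at hz
    exact ⟨V'.ι z, z.2, hz⟩
  · rw [← Scheme.Hom.smoothLocus_eq_top_iff, ← Scheme.Hom.preimage_smoothLocus_eq s.smoothLocus.ι s,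
      Scheme.Opens.ι_preimage_self]
  · rintro ⟨U, hU, hsm⟩
    haveI : GeometricallyReduced (U.ι ≫ s) := Groth.Agent.H23.RigidGamma.geometricallyReduced_of_smooth _
    haveI : IsLocallyNoetherian X := LocallyOfFiniteType.isLocallyNoetherian s
    haveI : QuasiCompact U.ι := inferInstance
    haveI : IsDominant U.ι := ⟨by rw [DenseRange, Scheme.Opens.range_ι]; exact hU⟩
    haveI : IsSchemeTheoreticallyDominant U.ι := .of_isDominant _
    refine ⟨fun K _ y Z fst snd h => ?_⟩
    obtain ⟨φ, rfl⟩ := Spec.map_surjective y
    haveI hfl : Flat (Spec.map φ) := by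
      rw [HasRingHomProperty.Spec_iff (P := @Flat)]
      exact RingHom.Flat.of_isField (Field.toIsField k) _
    haveI : Flat fst := MorphismProperty.of_isPullback h.flip hfl
    haveI : IsReduced (pullback U.ι fst) :=
      (inferInstance : GeometricallyReduced (U.ι ≫ s)).geometrically_isReduced _ _ _
        ((IsPullback.of_hasPullback U.ι fst).paste_vert h)
    exact IsSchemeTheoreticallyDominant.isReduced (pullback.snd U.ι fst)


/-- For a reduced scheme locally of finite type over k, being geometrically reduced is equivalent to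
having a dense open subscheme that is smooth over k. -/
theorem result (k : Type u) [Field k] (X : Scheme.{u}) [X.Over (Spec (CommRingCat.of k))] [IsReduced X] [LocallyOfFiniteType (X ↘ (Spec (CommRingCat.of k)))] :
    GeometricallyReduced (X ↘ (Spec (CommRingCat.of k))) ↔ ∃ U : X.Opens, Dense (U : Set X) ∧ Smooth (U.ι ≫ (X ↘ (Spec (CommRingCat.of k)))) :=
  main k X _

end Groth.Agent.S1549
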