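import Groth.Statements.S14932
import Groth.Agent.FrobTwistDeg.Chart
import Groth.Agent.FrobSmoothLib.Coords
import Groth.Agent.FrobSchLib.Basic
import Groth.Agent.CurveFin.RelDim
import Groth.Agent.S7678
import Groth.Agent.S1549
import Mathlib

set_option backward.isDefEq.respectTransparency false
set_option backward.isDefEq.respectTransparency.types false
set_option linter.style.haveILetI false
set_option maxHeartbeats 1600000

set_option autoImplicit false
universe u
open CategoryTheory CategoryTheory.Limits AlgebraicGeometry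
open Variety

namespace Groth.Agent.S14932

open TopologicalSpace

theorem frob_Spec (k : Type u) [Field k] (p : ℕ) [Fact p.Prime] [CharP k p]
    [FrobSch.IsCharP (Spec (CommRingCat.of k)) p] :
    Spec.map (CommRingCat.ofHom (frobenius k p)) = FrobSch.frob (Spec (CommRingCat.of k)) p := by
  refine ext_of_isAffine (CommRingCat.hom_ext (RingHom.ext fun s => ?_))
  rw [show (FrobSch.frob (Spec (CommRingCat.of k)) p).appTop s = s ^ p from FrobSch.frob_appTop _ _ s]
  apply (ConcreteCategory.bijective_of_isIso (Scheme.ΓSpecIso (CommRingCat.of k)).hom).1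
  have := ConcreteCategory.congr_hom (Scheme.ΓSpecIso_naturality (CommRingCat.ofHom (frobenius k p))) s
  exact this.trans ((frobenius_def _ _).trans (map_pow _ s p).symm)

/-- The residue degree at the generic point, read on an affine chart. -/
theorem residueDegree_eq_finrank {A P : Scheme.{u}} [IsIntegral A] [IsIntegral P] (F : A ⟶ P)
    (hgen : F (genericPoint A) = genericPoint P) {U : A.Opens} (hU : IsAffineOpen U) {W : P.Opens}
    (hW : IsAffineOpen W) (hne : (U : Set A).Nonempty) (hle : U ≤ F ⁻¹ᵁ W)
    [Algebra Γ(P, W) Γ(A, U)] (halg : algebraMap Γ(P, W) Γ(A, U) = (F.appLE W U hle).hom)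
    [Module.Finite Γ(P, W) Γ(A, U)] [FaithfulSMul Γ(P, W) Γ(A, U)] :
    F.residueDegree (genericPoint A) = Module.finrank Γ(P, W) Γ(A, U) := by
  let η := genericPoint A
  have hηU : η ∈ U := ((genericPoint_spec A).mem_open_set_iff U.2).2 (by simpa using hne)
  have hηW : F η ∈ W := hle hηU
  haveI : Nonempty U := ⟨⟨η, hηU⟩⟩
  haveI : Nonempty W := ⟨⟨F η, hηW⟩⟩
  letI : Algebra Γ(A, U) (A.presheaf.stalk η) := (A.presheaf.germ U η hηU).hom.toAlgebra
  letI : Algebra Γ(P, W) (P.presheaf.stalk (F η)) := (P.presheaf.germ W (F η) hηW).hom.toAlgebra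
  haveI : IsFractionRing Γ(A, U) (A.presheaf.stalk η) := functionField_isFractionRing_of_isAffineOpen A U hU
  haveI : IsFractionRing Γ(P, W) (P.presheaf.stalk (F η)) := by
    have key : ∀ (z : P) (hz : z ∈ W), z = genericPoint P →
        @IsFractionRing Γ(P, W) _ (P.presheaf.stalk z) _ (P.presheaf.germ W z hz).hom.toAlgebra := by
      rintro z hz rfl
      exact functionField_isFractionRing_of_isAffineOpen P W hW
    exact key (F η) hηW hgen
  letI : Field (A.presheaf.stalk η) := IsFractionRing.toField Γ(A, U)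
  letI : Field (P.presheaf.stalk (F η)) := IsFractionRing.toField Γ(P, W)
  letI : Algebra (P.presheaf.stalk (F η)) (A.presheaf.stalk η) := (F.stalkMap η).hom.toAlgebra
  letI : Algebra Γ(P, W) (A.presheaf.stalk η) :=
    ((A.presheaf.germ U η hηU).hom.comp (algebraMap Γ(P, W) Γ(A, U))).toAlgebra
  haveI : IsScalarTower Γ(P, W) Γ(A, U) (A.presheaf.stalk η) := IsScalarTower.of_algebraMap_eq fun _ => rfl
  haveI : IsScalarTower Γ(P, W) (P.presheaf.stalk (F η)) (A.presheaf.stalk η) :=
    IsScalarTower.of_algebraMap_eq fun z => by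
      show (A.presheaf.germ U η hηU).hom (algebraMap Γ(P, W) Γ(A, U) z) =
        F.stalkMap η ((P.presheaf.germ W (F η) hηW).hom z)
      rw [halg, Scheme.Hom.germ_stalkMap_apply, Scheme.Hom.appLE]
      exact TopCat.Presheaf.germ_res_apply A.presheaf (homOfLE hle) η hηU (F.app W z)
  haveI : IsDomain Γ(P, W) := inferInstance
  haveI : IsDomain Γ(A, U) := inferInstance
  rw [← IsFractionRing.finrank_eq Γ(P, W) (P.presheaf.stalk (F η)) Γ(A, U) (A.presheaf.stalk η)]
  letI := (F.residueFieldMap η).hom.toAlgebra
  show Module.finrank (P.residueField (F η)) (A.residueField η) = _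
  exact (Algebra.finrank_eq_of_equiv_equiv
    (RingEquiv.ofBijective (P.residue (F η)).hom
      ⟨(P.residue (F η)).hom.injective, IsLocalRing.residue_surjective⟩)
    (RingEquiv.ofBijective (A.residue η).hom ⟨(A.residue η).hom.injective, IsLocalRing.residue_surjective⟩)
    (RingHom.ext fun z => rfl)).symm

/-- Let k be a field of characteristic p > 0 and X a variety over k (an integral scheme, separated and
of finite type over k) which is geometrically reduced over k, of dimension d. Then the Frobenius
twist X^(p) = X ×_{Spec k, F_k} Spec k, the base change of X along the absolute Frobenius of Spec k,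
is an integral scheme, and the relative Frobenius F_{X/k} : X → X^(p) has degree p^d: the residue
field of the generic point of X is an extension of degree p^d of the residue field of its image in
X^(p). (The published item also says that X^(p) is separated and of finite type over k and that
F_{X/k} is finite and dominant; these hold for every base change of a separated morphism of finite
type, respectively for the relative Frobenius of every scheme locally of finite type over a base of
characteristic p, and are not restated. It also states the equivalence of: X^(p) reduced, X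
geometrically reduced, X has a nonempty open smooth over k; that equivalence is not part of this
row.) -/
theorem result (k : Type u) [Field k]
    (p : ℕ) [Fact p.Prime] [CharP k p] (X : Scheme.{u}) [X.Over (Spec (CommRingCat.of k))] [IsIntegral X]
    [IsSeparated (X ↘ (Spec (CommRingCat.of k)))] [LocallyOfFiniteType (X ↘ (Spec (CommRingCat.of k)))] [QuasiCompact (X ↘ (Spec (CommRingCat.of k)))]
    [GeometricallyReduced (X ↘ (Spec (CommRingCat.of k)))] (d : ℕ) (hd : topologicalKrullDim X = d) :
    IsIntegral (FrobSch.frobTwist (X ↘ (Spec (CommRingCat.of k))) p) ∧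
      (FrobSch.relFrob (X ↘ (Spec (CommRingCat.of k))) p).residueDegree (genericPoint X) = p ^ d := by
  let f := X ↘ (Spec (CommRingCat.of k))
  haveI : FrobSch.IsCharP X p := FrobSch.IsCharP.of_hom f p
  let F := FrobSch.relFrob f p
  haveI : IsReduced (FrobSch.frobTwist f p) := by
    have := (S7678.result k X p).1 inferInstance
    rwa [frob_Spec k p] at this
  haveI := FrobSchLib.universallyInjective_frob p (Spec (CommRingCat.of k))
  haveI : UniversallyInjective (pullback.fst f (FrobSch.frob (Spec (CommRingCat.of k)) p)) :=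
    MorphismProperty.pullback_fst _ _ inferInstance
  have hsurj : Function.Surjective F := fun z => ⟨pullback.fst f (FrobSch.frob (Spec (CommRingCat.of k)) p) z,
    (pullback.fst f (FrobSch.frob (Spec (CommRingCat.of k)) p)).injective (by
      rw [← Scheme.Hom.comp_apply, FrobSch.relFrob_fst]; rfl)⟩
  haveI : IrreducibleSpace ↥(FrobSch.frobTwist f p) := hsurj.irreducibleSpace F.continuous
  haveI hint : IsIntegral (FrobSch.frobTwist f p) := isIntegral_of_irreducibleSpace_of_isReduced _
  refine ⟨hint, ?_⟩
  have hgen : F (genericPoint X) = genericPoint (FrobSch.frobTwist f p) := by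
    refine ((genericPoint_spec X).image F.continuous).eq ?_
    rw [Set.image_univ, hsurj.range_eq, closure_univ]
    exact genericPoint_spec _
  obtain ⟨U₀, hU₀d, hU₀⟩ := (S1549.result k X).1 inferInstance
  obtain ⟨x, hx⟩ := hU₀d.nonempty
  haveI := hU₀
  haveI : IsIntegral (U₀ : Scheme.{u}) := haveI : Nonempty (U₀ : Scheme.{u}) := ⟨⟨x, hx⟩⟩; inferInstance
  obtain ⟨V₀, hV₀, U', hU', hxU, e', hstd⟩ :=
    Smooth.exists_isStandardSmooth (U₀.ι ≫ f) (⟨x, hx⟩ : (U₀ : Scheme.{u}))
  have hV₀t : V₀ = ⊤ := top_le_iff.1 fun z _ => by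
    rw [Subsingleton.elim z ((U₀.ι ≫ f) ⟨x, hx⟩)]; exact e' hxU
  subst hV₀t
  let U : X.Opens := U₀.ι ''ᵁ U'
  have hU : IsAffineOpen U := hU'.image_of_isOpenImmersion U₀.ι
  have hUne : (U : Set X).Nonempty := ⟨_, ⟨_, hxU, rfl⟩⟩
  have hUV : U ≤ f ⁻¹ᵁ ⊤ := fun _ _ => trivial
  letI : Algebra Γ(Spec (CommRingCat.of k), ⊤) Γ(X, U) := (f.appLE ⊤ U hUV).hom.toAlgebra
  haveI : Algebra.IsStandardSmooth Γ(Spec (CommRingCat.of k), ⊤) Γ(X, U) := by
    have h := RingHom.isStandardSmooth_respectsIso.1 _ (U₀.ι.appIso U').symm.commRingCatIsoToRingEquiv hstd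
    refine (?_ : (f.appLE ⊤ U hUV).hom.IsStandardSmooth)
    convert h using 1
    show _ = (((U₀.ι ≫ f).appLE ⊤ U' e') ≫ (U₀.ι.appIso U').inv).hom
    congr 1
    simp [U, Scheme.Hom.appLE, ← Functor.map_comp]
    erw [Category.comp_id]
    rfl
  haveI : Nontrivial Γ(X, U) := by
    obtain ⟨z, hz⟩ := hUne
    exact (X.presheaf.germ U z hz).hom.domain_nontrivial
  obtain ⟨n, hn⟩ := FrobSmoothLib.exists_relativeDimension (A := Γ(Spec (CommRingCat.of k), ⊤)) (C := Γ(X, U))
  haveI : Nonempty U := hUne.to_subtype
  haveI : Nontrivial Γ(Spec (CommRingCat.of k), ⊤) := (Scheme.ΓSpecIso (CommRingCat.of k)).hom.hom.domain_nontrivial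
  haveI : CharP Γ(Spec (CommRingCat.of k), ⊤) p :=
    (CharP.charP_iff_prime_eq_zero Fact.out).2 (FrobSch.natCast_eq_zero_app _ p ⊤)
  haveI : CharP Γ(X, U) p :=
    (CharP.charP_iff_prime_eq_zero Fact.out).2 (FrobSch.natCast_eq_zero_app X p U)
  have hnd : n = d := by
    let ψ := (Scheme.ΓSpecIso (CommRingCat.of k)).inv ≫ f.appLE ⊤ U hUV
    have h' : RingHom.IsStandardSmoothOfRelativeDimension n ψ.hom :=
      RingHom.isStandardSmoothOfRelativeDimension_respectsIso.2 _
        (Scheme.ΓSpecIso (CommRingCat.of k)).symm.commRingCatIsoToRingEquiv hn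
    letI := ψ.hom.toAlgebra
    haveI : Algebra.IsStandardSmoothOfRelativeDimension n k Γ(X, U) := h'
    have h2 := SmoothDim.ringKrullDim_eq k Γ(X, U) n
    rw [CurveFin.ringKrullDim_affine_eq f hU hUne, hd] at h2
    exact_mod_cast h2.symm
  subst hnd
  obtain ⟨hle, e, he⟩ := FrobTwistDeg.exists_relFrob_chart p f hU (isAffineOpen_top (Spec (CommRingCat.of k))) hUV rfl
  letI := (FrobAlg.relFrob p Γ(Spec (CommRingCat.of k), ⊤) Γ(X, U)).toAlgebra
  obtain ⟨bas⟩ := FrobSmoothLib.exists_basis (p := p) (n := n) (A := Γ(Spec (CommRingCat.of k), ⊤)) (C := Γ(X, U))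
  let W := pullback.fst f (FrobSch.frob (Spec (CommRingCat.of k)) p) ⁻¹ᵁ U
  haveI : IsAffineHom (FrobSch.frob (Spec (CommRingCat.of k)) p) := ⟨fun V hV => hV⟩
  haveI : IsAffineHom (pullback.fst f (FrobSch.frob (Spec (CommRingCat.of k)) p)) :=
    MorphismProperty.pullback_fst _ _ inferInstance
  have hW : IsAffineOpen W := hU.preimage _
  haveI : Nonempty W := by
    obtain ⟨z, hz⟩ := hUne
    exact ⟨⟨F z, hle hz⟩⟩
  letI : Algebra Γ(FrobSch.frobTwist f p, W) Γ(X, U) := (F.appLE W U hle).hom.toAlgebra
  let bas' : Module.Basis (Fin n → Fin p) Γ(FrobSch.frobTwist f p, W) Γ(X, U) :=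
    bas.mapCoeffs e (fun c b => congrArg (· * b) (he c))
  haveI : Module.Finite Γ(FrobSch.frobTwist f p, W) Γ(X, U) := Module.Finite.of_basis bas'
  haveI : Module.Free Γ(FrobSch.frobTwist f p, W) Γ(X, U) := Module.Free.of_basis bas'
  haveI : FaithfulSMul Γ(FrobSch.frobTwist f p, W) Γ(X, U) := inferInstance
  rw [residueDegree_eq_finrank F hgen hU hW hUne hle rfl, Module.finrank_eq_card_basis bas']
  simp

end Groth.Agent.S14932
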