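import Groth.Statements.S14937
import Groth.Agent.AVTate.Basis
import Groth.Agent.AVTate.Cube
-- import your own Groth.Agent.* helpers here

set_option linter.style.haveILetI false
set_option backward.isDefEq.respectTransparency false
set_option backward.isDefEq.respectTransparency.types false
set_option maxHeartbeats 2000000
set_option synthInstance.maxHeartbeats 400000

set_option autoImplicit false
universe u
open CategoryTheory MonoidalCategory CartesianMonoidalCategory MonObj GrpObj AlgebraicGeometry
open AbVar

namespace Groth.Agent.S14937

/-- Lower bound: let A be an abelian variety of dimension g over a finite field k (a proper,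
geometrically integral commutative group scheme over k). Then the rank of End_k(A) is at least 2g:
there exist 2g endomorphisms of A (homomorphisms A → A) which are linearly independent over ℤ in the
additive group of k-morphisms A → A (pointwise product). The upper bound 4g² holds over any field. -/
theorem result (k : Type u) [Field k] [Finite k]
    (A : Over (Spec (CommRingCat.of k)))
    [GrpObj A] [IsCommMonObj A] [IsProper A.hom] [GeometricallyIntegral A.hom]
    (g : ℕ) (hg : topologicalKrullDim A.left = g) :
    ∃ e : Fin (2 * g) → (A ⟶ A), (∀ i, IsMonHom (e i)) ∧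
      LinearIndependent ℤ (fun i => Additive.ofMul (e i)) := by
  let Ω := AlgebraicClosure k
  haveI : IsAlgClosed Ω := IsAlgClosure.isAlgClosed k
  obtain ⟨l, hlp, hl⟩ := AVHomLattice.exists_prime k
  haveI := Fact.mk hlp
  obtain ⟨hf, hf'⟩ := Groth.Agent.AVTate.free_finite_tate (A := A) (Ω := Ω) hl
  haveI := hf
  haveI := hf'
  obtain ⟨π, hπ, hA⟩ := Groth.Agent.AVTate.exists_isFrob A
  haveI := hπ
  obtain ⟨P, hPm, hPd, -, hT⟩ := Groth.Agent.AVTateBC.exists_charpoly Ω A hg (EndAV.End.of π)
  have hle : 2 * g ≤ Module.finrank ℤ (EndAV.End A) := by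
    rw [Groth.Agent.AVTate.finrank_end Ω hA hl (Groth.Agent.AVTate.cubeEmbeds k) hPm (hT l hl), ← hPd,
      ← hPm.natDegree_map (Int.castRingHom ℚ)]
    exact Groth.Agent.AVTate.natDegree_le_rsum (hPm.map _).ne_zero
  obtain ⟨e, he, hli, -⟩ := Groth.Agent.AVTate.exists_basis_end (A := A) rfl
  exact ⟨fun i => e (Fin.castLE hle i), fun i => he _, hli.comp _ (Fin.castLE_injective hle)⟩

end Groth.Agent.S14937
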