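import Groth.Statements.S14938
import Groth.Agent.AVTate.Basis
import Groth.Agent.AVTate.CenterEq
import Groth.Agent.AVTate.Cube
-- import your own Groth.Agent.* helpers here

set_option linter.style.haveILetI false
set_option backward.isDefEq.respectTransparency false
set_option backward.isDefEq.respectTransparency.types false
set_option maxHeartbeats 2000000
set_option synthInstance.maxHeartbeats 400000

set_option autoImplicit false
universe u
open CategoryTheory MonoidalCategory CartesianMonoidalCategory MonObj GrpObj AlgebraicGeometry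
open AbVar

namespace Groth.Agent.S14938

/-- Let A be an abelian variety over a finite field k with q elements (a proper, geometrically integral
commutative group scheme over k) and π_A its q-Frobenius endomorphism (the identity on points and
the q-th power map on sections; a homomorphism). If an endomorphism f of A commutes with every
endomorphism of A, then for some integer N > 0 the multiple N·f is an integral linear combination of
the composition powers π_A^0 = id, π_A, π_A ∘ π_A, …; in other words the centre of ℚ ⊗ End_k(A) is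
ℚ[π_A] (the reverse inclusion being that π_A is central). In the statement the group Hom_k(A, A) is
written multiplicatively, so N·f is f^N and the linear combination is a finite product of integer
powers. -/
theorem result (k : Type u) [Field k] [Finite k]
    (A : Over (Spec (CommRingCat.of k)))
    [GrpObj A] [IsCommMonObj A] [IsProper A.hom] [GeometricallyIntegral A.hom]
    (πA : A ⟶ A) [IsMonHom πA] (hπAb : πA.left.base = 𝟙 _)
    (hπAle : ∀ U : A.left.Opens, U ≤ πA.left ⁻¹ᵁ U)
    (hπAapp : ∀ (U : A.left.Opens) (s : Γ(A.left, U)), (πA.left.appLE U U (hπAle U)).hom s = s ^ Nat.card k)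
    (f : A ⟶ A) [IsMonHom f] (hf : ∀ h : A ⟶ A, IsMonHom h → f ≫ h = h ≫ f) :
    ∃ N : ℕ, 0 < N ∧ ∃ (d : ℕ) (a : Fin d → ℤ),
      f ^ N = ∏ i : Fin d, ((fun h : A ⟶ A => h ≫ πA)^[(i : ℕ)] (𝟙 A)) ^ (a i) := by
  have hA : Groth.Agent.AVTate.IsFrob A πA := ⟨hπAb, hπAle, hπAapp⟩
  have hφ : ∀ ψ : EndAV.End A, EndAV.End.of f * ψ = ψ * EndAV.End.of f := fun ψ => EndAV.End.ext (by
    rw [EndAV.End.toHom_mul, EndAV.End.toHom_mul, EndAV.End.toHom_of]
    exact (hf ψ.toHom inferInstance).symm)
  have hmem := Groth.Agent.AVTate.mem_qAdj_of_central (Groth.Agent.AVTate.cubeEmbeds k) hA (EndAV.End.of f) hφ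
  rw [EndAV.QAdj, Algebra.adjoin_singleton_eq_range_aeval] at hmem
  obtain ⟨p, hp⟩ := hmem
  replace hp : Polynomial.aeval (EndAV.toEnd0 (EndAV.End.of πA)) p = EndAV.toEnd0 (EndAV.End.of f) := hp
  obtain ⟨c, F, hc, hF⟩ := Groth.Agent.AVEnd0.exists_clear p
  have h1 : c • EndAV.End.of f = Polynomial.aeval (EndAV.End.of πA) F := Groth.Agent.AVEnd0.toEnd0_injective (by
    rw [map_zsmul, Groth.Agent.AVEnd0.aeval_toEnd0, hF, map_mul, Polynomial.aeval_C, hp, ← Algebra.smul_def,
      Int.cast_smul_eq_zsmul])
  have h2 : (c.natAbs : ℤ) • EndAV.End.of f = Polynomial.aeval (EndAV.End.of πA) (Polynomial.C c.sign * F) := by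
    rw [map_mul, Polynomial.aeval_C, ← Algebra.smul_def, ← h1, smul_smul, Int.sign_mul_self_eq_abs,
      Int.abs_eq_natAbs]
  have hpow : ∀ i : ℕ, ((fun h : A ⟶ A => h ≫ πA)^[i] (𝟙 A)) = (EndAV.End.of πA ^ i).toHom := fun i => by
    induction i with
    | zero => rfl
    | succ i ih => rw [Function.iterate_succ_apply', ih, EndAV.End.toHom_pow_succ]; rfl
  refine ⟨c.natAbs, Int.natAbs_pos.2 hc, (Polynomial.C c.sign * F).natDegree + 1,
    fun i => (Polynomial.C c.sign * F).coeff i, ?_⟩
  apply Additive.ofMul.injective
  rw [ofMul_prod, ofMul_pow]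
  calc c.natAbs • Additive.ofMul f
      = Groth.Agent.AVTate.toPts (A := A) (B := A) ((c.natAbs : ℤ) • EndAV.End.of f) := by
        rw [map_zsmul, natCast_zsmul]; rfl
    _ = _ := by
        rw [h2, Polynomial.aeval_eq_sum_range, Finset.sum_range, map_sum]
        refine Finset.sum_congr rfl fun i _ => ?_
        rw [map_zsmul, hpow, ofMul_zpow]
        rfl

end Groth.Agent.S14938
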