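import Groth.Statements.S15655
import Groth.Agent.S7790
import Groth.Agent.S19572
import Groth.Agent.H23.MaxAbelian
import Groth.Agent.H23.RigidGamma
-- import your own Groth.Agent.* helpers here

set_option autoImplicit false
universe u
open CategoryTheory MonoidalCategory CartesianMonoidalCategory MonObj GrpObj AlgebraicGeometry
open AbVar

namespace Groth.Agent.S15655

set_option linter.style.haveILetI false
set_option backward.isDefEq.respectTransparency false
set_option backward.isDefEq.respectTransparency.types false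
set_option maxHeartbeats 1000000

/-- Proof step: let A be a simple abelian variety over a field k — a proper, geometrically integral
commutative group scheme over k whose only abelian subvarieties over k (geometrically integral
closed subgroup schemes) are the trivial subgroup and A itself. Then every non-zero element of
End⁰(A) = ℚ ⊗_ℤ End_k(A) (End_k(A) the ring of endomorphisms defined over k) is invertible: End⁰(A)
is a division algebra. (The published proposition is the semisimplicity of End⁰(A) for every abelian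
variety; this row states the step of its proof for simple A.) -/
theorem result (k : Type u) [Field k]
    (A : Over (Spec (CommRingCat.of k)))
    [GrpObj A] [IsCommMonObj A] [IsProper A.hom] [GeometricallyIntegral A.hom]
    (hsimple : ∀ (B : Over (Spec (CommRingCat.of k))) [GrpObj B] [GeometricallyIntegral B.hom] (i : B ⟶ A) [IsMonHom i]
      [IsClosedImmersion i.left], Subsingleton B.left ∨ IsIso i) :
    ∀ x : EndAV.End0 A, x ≠ 0 → IsUnit x := by
  have hrep : ∀ x : EndAV.End0 A, ∃ (n : ℕ) (φ : EndAV.End A), n ≠ 0 ∧ (n : ℚ) • x = EndAV.toEnd0 φ := by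
    intro x
    induction x using TensorProduct.induction_on with
    | zero => exact ⟨1, 0, one_ne_zero, by rw [Nat.cast_one, one_smul, map_zero]⟩
    | tmul q φ =>
      refine ⟨q.den, q.num • φ, q.den_ne_zero, ?_⟩
      rw [TensorProduct.smul_tmul', smul_eq_mul, mul_comm, Rat.mul_den_eq_num, EndAV.toEnd0_apply,
        ← TensorProduct.smul_tmul, zsmul_eq_mul, _root_.mul_one]
    | add a b ha hb =>
      obtain ⟨n, φ, hn, h⟩ := ha
      obtain ⟨m, ψ, hm, h'⟩ := hb
      refine ⟨n * m, m • φ + n • ψ, mul_ne_zero hn hm, ?_⟩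
      rw [smul_add, map_add, map_nsmul, map_nsmul, ← h, ← h', ← Nat.cast_smul_eq_nsmul ℚ, ← Nat.cast_smul_eq_nsmul ℚ,
        smul_smul, smul_smul, Nat.cast_mul, mul_comm (m : ℚ) (n : ℚ)]
  haveI := H23.MaxAbelian.isIntegral_of_geometricallyIntegral (X := A)
  haveI : GeometricallyConnected A.hom := H23.CubeAb.geometricallyConnected_of_integral A.hom
  haveI : GeometricallyReduced A.hom := inferInstance
  intro x hx
  obtain ⟨n, φ, hn, hnx⟩ := hrep x
  have hn' : (n : ℚ) ≠ 0 := Nat.cast_ne_zero.2 hn
  have hφ0 : φ ≠ 0 := fun h => hx (by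
    rw [← inv_smul_smul₀ hn' x, hnx, h, map_zero, smul_zero])
  let f : A ⟶ A := φ.toHom
  obtain ⟨N, iN, j, hjm, hjc, hNp, hNi, hjr⟩ := H23.MaxAbelian.exists_image f ⟨η[A], IsMonHom.one_hom f⟩
    ⟨μ[A], by rw [IsMonHom.mul_hom, Hom.mul_def, ← lift_map, lift_fst_snd, Category.id_comp]⟩
    ⟨ι[A], by rw [Hom.inv_def, GrpObj.inv_hom]⟩
  haveI := hjc
  haveI : Surjective f.left := by
    rcases hsimple N j with hsub | hiso
    · refine absurd (EndAV.End.ext ?_) hφ0
      haveI : AlgebraicGeometry.IsReduced A.left := inferInstance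
      have hr : Set.range f.left ⊆ Set.range η[A].left := by
        rw [← hjr]
        rintro _ ⟨z, rfl⟩
        refine ⟨IsLocalRing.closedPoint k, ?_⟩
        rw [← @Subsingleton.elim _ hsub (η[N].left (IsLocalRing.closedPoint k)) z, ← Scheme.Hom.comp_apply,
          ← Over.comp_left, IsMonHom.one_hom]
      haveI : IsClosedImmersion η[A].left := by
        have h : η[A].left ≫ A.hom = 𝟙 _ := Over.w η[A]
        haveI : IsClosedImmersion (η[A].left ≫ A.hom) := by rw [h]; infer_instance
        exact IsClosedImmersion.of_comp η[A].left A.hom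
      obtain ⟨s, hs⟩ := Groth.Agent.H23.RedSub.exists_lift_closed f.left η[A].left hr
      rw [EndAV.End.toHom_zero, Hom.one_def]
      refine Over.OverMorphism.ext ?_
      show f.left = (toUnit A).left ≫ η[A].left
      rw [← hs]
      congr 1
      have h3 : s = f.left ≫ A.hom := by
        rw [← hs, Category.assoc, show η[A].left ≫ A.hom = 𝟙 _ from Over.w η[A]]
        exact (Category.comp_id _).symm
      rw [h3, Over.w f]
      rfl
    · haveI := hiso
      haveI : IsIso j.left := inferInstanceAs (IsIso ((Over.forget _).map j))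
      refine ⟨Set.range_eq_univ.1 ?_⟩
      rw [← hjr]
      exact Set.range_eq_univ.2 j.left.surjective
  obtain ⟨hfin, hflat⟩ := S19572.result k A A f rfl
  haveI := hfin
  haveI := hflat
  let d := Scheme.Hom.finrank f.left (η[A].left (IsLocalRing.closedPoint k))
  have hd : 1 ≤ d := ((Scheme.Hom.one_le_finrank_iff_surjective (f := f.left)).2 inferInstance) _
  obtain ⟨g, ⟨hgm, hfg⟩, -⟩ := (S7790.result A A f d hd fun s => congrArg _ (congrArg _
    (@Subsingleton.elim (Spec (CommRingCat.of k)) inferInstance _ _))).1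
  have hgf := ((S7790.result A A f d hd fun s => congrArg _ (congrArg _
    (@Subsingleton.elim (Spec (CommRingCat.of k)) inferInstance _ _))).2 g hgm hfg).1
  haveI := hgm
  have e1 : EndAV.toEnd0 (EndAV.End.of g) * EndAV.toEnd0 φ = (d : EndAV.End0 A) := by
    rw [← map_mul, ← map_natCast (EndAV.toEnd0 (A := A))]
    exact congrArg _ (EndAV.End.ext (by rw [EndAV.End.toHom_mul, EndAV.End.toHom_natCast]; exact hfg))
  have e2 : EndAV.toEnd0 φ * EndAV.toEnd0 (EndAV.End.of g) = (d : EndAV.End0 A) := by
    rw [← map_mul, ← map_natCast (EndAV.toEnd0 (A := A))]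
    exact congrArg _ (EndAV.End.ext (by rw [EndAV.End.toHom_mul, EndAV.End.toHom_natCast]; exact hgf))
  have hd' : (d : ℚ) ≠ 0 := Nat.cast_ne_zero.2 (by omega)
  refine ⟨⟨x, ((n : ℚ) / d) • EndAV.toEnd0 (EndAV.End.of g), ?_, ?_⟩, rfl⟩
  · rw [← inv_smul_smul₀ hn' x, hnx, smul_mul_smul_comm, e2, ← map_natCast (algebraMap ℚ (EndAV.End0 A))]
    refine (Algebra.smul_def (A := EndAV.End0 A) _ _).trans ?_
    rw [← map_mul]
    rw [show (n : ℚ)⁻¹ * ((n : ℚ) / d) * (d : ℚ) = 1 by field_simp, map_one]
  · rw [← inv_smul_smul₀ hn' x, hnx, smul_mul_smul_comm, e1, ← map_natCast (algebraMap ℚ (EndAV.End0 A))]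
    refine (Algebra.smul_def (A := EndAV.End0 A) _ _).trans ?_
    rw [← map_mul]
    rw [show (n : ℚ) / d * (n : ℚ)⁻¹ * (d : ℚ) = 1 by field_simp, map_one]

end Groth.Agent.S15655
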