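import Groth.Statements.S14941
import Groth.Agent.AVTate.Targets
import Groth.Agent.AVTate.Cube
import Groth.Agent.AVTate.Polar
import Groth.Agent.GrpSchLib.IsogSub

set_option linter.style.haveILetI false
set_option backward.isDefEq.respectTransparency false
set_option backward.isDefEq.respectTransparency.types false
set_option maxHeartbeats 2000000
set_option synthInstance.maxHeartbeats 400000

set_option autoImplicit false
universe u
open CategoryTheory CategoryTheory.Limits MonoidalCategory CartesianMonoidalCategory MonObj GrpObj AlgebraicGeometry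
open AbVar

namespace Groth.Agent.S14941

/-- Take a finite field k and an abelian variety A over it (a proper, geometrically integral commutative
group scheme over k) and an integer d ≥ 1. Up to isomorphism, only finitely many abelian varieties B
over k are isogenous to A and carry a polarisation of degree d² defined over k. Here: B^t is a given
dual abelian variety (B^t, φ) for the fppf topology, a polarisation is a homomorphism λ : B → B^t
which on every geometric fibre is of the form Λ(L) = φ_L for an ample invertible sheaf L, its degree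
d² means λ is finite locally free of rank d², B isogenous to A means there is a finite surjective
homomorphism A → B, and isomorphism is isomorphism of k-schemes (equivalently of abelian varieties,
after a translation). -/
theorem result (k : Type u) [Field k] [Finite k]
    (A : Over (Spec (CommRingCat.of k)))
    [GrpObj A] [IsCommMonObj A] [IsProper A.hom] [GeometricallyIntegral A.hom]
    (d : ℕ) (hd : 1 ≤ d) :
    ∃ (n : ℕ) (Bs : Fin n → Over (Spec (CommRingCat.of k))),
      ∀ (B Bt : Over (Spec (CommRingCat.of k))) [GrpObj B] [IsCommMonObj B] [IsProper B.hom] [GeometricallyIntegral B.hom]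
        [GrpObj Bt] [IsCommMonObj Bt] (φ : AgPol.DualMap B Bt),
        AbDual.IsDualAV Scheme.fppfPrecoverage B Bt φ →
        ∀ lam : B ⟶ Bt, AgPol.IsPolarization B Bt φ lam → AgPol.HasDegSq lam d →
        (∃ (u : A ⟶ B) (_ : IsMonHom u), IsFinite u.left ∧ Function.Surjective u.left.base) →
        ∃ i : Fin n, Nonempty (B ≅ Bs i) := by
  obtain ⟨g, hg⟩ := Groth.Agent.AVTors.exists_dimNat A
  have hfin := fun i : Fin (4 ^ g * d ^ 2 + 1) =>
    Groth.Agent.AVTate.finite_of_euler (Groth.Agent.AVTate.cubeEmbeds k) g ((i : ℕ) : ℤ)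
  choose J hJ G hG using hfin
  haveI := hJ
  obtain ⟨n, ⟨e⟩⟩ := Finite.exists_equiv_fin (Σ i, J i)
  refine ⟨n, fun j => G (e.symm j).1 (e.symm j).2, ?_⟩
  intro B Bt _ _ _ _ _ _ φ hφ lam hpol hdeg hu
  obtain ⟨u, hu, hufin, husurj⟩ := hu
  haveI := hufin
  haveI : AlgebraicGeometry.Surjective u.left := ⟨husurj⟩
  have hB : topologicalKrullDim B.left = g :=
    (Groth.Agent.GrpSchLib.IsogSub.topologicalKrullDim_eq_of_isIntegralHom u.left).symm.trans hg
  obtain ⟨L, hL, h0, hle⟩ := Groth.Agent.AVTate.exists_ample_euler hφ lam hpol hd hdeg hB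
  obtain ⟨j, hj⟩ := hG ⟨(@Curv2.euler k _ B.left ⟨B.hom⟩ L).toNat, Nat.lt_succ_of_le (Int.toNat_le.2 hle)⟩ B hB L hL
    (Int.toNat_of_nonneg h0).symm
  refine ⟨e ⟨_, j⟩, ?_⟩
  show Nonempty (B ≅ G (e.symm (e ⟨_, j⟩)).1 (e.symm (e ⟨_, j⟩)).2)
  rw [e.symm_apply_apply]
  exact hj

end Groth.Agent.S14941
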