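import Groth.Statements.S14942
import Groth.Agent.Lib.AVEnd0
import Groth.Agent.S15655

set_option autoImplicit false
set_option backward.isDefEq.respectTransparency false
set_option backward.isDefEq.respectTransparency.types false
set_option linter.style.haveILetI false
set_option linter.unusedSectionVars false
set_option maxHeartbeats 400000
universe u
open CategoryTheory MonoidalCategory CartesianMonoidalCategory MonObj GrpObj AlgebraicGeometry
open AbVar

namespace Groth.Agent.S14942

set_option synthInstance.maxHeartbeats 400000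

/-- Part 1: let A be a simple abelian variety over a finite field k with q elements — a proper,
geometrically integral commutative group scheme over k whose only abelian subvarieties over k
(geometrically integral closed subgroup schemes) are the trivial subgroup and A itself — with
q-Frobenius endomorphism π_A (the identity on points, the q-th power map on sections; a
homomorphism). Let Ω be an algebraic closure of k, l a prime invertible in k, and assume (as is the
case) that the l-adic Tate module of Ω-points T_l A is free of finite rank over ℤ_l. Then the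
characteristic polynomial of T_l(π_A), which has rational coefficients, is a power of the minimal
polynomial of π_A over ℚ: viewed over ℚ_l it equals h^n for some polynomial h with rational
coefficients irreducible over ℚ and some n. -/
theorem result (k Ω : Type u) [Field k] [Finite k] [Field Ω] [Algebra k Ω] [IsAlgClosure k Ω]
    (l : ℕ) [Fact l.Prime] (hl : (l : k) ≠ 0) (A : Over (Spec (CommRingCat.of k)))
    [GrpObj A] [IsCommMonObj A] [IsProper A.hom] [GeometricallyIntegral A.hom]
    (hsimple : ∀ (B : Over (Spec (CommRingCat.of k))) [GrpObj B] [GeometricallyIntegral B.hom] (i : B ⟶ A) [IsMonHom i]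
      [IsClosedImmersion i.left], Subsingleton B.left ∨ IsIso i)
    (πA : A ⟶ A) [IsMonHom πA] (hπAb : πA.left.base = 𝟙 _)
    (hπAle : ∀ U : A.left.Opens, U ≤ πA.left ⁻¹ᵁ U)
    (hπAapp : ∀ (U : A.left.Opens) (s : Γ(A.left, U)), (πA.left.appLE U U (hπAle U)).hom s = s ^ Nat.card k)
    [Module.Free ℤ_[l] (AbDual.TateMod A l (SGA7.pt Ω))] [Module.Finite ℤ_[l] (AbDual.TateMod A l (SGA7.pt Ω))] :
    ∃ (h : Polynomial ℚ) (n : ℕ), Irreducible h ∧
      ((AbDual.tateMapₗ (l := l) (T := SGA7.pt Ω) πA).charpoly).map (algebraMap ℤ_[l] ℚ_[l]) =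
        (h.map (algebraMap ℚ ℚ_[l])) ^ n := by
  classical
  haveI : IsAlgClosed Ω := IsAlgClosure.isAlgClosed k
  obtain ⟨g, hg⟩ := AVTors.exists_dimNat A
  obtain ⟨P, hPm, hPd, hPv, hT⟩ := AVTateBC.exists_charpoly Ω A hg (EndAV.End.of πA)
  have e := hT l hl
  simp only [EndAV.End.tateRep_apply, EndAV.End.toHom_of] at e
  let Q := P.map (Int.castRingHom ℚ)
  suffices H : ∃ (h : Polynomial ℚ) (n : ℕ), Irreducible h ∧ Q = h ^ n by
    obtain ⟨h, n, hi, hQ⟩ := H
    refine ⟨h, n, hi, ?_⟩
    rw [e, Polynomial.map_map, ← Polynomial.map_pow, ← hQ, Polynomial.map_map]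
    congr 1
  rcases subsingleton_or_nontrivial (EndAV.End0 A) with hsub | hnt
  · refine ⟨Polynomial.X, 0, Polynomial.irreducible_X, ?_⟩
    rw [pow_zero]
    by_contra hne
    have hnu : ¬ IsUnit Q := fun hu => hne ((hPm.map _).eq_one_of_isUnit hu)
    obtain ⟨h, hi, hdvd⟩ := WfDvdMonoid.exists_irreducible_factor hnu (hPm.map _).ne_zero
    exact hi.not_isUnit (isUnit_of_dvd_one ((AVEnd0.dvd_minpoly hg _ hPm hPd hPv hi hdvd).trans
      (minpoly.dvd ℚ _ (Subsingleton.elim _ _))))
  · haveI := AVEnd0.finite_end0 (A := A)
    haveI : NoZeroDivisors (EndAV.End0 A) := ⟨fun {a b} hab => by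
      by_contra hne
      push Not at hne
      exact hne.2 ((S15655.result k A hsimple a hne.1).mul_right_eq_zero.1 hab)⟩
    haveI : IsDomain (EndAV.End0 A) := NoZeroDivisors.to_isDomain _
    have hirr := minpoly.irreducible (Algebra.IsIntegral.isIntegral (R := ℚ) (EndAV.toEnd0 (EndAV.End.of πA)))
    exact ⟨_, _, hirr, AVEnd0.eq_pow_of_irreducible hg _ hPm hPd hPv hirr⟩

end Groth.Agent.S14942
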