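import Groth.Statements.S14943
import Groth.Agent.Lib.AVSemisimple

set_option autoImplicit false
set_option backward.isDefEq.respectTransparency false
set_option backward.isDefEq.respectTransparency.types false
set_option linter.style.haveILetI false
set_option linter.unusedSectionVars false
set_option maxHeartbeats 400000
universe u
open CategoryTheory MonoidalCategory CartesianMonoidalCategory MonObj GrpObj AlgebraicGeometry
open AbVar

namespace Groth.Agent.S14943

set_option synthInstance.maxHeartbeats 400000

/-- Let A be an abelian variety over a finite field k with q elements (a proper, geometrically integral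
commutative group scheme over k), π_A its q-Frobenius endomorphism (the identity on points and the
q-th power map on sections; a homomorphism), Ω an algebraic closure of k and l a prime invertible in
k. Then the Frobenius endomorphism acts semisimply on V_l(A) = ℚ_l ⊗_{ℤ_l} T_l(A), T_l(A) the l-adic
Tate module of Ω-points: the ℚ_l-linear endomorphism ℚ_l ⊗ T_l(π_A) is semisimple. (The published
statement is that ℚ[π_A] ⊆ ℚ ⊗ End_k(A) is a semisimple algebra, hence acts semisimply in every
representation over a field of characteristic zero; this row states that action on V_l(A).) -/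
theorem result (k Ω : Type u) [Field k] [Finite k] [Field Ω] [Algebra k Ω] [IsAlgClosure k Ω]
    (l : ℕ) [Fact l.Prime] (hl : (l : k) ≠ 0) (A : Over (Spec (CommRingCat.of k)))
    [GrpObj A] [IsCommMonObj A] [IsProper A.hom] [GeometricallyIntegral A.hom]
    (πA : A ⟶ A) [IsMonHom πA] (hπAb : πA.left.base = 𝟙 _)
    (hπAle : ∀ U : A.left.Opens, U ≤ πA.left ⁻¹ᵁ U)
    (hπAapp : ∀ (U : A.left.Opens) (s : Γ(A.left, U)), (πA.left.appLE U U (hπAle U)).hom s = s ^ Nat.card k) :
    Module.End.IsSemisimple ((AbDual.tateMapₗ (l := l) (T := SGA7.pt Ω) πA).baseChange ℚ_[l]) := by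
  haveI : IsAlgClosed Ω := IsAlgClosure.isAlgClosed k
  haveI := Fintype.ofFinite k
  obtain ⟨r, hp, hq⟩ := FiniteField.card k (ringChar k)
  haveI := Fact.mk hp
  have hc : ∀ φ : EndAV.End A, φ * EndAV.End.of πA = EndAV.End.of πA * φ := fun φ => EndAV.End.ext (by
    rw [EndAV.End.toHom_mul, EndAV.End.toHom_mul]
    exact AVSemisimple.frob_natural φ.toHom πA πA (Nat.card k) (ringChar k) r
      (by rw [Nat.card_eq_fintype_card]; exact hq) hπAle hπAapp hπAle hπAapp)
  obtain ⟨m, hm, hmμ, hm0⟩ := AVEnd0.exists_int_minpoly Ω (EndAV.End.of πA)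
  have hsep : (m.map (Int.castRingHom ℚ)).Separable := by
    rw [hmμ]
    exact PerfectField.separable_iff_squarefree.2 (AVSemisimple.squarefree_minpoly _ hc)
  have h0 := congrArg (fun T => T.baseChange ℚ_[l]) ((AVEnd0.aeval_tateRep Ω (EndAV.End.of πA) l m).symm.trans
    (by rw [hm0, map_zero]))
  refine Module.End.isSemisimple_of_squarefree_aeval_eq_zero
    (p := (m.map (Int.castRingHom ℤ_[l])).map (algebraMap ℤ_[l] ℚ_[l])) ?_ ?_
  · rw [Polynomial.map_map, show (algebraMap ℤ_[l] ℚ_[l]).comp (Int.castRingHom ℤ_[l]) =
      (algebraMap ℚ ℚ_[l]).comp (Int.castRingHom ℚ) from RingHom.ext_int _ _, ← Polynomial.map_map]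
    exact hsep.map.squarefree
  · rw [Polynomial.aeval_map_algebraMap]
    refine Eq.trans ?_ (h0.trans LinearMap.baseChange_zero)
    exact Polynomial.aeval_algHom_apply (Module.End.baseChangeHom ℤ_[l] ℚ_[l] (AbDual.TateMod A l (SGA7.pt Ω))) _ _

end Groth.Agent.S14943
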