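import Groth.Statements.S14945
import Groth.Agent.AVTate.Isogeny
import Groth.Agent.AVTate.Cube
-- import your own Groth.Agent.* helpers here

set_option linter.style.haveILetI false
set_option backward.isDefEq.respectTransparency false
set_option backward.isDefEq.respectTransparency.types false
set_option maxHeartbeats 2000000
set_option synthInstance.maxHeartbeats 400000
set_option autoImplicit false
universe u
open CategoryTheory MonoidalCategory CartesianMonoidalCategory MonObj GrpObj AlgebraicGeometry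
open scoped TensorProduct
open AbVar

namespace Groth.Agent.S14945

/-- Clauses 1 and 2: let k be a finite field with algebraic closure Ω, l a prime invertible in k, and A,
B abelian varieties over k (proper, geometrically integral commutative group schemes over k). For
each k-automorphism τ of Ω let ρ_A(τ), ρ_B(τ) be the ℤ_l-linear endomorphisms of the l-adic Tate
modules of Ω-points acting on every component by the Galois action of τ (this pins them). Then A and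
B are isogenous over k — there are homomorphisms u : A → B, v : B → A and n > 0 with v ∘ u = n_A and
u ∘ v = n_B — if and only if V_l(A) = ℚ_l ⊗ T_l(A) and V_l(B) are isomorphic as Galois
representations: there is a ℚ_l-linear isomorphism e : V_l(A) → V_l(B) with e ∘ (ℚ_l ⊗ ρ_A(τ)) =
(ℚ_l ⊗ ρ_B(τ)) ∘ e for every τ. -/
theorem result (k Ω : Type u) [Field k] [Finite k] [Field Ω] [Algebra k Ω] [IsAlgClosure k Ω]
    (l : ℕ) [Fact l.Prime] (hl : (l : k) ≠ 0) (A B : Over (Spec (CommRingCat.of k)))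
    [GrpObj A] [IsCommMonObj A] [IsProper A.hom] [GeometricallyIntegral A.hom]
    [GrpObj B] [IsCommMonObj B] [IsProper B.hom] [GeometricallyIntegral B.hom]
    (ρA : (Ω ≃ₐ[k] Ω) → Module.End ℤ_[l] (AbDual.TateMod A l (SGA7.pt Ω)))
    (hρA : ∀ (τ : Ω ≃ₐ[k] Ω) (z : AbDual.TateMod A l (SGA7.pt Ω)) (m : ℕ),
      (AbDual.TateMod.component A l (SGA7.pt Ω) m (ρA τ z)).toMul =
        SGA7.galAct τ (AbDual.TateMod.component A l (SGA7.pt Ω) m z).toMul)
    (ρB : (Ω ≃ₐ[k] Ω) → Module.End ℤ_[l] (AbDual.TateMod B l (SGA7.pt Ω)))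
    (hρB : ∀ (τ : Ω ≃ₐ[k] Ω) (z : AbDual.TateMod B l (SGA7.pt Ω)) (m : ℕ),
      (AbDual.TateMod.component B l (SGA7.pt Ω) m (ρB τ z)).toMul =
        SGA7.galAct τ (AbDual.TateMod.component B l (SGA7.pt Ω) m z).toMul) :
    (∃ (u : A ⟶ B) (_ : IsMonHom u) (v : B ⟶ A) (_ : IsMonHom v) (n : ℕ), 0 < n ∧
        u ≫ v = (𝟙 A) ^ n ∧ v ≫ u = (𝟙 B) ^ n) ↔
      ∃ e : (ℚ_[l] ⊗[ℤ_[l]] AbDual.TateMod A l (SGA7.pt Ω)) ≃ₗ[ℚ_[l]] (ℚ_[l] ⊗[ℤ_[l]] AbDual.TateMod B l (SGA7.pt Ω)),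
        ∀ τ : Ω ≃ₐ[k] Ω, (e : (ℚ_[l] ⊗[ℤ_[l]] AbDual.TateMod A l (SGA7.pt Ω)) →ₗ[ℚ_[l]] (ℚ_[l] ⊗[ℤ_[l]] AbDual.TateMod B l (SGA7.pt Ω))) ∘ₗ (ρA τ).baseChange ℚ_[l] =
          ((ρB τ).baseChange ℚ_[l]) ∘ₗ (e : (ℚ_[l] ⊗[ℤ_[l]] AbDual.TateMod A l (SGA7.pt Ω)) →ₗ[ℚ_[l]] (ℚ_[l] ⊗[ℤ_[l]] AbDual.TateMod B l (SGA7.pt Ω))) := by
  obtain ⟨πA, hπA, hA⟩ := Groth.Agent.AVTate.exists_isFrob A
  obtain ⟨πB, hπB, hB⟩ := Groth.Agent.AVTate.exists_isFrob B
  haveI := hπA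
  haveI := hπB
  constructor
  · intro h
    obtain ⟨f, g, n, hn, h1, h2⟩ := Groth.Agent.AVTate.exists_bundled h
    refine ⟨LinearEquiv.ofBijective _ (Groth.Agent.AVTate.repH_bijective (Ω := Ω) (l := l) hn h1 h2), fun τ => ?_⟩
    show Groth.Agent.AVTate.repH Ω l f ∘ₗ _ = _ ∘ₗ Groth.Agent.AVTate.repH Ω l f
    rw [Groth.Agent.AVTate.repH, ← LinearMap.baseChange_comp, ← LinearMap.baseChange_comp,
      Groth.Agent.AVTate.tateMap_rho f ρA hρA ρB hρB τ]
  · rintro ⟨e, he⟩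
    obtain ⟨τ, e1, e2⟩ := Groth.Agent.AVTate.exists_rho_eq hA hB ρA hρA ρB hρB
    have h := he τ
    rw [e1, e2] at h
    exact Groth.Agent.AVTate.isog_of_conj (Groth.Agent.AVTate.cubeEmbeds k) hA hB hl e h

end Groth.Agent.S14945
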