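import Groth.Statements.S14946
import Groth.Agent.AVTate.Basis
import Groth.Agent.AVTate.Cube
-- import your own Groth.Agent.* helpers here

set_option linter.style.haveILetI false
set_option backward.isDefEq.respectTransparency false
set_option backward.isDefEq.respectTransparency.types false
set_option maxHeartbeats 2000000
set_option synthInstance.maxHeartbeats 400000

set_option autoImplicit false
universe u
open CategoryTheory MonoidalCategory CartesianMonoidalCategory MonObj GrpObj AlgebraicGeometry
open scoped TensorProduct Classical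
open AbVar

namespace Groth.Agent.S14946

/-- Dimension formula: let A be an abelian variety over a finite field k with q elements (a proper,
geometrically integral commutative group scheme over k), π_A its q-Frobenius endomorphism (identity
on points, q-th power on sections; a homomorphism), Ω an algebraic closure of k and l a prime
invertible in k; assume (as is the case) that the l-adic Tate module of Ω-points T_l A is free of
finite rank over ℤ_l. Factor the characteristic polynomial of V_l(π_A) = ℚ_l ⊗ T_l(π_A) over ℚ_l as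
∏ P^{a(P)} with P monic irreducible, and put r = Σ_P a(P)² deg P. Then ℚ ⊗ End_k(A) has dimension r:
there are r endomorphisms of A (homomorphisms A → A), linearly independent over ℤ in the additive
group of k-morphisms A → A (written multiplicatively), such that every endomorphism f has a multiple
f^N, N > 0, which is a product of integer powers of them. (The published statement gives only the
bounds 2g ≤ dim ℚ ⊗ End_k(A) ≤ 4g²; this row states the equality dim ℚ ⊗ End_k(A) = r from which
they follow.) -/
theorem result (k Ω : Type u) [Field k] [Finite k] [Field Ω] [Algebra k Ω] [IsAlgClosure k Ω]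
    (l : ℕ) [Fact l.Prime] (hl : (l : k) ≠ 0) (A : Over (Spec (CommRingCat.of k)))
    [GrpObj A] [IsCommMonObj A] [IsProper A.hom] [GeometricallyIntegral A.hom]
    (πA : A ⟶ A) [IsMonHom πA] (hπAb : πA.left.base = 𝟙 _)
    (hπAle : ∀ U : A.left.Opens, U ≤ πA.left ⁻¹ᵁ U)
    (hπAapp : ∀ (U : A.left.Opens) (s : Γ(A.left, U)), (πA.left.appLE U U (hπAle U)).hom s = s ^ Nat.card k)
    [Module.Free ℤ_[l] (AbDual.TateMod A l (SGA7.pt Ω))] [Module.Finite ℤ_[l] (AbDual.TateMod A l (SGA7.pt Ω))]
    (r : ℕ)
    (hr : r = ∑ P ∈ (UniqueFactorizationMonoid.normalizedFactors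
        ((AbDual.tateMapₗ (l := l) (T := SGA7.pt Ω) πA).baseChange ℚ_[l]).charpoly).toFinset,
        (UniqueFactorizationMonoid.normalizedFactors
          ((AbDual.tateMapₗ (l := l) (T := SGA7.pt Ω) πA).baseChange ℚ_[l]).charpoly).count P ^ 2 * P.natDegree) :
    ∃ e : Fin r → (A ⟶ A), (∀ i, IsMonHom (e i)) ∧ LinearIndependent ℤ (fun i => Additive.ofMul (e i)) ∧
      ∀ f : A ⟶ A, IsMonHom f → ∃ N : ℕ, 0 < N ∧ ∃ a : Fin r → ℤ, f ^ N = ∏ i, e i ^ a i := by
  haveI : IsAlgClosed Ω := IsAlgClosure.isAlgClosed k
  have hA : Groth.Agent.AVTate.IsFrob A πA := ⟨hπAb, hπAle, hπAapp⟩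
  obtain ⟨g, hg⟩ := Groth.Agent.AVTors.exists_dimNat A
  obtain ⟨P, hPm, hPd, -, hT⟩ := Groth.Agent.AVTateBC.exists_charpoly Ω A hg (EndAV.End.of πA)
  have hP := hT l hl
  have hr' : r = Module.finrank ℤ (EndAV.End A) := by
    rw [Groth.Agent.AVTate.finrank_end Ω hA hl (Groth.Agent.AVTate.cubeEmbeds k) hPm hP, hr,
      LinearMap.charpoly_baseChange,
      show (AbDual.tateMapₗ (l := l) (T := SGA7.pt Ω) πA).charpoly = P.map (Int.castRingHom ℤ_[l]) from hP,
      Polynomial.map_map,
      RingHom.ext_int ((algebraMap ℤ_[l] ℚ_[l]).comp (Int.castRingHom ℤ_[l])) ((algebraMap ℚ ℚ_[l]).comp (Int.castRingHom ℚ)),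
      ← Polynomial.map_map, Groth.Agent.S14944.rsum,
      ← Groth.Agent.S16836.result ℚ ℚ_[l] (P.map (Int.castRingHom ℚ)) (P.map (Int.castRingHom ℚ))
        (hPm.map _).ne_zero (hPm.map _).ne_zero]
    exact Finset.sum_congr rfl fun Q _ => by rw [pow_two]
  obtain ⟨e, he, hli, hgen⟩ := Groth.Agent.AVTate.exists_basis_end (A := A) hr'
  refine ⟨e, he, hli, fun f hf => ?_⟩
  obtain ⟨a, ha⟩ := hgen f hf
  exact ⟨1, Nat.one_pos, a, by rw [pow_one, ha]⟩

end Groth.Agent.S14946
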