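import Groth.Statements.S14947
import Groth.Agent.Lib.AVEnd0
import Groth.Agent.S15655

set_option autoImplicit false
set_option backward.isDefEq.respectTransparency false
set_option backward.isDefEq.respectTransparency.types false
set_option linter.style.haveILetI false
set_option linter.unusedSectionVars false
set_option maxHeartbeats 400000
universe u
open CategoryTheory MonoidalCategory CartesianMonoidalCategory MonObj GrpObj AlgebraicGeometry
open AbVar

namespace Groth.Agent.S14947

/-- Degree as determinant: let A be an abelian variety over a finite field k (a proper, geometrically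
integral commutative group scheme over k), Ω an algebraic closure of k, l a prime invertible in k,
and f an endomorphism of A (a homomorphism); assume (as is the case) that the l-adic Tate module of
Ω-points T_l A is free of finite rank over ℤ_l. If f is finite (an isogeny), its degree — the rank
of the finite flat morphism f at any point of A — equals the determinant of T_l(f); if f is not
finite, the determinant of T_l(f) is 0 (the degree of a non-isogeny being 0 by convention). (The
published statement is the l-independence of the characteristic polynomial of Frobenius; this row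
states the identity deg f = det T_l(f) that its proof establishes for every endomorphism.) -/
theorem result (k Ω : Type u) [Field k] [Finite k] [Field Ω] [Algebra k Ω] [IsAlgClosure k Ω]
    (l : ℕ) [Fact l.Prime] (hl : (l : k) ≠ 0) (A : Over (Spec (CommRingCat.of k)))
    [GrpObj A] [IsCommMonObj A] [IsProper A.hom] [GeometricallyIntegral A.hom]
    (f : A ⟶ A) [IsMonHom f]
    [Module.Free ℤ_[l] (AbDual.TateMod A l (SGA7.pt Ω))] [Module.Finite ℤ_[l] (AbDual.TateMod A l (SGA7.pt Ω))] :
    (IsFinite f.left → ∀ a : A.left,
        ((Scheme.Hom.finrank f.left a : ℕ) : ℤ_[l]) = LinearMap.det (AbDual.tateMapₗ (l := l) (T := SGA7.pt Ω) f)) ∧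
      (¬ IsFinite f.left → LinearMap.det (AbDual.tateMapₗ (l := l) (T := SGA7.pt Ω) f) = 0) := by
  haveI : IsAlgClosed Ω := IsAlgClosure.isAlgClosed k
  obtain ⟨g, hg⟩ := AVTors.exists_dimNat A
  have h := AVTateBC.det_eq_nu Ω A hg (EndAV.End.of f) l hl
  simp only [EndAV.End.tateRep_apply, EndAV.End.toHom_of] at h
  refine ⟨fun hfin a => ?_, fun hnf => ?_⟩
  · rw [h, AVNu.finrank_eq_nu hg hg f hfin a]
  · rw [h, AVNu.nu_eq_zero hg hg f hnf, Nat.cast_zero]

end Groth.Agent.S14947
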