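import Groth.Statements.S14955
import Groth.Agent.EtMil7.Presented
-- import your own Groth.Agent.* helpers here

set_option autoImplicit false
universe u
open TensorProduct
open EtAlg

namespace Groth.Agent.S14955

/-- Let B' = B ×_A A' be a fibre product of commutative rings with A' → A surjective. Then the square is
also a pushout of commutative rings: the canonical map B ⊗_{B'} A' → A is an isomorphism. -/
theorem result (B' B A' A : Type u) [CommRing B'] [CommRing B] [CommRing A'] [CommRing A]
    [Algebra B' B] [Algebra B' A'] [Algebra B A] [Algebra A' A] [Algebra B' A] [IsScalarTower B' B A] [IsScalarTower B' A' A]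
    (hsq : EtMil.IsFibreSquare B' B A' A) : Algebra.IsPushout B' B A' A := by
  exact Groth.Agent.EtMil7.isPushout_square hsq

end Groth.Agent.S14955
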