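import Groth.Statements.S14960
import Groth.Agent.PinchMod7.Basic
-- import your own Groth.Agent.* helpers here

set_option autoImplicit false
universe u
open AlgebraicGeometry CategoryTheory CategoryTheory.Limits
open Pinch

namespace Groth.Agent.S14960

/-- Let w : X' → X, g : X' → Y', f : X → Y, u : Y' → Y be a cartesian square of schemes with f affine
and u a closed immersion which is a pinching square: for every affine open V of Y, with I(V) the
kernel of Γ(V, O_Y) → Γ(u⁻¹V, O_Y'), the kernel of Γ(V, O_Y) → Γ(f⁻¹V, O_X) meets I(V) in 0 and the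
ideal generated by the image of I(V) in Γ(f⁻¹V, O_X) consists of images of elements of I(V)
(equivalently Γ(V, O_Y) is the fibre product of Γ(u⁻¹V, O_Y') and Γ(f⁻¹V, O_X) over Γ(h⁻¹V, O_X'),
i.e. O_Y = u_*O_Y' ×_{h_*O_X'} f_*O_X). A quasi-coherent O_Y-module G is a flat O_Y-module if and
only if u*G is a flat O_Y'-module and f*G is a flat O_X-module. -/
theorem result {X X' Y Y' : Scheme.{u}} (f : X ⟶ Y) (u : Y' ⟶ Y) (w : X' ⟶ X) (g : X' ⟶ Y')
    (hP : IsPullback w g f u) [IsAffineHom f] [IsClosedImmersion u]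
    (hM : ∀ V ∈ Y.affineOpens,
      RingHom.ker (f.app V).hom ⊓ RingHom.ker (u.app V).hom = ⊥ ∧
      ∀ a ∈ Ideal.map (f.app V).hom (RingHom.ker (u.app V).hom),
        ∃ i ∈ RingHom.ker (u.app V).hom, (f.app V).hom i = a)
    (G : Y.Modules) [G.IsQuasicoherent] :
    FlatMod.IsFlat G ↔
      FlatMod.IsFlat ((Scheme.Modules.pullback u).obj G) ∧ FlatMod.IsFlat ((Scheme.Modules.pullback f).obj G) := by
  have hG : Coh.IsQCoh G := ‹_›
  refine ⟨fun h => ⟨Groth.Agent.PinchMod7.flat_pullback u hG h, Groth.Agent.PinchMod7.flat_pullback f hG h⟩,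
    fun ⟨h1, h2⟩ => (Groth.Agent.QCoh.isFlat_iff hG).2 fun V => ?_⟩
  exact Groth.Agent.PinchMod7.descend f u hM hG (fun R _ N _ _ => Module.Flat R N)
    (fun _ _ _ _ _ _ _ _ e h => Module.Flat.of_linearEquiv e.symm)
    (fun _ _ _ _ _ _ _ _ _ _ _ _ _ _ _ hsq L _ _ h1 h2 => by
      haveI := h1; haveI := h2; exact Groth.Agent.EtMil7.flat_of_flat_baseChange_pair hsq L)
    (fun W => (Groth.Agent.QCoh.isFlat_iff (Groth.Agent.QCoh.isQCoh_pullback u hG)).1 h1 ⟨_, W.2.preimage u⟩)
    (fun W => (Groth.Agent.QCoh.isFlat_iff (Groth.Agent.QCoh.isQCoh_pullback f hG)).1 h2 ⟨_, W.2.preimage f⟩) V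

end Groth.Agent.S14960
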