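import Groth.Statements.S14965
import Groth.Agent.AzumayaX.Square

set_option autoImplicit false
universe u
open TensorProduct
open Brauer

namespace Groth.Agent.S14965

/-- Let B' = B ×_A A' be a fibre product of commutative rings with A' → A surjective, N an Azumaya
B-algebra, M' an Azumaya A'-algebra and φ : A ⊗_B N ≅ A ⊗_{A'} M' an isomorphism of A-algebras. If a
B'-algebra D' with B'-algebra homomorphisms π₁ : D' → N and π₂ : D' → M' is the glued algebra N ×_φ
M', in the sense that (π₁, π₂) is injective with image the pairs (n, m') satisfying φ(1 ⊗ n) = 1 ⊗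
m', then D' is an Azumaya B'-algebra. (The published statement is for Azumaya algebras on the
pushout scheme of a closed immersion and an affine morphism, glued as u_*B' ×_{h_*} f_*A; this row
is the case of an affine pushout.) -/
theorem result (B' B A' A : Type u) [CommRing B'] [CommRing B] [CommRing A'] [CommRing A]
    [Algebra B' B] [Algebra B' A'] [Algebra B A] [Algebra A' A] [Algebra B' A] [IsScalarTower B' B A] [IsScalarTower B' A' A]
    (hsq : EtMil.IsFibreSquare B' B A' A)
    (N : Type u) [Ring N] [Algebra B N] [Algebra B' N] [IsScalarTower B' B N] [IsAzumaya B N]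
    (M' : Type u) [Ring M'] [Algebra A' M'] [Algebra B' M'] [IsScalarTower B' A' M'] [IsAzumaya A' M']
    (φ : A ⊗[B] N ≃ₐ[A] A ⊗[A'] M')
    (D' : Type u) [Ring D'] [Algebra B' D'] (π₁ : D' →ₐ[B'] N) (π₂ : D' →ₐ[B'] M')
    (hinj : ∀ d : D', π₁ d = 0 → π₂ d = 0 → d = 0)
    (himg : ∀ (n : N) (m' : M'), φ ((1 : A) ⊗ₜ[B] n) = (1 : A) ⊗ₜ[A'] m' ↔ ∃ d : D', π₁ d = n ∧ π₂ d = m') :
    IsAzumaya B' D' := by
  exact Groth.Agent.AzumayaX.isAzumaya_of_glue hsq N M' φ D' π₁ π₂ hinj himg

end Groth.Agent.S14965
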