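import Groth.Statements.S14966
import Groth.Agent.EtMil7.Presented
-- import your own Groth.Agent.* helpers here

set_option autoImplicit false
universe u
open EtAlg

namespace Groth.Agent.S14966

/-- Let A → A' be an injective homomorphism of commutative rings and let I ⊆ A be the conductor, i.e.
the annihilator of the A-module A'/A. Then the conductor square formed by A → A/I, A → A', A/I →
A'/IA' and A' → A'/IA' is a fibre product square of rings with A' → A'/IA' surjective: A = A/I
×_{A'/IA'} A'. (The published Lemma is for the conductor square of a finite modification of schemes;
this row is the underlying statement for one injective ring map, which needs no finiteness.) -/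
theorem result (A A' : Type u) [CommRing A] [CommRing A'] [Algebra A A']
    (hinj : Function.Injective (algebraMap A A')) :
    EtMil.IsFibreSquare A (A ⧸ Module.annihilator A (A' ⧸ LinearMap.range (Algebra.linearMap A A'))) A'
      (A' ⧸ Ideal.map (algebraMap A A') (Module.annihilator A (A' ⧸ LinearMap.range (Algebra.linearMap A A')))) := by
  exact Groth.Agent.EtMil7.isFibreSquare_conductor hinj

end Groth.Agent.S14966
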