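import Groth.Statements.S14967
import Groth.Agent.AzumayaX.Descent

set_option autoImplicit false
universe u v w
open TensorProduct
open Brauer

namespace Groth.Agent.S14967

/-- Let R → S be a faithfully flat homomorphism of commutative rings and B an R-algebra, with no
finiteness assumption. If S ⊗_R B is an Azumaya S-algebra then B is an Azumaya R-algebra. (The
published statement is for a flat surjective morphism of schemes X → Y and a quasi-coherent
O_Y-algebra; this row is the case of affine X and Y, where flat and surjective means faithfully
flat. The converse, base change, is omitted.) -/
theorem result (R : Type u) [CommRing R]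
    (S : Type v) [CommRing S] [Algebra R S] [Module.FaithfullyFlat R S]
    (B : Type w) [Ring B] [Algebra R B] [IsAzumaya S (S ⊗[R] B)] : IsAzumaya R B := by
  exact Groth.Agent.AzumayaX.isAzumaya_of_faithfullyFlat R S B

end Groth.Agent.S14967
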