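import Groth.Statements.S14972
import Groth.Agent.HilbPoly.HNChain
set_option autoImplicit false
open CategoryTheory CategoryTheory.Limits AlgebraicGeometry
open Coherent

namespace Groth.Agent.S14972

/-- Over the complex numbers, let E be a coherent sheaf on projective n-space which is pure of dimension
d (its support and the support of every nonzero coherent subsheaf have dimension d). Then there is
exactly one finite chain of coherent subsheaves 0 = E_0 ⊂ E_1 ⊂ ⋯ ⊂ E_k = E such that each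
successive quotient E_j/E_(j-1) is pure of dimension d and p-semistable (every nonzero coherent
subsheaf G of it with Hilbert polynomial ψ satisfies ψ(m)/r(ψ) ≤ φ(m)/r(φ) for all large integers m,
φ being the Hilbert polynomial of the quotient and r denoting d! times the degree-d coefficient) and
the reduced Hilbert polynomials φ/r(φ) of consecutive quotients strictly decrease for large
arguments. The chain is recorded as a finite set of subobjects of E, totally ordered by inclusion,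
containing 0 and E, all of whose members are coherent. (The published statement is for modules over
a sheaf of rings of differential operators and filtrations by submodules stable under it, and does
not assume E pure, although quotients pure of dimension d force it; this row is the case of the
structure sheaf, where every coherent subsheaf is stable, and assumes E pure.) -/
theorem result (n d : ℕ)
    (E : (CohB1.ProjSpace n ℂ).Modules) (hE : Coh.IsCoh E)
    (hpure : (topologicalKrullDim ↥(CohB1.support E) = (d : WithBot ℕ∞) ∧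
          ∀ (G : (CohB1.ProjSpace n ℂ).Modules) (ι : G ⟶ E), Mono ι → Coh.IsCoh G → ¬ IsZero G → topologicalKrullDim ↥(CohB1.support G) = (d : WithBot ℕ∞))) :
    ∃! C : Finset (Subobject E),
      ⊥ ∈ C ∧ ⊤ ∈ C ∧ IsChain (fun A B : Subobject E => A ≤ B) (↑C : Set (Subobject E)) ∧
      (∀ A ∈ C, Coh.IsCoh (A : (CohB1.ProjSpace n ℂ).Modules)) ∧
      (∀ A ∈ C, ∀ B ∈ C, ∀ hAB : A < B, (∀ D ∈ C, ¬ (A < D ∧ D < B)) →
        (topologicalKrullDim ↥(CohB1.support (cokernel (Subobject.ofLE A B hAB.le))) = (d : WithBot ℕ∞) ∧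
          ∀ (G : (CohB1.ProjSpace n ℂ).Modules) (ι : G ⟶ (cokernel (Subobject.ofLE A B hAB.le))), Mono ι → Coh.IsCoh G → ¬ IsZero G → topologicalKrullDim ↥(CohB1.support G) = (d : WithBot ℕ∞)) ∧
        (∀ (G : (CohB1.ProjSpace n ℂ).Modules) (ι : G ⟶ (cokernel (Subobject.ofLE A B hAB.le))), Mono ι → Coh.IsCoh G → ¬ IsZero G →
          ∀ φ ψ : Polynomial ℚ, (∀ m : ℤ, (Curv2.euler ℂ (CohB1.ProjSpace n ℂ) (CohB1.tensorMod (cokernel (Subobject.ofLE A B hAB.le)) (Twist.twistProjSpace n ℂ m)) : ℚ) = φ.eval (m : ℚ)) → (∀ m : ℤ, (Curv2.euler ℂ (CohB1.ProjSpace n ℂ) (CohB1.tensorMod G (Twist.twistProjSpace n ℂ m)) : ℚ) = ψ.eval (m : ℚ)) →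
            W4c2simpsonmod1.RedLE d ψ φ)) ∧
      (∀ A ∈ C, ∀ B ∈ C, ∀ B' ∈ C, ∀ hAB : A < B, ∀ hBB : B < B',
        (∀ D ∈ C, ¬ (A < D ∧ D < B)) → (∀ D ∈ C, ¬ (B < D ∧ D < B')) →
        ∀ ψ ψ' : Polynomial ℚ, (∀ m : ℤ, (Curv2.euler ℂ (CohB1.ProjSpace n ℂ) (CohB1.tensorMod (cokernel (Subobject.ofLE A B hAB.le)) (Twist.twistProjSpace n ℂ m)) : ℚ) = ψ.eval (m : ℚ)) →
          (∀ m : ℤ, (Curv2.euler ℂ (CohB1.ProjSpace n ℂ) (CohB1.tensorMod (cokernel (Subobject.ofLE B B' hBB.le)) (Twist.twistProjSpace n ℂ m)) : ℚ) = ψ'.eval (m : ℚ)) →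
          W4c2simpsonmod1.RedLT d ψ' ψ) := by
    classical
    haveI : IsProper (CohB1.ProjSpace n ℂ ↘ Spec (CommRingCat.of ℂ)) := PnCoh.Chow.isProper_toSpec n ℂ
    haveI : IsNoetherian (CohB1.ProjSpace n ℂ) := CurveCohLib.isNoetherian_of_proper (k := ℂ)
    have hL : CohB1.IsAmple (HilbPoly.onePn ℂ n) := HilbPoly.isAmple_pullback_pn (𝟙 _)
    have hp : ShStab.IsPure (CohB1.ProjSpace n ℂ) E d := hpure.2
    obtain ⟨s, hs⟩ := HilbPoly.exists_HN (k := ℂ) hL hE hp
    have hco := HilbPoly.isCoh_HN_member hE s hs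
    have hint : ∀ {G : (CohB1.ProjSpace n ℂ).Modules}, Coh.IsCoh G →
        topologicalKrullDim ↥(CohB1.support G) ≤ (d : WithBot ℕ∞) → ∀ {P : Polynomial ℚ},
        ShStab.IsHilbPoly ℂ (CohB1.ProjSpace n ℂ) (HilbPoly.onePn ℂ n) G P → ∀ m : ℤ,
          (Curv2.euler ℂ (CohB1.ProjSpace n ℂ) (CohB1.tensorMod G (Twist.twistProjSpace n ℂ m)) : ℚ) = P.eval (m : ℚ) :=
      fun hG hd _ hP m => HilbPoly.forall_int_of_isHilbPoly hG hd hP m
    let C : Finset (Subobject E) := Finset.univ.image fun i : Fin (s.length + 1) => s i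
    have hmem : ∀ a, a ∈ C ↔ ∃ i, s i = a := fun a => by simp [C]
    have hcov : ∀ A ∈ C, ∀ B ∈ C, A < B → (∀ D ∈ C, ¬ (A < D ∧ D < B)) →
        ∃ i : Fin s.length, s i.castSucc = A ∧ s i.succ = B := by
      intro A hA B hB hAB hno
      obtain ⟨a, rfl⟩ := (hmem A).1 hA
      obtain ⟨b, rfl⟩ := (hmem B).1 hB
      obtain ⟨i, rfl, rfl⟩ := HilbPoly.exists_index_of_covering s a b hAB fun j => hno _ ((hmem _).2 ⟨j, rfl⟩)
      exact ⟨i, rfl, rfl⟩
    refine ⟨C, ⟨(hmem _).2 ⟨0, hs.1⟩, (hmem _).2 ⟨Fin.last _, hs.2.1⟩, ?_, ?_, ?_, ?_⟩, ?_⟩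
    · intro A hA B hB _
      obtain ⟨a, rfl⟩ := (hmem A).1 hA
      obtain ⟨b, rfl⟩ := (hmem B).1 hB
      exact (le_total a b).imp (fun h => s.monotone h) (fun h => s.monotone h)
    · intro A hA
      obtain ⟨a, rfl⟩ := (hmem A).1 hA
      exact hco a
    · intro A hA B hB hAB hno
      obtain ⟨i, rfl, rfl⟩ := hcov A hA B hB hAB hno
      have hss : ShStab.IsSemistable ℂ (CohB1.ProjSpace n ℂ) (HilbPoly.onePn ℂ n)
          (cokernel (Subobject.ofLE (s i.castSucc) (s i.succ) hAB.le)) d := hs.2.2.1 i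
      refine ⟨⟨HilbPoly.dim_of_isPure hss.2.2.1 hss.1 hss.2.1, hss.2.2.1⟩, fun G ι hι hG hG0 φ ψ hφ hψ => ?_⟩
      haveI := hι
      have hφ' := HilbPoly.isHilbPoly_of_forall_int _ hφ
      have hψ' := HilbPoly.isHilbPoly_of_forall_int _ hψ
      have hαφ := HilbPoly.alpha_pos_ss hL hss hφ'
      have hαψ := HilbPoly.alpha_pos hL hG (hss.2.2.1 G ι hι hG hG0) hψ'
      refine (HilbPoly.w4_redLE_iff hαψ hαφ).2 ?_
      by_cases hiso : IsIso ι
      · rw [HilbPoly.isHilbPoly_unique (HilbPoly.hilb_iso (asIso ι) hψ') hφ']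
        exact HilbPoly.redLE_refl' φ
      · exact hss.2.2.2 G ι hι hG hG0 hiso ψ φ hψ' hφ'
    · intro A hA B hB B' hB' hAB hBB hno hno' ψ ψ' hψ hψ'
      obtain ⟨i, rfl, hi⟩ := hcov A hA B hB hAB hno
      subst hi
      obtain ⟨j, hj, rfl⟩ := hcov _ hB B' hB' hBB hno'
      have hij : j.castSucc = i.succ := s.strictMono.injective hj
      have h1 : ShStab.IsHilbPoly ℂ (CohB1.ProjSpace n ℂ) (HilbPoly.onePn ℂ n) (StabCat.factor s i) ψ :=
        HilbPoly.isHilbPoly_of_forall_int _ hψ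
      have h2 : ShStab.IsHilbPoly ℂ (CohB1.ProjSpace n ℂ) (HilbPoly.onePn ℂ n) (StabCat.factor s j) ψ' := by
        exact HilbPoly.hilb_iso (HilbPoly.factor_congr hj.symm _ _) (HilbPoly.isHilbPoly_of_forall_int _ hψ')
      have hlt := hs.2.2.2 i j (by have := congrArg Fin.val hij; simp at this; omega) ψ ψ' h1 h2
      exact (HilbPoly.w4_redLT_iff (HilbPoly.alpha_pos_ss hL (hs.2.2.1 j) h2)
        (HilbPoly.alpha_pos_ss hL (hs.2.2.1 i) h1)).2 hlt
    · rintro C' ⟨hbot, htop, hch, hcoh, hfac, hdec⟩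
      obtain ⟨t, ht⟩ := HilbPoly.exists_series_of_chain C' ⟨_, hbot⟩ hch
      have hno : ∀ i : Fin t.length, ∀ D ∈ C', ¬ (t i.castSucc < D ∧ D < t i.succ) := by
        intro i D hD
        obtain ⟨j, rfl⟩ := (ht D).1 hD
        exact HilbPoly.series_covering t i j
      have hin : ∀ j, t j ∈ C' := fun j => (ht _).2 ⟨j, rfl⟩
      have hqc : ∀ i : Fin t.length, Coh.IsCoh (StabCat.factor t i) := fun i =>
        QCoh.isCoh_cokernel (hcoh _ (hin _)).1 (hcoh _ (hin _)) _
      have htss : ∀ i : Fin t.length, ShStab.IsSemistable ℂ (CohB1.ProjSpace n ℂ) (HilbPoly.onePn ℂ n) (StabCat.factor t i) d := by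
        intro i
        obtain ⟨⟨hd, hpu⟩, hle⟩ := hfac _ (hin _) _ (hin _) (t.step i) (hno i)
        have hd' : topologicalKrullDim ↥(CohB1.support (StabCat.factor t i)) = (d : WithBot ℕ∞) := hd
        refine ⟨hqc i, fun hz => ?_, hpu, fun G ι hι hG hG0 hiso pG p hpG hp => ?_⟩
        · haveI : IsEmpty ↥(CohB1.support (StabCat.factor t i)) := by
            rw [QCoh.support_eq_empty_of_isZero hz (hqc i).1]; exact inferInstance
          haveI : IsEmpty (TopologicalSpace.IrreducibleCloseds ↥(CohB1.support (StabCat.factor t i))) :=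
            ⟨fun Z => isEmptyElim Z.isIrreducible.nonempty.some⟩
          unfold topologicalKrullDim at hd'; rw [Order.krullDim_eq_bot] at hd'
          exact WithBot.bot_ne_coe hd'
        · haveI := hι
          have hF0 : ¬ IsZero (StabCat.factor t i) := fun hz => hG0 (IsZero.of_mono ι hz)
          have hαp := HilbPoly.alpha_pos hL (hqc i) hd' hp
          have hαG := HilbPoly.alpha_pos hL hG (hpu G ι hι hG hG0) hpG
          exact (HilbPoly.w4_redLE_iff hαG hαp).1 (hle G ι hι hG hG0 p pG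
            (hint (hqc i) hd'.le hp) (hint hG (hpu G ι hι hG hG0).le hpG))
      have htHN : ShStab.IsHNFiltration ℂ (CohB1.ProjSpace n ℂ) (HilbPoly.onePn ℂ n) E d t := by
        refine ⟨?_, ?_, htss, fun i j hij p q hp hq => ?_⟩
        · obtain ⟨a, ha⟩ := (ht _).1 hbot
          exact le_bot_iff.1 ((t.monotone (Fin.zero_le a)).trans_eq ha)
        · obtain ⟨a, ha⟩ := (ht _).1 htop
          exact top_le_iff.1 (ha.symm.trans_le (t.monotone (Fin.le_last a)))
        · have hj : j.castSucc = i.succ := Fin.ext (by simp; omega)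
          have hlt2 : t i.succ < t j.succ := by rw [← hj]; exact t.step j
          refine (HilbPoly.w4_redLT_iff (HilbPoly.alpha_pos_ss hL (htss j) hq) (HilbPoly.alpha_pos_ss hL (htss i) hp)).1
            (hdec _ (hin _) _ (hin _) _ (hin j.succ) (t.step i) hlt2 (hno i)
              (by intro D hD; rw [← hj]; exact hno j D hD) p q
              (hint (htss i).1 (HilbPoly.dim_le_of_isPure (htss i).2.2.1 (htss i).1) hp) ?_)
          have e := HilbPoly.factor_congr (B := t j.succ) (congrArg t hj) (le_of_lt (t.step j)) hlt2.le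
          intro m
          rw [← HilbPoly.euler_of_iso e m]
          exact hint (htss j).1 (HilbPoly.dim_le_of_isPure (htss j).2.2.1 (htss j).1) hq m
      have := HilbPoly.HN_unique hL s t hs htHN
      subst this
      ext a
      rw [ht, hmem]

end Groth.Agent.S14972
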