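import Groth.Statements.S14979
import Groth.Agent.CoactOrbit.Quot
-- import your own Groth.Agent.* helpers here

set_option autoImplicit false
universe u
open CategoryTheory MonoidalCategory CartesianMonoidalCategory MonObj AlgebraicGeometry
open CoactBr

namespace Groth.Agent.S14979

/-- Let `R` be a local commutative ring, `A` a commutative Hopf algebra over `R` which is finite and
flat as an `R`-module (so `G = Spec A` is a finite flat group scheme over `S = Spec R`), and `B` a
commutative `R`-algebra with a coaction of `A` that is an algebra map (an action of `G` on `X = Spec
B`) whose ring of invariants is `R` itself: the structure map `R → B^A` is bijective, so that `S` is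
the quotient `Y = Spec B^A`. Let `K` be a field over `R` in which exactly the maximal ideal of `R`
vanishes and `x : B → K` an `R`-algebra map, a point of `X` over the closed point of `Y`. Then the
action is free — for every scheme `T` over `S`, every `T`-point of `G` fixing a `T`-point of `X` is
the unit — if and only if the inertia group scheme at `x` is trivial: for every `T` over `Spec K`,
every `T`-point of `G` fixing the point of `X` induced by `x` is the unit. (The published statement
does not say that `G` is finite over `S`; its proof uses it, and it is assumed here.) -/
theorem result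
    (R A B K : Type u) [CommRing R] [IsLocalRing R] [CommRing A] [HopfAlgebra R A]
    [Module.Flat R A] [Module.Finite R A]
    [CommRing B] [Algebra R B] [HopfRep.Comod R A B] [GLin.IsCoactAlg R A B]
    (hC : Function.Bijective (algebraMap R (GLin.invariants R A B)))
    [Field K] [Algebra R K] (hK : RingHom.ker (algebraMap R K) = IsLocalRing.maximalIdeal R)
    (x : B →ₐ[R] K) :
    (∀ (T : Over (Spec (CommRingCat.of R))) (ζ : T ⟶ CoactBr.sp R B) (g : T ⟶ CoactBr.sp R A),
        lift g ζ ≫ (CoactBr.action R A B).act = ζ → g = 1) ↔
      ∀ (T : Over (Spec (CommRingCat.of R))) (h : T ⟶ CoactBr.sp R K) (g : T ⟶ CoactBr.sp R A),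
        lift g (h ≫ CoactBr.pt x) ≫ (CoactBr.action R A B).act = h ≫ CoactBr.pt x → g = 1 := by
  haveI : Module.Free R A := Module.free_of_flat_of_isLocalRing
  exact ⟨fun hall T h g hg => hall T (h ≫ CoactBr.pt x) g hg,
    fun hx T ζ g hg => Groth.Agent.CoactOrbit.free_of_isLocalRing hC hK x hx T ζ g hg⟩

end Groth.Agent.S14979
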