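import Groth.Statements.S14982
import Groth.Agent.CoactOrbit.Quot
-- import your own Groth.Agent.* helpers here

set_option autoImplicit false
universe u
open CategoryTheory MonoidalCategory CartesianMonoidalCategory MonObj AlgebraicGeometry
open CoactBr

namespace Groth.Agent.S14982

/-- Let `R` be a commutative ring, `A` a commutative Hopf algebra over `R` which is finite locally free
as an `R`-module (`G = Spec A` a finite flat group scheme over `S = Spec R`), `B` a commutative
`R`-algebra with a coaction of `A` that is an algebra map (an action of `G` on `X = Spec B`), `C =
B^A` the ring of invariants and `π : X → Y = Spec C` the quotient map. Let `K` be a field over `R`,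
`x : B → K` an `R`-algebra map (a point of `X`) and `y` the image in `Y` of the point underlying
`x`. Then the inertia group scheme at `x` is trivial (for every scheme `T` over `Spec K`, every
`T`-point of `G` fixing the point of `X` induced by `x` is the unit) if and only if there is a flat
morphism locally of finite presentation `Y' → Y` whose image contains `y` and over which the action
becomes free: for every scheme `T` over `S` and every `T`-point `ζ` of `X` whose composite with `π`
lifts to `Y'`, every `T`-point of `G` fixing `ζ` is the unit (this is freeness of the base-changed
action of `G ×_S Y'` on `X ×_Y Y'`, written through points of `G` and `X`). (`G` finite flat is read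
as finite locally free. The published result also says that `X ×_Y Y'` is then a torsor under
`G_{Y'}` and gives a third equivalent condition, that after a further fppf base change the action is
induced from an action of the trivial group; neither is stated here.) -/
theorem result
    (R A B K : Type u) [CommRing R] [CommRing A] [HopfAlgebra R A]
    [Module.Flat R A] [Module.Finite R A] [Module.Projective R A]
    [CommRing B] [Algebra R B] [HopfRep.Comod R A B] [GLin.IsCoactAlg R A B]
    [Field K] [Algebra R K] (x : B →ₐ[R] K) :
    (∀ (T : Over (Spec (CommRingCat.of R))) (h : T ⟶ CoactBr.sp R K) (g : T ⟶ CoactBr.sp R A),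
        lift g (h ≫ CoactBr.pt x) ≫ (CoactBr.action R A B).act = h ≫ CoactBr.pt x → g = 1) ↔
      ∃ (Y' : Scheme.{u}) (c : Y' ⟶ Spec (CommRingCat.of (GLin.invariants R A B))),
        Flat c ∧ LocallyOfFinitePresentation c ∧
        (∃ y' : Y', c.base y' =
          (Spec.map (CommRingCat.ofHom (x.toRingHom.comp (GLin.invariants R A B).val.toRingHom))).base
            (IsLocalRing.closedPoint K)) ∧
        ∀ (T : Over (Spec (CommRingCat.of R))) (ζ : T ⟶ CoactBr.sp R B),
          (∃ t : T.left ⟶ Y', t ≫ c = ζ.left ≫ Spec.map (CommRingCat.ofHom (GLin.invariants R A B).val.toRingHom)) →
          ∀ g : T ⟶ CoactBr.sp R A, lift g ζ ≫ (CoactBr.action R A B).act = ζ → g = 1 := by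
  exact Groth.Agent.CoactOrbit.sfreeAt_iff_exists_flat_free x

end Groth.Agent.S14982
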