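import Groth.Statements.S14984
import Groth.Agent.ComodLib.Basic
import Mathlib.RingTheory.Bialgebra.TensorProduct
-- import your own Groth.Agent.* helpers here

set_option autoImplicit false
universe u v w
open HopfRep

namespace Groth.Agent.S14984

open TensorProduct

/-- `(c ⊗ b) ⊗ (c' ⊗ a) ↦ c'cb ⊗ a`. -/
noncomputable def psi (R : Type u) (A : Type v) (B : Type w) [CommRing R] [CommRing A] [HopfAlgebra R A]
    [CommRing B] [Algebra R B] [HopfRep.Comod R A B] [GLin.IsCoactAlg R A B] :
    (TensorProduct R (GLin.invariants R A B) B) ⊗[GLin.invariants R A B] (TensorProduct R (GLin.invariants R A B) A) →ₗ[R] B ⊗[R] A :=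
  (LinearMap.rTensor A (LinearMap.mul' R B ∘ₗ TensorProduct.map (GLin.invariants R A B).val.toLinearMap LinearMap.id)) ∘ₗ
    ((AlgebraTensorModule.cancelBaseChange R (GLin.invariants R A B) (GLin.invariants R A B)
      (TensorProduct R (GLin.invariants R A B) B) A).toLinearMap.restrictScalars R)

theorem psi_tmul (R : Type u) (A : Type v) (B : Type w) [CommRing R] [CommRing A] [HopfAlgebra R A]
    [CommRing B] [Algebra R B] [HopfRep.Comod R A B] [GLin.IsCoactAlg R A B]
    (x : TensorProduct R (GLin.invariants R A B) B) (c : GLin.invariants R A B) (a : A) :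
    psi R A B (x ⊗ₜ (c ⊗ₜ[R] a)) =
      ((c : B) * (LinearMap.mul' R B ∘ₗ TensorProduct.map (GLin.invariants R A B).val.toLinearMap LinearMap.id) x) ⊗ₜ[R] a := by
  show LinearMap.rTensor A _ ((c • x) ⊗ₜ[R] a) = _
  rw [LinearMap.rTensor_tmul]
  congr 1
  induction x using TensorProduct.induction_on with
  | zero => simp
  | add u w hu hw => simp only [smul_add, map_add, mul_add, hu, hw]
  | tmul p q => simp [TensorProduct.smul_tmul', mul_assoc]

set_option maxHeartbeats 1600000 in
set_option synthInstance.maxHeartbeats 200000 in

/-- Let `R` be a commutative ring, `A` a commutative Hopf algebra over `R`, flat as an `R`-module, `B` a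
commutative `R`-algebra with a coaction of `A` that is an algebra map (an action of `G = Spec A` on
`X = Spec B`), and `C = B^A` the ring of invariants. If the action base-changed along `R → C` — the
`C`-Hopf algebra `C ⊗ A` coacting on `C ⊗ B` — is tame, i.e. there is a `C`-linear comodule map `β :
C ⊗ A → C ⊗ B` (regular coaction on the source, base-changed coaction on the target) with `β 1 = 1`,
then the original action is tame: there is an `R`-linear comodule map `α : A → B` with `α 1 = 1`.
(The converse is the case `S = C` of stability of tameness under base change. The published lemma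
also lists, as a third equivalent condition, tameness of the action of `C ⊗ A` on `B` itself over
`C`; that condition is not stated here.) -/
theorem result
    (R : Type u) (A : Type v) (B : Type w)
    [CommRing R] [CommRing A] [HopfAlgebra R A] [Module.Flat R A]
    [CommRing B] [Algebra R B] [HopfRep.Comod R A B] [GLin.IsCoactAlg R A B]
    (h : ∃ β : TensorProduct R ↥(GLin.invariants R A B) A →ₗ[↥(GLin.invariants R A B)]
        TensorProduct R ↥(GLin.invariants R A B) B,
      @Hoch.IsComodHom ↥(GLin.invariants R A B) _ (TensorProduct R ↥(GLin.invariants R A B) A) _ _ _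
        (TensorProduct R ↥(GLin.invariants R A B) A) _ _
        (HopfRep.Comod.regular ↥(GLin.invariants R A B) (TensorProduct R ↥(GLin.invariants R A B) A))
        (TensorProduct R ↥(GLin.invariants R A B) B) _ _
        (CoactBr.Comod.baseChange R ↥(GLin.invariants R A B) A B) β ∧ β 1 = 1) :
    ∃ α : A →ₗ[R] B, Hoch.IsComodHom A α ∧ α 1 = 1 := by
  obtain ⟨β, hβ, h1⟩ := h
  let C := GLin.invariants R A B
  letI := CoactBr.Comod.baseChange R C A B
  let μ : TensorProduct R C B →ₗ[R] B := LinearMap.mul' R B ∘ₗ TensorProduct.map C.val.toLinearMap LinearMap.id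
  let α : A →ₗ[R] B := μ ∘ₗ β.restrictScalars R ∘ₗ TensorProduct.mk R C A 1
  refine ⟨α, ?_, ?_⟩
  · let Ψ : (TensorProduct R C B) ⊗[C] (TensorProduct R C A) →ₗ[R] B ⊗[R] A :=
      psi R A B
    have hΨ : ∀ (x : TensorProduct R C B) (c : C) (a : A), Ψ (x ⊗ₜ[C] (c ⊗ₜ[R] a)) = ((c : B) * μ x) ⊗ₜ[R] a :=
      fun x c a => psi_tmul R A B x c a
    have hco : ∀ y : TensorProduct R C B, HopfRep.Comod.coact (k := R) (A := A) (μ y) =
        Ψ ((CoactBr.Comod.baseChange R C A B).coact y) := by
      intro y
      induction y using TensorProduct.induction_on with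
      | zero => simp
      | add u w hu hw => simp only [map_add, hu, hw]
      | tmul c b =>
        rw [CoactBr.baseChange_coact_tmul]
        show HopfRep.Comod.coact (k := R) (A := A) ((c : B) * b) = _
        rw [GLin.IsCoactAlg.coact_mul, show HopfRep.Comod.coact (k := R) (A := A) (c : B) = (c : B) ⊗ₜ[R] (1 : A) from c.2]
        induction HopfRep.Comod.coact (k := R) (A := A) b using TensorProduct.induction_on with
        | zero => simp
        | add u w hu hw => simp only [mul_add, TensorProduct.tmul_add, map_add, hu, hw]
        | tmul u w =>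
          simp [hΨ, μ, Algebra.TensorProduct.tmul_mul_tmul]
          try rfl
    refine LinearMap.ext fun a => ?_
    show HopfRep.Comod.coact (k := R) (A := A) (μ (β ((1 : C) ⊗ₜ[R] a))) = α.rTensor A (CoalgebraStruct.comul (R := R) a)
    rw [hco, show (CoactBr.Comod.baseChange R C A B).coact (β ((1 : C) ⊗ₜ[R] a)) =
      β.rTensor (TensorProduct R C A) (CoalgebraStruct.comul (R := C) ((1 : C) ⊗ₜ[R] a)) from LinearMap.congr_fun hβ _,
      TensorProduct.comul_tmul, show CoalgebraStruct.comul (R := C) (1 : C) = (1 : C) ⊗ₜ[C] (1 : C) from rfl]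
    induction CoalgebraStruct.comul (R := R) a using TensorProduct.induction_on with
    | zero => simp
    | add u w hu hw => simp only [TensorProduct.tmul_add, map_add, hu, hw]
    | tmul u w =>
      simp [hΨ, α]
      refine (hΨ (β ((1 : C) ⊗ₜ[R] u)) 1 w).trans ?_
      simp
  · show μ (β ((1 : C) ⊗ₜ[R] (1 : A))) = 1
    rw [← Algebra.TensorProduct.one_def, h1, Algebra.TensorProduct.one_def]
    simp [μ]

end Groth.Agent.S14984
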