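import Groth.Statements.S14985
import Groth.Agent.BassCancel.Basic
import Mathlib.LinearAlgebra.TensorPower.Basic
import Mathlib.LinearAlgebra.TensorProduct.Pi
import Mathlib.Algebra.Module.FinitePresentation
import Mathlib.RingTheory.Spectrum.Prime.FreeLocus
import Mathlib.RingTheory.Finiteness.Projective
import Mathlib.Algebra.Polynomial.BigOperators
import Mathlib.Algebra.Polynomial.Div
import Mathlib.LinearAlgebra.Dimension.Constructions
set_option autoImplicit false
universe u
open CAlg

namespace Groth.Agent.S14985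

open scoped TensorProduct
open Polynomial

section
variable {R : Type u} [CommRing R] (P : Type u) [AddCommGroup P] [Module R P]

/-- The module attached to a family of exponents. -/
abbrev Md (R : Type u) [CommRing R] (P : Type u) [AddCommGroup P] [Module R P] {ι : Type} (w : ι → ℕ) : Type u :=
  (i : ι) → TensorPower R (w i) P

/-- The class of a family of exponents. -/
noncomputable def cls {ι : Type} [Fintype ι] (w : ι → ℕ) : ℤ[X] := ∑ i, X ^ w i

noncomputable def oneEquiv : P ≃ₗ[R] TensorPower R 1 P :=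
  (PiTensorProduct.subsingletonEquiv (R := R) (s := fun _ : Fin 1 => P) (0 : Fin 1)).symm

noncomputable def mdSum {ι κ : Type} (w : ι → ℕ) (v : κ → ℕ) :
    Md R P (Sum.elim w v) ≃ₗ[R] Md R P w × Md R P v :=
  LinearEquiv.sumPiEquivProdPi R ι κ fun st => TensorPower R (Sum.elim w v st) P

noncomputable def mdCongr {ι κ : Type} {w : ι → ℕ} {v : κ → ℕ} (e : ι ≃ κ) (h : ∀ i, v (e i) = w i) :
    Md R P w ≃ₗ[R] Md R P v :=
  (LinearEquiv.piCongrRight fun i => TensorPower.cast R P (h i).symm).trans
    (LinearEquiv.piCongrLeft R (fun j => TensorPower R (v j) P) e)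

noncomputable def mdMul {ι κ : Type} [Fintype ι] [Fintype κ] [DecidableEq ι] [DecidableEq κ]
    (w : ι → ℕ) (v : κ → ℕ) :
    Md R P w ⊗[R] Md R P v ≃ₗ[R] Md R P fun p : ι × κ => w p.1 + v p.2 :=
  (TensorProduct.comm R _ _).trans
    ((TensorProduct.piRight R R (Md R P v) fun i => TensorPower R (w i) P).trans
      ((LinearEquiv.piCongrRight fun i =>
        (TensorProduct.comm R _ _).trans
          ((TensorProduct.piRight R R (TensorPower R (w i) P) fun j => TensorPower R (v j) P).trans
            (LinearEquiv.piCongrRight fun j => TensorPower.mulEquiv))).trans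
        ({ toFun := fun f p => f p.1 p.2
           invFun := fun g i j => g (i, j)
           map_add' := fun _ _ => rfl
           map_smul' := fun _ _ => rfl } :
          ((i : ι) → (j : κ) → TensorPower R (w i + v j) P) ≃ₗ[R]
            ((p : ι × κ) → TensorPower R (w p.1 + v p.2) P))))

noncomputable def mdZero (N : ℕ) : Md R P (fun _ : Fin N => 0) ≃ₗ[R] (Fin N → R) :=
  LinearEquiv.piCongrRight fun _ => TensorPower.algebraMap₀.symm

noncomputable def mdSingle : Md R P (fun _ : Fin 1 => 1) ≃ₗ[R] P :=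
  (LinearEquiv.funUnique (Fin 1) R (TensorPower R 1 P)).trans (oneEquiv P).symm

theorem cls_sum {ι κ : Type} [Fintype ι] [Fintype κ] (w : ι → ℕ) (v : κ → ℕ) :
    cls (Sum.elim w v) = cls w + cls v := by simp [cls, Fintype.sum_sum_type]

theorem cls_mul {ι κ : Type} [Fintype ι] [Fintype κ] (w : ι → ℕ) (v : κ → ℕ) :
    cls (fun p : ι × κ => w p.1 + v p.2) = cls w * cls v := by
  simp only [cls, Fintype.sum_prod_type, Finset.sum_mul, Finset.mul_sum, pow_add]
  exact Finset.sum_comm

theorem nonempty_equiv_of_cls {ι κ : Type} [Fintype ι] [Fintype κ] {w : ι → ℕ} {v : κ → ℕ}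
    (h : cls w = cls v) : Nonempty (Md R P w ≃ₗ[R] Md R P v) := by
  classical
  have hc : ∀ j, Fintype.card {i // w i = j} = Fintype.card {i // v i = j} := by
    intro j
    have := congrArg (fun p : ℤ[X] => p.coeff j) h
    simp only [cls, finsetSum_coeff, coeff_X_pow, Finset.sum_boole, Nat.cast_inj] at this
    simp only [Fintype.card_subtype]
    simpa [eq_comm] using this
  exact ⟨mdCongr P (Equiv.ofFiberEquiv fun j => Fintype.equivOfCardEq (hc j))
    fun i => Equiv.ofFiberEquiv_map _ i⟩

/-- Differences of classes of families with isomorphic modules. -/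
def Rel (R : Type u) [CommRing R] (P : Type u) [AddCommGroup P] [Module R P] (f : ℤ[X]) : Prop :=
  ∃ (ι κ : Type) (_ : Fintype ι) (_ : Fintype κ) (w : ι → ℕ) (v : κ → ℕ),
    f = cls w - cls v ∧ Nonempty (Md R P w ≃ₗ[R] Md R P v)

variable {P}

theorem rel_add {f g : ℤ[X]} (hf : Rel R P f) (hg : Rel R P g) : Rel R P (f + g) := by
  obtain ⟨ι, κ, _, _, w, v, rfl, ⟨e⟩⟩ := hf
  obtain ⟨ι', κ', _, _, w', v', rfl, ⟨e'⟩⟩ := hg
  exact ⟨ι ⊕ ι', κ ⊕ κ', inferInstance, inferInstance, Sum.elim w w', Sum.elim v v',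
    by rw [cls_sum, cls_sum]; ring,
    ⟨(mdSum P w w').trans ((e.prodCongr e').trans (mdSum P v v').symm)⟩⟩

theorem rel_zero : Rel R P 0 :=
  ⟨Fin 0, Fin 0, inferInstance, inferInstance, Fin.elim0, Fin.elim0, by simp, ⟨LinearEquiv.refl R _⟩⟩

theorem rel_neg {f : ℤ[X]} (hf : Rel R P f) : Rel R P (-f) := by
  obtain ⟨ι, κ, _, _, w, v, rfl, ⟨e⟩⟩ := hf
  exact ⟨κ, ι, inferInstance, inferInstance, v, w, by ring, ⟨e.symm⟩⟩

theorem rel_X_pow_mul {f : ℤ[X]} (hf : Rel R P f) (d : ℕ) : Rel R P (X ^ d * f) := by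
  classical
  obtain ⟨ι, κ, _, _, w, v, rfl, ⟨e⟩⟩ := hf
  refine ⟨Fin 1 × ι, Fin 1 × κ, inferInstance, inferInstance, fun p => d + w p.2, fun p => d + v p.2,
    by rw [cls_mul (fun _ : Fin 1 => d) w, cls_mul (fun _ : Fin 1 => d) v]; simp [cls, mul_sub],
    ⟨(mdMul P (fun _ : Fin 1 => d) w).symm.trans
      ((TensorProduct.congr (LinearEquiv.refl R _) e).trans (mdMul P (fun _ : Fin 1 => d) v))⟩⟩

/-- The relations form an ideal. -/
noncomputable def relIdeal (R : Type u) [CommRing R] (P : Type u) [AddCommGroup P] [Module R P] : Ideal ℤ[X] where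
  carrier := {f | Rel R P f}
  zero_mem' := rel_zero
  add_mem' := rel_add
  smul_mem' := fun g f hf => by
    let S : AddSubgroup ℤ[X] :=
      { carrier := {f | Rel R P f}, zero_mem' := rel_zero, add_mem' := rel_add, neg_mem' := rel_neg }
    show g • f ∈ S
    rw [smul_eq_mul, g.as_sum_range_C_mul_X_pow, Finset.sum_mul]
    refine S.sum_mem fun d _ => ?_
    rw [mul_assoc, ← smul_eq_C_mul]
    exact S.zsmul_mem (rel_X_pow_mul hf d) _

/-- A matrix factorisation with given class. -/
def Pair (R : Type u) [CommRing R] (P : Type u) [AddCommGroup P] [Module R P] (c : R) (f : ℤ[X]) : Prop :=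
  ∃ (ι κ : Type) (_ : Fintype ι) (_ : Fintype κ) (w : ι → ℕ) (v : κ → ℕ)
    (a : Md R P w →ₗ[R] Md R P v) (b : Md R P v →ₗ[R] Md R P w),
    f = cls w - cls v ∧ b ∘ₗ a = c • LinearMap.id ∧ a ∘ₗ b = c • LinearMap.id

theorem pair_zero : Pair R P 0 1 :=
  ⟨Fin 1, Fin 0, inferInstance, inferInstance, fun _ => 0, Fin.elim0, 0, 0, by simp [cls], by simp, by simp⟩

theorem pair_smul {c : R} {f : ℤ[X]} (h : Pair R P c f) (t : R) : Pair R P (t * c) f := by
  obtain ⟨ι, κ, _, _, w, v, a, b, rfl, hba, hab⟩ := h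
  exact ⟨ι, κ, inferInstance, inferInstance, w, v, t • a, b, rfl,
    by rw [LinearMap.comp_smul, hba, smul_smul], by rw [LinearMap.smul_comp, hab, smul_smul]⟩

/-- Tensor product of matrix factorisations on abstract modules. -/
theorem tensor_fact {E O E' O' : Type u} [AddCommGroup E] [Module R E] [AddCommGroup O] [Module R O]
    [AddCommGroup E'] [Module R E'] [AddCommGroup O'] [Module R O']
    (a : E →ₗ[R] O) (b : O →ₗ[R] E) (a' : E' →ₗ[R] O') (b' : O' →ₗ[R] E') (c c' : R)
    (hba : b ∘ₗ a = c • LinearMap.id) (hab : a ∘ₗ b = c • LinearMap.id)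
    (hba' : b' ∘ₗ a' = c' • LinearMap.id) (hab' : a' ∘ₗ b' = c' • LinearMap.id) :
    ∃ (A : (E ⊗[R] E') × (O ⊗[R] O') →ₗ[R] (O ⊗[R] E') × (E ⊗[R] O'))
      (B : (O ⊗[R] E') × (E ⊗[R] O') →ₗ[R] (E ⊗[R] E') × (O ⊗[R] O')),
      B ∘ₗ A = (c + c') • LinearMap.id ∧ A ∘ₗ B = (c + c') • LinearMap.id := by
  have k1 : ∀ x, b (a x) = c • x := fun x => LinearMap.congr_fun hba x
  have k2 : ∀ x, a (b x) = c • x := fun x => LinearMap.congr_fun hab x
  have k3 : ∀ x, b' (a' x) = c' • x := fun x => LinearMap.congr_fun hba' x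
  have k4 : ∀ x, a' (b' x) = c' • x := fun x => LinearMap.congr_fun hab' x
  refine ⟨((a.rTensor E').coprod (-(b'.lTensor O))).prod ((a'.lTensor E).coprod (b.rTensor O')),
    ((b.rTensor E').coprod (b'.lTensor E)).prod ((-(a'.lTensor O)).coprod (a.rTensor O')), ?_, ?_⟩
  · refine LinearMap.prod_ext (TensorProduct.ext' fun x y => ?_) (TensorProduct.ext' fun x y => ?_) <;>
      ext <;>
      simp [k1, k2, k3, k4, TensorProduct.tmul_smul, ← TensorProduct.smul_tmul', add_smul, add_comm]
  · refine LinearMap.prod_ext (TensorProduct.ext' fun x y => ?_) (TensorProduct.ext' fun x y => ?_) <;>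
      ext <;>
      simp [k1, k2, k3, k4, TensorProduct.tmul_smul, ← TensorProduct.smul_tmul', add_smul, add_comm]

theorem pair_add {c c' : R} {f g : ℤ[X]} (hf : Pair R P c f) (hg : Pair R P c' g) :
    Pair R P (c + c') (f * g) := by
  classical
  obtain ⟨ι, κ, _, _, w, v, a, b, rfl, hba, hab⟩ := hf
  obtain ⟨ι', κ', _, _, w', v', a', b', rfl, hba', hab'⟩ := hg
  obtain ⟨A, B, hBA, hAB⟩ := tensor_fact a b a' b' c c' hba hab hba' hab'
  let eE := ((mdMul (R := R) P w w').prodCongr (mdMul P v v')).trans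
    (mdSum P (fun p : ι × ι' => w p.1 + w' p.2) (fun p : κ × κ' => v p.1 + v' p.2)).symm
  let eO := ((mdMul (R := R) P v w').prodCongr (mdMul P w v')).trans
    (mdSum P (fun p : κ × ι' => v p.1 + w' p.2) (fun p : ι × κ' => w p.1 + v' p.2)).symm
  refine ⟨_, _, inferInstance, inferInstance, _, _, eO.toLinearMap ∘ₗ A ∘ₗ eE.symm.toLinearMap,
    eE.toLinearMap ∘ₗ B ∘ₗ eO.symm.toLinearMap,
    by rw [cls_sum, cls_sum, cls_mul w w', cls_mul v v', cls_mul v w', cls_mul w v']; ring,
    LinearMap.ext fun x => ?_, LinearMap.ext fun x => ?_⟩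
  · have := LinearMap.congr_fun hBA (eE.symm x)
    simp only [LinearMap.comp_apply, LinearEquiv.coe_coe, LinearEquiv.symm_apply_apply] at this ⊢
    rw [this]
    simp
  · have := LinearMap.congr_fun hAB (eO.symm x)
    simp only [LinearMap.comp_apply, LinearEquiv.coe_coe, LinearEquiv.symm_apply_apply] at this ⊢
    rw [this]
    simp

theorem pair_local [Module.Finite R P] [Module.Projective R P] (p : PrimeSpectrum R) (r : ℕ)
    (hr : Module.rankAtStalk (R := R) P p = r) :
    ∃ c, c ∉ p.asIdeal ∧ Pair R P c (X - C (r : ℤ)) := by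
  classical
  let S := p.asIdeal.primeCompl
  let loc : P →ₗ[R] LocalizedModule S P := LocalizedModule.mkLinearMap S P
  haveI : Module.FinitePresentation R P := Module.finitePresentation_of_projective R P
  haveI : Module.Free (Localization S) (LocalizedModule S P) := Module.free_of_flat_of_isLocalRing
  let bs := (Module.finBasis (Localization S) (LocalizedModule S P)).reindex (finCongr hr)
  choose mu hmu using fun i : Fin r => IsLocalizedModule.surj S loc (bs i)
  let T : S := ∏ i, (mu i).2
  let g : (Fin r → R) →ₗ[R] P :=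
    Fintype.linearCombination R fun i => (∏ j ∈ Finset.univ.erase i, (mu j).2 : S) • (mu i).1
  have hg : ∀ i, loc (g (Pi.single i 1)) = algebraMap R (Localization S) (T : R) • bs i := by
    intro i
    rw [algebraMap_smul, ← Submonoid.smul_def]
    simp only [g, Fintype.linearCombination_apply_single, one_smul, LinearMap.map_smul_of_tower]
    rw [← hmu i, ← mul_smul, mul_comm, Finset.mul_prod_erase Finset.univ (fun j => (mu j).2) (Finset.mem_univ i)]
  let lr : (Fin r → R) →ₗ[R] (Fin r → Localization S) :=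
    LinearMap.pi fun i => (Algebra.linearMap R (Localization S)) ∘ₗ LinearMap.proj i
  obtain ⟨q, s, hq⟩ := Module.FinitePresentation.exists_lift_of_isLocalizedModule S lr
    (bs.equivFun.toLinearMap.restrictScalars R ∘ₗ loc)
  have hq' : ∀ x, lr (q x) = s • bs.equivFun (loc x) := fun x => LinearMap.congr_fun hq x
  let c₀ : S := s * T
  have hqg : lr ∘ₗ q ∘ₗ g = lr ∘ₗ ((c₀ : R) • LinearMap.id) := by
    refine (Pi.basisFun R (Fin r)).ext fun i => funext fun j => ?_
    simp only [Pi.basisFun_apply, LinearMap.comp_apply, hq', hg, map_smul]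
    simp [c₀, lr, Submonoid.smul_def, Module.Basis.repr_self, Finsupp.single_apply, Pi.single_apply,
      Algebra.smul_def, eq_comm, mul_assoc]
    split <;> simp
  have hgq : loc ∘ₗ g ∘ₗ q = loc ∘ₗ ((c₀ : R) • LinearMap.id) := by
    refine LinearMap.ext fun x => ?_
    have h1 : loc (g (q x)) = T • ∑ i, lr (q x) i • bs i := by
      conv_lhs => rw [pi_eq_sum_univ' (q x)]
      rw [map_sum, map_sum, Finset.smul_sum]
      refine Finset.sum_congr rfl fun i _ => ?_
      rw [map_smul, map_smul, hg, algebraMap_smul, ← Submonoid.smul_def, smul_comm]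
      congr 1
      exact (algebraMap_smul (Localization S) (q x i) (bs i)).symm
    simp only [LinearMap.comp_apply, h1, hq', LinearMap.smul_apply, LinearMap.id_apply, map_smul]
    simp only [Pi.smul_apply, smul_assoc, ← Finset.smul_sum]
    rw [Module.Basis.sum_equivFun, ← mul_smul, mul_comm]
    rfl
  have hker : ∀ {N L : Type u} [AddCommGroup N] [Module R N] [AddCommGroup L] [Module R L] [Module.Finite R L]
      {L' : Type u} [AddCommGroup L'] [Module R L'] (l : N →ₗ[R] L') [IsLocalizedModule S l]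
      (f₁ f₂ : L →ₗ[R] N), l ∘ₗ f₁ = l ∘ₗ f₂ → ∃ d : S, d • f₁ = d • f₂ := by
    intro N L _ _ _ _ _ L' _ _ l _ f₁ f₂ h
    exact Module.Finite.exists_smul_of_comp_eq_of_isLocalizedModule S l f₁ f₂ h
  obtain ⟨d₁, hd₁⟩ := hker lr _ _ hqg
  obtain ⟨d₂, hd₂⟩ := hker loc _ _ hgq
  refine ⟨(d₁ : R) * d₂ * c₀, (d₁ * d₂ * c₀).2, ?_⟩
  refine ⟨Fin 1, Fin r, inferInstance, inferInstance, fun _ => 1, fun _ => 0,
    (mdZero P r).symm.toLinearMap ∘ₗ (((d₁ : R) * d₂) • q) ∘ₗ (mdSingle P).toLinearMap,
    (mdSingle P).symm.toLinearMap ∘ₗ g ∘ₗ (mdZero P r).toLinearMap,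
    by simp [cls], LinearMap.ext fun x => ?_, LinearMap.ext fun x => ?_⟩
  · have h := LinearMap.congr_fun hd₂ (mdSingle P x)
    simp only [Submonoid.smul_def, LinearMap.smul_apply, LinearMap.comp_apply, LinearMap.id_apply] at h
    simp only [LinearMap.comp_apply, LinearMap.smul_apply, LinearMap.id_apply, LinearEquiv.coe_coe,
      LinearEquiv.apply_symm_apply, map_smul, mul_smul]
    rw [← map_smul (mdSingle P).symm (d₂ : R), h]
    simp [mul_smul]
  · have h := LinearMap.congr_fun hd₁ (mdZero P r x)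
    simp only [Submonoid.smul_def, LinearMap.smul_apply, LinearMap.comp_apply, LinearMap.id_apply] at h
    simp only [LinearMap.comp_apply, LinearMap.smul_apply, LinearMap.id_apply, LinearEquiv.coe_coe,
      LinearEquiv.apply_symm_apply]
    rw [mul_comm (d₁ : R) (d₂ : R), mul_smul, h]
    simp [mul_smul, smul_comm (d₁ : R) (d₂ : R)]

theorem rel_pow_sub [Module.Finite R P] [Module.Projective R P] (r : ℕ)
    (hr : ∀ p : PrimeSpectrum R, Module.rankAtStalk (R := R) P p = r) :
    ∃ s : ℕ, (X - C (r : ℤ)) ^ s ∈ relIdeal R P := by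
  classical
  choose c hc hpair using fun p : PrimeSpectrum R => pair_local p r (hr p)
  have htop : Ideal.span (Set.range c) = ⊤ := by
    by_contra hne
    obtain ⟨m, hm, hle⟩ := Ideal.exists_le_maximal _ hne
    exact hc ⟨m, hm.isPrime⟩ (hle (Ideal.subset_span ⟨_, rfl⟩))
  obtain ⟨co, hco⟩ := Finsupp.mem_span_range_iff_exists_finsupp.1
    (show (1 : R) ∈ Submodule.span R (Set.range c) by
      rw [show Submodule.span R (Set.range c) = ⊤ from htop]; trivial)
  refine ⟨co.support.card, ?_⟩
  have hp : ∀ s : Finset (PrimeSpectrum R),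
      Pair R P (∑ i ∈ s, co i * c i) ((X - C (r : ℤ)) ^ s.card) := by
    intro s
    induction s using Finset.induction with
    | empty => simpa using pair_zero
    | insert i s hi ih =>
      rw [Finset.sum_insert hi, Finset.card_insert_of_notMem hi, pow_succ']
      exact pair_add (pair_smul (hpair i) (co i)) ih
  have h1 := hp co.support
  rw [show ∑ i ∈ co.support, co i * c i = 1 from hco] at h1
  obtain ⟨ι, κ, _, _, w, v, a, b, hf, hba, hab⟩ := h1
  refine ⟨ι, κ, inferInstance, inferInstance, w, v, hf, ⟨LinearEquiv.ofLinear a b ?_ ?_⟩⟩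
  · rw [hab, one_smul]
  · rw [hba, one_smul]

theorem tensorPower_succ (j : ℕ) : Nonempty ((P ⊗[R] TensorPower R j P) ≃ₗ[R] TensorPower R (j + 1) P) :=
  ⟨((TensorProduct.congr (oneEquiv P) (LinearEquiv.refl R _)).trans TensorPower.mulEquiv).trans
    (TensorPower.cast R P (Nat.add_comm 1 j))⟩

theorem tensorPower_props [Module.Finite R P] [Module.Projective R P] (j : ℕ) :
    Module.Finite R (TensorPower R j P) ∧ Module.Projective R (TensorPower R j P) := by
  induction j with
  | zero =>
    exact ⟨Module.Finite.equiv TensorPower.algebraMap₀, Module.Projective.of_equiv TensorPower.algebraMap₀⟩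
  | succ j ih =>
    obtain ⟨e⟩ := tensorPower_succ (R := R) (P := P) j
    obtain ⟨_, _⟩ := ih
    exact ⟨Module.Finite.equiv e, Module.Projective.of_equiv e⟩

theorem rank_tensor [Nontrivial R] {M N : Type u} [AddCommGroup M] [Module R M] [Module.Finite R M]
    [Module.Projective R M] [AddCommGroup N] [Module R N] [Module.Finite R N] [Module.Projective R N]
    (p : PrimeSpectrum R) :
    Module.rankAtStalk (R := R) (M ⊗[R] N) p =
      Module.rankAtStalk (R := R) M p * Module.rankAtStalk (R := R) N p := by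
  let A := Localization.AtPrime p.asIdeal
  haveI : Module.Free A (A ⊗[R] M) := Module.free_of_flat_of_isLocalRing
  haveI : Module.Free A (A ⊗[R] N) := Module.free_of_flat_of_isLocalRing
  simp only [Module.rankAtStalk_eq_finrank_tensorProduct]
  rw [(TensorProduct.AlgebraTensorModule.distribBaseChange R A M N).finrank_eq, Module.finrank_tensorProduct]

theorem rank_power [Nontrivial R] [Module.Finite R P] [Module.Projective R P] (p : PrimeSpectrum R) (j : ℕ) :
    Module.rankAtStalk (R := R) (TensorPower R j P) p = Module.rankAtStalk (R := R) P p ^ j := by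
  induction j with
  | zero =>
    rw [← Module.rankAtStalk_eq_of_equiv (R := R) (TensorPower.algebraMap₀ (R := R) (M := P)),
      Module.rankAtStalk_self]
    simp
  | succ j ih =>
    obtain ⟨e⟩ := tensorPower_succ (R := R) (P := P) j
    obtain ⟨_, _⟩ := tensorPower_props (R := R) (P := P) j
    rw [← Module.rankAtStalk_eq_of_equiv e, rank_tensor, ih, pow_succ']

theorem cancel_step {I : Ideal ℤ[X]} {x G : ℤ[X]} {M : ℤ} (hG : x * G ∈ I) (hx : x ∣ G - C M) :
    ∀ j, ∀ a : ℕ, C M ^ a * x ^ (j + 1) ∈ I → C M ^ (a + j) * x ∈ I := by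
  intro j
  induction j with
  | zero => intro a h; simpa using h
  | succ j ih =>
    intro a h
    obtain ⟨H, hH⟩ := hx
    have h1 : C M ^ (a + 1) * x ^ (j + 1) = C M ^ a * x ^ j * (x * G) - H * (C M ^ a * x ^ (j + 1 + 1)) := by
      rw [eq_add_of_sub_eq hH]; ring
    have h2 := ih (a + 1) (h1 ▸ I.sub_mem (I.mul_mem_left _ hG) (I.mul_mem_left _ h))
    rwa [show a + (j + 1) = a + 1 + j by omega]

end

/-- Let R be a Noetherian commutative ring of finite Krull dimension and P a finitely generated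
projective R-module. If the n-th tensor power of P is free for some n ≥ 1, then the direct sum of N
copies of P is free for some N ≥ 1. -/
theorem result (R : Type u) [CommRing R] [IsNoetherianRing R]
    (hdim : ringKrullDim R < ⊤) (P : Type u) [AddCommGroup P] [Module R P] [Module.Finite R P]
    [Module.Projective R P] (n : ℕ) (hn : 1 ≤ n) (hfree : Module.Free R (TensorPower R n P)) :
    ∃ N : ℕ, 1 ≤ N ∧ Module.Free R (Fin N → P) := by
  classical
  rcases subsingleton_or_nontrivial R with hR | hR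
  · haveI := Module.subsingleton R (Fin 1 → P)
    exact ⟨1, le_rfl, Module.Free.of_subsingleton R _⟩
  rcases subsingleton_or_nontrivial P with hP | hP
  · exact ⟨1, le_rfl, Module.Free.of_subsingleton R _⟩
  obtain ⟨p₀⟩ : Nonempty (PrimeSpectrum R) := inferInstance
  set r := Module.rankAtStalk (R := R) P p₀
  have hrn : ∀ p, Module.finrank R (TensorPower R n P) = Module.rankAtStalk (R := R) P p ^ n := by
    intro p
    obtain ⟨_, _⟩ := tensorPower_props (R := R) (P := P) n
    haveI := hfree
    rw [← rank_power p n, Module.rankAtStalk_eq_finrank_of_free]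
    rfl
  have hr : ∀ p, Module.rankAtStalk (R := R) P p = r := fun p =>
    Nat.pow_left_injective (by omega) ((hrn p).symm.trans (hrn p₀))
  have hr0 : r ≠ 0 := by
    intro h0
    have : Module.rankAtStalk (R := R) P = 0 := funext fun p => by rw [hr p, h0]; rfl
    rw [Module.rankAtStalk_eq_zero_iff_subsingleton] at this
    exact not_subsingleton P this
  obtain ⟨d, hd⟩ : ∃ d : ℕ, ringKrullDim R ≤ d := by
    have h0 : ringKrullDim R ≠ ⊥ := fun h => by
      have h1 := ringKrullDim_nonneg_of_nontrivial (R := R)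
      rw [h] at h1; simp at h1
    obtain ⟨e, he⟩ := WithBot.ne_bot_iff_exists.1 h0
    rw [← he] at hdim
    obtain ⟨d, rfl⟩ := WithTop.ne_top_iff_exists.1 (WithBot.coe_lt_coe.1 hdim).ne
    exact ⟨d, by rw [← he]; rfl⟩
  set x : ℤ[X] := X - C (r : ℤ) with hx
  have hn' : X ^ n - C ((r : ℤ) ^ n) ∈ relIdeal R P := by
    obtain ⟨_, _⟩ := tensorPower_props (R := R) (P := P) n
    haveI := hfree
    let e : TensorPower R n P ≃ₗ[R] (Fin (r ^ n) → R) :=
      ((Module.finBasis R (TensorPower R n P)).reindex (finCongr (hrn p₀))).equivFun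
    exact ⟨Fin 1, Fin (r ^ n), inferInstance, inferInstance, fun _ => n, fun _ => 0, by simp [cls],
      ⟨(LinearEquiv.funUnique (Fin 1) R (TensorPower R n P)).trans (e.trans (mdZero P (r ^ n)).symm)⟩⟩
  set G : ℤ[X] := ∑ i ∈ Finset.range n, X ^ i * C (r : ℤ) ^ (n - 1 - i) with hG
  set M : ℤ := n * (r : ℤ) ^ (n - 1) with hM
  have hxG : x * G ∈ relIdeal R P := by
    rw [mul_comm, hG, hx, geom_sum₂_mul, ← C_pow]
    exact hn'
  have hGM : x ∣ G - C M := by
    rw [hx, Polynomial.dvd_iff_isRoot, Polynomial.IsRoot, eval_sub, eval_C, hG, eval_finsetSum, hM,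
      Finset.sum_congr rfl (fun i (hi : i ∈ Finset.range n) => (show eval (r : ℤ) (X ^ i * C (r : ℤ) ^ (n - 1 - i)) =
        (r : ℤ) ^ (n - 1) by
          rw [Finset.mem_range] at hi
          simp only [eval_mul, eval_pow, eval_X, eval_C, ← pow_add]
          congr 1
          omega))]
    simp
  obtain ⟨s, hs⟩ := rel_pow_sub (P := P) r hr
  have hkey := cancel_step hxG hGM s 0 (by
    rw [pow_zero, one_mul, pow_succ']; exact (relIdeal R P).mul_mem_left x hs)
  set N : ℕ := (d + 1) * (n * r ^ (n - 1)) ^ s with hN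
  have hNx : C (N : ℤ) * x ∈ relIdeal R P := by
    have := (relIdeal R P).mul_mem_left (C ((d + 1 : ℕ) : ℤ)) hkey
    rw [zero_add, ← mul_assoc, ← C_pow, ← C_mul] at this
    convert this using 3
    simp [hN, hM]
  have hNpos : 1 ≤ N := Nat.one_le_iff_ne_zero.2
    (Nat.mul_ne_zero (by omega) (pow_ne_zero _ (Nat.mul_ne_zero (by omega) (pow_ne_zero _ hr0))))
  obtain ⟨ι, κ, _, _, w, v, hwv, ⟨e⟩⟩ := hNx
  refine ⟨N, hNpos, ?_⟩
  have hcls : cls (Sum.elim (fun _ : Fin N => 1) v) = cls (Sum.elim (fun _ : Fin (N * r) => 0) w) := by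
    rw [cls_sum, cls_sum, show (cls fun _ : Fin N => 1) = C (N : ℤ) * X by simp [cls],
      show (cls fun _ : Fin (N * r) => 0) = C (N : ℤ) * C (r : ℤ) by simp [cls]]
    rw [hx, mul_sub] at hwv
    linear_combination hwv
  obtain ⟨e1⟩ := nonempty_equiv_of_cls (R := R) P hcls
  haveI : ∀ j : κ, Module.Finite R (TensorPower R (v j) P) := fun j => (tensorPower_props (v j)).1
  haveI : ∀ j : κ, Module.Projective R (TensorPower R (v j) P) := fun j => (tensorPower_props (v j)).2
  haveI : Module.Projective R (Π₀ j : κ, TensorPower R (v j) P) := inferInstance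
  haveI : Module.Projective R (Md R P v) :=
    Module.Projective.of_equiv (DFinsupp.linearEquivFunOnFintype (R := R) (M := fun j => TensorPower R (v j) P))
  obtain ⟨a, f, g, -, -, hfg⟩ := Module.Finite.exists_comp_eq_id_of_projective R (Md R P v)
  let Q := LinearMap.ker f
  have hsplit : ∀ x, f (g x) = x := fun x => LinearMap.congr_fun hfg x
  let eQ : (Md R P v × Q) ≃ₗ[R] (Fin a → R) :=
    { toFun := fun z => g z.1 + z.2
      map_add' := fun z z' => by simp; abel
      map_smul' := fun c z => by simp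
      invFun := fun y => (f y, ⟨y - g (f y), by simp [Q, hsplit]⟩)
      left_inv := fun z => by
        have hz : f (z.2 : Fin a → R) = 0 := z.2.2
        ext : 1
        · simp [hsplit, hz]
        · ext1; simp [hsplit, hz]
      right_inv := fun y => by simp }
  let e2 : ((Fin N → P) × Md R P v) ≃ₗ[R] ((Fin (N * r) → R) × Md R P v) :=
    ((LinearEquiv.piCongrRight fun _ => oneEquiv P).prodCongr (LinearEquiv.refl R _)).trans
      ((mdSum P (fun _ : Fin N => 1) v).symm.trans (e1.trans
        ((mdSum P (fun _ : Fin (N * r) => 0) w).trans ((mdZero P (N * r)).prodCongr e))))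
  let e3 : ((Fin N → P) × (Fin a → R)) ≃ₗ[R] ((Fin (N * r) → R) × (Fin a → R)) :=
    ((LinearEquiv.refl R (Fin N → P)).prodCongr eQ.symm).trans
      ((LinearEquiv.prodAssoc R _ _ _).symm.trans
        ((e2.prodCongr (LinearEquiv.refl R Q)).trans
          ((LinearEquiv.prodAssoc R _ _ _).trans ((LinearEquiv.refl R _).prodCongr eQ))))
  obtain ⟨E⟩ := BassCancel.cancel (P := (Fin (N * r) → R)) (n := N * r) hd (by
    have h1 : (d + 1) * 1 ≤ N := Nat.mul_le_mul_left _ (Nat.one_le_iff_ne_zero.2
      (pow_ne_zero _ (Nat.mul_ne_zero (by omega) (pow_ne_zero _ hr0))))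
    have h2 : N * 1 ≤ N * r := Nat.mul_le_mul_left _ (Nat.one_le_iff_ne_zero.2 hr0)
    omega) (fun q => by rw [Module.rankAtStalk_eq_finrank_of_free]; simp) a e3
  exact Module.Free.of_equiv E.symm

end Groth.Agent.S14985
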