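import Groth.Statements.S14988
import Groth.Agent.KFlatLib.Perfect.Tensor
import Groth.Agent.KFlatLib.Scheme.InnerHom

set_option autoImplicit false
universe u
open CategoryTheory CategoryTheory.Limits AlgebraicGeometry
open ResProp
open Groth.Agent.KFlatLib

namespace Groth.Agent.S14988

/-- In the case of schemes, let f : X ⟶ Y be a morphism of quasi-compact quasi-separated schemes. If
every quasi-coherent module on Y is a quotient of a direct sum of finite locally free modules (Y has
the resolution property) and some family (W_i) of finite locally free modules on X is f-generating,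
i.e. every quasi-coherent module on X is a quotient of a direct sum of modules W_i ⊗ f^*N with N
quasi-coherent on Y, then every quasi-coherent module on X is a quotient of a direct sum of finite
locally free modules (X has the resolution property). (The published statement is for quasi-compact
quasi-separated morphisms of algebraic stacks and assumes the family universally f-generating; this
row is the case of schemes and assumes the family only f-generating, which is what the argument
uses.) -/
theorem result {X Y : Scheme.{u}}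
    [CompactSpace X] [QuasiSeparatedSpace X] [CompactSpace Y] [QuasiSeparatedSpace Y] (f : X ⟶ Y)
    (hY : ∀ N : Y.Modules, Coh.IsQCoh N →
      ∃ (κ : Type u) (V : κ → Y.Modules) (π : (∐ V) ⟶ N), (∀ k, FlatMod.IsFinLocFree (V k)) ∧ Epi π)
    {ι : Type u} (W : ι → X.Modules) (hW : ∀ i, FlatMod.IsFinLocFree (W i))
    (hf : ∀ M : X.Modules, Coh.IsQCoh M →
      ∃ (κ : Type u) (j : κ → ι) (N : κ → Y.Modules)
        (π : (∐ fun k => CohB1.tensorMod (W (j k)) ((Scheme.Modules.pullback f).obj (N k))) ⟶ M),
        (∀ k, Coh.IsQCoh (N k)) ∧ Epi π) :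
    ∀ M : X.Modules, Coh.IsQCoh M →
      ∃ (κ : Type u) (E : κ → X.Modules) (π : (∐ E) ⟶ M), (∀ k, FlatMod.IsFinLocFree (E k)) ∧ Epi π := by
  intro M hM
  obtain ⟨κ, j, N, π, hN, hπ⟩ := hf M hM
  choose μ V ρ hV hρ using fun k => hY (N k) (hN k)
  haveI hpres : ∀ k, PreservesColimitsOfSize.{u, u}
      (Scheme.Modules.pullback f ⋙ (DCoh.tensorBi (X := X)).obj (W (j k))) := fun k =>
    haveI := preservesColimits_of_natIso (F := (DCoh.tensorBi (X := X)).flip.obj (W (j k)))
      ((tensorBiFlipIso X).app (W (j k)))
    inferInstance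
  let T : κ → (Y.Modules ⥤ X.Modules) := fun k => Scheme.Modules.pullback f ⋙ (DCoh.tensorBi (X := X)).obj (W (j k))
  refine ⟨Σ k, μ k, fun i => (T i.1).obj (V i.1 i.2),
    Sigma.desc (fun i => (T i.1).map (Sigma.ι (V i.1) i.2 ≫ ρ i.1) ≫
      (Sigma.ι (fun k => CohB1.tensorMod (W (j k)) ((Scheme.Modules.pullback f).obj (N k))) i.1 ≫ π : _ ⟶ M)),
    fun i => ?_, ⟨fun {Z} a b h => ?_⟩⟩
  · exact isFinLocFree_tensor (hW _) (isFinLocFree_pullback f (hV _ _))
  · rw [← cancel_epi π]
    refine Sigma.hom_ext _ _ fun k => ?_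
    haveI := hρ k
    haveI : PreservesColimitsOfShape (Discrete (μ k)) (T k) := (hpres k).preservesColimitsOfShape
    haveI : Epi ((T k).map (ρ k)) := (T k).map_epi (ρ k)
    change @Eq ((T k).obj (N k) ⟶ Z) _ _
    rw [← cancel_epi ((T k).map (ρ k)), ← cancel_epi (PreservesCoproduct.iso (T k) (V k)).inv]
    refine Sigma.hom_ext _ _ fun m => ?_
    have h' := Sigma.ι _ (⟨k, m⟩ : Σ k, μ k) ≫= h
    rw [Sigma.ι_desc_assoc, Sigma.ι_desc_assoc, Functor.map_comp] at h'
    rw [PreservesCoproduct.inv_hom, ι_comp_sigmaComparison_assoc, ι_comp_sigmaComparison_assoc]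
    simp only [Category.assoc] at h' ⊢
    let L := (T k).map (Sigma.ι (V k) m)
    let R := (T k).map (ρ k)
    exact (congrArg (fun x => L ≫ R ≫ x) (Category.assoc _ π a).symm).trans
      (h'.trans (congrArg (fun x => L ≫ R ≫ x) (Category.assoc _ π b)))

end Groth.Agent.S14988
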