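import Groth.Statements.S14989
import Groth.Agent.H9Misc.FlatCover
import Groth.Agent.FPEnough.Quot

set_option autoImplicit false
set_option backward.isDefEq.respectTransparency false
set_option backward.isDefEq.respectTransparency.types false
set_option linter.style.haveILetI false
universe u
open CategoryTheory CategoryTheory.Limits AlgebraicGeometry
open ResProp

namespace Groth.Agent.S14989

/-- In the case of schemes, on a Noetherian integral scheme Y with affine diagonal (any two affine opens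
meet in an affine open) every coherent module is a quotient of a torsion-free coherent module,
torsion-freeness meaning that each stalk is a torsion-free module over the local ring. (The
published statement is for Noetherian integral algebraic stacks with affine diagonal; this row is
the case of schemes.) -/
theorem result (Y : Scheme.{u}) [IsNoetherian Y] [IsIntegral Y]
    (hd : ∀ V W : Y.Opens, IsAffineOpen V → IsAffineOpen W → IsAffineOpen (V ⊓ W))
    (F : Y.Modules) (hF : Coh.IsCoh F) :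
    ∃ (F' : Y.Modules) (π : F' ⟶ F), Coh.IsCoh F' ∧
      (∀ y : Y, NoZeroSMulDivisors ↥(Y.presheaf.stalk y) ↥(F'.presheaf.stalk y)) ∧ Epi π := by
  classical
  obtain ⟨G, π, hG, hGf, hπ⟩ := H9Misc.FlatCover.exists_flat_cover hd hF.1
  haveI := hπ
  obtain ⟨t, ht⟩ := FPEnough.exists_finite_affine_cover (X := Y)
  suffices h : ∀ s : Finset Y.affineOpens, ∃ (H : Y.Modules) (ψ : H ⟶ G), Coh.IsQCoh H ∧ CohB1.IsFP H ∧
      ∀ a ∈ s, Function.Surjective ((ψ ≫ π).app a.1) by
    obtain ⟨H, ψ, hH, hfp, hsurj⟩ := h t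
    haveI : Epi (ψ ≫ π) := by
      refine Abelian.epi_of_cokernel_π_eq_zero _ ?_
      refine QCoh.hom_eq_zero_of_cover hF.1 (QCoh.isQCoh_cokernel hH hF.1 (ψ ≫ π)) _ (fun a : t => a.1.1)
        (fun a => a.1.2) (fun x => by obtain ⟨a, ha, hx⟩ := ht x; exact ⟨⟨a, ha⟩, hx⟩) fun a y => ?_
      obtain ⟨z, rfl⟩ := hsurj a.1 a.2 y
      exact congr(($(cokernel.condition (ψ ≫ π))).app a.1.1 z)
    have hI : Coh.IsCoh (Abelian.image ψ) :=
      QCoh.isCoh_of_epi (Abelian.factorThruImage ψ) ⟨hH, QCoh.isFT_of_isFP hfp⟩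
        (QCoh.isQCoh_kernel hG (QCoh.isQCoh_cokernel hH hG ψ) _)
    haveI : Epi (Abelian.image.ι ψ ≫ π) := by
      refine epi_of_epi_fac (f := Abelian.factorThruImage ψ) (h := ψ ≫ π) ?_
      rw [← Category.assoc, Abelian.image.fac]
    refine ⟨Abelian.image ψ, Abelian.image.ι ψ ≫ π, hI, fun y => ?_, inferInstance⟩
    haveI : Module.Flat (Y.presheaf.stalk y) ((DerSch.stalkFunctor Y y).obj G : Type u) := hGf y
    have hi : Function.Injective ((DerSch.stalkFunctor Y y).map (Abelian.image.ι ψ)).hom :=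
      (ModuleCat.mono_iff_injective _).1 inferInstance
    haveI : Module.IsTorsionFree (Y.presheaf.stalk y) ((DerSch.stalkFunctor Y y).obj G : Type u) :=
      inferInstance
    haveI : NoZeroSMulDivisors (Y.presheaf.stalk y) ((DerSch.stalkFunctor Y y).obj G : Type u) :=
      ⟨fun {c z} h => smul_eq_zero.1 h⟩
    exact Function.Injective.noZeroSMulDivisors
      (fun z => ((DerSch.stalkFunctor Y y).map (Abelian.image.ι ψ)).hom z) hi (map_zero _)
      (fun c z => map_smul _ c z)
  intro s
  induction s using Finset.induction with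
  | empty =>
    obtain ⟨H, ψ, hH, hfp, -⟩ := FPEnough.exists_isFP_range hG ⟨⊥, isAffineOpen_bot Y⟩ (S := ∅) Set.finite_empty
    exact ⟨H, ψ, hH, hfp, fun a ha => by simp at ha⟩
  | insert W s _ ih =>
    obtain ⟨H, ψ, hH, hfp, hsurj⟩ := ih
    haveI := QCoh.finite_of_isFT hF.1 hF.2 W.2
    obtain ⟨T, hT⟩ := Module.Finite.fg_top (R := Γ(Y, W.1)) (M := Γ(F, W.1))
    choose g hg using fun z : Γ(F, W.1) => QCoh.app_surjective_of_epi hG hF.1 π W.2 z
    obtain ⟨H', ψ', hH', hfp', hT'⟩ := FPEnough.exists_isFP_range hG W (T.finite_toSet.image g)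
    have hW : Function.Surjective ((ψ' ≫ π).app W.1) := fun y => by
      have hy : y ∈ Submodule.span Γ(Y, W.1) (T : Set Γ(F, W.1)) := hT ▸ trivial
      have hle : Submodule.span Γ(Y, W.1) (T : Set Γ(F, W.1)) ≤ LinearMap.range (QCoh.appLin (ψ' ≫ π) W.1) :=
        Submodule.span_le.2 fun z hz => by
          obtain ⟨x, hx⟩ := hT' ⟨z, hz, rfl⟩
          exact ⟨x, (congrArg (π.app W.1) hx).trans (hg z)⟩
      exact hle hy
    obtain ⟨hq, hfp''⟩ := FPEnough.isFP_biprod hH hfp hH' hfp'
    refine ⟨H ⊞ H', biprod.desc ψ ψ', hq, hfp'', fun a ha y => ?_⟩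
    rcases Finset.mem_insert.1 ha with rfl | ha
    · obtain ⟨x, hx⟩ := hW y
      exact ⟨(biprod.inr : H' ⟶ H ⊞ H').app a.1 x,
        (congrArg (π.app a.1) (congr(($(biprod.inr_desc ψ ψ')).app a.1 x))).trans hx⟩
    · obtain ⟨x, hx⟩ := hsurj a ha y
      exact ⟨(biprod.inl : H ⟶ H ⊞ H').app a.1 x,
        (congrArg (π.app a.1) (congr(($(biprod.inl_desc ψ ψ')).app a.1 x))).trans hx⟩

end Groth.Agent.S14989
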