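import Groth.Statements.S1499
import Groth.Agent.S7390
import Groth.Agent.AmpleX.Comp
import Groth.Agent.AmpleX.ExtendQS
-- import your own Groth.Agent.* helpers here

set_option autoImplicit false
set_option backward.isDefEq.respectTransparency false
set_option backward.isDefEq.respectTransparency.types false
universe u
attribute [local instance] HasDerivedCategory.standard
open FlatMor
open Groth.Agent.H23.PicMul

namespace Groth.Agent.S1499

open AlgebraicGeometry CategoryTheory Limits in
/-- Let f : X → Y with Y having an ample family of invertible modules, and suppose some O_X-module is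
ample relative to f. Then X has an ample family of invertible modules. -/
theorem result {X Y : Scheme.{u}} (f : X ⟶ Y)
    (hY : MoreMor.HasAmpleFamily Y) (L : X.Modules) (hL : RelAmple.IsRelAmple f L) :
    MoreMor.HasAmpleFamily X := by
  obtain ⟨hYc, hY'⟩ := hY
  haveI := hL.1
  haveI : IsSeparated f := Groth.Agent.AmpleX.isSeparated_of_ampleOn fun x =>
    Groth.Agent.AmpleX.ampleOn_of_isRelAmple hL (f x)
  have hd := Groth.Agent.S7390.result Y (fun y => by
    obtain ⟨L, n, s, hL, -, hy, ha⟩ := hY' y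
    exact ⟨CohB1.tensorPow L n, s, Groth.Agent.InvX.isInvertible_tensorPow hL n, hy, ha⟩)
  haveI : QuasiSeparatedSpace Y := by
    haveI := hd
    rw [quasiSeparatedSpace_iff_quasiSeparated]
    exact ⟨inferInstance⟩
  haveI : CompactSpace Y := hYc
  haveI : CompactSpace X := QuasiCompact.compactSpace_of_compactSpace f
  haveI : QuasiSeparatedSpace X := quasiSeparatedSpace_of_quasiSeparated f
  have hLi := Groth.Agent.AmpleX.isInvertible_of_isRelAmple hL
  refine ⟨inferInstance, fun x => ?_⟩
  obtain ⟨K, n, s, hK, hn, hy, ha⟩ := hY' (f x)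
  let P := (Scheme.Modules.pullback f).obj (CohB1.tensorPow K n)
  have hKn := Groth.Agent.InvX.isInvertible_tensorPow hK n
  have hP : PicF.IsInvertible P := Groth.Agent.PicClLib.isInvertible_pullback f hKn
  let b₀ : Γ(P, ⊤) := Groth.Agent.InvX.pullElt f (Groth.Agent.InvX.one s)
  let s' : Coh.structureModule X ⟶ P := Groth.Agent.InvX.ofSect b₀
  have hG : CohB1.genLocus P s' = f ⁻¹ᵁ CohB1.genLocus (CohB1.tensorPow K n) s := by
    rw [Groth.Agent.AmpleX.genLocus_eq_locus, Groth.Agent.InvX.one_ofSect,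
      Groth.Agent.AmpleX.genLocus_eq_locus]
    exact Groth.Agent.AmpleX.locus_pullElt hKn f _
  obtain ⟨m, hm, a, hxa, -, haaff⟩ := Groth.Agent.AmpleX.exists_sections_of_isRelAmple hL ha hy
    (U := ⊤) trivial
  have hM : PicF.IsInvertible (CohB1.tensorPow L m) := Groth.Agent.InvX.isInvertible_tensorPow hLi m
  let a' : Γ(CohB1.tensorPow L m, CohB1.genLocus P s') := Groth.Agent.AModX.res _ hG.le a
  have hla : Groth.Agent.AmpleX.locus a' = Groth.Agent.AmpleX.locus a := by
    rw [Groth.Agent.AmpleX.locus_res, inf_eq_left.2]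
    exact (Groth.Agent.AmpleX.locus_le a).trans hG.ge
  obtain ⟨N, hN⟩ := Groth.Agent.AmpleX.exists_extend'
    (Groth.Agent.ProjUPX.isQCoh_of_isInvertible hM) hP s' a'
  obtain ⟨T, hT⟩ := hN N le_rfl
  have hfr := Groth.Agent.AmpleX.isFrame_res_of_le (Groth.Agent.InvX.one s')
    (Groth.Agent.AmpleX.genLocus_eq_locus s').le
  have h1 : Groth.Agent.AmpleX.locus T ⊓ CohB1.genLocus P s' = Groth.Agent.AmpleX.locus a := by
    have h2 := congrArg Groth.Agent.AmpleX.locus hT
    rw [Groth.Agent.AmpleX.locus_res,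
      Groth.Agent.AmpleX.locus_tmul hM (Groth.Agent.InvX.isInvertible_tensorPow hP N)] at h2
    rw [h2, ← hla]
    refine inf_eq_left.2 ((Groth.Agent.AmpleX.locus_le _).trans (Groth.Agent.AmpleX.le_locus _ le_rfl ?_))
    rw [Groth.Agent.AModX.res_self]
    exact Groth.Agent.AmpleX.isFrame_powElt hfr N
  let Q := CohB1.tensorMod (CohB1.tensorMod (CohB1.tensorPow L m) (CohB1.tensorPow P N)) P
  have hQ : PicF.IsInvertible Q := Groth.Agent.H23.PicMul.isInvertible_tensor
    (Groth.Agent.H23.PicMul.isInvertible_tensor hM (Groth.Agent.InvX.isInvertible_tensorPow hP N)) hP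
  obtain ⟨c, hc⟩ := Groth.Agent.AmpleX.exists_locus_cl (N := CohB1.tensorPow Q 1)
    (show PicF.cl Q = _ by rw [Groth.Agent.H23.PicMul.cl_tensorPow, pow_one])
    (Groth.Agent.InvX.tmul T b₀ : Γ(Q, ⊤))
  have h4 : CohB1.genLocus _ (Groth.Agent.InvX.ofSect c) = Groth.Agent.AmpleX.locus a := by
    rw [Groth.Agent.AmpleX.genLocus_eq_locus, Groth.Agent.InvX.one_ofSect, hc,
      Groth.Agent.AmpleX.locus_tmul (Groth.Agent.H23.PicMul.isInvertible_tensor hM
        (Groth.Agent.InvX.isInvertible_tensorPow hP N)) hP, ← h1]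
    congr 1
    rw [Groth.Agent.AmpleX.genLocus_eq_locus, Groth.Agent.InvX.one_ofSect]
  exact ⟨Q, 1, Groth.Agent.InvX.ofSect c, hQ, le_rfl, h4.ge hxa, h4 ▸ haaff⟩

end Groth.Agent.S1499
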