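import Groth.Statements.S14994
import Mathlib.RingTheory.Localization.Module
import Mathlib.LinearAlgebra.Dual.Lemmas
import Mathlib.Algebra.Module.Torsion.Basic
import Mathlib.RingTheory.Localization.Finiteness

set_option autoImplicit false
universe u
open CAlg

namespace Groth.Agent.S14994
/-- A non-torsion element of a finite module over a domain is detected by a functional. -/
theorem exists_dual_ne_zero {A : Type u} [CommRing A] [IsDomain A] {P : Type u} [AddCommGroup P] [Module A P]
    [Module.Finite A P] (z : P) (hz : ∀ a : A, a ≠ 0 → a • z ≠ 0) : ∃ φ : P →ₗ[A] A, φ z ≠ 0 := by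
  classical
  let K := FractionRing A
  let V := LocalizedModule (nonZeroDivisors A) P
  let ι : P →ₗ[A] V := LocalizedModule.mkLinearMap (nonZeroDivisors A) P
  have hι : ι z ≠ 0 := fun h => by
    obtain ⟨c, hc⟩ := (IsLocalizedModule.eq_zero_iff (nonZeroDivisors A) ι).1 h
    exact hz c.1 (nonZeroDivisors.coe_ne_zero c) hc
  obtain ⟨ψ, hψ⟩ : ∃ ψ : Module.Dual K V, ψ (ι z) ≠ 0 := by
    by_contra! h
    exact hι ((Module.forall_dual_apply_eq_zero_iff K (ι z)).1 h)
  obtain ⟨r, s, hs⟩ := Submodule.fg_iff_exists_fin_generating_family.1 (Module.Finite.fg_top (R := A) (M := P))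
  obtain ⟨d, hd⟩ := IsLocalization.exist_integer_multiples_of_finite (nonZeroDivisors A) fun i => ψ (ι (s i))
  let χ : P →ₗ[A] K := (d : A) • ((ψ.restrictScalars A).comp ι)
  have hχ : ∀ p, χ p ∈ LinearMap.range (Algebra.linearMap A K) := by
    intro p
    have : (⊤ : Submodule A P).map χ ≤ LinearMap.range (Algebra.linearMap A K) := by
      rw [← hs, Submodule.map_span, Submodule.span_le]
      rintro _ ⟨_, ⟨i, rfl⟩, rfl⟩
      obtain ⟨a, ha⟩ := hd i
      exact ⟨a, ha⟩
    exact this ⟨p, Submodule.mem_top, rfl⟩
  let e := LinearEquiv.ofInjective (Algebra.linearMap A K) (IsFractionRing.injective A K)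
  refine ⟨e.symm.toLinearMap.comp (χ.codRestrict _ hχ), fun h => hψ ?_⟩
  have h1 : χ z = 0 := congrArg Subtype.val (e.symm.map_eq_zero_iff.1 h)
  exact (smul_eq_zero.1 h1).resolve_left (nonZeroDivisors.coe_ne_zero d)

/-- Let A be a Noetherian integrally closed domain, M a finitely generated torsion-free A-module, N a
submodule of M and ι : M → M** the canonical map to the double dual. Write N** → M** for the double
dual of the inclusion N → M. Then every m ∈ M whose image ι(m) lies in the image of N** is a torsion
element modulo N: some nonzero a ∈ A satisfies a·m ∈ N. In other words the preimage of N** under ι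
is contained in the saturation of N in M (the preimage of the torsion submodule of M/N), and the two
coincide when M/N is torsion-free. (The published statement asserts equality of the preimage with
the saturation for every N; for N = xA inside M = A = k[x] the saturation is all of M while N** has
image xA = N under the identification M** = M, so only the inclusion stated here holds, and it is
the inclusion later used, for saturated N, where the two sides agree.) -/
theorem result (A : Type u) [CommRing A] [IsDomain A]
    [IsNoetherianRing A] [IsIntegrallyClosed A]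
    (M : Type u) [AddCommGroup M] [Module A M] [Module.Finite A M] [NoZeroSMulDivisors A M]
    (N : Submodule A M) :
    (LinearMap.range N.subtype.dualMap.dualMap).comap (Module.Dual.eval A M) ≤
      (Submodule.torsion A (M ⧸ N)).comap N.mkQ := by
  intro m hm
  rw [Submodule.mem_comap] at hm ⊢
  obtain ⟨ξ, hξ⟩ := hm
  by_contra h
  obtain ⟨φ, hφ⟩ := exists_dual_ne_zero (N.mkQ m) fun a ha h0 =>
    h ((Submodule.mem_torsion_iff (N.mkQ m)).2 ⟨⟨a, mem_nonZeroDivisors_of_ne_zero ha⟩, h0⟩)
  refine hφ ?_
  have hz : N.subtype.dualMap (φ.comp N.mkQ) = 0 := by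
    ext x
    simp [(Submodule.Quotient.mk_eq_zero N).2 x.2]
  have h2 := LinearMap.congr_fun hξ (φ.comp N.mkQ)
  rw [LinearMap.dualMap_apply, hz, map_zero] at h2
  exact h2.symm

end Groth.Agent.S14994
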