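import Groth.Statements.S14995
import Groth.Agent.Hartogs2.HomRestrict

set_option autoImplicit false
universe u
open CategoryTheory CategoryTheory.Limits AlgebraicGeometry
open Coherent

namespace Groth.Agent.S14995

/-- Let Y be a locally Noetherian scheme, E and F coherent O_Y-modules and U an open subset of Y such
that for every point y of Y outside U the stalk E_y has depth at least 2 as a module over the local
ring O_{Y,y}. Then restricting morphisms to U is a bijection from Hom(F, E) onto Hom(F|_U, E|_U).
(The published statement is the case F = E; this row allows any coherent F.) -/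
theorem result (Y : Scheme.{u}) [IsLocallyNoetherian Y]
    (E F : Y.Modules) (hE : Coh.IsCoh E) (hF : Coh.IsCoh F) (U : Y.Opens)
    (hdepth : ∀ y : Y, y ∉ U → (2 : ℕ∞) ≤ LocCoh.depth (Y.presheaf.stalk y) (E.presheaf.stalk y)) :
    Function.Bijective (fun φ : F ⟶ E => (Scheme.Modules.restrictFunctor U.ι).map φ) :=
  Hartogs2.restrict_map_bijective U hE hdepth F

end Groth.Agent.S14995
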