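import Groth.Statements.S14997
import Mathlib.Algebra.Polynomial.Taylor
import Mathlib.Algebra.BigOperators.Field
import Mathlib.Tactic.Linarith
import Mathlib.Tactic.FieldSimp

set_option autoImplicit false
open HilbPol

namespace Groth.Agent.S14997

theorem lex_le_iff_of_triangular {ℓ : ℕ} (x y x' y' : Fin ℓ → ℚ)
    (hT : ∀ j, (∀ i, i < j → x i = y i) → x' j - y' j = x j - y j) :
    toLex x ≤ toLex y ↔ toLex x' ≤ toLex y' := by
  by_cases h : x = y
  · have he : x' = y' := funext fun j => sub_eq_zero.1 (by rw [hT j fun i _ => congrFun h i, h, sub_self])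
    simp [h, he]
  · classical
    have hex : (Finset.univ.filter fun i => x i ≠ y i).Nonempty := by
      obtain ⟨i, hi⟩ := Function.ne_iff.1 h
      exact ⟨i, by simp [hi]⟩
    set i := (Finset.univ.filter fun i => x i ≠ y i).min' hex with hidef
    have hi : x i ≠ y i := by
      have := Finset.min'_mem _ hex
      rw [← hidef] at this
      simpa using this
    have hlt : ∀ j, j < i → x j = y j := fun j hj => by
      by_contra hne
      exact absurd (Finset.min'_le _ j (by simp [hne])) (not_le.2 hj)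
    have hlt' : ∀ j, j < i → x' j = y' j := fun j hj => by
      have := hT j fun l hl => hlt l (hl.trans hj)
      rw [hlt j hj, sub_self] at this
      exact sub_eq_zero.1 this
    have hdi := hT i hlt
    rcases lt_or_gt_of_ne hi with hxy | hxy
    · exact iff_of_true (le_of_lt ⟨i, hlt, hxy⟩) (le_of_lt ⟨i, hlt', show x' i < y' i by linarith⟩)
    · exact iff_of_false
        (not_le.2 (show toLex y < toLex x from ⟨i, fun j hj => (hlt j hj).symm, hxy⟩))
        (not_le.2 (show toLex (y') < toLex (x') from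
          ⟨i, fun j hj => (hlt' j hj).symm, show y' i < x' i by linarith⟩))

open Polynomial in
theorem normCoeff_diff (P : ℚ[X]) (a : ℚ) (d i : ℕ) (hd : P.natDegree ≤ d) :
    (P - P.comp (X - C a)).coeff i * (i.factorial : ℚ) =
      ∑ l ∈ Finset.range (d - i), -((-a) ^ (l + 1) / ((l + 1).factorial : ℚ)) *
        (P.coeff (i + (l + 1)) * ((i + (l + 1)).factorial : ℚ)) := by
  have hcomp : P.comp (X - C a) = taylor (-a) P := by rw [taylor_apply, map_neg, ← sub_eq_add_neg]
  have hh : (hasseDeriv i P).natDegree < d - i + 1 := by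
    have := natDegree_hasseDeriv_le P i
    omega
  rw [coeff_sub, hcomp, taylor_coeff, eval_eq_sum_range' hh, Finset.sum_range_succ']
  simp only [hasseDeriv_coeff, pow_zero, mul_one, zero_add, Nat.choose_self, Nat.cast_one, one_mul]
  rw [sub_add_cancel_right, neg_mul, Finset.sum_mul, ← Finset.sum_neg_distrib]
  refine Finset.sum_congr rfl fun l _ => ?_
  have hf : ((i + (l + 1)).choose i : ℚ) * (i.factorial : ℚ) * ((l + 1).factorial : ℚ) =
      ((i + (l + 1)).factorial : ℚ) := by
    have h := Nat.choose_mul_factorial_mul_factorial (show i ≤ i + (l + 1) by omega)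
    rw [Nat.add_sub_cancel_left] at h
    exact_mod_cast h
  have hne : ((l + 1).factorial : ℚ) ≠ 0 := by exact_mod_cast Nat.factorial_ne_zero _
  rw [← hf, add_comm (l + 1) i]
  field_simp

open Polynomial in
/-- Let d and ℓ be natural numbers with ℓ + 1 ≤ d, let a be a nonzero rational number and let P, Q be
polynomials with rational coefficients, both of degree exactly d. For a polynomial R of degree e
write R(m) = Σ_i α_i(R) m^i / i! (so α_i(R) = i! · coeff_i(R)) and let r_ℓ(R) ∈ ℚ^ℓ be the vector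
(α_{e−1}(R)/α_e(R), …, α_{e−ℓ}(R)/α_e(R)) of the ℓ coefficients after the leading one of the reduced
polynomial R/α_e(R), ordered lexicographically. The polynomials P(m) − P(m − a) and Q(m) − Q(m − a)
have degree d − 1, and r_ℓ(P) ≤ r_ℓ(Q) lexicographically if and only if r_ℓ(P(m) − P(m − a)) ≤
r_ℓ(Q(m) − Q(m − a)) lexicographically (hence the same with strict inequalities, by exchanging P and
Q). When P and Q are the Hilbert polynomials of pure d-dimensional coherent sheaves E → F on a
polarized projective scheme and D is a hypersurface section of degree a containing no associated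
point of E or F, the Hilbert polynomials of E|_D and F|_D are P(m) − P(m − a) and Q(m) − Q(m − a),
and the two sides are the comparisons of the ℓ-truncated reduced Hilbert polynomials p_ℓ(E) ≥ p_ℓ(F)
and p_ℓ(E|_D) ≥ p_ℓ(F|_D). (The published statement is phrased for the sheaves; this row is the
statement about their Hilbert polynomials that the displayed coefficient formula yields.) -/
theorem result (d ℓ : ℕ) (hℓ : ℓ + 1 ≤ d) (a : ℚ) (ha : a ≠ 0)
    (P Q : ℚ[X]) (hP : P.natDegree = d) (hQ : Q.natDegree = d) (hP0 : P ≠ 0) (hQ0 : Q ≠ 0) :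
    toLex (fun j : Fin ℓ => ((P).coeff (d - 1 - (j : ℕ)) * (Nat.factorial (d - 1 - (j : ℕ)) : ℚ)) / ((P).coeff (d) * (Nat.factorial (d) : ℚ))) ≤ toLex (fun j : Fin ℓ => ((Q).coeff (d - 1 - (j : ℕ)) * (Nat.factorial (d - 1 - (j : ℕ)) : ℚ)) / ((Q).coeff (d) * (Nat.factorial (d) : ℚ))) ↔
      toLex (fun j : Fin ℓ => ((P - P.comp (X - C a)).coeff ((d - 1) - 1 - (j : ℕ)) * (Nat.factorial ((d - 1) - 1 - (j : ℕ)) : ℚ)) / ((P - P.comp (X - C a)).coeff ((d - 1)) * (Nat.factorial ((d - 1)) : ℚ))) ≤
        toLex (fun j : Fin ℓ => ((Q - Q.comp (X - C a)).coeff ((d - 1) - 1 - (j : ℕ)) * (Nat.factorial ((d - 1) - 1 - (j : ℕ)) : ℚ)) / ((Q - Q.comp (X - C a)).coeff ((d - 1)) * (Nat.factorial ((d - 1)) : ℚ))) := by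
  classical
  let β : ℚ[X] → ℕ → ℚ := fun R m => R.coeff m * (m.factorial : ℚ)
  have hne : ∀ R : ℚ[X], R.natDegree = d → R ≠ 0 → β R d ≠ 0 := fun R hR hR0 =>
    mul_ne_zero (by rw [← hR]; exact Polynomial.leadingCoeff_ne_zero.2 hR0)
      (by exact_mod_cast Nat.factorial_ne_zero d)
  have htop : ∀ R : ℚ[X], R.natDegree = d →
      (R - R.comp (Polynomial.X - Polynomial.C a)).coeff (d - 1) * ((d - 1).factorial : ℚ) = a * β R d := by
    intro R hR
    rw [normCoeff_diff R a d (d - 1) hR.le, show d - (d - 1) = 1 by omega, Finset.sum_range_one,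
      show d - 1 + (0 + 1) = d by omega]
    simp [β]
  refine lex_le_iff_of_triangular _ _ _ _ fun j hj => ?_
  have hjℓ : (j : ℕ) < ℓ := j.2
  show _ - _ = β P (d - 1 - j) / β P d - β Q (d - 1 - j) / β Q d
  rw [htop P hP, htop Q hQ, normCoeff_diff P a d _ hP.le, normCoeff_diff Q a d _ hQ.le,
    show d - (d - 1 - 1 - (j : ℕ)) = (j : ℕ) + 1 + 1 by omega, Finset.sum_range_succ' _ ((j : ℕ) + 1),
    Finset.sum_range_succ' _ ((j : ℕ) + 1)]
  rw [show d - 1 - 1 - (j : ℕ) + (0 + 1) = d - 1 - j by omega]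
  simp only [zero_add, pow_one, Nat.factorial_one, Nat.cast_one, div_one, neg_neg]
  have hsum : (∑ l ∈ Finset.range ((j : ℕ) + 1), -((-a) ^ (l + 1 + 1) / ((l + 1 + 1).factorial : ℚ)) *
        β P (d - 1 - 1 - j + (l + 1 + 1))) / (a * β P d) =
      (∑ l ∈ Finset.range ((j : ℕ) + 1), -((-a) ^ (l + 1 + 1) / ((l + 1 + 1).factorial : ℚ)) *
        β Q (d - 1 - 1 - j + (l + 1 + 1))) / (a * β Q d) := by
    rw [Finset.sum_div, Finset.sum_div]
    refine Finset.sum_congr rfl fun l hl => ?_
    have hl' : l < (j : ℕ) + 1 := Finset.mem_range.1 hl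
    have key : β P (d - 1 - 1 - j + (l + 1 + 1)) / β P d = β Q (d - 1 - 1 - j + (l + 1 + 1)) / β Q d := by
      by_cases hlj : l = j
      · rw [show d - 1 - 1 - (j : ℕ) + (l + 1 + 1) = d by omega, div_self (hne P hP hP0),
          div_self (hne Q hQ hQ0)]
      · have := hj ⟨j - l - 1, by omega⟩ (show (j : ℕ) - l - 1 < j by omega)
        rw [show d - 1 - 1 - (j : ℕ) + (l + 1 + 1) = d - 1 - (j - l - 1) by omega]
        exact this
    rw [mul_div_mul_comm, key, ← mul_div_mul_comm]
  have hP' := hne P hP hP0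
  have hQ' := hne Q hQ hQ0
  rw [add_div, add_div]
  change _ + a * β P (d - 1 - j) / (a * β P d) - (_ + a * β Q (d - 1 - j) / (a * β Q d)) = _
  rw [show ∀ x y z w : ℚ, x + y - (z + w) = (x - z) + (y - w) from fun x y z w => by ring, hsum, sub_self,
    zero_add, mul_div_mul_left _ _ ha, mul_div_mul_left _ _ ha]

end Groth.Agent.S14997
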