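import Groth.Statements.S9209
import Groth.Agent.MorLib.DenseValuative2

set_option autoImplicit false
universe u
open CategoryTheory CategoryTheory.Limits AlgebraicGeometry
open Lim

namespace Groth.Agent.S9209

open Groth.Agent.MorLib.DenseValuative in
theorem uniqueLifts_of_isSeparated {U X S : Scheme.{u}} (f : X ⟶ S) [IsSeparated f] (h : U ⟶ X) :
    UniqueLifts f h := by
  intro u V l₁ l₂ he h₁ h₂
  have hV : ValuativeCriterion.Uniqueness f :=
    (IsSeparated.eq_valuativeCriterion.le _ _ f ‹_›).1
  exact congrArg CommSq.LiftStruct.l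
    ((hV ⟨V, U.residueField u, U.fromSpecResidueField u ≫ h, l₁ ≫ f,
      ⟨by rw [← h₁, Category.assoc]; rfl⟩⟩).elim ⟨l₁, h₁, rfl⟩ ⟨l₂, h₂, he.symm⟩)


/-- Let S be a locally Noetherian scheme, f : X → S a separated morphism of finite type and h : U → X a
morphism of finite type whose image is dense in X. Suppose that for every discrete valuation ring A
with fraction field K and every commutative square formed by a morphism Spec K → U → X and a
morphism Spec A → S, there is a morphism Spec A → X making the resulting diagram commute. Then f is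
proper. -/
theorem result {X S U : Scheme.{u}} [IsLocallyNoetherian S] (f : X ⟶ S)
    [IsSeparated f] [LocallyOfFiniteType f] [QuasiCompact f] (h : U ⟶ X) [LocallyOfFiniteType h] [QuasiCompact h]
    (hd : DenseRange h.base)
    (H : ∀ (A : Type u) [CommRing A] [IsDomain A] [IsDiscreteValuationRing A]
      (u : Spec (CommRingCat.of (FractionRing A)) ⟶ U) (y : Spec (CommRingCat.of A) ⟶ S),
      u ≫ h ≫ f = Spec.map (CommRingCat.ofHom (algebraMap A (FractionRing A))) ≫ y →
        ∃ l : Spec (CommRingCat.of A) ⟶ X, l ≫ f = y ∧ Spec.map (CommRingCat.ofHom (algebraMap A (FractionRing A))) ≫ l = u ≫ h) :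
    IsProper f := by
  haveI : UniversallyClosed f := by
    refine UniversallyClosed.of_valuativeCriterion f
      (Groth.Agent.MorLib.DenseValuative.existence_of_dense f h hd ?_ (uniqueLifts_of_isSeparated f h))
    refine Groth.Agent.MorLib.DenseValuative.hasLifts_of_dvr f h fun u V y hV hy => ?_
    haveI := hV
    obtain ⟨e, he', he⟩ := Groth.Agent.Proj16.exists_fractionRing_spec V
    haveI := he'
    obtain ⟨l, hlf, hl⟩ := H V (e ≫ U.fromSpecResidueField u) y
      (by rw [← he, Category.assoc, Category.assoc, hy])
    refine ⟨l, hlf, ?_⟩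
    rw [← cancel_epi e, ← Category.assoc, he, hl, Category.assoc]
  exact {}

end Groth.Agent.S9209
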