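import Groth.Statements.S14998
import Groth.Agent.S9209
import Groth.Agent.S4450
import Groth.Agent.AlgSpVal.DvrThrough

set_option autoImplicit false
universe u
open CategoryTheory CategoryTheory.Limits AlgebraicGeometry
open AlgGrp

namespace Groth.Agent.S14998

open Groth.Agent in
set_option backward.isDefEq.respectTransparency false in
theorem exists_specializes {R S : Scheme.{u}} [CompactSpace ↥R] (f : R ⟶ S) [QuasiCompact f] {s : S}
    (hs : s ∈ closure (Set.range f)) : ∃ r, f r ⤳ s := by
  obtain ⟨V, hV, hsV, -⟩ := exists_isAffineOpen_mem_and_subset (x := s) (U := (⊤ : S.Opens)) trivial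
  haveI : IsAffine V.toScheme := hV
  haveI : CompactSpace ↥(f ⁻¹ᵁ V).toScheme :=
    isCompact_iff_compactSpace.mp (QuasiCompact.isCompact_preimage _ V.isOpen hV.isCompact)
  have h : (⟨s, hsV⟩ : V) ∈ closure (Set.range (f ∣_ V)) := by
    rw [V.ι.isOpenEmbedding.isInducing.closure_eq_preimage_closure_image]
    show s ∈ closure _
    refine closure_mono ?_ (V.isOpen.inter_closure ⟨hsV, hs⟩)
    rintro _ ⟨hy, r, rfl⟩
    exact ⟨(f ∣_ V) ⟨r, hy⟩, ⟨_, rfl⟩, congr($(morphismRestrict_ι f V) ⟨r, hy⟩)⟩
  obtain ⟨x, hx⟩ := AlgSpVal.exists_specializes_of_mem_closure_range (f ∣_ V) h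
  refine ⟨x.1, ?_⟩
  have h2 := hx.map V.ι.continuous
  have e : V.ι ((f ∣_ V) x) = f x.1 := congr($(morphismRestrict_ι f V) x)
  rwa [e] at h2

/-- Maps from a reduced scheme lift along surjective closed immersions. -/
theorem exists_lift {P R X : Scheme.{u}} (c : P ⟶ R) [IsClosedImmersion c] [Surjective c] [IsReduced X]
    (g : X ⟶ R) : ∃ g' : X ⟶ P, g' ≫ c = g := by
  haveI : IsIso (pullback.fst g c) := isIso_of_isClosedImmersion_of_surjective _
  exact ⟨inv (pullback.fst g c) ≫ pullback.snd g c, by
    rw [Category.assoc, ← pullback.condition, IsIso.inv_hom_id_assoc]⟩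

/-- Let k be a field and G a group scheme over k (a group object of schemes over Spec k) acting on a
k-scheme R of finite type. Let f : R → S and q : S → T be morphisms of k-schemes of finite type such
that q is separated, f is invariant under the action, and the composite p = q ∘ f is G-universally
closed: p is invariant and for every discrete valuation ring A over k with fraction field K, every
K-point of R and A-point of T over k forming a commutative square with p admit an A-point of R over
T restricting on Spec K to a translate of the given K-point by a K-point of G. Then the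
set-theoretic image f(R) is closed in S, and the reduced closed subscheme of S with underlying set
f(R) is proper over T. (The published statement fixes a connected algebraic group over the complex
numbers; this row allows any group scheme over any field, which is what the printed argument uses.) -/
theorem result (k : Type u) [Field k]
    (G R S T : Over (Spec (CommRingCat.of k))) [GrpObj G]
    [LocallyOfFiniteType R.hom] [CompactSpace ↥R.left] [LocallyOfFiniteType S.hom] [CompactSpace ↥S.left]
    [LocallyOfFiniteType T.hom] [CompactSpace ↥T.left]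
    (a : AlgGrp.Action G R) (f : R ⟶ S) (q : S ⟶ T) [IsSeparated q.left]
    (hf : W4c2lssmoduli.IsInvariantMor a f) (hp : W4c2lssmoduli.IsGUnivClosed a (f ≫ q)) :
    IsClosed (Set.range f.left.base) ∧
      IsProper ((Scheme.IdealSheafData.vanishingIdeal
          (⟨closure (Set.range f.left.base), isClosed_closure⟩ : TopologicalSpace.Closeds ↥S.left)).subschemeι ≫ q.left) := by
  haveI : IsLocallyNoetherian T.left := LocallyOfFiniteType.isLocallyNoetherian T.hom
  haveI : IsLocallyNoetherian S.left := LocallyOfFiniteType.isLocallyNoetherian S.hom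
  haveI : LocallyOfFiniteType f.left := by
    have : LocallyOfFiniteType (f.left ≫ S.hom) := by rw [Over.w f]; infer_instance
    exact locallyOfFiniteType_of_comp f.left S.hom
  haveI : LocallyOfFiniteType q.left := by
    have : LocallyOfFiniteType (q.left ≫ T.hom) := by rw [Over.w q]; infer_instance
    exact locallyOfFiniteType_of_comp q.left T.hom
  haveI : QuasiCompact f.left := inferInstance
  haveI : QuasiCompact q.left := inferInstance
  have key : ∀ (A : Type u) [CommRing A] [IsDomain A] [IsDiscreteValuationRing A]
      (K : Type u) [Field K] [Algebra A K] [IsFractionRing A K]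
      (u : Spec (CommRingCat.of K) ⟶ R.left) (y : Spec (CommRingCat.of A) ⟶ T.left),
      u ≫ f.left ≫ q.left = Spec.map (CommRingCat.ofHom (algebraMap A K)) ≫ y →
      ∃ i : Spec (CommRingCat.of A) ⟶ R.left, i ≫ f.left ≫ q.left = y ∧
        Spec.map (CommRingCat.ofHom (algebraMap A K)) ≫ i ≫ f.left = u ≫ f.left := by
    intro A _ _ _ K _ _ _ u y he
    have hu : u ≫ R.hom = Spec.map (CommRingCat.ofHom (algebraMap A K)) ≫ y ≫ T.hom := by
      rw [← reassoc_of% he, ← Over.w f, ← Over.w q]
    let g : Over.mk (Spec.map (CommRingCat.ofHom (algebraMap A K)) ≫ y ≫ T.hom) ⟶ R := Over.homMk u hu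
    obtain ⟨i, γ, hi, hγ⟩ := hp.2 A K (y ≫ T.hom) g (Over.homMk y rfl) (Over.OverMorphism.ext he)
    refine ⟨i.left, congr($(hi).left), ?_⟩
    have h1 := congrArg (fun m => (m ≫ f).left) hγ
    have h2 : (CartesianMonoidalCategory.lift γ g ≫ a.act) ≫ f = g ≫ f := by
      rw [Category.assoc, hf, CartesianMonoidalCategory.lift_snd_assoc]
    rw [h2] at h1
    simpa [g] using h1
  have hcl : IsClosed (Set.range f.left.base) := by
    refine isClosed_of_closure_subset fun s hs => ?_
    obtain ⟨r, hr⟩ := exists_specializes f.left hs
    by_cases he : s = f.left r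
    · exact ⟨r, he.symm⟩
    obtain ⟨A, h, hA, hhs, hgen⟩ := Groth.Agent.S4450.result f.left r s hr he
    obtain ⟨i, hi1, hi2⟩ := key A (R.left.residueField r) (R.left.fromSpecResidueField r) (h ≫ q.left) (by
      rw [← Category.assoc, ← hgen, Category.assoc]; rfl)
    haveI : IsDominant (Spec.map (CommRingCat.ofHom (algebraMap A (R.left.residueField r)))) :=
      ⟨(PrimeSpectrum.denseRange_comap_iff_ker_le_nilRadical (f := algebraMap A (R.left.residueField r))).mpr (by
        rw [(RingHom.injective_iff_ker_eq_bot _).mp (IsFractionRing.injective A (R.left.residueField r))]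
        exact bot_le)⟩
    have e : i ≫ f.left = h := ext_of_isDominant_of_isSeparated q.left (by rw [Category.assoc]; exact hi1)
      (Spec.map (CommRingCat.ofHom (algebraMap A (R.left.residueField r)))) (hi2.trans hgen.symm)
    exact ⟨i (IsLocalRing.closedPoint A), congr($e (IsLocalRing.closedPoint A)).trans hhs⟩
  refine ⟨hcl, ?_⟩
  set I := Scheme.IdealSheafData.vanishingIdeal
    (⟨closure (Set.range f.left.base), isClosed_closure⟩ : TopologicalSpace.Closeds ↥S.left) with hI
  have hrange : Set.range I.subschemeι = Set.range f.left.base := by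
    rw [Scheme.IdealSheafData.range_subschemeι]
    simp [I, hcl.closure_eq]
  let P := pullback f.left I.subschemeι
  haveI : Surjective (pullback.fst f.left I.subschemeι) := ⟨fun r => by
    have : r ∈ Set.range (pullback.fst f.left I.subschemeι) := by
      rw [Scheme.Pullback.range_fst]
      show f.left r ∈ Set.range I.subschemeι
      rw [hrange]; exact ⟨r, rfl⟩
    exact this⟩
  have hd : DenseRange (pullback.snd f.left I.subschemeι).base := fun z => subset_closure (by
    have : z ∈ Set.range (pullback.snd f.left I.subschemeι) := by
      rw [Scheme.Pullback.range_snd]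
      show I.subschemeι z ∈ Set.range f.left
      have := Set.mem_range_self (f := I.subschemeι) z
      rwa [hrange] at this
    exact this)
  haveI : QuasiCompact I.subschemeι := inferInstance
  refine Groth.Agent.S9209.result (I.subschemeι ≫ q.left) (pullback.snd f.left I.subschemeι) hd
    fun A _ _ _ u y he => ?_
  rw [← pullback.condition_assoc, ← Category.assoc] at he
  obtain ⟨i, hi1, hi2⟩ := key A (FractionRing A) (u ≫ pullback.fst f.left I.subschemeι) y he
  obtain ⟨l, hl⟩ := exists_lift (pullback.fst f.left I.subschemeι) i
  refine ⟨l ≫ pullback.snd f.left I.subschemeι, ?_, ?_⟩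
  · rw [Category.assoc, ← pullback.condition_assoc, ← Category.assoc, hl]; exact hi1
  · rw [← cancel_mono I.subschemeι]
    simp only [Category.assoc, ← pullback.condition]
    rw [reassoc_of% hl, hi2, Category.assoc]

end Groth.Agent.S14998
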