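import Groth.Statements.S14999
import Groth.Agent.Rat20Lib.DVRDom
import Groth.Agent.S0573
import Groth.Agent.NagataLib.Field

set_option autoImplicit false
universe u
open CategoryTheory CategoryTheory.Limits AlgebraicGeometry
open AlgGrp

namespace Groth.Agent.S14999

set_option backward.isDefEq.respectTransparency false
set_option backward.isDefEq.respectTransparency.types false

/-- A subalgebra generating a field as a field has it as fraction field. -/
theorem isFractionRing_of_closure {A K : Type u} [CommRing A] [Field K] [Algebra A K] (B : Subalgebra A K)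
    (h : ∀ z, z ∈ Subfield.closure (B : Set K)) : IsFractionRing B K := by
  refine IsFractionRing.of_field B K fun z => ?_
  obtain ⟨x, hx, y, hy, hxy⟩ := Subfield.mem_closure_iff.mp (h z)
  have hc : Subring.closure (B : Set K) = B.toSubring := Subring.closure_eq B.toSubring
  rw [hc] at hx hy
  exact ⟨⟨x, hx⟩, ⟨y, hy⟩, hxy.symm⟩

set_option maxHeartbeats 400000 in
/-- An element of the fraction field which is not integral over `A` lies outside a discrete valuation
subring containing the image of `A`. -/
theorem exists_dvr_notMem (A R K : Type u) [CommRing A] [IsNoetherianRing A] [CommRing R] [IsDomain R]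
    [Algebra A R] [Algebra.FiniteType A R] [Field K] [Algebra R K] [IsFractionRing R K] [Algebra A K]
    [IsScalarTower A R K] {σ : K} (hσ : ¬ IsIntegral A σ) :
    ∃ V : ValuationSubring K, IsDiscreteValuationRing V ∧ (∀ a, algebraMap A K a ∈ V) ∧ σ ∉ V := by
  classical
  obtain ⟨V₀, hV₀, hσV⟩ : ∃ V₀ : ValuationSubring K, (∀ a, algebraMap A K a ∈ V₀) ∧ σ ∉ V₀ := by
    by_contra hall
    push Not at hall
    refine hσ ?_
    have h1 : σ ∈ (⨅ V : {V : ValuationSubring K // Set.range (algebraMap A K) ⊆ V.toSubring}, V.1.toSubring) :=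
      Subring.mem_iInf.mpr fun V => hall V.1 fun a => V.2 ⟨a, rfl⟩
    rw [iInf_valuationSubring_superset] at h1
    obtain ⟨q, hqm, hq⟩ := (h1 : IsIntegral (Subring.closure (Set.range (algebraMap A K))) σ)
    have hl : q.map (Subring.subtype _) ∈ Polynomial.lifts (algebraMap A K) := by
      rw [Polynomial.lifts_iff_coeff_lifts]
      intro n
      rw [Polynomial.coeff_map]
      have hle : Subring.closure (Set.range (algebraMap A K)) ≤ (algebraMap A K).range :=
        Subring.closure_le.mpr fun x hx => hx
      exact hle (q.coeff n).2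
    obtain ⟨r, hr, -, hrm⟩ := Polynomial.lifts_and_degree_eq_and_monic hl (hqm.map _)
    refine ⟨r, hrm, ?_⟩
    rw [Polynomial.eval₂_eq_eval_map, hr, Polynomial.eval_map]
    exact hq
  have hσ0 : σ ≠ 0 := fun e => hσV (e ▸ V₀.zero_mem)
  obtain ⟨T, hT⟩ := Algebra.FiniteType.out (R := A) (A := R)
  let g : R → K := fun x => if algebraMap R K x ∈ V₀ then algebraMap R K x else (algebraMap R K x)⁻¹
  have hg : ∀ x, g x ∈ V₀ := fun x => by
    by_cases h : algebraMap R K x ∈ V₀
    · simp [g, h]
    · simpa [g, h] using (V₀.mem_or_inv_mem (algebraMap R K x)).resolve_left h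
  let B : Subalgebra A K := Algebra.adjoin A (insert σ⁻¹ ↑(T.image g))
  have hBV : ∀ b ∈ B, b ∈ V₀ := fun b hb => by
    induction hb using Algebra.adjoin_induction with
    | mem x hx =>
      rcases hx with rfl | hx
      · exact (V₀.mem_or_inv_mem σ).resolve_left hσV
      · obtain ⟨y, -, rfl⟩ := Finset.mem_image.mp hx
        exact hg y
    | algebraMap a => exact hV₀ a
    | add x y _ _ hx hy => exact V₀.add_mem _ _ hx hy
    | mul x y _ _ hx hy => exact V₀.mul_mem _ _ hx hy
  haveI : IsNoetherianRing B := by
    haveI : Algebra.FiniteType A B := (B.fg_iff_finiteType).mp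
      ⟨insert σ⁻¹ (T.image g), by rw [Finset.coe_insert]⟩
    exact Algebra.FiniteType.isNoetherianRing A B
  haveI : IsFractionRing B K := by
    refine isFractionRing_of_closure B fun z => ?_
    have hle : ∀ x : R, algebraMap R K x ∈ Subfield.closure (B : Set K) := fun x => by
      have hx : x ∈ Algebra.adjoin A (T : Set R) := by rw [hT]; trivial
      induction hx using Algebra.adjoin_induction with
      | mem y hy =>
        have hgy : g y ∈ Subfield.closure (B : Set K) :=
          Subfield.subset_closure (Algebra.subset_adjoin (Or.inr (Finset.mem_image_of_mem g hy)))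
        by_cases h : algebraMap R K y ∈ V₀
        · simpa [g, h] using hgy
        · simpa [g, h] using Subfield.inv_mem _ hgy
      | algebraMap a =>
        rw [← IsScalarTower.algebraMap_apply]
        exact Subfield.subset_closure (B.algebraMap_mem a)
      | add x y _ _ hx hy => rw [map_add]; exact add_mem hx hy
      | mul x y _ _ hx hy => rw [map_mul]; exact mul_mem hx hy
    obtain ⟨a, b, -, rfl⟩ := IsFractionRing.div_surjective (A := R) z
    exact div_mem (hle a) (hle b)
  obtain ⟨V, hV, hV'⟩ := Groth.Agent.Rat20Lib.exists_dvr_same_centre (A := B) V₀ (fun b => hBV b.1 b.2)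
    ⟨⟨σ⁻¹, Algebra.subset_adjoin (Or.inl rfl)⟩, fun e => inv_ne_zero hσ0 (congrArg Subtype.val e),
      (ValuationSubring.inv_mem_nonunits_iff _).mpr (Or.inr hσV)⟩
  refine ⟨V, hV, fun a => (hV' ⟨algebraMap A K a, B.algebraMap_mem a⟩).1, fun hmem => ?_⟩
  have := ((hV' ⟨σ⁻¹, Algebra.subset_adjoin (Or.inl rfl)⟩).2).mpr
    ((ValuationSubring.inv_mem_nonunits_iff _).mpr (Or.inr hσV))
  exact ((ValuationSubring.inv_mem_nonunits_iff _).mp this).elim hσ0 (fun h => h hmem)

theorem specMap_appTop {X : Scheme.{u}} {U : X.Opens} (hU : IsAffineOpen U) (s : Γ(X, ⊤)) :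
    (Scheme.ΓSpecIso Γ(X, U)).hom (hU.fromSpec.appTop s) = X.presheaf.map (homOfLE le_top).op s := by
  rw [← CommRingCat.comp_apply]
  congr 1
  congr 1
  have h := congrArg (fun p => Scheme.Hom.appTop p ≫ (Scheme.ΓSpecIso Γ(X, U)).hom) hU.fromSpec_toSpecΓ
  simp only [Scheme.Hom.comp_appTop, Scheme.toSpecΓ_appTop, Scheme.ΓSpecIso_naturality, Category.assoc] at h
  exact (cancel_epi _).mp h

/-- Let k be a field, A a finitely generated k-algebra and G a group scheme over k acting on an integral
k-scheme Y of finite type; let p : Y → Spec A be a morphism over k which is G-universally closed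
(invariant under the action, and for every discrete valuation ring over k with fraction field K
every commutative square of a K-point of Y and a point of Spec A with values in that ring lifts, up
to translation of the K-point by a K-point of G, to a point of Y with values in the ring). Call a
global function s on Y invariant when its pullbacks along the action morphism and along the
projection G ×_k Y → Y agree. Then the invariant global functions form a finite A-module: there are
finitely many invariant functions such that every invariant function is a linear combination of them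
with coefficients from A (acting on Γ(Y, O_Y) through p). (The published statement is for an
integral G-stable closed subscheme Y of a G-universally closed scheme over Spec A, with k the
complex numbers and G a connected algebraic group; such a Y is itself G-universally closed over Spec
A, and the printed argument uses only a field k and a group scheme G.) -/
theorem result (k : Type u) [Field k]
    (G Y : Over (Spec (CommRingCat.of k))) [GrpObj G]
    [LocallyOfFiniteType Y.hom] [CompactSpace ↥Y.left] [IsIntegral Y.left]
    (A : Type u) [CommRing A] [Algebra k A] [Algebra.FiniteType k A]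
    (a : AlgGrp.Action G Y)
    (p : Y ⟶ Over.mk (Spec.map (CommRingCat.ofHom (algebraMap k A))))
    (hp : W4c2lssmoduli.IsGUnivClosed a p) :
    ∃ t : Finset ↑Γ(Y.left, ⊤),
      (∀ s ∈ t, a.act.left.appTop s = (CartesianMonoidalCategory.snd G Y).left.appTop s) ∧
      ∀ s : ↑Γ(Y.left, ⊤), a.act.left.appTop s = (CartesianMonoidalCategory.snd G Y).left.appTop s →
        ∃ c : ↑Γ(Y.left, ⊤) → A,
          s = ∑ x ∈ t, ((Scheme.ΓSpecIso (CommRingCat.of A)).inv ≫ p.left.appTop) (c x) * x := by
  haveI : IsLocallyNoetherian Y.left := LocallyOfFiniteType.isLocallyNoetherian Y.hom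
  haveI : LocallyOfFiniteType p.left := by
    have : LocallyOfFiniteType (p.left ≫ Spec.map (CommRingCat.ofHom (algebraMap k A))) := by
      rw [show p.left ≫ Spec.map (CommRingCat.ofHom (algebraMap k A)) = Y.hom from Over.w p]; infer_instance
    exact locallyOfFiniteType_of_comp p.left (Spec.map (CommRingCat.ofHom (algebraMap k A)))
  haveI : IsNoetherianRing A := Algebra.FiniteType.isNoetherianRing k A
  haveI : IsAffine (Over.mk (Spec.map (CommRingCat.ofHom (algebraMap k A)))).left := inferInstanceAs (IsAffine (Spec (CommRingCat.of A)))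
  obtain ⟨U, hU, hxU, -⟩ := exists_isAffineOpen_mem_and_subset (x := genericPoint ↥Y.left) (U := (⊤ : Y.left.Opens)) trivial
  haveI : Nonempty U := ⟨⟨_, hxU⟩⟩
  haveI : Nonempty (⊤ : Y.left.Opens) := ⟨⟨genericPoint ↥Y.left, trivial⟩⟩
  let pl : Y.left ⟶ Spec (CommRingCat.of A) := p.left
  haveI : LocallyOfFiniteType pl := ‹LocallyOfFiniteType p.left›
  let φ : CommRingCat.of A ⟶ Γ(Y.left, U) := (Scheme.ΓSpecIso (CommRingCat.of A)).inv ≫ pl.appLE ⊤ U le_top
  letI : Algebra A Γ(Y.left, U) := φ.hom.toAlgebra
  haveI : Algebra.FiniteType A Γ(Y.left, U) := by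
    have h := HasRingHomProperty.appLE (P := @LocallyOfFiniteType) pl inferInstance ⟨⊤, isAffineOpen_top _⟩ ⟨U, hU⟩ le_top
    exact RingHom.finiteType_respectsIso.right _ (Scheme.ΓSpecIso (CommRingCat.of A)).symm.commRingCatIsoToRingEquiv h
  let R := Γ(Y.left, U)
  let K := FractionRing R
  have hφ : hU.fromSpec ≫ pl = Spec.map φ := by
    rw [← IsAffineOpen.SpecMap_appLE_fromSpec pl (isAffineOpen_top _) hU le_top, IsAffineOpen.fromSpec_top,
      Scheme.isoSpec_Spec_inv, ← Spec.map_comp]
  let res : Γ(Y.left, ⊤) →+* R := (Y.left.presheaf.map (homOfLE le_top).op).hom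
  have hres : Function.Injective res := by
    intro x y h
    apply Scheme.germToFunctionField_injective Y.left ⊤
    rw [← Y.left.presheaf.germ_res_apply (homOfLE (le_top : U ≤ ⊤)) _ hxU x,
      ← Y.left.presheaf.germ_res_apply (homOfLE (le_top : U ≤ ⊤)) _ hxU y]
    exact congrArg _ h
  have hint : ∀ s : Γ(Y.left, ⊤), a.act.left.appTop s = (CartesianMonoidalCategory.snd G Y).left.appTop s →
      IsIntegral A (res s) := by
    intro s hs
    rw [← isIntegral_algebraMap_iff (R := A) (FaithfulSMul.algebraMap_injective R K)]
    by_contra hn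
    obtain ⟨V, hV, hAV, hσV⟩ := exists_dvr_notMem A R K hn
    let ψ : A →+* V := (algebraMap A K).codRestrict V.toSubring hAV
    let sA : Spec (CommRingCat.of V) ⟶ Spec (CommRingCat.of k) :=
      Spec.map (CommRingCat.ofHom ψ) ≫ Spec.map (CommRingCat.ofHom (algebraMap k A))
    let η₁ : Spec (CommRingCat.of K) ⟶ Y.left := Spec.map (CommRingCat.ofHom (algebraMap R K)) ≫ hU.fromSpec
    have hη : η₁ ≫ pl = Spec.map (CommRingCat.ofHom (algebraMap V K)) ≫ Spec.map (CommRingCat.ofHom ψ) := by
      rw [Category.assoc, hφ, ← Spec.map_comp, ← Spec.map_comp]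
      rfl
    let g : Over.mk (Spec.map (CommRingCat.ofHom (algebraMap V K)) ≫ sA) ⟶ Y := Over.homMk η₁ (by
      show η₁ ≫ Y.hom = _
      rw [← Over.w p, ← Category.assoc, hη]
      rfl)
    obtain ⟨i, γ, -, hγ⟩ := hp.2 V K sA g (Over.homMk (Spec.map (CommRingCat.ofHom ψ)) rfl) (Over.OverMorphism.ext hη)
    have h1 : (Spec.map (CommRingCat.ofHom (algebraMap V K))).appTop (i.left.appTop s) = η₁.appTop s := by
      have h2 : (CartesianMonoidalCategory.lift γ g ≫ a.act).left.appTop s =
          (CartesianMonoidalCategory.lift γ g ≫ CartesianMonoidalCategory.snd G Y).left.appTop s := by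
        simp only [Over.comp_left, Scheme.Hom.comp_appTop, CommRingCat.comp_apply, hs]
      rw [← hγ, CartesianMonoidalCategory.lift_snd] at h2
      exact h2
    apply hσV
    have h3 := congrArg (Scheme.ΓSpecIso (CommRingCat.of K)).hom h1
    rw [← CommRingCat.comp_apply (Spec.map (CommRingCat.ofHom (algebraMap V K))).appTop, Scheme.ΓSpecIso_naturality,
      CommRingCat.comp_apply, Scheme.Hom.comp_appTop, CommRingCat.comp_apply,
      ← CommRingCat.comp_apply (Spec.map (CommRingCat.ofHom (algebraMap R K))).appTop, Scheme.ΓSpecIso_naturality,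
      CommRingCat.comp_apply] at h3
    have h5 := h3.trans (congrArg (CommRingCat.ofHom (algebraMap R K)) (specMap_appTop hU s))
    exact h5 ▸ SetLike.coe_mem _
  haveI : IsReduced Γ(Y.left, U) := inferInstance
  haveI : Module.Finite A (integralClosure A R) :=
    Groth.Agent.S0573.result A (Groth.Agent.NagataLib.isNagata_of_finiteType k A) R
  classical
  let Inv : Set Γ(Y.left, ⊤) := {s | a.act.left.appTop s = (CartesianMonoidalCategory.snd G Y).left.appTop s}
  have hfg : (Submodule.span A (res '' Inv)).FG := by
    refine Submodule.FG.of_le (T := Subalgebra.toSubmodule (integralClosure A R)) (Module.Finite.iff_fg.mp ‹_›) ?_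
    rw [Submodule.span_le]
    rintro _ ⟨s, hs, rfl⟩
    exact hint s hs
  obtain ⟨t', ht', hspan⟩ := (Submodule.fg_span_iff_fg_span_finset_subset _).mp hfg
  obtain ⟨t, ht, rfl⟩ := Finset.subset_set_image_iff.mp ht'
  refine ⟨t, fun s hs => ht hs, fun s hs => ?_⟩
  have hmem : res s ∈ Submodule.span A (↑(t.image res) : Set R) := hspan ▸ Submodule.subset_span ⟨s, hs, rfl⟩
  obtain ⟨c, -, hc⟩ := Submodule.mem_span_finset.mp hmem
  refine ⟨fun x => c (res x), hres ?_⟩
  rw [map_sum, ← hc, Finset.sum_image hres.injOn]
  refine Finset.sum_congr rfl fun x _ => ?_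
  rw [map_mul, Algebra.smul_def]
  rfl

end Groth.Agent.S14999
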