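import Groth.Statements.S4403
import Groth.Agent.TwistPull17.Basic
import Groth.Agent.Proj16.ConeData

set_option backward.isDefEq.respectTransparency false
set_option backward.isDefEq.respectTransparency.types false

set_option autoImplicit false
universe u
open CategoryTheory CategoryTheory.Limits AlgebraicGeometry
open EGA2

namespace Groth.Agent.S4403

/-- Let φ : S' → S be a homomorphism of rings graded in nonnegative degrees such that the irrelevant
ideal of S' is generated by its degree-one elements, G(φ) ⊆ Proj S the open on which the morphism Φ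
: G(φ) → Proj S' induced by φ is defined (Φ is characterised by its restrictions to the standard
charts), and n an integer. Then Φ^*(O(n)) is isomorphic to the restriction of O(n) from Proj S to
G(φ). (Existence of an isomorphism only; the published one is the canonical map ν.) -/
theorem result {R A : Type u} [CommRing R] [CommRing A] [Algebra R A] (𝒜 : ℕ → Submodule R A) [GradedAlgebra 𝒜]
    {B : Type u} [CommRing B] [Algebra R B] (ℬ : ℕ → Submodule R B) [GradedAlgebra ℬ] (φ : 𝒜 →+*ᵍ ℬ)
    (hgen : (HomogeneousIdeal.irrelevant 𝒜).toIdeal = Ideal.span (𝒜 1 : Set A))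
    (p : (PCone.dom φ : Scheme.{u}) ⟶ Proj 𝒜)
    (hp : ∀ (d : ℕ) (f : A) (hd : 0 < d) (hf : f ∈ 𝒜 d),
        PCone.chart φ hf hd ≫ p =
          Spec.map (CommRingCat.ofHom (HomogeneousLocalization.Away.map φ f)) ≫ Proj.awayι 𝒜 f hf hd)
    (n : ℤ) :
    Nonempty ((Scheme.Modules.pullback p).obj (Twist.twist 𝒜 n) ≅ (Twist.twist ℬ n).restrict (PCone.dom φ).ι) := by
  obtain rfl : p = (Groth.Agent.Proj16.pconeData 𝒜 ℬ φ).map := (Groth.Agent.Proj16.pconeData 𝒜 ℬ φ).eq_map hp
  have hq : Groth.Agent.TwistPull17.IsInduced φ (PCone.dom φ) (Groth.Agent.Proj16.pconeData 𝒜 ℬ φ).map :=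
    { preimage := fun d f hd hf => by
        rw [Groth.Agent.Proj16.pconeData_preimage 𝒜 ℬ φ hf hd]
        exact TopologicalSpace.Opens.ext (Groth.Agent.Proj16.pcone_range_chart 𝒜 ℬ φ hf hd)
      chart := fun d f hd hf => ⟨PCone.chart φ hf hd, IsOpenImmersion.lift_fac _ _ _, hp d f hd hf⟩ }
  refine hq.nonempty_pullback_iso (fun y => ?_) n
  by_contra h
  push Not at h
  refine y.3 fun x hx => ?_
  have hle : Ideal.span (𝒜 1 : Set A) ≤ y.asHomogeneousIdeal.toIdeal :=
    Ideal.span_le.2 fun a ha => not_not.1 (h a ha)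
  exact hle (hgen ▸ hx)

end Groth.Agent.S4403
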