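import Groth.Statements.S15000
import Groth.Agent.S4403
import Groth.Agent.LinProj5.Basic
import Groth.Agent.Proj16.Points
import Groth.Agent.PnCoh.Chow.Proper
import Groth.Agent.H23.PnChart
import Groth.Agent.S10829
import Groth.Agent.GrpSchLib.FieldDim
import Groth.Agent.VarDim.Top
import Groth.Agent.SegreX.Coord
-- import your own Groth.Agent.* helpers here

set_option autoImplicit false
universe u
open CategoryTheory CategoryTheory.Limits AlgebraicGeometry
open ProjDeg

set_option backward.isDefEq.respectTransparency false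
set_option backward.isDefEq.respectTransparency.types false
set_option linter.style.haveILetI false

namespace Groth.Agent.S15000

section
open HomogeneousLocalization
variable {k : Type u} [Field k] {n d : ℕ} (l : Fin (d + 1) → MvPolynomial (Fin (n + 1)) k)
  (hl : ∀ i, (l i).IsHomogeneous 1) {X : Scheme.{u}} (ι : X ⟶ CohB1.ProjSpace n k) [IsClosedImmersion ι]
  (hcov : ∀ x : X, ∃ i, ι x ∈ LinProj5.DD (l i))

/-- The linear projection is the closed immersion into the domain of the induced rational map followed by it. -/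
theorem proj_eq (j : X ⟶ (PCone.dom (LinProj5.gmap l hl) : Scheme.{u}))
    (hj : j ≫ (PCone.dom (LinProj5.gmap l hl)).ι = ι) :
    j ≫ (Proj16.pconeData _ _ (LinProj5.gmap l hl)).map = LinProj5.proj l hl ι hcov := by
  refine (LinProj5.data l hl ι hcov).hom_ext fun {m f} hf hm => ?_
  rw [LinProj5.proj, Proj16.ToProjData.chart_map]
  have hG := LinProj5.gmap_mem l hl hf
  have h1 : (LinProj5.isAffineOpen_pre l hl ι hf hm).fromSpec ≫ ι =
      Spec.map (LinProj5.awayTo (LinProj5.gmap l hl f) ≫ ι.app (LinProj5.DD (LinProj5.gmap l hl f))) ≫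
        Proj.awayι (CohB1.polyGrading n k) (LinProj5.gmap l hl f) hG hm := by
    rw [Spec.map_comp, Category.assoc, LinProj5.fromSpec_DD (G := LinProj5.gmap l hl f) hG hm,
      Scheme.Hom.app_eq_appLE, IsAffineOpen.SpecMap_appLE_fromSpec ι (LinProj5.isAffineOpen_DD hG hm)
      (LinProj5.isAffineOpen_pre l hl ι hf hm) le_rfl]
  have h2 : (LinProj5.isAffineOpen_pre l hl ι hf hm).fromSpec ≫ j =
      Spec.map (LinProj5.awayTo (LinProj5.gmap l hl f) ≫ ι.app (LinProj5.DD (LinProj5.gmap l hl f))) ≫
        PCone.chart (LinProj5.gmap l hl) hf hm := by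
    rw [← cancel_mono (PCone.dom (LinProj5.gmap l hl)).ι, Category.assoc, hj, Category.assoc, PCone.chart,
      IsOpenImmersion.lift_fac]
    exact h1
  show (LinProj5.isAffineOpen_pre l hl ι hf hm).fromSpec ≫ j ≫ _ =
    Spec.map (LinProj5.toRingX l hl ι f) ≫ Proj.awayι (CohB1.polyGrading d k) f hf hm
  rw [← Category.assoc (LinProj5.isAffineOpen_pre l hl ι hf hm).fromSpec, h2, Category.assoc]
  unfold LinProj5.toRingX
  rw [Spec.map_comp (CommRingCat.ofHom (Away.map (LinProj5.gmap l hl) f)), Category.assoc]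
  congr 1
  exact (Proj16.pconeData _ _ (LinProj5.gmap l hl)).chart_map hf hm

end

/-- Let k be an algebraically closed field and Y a closed subscheme of projective N-space over k, given
by a closed immersion ι compatible with the structure morphisms to Spec k, and suppose the
underlying topological space of Y has Krull dimension d. Then there is a morphism π : Y → P^d_k over
k which is finite and surjective and under which O(1) of P^d_k pulls back to a module isomorphic to
O_Y(1) = ι^*O(1). This row records the existence of such a finite surjective π together with the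
existence of an isomorphism π^*O(1) ≅ O_Y(1) (existence of an isomorphism only). -/
theorem result (k : Type u) [Field k] [IsAlgClosed k]
    (N d : ℕ) (Y : Scheme.{u}) (f : Y ⟶ Spec (CommRingCat.of k))
    (ι : Y ⟶ CohB1.ProjSpace N k) [IsClosedImmersion ι] (hι : ι ≫ CohB1.ProjSpace.toSpec N k = f)
    (hdim : topologicalKrullDim ↥Y = (d : WithBot ℕ∞)) :
    ∃ π : Y ⟶ CohB1.ProjSpace d k, π ≫ CohB1.ProjSpace.toSpec d k = f ∧ IsFinite π ∧ Function.Surjective π.base ∧
      Nonempty ((Scheme.Modules.pullback π).obj (Twist.twistProjSpace d k 1) ≅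
        (Scheme.Modules.pullback ι).obj (Twist.twistProjSpace N k 1)) := by
  haveI : AlgebraicGeometry.IsNoetherian (CohB1.ProjSpace N k) := Proj16.isNoetherian_proj _
  haveI : TopologicalSpace.NoetherianSpace Y := ι.isClosedEmbedding.isInducing.noetherianSpace
  obtain ⟨l, hl, hcov⟩ := LinProj5.exists_linear_cover (d := d) ι hdim
  let φ := LinProj5.gmap l hl
  let V := PCone.dom φ
  have hV : Set.range ι ⊆ Set.range V.ι := by
    rintro _ ⟨x, rfl⟩
    rw [Scheme.Opens.range_ι]
    obtain ⟨i, hi⟩ := hcov x
    refine TopologicalSpace.Opens.mem_iSup.2 ⟨⟨MvPolynomial.X i, 1, one_pos, MvPolynomial.isHomogeneous_X k i⟩, ?_⟩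
    show ι x ∈ Proj.basicOpen (CohB1.polyGrading N k) (φ (MvPolynomial.X i))
    rw [show φ (MvPolynomial.X i) = l i from MvPolynomial.aeval_X l i]
    exact hi
  let j : Y ⟶ (V : Scheme.{u}) := IsOpenImmersion.lift V.ι ι hV
  have hj : j ≫ V.ι = ι := IsOpenImmersion.lift_fac _ _ _
  let p := (Proj16.pconeData _ _ φ).map
  obtain ⟨e⟩ := S4403.result (CohB1.polyGrading d k) (CohB1.polyGrading N k) φ
    (le_antisymm ((SegreX.irrelevant_le_span d k).trans (Ideal.span_mono (Set.range_subset_iff.2
      fun i => MvPolynomial.isHomogeneous_X k i))) (Ideal.span_le.2 fun x hx => (HomogeneousIdeal.irrelevant_eq_span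
        (CohB1.polyGrading d k)).ge (Ideal.subset_span (Set.mem_iUnion₂.2 ⟨1, one_pos, hx⟩))))
    p (fun m f hm hf => (Proj16.pconeData _ _ φ).chart_map hf hm) 1
  let π := LinProj5.proj l hl ι hcov
  have hπ : π ≫ CohB1.ProjSpace.toSpec d k = ι ≫ CohB1.ProjSpace.toSpec N k := LinProj5.proj_toSpec l hl ι hcov
  have hfac : j ≫ p = π := proj_eq l hl ι hcov j hj
  haveI : IsAffineHom π := LinProj5.isAffineHom_proj l hl ι hcov
  haveI : IsProper (CohB1.ProjSpace.toSpec N k) := PnCoh.Chow.isProper_toSpec N k
  haveI : IsProper (CohB1.ProjSpace.toSpec d k) := PnCoh.Chow.isProper_toSpec d k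
  haveI : IsProper π := by
    haveI : IsProper (π ≫ CohB1.ProjSpace.toSpec d k) := hπ ▸ inferInstance
    exact IsProper.of_comp π (CohB1.ProjSpace.toSpec d k)
  haveI : IsFinite π := IsFinite.iff_isProper_and_isAffineHom.2 ⟨inferInstance, inferInstance⟩
  refine ⟨π, hπ.trans hι, inferInstance, fun y => ?_, ⟨?_⟩⟩
  · haveI : AlgebraicGeometry.IsIntegral (CohB1.ProjSpace d k) := H23.PnChart.isIntegral_projSpace d k
    have hdX : ⨆ x : Y, ((Order.height x : ℕ∞) : WithBot ℕ∞) = (d : WithBot ℕ∞) :=
      (VarDim.topologicalKrullDim_eq_iSup_height Y).symm.trans hdim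
    have hdP : ⨆ x : CohB1.ProjSpace d k, ((Order.height x : ℕ∞) : WithBot ℕ∞) = (d : WithBot ℕ∞) :=
      (VarDim.topologicalKrullDim_eq_iSup_height (CohB1.ProjSpace d k)).symm.trans (S10829.result k d)
    haveI : Nonempty Y := by
      by_contra h
      haveI := not_nonempty_iff.1 h
      rw [iSup_of_empty] at hdX
      exact WithBot.bot_ne_coe hdX
    obtain ⟨x, hx⟩ : ∃ x : Y, Order.height x = (d : ℕ∞) := by
      have h0 : (⨆ x : Y, Order.height x) = (d : ℕ∞) := by
        rw [← WithBot.coe_iSup (OrderTop.bddAbove _)] at hdX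
        exact WithBot.coe_injective hdX
      obtain ⟨x, hx⟩ := ENat.exists_eq_iSup_of_lt_top (f := fun x : Y => Order.height x)
        (by rw [h0]; exact WithTop.coe_lt_top d)
      exact ⟨x, hx.trans h0⟩
    have hgen : π x = genericPoint (CohB1.ProjSpace d k) := by
      by_contra hne
      have hlt : π x < genericPoint (CohB1.ProjSpace d k) :=
        lt_of_le_not_ge (genericPoint_specializes _ : _ ⤳ _) fun h => hne ((genericPoint_specializes (π x)).antisymm h).eq.symm
      have h1 := Order.height_add_one_le hlt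
      rw [← GrpSchLib.height_apply_of_isIntegralHom π x, hx] at h1
      have h2 : ((Order.height (genericPoint (CohB1.ProjSpace d k)) : ℕ∞) : WithBot ℕ∞) ≤ (d : WithBot ℕ∞) :=
        hdP ▸ le_iSup (fun x : CohB1.ProjSpace d k => ((Order.height x : ℕ∞) : WithBot ℕ∞)) _
      have h3 : Order.height (genericPoint (CohB1.ProjSpace d k)) ≤ (d : ℕ∞) := WithBot.coe_le_coe.1 h2
      have : d + 1 ≤ d := by exact_mod_cast h1.trans h3
      omega
    have hy : y ∈ closure ({genericPoint (CohB1.ProjSpace d k)} : Set _) :=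
      specializes_iff_mem_closure.1 (genericPoint_specializes y)
    exact closure_minimal (Set.singleton_subset_iff.2 (show genericPoint (CohB1.ProjSpace d k) ∈ Set.range π from ⟨x, hgen⟩)) π.isClosedMap.isClosed_range hy
  · exact (Scheme.Modules.pullbackCongr hfac.symm).app _ ≪≫ ((Scheme.Modules.pullbackComp j p).app _).symm ≪≫
      (Scheme.Modules.pullback j).mapIso (e ≪≫ (Scheme.Modules.restrictFunctorIsoPullback V.ι).app _) ≪≫
      (Scheme.Modules.pullbackComp j V.ι).app _ ≪≫ (Scheme.Modules.pullbackCongr hj).app _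

end Groth.Agent.S15000
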