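import Groth.Statements.S15003
import Groth.Agent.EtaleCount.Basic
import Groth.Agent.S10881
import Mathlib
-- import your own Groth.Agent.* helpers here

set_option autoImplicit false
universe u
open CategoryTheory CategoryTheory.Limits AlgebraicGeometry
open Harb

namespace Groth.Agent.S15003

/-- Let k be an algebraically closed field and let π : Y → X be a finite, surjective and unramified
k-morphism of smooth varieties over k (X and Y integral, separated and of finite type over k with
all local rings regular) which sends the generic point of Y to the generic point of X, so that the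
function field k(X) embeds in k(Y). Then for every closed point p of X the fibre π⁻¹(p) consists of
exactly deg π points, where deg π = [k(Y) : k(X)] is the degree of that field extension. -/
theorem result (k : Type u) [Field k] [IsAlgClosed k]
    (X Y : Scheme.{u}) [X.Over (Spec (CommRingCat.of k))] [Y.Over (Spec (CommRingCat.of k))]
    [IsIntegral X] [IsIntegral Y]
    [IsSeparated (X ↘ (Spec (CommRingCat.of k)))] [LocallyOfFiniteType (X ↘ (Spec (CommRingCat.of k)))]
    [QuasiCompact (X ↘ (Spec (CommRingCat.of k)))]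
    [IsSeparated (Y ↘ (Spec (CommRingCat.of k)))] [LocallyOfFiniteType (Y ↘ (Spec (CommRingCat.of k)))]
    [QuasiCompact (Y ↘ (Spec (CommRingCat.of k)))]
    (hregX : ∀ x : X, IsRegularLocalRing (X.presheaf.stalk x))
    (hregY : ∀ y : Y, IsRegularLocalRing (Y.presheaf.stalk y))
    (π : Y ⟶ X) (hπ : π ≫ (X ↘ (Spec (CommRingCat.of k))) = (Y ↘ (Spec (CommRingCat.of k))))
    [AlgebraicGeometry.IsFinite π] [AlgebraicGeometry.Surjective π] [AlgebraicGeometry.FormallyUnramified π]
    (e : π.base (genericPoint Y) = genericPoint X) (p : X) (hp : IsClosed ({p} : Set X)) :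
    Nat.card {q : Y // π.base q = p} =
      Models.homDegree (X.presheaf.stalkSpecializes (specializes_of_eq e) ≫ π.stalkMap (genericPoint Y)).hom := by
  classical
  haveI : IsLocallyNoetherian X := LocallyOfFiniteType.isLocallyNoetherian (X ↘ (Spec (CommRingCat.of k)))
  haveI : IsLocallyNoetherian Y := LocallyOfFiniteType.isLocallyNoetherian (Y ↘ (Spec (CommRingCat.of k)))
  haveI : Flat π := S10881.result π hregY hregX (fun Z hZ => by
    rw [irreducibleComponents_eq_singleton] at hZ ⊢
    rw [Set.mem_singleton_iff] at hZ ⊢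
    subst hZ
    rw [Set.image_univ, π.surjective.range_eq, closure_univ])
  obtain ⟨V, hV, hpV, -⟩ := exists_isAffineOpen_mem_and_subset (X := X) (x := p) (U := ⊤) trivial
  have hW : IsAffineOpen (π ⁻¹ᵁ V) := hV.preimage π
  obtain ⟨q₀, hq₀⟩ := π.surjective p
  haveI : Nonempty V := ⟨⟨p, hpV⟩⟩
  haveI : Nonempty (π ⁻¹ᵁ V : Y.Opens) := ⟨⟨q₀, show π q₀ ∈ V from hq₀ ▸ hpV⟩⟩
  haveI : IsDomain Γ(X, V) := inferInstance
  haveI : IsDomain Γ(Y, π ⁻¹ᵁ V) := inferInstance
  letI := (π.app V).hom.toAlgebra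
  haveI : Module.Finite Γ(X, V) Γ(Y, π ⁻¹ᵁ V) := IsFinite.finite_app π V hV
  haveI : Module.Flat Γ(X, V) Γ(Y, π ⁻¹ᵁ V) := by
    have h := π.flat_appLE hV hW le_rfl
    rw [Scheme.Hom.appLE_eq_app] at h
    exact h
  haveI : Algebra.FormallyUnramified Γ(X, V) Γ(Y, π ⁻¹ᵁ V) := by
    have h := π.formallyUnramified_appLE hV hW le_rfl
    rw [Scheme.Hom.appLE_eq_app] at h
    exact h
  haveI : IsNoetherianRing Γ(X, V) := IsLocallyNoetherian.component_noetherian ⟨V, hV⟩
  -- the residue field at `p`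
  let c : k →+* Γ(X, V) := ((X ↘ (Spec (CommRingCat.of k))).appLE ⊤ V le_top).hom.comp
    (Scheme.ΓSpecIso (CommRingCat.of k)).inv.hom
  have hc : c.FiniteType :=
    RingHom.FiniteType.comp ((X ↘ (Spec (CommRingCat.of k))).finiteType_appLE (isAffineOpen_top _) hV le_top)
      (RingHom.FiniteType.of_surjective _
        (Scheme.ΓSpecIso (CommRingCat.of k)).commRingCatIsoToRingEquiv.symm.surjective)
  letI := c.toAlgebra
  haveI : Algebra.FiniteType k Γ(X, V) := hc
  haveI := hV.primeIdealOf_isMaximal_of_isClosed ⟨p, hpV⟩ hp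
  haveI := EtaleCount.isAlgClosed_residueField k Γ(X, V) (hV.primeIdealOf ⟨p, hpV⟩).asIdeal
  -- the function fields
  haveI := functionField_isFractionRing_of_isAffineOpen X V hV
  haveI := functionField_isFractionRing_of_isAffineOpen Y (π ⁻¹ᵁ V) hW
  have hgX : genericPoint X ∈ V := ((genericPoint_spec X).mem_open_set_iff V.isOpen).mpr (by simpa using ⟨p, hpV⟩)
  have hgY : genericPoint Y ∈ π ⁻¹ᵁ V := show π (genericPoint Y) ∈ V from e ▸ hgX
  let ψ := X.presheaf.stalkSpecializes (specializes_of_eq e) ≫ π.stalkMap (genericPoint Y)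
  letI : Algebra X.functionField Y.functionField := ψ.hom.toAlgebra
  letI : Algebra Γ(X, V) Y.functionField :=
    ((algebraMap Γ(Y, π ⁻¹ᵁ V) Y.functionField).comp (π.app V).hom).toAlgebra
  haveI : IsScalarTower Γ(X, V) Γ(Y, π ⁻¹ᵁ V) Y.functionField := .of_algebraMap_eq fun _ => rfl
  haveI : IsScalarTower Γ(X, V) X.functionField Y.functionField := .of_algebraMap_eq fun a => by
    show Y.presheaf.germ (π ⁻¹ᵁ V) (genericPoint Y) hgY (π.app V a) =
      π.stalkMap (genericPoint Y) (X.presheaf.stalkSpecializes (specializes_of_eq e)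
        (X.presheaf.germ V (genericPoint X) hgX a))
    rw [TopCat.Presheaf.germ_stalkSpecializes_apply]
    exact (Scheme.Hom.germ_stalkMap_apply π V (genericPoint Y) hgY a).symm
  have hinj : Function.Injective (algebraMap Γ(X, V) Γ(Y, π ⁻¹ᵁ V)) := by
    refine Function.Injective.of_comp (f := algebraMap Γ(Y, π ⁻¹ᵁ V) Y.functionField) ?_
    have h : Function.Injective ((algebraMap X.functionField Y.functionField).comp
        (algebraMap Γ(X, V) X.functionField)) := by
      rw [RingHom.coe_comp]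
      exact (algebraMap X.functionField Y.functionField).injective.comp
        (IsFractionRing.injective Γ(X, V) X.functionField)
    rw [← IsScalarTower.algebraMap_eq, IsScalarTower.algebraMap_eq Γ(X, V) Γ(Y, π ⁻¹ᵁ V) Y.functionField] at h
    exact h
  have hcount := EtaleCount.card_fibre_eq_degree (B := Γ(Y, π ⁻¹ᵁ V)) hinj X.functionField Y.functionField
    (hV.primeIdealOf ⟨p, hpV⟩)
  refine Eq.trans ?_ hcount
  have hcomap : ∀ (q : Y) (hq : q ∈ π ⁻¹ᵁ V), PrimeSpectrum.comap (algebraMap Γ(X, V) Γ(Y, π ⁻¹ᵁ V))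
      (hW.primeIdealOf ⟨q, hq⟩) = hV.primeIdealOf ⟨π q, hq⟩ := by
    intro q hq
    have h := IsAffineOpen.comap_primeIdealOf_appLE (f := π) V hV (π ⁻¹ᵁ V) hW le_rfl hq
    rw [Scheme.Hom.appLE_eq_app] at h
    exact h
  refine Nat.card_congr (Equiv.ofBijective
    (fun q => ⟨hW.primeIdealOf ⟨q.1, show π q.1 ∈ V from q.2.symm ▸ hpV⟩, ?_⟩) ⟨?_, ?_⟩)
  · rw [Set.mem_preimage, hcomap, Set.mem_singleton_iff]
    exact congrArg hV.primeIdealOf (Subtype.ext q.2)
  · intro q q' h
    have h' := congrArg (fun z => hW.fromSpec z.1) h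
    simp only [IsAffineOpen.fromSpec_primeIdealOf] at h'
    exact Subtype.ext h'
  · rintro ⟨Q, hQ⟩
    have hQmem : hW.fromSpec Q ∈ π ⁻¹ᵁ V := by
      have : hW.fromSpec Q ∈ Set.range hW.fromSpec := ⟨Q, rfl⟩
      rwa [IsAffineOpen.range_fromSpec] at this
    have hQ' : hW.primeIdealOf ⟨hW.fromSpec Q, hQmem⟩ = Q :=
      hW.fromSpec.isOpenEmbedding.injective (hW.fromSpec_primeIdealOf _)
    have hπQ : π (hW.fromSpec Q) = p := by
      rw [Set.mem_preimage, Set.mem_singleton_iff, ← hQ', hcomap] at hQ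
      have := congrArg hV.fromSpec hQ
      rwa [hV.fromSpec_primeIdealOf, hV.fromSpec_primeIdealOf] at this
    exact ⟨⟨hW.fromSpec Q, hπQ⟩, Subtype.ext hQ'⟩

end Groth.Agent.S15003
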