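import Groth.Statements.S15005
import Groth.Agent.IncLib.Basic
import Mathlib.Order.Interval.Finset.Nat

set_option autoImplicit false
universe u v
open Harb

namespace Groth.Agent.S15005

/-- Let C be a finite family of d curves, recorded as an incidence relation between a type of points and
a finite index type, such that any two distinct curves of the family meet in exactly h points; let
t_k be the number of k-fold points (points lying on exactly k curves of the family). Then f₂ − f₁ =
Σ_{k ≥ 2} k(k − 1) t_k equals h d(d − 1), where f_i = Σ_{k ≥ 2} k^i t_k. (The published statement is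
for a transversal arrangement of curves on a geometrically ruled surface with invariant e, all
numerically equivalent to a C₀ + b f, where any two of the curves meet transversally in h = 2ab −
a²e points; only this common pairwise intersection count enters the proof, and this row states the
identity for an abstract incidence relation.) -/
theorem result (P : Type u) (ι : Type v) [Fintype ι]
    (inc : P → ι → Prop) (h : ℕ)
    (hfin : ∀ i j : ι, i ≠ j → {p : P | inc p i ∧ inc p j}.Finite)
    (hcount : ∀ i j : ι, i ≠ j → {p : P | inc p i ∧ inc p j}.ncard = h) :
    ∑ k ∈ Finset.Icc 2 (Fintype.card ι), k * (k - 1) * Nat.card {p : P // Nat.card {j : ι // inc p j} = k} =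
      h * (Fintype.card ι * (Fintype.card ι - 1)) := by
  classical
  rw [← IncLib.sum_sq hfin hcount]
  simp only [IncLib.natCard_eq inc]
  rw [← Finset.sum_fiberwise_of_maps_to (g := fun p => (IncLib.idx inc p).card) (t := Finset.Icc 2 (Fintype.card ι))
    (s := IncLib.pts hfin) (fun p hp => Finset.mem_Icc.mpr ⟨(IncLib.mem_pts hfin).mp hp, Finset.card_le_univ _⟩)]
  refine Finset.sum_congr rfl fun k hk => ?_
  have hk2 := (Finset.mem_Icc.mp hk).1
  have he : Nat.card {p : P // (IncLib.idx inc p).card = k} =
      ((IncLib.pts hfin).filter fun p => (IncLib.idx inc p).card = k).card := by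
    rw [← Nat.card_eq_finsetCard]
    exact Nat.card_congr (Equiv.subtypeEquivRight fun p => by
      simp only [Finset.mem_filter, IncLib.mem_pts, iff_and_self]
      intro hp
      omega)
  rw [he, Finset.sum_congr rfl (g := fun _ => k * (k - 1)) (fun p hp => by rw [(Finset.mem_filter.mp hp).2]),
    Finset.sum_const, smul_eq_mul, mul_comm]

end Groth.Agent.S15005
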