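import Groth.Statements.S15008
import Groth.Agent.TFCurvLib.LatticeOne
import Groth.Agent.TFCurvLib.Conductor

set_option autoImplicit false
universe u
open CategoryTheory
open TFCurv

namespace Groth.Agent.S15008

open TFCurvLib.Lattice


/-- Let O be a one-dimensional Noetherian local domain with algebraically closed residue field whose
integral closure O~ in its fraction field K is a finite O-module, and suppose O is not Gorenstein.
If w is an O-submodule of K with O ⊆ w ⊆ O~ whose injective dimension as an O-module is at most one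
(a canonical ideal placed between O and O~), then length(w/O) + length(O~/C) = 2 · length(O~/O),
where C is the conductor of O in O~. -/
theorem result (O : Type u) [CommRing O] [IsDomain O] [IsNoetherianRing O] [IsLocalRing O] (hdim : ringKrullDim O = 1) [IsAlgClosed (IsLocalRing.ResidueField O)] (K : Type u) [Field K] [Algebra O K] [IsFractionRing O K] (hfin : Module.Finite O ↥(integralClosure O K)) (hG : ¬ LocCoh.IsGorensteinLocalRing O) (ω : Submodule O K) (hω1 : (1 : Submodule O K) ≤ ω) (hω2 : ω ≤ (Subalgebra.toSubmodule (integralClosure O K))) (hωinj : HasInjectiveDimensionLT (ModuleCat.of O ↥ω) 2) : Module.length O (↥ω ⧸ Submodule.comap ω.subtype (1 : Submodule O K)) + Module.length O (↥(integralClosure O K) ⧸ ((1 : Submodule O K).colon (Subalgebra.toSubmodule (integralClosure O K))) • (⊤ : Submodule O ↥(integralClosure O K))) = 2 * Module.length O (↥(integralClosure O K) ⧸ Submodule.comap (Subalgebra.toSubmodule (integralClosure O K)).subtype (1 : Submodule O K)) := by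
  haveI : Ring.KrullDimLE 1 O := Ring.krullDimLE_iff.2 hdim.le
  have hnf := not_isField_of_dim hdim
  let Bb : Submodule O K := Subalgebra.toSubmodule (integralClosure O K)
  let C : Submodule O K := condK O K
  have hBfg : Bb.FG := Module.Finite.iff_fg.1 hfin
  haveI : IsNoetherian O ↥Bb := isNoetherian_of_fg_of_noetherian _ hBfg
  have hωfg : ω.FG := isNoetherian_submodule.1 inferInstance ω hω2
  have h1 : (1 : K) ∈ ω := hω1 (Submodule.mem_one.2 ⟨1, map_one _⟩)
  have hω0 : ω ≠ ⊥ := fun h => one_ne_zero ((Submodule.mem_bot O).1 (h ▸ h1))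
  have hBB : ∀ a ∈ Bb, ∀ b ∈ Bb, a * b ∈ Bb := fun a ha b hb =>
    (Subalgebra.mem_toSubmodule _).2 (mul_mem ((Subalgebra.mem_toSubmodule _).1 ha) ((Subalgebra.mem_toSubmodule _).1 hb))
  have hone : ω / ω = 1 := by
    have h := div_div ω hωfg hω0 hωinj hnf one_submodule_fg one_submodule_ne_bot
    rwa [div_one'] at h
  have hdivB : ω / Bb = C := by
    refine le_antisymm (fun x hx => mem_condK.2 fun b hb => ?_) fun x hx => ?_
    · rw [← hone, Submodule.mem_div_iff_forall_mul_mem]
      intro w hw
      rw [mul_assoc]
      exact Submodule.mem_div_iff_forall_mul_mem.1 hx _ (hBB b hb w (hω2 hw))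
    · exact Submodule.mem_div_iff_forall_mul_mem.2 fun b hb => hω1 (mem_condK.1 hx b hb)
  have hC1 : C ≤ 1 := fun x hx => by
    have h := mem_condK.1 hx 1 (one_mem _)
    rwa [mul_one] at h
  have h1B : (1 : Submodule O K) ≤ Bb := hω1.trans hω2
  have hA : dlen C ω = dlen (1 : Submodule O K) Bb := by
    have h := dlen_div ω hωfg hω0 hωinj hnf one_submodule_fg one_submodule_ne_bot hBfg h1B
    rwa [hdivB, div_one'] at h
  have key : dlen (1 : Submodule O K) ω + dlen C Bb = 2 * dlen (1 : Submodule O K) Bb := by
    rw [dlen_add hC1 hω1] at hA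
    rw [dlen_add hC1 h1B, two_mul, ← add_assoc, add_comm (dlen (1 : Submodule O K) ω), hA]
  refine Eq.trans ?_ key
  congr 1
  refine LinearEquiv.length_eq (Submodule.quotEquivOfEq _ _ ?_)
  ext x
  change x ∈ _ ↔ ((x : ↥Bb) : K) ∈ C
  constructor
  · intro hx
    refine mem_condK.2 fun b hb => ?_
    refine Submodule.smul_induction_on hx (fun c hc y _ => ?_)
      (fun y z hy hz => by show ((y : K) + (z : K)) * b ∈ _; rw [add_mul]; exact Submodule.add_mem _ hy hz)
    rw [show ((c • y : ↥(integralClosure O K)) : K) * b = c • ((y : K) * b) by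
      rw [Subalgebra.coe_smul, smul_mul_assoc]]
    exact Submodule.mem_colon.1 hc _ (hBB _ y.2 b hb)
  · intro hx
    obtain ⟨c, hc⟩ := Submodule.mem_one.1 (hC1 hx)
    have hxc : x = c • (1 : ↥(integralClosure O K)) := Subtype.ext (by
      show (x : K) = c • (1 : K)
      rw [← hc, Algebra.smul_def, mul_one])
    rw [hxc]
    refine Submodule.smul_mem_smul (Submodule.mem_colon.2 fun b hb => ?_) trivial
    rw [Algebra.smul_def, hc]
    exact mem_condK.1 hx b hb

end Groth.Agent.S15008
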