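import Groth.Statements.S1501
import Groth.Agent.AmpleThick17.General
import Groth.Agent.AmpleX.RelAffine

set_option autoImplicit false
set_option linter.style.haveILetI false
set_option backward.isDefEq.respectTransparency false
set_option backward.isDefEq.respectTransparency.types false
universe u
open FlatMor

namespace Groth.Agent.S1501

open AlgebraicGeometry CategoryTheory Limits in
/-- Ampleness over an open of the thickening. -/
theorem isAmple_restrict_iff_thick {X X' : Scheme.{u}} (i : X ⟶ X') [IsClosedImmersion i] [Surjective i]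
    (U : X'.Opens) {L : X'.Modules} (hL : PicF.IsInvertible L) :
    CohB1.IsAmple (L.restrict U.ι) ↔
      CohB1.IsAmple (((Scheme.Modules.pullback i).obj L).restrict (i ⁻¹ᵁ U).ι) := by
  haveI : IsClosedImmersion (i ∣_ U) := IsZariskiLocalAtTarget.restrict ‹IsClosedImmersion i› _
  haveI : Surjective (i ∣_ U) := IsZariskiLocalAtTarget.restrict ‹Surjective i› _
  have e : (Scheme.Modules.pullback (i ∣_ U)).obj (L.restrict U.ι) ≅
      ((Scheme.Modules.pullback i).obj L).restrict (i ⁻¹ᵁ U).ι :=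
    (Scheme.Modules.pullback (i ∣_ U)).mapIso ((Scheme.Modules.restrictFunctorIsoPullback U.ι).app L) ≪≫
      (Scheme.Modules.pullbackComp _ _).app L ≪≫
      (Scheme.Modules.pullbackCongr (morphismRestrict_ι i U)).app L ≪≫
      ((Scheme.Modules.pullbackComp _ _).app L).symm ≪≫
      ((Scheme.Modules.restrictFunctorIsoPullback (i ⁻¹ᵁ U).ι).app _).symm
  rw [← AmpleThick17.isAmple_pullback_iff (i ∣_ U) (i ∣_ U).surjective
    (AmpleX.isInvertible_restrict _ hL)]
  exact ⟨fun h => AmpleX.isAmple_of_iso e h, fun h => AmpleX.isAmple_of_iso e.symm h⟩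

open AlgebraicGeometry CategoryTheory Limits in
/-- Let (f, f') : (X ⊂ X') → (S ⊂ S') be a morphism of thickenings (iX : X → X' and iS : S → S'
thickenings with f ≫ iS = iX ≫ f') and L' an invertible O_{X'}-module with pullback L to X. Then L'
is ample relative to f' if and only if L is ample relative to f. -/
theorem result {X X' S S' : Scheme.{u}} (iX : X ⟶ X') (iS : S ⟶ S') (f : X ⟶ S) (f' : X' ⟶ S')
    (hX : MoreMor.IsThickening iX) (hS : MoreMor.IsThickening iS) (w : iX ≫ f' = f ≫ iS)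
    (L' : X'.Modules) (hL' : PicF.IsInvertible L') :
    RelAmple.IsRelAmple f' L' ↔ RelAmple.IsRelAmple f ((Scheme.Modules.pullback iX).obj L') := by
  haveI := hX.1; haveI := hX.2; haveI := hS.1; haveI := hS.2
  have hle : ∀ V' : S'.Opens, f ⁻¹ᵁ (iS ⁻¹ᵁ V') = iX ⁻¹ᵁ (f' ⁻¹ᵁ V') := fun V' => by
    rw [← Scheme.Hom.comp_preimage, ← Scheme.Hom.comp_preimage, w]
  constructor
  · intro h
    haveI : QuasiCompact f' := h.1
    haveI : QuasiCompact (f ≫ iS) := w ▸ inferInstance
    haveI : QuasiCompact f := QuasiCompact.of_comp f iS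
    refine AmpleX.isRelAmple_of_ampleOn fun x => ?_
    obtain ⟨V', hV', hxV', -⟩ := exists_isAffineOpen_mem_and_subset (x := iS (f x)) (U := ⊤) trivial
    exact ⟨iS ⁻¹ᵁ V', _, (iX ⁻¹ᵁ (f' ⁻¹ᵁ V')).ι, inferInstance, hxV',
      by rw [Scheme.Opens.opensRange_ι, hle], (isAmple_restrict_iff_thick iX _ hL').1 (h.2 ⟨V', hV'⟩)⟩
  · intro h
    have hA : ∀ V' : S'.affineOpens, CohB1.IsAmple (L'.restrict (f' ⁻¹ᵁ V'.1).ι) := fun V' => by
      refine (isAmple_restrict_iff_thick iX _ hL').2 ?_
      rw [← hle]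
      exact h.2 ⟨iS ⁻¹ᵁ V'.1, V'.2.preimage iS⟩
    haveI : QuasiCompact f' := quasiCompact_iff_forall_isAffineOpen.2 fun V hV =>
      isCompact_iff_compactSpace.mpr (hA ⟨V, hV⟩).2.1
    exact ⟨inferInstance, hA⟩

end Groth.Agent.S1501
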