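import Groth.Statements.S15010
import Mathlib

set_option autoImplicit false
universe u
open TFCurv

namespace Groth.Agent.S15010

/-- Let O be a one-dimensional Noetherian local domain with algebraically closed residue field whose
integral closure O~ in its fraction field K is a finite O-module. If M and N are O-submodules of K^n
with O^n ⊆ M ⊆ O~^n and O^n ⊆ N ⊆ O~^n, then every O-linear isomorphism M → N is the restriction of
x ↦ A·x for an invertible n × n matrix A with entries in O~. -/
theorem result (O : Type u) [CommRing O] [IsDomain O] [IsNoetherianRing O] [IsLocalRing O] (hdim : ringKrullDim O = 1) [IsAlgClosed (IsLocalRing.ResidueField O)] (K : Type u) [Field K] [Algebra O K] [IsFractionRing O K] (hfin : Module.Finite O ↥(integralClosure O K)) (n : ℕ) (M N : Submodule O (Fin n → K)) (hM1 : Submodule.pi Set.univ (fun _ : Fin n => (1 : Submodule O K)) ≤ M) (hM2 : M ≤ Submodule.pi Set.univ (fun _ : Fin n => (Subalgebra.toSubmodule (integralClosure O K)))) (hN1 : Submodule.pi Set.univ (fun _ : Fin n => (1 : Submodule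 O K)) ≤ N) (hN2 : N ≤ Submodule.pi Set.univ (fun _ : Fin n => (Subalgebra.toSubmodule (integralClosure O K)))) (φ : ↥M ≃ₗ[O] ↥N) : ∃ A : Matrix (Fin n) (Fin n) ↥(integralClosure O K), IsUnit A ∧ ∀ x : ↥M, ((φ x : ↥N) : Fin n → K) = (A.map (algebraMap ↥(integralClosure O K) K)).mulVec (x : Fin n → K) := by
  classical
  let e : Fin n → ↥M := fun j => ⟨Pi.single j 1, hM1 fun i _ => by
    by_cases h : i = j
    · subst h; rw [Pi.single_eq_same]; exact Submodule.one_le.1 le_rfl
    · rw [Pi.single_eq_of_ne h]; exact Submodule.zero_mem _⟩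
  let e' : Fin n → ↥N := fun j => ⟨Pi.single j 1, hN1 fun i _ => by
    by_cases h : i = j
    · subst h; rw [Pi.single_eq_same]; exact Submodule.one_le.1 le_rfl
    · rw [Pi.single_eq_of_ne h]; exact Submodule.zero_mem _⟩
  -- every linear map between such lattices is given by its matrix
  have key : ∀ (P Q : Submodule O (Fin n → K)) (hP : Submodule.pi Set.univ (fun _ : Fin n => (1 : Submodule O K)) ≤ P)
      (ψ : ↥P →ₗ[O] ↥Q) (u : Fin n → ↥P) (_ : ∀ j, (u j : Fin n → K) = Pi.single j 1) (x : ↥P),
      ((ψ x : ↥Q) : Fin n → K) = (Matrix.of fun i j => (ψ (u j) : Fin n → K) i).mulVec (x : Fin n → K) := by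
    intro P Q hP ψ u hu x
    -- clear denominators
    obtain ⟨d, hd⟩ := IsLocalization.exist_integer_multiples (nonZeroDivisors O) Finset.univ (x : Fin n → K)
    choose c hc using fun i => hd i (Finset.mem_univ i)
    have hsum : (d : O) • x = ∑ j, c j • u j := by
      refine Subtype.ext (funext fun i => ?_)
      simp only [Submodule.coe_smul, Submodule.coe_sum, Finset.sum_apply, Pi.smul_apply, hu]
      rw [Finset.sum_eq_single i (fun j _ hj => by rw [Pi.single_eq_of_ne (Ne.symm hj), smul_zero]) (by simp),
        Pi.single_eq_same]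
      rw [← hc i, Algebra.algebraMap_eq_smul_one]
    have h1 : ((ψ ((d : O) • x) : ↥Q) : Fin n → K) = ((∑ j, c j • ψ (u j) : ↥Q) : Fin n → K) := by
      rw [hsum, map_sum]; simp only [map_smul]
    refine funext fun i => smul_right_injective K (show (d : O) ≠ 0 from nonZeroDivisors.coe_ne_zero d) ?_
    have h2 := congrFun h1 i
    simp only [map_smul, Submodule.coe_smul, Submodule.coe_sum, Finset.sum_apply, Pi.smul_apply] at h2
    dsimp only
    rw [h2]
    simp only [Matrix.mulVec, dotProduct, Matrix.of_apply, Finset.smul_sum]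
    refine Finset.sum_congr rfl fun j _ => ?_
    rw [Algebra.smul_def, Algebra.smul_def, hc j, Algebra.smul_def]
    ring
  let A : Matrix (Fin n) (Fin n) ↥(integralClosure O K) := Matrix.of fun i j =>
    ⟨(φ (e j) : Fin n → K) i, hN2 (φ (e j)).2 i (Set.mem_univ i)⟩
  let B : Matrix (Fin n) (Fin n) ↥(integralClosure O K) := Matrix.of fun i j =>
    ⟨(φ.symm (e' j) : Fin n → K) i, hM2 (φ.symm (e' j)).2 i (Set.mem_univ i)⟩
  have hA : ∀ x : ↥M, ((φ x : ↥N) : Fin n → K) = (A.map (algebraMap ↥(integralClosure O K) K)).mulVec (x : Fin n → K) :=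
    key M N hM1 φ.toLinearMap e (fun j => rfl)
  have hB : ∀ x : ↥N, ((φ.symm x : ↥M) : Fin n → K) = (B.map (algebraMap ↥(integralClosure O K) K)).mulVec (x : Fin n → K) :=
    key N M hN1 φ.symm.toLinearMap e' (fun j => rfl)
  have hAB : A * B = 1 := by
    apply Matrix.map_injective (IsFractionRing.injective O K |> fun _ => Subtype.val_injective :
      Function.Injective (algebraMap ↥(integralClosure O K) K))
    change (A * B).map (algebraMap ↥(integralClosure O K) K) = (1 : Matrix (Fin n) (Fin n) _).map _
    rw [Matrix.map_mul, show Matrix.map (1 : Matrix (Fin n) (Fin n) ↥(integralClosure O K)) _ = 1 from Matrix.map_one Subtype.val rfl rfl]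
    ext i j
    have h := congrFun ((hA (φ.symm (e' j))).symm.trans (by rw [φ.apply_symm_apply])) i
    rw [hB, Matrix.mulVec_mulVec, show ((e' j : ↥N) : Fin n → K) = Pi.single j 1 from rfl,
      Matrix.mulVec_single_one, Matrix.col_apply] at h
    rw [h, Matrix.one_apply, Pi.single_apply]
  exact ⟨A, ⟨⟨A, B, hAB, mul_eq_one_comm.1 hAB⟩, rfl⟩, hA⟩

end Groth.Agent.S15010
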