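import Groth.Statements.S15011
import Groth.Agent.TFCurvLib.Length
import Mathlib.RingTheory.KrullDimension.Field
import Mathlib.Algebra.Module.Submodule.Union
import Mathlib.RingTheory.DedekindDomain.Factorization
import Mathlib.RingTheory.DedekindDomain.IntegralClosure
import Mathlib.RingTheory.Nakayama
import Mathlib.FieldTheory.IsAlgClosed.Basic
import Mathlib.RingTheory.Ideal.Cotangent
import Mathlib.RingTheory.TensorProduct.IsBaseChangeFree
import Mathlib.LinearAlgebra.Dimension.Localization

set_option autoImplicit false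
universe u
open TFCurv

namespace Groth.Agent.S15011

open IsLocalRing


/-- Let O be a one-dimensional Noetherian local domain with maximal ideal m and algebraically closed
residue field, whose integral closure O~ in its fraction field K is a finite O-module; put e =
length(O~/m O~), the multiplicity of O. Then a finitely generated torsion-free O-module of rank n
can be generated by at most n·e elements. -/
theorem result (O : Type u) [CommRing O] [IsDomain O] [IsNoetherianRing O] [IsLocalRing O] (hdim : ringKrullDim O = 1) [IsAlgClosed (IsLocalRing.ResidueField O)] (K : Type u) [Field K] [Algebra O K] [IsFractionRing O K] (hfin : Module.Finite O ↥(integralClosure O K)) (M : Type u) [AddCommGroup M] [Module O M] [Module.Finite O M] [NoZeroSMulDivisors O M] (n : ℕ) (hn : Module.finrank K (TensorProduct O K M) = n) : ((⊤ : Submodule O M).spanFinrank : ℕ∞) ≤ (n : ℕ∞) * Module.length O (↥(integralClosure O K) ⧸ (IsLocalRing.maximalIdeal O) • (⊤ : Submodule O ↥(integralClosure O K))) := by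
  classical
  have : Ring.KrullDimLE 1 O := by
    rw [Ring.krullDimLE_iff, hdim]; exact le_rfl
  have : Ring.DimensionLEOne O := ⟨fun {P} hP0 hP =>
    ((Ring.krullDimLE_one_iff.mp inferInstance) P hP).resolve_left
      (by rw [IsDomain.minimalPrimes_eq_singleton_bot]; exact hP0)⟩
  let B := integralClosure O K
  have : IsFractionRing B K := integralClosure.isFractionRing_of_finite_extension K K
  have : IsIntegrallyClosed B := integralClosure.isIntegrallyClosedOfFiniteExtension K
  have : IsNoetherianRing B := isNoetherian_of_tower O inferInstance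
  have : IsDedekindDomain B := {}
  have hfld : ¬ IsField O := by
    intro h
    letI := h.toField
    have := ringKrullDim_eq_zero_of_field O
    rw [hdim] at this
    exact one_ne_zero this
  have hm0 : maximalIdeal O ≠ ⊥ := fun h => hfld (IsLocalRing.isField_iff_maximalIdeal_eq.mpr h)
  have hinjB : Function.Injective (algebraMap O B) := fun a b h =>
    IsFractionRing.injective O K (congrArg Subtype.val h)
  set mB : Ideal B := (maximalIdeal O).map (algebraMap O B) with hmB
  have hmB0 : mB ≠ ⊥ := fun h => hm0 ((Ideal.map_eq_bot_iff_of_injective hinjB).mp h)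
  have hmQ : ∀ Q : IsDedekindDomain.HeightOneSpectrum B, mB ≤ Q.asIdeal := by
    intro Q
    have : Q.asIdeal.IsMaximal := Q.isMaximal
    have : (Q.asIdeal.comap (algebraMap O B)).IsMaximal :=
      Ideal.isMaximal_comap_of_isIntegral_of_isMaximal Q.asIdeal
    rw [hmB, Ideal.map_le_iff_le_comap, IsLocalRing.eq_maximalIdeal this]
  -- all height one primes divide `mB`
  have hfinQ : Finite (IsDedekindDomain.HeightOneSpectrum B) := by
    have := Ideal.finite_factors (show mB ≠ 0 from hmB0)
    refine Set.finite_univ_iff.mp (this.subset fun Q _ => ?_)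
    exact Ideal.dvd_iff_le.mpr (hmQ Q)
  let k := ResidueField O
  have : Infinite k := IsAlgClosed.instInfinite
  let bad : IsDedekindDomain.HeightOneSpectrum B → Submodule O (maximalIdeal O) := fun Q =>
    ((Q.asIdeal * mB).restrictScalars O).comap
      ((Algebra.linearMap O B).comp (maximalIdeal O).subtype)
  have hbad2 : ∀ Q, maximalIdeal O • (⊤ : Submodule O (maximalIdeal O)) ≤ bad Q := by
    intro Q
    rw [Submodule.smul_le]
    intro r hr v _
    show algebraMap O B (r * v) ∈ Q.asIdeal * mB
    rw [map_mul]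
    exact Ideal.mul_mem_mul (hmQ Q (Ideal.mem_map_of_mem _ hr)) (Ideal.mem_map_of_mem _ v.2)
  let V := (maximalIdeal O).Cotangent
  let badk : IsDedekindDomain.HeightOneSpectrum B → Submodule k V := fun Q =>
    { carrier := ((bad Q).map ((maximalIdeal O).toCotangent) : Submodule O V)
      zero_mem' := Submodule.zero_mem _
      add_mem' := fun ha hb => Submodule.add_mem _ ha hb
      smul_mem' := fun c v hv => by
        obtain ⟨c, rfl⟩ := residue_surjective c
        exact Submodule.smul_mem _ c hv }
  have hbadk : ∀ Q, badk Q ≠ ⊤ := by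
    intro Q htop
    have hall : ∀ v : maximalIdeal O, v ∈ bad Q := by
      intro v
      obtain ⟨w, hw, hwv⟩ : (maximalIdeal O).toCotangent v ∈ (bad Q).map ((maximalIdeal O).toCotangent) :=
        (show (maximalIdeal O).toCotangent v ∈ badk Q from htop ▸ Submodule.mem_top)
      have hd : v - w ∈ maximalIdeal O • (⊤ : Submodule O (maximalIdeal O)) := by
        rw [← Submodule.Quotient.mk_eq_zero, Submodule.Quotient.mk_sub, sub_eq_zero]
        exact hwv.symm
      have := (bad Q).add_mem (hbad2 Q hd) hw
      rwa [sub_add_cancel] at this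
    have hle : mB ≤ Q.asIdeal * mB := by
      rw [hmB, Ideal.map_le_iff_le_comap]
      exact fun v hv => hall ⟨v, hv⟩
    have heq : Q.asIdeal * mB = 1 * mB := by
      rw [one_mul]; exact le_antisymm Ideal.mul_le_right hle
    exact Q.isPrime.ne_top ((mul_right_cancel₀ (show mB ≠ 0 from hmB0) heq).trans Ideal.one_eq_top)
  obtain ⟨ξ, hξ⟩ := Submodule.exists_forall_notMem_of_forall_ne_top badk hbadk
  obtain ⟨⟨x, hxm⟩, rfl⟩ := Ideal.toCotangent_surjective _ ξ
  have hxgood : ∀ Q : IsDedekindDomain.HeightOneSpectrum B, algebraMap O B x ∉ Q.asIdeal * mB :=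
    fun Q h => hξ Q ⟨⟨x, hxm⟩, h, rfl⟩
  have hxspan : Ideal.span {algebraMap O B x} = mB := by
    obtain ⟨J, hJ⟩ : mB ∣ Ideal.span {algebraMap O B x} := Ideal.dvd_iff_le.mpr (by
      rw [Ideal.span_le, Set.singleton_subset_iff]; exact Ideal.mem_map_of_mem _ hxm)
    by_cases hJt : J = ⊤
    · rw [hJ, hJt, Ideal.mul_top]
    exfalso
    obtain ⟨Q, hQmax, hJQ⟩ := Ideal.exists_le_maximal J hJt
    have hQ0 : Q ≠ ⊥ := fun h => by
      have hJ0 : J = ⊥ := le_bot_iff.mp (h ▸ hJQ)
      rw [hJ0, Ideal.mul_bot, Ideal.span_singleton_eq_bot] at hJ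
      obtain ⟨Q', hQ'max⟩ := Ideal.exists_maximal B
      have : (Q'.comap (algebraMap O B)).IsMaximal :=
        Ideal.isMaximal_comap_of_isIntegral_of_isMaximal Q'
      have hQ'0 : Q' ≠ ⊥ := fun h' => hm0 (by
        rw [← IsLocalRing.eq_maximalIdeal this, h', Ideal.comap_bot_of_injective _ hinjB])
      exact hxgood ⟨Q', hQ'max.isPrime, hQ'0⟩ (by rw [hJ]; exact zero_mem _)
    refine hxgood ⟨Q, hQmax.isPrime, hQ0⟩ ?_
    show algebraMap O B x ∈ Q * mB
    rw [mul_comm]
    exact Ideal.mul_mono le_rfl hJQ (hJ ▸ Ideal.mem_span_singleton_self _)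
  have hx0 : x ≠ 0 := fun h => hmB0 (by rw [← hxspan, h, map_zero, Ideal.span_singleton_eq_bot])
  -- length of `B/xB` is `ord x`
  have hregB : IsSMulRegular B x := fun a b h => by
    simp only [Algebra.smul_def] at h
    exact mul_left_cancel₀ (fun h0 => hx0 (hinjB (h0.trans (map_zero _).symm))) h
  have hB : Module.length O (B ⧸ TFCurvLib.xSub x B) = Ring.ord O x := by
    have hc : Module.length O (B ⧸ LinearMap.range (Algebra.linearMap O B)) ≠ ⊤ := by
      refine TFCurvLib.length_ne_top_of_torsion fun v => ?_
      obtain ⟨v, rfl⟩ := Submodule.Quotient.mk_surjective _ v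
      obtain ⟨⟨a, s⟩, has⟩ := IsLocalization.surj (nonZeroDivisors O) (v : K)
      refine ⟨s, nonZeroDivisors.coe_ne_zero s, ?_⟩
      rw [← Submodule.Quotient.mk_smul, Submodule.Quotient.mk_eq_zero]
      refine ⟨a, Subtype.ext ?_⟩
      rw [SetLike.val_smul, Algebra.smul_def, mul_comm, has]
      rfl
    rw [TFCurvLib.length_quot_eq x (Algebra.linearMap O B) hinjB hregB hc]
    refine (Submodule.quotEquivOfEq _ _ ?_).length_eq
    ext v
    rw [Ideal.mem_span_singleton']
    exact ⟨fun ⟨w, hw⟩ => ⟨w, by rw [← hw, mul_comm]; rfl⟩, fun ⟨w, hw⟩ => ⟨w, by rw [← hw, mul_comm]; rfl⟩⟩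
  have hsub : (maximalIdeal O) • (⊤ : Submodule O B) = TFCurvLib.xSub x B := by
    rw [Ideal.smul_top_eq_map]
    ext v
    rw [Submodule.restrictScalars_mem, ← hmB, ← hxspan, Ideal.mem_span_singleton']
    exact ⟨fun ⟨w, hw⟩ => ⟨w, by rw [← hw, LinearMap.lsmul_apply, Algebra.smul_def, mul_comm]⟩,
      fun ⟨w, hw⟩ => ⟨w, by rw [← hw, LinearMap.lsmul_apply, Algebra.smul_def, mul_comm]⟩⟩
  rw [hsub, hB]
  -- a free submodule of `M` of rank `n`
  have hregM : IsSMulRegular M x := fun a b h => smul_right_injective M hx0 h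
  let ι : M →ₗ[O] TensorProduct O K M := TensorProduct.mk O K M 1
  have hι : IsLocalizedModule (nonZeroDivisors O) ι :=
    (isLocalizedModule_iff_isBaseChange (nonZeroDivisors O) K ι).mpr (TensorProduct.isBaseChange O M K)
  have hιinj : Function.Injective ι := by
    rw [injective_iff_map_eq_zero]
    intro v hv
    obtain ⟨s, hs⟩ := (IsLocalizedModule.eq_iff_exists (nonZeroDivisors O) ι).mp (hv.trans (map_zero ι).symm)
    exact (smul_eq_zero.mp (hs.trans (smul_zero s) : (s : O) • v = 0)).resolve_left (nonZeroDivisors.coe_ne_zero s)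
  have hspan : Submodule.span K (Set.range ι) = ⊤ := by
    rw [eq_top_iff]
    rintro t -
    obtain ⟨⟨v, s⟩, hvs⟩ := IsLocalizedModule.surj (nonZeroDivisors O) ι t
    have h1 : t = (algebraMap O K (s : O))⁻¹ • ι v := by
      rw [← hvs]
      show t = _ • ((s : O) • t)
      rw [← algebraMap_smul K (s : O) t, smul_smul, inv_mul_cancel₀
        ((map_ne_zero_iff _ (IsFractionRing.injective O K)).mpr (nonZeroDivisors.coe_ne_zero s)), one_smul]
    rw [h1]
    exact Submodule.smul_mem _ _ (Submodule.subset_span ⟨v, rfl⟩)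
  obtain ⟨κ, a, -, haspan, hali⟩ := exists_linearIndependent' K ι
  let bK : Module.Basis κ K (TensorProduct O K M) := Module.Basis.mk hali (by rw [haspan, hspan])
  have : Fintype κ := FiniteDimensional.fintypeBasisIndex bK
  have hcard : Fintype.card κ = n := (Module.finrank_eq_card_basis bK).symm.trans hn
  let eκ := Fintype.equivFinOfCardEq hcard
  let f : (Fin n → O) →ₗ[O] M := Fintype.linearCombination O (a ∘ eκ.symm)
  have hf : Function.Injective f := by
    refine linearIndependent_iff_injective_fintypeLinearCombination.mp ?_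
    refine LinearIndependent.comp ?_ _ eκ.symm.injective
    exact (hali.restrict_scalars (fun p q h => IsFractionRing.injective O K (by
      simpa [Algebra.smul_def] using h))).of_comp ι
  have hc : Module.length O (M ⧸ LinearMap.range f) ≠ ⊤ := by
    refine TFCurvLib.length_ne_top_of_torsion fun v => ?_
    obtain ⟨v, rfl⟩ := Submodule.Quotient.mk_surjective _ v
    obtain ⟨s, hs⟩ := IsLocalization.exist_integer_multiples (nonZeroDivisors O) Finset.univ
      fun i => bK.repr (ι v) i
    refine ⟨s, nonZeroDivisors.coe_ne_zero s, ?_⟩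
    rw [← Submodule.Quotient.mk_smul, Submodule.Quotient.mk_eq_zero]
    choose c hc using fun i => hs i (Finset.mem_univ i)
    refine ⟨fun i => c (eκ.symm i), hιinj ?_⟩
    rw [map_smul, show f _ = ∑ i, c (eκ.symm i) • a (eκ.symm i) from Fintype.linearCombination_apply _ _ _,
      eκ.symm.sum_comp (fun i => c i • a i), map_sum]
    conv_rhs => rw [← bK.sum_repr (ι v), Finset.smul_sum]
    refine Finset.sum_congr rfl fun i _ => ?_
    rw [map_smul, ← algebraMap_smul K (c i), hc i, smul_assoc, show bK i = ι (a i) from Module.Basis.mk_apply _ _ i]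
  have hM : Module.length O (M ⧸ TFCurvLib.xSub x M) = n * Ring.ord O x := by
    rw [TFCurvLib.length_quot_eq x f hf hregM hc, TFCurvLib.length_quot_pi]
  rw [← hM]
  -- Nakayama
  let N := M ⧸ (maximalIdeal O) • (⊤ : Submodule O M)
  have hle : TFCurvLib.xSub x M ≤ (maximalIdeal O) • (⊤ : Submodule O M) := by
    rintro _ ⟨v, rfl⟩
    exact Submodule.smul_mem_smul hxm trivial
  refine le_trans ?_ (Module.length_le_of_surjective _ (Submodule.factor_surjective hle))
  letI : Field (O ⧸ maximalIdeal O) := Ideal.Quotient.field _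
  have : Module.Finite (O ⧸ maximalIdeal O) N :=
    Module.Finite.of_restrictScalars_finite O (O ⧸ maximalIdeal O) N
  rw [Module.length_eq_of_surjective (R := O ⧸ maximalIdeal O) (S := O) Ideal.Quotient.mk_surjective,
    Module.length_eq_finrank]
  let bN := Module.finBasis (O ⧸ maximalIdeal O) N
  choose g hg using fun i => Submodule.Quotient.mk_surjective _ (bN i)
  have hgspan : Submodule.span O (Set.range g) = ⊤ := by
    refine eq_top_iff.mpr (Submodule.le_of_le_smul_of_le_jacobson_bot Module.Finite.fg_top
      (IsLocalRing.jacobson_eq_maximalIdeal ⊥ bot_ne_top).ge fun v _ => ?_)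
    choose c hc using fun i => Ideal.Quotient.mk_surjective (bN.repr (Submodule.Quotient.mk v) i)
    have : (Submodule.Quotient.mk (∑ i, c i • g i) : N) = Submodule.Quotient.mk v := by
      rw [show (Submodule.Quotient.mk (∑ i, c i • g i) : N) = Submodule.mkQ _ (∑ i, c i • g i) from rfl, map_sum]
      simp only [Submodule.mkQ_apply]
      conv_rhs => rw [← bN.sum_repr (Submodule.Quotient.mk v : N)]
      refine Finset.sum_congr rfl fun i _ => ?_
      rw [Submodule.Quotient.mk_smul, hg, ← hc i]
      rfl
    rw [Submodule.Quotient.eq] at this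
    refine Submodule.mem_sup.mpr ⟨∑ i, c i • g i, Submodule.sum_mem _ fun i _ =>
      Submodule.smul_mem _ _ (Submodule.subset_span ⟨i, rfl⟩), v - ∑ i, c i • g i, ?_, by abel⟩
    rw [← neg_sub]; exact neg_mem this
  exact_mod_cast (calc (⊤ : Submodule O M).spanFinrank
      = (Submodule.span O (Set.range g)).spanFinrank := by rw [hgspan]
    _ ≤ (Set.range g).ncard := Submodule.spanFinrank_span_le_ncard_of_finite (Set.finite_range g)
    _ ≤ Module.finrank (O ⧸ maximalIdeal O) N := by
        rw [← Set.image_univ]
        exact (Set.ncard_image_le Set.finite_univ).trans (by simp [Set.ncard_univ]))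

end Groth.Agent.S15011
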