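import Groth.Statements.S15035
import Groth.Agent.TFCurvLib.Conductor

set_option autoImplicit false
universe u
open TFCurv

namespace Groth.Agent.S15035

open TFCurvLib.Lattice


/-- Let O be a one-dimensional Gorenstein local domain with algebraically closed residue field whose
integral closure O~ in its fraction field K is a finite O-module, and C ⊆ O the conductor of O in
O~. Then every finitely generated torsion-free O-module of rank n is isomorphic to an O-submodule
M'' of K^n with C^n ⊆ M'' ⊆ O^n. (For a general O the published statement places M'' between (O~*)^n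
and ω^n for the canonical ideal ω; only the Gorenstein case ω = O, O~* = C is stated.) -/
theorem result (O : Type u) [CommRing O] [IsDomain O] [LocCoh.IsGorensteinLocalRing O] (hdim : ringKrullDim O = 1) [IsAlgClosed (IsLocalRing.ResidueField O)] (K : Type u) [Field K] [Algebra O K] [IsFractionRing O K] (hfin : Module.Finite O ↥(integralClosure O K)) (M : Type u) [AddCommGroup M] [Module O M] [Module.Finite O M] [NoZeroSMulDivisors O M] (n : ℕ) (hn : Module.finrank K (TensorProduct O K M) = n) : ∃ M'' : Submodule O (Fin n → K), Submodule.pi Set.univ (fun _ : Fin n => (((1 : Submodule O K).colon (Subalgebra.toSubmodule (integralClosure O K))) • (1 : Submodule O K))) ≤ M'' ∧ M'' ≤ Submodule.pi Set.univ (fun _ : Fin n => (1 : Submodule O K)) ∧ Nonempty (M ≃ₗ[O] ↥M'') := by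
  haveI : Ring.KrullDimLE 1 O := Ring.krullDimLE_iff.2 hdim.le
  have hnf := not_isField_of_dim hdim
  have hinj := gorenstein_injDim (K := K) hdim
  obtain ⟨L, h1, h2, ⟨e⟩⟩ := TFCurvLib.exists_sandwich O K M hdim hfin n hn
  have hL : IsLat O K L := isLat_of_le hfin h1 h2
  let ω : Submodule O K := 1
  have hD : IsLat O K (dual O K ω L) := hL.dual one_fg one_ne_bot
  haveI : Module.Finite O ↥(dual O K ω L) := Module.Finite.iff_fg.2 hD.fg
  haveI : NoZeroSMulDivisors O ↥(dual O K ω L) := ⟨fun {c x} h => by
      refine or_iff_not_imp_left.2 fun hc => Subtype.ext (funext fun i => ?_)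
      have hi := congrFun (congrArg Subtype.val h) i
      simp only [Submodule.coe_smul_of_tower, Pi.smul_apply, Algebra.smul_def, ZeroMemClass.coe_zero, Pi.zero_apply, mul_eq_zero] at hi
      exact hi.resolve_left fun h => hc (IsFractionRing.to_map_eq_zero_iff.1 h)⟩
  obtain ⟨L', h1', h2', ⟨e'⟩⟩ := TFCurvLib.exists_sandwich O K ↥(dual O K ω L) hdim hfin n (finrank_tensor_lattice hD)
  have hL' : IsLat O K L' := isLat_of_le hfin h1' h2'
  refine ⟨dual O K ω L', ?_, ?_, ?_⟩
  · show piCond O K n ≤ _
    rw [← dual_one_piBar]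
    exact dual_anti _ h2'
  · show _ ≤ piOne O K n
    rw [← dual_one_piOne]
    exact dual_anti _ h1'
  · obtain ⟨a⟩ := nonempty_dual_equiv_hom ω hL'
    obtain ⟨b⟩ := nonempty_dual_equiv_hom ω hD
    have hdd := dual_dual ω one_fg one_ne_bot hinj hnf hL
    exact ⟨e.trans ((LinearEquiv.ofEq _ _ hdd.symm).trans (b.trans ((LinearEquiv.congrLeft ω O e').trans a.symm)))⟩

end Groth.Agent.S15035
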