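import Groth.Statements.S15012
import Groth.Agent.TFCurvLib.Colength
import Groth.Agent.S15035

set_option autoImplicit false
universe u
open TFCurv

namespace Groth.Agent.S15012

open TFCurvLib.Lattice

theorem isLat_piCond {O : Type u} [CommRing O] [IsDomain O] [IsNoetherianRing O] [IsLocalRing O] [Ring.KrullDimLE 1 O]
    {K : Type u} [Field K] [Algebra O K] [IsFractionRing O K] {n : ℕ} (hfin : Module.Finite O ↥(integralClosure O K)) :
    IsLat O K (piCond O K n) := by
  rw [← dual_one_piBar]
  exact (isLat_of_le hfin piOne_le_piBar le_rfl).dual one_fg one_ne_bot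

theorem dlen_cond {O : Type u} [CommRing O] [IsDomain O] {K : Type u} [Field K] [Algebra O K] [IsFractionRing O K]
    (n : ℕ) : dlen (piCond O K n) (piOne O K n) =
      (n : ℕ∞) * Module.length O (O ⧸ ((1 : Submodule O K).colon (Subalgebra.toSubmodule (integralClosure O K) : Set K))) := by
  classical
  set C := (1 : Submodule O K).colon (Subalgebra.toSubmodule (integralClosure O K) : Set K)
  let j : (Fin n → O) →ₗ[O] ↥(piOne O K n) :=
    LinearMap.codRestrict _ (LinearMap.pi fun i => Algebra.linearMap O K ∘ₗ LinearMap.proj i)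
      fun c i _ => Submodule.mem_one.2 ⟨c i, rfl⟩
  have hj : Function.Surjective j := fun v => by
    choose c hc using fun i => Submodule.mem_one.1 (v.2 i (Set.mem_univ i))
    exact ⟨c, Subtype.ext (funext hc)⟩
  let π : (Fin n → O) →ₗ[O] (↥(piOne O K n) ⧸ (piCond O K n).comap (piOne O K n).subtype) := Submodule.mkQ _ ∘ₗ j
  let ρ : (Fin n → O) →ₗ[O] (Fin n → O ⧸ C) := LinearMap.pi fun i => C.mkQ ∘ₗ LinearMap.proj i
  have hρ : Function.Surjective ρ := fun y => by
    choose a ha using fun i => Submodule.mkQ_surjective C (y i)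
    exact ⟨a, funext ha⟩
  have hker : LinearMap.ker π = LinearMap.ker ρ := by
    ext c
    have key : ∀ o : O, o ∈ C ↔ algebraMap O K o ∈ condK O K := fun o => by
      rw [mem_condK, Submodule.mem_colon]
      refine forall₂_congr fun b _ => ?_
      rw [Algebra.smul_def]
    constructor
    · intro h
      refine funext fun i => (Submodule.Quotient.mk_eq_zero _).2 ((key _).2 ?_)
      exact ((Submodule.Quotient.mk_eq_zero _).1 (LinearMap.mem_ker.1 h) : _) i (Set.mem_univ i)
    · intro h
      exact (Submodule.Quotient.mk_eq_zero _).2 fun i _ =>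
        (key _).1 ((Submodule.Quotient.mk_eq_zero C).1 (congrFun (LinearMap.mem_ker.1 h) i) :)
  rw [dlen, ← (π.quotKerEquivOfSurjective ((Submodule.mkQ_surjective _).comp hj)).length_eq,
    ((Submodule.quotEquivOfEq _ _ hker).trans (ρ.quotKerEquivOfSurjective hρ)).length_eq, Module.length_pi_of_fintype]
  simp


/-- Let O be a one-dimensional Gorenstein local domain with algebraically closed residue field whose
integral closure O~ in its fraction field K is a finite O-module, and let C ⊆ O be the conductor of
O in O~. Every finitely generated torsion-free O-module of rank n is isomorphic to an O-submodule M'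
of K^n with C^n ⊆ M' ⊆ O~^n and length(M'/C^n) = n · length(O/C); that is, every isomorphism class
of rank-n torsion-free modules is represented by a submodule of (O~/C)^n of the same length as
(O/C)^n. -/
theorem result (O : Type u) [CommRing O] [IsDomain O] [LocCoh.IsGorensteinLocalRing O] (hdim : ringKrullDim O = 1) [IsAlgClosed (IsLocalRing.ResidueField O)] (K : Type u) [Field K] [Algebra O K] [IsFractionRing O K] (hfin : Module.Finite O ↥(integralClosure O K)) (M : Type u) [AddCommGroup M] [Module O M] [Module.Finite O M] [NoZeroSMulDivisors O M] (n : ℕ) (hn : Module.finrank K (TensorProduct O K M) = n) : ∃ M' : Submodule O (Fin n → K), Submodule.pi Set.univ (fun _ : Fin n => (((1 : Submodule O K).colon (Subalgebra.toSubmodule (integralClosure O K))) • (1 : Submodule O K))) ≤ M' ∧ M' ≤ Submodule.pi Set.univ (fun _ : Fin n => (Subalgebra.toSubmodule (integralClosure O K))) ∧ Nonempty (M ≃ₗ[O] ↥M') ∧ Module.length O (↥M' ⧸ Submodule.comap M'.subtype (Submodule.pi Set.univ (fun _ : Fin n => (((1 : Submodule O K).colon (Subalgebra.toSubmodule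 (integralClosure O K))) • (1 : Submodule O K))))) = (n : ℕ∞) * Module.length O (O ⧸ ((1 : Submodule O K).colon (Subalgebra.toSubmodule (integralClosure O K)))) := by
  haveI : Ring.KrullDimLE 1 O := Ring.krullDimLE_iff.2 hdim.le
  haveI : Module.Finite O ↥(integralClosure O K) := hfin
  haveI : Ring.DimensionLEOne O := ⟨fun hne hp => Ring.krullDimLE_one_iff_of_noZeroDivisors.1 ‹Ring.KrullDimLE 1 O› _ hne hp⟩
  haveI : IsFractionRing ↥(integralClosure O K) K := integralClosure.isFractionRing_of_finite_extension (A := O) K K
  haveI := TFCurvLib.isPrincipalIdealRing_integralClosure O K hdim hfin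
  obtain ⟨L, h1, h2, ⟨e⟩⟩ := TFCurvLib.exists_sandwich O K M hdim hfin n hn
  have hL : IsLat O K L := isLat_of_le hfin h1 h2
  obtain ⟨L'', h1', h2', ⟨e'⟩⟩ := S15035.result O hdim K hfin M n hn
  obtain ⟨M', hM1, hM2, ⟨f⟩, hlen⟩ := exists_colength hfin h1 h2 h1' h2' (isLat_piCond hfin) (e.symm.trans e')
  exact ⟨M', hM1, hM2, ⟨e.trans f⟩, hlen.trans (dlen_cond n)⟩

end Groth.Agent.S15012
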