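import Groth.Statements.S15013
import Groth.Agent.TFCurvLib.ExtOne
import Groth.Agent.CAlgMisc.TorsionFree

set_option autoImplicit false
universe u
open CategoryTheory
open TFCurv

namespace Groth.Agent.S15013

/-- Let O be a one-dimensional Noetherian local domain with algebraically closed residue field whose
integral closure O~ in its fraction field K is a finite O-module, and let w be a canonical ideal of
O, taken here as a nonzero finitely generated O-submodule of K whose injective dimension as an
O-module is at most one. Then Ext^i_O(M, w) vanishes for all i ≥ 1 and every finitely generated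
torsion-free O-module M. -/
theorem result (O : Type u) [CommRing O] [IsDomain O] [IsNoetherianRing O] [IsLocalRing O] (hdim : ringKrullDim O = 1) [IsAlgClosed (IsLocalRing.ResidueField O)] (K : Type u) [Field K] [Algebra O K] [IsFractionRing O K] (hfin : Module.Finite O ↥(integralClosure O K)) (ω : Submodule O K) (hω0 : ω ≠ ⊥) (hωfg : ω.FG) (hωinj : HasInjectiveDimensionLT (ModuleCat.of O ↥ω) 2) (M : Type u) [AddCommGroup M] [Module O M] [Module.Finite O M] [NoZeroSMulDivisors O M] (i : ℕ) (hi : 1 ≤ i) : Subsingleton (Abelian.Ext (ModuleCat.of O M) (ModuleCat.of O ↥ω) i) := by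
  haveI : Module.IsTorsionFree O M := inferInstance
  obtain ⟨m, f, hf⟩ := CAlgMisc.exists_injective_free O M
  have hS := TFCurvLib.presentation_shortExact f (LinearMap.range f).mkQ hf
    (Submodule.mkQ_surjective _) (LinearMap.exact_map_mkQ_range f)
  refine subsingleton_of_forall_eq 0 fun x => ?_
  obtain ⟨j, rfl⟩ : ∃ j, i = j + 1 := ⟨i - 1, by omega⟩
  haveI : Projective (ModuleCat.of O (Fin m → O)) :=
    (IsProjective.iff_projective (R := O) (Fin m → O)).1 inferInstance
  have h2 : ∀ e : Abelian.Ext (ModuleCat.of O ((Fin m → O) ⧸ LinearMap.range f)) (ModuleCat.of O ↥ω) (j + 2),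
      e = 0 := fun e => e.eq_zero_of_hasInjectiveDimensionLT 2 (by omega)
  obtain ⟨y, rfl⟩ := Abelian.Ext.contravariant_sequence_exact₁ hS (ModuleCat.of O ↥ω) x
    (show 1 + (j + 1) = j + 2 by omega) (h2 _)
  rw [y.eq_zero_of_projective, Abelian.Ext.comp_zero]

end Groth.Agent.S15013
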