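import Groth.Statements.S15015
import Groth.Agent.TFCurvSG.Value

set_option autoImplicit false
universe u
open TFCurv

namespace Groth.Agent.S15015

/-- Let k be an algebraically closed field and A ≠ k[[t]] a k-subalgebra of k[[t]] that is closed in the
t-adic topology, over which k[[t]] is a finite module, and such that every power series is carried
into A by multiplication with some nonzero element of A (so k[[t]] lies in the fraction field of A
and is its normalisation, as for the complete local ring of a unibranch curve singularity), and let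
Γ ⊆ ℕ be the set of t-orders of the nonzero elements of A (its value semigroup). Then ℕ ∖ Γ is
finite and the k-dimension of k[[t]]/A equals the number of gaps of Γ. -/
theorem result (k : Type u) [Field k] [IsAlgClosed k] (A : Subalgebra k (PowerSeries k)) (hA : Module.Finite ↥A (PowerSeries k)) (hcl : ∀ f : PowerSeries k, (∀ n : ℕ, ∃ g ∈ A, (n : ℕ∞) ≤ PowerSeries.order (f - g)) → f ∈ A) (hsing : A ≠ ⊤) (hbir : ∀ f : PowerSeries k, ∃ a ∈ A, a ≠ 0 ∧ a * f ∈ A) (Γ : Set ℕ) (hΓ : ∀ n : ℕ, n ∈ Γ ↔ ∃ f ∈ A, PowerSeries.order f = n) : Γᶜ.Finite ∧ Module.finrank k (PowerSeries k ⧸ Subalgebra.toSubmodule A) = Γᶜ.ncard := by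
  classical
  obtain ⟨c, hc⟩ := Groth.Agent.TFCurvSG.exists_conductor hA hbir
  have hfin : Γᶜ.Finite := (Set.finite_Iio c).subset fun n hn => by
    by_contra hh
    exact hn ((hΓ n).2 ⟨PowerSeries.X ^ n, hc (by
      show (c : ℕ∞) ≤ PowerSeries.order _
      rw [PowerSeries.order_X_pow]; exact Nat.cast_le.2 (by simpa using hh)), PowerSeries.order_X_pow n⟩)
  refine ⟨hfin, ?_⟩
  haveI := hfin.fintype
  let Φ : (↥(Γᶜ) → k) →ₗ[k] PowerSeries k := Fintype.linearCombination k (fun i : ↥(Γᶜ) => (PowerSeries.X : PowerSeries k) ^ (i : ℕ))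
  let Ψ := (Subalgebra.toSubmodule A).mkQ.comp Φ
  have hsurj : Function.Surjective Ψ := by
    intro y
    obtain ⟨f, rfl⟩ := Submodule.Quotient.mk_surjective _ y
    have h := Groth.Agent.TFCurvSG.descent (W := Subalgebra.toSubmodule A ⊔ LinearMap.range Φ)
      (c := c) (c' := 0) (le_trans hc le_sup_left) (fun n _ _ => by
        by_cases hn : n ∈ Γ
        · obtain ⟨w, hw, hw'⟩ := (hΓ n).1 hn
          exact ⟨w, Submodule.mem_sup_left hw, hw'⟩
        · exact ⟨PowerSeries.X ^ n, Submodule.mem_sup_right ⟨Pi.single ⟨n, hn⟩ 1, by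
            simp [Φ, Fintype.linearCombination_apply, Pi.single_apply]⟩, PowerSeries.order_X_pow n⟩)
      (show f ∈ Groth.Agent.TFCurvSG.high 0 from by show ((0 : ℕ) : ℕ∞) ≤ _; simp)
    obtain ⟨a, ha, b, ⟨v, rfl⟩, rfl⟩ := Submodule.mem_sup.1 h
    refine ⟨v, (Submodule.Quotient.eq _).2 ?_⟩
    simpa using ha
  have hinj : Function.Injective Ψ := by
    rw [← LinearMap.ker_eq_bot, eq_bot_iff]
    intro v hv
    rw [LinearMap.mem_ker, LinearMap.comp_apply, Submodule.mkQ_apply, Submodule.Quotient.mk_eq_zero] at hv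
    have hcoef : ∀ m, PowerSeries.coeff m (Φ v) = if h : m ∈ Γᶜ then v ⟨m, h⟩ else 0 := by
      intro m
      simp only [Φ, Fintype.linearCombination_apply, map_sum, PowerSeries.coeff_smul, PowerSeries.coeff_X_pow,
        smul_eq_mul, mul_ite, mul_one, mul_zero]
      split
      next h => rw [Finset.sum_eq_single ⟨m, h⟩ (fun i _ hi => if_neg fun e => hi (Subtype.ext e.symm)) (by simp), if_pos rfl]
      next h => exact Finset.sum_eq_zero fun i _ => if_neg fun e' => h (by rw [e']; exact i.2)
    have h0 : Φ v = 0 := by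
      by_contra hne
      have hm : (Φ v).order.toNat ∈ Γ := (hΓ _).2 ⟨Φ v, hv, (PowerSeries.coe_toNat_order hne).symm⟩
      exact PowerSeries.coeff_order hne (by rw [hcoef, dif_neg (fun hh => hh hm)])
    ext i
    have := hcoef (i : ℕ)
    rw [h0, map_zero, dif_pos i.2] at this
    simpa using this.symm
  rw [← (LinearEquiv.ofBijective Ψ ⟨hinj, hsurj⟩).finrank_eq, Module.finrank_fintype_fun_eq_card,
    Set.ncard_eq_toFinset_card' , Set.toFinset_card]

end Groth.Agent.S15015
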