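import Groth.Statements.S15017
import Groth.Agent.TFCurvSG.Basic

set_option autoImplicit false
open TFCurv

namespace Groth.Agent.S15017

/-- Let Γ be a numerical semigroup (a submonoid of (ℕ, +) with finite complement), Γ ≠ ℕ, with conductor
c (every n ≥ c lies in Γ, c − 1 does not). If Γ is symmetric (for x < c, x is a gap exactly when c −
1 − x ∈ Γ) and has multiplicity greater than 2 (neither 1 nor 2 lies in Γ), then Γ is generated by
its elements smaller than c: every minimal generator of Γ is less than the conductor. -/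
theorem result (Γ : AddSubmonoid ℕ) (c : ℕ) (hc : ∀ n : ℕ, c ≤ n → n ∈ Γ) (hc0 : c ≠ 0) (hc1 : c - 1 ∉ Γ) (hsymm : ∀ x : ℕ, x < c → (x ∉ Γ ↔ c - 1 - x ∈ Γ)) (he : (1 : ℕ) ∉ Γ ∧ (2 : ℕ) ∉ Γ) : AddSubmonoid.closure {γ : ℕ | γ ∈ Γ ∧ γ < c} = Γ := by
  classical
  have hc4 : 4 ≤ c := by
    by_contra h
    interval_cases c
    · exact hc1 Γ.zero_mem
    · exact he.1 (hc 1 (by omega)) |>.elim
    · exact he.2 (hc 2 (by omega)) |>.elim
    · exact ((hsymm 1 (by omega)).1 he.1 |> he.1).elim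
  have hc2 : c - 2 ∈ Γ := by
    have := (hsymm 1 (by omega)).1 he.1; rwa [show c - 1 - 1 = c - 2 by omega] at this
  have hc3 : c - 3 ∈ Γ := by
    have := (hsymm 2 (by omega)).1 he.2; rwa [show c - 1 - 2 = c - 3 by omega] at this
  have hex : ∃ γ, γ ∈ Γ ∧ γ ≠ 0 := ⟨c - 2, hc2, by omega⟩
  obtain ⟨e, heΓ, he0, hemin⟩ : ∃ e, e ∈ Γ ∧ e ≠ 0 ∧ ∀ γ, γ ∈ Γ → γ ≠ 0 → e ≤ γ :=
    ⟨Nat.find hex, (Nat.find_spec hex).1, (Nat.find_spec hex).2, fun γ h1 h2 => Nat.find_min' hex ⟨h1, h2⟩⟩
  have he3 : 3 ≤ e := by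
    rcases Nat.lt_or_ge e 3 with h | h
    · interval_cases e
      · exact absurd rfl he0
      · exact absurd heΓ he.1
      · exact absurd heΓ he.2
    · exact h
  have hec : e < c := by have := hemin _ hc2 (by omega); omega
  have hexA : ∃ a, a ∈ Γ ∧ a < c ∧ ¬ e ∣ a := by
    by_cases h : e ∣ c - 2
    · refine ⟨c - 3, hc3, by omega, fun h' => ?_⟩
      have h1 := Nat.dvd_sub h h'
      rw [show c - 2 - (c - 3) = 1 by omega, Nat.dvd_one] at h1
      omega
    · exact ⟨c - 2, hc2, by omega, h⟩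
  obtain ⟨haΓ, hac, hae⟩ := Nat.find_spec hexA
  have hage : e ≤ Nat.find hexA := hemin _ haΓ (fun h => hae (by rw [h]; exact dvd_zero e))
  have hagap : Nat.find hexA - e ∉ Γ := by
    intro h
    refine Nat.find_min hexA (show Nat.find hexA - e < Nat.find hexA by omega) ⟨h, by omega, fun h' => hae ?_⟩
    have := Nat.dvd_add h' (dvd_refl e)
    rwa [Nat.sub_add_cancel hage] at this
  set C := AddSubmonoid.closure {γ : ℕ | γ ∈ Γ ∧ γ < c}
  have hlow : ∀ n, n ∈ Γ → n < c → n ∈ C := fun n h1 h2 => AddSubmonoid.subset_closure ⟨h1, h2⟩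
  refine le_antisymm (AddSubmonoid.closure_le.2 fun n hn => hn.1) ?_
  intro n hn
  induction n using Nat.strong_induction_on with
  | _ n ih =>
    by_cases hnc : n < c
    · exact hlow n hn hnc
    by_cases hne : c + e ≤ n
    · have := C.add_mem (ih (n - e) (by omega) (hc _ (by omega))) (hlow e heΓ hec)
      rwa [Nat.sub_add_cancel (by omega)] at this
    by_cases hlast : n = c - 1 + e
    · have hb : c - 1 - (Nat.find hexA - e) ∈ Γ := (hsymm _ (by omega)).1 hagap
      have := C.add_mem (hlow _ haΓ hac) (hlow _ hb (by omega))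
      rwa [show Nat.find hexA + (c - 1 - (Nat.find hexA - e)) = n by omega] at this
    · have hgap : c - 1 + e - n ∉ Γ := fun h => by
        have := hemin _ h (by omega); omega
      have hb : c - 1 - (c - 1 + e - n) ∈ Γ := (hsymm _ (by omega)).1 hgap
      have := C.add_mem (hlow _ heΓ hec) (hlow _ hb (by omega))
      rwa [show e + (c - 1 - (c - 1 + e - n)) = n by omega] at this

end Groth.Agent.S15017
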