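import Groth.Statements.S15018
import Groth.Agent.TFCurvSG.Basic

set_option autoImplicit false
open TFCurv

namespace Groth.Agent.S15018

/-- Let Γ be a numerical semigroup (a submonoid of (ℕ, +) with finite complement), Γ ≠ ℕ, with conductor
c (every n ≥ c lies in Γ, c − 1 does not). Then Γ is symmetric (for x < c, x is a gap exactly when c
− 1 − x ∈ Γ) if and only if there is exactly one gap n of Γ such that Γ ∪ {n} is again stable under
adding elements of Γ, i.e. n + γ ∈ Γ for every nonzero γ ∈ Γ. -/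
theorem result (Γ : AddSubmonoid ℕ) (c : ℕ) (hc : ∀ n : ℕ, c ≤ n → n ∈ Γ) (hc0 : c ≠ 0) (hc1 : c - 1 ∉ Γ) : (∀ x : ℕ, x < c → (x ∉ Γ ↔ c - 1 - x ∈ Γ)) ↔ ∃! n : ℕ, n ∉ Γ ∧ ∀ γ : ℕ, γ ∈ Γ → γ ≠ 0 → n + γ ∈ Γ := by
  have hpf : c - 1 ∉ Γ ∧ ∀ γ : ℕ, γ ∈ Γ → γ ≠ 0 → c - 1 + γ ∈ Γ :=
    ⟨hc1, fun γ _ hγ => hc _ (by omega)⟩
  constructor
  · intro hsym
    refine ⟨c - 1, hpf, ?_⟩
    rintro n ⟨hn, hng⟩
    by_contra hne
    have hlt : n < c := by by_contra h; exact hn (hc n (by omega))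
    have := hng _ ((hsym n hlt).1 hn) (by omega)
    rw [show n + (c - 1 - n) = c - 1 by omega] at this
    exact hc1 this
  · intro hu x hx
    constructor
    · intro hxg
      classical
      obtain ⟨F, hF⟩ : ∃ F : Finset ℕ, ∀ y, y ∈ F ↔ y < c ∧ y ∉ Γ ∧ x ≤ y ∧ y - x ∈ Γ :=
        ⟨(Finset.range c).filter (fun y => y ∉ Γ ∧ x ≤ y ∧ y - x ∈ Γ), by simp⟩
      have hne : F.Nonempty := ⟨x, (hF x).2 ⟨hx, hxg, le_rfl, by rw [Nat.sub_self]; exact Γ.zero_mem⟩⟩
      have hm := (hF _).1 (F.max'_mem hne)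
      obtain ⟨hmc, hmg, hxm, hmx⟩ := hm
      have hP : F.max' hne ∉ Γ ∧ ∀ γ : ℕ, γ ∈ Γ → γ ≠ 0 → F.max' hne + γ ∈ Γ := by
        refine ⟨hmg, fun γ hγ hγ0 => ?_⟩
        by_contra hcon
        have hlt : F.max' hne + γ < c := by by_contra h; exact hcon (hc _ (by omega))
        have hmem : F.max' hne + γ ∈ F := by
          refine (hF _).2 ⟨hlt, hcon, by omega, ?_⟩
          rw [show F.max' hne + γ - x = (F.max' hne - x) + γ by omega]
          exact Γ.add_mem hmx hγ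
        have := F.le_max' _ hmem
        omega
      rwa [hu.unique hP hpf] at hmx
    · intro hmem hxΓ
      have := Γ.add_mem hxΓ hmem
      rw [show x + (c - 1 - x) = c - 1 by omega] at this
      exact hc1 this

end Groth.Agent.S15018
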