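import Groth.Statements.S15019
import Groth.Agent.TFCurvSG.Basic

set_option autoImplicit false
open TFCurv

namespace Groth.Agent.S15019

/-- Let Γ be a numerical semigroup (a submonoid of (ℕ, +) with finite complement), Γ ≠ ℕ, with conductor
c (every n ≥ c lies in Γ, c − 1 does not), let e be its multiplicity (the least nonzero element of
Γ), and let S ⊆ ℕ be a Γ-module in normal form: 0 ∈ S and γ + s ∈ S for all γ ∈ Γ, s ∈ S. Then the
set of gaps n of S with S ∪ {n} again a Γ-module (n + γ ∈ S for every nonzero γ ∈ Γ) has at most e −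
1 elements, and so does the set of nonzero s ∈ S with S ∖ {s} again a Γ-module (s − γ ∉ S for every
nonzero γ ∈ Γ with γ ≤ s). -/
theorem result (Γ : AddSubmonoid ℕ) (c : ℕ) (hc : ∀ n : ℕ, c ≤ n → n ∈ Γ) (hc0 : c ≠ 0) (hc1 : c - 1 ∉ Γ) (e : ℕ) (he : e ∈ Γ) (he0 : e ≠ 0) (hemin : ∀ γ : ℕ, γ ∈ Γ → γ ≠ 0 → e ≤ γ) (S : Set ℕ) (hS0 : (0 : ℕ) ∈ S) (hS : ∀ γ : ℕ, γ ∈ Γ → ∀ s : ℕ, s ∈ S → γ + s ∈ S) : {n : ℕ | n ∉ S ∧ ∀ γ : ℕ, γ ∈ Γ → γ ≠ 0 → n + γ ∈ S}.encard ≤ ((e - 1 : ℕ) : ℕ∞) ∧ {s : ℕ | s ∈ S ∧ s ≠ 0 ∧ ∀ γ : ℕ, γ ∈ Γ → γ ≠ 0 → γ ≤ s → s - γ ∉ S}.encard ≤ ((e - 1 : ℕ) : ℕ∞) := by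
  have hmul : ∀ {s : ℕ}, s ∈ S → ∀ k, k * e + s ∈ S := fun hs k =>
    Groth.Agent.TFCurvSG.mul_add_mem Γ S hS he hs k
  constructor
  · refine Groth.Agent.TFCurvSG.encard_le_pred _ he0 ?_ ?_
    · rintro n ⟨hn, -⟩ h0
      have := hmul hS0 (n / e)
      rw [Nat.add_zero, Nat.div_mul_cancel (Nat.dvd_of_mod_eq_zero h0)] at this
      exact hn this
    · rintro n ⟨-, hn⟩ k hk ⟨hnk, -⟩
      obtain ⟨j, rfl⟩ := Nat.exists_eq_add_of_le' hk
      apply hnk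
      have := hmul (hn e he he0) j
      convert! this using 1; ring
  · refine Groth.Agent.TFCurvSG.encard_le_pred _ he0 ?_ ?_
    · rintro s ⟨hs, hs0, hsg⟩ h0
      obtain ⟨k, rfl⟩ := Nat.dvd_of_mod_eq_zero h0
      obtain ⟨j, rfl⟩ := Nat.exists_eq_add_of_le' (show 1 ≤ k by
        rcases Nat.eq_zero_or_pos k with h | h
        · simp [h] at hs0
        · exact h)
      have hj : e * (j + 1) = j * e + e := by ring
      refine hsg e he he0 (by omega) ?_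
      rw [hj, Nat.add_sub_cancel]
      simpa using hmul hS0 j
    · rintro s ⟨hs, -, -⟩ k hk ⟨-, -, hsg⟩
      obtain ⟨j, rfl⟩ := Nat.exists_eq_add_of_le' hk
      have hj : s + (j + 1) * e = j * e + s + e := by ring
      refine hsg e he he0 (by omega) ?_
      rw [hj, Nat.add_sub_cancel]
      exact hmul hs j

end Groth.Agent.S15019
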