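import Groth.Statements.S15023
import Groth.Agent.TFCurvSG.Value
import Mathlib.RingTheory.Localization.Integer
-- import your own Groth.Agent.* helpers here

set_option autoImplicit false
universe u
open TFCurv

namespace Groth.Agent.S15023

open PowerSeries in
/-- The codimension of a subspace containing all high orders is the number of missing orders. -/
theorem finrank_quot_eq_ncard {k : Type u} [Field k] (W : Submodule k (PowerSeries k)) {c : ℕ}
    (hbig : Groth.Agent.TFCurvSG.high c ≤ W) :
    {n : ℕ | ¬ ∃ w ∈ W, PowerSeries.order w = n}.Finite ∧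
      Module.finrank k (PowerSeries k ⧸ W) = {n : ℕ | ¬ ∃ w ∈ W, PowerSeries.order w = n}.ncard := by
  classical
  set G : Set ℕ := {n : ℕ | ¬ ∃ w ∈ W, PowerSeries.order w = n} with hG
  have hfin : G.Finite := (Set.finite_Iio c).subset fun n hn => by
    by_contra hh
    exact hn ⟨PowerSeries.X ^ n, hbig (by
      show (c : ℕ∞) ≤ PowerSeries.order _
      rw [PowerSeries.order_X_pow]; exact Nat.cast_le.2 (by simpa using hh)), PowerSeries.order_X_pow n⟩
  refine ⟨hfin, ?_⟩
  haveI := hfin.fintype
  let Φ : (↥G → k) →ₗ[k] PowerSeries k := Fintype.linearCombination k (fun i : ↥G => (PowerSeries.X : PowerSeries k) ^ (i : ℕ))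
  let Ψ := W.mkQ.comp Φ
  have hsurj : Function.Surjective Ψ := by
    intro y
    obtain ⟨f, rfl⟩ := Submodule.Quotient.mk_surjective _ y
    have h := Groth.Agent.TFCurvSG.descent (W := W ⊔ LinearMap.range Φ)
      (c := c) (c' := 0) (le_trans hbig le_sup_left) (fun n _ _ => by
        by_cases hn : n ∈ G
        · exact ⟨PowerSeries.X ^ n, Submodule.mem_sup_right ⟨Pi.single ⟨n, hn⟩ 1, by
            simp [Φ, Fintype.linearCombination_apply, Pi.single_apply]⟩, PowerSeries.order_X_pow n⟩
        · obtain ⟨w, hw, hw'⟩ := not_not.1 hn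
          exact ⟨w, Submodule.mem_sup_left hw, hw'⟩)
      (show f ∈ Groth.Agent.TFCurvSG.high 0 from by show ((0 : ℕ) : ℕ∞) ≤ _; simp)
    obtain ⟨a, ha, b, ⟨v, rfl⟩, rfl⟩ := Submodule.mem_sup.1 h
    refine ⟨v, (Submodule.Quotient.eq _).2 ?_⟩
    simpa using ha
  have hinj : Function.Injective Ψ := by
    rw [← LinearMap.ker_eq_bot, eq_bot_iff]
    intro v hv
    rw [LinearMap.mem_ker, LinearMap.comp_apply, Submodule.mkQ_apply, Submodule.Quotient.mk_eq_zero] at hv
    have hcoef : ∀ m, PowerSeries.coeff m (Φ v) = if h : m ∈ G then v ⟨m, h⟩ else 0 := by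
      intro m
      simp only [Φ, Fintype.linearCombination_apply, map_sum, PowerSeries.coeff_smul, PowerSeries.coeff_X_pow,
        smul_eq_mul, mul_ite, mul_one, mul_zero]
      split
      next h => rw [Finset.sum_eq_single ⟨m, h⟩ (fun i _ hi => if_neg fun e => hi (Subtype.ext e.symm)) (by simp), if_pos rfl]
      next h => exact Finset.sum_eq_zero fun i _ => if_neg fun e' => h (by rw [e']; exact i.2)
    have h0 : Φ v = 0 := by
      by_contra hne
      refine PowerSeries.coeff_order hne ?_
      rw [hcoef, dif_neg]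
      exact not_not.2 ⟨Φ v, hv, (PowerSeries.coe_toNat_order hne).symm⟩
    ext i
    have := hcoef (i : ℕ)
    rw [h0, map_zero, dif_pos i.2] at this
    simpa using this.symm
  rw [← (LinearEquiv.ofBijective Ψ ⟨hinj, hsurj⟩).finrank_eq, Module.finrank_fintype_fun_eq_card,
    Set.ncard_eq_toFinset_card', Set.toFinset_card]

/-- Let k be an algebraically closed field and A ≠ k[[t]] a k-subalgebra of k[[t]] that is closed in the
t-adic topology, over which k[[t]] is a finite module, and such that every power series is carried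
into A by multiplication with some nonzero element of A (so k[[t]] lies in the fraction field of A
and is its normalisation, as for the complete local ring of a unibranch curve singularity), and let
Γ ⊆ ℕ be the set of t-orders of the nonzero elements of A (its value semigroup); assume moreover
that A is the monomial ring of Γ (a power series lies in A exactly when all its exponents lie in Γ),
and let δ be the number of gaps of Γ. Then every finitely generated torsion-free A-module of rank
one is isomorphic to an A-submodule M' of k[[t]] with t^{2δ} k[[t]] ⊆ M' and dim_k(k[[t]]/M') = δ,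
equivalently dim_k(M'/t^{2δ}k[[t]]) = δ: every isomorphism class of rank-one torsion-free modules is
represented by a δ-dimensional A-stable subspace of k[[t]]/t^{2δ}k[[t]]. -/
theorem result (k : Type u) [Field k] [IsAlgClosed k] (A : Subalgebra k (PowerSeries k)) (hA : Module.Finite ↥A (PowerSeries k)) (hcl : ∀ f : PowerSeries k, (∀ n : ℕ, ∃ g ∈ A, (n : ℕ∞) ≤ PowerSeries.order (f - g)) → f ∈ A) (hsing : A ≠ ⊤) (hbir : ∀ f : PowerSeries k, ∃ a ∈ A, a ≠ 0 ∧ a * f ∈ A) (Γ : Set ℕ) (hΓ : ∀ n : ℕ, n ∈ Γ ↔ ∃ f ∈ A, PowerSeries.order f = n) (hmono : ∀ f : PowerSeries k, f ∈ A ↔ ∀ n : ℕ, PowerSeries.coeff n f ≠ 0 → n ∈ Γ) (M : Type u) [AddCommGroup M] [Module ↥A M] [Module.Finite ↥A M] [NoZeroSMulDivisors ↥A M] (hrk : Module.finrank (FractionRing ↥A) (TensorProduct ↥A (FractionRing ↥A) M) = 1) : ∃ M' : Submodule ↥A (PowerSeries k), (Ideal.span {(PowerSeries.X : PowerSeries k) ^ (2 * Γᶜ.ncard)}).restrictScalars ↥A ≤ M' ∧ Nonempty (M ≃ₗ[↥A] ↥M') ∧ Module.finrank k (PowerSeries k ⧸ M'.restrictScalars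 k) = Γᶜ.ncard := by
  classical
  let P := PowerSeries k
  obtain ⟨c, hc⟩ := Groth.Agent.TFCurvSG.exists_conductor hA hbir
  -- `M` is an ideal of `A`
  haveI : Nontrivial M := by
    by_contra h
    rw [not_nontrivial_iff_subsingleton] at h
    haveI := h
    rw [Module.finrank_zero_of_subsingleton] at hrk
    exact zero_ne_one hrk
  obtain ⟨g, hg⟩ : ∃ g : M →ₗ[↥A] ↥A, Function.Injective g := by
    let F := FractionRing ↥A
    let mk : M →ₗ[↥A] TensorProduct ↥A F M := TensorProduct.mk ↥A F M 1
    have hmk : Function.Injective mk := by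
      haveI : IsLocalizedModule (nonZeroDivisors ↥A) mk :=
        (isLocalizedModule_iff_isBaseChange (nonZeroDivisors ↥A) F mk).2 (TensorProduct.isBaseChange ↥A M F)
      refine (injective_iff_map_eq_zero _).2 fun x hx => ?_
      obtain ⟨a, ha⟩ := (IsLocalizedModule.eq_zero_iff (nonZeroDivisors ↥A) mk).1 hx
      exact (smul_eq_zero.1 ha).resolve_left (nonZeroDivisors.ne_zero a.2)
    haveI : Module.Finite F (TensorProduct ↥A F M) := inferInstance
    let e : TensorProduct ↥A F M ≃ₗ[F] F :=
      (LinearEquiv.ofFinrankEq _ _ (hrk.trans (Module.finrank_self F).symm))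
    let φ : M →ₗ[↥A] F := (e.toLinearMap.restrictScalars ↥A).comp mk
    have hφ : Function.Injective φ := e.injective.comp hmk
    obtain ⟨s, hs⟩ := (Module.Finite.fg_top (R := ↥A) (M := M))
    obtain ⟨b, hb⟩ := IsLocalization.exist_integer_multiples_of_finset (nonZeroDivisors ↥A) (s.image φ)
    have hint : ∀ x, ∃ a : ↥A, algebraMap ↥A F a = (b : ↥A) • φ x := fun x => by
      have hx : x ∈ Submodule.span ↥A (s : Set M) := hs ▸ trivial
      induction hx using Submodule.span_induction with
      | mem x hx => exact hb _ (Finset.mem_image_of_mem _ hx)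
      | zero => exact ⟨0, by simp⟩
      | add x y _ _ hx hy =>
        obtain ⟨a, ha⟩ := hx
        obtain ⟨a', ha'⟩ := hy
        exact ⟨a + a', by rw [map_add, map_add, smul_add, ha, ha']⟩
      | smul r x _ hx =>
        obtain ⟨a, ha⟩ := hx
        exact ⟨r • a, by rw [smul_eq_mul, map_mul, ha, map_smul, smul_comm, Algebra.smul_def r]⟩
    choose a ha using hint
    have hinjA := IsFractionRing.injective ↥A F
    refine ⟨{ toFun := a, map_add' := fun x y => hinjA (by rw [map_add, ha, ha, ha, map_add, smul_add]),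
              map_smul' := fun r x => hinjA (by rw [RingHom.id_apply, smul_eq_mul, map_mul, ha, ha, map_smul, smul_comm, Algebra.smul_def r]) },
      fun x y h => hφ ?_⟩
    have h' := congrArg (algebraMap ↥A F) h
    simp only [LinearMap.coe_mk, AddHom.coe_mk, ha, Algebra.smul_def] at h'
    exact mul_left_cancel₀ (fun h0 => nonZeroDivisors.ne_zero b.2 (hinjA (h0.trans (map_zero _).symm))) h'
  let ι : M →ₗ[↥A] P := (Algebra.linearMap ↥A P).comp g
  have hι : Function.Injective ι := Subtype.val_injective.comp hg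
  let I : Submodule ↥A P := LinearMap.range ι
  -- an element of least order
  have hne : ∃ n : ℕ, ∃ f ∈ I, PowerSeries.order f = n := by
    obtain ⟨x, hx⟩ := exists_ne (0 : M)
    exact ⟨_, ι x, ⟨x, rfl⟩, (PowerSeries.coe_toNat_order (fun h => hx (hι (h.trans (map_zero ι).symm)))).symm⟩
  obtain ⟨f0, hf0, hr⟩ := Nat.find_spec hne
  set r := Nat.find hne
  have hf00 : f0 ≠ 0 := fun h => by simp [h] at hr
  have hdvd : ∀ f ∈ I, ∃ g, f0 * g = f := fun f hf => by
    have hfo : (r : ℕ∞) ≤ PowerSeries.order f := by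
      by_cases h : f = 0
      · simp [h]
      · rw [← PowerSeries.coe_toNat_order h]
        exact Nat.cast_le.2 (Nat.find_min' hne ⟨f, hf, (PowerSeries.coe_toNat_order h).symm⟩)
    obtain ⟨g, rfl⟩ : (PowerSeries.X : P) ^ r ∣ f :=
      PowerSeries.X_pow_dvd_iff.2 fun i hi => PowerSeries.coeff_of_lt_order i (lt_of_lt_of_le (Nat.cast_lt.2 hi) hfo)
    obtain ⟨v, hv⟩ := (PowerSeries.isUnit_iff_constantCoeff (φ := f0.divXPowOrder)).2
      (isUnit_iff_ne_zero.2 (by rwa [Ne, PowerSeries.constantCoeff_divXPowOrder_eq_zero_iff]))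
    have h0 : f0 = PowerSeries.X ^ r * (v : P) := by
      conv_lhs => rw [← PowerSeries.X_pow_order_mul_divXPowOrder (f := f0), ← hv, hr, ENat.toNat_coe]
    exact ⟨(↑v⁻¹ : P) * g, by rw [h0, mul_assoc, Units.mul_inv_cancel_left]⟩
  -- the normalized module
  let N : Submodule ↥A P := I.comap (LinearMap.mulLeft ↥A f0)
  have hN1 : (1 : P) ∈ N := by simpa [N] using hf0
  have hAN : ∀ a ∈ A, a ∈ N := fun a ha => by
    have := N.smul_mem (⟨a, ha⟩ : ↥A) hN1
    rwa [Subalgebra.smul_def, smul_eq_mul, mul_one] at this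
  have hcN : Groth.Agent.TFCurvSG.high c ≤ N.restrictScalars k := fun f hf => hAN f (hc hf)
  obtain ⟨hΔfin, hΔ⟩ := finrank_quot_eq_ncard (N.restrictScalars k) hcN
  set Δ : Set ℕ := {n : ℕ | ¬ ∃ w ∈ N.restrictScalars k, PowerSeries.order w = n} with hΔdef
  obtain ⟨hΓfin', -⟩ := finrank_quot_eq_ncard (Subalgebra.toSubmodule A) hc
  have hΓfin : Γᶜ.Finite := hΓfin'.subset fun n hn h => hn ((hΓ n).2 h)
  have hsub : Δ ⊆ Γᶜ := fun n hn h => hn (by
    obtain ⟨f, hf, hfo⟩ := (hΓ n).1 h
    exact ⟨f, hAN f hf, hfo⟩)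
  have hle : Δ.ncard ≤ Γᶜ.ncard := Set.ncard_le_ncard hsub hΓfin
  have hcond : ∀ n, Γᶜ.ncard + Δ.ncard ≤ n → n ∉ Δ := by
    intro n hn hmem
    have h1 : ∀ a ∈ (Finset.range (n + 1)).filter (· ∈ Γ), n - a ∈ hΔfin.toFinset := fun a ha => by
      rw [Set.Finite.mem_toFinset]
      obtain ⟨hal, haΓ⟩ := Finset.mem_filter.1 ha
      rintro ⟨w, hw, hwo⟩
      obtain ⟨f, hf, hfo⟩ := (hΓ a).1 haΓ
      refine hmem ⟨f * w, ?_, ?_⟩
      · have := N.smul_mem (⟨f, hf⟩ : ↥A) hw
        rwa [Subalgebra.smul_def, smul_eq_mul] at this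
      · rw [PowerSeries.order_mul, hfo, hwo, ← Nat.cast_add]
        exact congrArg _ (by simp at hal; omega)
    have h2 := Finset.card_le_card_of_injOn (fun a => n - a) h1 (fun a ha b hb h => by
      simp at ha hb h; omega)
    have h3 : ((Finset.range (n + 1)).filter (fun a => a ∉ Γ)).card ≤ hΓfin.toFinset.card :=
      Finset.card_le_card fun a ha => hΓfin.mem_toFinset.2 (Finset.mem_filter.1 ha).2
    rw [← Set.ncard_eq_toFinset_card _ hΔfin] at h2
    rw [← Set.ncard_eq_toFinset_card _ hΓfin] at h3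
    have h4 := Finset.card_filter_add_card_filter_not (s := Finset.range (n + 1)) (fun a => a ∈ Γ)
    rw [Finset.card_range] at h4
    omega
  have hhigh : Groth.Agent.TFCurvSG.high (Γᶜ.ncard + Δ.ncard) ≤ N.restrictScalars k :=
    Groth.Agent.TFCurvSG.descent hcN fun n hn _ => not_not.1 (hcond n hn)
  -- shift
  set j := Γᶜ.ncard - Δ.ncard with hj
  let μ : P →ₗ[↥A] P := LinearMap.mulLeft ↥A (PowerSeries.X ^ j)
  have hμ : Function.Injective μ := fun a b h => mul_left_cancel₀ (pow_ne_zero _ PowerSeries.X_ne_zero) h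
  refine ⟨N.map μ, ?_, ?_, ?_⟩
  · intro f hf
    obtain ⟨g, rfl⟩ := Ideal.mem_span_singleton.1 hf
    refine ⟨PowerSeries.X ^ (Γᶜ.ncard + Δ.ncard) * g, hhigh ?_, ?_⟩
    · exact PowerSeries.nat_le_order _ _ fun i hi => PowerSeries.X_pow_dvd_iff.1 (dvd_mul_right _ _) i hi
    · change PowerSeries.X ^ j * (PowerSeries.X ^ (Γᶜ.ncard + Δ.ncard) * g) = _
      rw [← mul_assoc, ← pow_add, show j + (Γᶜ.ncard + Δ.ncard) = 2 * Γᶜ.ncard by omega]
  · have hIN : N.map (LinearMap.mulLeft ↥A f0) = I := by
      refine Submodule.map_comap_eq_self fun f hf => ?_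
      obtain ⟨g, hg⟩ := hdvd f hf
      exact ⟨g, hg⟩
    have hinj0 : Function.Injective (LinearMap.mulLeft ↥A f0) := fun a b h => mul_left_cancel₀ hf00 h
    exact ⟨((LinearEquiv.ofInjective ι hι).trans (LinearEquiv.ofEq _ _ hIN.symm)).trans
      ((Submodule.equivMapOfInjective _ hinj0 N).symm.trans (Submodule.equivMapOfInjective μ hμ N))⟩
  · obtain ⟨-, hM'⟩ := finrank_quot_eq_ncard ((N.map μ).restrictScalars k) (c := j + c) (fun f hf => by
      obtain ⟨g, rfl⟩ : (PowerSeries.X : P) ^ (j + c) ∣ f :=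
        PowerSeries.X_pow_dvd_iff.2 fun i hi => PowerSeries.coeff_of_lt_order i (lt_of_lt_of_le (Nat.cast_lt.2 hi) hf)
      refine ⟨PowerSeries.X ^ c * g, hcN ?_, ?_⟩
      · exact PowerSeries.nat_le_order _ _ fun i hi => PowerSeries.X_pow_dvd_iff.1 (dvd_mul_right _ _) i hi
      · change PowerSeries.X ^ j * (PowerSeries.X ^ c * g) = _
        rw [← mul_assoc, ← pow_add])
    rw [hM']
    have hset : {n : ℕ | ¬ ∃ w ∈ (N.map μ).restrictScalars k, PowerSeries.order w = n} =
        Set.Iio j ∪ (fun n => j + n) '' Δ := by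
      ext n
      have key : (∃ w ∈ (N.map μ).restrictScalars k, PowerSeries.order w = n) ↔ ∃ m, j + m = n ∧ m ∉ Δ := by
        constructor
        · rintro ⟨_, ⟨w, hw, rfl⟩, ho⟩
          change PowerSeries.order (PowerSeries.X ^ j * w) = n at ho
          have hw0 : w ≠ 0 := fun h => by simp [h] at ho
          rw [PowerSeries.order_mul, PowerSeries.order_X_pow, ← PowerSeries.coe_toNat_order hw0, ← Nat.cast_add] at ho
          exact ⟨_, Nat.cast_inj.1 ho, not_not.2 ⟨w, hw, (PowerSeries.coe_toNat_order hw0).symm⟩⟩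
        · rintro ⟨m, rfl, hm⟩
          obtain ⟨w, hw, hwo⟩ := not_not.1 hm
          refine ⟨μ w, Submodule.mem_map_of_mem hw, ?_⟩
          change PowerSeries.order (PowerSeries.X ^ j * w) = _
          rw [PowerSeries.order_mul, PowerSeries.order_X_pow, hwo, ← Nat.cast_add]
      rw [Set.mem_setOf_eq, key]
      simp only [Set.mem_union, Set.mem_Iio, Set.mem_image, not_exists, not_and, not_not]
      constructor
      · intro h
        by_cases hn : n < j
        · exact Or.inl hn
        · exact Or.inr ⟨n - j, h (n - j) (by omega), by omega⟩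
      · rintro (hn | ⟨m, hm, rfl⟩) x hx
        · omega
        · rwa [show x = m by omega]
    rw [hset, Set.ncard_union_eq (Set.disjoint_left.2 fun n hn hn' => by
        obtain ⟨m, _, hm⟩ := hn'
        simp at hn
        simp only at hm; omega)
      (Set.finite_Iio j) (hΔfin.image _), Set.ncard_image_of_injective _ (add_right_injective j),
      ← Finset.coe_Iio, Set.ncard_coe_finset, Nat.card_Iio]
    omega

end Groth.Agent.S15023
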