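import Groth.Statements.S15024
import Groth.Agent.TFCurvLib.TorTorsion
import Groth.Agent.TFCurvLib.Conductor
-- import your own Groth.Agent.* helpers here

set_option autoImplicit false
universe u
open CategoryTheory
open TFCurv

namespace Groth.Agent.S15024

/-- Let O be a one-dimensional Noetherian local domain with algebraically closed residue field whose
integral closure O~ in its fraction field K is a finite O-module, M a finitely generated
torsion-free O-module and f : O^n → M an injective O-linear map whose cokernel T has finite length.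
Then Tor_1^O(O~, M) and Tor_1^O(O~, T) are isomorphic (existence of an isomorphism only), and O~ ⊗_O
f : O~ ⊗ O^n → O~ ⊗ M is injective, so that 0 → O~^n → O~ ⊗ M → O~ ⊗ T → 0 is exact. -/
theorem result (O : Type u) [CommRing O] [IsDomain O] [IsNoetherianRing O] [IsLocalRing O] (hdim : ringKrullDim O = 1) [IsAlgClosed (IsLocalRing.ResidueField O)] (K : Type u) [Field K] [Algebra O K] [IsFractionRing O K] (hfin : Module.Finite O ↥(integralClosure O K)) (M : Type u) [AddCommGroup M] [Module O M] [Module.Finite O M] [NoZeroSMulDivisors O M] (n : ℕ) (f : (Fin n → O) →ₗ[O] M) (hf : Function.Injective f) (hT : IsFiniteLength O (M ⧸ LinearMap.range f)) : Nonempty (((Tor (ModuleCat.{u} O) 1).obj (ModuleCat.of O ↥(integralClosure O K))).obj (ModuleCat.of O M) ≅ ((Tor (ModuleCat.{u} O) 1).obj (ModuleCat.of O ↥(integralClosure O K))).obj (ModuleCat.of O (M ⧸ LinearMap.range f))) ∧ Function.Injective (LinearMap.lTensor ↥(integralClosure O K) f) := by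
  haveI : Ring.KrullDimLE 1 O := (Ring.krullDimLE_iff (n := 1)).2 hdim.le
  have hnf := Groth.Agent.TFCurvLib.Lattice.not_isField_of_dim hdim
  obtain ⟨a, ha, haz⟩ := Groth.Agent.TFCurvLib.TorTorsion.exists_smul_eq_zero_of_lTensor f hf hnf hT ↥(integralClosure O K)
  have hinj : Function.Injective (LinearMap.lTensor ↥(integralClosure O K) f) :=
    (injective_iff_map_eq_zero _).2 fun z hz => Groth.Agent.TFCurvLib.TorTorsion.smul_eq_zero_tensor_pi ha (haz z hz)
  exact ⟨Groth.Agent.TFCurvLib.TorTorsion.nonempty_tor_iso_of_flat _ f (LinearMap.range f).mkQ hf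
    (Submodule.mkQ_surjective _) (LinearMap.exact_map_mkQ_range f) hinj, hinj⟩

end Groth.Agent.S15024
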