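import Groth.Statements.S15025
import Groth.Agent.TFCurvLib.TorTorsion
import Groth.Agent.TFCurvLib.Conductor
-- import your own Groth.Agent.* helpers here

set_option autoImplicit false
universe u
open CategoryTheory
open TFCurv

namespace Groth.Agent.S15025

/-- Let O be a one-dimensional Noetherian local domain with algebraically closed residue field whose
integral closure O~ in its fraction field K is a finite O-module, M a finitely generated
torsion-free O-module and g : M → O^n an injective O-linear map whose cokernel T' has finite length.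
Then the torsion submodule of O~ ⊗_O M is O-linearly isomorphic to Tor_1^O(O~, T') (existence of an
isomorphism only). -/
theorem result (O : Type u) [CommRing O] [IsDomain O] [IsNoetherianRing O] [IsLocalRing O] (hdim : ringKrullDim O = 1) [IsAlgClosed (IsLocalRing.ResidueField O)] (K : Type u) [Field K] [Algebra O K] [IsFractionRing O K] (hfin : Module.Finite O ↥(integralClosure O K)) (M : Type u) [AddCommGroup M] [Module O M] [Module.Finite O M] [NoZeroSMulDivisors O M] (n : ℕ) (g : M →ₗ[O] (Fin n → O)) (hg : Function.Injective g) (hT : IsFiniteLength O ((Fin n → O) ⧸ LinearMap.range g)) : Nonempty (↥(Submodule.torsion O (TensorProduct O ↥(integralClosure O K) M)) ≃ₗ[O] ↑(((Tor (ModuleCat.{u} O) 1).obj (ModuleCat.of O ↥(integralClosure O K))).obj (ModuleCat.of O ((Fin n → O) ⧸ LinearMap.range g)))) := by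
  haveI : Ring.KrullDimLE 1 O := (Ring.krullDimLE_iff (n := 1)).2 hdim.le
  have hnf := Groth.Agent.TFCurvLib.Lattice.not_isField_of_dim hdim
  obtain ⟨a, ha, haz⟩ := Groth.Agent.TFCurvLib.TorTorsion.exists_smul_eq_zero_of_lTensor g hg hnf hT ↥(integralClosure O K)
  -- the torsion is the kernel
  have htor : Submodule.torsion O (TensorProduct O ↥(integralClosure O K) M) =
      LinearMap.ker (LinearMap.lTensor ↥(integralClosure O K) g) := by
    ext z
    constructor
    · rintro ⟨b, hb⟩
      refine Groth.Agent.TFCurvLib.TorTorsion.smul_eq_zero_tensor_pi (a := (b : O)) (nonZeroDivisors.ne_zero b.2) ?_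
      have hb' : (b : O) • z = 0 := hb
      rw [← map_smul, hb', map_zero]
    · intro hz
      exact ⟨⟨a, mem_nonZeroDivisors_of_ne_zero ha⟩, haz z hz⟩
  -- `Tor` is balanced
  obtain ⟨e⟩ := Groth.Agent.CAlgOdd.TorSymm.nonempty_flip (R := O) 1
  obtain ⟨eK⟩ := Groth.Agent.TFCurvLib.TorTorsion.nonempty_tor_equiv_ker (F := Fin n → O) (K := M) g (LinearMap.range g).mkQ hg
    (Submodule.mkQ_surjective _) (LinearMap.exact_map_mkQ_range g) ↥(integralClosure O K)
  let e₁ := ((e.app (ModuleCat.of O ↥(integralClosure O K))).app (ModuleCat.of O ((Fin n → O) ⧸ LinearMap.range g))).toLinearEquiv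
  -- swap the tensor factors
  let c := TensorProduct.comm O ↥(integralClosure O K) M
  have hcz : ∀ z, g.rTensor _ (c z) = TensorProduct.comm O ↥(integralClosure O K) (Fin n → O) (g.lTensor _ z) := fun z => by
    induction z using TensorProduct.induction_on with
    | zero => simp
    | tmul x y => simp [c]
    | add x y hx hy => simp [hx, hy]
  have hc : (LinearMap.ker (LinearMap.lTensor ↥(integralClosure O K) g)).map c.toLinearMap =
      LinearMap.ker (LinearMap.rTensor ↥(integralClosure O K) g) := by
    ext w
    constructor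
    · rintro ⟨z, hz, rfl⟩
      rw [SetLike.mem_coe, LinearMap.mem_ker] at hz
      rw [LinearMap.mem_ker, LinearEquiv.coe_coe, hcz, hz, map_zero]
    · intro hw
      refine ⟨c.symm w, ?_, c.apply_symm_apply w⟩
      rw [LinearMap.mem_ker, ← c.apply_symm_apply w, hcz] at hw
      rw [SetLike.mem_coe, LinearMap.mem_ker]
      exact (LinearEquiv.map_eq_zero_iff _).1 hw
  exact ⟨((LinearEquiv.ofEq _ _ htor).trans ((c.submoduleMap _).trans (LinearEquiv.ofEq _ _ hc))).trans (eK.symm.trans e₁.symm)⟩

end Groth.Agent.S15025
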