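import Groth.Statements.S15029
import Groth.Agent.TFCurvSG.Basic

set_option autoImplicit false
open TFCurv

namespace Groth.Agent.S15029

/-- Let Γ be a numerical semigroup (a submonoid of (ℕ, +) with finite complement), Γ ≠ ℕ, with conductor
c (every n ≥ c lies in Γ, c − 1 does not), and let S ⊆ ℕ be a Γ-module in normal form (0 ∈ S and γ +
s ∈ S for γ ∈ Γ, s ∈ S). If S ≠ ℕ then some gap n of S can be added (n + γ ∈ S for every nonzero γ ∈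
Γ, so S ∪ {n} is a Γ-module), and if S ≠ Γ then some s ∈ S outside Γ can be removed (s − γ ∉ S for
every nonzero γ ∈ Γ with γ ≤ s, so S ∖ {s} is a Γ-module containing Γ); iterating, S is joined to ℕ
and to Γ by chains in the diagram of Γ-modules, which is therefore connected. -/
theorem result (Γ : AddSubmonoid ℕ) (c : ℕ) (hc : ∀ n : ℕ, c ≤ n → n ∈ Γ) (hc0 : c ≠ 0) (hc1 : c - 1 ∉ Γ) (S : Set ℕ) (hS0 : (0 : ℕ) ∈ S) (hS : ∀ γ : ℕ, γ ∈ Γ → ∀ s : ℕ, s ∈ S → γ + s ∈ S) : (S ≠ Set.univ → ∃ n : ℕ, n ∉ S ∧ ∀ γ : ℕ, γ ∈ Γ → γ ≠ 0 → n + γ ∈ S) ∧ ((↑Γ : Set ℕ) ≠ S → ∃ s : ℕ, s ∈ S ∧ s ∉ Γ ∧ ∀ γ : ℕ, γ ∈ Γ → γ ≠ 0 → γ ≤ s → s - γ ∉ S) := by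
  classical
  have hΓS : ∀ n, n ∈ Γ → n ∈ S := fun n hn => by simpa using hS n hn 0 hS0
  constructor
  · intro hne
    obtain ⟨x, hx⟩ := (Set.ne_univ_iff_exists_notMem S).1 hne
    obtain ⟨F, hF⟩ : ∃ F : Finset ℕ, ∀ y, y ∈ F ↔ y < c ∧ y ∉ S :=
      ⟨(Finset.range c).filter (fun y => y ∉ S), by simp⟩
    have hlt : ∀ y, y ∉ S → y < c := fun y hy => by by_contra h; exact hy (hΓS _ (hc y (by omega)))
    have hFne : F.Nonempty := ⟨x, (hF x).2 ⟨hlt x hx, hx⟩⟩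
    have hm := (hF _).1 (F.max'_mem hFne)
    refine ⟨F.max' hFne, hm.2, fun γ hγ hγ0 => ?_⟩
    by_contra hcon
    have := F.le_max' (F.max' hFne + γ) ((hF _).2 ⟨hlt _ hcon, hcon⟩)
    omega
  · intro hne
    have hex : ∃ s, s ∈ S ∧ s ∉ Γ := by
      by_contra h
      push Not at h
      exact hne (Set.ext fun n => ⟨hΓS n, h n⟩)
    obtain ⟨h1, h2⟩ := Nat.find_spec hex
    refine ⟨Nat.find hex, h1, h2, fun γ hγ hγ0 hle hmem => ?_⟩
    have hG : Nat.find hex - γ ∈ Γ := by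
      by_contra hn
      exact Nat.find_min hex (show Nat.find hex - γ < Nat.find hex by omega) ⟨hmem, hn⟩
    apply h2
    have := Γ.add_mem hG hγ
    rwa [Nat.sub_add_cancel hle] at this

end Groth.Agent.S15029
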