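import Groth.Statements.S15030
import Groth.Agent.TFCurvLib.TwoGen

set_option autoImplicit false
universe u
open CategoryTheory
open TFCurv

namespace Groth.Agent.S15030

/-- Let k be an algebraically closed field of characteristic zero, δ ≥ 1, and A ⊂ k[[t]] the complete
local ring of the A_{2δ} singularity, i.e. the k-subalgebra of power series all of whose exponents
lie in the semigroup generated by 2 and 2δ + 1 (so A = k[[t², t^{2δ+1}]]). For 0 ≤ i ≤ δ let M_i ⊂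
k[[t]] be the A-submodule generated by 1 and t^{2δ+1−2i} (these represent all rank-one torsion-free
A-modules). Then for 0 ≤ i, j ≤ δ the A-module Ext¹_A(M_i, M_j) has length 2·min(i, j) (length over
A equals k-dimension here). (The published statement also covers the two-branch case n = 2δ − 1 with
the same value; only the one-branch case is stated.) -/
theorem result (k : Type u) [Field k] [IsAlgClosed k] [CharZero k] (δ : ℕ) (hδ : 1 ≤ δ) (A : Subalgebra k (PowerSeries k)) (hmono : ∀ f : PowerSeries k, f ∈ A ↔ ∀ n : ℕ, PowerSeries.coeff n f ≠ 0 → n ∈ AddSubmonoid.closure ({2, 2 * δ + 1} : Set ℕ)) (i j : ℕ) (hi : i ≤ δ) (hj : j ≤ δ) : Module.length ↥A (Abelian.Ext (ModuleCat.of ↥A ↥(Submodule.span ↥A ({1, (PowerSeries.X : PowerSeries k) ^ (2 * δ + 1 - 2 * i)} : Set (PowerSeries k)))) (ModuleCat.of ↥A ↥(Submodule.span ↥A ({1, (PowerSeries.X : PowerSeries k) ^ (2 * δ + 1 - 2 * j)} : Set (PowerSeries k)))) 1) = ((2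 * min i j : ℕ) : ℕ∞) := by
  let Γ : Set ℕ := {m | m % 2 = 0 ∨ 2 * δ ≤ m}
  let S : ℕ → Set ℕ := fun i => {m | m % 2 = 0 ∨ 2 * (δ - i) + 1 ≤ m}
  have hΓ : ∀ m, m ∈ AddSubmonoid.closure ({2, 2 * δ + 1} : Set ℕ) ↔ m ∈ Γ := fun m => by
    let P : AddSubmonoid ℕ :=
      { carrier := Γ
        zero_mem' := Or.inl rfl
        add_mem' := fun {a b} ha hb => by
          change (a + b) % 2 = 0 ∨ 2 * δ ≤ a + b
          rcases ha with ha | ha <;> rcases hb with hb | hb <;> omega }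
    constructor
    · intro h
      refine (AddSubmonoid.closure_le (S := P)).2 ?_ h
      rintro x (rfl | rfl)
      · exact Or.inl rfl
      · exact Or.inr (by omega)
    · intro h
      have h2 : ∀ q : ℕ, 2 * q ∈ AddSubmonoid.closure ({2, 2 * δ + 1} : Set ℕ) := fun q => by
        have h := nsmul_mem (AddSubmonoid.subset_closure (Set.mem_insert _ _) : (2 : ℕ) ∈ AddSubmonoid.closure ({2, 2 * δ + 1} : Set ℕ)) q
        rw [smul_eq_mul] at h; rwa [Nat.mul_comm 2 q]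
      by_cases he : m % 2 = 0
      · rw [show m = 2 * (m / 2) by omega]; exact h2 _
      · have hm : 2 * δ + 1 ≤ m := by rcases h with h | h <;> omega
        rw [show m = (2 * δ + 1) + 2 * ((m - (2 * δ + 1)) / 2) by omega]
        exact add_mem (AddSubmonoid.subset_closure (Or.inr rfl)) (h2 _)
  have hA : ∀ f, f ∈ A ↔ f ∈ Groth.Agent.TFCurvLib.supp (k := k) Γ := fun f => by
    rw [hmono, Groth.Agent.TFCurvLib.mem_supp]
    simp only [hΓ]
  have hSM : ∀ l, l ≤ δ → ∀ m, m ∈ S l ↔ m ∈ Γ ∨ (2 * δ + 1 - 2 * l ≤ m ∧ m - (2 * δ + 1 - 2 * l) ∈ Γ) :=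
    fun l hl m => by
    change (m % 2 = 0 ∨ 2 * (δ - l) + 1 ≤ m) ↔ (m % 2 = 0 ∨ 2 * δ ≤ m) ∨
      (2 * δ + 1 - 2 * l ≤ m ∧ ((m - (2 * δ + 1 - 2 * l)) % 2 = 0 ∨ 2 * δ ≤ m - (2 * δ + 1 - 2 * l)))
    omega
  let d : Fin (min i j) ⊕ Fin (min i j) → ℕ :=
    Sum.elim (fun a => 2 * (i - min i j + a)) (fun a => 2 * (δ - j + a) + 1)
  rw [Groth.Agent.TFCurvLib.length_ext_two (b := 2 * i) (SK := S i) hA ?_ ?_ (c := 2 * δ) ?_ ?_ ?_ _ _
    (Submodule.subtype _) Subtype.val_injective (S i) (hSM i hi)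
    (Groth.Agent.TFCurvLib.mem_span_pair_iff hA _ _ (hSM i hi))
    (Submodule.subtype _) Subtype.val_injective (S j)
    (Groth.Agent.TFCurvLib.mem_span_pair_iff hA _ _ (hSM j hj)) d ?_ ?_ ?_ ?_]
  · simp [two_mul]
  · rintro g (hg | hg) m (hm | hm) <;>
      · change (g + m) % 2 = 0 ∨ 2 * (δ - i) + 1 ≤ g + m
        omega
  · rintro m (hm | hm) <;>
      · change ((2 * i + m) % 2 = 0 ∨ 2 * δ ≤ 2 * i + m) ∧
          ((2 * i + (2 * δ + 1 - 2 * i) + m) % 2 = 0 ∨ 2 * δ ≤ 2 * i + (2 * δ + 1 - 2 * i) + m)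
        omega
  · exact fun m hm => Or.inr hm
  · exact Or.inl rfl
  · rintro m (hm | hm) (hms | hms) <;>
      · change 2 * i ≤ m ∧ ((m - 2 * i) % 2 = 0 ∨ 2 * (δ - i) + 1 ≤ m - 2 * i)
        omega
  · rintro (a | a) (b | b) h <;> simp only [d, Sum.elim_inl, Sum.elim_inr] at h
    · exact congrArg Sum.inl (Fin.ext (by omega))
    · omega
    · omega
    · exact congrArg Sum.inr (Fin.ext (by omega))
  · rintro (a | a) q (hq | hq) <;>
      · simp only [d, Sum.elim_inl, Sum.elim_inr]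
        refine (show ∀ t, t % 2 = 0 ∨ 2 * (δ - j) + 1 ≤ t → t ∈ S j from fun t h => h) _ ?_
        omega
  · rintro (a | a) <;>
      · simp only [d, Sum.elim_inl, Sum.elim_inr]
        refine ⟨?_, ?_⟩ <;>
          · rintro ⟨h1, h2 | h2⟩ <;> omega
  · intro m hC h1 h2
    have c0 : m % 2 = 0 ∨ 2 * (δ - j) + 1 ≤ m := hC 0 (Or.inl rfl)
    have c1 : (m + (2 * (δ - i) + 1)) % 2 = 0 ∨ 2 * (δ - j) + 1 ≤ m + (2 * (δ - i) + 1) :=
      hC _ (Or.inr le_rfl)
    change ¬(2 * i ≤ m ∧ ((m - 2 * i) % 2 = 0 ∨ 2 * (δ - j) + 1 ≤ m - 2 * i)) at h1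
    change ¬(2 * i + (2 * δ + 1 - 2 * i) ≤ m ∧
      ((m - (2 * i + (2 * δ + 1 - 2 * i))) % 2 = 0 ∨
        2 * (δ - j) + 1 ≤ m - (2 * i + (2 * δ + 1 - 2 * i)))) at h2
    by_cases he : m % 2 = 0
    · exact ⟨Sum.inl ⟨m / 2 - (i - min i j), by omega⟩, by simp only [d, Sum.elim_inl]; omega⟩
    · exact ⟨Sum.inr ⟨m / 2 - (δ - j), by omega⟩, by simp only [d, Sum.elim_inr]; omega⟩

end Groth.Agent.S15030
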