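import Groth.Statements.S15031
import Groth.Agent.TFCurvLib.Cubical

set_option autoImplicit false
universe u
open CategoryTheory
open TFCurv

namespace Groth.Agent.S15031

/-- Let k be an algebraically closed field, n ≥ 2, and A = R_n ⊂ k[[t]] the monomial ring of the cubical
semigroup ⟨n, n+1, …, 2n−1⟩, i.e. the k-subalgebra of power series with no terms of degree 1, …,
n−1. For 0 ≤ i ≤ n − 2 let M_i ⊂ k[[t]] be the A-submodule generated by 1, t, …, t^i (the monomial
module whose value set is Γ_n together with 1, …, i). Then the A-module Ext¹_A(M_i, M_i) has length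
i·(n − 2 − i); as the A-endomorphisms of M_i are the scalars, this number is the invariant χ₁(M_i) =
dim Ext¹(M_i, M_i) − dim(End(M_i)/A). (The published statement asserts the value for every module
with this value set; only the monomial module is stated here.) -/
theorem result (k : Type u) [Field k] [IsAlgClosed k] (n : ℕ) (hn : 2 ≤ n) (A : Subalgebra k (PowerSeries k)) (hmono : ∀ f : PowerSeries k, f ∈ A ↔ ∀ m : ℕ, PowerSeries.coeff m f ≠ 0 → (m = 0 ∨ n ≤ m)) (i : ℕ) (hi : i + 2 ≤ n) : Module.length ↥A (Abelian.Ext (ModuleCat.of ↥A ↥(Submodule.span ↥A ((fun a : ℕ => (PowerSeries.X : PowerSeries k) ^ a) '' Set.Iic i))) (ModuleCat.of ↥A ↥(Submodule.span ↥A ((fun a : ℕ => (PowerSeries.X : PowerSeries k) ^ a) '' Set.Iic i))) 1) = ((i * (n - 2 - i) : ℕ) : ℕ∞) := by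
  let e : Fin i → ℕ := fun l => l + 1
  have he : Function.Injective e := fun a b h => Fin.ext (by simp only [e] at h; omega)
  have hen : ∀ l, e l < n := fun l => by simp only [e]; omega
  have hA : ∀ f, f ∈ A ↔ f ∈ Groth.Agent.TFCurvLib.supp (k := k) (Groth.Agent.TFCurvLib.cubeSet n) :=
    fun f => hmono f
  have hsp := Groth.Agent.TFCurvLib.mem_span_monomials e hA he (fun l => Nat.le_add_left 1 _) hen (Set.Iic i)
    (fun a => by
      simp only [Set.mem_Iic, e]
      constructor
      · intro h
        by_cases h0 : a = 0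
        · exact Or.inl h0
        · exact Or.inr ⟨⟨a - 1, by omega⟩, show a - 1 + 1 = a by omega⟩
      · rintro (h | ⟨l, rfl⟩) <;> omega)
  have hS : ∀ m, m ∈ Groth.Agent.TFCurvLib.modSet e n ↔ m ≤ i ∨ n ≤ m := fun m => by
    constructor
    · rintro (h | h | ⟨l, rfl⟩)
      · exact Or.inl (by omega)
      · exact Or.inr h
      · exact Or.inl (by simp only [e]; omega)
    · rintro (h | h)
      · by_cases h0 : m = 0
        · exact Or.inl h0
        · exact Or.inr (Or.inr ⟨⟨m - 1, by omega⟩, show m - 1 + 1 = m by omega⟩)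
      · exact Or.inr (Or.inl h)
  let U : (Fin i → PowerSeries k) →ₗ[k] PowerSeries k :=
    -∑ l : Fin i, (PowerSeries.coeff (n + i + 1) ∘ₗ LinearMap.proj l).smulRight
      ((PowerSeries.X : PowerSeries k) ^ (i - (l : ℕ)))
  have hU : ∀ v, U v = -∑ l : Fin i, PowerSeries.coeff (n + i + 1) (v l) • PowerSeries.X ^ (i - (l : ℕ)) :=
    fun v => by simp [U, LinearMap.sum_apply]
  have hUc : ∀ v (l : Fin i), PowerSeries.coeff (i - (l : ℕ)) (U v) = -PowerSeries.coeff (n + i + 1) (v l) :=
    fun v l => by
      rw [hU, map_neg]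
      exact congrArg Neg.neg (Groth.Agent.TFCurvLib.coeff_sum_monomials (fun l : Fin i => i - (l : ℕ))
        (fun a b h => Fin.ext (by simp only at h; omega)) (fun l => PowerSeries.coeff (n + i + 1) (v l)) l)
  have hUS : ∀ v, U v ∈ Groth.Agent.TFCurvLib.supp {m | 1 ≤ m ∧ m ≤ i} := fun v => by
    rw [hU]
    exact neg_mem (Groth.Agent.TFCurvLib.sum_monomials_mem (fun l : Fin i => i - (l : ℕ))
      (fun l => show 1 ≤ i - (l : ℕ) ∧ i - (l : ℕ) ≤ i by omega) _)
  let Φ : (Fin i → PowerSeries k) →ₗ[k] (Fin i × Fin (n - 2 - i) → k) :=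
    LinearMap.pi fun p => PowerSeries.coeff (n + (i + 2 + p.2)) ∘ₗ LinearMap.proj p.1 +
      PowerSeries.coeff (i + 2 + (p.2 : ℕ)) ∘ₗ LinearMap.mulLeft k (PowerSeries.X ^ e p.1) ∘ₗ U
  have hΦ' : ∀ v p, Φ v p = PowerSeries.coeff (n + (i + 2 + p.2)) (v p.1) +
      PowerSeries.coeff (i + 2 + (p.2 : ℕ)) (PowerSeries.X ^ e p.1 * U v) := fun v p => rfl
  rw [Groth.Agent.TFCurvLib.length_ext_cubical e hA he (fun l => Nat.le_add_left 1 _) hen _ _
    (Submodule.subtype _) Subtype.val_injective hsp (Submodule.subtype _) Subtype.val_injective _ hsp Φ ?_ ?_]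
  · simp
  · intro y
    let v : Fin i → PowerSeries k := fun l =>
      ∑ m : Fin (n - 2 - i), y (l, m) • PowerSeries.X ^ (n + (i + 2 + (m : ℕ)))
    refine ⟨v, fun l x => ?_, funext fun p => ?_⟩
    · exact Groth.Agent.TFCurvLib.supp_mono (fun m hm => (hS m).2 (Or.inr hm))
        (Groth.Agent.TFCurvLib.mul_mem_Ici x (Groth.Agent.TFCurvLib.sum_monomials_mem
          (fun m : Fin (n - 2 - i) => n + (i + 2 + (m : ℕ))) (fun m => Set.mem_Ici.2 (Nat.le_add_right _ _)) _))
    · have h0 : U v = 0 := by
        rw [hU, neg_eq_zero]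
        refine Finset.sum_eq_zero fun l _ => ?_
        rw [Groth.Agent.TFCurvLib.coeff_eq_zero (S := {m | n + i + 2 ≤ m})
          (Groth.Agent.TFCurvLib.sum_monomials_mem (fun m : Fin (n - 2 - i) => n + (i + 2 + (m : ℕ)))
            (fun m => show n + i + 2 ≤ _ by omega) (fun m => y (l, m))) (show ¬ n + i + 2 ≤ n + i + 1 by omega),
          zero_smul]
      rw [hΦ', h0, mul_zero, map_zero, add_zero]
      exact Groth.Agent.TFCurvLib.coeff_sum_monomials (fun m : Fin (n - 2 - i) => n + (i + 2 + (m : ℕ)))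
        (fun a b h => Fin.ext (by simp only at h; omega)) (fun m => y (p.1, m)) p.2
  · intro v hv
    have hlow : ∀ l, v l ∈ Groth.Agent.TFCurvLib.supp (Set.Ici n) := fun l m hm => by
      by_contra hc
      simp only [Set.mem_Ici, not_le] at hc
      refine hm ?_
      by_cases h : m ≤ i
      · have := Groth.Agent.TFCurvLib.coeff_eq_zero (hv l (PowerSeries.X ^ (i + 1 - m))) (m := i + 1)
          (fun h => by rcases (hS _).1 h with h | h <;> omega)
        rwa [Groth.Agent.TFCurvLib.coeff_X_pow_mul_eq, if_pos (by omega),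
          show i + 1 - (i + 1 - m) = m by omega] at this
      · have := Groth.Agent.TFCurvLib.coeff_eq_zero (hv l 1) (m := m)
          (fun h => by rcases (hS m).1 h with h | h <;> omega)
        rwa [one_mul] at this
    constructor
    · intro h0
      refine ⟨U v, Groth.Agent.TFCurvLib.supp_mono (fun m hm => (hS m).2 (Or.inl hm.2)) (hUS v),
        fun l => Groth.Agent.TFCurvLib.down n (v l) + PowerSeries.X ^ e l * U v, fun l m hm => ?_, fun l => ?_⟩
      · by_contra hc
        rw [hS, not_or, not_le, not_le] at hc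
        refine hm ?_
        rw [map_add, Groth.Agent.TFCurvLib.coeff_down, add_comm m n]
        by_cases h1 : m = i + 1
        · subst h1
          rw [Groth.Agent.TFCurvLib.coeff_X_pow_mul_eq, if_pos (by simp only [e]; omega),
            show i + 1 - e l = i - (l : ℕ) by simp only [e]; omega, hUc, ← add_assoc, add_neg_cancel]
        · have := congrFun h0 (l, (⟨m - (i + 2), by omega⟩ : Fin (n - 2 - i)))
          rw [hΦ', Pi.zero_apply] at this
          simpa [show i + 2 + (m - (i + 2)) = m by omega] using this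
      · rw [add_sub_cancel_right, Groth.Agent.TFCurvLib.X_pow_mul_down (hlow l)]
    · rintro ⟨u0, hu0, u, hu, huv⟩
      have hband : ∀ l M, i < M → M < n → PowerSeries.coeff (n + M) (v l) =
          -PowerSeries.coeff (M - e l) u0 := fun l M hM hM' => by
        rw [huv l, Groth.Agent.TFCurvLib.coeff_X_pow_mul_eq, if_pos (Nat.le_add_right _ _),
          Nat.add_sub_cancel_left, map_sub, Groth.Agent.TFCurvLib.coeff_X_pow_mul_eq,
          if_pos (by simp only [e]; omega), Groth.Agent.TFCurvLib.coeff_eq_zero (hu l)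
            (fun h => by rcases (hS M).1 h with h | h <;> omega), zero_sub]
      funext ⟨l, m⟩
      rw [hΦ', hband l _ (by omega) (by omega), Groth.Agent.TFCurvLib.coeff_X_pow_mul_eq,
        if_pos (by simp only [e]; omega), Pi.zero_apply]
      set p := i + 2 + (m : ℕ) - e l
      by_cases hp : p ≤ i
      · have hp1 : 1 ≤ p := by simp only [p, e]; omega
        have h2 := hUc v ⟨i - p, by omega⟩
        rw [show i - (i - p) = p by omega] at h2
        rw [h2, show n + i + 1 = n + (i + 1) by omega, hband _ _ (by omega) (by omega), neg_neg,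
          show i + 1 - e ⟨i - p, by omega⟩ = p by simp only [e]; omega, neg_add_cancel]
      · rw [Groth.Agent.TFCurvLib.coeff_eq_zero (hUS v) (show ¬(1 ≤ p ∧ p ≤ i) by omega),
          Groth.Agent.TFCurvLib.coeff_eq_zero hu0 (fun h => by
            rcases (hS p).1 h with h | h <;> simp only [p, e] at * <;> omega), neg_zero, add_zero]

end Groth.Agent.S15031
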