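import Groth.Statements.S15032
import Groth.Agent.TFCurvLib.Cubical

set_option autoImplicit false
universe u
open CategoryTheory
open TFCurv

namespace Groth.Agent.S15032

/-- Let k be an algebraically closed field, n ≥ 2, and A = R_n ⊂ k[[t]] the monomial ring of the cubical
semigroup ⟨n, n+1, …, 2n−1⟩, i.e. the k-subalgebra of power series with no terms of degree 1, …,
n−1. For the normalisation R~ = k[[t]] viewed as an A-module, χ₁(R~) = (n − 1)², where χ₁(M) = dim_k
Ext¹_A(M, M) − dim_k(End_A(M)/A): the length of the A-module Ext¹_A(k[[t]], k[[t]]) equals (n − 1)²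
plus the length of the A-linear endomorphisms of k[[t]] modulo multiplications by elements of A. -/
theorem result (k : Type u) [Field k] [IsAlgClosed k] (n : ℕ) (hn : 2 ≤ n) (A : Subalgebra k (PowerSeries k)) (hmono : ∀ f : PowerSeries k, f ∈ A ↔ ∀ m : ℕ, PowerSeries.coeff m f ≠ 0 → (m = 0 ∨ n ≤ m)) : Module.length ↥A (Abelian.Ext (ModuleCat.of ↥A (PowerSeries k)) (ModuleCat.of ↥A (PowerSeries k)) 1) = (((n - 1) ^ 2 : ℕ) : ℕ∞) + Module.length ↥A ((PowerSeries k →ₗ[↥A] PowerSeries k) ⧸ LinearMap.range (Algebra.lsmul ↥A ↥A (PowerSeries k) : ↥A →ₐ[↥A] Module.End ↥A (PowerSeries k)).toLinearMap) := by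
  let e : Fin (n - 1) → ℕ := fun l => l + 1
  have he : Function.Injective e := fun a b h => Fin.ext (by simp only [e] at h; omega)
  have hen : ∀ l, e l < n := fun l => by simp only [e]; omega
  have hA : ∀ f, f ∈ A ↔ f ∈ Groth.Agent.TFCurvLib.supp (k := k) (Groth.Agent.TFCurvLib.cubeSet n) :=
    fun f => hmono f
  have hsp : ∀ x : PowerSeries k, (∃ y, (LinearMap.id : PowerSeries k →ₗ[↥A] PowerSeries k) y = x) ↔
      x ∈ Groth.Agent.TFCurvLib.supp (Groth.Agent.TFCurvLib.modSet e n) := fun x =>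
    ⟨fun _ m _ => by
      by_cases h : m = 0
      · exact Or.inl h
      by_cases h' : n ≤ m
      · exact Or.inr (Or.inl h')
      exact Or.inr (Or.inr ⟨⟨m - 1, by omega⟩, show m - 1 + 1 = m by omega⟩), fun _ => ⟨x, rfl⟩⟩
  let Φ : (Fin (n - 1) → PowerSeries k) →ₗ[k] (Fin (n - 1) × Fin n → k) :=
    LinearMap.pi fun p => PowerSeries.coeff (p.2 : ℕ) ∘ₗ LinearMap.proj p.1
  rw [Groth.Agent.TFCurvLib.length_ext_cubical e hA he (fun l => Nat.le_add_left 1 _) hen _ _ LinearMap.id
    Function.injective_id hsp LinearMap.id Function.injective_id _ hsp Φ ?_ ?_]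
  · have hc := Groth.Agent.TFCurvLib.high_le hA
    have hend : ∀ (φ : PowerSeries k →ₗ[↥A] PowerSeries k) r, φ r = r * φ 1 := fun φ r => by
      refine mul_left_cancel₀ (pow_ne_zero n PowerSeries.X_ne_zero) ?_
      have h1 : φ ((⟨_, hc _ (Groth.Agent.TFCurvLib.X_pow_mem (Set.mem_Ici.2 le_rfl))⟩ : ↥A) • r) =
          φ ((⟨_, hc _ (Groth.Agent.TFCurvLib.X_pow_mul_mem_Ici n r)⟩ : ↥A) • (1 : PowerSeries k)) :=
        congrArg φ (by simp [Groth.Agent.TFCurvLib.smul_eq_mul'])
      rw [map_smul, map_smul] at h1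
      exact h1.trans (mul_assoc _ _ _)
    let Ψ : (PowerSeries k →ₗ[↥A] PowerSeries k) →ₗ[k] (Fin (n - 1) → k) :=
      LinearMap.pi fun m => PowerSeries.coeff ((m : ℕ) + 1) ∘ₗ LinearMap.applyₗ' k (1 : PowerSeries k)
    rw [Groth.Agent.TFCurvLib.length_quot_eq_card (Groth.Agent.TFCurvLib.chi A)
      (fun a => Groth.Agent.TFCurvLib.isUnit_of_high hc a) _ Ψ ?_ ?_]
    · simp only [Fintype.card_prod, Fintype.card_fin, ← Nat.cast_add, Nat.cast_inj]
      obtain ⟨m, rfl⟩ : ∃ m, n = m + 1 := ⟨n - 1, by omega⟩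
      simp only [Nat.add_sub_cancel]; ring
    · intro y
      refine ⟨LinearMap.mulRight ↥A (∑ m : Fin (n - 1), y m • PowerSeries.X ^ ((m : ℕ) + 1)), funext fun m => ?_⟩
      change PowerSeries.coeff ((m : ℕ) + 1) ((1 : PowerSeries k) * _) = _
      rw [one_mul]
      exact Groth.Agent.TFCurvLib.coeff_sum_monomials (fun m : Fin (n - 1) => (m : ℕ) + 1)
        (fun a b h => Fin.ext (by simpa using h)) y m
    · intro φ
      constructor
      · intro h0
        refine ⟨⟨φ 1, (hA _).2 fun m hm => ?_⟩, LinearMap.ext fun r => ?_⟩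
        · by_contra hc'
          simp only [Groth.Agent.TFCurvLib.cubeSet] at hc'
          change ¬(m = 0 ∨ n ≤ m) at hc'
          refine hm ?_
          have := congrFun h0 (⟨m - 1, by omega⟩ : Fin (n - 1))
          change PowerSeries.coeff (m - 1 + 1) (φ 1) = 0 at this
          rwa [show m - 1 + 1 = m by omega] at this
        · rw [hend φ r, mul_comm]; rfl
      · rintro ⟨a, rfl⟩
        funext m
        change PowerSeries.coeff ((m : ℕ) + 1) ((a : PowerSeries k) * 1) = 0
        rw [mul_one]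
        refine Groth.Agent.TFCurvLib.coeff_eq_zero ((hA _).1 a.2) ?_
        rintro (h | h) <;> omega
  · intro y
    refine ⟨fun l => ∑ m : Fin n, y (l, m) • PowerSeries.X ^ (m : ℕ), fun l x => ((hsp _).1 ⟨_, rfl⟩),
      funext fun p => ?_⟩
    exact Groth.Agent.TFCurvLib.coeff_sum_monomials (fun m : Fin n => (m : ℕ)) Fin.val_injective
      (fun m => y (p.1, m)) p.2
  · intro v _
    constructor
    · intro h0
      refine ⟨0, zero_mem _, fun l => Groth.Agent.TFCurvLib.down n (v l), fun l => (hsp _).1 ⟨_, rfl⟩,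
        fun l => ?_⟩
      rw [mul_zero, sub_zero, Groth.Agent.TFCurvLib.X_pow_mul_down]
      intro m hm
      by_contra hc'
      simp only [Set.mem_Ici, not_le] at hc'
      exact hm (congrFun h0 (l, (⟨m, hc'⟩ : Fin n)))
    · rintro ⟨u0, -, u, -, huv⟩
      funext ⟨l, m⟩
      change PowerSeries.coeff (m : ℕ) (v l) = 0
      rw [huv l, Groth.Agent.TFCurvLib.coeff_X_pow_mul_eq, if_neg (by omega)]

end Groth.Agent.S15032
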