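import Groth.Statements.S15033
import Groth.Agent.TFCurvLib.Cubical

set_option autoImplicit false
universe u
open CategoryTheory
open TFCurv

namespace Groth.Agent.S15033

/-- Let k be an algebraically closed field, n ≥ 2, and A = R_n ⊂ k[[t]] the monomial ring of the cubical
semigroup ⟨n, n+1, …, 2n−1⟩, i.e. the k-subalgebra of power series with no terms of degree 1, …,
n−1. For 0 ≤ i < n − 1 let R_{n−i} ⊂ k[[t]] be the A-submodule generated by 1, t^{n−i}, t^{n−i+1},
…, t^{n−1}, i.e. the overring of A consisting of the power series with no terms of degree 1, …, n −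
i − 1. Then the A-module Ext¹_A(R_{n−i}, R_{n−i}) has length i·(n − 1). Since the A-endomorphisms of
R_{n−i} are the multiplications by elements of R_{n−i}, of colength i over A, this is the published
value χ₁(R_{n−i}) = i·(n − 2) of χ₁(M) = dim Ext¹(M, M) − dim(End(M)/A). -/
theorem result (k : Type u) [Field k] [IsAlgClosed k] (n : ℕ) (hn : 2 ≤ n) (A : Subalgebra k (PowerSeries k)) (hmono : ∀ f : PowerSeries k, f ∈ A ↔ ∀ m : ℕ, PowerSeries.coeff m f ≠ 0 → (m = 0 ∨ n ≤ m)) (i : ℕ) (hi : i + 2 ≤ n) : Module.length ↥A (Abelian.Ext (ModuleCat.of ↥A ↥(Submodule.span ↥A ((fun a : ℕ => (PowerSeries.X : PowerSeries k) ^ a) '' ({0} ∪ Set.Icc (n - i) (n - 1))))) (ModuleCat.of ↥A ↥(Submodule.span ↥A ((fun a : ℕ => (PowerSeries.X : PowerSeries k) ^ a) '' ({0} ∪ Set.Icc (n - i) (n - 1))))) 1) = ((i * (n - 1) : ℕ) : ℕ∞) := by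
  let e : Fin i → ℕ := fun l => n - i + l
  have he : Function.Injective e := fun a b h => Fin.ext (by simp only [e] at h; omega)
  have he1 : ∀ l, 1 ≤ e l := fun l => by simp only [e]; omega
  have hen : ∀ l, e l < n := fun l => by simp only [e]; omega
  have hA : ∀ f, f ∈ A ↔ f ∈ Groth.Agent.TFCurvLib.supp (k := k) (Groth.Agent.TFCurvLib.cubeSet n) :=
    fun f => hmono f
  have hsp := Groth.Agent.TFCurvLib.mem_span_monomials e hA he he1 hen ({0} ∪ Set.Icc (n - i) (n - 1))
    (fun a => by
      simp only [Set.mem_union, Set.mem_singleton_iff, Set.mem_Icc, e]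
      constructor
      · rintro (h | h)
        · exact Or.inl h
        · exact Or.inr ⟨⟨a - (n - i), by omega⟩, show n - i + (a - (n - i)) = a by omega⟩
      · rintro (h | ⟨l, rfl⟩)
        · exact Or.inl h
        · exact Or.inr ⟨by omega, by omega⟩)
  have hS : ∀ m, m ∈ Groth.Agent.TFCurvLib.modSet e n ↔ m = 0 ∨ n - i ≤ m := fun m => by
    constructor
    · rintro (h | h | ⟨l, rfl⟩)
      · exact Or.inl h
      · exact Or.inr (by omega)
      · exact Or.inr (by simp only [e]; omega)
    · rintro (h | h)
      · exact Or.inl h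
      · by_cases hm : n ≤ m
        · exact Or.inr (Or.inl hm)
        · exact Or.inr (Or.inr ⟨⟨m - (n - i), by omega⟩, show n - i + (m - (n - i)) = m by omega⟩)
  let d : Fin (n - 1) → ℕ := fun m => if (m : ℕ) < i then n - i + m else n + ((m : ℕ) - i + 1)
  have hd : Function.Injective d := fun a b h => Fin.ext (by
    simp only [d] at h; split_ifs at h <;> omega)
  let Φ : (Fin i → PowerSeries k) →ₗ[k] (Fin i × Fin (n - 1) → k) :=
    LinearMap.pi fun p => PowerSeries.coeff (d p.2) ∘ₗ LinearMap.proj p.1
  rw [Groth.Agent.TFCurvLib.length_ext_cubical e hA he he1 hen _ _ (Submodule.subtype _)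
    Subtype.val_injective hsp (Submodule.subtype _) Subtype.val_injective _ hsp Φ ?_ ?_]
  · simp
  · intro y
    refine ⟨fun l => ∑ m, y (l, m) • PowerSeries.X ^ d m, fun l x => ?_, funext fun p => ?_⟩
    · refine Groth.Agent.TFCurvLib.supp_mono (fun m hm => (hS m).2 (Or.inr hm))
        (Groth.Agent.TFCurvLib.mul_mem_Ici x (Groth.Agent.TFCurvLib.sum_monomials_mem d (fun m => ?_) _))
      simp only [d, Set.mem_Ici]; split_ifs <;> omega
    · exact Groth.Agent.TFCurvLib.coeff_sum_monomials d hd (fun m => y (p.1, m)) p.2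
  · intro v hv
    have hC : ∀ l m, m < n - i → PowerSeries.coeff m (v l) = 0 := fun l m hm => by
      rcases Nat.eq_zero_or_pos m with rfl | h
      · have := Groth.Agent.TFCurvLib.coeff_eq_zero (hv l (PowerSeries.X ^ 1)) (m := 1)
          (fun h => by rcases (hS 1).1 h with h | h <;> omega)
        rwa [Groth.Agent.TFCurvLib.coeff_X_pow_mul_eq, if_pos le_rfl] at this
      · have := Groth.Agent.TFCurvLib.coeff_eq_zero (hv l 1) (m := m)
          (fun h => by rcases (hS m).1 h with h | h <;> omega)
        rwa [one_mul] at this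
    constructor
    · intro h0
      have hlow : ∀ l, v l ∈ Groth.Agent.TFCurvLib.supp (Set.Ici n) := fun l m hm => by
        by_contra hc
        simp only [Set.mem_Ici, not_le] at hc
        refine hm ?_
        by_cases h : m < n - i
        · exact hC l m h
        · have := congrFun h0 (l, (⟨m - (n - i), by omega⟩ : Fin (n - 1)))
          simp only [Φ, d, LinearMap.pi_apply, LinearMap.comp_apply, LinearMap.proj_apply, Pi.zero_apply] at this
          rwa [if_pos (by omega), show n - i + (m - (n - i)) = m by omega] at this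
      refine ⟨0, zero_mem _, fun l => Groth.Agent.TFCurvLib.down n (v l), fun l m hm => ?_, fun l => by
        rw [mul_zero, sub_zero, Groth.Agent.TFCurvLib.X_pow_mul_down (hlow l)]⟩
      by_contra hc
      rw [hS, not_or, not_le] at hc
      refine hm ?_
      have := congrFun h0 (l, (⟨i + (m - 1), by omega⟩ : Fin (n - 1)))
      simp only [Φ, d, LinearMap.pi_apply, LinearMap.comp_apply, LinearMap.proj_apply, Pi.zero_apply] at this
      rw [if_neg (by omega), show n + (i + (m - 1) - i + 1) = m + n by omega] at this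
      rwa [Groth.Agent.TFCurvLib.coeff_down]
    · rintro ⟨u0, hu0, u, hu, huv⟩
      funext ⟨l, m⟩
      change PowerSeries.coeff (d m) (v l) = 0
      rw [huv l, Groth.Agent.TFCurvLib.coeff_X_pow_mul_eq]
      split
      · rw [map_sub, Groth.Agent.TFCurvLib.coeff_X_pow_mul_eq, if_neg, sub_zero]
        · refine Groth.Agent.TFCurvLib.coeff_eq_zero (hu l) fun h => ?_
          rw [hS] at h; simp only [d] at *; split_ifs at * <;> omega
        · simp only [d, e] at *; split_ifs at * <;> omega
      · rfl

end Groth.Agent.S15033
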