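import Groth.Statements.S15036
import Groth.Agent.TFCurvSG.Basic

set_option autoImplicit false
open TFCurv

namespace Groth.Agent.S15036

/-- Let Γ be a numerical semigroup (a submonoid of (ℕ, +) with finite complement), Γ ≠ ℕ, with conductor
c (every n ≥ c lies in Γ, c − 1 does not); let S ⊆ ℕ be a Γ-module in normal form (0 ∈ S, γ + s ∈ S
for γ ∈ Γ, s ∈ S) with conductor c(S) (all n ≥ c(S) in S, c(S) − 1 ∉ S), and let s be a gap of S
such that S ∪ {s} is again a Γ-module. Enumerate S increasingly as s_0 < s_1 < ⋯ and put τ_i(S) =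
s_i + ℓ(S), where ℓ counts the gaps of Γ filled; since ℓ(S ∪ {s}) = ℓ(S) + 1, the termwise
comparison τ(S) ≤ τ(S ∪ {s}) says that the i-th element of S is at most one more than the i-th
element of S ∪ {s} for every i. This holds if and only if s = c(S) − 1, the largest gap of S. -/
theorem result (Γ : AddSubmonoid ℕ) (c : ℕ) (hc : ∀ n : ℕ, c ≤ n → n ∈ Γ) (hc0 : c ≠ 0) (hc1 : c - 1 ∉ Γ) (S : Set ℕ) (hS0 : (0 : ℕ) ∈ S) (hS : ∀ γ : ℕ, γ ∈ Γ → ∀ s : ℕ, s ∈ S → γ + s ∈ S) (cS : ℕ) (hcS : ∀ n : ℕ, cS ≤ n → n ∈ S) (hcS0 : cS ≠ 0) (hcS1 : cS - 1 ∉ S) (s : ℕ) (hs : s ∉ S) (hs' : ∀ γ : ℕ, γ ∈ Γ → γ ≠ 0 → s + γ ∈ S) : (∀ i : ℕ, Nat.nth (fun m => m ∈ S) i ≤ Nat.nth (fun m => m ∈ insert s S) i + 1) ↔ s + 1 = cS := by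
  classical
  have hinf : (setOf fun m => m ∈ S).Infinite :=
    (Set.Ici_infinite cS).mono fun n hn => hcS n hn
  have hinf' : (setOf fun m => m ∈ insert s S).Infinite :=
    hinf.mono fun n hn => Or.inr hn
  have hcnt : ∀ n, Nat.count (fun m => m ∈ insert s S) n =
      Nat.count (fun m => m ∈ S) n + if s < n then 1 else 0 := by
    intro n
    induction n with
    | zero => simp
    | succ n ih =>
      rw [Nat.count_succ, Nat.count_succ, ih]
      by_cases hn : n = s
      · subst hn; simp [hs]
      · have : n ∈ insert s S ↔ n ∈ S := by simp [hn]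
        simp only [this]
        split_ifs <;> omega
  have hslt : s < cS := by by_contra h; exact hs (hcS s (by omega))
  constructor
  · intro h
    by_contra hne
    have hg : s < cS - 1 := by omega
    set F := (Finset.range (cS - 1)).filter (fun y => y ∈ insert s S) with hF
    have hFne : F.Nonempty := ⟨s, by simp [hF, hg]⟩
    have hm := F.max'_mem hFne
    have hsm : s ≤ F.max' hFne := F.le_max' s (by simp [hF, hg])
    simp only [hF, Finset.mem_filter, Finset.mem_range] at hm
    obtain ⟨hmlt, hmS⟩ := hm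
    set m := F.max' hFne with hmdef
    have hm1 : m + 1 ∉ S := by
      intro hmem
      rcases Nat.lt_or_ge (m + 1) (cS - 1) with h' | h'
      · have := F.le_max' (m + 1) (by simp [hF, h', hmem]); omega
      · rw [show m + 1 = cS - 1 by omega] at hmem; exact hcS1 hmem
    have hi := h (Nat.count (fun x => x ∈ insert s S) m)
    have hnth : Nat.nth (fun x => x ∈ insert s S) (Nat.count (fun x => x ∈ insert s S) m) = m := Nat.nth_count hmS
    rw [hnth] at hi
    have h2 : Nat.count (fun x => x ∈ S) (m + 1 + 1) = Nat.count (fun x => x ∈ insert s S) m := by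
      have e1 : Nat.count (fun x => x ∈ insert s S) (m + 1) = Nat.count (fun x => x ∈ insert s S) m + 1 := by
        rw [Nat.count_succ, if_pos hmS]
      rw [hcnt (m + 1), if_pos (by omega)] at e1
      rw [Nat.count_succ, if_neg hm1]; omega
    have hcS' := Nat.count_nth_of_infinite hinf (Nat.count (fun x => x ∈ insert s S) m)
    have hmono := Nat.count_monotone (fun x => x ∈ S) hi
    have hlt : Nat.count (fun x => x ∈ S) (Nat.nth (fun x => x ∈ S) (Nat.count (fun x => x ∈ insert s S) m) + 1) ≤ Nat.count (fun x => x ∈ S) (m + 1 + 1) :=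
      Nat.count_monotone _ (by omega)
    rw [Nat.count_succ, if_pos (Nat.nth_mem_of_infinite hinf _)] at hlt
    omega
  · intro hsc i
    set m := Nat.nth (fun x => x ∈ insert s S) i with hm
    have hc1' : Nat.count (fun x => x ∈ insert s S) (m + 1) = i + 1 := by
      rw [Nat.count_succ, if_pos (Nat.nth_mem_of_infinite hinf' i), Nat.count_nth_of_infinite hinf' i]
    rw [hcnt] at hc1'
    by_contra hcon
    have hle : Nat.count (fun x => x ∈ S) (m + 1 + 1) ≤ i := by
      have := Nat.count_monotone (fun x => x ∈ S) (show m + 1 + 1 ≤ Nat.nth (fun x => x ∈ S) i by omega)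
      rwa [Nat.count_nth_of_infinite hinf i] at this
    rw [Nat.count_succ] at hle
    by_cases hsm : s < m + 1
    · rw [if_pos (hcS _ (by omega))] at hle
      rw [if_pos hsm] at hc1'
      omega
    · rw [if_neg hsm] at hc1'
      omega

end Groth.Agent.S15036
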