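import Groth.Statements.S15037
import Groth.Agent.TFCurvSG.Basic

set_option autoImplicit false
open TFCurv

namespace Groth.Agent.S15037

private theorem nth_add_le (S : Set ℕ) [DecidablePred (fun m => m ∈ S)] (cS : ℕ)
    (hcS : ∀ n : ℕ, cS ≤ n → n ∈ S) (hcS1 : cS = 0 ∨ cS - 1 ∉ S) (i : ℕ) :
    ((S ∩ Set.Iio cS).ncard + Sᶜ.ncard = cS) ∧
    ((S ∩ Set.Iio cS).ncard ≤ i → Nat.nth (fun m => m ∈ S) i = i + Sᶜ.ncard) ∧
    (i < (S ∩ Set.Iio cS).ncard → Nat.nth (fun m => m ∈ S) i < i + Sᶜ.ncard) := by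
  have hinf : (setOf fun m => m ∈ S).Infinite :=
    (Set.Ici_infinite cS).mono fun n hn => hcS n hn
  have hsum : (S ∩ Set.Iio cS).ncard + Sᶜ.ncard = cS := by
    have hc : Sᶜ = Set.Iio cS \ S := by
      ext x
      refine ⟨fun h => ⟨?_, h⟩, fun h => h.2⟩
      simp only [Set.mem_Iio]; by_contra h'; exact h (hcS x (by omega))
    rw [hc, Set.inter_comm, Set.ncard_inter_add_ncard_sdiff_eq_ncard _ _ (Set.finite_Iio cS), ← Finset.coe_Iio, Set.ncard_coe_finset, Nat.card_Iio]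
  refine ⟨hsum, ?_, ?_⟩ <;> intro hi <;> rw [Groth.Agent.TFCurvSG.ncard_inter_Iio_eq_count] at hi hsum
  · have hk : ∀ j, Nat.count (fun m => m ∈ S) (cS + j) = Nat.count (fun m => m ∈ S) cS + j := by
      intro j
      induction j with
      | zero => simp
      | succ j ih => rw [← Nat.add_assoc, Nat.count_succ, if_pos (hcS _ (by omega)), ih]; omega
    obtain ⟨j, rfl⟩ := Nat.exists_eq_add_of_le hi
    have := Nat.nth_count (p := fun m => m ∈ S) (hcS (cS + j) (by omega))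
    rw [hk] at this
    omega
  · set v := Nat.nth (fun m => m ∈ S) i with hv
    have hcv := Nat.count_nth_of_infinite hinf i
    rw [← hv] at hcv
    have hvlt : v < cS := by
      by_contra h
      have := Nat.count_monotone (fun m => m ∈ S) (show cS ≤ v by omega); omega
    have hg : cS - 1 ∉ S := hcS1.resolve_left (by omega)
    have hvne : v ≠ cS - 1 := fun h => hg (h ▸ Nat.nth_mem_of_infinite hinf i)
    have hle : ∀ j, Nat.count (fun m => m ∈ S) (v + j) ≤ Nat.count (fun m => m ∈ S) v + j := by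
      intro j
      induction j with
      | zero => simp
      | succ j ih => rw [← Nat.add_assoc, Nat.count_succ]; split_ifs <;> omega
    have h1 := hle (cS - 1 - v)
    rw [show v + (cS - 1 - v) = cS - 1 by omega] at h1
    have h2 := Nat.count_succ (fun m => m ∈ S) (cS - 1)
    rw [show cS - 1 + 1 = cS by omega, if_neg hg] at h2
    omega


/-- Let Γ be a numerical semigroup (a submonoid of (ℕ, +) with finite complement), Γ ≠ ℕ, with conductor
c (every n ≥ c lies in Γ, c − 1 does not); let S and S' ⊆ ℕ be Γ-modules in normal form with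
conductors c(S), c(S'), let δ(S), δ(S') be their numbers of gaps and r(S), r(S') their numbers of
elements below the conductor, and enumerate them increasingly as s_i, s'_i (i ≥ 0). With τ_i(S) =
s_i + ℓ(S) and ℓ(S) = δ(Γ) − δ(S), the termwise order τ(S) ≤ τ(S') reads s_i + δ(S') ≤ s'_i + δ(S)
for all i. It holds if and only if r(S') ≤ r(S) and s_i + δ(S') ≤ s'_i + δ(S) for all i < r(S')
(beyond r(S) the entries τ_i(S) = i + δ(Γ) are the largest possible). -/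
theorem result (Γ : AddSubmonoid ℕ) (c : ℕ) (hc : ∀ n : ℕ, c ≤ n → n ∈ Γ) (hc0 : c ≠ 0) (hc1 : c - 1 ∉ Γ) (S : Set ℕ) (hS0 : (0 : ℕ) ∈ S) (hS : ∀ γ : ℕ, γ ∈ Γ → ∀ s : ℕ, s ∈ S → γ + s ∈ S) (cS : ℕ) (hcS : ∀ n : ℕ, cS ≤ n → n ∈ S) (hcS1 : cS = 0 ∨ cS - 1 ∉ S) (S' : Set ℕ) (hS'0 : (0 : ℕ) ∈ S') (hS' : ∀ γ : ℕ, γ ∈ Γ → ∀ s : ℕ, s ∈ S' → γ + s ∈ S') (cS' : ℕ) (hcS' : ∀ n : ℕ, cS' ≤ n → n ∈ S') (hcS'1 : cS' = 0 ∨ cS' - 1 ∉ S') : (∀ i : ℕ, Nat.nth (fun m => m ∈ S) i + S'ᶜ.ncard ≤ Nat.nth (fun m => m ∈ S') i + Sᶜ.ncard) ↔ ((S' ∩ Set.Iio cS').ncard ≤ (S ∩ Set.Iio cS).ncard ∧ ∀ i : ℕ, i < (S' ∩ Set.Iio cS').ncard → Nat.nth (fun m => m ∈ S) i + S'ᶜ.ncard ≤ Nat.nth (fun m => m ∈ S') i + Sᶜ.ncard) := by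
  classical
  constructor
  · intro h
    refine ⟨?_, fun i _ => h i⟩
    by_contra hlt
    push Not at hlt
    have h1 := h (S ∩ Set.Iio cS).ncard
    have h2 := (nth_add_le S cS hcS hcS1 _).2.1 le_rfl
    have h3 := (nth_add_le S' cS' hcS' hcS'1 _).2.2 hlt
    omega
  · rintro ⟨hk, h⟩ i
    rcases Nat.lt_or_ge i (S' ∩ Set.Iio cS').ncard with hi | hi
    · exact h i hi
    · have h1 := (nth_add_le S' cS' hcS' hcS'1 i).2.1 hi
      rcases Nat.lt_or_ge i (S ∩ Set.Iio cS).ncard with hi' | hi'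
      · have := (nth_add_le S cS hcS hcS1 i).2.2 hi'; omega
      · have := (nth_add_le S cS hcS hcS1 i).2.1 hi'; omega

end Groth.Agent.S15037
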