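import Groth.Statements.S15038
import Groth.Agent.TFCurvSG.Basic

set_option autoImplicit false
open TFCurv

namespace Groth.Agent.S15038

/-- Let Γ be a numerical semigroup (a submonoid of (ℕ, +) with finite complement), Γ ≠ ℕ, with conductor
c (every n ≥ c lies in Γ, c − 1 does not). If Γ is symmetric (for x < c, x is a gap exactly when c −
1 − x ∈ Γ) and its multiplicity e, the least nonzero element of Γ, is greater than 2, then Γ is
generated as an additive monoid by at most e − 1 elements. -/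
theorem result (Γ : AddSubmonoid ℕ) (c : ℕ) (hc : ∀ n : ℕ, c ≤ n → n ∈ Γ) (hc0 : c ≠ 0) (hc1 : c - 1 ∉ Γ) (hsymm : ∀ x : ℕ, x < c → (x ∉ Γ ↔ c - 1 - x ∈ Γ)) (e : ℕ) (he : e ∈ Γ) (he0 : e ≠ 0) (hemin : ∀ γ : ℕ, γ ∈ Γ → γ ≠ 0 → e ≤ γ) (he2 : 2 < e) : ∃ G : Finset ℕ, G.card ≤ e - 1 ∧ AddSubmonoid.closure (↑G : Set ℕ) = Γ := by
  classical
  have hmul : ∀ {s : ℕ}, s ∈ Γ → ∀ k, k * e + s ∈ Γ := fun hs k =>
    Groth.Agent.TFCurvSG.mul_add_mem Γ (↑Γ) (fun _ h1 _ h2 => Γ.add_mem h1 h2) he hs k
  set A : Set ℕ := {a | a ∈ Γ ∧ e < a ∧ a - e ∉ Γ}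
  have hAcard : A.encard ≤ ((e - 1 : ℕ) : ℕ∞) := by
    refine Groth.Agent.TFCurvSG.encard_le_pred A he0 ?_ ?_
    · rintro a ⟨ha, hlt, hg⟩ h0
      apply hg
      obtain ⟨k, rfl⟩ := Nat.dvd_of_mod_eq_zero h0
      have := hmul Γ.zero_mem (k - 1)
      rwa [Nat.add_zero, Nat.sub_mul, Nat.one_mul, Nat.mul_comm k e] at this
    · rintro a ⟨ha, -, -⟩ k hk ⟨-, -, hg⟩
      obtain ⟨j, rfl⟩ := Nat.exists_eq_add_of_le' hk
      have hj : a + (j + 1) * e = j * e + a + e := by ring
      apply hg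
      rw [hj, Nat.add_sub_cancel]
      exact hmul ha j
  have hAfin : A.Finite := Set.finite_of_encard_le_coe hAcard
  set w := c - 1 + e with hw
  have hwA : w ∈ A := by
    refine ⟨hc _ (by omega), ?_, ?_⟩
    · rcases Nat.eq_zero_or_pos (c - 1) with h | h
      · rw [h] at hc1; exact absurd Γ.zero_mem hc1
      · omega
    · rw [hw, Nat.add_sub_cancel]; exact hc1
  obtain ⟨r, hr1, hre, hrw⟩ : ∃ r, 1 ≤ r ∧ r < e ∧ r ≠ w % e := by
    by_cases h : w % e = 1
    · exact ⟨2, by omega, he2, by omega⟩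
    · exact ⟨1, le_rfl, by omega, fun h' => h h'.symm⟩
  have hexr : ∃ n, n ∈ Γ ∧ n % e = r := ⟨c * e + r, hc _ (by nlinarith),
    by rw [Nat.mul_add_mod_self_right, Nat.mod_eq_of_lt hre]⟩
  obtain ⟨haΓ, har⟩ := Nat.find_spec hexr
  set a := Nat.find hexr with ha
  have hage : e ≤ a := hemin a haΓ (fun h => by rw [h, Nat.zero_mod] at har; omega)
  have haA : a ∈ A := by
    refine ⟨haΓ, lt_of_le_of_ne hage (fun h => by rw [← h, Nat.mod_self] at har; omega), fun h => ?_⟩
    refine Nat.find_min hexr (show a - e < Nat.find hexr by omega) ⟨h, ?_⟩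
    rw [← Nat.mod_eq_sub_mod hage, har]
  have haw : a ≠ w := fun h => hrw (by rw [← har, h])
  set G : Finset ℕ := insert e (hAfin.toFinset.erase w) with hG
  refine ⟨G, ?_, ?_⟩
  · have h1 : hAfin.toFinset.card ≤ e - 1 := by
      rw [hAfin.encard_eq_coe_toFinset_card] at hAcard
      exact_mod_cast hAcard
    have hwT : w ∈ hAfin.toFinset := hAfin.mem_toFinset.2 hwA
    have := Finset.card_pos.2 ⟨w, hwT⟩
    have := Finset.card_erase_of_mem hwT
    have := Finset.card_insert_le e (hAfin.toFinset.erase w)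
    simp only [hG]
    omega
  · refine le_antisymm (AddSubmonoid.closure_le.2 ?_) ?_
    · intro n hn
      simp only [hG, Finset.coe_insert, Set.mem_insert_iff, Finset.coe_erase, Set.Finite.coe_toFinset, Set.mem_sdiff] at hn
      rcases hn with rfl | ⟨h, -⟩
      · exact he
      · exact h.1
    · intro n hn
      induction n using Nat.strong_induction_on with
      | _ n ih =>
        have hgen : ∀ m, m ∈ A → m ≠ w → m ∈ AddSubmonoid.closure (↑G : Set ℕ) := fun m h1 h2 =>
          AddSubmonoid.subset_closure (by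
            simp only [hG, Finset.coe_insert, Set.mem_insert_iff, Finset.coe_erase, Set.Finite.coe_toFinset, Set.mem_sdiff, Set.mem_singleton_iff]
            exact Or.inr ⟨h1, h2⟩)
        have hegen : e ∈ AddSubmonoid.closure (↑G : Set ℕ) := AddSubmonoid.subset_closure (by simp [hG])
        by_cases hn0 : n = 0
        · rw [hn0]; exact zero_mem _
        have hen := hemin n hn hn0
        by_cases hne : n - e ∈ Γ
        · have := add_mem (ih (n - e) (by omega) hne) hegen
          rwa [Nat.sub_add_cancel hen] at this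
        have hnA : n ∈ A := ⟨hn, lt_of_le_of_ne hen (fun h => hne (by rw [← h, Nat.sub_self]; exact Γ.zero_mem)), hne⟩
        by_cases hnw : n = w
        · obtain ⟨-, hea, hag⟩ := haA
          have hlt : a - e < c := by by_contra h; exact hag (hc _ (by omega))
          have hb : c - 1 - (a - e) ∈ Γ := (hsymm _ hlt).1 hag
          have := add_mem (hgen a ⟨haΓ, hea, hag⟩ haw) (ih _ (by omega) hb)
          rwa [show a + (c - 1 - (a - e)) = n by omega] at this
        · exact hgen n hnA hnw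

end Groth.Agent.S15038
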