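import Groth.Statements.S1504
import Groth.Agent.PCMor.Scheme

set_option autoImplicit false
universe u
attribute [local instance] HasDerivedCategory.standard
open FlatMor

namespace Groth.Agent.S1504

open AlgebraicGeometry CategoryTheory Limits in
/-- The composition of two pseudo-coherent morphisms of schemes is pseudo-coherent (pseudo-coherence
taken affine-locally through pseudo-coherent ring maps). -/
theorem result {X Y Z : Scheme.{u}} (f : X ⟶ Y) (g : Y ⟶ Z) (hf : MoreMor.IsPseudoCoherentMor f) (hg : MoreMor.IsPseudoCoherentMor g) :
    MoreMor.IsPseudoCoherentMor (f ≫ g) := by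
  exact Groth.Agent.PCMor.comp f g hf hg

end Groth.Agent.S1504
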