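import Groth.Statements.S15040
import Groth.Agent.TFCurvLib.Duality
-- import your own Groth.Agent.* helpers here

set_option autoImplicit false
universe u
open CategoryTheory
open TFCurv

namespace Groth.Agent.S15040

/-- Let O be a one-dimensional Gorenstein local domain with algebraically closed residue field whose
integral closure O~ in its fraction field K is a finite O-module, and let M be an intermediate ring
O ⊆ M ⊆ O~ (an overring of O), viewed as an O-module. Put M⁻¹ = {x ∈ K | x·M ⊆ O}, which lies in O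
and is identified with an ideal of O. Then Ext¹_O(M, M) and Hom_O(M⁻¹, O/M⁻¹) are isomorphic abelian
groups (existence of an additive isomorphism only). -/
theorem result (O : Type u) [CommRing O] [IsDomain O] [LocCoh.IsGorensteinLocalRing O] (hdim : ringKrullDim O = 1) [IsAlgClosed (IsLocalRing.ResidueField O)] (K : Type u) [Field K] [Algebra O K] [IsFractionRing O K] (hfin : Module.Finite O ↥(integralClosure O K)) (M : Subalgebra O K) (hM : M ≤ integralClosure O K) : Nonempty (Abelian.Ext (ModuleCat.of O ↥M) (ModuleCat.of O ↥M) 1 ≃+ (↥((1 : Submodule O K) / Subalgebra.toSubmodule M) →ₗ[O] (O ⧸ Submodule.comap (Algebra.linearMap O K) ((1 : Submodule O K) / Subalgebra.toSubmodule M)))) := by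
  classical
  haveI : Ring.KrullDimLE 1 O := (Ring.krullDimLE_iff (n := 1)).2 hdim.le
  have hnf := Groth.Agent.TFCurvLib.Lattice.not_isField_of_dim hdim
  have hinj := Groth.Agent.TFCurvLib.Lattice.gorenstein_injDim (O := O) (K := K) hdim
  have hfg1 := Groth.Agent.TFCurvLib.Lattice.one_fg (O := O) (K := K)
  have h01 := Groth.Agent.TFCurvLib.Lattice.one_ne_bot (O := O) (K := K)
  haveI : Module.Finite O ↥(integralClosure O K) := hfin
  have hMfg : (Subalgebra.toSubmodule M).FG := by
    have h : Subalgebra.toSubmodule M ≤ Subalgebra.toSubmodule (integralClosure O K) := hM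
    exact (Module.Finite.iff_fg.1 (inferInstanceAs (Module.Finite O ↥(integralClosure O K)))).of_le h
  haveI : Module.Finite O ↥M := Module.Finite.iff_fg.2 hMfg
  set J : Submodule O K := (1 : Submodule O K) / Subalgebra.toSubmodule M with hJ
  have hinjK : Function.Injective (algebraMap O K) := IsFractionRing.injective O K
  have hmulK : ∀ (c : K) (y : K), c ∈ J → y ∈ M → c * y ∈ (1 : Submodule O K) := fun c y hc hy =>
    Submodule.mem_div_iff_forall_mul_mem.1 hc y hy
  have hJ1 : J ≤ 1 := fun c hc => by simpa using hmulK c 1 hc M.one_mem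
  haveI hJfin : Module.Finite O ↥J := Module.Finite.iff_fg.2 (hfg1.of_le hJ1)
  -- a scalar in `J`
  obtain ⟨d, hd, hdJ⟩ : ∃ d : O, d ≠ 0 ∧ algebraMap O K d ∈ J := by
    obtain ⟨s, hs⟩ := hMfg
    obtain ⟨b, hb⟩ := IsLocalization.exist_integer_multiples_of_finset (nonZeroDivisors O) s
    refine ⟨b, nonZeroDivisors.ne_zero b.2, Submodule.mem_div_iff_forall_mul_mem.2 fun y hy => ?_⟩
    rw [← hs] at hy
    induction hy using Submodule.span_induction with
    | mem y hy =>
      obtain ⟨a, ha⟩ := hb y hy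
      exact Submodule.mem_one.2 ⟨a, by rw [ha, Algebra.smul_def]⟩
    | zero => simp
    | add x y _ _ hx hy => rw [mul_add]; exact add_mem hx hy
    | smul r x _ hx => rw [mul_smul_comm]; exact Submodule.smul_mem _ r hx
  have hd0 : algebraMap O K d ≠ 0 := fun h => hd (hinjK (h.trans (map_zero _).symm))
  -- the dual of `M` is `J`
  have hlin : ∀ (N : Submodule O K) (φ : ↥N →ₗ[O] K) (u v : ↥N), (u : K) * φ v = (v : K) * φ u := fun N φ u v => by
    obtain ⟨au, bu, hbu, hu⟩ := IsFractionRing.div_surjective O (u : K)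
    obtain ⟨av, bv, hbv, hv⟩ := IsFractionRing.div_surjective O (v : K)
    have hbu0 : algebraMap O K bu ≠ 0 := fun h => nonZeroDivisors.ne_zero hbu (hinjK (h.trans (map_zero _).symm))
    have hbv0 : algebraMap O K bv ≠ 0 := fun h => nonZeroDivisors.ne_zero hbv (hinjK (h.trans (map_zero _).symm))
    have e1 : (au * bv) • v = (bu * av) • u := Subtype.ext (by
      simp only [Submodule.coe_smul, Algebra.smul_def, map_mul, ← hu, ← hv]
      field_simp)
    have e2 := congrArg φ e1
    simp only [map_smul, Algebra.smul_def, map_mul] at e2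
    rw [← hu, ← hv]
    field_simp
    linear_combination e2
  let Φ : ↥J →ₗ[O] (↥M →ₗ[O] ↥(1 : Submodule O K)) :=
    { toFun := fun c =>
        { toFun := fun y => ⟨c.1 * y.1, hmulK _ _ c.2 y.2⟩
          map_add' := fun a b => Subtype.ext (mul_add _ _ _)
          map_smul' := fun r a => Subtype.ext (mul_smul_comm _ _ _) }
      map_add' := fun a b => LinearMap.ext fun y => Subtype.ext (add_mul _ _ _)
      map_smul' := fun r a => LinearMap.ext fun y => Subtype.ext (smul_mul_assoc _ _ _) }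
  have hΦ : Function.Bijective Φ := by
    refine ⟨fun a b h => Subtype.ext ?_, fun ψ => ?_⟩
    · simpa [Φ] using congrArg Subtype.val (LinearMap.congr_fun h ⟨1, M.one_mem⟩)
    · have hy : ∀ y : ↥M, (ψ y : K) = (y : K) * (ψ ⟨1, M.one_mem⟩ : K) := fun y => by
        have := hlin (Subalgebra.toSubmodule M) ((1 : Submodule O K).subtype.comp ψ) ⟨1, M.one_mem⟩ y
        simpa using this
      refine ⟨⟨(ψ ⟨1, M.one_mem⟩ : K), Submodule.mem_div_iff_forall_mul_mem.2 fun y hy' => ?_⟩, LinearMap.ext fun y => Subtype.ext ?_⟩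
      · rw [mul_comm, ← hy ⟨y, hy'⟩]
        exact (ψ _).2
      · exact (mul_comm _ _).trans (hy y).symm
  let eJ : ↥J ≃ₗ[O] (↥M →ₗ[O] ↥(1 : Submodule O K)) := LinearEquiv.ofBijective Φ hΦ
  obtain ⟨E₁⟩ := Groth.Agent.TFCurvLib.Duality.nonempty_ext_addEquiv (1 : Submodule O K) hfg1 h01 hinj hnf 1 ↥M ↥M
  -- the sequence `0 → J → 1 → 1/J → 0`
  set I : Ideal O := Submodule.comap (Algebra.linearMap O K) J with hI
  let ι : ↥J →ₗ[O] ↥(1 : Submodule O K) := Submodule.inclusion hJ1
  let e1 : O ≃ₗ[O] ↥(1 : Submodule O K) :=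
    (LinearEquiv.ofInjective (Algebra.linearMap O K) hinjK).trans (LinearEquiv.ofEq _ _ (by rw [Submodule.one_eq_range]))
  let π : ↥(1 : Submodule O K) →ₗ[O] O ⧸ I := I.mkQ.comp e1.symm.toLinearMap
  have he1 : ∀ x, ((e1 x : ↥(1 : Submodule O K)) : K) = algebraMap O K x := fun x => rfl
  have hex : Function.Exact ι π := fun w => by
    obtain ⟨x, rfl⟩ := e1.surjective w
    change I.mkQ (e1.symm (e1 x)) = 0 ↔ _
    rw [LinearEquiv.symm_apply_apply, Submodule.mkQ_apply, Submodule.Quotient.mk_eq_zero]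
    exact ⟨fun hx => ⟨⟨algebraMap O K x, hx⟩, Subtype.ext (he1 x).symm⟩,
      fun ⟨y, hy⟩ => by rw [hI, Submodule.mem_comap]; exact (congrArg Subtype.val hy).trans (he1 x) ▸ y.2⟩
  have hS := Groth.Agent.TFCurvLib.Duality.mkC_shortExact (f := ι) (g := π) (Submodule.inclusion_injective _)
    ((Submodule.mkQ_surjective _).comp e1.symm.surjective) hex
  let δ : (↥J →ₗ[O] O ⧸ I) →+ Abelian.Ext (ModuleCat.of O ↥J) (ModuleCat.of O ↥J) 1 :=
    AddMonoidHom.mk' (fun φ => (Abelian.Ext.mk₀ (ModuleCat.ofHom φ)).comp hS.extClass (zero_add 1)) fun a b => by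
      rw [← Abelian.Ext.add_comp, ← Abelian.Ext.mk₀_add]
      rfl
  haveI : Module.IsTorsionFree O ↥J := inferInstance
  have hδ : Function.Bijective δ := by
    refine ⟨(injective_iff_map_eq_zero _).2 fun φ hφ => ?_, fun x => ?_⟩
    · obtain ⟨y, hy⟩ := Abelian.Ext.covariant_sequence_exact₃ _ hS (Abelian.Ext.mk₀ (ModuleCat.ofHom φ)) (zero_add 1) hφ
      obtain ⟨ψ, rfl⟩ := (Abelian.Ext.mk₀_bijective _ _).2 y
      rw [Abelian.Ext.mk₀_comp_mk₀] at hy
      have hφψ : φ = π.comp ψ.hom := (congrArg ModuleCat.Hom.hom ((Abelian.Ext.mk₀_bijective _ _).1 hy)).symm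
      -- `ψ` is multiplication by an element of `M`
      have h1 := Groth.Agent.TFCurvLib.Lattice.div_div (1 : Submodule O K) hfg1 h01 hinj hnf (L := Subalgebra.toSubmodule M) hMfg
        (fun h => by
          have h1M : (1 : K) ∈ Subalgebra.toSubmodule M := M.one_mem
          rw [h, Submodule.mem_bot] at h1M
          exact one_ne_zero h1M)
      set c : K := (ψ.hom ⟨_, hdJ⟩ : ↥(1 : Submodule O K)).1 / algebraMap O K d with hcdef
      have hc : ∀ y : ↥J, (ψ.hom y : K) = c * y := fun y => by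
        have := hlin J ((1 : Submodule O K).subtype.comp ψ.hom) ⟨_, hdJ⟩ y
        simp only [LinearMap.comp_apply, Submodule.subtype_apply] at this
        rw [hcdef, div_mul_eq_mul_div, eq_div_iff hd0]
        linear_combination this
      have hcM : c ∈ M := by
        have : c ∈ (1 : Submodule O K) / J := Submodule.mem_div_iff_forall_mul_mem.2 fun y hy => hc ⟨y, hy⟩ ▸ (ψ.hom ⟨y, hy⟩).2
        rw [h1] at this
        exact this
      refine hφψ.trans (LinearMap.ext fun y => (hex _).2 ⟨⟨c * y, Submodule.mem_div_iff_forall_mul_mem.2 fun m hm => ?_⟩, Subtype.ext (hc y).symm⟩)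
      rw [mul_assoc, mul_left_comm]
      exact hmulK _ _ y.2 (M.mul_mem hcM hm)
    · obtain ⟨y, hy⟩ := Abelian.Ext.covariant_sequence_exact₁ _ hS x
        (Groth.Agent.TFCurvLib.Duality.ext_eq_zero (1 : Submodule O K) hinj ↥J le_rfl _) (zero_add 1)
      obtain ⟨φ, rfl⟩ := (Abelian.Ext.mk₀_bijective _ _).2 y
      exact ⟨φ.hom, hy⟩
  let i : ModuleCat.of O ↥J ≅ ModuleCat.of O (↥M →ₗ[O] ↥(1 : Submodule O K)) := LinearEquiv.toModuleIso eJ
  let T : Abelian.Ext (ModuleCat.of O (↥M →ₗ[O] ↥(1 : Submodule O K))) (ModuleCat.of O (↥M →ₗ[O] ↥(1 : Submodule O K))) 1 ≃+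
      Abelian.Ext (ModuleCat.of O ↥J) (ModuleCat.of O ↥J) 1 :=
    { toFun := fun e => ((Abelian.Ext.mk₀ i.hom).comp e (zero_add 1)).comp (Abelian.Ext.mk₀ i.inv) (add_zero 1)
      invFun := fun e => ((Abelian.Ext.mk₀ i.inv).comp e (zero_add 1)).comp (Abelian.Ext.mk₀ i.hom) (add_zero 1)
      left_inv := fun e => by simp
      right_inv := fun e => by simp
      map_add' := fun a b => by simp }
  exact ⟨E₁.trans (T.trans (AddEquiv.ofBijective δ hδ).symm)⟩

end Groth.Agent.S15040
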