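import Groth.Statements.S15041
import Groth.Agent.TFCurvLib.E6

set_option autoImplicit false
universe u
open CategoryTheory
open TFCurv

namespace Groth.Agent.S15041

set_option maxHeartbeats 1000000

/-- Let k be an algebraically closed field of characteristic zero and A ⊂ k[[t]] the complete local ring
of the E_6 singularity, i.e. the k-subalgebra of power series all of whose exponents lie in the
semigroup generated by 3 and 4 (A = k[[t³, t⁴]]). Its rank-one torsion-free modules are A, M₁ = A +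
A·t⁵, its dual M₁* = A + A·t, M₂ = A + A·t² and M₃ = A + A·t + A·t² = k[[t]], of index 0, 1, 1, 2,
3. Then Ext¹_A(M, M) has length 2·index(M): length 2 for M₁ and for M₁*, 4 for M₂ and 6 for M₃
(length over A equals k-dimension). As End_A(M₁) = End_A(M₁*) = M₁, End_A(M₂) = M₂, End_A(M₃) = M₃
have colength 1, 1, 2, 3 over A, this is the identity χ₁(M) = dim Ext¹(M, M) − dim(End(M)/A) =
index(M). -/
theorem result (k : Type u) [Field k] [IsAlgClosed k] [CharZero k] (A : Subalgebra k (PowerSeries k)) (hmono : ∀ f : PowerSeries k, f ∈ A ↔ ∀ n : ℕ, PowerSeries.coeff n f ≠ 0 → n ∈ AddSubmonoid.closure ({3, 4} : Set ℕ)) : Module.length ↥A (Abelian.Ext (ModuleCat.of ↥A ↥(Submodule.span ↥A ({1, (PowerSeries.X : PowerSeries k) ^ 5} : Set (PowerSeries k)))) (ModuleCat.of ↥A ↥(Submodule.span ↥A ({1, (PowerSeries.X : PowerSeries k) ^ 5} : Set (PowerSeries k)))) 1) = 2 ∧ Module.length ↥A (Abelian.Ext (ModuleCat.of ↥A ↥(Submodule.span ↥A ({1, (PowerSeries.X :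 PowerSeries k)} : Set (PowerSeries k)))) (ModuleCat.of ↥A ↥(Submodule.span ↥A ({1, (PowerSeries.X : PowerSeries k)} : Set (PowerSeries k)))) 1) = 2 ∧ Module.length ↥A (Abelian.Ext (ModuleCat.of ↥A ↥(Submodule.span ↥A ({1, (PowerSeries.X : PowerSeries k) ^ 2} : Set (PowerSeries k)))) (ModuleCat.of ↥A ↥(Submodule.span ↥A ({1, (PowerSeries.X : PowerSeries k) ^ 2} : Set (PowerSeries k)))) 1) = 4 ∧ Module.length ↥A (Abelian.Ext (ModuleCat.of ↥A ↥(Submodule.span ↥A ({1, (PowerSeries.X : PowerSeries k), (PowerSeries.X : PowerSeries k) ^ 2} : Set (PowerSeries k)))) (ModuleCat.of ↥A ↥(Submodule.span ↥A ({1, (PowerSeries.X : PowerSeries k), (PowerSeries.X : PowerSeries k) ^ 2} : Set (PowerSeries k)))) 1) = 6 := by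
  have hΓ : ∀ m, m ∈ AddSubmonoid.closure ({3, 4} : Set ℕ) ↔ m ∈ Groth.Agent.TFCurvLib.sixSet := fun m => by
    let P : AddSubmonoid ℕ :=
      { carrier := Groth.Agent.TFCurvLib.sixSet
        zero_mem' := Or.inl rfl
        add_mem' := fun {a b} ha hb => by
          change a + b = 0 ∨ a + b = 3 ∨ a + b = 4 ∨ 6 ≤ a + b
          rcases ha with ha | ha | ha | ha <;> rcases hb with hb | hb | hb | hb <;> omega }
    constructor
    · intro h
      refine (AddSubmonoid.closure_le (S := P)).2 ?_ h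
      rintro x (rfl | rfl)
      · exact Or.inr (Or.inl rfl)
      · exact Or.inr (Or.inr (Or.inl rfl))
    · intro h
      rw [AddSubmonoid.mem_closure_pair]
      change m = 0 ∨ m = 3 ∨ m = 4 ∨ 6 ≤ m at h
      rcases (by omega : m % 3 = 0 ∨ m % 3 = 1 ∨ m % 3 = 2) with h0 | h0 | h0
      · exact ⟨m / 3, 0, by simp only [smul_eq_mul]; omega⟩
      · exact ⟨(m - 4) / 3, 1, by simp only [smul_eq_mul]; omega⟩
      · exact ⟨(m - 8) / 3, 2, by simp only [smul_eq_mul]; omega⟩
  have hA : ∀ f, f ∈ A ↔ f ∈ Groth.Agent.TFCurvLib.supp (k := k) Groth.Agent.TFCurvLib.sixSet := fun f => by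
    rw [hmono, Groth.Agent.TFCurvLib.mem_supp]
    simp only [hΓ]
  let S1 : Set ℕ := {m | m = 0 ∨ m = 3 ∨ 4 ≤ m}
  let S2 : Set ℕ := {m | m = 0 ∨ m = 1 ∨ 3 ≤ m}
  let S3 : Set ℕ := {m | m = 0 ∨ 2 ≤ m}
  have h1 : ∀ m, m ∈ S1 ↔ m ∈ Groth.Agent.TFCurvLib.sixSet ∨ (5 ≤ m ∧ m - 5 ∈ Groth.Agent.TFCurvLib.sixSet) :=
    fun m => by simp only [S1, Groth.Agent.TFCurvLib.sixSet, Set.mem_setOf_eq]; omega
  have h2 : ∀ m, m ∈ S2 ↔ m ∈ Groth.Agent.TFCurvLib.sixSet ∨ (1 ≤ m ∧ m - 1 ∈ Groth.Agent.TFCurvLib.sixSet) :=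
    fun m => by simp only [S2, Groth.Agent.TFCurvLib.sixSet, Set.mem_setOf_eq]; omega
  have h3 : ∀ m, m ∈ S3 ↔ m ∈ Groth.Agent.TFCurvLib.sixSet ∨ (2 ≤ m ∧ m - 2 ∈ Groth.Agent.TFCurvLib.sixSet) :=
    fun m => by simp only [S3, Groth.Agent.TFCurvLib.sixSet, Set.mem_setOf_eq]; omega
  refine ⟨?_, ?_, ?_, ?_⟩
  · rw [Groth.Agent.TFCurvLib.length_ext_two (b := 3) (SK := S2) hA ?_ ?_ (c := 6) ?_ ?_ ?_ _ _
      (Submodule.subtype _) Subtype.val_injective S1 h1
      (Groth.Agent.TFCurvLib.mem_span_pair_iff hA _ _ h1)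
      (Submodule.subtype _) Subtype.val_injective S1
      (Groth.Agent.TFCurvLib.mem_span_pair_iff hA _ _ h1) (fun a : Fin 2 => 4 + (a : ℕ)) ?_ ?_ ?_ ?_]
    · simp
    all_goals try simp only [S1, S2, Groth.Agent.TFCurvLib.sixSet, Set.mem_setOf_eq, Set.subset_def, Set.mem_Ici]
    · intro g hg m hm; omega
    · intro m hm; omega
    · intro m hm; omega
    · simp
    · intro m hm hms; omega
    · intro a b h; exact Fin.ext (by simp only at h; omega)
    · intro a q hq; omega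
    · intro a; omega
    · intro m hC hb hs
      have c0 := hC 0 (Or.inl rfl); have c1 := hC 1 (Or.inr (Or.inl rfl))
      exact ⟨⟨m - 4, by omega⟩, show 4 + (m - 4) = m by omega⟩
  · have h2' := h2
    have hsp := Groth.Agent.TFCurvLib.mem_span_pair_iff hA 1 _ h2
    rw [pow_one] at hsp
    rw [Groth.Agent.TFCurvLib.length_ext_two (s := 1) (b := 3) (SK := S1) hA ?_ ?_ (c := 6) ?_ ?_ ?_ _ _
      (Submodule.subtype _) Subtype.val_injective S2 h2 hsp
      (Submodule.subtype _) Subtype.val_injective S2 hsp (fun a : Fin 2 => (a : ℕ)) ?_ ?_ ?_ ?_]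
    · simp
    all_goals try simp only [S1, S2, Groth.Agent.TFCurvLib.sixSet, Set.mem_setOf_eq, Set.subset_def, Set.mem_Ici]
    · intro g hg m hm; omega
    · intro m hm; omega
    · intro m hm; omega
    · simp
    · intro m hm hms; omega
    · exact Fin.val_injective
    · intro a q hq; omega
    · intro a; omega
    · intro m hC hb hs
      have c0 := hC 0 (Or.inl rfl)
      exact ⟨⟨m, by omega⟩, rfl⟩
  · let d : Fin 4 → ℕ := fun a => if (a : ℕ) = 0 then 0 else if (a : ℕ) = 1 then 2 else if (a : ℕ) = 2 then 3 else 5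
    rw [Groth.Agent.TFCurvLib.length_ext_two (b := 4) (SK := S3) hA ?_ ?_ (c := 6) ?_ ?_ ?_ _ _
      (Submodule.subtype _) Subtype.val_injective S3 h3
      (Groth.Agent.TFCurvLib.mem_span_pair_iff hA _ _ h3)
      (Submodule.subtype _) Subtype.val_injective S3
      (Groth.Agent.TFCurvLib.mem_span_pair_iff hA _ _ h3) d ?_ ?_ ?_ ?_]
    · simp
    all_goals try simp only [S3, Groth.Agent.TFCurvLib.sixSet, Set.mem_setOf_eq, Set.subset_def, Set.mem_Ici]
    · intro g hg m hm; omega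
    · intro m hm; omega
    · intro m hm; omega
    · simp
    · intro m hm hms; omega
    · intro a b h
      simp only [d] at h
      exact Fin.ext (by split_ifs at h <;> omega)
    · intro a q hq; simp only [d]; split_ifs <;> omega
    · intro a; simp only [d]; split_ifs <;> first | omega | simp
    · intro m hC hb hs
      have c0 := hC 0 (Or.inl rfl)
      rcases (by omega : m = 0 ∨ m = 2 ∨ m = 3 ∨ m = 5) with rfl | rfl | rfl | rfl
      exacts [⟨0, rfl⟩, ⟨1, rfl⟩, ⟨2, rfl⟩, ⟨3, rfl⟩]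
  · refine Groth.Agent.TFCurvLib.length_ext_six hA _ (Submodule.subtype _) ⟨Subtype.val_injective, fun f => ?_⟩
    let M := Submodule.span ↥A ({1, (PowerSeries.X : PowerSeries k), (PowerSeries.X : PowerSeries k) ^ 2} : Set (PowerSeries k))
    let S : Set ℕ := {m | m ∈ Groth.Agent.TFCurvLib.sixSet ∨ (1 ≤ m ∧ m - 1 ∈ Groth.Agent.TFCurvLib.sixSet)}
    have hf : f - PowerSeries.coeff 2 f • PowerSeries.X ^ 2 ∈ Groth.Agent.TFCurvLib.supp S := fun m hm => by
      by_cases h : m = 2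
      · subst h; simp [PowerSeries.coeff_X_pow] at hm
      · simp only [S, Groth.Agent.TFCurvLib.sixSet, Set.mem_setOf_eq]; omega
    obtain ⟨y, hy⟩ := (Groth.Agent.TFCurvLib.mem_span_pair_iff hA 1 S (fun m => Iff.rfl) _).2 hf
    have hsub : (Submodule.span ↥A ({1, (PowerSeries.X : PowerSeries k) ^ 1} : Set (PowerSeries k))) ≤ M :=
      Submodule.span_mono (by rw [pow_one]; intro x hx; rcases hx with rfl | rfl <;> simp)
    refine ⟨⟨f, ?_⟩, rfl⟩
    rw [← sub_add_cancel f (PowerSeries.coeff 2 f • PowerSeries.X ^ 2), ← hy,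
      ← algebraMap_smul ↥A (PowerSeries.coeff 2 f) ((PowerSeries.X : PowerSeries k) ^ 2)]
    exact add_mem (hsub y.2) (Submodule.smul_mem _ _ (Submodule.subset_span (by simp)))

end Groth.Agent.S15041
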