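import Groth.Statements.S15043
import Groth.Agent.Quiet5.Comp

set_option autoImplicit false
open CategoryTheory AlgebraicGeometry
universe u
open Quiet

namespace Groth.Agent.S15043

/-- Over a scheme `X` of prime characteristic `p`, the composite of quasi-etale morphisms `g : Z ⟶ Y`
and `f : Y ⟶ X` (each locally on its source an extraction of `p`-th roots followed by an etale
morphism) is quasi-etale. -/
theorem result (p : ℕ) [Fact p.Prime] {X Y Z : Scheme.{u}} [FrobSch.IsCharP X p]
    (f : Y ⟶ X) (g : Z ⟶ Y) (hf : Quiet.IsQuiet p f) (hg : Quiet.IsQuiet p g) :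
    Quiet.IsQuiet p (g ≫ f) := by
  exact Groth.Agent.Quiet5.isQuiet_comp Fact.out f g hf hg

end Groth.Agent.S15043
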