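import Groth.Statements.S15044
import Groth.Agent.Quiet5.Syntomic

set_option autoImplicit false
open CategoryTheory AlgebraicGeometry
universe u
open Quiet

namespace Groth.Agent.S15044

/-- Over a scheme `X` of prime characteristic `p`, a quasi-etale morphism `f : Y ⟶ X` (locally on the
source an extraction of `p`-th roots followed by an etale morphism) is syntomic: every point of `Y`
has an affine open neighbourhood mapping into an affine open of `X` such that the induced ring map
is flat, finitely presented and has local complete intersection fibres. -/
theorem result (p : ℕ) [Fact p.Prime] {X Y : Scheme.{u}} [FrobSch.IsCharP X p]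
    (f : Y ⟶ X) (hf : Quiet.IsQuiet p f) : Synt.IsSyntomicMor f := by
  exact Quiet5.isSyntomicMor_of_isQuiet p (Fact.out : p.Prime).ne_zero f hf

end Groth.Agent.S15044
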