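import Groth.Statements.S15047
import Groth.Agent.DescLib.Amitsur

set_option autoImplicit false
set_option backward.isDefEq.respectTransparency false
set_option backward.isDefEq.respectTransparency.types false
universe u
open TensorProduct
open Desc

namespace Groth.Agent.S15047

/-- Let A → A' be a faithfully flat homomorphism of commutative rings and M, N any A-modules. An
A'-linear map f : A' ⊗_A M → A' ⊗_A N whose two base changes to A' ⊗_A A' (along a ↦ a ⊗ 1 and a ↦ 1
⊗ a) coincide is the base change of a unique A-linear map h : M → N. Since (A' ⊗_A A') ⊗_A M is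
generated over A' ⊗_A A' by the elements 1 ⊗ m, the agreement of the two base changes is stated on
these generators: for every m, the two images of f (1 ⊗ m) in (A' ⊗_A A') ⊗_A N agree. Equivalently,
the sequence Hom_A(M, N) → Hom_{A'}(A' ⊗ M, A' ⊗ N) ⇉ Hom_{A' ⊗ A'}(A' ⊗ A' ⊗ M, A' ⊗ A' ⊗ N) is an
equalizer diagram. -/
theorem result (A A' : Type u) [CommRing A] [CommRing A'] [Algebra A A']
    [Module.FaithfullyFlat A A'] (M N : Type u) [AddCommGroup M] [Module A M] [AddCommGroup N] [Module A N]
    (f : A' ⊗[A] M →ₗ[A'] A' ⊗[A] N)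
    (hf : ∀ m : M,
      LinearMap.rTensor N (Algebra.TensorProduct.includeLeft : A' →ₐ[A] A' ⊗[A] A').toLinearMap (f (1 ⊗ₜ[A] m)) =
        LinearMap.rTensor N (Algebra.TensorProduct.includeRight : A' →ₐ[A] A' ⊗[A] A').toLinearMap (f (1 ⊗ₜ[A] m))) :
    ∃! h : M →ₗ[A] N, h.baseChange A' = f := by
  exact Groth.Agent.DescLib.existsUnique_baseChange M N f hf

end Groth.Agent.S15047
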