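import Groth.Statements.S15049
import Groth.Agent.LTLib.LubinTate

set_option autoImplicit false
open Groth.Agent
universe u
open LubinTate

namespace Groth.Agent.S15049

/-- Let O be a discrete valuation ring with finite residue field of cardinality q, π a uniformizer of O,
and f = πT + T^q ∈ O[[T]]. Then there is a one-dimensional commutative formal group law F(X,Y) over
O for which f is an endomorphism, f(F(X,Y)) = F(f(X), f(Y)); and F is the unique power series in
O[[X,Y]] with zero constant term and linear part X + Y satisfying this identity. (The published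
statement is for the ring of integers of a finite extension of ℚ_p or of 𝔽_q((X)); completeness is
not used and any discrete valuation ring with finite residue field is allowed here.) -/
theorem result (O : Type u) [CommRing O] [IsDomain O] [IsDiscreteValuationRing O]
    [Finite (IsLocalRing.ResidueField O)] (π : O) (hπ : Irreducible π) (f : PowerSeries O)
    (hf : f = π • PowerSeries.X + PowerSeries.X ^ Nat.card (IsLocalRing.ResidueField O)) :
    ∃ F : FormalGroup O, F.IsComm ∧
      PowerSeries.subst F.toPowerSeries f =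
        MvPowerSeries.subst (fun i : Fin 2 => PowerSeries.subst (MvPowerSeries.X i : MvPowerSeries (Fin 2) O) f) F.toPowerSeries ∧
      ∀ G : MvPowerSeries (Fin 2) O, G.constantCoeff = 0 → G.coeff (Finsupp.single 0 1) = 1 →
        G.coeff (Finsupp.single 1 1) = 1 →
        PowerSeries.subst G f =
        MvPowerSeries.subst (fun i : Fin 2 => PowerSeries.subst (MvPowerSeries.X i : MvPowerSeries (Fin 2) O) f) G →
        G = F.toPowerSeries := by
  have hq : Nat.card (IsLocalRing.ResidueField O) ≠ 0 := by have := LTLib.two_le_card (O := O); omega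
  obtain ⟨G, h0, h1, hs⟩ := LTLib.exists_endo hπ (fun _ : Fin 2 => (1 : O))
  have hX : ∀ {n : ℕ} (i : Fin n), LTLib.Sol π 1 1 (Nat.card (IsLocalRing.ResidueField O))
      (MvPowerSeries.X i : MvPowerSeries (Fin n) O) := fun i => LTLib.Sol.X π 1 hq i
  have hc : ∀ {n : ℕ} (i j : Fin n), ∀ s : Fin 2,
      MvPowerSeries.constantCoeff (![(MvPowerSeries.X i : MvPowerSeries (Fin n) O), MvPowerSeries.X j] s) = 0 := by
    intro n i j s; fin_cases s <;> simp
  have hS2 : ∀ {n : ℕ} (i j : Fin n), LTLib.Sol π 1 1 (Nat.card (IsLocalRing.ResidueField O))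
      (MvPowerSeries.subst ![(MvPowerSeries.X i : MvPowerSeries (Fin n) O), MvPowerSeries.X j] G) := fun i j =>
    hs.comp hq (fun s => by fin_cases s <;> exact hX _) (hc i j)
  have hC2 : ∀ {n : ℕ} (i j : Fin n), MvPowerSeries.constantCoeff
      (MvPowerSeries.subst ![(MvPowerSeries.X i : MvPowerSeries (Fin n) O), MvPowerSeries.X j] G) = 0 := fun i j =>
    MvPowerSeries.constantCoeff_subst_eq_zero (MvPowerSeries.hasSubst_of_constantCoeff_zero (hc i j)) (hc i j) h0
  have hA : MvPowerSeries.subst ![MvPowerSeries.subst ![(MvPowerSeries.X 0 : MvPowerSeries (Fin 3) O), MvPowerSeries.X 1] G,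
      (MvPowerSeries.X 2 : MvPowerSeries (Fin 3) O)] G = MvPowerSeries.subst ![(MvPowerSeries.X 0 : MvPowerSeries (Fin 3) O),
      MvPowerSeries.subst ![(MvPowerSeries.X 1 : MvPowerSeries (Fin 3) O), MvPowerSeries.X 2] G] G := by
    have ha : ∀ s : Fin 2, MvPowerSeries.constantCoeff (![MvPowerSeries.subst ![(MvPowerSeries.X 0 : MvPowerSeries (Fin 3) O), MvPowerSeries.X 1] G,
        (MvPowerSeries.X 2 : MvPowerSeries (Fin 3) O)] s) = 0 := by intro s; fin_cases s <;> simp [hC2]
    have hb : ∀ s : Fin 2, MvPowerSeries.constantCoeff (![(MvPowerSeries.X 0 : MvPowerSeries (Fin 3) O),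
        MvPowerSeries.subst ![(MvPowerSeries.X 1 : MvPowerSeries (Fin 3) O), MvPowerSeries.X 2] G] s) = 0 := by
      intro s; fin_cases s <;> simp [hC2]
    refine LTLib.endo_unique hπ
      (hs.comp hq (fun s => by fin_cases s <;> first | exact hX _ | exact hS2 _ _) ha)
      (hs.comp hq (fun s => by fin_cases s <;> first | exact hX _ | exact hS2 _ _) hb)
      (MvPowerSeries.constantCoeff_subst_eq_zero (MvPowerSeries.hasSubst_of_constantCoeff_zero ha) ha h0)
      (MvPowerSeries.constantCoeff_subst_eq_zero (MvPowerSeries.hasSubst_of_constantCoeff_zero hb) hb h0) fun t => ?_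
    rw [LTLib.coeff_single_subst h0 ha, LTLib.coeff_single_subst h0 hb, Fin.sum_univ_two, Fin.sum_univ_two]
    simp only [Matrix.cons_val_zero, Matrix.cons_val_one, h1, one_mul]
    rw [LTLib.coeff_single_subst h0 (hc 0 1), LTLib.coeff_single_subst h0 (hc 1 2), Fin.sum_univ_two, Fin.sum_univ_two]
    simp only [Matrix.cons_val_zero, Matrix.cons_val_one, h1, one_mul]
    ring
  let F : FormalGroup O := ⟨G, h0, h1 0, h1 1, hA⟩
  refine ⟨F, ⟨?_⟩, (LTLib.sol_iff_mv hπ hf h0).mp hs, fun H H0 H1 H2 hH => ?_⟩
  · refine LTLib.endo_unique hπ hs (hS2 1 0) h0 (hC2 1 0) fun t => ?_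
    rw [LTLib.coeff_single_subst h0 (hc 1 0), Fin.sum_univ_two]
    fin_cases t <;> simp [F, MvPowerSeries.coeff_X, Finsupp.single_left_inj, h1]
  · refine LTLib.endo_unique hπ ((LTLib.sol_iff_mv hπ hf H0).mpr hH) hs H0 h0 fun t => ?_
    fin_cases t <;> simp [F, H1, H2, h1]

end Groth.Agent.S15049
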