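import Groth.Statements.S15050
import Groth.Agent.LTLib.LubinTate

set_option autoImplicit false
open Groth.Agent
universe u
open LubinTate

namespace Groth.Agent.S15050

/-- Let O be a discrete valuation ring with finite residue field of cardinality q, π a uniformizer of O,
and f = πT + T^q ∈ O[[T]]. For every α ∈ O there is a unique power series g = [α] ∈ O[[T]] with zero
constant term and linear coefficient α which commutes with f under substitution, g(f(T)) = f(g(T)).
(The published statement is for the ring of integers of a finite extension of ℚ_p or of 𝔽_q((X));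
completeness is not used and any discrete valuation ring with finite residue field is allowed here.) -/
theorem result (O : Type u) [CommRing O] [IsDomain O] [IsDiscreteValuationRing O]
    [Finite (IsLocalRing.ResidueField O)] (π : O) (hπ : Irreducible π) (f : PowerSeries O)
    (hf : f = π • PowerSeries.X + PowerSeries.X ^ Nat.card (IsLocalRing.ResidueField O)) (α : O) :
    ∃! g : PowerSeries O, g.constantCoeff = 0 ∧ g.coeff 1 = α ∧
      PowerSeries.subst g f = PowerSeries.subst f g := by
  obtain ⟨G, h0, h1, hs⟩ := LTLib.exists_endo hπ (fun _ : Unit => α)
  refine ⟨G, ⟨h0, h1 (), (LTLib.sol_iff_series hπ hf h0).mp hs⟩, ?_⟩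
  rintro g ⟨g0, g1, gs⟩
  exact LTLib.endo_unique hπ ((LTLib.sol_iff_series hπ hf g0).mpr gs) hs g0 h0 fun _ => g1.trans (h1 ()).symm

end Groth.Agent.S15050
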