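import Groth.Statements.S15051
import Groth.Agent.LTLib.LubinTate

set_option autoImplicit false
open Groth.Agent
universe u
open LubinTate

namespace Groth.Agent.S15051

/-- Let O be a discrete valuation ring with finite residue field of cardinality q, π a uniformizer of O,
and f = πT + T^q ∈ O[[T]]; let F be a one-dimensional formal group law over O for which f is an
endomorphism, f(F(X,Y)) = F(f(X), f(Y)), and g ∈ O[[T]] a power series with zero constant term which
commutes with f, g(f(T)) = f(g(T)). Then g is an endomorphism of F, that is g(F(X,Y)) = F(g(X),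
g(Y)); so α ↦ [α] maps O into the endomorphisms of the Lubin–Tate formal group. (The published
statement is for the ring of integers of a finite extension of ℚ_p or of 𝔽_q((X)); completeness is
not used and any discrete valuation ring with finite residue field is allowed here.) -/
theorem result (O : Type u) [CommRing O] [IsDomain O] [IsDiscreteValuationRing O]
    [Finite (IsLocalRing.ResidueField O)] (π : O) (hπ : Irreducible π) (f : PowerSeries O)
    (hf : f = π • PowerSeries.X + PowerSeries.X ^ Nat.card (IsLocalRing.ResidueField O))
    (F : FormalGroup O)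
    (hF : PowerSeries.subst F.toPowerSeries f =
        MvPowerSeries.subst (fun i : Fin 2 => PowerSeries.subst (MvPowerSeries.X i : MvPowerSeries (Fin 2) O) f) F.toPowerSeries)
    (g : PowerSeries O) (hg0 : g.constantCoeff = 0)
    (hgf : PowerSeries.subst g f = PowerSeries.subst f g) :
    PowerSeries.subst F.toPowerSeries g =
      MvPowerSeries.subst (fun i : Fin 2 => PowerSeries.subst (MvPowerSeries.X i : MvPowerSeries (Fin 2) O) g)
        F.toPowerSeries := by
  have hq : Nat.card (IsLocalRing.ResidueField O) ≠ 0 := by have := LTLib.two_le_card (O := O); omega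
  have hFs := (LTLib.sol_iff_mv hπ hf F.zero_constantCoeff).mpr hF
  have hgs := (LTLib.sol_iff_series hπ hf hg0).mpr hgf
  have hG : ∀ i : Fin 2, LTLib.Sol π 1 1 (Nat.card (IsLocalRing.ResidueField O))
      (PowerSeries.subst (MvPowerSeries.X i : MvPowerSeries (Fin 2) O) g) := fun i =>
    hgs.comp hq (fun _ => LTLib.Sol.X π 1 hq i) (fun _ => MvPowerSeries.constantCoeff_X i)
  have hg0' : ∀ i : Fin 2, MvPowerSeries.constantCoeff (PowerSeries.subst (MvPowerSeries.X i : MvPowerSeries (Fin 2) O) g) = 0 :=
    fun i => PowerSeries.constantCoeff_subst_eq_zero (MvPowerSeries.constantCoeff_X i) g hg0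
  refine LTLib.endo_unique hπ (hgs.comp hq (fun _ => hFs) (fun _ => F.zero_constantCoeff)) (hFs.comp hq hG hg0')
    (PowerSeries.constantCoeff_subst_eq_zero F.zero_constantCoeff g hg0) (MvPowerSeries.constantCoeff_subst_eq_zero
      (MvPowerSeries.hasSubst_of_constantCoeff_zero hg0') hg0' F.zero_constantCoeff) fun t => ?_
  have e : ∀ i : Fin 2, MvPowerSeries.coeff (Finsupp.single t 1)
      (PowerSeries.subst (MvPowerSeries.X i : MvPowerSeries (Fin 2) O) g) = if t = i then g.coeff 1 else 0 := fun i => by
    rw [PowerSeries.subst, LTLib.coeff_single_subst hg0 (fun _ => MvPowerSeries.constantCoeff_X i), Fintype.sum_unique,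
      MvPowerSeries.coeff_X]
    simp [Finsupp.single_left_inj, PowerSeries.coeff]
  rw [PowerSeries.subst, LTLib.coeff_single_subst hg0 (fun _ => F.zero_constantCoeff), Fintype.sum_unique,
    LTLib.coeff_single_subst F.zero_constantCoeff hg0', Fin.sum_univ_two, e, e]
  fin_cases t <;> simp [F.lin_coeff_X, F.lin_coeff_Y, PowerSeries.coeff]

end Groth.Agent.S15051
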