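import Groth.Statements.S15052
import Groth.Agent.LTLib.LubinTate

set_option autoImplicit false
open Groth.Agent
universe u
open LubinTate

namespace Groth.Agent.S15052

/-- Let O be a discrete valuation ring with finite residue field of cardinality q, π a uniformizer of O,
and f = πT + T^q ∈ O[[T]]; let K be the fraction field of O and F a one-dimensional formal group law
over O for which f is an endomorphism, f(F(X,Y)) = F(f(X), f(Y)). Then there is a unique power
series ℓ ∈ K[[T]] with zero constant term and linear coefficient 1 such that ℓ(f(T)) = π·ℓ(T); this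
logarithm is a homomorphism to the additive formal group, ℓ(F(T,S)) = ℓ(T) + ℓ(S), and it is
O-linear in the sense that ℓ(g(T)) = α·ℓ(T) for every α ∈ O and every series g ∈ O[[T]] with zero
constant term and linear coefficient α commuting with f. (The published statement is for the ring of
integers of a finite extension of ℚ_p; completeness is not used and any discrete valuation ring with
finite residue field is allowed here.) -/
theorem result (O : Type u) [CommRing O] [IsDomain O] [IsDiscreteValuationRing O]
    [Finite (IsLocalRing.ResidueField O)] (K : Type u) [Field K] [Algebra O K] [IsFractionRing O K]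
    (π : O) (hπ : Irreducible π) (f : PowerSeries O)
    (hf : f = π • PowerSeries.X + PowerSeries.X ^ Nat.card (IsLocalRing.ResidueField O))
    (F : FormalGroup O)
    (hF : PowerSeries.subst F.toPowerSeries f =
        MvPowerSeries.subst (fun i : Fin 2 => PowerSeries.subst (MvPowerSeries.X i : MvPowerSeries (Fin 2) O) f) F.toPowerSeries) :
    ∃ ℓ : PowerSeries K, (ℓ.constantCoeff = 0 ∧ ℓ.coeff 1 = 1 ∧
      PowerSeries.subst (PowerSeries.map (algebraMap O K) f) ℓ = algebraMap O K π • ℓ) ∧
      (∀ ℓ' : PowerSeries K, ℓ'.constantCoeff = 0 → ℓ'.coeff 1 = 1 →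
        PowerSeries.subst (PowerSeries.map (algebraMap O K) f) ℓ' = algebraMap O K π • ℓ' → ℓ' = ℓ) ∧
      PowerSeries.subst ((F.toPowerSeries).map (algebraMap O K)) ℓ =
        PowerSeries.subst (MvPowerSeries.X (0 : Fin 2) : MvPowerSeries (Fin 2) K) ℓ +
          PowerSeries.subst (MvPowerSeries.X (1 : Fin 2) : MvPowerSeries (Fin 2) K) ℓ ∧
      (∀ (α : O) (g : PowerSeries O), g.constantCoeff = 0 → g.coeff 1 = α →
        PowerSeries.subst g f = PowerSeries.subst f g →
        PowerSeries.subst (PowerSeries.map (algebraMap O K) g) ℓ = algebraMap O K α • ℓ) := by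
  have hq2 := LTLib.two_le_card (O := O)
  have hq : Nat.card (IsLocalRing.ResidueField O) ≠ 0 := by omega
  set q := Nat.card (IsLocalRing.ResidueField O)
  set φ := algebraMap O K
  have hφ : Function.Injective φ := IsFractionRing.injective O K
  have hne : ∀ n, 2 ≤ n → φ π ^ n ≠ φ π := fun n hn h => LTLib.pow_ne_self hπ hn (hφ (by rw [map_pow, h]))
  obtain ⟨ℓ, l0, l1, ls⟩ := LTLib.exists_sol (σ := Unit) (a := φ π) (b := φ 1) (c := (0 : K)) hq2 (fun _ => 1)
    (LTLib.hdiv_field hne)
  have uniq : ∀ {σ : Type} [Finite σ] {G G' : MvPowerSeries σ K}, LTLib.Sol (φ π) (φ 1) 0 q G →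
      LTLib.Sol (φ π) (φ 1) 0 q G' → MvPowerSeries.constantCoeff G = 0 → MvPowerSeries.constantCoeff G' = 0 →
      (∀ i, MvPowerSeries.coeff (Finsupp.single i 1) G = MvPowerSeries.coeff (Finsupp.single i 1) G') → G = G' :=
    fun h h' a b c => h.unique hq2 hne h' a b c
  have hsub : ∀ L : PowerSeries K, (PowerSeries.subst (PowerSeries.map φ f) L = φ π • L ↔
      LTLib.Sol (φ π) (φ 1) 0 q (L : MvPowerSeries Unit K)) := fun L => by
    have e : (fun _ : Unit => PowerSeries.map φ f) = LTLib.base Unit (φ π) (φ 1) q := by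
      funext i
      have h := congrFun (LTLib.base_unit hπ hf) i
      show MvPowerSeries.map φ f = _
      rw [show (f : MvPowerSeries Unit O) = LTLib.base Unit π 1 q i from h]
      simp [LTLib.base]
    unfold LTLib.Sol
    rw [← e, map_zero, zero_mul, add_zero, ← MvPowerSeries.smul_eq_C_mul]
    exact Iff.rfl
  have hF' : LTLib.Sol (φ π) (φ 1) (φ 1) q (F.toPowerSeries.map φ) :=
    ((LTLib.sol_iff_mv hπ hf F.zero_constantCoeff).mpr hF).map φ hq
  have hF0 : MvPowerSeries.constantCoeff (F.toPowerSeries.map φ) = 0 := by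
    rw [MvPowerSeries.constantCoeff_map, F.zero_constantCoeff, map_zero]
  refine ⟨ℓ, ⟨l0, l1 (), (hsub ℓ).mpr ls⟩, fun ℓ' h0 h1 h => uniq ((hsub ℓ').mp h) ls h0 l0 fun _ => h1.trans (l1 ()).symm,
    ?_, fun α g g0 g1 gf => ?_⟩
  · refine uniq (ls.comp hq (fun _ => hF') (fun _ => hF0))
      ((ls.comp hq (fun _ => LTLib.Sol.X _ _ hq 0) (fun _ => MvPowerSeries.constantCoeff_X 0)).add hq
        (ls.comp hq (fun _ => LTLib.Sol.X _ _ hq 1) (fun _ => MvPowerSeries.constantCoeff_X 1)))
      (PowerSeries.constantCoeff_subst_eq_zero hF0 ℓ l0) (by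
        simp only [PowerSeries.subst]
        rw [map_add, MvPowerSeries.constantCoeff_subst_eq_zero (MvPowerSeries.hasSubst_of_constantCoeff_zero fun _ => MvPowerSeries.constantCoeff_X 0) (fun _ => MvPowerSeries.constantCoeff_X 0) l0,
          MvPowerSeries.constantCoeff_subst_eq_zero (MvPowerSeries.hasSubst_of_constantCoeff_zero fun _ => MvPowerSeries.constantCoeff_X 1) (fun _ => MvPowerSeries.constantCoeff_X 1) l0, add_zero]) fun t => ?_
    simp only [PowerSeries.subst]
    rw [LTLib.coeff_single_subst l0 (fun _ => hF0), map_add,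
      LTLib.coeff_single_subst l0 (fun _ => MvPowerSeries.constantCoeff_X 0),
      LTLib.coeff_single_subst l0 (fun _ => MvPowerSeries.constantCoeff_X 1)]
    simp only [Fintype.sum_unique, MvPowerSeries.coeff_map, MvPowerSeries.coeff_X, l1, one_mul]
    fin_cases t <;> simp [F.lin_coeff_X, F.lin_coeff_Y, Finsupp.single_left_inj]
  · have hg' : LTLib.Sol (φ π) (φ 1) (φ 1) q (PowerSeries.map φ g : MvPowerSeries Unit K) :=
      ((LTLib.sol_iff_series hπ hf g0).mpr gf).map φ hq
    have g0' : (PowerSeries.map φ g).constantCoeff = 0 := by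
      rw [← PowerSeries.coeff_zero_eq_constantCoeff_apply, PowerSeries.coeff_map, PowerSeries.coeff_zero_eq_constantCoeff_apply, g0, map_zero]
    refine uniq (ls.comp hq (fun _ => hg') (fun _ => g0')) (ls.smul hq (φ α))
      (PowerSeries.constantCoeff_subst_eq_zero g0' ℓ l0) (by
        rw [MvPowerSeries.smul_eq_C_mul, map_mul, show MvPowerSeries.constantCoeff ℓ = 0 from l0, mul_zero]) fun t => ?_
    rw [PowerSeries.subst, LTLib.coeff_single_subst l0 (fun _ => g0'), Fintype.sum_unique, map_smul, l1 default,
      one_mul, smul_eq_mul, mul_one]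
    show (PowerSeries.map φ g).coeff 1 = φ α
    rw [PowerSeries.coeff_map, g1]

end Groth.Agent.S15052
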