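import Groth.Statements.S15054
-- import your own Groth.Agent.* helpers here

set_option autoImplicit false
universe u
open CategoryTheory CategoryTheory.Limits MonoidalCategory CartesianMonoidalCategory MonObj GrpObj AlgebraicGeometry
open BTGrp

namespace Groth.Agent.S15054

lemma isKernel_iff {S : Scheme.{u}} {N G Q : Over S} [GrpObj Q] (i : N ⟶ G) (q : G ⟶ Q) :
    AlgGrp.IsKernel i q ↔ (i ≫ q = 1) ∧ Mono i ∧
      ∀ (T : Over S) (x : T ⟶ G), x ≫ q = 1 → ∃ y : T ⟶ N, y ≫ i = x := by
  constructor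
  · intro hk
    have hk' : IsPullback i (toUnit N) q η[Q] := hk
    refine ⟨by rw [hk'.w]; rfl, ⟨fun {Z} a b hab => hk'.hom_ext hab (toUnit_unique _ _)⟩, fun T x hx => ?_⟩
    exact ⟨hk'.lift x (toUnit T) (by rw [hx]; rfl), hk'.lift_fst _ _ _⟩
  · rintro ⟨w, hm, hl⟩
    have w' : i ≫ q = toUnit N ≫ η[Q] := w.trans rfl
    refine IsPullback.of_isLimit' ⟨w'⟩ (PullbackCone.IsLimit.mk w'
      (fun s => (hl s.pt s.fst (s.condition.trans (by rw [toUnit_unique s.snd (toUnit s.pt)]; rfl))).choose)
      (fun s => (hl s.pt s.fst (s.condition.trans (by rw [toUnit_unique s.snd (toUnit s.pt)]; rfl))).choose_spec)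
      (fun s => toUnit_unique _ _) (fun s m h1 h2 => ?_))
    rw [← cancel_mono i, h1]
    exact ((hl s.pt s.fst (s.condition.trans (by rw [toUnit_unique s.snd (toUnit s.pt)]; rfl))).choose_spec).symm

/-- Let ℓ be a prime and G = (G_ν)_ν an ℓ-divisible (Barsotti–Tate) group of height h over a scheme S,
given as the system of its finite locally free layers G_ν of order ℓ^{νh} with inclusions G_ν →
G_{ν+1} exhibiting G_ν as the ℓ^ν-torsion of G_{ν+1} and projections G_{ν+1} → G_ν (multiplication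
by ℓ). Let i_t : G_1 → G_{t+1} denote the iterated inclusions, pinned by i_0 = id and i_{t+1} = i_t
followed by G_{t+1} → G_{t+2}. Then for every t, i_t identifies G_1 with the kernel of
multiplication by ℓ on G_{t+1}: the ℓ-torsion of every layer is the first layer. (The published
statement identifies G_v with the ℓ^v-torsion of G_{v+t} for all v; this row is its case v = 1. The
published base is the spectrum of a Noetherian ring; the argument is formal and any base scheme is
allowed here.) -/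
theorem result {S : Scheme.{u}} (ℓ h : ℕ) [Fact ℓ.Prime] (G : BTGrp.ProBT ℓ S h)
    (i : (t : ℕ) → (G.G 1 ⟶ G.G (t + 1))) (hi0 : i 0 = 𝟙 (G.G 1))
    (hi : ∀ t : ℕ, i (t + 1) = i t ≫ G.incl (t + 1)) (t : ℕ) :
    AlgGrp.IsKernel (i t) ((𝟙 (G.G (t + 1))) ^ ℓ) := by
  have hk := fun ν => (isKernel_iff _ _).1 (G.isKernel ν)
  induction t with
  | zero =>
    rw [hi0, isKernel_iff]
    have h1 := (hk 1).1
    rw [pow_one, comp_pow, Category.comp_id] at h1
    haveI := (hk 1).2.1
    have h2 : (𝟙 (G.G 1)) ^ ℓ = 1 := by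
      rw [← cancel_mono (G.incl 1), pow_comp, Category.id_comp, h1]
      simp
    refine ⟨by rw [Category.id_comp, h2], inferInstance, fun T x _ => ⟨x, Category.comp_id x⟩⟩
  | succ t ih =>
    rw [isKernel_iff] at ih ⊢
    obtain ⟨w, hm, hl⟩ := ih
    haveI := (hk (t + 1)).2.1
    refine ⟨?_, by rw [hi]; exact mono_comp _ _, fun T x hx => ?_⟩
    · rw [hi, comp_pow, Category.comp_id, ← pow_comp]
      rw [comp_pow, Category.comp_id] at w
      rw [w]
      simp
    · rw [comp_pow, Category.comp_id] at hx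
      have hx' : x ≫ (𝟙 (G.G (t + 1 + 1))) ^ (ℓ ^ (t + 1)) = 1 := by
        rw [comp_pow, Category.comp_id, pow_succ', pow_mul, hx, one_pow]
      obtain ⟨y, hy⟩ := (hk (t + 1)).2.2 T x hx'
      have hy' : y ≫ (𝟙 (G.G (t + 1))) ^ ℓ = 1 := by
        rw [comp_pow, Category.comp_id, ← cancel_mono (G.incl (t + 1)), pow_comp, hy, hx]
        simp
      obtain ⟨z, hz⟩ := hl T y hy'
      exact ⟨z, by rw [hi, ← Category.assoc, hz, hy]⟩

end Groth.Agent.S15054
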