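import Groth.Statements.S15056
import Mathlib.RingTheory.LocalRing.MaximalIdeal.Basic
import Mathlib.RingTheory.LocalRing.Basic
import Mathlib.RingTheory.Noetherian.Nilpotent
import Mathlib.FieldTheory.IsAlgClosed.AlgebraicClosure

set_option autoImplicit false
universe u
open scoped TensorProduct
open FrobAlg

namespace Groth.Agent.S15056

/-- Let p be a prime number, R a Noetherian ring of characteristic p and A a finitely generated
commutative Hopf algebra over R (an affine algebraic R-group G = Spec A). The n-fold relative
Frobenius of G is the trivial homomorphism exactly when a^(p^n) = 0 for every a in the augmentation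
ideal; G has finite Frobenius height when this holds for some n. Then G has finite Frobenius height
if and only if A is a finite R-module and, for every algebraically closed field K and every ring
homomorphism R → K, the base change K ⊗_R A is a local ring (G is finite over R with connected
geometric fibres). -/
theorem result (p : ℕ) [Fact p.Prime] (R : Type u) [CommRing R] [CharP R p]
    [IsNoetherianRing R] (A : Type u) [CommRing A] [HopfAlgebra R A] [Algebra.FiniteType R A] :
    (∃ n : ℕ, ∀ a : A, Bialgebra.counitAlgHom R A a = 0 → a ^ p ^ n = 0) ↔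
      (Module.Finite R A ∧ ∀ (K : Type u) [Field K] [IsAlgClosed K] [Algebra R K], IsLocalRing (K ⊗[R] A)) := by
  haveI : IsNoetherianRing A := Algebra.FiniteType.isNoetherianRing R A
  let ε : A →ₐ[R] R := Bialgebra.counitAlgHom R A
  have hε : ∀ a : A, ε (a - algebraMap R A (ε a)) = 0 := fun a => by simp
  constructor
  · rintro ⟨n, hn⟩
    have hnil : ∀ a : A, IsNilpotent (a - algebraMap R A (ε a)) := fun a => ⟨p ^ n, hn _ (hε a)⟩
    haveI : Algebra.IsIntegral R A := ⟨fun a => by
      obtain ⟨m, hm⟩ := hnil a
      have h1 : IsIntegral R (a - algebraMap R A (ε a)) :=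
        ⟨Polynomial.X ^ m, Polynomial.monic_X_pow m, by simp [hm]⟩
      simpa using h1.add (isIntegral_algebraMap (x := ε a))⟩
    refine ⟨Algebra.IsIntegral.finite, fun K _ _ _ => ?_⟩
    let εK : K ⊗[R] A →ₐ[K] K := Algebra.TensorProduct.lift (Algebra.ofId K K) ((Algebra.ofId R K).comp ε)
      (fun _ _ => mul_comm _ _)
    haveI : Nontrivial (K ⊗[R] A) := (εK : K ⊗[R] A →+* K).domain_nontrivial
    have key : ∀ z : K ⊗[R] A, IsNilpotent (z - algebraMap K (K ⊗[R] A) (εK z)) := by
      intro z
      induction z using TensorProduct.induction_on with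
      | zero => simp
      | tmul c a =>
        have h : c ⊗ₜ[R] a - algebraMap K (K ⊗[R] A) (εK (c ⊗ₜ[R] a)) =
            c ⊗ₜ[R] (a - algebraMap R A (ε a)) := by
          rw [TensorProduct.tmul_sub, Algebra.TensorProduct.algebraMap_apply]
          congr 1
          rw [show εK (c ⊗ₜ[R] a) = c * algebraMap R K (ε a) by simp [εK],
            Algebra.algebraMap_eq_smul_one (A := A), TensorProduct.tmul_smul, TensorProduct.smul_tmul',
            Algebra.smul_def]
          simp [mul_comm]
        rw [h]
        obtain ⟨m, hm⟩ := hnil a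
        exact ⟨m, by rw [Algebra.TensorProduct.tmul_pow, hm, TensorProduct.tmul_zero]⟩
      | add x y hx hy =>
        rw [map_add, map_add, add_sub_add_comm]
        exact (Commute.all _ _).isNilpotent_add hx hy
    have hu : ∀ z : K ⊗[R] A, εK z ≠ 0 → IsUnit z := fun z hz => by
      simpa using (key z).isUnit_add_right_of_commute ((Ne.isUnit hz).map (algebraMap K (K ⊗[R] A))) (Commute.all _ _)
    refine IsLocalRing.of_nonunits_add fun x y hx hy => ?_
    rw [mem_nonunits_iff] at hx hy ⊢
    intro hxy
    have hx0 : εK x = 0 := by_contra fun h => hx (hu x h)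
    have hy0 : εK y = 0 := by_contra fun h => hy (hu y h)
    have := hxy.map εK
    rw [map_add, hx0, hy0, add_zero] at this
    exact not_isUnit_zero this
  · rintro ⟨-, hloc⟩
    have hI : RingHom.ker ε ≤ nilradical A := by
      intro a ha
      rw [nilradical_eq_sInf, Ideal.mem_sInf]
      intro P hP
      haveI : P.IsPrime := hP
      let K := AlgebraicClosure (FractionRing (A ⧸ P))
      let φ0 : A →+* K := (algebraMap (A ⧸ P) K).comp (Ideal.Quotient.mk P)
      letI : Algebra R K := (φ0.comp (algebraMap R A)).toAlgebra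
      let φ : A →ₐ[R] K := { φ0 with commutes' := fun _ => rfl }
      haveI := hloc K
      let εK : K ⊗[R] A →ₐ[K] K := Algebra.TensorProduct.lift (Algebra.ofId K K) ((Algebra.ofId R K).comp ε)
        (fun _ _ => mul_comm _ _)
      let φK : K ⊗[R] A →ₐ[K] K := Algebra.TensorProduct.lift (Algebra.ofId K K) φ (fun _ _ => mul_comm _ _)
      have hmax : ∀ ψ : K ⊗[R] A →ₐ[K] K, RingHom.ker ψ = IsLocalRing.maximalIdeal (K ⊗[R] A) := fun ψ =>
        IsLocalRing.eq_maximalIdeal (RingHom.ker_isMaximal_of_surjective ψ fun c => ⟨algebraMap K _ c, (ψ.commutes c).trans (by simp)⟩)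
      have hmem : (1 : K) ⊗ₜ[R] a ∈ RingHom.ker εK := by
        rw [RingHom.mem_ker] at ha ⊢
        simp [εK, ha]
      rw [hmax, ← hmax φK, RingHom.mem_ker] at hmem
      have h0 : φ a = 0 := by simpa [φK] using hmem
      refine Ideal.Quotient.eq_zero_iff_mem.1 ((injective_iff_map_eq_zero (algebraMap (A ⧸ P) K)).1 ?_ _ h0)
      rw [IsScalarTower.algebraMap_eq (A ⧸ P) (FractionRing (A ⧸ P)) K]
      exact (algebraMap (FractionRing (A ⧸ P)) K).injective.comp (IsFractionRing.injective (A ⧸ P) _)
    obtain ⟨N, hN⟩ := ((Ideal.FG.isNilpotent_iff_le_nilradical (IsNoetherian.noetherian (RingHom.ker ε))).2 hI)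
    refine ⟨N, fun a ha => ?_⟩
    have : a ^ N = 0 := by
      have h := Ideal.pow_mem_pow (show a ∈ RingHom.ker ε from ha) N
      rw [hN] at h
      exact h
    exact pow_eq_zero_of_le (Nat.lt_pow_self (Fact.out : p.Prime).one_lt).le this

end Groth.Agent.S15056
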