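import Groth.Statements.S15057
import Groth.Agent.DescLib.AmitsurAll
import Mathlib.Algebra.Homology.ShortComplex.Ab
import Mathlib.Algebra.Category.Ring.Basic

set_option autoImplicit false
set_option backward.isDefEq.respectTransparency false
set_option backward.isDefEq.respectTransparency.types false
universe u
open CategoryTheory CategoryTheory.Limits
open Desc

namespace Groth.Agent.S15057

/-- Let R → A be a faithfully flat homomorphism of commutative rings. The Amitsur complex A → A ⊗_R A →
A ⊗_R A ⊗_R A → ⋯, whose differential is the alternating sum of the maps inserting a unit in each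
tensor slot, is realised here as the alternating coface complex (of underlying abelian groups) of
the Čech conerve of R → A in the category of commutative rings, whose degree-n term is the
(n+1)-fold coproduct of A under R, i.e. the (n+1)-fold tensor power over R. Then this complex is
exact in every degree n ≥ 1. (Exactness at the start, namely that R → A is injective with image the
equaliser of the two maps A → A ⊗_R A, is the degree-0 statement and is not part of this row.) -/
theorem result (R A : Type u) [CommRing R] [CommRing A] [Algebra R A] [Module.FaithfullyFlat R A]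
    (n : ℕ) (hn : 0 < n) :
    (AlgebraicTopology.AlternatingCofaceMapComplex.obj
      ((Arrow.mk (CommRingCat.ofHom (algebraMap R A))).cechConerve ⋙ forget₂ CommRingCat RingCat ⋙
        forget₂ RingCat AddCommGrpCat)).ExactAt n := by
  classical
  obtain ⟨m, rfl⟩ : ∃ m, n = m + 1 := ⟨n - 1, by omega⟩
  rw [HomologicalComplex.exactAt_iff' _ m (m + 1) (m + 2) (by simp) (by simp),
    ShortComplex.ab_exact_iff]
  intro x hx
  let f : Arrow CommRingCat.{u} := Arrow.mk (CommRingCat.ofHom (algebraMap R A))
  let P : ℕ → CommRingCat.{u} := fun k => f.cechConerve.obj (SimplexCategory.mk k)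
  let φ : ∀ k, P k ⟶ CommRingCat.of (DescLib.AmitsurAll.T R A k) := fun k =>
    WidePushout.desc (CommRingCat.ofHom (algebraMap R _))
      (fun j => CommRingCat.ofHom (DescLib.AmitsurAll.incl R A k j).toRingHom)
      (fun j => CommRingCat.hom_ext ((DescLib.AmitsurAll.incl R A k j).comp_algebraMap))
  have φι : ∀ k (j : Fin (k + 1)), (WidePushout.ι (fun _ : Fin (k + 1) => f.hom) j : _ ⟶ P k) ≫ φ k =
      CommRingCat.ofHom (DescLib.AmitsurAll.incl R A k j).toRingHom := fun k j => WidePushout.ι_desc _ _ _ _ _
  have φhead : ∀ k, (WidePushout.head (fun _ : Fin (k + 1) => f.hom) : _ ⟶ P k) ≫ φ k =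
      CommRingCat.ofHom (algebraMap R _) := fun k => WidePushout.head_desc _ _ _ _
  -- `φ k` is injective
  have φinj : ∀ k, Function.Injective (φ k) := fun k => by
    letI : Algebra R (P k) := (WidePushout.head (fun _ : Fin (k + 1) => f.hom)).hom.toAlgebra
    let g : Fin (k + 1) → (A →ₐ[R] P k) := fun j =>
      { (WidePushout.ι (fun _ : Fin (k + 1) => f.hom) j).hom with
        commutes' := fun r => congr($(WidePushout.arrow_ι (fun _ : Fin (k + 1) => f.hom) j) r) }
    let ψ : CommRingCat.of (DescLib.AmitsurAll.T R A k) ⟶ P k :=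
      CommRingCat.ofHom (DescLib.AmitsurAll.lift g).toRingHom
    have : φ k ≫ ψ = 𝟙 _ := by
      refine WidePushout.hom_ext _ _ _ (fun j => ?_) ?_
      · refine ((Category.assoc _ _ _).symm.trans (congrArg (· ≫ ψ) (φι k j))).trans
          (CommRingCat.hom_ext (RingHom.ext fun a => ?_))
        exact DescLib.AmitsurAll.lift_incl g j a
      · refine ((Category.assoc _ _ _).symm.trans (congrArg (· ≫ ψ) (φhead k))).trans
          (CommRingCat.hom_ext (RingHom.ext fun r => ?_))
        exact (DescLib.AmitsurAll.lift g).commutes r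
    exact Function.LeftInverse.injective (g := ψ) fun y => congr($this y)
  -- compatibility with the cofaces
  have φδ : ∀ k (i : Fin (k + 2)) (y : P k),
      φ (k + 1) (f.cechConerve.δ i y) = DescLib.AmitsurAll.face R A k i (φ k y) := fun k i y => by
    have : f.cechConerve.δ i ≫ φ (k + 1) =
        φ k ≫ CommRingCat.ofHom (DescLib.AmitsurAll.face R A k i).toRingHom := by
      refine WidePushout.hom_ext _ _ _ (fun j => ?_) ?_
      · refine (((Category.assoc _ _ _).symm.trans (congrArg (· ≫ φ (k + 1)) (WidePushout.ι_desc _ _ _ _ j))).trans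
          (φι (k + 1) (i.succAbove j))).trans (Eq.trans ?_ ((congrArg
            (· ≫ CommRingCat.ofHom (DescLib.AmitsurAll.face R A k i).toRingHom) (φι k j)).symm.trans
              (Category.assoc _ _ _)))
        refine CommRingCat.hom_ext (RingHom.ext fun a => ?_)
        exact (DescLib.AmitsurAll.lift_incl (fun j => DescLib.AmitsurAll.incl R A (k + 1) (i.succAbove j)) j a).symm
      · refine (((Category.assoc _ _ _).symm.trans (congrArg (· ≫ φ (k + 1)) (WidePushout.head_desc _ _ _ _))).trans
          (φhead (k + 1))).trans (Eq.trans ?_ ((congrArg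
            (· ≫ CommRingCat.ofHom (DescLib.AmitsurAll.face R A k i).toRingHom) (φhead k)).symm.trans
              (Category.assoc _ _ _)))
        refine CommRingCat.hom_ext (RingHom.ext fun r => ?_)
        exact ((DescLib.AmitsurAll.face R A k i).commutes r).symm
    exact congr($this y)
  let C := AlgebraicTopology.AlternatingCofaceMapComplex.obj
      (f.cechConerve ⋙ forget₂ CommRingCat RingCat ⋙ forget₂ RingCat AddCommGrpCat)
  have φd : ∀ k (y : C.X k), φ (k + 1) (C.d k (k + 1) y) = DescLib.AmitsurAll.D R A k (φ k y) := fun k y => by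
    let G : (C.X k ⟶ C.X (k + 1)) →+ DescLib.AmitsurAll.T R A (k + 1) :=
      AddMonoidHom.mk' (fun ψ => φ (k + 1) (ψ y)) fun ψ₁ ψ₂ => by
        show φ (k + 1) ((ψ₁ y : P (k + 1)) + (ψ₂ y : P (k + 1))) = _
        exact map_add _ _ _
    show G (C.d k (k + 1)) = _
    have hd : C.d k (k + 1) = ∑ i : Fin (k + 2), (-1 : ℤ) ^ (i : ℕ) •
        ((forget₂ CommRingCat RingCat ⋙ forget₂ RingCat AddCommGrpCat).map (f.cechConerve.δ i) : C.X k ⟶ C.X (k + 1)) := by
      simp only [C, AlgebraicTopology.AlternatingCofaceMapComplex.obj, CochainComplex.of_d,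
        AlgebraicTopology.AlternatingCofaceMapComplex.objD]
      rfl
    rw [hd, map_sum, DescLib.AmitsurAll.D, LinearMap.sum_apply]
    refine Finset.sum_congr rfl fun i _ => ?_
    rw [map_zsmul, LinearMap.smul_apply, AlgHom.toLinearMap_apply, ← φδ]
    rfl
  have h0 : DescLib.AmitsurAll.D R A (m + 1) (φ (m + 1) x) = 0 := by
    rw [← φd]
    erw [hx]
    exact map_zero _
  obtain ⟨t, ht⟩ := DescLib.AmitsurAll.exact_D m _ h0
  -- surjectivity of `φ m`
  letI : Algebra R (P m) := (WidePushout.head (fun _ : Fin (m + 1) => f.hom)).hom.toAlgebra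
  let g : Fin (m + 1) → (A →ₐ[R] P m) := fun j =>
    { (WidePushout.ι (fun _ : Fin (m + 1) => f.hom) j).hom with
      commutes' := fun r => congr($(WidePushout.arrow_ι (fun _ : Fin (m + 1) => f.hom) j) r) }
  let φa : P m →ₐ[R] DescLib.AmitsurAll.T R A m :=
    { (φ m).hom with commutes' := fun r => congr($(φhead m) r) }
  have hs : φa.comp (DescLib.AmitsurAll.lift g) = AlgHom.id R _ :=
    DescLib.AmitsurAll.hom_ext fun j a => by
      show φ m (DescLib.AmitsurAll.lift g _) = _
      rw [DescLib.AmitsurAll.lift_incl]
      exact congr($(φι m j) a)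
  refine ⟨DescLib.AmitsurAll.lift g t, φinj _ ?_⟩
  show φ (m + 1) (C.d m (m + 1) (DescLib.AmitsurAll.lift g t)) = _
  rw [φd]
  exact (congrArg (DescLib.AmitsurAll.D R A m) (AlgHom.congr_fun hs t)).trans ht

end Groth.Agent.S15057
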