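import Groth.Statements.S15058
import Groth.Agent.DescLib.FmlInverse

set_option autoImplicit false
set_option backward.isDefEq.respectTransparency false
set_option backward.isDefEq.respectTransparency.types false
universe u
open FmlGrp

namespace Groth.Agent.S15058

/-- Let R be a commutative ring and F(X,Y) ∈ R[[X,Y]] a one-dimensional formal group law (zero constant
term, linear part X + Y, associative). Then there is a power series g(X) ∈ R[[X]] with zero constant
term which is a two-sided inverse for F, F(X, g(X)) = 0 = F(g(X), X), and it is unique: every power
series with zero constant term which is a right inverse or a left inverse equals g. (The published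
text proves this for formal group laws of any finite dimension with coefficients in a complete
Noetherian local ring; the argument is a formal degree-by-degree construction, and this row states
the one-dimensional case over an arbitrary commutative ring.) -/
theorem result (R : Type u) [CommRing R] (F : FormalGroup R) :
    ∃ g : PowerSeries R, g.constantCoeff = 0 ∧
      F.toPowerSeries.subst ![PowerSeries.X, g] = (0 : PowerSeries R) ∧
      F.toPowerSeries.subst ![g, PowerSeries.X] = (0 : PowerSeries R) ∧
      ∀ k : PowerSeries R, k.constantCoeff = 0 →
        (F.toPowerSeries.subst ![PowerSeries.X, k] = (0 : PowerSeries R) ∨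
          F.toPowerSeries.subst ![k, PowerSeries.X] = (0 : PowerSeries R)) → k = g := by
  obtain ⟨g, hg0, hg, hgu⟩ := Groth.Agent.DescLib.existsUnique_inverse F.toPowerSeries F.zero_constantCoeff 1 F.lin_coeff_Y
  obtain ⟨h, hh0, hh, hhu⟩ := Groth.Agent.DescLib.existsUnique_inverse F.toPowerSeries F.zero_constantCoeff 0 F.lin_coeff_X
  simp only [Groth.Agent.DescLib.slot_one] at hg hgu
  simp only [Groth.Agent.DescLib.slot_zero] at hh hhu
  have e : h = g := by
    let x : F.Point Unit := ⟨PowerSeries.X, PowerSeries.HasSubst.X'⟩
    let a : F.Point Unit := ⟨h, PowerSeries.HasSubst.of_constantCoeff_zero' hh0⟩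
    let b : F.Point Unit := ⟨g, PowerSeries.HasSubst.of_constantCoeff_zero' hg0⟩
    have e1 : a + x = 0 := Subtype.ext hh
    have e2 : x + b = 0 := Subtype.ext hg
    have e3 := left_neg_eq_right_neg (M := F.Point Unit) e1 e2
    exact congrArg Subtype.val e3
  subst e
  exact ⟨h, hh0, hg, hh, fun k hk h' => h'.elim (hgu k hk) (hhu k hk)⟩

end Groth.Agent.S15058
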