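import Groth.Statements.S15061
import Groth.Agent.GrpSchLib.HopfQuotEtale
import Mathlib.RingTheory.HopfAlgebra.Quotient


set_option autoImplicit false
universe u
open scoped TensorProduct
open Hopf

namespace Groth.Agent.S15061

/-- Let R be a henselian Noetherian local ring and A a commutative Hopf algebra over R which is finite
and flat as an R-module (a finite flat R-group G = Spec A, not assumed commutative); let e ∈ A be an
idempotent with ε(e) = 1 such that A/(1 − e) is a local ring, so that G⁰ = Spec A/(1 − e) is the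
connected component of the unit section, and let B ⊆ A be the subalgebra of functions invariant
under right translation by G⁰: the equaliser of a ↦ (id ⊗ π)(Δ a) and a ↦ a ⊗ 1 into A ⊗_R A/(1 −
e). Then B is a sub-Hopf-algebra of A (comultiplication and antipode preserve it), B is finite étale
over R, A is faithfully flat over B, and the ideal of A generated by the elements of B killed by the
counit is exactly (1 − e). In other words G^ét := Spec B is a finite étale R-group, G → G^ét is a
faithfully flat homomorphism, and its kernel is G⁰: the sequence 1 → G⁰ → G → G^ét → 1 is exact. -/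
theorem result (R : Type u) [CommRing R] [HenselianLocalRing R] [IsNoetherianRing R]
    (A : Type u) [CommRing A] [HopfAlgebra R A] [Module.Finite R A] [Module.Flat R A]
    (e : A) (he : IsIdempotentElem e) (hε : Bialgebra.counitAlgHom R A e = 1)
    [IsLocalRing (A ⧸ Ideal.span ({1 - e} : Set A))] :
    SGA3.IsHopfSubalgebra R A
        (AlgHom.equalizer
          ((Algebra.TensorProduct.map (AlgHom.id R A) (Ideal.Quotient.mkₐ R (Ideal.span ({1 - e} : Set A)))).comp
            (Bialgebra.comulAlgHom R A))
          (Algebra.TensorProduct.includeLeft : A →ₐ[R] A ⊗[R] (A ⧸ Ideal.span ({1 - e} : Set A)))) ∧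
      Algebra.Etale R ↥(AlgHom.equalizer
          ((Algebra.TensorProduct.map (AlgHom.id R A) (Ideal.Quotient.mkₐ R (Ideal.span ({1 - e} : Set A)))).comp
            (Bialgebra.comulAlgHom R A))
          (Algebra.TensorProduct.includeLeft : A →ₐ[R] A ⊗[R] (A ⧸ Ideal.span ({1 - e} : Set A)))) ∧
      Module.FaithfullyFlat ↥(AlgHom.equalizer
          ((Algebra.TensorProduct.map (AlgHom.id R A) (Ideal.Quotient.mkₐ R (Ideal.span ({1 - e} : Set A)))).comp
            (Bialgebra.comulAlgHom R A))
          (Algebra.TensorProduct.includeLeft : A →ₐ[R] A ⊗[R] (A ⧸ Ideal.span ({1 - e} : Set A)))) A ∧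
      SGA3.augIdealSpan R A
        (AlgHom.equalizer
          ((Algebra.TensorProduct.map (AlgHom.id R A) (Ideal.Quotient.mkₐ R (Ideal.span ({1 - e} : Set A)))).comp
            (Bialgebra.comulAlgHom R A))
          (Algebra.TensorProduct.includeLeft : A →ₐ[R] A ⊗[R] (A ⧸ Ideal.span ({1 - e} : Set A)))) =
        Ideal.span ({1 - e} : Set A) := by
  set I : Ideal A := Ideal.span ({1 - e} : Set A)
  let p := Ideal.Quotient.mkₐ R I
  let εB : (A ⧸ I) →ₐ[R] R := Ideal.Quotient.liftₐ I (Bialgebra.counitAlgHom R A) fun x hx => by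
    obtain ⟨b, rfl⟩ := Ideal.mem_span_singleton'.1 hx
    rw [map_mul, map_sub, map_one, hε, sub_self, mul_zero]
  haveI : Module.Finite R (A ⧸ I) := Module.Finite.of_surjective p.toLinearMap Ideal.Quotient.mk_surjective
  have hpe : p e = 1 := (Ideal.Quotient.eq.2 (Ideal.mem_span_singleton_self (1 - e))).symm
  haveI : I.IsHopfIdeal R := by
    refine { counit_eq_zero := fun x hx => ?_, map_mkQ_comul_eq_zero := fun x hx => ?_, antipode_mem := fun x hx => ?_ }
    · obtain ⟨b, rfl⟩ := Ideal.mem_span_singleton'.1 hx
      show Bialgebra.counitAlgHom R A (b * (1 - e)) = 0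
      rw [map_mul, map_sub, map_one, hε, sub_self, mul_zero]
    · obtain ⟨b, rfl⟩ := Ideal.mem_span_singleton'.1 hx
      let D : A →ₐ[R] (A ⧸ I) ⊗[R] (A ⧸ I) := (Algebra.TensorProduct.map p p).comp (Bialgebra.comulAlgHom R A)
      have hDe : D e = 1 := by
        refine GrpSchLib.HenselComp.eq_one_of_idem_tensor εB (he.map D) ?_
        have h : ∀ z : A ⊗[R] A, Algebra.TensorProduct.map (AlgHom.id R (A ⧸ I)) εB (Algebra.TensorProduct.map p p z) =
            p (TensorProduct.rid R A ((Coalgebra.counit (R := R)).lTensor A z)) ⊗ₜ[R] (1 : R) := fun z => by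
          induction z using TensorProduct.induction_on with
          | zero => simp
          | tmul x y =>
            simp only [Algebra.TensorProduct.map_tmul, LinearMap.lTensor_tmul, TensorProduct.rid_tmul, map_smul,
              AlgHom.id_apply]
            rw [TensorProduct.smul_tmul, smul_eq_mul, _root_.mul_one]
            rfl
          | add x y hx hy => simp only [map_add, TensorProduct.add_tmul, hx, hy]
        show Algebra.TensorProduct.map (AlgHom.id R (A ⧸ I)) εB
          (Algebra.TensorProduct.map p p (Coalgebra.comul (R := R) e)) = 1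
        rw [h, Coalgebra.lTensor_counit_comul, TensorProduct.rid_tmul, one_smul, hpe]
        rfl
      have : D (b * (1 - e)) = 0 := by rw [map_mul, map_sub, map_one, hDe, sub_self, mul_zero]
      exact this
    · obtain ⟨b, rfl⟩ := Ideal.mem_span_singleton'.1 hx
      let D : A →ₐ[R] A ⧸ I := p.comp (HopfAlgebra.antipodeAlgHom R A)
      have hDe : D e = 1 := by
        refine GrpSchLib.HenselComp.eq_one_of_idem_local (he.map D) εB.toRingHom ?_
        show Bialgebra.counitAlgHom R A (HopfAlgebra.antipodeAlgHom R A e) = 1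
        rw [← AlgHom.comp_apply, AlgHom.counitAlgHom_comp_antipodeAlgHom, hε]
      have : D (b * (1 - e)) = 0 := by rw [map_mul, map_sub, map_one, hDe, sub_self, mul_zero]
      exact Ideal.Quotient.eq_zero_iff_mem.1 this
  haveI : Module.Flat R (A ⧸ I) := GrpSchLib.HopfExt.flat_quotient_idempotent R he
  haveI : Module.Free R (A ⧸ I) := Module.free_of_flat_of_isLocalRing
  haveI : Module.Free R A := Module.free_of_flat_of_isLocalRing
  let π : A →ₐc[R] A ⧸ I := Bialgebra.Quotient.mkBialgHom (R := R) I
  have hπ : Function.Surjective π := Ideal.Quotient.mk_surjective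
  have hker : RingHom.ker (π : A →ₐ[R] A ⧸ I) = I := Ideal.mk_ker
  have hI : RingHom.ker (π : A →ₐ[R] A ⧸ I) ≤ RingHom.ker (π : A →ₐ[R] A ⧸ I) ^ 2 := by
    rw [hker, Ideal.span_singleton_pow, pow_two, he.one_sub.eq]
  haveI := GrpSchLib.HopfQuot.formallyUnramified_inv π hπ hI
  haveI := GrpSchLib.HopfQuot.finite_inv π hπ
  haveI := GrpSchLib.HopfQuot.projective_inv π hπ
  haveI : Algebra.FinitePresentation R (GrpSchLib.HopfQuot.inv π) :=
    Algebra.FinitePresentation.of_finiteType.1 inferInstance
  refine ⟨GrpSchLib.HopfQuot.hopfSubalgebra_inv π hπ,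
    (Algebra.Etale.of_formallyUnramified_of_flat : Algebra.Etale R (GrpSchLib.HopfQuot.inv π)),
    GrpSchLib.HopfQuot.faithfullyFlat π hπ, ?_⟩
  exact (GrpSchLib.HopfQuot.augIdeal_eq π hπ).trans hker

end Groth.Agent.S15061
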