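import Groth.Statements.S15062
import Groth.Agent.GrpSchLib.HenselComp
import Mathlib.RingTheory.Etale.Basic


set_option autoImplicit false
universe u
open scoped TensorProduct
open Hopf

namespace Groth.Agent.S15062

/-- Let R be a henselian Noetherian local ring and A a commutative Hopf algebra over R which is finite
and flat as an R-module (a finite flat R-group G = Spec A, not assumed commutative); let e ∈ A be an
idempotent with ε(e) = 1 such that A/(1 − e) is a local ring, so that G⁰ = Spec A/(1 − e) is the
connected component of the unit section, and let B ⊆ A be the subalgebra of functions invariant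
under right translation by G⁰: the equaliser of a ↦ (id ⊗ π)(Δ a) and a ↦ a ⊗ 1 into A ⊗_R A/(1 − e)
(so Spec B = G^ét). Then: (2) for every commutative Hopf algebra C over R which is finite étale over
R (a finite étale R-group H) and every bialgebra homomorphism φ : C → A (a homomorphism G → H), the
image of φ lies in B — the homomorphism factors (necessarily uniquely, A being faithfully flat over
B) through G → G^ét; (3) for every commutative Hopf algebra D over R which is finite and flat over R
and a local ring (a connected finite flat R-group H) and every bialgebra homomorphism ψ : A → D (a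
homomorphism H → G), ψ(e) = 1, i.e. ψ kills the ideal (1 − e) and the homomorphism factors
(uniquely) through G⁰ → G. -/
theorem result (R : Type u) [CommRing R] [HenselianLocalRing R] [IsNoetherianRing R]
    (A : Type u) [CommRing A] [HopfAlgebra R A] [Module.Finite R A] [Module.Flat R A]
    (e : A) (he : IsIdempotentElem e) (hε : Bialgebra.counitAlgHom R A e = 1)
    [IsLocalRing (A ⧸ Ideal.span ({1 - e} : Set A))] :
    (∀ (C : Type u) [CommRing C] [HopfAlgebra R C] [Module.Finite R C] [Algebra.Etale R C] (φ : C →ₐc[R] A) (c : C),
        φ c ∈ (AlgHom.equalizer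
          ((Algebra.TensorProduct.map (AlgHom.id R A) (Ideal.Quotient.mkₐ R (Ideal.span ({1 - e} : Set A)))).comp
            (Bialgebra.comulAlgHom R A))
          (Algebra.TensorProduct.includeLeft : A →ₐ[R] A ⊗[R] (A ⧸ Ideal.span ({1 - e} : Set A))))) ∧
      ∀ (D : Type u) [CommRing D] [HopfAlgebra R D] [Module.Finite R D] [Module.Flat R D] [IsLocalRing D]
        (ψ : A →ₐc[R] D), ψ e = 1 := by
  set I : Ideal A := Ideal.span ({1 - e} : Set A)
  let π := Ideal.Quotient.mkₐ R I
  let εB : (A ⧸ I) →ₐ[R] R := Ideal.Quotient.liftₐ I (Bialgebra.counitAlgHom R A) fun x hx => by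
    obtain ⟨b, rfl⟩ := Ideal.mem_span_singleton'.1 hx
    rw [map_mul, map_sub, map_one, hε, sub_self, mul_zero]
  refine ⟨?_, ?_⟩
  · intro C _ _ _ _ φ c
    let f : C →ₐ[R] A ⧸ I := π.comp (φ : C →ₐ[R] A)
    let g : C →ₐ[R] A ⧸ I := (Algebra.ofId R (A ⧸ I)).comp (Bialgebra.counitAlgHom R C)
    have hfg : f = g := by
      refine GrpSchLib.HenselComp.eq_of_unramified εB f g (AlgHom.ext fun x => ?_)
      show Bialgebra.counitAlgHom R A (φ x) = εB (algebraMap R (A ⧸ I) (Coalgebra.counit x))
      rw [AlgHom.commutes]
      exact CoalgHomClass.counit_comp_apply φ x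
    rw [AlgHom.mem_equalizer]
    show Algebra.TensorProduct.map (AlgHom.id R A) π (Coalgebra.comul (φ c)) = φ c ⊗ₜ[R] 1
    rw [← CoalgHomClass.map_comp_comul_apply]
    have key : ∀ z : TensorProduct R C C, Algebra.TensorProduct.map (AlgHom.id R A) π (TensorProduct.map (φ : C →ₗ[R] A) (φ : C →ₗ[R] A) z) =
        φ (TensorProduct.rid R C (LinearMap.lTensor C (Coalgebra.counit (R := R)) z)) ⊗ₜ[R] (1 : A ⧸ I) := by
      intro z
      induction z using TensorProduct.induction_on with
      | zero => simp only [map_zero, TensorProduct.zero_tmul]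
      | add a b ha hb => simp only [map_add, TensorProduct.add_tmul, ha, hb]
      | tmul a b =>
        simp only [TensorProduct.map_tmul, LinearMap.lTensor_tmul, TensorProduct.rid_tmul]
        show φ a ⊗ₜ[R] f b = φ (Coalgebra.counit b • a) ⊗ₜ[R] 1
        rw [hfg, map_smul, TensorProduct.smul_tmul]
        show φ a ⊗ₜ[R] algebraMap R (A ⧸ I) (Coalgebra.counit b) = _
        rw [Algebra.algebraMap_eq_smul_one]
    refine (key _).trans ?_
    rw [Coalgebra.lTensor_counit_comul, TensorProduct.rid_tmul, one_smul]
  · intro D _ _ _ _ _ ψ
    refine GrpSchLib.HenselComp.eq_one_of_idem_local (he.map ψ) (Bialgebra.counitAlgHom R D).toRingHom ?_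
    exact (CoalgHomClass.counit_comp_apply ψ e).trans hε

end Groth.Agent.S15062
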