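import Groth.Statements.S15063
import Groth.Agent.GrpSchLib.HenselComp
import Groth.Agent.HopfPtLib.Conv3
import Mathlib.RingTheory.HopfAlgebra.Convolution


set_option autoImplicit false
universe u
open Hopf

namespace Groth.Agent.S15063

/-- Let R be a henselian Noetherian local ring and A a commutative Hopf algebra over R which is finite
and flat as an R-module (a finite flat R-group G = Spec A, not assumed commutative); let e ∈ A be an
idempotent with ε(e) = 1 such that A/(1 − e) is a local ring, so that Spec A/(1 − e) is the
connected component G⁰ of G containing the unit section. Then G⁰ is normal in G: for every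
commutative R-algebra T, every T-valued point g of G and every T-valued point h of G killing the
ideal (1 − e), the conjugate g·h·g⁻¹ again kills (1 − e). (The published statement is for a flat
affine algebraic R-group and also asserts that G⁰ is an open and closed flat subgroup; this row
states the normality clause for finite flat G.) -/
theorem result (R : Type u) [CommRing R] [HenselianLocalRing R] [IsNoetherianRing R]
    (A : Type u) [CommRing A] [HopfAlgebra R A] [Module.Finite R A] [Module.Flat R A]
    (e : A) (he : IsIdempotentElem e) (hε : Bialgebra.counitAlgHom R A e = 1)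
    [IsLocalRing (A ⧸ Ideal.span ({1 - e} : Set A))] :
    SGA3.IsNormalHopfIdeal R A (Ideal.span ({1 - e} : Set A)) := by
  intro T _ _ g h hh a ha
  set I : Ideal A := Ideal.span ({1 - e} : Set A)
  let π := Ideal.Quotient.mkₐ R I
  let εB : (A ⧸ I) →ₐ[R] R := Ideal.Quotient.liftₐ I (Bialgebra.counitAlgHom R A) fun x hx => by
    obtain ⟨b, rfl⟩ := Ideal.mem_span_singleton'.1 hx
    rw [map_mul, map_sub, map_one, hε, sub_self, mul_zero]
  haveI : Module.Finite R (A ⧸ I) := Module.Finite.of_surjective π.toLinearMap Ideal.Quotient.mk_surjective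
  let C := TensorProduct R A (A ⧸ I)
  let g0 : A →ₐ[R] C := Algebra.TensorProduct.includeLeft
  let h0 : A →ₐ[R] C := Algebra.TensorProduct.includeRight.comp π
  let E := Dyn.conv3 R A g0 h0 (g0.comp (HopfAlgebra.antipodeAlgHom R A))
  have hE : E e = 1 := by
    refine GrpSchLib.HenselComp.eq_one_of_idem_tensor εB (he.map E) ?_
    let Φ := Algebra.TensorProduct.map (AlgHom.id R A) εB
    show Φ.comp E e = 1
    have hcomp : Φ.comp E = (Algebra.ofId R (TensorProduct R A R)).comp (Bialgebra.counitAlgHom R A) := by
      have h1 : Φ.comp h0 = (Algebra.ofId R (TensorProduct R A R)).comp (Bialgebra.counitAlgHom R A) := by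
        ext x
        simp only [Φ, h0, π, AlgHom.comp_apply, Algebra.TensorProduct.includeRight_apply, Algebra.TensorProduct.map_tmul,
          map_one, Algebra.ofId_apply, Algebra.TensorProduct.algebraMap_apply]
        show (1 : A) ⊗ₜ[R] (Bialgebra.counitAlgHom R A x) = algebraMap R A _ ⊗ₜ[R] (1 : R)
        rw [Algebra.algebraMap_eq_smul_one, TensorProduct.smul_tmul, smul_eq_mul, _root_.mul_one]
      apply WithConv.toConv_injective
      show WithConv.toConv (Φ.comp E) = 1
      rw [show E = _ from HopfPtLib.conv3_eq _ _ _, AlgHom.comp_convMul_distrib, AlgHom.comp_convMul_distrib]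
      simp only [WithConv.toConv_ofConv, h1]
      rw [show WithConv.toConv ((Algebra.ofId R (TensorProduct R A R)).comp (Bialgebra.counitAlgHom R A)) = 1 from rfl, _root_.mul_one, ← AlgHom.comp_assoc]
      have hinv : WithConv.toConv (Φ.comp g0) * WithConv.toConv ((Φ.comp g0).comp (HopfAlgebra.antipodeAlgHom R A)) = 1 := by
        refine WithConv.ofConv_injective (AlgHom.toLinearMap_injective (WithConv.toConv_injective ?_))
        rw [AlgHom.toLinearMap_convMul, AlgHom.toLinearMap_convOne]
        have h2 := LinearMap.algHom_comp_convMul_distrib (Φ.comp g0)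
          (WithConv.toConv (LinearMap.id : A →ₗ[R] A)) (WithConv.toConv (HopfAlgebra.antipode R (A := A)))
        rw [LinearMap.id_mul_antipode] at h2
        refine Eq.trans ?_ ((congrArg WithConv.toConv h2).symm.trans ?_)
        · rfl
        · ext x
          exact ((Φ.comp g0).commutes _)
      exact hinv
    rw [hcomp, AlgHom.comp_apply, hε, map_one]
  let hb : (A ⧸ I) →ₐ[R] T := Ideal.Quotient.liftₐ I h hh
  let Ψ : C →ₐ[R] T := Algebra.TensorProduct.lift g hb fun _ _ => Commute.all _ _
  have hg : Ψ.comp g0 = g := Algebra.TensorProduct.lift_comp_includeLeft _ _ _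
  have hh0 : Ψ.comp h0 = h := by
    ext x
    show Algebra.TensorProduct.lift g hb (fun _ _ => Commute.all _ _) ((1 : A) ⊗ₜ[R] Ideal.Quotient.mk I x) = h x
    rw [Algebra.TensorProduct.lift_tmul, map_one, _root_.one_mul]
    rfl
  have hnat : Dyn.conv3 R A g h (g.comp (HopfAlgebra.antipodeAlgHom R A)) = Ψ.comp E := by
    apply WithConv.toConv_injective
    rw [HopfPtLib.conv3_eq, show E = _ from HopfPtLib.conv3_eq _ _ _, AlgHom.comp_convMul_distrib, AlgHom.comp_convMul_distrib]
    simp only [WithConv.toConv_ofConv, ← AlgHom.comp_assoc, hg, hh0]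
  obtain ⟨b, rfl⟩ := Ideal.mem_span_singleton'.1 ha
  rw [hnat, AlgHom.comp_apply, map_mul, map_sub, map_one, hE, sub_self, mul_zero, map_zero]

end Groth.Agent.S15063
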