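import Groth.Statements.S15064
import Groth.Agent.GrpSchLib.SimpleFinite


set_option autoImplicit false
universe u
open scoped TensorProduct
open Hopf

namespace Groth.Agent.S15064

/-- Let k be a field of characteristic p > 0 and A a finite-dimensional commutative and cocommutative
Hopf algebra over k (a finite commutative k-group G = Spec A) which is bi-infinitesimal — A is a
local ring and so is the dual algebra Hom_k(A, k) with the convolution product (G and its Cartier
dual are connected) — with dim_k A > 1, and assume G is simple: every Hopf ideal of A is either zero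
or the augmentation ideal (G has no closed subgroup schemes other than G and 1). Then G is
isomorphic to α_p: A has a primitive element x (Δ(x) = x ⊗ 1 + 1 ⊗ x) with x^p = 0 whose powers 1,
x, …, x^(p−1) are linearly independent over k, and dim_k A = p (so A = k[x]/(x^p) with x primitive). -/
theorem result (k : Type u) [Field k] (p : ℕ) [Fact p.Prime] [CharP k p]
    (A : Type u) [CommRing A] [HopfAlgebra k A] [Coalgebra.IsCocomm k A] [FiniteDimensional k A] [IsLocalRing A]
    (hdual : IsLocalRing (WithConv (A →ₗ[k] k))) (hA : 1 < Module.finrank k A)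
    (hsimple : ∀ I : Ideal A, I.IsHopfIdeal k → I = ⊥ ∨ I = RingHom.ker (Bialgebra.counitAlgHom k A)) :
    ∃ x : A, Coalgebra.comul x = x ⊗ₜ[k] (1 : A) + (1 : A) ⊗ₜ[k] x ∧ x ^ p = 0 ∧
      LinearIndependent k (fun i : Fin p => x ^ (i : ℕ)) ∧ Module.finrank k A = p := by
  classical
  obtain ⟨x₀, hx₀, hΔ⟩ := GrpSchLib.exists_primitive_of_isLocalRing_dual (A := A) hA hdual
  have hmax : ∀ a : A, Coalgebra.counit (R := k) a = 0 → IsNilpotent a := fun a ha => by
    haveI : IsArtinianRing A := IsArtinianRing.of_finite k A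
    have : a ∈ IsLocalRing.maximalIdeal A :=
      IsLocalRing.le_maximalIdeal (RingHom.ker_ne_top (Bialgebra.counitAlgHom k A)) ha
    rw [← IsLocalRing.jacobson_eq_maximalIdeal (⊥ : Ideal A) bot_ne_top] at this
    obtain ⟨N, hN⟩ := IsArtinianRing.isNilpotent_jacobson_bot (R := A)
    exact ⟨N, by simpa [hN] using Ideal.pow_mem_pow this N⟩
  haveI : CharP A p := by
    haveI : Nontrivial A := IsLocalRing.toNontrivial
    exact charP_of_injective_algebraMap (algebraMap k A).injective p
  have hprim : ∀ n, Coalgebra.comul (x₀ ^ p ^ n) = (x₀ ^ p ^ n) ⊗ₜ[k] (1 : A) + (1 : A) ⊗ₜ[k] (x₀ ^ p ^ n) := by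
    intro n
    haveI : CharP (A ⊗[k] A) p := by
      haveI : Nontrivial (A ⊗[k] A) := (Algebra.TensorProduct.includeLeft_injective (S := k) (algebraMap k A).injective).nontrivial
      exact charP_of_injective_algebraMap (algebraMap k (A ⊗[k] A)).injective p
    rw [Bialgebra.comul_pow, hΔ, add_pow_char_pow, Algebra.TensorProduct.tmul_pow, Algebra.TensorProduct.tmul_pow,
      one_pow]
  have hex : ∃ n, x₀ ^ p ^ n = 0 := by
    obtain ⟨N, hN⟩ := hmax x₀ (GrpSchLib.counit_primitive hΔ)
    exact ⟨N, pow_eq_zero_of_le (Nat.lt_pow_self (Fact.out : p.Prime).one_lt).le hN⟩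
  have h0 : Nat.find hex ≠ 0 := fun h => hx₀ (by simpa [h] using Nat.find_spec hex)
  obtain ⟨m, hm⟩ : ∃ m, Nat.find hex = m + 1 := ⟨Nat.find hex - 1, by omega⟩
  have hxne : x₀ ^ p ^ m ≠ 0 := Nat.find_min hex (by omega)
  have hxp : (x₀ ^ p ^ m) ^ p = 0 := by rw [← pow_mul, ← pow_succ, ← hm]; exact Nat.find_spec hex
  refine ⟨x₀ ^ p ^ m, hprim m, hxp, GrpSchLib.linearIndependent_pow_primitive p (hprim m) hxne, ?_⟩
  have hI : Ideal.span ({x₀ ^ p ^ m} : Set A) = RingHom.ker (Bialgebra.counitAlgHom k A) :=
    (hsimple _ (GrpSchLib.isHopfIdeal_span_primitive (hprim m))).resolve_left (by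
      rw [Ideal.span_singleton_eq_bot]; exact hxne)
  have htop := GrpSchLib.span_pow_eq_top (k := k) (fun a ha => by rw [hI]; exact ha) hxp
  refine (Module.finrank_eq_card_basis (Module.Basis.mk (GrpSchLib.linearIndependent_pow_primitive p (hprim m) hxne)
    htop.ge)).trans (Fintype.card_fin p)

end Groth.Agent.S15064
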