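import Groth.Statements.S15065
import Groth.Agent.GrpSchLib.SimpleFinite


set_option autoImplicit false
universe u
open Hopf

namespace Groth.Agent.S15065

/-- Let k be an algebraically closed field and A a finite-dimensional commutative and cocommutative Hopf
algebra over k which is reduced (a finite étale commutative k-group G = Spec A), with dim_k A > 1,
and assume G is simple: every Hopf ideal of A is either zero or the augmentation ideal (no closed
subgroup schemes other than G and 1). Then the order dim_k A is a prime number ℓ, so that G is the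
constant group ℤ/ℓℤ. (The published statement lists the simple finite commutative groups over an
algebraically closed field of characteristic p > 0; the étale case does not use the characteristic
and is stated here for any algebraically closed field.) -/
theorem result (k : Type u) [Field k] [IsAlgClosed k] (A : Type u) [CommRing A] [HopfAlgebra k A]
    [Coalgebra.IsCocomm k A] [FiniteDimensional k A] [IsReduced A] (hA : 1 < Module.finrank k A)
    (hsimple : ∀ I : Ideal A, I.IsHopfIdeal k → I = ⊥ ∨ I = RingHom.ker (Bialgebra.counitAlgHom k A)) :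
    (Module.finrank k A).Prime := by
  classical
  obtain ⟨hfin, hev⟩ := GrpSchLib.eval_bijective_of_isReduced (k := k) (A := A)
  haveI := hfin
  let G := WithConv (A →ₐ[k] k)
  haveI : Fintype G := Fintype.ofFinite G
  have hcard : Module.finrank k A = Fintype.card G := by
    let ev : A →ₗ[k] G → k := LinearMap.pi fun g => g.ofConv.toLinearMap
    rw [(LinearEquiv.ofBijective ev hev).finrank_eq, Module.finrank_pi]
  rw [hcard]
  have h1 : 1 < Fintype.card G := hcard ▸ hA
  obtain ⟨ℓ, hℓ, hdvd⟩ := Nat.exists_prime_and_dvd (show Fintype.card G ≠ 1 by omega)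
  haveI : Fact ℓ.Prime := ⟨hℓ⟩
  obtain ⟨g, hg⟩ := exists_prime_orderOf_dvd_card ℓ hdvd
  let H := Subgroup.zpowers g
  let f := GrpSchLib.toConstGrp k A H.subtype
  have hH : (RingHom.ker (f : A →ₐ[k] ConstGrp.F k H)).IsHopfIdeal k := by
    refine GrpSchLib.isHopfIdeal_ker f fun a ha => funext fun h => ?_
    have := congrFun ha h⁻¹
    exact this
  rcases hsimple _ hH with h | h
  · have hinj : Function.Injective f := by
      rw [injective_iff_map_eq_zero]
      intro a ha
      exact (Ideal.mem_bot).mp (h ▸ (ha : a ∈ RingHom.ker (f : A →ₐ[k] ConstGrp.F k H)))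
    have hle := LinearMap.finrank_le_finrank_of_injective (f := (f : A →ₗ[k] ConstGrp.F k H)) hinj
    rw [Module.finrank_eq_card_basis (ConstGrp.basis k H), hcard, Fintype.card_zpowers, hg] at hle
    have := Nat.le_of_dvd (by omega) hdvd
    rwa [show Fintype.card G = ℓ by omega]
  · exfalso
    have hg1 : g ≠ 1 := fun e => hℓ.ne_one (by rw [← hg, e, orderOf_one])
    refine hg1 (WithConv.ofConv_injective (AlgHom.ext fun a => ?_))
    have hmem : a - Coalgebra.counit (R := k) a • (1 : A) ∈ RingHom.ker (f : A →ₐ[k] ConstGrp.F k H) := by
      rw [h, RingHom.mem_ker]; simp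
    have h2 : g.ofConv (a - Coalgebra.counit (R := k) a • (1 : A)) = 0 :=
      congrFun (RingHom.mem_ker.mp hmem) ⟨g, Subgroup.mem_zpowers g⟩
    rw [map_sub, map_smul, map_one, sub_eq_zero, smul_eq_mul, _root_.mul_one] at h2
    exact h2

end Groth.Agent.S15065
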