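import Groth.Statements.S15066
import Groth.Agent.GrpSchLib.SimpleFinite


set_option autoImplicit false
universe u
open Hopf

namespace Groth.Agent.S15066

/-- Let k be an algebraically closed field of characteristic p > 0 and A a finite-dimensional
commutative and cocommutative Hopf algebra over k (a finite commutative k-group G = Spec A) which is
a local ring (G connected) and whose dual algebra Hom_k(A, k) with the convolution product is
reduced (the Cartier dual of G is étale, i.e. G is multiplicative), with dim_k A > 1, and assume G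
is simple: every Hopf ideal of A is either zero or the augmentation ideal (no closed subgroup
schemes other than G and 1). Then G is isomorphic to μ_p: A has a group-like element g (Δ(g) = g ⊗
g, ε(g) = 1) with g^p = 1 whose powers 1, g, …, g^(p−1) are linearly independent over k, and dim_k A
= p (so A = k[g]/(g^p − 1)). -/
theorem result (k : Type u) [Field k] [IsAlgClosed k] (p : ℕ) [Fact p.Prime]
    [CharP k p] (A : Type u) [CommRing A] [HopfAlgebra k A] [Coalgebra.IsCocomm k A] [FiniteDimensional k A]
    [IsLocalRing A] (hdual : IsReduced (WithConv (A →ₗ[k] k))) (hA : 1 < Module.finrank k A)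
    (hsimple : ∀ I : Ideal A, I.IsHopfIdeal k → I = ⊥ ∨ I = RingHom.ker (Bialgebra.counitAlgHom k A)) :
    ∃ g : A, IsGroupLikeElem k g ∧ g ^ p = 1 ∧ LinearIndependent k (fun i : Fin p => g ^ (i : ℕ)) ∧
      Module.finrank k A = p := by
  classical
  have hmax : ∀ a : A, Coalgebra.counit (R := k) a = 0 → IsNilpotent a := fun a ha => by
    haveI : IsArtinianRing A := IsArtinianRing.of_finite k A
    have : a ∈ IsLocalRing.maximalIdeal A :=
      IsLocalRing.le_maximalIdeal (RingHom.ker_ne_top (Bialgebra.counitAlgHom k A)) ha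
    rw [← IsLocalRing.jacobson_eq_maximalIdeal (⊥ : Ideal A) bot_ne_top] at this
    obtain ⟨N, hN⟩ := IsArtinianRing.isNilpotent_jacobson_bot (R := A)
    exact ⟨N, by simpa [hN] using Ideal.pow_mem_pow this N⟩
  haveI : CharP A p := by
    haveI : Nontrivial A := IsLocalRing.toNontrivial
    exact charP_of_injective_algebraMap (algebraMap k A).injective p
  haveI : IsReduced (CartDual.D k A) := hdual
  obtain ⟨hfin, hev⟩ := GrpSchLib.eval_bijective_of_isReduced (k := k) (A := CartDual.D k A)
  obtain ⟨g₀, hg₀, hg₁⟩ : ∃ g : A, IsGroupLikeElem k g ∧ g ≠ 1 := by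
    by_contra hcon
    push Not at hcon
    have hsub : ∀ f f' : CartDual.D k A →ₐ[k] k, f = f' := by
      intro f f'
      obtain ⟨x, ⟨hx, hxe⟩, -⟩ := (S11928.result k A).1 f
      obtain ⟨x', ⟨hx', hxe'⟩, -⟩ := (S11928.result k A).1 f'
      refine AlgHom.ext fun φ => ?_
      rw [show φ = WithConv.toConv φ.ofConv from rfl, hxe, hxe', hcon x hx, hcon x' hx']
    haveI : Subsingleton (WithConv (CartDual.D k A →ₐ[k] k)) :=
      ⟨fun f f' => WithConv.ofConv_injective (hsub _ _)⟩
    have hle := LinearMap.finrank_le_finrank_of_injective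
      (f := LinearMap.pi fun g : WithConv (CartDual.D k A →ₐ[k] k) => g.ofConv.toLinearMap) hev.1
    haveI : Fintype (WithConv (CartDual.D k A →ₐ[k] k)) := Fintype.ofFinite _
    rw [Module.finrank_pi, (CartDual.toDual k A).finrank_eq, Subspace.dual_finrank_eq] at hle
    have := Fintype.card_le_one_iff_subsingleton.mpr ‹Subsingleton (WithConv (CartDual.D k A →ₐ[k] k))›
    omega
  have hex : ∃ n, g₀ ^ p ^ n = 1 := by
    obtain ⟨N, hN⟩ := hmax (g₀ - 1) (by simp [hg₀.counit_eq_one])
    refine ⟨N, ?_⟩
    have h := pow_eq_zero_of_le (Nat.lt_pow_self (Fact.out : p.Prime).one_lt).le hN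
    rwa [sub_pow_char_pow, one_pow, sub_eq_zero] at h
  have h0 : Nat.find hex ≠ 0 := fun h => hg₁ (by simpa [h] using Nat.find_spec hex)
  obtain ⟨m, hm⟩ : ∃ m, Nat.find hex = m + 1 := ⟨Nat.find hex - 1, by omega⟩
  have hne : g₀ ^ p ^ m ≠ 1 := Nat.find_min hex (by omega)
  have hgp : (g₀ ^ p ^ m) ^ p = 1 := by rw [← pow_mul, ← pow_succ, ← hm]; exact Nat.find_spec hex
  have hg : IsGroupLikeElem k (g₀ ^ p ^ m) := hg₀.pow
  have hli := GrpSchLib.linearIndependent_pow_groupLike p hg hne hgp
  refine ⟨_, hg, hgp, hli, ?_⟩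
  have hI : Ideal.span ({g₀ ^ p ^ m - 1} : Set A) = RingHom.ker (Bialgebra.counitAlgHom k A) :=
    (hsimple _ (GrpSchLib.isHopfIdeal_span_groupLike_sub_one hg)).resolve_left (by
      rw [Ideal.span_singleton_eq_bot, sub_eq_zero]; exact hne)
  have htop := GrpSchLib.span_pow_eq_top (k := k) (p := p) (fun a ha => by rw [hI]; exact ha)
    (by rw [sub_pow_char, one_pow, hgp, sub_self])
  refine le_antisymm ?_ ((Fintype.card_fin p).ge.trans hli.fintype_card_le_finrank)
  rw [← finrank_top k A, ← htop]
  exact (finrank_range_le_card _).trans (Fintype.card_fin p).le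

end Groth.Agent.S15066
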