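import Groth.Statements.S15067
import Groth.Agent.GrpSchLib.HopfExt


set_option autoImplicit false
universe u
open scoped TensorProduct
open Hopf

namespace Groth.Agent.S15067

/-- Let R be a henselian Noetherian local ring, A and A'' commutative Hopf algebras over R which are
finite and flat as R-modules (finite flat R-groups G = Spec A, G'' = Spec A''), and A'' → A an
R-algebra homomorphism compatible with the comultiplications and counits (a homomorphism π : G →
G'') making A a faithfully flat A''-module (π faithfully flat). Let J ⊆ A be the ideal generated by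
the image of the augmentation ideal of A'', so that G' = Spec A/J is the kernel of π and 1 → G' → G
→ G'' → 1 is an exact sequence of finite flat R-groups. Then: (2) if A'' and A/J are local rings
(G'' and G' connected), A is a local ring (G is connected); (3) if A'' and A/J are étale over R (G''
and G' finite étale), A is étale over R (G is finite étale). -/
theorem result (R : Type u) [CommRing R] [HenselianLocalRing R] [IsNoetherianRing R]
    (A A'' : Type u) [CommRing A] [HopfAlgebra R A] [Module.Finite R A] [Module.Flat R A]
    [CommRing A''] [HopfAlgebra R A''] [Module.Finite R A''] [Module.Flat R A'']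
    [Algebra A'' A] [IsScalarTower R A'' A] [Module.FaithfullyFlat A'' A]
    (hΔ : (Bialgebra.comulAlgHom R A).comp (IsScalarTower.toAlgHom R A'' A) =
      (Algebra.TensorProduct.map (IsScalarTower.toAlgHom R A'' A) (IsScalarTower.toAlgHom R A'' A)).comp
        (Bialgebra.comulAlgHom R A''))
    (hε : (Bialgebra.counitAlgHom R A).comp (IsScalarTower.toAlgHom R A'' A) = Bialgebra.counitAlgHom R A'') :
    ((IsLocalRing A'' ∧
        IsLocalRing (A ⧸ (RingHom.ker (Bialgebra.counitAlgHom R A'')).map (algebraMap A'' A))) → IsLocalRing A) ∧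
      ((Algebra.Etale R A'' ∧
        Algebra.Etale R (A ⧸ (RingHom.ker (Bialgebra.counitAlgHom R A'')).map (algebraMap A'' A))) →
        Algebra.Etale R A) := by
  let J : Ideal A := (RingHom.ker (Bialgebra.counitAlgHom R A'')).map (algebraMap A'' A)
  haveI : Module.Finite A'' A := Module.Finite.of_restrictScalars_finite R A'' A
  refine ⟨fun ⟨hl, hq⟩ => ?_, fun ⟨h1, h2⟩ => ?_⟩
  · haveI := hl
    haveI : IsLocalRing (A ⧸ J) := hq
    have hne : RingHom.ker (Bialgebra.counitAlgHom R A'') ≠ ⊤ := RingHom.ker_ne_top _
    have hJ : ∀ M : Ideal A, M.IsMaximal → J ≤ M := fun M hM => by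
      haveI := hM
      exact Ideal.map_le_iff_le_comap.2 ((IsLocalRing.le_maximalIdeal hne).trans_eq
        (IsLocalRing.eq_maximalIdeal (Ideal.isMaximal_comap_of_isIntegral_of_isMaximal M)).symm)
    haveI : Nontrivial A := (Ideal.Quotient.mk J).domain_nontrivial
    obtain ⟨M₀, hM₀⟩ := Ideal.exists_maximal A
    refine IsLocalRing.of_unique_max_ideal ⟨M₀, hM₀, fun M hM => ?_⟩
    have key : ∀ N : Ideal A, N.IsMaximal →
        N = (IsLocalRing.maximalIdeal (A ⧸ J)).comap (Ideal.Quotient.mk J) := by
      intro N hN
      rcases Ideal.map_eq_top_or_isMaximal_of_surjective (Ideal.Quotient.mk J) Ideal.Quotient.mk_surjective hN with h | h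
      · exfalso
        refine hN.ne_top ?_
        have h2 := congrArg (Ideal.comap (Ideal.Quotient.mk J)) h
        rwa [Ideal.comap_map_of_surjective _ Ideal.Quotient.mk_surjective, ← RingHom.ker_eq_comap_bot, Ideal.mk_ker,
          sup_eq_left.2 (hJ N hN), Ideal.comap_top] at h2
      · rw [← IsLocalRing.eq_maximalIdeal h, Ideal.comap_map_of_surjective _ Ideal.Quotient.mk_surjective,
          ← RingHom.ker_eq_comap_bot, Ideal.mk_ker, sup_eq_left.2 (hJ N hN)]
    exact (key M hM).trans (key M₀ hM₀).symm
  · haveI := h1
    haveI : Algebra.Etale R (A ⧸ J) := h2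
    have hJ : J ≤ RingHom.ker (Bialgebra.counitAlgHom R A) ^ 2 := by
      refine (Ideal.map_mono (GrpSchLib.HopfExt.ker_le_sq_of_unramified (Bialgebra.counitAlgHom R A''))).trans ?_
      rw [Ideal.map_pow]
      exact Ideal.pow_right_mono (GrpSchLib.HopfExt.map_aug_le hε) 2
    haveI := GrpSchLib.HopfExt.formallyUnramified_of_aug
      ((GrpSchLib.HopfExt.aug_le_sup_sq hε).trans (sup_le hJ le_rfl))
    haveI : Algebra.FinitePresentation R A :=
      Algebra.FinitePresentation.of_finiteType.1 inferInstance
    exact Algebra.Etale.of_formallyUnramified_of_flat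

end Groth.Agent.S15067
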