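import Groth.Statements.S15068
import Groth.Agent.GrpSchLib.HopfExt


set_option autoImplicit false
universe u
open scoped TensorProduct
open Hopf

namespace Groth.Agent.S15068

/-- Let R be a henselian Noetherian local ring, A and A'' commutative Hopf algebras over R which are
finite and flat as R-modules, and A'' → A an R-algebra homomorphism compatible with
comultiplications and counits making A faithfully flat over A'' (a faithfully flat homomorphism π :
G → G'' of finite flat R-groups); let J ⊆ A be the ideal generated by the image of the augmentation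
ideal of A'' (G' = Spec A/J = ker π, so 1 → G' → G → G'' → 1 is exact). Assume A'' is a local ring
(G'' connected) and A/J is étale over R (G' finite étale), and let e ∈ A be an idempotent with ε(e)
= 1 such that A/(1 − e) is local (G⁰ = Spec A/(1 − e), the unit component of G). Then the composite
A'' → A → A/(1 − e) is bijective: the restriction G⁰ → G'' of π is an isomorphism, whose inverse
splits the extension, G ≅ G' × G''. -/
theorem result (R : Type u) [CommRing R] [HenselianLocalRing R]
    [IsNoetherianRing R] (A A'' : Type u) [CommRing A] [HopfAlgebra R A] [Module.Finite R A] [Module.Flat R A]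
    [CommRing A''] [HopfAlgebra R A''] [Module.Finite R A''] [Module.Flat R A'']
    [Algebra A'' A] [IsScalarTower R A'' A] [Module.FaithfullyFlat A'' A]
    (hΔ : (Bialgebra.comulAlgHom R A).comp (IsScalarTower.toAlgHom R A'' A) =
      (Algebra.TensorProduct.map (IsScalarTower.toAlgHom R A'' A) (IsScalarTower.toAlgHom R A'' A)).comp
        (Bialgebra.comulAlgHom R A''))
    (hε : (Bialgebra.counitAlgHom R A).comp (IsScalarTower.toAlgHom R A'' A) = Bialgebra.counitAlgHom R A'')
    [IsLocalRing A''] [Algebra.Etale R (A ⧸ (RingHom.ker (Bialgebra.counitAlgHom R A'')).map (algebraMap A'' A))]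
    (e : A) (he : IsIdempotentElem e) (heε : Bialgebra.counitAlgHom R A e = 1)
    [IsLocalRing (A ⧸ Ideal.span ({1 - e} : Set A))] :
    Function.Bijective ((Ideal.Quotient.mkₐ R (Ideal.span ({1 - e} : Set A))).comp (IsScalarTower.toAlgHom R A'' A)) := by
  let J : Ideal A := (RingHom.ker (Bialgebra.counitAlgHom R A'')).map (algebraMap A'' A)
  let K : Ideal A := Ideal.span ({1 - e} : Set A)
  let A₀ := A ⧸ K
  let ε₀ : A₀ →ₐ[R] R := Ideal.Quotient.liftₐ K (Bialgebra.counitAlgHom R A) fun x hx => by
    obtain ⟨b, rfl⟩ := Ideal.mem_span_singleton'.1 hx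
    rw [map_mul, map_sub, map_one, heε, sub_self, mul_zero]
  haveI : Module.Finite A'' A := Module.Finite.of_restrictScalars_finite R A'' A
  haveI : Module.Finite A'' A₀ := Module.Finite.of_surjective (Ideal.Quotient.mkₐ A'' K).toLinearMap Ideal.Quotient.mk_surjective
  haveI : Module.Finite R A₀ := Module.Finite.of_surjective (Ideal.Quotient.mkₐ R K).toLinearMap Ideal.Quotient.mk_surjective
  haveI : IsNoetherianRing A₀ := IsNoetherianRing.of_finite R A₀
  haveI : Module.Flat A'' A₀ := GrpSchLib.HopfExt.flat_quotient_idempotent A'' he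
  haveI : IsLocalHom (algebraMap A'' A₀) := GrpSchLib.HopfExt.isLocalHom_of_isIntegral A'' A₀
  haveI : Module.FaithfullyFlat A'' A₀ := Module.FaithfullyFlat.of_flat_of_isLocalHom
  have hker : RingHom.ker ε₀ = (RingHom.ker (Bialgebra.counitAlgHom R A)).map (Ideal.Quotient.mk K) :=
    Ideal.ker_quotient_lift (Bialgebra.counitAlgHom R A).toRingHom fun x hx => by
      obtain ⟨b, rfl⟩ := Ideal.mem_span_singleton'.1 hx
      show Bialgebra.counitAlgHom R A (b * (1 - e)) = 0
      rw [map_mul, map_sub, map_one, heε, sub_self, mul_zero]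
  have hI : RingHom.ker ε₀ ≤ J.map (Ideal.Quotient.mk K) := by
    refine Submodule.le_of_le_smul_of_le_jacobson_bot (I := RingHom.ker ε₀) (IsNoetherian.noetherian _) ?_ ?_
    · rw [IsLocalRing.jacobson_eq_maximalIdeal _ bot_ne_top]
      exact IsLocalRing.le_maximalIdeal (RingHom.ker_ne_top _)
    · refine (hker.trans_le (Ideal.map_mono (GrpSchLib.HopfExt.aug_le_sup_sq hε))).trans ?_
      rw [Ideal.map_sup, Ideal.map_pow, ← hker, pow_two]
      rfl
  show Function.Bijective (algebraMap A'' A₀)
  refine ⟨FaithfulSMul.algebraMap_injective A'' A₀, ?_⟩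
  have hJ : J.map (Ideal.Quotient.mk K) ≤ (IsLocalRing.maximalIdeal A'').map (algebraMap A'' A₀) := by
    rw [Ideal.map_map]
    exact Ideal.map_mono (IsLocalRing.le_maximalIdeal (RingHom.ker_ne_top _))
  have htop : (⊤ : Submodule A'' A₀) ≤ LinearMap.range (Algebra.linearMap A'' A₀) ⊔
      IsLocalRing.maximalIdeal A'' • (⊤ : Submodule A'' A₀) := by
    rintro x -
    rw [Ideal.smul_top_eq_map]
    have hx : x = algebraMap A'' A₀ (algebraMap R A'' (ε₀ x)) + (x - algebraMap R A₀ (ε₀ x)) := by
      rw [← IsScalarTower.algebraMap_apply R A'' A₀]; ring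
    rw [hx]
    refine Submodule.add_mem_sup ⟨_, rfl⟩ ?_
    exact hJ (hI (by simp [RingHom.mem_ker]))
  intro x
  exact (Submodule.le_of_le_smul_of_le_jacobson_bot Module.Finite.fg_top
    (by rw [IsLocalRing.jacobson_eq_maximalIdeal _ bot_ne_top]) htop) (Submodule.mem_top (x := x))

end Groth.Agent.S15068
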