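import Groth.Statements.S1507
import Groth.Agent.PerfMor.FlatPC
import Groth.Agent.PCMor.Scheme

set_option autoImplicit false
universe u
attribute [local instance] HasDerivedCategory.standard
open FlatMor

namespace Groth.Agent.S1507

/-- Let A → B be flat and of finite presentation and I an ideal of B. Then A → B/I is a pseudo-coherent
ring map if and only if I is a pseudo-coherent B-module. -/
theorem result {A B : Type u} [CommRing A] [CommRing B] [Algebra A B] [Module.Flat A B] [Algebra.FinitePresentation A B] (I : Ideal B) :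
    MoreMor.IsPseudoCoherentHom A (B ⧸ I) ↔ DRing.IsPseudoCoherentModule' B ↥I := by
  open Groth.Agent CategoryTheory H9Misc in
  have hφ : PCMor.Q (algebraMap A B) := PerfMor.q_of_flat_fp A B
  have hcomp : algebraMap A (B ⧸ I) = (algebraMap B (B ⧸ I)).comp (algebraMap A B) :=
    IsScalarTower.algebraMap_eq A B (B ⧸ I)
  haveI : Module.Finite B (B ⧸ I) :=
    Module.Finite.of_surjective (Algebra.linearMap B (B ⧸ I)) Ideal.Quotient.mk_surjective
  have hiff : MoreMor.IsPseudoCoherentHom A (B ⧸ I) ↔ DRing.IsPseudoCoherentModule' B (B ⧸ I) := by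
    rw [PCMor.isPseudoCoherentHom_iff, ← PCMor.q_iff_of_finite, hcomp]
    exact ⟨fun h => hφ.cancel h, fun h => hφ.comp h⟩
  rw [hiff]
  have he : Function.Exact I.subtype (Algebra.linearMap B (B ⧸ I)) := fun x => by
    simp [Ideal.Quotient.eq_zero_iff_mem]
  have hB : ∀ m, DRing.IsPseudoCoherentModule B m B := fun m => Triage.NoethPC.pc_of_free (A := B) B m
  constructor
  · intro h
    refine (H9Misc.DRingPC.pc'_iff _).2 fun m => ?_
    have w : ModuleCat.ofHom I.subtype ≫ ModuleCat.ofHom (Algebra.linearMap B (B ⧸ I)) = 0 :=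
      ModuleCat.hom_ext (LinearMap.ext he.apply_apply_eq_zero)
    have hS : (ShortComplex.mk (ModuleCat.ofHom I.subtype) (ModuleCat.ofHom (Algebra.linearMap B (B ⧸ I)))
        w).ShortExact :=
      { exact := (ShortComplex.ShortExact.moduleCat_exact_iff_function_exact _).2 he
        mono_f := (ModuleCat.mono_iff_injective _).2 Subtype.val_injective
        epi_g := (ModuleCat.epi_iff_surjective _).2 Ideal.Quotient.mk_surjective }
    have := (Groth.Agent.S2067.result hS.singleTriangle hS.singleTriangle_distinguished (m - 1)).2.2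
    rw [sub_add_cancel] at this
    exact this (hB m) ((H9Misc.DRingPC.pc'_iff _).1 h _)
  · intro h
    exact (H9Misc.DRingPC.pc'_iff _).2 fun m => PerfMor.pc_of_exact I.subtype (Algebra.linearMap B (B ⧸ I))
      Subtype.val_injective Ideal.Quotient.mk_surjective he m ((H9Misc.DRingPC.pc'_iff _).1 h _) (hB m)

end Groth.Agent.S1507
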