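import Groth.Statements.S15070
import Groth.Agent.KFlatLib.Scheme.Exact
import Groth.Agent.LC.AssFilt
import Groth.Agent.S0563
import Groth.Agent.QCoh.LocFree
import Groth.Agent.QCoh.Support
import Groth.Agent.GrpSchLib.SmoothRegular
import Groth.Agent.SchTop.Closed
import Mathlib

set_option autoImplicit false
universe u
open CategoryTheory CategoryTheory.Limits AlgebraicGeometry
open OrdSurf

namespace Groth.Agent.S15070
set_option backward.isDefEq.respectTransparency false
set_option backward.isDefEq.respectTransparency.types false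
open CategoryTheory CategoryTheory.Limits

/-- Torsion-free finite modules over a regular local ring of dimension at most two have projective dimension at
most one. -/
theorem pd_le_one {R : Type u} [CommRing R] [IsRegularLocalRing R] [IsDomain R] (hd : ringKrullDim R ≤ 2)
    (N : ModuleCat.{u} R) [Module.Finite R N] [Module.IsTorsionFree R N] : HasProjectiveDimensionLT N 2 := by
  classical
  let d := (IsLocalRing.maximalIdeal R).spanFinrank
  have hdim : ringKrullDim R = d := ((isRegularLocalRing_iff R).mp inferInstance).symm
  have hd2 : d ≤ 2 := by rw [hdim] at hd; exact_mod_cast hd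
  haveI : Module.Finite R (N →ₗ[R] R) := by
    obtain ⟨k, π, hπ⟩ := Module.Finite.exists_fin' R N
    exact Module.Finite.of_injective (LinearMap.lcomp R R π) (LinearMap.lcomp_injective_of_surjective π hπ)
  obtain ⟨m, g, hg⟩ := Module.Finite.exists_fin (R := R) (M := N →ₗ[R] R)
  let e : N →ₗ[R] (Fin m → R) := LinearMap.pi g
  have he : Function.Injective e := (injective_iff_map_eq_zero e).2 fun z hz => by
    by_contra hz0
    obtain ⟨f, hf⟩ := LC.exists_functional_of_torsionFree (A := R) (L := N)
      (fun a ha a' b' h => smul_right_injective N ha h) hz0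
    refine hf ?_
    have hmem : f ∈ Submodule.span R (Set.range g) := by rw [hg]; trivial
    induction hmem using Submodule.span_induction with
    | mem y hy => obtain ⟨i, rfl⟩ := hy; exact congrFun hz i
    | zero => rfl
    | add a b _ _ ha hb => simp_all
    | smul a y _ hy => simp_all
  let S : ShortComplex (ModuleCat.{u} R) := ShortComplex.mk (ModuleCat.ofHom e)
    (ModuleCat.ofHom (LinearMap.range e).mkQ) (by ext z; exact (Submodule.Quotient.mk_eq_zero _).2 ⟨_, rfl⟩)
  have hS : S.ShortExact :=
    { exact := by
        rw [ShortComplex.moduleCat_exact_iff]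
        intro y hy
        exact (Submodule.Quotient.mk_eq_zero (p := LinearMap.range e)).1 hy
      mono_f := (ModuleCat.mono_iff_injective _).2 he
      epi_g := (ModuleCat.epi_iff_surjective _).2 (Submodule.mkQ_surjective _) }
  haveI : HasProjectiveDimensionLT S.X₂ 2 := by
    haveI : Projective S.X₂ := (IsProjective.iff_projective (Fin m → R)).1 inferInstance
    exact hasProjectiveDimensionLT_of_ge _ 1 2 (by omega)
  haveI : HasProjectiveDimensionLT S.X₃ 3 := by
    haveI := Groth.Agent.S0563.result R d hdim ((Fin m → R) ⧸ LinearMap.range e)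
    exact hasProjectiveDimensionLT_of_ge _ (d + 1) 3 (by omega)
  exact hS.hasProjectiveDimensionLT_X₁ 2 ‹_› ‹_›

/-- The kernel at a stalk. -/
theorem free_kernel_stalk {X : Scheme.{u}} [IsIntegral X] [IsLocallyNoetherian X] (x : X)
    [IsRegularLocalRing (X.presheaf.stalk x)] (hd : ringKrullDim (X.presheaf.stalk x) ≤ 2)
    {N M : X.Modules} (hN : Coh.IsCoh N) (hNtf : TorSh.IsTorsionFree N) (hM : FlatMod.IsFinLocFree M)
    (hMc : Coh.IsCoh M) (φ : M ⟶ N) [Epi φ] :
    Module.Free (X.presheaf.stalk x) ((kernel φ).presheaf.stalk x) := by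
  let F := DerSch.stalkFunctor X x
  have hS : (ShortComplex.mk (kernel.ι φ) φ (kernel.condition φ)).ShortExact :=
    { exact := ShortComplex.exact_kernel φ, mono_f := inferInstance, epi_g := inferInstance }
  have hS' := hS.map_of_exact F
  haveI : Module.Free (X.presheaf.stalk x) (M.presheaf.stalk x) := QCoh.free_stalk_of_isFinLocFree hM x
  haveI : Module.Finite (X.presheaf.stalk x) (F.obj N) := QCoh.finite_stalk_of_isFT hN.1 hN.2 x
  haveI : Module.IsTorsionFree (X.presheaf.stalk x) (F.obj N) := hNtf x
  haveI : IsDomain (X.presheaf.stalk x) := inferInstance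
  have h3 : HasProjectiveDimensionLT (F.obj N) 2 := pd_le_one hd (F.obj N)
  haveI : Projective (F.obj M) := (IsProjective.iff_projective (M.presheaf.stalk x)).1 inferInstance
  have h2 : HasProjectiveDimensionLT (F.obj M) 1 := inferInstance
  have h1 : HasProjectiveDimensionLT (F.obj (kernel φ)) 1 := hS'.hasProjectiveDimensionLT_X₁ 1 h2 h3
  haveI : Projective (F.obj (kernel φ)) := projective_iff_hasProjectiveDimensionLT_one.2 h1
  haveI : Module.Projective (X.presheaf.stalk x) ((kernel φ).presheaf.stalk x) :=
    (IsProjective.iff_projective (R := X.presheaf.stalk x) ((kernel φ).presheaf.stalk x)).2 ‹_›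
  have hK := QCoh.isCoh_kernel hMc hN φ
  haveI := QCoh.finite_stalk_of_isFT hK.1 hK.2 x
  exact Module.free_of_flat_of_isLocalRing


/-- Let k be an algebraically closed field of characteristic zero and X a smooth projective surface over
k (an integral k-scheme, smooth over k, of dimension two, admitting a closed immersion over k into
some projective space P^n_k). Let N be a coherent O_X-module all of whose stalks are torsion-free
modules over the local rings, M a finite locally free O_X-module and φ : M → N an epimorphism of
O_X-modules. Then the kernel of φ is a finite locally free O_X-module. -/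
theorem result (k : Type u) [Field k] [IsAlgClosed k] [CharZero k]
    (X : Scheme.{u}) [X.Over (Spec (CommRingCat.of k))] [IsIntegral X]
    [Smooth (X ↘ Spec (CommRingCat.of k))] (hdim : topologicalKrullDim X = 2)
    (hproj : ∃ (n : ℕ) (ι : X ⟶ CohB1.ProjSpace n k), IsClosedImmersion ι ∧
      ι ≫ CohB1.ProjSpace.toSpec n k = X ↘ Spec (CommRingCat.of k))
    (N : X.Modules) (hN : Coh.IsCoh N) (hNtf : TorSh.IsTorsionFree N)
    (M : X.Modules) (hM : FlatMod.IsFinLocFree M) (φ : M ⟶ N) [Epi φ] :
    FlatMod.IsFinLocFree (kernel φ) := by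
  haveI : IsLocallyNoetherian X := LocallyOfFiniteType.isLocallyNoetherian (X ↘ Spec (CommRingCat.of k))
  have hMc : Coh.IsCoh M := QCoh.isCoh_iff_isFP.2 (QCoh.isFP_of_isFinLocFree hM)
  refine QCoh.isFinLocFree_iff.2 ⟨QCoh.isCoh_iff_isFP.1 (QCoh.isCoh_kernel hMc hN φ), fun x => ?_⟩
  haveI := GrpSchLib.isRegularLocalRing_stalk_of_smooth (X ↘ Spec (CommRingCat.of k)) x
  exact free_kernel_stalk x ((SchTop.ringKrullDim_stalk_le x).trans hdim.le) hN hNtf hM hMc φ


end Groth.Agent.S15070
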