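import Groth.Statements.S15072
import Groth.Agent.AlgExt.Basic

set_option autoImplicit false
universe u
open CategoryTheory AlgebraicGeometry TopologicalSpace Opposite
open OrdSurf

namespace Groth.Agent.S15072

/-- Let X be a scheme, A a sheaf of rings on X (not necessarily commutative) and φ : O_X → A a morphism
of sheaves of rings with central image, making A a sheaf of O_X-algebras; assume that A, regarded as
an O_X-module through φ, is finite locally free. Let I be a sheaf of A-modules which is an injective
object of the category of sheaves of A-modules. Then I, regarded as an O_X-module through φ, is an
injective object of the category of O_X-modules: restriction of scalars along φ preserves injective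
objects. (The published statement is for a maximal order on a smooth projective surface, which is a
locally free sheaf of algebras of finite rank; the argument uses only that local freeness, and the
row is stated for any scheme and any finite locally free sheaf of algebras.) -/
theorem result (X : Scheme.{u})
    (A : Sheaf (Opens.grothendieckTopology X) RingCat.{u}) (φ : X.ringCatSheaf ⟶ A)
    (hcen : ∀ (U : (Opens X)ᵒᵖ) (s : X.ringCatSheaf.obj.obj U) (a : A.obj.obj U),
      φ.hom.app U s * a = a * φ.hom.app U s)
    (hA : FlatMod.IsFinLocFree (X := X) ((SheafOfModules.restrictScalars φ).obj (SheafOfModules.unit A)))
    (I : SheafOfModules.{u} A) [Injective I] :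
    Injective ((SheafOfModules.restrictScalars φ).obj I) := by
  exact Groth.Agent.AlgExt.injective_restrictScalars φ hcen hA I


end Groth.Agent.S15072
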