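import Groth.Statements.S15076
import Groth.Agent.OrdSimple.StalkProj
import Groth.Agent.QCoh.Stalk
import Groth.Agent.QCoh.Support
import Groth.Agent.QCoh.LocFree
import Mathlib.AlgebraicGeometry.Noetherian

set_option autoImplicit false
universe u
open CategoryTheory CategoryTheory.Limits AlgebraicGeometry TopologicalSpace Opposite
open OrdSurf

namespace Groth.Agent.S15076
set_option backward.isDefEq.respectTransparency false
set_option backward.isDefEq.respectTransparency.types false
/-- Coherent with projective stalks: finite locally free. -/
theorem finLocFree_of_projective {X : Scheme.{u}} [IsLocallyNoetherian X] (F : X.Modules) (hF : Coh.IsCoh F)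
    (h : ∀ x : X, Module.Projective (X.presheaf.stalk x) (F.presheaf.stalk x)) : FlatMod.IsFinLocFree F := by
  refine QCoh.isFinLocFree_iff.2 ⟨QCoh.isCoh_iff_isFP.1 hF, fun x => ?_⟩
  haveI := h x
  haveI := QCoh.finite_stalk_of_isFT hF.1 hF.2 x
  exact Module.free_of_flat_of_isLocalRing


/-- Let k be an algebraically closed field of characteristic zero and X a smooth projective surface over
k (an integral k-scheme, smooth over k, of dimension two, admitting a closed immersion over k into
some projective space P^n_k). Let A be a sheaf of rings on X with a morphism φ : O_X → A of sheaves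
of rings with central image (a sheaf of O_X-algebras) such that A is finite locally free as an
O_X-module through φ. Let M be a sheaf of A-modules whose underlying O_X-module is coherent and
which is locally projective over A in the sense that every stalk M_x is a projective module over the
stalk A_x. Then the underlying O_X-module of M is finite locally free. (The published statement
takes A to be a maximal order on X, which is locally free of finite rank; only that consequence is
assumed here, together with the stalkwise reading of local projectivity.) -/
theorem result (k : Type u) [Field k] [IsAlgClosed k] [CharZero k]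
    (X : Scheme.{u}) [X.Over (Spec (CommRingCat.of k))] [IsIntegral X]
    [Smooth (X ↘ Spec (CommRingCat.of k))] (hdim : topologicalKrullDim X = 2)
    (hproj : ∃ (n : ℕ) (ι : X ⟶ CohB1.ProjSpace n k), IsClosedImmersion ι ∧
      ι ≫ CohB1.ProjSpace.toSpec n k = X ↘ Spec (CommRingCat.of k))
    (A : Sheaf (Opens.grothendieckTopology X) RingCat.{u}) (φ : X.ringCatSheaf ⟶ A)
    (hcen : ∀ (U : (Opens X)ᵒᵖ) (s : X.ringCatSheaf.obj.obj U) (a : A.obj.obj U),
      φ.hom.app U s * a = a * φ.hom.app U s)
    (hA : FlatMod.IsFinLocFree (X := X) ((SheafOfModules.restrictScalars φ).obj (SheafOfModules.unit A)))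
    (M : SheafOfModules.{u} A)
    (hMc : Coh.IsCoh (X := X) ((SheafOfModules.restrictScalars φ).obj M))
    (hMp : ∀ x : X, Module.Projective ↑(TopCat.Presheaf.stalk (C := RingCat.{u}) (X := X.carrier) A.obj x)
      ↑(TopCat.Presheaf.stalk (C := Ab.{u}) (X := X.carrier) M.val.presheaf x)) :
    FlatMod.IsFinLocFree (X := X) ((SheafOfModules.restrictScalars φ).obj M) := by
  haveI : IsLocallyNoetherian X := LocallyOfFiniteType.isLocallyNoetherian (X ↘ Spec (CommRingCat.of k))
  exact finLocFree_of_projective _ hMc fun x => by
    haveI := hMp x
    exact OrdSimple.projective_res φ hA M x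


end Groth.Agent.S15076
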