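import Groth.Statements.S15077
import Groth.Agent.Lib.InvEnd
import Groth.Agent.SepPtTan.Main
import Groth.Agent.H28.RefChK
import Groth.Agent.KFlatLib.Scheme.Tensor
import Groth.Agent.InvX.Tensor

set_option autoImplicit false
universe u
open CategoryTheory CategoryTheory.Limits AlgebraicGeometry
open OrdSurf

namespace Groth.Agent.S15077
section
variable {k : Type u} [Field k] [IsAlgClosed k] {X : Scheme.{u}} [X.Over (Spec (CommRingCat.of k))]
  [IsIntegral X] [IsProper (X ↘ Spec (CommRingCat.of k))]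

include k in
theorem isIso_endo {L : X.Modules} (hL : PicF.IsInvertible L) (f : L ⟶ L) (hf : f ≠ 0) : IsIso f := by
  letI := Groth.Agent.CurveEnd.kAlgebra (k := k) L
  obtain ⟨c, hc⟩ := (Groth.Agent.InvEnd.exists_scalar (k := k) hL).2 f
  have hc0 : c ≠ 0 := by
    rintro rfl
    exact hf (hc.symm.trans (map_zero _))
  exact (isUnit_iff_isIso (f : End L)).1 (hc ▸ (isUnit_iff_ne_zero.2 hc0).map _)

include k in
theorem retract_biprod {L A B : X.Modules} (hL : PicF.IsInvertible L) (a : L ⟶ A ⊞ B) (b : A ⊞ B ⟶ L)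
    (h : a ≫ b = 𝟙 L) :
    (∃ (i : L ⟶ A) (p : A ⟶ L), i ≫ p = 𝟙 L) ∨ ∃ (i : L ⟶ B) (p : B ⟶ L), i ≫ p = 𝟙 L := by
  have hs : (a ≫ biprod.fst) ≫ (biprod.inl ≫ b) + (a ≫ biprod.snd) ≫ (biprod.inr ≫ b) = 𝟙 L := by
    rw [← h]
    conv_rhs => rw [← Category.id_comp b, ← biprod.total (X := A) (Y := B)]
    simp only [Preadditive.add_comp, Preadditive.comp_add, Category.assoc]
  by_cases h1 : (a ≫ biprod.fst) ≫ (biprod.inl ≫ b) = 0
  · rw [h1, zero_add] at hs
    exact Or.inr ⟨_, _, hs⟩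
  · haveI := isIso_endo (k := k) hL _ h1
    exact Or.inl ⟨_, _, (Category.assoc _ _ _).symm.trans (IsIso.hom_inv_id ((a ≫ biprod.fst) ≫ (biprod.inl ≫ b)))⟩

include k in
theorem iso_of_retract {L A : X.Modules} (hL : PicF.IsInvertible L) (hA : PicF.IsInvertible A)
    (h : ∃ (i : L ⟶ A) (p : A ⟶ L), i ≫ p = 𝟙 L) : Nonempty (L ≅ A) := by
  obtain ⟨i, p, h⟩ := h
  have hne : p ≫ i ≠ 0 := fun h0 => by
    have hz : 𝟙 L = 0 := by
      have h3 : i ≫ (p ≫ i) ≫ p = 𝟙 L := by rw [Category.assoc, reassoc_of% h, h]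
      rw [← h3, h0, zero_comp, comp_zero]
    exact Groth.Agent.CurveEnd.not_isZero L 1 one_pos (Groth.Agent.InvEnd.isFinLocFreeOfRank_one hL)
      ((IsZero.iff_id_eq_zero L).mpr hz)
  haveI := isIso_endo (k := k) hA _ hne
  refine ⟨⟨i, p, h, ?_⟩⟩
  rw [← cancel_mono (p ≫ i), Category.id_comp, Category.assoc, reassoc_of% h]

end

section
open Groth.Agent.H28.RefChK
variable {X : Scheme.{u}}

theorem nonempty_mapBiprod4 (A B C D L : X.Modules) :
    Nonempty (CohB1.tensorMod (A ⊞ B ⊞ C ⊞ D) L ≅ CohB1.tensorMod A L ⊞ CohB1.tensorMod B L ⊞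
      CohB1.tensorMod C L ⊞ CohB1.tensorMod D L) := by
  let G := (DCoh.tensorBi (X := X)).flip.obj L
  haveI : ∀ A B : X.Modules, PreservesBinaryBiproduct A B G := fun A B =>
    preservesBinaryBiproduct_of_preservesBinaryCoproduct G
  exact ⟨G.mapBiprod _ _ ≪≫ biprod.mapIso (Iso.refl _) (G.mapBiprod _ _ ≪≫ biprod.mapIso (Iso.refl _)
    (G.mapBiprod _ _))⟩

/-- Exchanging two summands of a triple. -/
noncomputable def swap3 (A B C : X.Modules) : A ⊞ B ⊞ C ≅ B ⊞ A ⊞ C where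
  hom := biprod.lift (biprod.snd ≫ biprod.fst) (biprod.lift biprod.fst (biprod.snd ≫ biprod.snd))
  inv := biprod.lift (biprod.snd ≫ biprod.fst) (biprod.lift biprod.fst (biprod.snd ≫ biprod.snd))
  hom_inv_id := biprod.hom_ext _ _ (by simp) (biprod.hom_ext _ _ (by simp) (by simp))
  inv_hom_id := biprod.hom_ext _ _ (by simp) (biprod.hom_ext _ _ (by simp) (by simp))

end


/-- Let k be an algebraically closed field of characteristic zero and X a smooth projective surface over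
k (an integral k-scheme, smooth over k, of dimension two, admitting a closed immersion over k into
some projective space P^n_k). Let I and J be invertible O_X-modules that are two-torsion, I ⊗ I ≅
O_X and J ⊗ J ≅ O_X, let K = I ⊗ J, and let F = O_X ⊕ I ⊕ J ⊕ K (so that O_X, I, J, K form a Klein
four-group of classes in Pic X when I, J, K are nontrivial and distinct). Then for every invertible
O_X-module L, the O_X-modules F ⊗ L and F are isomorphic if and only if L is isomorphic to one of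
O_X, I, J, K. (The published statement is for the abelian surface E_1 × E_2, with I and J pulled
back from two-torsion line bundles on the two elliptic curves and F the underlying module of the
quaternion algebra built from them; this row is stated on any smooth projective surface for any
two-torsion invertible I and J.) -/
theorem result (k : Type u) [Field k] [IsAlgClosed k] [CharZero k]
    (X : Scheme.{u}) [X.Over (Spec (CommRingCat.of k))] [IsIntegral X]
    [Smooth (X ↘ Spec (CommRingCat.of k))] (hdim : topologicalKrullDim X = 2)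
    (hproj : ∃ (n : ℕ) (ι : X ⟶ CohB1.ProjSpace n k), IsClosedImmersion ι ∧
      ι ≫ CohB1.ProjSpace.toSpec n k = X ↘ Spec (CommRingCat.of k))
    (I J : X.Modules) (hI : PicF.IsInvertible I) (hJ : PicF.IsInvertible J)
    (hI2 : Nonempty (CohB1.tensorMod I I ≅ Coh.structureModule X))
    (hJ2 : Nonempty (CohB1.tensorMod J J ≅ Coh.structureModule X))
    (L : X.Modules) (hL : PicF.IsInvertible L) :
    Nonempty (CohB1.tensorMod (Coh.structureModule X ⊞ I ⊞ J ⊞ CohB1.tensorMod I J) L ≅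
        Coh.structureModule X ⊞ I ⊞ J ⊞ CohB1.tensorMod I J) ↔
      (Nonempty (L ≅ Coh.structureModule X) ∨ Nonempty (L ≅ I) ∨ Nonempty (L ≅ J) ∨
        Nonempty (L ≅ CohB1.tensorMod I J)) := by
  open Groth.Agent.H28.RefChK in
  obtain ⟨n, ι, hι, hιc⟩ := hproj
  haveI : IsProper (X ↘ Spec (CommRingCat.of k)) :=
    Groth.Agent.SepPtTan.isProper_of_projective _ ι hι hιc
  set O := Coh.structureModule X
  let K := CohB1.tensorMod I J
  have uR : ∀ A : X.Modules, Nonempty (CohB1.tensorMod A O ≅ A) := fun A => ⟨SecTwist.unitorR A⟩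
  have uL : ∀ A : X.Modules, Nonempty (CohB1.tensorMod O A ≅ A) := fun A =>
    ⟨comm O A ≪≫ SecTwist.unitorR A⟩
  obtain ⟨eI⟩ := hI2
  obtain ⟨eJ⟩ := hJ2
  obtain ⟨m⟩ := nonempty_mapBiprod4 O I J K L
  constructor
  · rintro ⟨e⟩
    obtain ⟨u⟩ := uL L
    have h : (u.inv ≫ biprod.inl ≫ m.inv ≫ e.hom) ≫ (e.inv ≫ m.hom ≫ biprod.fst ≫ u.hom) = 𝟙 L := by
      simp
    rcases retract_biprod (k := k) hL _ _ h with h0 | ⟨a, b, h1⟩
    · exact Or.inl (iso_of_retract (k := k) hL (Groth.Agent.InvX.isInvertible_structureModule) h0)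
    rcases retract_biprod (k := k) hL _ _ h1 with h0 | ⟨a', b', h2⟩
    · exact Or.inr (Or.inl (iso_of_retract (k := k) hL hI h0))
    rcases retract_biprod (k := k) hL _ _ h2 with h0 | h3
    · exact Or.inr (Or.inr (Or.inl (iso_of_retract (k := k) hL hJ h0)))
    · exact Or.inr (Or.inr (Or.inr (iso_of_retract (k := k) hL
        (Groth.Agent.InvX.isInvertible_tensorMod hI hJ) h3)))
  · have eKI : Nonempty (CohB1.tensorMod K I ≅ J) :=
      ⟨congrTm (comm I J) (Iso.refl I) ≪≫ assoc J I I ≪≫ congrTm (Iso.refl J) eI ≪≫ SecTwist.unitorR J⟩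
    have eKJ : Nonempty (CohB1.tensorMod K J ≅ I) :=
      ⟨assoc I J J ≪≫ congrTm (Iso.refl I) eJ ≪≫ SecTwist.unitorR I⟩
    obtain ⟨eKI⟩ := eKI
    obtain ⟨eKJ⟩ := eKJ
    obtain ⟨uI⟩ := uL I
    obtain ⟨uJ⟩ := uL J
    obtain ⟨uK⟩ := uL K
    have eIK : CohB1.tensorMod I K ≅ J := comm I K ≪≫ eKI
    have eJK : CohB1.tensorMod J K ≅ I := comm J K ≪≫ eKJ
    have eKK : CohB1.tensorMod K K ≅ O :=
      (assoc K I J).symm ≪≫ congrTm eKI (Iso.refl J) ≪≫ eJ
    rintro (⟨⟨l⟩⟩ | ⟨⟨l⟩⟩ | ⟨⟨l⟩⟩ | ⟨⟨l⟩⟩)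
    · exact ⟨congrTm (Iso.refl _) l ≪≫ SecTwist.unitorR _⟩
    · exact ⟨m ≪≫ biprod.mapIso (congrTm (Iso.refl _) l ≪≫ uI) (biprod.mapIso (congrTm (Iso.refl _) l ≪≫ eI)
        (biprod.mapIso (congrTm (Iso.refl _) l ≪≫ comm J I) (congrTm (Iso.refl _) l ≪≫ eKI) ≪≫
          biprod.braiding _ _)) ≪≫ swap3 _ _ _⟩
    · exact ⟨m ≪≫ biprod.mapIso (congrTm (Iso.refl _) l ≪≫ uJ) (biprod.mapIso (congrTm (Iso.refl _) l)
        (biprod.mapIso (congrTm (Iso.refl _) l ≪≫ eJ) (congrTm (Iso.refl _) l ≪≫ eKJ)) ≪≫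
          swap3 _ _ _ ≪≫ biprod.mapIso (Iso.refl _) (biprod.braiding _ _)) ≪≫ swap3 _ _ _ ≪≫
          biprod.mapIso (Iso.refl _) (swap3 _ _ _)⟩
    · exact ⟨m ≪≫ biprod.mapIso (congrTm (Iso.refl _) l ≪≫ uK) (biprod.mapIso (congrTm (Iso.refl _) l ≪≫ eIK)
        (biprod.mapIso (congrTm (Iso.refl _) l ≪≫ eJK) (congrTm (Iso.refl _) l ≪≫ eKK) ≪≫
          biprod.braiding _ _) ≪≫ swap3 _ _ _) ≪≫ swap3 _ _ _ ≪≫
          biprod.mapIso (Iso.refl _) (biprod.mapIso (Iso.refl _) (biprod.braiding _ _) ≪≫ swap3 _ _ _ ≪≫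
            biprod.mapIso (Iso.refl _) (biprod.braiding _ _))⟩


end Groth.Agent.S15077
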