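import Groth.Statements.S15078
import Groth.Agent.TwistLib.Leading
-- import your own Groth.Agent.* helpers here

set_option autoImplicit false
universe u v
open MovLem

namespace Groth.Agent.S15078

/-- Let k be an infinite perfect field, r, m ≥ 1, and let f be a nonzero polynomial in the variable t
with coefficients in the polynomial ring k[x_1, …, x_r]. Then there are a nonzero polynomial h in
k[x_1, …, x_r] and an integer s₀ such that for every s ≥ s₀, every field K over k and every point g
of K^r with h(g) ≠ 0, the polynomial obtained from f by the substitution x_i ↦ x_i + t^{s(m+1)} g_i,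
t ↦ t has as leading coefficient in t a nonzero constant of K; in particular, after dividing by that
constant it is monic in t over K[x_1, …, x_r]. (The published statement asks for a nonempty open
subset of affine r-space over k, independent of s, such that this holds at each of its points g with
residue field K = k(g); the locus h ≠ 0 used here is such an open subset, and every nonempty open
subset contains one of this form.) -/
theorem result
    {k : Type u} [Field k] [Infinite k] [PerfectField k] (r m : ℕ) (hr : 1 ≤ r) (hm : 1 ≤ m)
    (f : Polynomial (MvPolynomial (Fin r) k)) (hf : f ≠ 0) :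
    ∃ h : MvPolynomial (Fin r) k, h ≠ 0 ∧ ∃ s₀ : ℕ, ∀ s : ℕ, s₀ ≤ s →
      ∀ (K : Type v) [Field K] [Algebra k K] (g : Fin r → K), MvPolynomial.aeval g h ≠ 0 →
        ∃ c : K, c ≠ 0 ∧
          (Polynomial.eval₂ (MvPolynomial.aeval (fun i : Fin r => Polynomial.C (MvPolynomial.X i) + Polynomial.C (MvPolynomial.C (g i)) * Polynomial.X ^ (s * (m + 1))) : MvPolynomial (Fin r) k →ₐ[k] Polynomial (MvPolynomial (Fin r) K)).toRingHom Polynomial.X f).leadingCoeff = MvPolynomial.C c := by
  obtain ⟨h, hh0, hh⟩ := Groth.Agent.TwistLib.exists_leading.{u, v} f hf
  refine ⟨h, hh0, f.natDegree + 1, fun s hs K _ _ g hg => hh K g (s * (m + 1)) ?_ hg⟩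
  calc f.natDegree < f.natDegree + 1 := Nat.lt_succ_self _
    _ ≤ s := hs
    _ = s * 1 := (Nat.mul_one s).symm
    _ ≤ s * (m + 1) := Nat.mul_le_mul_left _ (by omega)

end Groth.Agent.S15078
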