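import Groth.Statements.S15079
import Mathlib.RingTheory.MvPolynomial.Homogeneous
import Mathlib.RingTheory.AdjoinRoot
-- import your own Groth.Agent.* helpers here

set_option autoImplicit false
universe u v
open MovLem

namespace Groth.Agent.S15079

set_option backward.isDefEq.respectTransparency false
set_option backward.isDefEq.respectTransparency.types false
set_option maxHeartbeats 1000000

/-- Degree at most `n` with the given coefficient in degree `n`. -/
def Top {R : Type*} [CommRing R] (q : Polynomial R) (n : ℕ) (c : R) : Prop := q.natDegree ≤ n ∧ q.coeff n = c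

theorem Top.mul {R : Type*} [CommRing R] {p q : Polynomial R} {m n : ℕ} {a b : R} (hp : Top p m a) (hq : Top q n b) :
    Top (p * q) (m + n) (a * b) :=
  ⟨Polynomial.natDegree_mul_le.trans (add_le_add hp.1 hq.1),
    by rw [Polynomial.coeff_mul_add_eq_of_natDegree_le hp.1 hq.1, hp.2, hq.2]⟩

theorem Top.const {R : Type*} [CommRing R] (a : R) : Top (Polynomial.C a) 0 a := ⟨le_of_eq (Polynomial.natDegree_C _), Polynomial.coeff_C_zero⟩

theorem Top.pow {R : Type*} [CommRing R] {p : Polynomial R} {m : ℕ} {a : R} (hp : Top p m a) : ∀ d : ℕ, Top (p ^ d) (m * d) (a ^ d)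
  | 0 => by simpa using Top.const (1 : R)
  | d + 1 => by rw [pow_succ, pow_succ, Nat.mul_succ]; exact (Top.pow hp d).mul hp

theorem Top.prod {R : Type*} [CommRing R] {ι : Type*} (t : Finset ι) {p : ι → Polynomial R} {m : ι → ℕ} {a : ι → R}
    (hp : ∀ i, Top (p i) (m i) (a i)) : Top (∏ i ∈ t, p i) (∑ i ∈ t, m i) (∏ i ∈ t, a i) := by
  classical
  induction t using Finset.induction_on with
  | empty => simpa using Top.const (1 : R)
  | insert i t hi ih => rw [Finset.prod_insert hi, Finset.sum_insert hi, Finset.prod_insert hi]; exact (hp i).mul ih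

theorem Top.sum {R : Type*} [CommRing R] {ι : Type*} (t : Finset ι) {p : ι → Polynomial R} {m : ℕ} {a : ι → R}
    (hp : ∀ i ∈ t, Top (p i) m (a i)) : Top (∑ i ∈ t, p i) m (∑ i ∈ t, a i) :=
  ⟨Polynomial.natDegree_sum_le_of_forall_le _ _ fun i hi => (hp i hi).1,
    by rw [Polynomial.finsetSum_coeff]; exact Finset.sum_congr rfl fun i hi => (hp i hi).2⟩

open MvPolynomial in
theorem translate_top {k : Type u} [CommRing k] {K : Type v} [CommRing K] [Algebra k K] {r : ℕ} (g : Fin r → K) {N : ℕ}
    (hN : 0 < N) (σ : MvPolynomial (Fin r) k →ₐ[k] Polynomial (MvPolynomial (Fin r) K))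
    (hσ : ∀ i, σ (X i) = Polynomial.C (X i) + Polynomial.C (C (g i)) * Polynomial.X ^ N)
    (p : MvPolynomial (Fin r) k) (e : ℕ) (he : p.totalDegree ≤ e) :
    Top (σ p) (N * e) (C (aeval g (homogeneousComponent e p))) := by
  classical
  have hlin : ∀ i, Top (σ (X i)) N (C (g i)) := fun i => by
    rw [hσ]
    refine ⟨(Polynomial.natDegree_add_le _ _).trans (max_le (by simp) (Polynomial.natDegree_C_mul_X_pow_le _ _)), ?_⟩
    rw [Polynomial.coeff_add, Polynomial.coeff_C_mul_X_pow, if_pos rfl, Polynomial.coeff_C, if_neg hN.ne', zero_add]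
  have hmon : ∀ d ∈ p.support, Top (σ (monomial d (p.coeff d))) (N * e)
      (if d.degree = e then C (aeval g (monomial d (p.coeff d))) else 0) := fun d hd => by
    have hde : d.degree ≤ e := le_trans (le_totalDegree hd) he
    have h1 : Top (σ (monomial d (p.coeff d))) (N * d.degree) (C (aeval g (monomial d (p.coeff d)))) := by
      rw [monomial_eq, Finsupp.prod_fintype _ _ (fun _ => pow_zero _), map_mul, map_prod, map_mul (aeval (R := k) g),
        map_prod (aeval (R := k) g), aeval_C, map_mul, map_prod, show (C (p.coeff d) : MvPolynomial (Fin r) k) = algebraMap k _ (p.coeff d) from rfl,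
        AlgHom.commutes, ← Nat.zero_add (N * d.degree)]
      refine (Top.const _).mul ?_
      rw [Finsupp.degree_eq_sum, Finset.mul_sum]
      refine Top.prod _ fun i => ?_
      rw [map_pow, map_pow (aeval (R := k) g), aeval_X, map_pow]
      exact (hlin i).pow _
    split_ifs with h
    · rwa [← h]
    · refine ⟨h1.1.trans (Nat.mul_le_mul_left N hde), Polynomial.coeff_eq_zero_of_natDegree_lt (h1.1.trans_lt ?_)⟩
      exact Nat.mul_lt_mul_of_pos_left (lt_of_le_of_ne hde h) hN
  have h2 := Top.sum p.support hmon
  rw [← map_sum σ, ← p.as_sum] at h2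
  convert h2 using 1
  rw [homogeneousComponent_apply, map_sum, map_sum, Finset.sum_filter]

/-- Let k be an infinite perfect field, r, m ≥ 1, and let f be an irreducible polynomial in t over
k[x_1, …, x_r] whose constant term in t is a unit of k[x_1, …, x_r], so that the hypersurface Z : f
= 0 in affine (r+1)-space with coordinates x_1, …, x_r, t is integral and does not meet the divisor
t = 0 (the modulus condition in cubical degree one). Then there are a nonzero polynomial h in k[x_1,
…, x_r] and an integer s₀ such that for every s ≥ s₀, every field K over k and every point g of K^r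
with h(g) ≠ 0, the translate of Z_K by the automorphism x_i ↦ x_i + t^{s(m+1)} g_i, t ↦ t is finite
and surjective over affine r-space over K: the quotient of K[x_1, …, x_r][t] by the translated
equation is a finitely generated K[x_1, …, x_r]-module and K[x_1, …, x_r] maps injectively into it.
(The published statement allows every nonzero point g of affine r-space; for r = 2 and f = x_1 t − 1
the point g = (0, 1) translates Z to itself, which is not finite over the affine plane, so the
conclusion is stated here for g in a nonempty open subset h ≠ 0, which is what the published proof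
establishes.) -/
theorem result
    {k : Type u} [Field k] [Infinite k] [PerfectField k] (r m : ℕ) (hr : 1 ≤ r) (hm : 1 ≤ m)
    (f : Polynomial (MvPolynomial (Fin r) k)) (hirr : Irreducible f) (h0 : IsUnit (f.coeff 0)) :
    ∃ h : MvPolynomial (Fin r) k, h ≠ 0 ∧ ∃ s₀ : ℕ, ∀ s : ℕ, s₀ ≤ s →
      ∀ (K : Type v) [Field K] [Algebra k K] (g : Fin r → K), MvPolynomial.aeval g h ≠ 0 →
        ∀ F : Polynomial (MvPolynomial (Fin r) K),
          F = Polynomial.eval₂ (MvPolynomial.aeval (fun i : Fin r => Polynomial.C (MvPolynomial.X i) + Polynomial.C (MvPolynomial.C (g i)) * Polynomial.X ^ (s * (m + 1))) : MvPolynomial (Fin r) k →ₐ[k] Polynomial (MvPolynomial (Fin r) K)).toRingHom Polynomial.X f →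
          Module.Finite (MvPolynomial (Fin r) K) (Polynomial (MvPolynomial (Fin r) K) ⧸ Ideal.span {F}) ∧
          Function.Injective ((Ideal.Quotient.mk (Ideal.span {F})).comp (algebraMap (MvPolynomial (Fin r) K) (Polynomial (MvPolynomial (Fin r) K)))) := by
  classical
  let e : ℕ → ℕ := fun j => (f.coeff j).totalDegree
  have hf0 : f ≠ 0 := hirr.ne_zero
  have hsupp : f.support.Nonempty := Polynomial.support_nonempty.2 hf0
  let E := (f.support.image e).max' (hsupp.image e)
  have hT : (f.support.filter fun j => e j = E).Nonempty := by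
    obtain ⟨j, hj, hje⟩ := Finset.mem_image.1 ((f.support.image e).max'_mem (hsupp.image e))
    exact ⟨j, Finset.mem_filter.2 ⟨hj, hje⟩⟩
  let J := (f.support.filter fun j => e j = E).max' hT
  obtain ⟨hJ, hJE⟩ := Finset.mem_filter.1 ((f.support.filter fun j => e j = E).max'_mem hT)
  have hpos : 0 < E + J := by
    by_contra hne
    have hE : E = 0 := by omega
    have hall : ∀ j ∈ f.support, j = 0 := fun j hj => by
      have h1 : e j ≤ E := Finset.le_max' _ _ (Finset.mem_image_of_mem e hj)
      have h2 : j ≤ J := Finset.le_max' _ _ (Finset.mem_filter.2 ⟨hj, by omega⟩)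
      omega
    refine hirr.not_isUnit ?_
    rw [Polynomial.eq_C_of_natDegree_eq_zero (show f.natDegree = 0 from
      hall _ (Polynomial.natDegree_mem_support_of_nonzero hf0))]
    exact h0.map Polynomial.C
  let top : MvPolynomial (Fin r) k := MvPolynomial.homogeneousComponent E (f.coeff J)
  have htop : top ≠ 0 := fun h => by
    have hne : f.coeff J ≠ 0 := Polynomial.mem_support_iff.1 hJ
    obtain ⟨d, hd, hdeg⟩ := Finset.exists_mem_eq_sup (f.coeff J).support (MvPolynomial.support_nonempty.2 hne) fun d => d.degree
    have h3 := congrArg (MvPolynomial.coeff d) h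
    rw [MvPolynomial.coeff_homogeneousComponent, MvPolynomial.coeff_zero, if_pos] at h3
    · exact MvPolynomial.mem_support_iff.1 hd h3
    · rw [← hJE, ← hdeg]; rfl
  refine ⟨top, htop, f.natDegree + 1, fun s hs K _ _ g hg F hF => ?_⟩
  let N := s * (m + 1)
  have hND : f.natDegree < N := lt_of_lt_of_le (by omega : f.natDegree < s) (Nat.le_mul_of_pos_right s (by omega))
  let σ : MvPolynomial (Fin r) k →ₐ[k] Polynomial (MvPolynomial (Fin r) K) := MvPolynomial.aeval fun i : Fin r =>
    Polynomial.C (MvPolynomial.X i) + Polynomial.C (MvPolynomial.C (g i)) * Polynomial.X ^ N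
  let M := N * E + J
  have hterm : ∀ j ∈ f.support, Top (σ (f.coeff j) * Polynomial.X ^ j) M
      (if j = J then MvPolynomial.C (MvPolynomial.aeval g top) else 0) := fun j hj => by
    have h1 := translate_top g (by omega : 0 < N) σ (fun i => MvPolynomial.aeval_X _ i) (f.coeff j) (e j) le_rfl
    have h2 : Top (σ (f.coeff j) * Polynomial.X ^ j) (N * e j + j) _ :=
      h1.mul (show Top (Polynomial.X ^ j : Polynomial (MvPolynomial (Fin r) K)) j 1 from
        ⟨le_of_eq (Polynomial.natDegree_X_pow j), by rw [Polynomial.coeff_X_pow_self]⟩)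
    rw [mul_one] at h2
    have hje : e j ≤ E := Finset.le_max' _ _ (Finset.mem_image_of_mem e hj)
    have hjD : j ≤ f.natDegree := Polynomial.le_natDegree_of_mem_supp j hj
    by_cases hjJ : j = J
    · subst hjJ
      rw [if_pos rfl]
      rw [hJE] at h2
      exact h2
    · rw [if_neg hjJ]
      have hlt : N * e j + j < M := by
        rcases eq_or_lt_of_le hje with h | h
        · have : j < J := lt_of_le_of_ne (Finset.le_max' _ _ (Finset.mem_filter.2 ⟨hj, h⟩)) hjJ
          show N * e j + j < N * E + J
          rw [h]; omega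
        · have : N * (e j + 1) ≤ N * E := Nat.mul_le_mul_left N h
          show N * e j + j < N * E + J
          rw [Nat.mul_succ] at this
          omega
      exact ⟨h2.1.trans hlt.le, Polynomial.coeff_eq_zero_of_natDegree_lt (h2.1.trans_lt hlt)⟩
  have hF' : Top F M (MvPolynomial.C (MvPolynomial.aeval g top)) := by
    have h := Top.sum f.support hterm
    rw [Finset.sum_ite_eq' f.support J, if_pos hJ] at h
    rw [hF, Polynomial.eval₂_eq_sum, Polynomial.sum_def]
    exact h
  have hunit : IsUnit (MvPolynomial.C (σ := Fin r) (MvPolynomial.aeval g top)) := (isUnit_iff_ne_zero.2 hg).map _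
  have hdeg : F.natDegree = M := le_antisymm hF'.1 (Polynomial.le_natDegree_of_ne_zero (by rw [hF'.2]; exact hunit.ne_zero))
  have hlc : IsUnit F.leadingCoeff := by rw [Polynomial.leadingCoeff, hdeg, hF'.2]; exact hunit
  let G := Polynomial.C (↑hlc.unit⁻¹ : MvPolynomial (Fin r) K) * F
  have hmonic : G.Monic := Polynomial.monic_C_mul_of_mul_leadingCoeff_eq_one hlc.val_inv_mul
  have hspan : Ideal.span {F} = Ideal.span {G} :=
    (Ideal.span_singleton_mul_left_unit ((hlc.unit⁻¹).isUnit.map Polynomial.C) F).symm
  refine ⟨?_, ?_⟩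
  · rw [hspan]
    exact hmonic.finite_quotient
  · rw [injective_iff_map_eq_zero]
    intro a ha
    obtain ⟨q, hq⟩ := Ideal.mem_span_singleton'.1 (Ideal.Quotient.eq_zero_iff_mem.1 ha)
    rcases eq_or_ne q 0 with rfl | hq0
    · rw [zero_mul] at hq
      exact Polynomial.C_eq_zero.1 hq.symm
    · exfalso
      have h1 := congrArg Polynomial.natDegree hq
      rw [Polynomial.natDegree_mul hq0 (fun h => by rw [h, Polynomial.natDegree_zero] at hdeg; exact hlc.ne_zero (by rw [h, Polynomial.leadingCoeff_zero])),
        show algebraMap (MvPolynomial (Fin r) K) (Polynomial (MvPolynomial (Fin r) K)) a = Polynomial.C a from rfl,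
        Polynomial.natDegree_C, hdeg] at h1
      have : 0 < M := by
        show 0 < N * E + J
        rcases Nat.eq_zero_or_pos E with h | h
        · omega
        · have := Nat.le_mul_of_pos_right N h
          omega
      omega

end Groth.Agent.S15079
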