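import Groth.Statements.S15080
import Groth.Agent.ShuffleLib.Basic

set_option autoImplicit false
open W4c2movlemaddchow

namespace Groth.Agent.S15080

/-- Let r, s, t ≥ 1. For an (r+s, t)-shuffle τ of r+s+t letters and an (r, s)-shuffle σ of the first r+s
letters, the composite τ ∘ (σ × id), where σ × id acts as σ on the first r+s letters and fixes the
last t, is an (r, s, t)-shuffle, and (τ, σ) ↦ τ ∘ (σ × id) is a bijection from such pairs onto the
set of all (r, s, t)-shuffles. (A (p₁, …, p_s)-shuffle is a permutation that is monotone on each of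
the consecutive blocks of sizes p₁, …, p_s; composites apply the right-hand factor first.) -/
theorem result (r s t : ℕ) (hr : 1 ≤ r) (hs : 1 ≤ s) (ht : 1 ≤ t) :
    Set.BijOn
      (fun p : Equiv.Perm (Fin (r + s + t)) × Equiv.Perm (Fin (r + s)) =>
        p.1 * W4c2movlemaddchow.extRight (r + s) t p.2)
      ({τ | W4c2movlemaddchow.IsShuffle₂ (r + s) t τ} ×ˢ {σ | W4c2movlemaddchow.IsShuffle₂ r s σ})
      {ν | W4c2movlemaddchow.IsShuffle₃ r s t ν} := by
  exact ShuffleLib.bijOn_extRight r s t

end Groth.Agent.S15080
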