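import Groth.Statements.S15084
import Groth.Agent.MovLemLib.Small
-- import your own Groth.Agent.* helpers here

set_option autoImplicit false
universe u
open MovLem

namespace Groth.Agent.S15084

/-- Let A be a Noetherian integrally closed domain with fraction field K, let B be a domain with
fraction field L, and let A → B be an injective ring homomorphism, with K → L the induced map of
fraction fields, such that Spec B → Spec A is surjective (every prime ideal of A is the contraction
of a prime ideal of B). If a ∈ K is such that its image in L lies in B, then a ∈ A. (The published
statement: for a surjective morphism f : Y → X of normal integral separated schemes of finite type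
over a perfect field and a Cartier divisor D on X, if f^*D is effective then D is effective; a
Cartier divisor is locally the divisor of a nonzero rational function a, effectivity of div(a) on a
normal scheme means that a is a regular function, and this row is that local statement, which is
what the published proof establishes.) -/
theorem result
    (A B K L : Type u) [CommRing A] [IsDomain A] [IsNoetherianRing A] [IsIntegrallyClosed A]
    [CommRing B] [IsDomain B] [Field K] [Field L]
    [Algebra A B] [Algebra A K] [IsFractionRing A K] [Algebra B L] [IsFractionRing B L]
    [Algebra K L] [Algebra A L] [IsScalarTower A K L] [IsScalarTower A B L]
    (hinj : Function.Injective (algebraMap A B))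
    (hsurj : ∀ p : Ideal A, p.IsPrime → ∃ q : Ideal B, q.IsPrime ∧ q.comap (algebraMap A B) = p)
    (a : K) (ha : algebraMap K L a ∈ (algebraMap B L).range) :
    a ∈ (algebraMap A K).range := by
  exact Groth.Agent.MovLemLib.mem_range_of_primes_surjective A B K L hsurj a ha

end Groth.Agent.S15084
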