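import Groth.Statements.S15085
import Groth.Agent.GrpSchLib.FieldDim
import Groth.Agent.H23.TopDim
import Groth.Agent.VarDim.Top
-- import your own Groth.Agent.* helpers here

set_option autoImplicit false
universe u
open CategoryTheory CategoryTheory.Limits AlgebraicGeometry
open MovLem

namespace Groth.Agent.S15085

theorem dim_ne_top {k : Type u} [Field k] {X : Scheme.{u}} (sX : X ⟶ Spec (CommRingCat.of k))
    [IsAffine X] [LocallyOfFiniteType sX] : topologicalKrullDim (X : Type u) ≠ ⊤ := by
  let ρ : CommRingCat.of k ⟶ Γ(X, ⊤) :=
    (Scheme.ΓSpecIso _).inv ≫ sX.appLE ⊤ ⊤ le_top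
  have hρ : RingHom.FiniteType ρ.hom := by
    have h := sX.finiteType_appLE (isAffineOpen_top _) (isAffineOpen_top X)
      (le_top : (⊤ : X.Opens) ≤ sX ⁻¹ᵁ ⊤)
    exact h.comp (RingHom.FiniteType.of_surjective _
      (Scheme.ΓSpecIso (CommRingCat.of k)).symm.commRingCatIsoToRingEquiv.surjective)
  let _ := ρ.hom.toAlgebra
  have : Algebra.FiniteType k Γ(X, ⊤) := hρ
  obtain ⟨n, f, hf⟩ := Algebra.FiniteType.iff_quotient_mvPolynomial''.mp this
  have h1 : topologicalKrullDim (X : Type u) = ringKrullDim Γ(X, ⊤) := by
    rw [(Scheme.homeoOfIso X.isoSpec).isHomeomorph.topologicalKrullDim_eq]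
    exact PrimeSpectrum.topologicalKrullDim_eq_ringKrullDim _
  intro htop
  have h2 := ringKrullDim_le_of_surjective f.toRingHom hf
  rw [← h1, htop, MvPolynomial.ringKrullDim_of_isNoetherianRing, ringKrullDim_eq_zero_of_field,
    zero_add, top_le_iff] at h2
  exact absurd h2 (by exact WithBot.coe_injective.ne (ENat.natCast_ne_top _))

/-- Let k be a field, X an affine scheme of finite type over k which is equidimensional (all irreducible
components have the same dimension), B̂ a proper smooth geometrically integral k-scheme and B ⊆ B̂ a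
nonempty affine open subscheme. Let Z be an integral closed subscheme of X ×_k B of dimension dim X
(that is, of codimension dim B, the product X ×_k B being equidimensional of dimension dim X + dim
B). Then the projection Z → X is finite and maps Z onto an irreducible component of X if and only if
Z is closed in X ×_k B̂. (The published statement allows X to be essentially of finite type, i.e.
also a localization of such a scheme at finitely many points, takes B̂ projective of positive
dimension, and phrases the dimension condition as codimension dim B; this row is the finite-type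
case with properness in place of projectivity.) -/
theorem result
    {k : Type u} [Field k] {X Bhat Z : Scheme.{u}}
    (sX : X ⟶ Spec (CommRingCat.of k)) (sB : Bhat ⟶ Spec (CommRingCat.of k))
    [IsAffine X] [LocallyOfFiniteType sX]
    (hXeq : ∀ T ∈ irreducibleComponents (X : Type u), topologicalKrullDim T = topologicalKrullDim X)
    [IsProper sB] [Smooth sB] [GeometricallyIntegral sB]
    (B : Bhat.Opens) (hB : IsAffineOpen B) (hBne : (B : Set Bhat).Nonempty)
    [IsIntegral Z] (ι : Z ⟶ ((pullback.snd sX sB) ⁻¹ᵁ B).toScheme) [IsClosedImmersion ι]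
    (hZ : topologicalKrullDim Z = topologicalKrullDim X)
    (j : Z ⟶ pullback sX sB) (hj : j = ι ≫ ((pullback.snd sX sB) ⁻¹ᵁ B).ι) :
    (IsFinite (j ≫ pullback.fst sX sB) ∧
        Set.range (j ≫ pullback.fst sX sB).base ∈ irreducibleComponents (X : Type u)) ↔
      IsClosed (Set.range j.base) := by
  open Groth.Agent in
  subst hj
  set p := (ι ≫ ((pullback.snd sX sB) ⁻¹ᵁ B).ι) ≫ pullback.fst sX sB with hp
  have hZaff : IsAffine Z := by
    have hA : IsAffineHom sX := inferInstance
    have : IsAffineHom (pullback.snd sX sB) :=
      MorphismProperty.of_isPullback (P := (@IsAffineHom : MorphismProperty Scheme.{u}))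
        (IsPullback.of_hasPullback sX sB) hA
    have : IsAffine ((pullback.snd sX sB) ⁻¹ᵁ B).toScheme := hB.preimage (pullback.snd sX sB)
    exact isAffine_of_isAffineHom ι
  constructor
  · rintro ⟨hfin, -⟩
    have : IsProper p := inferInstance
    have := IsProper.of_comp (ι ≫ ((pullback.snd sX sB) ⁻¹ᵁ B).ι) (pullback.fst sX sB)
    exact (ι ≫ ((pullback.snd sX sB) ⁻¹ᵁ B).ι).isClosedMap.isClosed_range
  · intro hcl
    have hci := IsClosedImmersion.of_isPreimmersion (ι ≫ ((pullback.snd sX sB) ⁻¹ᵁ B).ι) hcl
    have hprop : IsProper p := inferInstance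
    have haff : IsAffineHom p := inferInstance
    have hfin : IsFinite p := IsFinite.iff_isProper_and_isAffineHom.mpr ⟨hprop, haff⟩
    refine ⟨hfin, ?_⟩
    have hR : IsClosed (Set.range p.base) := p.isClosedMap.isClosed_range
    have hirr : IsIrreducible (Set.range p.base) := by
      rw [← Set.image_univ]
      exact (IrreducibleSpace.isIrreducible_univ Z).image _ p.continuous.continuousOn
    obtain ⟨T, hT, hRT⟩ := exists_mem_irreducibleComponents_subset_of_isIrreducible _ hirr
    suffices Set.range p.base = T by rwa [this]
    by_contra hne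
    have hTc := isClosed_of_mem_irreducibleComponents T hT
    have : PreirreducibleSpace T := Subtype.preirreducibleSpace hT.1.isPreirreducible
    have : IrreducibleSpace T := ⟨⟨⟨hT.1.nonempty.some, hT.1.nonempty.some_mem⟩⟩⟩
    have hlt := H23.TopDim.dim_lt_of_ssubset (X := T)
      (by rw [hXeq T hT]; exact dim_ne_top sX)
      (hR.preimage continuous_subtype_val) (fun h => hne (Set.Subset.antisymm hRT fun t ht =>
        (h.ge (Set.mem_univ (⟨t, ht⟩ : T)) :)))
    rw [hXeq T hT] at hlt
    let e : ↥(Subtype.val ⁻¹' Set.range p.base : Set T) ≃ₜ ↥(Set.range p.base) :=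
      { toFun := fun a => ⟨a.1.1, a.2⟩
        invFun := fun b => ⟨⟨b.1, hRT b.2⟩, b.2⟩
        left_inv := fun a => rfl
        right_inv := fun b => rfl
        continuous_toFun := (continuous_subtype_val.comp continuous_subtype_val).subtype_mk _
        continuous_invFun := (continuous_subtype_val.subtype_mk _).subtype_mk _ }
    rw [e.isHomeomorph.topologicalKrullDim_eq, ← hZ] at hlt
    refine absurd hlt (not_lt.mpr ?_)
    rw [VarDim.topologicalKrullDim_eq_iSup_height, VarDim.topologicalKrullDim_isClosed hR]
    exact iSup_le fun z => le_iSup_of_le ⟨p z, z, rfl⟩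
      (WithBot.coe_le_coe.mpr (GrpSchLib.height_apply_of_isIntegralHom p z).le)
end Groth.Agent.S15085
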