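import Groth.Statements.S15086
import Groth.Agent.H23.Pts.BarFibre
-- import your own Groth.Agent.* helpers here

set_option autoImplicit false
universe u
open CategoryTheory CategoryTheory.Limits AlgebraicGeometry
open MovLem

namespace Groth.Agent.S15086

/-- Let k be an infinite perfect field with algebraic closure k̄, let φ : X → Y be a finite morphism of
k-schemes locally of finite type, let x be a closed point of X and y = φ(x). Let π_X : X_{k̄} → X
and π_Y : Y_{k̄} → Y be the base-change projections and φ_{k̄} : X_{k̄} → Y_{k̄} the induced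
morphism. Then the number of points of π_Y⁻¹(y) is at most the number of points of π_X⁻¹(x);
equality holds if and only if the residue field extension k(y) → k(x) is an isomorphism; and
equality holds whenever φ_{k̄} is injective on π_X⁻¹(x). (Cardinalities are taken in ℕ ∪ {∞}; both
fibres are in fact finite.) -/
theorem result
    {k : Type u} [Field k] [Infinite k] [PerfectField k] {X Y : Scheme.{u}}
    (sX : X ⟶ Spec (CommRingCat.of k)) (sY : Y ⟶ Spec (CommRingCat.of k))
    [LocallyOfFiniteType sX] [LocallyOfFiniteType sY]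
    (φ : X ⟶ Y) (hφ : φ ≫ sY = sX) [IsFinite φ]
    (i : Spec (CommRingCat.of (AlgebraicClosure k)) ⟶ Spec (CommRingCat.of k))
    (hi : i = Spec.map (CommRingCat.ofHom (algebraMap k (AlgebraicClosure k))))
    (φbar : pullback sX i ⟶ pullback sY i)
    (h1 : φbar ≫ pullback.fst sY i = pullback.fst sX i ≫ φ)
    (h2 : φbar ≫ pullback.snd sY i = pullback.snd sX i)
    (x : X) (hx : IsClosed ({x} : Set X)) :
    ((pullback.fst sY i).base ⁻¹' {φ.base x}).encard ≤ ((pullback.fst sX i).base ⁻¹' {x}).encard ∧
      (((pullback.fst sY i).base ⁻¹' {φ.base x}).encard = ((pullback.fst sX i).base ⁻¹' {x}).encard ↔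
          Function.Bijective (φ.residueFieldMap x).hom) ∧
      (Set.InjOn φbar.base ((pullback.fst sX i).base ⁻¹' {x}) →
        ((pullback.fst sY i).base ⁻¹' {φ.base x}).encard = ((pullback.fst sX i).base ⁻¹' {x}).encard) := by
  open Groth.Agent.H23 in
  subst hi
  have hy : IsClosed ({φ.base x} : Set Y) := by
    simpa using φ.isClosedMap _ hx
  have hmul := BarFibre.pts_mul sX sY φ hφ x hx
  have hpos := (BarFibre.pts_finite sY (φ.base x) hy).2
  have hX := BarFibre.encard_fibre sX x hx
  have hY := BarFibre.encard_fibre sY (φ.base x) hy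
  rw [hX, hY]
  let _ : Algebra (Y.residueField (φ.base x)) (X.residueField x) :=
    (φ.residueFieldMap x).hom.toAlgebra
  have : Module.Finite (Y.residueField (φ.base x)) (X.residueField x) :=
    Groth.Agent.MorLib.GF.finite_residueFieldMap φ x
  have := BarFibre.perfect_residueField sY (φ.base x) hy
  have hle : Nat.card (BarFibre.Pts sY (φ.base x)) ≤ Nat.card (BarFibre.Pts sX x) := by
    rw [hmul]
    exact Nat.le_mul_of_pos_left _ (Nat.pos_of_ne_zero (NeZero.ne _))
  refine ⟨Nat.cast_le.mpr hle, ?_, fun hinj => ?_⟩
  · rw [Nat.cast_inj, hmul, eq_comm, Nat.mul_eq_right hpos.ne',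
      Field.finSepDegree_eq_finrank_of_isSeparable]
    exact Algebra.finrank_eq_one_iff_bijective_algebraMap
  · refine le_antisymm (Nat.cast_le.mpr hle) ?_
    rw [← hX, ← hY, ← hinj.encard_image]
    refine Set.encard_le_encard ?_
    rintro _ ⟨z, hz, rfl⟩
    show (φbar ≫ pullback.fst sY _).base z = φ.base x
    rw [h1]
    exact congrArg φ.base (Set.mem_singleton_iff.mp hz)
end Groth.Agent.S15086
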