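import Groth.Statements.S15087
import Groth.Agent.H23.GenTranslate
-- import your own Groth.Agent.* helpers here

set_option autoImplicit false
universe u v w
open MovLem

namespace Groth.Agent.S15087

set_option backward.isDefEq.respectTransparency false
set_option backward.isDefEq.respectTransparency.types false
set_option maxHeartbeats 1000000

/-- Let k be an infinite perfect field, r, m, s ≥ 1 and d ≥ 0, and put N = s(m+1). In affine space with
coordinates x_1, …, x_r, t, y_1, …, y_d (the cube of dimension d taken as affine d-space with faces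
given by setting some coordinates equal to 0 or 1), let Z = V(I) be an integral closed subscheme of
dimension r which does not meet the hyperplane t = 0 and which meets every face {y_i = ε_i for i ∈
S} (S nonempty, ε_i ∈ {0, 1}) in dimension at most r − |S|. Let Σ be a finite set of closed points
of affine r-space over k. Then there is a nonzero polynomial h in k[g_1, …, g_r] such that for every
field K over k and every g ∈ K^r with h(g) ≠ 0, the translate of Z_K by x ↦ x + t^N g meets no set
{x ∈ Σ} × A^1 × F with F a proper face: for every field L over K, every point ξ of affine r-space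
over L lying on a point of Σ, every t ∈ L and every y ∈ L^d lying on a proper face, the point (ξ +
t^N g, t, y) is not a zero of I. (The published statement assumes that Z is an irreducible
admissible additive cycle meeting the faces through Σ properly; the two consequences of
admissibility that its proof uses — Z misses t = 0, and Z meets all faces properly — are the
hypotheses here, and the dense open subset of affine r-space is given as the locus h ≠ 0.) -/
theorem result
    {k : Type u} [Field k] [Infinite k] [PerfectField k] (r m s d : ℕ) (hr : 1 ≤ r) (hm : 1 ≤ m) (hs : 1 ≤ s)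
    (I : Ideal (MvPolynomial (Fin r ⊕ (Unit ⊕ Fin d)) k)) (hI : I.IsPrime)
    (hdim : ringKrullDim (MvPolynomial (Fin r ⊕ (Unit ⊕ Fin d)) k ⧸ I) = r)
    (ht0 : I ⊔ Ideal.span {MvPolynomial.X (Sum.inr (Sum.inl ()))} = ⊤)
    (hface : ∀ (S : Finset (Fin d)), S.Nonempty → ∀ (ε : Fin d → k), (∀ i, ε i = 0 ∨ ε i = 1) →
      ringKrullDim (MvPolynomial (Fin r ⊕ (Unit ⊕ Fin d)) k ⧸
        (I ⊔ Ideal.span ((fun i => MvPolynomial.X (Sum.inr (Sum.inr i)) - MvPolynomial.C (ε i)) '' (S : Set (Fin d))))) ≤ (r - S.card : ℕ))
    (Sigma : Finset (Ideal (MvPolynomial (Fin r) k))) (hSigma : ∀ P ∈ Sigma, P.IsMaximal) :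
    ∃ h : MvPolynomial (Fin r) k, h ≠ 0 ∧
      ∀ (K : Type v) [Field K] [Algebra k K] (g : Fin r → K), MvPolynomial.aeval g h ≠ 0 →
        ∀ (L : Type w) [Field L] [Algebra k L] [Algebra K L] [IsScalarTower k K L]
          (ξ : Fin r → L) (t : L) (y : Fin d → L),
          ∀ P ∈ Sigma, (∀ p ∈ P, MvPolynomial.aeval ξ p = 0) →
            ∀ (S : Finset (Fin d)), S.Nonempty → ∀ (ε : Fin d → k), (∀ i, ε i = 0 ∨ ε i = 1) →
              (∀ i ∈ S, y i = algebraMap k L (ε i)) →
                ¬ (∀ q ∈ I, MvPolynomial.aeval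
                    (Sum.elim (fun i => ξ i + t ^ (s * (m + 1)) * algebraMap K L (g i))
                      (Sum.elim (fun _ : Unit => t) y)) q = 0) := by
  classical
  open scoped TensorProduct in
  let T := Unit ⊕ Fin d
  let Pol := MvPolynomial (Fin r ⊕ T) k
  let tv : Pol := MvPolynomial.X (Sum.inr (Sum.inl ()))
  let face : Finset (Fin d) → (Fin d → Bool) → Ideal Pol := fun S b => I ⊔ Ideal.span
    ((fun i => MvPolynomial.X (Sum.inr (Sum.inr i)) - MvPolynomial.C (if b i then (1 : k) else 0)) '' (S : Set (Fin d)))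
  have key : ∀ P : Sigma, ∀ S : Finset (Fin d), ∀ b : Fin d → Bool, ∃ h : MvPolynomial (Fin r) k, h ≠ 0 ∧
      (S.Nonempty → ∀ (L : Type w) [Field L] [Algebra k L] (gL : Fin r → L) (ξ : Fin r → L) (t : L) (y : Fin d → L),
        (∀ p ∈ P.1, MvPolynomial.aeval ξ p = 0) → (∀ i ∈ S, y i = algebraMap k L (if b i then 1 else 0)) →
        (∀ q ∈ I, MvPolynomial.aeval
          (Sum.elim (fun i => ξ i + t ^ (s * (m + 1)) * gL i) (Sum.elim (fun _ : Unit => t) y)) q = 0) →
        MvPolynomial.aeval gL h = 0) := by
    intro P S b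
    by_cases hS : S.Nonempty
    swap
    · exact ⟨1, one_ne_zero, fun h => absurd h hS⟩
    haveI := hSigma P.1 P.2
    let A := Pol ⧸ face S b
    let κ := MvPolynomial (Fin r) k ⧸ P.1
    letI : Field κ := Ideal.Quotient.field P.1
    haveI : Module.Finite k κ := finite_of_finite_type_of_isJacobsonRing k κ
    have hdimA : ringKrullDim A < (r : WithBot ℕ∞) := by
      refine lt_of_le_of_lt (hface S hS (fun i => if b i then 1 else 0) fun i => by split_ifs <;> simp) ?_
      have := hS.card_pos
      exact_mod_cast (by omega : r - S.card < r)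
    obtain ⟨a, ha, c, hc, hac⟩ := Submodule.mem_sup.1 ((Ideal.eq_top_iff_one _).1 ht0)
    obtain ⟨u, rfl⟩ := Ideal.mem_span_singleton'.1 hc
    obtain ⟨h, hh, hkey⟩ := H23.GenTranslate.exists_param (k := k) (A := A) (κ := κ) hdimA
      (fun i => Ideal.Quotient.mk _ (MvPolynomial.X (Sum.inl i))) (fun i => Ideal.Quotient.mk P.1 (MvPolynomial.X i))
      (Ideal.Quotient.mk _ u) (s * (m + 1))
    refine ⟨h, hh, fun _ L _ _ gL ξ t y hξ hy hq => ?_⟩
    let v : Fin r ⊕ T → L := Sum.elim (fun i => ξ i + t ^ (s * (m + 1)) * gL i) (Sum.elim (fun _ : Unit => t) y)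
    have hker : ∀ q ∈ face S b, MvPolynomial.aeval (R := k) v q = 0 := fun q hq' => by
      have : face S b ≤ RingHom.ker (MvPolynomial.aeval (R := k) v) := by
        refine sup_le (fun z hz => hq z hz) (Ideal.span_le.2 ?_)
        rintro _ ⟨i, hi, rfl⟩
        show MvPolynomial.aeval v _ = 0
        rw [map_sub, MvPolynomial.aeval_X, MvPolynomial.aeval_C]
        simp [v, hy i hi]
      exact this hq'
    let ψA : A →ₐ[k] L := Ideal.Quotient.liftₐ _ (MvPolynomial.aeval v) hker
    let ψκ : κ →ₐ[k] L := Ideal.Quotient.liftₐ _ (MvPolynomial.aeval ξ) hξ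
    have hut : ψA (Ideal.Quotient.mk _ u) * t = 1 := by
      have h1 := congrArg (MvPolynomial.aeval (R := k) v) hac
      rw [map_add, hker a (Ideal.mem_sup_left ha), zero_add, map_mul, MvPolynomial.aeval_X, map_one] at h1
      exact h1
    exact hkey L ψA ψκ gL t hut fun i => by
      show MvPolynomial.aeval v (MvPolynomial.X (Sum.inl i)) = MvPolynomial.aeval ξ (MvPolynomial.X i) + _
      rw [MvPolynomial.aeval_X, MvPolynomial.aeval_X]
      rfl
  choose h hh hkey using key
  refine ⟨∏ P : Sigma, ∏ S : Finset (Fin d), ∏ b : Fin d → Bool, h P S b, ?_, ?_⟩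
  · simp only [Finset.prod_ne_zero_iff]
    exact fun P _ S _ b _ => hh P S b
  · intro K _ _ g hg L _ _ _ _ ξ t y P hP hξ S hS ε hε hy hq
    let b : Fin d → Bool := fun i => decide (ε i = 1)
    have hb : ∀ i, (if b i then (1 : k) else 0) = ε i := fun i => by rcases hε i with h | h <;> simp [b, h]
    have h0 := hkey ⟨P, hP⟩ S b hS L (fun i => algebraMap K L (g i)) ξ t y hξ (fun i hi => by rw [hb]; exact hy i hi) hq
    rw [show (fun i => algebraMap K L (g i)) = algebraMap K L ∘ g from rfl, MvPolynomial.aeval_algebraMap_apply, map_eq_zero] at h0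
    apply hg
    rw [map_prod]
    refine Finset.prod_eq_zero (Finset.mem_univ ⟨P, hP⟩) ?_
    rw [map_prod]
    refine Finset.prod_eq_zero (Finset.mem_univ S) ?_
    rw [map_prod]
    exact Finset.prod_eq_zero (Finset.mem_univ b) h0

end Groth.Agent.S15087
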