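import Groth.Statements.S15088
import Groth.Agent.H23.GenTranslate
import Mathlib.RingTheory.KrullDimension.Polynomial
-- import your own Groth.Agent.* helpers here

set_option autoImplicit false
universe u v
open MovLem

namespace Groth.Agent.S15088

set_option backward.isDefEq.respectTransparency false
set_option backward.isDefEq.respectTransparency.types false
set_option maxHeartbeats 1000000

/-- A point over a maximal ideal containing the contraction of an ideal with a monic member. -/
theorem exists_point_over {S : Type v} [CommRing S] (pK q' : Polynomial S) (hp : pK.Monic) (M : Ideal S) (hM : M.IsMaximal)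
    (hIM : ∀ a, Polynomial.C a ∈ Ideal.span {pK, q'} → a ∈ M) :
    ∃ (L : Type v) (_ : Field L) (χ : Polynomial S →+* L), χ pK = 0 ∧ χ q' = 0 ∧ ∀ a ∈ M, χ (Polynomial.C a) = 0 := by
  haveI : Module.Finite S (Polynomial S ⧸ Ideal.span {pK}) := hp.finite_quotient
  let T := Polynomial S ⧸ Ideal.span {pK}
  let I0 : Ideal T := Ideal.span {Ideal.Quotient.mk _ q'}
  have hle : I0.comap (algebraMap S T) ≤ M := fun a ha => by
    refine hIM a ?_
    obtain ⟨z, hz⟩ := Ideal.mem_span_singleton'.1 (Ideal.mem_comap.1 ha)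
    obtain ⟨z, rfl⟩ := Ideal.Quotient.mk_surjective z
    rw [← map_mul] at hz
    have hz' : z * q' - Polynomial.C a ∈ Ideal.span {pK} := Ideal.Quotient.eq.1 hz
    have h1 : z * q' ∈ Ideal.span {pK, q'} := Ideal.mul_mem_left _ _ (Ideal.subset_span (by simp))
    have h2 := sub_mem h1 (Ideal.span_mono (Set.singleton_subset_iff.2 (by simp)) hz' : z * q' - Polynomial.C a ∈ Ideal.span {pK, q'})
    rwa [sub_sub_cancel] at h2
  haveI := hM.isPrime
  obtain ⟨Q, hQI, hQprime, hQM⟩ := Ideal.exists_ideal_over_prime_of_isIntegral M I0 hle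
  haveI := hQprime
  refine ⟨FractionRing (T ⧸ Q), inferInstance,
    ((algebraMap (T ⧸ Q) (FractionRing (T ⧸ Q))).comp (Ideal.Quotient.mk Q)).comp (Ideal.Quotient.mk _), ?_, ?_, ?_⟩
  · exact (congrArg (fun z => algebraMap (T ⧸ Q) (FractionRing (T ⧸ Q)) (Ideal.Quotient.mk Q z))
      (Ideal.Quotient.eq_zero_iff_mem.2 (Ideal.mem_span_singleton_self pK))).trans (by simp)
  · exact (congrArg (algebraMap (T ⧸ Q) (FractionRing (T ⧸ Q)))
      (Ideal.Quotient.eq_zero_iff_mem.2 (hQI (Ideal.mem_span_singleton_self _)))).trans (map_zero _)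
  · intro a ha
    rw [← hQM] at ha
    have h : Ideal.Quotient.mk Q (Ideal.Quotient.mk (Ideal.span {pK}) (Polynomial.C a)) = 0 :=
      Ideal.Quotient.eq_zero_iff_mem.2 ha
    exact (congrArg (algebraMap (T ⧸ Q) (FractionRing (T ⧸ Q))) h).trans (map_zero _)

theorem exists_avoid {k : Type u} [Field k] {r m s : ℕ} (q : MvPolynomial (Fin r) k) (hq0 : q ≠ 0) (p : Polynomial k)
    (hp : p.Monic) (hp0 : p.coeff 0 ≠ 0) (P0 : Ideal (MvPolynomial (Fin r) k)) (hP : P0.IsMaximal) :
    ∃ h : MvPolynomial (Fin r) k, h ≠ 0 ∧ ∀ (L : Type v) [Field L] [Algebra k L]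
      (ξ gL : Fin r → L) (τ : L), (∀ z ∈ P0, MvPolynomial.aeval ξ z = 0) → Polynomial.aeval τ p = 0 →
        MvPolynomial.aeval (fun i => ξ i + τ ^ (s * (m + 1)) * gL i) q = 0 → MvPolynomial.aeval gL h = 0 := by
  classical
  let N := s * (m + 1)
  haveI := hP
  letI : Field (MvPolynomial (Fin r) k ⧸ P0) := Ideal.Quotient.field P0
  haveI : Module.Finite k (MvPolynomial (Fin r) k ⧸ P0) := finite_of_finite_type_of_isJacobsonRing k _
  haveI : Module.Finite k (AdjoinRoot p) := hp.finite_adjoinRoot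
  have hdimA : ringKrullDim (MvPolynomial (Fin r) k ⧸ Ideal.span {q}) < (r : WithBot ℕ∞) := by
    have h1 := ringKrullDim_quotient_succ_le_of_nonZeroDivisor (mem_nonZeroDivisors_of_ne_zero hq0)
    rw [MvPolynomial.ringKrullDim_of_isNoetherianRing, ringKrullDim_eq_zero_of_field, zero_add] at h1
    rw [Nat.card_fin] at h1
    generalize ringKrullDim (MvPolynomial (Fin r) k ⧸ Ideal.span {q}) = e at h1
    induction e with
    | bot => exact WithBot.bot_lt_coe _
    | coe e =>
      have h2 : e + 1 ≤ (r : ℕ∞) := by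
        rw [← WithBot.coe_le_coe]
        exact h1
      have h3 : e ≠ ⊤ := fun h => by rw [h, top_add] at h2; exact absurd h2 (not_le.2 (ENat.natCast_lt_top r))
      exact WithBot.coe_lt_coe.2 ((ENat.add_one_le_iff h3).1 h2)
  let iL : (MvPolynomial (Fin r) k ⧸ P0) →ₐ[k] TensorProduct k (MvPolynomial (Fin r) k ⧸ P0) (AdjoinRoot p) :=
    Algebra.TensorProduct.includeLeft
  let iR : AdjoinRoot p →ₐ[k] TensorProduct k (MvPolynomial (Fin r) k ⧸ P0) (AdjoinRoot p) :=
    Algebra.TensorProduct.includeRight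
  obtain ⟨h, hh, hkey⟩ := H23.GenTranslate.exists_param' (k := k) hdimA
    (fun i => Ideal.Quotient.mk _ (MvPolynomial.X i)) (fun i => iL (Ideal.Quotient.mk P0 (MvPolynomial.X i)))
    (iR (-(algebraMap k (AdjoinRoot p) (p.coeff 0)⁻¹) * Polynomial.aeval (AdjoinRoot.root p) p.divX)) N
  refine ⟨h, hh, fun L _ _ ξ gL τ hξ hτ hq => ?_⟩
  let ψA : (MvPolynomial (Fin r) k ⧸ Ideal.span {q}) →ₐ[k] L :=
    Ideal.Quotient.liftₐ _ (MvPolynomial.aeval fun i => ξ i + τ ^ N * gL i) fun z hz => by
      obtain ⟨w, rfl⟩ := Ideal.mem_span_singleton'.1 hz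
      rw [map_mul, hq, mul_zero]
  let ψκ := Algebra.TensorProduct.lift (S := k)
    (Ideal.Quotient.liftₐ P0 (MvPolynomial.aeval ξ) hξ : (MvPolynomial (Fin r) k ⧸ P0) →ₐ[k] L)
    (AdjoinRoot.liftAlgHom p (Algebra.ofId k L) τ hτ) fun _ _ => Commute.all _ _
  refine hkey L ψA ψκ gL τ ?_ fun i => ?_
  · have h1 : Polynomial.aeval τ p.divX * τ + algebraMap k L (p.coeff 0) = 0 := by
      conv_rhs => rw [← hτ, ← Polynomial.divX_mul_X_add p]
      simp
    have h2 : ∀ z, AdjoinRoot.liftAlgHom p (Algebra.ofId k L) τ hτ (Polynomial.aeval (AdjoinRoot.root p) z) = Polynomial.aeval τ z :=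
      fun z => by rw [← Polynomial.aeval_algHom_apply, AdjoinRoot.liftAlgHom_root]
    simp only [ψκ, iR, Algebra.TensorProduct.includeRight_apply, Algebra.TensorProduct.lift_tmul, map_one, one_mul,
      map_mul, map_neg, AlgHom.commutes, h2]
    rw [mul_assoc, eq_neg_of_add_eq_zero_left h1, neg_mul_neg, ← map_mul, inv_mul_cancel₀ hp0, map_one]
  · simp [ψA, ψκ, iL]

/-- Let k be an infinite perfect field, r, m, s ≥ 1 and d ≥ 0, and put N = s(m+1). In affine space with
coordinates x_1, …, x_r, t, y_1, …, y_d let Z = V(I) be an integral closed subscheme of dimension r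
which does not meet t = 0 and such that neither the projection of Z to the x-coordinates nor its
projection to the t-line is dominant (I contains a nonzero polynomial in the x's alone and a nonzero
polynomial in t alone). Let Σ be a finite set of closed points of affine r-space over k. Then there
is a nonzero polynomial h in k[g_1, …, g_r] such that for every field K over k and every g ∈ K^r
with h(g) ≠ 0 the translate Z_g = {(x, t, y) : (x + t^N g, t, y) ∈ Z_K} of Z_K is empty over an open
neighbourhood of the points of affine r-space over K lying over Σ: the closure of the image of Z_g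
in affine r-space over K (the zero set of the contraction to K[x_1, …, x_r] of the ideal of Z_g)
contains no point lying over a point of Σ. (The published statement assumes that Z is an irreducible
admissible additive cycle meeting the faces through Σ properly; of this its proof uses only that Z
misses t = 0, which is a hypothesis here, and the dense open subset of affine r-space is given as
the locus h ≠ 0.) -/
theorem result
    {k : Type u} [Field k] [Infinite k] [PerfectField k] (r m s d : ℕ) (hr : 1 ≤ r) (hm : 1 ≤ m) (hs : 1 ≤ s)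
    (I : Ideal (MvPolynomial (Fin r ⊕ (Unit ⊕ Fin d)) k)) (hI : I.IsPrime)
    (hdim : ringKrullDim (MvPolynomial (Fin r ⊕ (Unit ⊕ Fin d)) k ⧸ I) = r)
    (ht0 : I ⊔ Ideal.span {MvPolynomial.X (Sum.inr (Sum.inl ()))} = ⊤)
    (hx : Ideal.comap (MvPolynomial.rename (Sum.inl : Fin r → Fin r ⊕ (Unit ⊕ Fin d)) :
        MvPolynomial (Fin r) k →ₐ[k] MvPolynomial (Fin r ⊕ (Unit ⊕ Fin d)) k) I ≠ ⊥)
    (ht : Ideal.comap (MvPolynomial.rename (fun _ : Unit => (Sum.inr (Sum.inl ()) : Fin r ⊕ (Unit ⊕ Fin d))) :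
        MvPolynomial Unit k →ₐ[k] MvPolynomial (Fin r ⊕ (Unit ⊕ Fin d)) k) I ≠ ⊥)
    (Sigma : Finset (Ideal (MvPolynomial (Fin r) k))) (hSigma : ∀ P ∈ Sigma, P.IsMaximal) :
    ∃ h : MvPolynomial (Fin r) k, h ≠ 0 ∧
      ∀ (K : Type v) [Field K] [Algebra k K] (g : Fin r → K), MvPolynomial.aeval g h ≠ 0 →
        ∀ P ∈ Sigma,
          Ideal.comap (MvPolynomial.rename (Sum.inl : Fin r → Fin r ⊕ (Unit ⊕ Fin d)) :
              MvPolynomial (Fin r) K →ₐ[K] MvPolynomial (Fin r ⊕ (Unit ⊕ Fin d)) K)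
            (Ideal.map (MvPolynomial.aeval
                (Sum.elim (fun i : Fin r => MvPolynomial.X (Sum.inl i) +
                    MvPolynomial.X (Sum.inr (Sum.inl ())) ^ (s * (m + 1)) * MvPolynomial.C (g i))
                  (fun j : Unit ⊕ Fin d => MvPolynomial.X (Sum.inr j))) :
                MvPolynomial (Fin r ⊕ (Unit ⊕ Fin d)) k →ₐ[k] MvPolynomial (Fin r ⊕ (Unit ⊕ Fin d)) K) I) ⊔
            Ideal.map (MvPolynomial.map (algebraMap k K) : MvPolynomial (Fin r) k →+* MvPolynomial (Fin r) K) P = ⊤ := by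
  classical
  open scoped TensorProduct in
  let tv : MvPolynomial (Fin r ⊕ (Unit ⊕ Fin d)) k := MvPolynomial.X (Sum.inr (Sum.inl ()))
  let N := s * (m + 1)
  obtain ⟨q, hqI, hq0⟩ := Submodule.exists_mem_ne_zero_of_ne_bot hx
  obtain ⟨p', hp'I, hp'0⟩ := Submodule.exists_mem_ne_zero_of_ne_bot ht
  have htv : tv ∉ I := fun h => hI.ne_top (by
    rw [← ht0]
    exact (sup_eq_left.2 ((Ideal.span_singleton_le_iff_mem _).2 h)).symm)
  obtain ⟨p, hp, hp0, hpI⟩ : ∃ p : Polynomial k, p.Monic ∧ p.coeff 0 ≠ 0 ∧ Polynomial.aeval tv p ∈ I := by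
    let p2 : Polynomial k := MvPolynomial.aeval (R := k) (fun _ : Unit => Polynomial.X) p'
    have hback : MvPolynomial.rename (fun _ : Unit => (Sum.inr (Sum.inl ()) : Fin r ⊕ (Unit ⊕ Fin d))) =
        (Polynomial.aeval tv).comp (MvPolynomial.aeval (R := k) (fun _ : Unit => Polynomial.X)) :=
      MvPolynomial.algHom_ext fun i => by simp [tv]
    have h2 : Polynomial.aeval tv p2 ∈ I := by
      have := hp'I
      rw [Ideal.mem_comap, hback] at this
      exact this
    have hp2 : p2 ≠ 0 := fun h => hp'0 (by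
      have hid : (Polynomial.aeval (MvPolynomial.X () : MvPolynomial Unit k)).comp
          (MvPolynomial.aeval (R := k) (fun _ : Unit => Polynomial.X)) = AlgHom.id k _ :=
        MvPolynomial.algHom_ext fun i => by simp
      have h3 := AlgHom.congr_fun hid p'
      rw [AlgHom.comp_apply, show MvPolynomial.aeval (R := k) (fun _ : Unit => Polynomial.X) p' = 0 from h, map_zero] at h3
      exact h3.symm)
    obtain ⟨p1, hp1, hndvd⟩ := Polynomial.exists_eq_pow_rootMultiplicity_mul_and_not_dvd p2 hp2 0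
    have hc0 : p1.coeff 0 ≠ 0 := fun h => hndvd (by rw [map_zero, sub_zero, Polynomial.X_dvd_iff]; exact h)
    have hp1' : p1 ≠ 0 := fun h => hc0 (by rw [h, Polynomial.coeff_zero])
    refine ⟨p1 * Polynomial.C p1.leadingCoeff⁻¹, Polynomial.monic_mul_leadingCoeff_inv hp1', ?_, ?_⟩
    · rw [Polynomial.coeff_mul_C]
      exact mul_ne_zero hc0 (inv_ne_zero (Polynomial.leadingCoeff_ne_zero.2 hp1'))
    · rw [hp1, map_mul, map_zero, sub_zero, map_pow, Polynomial.aeval_X] at h2
      rw [map_mul]
      exact I.mul_mem_right _ ((hI.mem_or_mem h2).resolve_left fun h => htv (hI.mem_of_pow_mem _ h))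
  have key := fun P : Sigma => exists_avoid.{u, v} (m := m) (s := s) q hq0 p hp hp0 P.1 (hSigma P.1 P.2)
  choose h hh hkey using key
  refine ⟨∏ P : Sigma, h P, Finset.prod_ne_zero_iff.2 fun P _ => hh P, ?_⟩
  intro K _ _ g hg P hP
  let pK : Polynomial (MvPolynomial (Fin r) K) := p.map (algebraMap k (MvPolynomial (Fin r) K))
  let q' : Polynomial (MvPolynomial (Fin r) K) := MvPolynomial.aeval (R := k) (fun i : Fin r =>
    Polynomial.C (MvPolynomial.X i) + Polynomial.C (MvPolynomial.C (g i)) * Polynomial.X ^ N) q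
  by_contra hne
  obtain ⟨M, hM, hle⟩ := Ideal.exists_le_maximal _ hne
  obtain ⟨L, _, χ₀, hχp, hχq, hχM⟩ := exists_point_over pK q' (hp.map (algebraMap k (MvPolynomial (Fin r) K))) M hM (by
    intro a ha
    refine hle (Ideal.mem_sup_left ?_)
    rw [Ideal.mem_comap]
    let σ : MvPolynomial (Fin r ⊕ (Unit ⊕ Fin d)) k →ₐ[k] MvPolynomial (Fin r ⊕ (Unit ⊕ Fin d)) K :=
      MvPolynomial.aeval (Sum.elim (fun i : Fin r => MvPolynomial.X (Sum.inl i) +
          MvPolynomial.X (Sum.inr (Sum.inl ())) ^ (s * (m + 1)) * MvPolynomial.C (g i))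
        (fun j : Unit ⊕ Fin d => MvPolynomial.X (Sum.inr j)))
    let ren : (MvPolynomial (Fin r) K) →ₐ[K] MvPolynomial (Fin r ⊕ (Unit ⊕ Fin d)) K := MvPolynomial.rename Sum.inl
    let Θ : Polynomial (MvPolynomial (Fin r) K) →+* MvPolynomial (Fin r ⊕ (Unit ⊕ Fin d)) K :=
      Polynomial.eval₂RingHom ren.toRingHom (MvPolynomial.X (Sum.inr (Sum.inl ())))
    have e1 : Θ pK = σ (Polynomial.aeval tv p) := by
      rw [← Polynomial.aeval_algHom_apply, show σ tv = MvPolynomial.X (Sum.inr (Sum.inl ())) from MvPolynomial.aeval_X _ _,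
        Polynomial.coe_eval₂RingHom, Polynomial.eval₂_map, Polynomial.aeval_def]
      congr 1
      exact RingHom.ext fun c => by simp [ren, IsScalarTower.algebraMap_apply k K (MvPolynomial (Fin r) K)]
    have e2 : Θ q' = σ (MvPolynomial.rename Sum.inl q) := by
      refine RingHom.congr_fun (f := Θ.comp (MvPolynomial.aeval (R := k) (fun i : Fin r =>
        Polynomial.C (MvPolynomial.X i) + Polynomial.C (MvPolynomial.C (g i)) * Polynomial.X ^ N) :
          MvPolynomial (Fin r) k →ₐ[k] Polynomial (MvPolynomial (Fin r) K)).toRingHom)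
        (g := (σ.comp (MvPolynomial.rename Sum.inl)).toRingHom) (MvPolynomial.ringHom_ext (fun c => ?_) fun i => ?_) q
      · simp only [RingHom.comp_apply, AlgHom.toRingHom_eq_coe, RingHom.coe_coe, AlgHom.comp_apply, MvPolynomial.aeval_C,
          MvPolynomial.rename_C]
        rw [← MvPolynomial.algebraMap_eq, AlgHom.commutes, IsScalarTower.algebraMap_apply k (MvPolynomial (Fin r) K) (Polynomial (MvPolynomial (Fin r) K)), Polynomial.algebraMap_eq,
          Polynomial.coe_eval₂RingHom, Polynomial.eval₂_C, IsScalarTower.algebraMap_apply k K (MvPolynomial (Fin r) K)]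
        exact (ren.commutes _).trans (IsScalarTower.algebraMap_apply k K _ c).symm
      · simp only [RingHom.comp_apply, AlgHom.toRingHom_eq_coe, RingHom.coe_coe, AlgHom.comp_apply, MvPolynomial.aeval_X,
          MvPolynomial.rename_X, Θ, σ, Polynomial.coe_eval₂RingHom, Polynomial.eval₂_add, Polynomial.eval₂_mul,
          Polynomial.eval₂_C, Polynomial.eval₂_pow, Polynomial.eval₂_X, Sum.elim_inl, ren, MvPolynomial.rename_C]
        rw [mul_comm]
    obtain ⟨w, z, hwz⟩ := Ideal.mem_span_pair.1 ha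
    show ren a ∈ _
    have hC : ren a = Θ w * Θ pK + Θ z * Θ q' := by
      rw [← map_mul, ← map_mul, ← map_add, hwz]
      exact (Polynomial.eval₂_C ren.toRingHom _).symm
    rw [hC, e1, e2]
    exact add_mem (Ideal.mul_mem_left _ _ (Ideal.mem_map_of_mem _ hpI)) (Ideal.mul_mem_left _ _ (Ideal.mem_map_of_mem _ hqI)))
  letI : Algebra k L := (χ₀.comp (algebraMap k (Polynomial (MvPolynomial (Fin r) K)))).toAlgebra
  let χ : Polynomial (MvPolynomial (Fin r) K) →ₐ[k] L := { χ₀ with commutes' := fun _ => rfl }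
  have hτ : Polynomial.aeval (χ Polynomial.X) p = 0 := by
    rw [Polynomial.aeval_algHom_apply]
    have : Polynomial.aeval (Polynomial.X : Polynomial (MvPolynomial (Fin r) K)) p = pK := by
      rw [Polynomial.aeval_def]
      show _ = p.map (algebraMap k (MvPolynomial (Fin r) K))
      rw [Polynomial.map, IsScalarTower.algebraMap_eq k (MvPolynomial (Fin r) K) (Polynomial (MvPolynomial (Fin r) K))]
      rfl
    rw [this]
    exact hχp
  have hq' : MvPolynomial.aeval (fun i => χ (Polynomial.C (MvPolynomial.X i)) +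
      χ Polynomial.X ^ N * χ (Polynomial.C (MvPolynomial.C (g i)))) q = 0 := by
    have h0 : χ q' = 0 := hχq
    rw [← h0, ← AlgHom.comp_apply, MvPolynomial.comp_aeval]
    congr 2
    funext i
    simp only [map_add, map_mul, map_pow]
    rw [mul_comm]
  have hξ : ∀ z ∈ P, MvPolynomial.aeval (fun i => χ (Polynomial.C (MvPolynomial.X i))) z = 0 := fun z hz => by
    have e : MvPolynomial.aeval (fun i => χ (Polynomial.C (MvPolynomial.X i))) z =
        χ (Polynomial.C (MvPolynomial.map (algebraMap k K) z)) := by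
      refine RingHom.congr_fun (f := (MvPolynomial.aeval (fun i => χ (Polynomial.C (MvPolynomial.X i))) :
        MvPolynomial (Fin r) k →ₐ[k] L).toRingHom) (g := χ.toRingHom.comp (Polynomial.C.comp (MvPolynomial.map (algebraMap k K))))
        (MvPolynomial.ringHom_ext (fun c => ?_) fun i => ?_) z
      · simp only [AlgHom.toRingHom_eq_coe, RingHom.coe_coe, RingHom.comp_apply, MvPolynomial.aeval_C, MvPolynomial.map_C]
        refine (χ.commutes c).symm.trans ?_
        congr 1
      · simp only [AlgHom.toRingHom_eq_coe, RingHom.coe_coe, RingHom.comp_apply, MvPolynomial.aeval_X, MvPolynomial.map_X]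
    rw [e]
    refine hχM _ ?_
    have hzM : MvPolynomial.map (algebraMap k K) z ∈ M := hle (Ideal.mem_sup_right (Ideal.mem_map_of_mem _ hz))
    exact hzM
  have h0 := hkey ⟨P, hP⟩ L _ (fun i => χ (Polynomial.C (MvPolynomial.C (g i)))) _ hξ hτ hq'
  let ιK : K →ₐ[k] L := χ.comp (IsScalarTower.toAlgHom k K (Polynomial (MvPolynomial (Fin r) K)))
  have hι : MvPolynomial.aeval (fun i => χ (Polynomial.C (MvPolynomial.C (g i)))) (h ⟨P, hP⟩) =
      ιK (MvPolynomial.aeval g (h ⟨P, hP⟩)) := by
    rw [← AlgHom.comp_apply, MvPolynomial.comp_aeval]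
    rfl
  rw [hι, map_eq_zero] at h0
  apply hg
  rw [map_prod]
  exact Finset.prod_eq_zero (Finset.mem_univ ⟨P, hP⟩) h0

end Groth.Agent.S15088
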