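import Groth.Statements.S8909
import Groth.Agent.H23.StalkIdeal
import Groth.Agent.H23.StalkPrimes
import Groth.Agent.FibDim.RelDim

set_option autoImplicit false
set_option linter.style.haveILetI false
universe u
open CategoryTheory CategoryTheory.Limits AlgebraicGeometry TopologicalSpace
open SDiv

namespace Groth.Agent.S8909

open Groth.Agent.H23.StalkIdeal Groth.Agent.H23 IsLocalRing

variable {X : Scheme.{u}}

/-! ## Stalks of products -/

theorem sI_mul (I J : X.IdealSheafData) (x : X) : sI (I * J) x = sI I x * sI J x := by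
  obtain ⟨_, ⟨U, hU, rfl⟩, hxU, -⟩ :=
    X.isBasis_affineOpens.exists_subset_of_mem_open (Set.mem_univ x) isOpen_univ
  rw [sI_eq _ ⟨U, hU⟩ hxU, sI_eq _ ⟨U, hU⟩ hxU, sI_eq _ ⟨U, hU⟩ hxU, CDivEq.stk,
    Scheme.IdealSheafData.ideal_mul, Pi.mul_apply, Ideal.map_mul]

theorem sI_pow (I : X.IdealSheafData) (n : ℕ) (x : X) : sI (I ^ n) x = sI I x ^ n := by
  induction n with
  | zero => rw [pow_zero, pow_zero, Scheme.IdealSheafData.one_eq_top, sI_top, Ideal.one_eq_top]
  | succ n ih => rw [pow_succ, pow_succ, sI_mul, ih]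

theorem sI_prod {ι : Type*} (T : Finset ι) (F : ι → X.IdealSheafData) (x : X) :
    sI (∏ i ∈ T, F i) x = ∏ i ∈ T, sI (F i) x := by
  classical
  induction T using Finset.induction_on with
  | empty => simp [sI_top, Ideal.one_eq_top]
  | insert i T hi ih => rw [Finset.prod_insert hi, Finset.prod_insert hi, sI_mul, ih]

theorem mem_support_iff_sI (I : X.IdealSheafData) (x : X) :
    x ∈ (I.support : Set X) ↔ sI I x ≠ ⊤ := by
  obtain ⟨_, ⟨U, hU, rfl⟩, hxU, -⟩ :=
    X.isBasis_affineOpens.exists_subset_of_mem_open (Set.mem_univ x) isOpen_univ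
  rw [sI_eq _ ⟨U, hU⟩ hxU]
  exact CDivEq.mem_support_iff I ⟨U, hU⟩ hxU

/-- The stalk of an integral closed subscheme is a prime ideal. -/
theorem sI_isPrime (D : X.IdealSheafData) [IsIntegral D.subscheme] {x : X}
    (hx : x ∈ (D.support : Set X)) : (sI D x).IsPrime := by
  obtain ⟨_, ⟨U, hU, rfl⟩, hxU, -⟩ :=
    X.isBasis_affineOpens.exists_subset_of_mem_open (Set.mem_univ x) isOpen_univ
  let V : X.affineOpens := ⟨U, hU⟩
  rw [sI_eq D V hxU]
  obtain ⟨d, hd⟩ : x ∈ Set.range D.subschemeι := by rwa [D.range_subschemeι]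
  haveI : Nonempty ((D.subschemeι ⁻¹ᵁ V.1 : D.subscheme.Opens) : Type u) :=
    ⟨⟨d, show D.subschemeι d ∈ V.1 by rw [hd]; exact hxU⟩⟩
  have hP : (D.ideal V).IsPrime := by
    rw [← D.ker_subschemeι_app V]
    exact RingHom.ker_isPrime _
  letI := X.presheaf.algebra_section_stalk (U := V.1) ⟨x, hxU⟩
  haveI := V.2.isLocalization_stalk ⟨x, hxU⟩
  refine IsLocalization.isPrime_of_isPrime_disjoint (V.2.primeIdealOf ⟨x, hxU⟩).asIdeal.primeCompl
    (X.presheaf.stalk x) _ hP ?_
  rw [Set.disjoint_left]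
  intro s hs hsD
  have hu := IsLocalization.map_units (X.presheaf.stalk x)
    (⟨s, hs⟩ : (V.2.primeIdealOf ⟨x, hxU⟩).asIdeal.primeCompl)
  exact (CDivEq.mem_support_iff D V hxU).1 hx
    (Ideal.eq_top_of_isUnit_mem _ (Ideal.mem_map_of_mem _ hsD) hu)

/-- The locus of inclusion of a finitely generated ideal sheaf in another is open. -/
theorem isOpen_sI_le [IsNoetherian X] (J K : X.IdealSheafData) :
    IsOpen {x : X | sI J x ≤ sI K x} := by
  classical
  refine isOpen_iff_forall_mem_open.2 fun x hx => ?_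
  obtain ⟨_, ⟨U, hU, rfl⟩, hxU, -⟩ :=
    X.isBasis_affineOpens.exists_subset_of_mem_open (Set.mem_univ x) isOpen_univ
  let V : X.affineOpens := ⟨U, hU⟩
  haveI : IsNoetherianRing Γ(X, V.1) := IsLocallyNoetherian.component_noetherian V
  obtain ⟨G, hG⟩ := (isNoetherianRing_iff_ideal_fg Γ(X, V.1)).1 inferInstance (J.ideal V)
  letI := X.presheaf.algebra_section_stalk (U := V.1) ⟨x, hxU⟩
  haveI := V.2.isLocalization_stalk ⟨x, hxU⟩
  let p := (V.2.primeIdealOf ⟨x, hxU⟩).asIdeal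
  have hf : ∀ f ∈ G, ∃ s ∈ p.primeCompl, s * f ∈ K.ideal V := fun f hfG => by
    have h1 : algebraMap Γ(X, V.1) (X.presheaf.stalk x) f ∈
        (K.ideal V).map (algebraMap Γ(X, V.1) (X.presheaf.stalk x)) := by
      have h2 : X.presheaf.germ V.1 x hxU f ∈ sI J x := by
        rw [sI_eq J V hxU]
        exact Ideal.mem_map_of_mem _ (hG ▸ Ideal.subset_span hfG)
      have h3 := hx h2
      rw [sI_eq K V hxU] at h3
      exact h3
    exact (IsLocalization.algebraMap_mem_map_algebraMap_iff p.primeCompl _ _ _).1 h1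
  choose! s hs hsK using hf
  let S := ∏ f ∈ G, s f
  have hSp : S ∈ p.primeCompl := prod_mem hs
  refine ⟨X.basicOpen S, fun y hy => ?_, (X.basicOpen S).isOpen, ?_⟩
  · have hyU : y ∈ V.1 := X.basicOpen_le S hy
    show sI J y ≤ sI K y
    rw [sI_eq J V hyU, sI_eq K V hyU, CDivEq.stk, Ideal.map_le_iff_le_comap, ← hG,
      Ideal.span_le]
    intro f hfG
    have hu : IsUnit (X.presheaf.germ V.1 y hyU S) := (Scheme.mem_basicOpen _ _ _ hyU).1 hy
    show X.presheaf.germ V.1 y hyU f ∈ CDivEq.stk K V hyU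
    rw [← Ideal.unit_mul_mem_iff_mem _ hu, ← map_mul]
    refine Ideal.mem_map_of_mem _ ?_
    obtain ⟨r, hr⟩ := Finset.dvd_prod_of_mem s hfG
    rw [show S * f = r * (s f * f) by rw [show S = s f * r from hr]; ring]
    exact Ideal.mul_mem_left _ _ (hsK f hfG)
  · rw [SetLike.mem_coe, Scheme.mem_basicOpen _ _ _ hxU]
    exact IsLocalization.map_units (X.presheaf.stalk x) (⟨S, hSp⟩ : p.primeCompl)

/-! ## Algebra -/

section Algebra

variable {B : Type*} [CommRing B]

theorem pow_dvd_cancel {g s w : B} (hg : g ∈ nonZeroDivisors B) (hP : (Ideal.span {g}).IsPrime)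
    (hs : ¬ g ∣ s) : ∀ {b : ℕ}, g ^ b ∣ s * w → g ^ b ∣ w := by
  intro b
  induction b generalizing w with
  | zero => simp
  | succ b ih =>
    intro h
    have h1 : s * w ∈ Ideal.span {g} :=
      Ideal.mem_span_singleton.2 ((dvd_pow_self g (Nat.succ_ne_zero b)).trans h)
    rcases hP.mem_or_mem h1 with h2 | h2
    · exact absurd (Ideal.mem_span_singleton.1 h2) hs
    obtain ⟨w', rfl⟩ := Ideal.mem_span_singleton.1 h2
    rw [pow_succ']
    refine mul_dvd_mul_left g (ih ?_)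
    obtain ⟨c, hc⟩ := h
    refine ⟨c, ?_⟩
    refine (mul_cancel_left_mem_nonZeroDivisors hg).1 ?_
    rw [pow_succ'] at hc
    linear_combination hc

theorem prod_pow_dvd {ι : Type*} (T : Finset ι) (g : ι → B) (n : ι → ℕ) {z : B}
    (hg : ∀ i ∈ T, g i ∈ nonZeroDivisors B)
    (hprime : ∀ i ∈ T, IsUnit (g i) ∨ (Ideal.span {g i}).IsPrime)
    (hne : ∀ i ∈ T, ∀ j ∈ T, i ≠ j → ¬ IsUnit (g j) → ¬ g j ∣ g i)
    (h : ∀ i ∈ T, g i ^ n i ∣ z) : ∏ i ∈ T, g i ^ n i ∣ z := by
  classical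
  induction T using Finset.induction_on with
  | empty => simp
  | insert i T hi ih =>
    rw [Finset.prod_insert hi]
    obtain ⟨w, hw⟩ := ih (fun j hj => hg j (Finset.mem_insert_of_mem hj))
      (fun j hj => hprime j (Finset.mem_insert_of_mem hj))
      (fun j hj k hk => hne j (Finset.mem_insert_of_mem hj) k (Finset.mem_insert_of_mem hk))
      (fun j hj => h j (Finset.mem_insert_of_mem hj))
    rw [hw, mul_comm]
    refine mul_dvd_mul_left _ ?_
    have hi' := Finset.mem_insert_self i T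
    rcases hprime i hi' with hu | hP
    · exact (hu.pow (n i)).dvd
    refine pow_dvd_cancel (hg i hi') hP (fun hdvd => ?_) (hw ▸ h i hi')
    have hmem : ∏ j ∈ T, g j ^ n j ∈ Ideal.span {g i} := Ideal.mem_span_singleton.2 hdvd
    obtain ⟨j, hj, hjm⟩ := (Ideal.IsPrime.prod_mem_iff (hp := hP)).1 hmem
    exact hne j (Finset.mem_insert_of_mem hj) i hi' (fun e => hi (e ▸ hj))
      (fun hu => hP.ne_top (Ideal.span_singleton_eq_top.2 hu))
      (Ideal.mem_span_singleton.1 (hP.mem_of_pow_mem _ hjm))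

/-- In a one-dimensional Noetherian local ring a prime ideal containing a nonzerodivisor is maximal. -/
theorem eq_maximalIdeal_of_nzd [IsLocalRing B] (hdim : ringKrullDim B ≤ 1)
    {P : Ideal B} (hP : P.IsPrime) {g : B} (hg : g ∈ nonZeroDivisors B) (hgP : g ∈ P) :
    P = maximalIdeal B := by
  haveI : Ring.KrullDimLE 1 B := Ring.krullDimLE_iff.2 hdim
  rcases Ring.krullDimLE_one_iff.1 inferInstance P hP with h | h
  · exact absurd hg (Set.disjoint_left.1 (Ideal.disjoint_nonZeroDivisors_of_mem_minimalPrimes h) hgP)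
  · exact IsLocalRing.eq_maximalIdeal h

/-- A nonzero ideal in a local ring with principal maximal ideal is a power of it. -/
theorem eq_maximalIdeal_pow [IsNoetherianRing B] [IsLocalRing B] {g : B}
    (hm : maximalIdeal B = Ideal.span {g}) {K : Ideal B} (hK : K ≠ ⊥) :
    ∃ a : ℕ, K = maximalIdeal B ^ a := by
  classical
  have hex : ∃ a, ¬ K ≤ maximalIdeal B ^ a := by
    by_contra hc
    push Not at hc
    exact hK (eq_bot_iff.2 ((le_iInf hc).trans
      (Ideal.iInf_pow_eq_bot_of_isLocalRing _ (maximalIdeal.isMaximal B).ne_top).le))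
  obtain ⟨a, ha⟩ : ∃ a, Nat.find hex = a + 1 := by
    refine ⟨Nat.find hex - 1, ?_⟩
    have : Nat.find hex ≠ 0 := fun h0 => Nat.find_spec hex (by rw [h0, pow_zero, Ideal.one_eq_top]; exact le_top)
    omega
  have hle : K ≤ maximalIdeal B ^ a := not_not.1 (Nat.find_min hex (by omega))
  have hnle : ¬ K ≤ maximalIdeal B ^ (a + 1) := ha ▸ Nat.find_spec hex
  refine ⟨a, le_antisymm hle ?_⟩
  obtain ⟨z, hzK, hz⟩ := SetLike.not_le_iff_exists.1 hnle
  have hza := hle hzK
  rw [hm, Ideal.span_singleton_pow, Ideal.mem_span_singleton] at hza hz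
  obtain ⟨c, rfl⟩ := hza
  have hc : IsUnit c := by
    by_contra hc
    rw [← mem_nonunits_iff, ← IsLocalRing.mem_maximalIdeal, hm, Ideal.mem_span_singleton] at hc
    exact hz (by rw [pow_succ]; exact mul_dvd_mul_left _ hc)
  rw [hm, Ideal.span_singleton_pow, Ideal.span_singleton_le_iff_mem]
  exact (Ideal.mul_unit_mem_iff_mem _ hc).1 hzK

end Algebra

/-! ## Codimension one points of the support -/

theorem one_le_dim [IsLocallyNoetherian X] {D : X.IdealSheafData} (hD : BlowUp.IsEffCartierIdeal D) {x : X}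
    (hx : x ∈ (D.support : Set X)) : (1 : WithBot ℕ∞) ≤ ringKrullDim (X.presheaf.stalk x) := by
  obtain ⟨g, hg, hgen⟩ := exists_gen hD x
  rw [mem_support_iff_sI, hgen, Ne, Ideal.span_singleton_eq_top] at hx
  haveI : Nontrivial (X.presheaf.stalk x ⧸ Ideal.span {g}) :=
    Ideal.Quotient.nontrivial_iff.2 (fun h => hx (Ideal.span_singleton_eq_top.1 h))
  calc (1 : WithBot ℕ∞) = 0 + 1 := (zero_add 1).symm
    _ ≤ ringKrullDim (X.presheaf.stalk x ⧸ Ideal.span {g}) + 1 := by
        gcongr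
        exact ringKrullDim_nonneg_of_nontrivial
    _ ≤ _ := ringKrullDim_quotient_succ_le_of_nonZeroDivisor hg

section Low

variable [IsNoetherian X] (Z : X.IdealSheafData) {I : Type u} (D : I → X.IdealSheafData)
  (hD : ∀ i, BlowUp.IsEffCartierIdeal (D i))

/-- A point of a divisor with one-dimensional local ring has no other generization in the divisor. -/
theorem eq_of_dim_le_one {i : I} {y x : X} (hy : y ∈ ((D i).support : Set X))
    (hdim : ringKrullDim (X.presheaf.stalk x) ≤ 1) (h : y ⤳ x) (hD : ∀ i, BlowUp.IsEffCartierIdeal (D i)) :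
    y = x := by
  by_contra hne
  exact (lt_irrefl _) (((one_le_dim (hD i) hy).trans_lt
    (FibDim.ringKrullDim_stalk_lt h hne)).trans_le hdim)

end Low

/-- Let X be a Noetherian scheme and Z ⊆ X a closed subscheme with ideal sheaf 𝓩. Suppose given a family
of integral effective Cartier divisors D_i ⊆ X (ideal sheaves 𝓓_i, i ∈ I) and a closed subset Z' ⊆ X
whose irreducible components all have codimension at least 2 in X (the local ring of X at each
maximal point of Z' has dimension ≥ 2), such that Z ⊆ Z' ∪ ⋃ D_i set-theoretically. Then there are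
integers a_i ≥ 0, almost all zero, such that the effective Cartier divisor D = Σ a_i D_i (with ideal
sheaf the product of the 𝓓_i^{a_i}) is contained in Z as a closed subscheme and the inclusion D → Z
is an isomorphism outside codimension 2: for some open U ⊆ X the ideal sheaves of D and Z agree on U
and every irreducible component of Z ∖ U has codimension ≥ 2 in X. The published statement also
asserts that such D_i and Z' exist when Z is nowhere dense in X and either every local ring of X at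
a point of Z is factorial or X is regular; this row does not. -/
theorem result (X : Scheme.{u}) [IsNoetherian X] (𝓩 : X.IdealSheafData)
    {I : Type u} (𝓓 : I → X.IdealSheafData) (hD : ∀ i, BlowUp.IsEffCartierIdeal (𝓓 i)) (hDint : ∀ i, IsIntegral (𝓓 i).subscheme)
    (Z' : Set ↥X) (hZ' : IsClosed Z')
    (hcodim : ∀ z ∈ Z', (∀ y ∈ Z', y ⤳ z → y = z) → (2 : WithBot ℕ∞) ≤ ringKrullDim ↑(X.presheaf.stalk z))
    (hcover : (𝓩.support : Set ↥X) ⊆ Z' ∪ ⋃ i, ((𝓓 i).support : Set ↥X)) :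
    ∃ a : I →₀ ℕ, 𝓩 ≤ a.prod (fun i n => 𝓓 i ^ n) ∧
      ∃ U : X.Opens, (a.prod (fun i n => 𝓓 i ^ n)).comap U.ι = 𝓩.comap U.ι ∧
        ∀ z ∈ (𝓩.support : Set ↥X) \ (U : Set ↥X), (∀ y ∈ (𝓩.support : Set ↥X) \ (U : Set ↥X), y ⤳ z → y = z) →
          (2 : WithBot ℕ∞) ≤ ringKrullDim ↑(X.presheaf.stalk z) := by
  classical
  set Low : Set X := {ξ | ξ ∈ (𝓩.support : Set X) ∧ ringKrullDim (X.presheaf.stalk ξ) ≤ 1} with hLowdef
  -- every such point lies on one of the divisors
  have hcov : ∀ ξ ∈ Low, ∃ i, ξ ∈ ((𝓓 i).support : Set X) := by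
    rintro ξ ⟨hξ, hdim⟩
    rcases hcover hξ with hz | hu
    · exfalso
      by_cases hξmax : ∀ y ∈ Z', y ⤳ ξ → y = ξ
      · exact absurd ((hcodim ξ hz hξmax).trans hdim) (by decide)
      push Not at hξmax
      obtain ⟨w, hwZ, hwξ, hne⟩ := hξmax
      have hlt := (FibDim.ringKrullDim_stalk_lt hwξ hne).trans_le hdim
      refine absurd ((hcodim w hwZ fun y hy hyw => ?_).trans hlt.le) (by decide)
      by_contra hne'
      have h0 := ringKrullDim_nonneg_of_nontrivial (R := X.presheaf.stalk y)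
      have h1 : ringKrullDim (X.presheaf.stalk w) ≤ 0 :=
        by simpa using (ENat.WithBot.lt_add_one_iff (m := 0)).1 (by simpa using hlt)
      exact lt_irrefl _ ((h0.trans_lt (FibDim.ringKrullDim_stalk_lt hyw hne')).trans_le h1)
    · exact Set.mem_iUnion.1 hu
  have hmax : ∀ ξ ∈ Low, ∀ y ∈ (𝓩.support : Set X), y ⤳ ξ → y = ξ := by
    intro ξ hξ y hy h
    by_contra hne
    have hlt := FibDim.ringKrullDim_stalk_lt h hne
    obtain ⟨i, hi⟩ := hcov y ⟨hy, hlt.le.trans hξ.2⟩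
    exact hne (eq_of_dim_le_one 𝓓 hi hξ.2 h hD)
  have hfin : Low.Finite := by
    obtain ⟨S, hSirr, hS⟩ := TopologicalSpace.NoetherianSpace.exists_finset_irreducible 𝓩.support
    refine (Set.finite_range fun C : S => (hSirr C).genericPoint).subset fun ξ hξ => ?_
    have h1 : ξ ∈ ((S.sup id : Closeds X) : Set X) := hS ▸ hξ.1
    rw [Closeds.coe_finset_sup] at h1
    obtain ⟨C, hCS, hC⟩ : ∃ C ∈ S, ξ ∈ ((C : Closeds X) : Set X) := by simpa using h1
    refine ⟨⟨C, hCS⟩, hmax ξ hξ _ ?_ ?_⟩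
    · have h2 : (hSirr ⟨C, hCS⟩).genericPoint ∈ closure (C : Set X) :=
        (hSirr ⟨C, hCS⟩).isGenericPoint_genericPoint_closure.mem
      rw [C.isClosed.closure_eq] at h2
      exact SetLike.coe_subset_coe.2 (hS ▸ Finset.le_sup (f := id) hCS : C ≤ 𝓩.support) h2
    · exact (hSirr ⟨C, hCS⟩).isGenericPoint_genericPoint_closure.specializes (subset_closure hC)
  haveI := hfin.fintype
  have hcov' : ∀ ξ : Low, ∃ i, ξ.1 ∈ ((𝓓 i).support : Set X) := fun ξ => hcov ξ.1 ξ.2
  choose idx hidx using hcov'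
  -- the divisor through such a point has it as generic point
  have hgen : ∀ ξ : Low, ∀ x ∈ ((𝓓 (idx ξ)).support : Set X), ξ.1 ⤳ x := by
    intro ξ x hx
    haveI := hDint (idx ξ)
    have hd := hidx ξ
    rw [← Scheme.IdealSheafData.range_subschemeι] at hx hd
    obtain ⟨d, rfl⟩ := hx
    obtain ⟨e, he⟩ := hd
    have h1 := ((genericPoint_spec (𝓓 (idx ξ)).subscheme).specializes (Set.mem_univ d)).map
      (𝓓 (idx ξ)).subschemeι.continuous
    have h2 := ((genericPoint_spec (𝓓 (idx ξ)).subscheme).specializes (Set.mem_univ e)).map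
      (𝓓 (idx ξ)).subschemeι.continuous
    rw [he] at h2
    have h3 := eq_of_dim_le_one (i := idx ξ) 𝓓
      (by rw [← Scheme.IdealSheafData.range_subschemeι]; exact Set.mem_range_self _) ξ.2.2 h2 hD
    rwa [h3] at h1
  -- the multiplicity at such a point
  have hmult : ∀ ξ : Low, ∃ a : ℕ, sI 𝓩 ξ.1 = sI (𝓓 (idx ξ)) ξ.1 ^ a := by
    intro ξ
    haveI := hDint (idx ξ)
    obtain ⟨g, hg, hgI⟩ := exists_gen (hD (idx ξ)) ξ.1
    have hm : sI (𝓓 (idx ξ)) ξ.1 = maximalIdeal _ :=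
      eq_maximalIdeal_of_nzd ξ.2.2 (sI_isPrime _ (hidx ξ)) hg (hgI ▸ Ideal.mem_span_singleton_self g)
    rw [hm]
    refine eq_maximalIdeal_pow (hm.symm.trans hgI) fun hbot => ?_
    obtain ⟨Q, hQ⟩ : (minimalPrimes (X.presheaf.stalk ξ.1)).Nonempty := by
      obtain ⟨Q, hQ, -⟩ := Ideal.exists_minimalPrimes_le (I := ⊥) (J := maximalIdeal (X.presheaf.stalk ξ.1)) bot_le
      exact ⟨Q, hQ⟩
    haveI : Q.IsPrime := hQ.1.1
    obtain ⟨y, hy, hyQ⟩ := StalkPrimes.exists_point Q
    have hys : y ∈ (𝓩.support : Set X) := by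
      rw [mem_support_iff_sI, sI_spec 𝓩 hy, hbot, Ideal.map_bot]
      exact bot_ne_top
    obtain rfl := hmax ξ.1 ξ.2 y hys hy
    refine Set.disjoint_left.1 (Ideal.disjoint_nonZeroDivisors_of_mem_minimalPrimes hQ) ?_ hg
    rw [← hyQ]
    refine (CDiv6.mem_primeOf hy g).2 fun hu => ?_
    have hgm : g ∈ maximalIdeal _ := hm ▸ hgI ▸ Ideal.mem_span_singleton_self g
    exact hgm (by simpa using hu)
  choose n hn using hmult
  let a : I →₀ ℕ := ∑ ξ : Low, Finsupp.single (idx ξ) (n ξ)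
  have hprod : a.prod (fun i k => 𝓓 i ^ k) = ∏ ξ : Low, 𝓓 (idx ξ) ^ n ξ := by
    rw [← Finsupp.prod_finsetSum_index (fun i => pow_zero _) (fun i b c => pow_add _ b c)]
    exact Finset.prod_congr rfl fun ξ _ => Finsupp.prod_single_index (h := fun i k => 𝓓 i ^ k) (pow_zero _)
  set E := a.prod (fun i k => 𝓓 i ^ k) with hE
  have hsI : ∀ x, sI E x = ∏ ξ : Low, sI (𝓓 (idx ξ)) x ^ n ξ := fun x => by
    rw [hprod, sI_prod]
    exact Finset.prod_congr rfl fun ξ _ => sI_pow _ _ _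
  -- the inclusion
  have hle : 𝓩 ≤ E := by
    intro V
    refine CDivEq.le_of_stk _ _ V fun x hx => ?_
    rw [← sI_eq E V hx, hsI]
    have hgens : ∀ ξ : Low, ∃ g : X.presheaf.stalk x,
        g ∈ nonZeroDivisors _ ∧ sI (𝓓 (idx ξ)) x = Ideal.span {g} := fun ξ => exists_gen (hD _) x
    choose g hg hgI using hgens
    simp only [hgI, Ideal.span_singleton_pow, Ideal.prod_span_singleton]
    refine Ideal.map_le_iff_le_comap.2 fun z hz => ?_
    rw [Ideal.mem_comap, Ideal.mem_span_singleton]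
    have hsupp : ∀ ξ : Low, ¬ IsUnit (g ξ) → ξ.1 ⤳ x := fun ξ hu => hgen ξ x (by
      rw [mem_support_iff_sI, hgI, Ne, Ideal.span_singleton_eq_top]; exact hu)
    refine prod_pow_dvd _ g n (fun ξ _ => hg ξ) (fun ξ hξ => ?_) (fun ξ hξ η hη hne hu hdvd => ?_) (fun ξ hξ => ?_)
    · by_cases hu : IsUnit (g ξ)
      · exact Or.inl hu
      haveI := hDint (idx ξ)
      refine Or.inr (hgI ξ ▸ sI_isPrime _ ?_)
      rw [mem_support_iff_sI, hgI, Ne, Ideal.span_singleton_eq_top]
      exact hu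
    · -- distinct divisors
      have hηx := hsupp η hu
      have h1 : η.1 ∈ ((𝓓 (idx ξ)).support : Set X) := by
        rw [mem_support_iff_sI]
        refine ne_top_of_le_ne_top (b := sI (𝓓 (idx η)) η.1) ((mem_support_iff_sI _ _).1 (hidx η)) ?_
        rw [sI_spec _ hηx, sI_spec _ hηx, hgI, hgI]
        exact Ideal.map_mono (Ideal.span_singleton_le_span_singleton.2 hdvd)
      exact hne (Subtype.ext (hmax η.1 η.2 ξ.1 ξ.2.1 (hgen ξ η.1 h1)))
    · by_cases hu : IsUnit (g ξ)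
      · exact (hu.pow _).dvd
      have hξx := hsupp ξ hu
      have hξV : ξ.1 ∈ V.1 := hξx.mem_open V.1.isOpen hx
      have h1 : X.presheaf.germ V.1 ξ.1 hξV z ∈
          Ideal.map (X.presheaf.germ V.1 ξ.1 hξV).hom ((𝓓 (idx ξ) ^ n ξ).ideal V) := by
        show _ ∈ CDivEq.stk _ V hξV
        rw [← sI_eq, sI_pow, ← hn ξ, sI_eq 𝓩 V hξV]
        exact Ideal.mem_map_of_mem _ hz
      letI := X.presheaf.algebra_section_stalk (U := V.1) ⟨ξ.1, hξV⟩
      haveI := V.2.isLocalization_stalk ⟨ξ.1, hξV⟩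
      obtain ⟨s, hs, hsz⟩ := (IsLocalization.algebraMap_mem_map_algebraMap_iff
        (V.2.primeIdealOf ⟨ξ.1, hξV⟩).asIdeal.primeCompl (X.presheaf.stalk ξ.1) _ _).1 h1
      have hsu : IsUnit (X.presheaf.germ V.1 ξ.1 hξV s) :=
        IsLocalization.map_units (X.presheaf.stalk ξ.1) (⟨s, hs⟩ : (V.2.primeIdealOf ⟨ξ.1, hξV⟩).asIdeal.primeCompl)
      have hP : (Ideal.span {g ξ}).IsPrime := by
        haveI := hDint (idx ξ)
        refine hgI ξ ▸ sI_isPrime _ ?_
        rw [mem_support_iff_sI, hgI, Ne, Ideal.span_singleton_eq_top]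
        exact hu
      refine pow_dvd_cancel (hg ξ) hP (s := X.presheaf.germ V.1 x hx s) (fun hdvd => ?_) ?_
      · have h2 : X.presheaf.stalkSpecializes hξx (X.presheaf.germ V.1 x hx s) ∈ sI (𝓓 (idx ξ)) ξ.1 := by
          rw [sI_spec _ hξx, hgI]
          exact Ideal.mem_map_of_mem _ (Ideal.mem_span_singleton.2 hdvd)
        rw [TopCat.Presheaf.germ_stalkSpecializes_apply] at h2
        exact (mem_support_iff_sI _ _).1 (hidx ξ) (Ideal.eq_top_of_isUnit_mem _ h2 hsu)
      · rw [← Ideal.mem_span_singleton, ← Ideal.span_singleton_pow, ← hgI, ← sI_pow, sI_eq _ V hx, ← map_mul]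
        exact Ideal.mem_map_of_mem _ hsz
  have hopen : IsOpen {x : X | sI E x ≤ sI 𝓩 x} := isOpen_sI_le _ _
  have hle' : ∀ x, sI 𝓩 x ≤ sI E x := fun x => by
    obtain ⟨_, ⟨U, hU, rfl⟩, hxU, -⟩ :=
      X.isBasis_affineOpens.exists_subset_of_mem_open (Set.mem_univ x) isOpen_univ
    rw [sI_eq _ ⟨U, hU⟩ hxU, sI_eq _ ⟨U, hU⟩ hxU]
    exact Ideal.map_mono (hle _)
  refine ⟨a, hle, ⟨_, hopen⟩, ext_sI fun y => ?_, ?_⟩
  · rw [sI_comap, sI_comap]
    exact congrArg _ (le_antisymm y.2 (hle' _))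
  rintro z ⟨hz, hzU⟩ -
  by_contra hdim
  have hdim' : ringKrullDim (X.presheaf.stalk z) ≤ 1 := by
    rw [not_le] at hdim
    refine (ENat.WithBot.lt_add_one_iff (m := 1)).1 ?_
    exact hdim.trans_le (by norm_num)
  apply hzU
  show sI E z ≤ sI 𝓩 z
  have hzL : z ∈ Low := ⟨hz, hdim'⟩
  rw [hsI, Fintype.prod_eq_single (⟨z, hzL⟩ : Low) fun ξ hne => ?_, ← hn ⟨z, hzL⟩]
  have : sI (𝓓 (idx ξ)) z = ⊤ := by
    by_contra hne'
    exact hne (Subtype.ext (hmax z hzL ξ.1 ξ.2.1 (hgen ξ z ((mem_support_iff_sI _ _).2 hne'))))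
  rw [this, ← Ideal.one_eq_top, one_pow]

end Groth.Agent.S8909
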