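import Groth.Statements.S1659
import Groth.Agent.S8909

set_option autoImplicit false
set_option linter.style.haveILetI false
universe u
open CategoryTheory CategoryTheory.Limits AlgebraicGeometry
open Divisors

namespace Groth.Agent.S1659

theorem sI_eq_of_comap_eq {X : Scheme.{u}} {U : X.Opens} {J K : X.IdealSheafData}
    (h : J.comap U.ι = K.comap U.ι) (y : U.toScheme) :
    H23.StalkIdeal.sI J (U.ι y) = H23.StalkIdeal.sI K (U.ι y) := by
  have h1 : H23.StalkIdeal.sI (J.comap U.ι) y = H23.StalkIdeal.sI (K.comap U.ι) y := by rw [h]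
  rw [H23.StalkIdeal.sI_comap, H23.StalkIdeal.sI_comap] at h1
  have hb := ConcreteCategory.bijective_of_isIso (U.ι.stalkMap y)
  have h2 := congrArg (Ideal.comap (U.ι.stalkMap y).hom) h1
  rwa [Ideal.comap_map_of_bijective _ hb, Ideal.comap_map_of_bijective _ hb] at h2

/-- Let X be Noetherian, D an effective Cartier divisor and D_1, …, D_r effective Cartier divisors which
are integral as closed subschemes, with D contained set-theoretically in their union. Then D = Σ a_i
D_i for some a_i ≥ 0, i.e. the ideal sheaf of D is the product of the a_i-th powers of the ideal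
sheaves of the D_i. -/
theorem result (X : Scheme.{u}) [IsNoetherian X] (D : X.IdealSheafData) (hD : BlowUp.IsEffCartierIdeal D)
    (r : ℕ) (Ds : Fin r → X.IdealSheafData) (hDs : ∀ i, BlowUp.IsEffCartierIdeal (Ds i)) (hint : ∀ i, IsIntegral (Ds i).subscheme)
    (hsub : (D.support : Set X) ⊆ ⋃ i, ((Ds i).support : Set X)) :
    ∃ a : Fin r → ℕ, D = ∏ i, Ds i ^ a i := by
  classical
  obtain ⟨a, hle, U, hU, hmax⟩ := Groth.Agent.S8909.result X D (fun i : ULift.{u} (Fin r) => Ds i.down)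
    (fun i => hDs _) (fun i => hint _) ∅ isClosed_empty (fun z hz => hz.elim)
    (fun x hx => Or.inr (by
      obtain ⟨i, hi⟩ := Set.mem_iUnion.1 (hsub hx)
      exact Set.mem_iUnion.2 ⟨⟨i⟩, hi⟩))
  refine ⟨fun i => a ⟨i⟩, ?_⟩
  have hprod : a.prod (fun i n => Ds i.down ^ n) = ∏ i, Ds i ^ a ⟨i⟩ := by
    rw [Finsupp.prod_fintype _ _ (fun i => pow_zero _)]
    exact Fintype.prod_equiv Equiv.ulift _ _ (fun i => rfl)
  rw [← hprod]
  set E := a.prod (fun i n => Ds i.down ^ n) with hE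
  refine H23.StalkIdeal.ext_sI fun x => ?_
  -- generators
  have hEgen : ∀ y, ∃ g ∈ nonZeroDivisors (X.presheaf.stalk y), H23.StalkIdeal.sI E y = Ideal.span {g} := by
    intro y
    choose g hg hgI using fun i => H23.StalkIdeal.exists_gen (hDs i) y
    refine ⟨∏ i, g i ^ a ⟨i⟩, prod_mem fun i _ => pow_mem (hg i) _, ?_⟩
    rw [hprod, S8909.sI_prod, ← Ideal.prod_span_singleton]
    exact Finset.prod_congr rfl fun i _ => by rw [S8909.sI_pow, hgI, Ideal.span_singleton_pow]
  obtain ⟨f, hf, hfI⟩ := H23.StalkIdeal.exists_gen hD x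
  obtain ⟨g, hg, hgI⟩ := hEgen x
  have hle' : ∀ y, H23.StalkIdeal.sI D y ≤ H23.StalkIdeal.sI E y := fun y => by
    obtain ⟨_, ⟨V, hV, rfl⟩, hyV, -⟩ :=
      X.isBasis_affineOpens.exists_subset_of_mem_open (Set.mem_univ y) isOpen_univ
    rw [H23.StalkIdeal.sI_eq _ ⟨V, hV⟩ hyV, H23.StalkIdeal.sI_eq _ ⟨V, hV⟩ hyV]
    exact Ideal.map_mono (hle _)
  obtain ⟨c, hc⟩ := Ideal.mem_span_singleton.1 (hgI ▸ hle' x (hfI ▸ Ideal.mem_span_singleton_self f))
  rw [hfI, hgI]
  suffices hcu : IsUnit c by rw [hc, Ideal.span_singleton_mul_right_unit hcu]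
  by_contra hcu
  -- a codimension one point where the multiplicity differs
  obtain ⟨P, hP, -⟩ := Ideal.exists_minimalPrimes_le (I := Ideal.span {c})
    (J := IsLocalRing.maximalIdeal (X.presheaf.stalk x))
    ((Ideal.span_singleton_le_iff_mem _).2 hcu)
  haveI : P.IsPrime := hP.1.1
  have hPh : P.height ≤ 1 := Ideal.height_le_one_of_isPrincipal_of_mem_minimalPrimes _ P hP
  obtain ⟨y, hy, hyP⟩ := H23.StalkPrimes.exists_point P
  haveI : (CDiv6.primeOf hy).asIdeal.IsPrime := (CDiv6.primeOf hy).2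
  have hdim : ringKrullDim (X.presheaf.stalk y) ≤ 1 := by
    letI := (X.presheaf.stalkSpecializes hy).hom.toAlgebra
    haveI := H23.StalkPrimes.isLocalization_primeOf hy
    rw [IsLocalization.AtPrime.ringKrullDim_eq_height (CDiv6.primeOf hy).asIdeal, hyP]
    exact WithBot.coe_le_coe.2 hPh
  have hcy : ¬ IsUnit (X.presheaf.stalkSpecializes hy c) :=
    (CDiv6.mem_primeOf hy c).1 (hyP.symm ▸ hP.1.2 (Ideal.mem_span_singleton_self c))
  have hD' : H23.StalkIdeal.sI D y =
      Ideal.span {X.presheaf.stalkSpecializes hy g * X.presheaf.stalkSpecializes hy c} := by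
    rw [H23.StalkIdeal.sI_spec D hy, hfI, hc, Ideal.map_span, Set.image_singleton, map_mul]
  have hE' : H23.StalkIdeal.sI E y = Ideal.span {X.presheaf.stalkSpecializes hy g} := by
    rw [H23.StalkIdeal.sI_spec E hy, hgI, Ideal.map_span, Set.image_singleton]
  have hgy : X.presheaf.stalkSpecializes hy g ∈ nonZeroDivisors (X.presheaf.stalk y) := by
    obtain ⟨g', hg', hgI'⟩ := hEgen y
    obtain ⟨w, hw⟩ := Ideal.mem_span_singleton.1 ((hE'.symm.trans hgI').ge (Ideal.mem_span_singleton_self g'))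
    exact (mul_mem_nonZeroDivisors.1 (hw ▸ hg')).1
  have hne' : H23.StalkIdeal.sI E y ≠ H23.StalkIdeal.sI D y := by
    rw [hE', hD']
    intro h
    obtain ⟨w, hw⟩ := Ideal.mem_span_singleton.1 (h.le (Ideal.mem_span_singleton_self _))
    refine hcy (IsUnit.of_mul_eq_one w ?_)
    refine (mul_cancel_left_mem_nonZeroDivisors hgy).1 ?_
    rw [mul_one, ← mul_assoc]
    exact hw.symm
  have hys : y ∈ (D.support : Set X) := by
    rw [S8909.mem_support_iff_sI, hD', Ne, Ideal.span_singleton_eq_top, IsUnit.mul_iff]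
    exact fun h => hcy h.2
  have hyU : y ∉ (U : Set X) := fun hyU => hne' (sI_eq_of_comap_eq hU ⟨y, hyU⟩)
  have h12 : (2 : WithBot ℕ∞) ≤ 1 := (hmax y ⟨hys, hyU⟩ fun w hw hwy =>
    S8909.eq_of_dim_le_one (I := PUnit.{u + 1}) (fun _ => D) (i := PUnit.unit) hw.1 hdim hwy (fun _ => hD)).trans hdim
  exact absurd h12 (by decide)

end Groth.Agent.S1659
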