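import Groth.Statements.S15092
import Groth.Agent.SurfRows.FibrationVertical

set_option autoImplicit false
set_option backward.isDefEq.respectTransparency false
set_option backward.isDefEq.respectTransparency.types false
set_option linter.style.haveILetI false
set_option linter.unusedSectionVars false
set_option maxHeartbeats 800000
universe u
open CategoryTheory CategoryTheory.Limits AlgebraicGeometry TopologicalSpace
open Surf

namespace Groth.Agent.S15092

open CategoryTheory CategoryTheory.Limits Groth.Agent Groth.Agent.H23 Groth.Agent.SurfRows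
attribute [local instance] PicMul.clMonoid

/-- Let k be an algebraically closed field, X a smooth projective surface over k (integral, proper and
smooth, of dimension 2), C a smooth projective curve over k (integral, proper and smooth, of
dimension 1) and f : X → C a semi-stable fibration: a surjective k-morphism with O_C → f_*O_X an
isomorphism which is an at-worst-nodal family (flat, of finite presentation, all fibres
one-dimensional with at worst nodal singularities), whose fibre over some closed point q₀ is smooth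
with χ(O) = 1 − g for some g ≥ 2 (computed on X through the direct image of the structure sheaf of
the fibre), and with no exceptional curve of the first kind in a fibre (no integral vertical curve E
with χ(O_E) = 1 and E² = −1). Let ω_{X/C} = ω_X ⊗ (f^*Ω_{C/k})^{-1} be the relative dualizing
module, ω_X a second exterior power of Ω_{X/k} and (f^*Ω_{C/k})^{-1} a tensor inverse of f^*Ω_{C/k}.
Let D ⊆ X be an integral curve (integral closed subscheme of dimension 1) lying in a fibre of f, and
O_X(D) a tensor inverse of its ideal sheaf. Then (ω_{X/C}·O_X(D)) ≥ 0; and if (ω_{X/C}·O_X(D)) = 0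
then χ(O_D) = 1 and (D·D) = −2, that is, D is a smooth rational curve of self-intersection −2. Here
(L·L') = χ(O_X) − χ(L) − χ(L') + χ(L ⊗ L') for invertible L, L'. -/
theorem result (k : Type u) [Field k] [IsAlgClosed k]
    (X : Scheme.{u}) [X.Over (Spec (CommRingCat.of k))] [IsProper (X ↘ (Spec (CommRingCat.of k)))]
    [Smooth (X ↘ (Spec (CommRingCat.of k)))] [IsIntegral X] (hdim : topologicalKrullDim X = 2)
    (C : Scheme.{u}) [C.Over (Spec (CommRingCat.of k))] [IsProper (C ↘ (Spec (CommRingCat.of k)))]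
    [Smooth (C ↘ (Spec (CommRingCat.of k)))] [IsIntegral C] (hdimC : topologicalKrullDim C = 1)
    (f : X ⟶ C) [f.IsOver (Spec (CommRingCat.of k))] [Surjective f] (hconn : IsIso (ClSub.unitToPush f))
    (hss : Curv2.IsNodalFamily f)
    (q₀ : C) (hq₀ : IsClosed ({q₀} : Set C)) (hsm : Smooth (f.fiberToSpecResidueField q₀))
    (g : ℕ) (hg2 : 2 ≤ g) (hg : Curv2.euler k X (ClSub.quotMod (f.fiberι q₀).ker) = 1 - (g : ℤ))
    (hmin : ∀ E : X.IdealSheafData, IsIntegral E.subscheme → topologicalKrullDim (E.support : Set X) = 1 →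
      (∃ c : C, ∀ x : X, x ∈ E.support → f.base x = c) → Curv2.euler k X (ClSub.quotMod E) = 1 →
      FGA.intNum k X 2 ![ClSub.idealMod E, ClSub.idealMod E] (Coh.structureModule X) ≠ -1)
    (WX : X.Modules) (hWX : ExtPow.IsExtPow 2 (Omega.sheaf (X ↘ (Spec (CommRingCat.of k)))) WX)
    (M : X.Modules) (hM : ClSub.IsInverseOf M ((Scheme.Modules.pullback f).obj (Omega.sheaf (C ↘ (Spec (CommRingCat.of k))))))
    (D : X.IdealSheafData) (hD : IsIntegral D.subscheme) (hD1 : topologicalKrullDim (D.support : Set X) = 1)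
    (hDv : ∃ c : C, ∀ x : X, x ∈ D.support → f.base x = c)
    (LD : X.Modules) (hLD : ClSub.IsInverseOf LD (ClSub.idealMod D)) :
    0 ≤ FGA.intNum k X 2 ![(CohB1.tensorMod WX M), LD] (Coh.structureModule X) ∧
      (FGA.intNum k X 2 ![(CohB1.tensorMod WX M), LD] (Coh.structureModule X) = 0 →
        Curv2.euler k X (ClSub.quotMod D) = 1 ∧ FGA.intNum k X 2 ![LD, LD] (Coh.structureModule X) = -2) := by
  haveI : HasInjectiveResolutions X.Modules := KFlatLib.hasInjectiveResolutions_modules
  obtain ⟨c, hc'⟩ := hDv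
  haveI := hD
  obtain ⟨hpr, -, -, -⟩ := fibred_morphism k f hdimC
  haveI := hpr
  have hne : (D.support : Set X).Nonempty := by
    obtain ⟨z⟩ : Nonempty D.subscheme := inferInstance
    exact ⟨_, D.range_subschemeι.le ⟨z, rfl⟩⟩
  have hc : IsClosed ({c} : Set C) := by
    have h := f.isClosedMap _ D.support.isClosed
    have himg : f '' (D.support : Set X) = {c} :=
      Set.eq_singleton_iff_unique_mem.2 ⟨let ⟨x, hx⟩ := hne; ⟨x, hx, hc' x hx⟩,
        fun _ ⟨x, hx, e⟩ => e ▸ hc' x hx⟩
    rwa [himg] at h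
  have hsub : (D.support : Set X) ⊆ f ⁻¹' {c} := fun x hx => hc' x hx
  have hDi := SurfNef.invertible_ideal k hdim hD hD1
  obtain ⟨hneg, hzero⟩ := vertical_neg k f hdim hdimC hconn q₀ hq₀ g hg hWX hg2 c hc hD hD1 hsub
  have hadj := adjunction_h1 k hdim hWX hD hD1
  let i := D.subschemeι
  letI : D.subscheme.Over (Spec (CommRingCat.of k)) := ⟨i ≫ (X ↘ (Spec (CommRingCat.of k)))⟩
  haveI : IsProper (D.subscheme ↘ Spec (CommRingCat.of k)) :=
    inferInstanceAs (IsProper (i ≫ (X ↘ (Spec (CommRingCat.of k)))))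
  have hχD := SurfAdj.euler_curve_eq k D.subscheme (topologicalKrullDim_subscheme.trans hD1).le
  have hI := CurveOnSurf.euler_ideal (k := k) i
  rw [Scheme.IdealSheafData.ker_subschemeι] at hI
  haveI := CurveCohLib.isNoetherian_of_proper (k := k) (X := X)
  have hq := CurveBundle.euler_add' k _ _ _ (DivisorExt.ideal_shortExact D)
    (CurveDeg.isCoh_of_isInvertible hDi) QCoh.isCoh_structureModule' (ParShLib.isCoh_quotMod D)
  have h0 := SurfAdj.finrank_h0 k C
  have hΩ := CurveBC.isInvertible_omega k C hdimC h0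
  obtain ⟨D', hD', ⟨e⟩⟩ := H23.PicInv.exists_inverse hΩ
  have hcl : PicF.cl (Omega.sheaf (C ↘ Spec (CommRingCat.of k))) * PicF.cl D' = 1 := PicMul.cl_eq_iff.2 ⟨e⟩
  have hMcl : PicF.cl M = PicF.cl ((Scheme.Modules.pullback f).obj D') := by
    have h2 := congrArg (PicMul.pullHom f) hcl
    rw [map_mul, map_one] at h2
    exact left_inv_eq_right_inv (PicMul.cl_eq_iff.2 hM) h2
  have hMi : PicF.IsInvertible M :=
    PicMul.isInvertible_of_iso (PicMul.cl_eq_iff.1 hMcl).some.symm (PicClLib.isInvertible_pullback f hD')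
  have hWi := SurfAdj.isInvertible_W k hdim hWX
  have hWM := PicMul.isInvertible_tensor hWi hMi
  have hLDcl : PicF.cl (ClSub.idealMod D) * PicF.cl LD = 1 := (mul_comm _ _).trans (PicMul.cl_eq_iff.2 hLD)
  have hLDi : PicF.IsInvertible LD := by
    obtain ⟨J, hJ, ⟨eJ⟩⟩ := H23.PicInv.exists_inverse hDi
    exact PicMul.isInvertible_of_iso (PicMul.cl_eq_iff.1
      (left_inv_eq_right_inv (PicMul.cl_eq_iff.2 hLD) (show PicF.cl (ClSub.idealMod D) * PicF.cl J = 1 from PicMul.cl_eq_iff.2 ⟨eJ⟩))).some.symm hJ
  have h1 : FGA.intNum k X 2 ![(CohB1.tensorMod WX M), LD] (Coh.structureModule X) =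
      -SurfPairing.pair k (PicF.cl (ClSub.idealMod D)) (PicF.cl WX) := by
    rw [SurfPairing.intNum_eq_pair k hdim.le hWM hLDi, SurfPairing.pair_inv k hdim.le hWM hDi hLDi hLDcl,
      SurfPairing.pair_comm k (PicF.cl (CohB1.tensorMod WX M)), PicMul.cl_tensor,
      SurfPairing.pair_mul k hdim.le hDi hWi hMi, hMcl, vertical_pullback_pair k f hdim hdimC hD' c hc hD hD1 hsub, add_zero]
  have h2 : FGA.intNum k X 2 ![LD, LD] (Coh.structureModule X) =
      SurfPairing.pair k (PicF.cl (ClSub.idealMod D)) (PicF.cl (ClSub.idealMod D)) := by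
    rw [SurfPairing.intNum_eq_pair k hdim.le hLDi hLDi, SurfPairing.pair_inv k hdim.le hLDi hDi hLDi hLDcl,
      SurfPairing.pair_comm k (PicF.cl LD), SurfPairing.pair_inv k hdim.le hDi hDi hLDi hLDcl, neg_neg]
  have hm := hmin D hD hD1 ⟨c, hc'⟩
  rw [SurfPairing.intNum_eq_pair k hdim.le hDi hDi] at hm
  rw [h1, h2]
  change Curv2.euler k X (Coh.structureModule X) = _ + Curv2.euler k D.subscheme (Coh.structureModule D.subscheme) at hI
  rw [hχD] at hI
  change Curv2.euler k X (Coh.structureModule X) = Curv2.euler k X (ClSub.idealMod D) + Curv2.euler k X (ClSub.quotMod D) at hq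
  have hh : (0 : ℤ) ≤ Module.finrank k (Coh.HH D.subscheme (Coh.structureModule D.subscheme) 1) := Int.natCast_nonneg _
  rcases hneg.eq_or_lt with hb | hb
  · have ha := hzero hb
    exact ⟨by omega, fun h => absurd h (by omega)⟩
  · rcases hh.eq_or_lt with hh' | hh'
    · have hq1 : Curv2.euler k X (ClSub.quotMod D) = 1 := by omega
      have := hm hq1
      exact ⟨by omega, fun h => ⟨hq1, by omega⟩⟩
    · exact ⟨by omega, fun h => absurd h (by omega)⟩

end Groth.Agent.S15092
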