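import Groth.Statements.S15093
import Groth.Agent.FrobDiff16.Rows
-- import your own Groth.Agent.* helpers here

set_option autoImplicit false
set_option backward.isDefEq.respectTransparency false
set_option backward.isDefEq.respectTransparency.types false
universe u
open CategoryTheory CategoryTheory.Limits AlgebraicGeometry TopologicalSpace
open KodV

namespace Groth.Agent.S15093
open Groth.Agent

/-- Let k be an algebraically closed field of characteristic p > 0, X a proper integral scheme over k
all of whose local rings are integrally closed domains (a normal variety), and L an invertible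
O_X-module with tensor inverse L⁻¹. If H⁰(X, (L⁻¹)^{⊗p} ⊗ Ω¹_{X/k}) = 0 and H¹(X, (L⁻¹)^{⊗p}) = 0,
then H¹(X, L⁻¹) = 0. (The published statement is for a normal projective variety; properness is all
that is assumed here, the argument being local and cohomological.) -/
theorem result (k : Type u) [Field k] [IsAlgClosed k] (p : ℕ) [Fact p.Prime] [CharP k p]
    (X : Scheme.{u}) [X.Over (Spec (CommRingCat.of k))] [IsProper (X ↘ (Spec (CommRingCat.of k)))] [IsIntegral X] (hXn : Pi1.IsNormalScheme X)
    (L Linv : X.Modules) (hL : PicF.IsInvertible L) (hLinv : ClSub.IsInverseOf Linv L)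
    (h0 : Subsingleton (Coh.HH X (CohB1.tensorMod (CohB1.tensorPow Linv p) (Omega.sheaf (X ↘ (Spec (CommRingCat.of k))))) 0))
    (h1 : Subsingleton (Coh.HH X (CohB1.tensorPow Linv p) 1)) :
    Subsingleton (Coh.HH X Linv 1) := by
  haveI : FrobSch.IsCharP X p := FrobSch.IsCharP.of_hom (X ↘ (Spec (CommRingCat.of k))) p
  exact FrobDiff16.subsingleton_H1_inverse k p hXn L Linv hL hLinv h0 h1

end Groth.Agent.S15093
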