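import Groth.Statements.S15094
import Groth.Agent.FrobDiff16.Power
-- import your own Groth.Agent.* helpers here

set_option autoImplicit false
set_option backward.isDefEq.respectTransparency false
set_option backward.isDefEq.respectTransparency.types false
universe u
open CategoryTheory CategoryTheory.Limits AlgebraicGeometry TopologicalSpace
open KodV

namespace Groth.Agent.S15094
open Groth.Agent

/-- Let k be an algebraically closed field of characteristic p > 0, X a smooth proper integral scheme
over k, and L an invertible O_X-module with tensor inverse L⁻¹. If H⁰(X, (L⁻¹)^{⊗p^n} ⊗ Ω¹_{X/k}) =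
0 for every n ≥ 1 and H¹(X, (L⁻¹)^{⊗p^{n₀}}) = 0 for some n₀, then H¹(X, L⁻¹) = 0. (The published
statement says smooth projective variety over a field of characteristic p; smooth, proper and
integral over an algebraically closed field is assumed here, the setting of the proposition it is
deduced from.) -/
theorem result (k : Type u) [Field k] [IsAlgClosed k] (p : ℕ) [Fact p.Prime] [CharP k p]
    (X : Scheme.{u}) [X.Over (Spec (CommRingCat.of k))] [IsProper (X ↘ (Spec (CommRingCat.of k)))] [Smooth (X ↘ (Spec (CommRingCat.of k)))] [IsIntegral X]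
    (L Linv : X.Modules) (hL : PicF.IsInvertible L) (hLinv : ClSub.IsInverseOf Linv L)
    (h0 : ∀ n : ℕ, 1 ≤ n → Subsingleton (Coh.HH X (CohB1.tensorMod (CohB1.tensorPow Linv (p ^ n)) (Omega.sheaf (X ↘ (Spec (CommRingCat.of k))))) 0))
    (h1 : ∃ n₀ : ℕ, Subsingleton (Coh.HH X (CohB1.tensorPow Linv (p ^ n₀)) 1)) :
    Subsingleton (Coh.HH X Linv 1) := by
  have : FrobSch.IsCharP X p := FrobSch.IsCharP.of_hom (X ↘ (Spec (CommRingCat.of k))) p
  obtain ⟨n, hn⟩ := h1
  exact FrobDiff16.subsingleton_H1_inverse_pow k p X (FrobDiff16.isNormal_of_smooth_field (X ↘ (Spec (CommRingCat.of k)))) L Linv hL hLinv h0 n hn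

end Groth.Agent.S15094
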