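import Groth.Statements.S15098
import Groth.Agent.Lib.SurfNef

set_option autoImplicit false
set_option backward.isDefEq.respectTransparency false
set_option backward.isDefEq.respectTransparency.types false
set_option linter.style.haveILetI false
set_option linter.unusedSectionVars false
set_option maxHeartbeats 400000
universe u
open CategoryTheory CategoryTheory.Limits AlgebraicGeometry TopologicalSpace
open Surf

namespace Groth.Agent.S15098

open Groth.Agent.H23 Groth.Agent.H23.TrivBasic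
attribute [local instance] PicMul.clMonoid

/-- Let k be an algebraically closed field, X a smooth projective surface over k (integral, proper and
smooth, of dimension 2) and D an effective Cartier divisor on X, given by its ideal sheaf I_D, which
is numerically positive: (D·D) > 0 and (D·Γ) ≥ 0 for every integral curve Γ ⊆ X, that is χ(O_Γ ⊗
I_D) − χ(O_Γ) ≤ 0. Then D is numerically connected: whenever D = D₁ + D₂ with D₁, D₂ non-zero
effective Cartier divisors (I_D = I_{D₁}·I_{D₂} with both ideal sheaves different from O_X), (D₁·D₂)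
> 0. Intersection numbers of divisors are computed on their ideal sheaves: (D₁·D₂) = χ(O_X) −
χ(I_{D₁}) − χ(I_{D₂}) + χ(I_{D₁} ⊗ I_{D₂}). (The published lemma sits in a positive-characteristic
setting; its argument does not use the characteristic, so none is assumed here.) -/
theorem result (k : Type u) [Field k] [IsAlgClosed k]
    (X : Scheme.{u}) [X.Over (Spec (CommRingCat.of k))] [IsProper (X ↘ (Spec (CommRingCat.of k)))]
    [Smooth (X ↘ (Spec (CommRingCat.of k)))] [IsIntegral X] (hdim : topologicalKrullDim X = 2)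
    (D : X.IdealSheafData) (hD : FGA.IsEffCartier D)
    (hpos : 0 < FGA.intNum k X 2 ![(ClSub.idealMod D), (ClSub.idealMod D)] (Coh.structureModule X))
    (hnef : ∀ Γ : X.IdealSheafData, IsIntegral Γ.subscheme → topologicalKrullDim (Γ.support : Set X) = 1 →
      Curv2.euler k X (CohB1.tensorMod (ClSub.quotMod Γ) (ClSub.idealMod D)) - Curv2.euler k X (ClSub.quotMod Γ) ≤ 0)
    (D₁ D₂ : X.IdealSheafData) (hD₁ : FGA.IsEffCartier D₁) (hD₂ : FGA.IsEffCartier D₂)
    (hne₁ : D₁ ≠ ⊤) (hne₂ : D₂ ≠ ⊤) (hsum : D = D₁ * D₂) :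
    0 < FGA.intNum k X 2 ![(ClSub.idealMod D₁), (ClSub.idealMod D₂)] (Coh.structureModule X) := by
  obtain ⟨H, hH⟩ := SurfAdj.exists_ample k hdim
  have h₁ := (S8914.result D₁).2 hD₁
  have h₂ := (S8914.result D₂).2 hD₂
  have h₀ : PicF.IsInvertible (ClSub.idealMod D) := hsum ▸ IdealModMul.isInvertible_mul h₁ h₂
  have hcl : PicF.cl (ClSub.idealMod D) = PicF.cl (ClSub.idealMod D₁) * PicF.cl (ClSub.idealMod D₂) := by
    rw [hsum, IdealModMul.cl_mul h₁ h₂]
  have hinv : ∀ F : X.IdealSheafData, BlowUp.IsEffCartierIdeal F → PicF.IsInvertible (ClSub.idealMod F) →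
      ∃ L : X.Modules, PicF.IsInvertible L ∧ (∃ s : Γ(L, ⊤), s ≠ 0) ∧
        ∀ B : X.Modules, PicF.IsInvertible B →
          SurfPairing.pair k (PicF.cl B) (PicF.cl L) = -SurfPairing.pair k (PicF.cl B) (PicF.cl (ClSub.idealMod F)) := by
    intro F hF hFi
    obtain ⟨L, hL, hLF⟩ := PicInv.exists_inverse hFi
    obtain ⟨c⟩ := PicMul.comm L (ClSub.idealMod F)
    have hi : ClSub.IsInverseOf L (ClSub.idealMod F) := let ⟨e⟩ := hLF; ⟨c ≪≫ e⟩
    obtain ⟨s, hs0, -⟩ := AVAmple.exists_divisor_section_ne_zero F hF hL hi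
    exact ⟨L, hL, ⟨s, hs0⟩, fun B hB => SurfPairing.pair_inv k hdim.le hB hFi hL
      ((mul_comm _ _).trans (CurveOnSurf.isInvertible_of_inverse hFi hi).2)⟩
  obtain ⟨L₁, hL₁, ⟨s₁, hs₁⟩, e₁⟩ := hinv D₁ hD₁ h₁
  obtain ⟨L₂, hL₂, ⟨s₂, hs₂⟩, e₂⟩ := hinv D₂ hD₂ h₂
  set L := CohB1.tensorMod L₁ L₂
  have hL : PicF.IsInvertible L := PicMul.isInvertible_tensor hL₁ hL₂
  have e₀ : ∀ {B : X.Modules}, PicF.IsInvertible B →
      SurfPairing.pair k (PicF.cl B) (PicF.cl L) =
        SurfPairing.pair k (PicF.cl B) (PicF.cl L₁) + SurfPairing.pair k (PicF.cl B) (PicF.cl L₂) := fun hB => by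
    rw [PicMul.cl_tensor, SurfPairing.pair_mul k hdim.le hB hL₁ hL₂]
  have eD : ∀ {B : X.Modules}, PicF.IsInvertible B →
      SurfPairing.pair k (PicF.cl B) (PicF.cl L) = -SurfPairing.pair k (PicF.cl B) (PicF.cl (ClSub.idealMod D)) := fun hB => by
    rw [e₀ hB, hcl, SurfPairing.pair_mul k hdim.le hB h₁ h₂, e₁ _ hB, e₂ _ hB]
    ring
  have hnefL : SurfNef.Nef k L := fun Γ hΓ hΓd => by
    have hI := SurfNef.invertible_ideal k hdim hΓ hΓd
    have h := hnef Γ hΓ hΓd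
    rw [SurfNegDef.euler_quot_tensor (k := k) Γ hI h₀] at h
    rw [eD hI]
    linarith
  rw [SurfPairing.intNum_eq_pair k hdim.le h₁ h₂]
  have h12 : SurfPairing.pair k (PicF.cl (ClSub.idealMod D₁)) (PicF.cl (ClSub.idealMod D₂)) =
      SurfPairing.pair k (PicF.cl L₁) (PicF.cl L₂) := by
    rw [e₂ L₁ hL₁, SurfPairing.pair_comm k (PicF.cl L₁), e₁ _ h₂, SurfPairing.pair_comm k (PicF.cl (ClSub.idealMod D₂))]
    ring
  rw [h12]
  have hLL : 0 < SurfPairing.pair k (PicF.cl L) (PicF.cl L) := by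
    rw [SurfPairing.intNum_eq_pair k hdim.le h₀ h₀] at hpos
    rw [eD hL, SurfPairing.pair_comm, eD h₀]
    linarith
  have hH₁ : 0 < SurfPairing.pair k (PicF.cl L₁) (PicF.cl H) := by
    have := SurfNegDef.pair_divisor_ample_neg (k := k) hdim (SurfHodge.regular k) hD₁ hne₁ hH
    rw [SurfPairing.pair_comm, e₁ H hH.1, SurfPairing.pair_comm]
    linarith
  have hH₂ : 0 < SurfPairing.pair k (PicF.cl L₂) (PicF.cl H) := by
    have := SurfNegDef.pair_divisor_ample_neg (k := k) hdim (SurfHodge.regular k) hD₂ hne₂ hH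
    rw [SurfPairing.pair_comm, e₂ H hH.1, SurfPairing.pair_comm]
    linarith
  have ha := SurfNef.nef_section k hdim hL hnefL hL₁ hs₁
  have hb := SurfNef.nef_section k hdim hL hnefL hL₂ hs₂
  rw [SurfPairing.pair_comm, e₀ hL₁] at ha
  rw [SurfPairing.pair_comm, e₀ hL₂, SurfPairing.pair_comm k (PicF.cl L₂) (PicF.cl L₁)] at hb
  rw [e₀ hL, SurfPairing.pair_comm k (PicF.cl L) (PicF.cl L₁), e₀ hL₁, SurfPairing.pair_comm k (PicF.cl L) (PicF.cl L₂),
    e₀ hL₂, SurfPairing.pair_comm k (PicF.cl L₂) (PicF.cl L₁)] at hLL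
  set x := SurfPairing.pair k (PicF.cl L₁) (PicF.cl L₁) with hx
  set y := SurfPairing.pair k (PicF.cl L₁) (PicF.cl L₂) with hy
  set z := SurfPairing.pair k (PicF.cl L₂) (PicF.cl L₂) with hz
  by_contra hle
  rw [not_lt] at hle
  have horth0 : x + y = 0 → False := fun h0 => by
    have hLL₁ : SurfPairing.pair k (PicF.cl L) (PicF.cl L₁) = 0 := by
      rw [SurfPairing.pair_comm, e₀ hL₁, ← hx, ← hy, h0]
    have hLLpos : 0 < SurfPairing.pair k (PicF.cl L) (PicF.cl L) := by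
      rw [e₀ hL, SurfPairing.pair_comm k (PicF.cl L) (PicF.cl L₁), e₀ hL₁, SurfPairing.pair_comm k (PicF.cl L) (PicF.cl L₂),
        e₀ hL₂, SurfPairing.pair_comm k (PicF.cl L₂) (PicF.cl L₁), ← hx, ← hy, ← hz]
      exact hLL
    have := SurfHodge.hodge_index' (k := k) hdim hH hL hL₁ hLLpos hLL₁
    rw [← hx] at this
    have hx0 : x = 0 := by linarith
    exact hH₁.ne' (SurfAdj.pair_ample_eq_zero k hdim hH hL hL₁ hLLpos hLL₁ hx0)
  have horth1 : y + z = 0 → False := fun h0 => by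
    have hLL₂ : SurfPairing.pair k (PicF.cl L) (PicF.cl L₂) = 0 := by
      rw [SurfPairing.pair_comm, e₀ hL₂, SurfPairing.pair_comm k (PicF.cl L₂) (PicF.cl L₁), ← hy, ← hz, h0]
    have hLLpos : 0 < SurfPairing.pair k (PicF.cl L) (PicF.cl L) := by
      rw [e₀ hL, SurfPairing.pair_comm k (PicF.cl L) (PicF.cl L₁), e₀ hL₁, SurfPairing.pair_comm k (PicF.cl L) (PicF.cl L₂),
        e₀ hL₂, SurfPairing.pair_comm k (PicF.cl L₂) (PicF.cl L₁), ← hx, ← hy, ← hz]
      exact hLL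
    have := SurfHodge.hodge_index' (k := k) hdim hH hL hL₂ hLLpos hLL₂
    rw [← hz] at this
    have hz0 : z = 0 := by linarith
    exact hH₂.ne' (SurfAdj.pair_ample_eq_zero k hdim hH hL hL₂ hLLpos hLL₂ hz0)
  have hbpos : 0 < y + z := lt_of_le_of_ne hb (fun h => horth1 h.symm)
  have hapos : 0 < x + y := lt_of_le_of_ne ha (fun h => horth0 h.symm)
  -- the combination orthogonal to `L`
  obtain ⟨M₁, hM₁, f₁⟩ := SurfAdj.exists_smul k hdim.le hL₁ (y + z)
  obtain ⟨M₂, hM₂, f₂⟩ := SurfAdj.exists_smul k hdim.le hL₂ (-(x + y))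
  have hMi := PicMul.isInvertible_tensor hM₁ hM₂
  have hM : ∀ {B : X.Modules}, PicF.IsInvertible B →
      SurfPairing.pair k (PicF.cl B) (PicF.cl (CohB1.tensorMod M₁ M₂)) =
        (y + z) * SurfPairing.pair k (PicF.cl B) (PicF.cl L₁) + -(x + y) * SurfPairing.pair k (PicF.cl B) (PicF.cl L₂) :=
    fun hB => by rw [PicMul.cl_tensor, SurfPairing.pair_mul k hdim.le hB hM₁ hM₂, f₁ hB, f₂ hB]
  have hLM : SurfPairing.pair k (PicF.cl L) (PicF.cl (CohB1.tensorMod M₁ M₂)) = 0 := by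
    rw [hM hL, SurfPairing.pair_comm k (PicF.cl L) (PicF.cl L₁), e₀ hL₁, SurfPairing.pair_comm k (PicF.cl L) (PicF.cl L₂),
      e₀ hL₂, SurfPairing.pair_comm k (PicF.cl L₂) (PicF.cl L₁), ← hx, ← hy, ← hz]
    ring
  have := SurfHodge.hodge_index' (k := k) hdim hH hL hMi (by
    rw [e₀ hL, SurfPairing.pair_comm k (PicF.cl L) (PicF.cl L₁), e₀ hL₁, SurfPairing.pair_comm k (PicF.cl L) (PicF.cl L₂),
      e₀ hL₂, SurfPairing.pair_comm k (PicF.cl L₂) (PicF.cl L₁), ← hx, ← hy, ← hz]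
    exact hLL) hLM
  rw [hM hMi, SurfPairing.pair_comm k (PicF.cl (CohB1.tensorMod M₁ M₂)) (PicF.cl L₁), SurfPairing.pair_comm k (PicF.cl (CohB1.tensorMod M₁ M₂)) (PicF.cl L₂), hM hL₁, hM hL₂,
    SurfPairing.pair_comm k (PicF.cl L₂) (PicF.cl L₁), ← hx, ← hy, ← hz] at this
  have hx0 : 0 < x := by linarith
  have hz0 : 0 ≤ z := by linarith
  nlinarith [mul_pos (mul_pos hbpos hbpos) hx0, mul_nonneg (sq_nonneg (x + y)) hz0,
    mul_nonneg (mul_nonneg hapos.le hb) (neg_nonneg.2 hle)]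

end Groth.Agent.S15098
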