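import Groth.Statements.S15099
import Groth.Agent.SurfRows.NumConn
-- import your own Groth.Agent.* helpers here

set_option autoImplicit false
set_option backward.isDefEq.respectTransparency false
set_option backward.isDefEq.respectTransparency.types false
universe u
open CategoryTheory CategoryTheory.Limits AlgebraicGeometry TopologicalSpace
open Surf

namespace Groth.Agent.S15099

open Groth.Agent Groth.Agent.H23

attribute [local instance] PicMul.clMonoid

/-- Let k be an algebraically closed field, X a smooth projective surface over k (integral, proper and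
smooth, of dimension 2) and D a non-zero effective Cartier divisor on X (ideal sheaf I_D ≠ O_X)
which is numerically connected: whenever D = D₁ + D₂ with D₁, D₂ non-zero effective Cartier divisors
(I_D = I_{D₁}·I_{D₂}, both different from O_X), (D₁·D₂) = χ(O_X) − χ(I_{D₁}) − χ(I_{D₂}) + χ(I_{D₁}
⊗ I_{D₂}) > 0. Then H⁰(D, O_D) = k, i.e. it is one-dimensional over k (computed on X through the
direct image of O_D). (The published lemma sits in a positive-characteristic setting; the printed
argument does not use the characteristic, so none is assumed here.) -/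
theorem result (k : Type u) [Field k] [IsAlgClosed k]
    (X : Scheme.{u}) [X.Over (Spec (CommRingCat.of k))] [IsProper (X ↘ (Spec (CommRingCat.of k)))]
    [Smooth (X ↘ (Spec (CommRingCat.of k)))] [IsIntegral X] (hdim : topologicalKrullDim X = 2)
    (D : X.IdealSheafData) (hD : FGA.IsEffCartier D) (hD0 : D ≠ ⊤)
    (hnc : ∀ D₁ D₂ : X.IdealSheafData, FGA.IsEffCartier D₁ → FGA.IsEffCartier D₂ → D₁ ≠ ⊤ → D₂ ≠ ⊤ →
      D = D₁ * D₂ → 0 < FGA.intNum k X 2 ![(ClSub.idealMod D₁), (ClSub.idealMod D₂)] (Coh.structureModule X)) :
    Module.finrank k (Coh.HH X (ClSub.quotMod D) 0) = 1 := by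
  haveI := CurveCohLib.isNoetherian_of_proper (k := k) (X := X)
  have hO : PicF.IsInvertible (Coh.structureModule X) := InvX.isInvertible_structureModule
  have h := SurfRows.numConn k hdim hD hD0 (fun A B hA hB hA0 hB0 he => by
    have := hnc A B hA hB hA0 hB0 he
    rwa [SurfPairing.intNum_eq_pair k hdim.le ((S8914.result A).2 hA) ((S8914.result B).2 hB)] at this)
    hO (fun C _ _ _ => by rw [← PicMul.one_def, SurfPairing.pair_one])
  have hc : PicF.cl (CohB1.tensorMod (Coh.structureModule X) (ClSub.quotMod D)) = PicF.cl (ClSub.quotMod D) := by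
    rw [PicMul.cl_tensor, ← PicMul.one_def, one_mul]
  rw [SurfRows.h0_congr k hc] at h
  refine le_antisymm h.1 ?_
  haveI := CurveCohLib.finite_HH (k := k) (ParShLib.isCoh_quotMod D) 0
  refine Nat.one_le_iff_ne_zero.2 fun h0 => ?_
  haveI : Nonempty D.subscheme := by
    by_contra hne
    rw [not_nonempty_iff] at hne
    refine hD0 ((Scheme.IdealSheafData.support_eq_bot_iff (I := D)).1 (eq_bot_iff.2 fun x hx => ?_))
    obtain ⟨z, -⟩ := (Scheme.IdealSheafData.range_subschemeι D).ge hx
    exact isEmptyElim z
  haveI : Subsingleton (Coh.HH X (ClSub.quotMod D) 0) := Module.finrank_zero_iff.1 h0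
  exact CurveOnSurf.mapLin_toSubscheme_ne_zero (k := k) D (LinearMap.ext fun _ => Subsingleton.elim _ _)

end Groth.Agent.S15099
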