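import Mathlib.Algebra.Module.LocalizedModule.Exact
import Mathlib.RingTheory.Ideal.KrullsHeightTheorem
import Groth.Statements.S15100
-- import your own Groth.Agent.* helpers here

set_option autoImplicit false
universe u
open TensorProduct
open CAlg

namespace Groth.Agent.S15100

lemma coord_not_mem {A : Type u} [CommRing A] [IsDomain A] {M Q : Type u} [AddCommGroup M] [Module A M]
    [AddCommGroup Q] [Module A Q] (b : Module.Basis (Fin 2) A M) (π : M →ₗ[A] Q)
    (hπ : Function.Surjective π) (v : M) (hv : v ≠ 0) (hex : Function.Exact (LinearMap.toSpanSingleton A M v) π)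
    (P : Ideal A) [P.IsPrime]
    (hfree : Module.Free (Localization.AtPrime P) (LocalizedModule P.primeCompl Q)) :
    ¬ (b.repr v 0 ∈ P ∧ b.repr v 1 ∈ P) := by
  rintro ⟨h0, h1⟩
  let Ap := Localization P.primeCompl
  let S := P.primeCompl
  let gp := LocalizedModule.map S (LinearMap.toSpanSingleton A M v)
  let πp := LocalizedModule.map S π
  haveI : Module.Free Ap (LocalizedModule S Q) := hfree
  have hexp : Function.Exact gp πp := LocalizedModule.map_exact S _ _ hex
  have hsur : Function.Surjective πp := LocalizedModule.map_surjective S π hπ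
  obtain ⟨σ, hσ⟩ := Module.projective_lifting_property πp LinearMap.id hsur
  let vp : LocalizedModule S M := LocalizedModule.mk v 1
  have hrange : ∀ x, πp x = 0 → ∃ c : Ap, x = c • vp := by
    intro x hx
    obtain ⟨y, rfl⟩ := (hexp x).1 hx
    induction y using LocalizedModule.induction_on with
    | h r s =>
      refine ⟨Localization.mk r s, ?_⟩
      simp [gp, vp, Ap, S, LocalizedModule.mk_smul_mk]
  have hr : ∀ x, ∃ c : Ap, x - σ (πp x) = c • vp := fun x => hrange _ (by
    rw [map_sub, ← LinearMap.comp_apply, hσ]; simp)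
  have hπv : π v = 0 := (hex v).2 ⟨1, by simp⟩
  have hvp : πp vp = 0 := by simp [πp, vp, hπv]
  obtain ⟨c0, hc0⟩ := hr (LocalizedModule.mk (b 0) 1)
  obtain ⟨c1, hc1⟩ := hr (LocalizedModule.mk (b 1) 1)
  set a0 := algebraMap A Ap (b.repr v 0) with ha0
  set a1 := algebraMap A Ap (b.repr v 1) with ha1
  have hvexp : vp = a0 • LocalizedModule.mk (b 0) 1 + a1 • LocalizedModule.mk (b 1) 1 := by
    show LocalizedModule.mkLinearMap S M v = _
    conv_lhs => rw [← b.sum_repr v, Fin.sum_univ_two, map_add, map_smul, map_smul]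
    simp [a0, a1, algebraMap_smul, LocalizedModule.mkLinearMap_apply]
  have key : (1 - (a0 * c0 + a1 * c1)) • vp = 0 := by
    rw [sub_smul, one_smul, sub_eq_zero, add_smul, mul_smul, mul_smul, ← hc0, ← hc1]
    conv_lhs => rw [show vp = vp - σ (πp vp) by rw [hvp, map_zero, sub_zero]]
    conv_lhs => rw [hvexp]
    simp only [map_add, map_smul, smul_sub]
    abel
  have hmem : a0 * c0 + a1 * c1 ∈ IsLocalRing.maximalIdeal Ap :=
    add_mem (Ideal.mul_mem_right _ _ ((IsLocalization.AtPrime.to_map_mem_maximal_iff Ap P _).2 h0))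
      (Ideal.mul_mem_right _ _ ((IsLocalization.AtPrime.to_map_mem_maximal_iff Ap P _).2 h1))
  have hu : IsUnit (1 - (a0 * c0 + a1 * c1)) := by
    by_contra hn
    have := add_mem ((IsLocalRing.mem_maximalIdeal _).2 hn) hmem
    rw [sub_add_cancel] at this
    exact (IsLocalRing.maximalIdeal.isMaximal Ap).ne_top ((Ideal.eq_top_iff_one _).2 this)
  have hvp0 : LocalizedModule.mk v (1 : S) = 0 := hu.smul_eq_zero.1 key
  obtain ⟨t, ht⟩ := LocalizedModule.mk_eq.1 (hvp0.trans (LocalizedModule.zero_mk (M := M) (1 : S)).symm)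
  have ht' : (t : A) • v = 0 := by simpa [Submonoid.smul_def] using ht
  have : b.repr ((t : A) • v) = 0 := by rw [ht', map_zero]
  rw [map_smul, smul_eq_zero] at this
  rcases this with ht0 | hv0
  · exact t.2 (by rw [ht0]; exact P.zero_mem)
  · exact hv (b.repr.map_eq_zero_iff.1 hv0)

lemma free_of_isUnit {A : Type u} [CommRing A] [IsDomain A] {M Q : Type u} [AddCommGroup M] [Module A M]
    [AddCommGroup Q] [Module A Q] (b : Module.Basis (Fin 2) A M) (π : M →ₗ[A] Q)
    (hπ : Function.Surjective π) (v : M) (hex : Function.Exact (LinearMap.toSpanSingleton A M v) π)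
    (i j : Fin 2) (hij : i ≠ j) (hu : IsUnit (b.repr v i)) : Module.Free A Q := by
  let f : A →ₗ[A] Q := LinearMap.toSpanSingleton A Q (π (b j))
  have hv0 : π v = 0 := (hex v).2 ⟨1, by simp⟩
  have huniv : ∀ k : Fin 2, k = i ∨ k = j := by clear * - hij; revert hij; revert i j; decide
  refine Module.Free.of_equiv (LinearEquiv.ofBijective f ⟨?_, ?_⟩)
  · rw [injective_iff_map_eq_zero]
    intro c hc
    obtain ⟨d, hd⟩ := (hex (c • b j)).1 (by simpa [f] using hc)
    have hi := congrArg (fun m => b.repr m i) hd
    simp [hij.symm] at hi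
    rcases hi with rfl | h0
    · have hj := congrArg (fun m => b.repr m j) hd
      simpa using hj.symm
    · exact absurd h0 hu.ne_zero
  · rw [← LinearMap.range_eq_top, eq_top_iff]
    have hbj : π (b j) ∈ LinearMap.range f := ⟨1, by simp [f]⟩
    have hbi : π (b i) ∈ LinearMap.range f := by
      have h : v = b.repr v i • b i + b.repr v j • b j := by
        conv_lhs => rw [← b.sum_repr v]
        exact Fintype.sum_eq_add i j hij fun k ⟨h1, h2⟩ => absurd (huniv k) (by tauto)
      rw [h, map_add, map_smul, map_smul] at hv0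
      obtain ⟨w, hw⟩ := hu
      have h2 : π (b i) = (-((↑w⁻¹ : A) * b.repr v j)) • π (b j) := by
        have h3 := congrArg (fun q => (↑w⁻¹ : A) • q) hv0
        simp only [smul_add, smul_smul, smul_zero, ← hw, Units.inv_mul, one_smul] at h3
        rw [neg_smul]
        exact eq_neg_of_add_eq_zero_left h3
      rw [h2]
      exact Submodule.smul_mem _ _ hbj
    intro q _
    obtain ⟨m, rfl⟩ := hπ q
    have : (Submodule.span A (Set.range b)).map π ≤ LinearMap.range f := by
      rw [Submodule.map_span, Submodule.span_le]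
      rintro _ ⟨_, ⟨k, rfl⟩, rfl⟩
      rcases huniv k with rfl | rfl
      · exact hbi
      · exact hbj
    exact this ⟨m, by rw [b.span_eq]; trivial, rfl⟩

/-- Let V be a discrete valuation ring with uniformizer u and V → R → A commutative V-algebras with A an
R-algebra compatibly; assume A is a Noetherian local domain of Krull dimension 3 with u in its
maximal ideal, that Ω_{A/V} is a free A-module of rank 2 and that A ⊗_R Ω_{R/V} is a free A-module
of rank 1. Suppose that on the special fibre Ω_{A/R} is locally free exactly away from the closed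
point: for every prime P of A containing u other than the maximal ideal the localization (Ω_{A/R})_P
is free over A_P, while Ω_{A/R} is not free over A. Then Ω_{A/R} is not locally free on the generic
fibre: there is a prime Q of A not containing u with (Ω_{A/R})_Q not free over A_Q. (In the
published statement R is a regular local ring of dimension 2 and A a local ring of dimension 3, both
smooth over V, which yields the two freeness hypotheses used here, and the hypothesis is phrased as
local freeness of Ω of the special fibre of A over that of R away from the closed point.) -/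
theorem result
    (V R A : Type u) [CommRing V] [IsDomain V] [IsDiscreteValuationRing V] [CommRing R] [CommRing A]
    [IsDomain A] [IsNoetherianRing A] [IsLocalRing A]
    [Algebra V R] [Algebra V A] [Algebra R A] [IsScalarTower V R A]
    (u : V) (hu : Irreducible u) (huA : algebraMap V A u ∈ IsLocalRing.maximalIdeal A)
    (hdimA : ringKrullDim A = 3)
    (hΩA : Module.Free A (Ω[A⁄V])) (hrkA : Module.finrank A (Ω[A⁄V]) = 2)
    (hΩR : Module.Free A (A ⊗[R] Ω[R⁄V])) (hrkR : Module.finrank A (A ⊗[R] Ω[R⁄V]) = 1)
    (h0 : ∀ P : PrimeSpectrum A, algebraMap V A u ∈ P.asIdeal → P.asIdeal ≠ IsLocalRing.maximalIdeal A →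
      Module.Free (Localization.AtPrime P.asIdeal) (LocalizedModule P.asIdeal.primeCompl (Ω[A⁄R])))
    (hm : ¬ Module.Free A (Ω[A⁄R])) :
    ∃ Q : PrimeSpectrum A, algebraMap V A u ∉ Q.asIdeal ∧
      ¬ Module.Free (Localization.AtPrime Q.asIdeal) (LocalizedModule Q.asIdeal.primeCompl (Ω[A⁄R])) := by
  haveI := hΩA
  haveI := hΩR
  haveI : Module.Finite A (Ω[A⁄V]) := Module.finite_of_finrank_pos (by omega)
  haveI : Module.Finite A (A ⊗[R] Ω[R⁄V]) := Module.finite_of_finrank_pos (by omega)
  let b := Module.finBasisOfFinrankEq A (Ω[A⁄V]) hrkA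
  let n := Module.finBasisOfFinrankEq A (A ⊗[R] Ω[R⁄V]) hrkR
  let F := KaehlerDifferential.mapBaseChange V R A
  let π := KaehlerDifferential.map V R A A
  let v := F (n 0)
  have hπ : Function.Surjective π := KaehlerDifferential.map_surjective V R A
  have hex : Function.Exact (LinearMap.toSpanSingleton A (Ω[A⁄V]) v) π := by
    intro x
    rw [KaehlerDifferential.exact_mapBaseChange_map V R A x]
    constructor
    · rintro ⟨y, rfl⟩
      refine ⟨n.repr y 0, ?_⟩
      conv_rhs => rw [← n.sum_repr y]
      simp [v, F]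
    · rintro ⟨c, rfl⟩
      exact ⟨c • n 0, by simp [v, F]⟩
  by_contra hcon
  push Not at hcon
  by_cases hv : v = 0
  · apply hm
    refine Module.Free.of_equiv (LinearEquiv.ofBijective π ⟨?_, hπ⟩)
    rw [injective_iff_map_eq_zero]
    intro x hx
    obtain ⟨c, rfl⟩ := (hex x).1 hx
    simp [hv]
  set I : Ideal A := Ideal.span {b.repr v 0, b.repr v 1} with hI
  have hle : I ≤ IsLocalRing.maximalIdeal A := by
    rw [hI, Ideal.span_le]
    intro y hy
    by_contra hy'
    have hu : IsUnit y := IsLocalRing.notMem_maximalIdeal.1 hy'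
    rcases hy with rfl | hy
    · exact hm (free_of_isUnit b π hπ v hex 0 1 (by decide) hu)
    · rw [Set.mem_singleton_iff] at hy
      subst hy
      exact hm (free_of_isUnit b π hπ v hex 1 0 (by decide) hu)
  have hmin : ∀ P ∈ I.minimalPrimes, P = IsLocalRing.maximalIdeal A := by
    intro P hP
    haveI : P.IsPrime := hP.1.1
    by_contra hne
    have hfree : Module.Free (Localization.AtPrime P) (LocalizedModule P.primeCompl (Ω[A⁄R])) := by
      by_cases hu' : algebraMap V A u ∈ P
      · exact h0 ⟨P, inferInstance⟩ hu' hne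
      · exact hcon ⟨P, inferInstance⟩ hu'
    exact coord_not_mem b π hπ v hv hex P hfree
      ⟨hP.1.2 (Ideal.subset_span (by simp)), hP.1.2 (Ideal.subset_span (by simp))⟩
  obtain ⟨P, hP⟩ := Ideal.nonempty_minimalPrimes (I := I) (ne_top_of_le_ne_top (IsLocalRing.maximalIdeal.isMaximal A).ne_top hle)
  have hP' := hmin P hP
  subst hP'
  have hh := Ideal.height_le_card_of_mem_minimalPrimes_span (Set.toFinite _) hP
  have hc : ({b.repr v 0, b.repr v 1} : Set A).ncard ≤ 2 :=
    (Set.ncard_insert_le _ _).trans (by simp)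
  have h2 : ((IsLocalRing.maximalIdeal A).height : WithBot ℕ∞) ≤ ((2 : ℕ) : ℕ∞) :=
    WithBot.coe_le_coe.2 (hh.trans (by exact_mod_cast hc))
  rw [IsLocalRing.maximalIdeal_height_eq_ringKrullDim, hdimA] at h2
  norm_cast at h2

end Groth.Agent.S15100
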