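import Groth.Statements.S15104
import Groth.Agent.H26.H1Strict
import Groth.Agent.H26.ClosedConst
import Groth.Agent.H26.EulerGenus

set_option autoImplicit false
universe u
open CategoryTheory CategoryTheory.Limits AlgebraicGeometry
open Models

namespace Groth.Agent.S15104

/-- Let R be a discrete valuation ring with algebraically closed residue field k and fraction field K, C
a smooth proper curve over K with H⁰(C, O_C) = K and dim_K H¹(C, O_C) = g ≥ 2, and X → Spec R a
minimal regular model of C: a regular proper model none of whose vertical prime divisors is an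
exceptional curve of the first kind. Let Γ₁, …, Γ_n enumerate the irreducible components of the
closed fibre, with multiplicities r_i having gcd 1, and suppose the closed fibre is not reduced
(some r_i ≥ 2). Then dim_k H¹((X_k)_red, O) < g, the left side computed as the R-length of H¹(X, O_X
/ I) for I the ideal sheaf of the reduced closed fibre. (The published lemma states this for any
regular model with gcd(r_i) = 1; its proof uses, in the last step, that the component added last is
not an exceptional curve, the standing hypothesis of the result it serves, and the inequality fails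
after blowing up a node of a reduced semi-stable fibre, so minimality is assumed here.) -/
theorem result
    (R : Type u) [CommRing R] [IsDomain R] [IsDiscreteValuationRing R]
    (hk : IsAlgClosed (IsLocalRing.ResidueField R))
    (C : Scheme.{u}) (fC : C ⟶ (Spec (CommRingCat.of (FractionRing R)))) [IsProper fC] [Smooth fC]
    (hC0 : Models.hRank (FractionRing R) C fC (Coh.structureModule C) 0 = 1)
    (g : ℕ) (hg2 : 2 ≤ g) (hg : Models.curveGenus (FractionRing R) C fC = g)
    (X : Scheme.{u}) (p : X ⟶ (Spec (CommRingCat.of R))) (hX : Models.IsMinimalModel R X p C fC)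
    {n : ℕ} (Γ : Fin n → ArSurf.VertComp R (Over.mk p)) (hΓ : Models.IsComponentList R (Over.mk p) Γ)
    (hgcd : Models.multGcd R (Over.mk p) Γ = 1) (hnr : ∃ i, 2 ≤ Models.mult R (Over.mk p) (Γ i)) :
    Models.lengthH R (Over.mk p) (ClSub.quotMod (Models.redFibreIdeal R (Over.mk p))) 1 < g := by
  haveI := hk
  have hX' := hX.1
  obtain ⟨L, hL⟩ := Groth.Agent.H26.VertModel.exists_inverses hX' hΓ
  let D := Groth.Agent.H26.VertModel.mkData hX' hΓ L hL
  haveI : IsProper (Over.mk p).hom := hX'.2.1
  haveI : Flat (Over.mk p).hom := hX'.1.1
  have hconn : _root_.IsConnected (Models.specialFibreSet R (Over.mk p)) := by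
    haveI := Groth.Agent.ModelConn.geometricallyConnected_model p fC hX'
      (Groth.Agent.H26.ClosedConst.bijective_appTop_of_hRank fC hC0)
    exact Groth.Agent.H26.InterForm.isConnected_specialFibreSet (X := Over.mk p)
      (GeometricallyConnected.geometrically_connectedSpace (f := p) _ _ _ (IsPullback.of_hasPullback _ _))
  obtain ⟨s, c, hc0, hc1, -, hcf⟩ := Groth.Agent.H26.Chain.exists_fibre_chain D hconn
  obtain ⟨-, hprod⟩ := Groth.Agent.H26.FibreIdeal.result (Over.mk p) Γ hΓ hX'.2.2
  have hf1 : Groth.Agent.H26.Chain.Fld (Models.specialFibreIdeal R (Over.mk p)) := by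
    have h := hcf (Fin.last s)
    rw [hc1] at h
    simp only [hgcd, Nat.div_one] at h
    rwa [← hprod] at h
  have hf0 : Groth.Agent.H26.Chain.Fld (Models.redFibreIdeal R (Over.mk p)) := by
    rw [Groth.Agent.H26.RedFibre.redFibreIdeal_eq_prod (X := Over.mk p) hX'.2.2 hΓ]
    have h := hcf 0
    rw [hc0] at h
    simpa only [pow_one] using h
  obtain ⟨-, h2⟩ := Groth.Agent.H26.H1Strict.h1_red_le D hconn hgcd hX.2
    (Groth.Agent.H26.ClosedConst.lengthH_zero_eq_one hf0)
  refine lt_of_lt_of_le (h2 (Or.inl hnr)) (le_of_eq ?_)
  obtain ⟨-, -, -, gC, sq⟩ := hX'.1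
  have hchi := Groth.Agent.H26.EulerFibre.chi_fibre_eq (X := Over.mk p) fC gC sq
    (Groth.Agent.H26.EulerFibre.good_fibre D).1
  rw [Groth.Agent.H26.EulerFibre.chi, Groth.Agent.H26.ClosedConst.lengthH_zero_eq_one hf1, hC0] at hchi
  rw [← hg, Models.curveGenus]
  omega

end Groth.Agent.S15104
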