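import Groth.Statements.S15115
import Groth.Agent.ComodLib.Invariants
import Groth.Agent.ComodLib.Integral
-- import your own Groth.Agent.* helpers here

set_option autoImplicit false
universe u
open HopfRep

namespace Groth.Agent.S15115

open TensorProduct in
/-- Let k be an algebraically closed field, H a finite-dimensional commutative Hopf algebra over k all
of whose finite-dimensional comodules are semisimple (a finite linearly reductive group scheme G
over k), A a commutative k-algebra, and M an A-module with an H-coaction that is A-linear (G acts on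
M by A-module maps, A carrying the trivial action). Let A' be a commutative A-algebra and N = A' ⊗_A
M its base change, exhibited by an A-linear map φ : M → N, with the induced coaction: A'-linear and
compatible with φ. Then invariants commute with this base change: writing M^G for the A-submodule of
coinvariant elements of M, the natural map A' ⊗_A M^G → N, a' ⊗ m ↦ a' φ(m), is injective and its
image is exactly the set of coinvariant elements of N. (The published statement is the isomorphism
ρ^* π_* F → π'_* σ^* F for a tame Deligne–Mumford stack with coarse moduli space π and any base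
change ρ of the coarse space; this row is the statement about invariants to which its proof reduces
it, for modules that need not be finitely generated.) -/
theorem result (k : Type u) [Field k] [IsAlgClosed k]
    (H : Type u) [CommRing H] [HopfAlgebra k H] [Module.Finite k H] (hred : HopfRep.IsLinearlyReductive k H)
    (A : Type u) [CommRing A] [Algebra k A]
    (M : Type u) [AddCommGroup M] [Module k M] [Module A M] [IsScalarTower k A M] [HopfRep.Comod k H M]
    (hlin : ∀ (a : A) (m : M), HopfRep.Comod.coact (k := k) (A := H) (a • m) = a • HopfRep.Comod.coact (k := k) (A := H) m)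
    (A' : Type u) [CommRing A'] [Algebra k A'] [Algebra A A'] [IsScalarTower k A A']
    (N : Type u) [AddCommGroup N] [Module k N] [Module A N] [Module A' N]
    [IsScalarTower k A N] [IsScalarTower A A' N] [IsScalarTower k A' N] [HopfRep.Comod k H N]
    (φ : M →ₗ[A] N) (hφ : IsBaseChange A' φ)
    (hcomp : ∀ m : M, HopfRep.Comod.coact (k := k) (A := H) (φ m) =
      LinearMap.rTensor H (φ.restrictScalars k) (HopfRep.Comod.coact (k := k) (A := H) m))
    (hlinN : ∀ (a' : A') (n : N), HopfRep.Comod.coact (k := k) (A := H) (a' • n) = a' • HopfRep.Comod.coact (k := k) (A := H) n)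
    (P : Submodule A M) (hP : (P : Set M) = (HopfRep.fixedPts k H M : Set M)) :
    Function.Injective (TensorProduct.lift (((Algebra.lsmul A A N : A' →ₐ[A] Module.End A N).toLinearMap).compl₂ (φ ∘ₗ P.subtype))) ∧
      Set.range (TensorProduct.lift (((Algebra.lsmul A A N : A' →ₐ[A] Module.End A N).toLinearMap).compl₂ (φ ∘ₗ P.subtype))) =
        (HopfRep.fixedPts k H N : Set N) := by
  obtain ⟨α, hα, h1⟩ := Groth.Agent.ComodLib.exists_integral_of_isLinearlyReductive hred
  have hsl : ∀ (φ' : H →ₗ[k] k) (a : A) (y : TensorProduct k M H),
      Groth.Agent.ComodLib.slice φ' (a • y) = a • Groth.Agent.ComodLib.slice φ' y := by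
    intro φ' a y
    induction y using TensorProduct.induction_on with
    | zero => simp
    | tmul p q => rw [TensorProduct.smul_tmul', Groth.Agent.ComodLib.slice_tmul, Groth.Agent.ComodLib.slice_tmul, smul_comm]
    | add p q hp hq => simp only [smul_add, map_add, hp, hq]
  have hsl' : ∀ (φ' : H →ₗ[k] k) (a : A') (y : TensorProduct k N H),
      Groth.Agent.ComodLib.slice φ' (a • y) = a • Groth.Agent.ComodLib.slice φ' y := by
    intro φ' a y
    induction y using TensorProduct.induction_on with
    | zero => simp
    | tmul p q => rw [TensorProduct.smul_tmul', Groth.Agent.ComodLib.slice_tmul, Groth.Agent.ComodLib.slice_tmul, smul_comm]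
    | add p q hp hq => simp only [smul_add, map_add, hp, hq]
  let β : H →ₗ[k] k := α ∘ₗ HopfAlgebra.antipode k
  let EM : M →ₗ[A] M :=
    { toFun := Groth.Agent.ComodLib.rey α
      map_add' := map_add _
      map_smul' := fun a m => by
        show Groth.Agent.ComodLib.actF β (a • m) = a • Groth.Agent.ComodLib.actF β m
        rw [Groth.Agent.ComodLib.actF_apply, Groth.Agent.ComodLib.actF_apply, hlin, hsl] }
  have hEN : ∀ (a : A') (n : N), Groth.Agent.ComodLib.rey α (a • n) = a • Groth.Agent.ComodLib.rey α n := fun a n => by
    show Groth.Agent.ComodLib.actF β (a • n) = a • Groth.Agent.ComodLib.actF β n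
    rw [Groth.Agent.ComodLib.actF_apply, Groth.Agent.ComodLib.actF_apply, hlinN, hsl']
  have hφc : Hoch.IsComodHom H (φ.restrictScalars k) := LinearMap.ext fun m => hcomp m
  have hEφ : ∀ m, Groth.Agent.ComodLib.rey α (φ m) = φ (Groth.Agent.ComodLib.rey α m) := fun m =>
    (Groth.Agent.ComodLib.map_rey hφc m).symm
  have hmemP : ∀ m, Groth.Agent.ComodLib.rey α m ∈ P := fun m => by
    show Groth.Agent.ComodLib.rey α m ∈ (P : Set M)
    rw [hP]
    exact Groth.Agent.ComodLib.rey_mem_fixedPts hα m
  let r : M →ₗ[A] P := EM.codRestrict P hmemP
  have hri : r ∘ₗ P.subtype = LinearMap.id := LinearMap.ext fun p => Subtype.ext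
    (Groth.Agent.ComodLib.rey_of_fixed h1 (show (p : M) ∈ (HopfRep.fixedPts k H M : Set M) from hP ▸ p.2))
  set T := TensorProduct.lift (((Algebra.lsmul A A N : A' →ₐ[A] Module.End A N).toLinearMap).compl₂ (φ ∘ₗ P.subtype))
  have hT : ∀ (a : A') (p : P), T (a ⊗ₜ[A] p) = a • φ p := fun a p => rfl
  have hfix : ∀ z, Groth.Agent.ComodLib.rey α (T z) = T z := by
    intro z
    induction z using TensorProduct.induction_on with
    | zero => simp
    | tmul a p =>
      rw [hT, hEN, hEφ, Groth.Agent.ComodLib.rey_of_fixed h1 (show (p : M) ∈ (HopfRep.fixedPts k H M : Set M) from hP ▸ p.2)]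
    | add p q hp hq => simp only [map_add, hp, hq]
  have he : ∀ z, T z = hφ.equiv (P.subtype.lTensor A' z) := by
    intro z
    induction z using TensorProduct.induction_on with
    | zero => simp
    | tmul a p => rw [hT, LinearMap.lTensor_tmul, IsBaseChange.equiv_tmul]; rfl
    | add p q hp hq => simp only [map_add, hp, hq]
  refine ⟨fun z z' hz => ?_, ?_⟩
  · rw [he, he] at hz
    have h2 := congrArg (r.lTensor A') (hφ.equiv.injective hz)
    rwa [← LinearMap.lTensor_comp_apply, ← LinearMap.lTensor_comp_apply, hri, LinearMap.lTensor_id] at h2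
  · refine Set.Subset.antisymm ?_ fun n hn => ?_
    · rintro _ ⟨z, rfl⟩
      rw [← hfix z]
      exact Groth.Agent.ComodLib.rey_mem_fixedPts hα _
    · obtain ⟨z, rfl⟩ := hφ.equiv.surjective n
      rw [← Groth.Agent.ComodLib.rey_of_fixed h1 hn]
      clear hn
      induction z using TensorProduct.induction_on with
      | zero => exact ⟨0, by simp⟩
      | tmul a m =>
        exact ⟨a ⊗ₜ[A] ⟨_, hmemP m⟩, by rw [hT, IsBaseChange.equiv_tmul, hEN, hEφ]⟩
      | add p q hp hq =>
        obtain ⟨p', hp'⟩ := hp
        obtain ⟨q', hq'⟩ := hq
        exact ⟨p' + q', by rw [map_add, hp', hq', map_add, map_add]⟩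

end Groth.Agent.S15115
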