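import Groth.Statements.S15116
import Mathlib
-- import your own Groth.Agent.* helpers here

set_option autoImplicit false
universe u v
open NRGIT

namespace Groth.Agent.S15116

/-- Let k be a characteristic-zero field and A a commutative k-algebra, graded by the integers with all
pieces of positive degree zero, and D a k-derivation of A that raises degrees by a fixed positive
integer l. If no maximal ideal of A contains both every piece of negative degree and the image of D,
then there is f with D f = 1. (The published statement is for an affine variety with an action of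
the semidirect product of the additive and multiplicative groups, the multiplicative group acting on
the coordinate ring with non-positive weights and on the Lie algebra of the additive group with
positive weight: the derivation is a generator of that Lie algebra, the maximal ideals containing
the pieces of negative degree are the limit points under the multiplicative group, and a limit point
has trivial additive stabiliser exactly when the image of D is not contained in its ideal; this row
keeps only this algebraic content, for any such graded algebra. The first assertion of the published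
lemma, that every point has a limit in the variety under the multiplicative group as t → 0, is not
part of this row.) -/
theorem result (k : Type u) [Field k] [CharZero k]
    (A : Type v) [CommRing A] [Algebra k A] (𝒜 : ℤ → Submodule k A) [GradedAlgebra 𝒜]
    (hpos : ∀ i : ℤ, 0 < i → 𝒜 i = ⊥)
    (D : Derivation k A A) (l : ℤ) (hl : 0 < l)
    (hD : ∀ (i : ℤ) (a : A), a ∈ 𝒜 i → D a ∈ 𝒜 (i + l))
    (hfree : ∀ m : Ideal A, m.IsMaximal → (∀ i : ℤ, i < 0 → (𝒜 i : Set A) ⊆ m) → ∃ a : A, D a ∉ m) :
    ∃ f : A, D f = 1 := by
  classical
  let P : A → A := fun a => DirectSum.decompose 𝒜 a 0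
  have hP0 : ∀ a, P a ∈ 𝒜 0 := fun a => SetLike.coe_mem _
  have hPmul : ∀ a b, P (a * b) = P a * P b := by
    intro a b
    induction a using DirectSum.Decomposition.inductionOn (ℳ := 𝒜) with
    | zero => simp [P]
    | add x y hx hy => simp only [P, add_mul, DirectSum.decompose_add, DirectSum.add_apply, Submodule.coe_add] at *; rw [hx, hy]
    | @homogeneous i x =>
      induction b using DirectSum.Decomposition.inductionOn (ℳ := 𝒜) with
      | zero => simp [P]
      | add u v hu hv => simp only [P, mul_add, DirectSum.decompose_add, DirectSum.add_apply, Submodule.coe_add] at *; rw [hu, hv]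
      | @homogeneous j y =>
        rcases lt_trichotomy i 0 with hi | rfl | hi
        · rcases lt_or_ge 0 j with hj | hj
          · have : (y : A) = 0 := by have := y.2; simpa [hpos j hj] using this
            simp [P, this]
          · have h1 : P (x : A) = 0 := DirectSum.decompose_of_mem_ne 𝒜 x.2 hi.ne
            have h2 : P ((x : A) * y) = 0 := DirectSum.decompose_of_mem_ne 𝒜
              (SetLike.mul_mem_graded x.2 y.2) (show i + j ≠ 0 by omega)
            rw [h1, h2, zero_mul]
        · rw [show P (x : A) = x from DirectSum.decompose_of_mem_same 𝒜 x.2]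
          rcases eq_or_ne j 0 with rfl | hj
          · rw [show P (y : A) = y from DirectSum.decompose_of_mem_same 𝒜 y.2]
            exact DirectSum.decompose_of_mem_same 𝒜 (by simpa using SetLike.mul_mem_graded x.2 y.2)
          · rw [show P (y : A) = 0 from DirectSum.decompose_of_mem_ne 𝒜 y.2 hj, mul_zero]
            exact DirectSum.decompose_of_mem_ne 𝒜 (SetLike.mul_mem_graded x.2 y.2) (show (0 : ℤ) + j ≠ 0 by omega)
        · have : (x : A) = 0 := by have := x.2; simpa [hpos i hi] using this
          simp [P, this]
  let pr : A →+* A :=
    { toFun := P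
      map_one' := DirectSum.decompose_of_mem_same 𝒜 SetLike.GradedOne.one_mem
      map_mul' := hPmul
      map_zero' := by simp [P]
      map_add' := fun a b => by simp [P] }
  have hD0 : ∀ b ∈ 𝒜 0, D b = 0 := fun b hb => by
    have := hD 0 b hb
    rw [hpos (0 + l) (by omega)] at this
    simpa using this
  by_contra hcon
  let J : Ideal A :=
    { carrier := {a | ∃ f ∈ 𝒜 (-l), D f = P a}
      zero_mem' := ⟨0, Submodule.zero_mem _, by simp [P]⟩
      add_mem' := fun {a b} ⟨f, hf, hfa⟩ ⟨g, hg, hgb⟩ => ⟨f + g, Submodule.add_mem _ hf hg, by
        rw [map_add, hfa, hgb]; exact (map_add pr a b).symm⟩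
      smul_mem' := fun c a ⟨f, hf, hfa⟩ => ⟨P c * f, by
        simpa using SetLike.mul_mem_graded (A := 𝒜) (hP0 c) hf, by
        rw [Derivation.leibniz, hD0 _ (hP0 c), smul_zero, add_zero, smul_eq_mul, hfa, smul_eq_mul]
        exact (hPmul c a).symm⟩ }
  have hJ : J ≠ ⊤ := fun h => by
    obtain ⟨f, -, hf⟩ : (1 : A) ∈ J := h ▸ trivial
    exact hcon ⟨f, hf.trans (DirectSum.decompose_of_mem_same 𝒜 SetLike.GradedOne.one_mem)⟩
  obtain ⟨m, hm, hJm⟩ := Ideal.exists_le_maximal J hJ
  obtain ⟨a, ha⟩ := hfree m hm fun i hi x hx => hJm ⟨0, Submodule.zero_mem _, by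
    rw [map_zero]; exact (DirectSum.decompose_of_mem_ne 𝒜 hx hi.ne).symm⟩
  apply ha
  apply hJm
  refine ⟨DirectSum.decompose 𝒜 a (-l), SetLike.coe_mem _, ?_⟩
  have hPD : ∀ z, P (D z) = D (DirectSum.decompose 𝒜 z (-l) : A) := by
    intro z
    induction z using DirectSum.Decomposition.inductionOn (ℳ := 𝒜) with
    | zero => simp [P]
    | add x y hx hy => simp only [P, map_add, DirectSum.decompose_add, DirectSum.add_apply, Submodule.coe_add] at *; rw [hx, hy]
    | @homogeneous i x =>
      rcases eq_or_ne i (-l) with rfl | hi
      · rw [DirectSum.decompose_of_mem_same 𝒜 x.2]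
        exact DirectSum.decompose_of_mem_same 𝒜 (by simpa using hD _ _ x.2)
      · rw [DirectSum.decompose_of_mem_ne 𝒜 x.2 hi, map_zero]
        exact DirectSum.decompose_of_mem_ne 𝒜 (hD _ _ x.2) (show i + l ≠ 0 by omega)
  exact (hPD a).symm

end Groth.Agent.S15116
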