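import Groth.Statements.S15117
import Mathlib.RingTheory.Flat.Basic
-- import your own Groth.Agent.* helpers here

set_option autoImplicit false
universe u v w
open TensorProduct
open NRGIT

namespace Groth.Agent.S15117

/-- Let k be a field, π : A → B a map of commutative bialgebras over k, W a right A-comodule and V ⊆ W a
subcomodule all of whose elements are coinvariant for the B-coaction induced through π. Then the
coaction of every v ∈ V lies in V ⊗ A' ⊆ W ⊗ A, where A' ⊆ A is the set of elements a with (π ⊗
id)(Δ a) = 1 ⊗ a, i.e. coinvariant for the coaction of B on A through π on the left factor; the row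
states membership in the span of the pure tensors w ⊗ a with w ∈ V and a ∈ A'. (The published
statement is for a linear algebraic group H over an algebraically closed field of characteristic
zero, a normal subgroup N and an H-stable space V of N-invariant sections of a linearised line
bundle, with the coaction landing in O(H)^N ⊗ V, where O(H)^N is the ring of functions on H
invariant under N acting by right multiplication; this row is the comodule form, for any bialgebra
map over a field, where normality of N is not needed.) -/
theorem result (k : Type u) [Field k]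
    (A B : Type v) [CommRing A] [CommRing B] [Bialgebra k A] [Bialgebra k B] (π : A →ₐc[k] B)
    (W : Type w) [AddCommGroup W] [Module k W] [HopfRep.Comod k A W]
    (V : Submodule k W) (hV : HopfRep.IsSubcomod (k := k) (A := A) V)
    (hfix : ∀ v ∈ V, (π.toLinearMap.lTensor W) (HopfRep.Comod.coact (k := k) (A := A) v) = v ⊗ₜ[k] (1 : B))
    (v : W) (hv : v ∈ V) :
    HopfRep.Comod.coact (k := k) (A := A) v ∈
      Submodule.span k {x : W ⊗[k] A | ∃ w ∈ V, ∃ a : A,
        (π.toLinearMap.rTensor A) (Coalgebra.comul (R := k) a) = (1 : B) ⊗ₜ[k] a ∧ x = w ⊗ₜ[k] a} := by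
  obtain ⟨z, hz⟩ := hV v hv
  let D : A →ₗ[k] B ⊗[k] A := (π.toLinearMap.rTensor A) ∘ₗ Coalgebra.comul (R := k) - TensorProduct.mk k B A 1
  have hc := congrArg (LinearMap.lTensor W (π.toLinearMap.rTensor A))
    (LinearMap.congr_fun (HopfRep.Comod.coassoc (k := k) (A := A) (V := W)) v)
  simp only [LinearMap.comp_apply, LinearEquiv.coe_coe] at hc
  rw [← hz] at hc
  have hD : D.lTensor V z = 0 := by
    apply Module.Flat.rTensor_preserves_injective_linearMap (M := B ⊗[k] A) V.subtype V.injective_subtype
    rw [map_zero]
    have key1 : ∀ z : V ⊗[k] A, LinearMap.lTensor W (π.toLinearMap.rTensor A)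
        (TensorProduct.assoc k W A A ((HopfRep.Comod.coact (k := k) (A := A)).rTensor A (V.subtype.rTensor A z))) =
        V.subtype.rTensor (B ⊗[k] A) ((TensorProduct.mk k B A 1).lTensor V z) := fun z => by
      induction z using TensorProduct.induction_on with
      | zero => simp
      | add p q hp hq => simp only [map_add, hp, hq]
      | tmul x a =>
        have h2 : ∀ y : W ⊗[k] A, LinearMap.lTensor W (π.toLinearMap.rTensor A) (TensorProduct.assoc k W A A (y ⊗ₜ[k] a)) =
            TensorProduct.assoc k W B A (π.toLinearMap.lTensor W y ⊗ₜ[k] a) := fun y => by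
          induction y using TensorProduct.induction_on with
          | zero => simp
          | tmul p q => simp
          | add p q hp hq => simp only [TensorProduct.add_tmul, map_add, hp, hq]
        rw [LinearMap.rTensor_tmul, LinearMap.rTensor_tmul, h2, Submodule.subtype_apply, hfix x x.2]
        simp
    have key2 : ∀ z : V ⊗[k] A, LinearMap.lTensor W (π.toLinearMap.rTensor A)
        ((Coalgebra.comul (R := k)).lTensor W (V.subtype.rTensor A z)) =
        V.subtype.rTensor (B ⊗[k] A) ((π.toLinearMap.rTensor A ∘ₗ Coalgebra.comul (R := k)).lTensor V z) := fun z => by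
      induction z using TensorProduct.induction_on with
      | zero => simp
      | add p q hp hq => simp only [map_add, hp, hq]
      | tmul x a => simp
    rw [key1, key2] at hc
    rw [LinearMap.lTensor_sub, LinearMap.sub_apply, map_sub, hc, sub_self]
  obtain ⟨y, rfl⟩ := (Module.Flat.lTensor_exact V (LinearMap.exact_subtype_ker_map D) z).mp hD
  rw [← hz]
  clear hz hD hc
  induction y using TensorProduct.induction_on with
  | zero => simp
  | add p q hp hq => simpa only [map_add] using Submodule.add_mem _ hp hq
  | tmul x a =>
    refine Submodule.subset_span ⟨x, x.2, a, ?_, by simp⟩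
    exact sub_eq_zero.mp (LinearMap.mem_ker.mp a.2)

end Groth.Agent.S15117
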