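import Groth.Statements.S15121
import Mathlib.RingTheory.GradedAlgebra.Basic
-- import your own Groth.Agent.* helpers here

set_option autoImplicit false
universe u v w
open InvQ

namespace Groth.Agent.S15121

/-- Let k be a field of characteristic zero and A a commutative k-algebra graded by a finitely generated
free abelian group Λ (the character group of a torus acting on Spec A) whose grading monoid is
positive: if the pieces of degrees w and −w are both non-zero then w = 0. Let δ be a locally
nilpotent k-derivation of A (an action of the additive group) that is homogeneous of degree d, with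
the piece of degree d equal to zero (the graded condition on the Lie algebra weight). Suppose that
no maximal ideal of A contains both all graded pieces of non-zero degree and the image of δ (every
torus-fixed closed point has trivial stabiliser under the additive group). Then δ has a homogeneous
slice: some s of degree −d with δ s = 1. (The published statement is for the coordinate ring of an
affine variety over an algebraically closed field of characteristic zero and concludes moreover that
the quotient map by the additive group is a trivial principal bundle, which follows from the slice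
by a standard argument not restated here; this row keeps the algebraic content, for any such graded
algebra.) -/
theorem result
    (k : Type u) [Field k] [CharZero k]
    (A : Type v) [CommRing A] [Algebra k A]
    (Λ : Type w) [AddCommGroup Λ] [DecidableEq Λ] [Module.Free ℤ Λ] [Module.Finite ℤ Λ]
    (𝒜 : Λ → Submodule k A) [GradedAlgebra 𝒜]
    (hpos : ∀ w : Λ, 𝒜 w ≠ ⊥ → 𝒜 (-w) ≠ ⊥ → w = 0)
    (δ : Derivation k A A) (hnil : ∀ a : A, ∃ n : ℕ, ((δ : A →ₗ[k] A) ^ n) a = 0)
    (d : Λ) (hhom : ∀ (w : Λ) (a : A), a ∈ 𝒜 w → δ a ∈ 𝒜 (w + d)) (hd : 𝒜 d = ⊥)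
    (hfix : ∀ m : Ideal A, m.IsMaximal → (∀ w : Λ, w ≠ 0 → (𝒜 w : Set A) ⊆ m) → ¬ (Set.range δ ⊆ m)) :
    ∃ s ∈ 𝒜 (-d), δ s = 1 := by
  classical
  let π : A → A := fun a => ((DirectSum.decompose 𝒜 a 0 : 𝒜 0) : A)
  have hπadd : ∀ a b, π (a + b) = π a + π b := fun a b => by simp [π]
  have hπmul : ∀ a b, π (a * b) = π a * π b := by
    refine DirectSum.Decomposition.inductionOn 𝒜 (fun b => by simp [π]) (fun {i} x b => ?_) (fun a a' ha ha' b => ?_)
    · refine DirectSum.Decomposition.inductionOn 𝒜 (by simp [π]) (fun {j} y => ?_) (fun c c' hc hc' => ?_) b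
      · simp only [π]
        by_cases hi : i = 0
        · subst hi
          by_cases hj : j = 0
          · subst hj
            rw [DirectSum.decompose_of_mem_same 𝒜 x.2, DirectSum.decompose_of_mem_same 𝒜 y.2,
              DirectSum.decompose_of_mem_same 𝒜 (by simpa using SetLike.GradedMul.mul_mem x.2 y.2)]
          · rw [DirectSum.decompose_of_mem_ne 𝒜 y.2 hj, mul_zero,
              DirectSum.decompose_of_mem_ne 𝒜 (SetLike.GradedMul.mul_mem x.2 y.2) (by simpa using hj)]
        · rw [DirectSum.decompose_of_mem_ne 𝒜 x.2 hi, zero_mul]
          by_cases hij : i + j = 0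
          · have hxy : (x : A) * (y : A) = 0 := by
              by_contra hne
              refine hi (hpos i (fun e => ?_) fun e => ?_)
              · have := x.2; simp only [e, Submodule.mem_bot] at this; rw [this, zero_mul] at hne; exact hne rfl
              · have hj : j = -i := by rw [eq_neg_iff_add_eq_zero, add_comm]; exact hij
                have this : (y : A) ∈ 𝒜 (-i) := hj ▸ y.2
                simp only [e, Submodule.mem_bot] at this; rw [this, mul_zero] at hne; exact hne rfl
            rw [hxy, DirectSum.decompose_zero]; rfl
          · rw [DirectSum.decompose_of_mem_ne 𝒜 (SetLike.GradedMul.mul_mem x.2 y.2) hij]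
      · simp only [mul_add, hπadd, hc, hc']
    · simp only [add_mul, hπadd, ha b, ha' b]
  let K : Ideal A :=
    { carrier := {a | ∃ s ∈ 𝒜 (-d), δ s = π a}
      zero_mem' := ⟨0, Submodule.zero_mem _, by simp [π]⟩
      add_mem' := by
        rintro a b ⟨s, hs, e⟩ ⟨t, ht, e'⟩
        exact ⟨s + t, Submodule.add_mem _ hs ht, by rw [map_add, e, e', hπadd]⟩
      smul_mem' := by
        rintro b a ⟨s, hs, e⟩
        refine ⟨π b * s, by simpa using SetLike.GradedMul.mul_mem (DirectSum.decompose 𝒜 b 0).2 hs, ?_⟩
        have h0 : δ (π b) = 0 := by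
          have := hhom 0 (π b) (DirectSum.decompose 𝒜 b 0).2
          rwa [zero_add, hd, Submodule.mem_bot] at this
        rw [Derivation.leibniz, h0, e, smul_zero, add_zero, smul_eq_mul, smul_eq_mul, hπmul] }
  by_contra hno
  have hK : K ≠ ⊤ := fun e => hno (by
    obtain ⟨s, hs, hs'⟩ := (Ideal.eq_top_iff_one K).1 e
    exact ⟨s, hs, hs'.trans (by simp [π, DirectSum.decompose_of_mem_same 𝒜 (SetLike.GradedOne.one_mem (A := 𝒜))])⟩)
  obtain ⟨m, hm, hKm⟩ := Ideal.exists_le_maximal K hK
  refine hfix m hm (fun w hw a ha => hKm ⟨0, Submodule.zero_mem _, ?_⟩) ?_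
  · rw [map_zero]
    exact (DirectSum.decompose_of_mem_ne 𝒜 ha hw).symm
  · rintro _ ⟨a, rfl⟩
    refine hKm ?_
    induction a using DirectSum.Decomposition.inductionOn 𝒜 with
    | zero => rw [map_zero]; exact K.zero_mem
    | @homogeneous w x =>
      have hx := hhom w x x.2
      by_cases hw : w + d = 0
      · rw [hw] at hx
        exact ⟨x, eq_neg_of_add_eq_zero_left hw ▸ x.2, (DirectSum.decompose_of_mem_same 𝒜 hx).symm⟩
      · exact ⟨0, Submodule.zero_mem _, by rw [map_zero]; exact (DirectSum.decompose_of_mem_ne 𝒜 hx hw).symm⟩
    | add a b ha hb => rw [map_add]; exact K.add_mem ha hb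

end Groth.Agent.S15121
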