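import Groth.Statements.S15122
import Mathlib
-- import your own Groth.Agent.* helpers here

set_option autoImplicit false
universe u v w
open GIT

namespace Groth.Agent.S15122

/-- Let R be a commutative ring, A a commutative R-algebra graded by the natural numbers, σ a
homogeneous element of degree zero, and B the localisation of A away from σ, equipped with a grading
by the natural numbers for which the localisation map ι : A → B is a graded ring homomorphism (such
a grading is necessarily the one induced from A). Then the homogeneous ideal of B generated by the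
image of the irrelevant ideal of A is the whole irrelevant ideal of B; in other words the induced
rational map from Proj B to Proj A is defined everywhere. (The published statement also assumes σ a
non-zero-divisor, which this step does not use, and goes on to conclude that Proj B → Proj A is an
open immersion onto the basic open set of σ.) -/
theorem result
    (R : Type u) (A : Type v) (B : Type w) [CommRing R] [CommRing A] [CommRing B] [Algebra R A] [Algebra R B]
    [Algebra A B] [IsScalarTower R A B]
    (𝒜 : ℕ → Submodule R A) [GradedAlgebra 𝒜] (ℬ : ℕ → Submodule R B) [GradedAlgebra ℬ]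
    (σ : A) (hσ0 : σ ∈ 𝒜 0) [IsLocalization.Away σ B]
    (ι : 𝒜 →+*ᵍ ℬ) (hι : ∀ a : A, ι a = algebraMap A B a) :
    (HomogeneousIdeal.irrelevant 𝒜).map ι = HomogeneousIdeal.irrelevant ℬ := by
  classical
  apply HomogeneousIdeal.toIdeal_injective
  show Ideal.map ι (HomogeneousIdeal.irrelevant 𝒜).toIdeal = _
  refine le_antisymm (Ideal.map_le_iff_le_comap.2 fun a ha => ?_) fun b hb => ?_
  · rw [Ideal.mem_comap, HomogeneousIdeal.mem_iff, HomogeneousIdeal.mem_irrelevant_iff] at *
    rw [GradedRing.proj_apply] at ha ⊢
    rw [← GradedRingHom.map_directSumDecompose (𝒜 := 𝒜) (ℬ := ℬ) ι, ha, map_zero]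
  · rw [HomogeneousIdeal.mem_iff, HomogeneousIdeal.mem_irrelevant_iff, GradedRing.proj_apply] at hb
    rw [← DirectSum.sum_support_decompose ℬ b]
    refine Submodule.sum_mem _ fun i hi => ?_
    rcases eq_or_ne i 0 with rfl | hi0
    · rw [hb]; exact Submodule.zero_mem _
    set c := (DirectSum.decompose ℬ b i : B) with hc
    obtain ⟨⟨a, ⟨_, N, rfl⟩⟩, hA⟩ := IsLocalization.surj (Submonoid.powers σ) c
    let a' : A := DirectSum.decompose 𝒜 a i
    have ha' : a' ∈ (HomogeneousIdeal.irrelevant 𝒜).toIdeal := by
      rw [HomogeneousIdeal.mem_iff, HomogeneousIdeal.mem_irrelevant_iff, GradedRing.proj_apply]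
      exact DirectSum.decompose_of_mem_ne 𝒜 (SetLike.coe_mem _) hi0
    have hσN : ι (σ ^ N) ∈ ℬ 0 := by
      have := SetLike.pow_mem_graded N (show ι σ ∈ ℬ 0 from GradedFunLike.map_mem ι hσ0)
      rw [map_pow]; simpa using this
    have h1 : c * ι (σ ^ N) = ι a' := by
      have hm : c * ι (σ ^ N) ∈ ℬ i := by
        simpa using SetLike.mul_mem_graded (A := ℬ) (SetLike.coe_mem _) hσN
      have h2 : c * ι (σ ^ N) = ι a := by rw [hι, hι]; exact hA
      rw [show ι a' = (DirectSum.decompose ℬ (ι a) i : B) from GradedRingHom.map_directSumDecompose (𝒜 := 𝒜) (ℬ := ℬ) ι, ← h2,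
        DirectSum.decompose_of_mem_same ℬ hm]
    have hu : IsUnit (ι (σ ^ N)) := by
      rw [hι]; exact IsLocalization.map_units B (⟨σ ^ N, N, rfl⟩ : Submonoid.powers σ)
    rw [show c = ι a' * (hu.unit⁻¹ : Bˣ) by rw [← h1, mul_assoc, IsUnit.mul_val_inv, mul_one]]
    exact Ideal.mul_mem_right _ _ (Ideal.mem_map_of_mem ι ha')

end Groth.Agent.S15122
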