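import Groth.Agent.TorusWeights.Basic
import Groth.Statements.S15123
-- import your own Groth.Agent.* helpers here

set_option autoImplicit false
universe u v w
open InvQ

namespace Groth.Agent.S15123

/-- Let k be an algebraically closed field of characteristic zero, Λ a finitely generated free abelian
group and k[Λ] its group algebra, the coordinate Hopf algebra of the torus with character group Λ.
Let R be a reduced finitely generated commutative k-algebra with a multiplicative coaction of k[Λ]
(an action of the torus on the affine variety Spec R), and suppose the grading monoid is positive:
if R has a non-zero eigenvector of weight w and one of weight −w then w = 0. Then for every k-point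
x of Spec R, the orbit of x is closed if and only if x is a fixed point. (The published statement
also asserts that the fixed-point subvariety is affine and is a good quotient for the action; only
the description of the closed orbits is stated here.) -/
theorem result
    (k : Type u) [Field k] [IsAlgClosed k] [CharZero k]
    (Λ : Type v) [AddCommGroup Λ] [Module.Free ℤ Λ] [Module.Finite ℤ Λ]
    (R : Type w) [CommRing R] [Algebra k R] [Algebra.FiniteType k R] [IsReduced R]
    [HopfRep.Comod k (AddMonoidAlgebra k Λ) R] [GLin.IsCoactAlg k (AddMonoidAlgebra k Λ) R]
    (hpos : ∀ w : Λ, HopfRep.eigenspace k (AddMonoidAlgebra k Λ) R (AddMonoidAlgebra.single w 1) ≠ ⊥ →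
      HopfRep.eigenspace k (AddMonoidAlgebra k Λ) R (AddMonoidAlgebra.single (-w) 1) ≠ ⊥ → w = 0)
    (x : R →ₐ[k] k) :
    GLin.IsClosedOrbit k (AddMonoidAlgebra k Λ) x ↔ GLin.IsFixedPt k (AddMonoidAlgebra k Λ) x := by
  exact Groth.Agent.TorusWeights.isClosedOrbit_iff_isFixedPt hpos x

end Groth.Agent.S15123
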