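import Groth.Statements.S15125
import Mathlib.RingTheory.Unramified.Field
import Mathlib.RingTheory.Filtration
import Mathlib.RingTheory.AdicCompletion.Basic
import Mathlib.FieldTheory.SeparableClosure
import Mathlib.FieldTheory.IntermediateField.Adjoin.Algebra
import Mathlib.Algebra.Polynomial.Identities
import Mathlib.RingTheory.Kaehler.Basic
import Mathlib.LinearAlgebra.TensorProduct.Basis

set_option autoImplicit false
universe u
open scoped TensorProduct
open Fields

namespace Groth.Agent.S15125

open Polynomial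

section field

variable {K L : Type u} [Field K] [Field L] [Algebra K L]

/-- If `x ⊗ 1 - 1 ⊗ x` is killed by an element outside the diagonal ideal, then so it is already
in `M ⊗ M` for any intermediate field `M` containing `x`. -/
theorem descend (M : Type u) [Field M] [Algebra K M] [Algebra M L] [IsScalarTower K M L]
    (x : M) (s : L ⊗[K] L)
    (hs : s * (algebraMap M L x ⊗ₜ[K] (1 : L) - (1 : L) ⊗ₜ[K] algebraMap M L x) = 0)
    (hμ : Algebra.TensorProduct.lmul' (S := L) K s ≠ 0) :
    ∃ c : M ⊗[K] M, c * (x ⊗ₜ[K] (1 : M) - (1 : M) ⊗ₜ[K] x) = 0 ∧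
      Algebra.TensorProduct.lmul' (S := M) K c ≠ 0 := by
  classical
  let e := Module.Free.chooseBasis M L
  let π : Module.Free.ChooseBasisIndex M L → (L →ₗ[M] M) := fun a => e.coord a
  let Pr : Module.Free.ChooseBasisIndex M L → Module.Free.ChooseBasisIndex M L →
      (L ⊗[K] L →ₗ[K] M ⊗[K] M) := fun a b =>
    TensorProduct.map ((π a).restrictScalars K) ((π b).restrictScalars K)
  have hlin : ∀ a b (t : L ⊗[K] L), Pr a b (t * (algebraMap M L x ⊗ₜ[K] (1 : L) - (1 : L) ⊗ₜ[K] algebraMap M L x)) =
      Pr a b t * (x ⊗ₜ[K] (1 : M) - (1 : M) ⊗ₜ[K] x) := by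
    intro a b t
    induction t with
    | zero => simp
    | add u v hu hv => rw [add_mul, map_add, hu, hv, map_add, add_mul]
    | tmul l r =>
      have h1 : ∀ (q : L) (a : Module.Free.ChooseBasisIndex M L),
          π a (q * algebraMap M L x) = π a q * x := by
        intro q a
        rw [show q * algebraMap M L x = x • q by rw [Algebra.smul_def, mul_comm], map_smul,
          smul_eq_mul, mul_comm]
      simp [Pr, mul_sub, h1]
  by_contra! hc
  apply hμ
  let Ψ : L ⊗[K] L →ₗ[K] L ⊗[M] L :=
    TensorProduct.lift ((TensorProduct.mk M L L).restrictScalars₁₂ K K)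
  have hfac : ∀ t : L ⊗[K] L, Algebra.TensorProduct.lmul' (S := L) K t =
      Algebra.TensorProduct.lmul' (S := L) M (Ψ t) := by
    intro t
    induction t with
    | zero => simp
    | add u v hu hv => rw [map_add, hu, hv, map_add, map_add]
    | tmul l r => simp [Ψ]
  have hrepr : ∀ (t : L ⊗[K] L) a b, (e.tensorProduct e).repr (Ψ t) (a, b) =
      Algebra.TensorProduct.lmul' (S := M) K (Pr a b t) := by
    intro t a b
    induction t with
    | zero => simp
    | add u v hu hv => simp only [map_add, Finsupp.add_apply, hu, hv]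
    | tmul l r => simp [Ψ, Pr, π, Module.Basis.tensorProduct_repr_tmul_apply, mul_comm]
  rw [hfac, show Ψ s = 0 from (e.tensorProduct e).ext_elem fun ⟨a, b⟩ => by
    rw [hrepr, map_zero, Finsupp.zero_apply]
    exact hc _ (by rw [← hlin, hs, map_zero]), map_zero]

/-- An element killing `x ⊗ 1 - 1 ⊗ x` kills `dx`. -/
theorem smul_D_eq_zero {k A : Type u} [CommRing k] [CommRing A] [Algebra k A] (x : A) (c : A ⊗[k] A)
    (hc : c * (x ⊗ₜ[k] (1 : A) - (1 : A) ⊗ₜ[k] x) = 0) :
    Algebra.TensorProduct.lmul' (S := A) k c • KaehlerDifferential.D k A x = 0 := by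
  let Φ : A ⊗[k] A →ₗ[k] Ω[A⁄k] := TensorProduct.lift
    (LinearMap.mk₂ k (fun a b => a • KaehlerDifferential.D k A b)
      (fun a a' b => add_smul _ _ _) (fun r a b => smul_assoc _ _ _)
      (fun a b b' => by rw [map_add, smul_add])
      (fun r a b => by rw [Derivation.map_smul, smul_comm]))
  have hΦ : ∀ t : A ⊗[k] A, Φ (t * (x ⊗ₜ[k] (1 : A) - (1 : A) ⊗ₜ[k] x)) =
      -(Algebra.TensorProduct.lmul' (S := A) k t • KaehlerDifferential.D k A x) := by
    intro t
    induction t with
    | zero => simp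
    | add u v hu hv => rw [add_mul, map_add, hu, hv, map_add, add_smul, neg_add]
    | tmul a b =>
      simp only [mul_sub, Algebra.TensorProduct.tmul_mul_tmul, mul_one, map_sub, Φ,
        TensorProduct.lift.tmul, LinearMap.mk₂_apply, Algebra.TensorProduct.lmul'_apply_tmul,
        Derivation.leibniz, smul_add, smul_smul]
      abel
  have h0 := hΦ c
  rw [hc, map_zero, zero_eq_neg] at h0
  exact h0

/-- A field generated by an element `x` with `x ⊗ 1 - 1 ⊗ x` killed off the diagonal is separable. -/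
theorem isSeparable_of_generator {M : Type u} [Field M] [Algebra K M] (x : M)
    (hgen : IntermediateField.adjoin K {x} = ⊤) (c : M ⊗[K] M)
    (hc : c * (x ⊗ₜ[K] (1 : M) - (1 : M) ⊗ₜ[K] x) = 0)
    (hμ : Algebra.TensorProduct.lmul' (S := M) K c ≠ 0) : IsSeparable K x := by
  have h0 : KaehlerDifferential.D K M x = 0 :=
    (smul_eq_zero.1 (smul_D_eq_zero x c hc)).resolve_left hμ
  let F : IntermediateField K M :=
    { carrier := {m | KaehlerDifferential.D K M m = 0}
      one_mem' := Derivation.map_one_eq_zero _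
      zero_mem' := map_zero _
      add_mem' := fun {a b} ha hb => by
        simp only [Set.mem_setOf_eq] at ha hb ⊢; rw [map_add, ha, hb, add_zero]
      mul_mem' := fun {a b} ha hb => by
        simp only [Set.mem_setOf_eq] at ha hb ⊢
        rw [Derivation.leibniz, ha, hb, smul_zero, smul_zero, add_zero]
      algebraMap_mem' := fun r => Derivation.map_algebraMap _ r
      inv_mem' := fun a ha => by
        simp only [Set.mem_setOf_eq] at ha ⊢; rw [Derivation.leibniz_inv, ha, smul_zero] }
  have hF : F = ⊤ := top_le_iff.1 (hgen ▸ IntermediateField.adjoin_le_iff.2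
    (Set.singleton_subset_iff.2 h0))
  haveI : Algebra.FormallyUnramified K M := by
    rw [Algebra.formallyUnramified_iff]
    refine ⟨fun a b => ?_⟩
    have hall : ∀ z : Ω[M⁄K], z = 0 := fun z => by
      have : z ∈ (⊤ : Submodule M Ω[M⁄K]) := Submodule.mem_top
      rw [← KaehlerDifferential.span_range_derivation, Submodule.span_eq_bot.2 (by
        rintro _ ⟨m, rfl⟩; exact (hF.symm ▸ IntermediateField.mem_top : m ∈ F))] at this
      exact (Submodule.mem_bot M).1 this
    rw [hall a, hall b]
  haveI : Algebra.EssFiniteType K M := IntermediateField.fg_top_iff.1 ⟨{x}, by simpa using hgen⟩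
  haveI := Algebra.FormallyUnramified.isSeparable K M
  exact Algebra.IsSeparable.isSeparable K x

theorem isSeparable_of_killed_aux (M : Type u) [Field M] [Algebra K M] [Algebra M L]
    [IsScalarTower K M L] (x : M) (hgen : IntermediateField.adjoin K {x} = ⊤) (s : L ⊗[K] L)
    (hs : s * (algebraMap M L x ⊗ₜ[K] (1 : L) - (1 : L) ⊗ₜ[K] algebraMap M L x) = 0)
    (hμ : Algebra.TensorProduct.lmul' (S := L) K s ≠ 0) : IsSeparable K (algebraMap M L x) := by
  obtain ⟨c, hc, hcμ⟩ := descend M x s hs hμ
  exact IsSeparable.map (IsScalarTower.toAlgHom K M L) (algebraMap M L).injective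
    (isSeparable_of_generator x hgen c hc hcμ)

theorem adjoin_gen_eq_top (x : L) :
    IntermediateField.adjoin K {IntermediateField.AdjoinSimple.gen K x} = ⊤ := by
  refine IntermediateField.lift_injective _ ?_
  rw [IntermediateField.lift_adjoin_simple, IntermediateField.lift_top,
    IntermediateField.AdjoinSimple.coe_gen]

/-- If `x ⊗ 1 - 1 ⊗ x` is killed off the diagonal, then `x` is separable. -/
theorem isSeparable_of_killed (x : L) (s : L ⊗[K] L)
    (hs : s * (x ⊗ₜ[K] (1 : L) - (1 : L) ⊗ₜ[K] x) = 0)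
    (hμ : Algebra.TensorProduct.lmul' (S := L) K s ≠ 0) : IsSeparable K x := by
  rw [← IntermediateField.AdjoinSimple.algebraMap_gen K x] at hs ⊢
  exact isSeparable_of_killed_aux _ _ (adjoin_gen_eq_top x) s hs hμ

theorem exists_killer_of_isSeparable (x : L) (hx : IsSeparable K x) :
    ∃ r ∈ KaehlerDifferential.ideal K L,
      r * (x ⊗ₜ[K] (1 : L) - (1 : L) ⊗ₜ[K] x) = x ⊗ₜ[K] (1 : L) - (1 : L) ⊗ₜ[K] x := by
  set d := x ⊗ₜ[K] (1 : L) - (1 : L) ⊗ₜ[K] x with hd
  let p := (minpoly K x).map (algebraMap K (L ⊗[K] L))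
  obtain ⟨k, hk⟩ := Polynomial.binomExpansion p ((1 : L) ⊗ₜ[K] x) d
  have h1 : p.eval ((1 : L) ⊗ₜ[K] x) = 0 := by
    rw [eval_map_algebraMap, show ((1 : L) ⊗ₜ[K] x) =
      (Algebra.TensorProduct.includeRight : L →ₐ[K] L ⊗[K] L) x from rfl, aeval_algHom_apply,
      minpoly.aeval, map_zero]
  have h2 : p.eval (x ⊗ₜ[K] (1 : L)) = 0 := by
    rw [eval_map_algebraMap, show (x ⊗ₜ[K] (1 : L)) =
      (Algebra.TensorProduct.includeLeft : L →ₐ[K] L ⊗[K] L) x from rfl, aeval_algHom_apply,
      minpoly.aeval, map_zero]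
  rw [show (1 : L) ⊗ₜ[K] x + d = x ⊗ₜ[K] (1 : L) by rw [hd]; abel, h1, h2, zero_add] at hk
  set u := p.derivative.eval ((1 : L) ⊗ₜ[K] x) + k * d with hu
  have hμd : Algebra.TensorProduct.lmul' (S := L) K d = 0 := by simp [hd]
  have hμu : Algebra.TensorProduct.lmul' (S := L) K u = aeval x (minpoly K x).derivative := by
    simp only [hu, map_add, map_mul, hμd, mul_zero, add_zero, p, derivative_map,
      eval_map_algebraMap]
    rw [← aeval_algHom_apply]
    simp
  have hne : aeval x (minpoly K x).derivative ≠ 0 := hx.aeval_derivative_ne_zero (minpoly.aeval K x)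
  refine ⟨1 - ((aeval x (minpoly K x).derivative)⁻¹ ⊗ₜ[K] (1 : L)) * u, ?_, ?_⟩
  · rw [KaehlerDifferential.ideal, RingHom.mem_ker, map_sub, map_one, map_mul, hμu,
      Algebra.TensorProduct.lmul'_apply_tmul, mul_one, inv_mul_cancel₀ hne, sub_self]
  · rw [sub_mul, one_mul, mul_assoc, show u * d = 0 by rw [hu, hk]; ring, mul_zero, sub_zero]

end field


/-- Let L be a finitely generated field extension of K, and I ⊆ L ⊗_K L the kernel of multiplication L
⊗_K L → L. An element x of L has the property that x ⊗ 1 and 1 ⊗ x have the same image in the I-adic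
completion of L ⊗_K L if and only if x is separable algebraic over K. Equivalently, the equaliser of
the two natural maps from L to that completion is the separable algebraic closure of K in L. -/
theorem result
    (K L : Type u) [Field K] [Field L] [Algebra K L]
    (hfg : (⊤ : IntermediateField K L).FG) (x : L) :
    AdicCompletion.of (KaehlerDifferential.ideal K L) (L ⊗[K] L) (x ⊗ₜ[K] (1 : L)) =
        AdicCompletion.of (KaehlerDifferential.ideal K L) (L ⊗[K] L) ((1 : L) ⊗ₜ[K] x) ↔
      x ∈ separableClosure K L := by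
  haveI : Algebra.EssFiniteType K L := IntermediateField.fg_top_iff.1 hfg
  haveI : IsNoetherianRing (L ⊗[K] L) := Algebra.EssFiniteType.isNoetherianRing L (L ⊗[K] L)
  rw [mem_separableClosure_iff]
  have key : AdicCompletion.of (KaehlerDifferential.ideal K L) (L ⊗[K] L) (x ⊗ₜ[K] (1 : L)) =
      AdicCompletion.of (KaehlerDifferential.ideal K L) (L ⊗[K] L) ((1 : L) ⊗ₜ[K] x) ↔
      x ⊗ₜ[K] (1 : L) - (1 : L) ⊗ₜ[K] x ∈
        (⨅ i : ℕ, KaehlerDifferential.ideal K L ^ i • ⊤ : Submodule (L ⊗[K] L) (L ⊗[K] L)) := by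
    rw [Submodule.mem_iInf, AdicCompletion.ext_iff]
    refine forall_congr' fun n => ?_
    simp only [AdicCompletion.of_apply, Submodule.mkQ_apply, Submodule.Quotient.eq]
  rw [key, Ideal.mem_iInf_smul_pow_eq_bot_iff]
  constructor
  · rintro ⟨⟨r, hr⟩, hrd⟩
    refine isSeparable_of_killed x (1 - r) ?_ ?_
    · rw [sub_mul, one_mul]
      exact sub_eq_zero.2 hrd.symm
    · rw [KaehlerDifferential.ideal, RingHom.mem_ker] at hr
      rw [map_sub, map_one, hr, sub_zero]
      exact one_ne_zero
  · intro hx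
    obtain ⟨r, hr, hrd⟩ := exists_killer_of_isSeparable x hx
    exact ⟨⟨r, hr⟩, hrd⟩

end Groth.Agent.S15125
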