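import Groth.Statements.S15126
import Mathlib.RingTheory.MvPowerSeries.Basic
import Mathlib.Data.Finsupp.Encodable
import Mathlib.Logic.Encodable.Basic
import Mathlib.Algebra.MvPolynomial.Eval
import Mathlib.RingTheory.Ideal.Quotient.Operations

set_option autoImplicit false
universe u
open Formal

namespace Groth.Agent.S15126

/-- Affine case. Let k be a field, n > 0, and R a commutative algebra over the power series ring
k[[z_1,…,z_n]]; for a commutative k-algebra Q regard Q[[z_1,…,z_n]] as a k[[z]]-algebra
coefficientwise. Then the functor Q ↦ Hom_{k[[z]]-alg}(R, Q[[z]]) on commutative k-algebras is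
corepresentable: there exist a commutative k-algebra P and a k[[z]]-algebra homomorphism u : R →
P[[z]] such that every k[[z]]-algebra homomorphism R → Q[[z]] arises from u by applying a unique
k-algebra homomorphism P → Q coefficientwise. If moreover R is countably generated as a
k[[z]]-algebra, P may be taken countably generated over k. (The published statement is for an adic
formal scheme Y over the formal disc Spf k[[z]], asserting that the sheaf of sections of Y over the
disc is a scheme, affine over the fibre of Y at the origin, and of pro-finite type when Y is; this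
row is the case Y = Spf R, to which the published argument reduces, stated for the underlying
algebra R; k is algebraically closed there, which is not used.) -/
theorem result
    (k : Type u) [Field k] (n : ℕ) (hn : 0 < n)
    (R : Type u) [CommRing R] [Algebra (MvPowerSeries (Fin n) k) R] :
    ∃ (P : Type u) (_ : CommRing P) (_ : Algebra k P)
      (u : R →ₐ[MvPowerSeries (Fin n) k] MvPowerSeries (Fin n) P),
      (∀ (Q : Type u) [CommRing Q] [Algebra k Q]
          (f : R →ₐ[MvPowerSeries (Fin n) k] MvPowerSeries (Fin n) Q),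
          ∃! g : P →ₐ[k] Q,
            (MvPowerSeries.map (σ := Fin n) (g : P →+* Q)).comp (u : R →+* MvPowerSeries (Fin n) P) =
              (f : R →+* MvPowerSeries (Fin n) Q)) ∧
      ((∃ s : Set R, s.Countable ∧ Algebra.adjoin (MvPowerSeries (Fin n) k) s = ⊤) →
        ∃ t : Set P, t.Countable ∧ Algebra.adjoin k t = ⊤) := by
  classical
  let Z := MvPowerSeries (Fin n) k
  let P0 := MvPolynomial (R × (Fin n →₀ ℕ)) k
  let U0 : R → MvPowerSeries (Fin n) P0 := fun r a => MvPolynomial.X (r, a)
  let m0 : Z →+* MvPowerSeries (Fin n) P0 := MvPowerSeries.map (algebraMap k P0)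
  let rel : Set (MvPowerSeries (Fin n) P0) :=
    (Set.range fun p : R × R => U0 (p.1 + p.2) - (U0 p.1 + U0 p.2)) ∪
    (Set.range fun p : R × R => U0 (p.1 * p.2) - U0 p.1 * U0 p.2) ∪
    (Set.range fun z : Z => U0 (algebraMap Z R z) - m0 z)
  let I : Ideal P0 := Ideal.span (⋃ x ∈ rel, Set.range fun a => MvPowerSeries.coeff a x)
  let ρq : MvPowerSeries (Fin n) P0 →+* MvPowerSeries (Fin n) (P0 ⧸ I) := MvPowerSeries.map (Ideal.Quotient.mk I)
  have hρq : ∀ x ∈ rel, ρq x = 0 := fun x hx => by
    ext a
    rw [MvPowerSeries.coeff_map, map_zero, Ideal.Quotient.eq_zero_iff_mem]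
    exact Ideal.subset_span (Set.mem_biUnion hx ⟨a, rfl⟩)
  have hadd : ∀ r s, ρq (U0 (r + s)) = ρq (U0 r) + ρq (U0 s) := fun r s => by
    rw [← map_add, ← sub_eq_zero, ← map_sub]
    exact hρq _ (.inl (.inl ⟨(r, s), rfl⟩))
  have hmul : ∀ r s, ρq (U0 (r * s)) = ρq (U0 r) * ρq (U0 s) := fun r s => by
    rw [← map_mul, ← sub_eq_zero, ← map_sub]
    exact hρq _ (.inl (.inr ⟨(r, s), rfl⟩))
  have hz : ∀ z : Z, ρq (U0 (algebraMap Z R z)) = algebraMap Z (MvPowerSeries (Fin n) (P0 ⧸ I)) z := fun z => by
    have h : ρq (U0 (algebraMap Z R z)) = ρq (m0 z) := by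
      rw [← sub_eq_zero, ← map_sub]
      exact hρq _ (.inr ⟨z, rfl⟩)
    rw [h]
    ext a
    rw [show algebraMap Z (MvPowerSeries (Fin n) (P0 ⧸ I)) z = MvPowerSeries.map (algebraMap k (P0 ⧸ I)) z from rfl]
    simp only [ρq, m0, MvPowerSeries.coeff_map]
    rfl
  let u : R →ₐ[Z] MvPowerSeries (Fin n) (P0 ⧸ I) :=
    { toFun := fun r => ρq (U0 r)
      map_one' := by
        show ρq (U0 1) = 1
        rw [← map_one (algebraMap Z R), hz, map_one]
      map_mul' := hmul
      map_zero' := by
        show ρq (U0 0) = 0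
        rw [← map_zero (algebraMap Z R), hz, map_zero]
      map_add' := hadd
      commutes' := hz }
  refine ⟨P0 ⧸ I, inferInstance, inferInstance, u, fun Q _ _ f => ?_, fun hs => ?_⟩
  · let g0 : P0 →ₐ[k] Q := MvPolynomial.aeval fun p => MvPowerSeries.coeff p.2 (f p.1)
    let σ : MvPowerSeries (Fin n) P0 →+* MvPowerSeries (Fin n) Q := MvPowerSeries.map (g0 : P0 →+* Q)
    have hU : ∀ r, σ (U0 r) = f r := fun r => by
      ext a
      exact MvPolynomial.aeval_X _ _
    have hσm : ∀ z : Z, σ (m0 z) = algebraMap Z (MvPowerSeries (Fin n) Q) z := fun z => by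
      ext a
      rw [show algebraMap Z (MvPowerSeries (Fin n) Q) z = MvPowerSeries.map (algebraMap k Q) z from rfl]
      simp only [σ, m0, MvPowerSeries.coeff_map]
      exact g0.commutes _
    have hker : ∀ x ∈ rel, σ x = 0 := by
      rintro x ((⟨⟨r, s⟩, rfl⟩ | ⟨⟨r, s⟩, rfl⟩) | ⟨z, rfl⟩)
      · simp only [map_sub, map_add, hU, sub_self]
      · simp only [map_sub, map_mul, hU, sub_self]
      · show σ _ = 0
        rw [map_sub, hU, hσm]
        exact sub_eq_zero.2 (f.commutes z)
    have hI : ∀ x ∈ I, g0 x = 0 := by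
      intro x hx
      refine (Ideal.span_le (I := RingHom.ker (g0 : P0 →+* Q))).2 ?_ hx
      intro y hy
      obtain ⟨r, hr, a, rfl⟩ := Set.mem_iUnion₂.1 hy
      show g0 (MvPowerSeries.coeff a r) = 0
      have := congrArg (MvPowerSeries.coeff a) (hker r hr)
      simpa [σ] using this
    refine ⟨Ideal.Quotient.liftₐ I g0 hI, ?_, fun g hg => ?_⟩
    · refine RingHom.ext fun r => ?_
      rw [RingHom.comp_apply]
      show MvPowerSeries.map _ (ρq (U0 r)) = (f r : MvPowerSeries (Fin n) Q)
      rw [← hU r]
      ext a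
      rfl
    · refine Ideal.Quotient.algHom_ext k (MvPolynomial.algHom_ext fun p => ?_)
      have h : MvPowerSeries.map (g : P0 ⧸ I →+* Q) (ρq (U0 p.1)) = f p.1 := RingHom.congr_fun hg p.1
      have := congrArg (MvPowerSeries.coeff p.2) h
      show g (Ideal.Quotient.mk I (MvPolynomial.X p)) = g0 (MvPolynomial.X p)
      rw [MvPowerSeries.coeff_map, MvPowerSeries.coeff_map] at this
      exact this.trans (MvPolynomial.aeval_X (fun p : R × (Fin n →₀ ℕ) => MvPowerSeries.coeff p.2 (f p.1)) p).symm
  · obtain ⟨s, hsc, hsg⟩ := hs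
    let v : R → (Fin n →₀ ℕ) → P0 ⧸ I := fun r a => MvPowerSeries.coeff a (u r)
    refine ⟨Set.image2 v s Set.univ, hsc.image2 Set.countable_univ v, ?_⟩
    have key : ∀ r : R, ∀ a, v r a ∈ Algebra.adjoin k (Set.image2 v s Set.univ) := by
      intro r
      have hr : r ∈ Algebra.adjoin Z s := hsg.ge Algebra.mem_top
      induction hr using Algebra.adjoin_induction with
      | mem x hx => exact fun a => Algebra.subset_adjoin ⟨x, hx, a, trivial, rfl⟩
      | algebraMap z =>
        intro a
        show MvPowerSeries.coeff a (u (algebraMap Z R z)) ∈ _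
        rw [u.commutes, MvPowerSeries.algebraMap_apply'', MvPowerSeries.coeff_map]
        exact Subalgebra.algebraMap_mem _ _
      | add x y _ _ hx hy =>
        intro a
        show MvPowerSeries.coeff a (u (x + y)) ∈ _
        rw [map_add, map_add]
        exact add_mem (hx a) (hy a)
      | mul x y _ _ hx hy =>
        intro a
        show MvPowerSeries.coeff a (u (x * y)) ∈ _
        rw [map_mul, MvPowerSeries.coeff_mul]
        exact sum_mem fun p _ => mul_mem (hx p.1) (hy p.2)
    refine eq_top_iff.2 fun x _ => ?_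
    obtain ⟨q, rfl⟩ := Ideal.Quotient.mk_surjective x
    induction q using MvPolynomial.induction_on with
    | C c =>
      exact Subalgebra.algebraMap_mem _ c
    | add a b ha hb =>
      rw [map_add]
      exact add_mem (ha trivial) (hb trivial)
    | mul_X a p ha =>
      rw [map_mul]
      refine mul_mem (ha trivial) ?_
      exact key p.1 p.2

end Groth.Agent.S15126
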