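import Groth.Statements.S15128
import Mathlib
import Groth.Agent.ArtFlat.Basic

set_option autoImplicit false
universe u v
open CAlg

namespace Groth.Agent.S15128

open scoped TensorProduct

/-- Over an Artinian local ring A with residue field k, a linear map h between flat A-modules (of any
size) is injective, resp. surjective, as soon as its reduction k ⊗_A h is. (The published statement
is for local Artinian algebras over an algebraically closed field of characteristic zero having that
field as residue field; this row allows any Artinian local ring.) -/
theorem result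
    (A : Type u) [CommRing A] [IsLocalRing A] [IsArtinianRing A]
    (P L : Type v) [AddCommGroup P] [Module A P] [AddCommGroup L] [Module A L]
    [Module.Flat A P] [Module.Flat A L] (h : P →ₗ[A] L) :
    (Function.Injective (h.lTensor (IsLocalRing.ResidueField A)) → Function.Injective h) ∧
    (Function.Surjective (h.lTensor (IsLocalRing.ResidueField A)) → Function.Surjective h) := by
  have hm : IsNilpotent (IsLocalRing.maximalIdeal A) := by
    rw [← IsLocalRing.jacobson_eq_maximalIdeal ⊥ bot_ne_top]
    exact IsArtinianRing.isNilpotent_jacobson_bot
  constructor
  · intro hinj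
    haveI : Module.Free A P := Groth.Agent.ArtFlat.free_of_flat hm
    let b := Module.Free.chooseBasis A P
    let bk := Algebra.TensorProduct.basis (IsLocalRing.ResidueField A) b
    have hk : Function.Injective (h.baseChange (IsLocalRing.ResidueField A)) := hinj
    have h1 : LinearIndependent (IsLocalRing.ResidueField A)
        (TensorProduct.mk A (IsLocalRing.ResidueField A) L 1 ∘ (h ∘ b)) := by
      have e : TensorProduct.mk A (IsLocalRing.ResidueField A) L 1 ∘ (h ∘ b) =
          h.baseChange (IsLocalRing.ResidueField A) ∘ bk := by
        funext i
        simp [bk]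
      rw [e]
      exact bk.linearIndependent.map' _ (LinearMap.ker_eq_bot.2 hk)
    have h3 : LinearIndependent A (h ∘ b) := Module.IsLocalRing.linearIndependent_of_flat (h ∘ b) h1
    rw [← LinearMap.ker_eq_bot, LinearMap.ker_eq_bot']
    intro x hx
    have h4 : Finsupp.linearCombination A (h ∘ b) (b.repr x) = 0 := by
      rw [← Finsupp.apply_linearCombination, b.linearCombination_repr, hx]
    exact (LinearEquiv.map_eq_zero_iff b.repr).1 (linearIndependent_iff.1 h3 _ h4)
  · intro hs
    rw [← LinearMap.range_eq_top]
    refine Groth.Agent.ArtFlat.eq_top_of_mk hm _ fun y => ?_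
    obtain ⟨z, hz⟩ := hs (1 ⊗ₜ y)
    obtain ⟨x, rfl⟩ := TensorProduct.mk_surjective A P _ Ideal.Quotient.mk_surjective z
    exact ⟨h x, ⟨x, rfl⟩, hz⟩

end Groth.Agent.S15128
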