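import Groth.Statements.S15129
import Mathlib
import Groth.Agent.ArtFlat.Basic

set_option autoImplicit false
universe u v
open CAlg

namespace Groth.Agent.S15129

open scoped TensorProduct

/-- Over an Artinian local ring A with residue field k, for an exact sequence 0 → M → N → P → 0 of
A-modules with N flat: if k ⊗_A M → k ⊗_A N is injective then P is flat; if P is flat then M is flat
and k ⊗_A M → k ⊗_A N is injective. (The published statement is for local Artinian algebras over an
algebraically closed field of characteristic zero having that field as residue field; this row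
allows any Artinian local ring.) -/
theorem result
    (A : Type u) [CommRing A] [IsLocalRing A] [IsArtinianRing A]
    (M N P : Type v) [AddCommGroup M] [Module A M] [AddCommGroup N] [Module A N]
    [AddCommGroup P] [Module A P] [Module.Flat A N] (f : M →ₗ[A] N) (g : N →ₗ[A] P)
    (hf : Function.Injective f) (hg : Function.Surjective g) (hfg : Function.Exact f g) :
    (Function.Injective (f.lTensor (IsLocalRing.ResidueField A)) → Module.Flat A P) ∧
    (Module.Flat A P → Module.Flat A M ∧ Function.Injective (f.lTensor (IsLocalRing.ResidueField A))) := by
  have hm : IsNilpotent (IsLocalRing.maximalIdeal A) := by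
    rw [← IsLocalRing.jacobson_eq_maximalIdeal ⊥ bot_ne_top]
    exact IsArtinianRing.isNilpotent_jacobson_bot
  constructor
  · intro hi
    let k := IsLocalRing.ResidueField A
    have hk : Function.Injective (f.baseChange k) := hi
    have hgs : Function.Surjective (g.baseChange k) := LinearMap.lTensor_surjective k hg
    have hex : Function.Exact (f.baseChange k) (g.baseChange k) := lTensor_exact k hfg hg
    let bM := Module.Free.chooseBasis k (k ⊗[A] M)
    let bP := Module.Free.chooseBasis k (k ⊗[A] P)
    choose x hx using fun i => TensorProduct.mk_surjective A M k Ideal.Quotient.mk_surjective (bM i)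
    choose w hw using fun i => TensorProduct.mk_surjective A P k Ideal.Quotient.mk_surjective (bP i)
    choose u hu using fun i => hg (w i)
    have hind : LinearIndependent k (TensorProduct.mk A k N 1 ∘ Sum.elim (f ∘ x) u) := by
      have h1 : TensorProduct.mk A k N 1 ∘ Sum.elim (f ∘ x) u =
          Sum.elim (f.baseChange k ∘ bM) (fun i => (1 : k) ⊗ₜ[A] u i) := by
        funext i
        rcases i with i | i
        · simp [← hx]
        · rfl
      rw [h1]
      refine linearIndependent_sum.2 ⟨bM.linearIndependent.map' _ (LinearMap.ker_eq_bot.2 hk), ?_, ?_⟩
      · refine LinearIndependent.of_comp (g.baseChange k) ?_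
        have : (g.baseChange k ∘ fun i => (1 : k) ⊗ₜ[A] u i) = bP := by
          funext i
          simp [hu, ← hw]
        rw [Sum.elim_comp_inr, this]
        exact bP.linearIndependent
      · rw [Sum.elim_comp_inl, Sum.elim_comp_inr, Submodule.disjoint_def]
        intro t ht1 ht2
        have ht : g.baseChange k t = 0 := by
          obtain ⟨z, rfl⟩ : t ∈ LinearMap.range (f.baseChange k) :=
            Submodule.span_le.2 (by rintro _ ⟨i, rfl⟩; exact ⟨_, rfl⟩) ht1
          exact hex.apply_apply_eq_zero z
        rw [Finsupp.mem_span_range_iff_exists_finsupp] at ht2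
        obtain ⟨c, rfl⟩ := ht2
        have hc : Finsupp.linearCombination k bP c = 0 := by
          rw [← ht, map_finsuppSum, Finsupp.linearCombination_apply]
          exact Finsupp.sum_congr fun i _ => by simp [map_smul, hu, ← hw]
        rw [linearIndependent_iff.1 bP.linearIndependent c hc, Finsupp.sum_zero_index]
    have hN := Module.IsLocalRing.linearIndependent_of_flat _ hind
    have hspan : ∀ m : M, m ∈ Submodule.span A (Set.range x) := fun m => by
      rw [Groth.Agent.ArtFlat.span_eq_top hm x
        ((show TensorProduct.mk A k M 1 ∘ x = bM from funext hx) ▸ bM.span_eq)]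
      trivial
    have hw' : Submodule.span A (Set.range w) = ⊤ :=
      Groth.Agent.ArtFlat.span_eq_top hm w
        ((show TensorProduct.mk A k P 1 ∘ w = bP from funext hw) ▸ bP.span_eq)
    have hwi : LinearIndependent A w := by
      rw [linearIndependent_iff]
      intro c hc
      obtain ⟨m, hm'⟩ := (hfg (Finsupp.linearCombination A u c)).1 (by
        rw [Finsupp.apply_linearCombination, show g ∘ u = w from funext hu, hc])
      obtain ⟨d, hd⟩ := Finsupp.mem_span_range_iff_exists_finsupp.1 (hspan m)
      rw [← Finsupp.linearCombination_apply] at hd
      rw [← hd, Finsupp.apply_linearCombination] at hm'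
      obtain ⟨-, hu', hdis⟩ := linearIndependent_sum.1 hN
      simp only [Sum.elim_comp_inl, Sum.elim_comp_inr] at hu' hdis
      refine linearIndependent_iff.1 hu' c (Submodule.disjoint_def.1 hdis _ ?_ ?_)
      · rw [← hm', ← Finsupp.range_linearCombination]; exact ⟨d, rfl⟩
      · rw [← Finsupp.range_linearCombination]; exact ⟨c, rfl⟩
    have := Module.Free.of_basis (Module.Basis.mk hwi hw'.ge)
    infer_instance
  · intro hP
    haveI := Groth.Agent.ArtFlat.free_of_flat (M := P) hm
    have : Module.Projective A (N ⧸ LinearMap.range f) :=
      Module.Projective.of_equiv (hfg.linearEquivOfSurjective hg).symm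
    obtain ⟨r, hr⟩ := Groth.Agent.FibreKer.exists_retraction (LinearMap.range f)
    let r' : N →ₗ[A] M := (LinearEquiv.ofInjective f hf).symm.toLinearMap ∘ₗ r
    have hr' : r' ∘ₗ f = LinearMap.id := LinearMap.ext fun x => by
      have := LinearMap.congr_fun hr ⟨f x, x, rfl⟩
      simp only [LinearMap.comp_apply, Submodule.coe_subtype, LinearMap.id_apply] at this
      simp only [r', LinearMap.comp_apply, this]
      exact (LinearEquiv.ofInjective f hf).symm_apply_apply x
    refine ⟨Module.Flat.of_retract f r' hr', Function.LeftInverse.injective
      (g := r'.lTensor (IsLocalRing.ResidueField A)) fun x => ?_⟩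
    rw [← LinearMap.comp_apply, ← LinearMap.lTensor_comp, hr', LinearMap.lTensor_id]
    rfl

end Groth.Agent.S15129
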