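import Groth.Statements.S15130
import Groth.Agent.S15129
import Groth.Agent.S15128

set_option autoImplicit false
universe u v
open CAlg

namespace Groth.Agent.S15130
open TensorProduct

/-- Let A be an Artinian local ring with residue field k and P → Q → R → M → 0 a complex of A-modules
with P, Q, R flat which is exact at R and at M. If the reduced complex k ⊗ P → k ⊗ Q → k ⊗ R is
exact (the rest of the reduced sequence is then automatically exact), then M is flat and the
original complex is exact at Q as well. (The published statement is for local Artinian algebras over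
an algebraically closed field of characteristic zero having that field as residue field; this row
allows any Artinian local ring.) -/
theorem result
    (A : Type u) [CommRing A] [IsLocalRing A] [IsArtinianRing A]
    (P Q R M : Type v) [AddCommGroup P] [Module A P] [AddCommGroup Q] [Module A Q]
    [AddCommGroup R] [Module A R] [AddCommGroup M] [Module A M]
    [Module.Flat A P] [Module.Flat A Q] [Module.Flat A R]
    (f : P →ₗ[A] Q) (g : Q →ₗ[A] R) (h : R →ₗ[A] M)
    (hfg : g ∘ₗ f = 0) (hgh : Function.Exact g h) (hh : Function.Surjective h)
    (hred : Function.Exact (f.lTensor (IsLocalRing.ResidueField A)) (g.lTensor (IsLocalRing.ResidueField A))) :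
    Module.Flat A M ∧ Function.Exact f g := by
  let k := IsLocalRing.ResidueField A
  let N := LinearMap.range g
  have hcomp : g.rangeRestrict ∘ₗ f = 0 := LinearMap.ext fun x => Subtype.ext (LinearMap.congr_fun hfg x)
  have h129 := Groth.Agent.S15129.result A N R M N.subtype h N.injective_subtype hh
    (LinearMap.exact_iff.2 (by rw [Submodule.range_subtype]; exact LinearMap.exact_iff.1 hgh))
  have hfac : g.lTensor k = N.subtype.lTensor k ∘ₗ g.rangeRestrict.lTensor k := by
    rw [← LinearMap.lTensor_comp]; rfl
  have hMflat : Module.Flat A M := h129.1 (by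
    rw [injective_iff_map_eq_zero]
    intro t ht
    obtain ⟨q, rfl⟩ := LinearMap.lTensor_surjective k g.surjective_rangeRestrict t
    obtain ⟨p, rfl⟩ := (hred q).1 (by rw [hfac]; exact ht)
    rw [← LinearMap.comp_apply, ← LinearMap.lTensor_comp, hcomp, LinearMap.lTensor_zero, LinearMap.zero_apply])
  refine ⟨hMflat, ?_⟩
  haveI : Module.Flat A N := (h129.2 hMflat).1
  let K := LinearMap.ker g
  obtain ⟨hKflat, hKinj⟩ := (Groth.Agent.S15129.result A K Q N K.subtype g.rangeRestrict K.injective_subtype
    g.surjective_rangeRestrict (LinearMap.exact_iff.2 (by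
      rw [Submodule.range_subtype, LinearMap.ker_rangeRestrict]))).2 inferInstance
  haveI := hKflat
  let f' : P →ₗ[A] K := f.codRestrict _ fun x => LinearMap.congr_fun hfg x
  have hs := (Groth.Agent.S15128.result A P K f').2 fun t => by
    have h0 : g.lTensor k (K.subtype.lTensor k t) = 0 := by
      rw [← LinearMap.comp_apply, ← LinearMap.lTensor_comp, show g ∘ₗ K.subtype = 0 from LinearMap.comp_ker_subtype g,
        LinearMap.lTensor_zero, LinearMap.zero_apply]
    obtain ⟨p, hp⟩ := (hred _).1 h0
    refine ⟨p, hKinj ?_⟩
    rw [← hp, ← LinearMap.comp_apply, ← LinearMap.lTensor_comp]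
    rfl
  intro q
  refine ⟨fun hq => ?_, fun ⟨p, hp⟩ => hp ▸ LinearMap.congr_fun hfg p⟩
  obtain ⟨p, hp⟩ := hs ⟨q, hq⟩
  exact ⟨p, congrArg Subtype.val hp⟩

end Groth.Agent.S15130
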