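import Groth.Statements.S15131
import Groth.Agent.ArtFunLib.Smooth
-- import your own Groth.Agent.* helpers here

set_option autoImplicit false
universe u v
open CategoryTheory
open ArtFun

namespace Groth.Agent.S15131

/-- Let k be a field and F a functor on local Artinian k-algebras with residue field k with F(k) a
single point, satisfying (H1) (the comparison map of A₁ ×_A A₂ is surjective when A₂ → A is a small
extension) and (H2) (it is bijective when A = k and A₂ = k[ε]). If the tangent space F(k[ε]) is a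
single point then F is the one-point functor: every F(A) has exactly one element. (The converse is
clear.) -/
theorem result
    {k : Type u} [Field k] (F : ArtFun.Art k k ⥤ Type v)
    (h0 : ArtFun.H0 F) (h1 : ArtFun.Hbar F) (h2 : ArtFun.Heps F)
    (ht : Subsingleton (ArtFun.TangentSpace F)) (A : ArtFun.Art k k) :
    Nonempty (F.obj A) ∧ Subsingleton (F.obj A) := by
  refine ArtFunLib.art_induction (fun A => Nonempty (F.obj A) ∧ Subsingleton (F.obj A)) h0
    (fun A B e he hA => ?_) (fun A B p hp hA => ?_) A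
  · have hb := ArtFunLib.map_bijective_of_isIso F e
    exact ⟨⟨(hb.2 hA.1.some).choose⟩, ⟨fun a b => hb.1 (@Subsingleton.elim _ hA.2 _ _)⟩⟩
  · constructor
    · exact ⟨F.map (⟨Algebra.ofId k B, AlgHom.ext fun c => B.res.commutes c⟩ :
        ArtFun.Art.base k k ⟶ B) h0.1.some⟩
    · refine ⟨fun y₁ y₂ => ?_⟩
      obtain ⟨t, htk⟩ := hp.2.2.1
      rw [Ideal.submodule_span_eq] at htk
      obtain ⟨P, p₁, p₂, hP⟩ := ArtFunLib.exists_isFibreProd p p hp.1
      obtain ⟨g, -, -, hg⟩ := ArtFunLib.exists_diff p hp t htk p₁ p₂ hP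
      obtain ⟨w, hw₁, hw₂⟩ := ArtFunLib.exists_of_cmp_surjective (h1 p₁ p₂ p p hP hp) y₁ y₂
        (@Subsingleton.elim _ hA.2 _ _)
      let Δ := ArtFunLib.fibLift hP (𝟙 B) (𝟙 B) rfl
      have : w = F.map Δ y₁ := ArtFunLib.cmp_ext (h2 p₁ g hg).1
        (by rw [hw₁, ← ArtFunLib.map_comp', ArtFunLib.fibLift_fst, ArtFunLib.map_id'])
        (@Subsingleton.elim _ ht _ _)
      rw [← hw₂, this, ← ArtFunLib.map_comp', ArtFunLib.fibLift_snd, ArtFunLib.map_id']

end Groth.Agent.S15131
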