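import Mathlib
import Groth.Agent.ArtFlat.Basic
import Groth.Statements.S15133
-- import your own Groth.Agent.* helpers here

set_option autoImplicit false
universe u
open CategoryTheory
open CAlg

namespace Groth.Agent.S15133

open scoped TensorProduct

section helpers

open IsLocalRing Groth.Agent.ArtFlat

variable {A : Type u} [CommRing A] [IsLocalRing A] [IsArtinianRing A]

local notation "k" => ResidueField A

lemma nilp : IsNilpotent (maximalIdeal A) := by
  rw [← IsLocalRing.jacobson_eq_maximalIdeal (⊥ : Ideal A) bot_ne_top]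
  exact IsArtinianRing.isNilpotent_jacobson_bot

lemma exists_retraction {F G : Type u} [AddCommGroup F] [Module A F] [AddCommGroup G] [Module A G]
    [Module.Flat A F] [Module.Flat A G] (u : F →ₗ[A] G) (hu : Function.Injective (u.lTensor k)) :
    ∃ r : G →ₗ[A] F, r ∘ₗ u = LinearMap.id := by
  haveI : Module.Free A G := free_of_flat nilp
  obtain ⟨L, hL⟩ := (u.baseChange k).exists_leftInverse_of_injective
    (LinearMap.ker_eq_bot.mpr (show Function.Injective (u.baseChange k) from hu))
  let πF : F →ₗ[A] k ⊗[A] F := TensorProduct.mk A k F 1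
  have hπ : Function.Surjective πF := TensorProduct.mk_surjective A F k Ideal.Quotient.mk_surjective
  obtain ⟨r, hr⟩ := Module.projective_lifting_property πF
    ((L.restrictScalars A) ∘ₗ TensorProduct.mk A k G 1) hπ
  have hred : ∀ x, πF (r (u x)) = πF x := by
    intro x
    have h1 := LinearMap.congr_fun hr (u x)
    have h2 := LinearMap.congr_fun hL (1 ⊗ₜ[A] x)
    simp only [LinearMap.comp_apply, LinearMap.baseChange_tmul, LinearMap.id_apply] at h1 h2
    exact h1.trans h2
  let N : Module.End A F := r ∘ₗ u - LinearMap.id
  have hN : ∀ x, N x ∈ (maximalIdeal A • ⊤ : Submodule A F) := fun x => by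
    rw [← LinearMap.ker_tensorProductMk (R := A) (Q := F) (I := maximalIdeal A), LinearMap.mem_ker]
    change πF (r (u x) - x) = 0
    rw [map_sub, hred, sub_self]
  have hNpow : ∀ j : ℕ, ∀ x, (N ^ j) x ∈ (maximalIdeal A ^ j • ⊤ : Submodule A F) := by
    intro j
    induction j with
    | zero => simp
    | succ j ih =>
        intro x
        rw [pow_succ' N, Module.End.mul_apply, pow_succ, Submodule.mul_smul]
        have h3 : Submodule.map N (maximalIdeal A ^ j • ⊤ : Submodule A F) ≤
            maximalIdeal A ^ j • (maximalIdeal A • ⊤ : Submodule A F) := by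
          rw [Submodule.map_smul'']
          exact Submodule.smul_mono le_rfl (Submodule.map_le_iff_le_comap.mpr fun y _ => hN y)
        exact h3 (Submodule.mem_map_of_mem (ih x))
  obtain ⟨e, he⟩ := nilp (A := A)
  have hnil : IsNilpotent N := ⟨e, LinearMap.ext fun x => by
    have := hNpow e x
    rw [he] at this
    simpa using this⟩
  obtain ⟨v, hv⟩ := hnil.isUnit_one_add
  refine ⟨(↑v⁻¹ : Module.End A F) ∘ₗ r, ?_⟩
  have h4 : r ∘ₗ u = (↑v : Module.End A F) := by
    rw [hv, Module.End.one_eq_id]
    simp [N]
  rw [LinearMap.comp_assoc, h4, ← Module.End.mul_eq_comp, Units.inv_mul]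
  rfl

lemma flat_coker {F G : Type u} [AddCommGroup F] [Module A F] [AddCommGroup G] [Module A G]
    [Module.Flat A F] [Module.Flat A G] (u : F →ₗ[A] G) (hu : Function.Injective (u.lTensor k)) :
    Module.Flat A (G ⧸ LinearMap.range u) := by
  obtain ⟨r, hr⟩ := exists_retraction u hu
  haveI : Module.Free A G := free_of_flat nilp
  let s : (G ⧸ LinearMap.range u) →ₗ[A] G :=
    (LinearMap.range u).liftQ (LinearMap.id - u ∘ₗ r) (by
      rintro _ ⟨x, rfl⟩
      have := LinearMap.congr_fun hr x
      simp only [LinearMap.comp_apply, LinearMap.id_apply] at this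
      simp [this])
  haveI : Module.Projective A (G ⧸ LinearMap.range u) := by
    refine Module.Projective.of_split s (LinearMap.range u).mkQ ?_
    refine Submodule.linearMap_qext _ (LinearMap.ext fun x => ?_)
    simp only [LinearMap.comp_apply, Submodule.mkQ_apply, LinearMap.id_apply, s,
      Submodule.liftQ_apply, LinearMap.sub_apply]
    rw [Submodule.Quotient.eq]
    simp
  infer_instance

lemma flat_of_injective {M G : Type u} [AddCommGroup M] [Module A M] [AddCommGroup G] [Module A G]
    [Module.Flat A G] (f : M →ₗ[A] G) (hf : Function.Injective (f.lTensor k)) : Module.Flat A M := by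
  let b := Module.Free.chooseBasis k (k ⊗[A] M)
  have hs : Function.Surjective (TensorProduct.mk A k M 1) :=
    TensorProduct.mk_surjective A M k Ideal.Quotient.mk_surjective
  choose w hw using fun i => hs (b i)
  let ι := Module.Free.ChooseBasisIndex k (k ⊗[A] M)
  let e : (ι →₀ A) →ₗ[A] M := Finsupp.linearCombination A w
  have hspan : Submodule.span A (Set.range w) = ⊤ := by
    refine span_eq_top nilp w ?_
    rw [show TensorProduct.mk A k M 1 ∘ w = b from funext hw]
    exact b.span_eq
  have he : Function.Surjective e := by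
    rw [← LinearMap.range_eq_top, Finsupp.range_linearCombination, hspan]
  let bF := (Finsupp.basisSingleOne (R := A) (ι := ι)).baseChange k
  have heq : e.baseChange k = (bF.equiv b (Equiv.refl _)).toLinearMap := by
    refine bF.ext fun i => ?_
    rw [LinearEquiv.coe_coe, Module.Basis.equiv_apply, Equiv.refl_apply, Module.Basis.baseChange_apply]
    simp [e, ← hw i]
  have hinj : Function.Injective (e.lTensor k) := by
    have : Function.Injective (e.baseChange k) := by
      rw [heq]; exact LinearEquiv.injective _
    exact this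
  obtain ⟨r, hr⟩ := exists_retraction (f ∘ₗ e) (by
    rw [LinearMap.lTensor_comp]; exact hf.comp hinj)
  have hei : Function.Injective e := by
    intro x y h
    have hx := LinearMap.congr_fun hr x
    have hy := LinearMap.congr_fun hr y
    simp only [LinearMap.comp_apply, LinearMap.id_apply] at hx hy
    rw [← hx, ← hy, h]
  exact Module.Flat.of_linearEquiv (LinearEquiv.ofBijective e ⟨hei, he⟩).symm

lemma flat_step {F G H : Type u} [AddCommGroup F] [Module A F] [AddCommGroup G] [Module A G]
    [AddCommGroup H] [Module A H] [Module.Flat A H] (f : F →ₗ[A] G) (g : G →ₗ[A] H)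
    (hgf : g ∘ₗ f = 0) (hex : Function.Exact (f.lTensor k) (g.lTensor k))
    (hQ : Module.Flat A (G ⧸ LinearMap.range f)) : Module.Flat A (H ⧸ LinearMap.range g) := by
  have hle : LinearMap.range f ≤ LinearMap.ker g := by
    rintro _ ⟨x, rfl⟩
    exact LinearMap.congr_fun hgf x
  let gb := (LinearMap.range f).liftQ g hle
  have hgb : Function.Injective (gb.lTensor k) := by
    rw [injective_iff_map_eq_zero]
    intro z hz
    obtain ⟨w, rfl⟩ := LinearMap.lTensor_surjective k (LinearMap.range f).mkQ_surjective z
    rw [← LinearMap.comp_apply, ← LinearMap.lTensor_comp,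
      show gb ∘ₗ (LinearMap.range f).mkQ = g from (LinearMap.range f).liftQ_mkQ g hle] at hz
    obtain ⟨v, rfl⟩ := (hex w).mp hz
    rw [← LinearMap.comp_apply, ← LinearMap.lTensor_comp, LinearMap.range_mkQ_comp,
      LinearMap.lTensor_zero, LinearMap.zero_apply]
  have := flat_coker gb hgb
  rwa [show LinearMap.range gb = LinearMap.range g from Submodule.range_liftQ _ _ _] at this

end helpers

/-- Let A be an Artinian local ring with residue field k, n ≥ 1, and 0 → I → P₀ → P₁ → ⋯ → Pₙ a complex
of A-modules with P₀, …, Pₙ flat whose reduction 0 → k ⊗ I → k ⊗ P₀ → ⋯ → k ⊗ Pₙ is exact. Then I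
and coker(Pₙ₋₁ → Pₙ) are flat. The complex is written as a cochain complex C indexed by ℕ with C⁰ =
I and Cⁱ⁺¹ = Pᵢ; its terms in degrees above n + 1 play no role. (The published statement adds that I
maps onto the kernel of k ⊗ P₀ → k ⊗ P₁, which is already part of the exactness hypothesis, and is
for local Artinian algebras over an algebraically closed field of characteristic zero having that
field as residue field; this row allows any Artinian local ring.) -/
theorem result
    (A : Type u) [CommRing A] [IsLocalRing A] [IsArtinianRing A] (n : ℕ) (hn : 0 < n)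
    (C : CochainComplex (ModuleCat.{u} A) ℕ)
    (hflat : ∀ i, i ≤ n → Module.Flat A (C.X (i + 1)))
    (hred : ∀ j, j ≤ n →
      (((MonoidalCategory.tensorLeft (ModuleCat.of A (IsLocalRing.ResidueField A))).mapHomologicalComplex
        (ComplexShape.up ℕ)).obj C).ExactAt j) :
    Module.Flat A (C.X 0) ∧ Module.Flat A (C.X (n + 1) ⧸ LinearMap.range (C.d n (n + 1)).hom) := by
  let K := IsLocalRing.ResidueField A
  let RC := ((MonoidalCategory.tensorLeft (ModuleCat.of A K)).mapHomologicalComplex
    (ComplexShape.up ℕ)).obj C
  have hd : ∀ i j, (RC.d i j).hom = (C.d i j).hom.lTensor K := fun i j => rfl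
  have hex : ∀ j, j + 1 ≤ n →
      Function.Exact ((C.d j (j + 1)).hom.lTensor K) ((C.d (j + 1) (j + 2)).hom.lTensor K) := by
    intro j hj
    have h1 := (RC.exactAt_iff' j (j + 1) (j + 2) (by simp) (by simp)).mp (hred (j + 1) hj)
    rw [ShortComplex.ShortExact.moduleCat_exact_iff_function_exact] at h1
    exact h1
  have hinj : Function.Injective ((C.d 0 1).hom.lTensor K) := by
    have h1 := (RC.exactAt_iff' 0 0 1 (by simp) (by simp)).mp (hred 0 (Nat.zero_le n))
    rw [ShortComplex.ShortExact.moduleCat_exact_iff_function_exact] at h1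
    rw [injective_iff_map_eq_zero]
    intro x hx
    obtain ⟨y, rfl⟩ := (h1 x).mp hx
    have h0 : RC.d 0 0 = 0 := RC.shape 0 0 (by simp)
    change (RC.d 0 0).hom y = 0
    rw [h0]
    rfl
  haveI hI : Module.Flat A (C.X 0) :=
    haveI := hflat 0 (Nat.zero_le n)
    flat_of_injective (C.d 0 1).hom hinj
  have hQ : ∀ j, j ≤ n → Module.Flat A (C.X (j + 1) ⧸ LinearMap.range (C.d j (j + 1)).hom) := by
    intro j
    induction j with
    | zero =>
        intro _
        haveI := hflat 0 (Nat.zero_le n)
        exact flat_coker (C.d 0 1).hom hinj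
    | succ j ih =>
        intro hj
        haveI := hflat (j + 1) hj
        refine flat_step (C.d j (j + 1)).hom (C.d (j + 1) (j + 2)).hom ?_ (hex j hj) (ih (by omega))
        rw [← ModuleCat.hom_comp, C.d_comp_d]
        rfl
  exact ⟨hI, hQ n le_rfl⟩

end Groth.Agent.S15133
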