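import Groth.Statements.S15134
import Groth.Agent.ArtFunLib.Square

set_option autoImplicit false
universe u v
open CategoryTheory
open ArtFun

namespace Groth.Agent.S15134

/-- Let k be a field and F a functor on local Artinian k-algebras with residue field k with F(k) a
point. If F satisfies (H2') — the comparison map F(A₁ ×_k A₂) → F(A₁) × F(A₂) is bijective for every
pair of objects — then F satisfies condition (L): for every small extension f : B → A with kernel J,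
writing P = B ×_k B, Q = A ×_k A, r : P → Q for the map induced by f, and C = P/K with K the ideal
of P consisting of the pairs (b, b) with b ∈ J, every element of F(Q) whose two images in F(A) agree
lifts along F(C) → F(Q). Here P and Q are pinned as fibre products over k, K is described through
the two projections, and the two inequalities on K (it lies in the maximal ideal of P and is killed
by r), which always hold, are taken as hypotheses so that the quotient object and the factored map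
can be named. -/
theorem result
    {k : Type u} [Field k] (F : ArtFun.Art k k ⥤ Type v) (h0 : ArtFun.H0 F)
    (h2' : ∀ ⦃P A' A'' : ArtFun.Art k k⦄ (p' : P ⟶ A') (p'' : P ⟶ A'')
      (h : ArtFun.Art.IsFibreProd p' p'' (ArtFun.Art.toBase A') (ArtFun.Art.toBase A'')),
      Function.Bijective (ArtFun.cmp F h))
    ⦃B A : ArtFun.Art k k⦄ (f : B ⟶ A) (hf : ArtFun.Art.IsSmallExt f)
    ⦃P : ArtFun.Art k k⦄ (p₁ p₂ : P ⟶ B)
    (hP : ArtFun.Art.IsFibreProd p₁ p₂ (ArtFun.Art.toBase B) (ArtFun.Art.toBase B))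
    ⦃Q : ArtFun.Art k k⦄ (q₁ q₂ : Q ⟶ A)
    (hQ : ArtFun.Art.IsFibreProd q₁ q₂ (ArtFun.Art.toBase A) (ArtFun.Art.toBase A))
    (r : P ⟶ Q) (hr₁ : r ≫ q₁ = p₁ ≫ f) (hr₂ : r ≫ q₂ = p₂ ≫ f)
    (hK : Ideal.span {z : P | p₁ z = p₂ z ∧ f (p₁ z) = 0} ≤ IsLocalRing.maximalIdeal P)
    (hKr : Ideal.span {z : P | p₁ z = p₂ z ∧ f (p₁ z) = 0} ≤ RingHom.ker r.toAlgHom)
    (y : F.obj Q) (hy : F.map q₁ y = F.map q₂ y) :
    ∃ z : F.obj (ArtFun.Art.quot P (Ideal.span {z : P | p₁ z = p₂ z ∧ f (p₁ z) = 0}) hK),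
      F.map (ArtFun.Art.quotFactor hK r hKr) z = y := by
  classical
  obtain ⟨Δ, hΔ1, hΔ2⟩ : ∃ Δ : B ⟶ P, Δ ≫ p₁ = 𝟙 B ∧ Δ ≫ p₂ = 𝟙 B :=
    ⟨Groth.Agent.ArtFunLib.fibLift hP (𝟙 B) (𝟙 B) rfl, Groth.Agent.ArtFunLib.fibLift_fst _ _ _ _,
      Groth.Agent.ArtFunLib.fibLift_snd _ _ _ _⟩
  have h1 : ∀ b, p₁ (Δ b) = b := fun b => congrArg (fun φ : B ⟶ B => φ b) hΔ1
  have h2 : ∀ b, p₂ (Δ b) = b := fun b => congrArg (fun φ : B ⟶ B => φ b) hΔ2
  have hmem : ∀ b, f b = 0 → Δ b ∈ Ideal.span {z : P | p₁ z = p₂ z ∧ f (p₁ z) = 0} := fun b hb =>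
    Ideal.subset_span ⟨(h1 b).trans (h2 b).symm, by rw [h1]; exact hb⟩
  let g := Δ ≫ ArtFun.Art.quotMk P _ hK
  have hle : RingHom.ker f.toAlgHom ≤ RingHom.ker g.toAlgHom := fun b hb =>
    RingHom.mem_ker.2 (Ideal.Quotient.eq_zero_iff_mem.2 (hmem b (RingHom.mem_ker.1 hb)))
  let ea := AlgHom.liftOfSurjective f.toAlgHom hf.1 g.toAlgHom hle
  have hea : ∀ b, ea (f b) = g b := AlgHom.liftOfSurjective_apply f.toAlgHom hf.1 g.toAlgHom hle
  let e : A ⟶ ArtFun.Art.quot P _ hK := ⟨ea, AlgHom.ext fun a => by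
    obtain ⟨b, rfl⟩ := hf.1 a
    rw [AlgHom.comp_apply]
    show _ = A.res (f b)
    rw [ArtFun.Art.res_app f b]
    exact (congrArg _ (hea b)).trans (ArtFun.Art.res_app g b)⟩
  have he : ∀ b, e (f b) = g b := hea
  refine ⟨F.map e (F.map q₁ y), ?_⟩
  rw [← Groth.Agent.ArtFunLib.map_comp']
  refine Groth.Agent.ArtFunLib.cmp_ext (h2' q₁ q₂ hQ).1 ?_ ?_
  · rw [← Groth.Agent.ArtFunLib.map_comp']
    have : (e ≫ ArtFun.Art.quotFactor hK r hKr) ≫ q₁ = 𝟙 A := Groth.Agent.ArtFunLib.hom_apply_ext fun a => by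
      obtain ⟨b, rfl⟩ := hf.1 a
      show q₁ (ArtFun.Art.quotFactor hK r hKr (e (f b))) = f b
      rw [he]
      exact (congrArg (fun φ : P ⟶ A => φ (Δ b)) hr₁).trans (congrArg f (h1 b))
    rw [this, Groth.Agent.ArtFunLib.map_id']
  · rw [← Groth.Agent.ArtFunLib.map_comp']
    have : (e ≫ ArtFun.Art.quotFactor hK r hKr) ≫ q₂ = 𝟙 A := Groth.Agent.ArtFunLib.hom_apply_ext fun a => by
      obtain ⟨b, rfl⟩ := hf.1 a
      show q₂ (ArtFun.Art.quotFactor hK r hKr (e (f b))) = f b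
      rw [he]
      exact (congrArg (fun φ : P ⟶ A => φ (Δ b)) hr₂).trans (congrArg f (h2 b))
    rw [this, Groth.Agent.ArtFunLib.map_id', hy]

end Groth.Agent.S15134
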