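import Groth.Statements.S15135
-- import your own Groth.Agent.* helpers here

set_option autoImplicit false
universe u v
open Deform

namespace Groth.Agent.S15135

/-- For R-modules M ⊆ N, the first-order embedded deformations of M in N are in canonical bijection with
Hom_R(M, N/M). Writing N ⊗ k[ε] = N ⊕ εN as N × N (the pair (x, y) standing for x + εy), such a
deformation is an R-submodule L of N × N which is stable under multiplication by ε (if (x, y) ∈ L
then (0, x) ∈ L), reduces to M (x ∈ M exactly when (x, y) ∈ L for some y) and is flat over the dual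
numbers, flatness being stated elementwise as: (0, y) ∈ L only if y ∈ M (for a submodule reducing to
M this is the equality of the kernel and the image of ε on L, i.e. flatness over k[ε] when R is an
algebra over a field k). To φ : M → N/M corresponds the submodule of all (x, y) with x ∈ M and y ≡
φ(x) mod M. The first clause says this rule defines exactly one submodule for each φ; the second
says that a submodule has the three properties precisely when its membership is given by this rule
for some φ. (The published statement is a linear isomorphism t_G ≅ Hom_R(M, N/M) for the functor G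
of flat deformations of M inside N ⊗ A over local Artinian algebras A; this row states only the
underlying bijection, and the obstruction half is not stated here.) -/
theorem result
    (R : Type u) [CommRing R] (N : Type v) [AddCommGroup N] [Module R N] (M : Submodule R N) :
    (∀ φ : M →ₗ[R] (N ⧸ M), ∃! L : Submodule R (N × N),
        ∀ x y : N, (x, y) ∈ L ↔ ∃ h : x ∈ M, Submodule.Quotient.mk y = φ ⟨x, h⟩) ∧
    (∀ L : Submodule R (N × N),
      ((∀ x y : N, (x, y) ∈ L → ((0 : N), x) ∈ L) ∧
        (∀ x : N, x ∈ M ↔ ∃ y : N, (x, y) ∈ L) ∧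
        (∀ y : N, ((0 : N), y) ∈ L → y ∈ M)) ↔
      ∃ φ : M →ₗ[R] (N ⧸ M), ∀ x y : N, (x, y) ∈ L ↔ ∃ h : x ∈ M, Submodule.Quotient.mk y = φ ⟨x, h⟩) := by
  refine ⟨fun φ => ?_, fun L => ⟨?_, ?_⟩⟩
  · let L : Submodule R (N × N) :=
      { carrier := {p | ∃ h : p.1 ∈ M, Submodule.Quotient.mk p.2 = φ ⟨p.1, h⟩}
        add_mem' := by
          rintro ⟨a, b⟩ ⟨c, d⟩ ⟨ha, hab⟩ ⟨hc, hcd⟩
          refine ⟨M.add_mem ha hc, ?_⟩
          change Submodule.Quotient.mk (b + d) = φ ⟨a + c, _⟩
          rw [Submodule.Quotient.mk_add, hab, hcd, ← map_add]; rfl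
        zero_mem' := ⟨M.zero_mem, by rw [Prod.snd_zero, Submodule.Quotient.mk_zero]; exact (map_zero φ).symm⟩
        smul_mem' := by
          rintro r ⟨a, b⟩ ⟨ha, hab⟩
          refine ⟨M.smul_mem r ha, ?_⟩
          change Submodule.Quotient.mk (r • b) = φ ⟨r • a, _⟩
          rw [Submodule.Quotient.mk_smul, hab, ← map_smul]; rfl }
    refine ⟨L, fun x y => Iff.rfl, fun L' hL' => Submodule.ext ?_⟩
    rintro ⟨x, y⟩; exact hL' x y
  · rintro ⟨h1, h2, h3⟩
    choose g hg using fun x : M => (h2 x).1 x.2
    have huniq : ∀ (x : M) (y : N), ((x : N), y) ∈ L →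
        (Submodule.Quotient.mk y : N ⧸ M) = Submodule.Quotient.mk (g x) := fun x y hy => by
      rw [Submodule.Quotient.eq]
      exact h3 _ (by simpa using L.sub_mem hy (hg x))
    let φ : M →ₗ[R] N ⧸ M :=
      { toFun := fun x => Submodule.Quotient.mk (g x)
        map_add' := fun x x' => by
          rw [← Submodule.Quotient.mk_add]
          exact (huniq (x + x') _ (L.add_mem (hg x) (hg x'))).symm
        map_smul' := fun r x => by
          rw [RingHom.id_apply, ← Submodule.Quotient.mk_smul]
          exact (huniq (r • x) _ (L.smul_mem r (hg x))).symm }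
    refine ⟨φ, fun x y => ⟨fun hxy => ⟨(h2 x).2 ⟨y, hxy⟩, huniq ⟨x, _⟩ y hxy⟩, ?_⟩⟩
    rintro ⟨hx, hy⟩
    have hd : y - g ⟨x, hx⟩ ∈ M := (Submodule.Quotient.eq M).1 hy
    obtain ⟨z, hz⟩ := (h2 _).1 hd
    simpa using L.add_mem (hg ⟨x, hx⟩) (h1 _ z hz)
  · rintro ⟨φ, hφ⟩
    refine ⟨fun x y hxy => ?_, fun x => ⟨fun hx => ?_, ?_⟩, fun y hy => ?_⟩
    · obtain ⟨hx, _⟩ := (hφ x y).1 hxy
      exact (hφ 0 x).2 ⟨M.zero_mem, ((Submodule.Quotient.mk_eq_zero M).2 hx).trans (map_zero φ).symm⟩
    · obtain ⟨y, hy⟩ := Submodule.Quotient.mk_surjective M (φ ⟨x, hx⟩)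
      exact ⟨y, (hφ x y).2 ⟨hx, hy⟩⟩
    · rintro ⟨y, hy⟩; exact ((hφ x y).1 hy).1
    · obtain ⟨h, hy⟩ := (hφ 0 y).1 hy
      exact (Submodule.Quotient.mk_eq_zero M).1 (hy.trans (map_zero φ))

end Groth.Agent.S15135
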