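import Groth.Statements.S15137
import Groth.Agent.R1Model.Main
import Groth.Agent.R1Push.Main
import Groth.Agent.CurveCohLib.SmoothCurve
import Groth.Agent.MinModel.Basic

set_option backward.isDefEq.respectTransparency false
set_option backward.isDefEq.respectTransparency.types false
set_option maxHeartbeats 800000

set_option autoImplicit false
universe u
open CategoryTheory CategoryTheory.Limits AlgebraicGeometry Opposite
open Models

namespace Groth.Agent.S15137

/-- A normal flat model of an integral generic fibre is integral. -/
theorem isIntegral_of_generic (R : Type u) [CommRing R] [IsDomain R] [IsDiscreteValuationRing R]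
    {X C : Scheme.{u}} [IsIntegral C] (p : X ⟶ Spec (CommRingCat.of R)) [Flat p]
    (f : C ⟶ Spec (CommRingCat.of (FractionRing R))) (g : C ⟶ X) (sq : IsPullback g f p (MinModel.jη R))
    (hn : Pi1.IsNormalScheme X) : IsIntegral X := by
  have hgen : ∀ z : X, g (genericPoint C) ⤳ z := fun z => by
    obtain ⟨w, hwz, hw⟩ := Flat.generalizingMap (f := p) (genericPoint_specializes (p z))
    obtain ⟨a, ha⟩ := (MinModel.range_jη R).ge hw
    obtain ⟨v, hv, -⟩ := Scheme.Pullback.exists_preimage_pullback w a ha.symm
    have hc : g (sq.isoPullback.inv v) = w := by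
      rw [← Scheme.Hom.comp_apply, IsPullback.isoPullback_inv_fst]
      exact hv
    exact (((genericPoint_specializes _).map g.continuous).trans (specializes_of_eq hc)).trans hwz
  have h : IsGenericPoint (g (genericPoint C)) (Set.univ : Set X) :=
    isGenericPoint_iff_specializes.2 fun z => ⟨fun _ => trivial, fun _ => hgen z⟩
  haveI : IrreducibleSpace X := (irreducibleSpace_def X).2 h.isIrreducible
  haveI : AlgebraicGeometry.IsReduced X :=
    haveI : ∀ z : X, _root_.IsReduced (X.presheaf.stalk z) := fun z => by
      haveI := (hn z).1
      infer_instance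
    isReduced_of_isReduced_stalk X
  exact isIntegral_of_irreducibleSpace_of_isReduced X

/-- Let R be a discrete valuation ring whose fraction field K has characteristic zero, let C be a proper
K-curve, smooth of relative dimension 1 and geometrically connected over K, and let X be a model of
C over R (flat and of finite type over R with generic fibre C) which is proper over R and normal, so
that X is a proper relative curve over R; assume X has rational singularities: the local ring of X
at every closed point defines a rational singularity (every proper morphism onto its spectrum from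
an integral normal scheme which is an isomorphism over a nonempty open has H^1 of the structure
sheaf zero). Let ρ : X' → X be a proper morphism over R from an integral normal scheme X' which is
an isomorphism over some nonempty open of X (a proper birational morphism). Then the first higher
direct image R^1ρ_*O_{X'} (of abelian sheaves) vanishes, the map H^1(X, O_X) → H^1(X, ρ_*O_{X'})
induced by the canonical map O_X → ρ_*O_{X'} is bijective, and consequently the R-modules H^1(X,
O_X) and H^1(X', O_{X'}) are isomorphic (the published statement asserts that the canonical pullback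
map is an isomorphism; this row records the existence of an R-linear isomorphism only). -/
theorem result (R : Type u) [CommRing R]
    [IsDomain R] [IsDiscreteValuationRing R] [CharZero (FractionRing R)]
    (X C : Scheme.{u}) [X.Over (Spec (CommRingCat.of R))]
    (f : C ⟶ Spec (CommRingCat.of (FractionRing R)))
    [SmoothOfRelativeDimension 1 f] [IsProper f] [GeometricallyConnected f]
    (hX : Models.IsModel R X (X ↘ Spec (CommRingCat.of R)) C f)
    [IsProper (X ↘ Spec (CommRingCat.of R))] (hn : Pi1.IsNormalScheme X)
    (hrat : ∀ x : X, IsClosed ({x} : Set X) → Curv2.IsRationalSing (X.presheaf.stalk x))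
    (X' : Scheme.{u}) [X'.Over (Spec (CommRingCat.of R))] (ρ : X' ⟶ X) [IsProper ρ]
    (hρ : ρ ≫ (X ↘ Spec (CommRingCat.of R)) = X' ↘ Spec (CommRingCat.of R))
    [IsIntegral X'] (hn' : Pi1.IsNormalScheme X')
    (hbir : ∃ U : X.Opens, (U : Set X).Nonempty ∧ IsIso (ρ ∣_ U)) :
    IsZero ((Coh.RpushAb ρ 1).obj (Coh.toAb (Coh.structureModule X'))) ∧
      Function.Bijective (Sheaf.H.map ((SheafOfModules.toSheaf X.ringCatSheaf).map (ClSub.unitToPush ρ)) 1) ∧
      Nonempty (Coh.HH X (Coh.structureModule X) 1 ≃ₗ[R] Coh.HH X' (Coh.structureModule X') 1) := by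
  haveI : Smooth f := SmoothOfRelativeDimension.smooth 1 f
  haveI : CompactSpace C := QuasiCompact.compactSpace_of_compactSpace f
  haveI : ConnectedSpace C := GeometricallyConnected.connectedSpace f fun _ _ => isOpen_discrete _
  haveI : IsIntegral C := CurveCohLib.isIntegral_of_smooth_connected f
  obtain ⟨hfl, -, -, g, sq⟩ := hX
  haveI := hfl
  haveI : IsIntegral X := isIntegral_of_generic R (X ↘ Spec (CommRingCat.of R)) f g sq hn
  haveI : IsLocallyNoetherian X := LocallyOfFiniteType.isLocallyNoetherian (X ↘ Spec (CommRingCat.of R))
  haveI : CompactSpace X := QuasiCompact.compactSpace_of_compactSpace (X ↘ Spec (CommRingCat.of R))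
  haveI : IsNoetherian X := {}
  haveI : HasInjectiveResolutions X'.Modules := inferInstance
  obtain ⟨U, hU, hi⟩ := hbir
  haveI := hi
  have h1 := R1Model.isZero_Rpush_one ρ hn' hU hrat
  haveI := R1Model.isIso_unitToPush ρ hn hU
  let ρR := Coh.toGlobal (X ↘ Spec (CommRingCat.of R))
  have hb := R1Push.bijective_mapA_of_isIso ρR (ClSub.unitToPush ρ) 1
  obtain ⟨e⟩ := S11319.result ρ (Coh.structureModule X') 1
  refine ⟨(Functor.map_isZero (QCoh.toAbFunctor X) h1).of_iso e.symm, hb, ?_⟩
  have hρR : ρ.appTop.hom.comp ρR = Coh.toGlobal (X' ↘ Spec (CommRingCat.of R)) := by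
    rw [← hρ]
    show _ = ((ρ ≫ (X ↘ Spec (CommRingCat.of R))).appTop).hom.comp _
    rw [Scheme.Hom.comp_appTop, CommRingCat.hom_comp, RingHom.comp_assoc]
    rfl
  obtain ⟨e₁⟩ := LerayOneDegree.nonempty_Z_one ρR ρ (M := Coh.structureModule X') 0 h1
  rw [hρR] at e₁
  letI := QCoh.modHH ρR ((Scheme.Modules.pushforward ρ).obj (Coh.structureModule X')) 1
  haveI := SpObjSS.enoughInjectives_of_hasInjectiveResolutions (C := X'.Modules)
  haveI := QCoh.preservesFiniteLimits_push ρ
  exact ⟨(LinearEquiv.ofBijective (LerayOneDegree.mapA ρR (ClSub.unitToPush ρ) 1) hb).trans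
    ((QCoh.HHcongr ρR ((LerayCorner.nonempty_Z_zero ρ (Coh.structureModule X')).some ≪≫
      (Scheme.Modules.pushforward ρ).rightDerivedZeroIsoSelf.app (Coh.structureModule X')) 1).symm.trans e₁)⟩

end Groth.Agent.S15137
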