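import Groth.Statements.S15142
import Groth.Agent.TraceRat.Main
import Groth.Agent.RegRes.Base
import Groth.Agent.S2821
import Groth.Agent.CAlgOdd.NagataFT.Poly

set_option autoImplicit false
universe u
open CategoryTheory CategoryTheory.Limits AlgebraicGeometry
open Resolve

namespace Groth.Agent.S15142

/-- Let R be a Noetherian domain, let A be an excellent Noetherian regular domain of Krull dimension two
(all localizations at primes are regular local rings) which is essentially of finite type over R,
and suppose a finite group G acts on A through ring automorphisms that commute with the R-action. If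
the order of G is a unit in A, then the ring of invariants A^G has rational singularities: its
localization at every maximal ideal of height two defines a rational singularity (every proper
morphism onto the spectrum from an integral normal scheme which is an isomorphism over a nonempty
open has H^1 of the structure sheaf zero). (The published statement does not assume the ring of
invariants excellent; its argument passes through the finite extension A^G ⊆ A of two-dimensional
excellent normal domains of degree dividing the order of G, and this row carries the excellence of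
A^G as a hypothesis.) -/
theorem result (R A : Type u) [CommRing R] [IsDomain R]
    [IsNoetherianRing R] [CommRing A] [IsDomain A] [IsNoetherianRing A] [Algebra R A] [Algebra.EssFiniteType R A]
    (hAe : EGA4.IsExcellent A) (hA2 : ringKrullDim A = 2)
    (hreg : ∀ (p : Ideal A) [p.IsPrime], IsRegularLocalRing (Localization.AtPrime p))
    (G : Type u) [Group G] [Finite G] [MulSemiringAction G A] [SMulCommClass G R A]
    (hG : IsUnit ((Nat.card G : ℕ) : A))
    (hGe : EGA4.IsExcellent (FixedPoints.subring A G))
    (m : Ideal (FixedPoints.subring A G)) [m.IsMaximal] (hm : ringKrullDim (Localization.AtPrime m) = 2) :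
    Curv2.IsRationalSing (Localization.AtPrime m) := by
  classical
  haveI hnA : IsIntegrallyClosed A := IsIntegrallyClosed.of_localization_maximal fun p _ _ => by
    haveI := hreg p
    haveI := (Groth.Agent.S2821.result (Localization.AtPrime p)).1
    haveI := (Groth.Agent.S2821.result (Localization.AtPrime p)).2
    infer_instance
  let A₀ := FixedPoints.subring A G
  haveI : IsNoetherianRing A₀ := hGe.1
  let L := FractionRing A
  let φ : G →* (L ≃+* L) :=
    (IsFractionRing.ringEquivOfRingEquivHom (A := A) (K := L)).comp (MulSemiringAction.toRingAut G A)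
  let H := φ.range
  haveI : Finite H := Finite.of_surjective φ.rangeRestrict φ.rangeRestrict_surjective
  cases nonempty_fintype H
  let K := FixedPoints.subfield H L
  have hφ : ∀ (g : G) (a : A), φ g (algebraMap A L a) = algebraMap A L (g • a) := fun g a =>
    IsFractionRing.ringEquivOfRingEquiv_algebraMap _ a
  have hfix : ∀ a : A₀, algebraMap A L (a : A) ∈ K := by
    rintro a ⟨_, g, rfl⟩
    show φ g (algebraMap A L (a : A)) = _
    rw [hφ, a.2 g]
  letI : Algebra A₀ K := (((algebraMap A L).comp A₀.subtype).codRestrict K.toSubring hfix).toAlgebra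
  letI : Algebra A₀ A := A₀.subtype.toAlgebra
  haveI : IsScalarTower A₀ K L := IsScalarTower.of_algebraMap_eq fun _ => rfl
  haveI : IsScalarTower A₀ A L := IsScalarTower.of_algebraMap_eq fun _ => rfl
  haveI : Algebra.IsInvariant A₀ A G := ⟨fun a ha => ⟨⟨a, ha⟩, rfl⟩⟩
  haveI : SMulCommClass G A₀ A := ⟨fun g a x => by
    show g • ((a : A) * x) = (a : A) * (g • x)
    rw [smul_mul', a.2 g]⟩
  haveI : Algebra.IsIntegral A₀ A := Algebra.IsInvariant.isIntegral A₀ A G
  cases nonempty_fintype G
  have hnorm : ∀ b : A, b ≠ 0 → ∃ c : A, c ≠ 0 ∧ ∀ g : G, g • (c * b) = c * b := fun b hb => by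
    refine ⟨∏ g ∈ Finset.univ.erase (1 : G), g • b, Finset.prod_ne_zero_iff.2 fun g _ => (smul_ne_zero_iff_ne g).2 hb, ?_⟩
    have he : (∏ g ∈ Finset.univ.erase (1 : G), g • b) * b = ∏ g : G, g • b := by
      rw [← Finset.mul_prod_erase Finset.univ _ (Finset.mem_univ (1 : G)), one_smul, mul_comm]
    intro g
    rw [he, Finset.smul_prod']
    exact Fintype.prod_equiv (Equiv.mulLeft g) _ _ fun x => (mul_smul g x b).symm
  haveI : IsFractionRing A₀ K := by
    haveI : FaithfulSMul A₀ K := (faithfulSMul_iff_algebraMap_injective A₀ K).2 fun a b h =>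
      Subtype.ext (IsFractionRing.injective A L (congrArg Subtype.val h))
    refine IsFractionRing.of_field A₀ K fun z => ?_
    obtain ⟨a, b, hb, hab⟩ := IsFractionRing.div_surjective (A := A) (z : L)
    obtain ⟨c, hc, hcb⟩ := hnorm b (nonZeroDivisors.ne_zero hb)
    have hcb0 : algebraMap A L (c * b) ≠ 0 :=
      (map_ne_zero_iff _ (IsFractionRing.injective A L)).2 (mul_ne_zero hc (nonZeroDivisors.ne_zero hb))
    have hca : ∀ g : G, g • (c * a) = c * a := fun g => IsFractionRing.injective A L (by
      have h1 : algebraMap A L (c * a) = algebraMap A L (c * b) * (z : L) := by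
        rw [← hab, map_mul, map_mul, mul_assoc, mul_div_cancel₀ _
          ((map_ne_zero_iff _ (IsFractionRing.injective A L)).2 (nonZeroDivisors.ne_zero hb))]
      rw [← hφ, h1, map_mul, hφ, hcb]
      congr 1
      exact z.2 ⟨φ g, g, rfl⟩)
    refine ⟨⟨c * a, hca⟩, ⟨c * b, hcb⟩, Subtype.ext ?_⟩
    show (z : L) = algebraMap A L (c * a) / algebraMap A L (c * b)
    rw [← hab, map_mul, map_mul, mul_div_mul_left _ _ ((map_ne_zero_iff _ (IsFractionRing.injective A L)).2 hc)]
  haveI : FiniteDimensional K L := inferInstance
  haveI : FaithfulSMul H L := ⟨fun h => Subtype.ext (RingEquiv.ext h)⟩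
  have hcard : Module.finrank K L = Fintype.card H := FixedPoints.finrank_eq_card H L
  haveI hn₀ : IsIntegrallyClosed A₀ := (isIntegrallyClosed_iff K).2 fun {x} hx => by
    have h1 : IsIntegral A (x : L) := (hx.map (IsScalarTower.toAlgHom A₀ K L)).tower_top
    obtain ⟨y, hy⟩ := IsIntegrallyClosed.algebraMap_eq_of_integral (K := L) h1
    refine ⟨⟨y, fun g => IsFractionRing.injective A L ?_⟩, Subtype.ext hy⟩
    rw [← hφ, hy]
    exact x.2 ⟨φ g, g, rfl⟩
  haveI : Module.Finite A₀ A := by
    have hN2 : CAlg.IsN2 A₀ := Groth.Agent.N12Aux.isN2_of_ringEquiv (RingEquiv.quotientBot A₀)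
      ((Groth.Agent.S2654.result A₀ ⟨hGe.1, hGe.2.2.1, hGe.2.2.2⟩).2 ⊥)
    letI : Algebra (FractionRing A₀) L :=
      ((algebraMap K L).comp (IsLocalization.algEquiv (nonZeroDivisors A₀) (FractionRing A₀) K).toRingEquiv.toRingHom).toAlgebra
    haveI : IsScalarTower A₀ (FractionRing A₀) L := IsScalarTower.of_algebraMap_eq fun a => by
      show _ = algebraMap K L ((IsLocalization.algEquiv (nonZeroDivisors A₀) (FractionRing A₀) K) (algebraMap A₀ _ a))
      rw [AlgEquiv.commutes]
      rfl
    have hfd : FiniteDimensional (FractionRing A₀) L := by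
      refine Module.Finite.of_equiv_equiv (A₁ := K) (B₁ := L)
        (IsLocalization.algEquiv (nonZeroDivisors A₀) (FractionRing A₀) K).toRingEquiv.symm (RingEquiv.refl L) ?_
      ext x
      exact congrArg (algebraMap K L) ((IsLocalization.algEquiv (nonZeroDivisors A₀) (FractionRing A₀) K).apply_symm_apply x)
    haveI := hN2 L hfd
    let f : A →ₗ[A₀] integralClosure A₀ L :=
      { toFun := fun a => ⟨algebraMap A L a, (Algebra.IsIntegral.isIntegral (R := A₀) a).map (IsScalarTower.toAlgHom A₀ A L)⟩
        map_add' := fun a b => Subtype.ext (map_add _ a b)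
        map_smul' := fun c a => Subtype.ext (by
          show algebraMap A L (c • a) = c • algebraMap A L a
          rw [Algebra.smul_def, Algebra.smul_def, map_mul, ← IsScalarTower.algebraMap_apply]) }
    exact Module.Finite.of_injective f fun a b h => IsFractionRing.injective A L (congrArg Subtype.val h)
  have hB : ∀ (n : Ideal A) [n.IsMaximal], ringKrullDim (Localization.AtPrime n) = 2 →
      Curv2.IsRationalSing (Localization.AtPrime n) := fun n _ hn => by
    haveI := hreg n
    haveI := (Groth.Agent.S2821.result (Localization.AtPrime n)).1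
    exact Groth.Agent.RegRes.isRationalSing_of_regular _ hn
  refine Groth.Agent.TraceRat.isRationalSing_descend K L (fun a b h => Subtype.ext h)
    (Groth.Agent.S2654.result A ⟨hAe.1, hAe.2.2.1, hAe.2.2.2⟩) hA2 m ?_ ?_ hB
  · rw [IsLocalization.AtPrime.ringKrullDim_eq_height m] at hm
    exact WithBot.coe_eq_coe.1 hm
  · rw [hcard, ← Nat.card_eq_fintype_card]
    intro hmem
    obtain ⟨c, hc⟩ := Subgroup.card_range_dvd φ
    have hmul : ((Nat.card G : ℕ) : A₀) ∈ m := by
      rw [hc, Nat.cast_mul]
      exact Ideal.mul_mem_right _ _ hmem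
    obtain ⟨u, hu⟩ := hG.exists_right_inv
    have hu' : ∀ g : G, g • u = u := fun g => by
      have h1 := congrArg (g • ·) hu
      simp only [smul_mul', smul_one] at h1
      have h2 : g • ((Nat.card G : ℕ) : A) = ((Nat.card G : ℕ) : A) := map_natCast (MulSemiringAction.toRingHom G A g) _
      rw [h2] at h1
      calc g • u = (((Nat.card G : ℕ) : A) * u) * (g • u) := by rw [hu, one_mul]
        _ = u * (((Nat.card G : ℕ) : A) * g • u) := by ring
        _ = u := by rw [h1, mul_one]
    refine Ideal.IsPrime.ne_top ‹m.IsMaximal›.isPrime (Ideal.eq_top_of_isUnit_mem _ hmul ?_)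
    exact IsUnit.of_mul_eq_one (⟨u, hu'⟩ : A₀) (Subtype.ext hu)

end Groth.Agent.S15142
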