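import Groth.Statements.S15144
import Groth.Agent.Lib.AbSchOmega

set_option autoImplicit false
set_option backward.isDefEq.respectTransparency false
set_option backward.isDefEq.respectTransparency.types false
set_option linter.style.haveILetI false
set_option linter.unusedSectionVars false
set_option maxHeartbeats 400000
universe u
open CategoryTheory CategoryTheory.Limits MonoidalCategory CartesianMonoidalCategory MonObj GrpObj AlgebraicGeometry Opposite
open AbSch

namespace Groth.Agent.S15144

/-- Let S be a scheme and A an abelian scheme over S, an S-group scheme whose structure morphism is
proper, flat and locally of finite presentation with geometrically reduced and geometrically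
connected fibres, with unit section e : S → A. Then every global section of Ω_{A/S} is invariant;
equivalently, the canonical map Γ(A, Ω_{A/S}) → Γ(S, e^*Ω_{A/S}) to the sections of the sheaf of
invariant differentials ω_A = e^*Ω_{A/S}, namely the map on global sections of the unit Ω_{A/S} →
e_*e^*Ω_{A/S} of the adjunction between pullback and pushforward along e, is bijective. -/
theorem result {S : Scheme.{u}} (A : Over S) [GrpObj A]
    [IsProper A.hom] [Flat A.hom] [LocallyOfFinitePresentation A.hom]
    [GeometricallyReduced A.hom] [GeometricallyConnected A.hom] :
    Function.Bijective
      (((Scheme.Modules.pullbackPushforwardAdjunction η[A].left).unit.app (Omega.sheaf A.hom)).val.app (op ⊤)).hom := by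
  exact Lib.AbSchOmega.bijective_unit_top A

end Groth.Agent.S15144
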