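import Groth.Statements.S15145
import Groth.Agent.CohFlatRS.Point

set_option autoImplicit false
set_option backward.isDefEq.respectTransparency false
set_option backward.isDefEq.respectTransparency.types false
set_option linter.style.haveILetI false
universe u
open CategoryTheory CategoryTheory.Limits AlgebraicGeometry Opposite
open Models

namespace Groth.Agent.S15145

/-- Let R be a discrete valuation ring whose fraction field K has characteristic zero, with residue
field k; let C be a proper K-curve, smooth of relative dimension 1 and geometrically connected, and
let X be a model of C over R (flat and of finite type with generic fibre C) which is proper over R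
and normal, with rational singularities: the local ring at every closed point defines a rational
singularity (every proper morphism onto its spectrum from an integral normal scheme which is an
isomorphism over a nonempty open has H^1 of the structure sheaf zero). If k has characteristic zero,
or if the structure morphism X → Spec R has a section, then X is cohomologically flat over R in
dimension 0: the restriction H^0(X, O_X) → H^0(X_s, O_{X_s}) to the closed fibre X_s, cut out by 𝔪_R
· O_X, is surjective; so X is admissible. (The published statement in residue characteristic p > 0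
allows, instead of a section, an étale quasi-section, i.e. a section over a strict henselization of
R, or that the components of the closed fibre have geometric multiplicities whose greatest common
divisor is prime to p; this row keeps the case of a section over R and the
residue-characteristic-zero case.) -/
theorem result (R : Type u) [CommRing R]
    [IsDomain R] [IsDiscreteValuationRing R] [CharZero (FractionRing R)]
    (X C : Scheme.{u}) [X.Over (Spec (CommRingCat.of R))]
    (f : C ⟶ Spec (CommRingCat.of (FractionRing R)))
    [SmoothOfRelativeDimension 1 f] [IsProper f] [GeometricallyConnected f]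
    (hX : Models.IsModel R X (X ↘ Spec (CommRingCat.of R)) C f)
    [IsProper (X ↘ Spec (CommRingCat.of R))] (hn : Pi1.IsNormalScheme X)
    (hrat : ∀ x : X, IsClosed ({x} : Set X) → Curv2.IsRationalSing (X.presheaf.stalk x))
    (h : CharZero (IsLocalRing.ResidueField R) ∨
      ∃ σ : Spec (CommRingCat.of R) ⟶ X, σ ≫ (X ↘ Spec (CommRingCat.of R)) = 𝟙 (Spec (CommRingCat.of R))) :
    Function.Surjective (Sheaf.H.map ((SheafOfModules.toSheaf X.ringCatSheaf).map
      (ClSub.toSubscheme (Models.specialFibreIdeal R (Over.mk (X ↘ Spec (CommRingCat.of R)))))) 0) := by
  haveI := SmoothOfRelativeDimension.smooth 1 f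
  haveI : ConnectedSpace C := GeometricallyConnected.connectedSpace_of_subsingleton f
  haveI : CompactSpace C := QuasiCompact.compactSpace_of_compactSpace f
  haveI : IsIntegral C := Groth.Agent.CurveCohLib.isIntegral_of_smooth_connected f
  have hC : Curve.IsSmoothProperCurve (FractionRing R) C f :=
    ⟨inferInstance, inferInstance, inferInstance,
      (Groth.Agent.LefPenLib.topologicalKrullDim_eq_of_smoothRelDim f (n := 1)).trans (by norm_num)⟩
  obtain ⟨hfl, -, -, g, sq⟩ := hX
  haveI := hfl
  haveI : IsIntegral X := Groth.Agent.CohFlatRS.isIntegral_of_model f _ g sq hn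
  obtain ⟨ϖ, hϖ'⟩ := IsDiscreteValuationRing.exists_irreducible R
  have hϖ := hϖ'.maximalIdeal_eq
  have hL : Groth.Agent.CohFlatRS.Lift (RingHom.id Γ(X, ⊤))
      (Coh.toGlobal (X ↘ Spec (CommRingCat.of R)) ϖ) := by
    rcases h with h | ⟨σ, hσ⟩
    · haveI := h
      exact Groth.Agent.CohFlatRS.lift_of_charZero f _ g sq hC hn hϖ
    · exact Groth.Agent.CohFlatRS.lift_of_section f _ g sq hC hn σ hσ hϖ
  have hs := Groth.Agent.CohFlatRS.surjective_of_lift (Over.mk (X ↘ Spec (CommRingCat.of R))) hϖ hL
  intro y
  let Xo : Over (Spec (CommRingCat.of R)) := Over.mk (X ↘ Spec (CommRingCat.of R))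
  let eY := Sheaf.H.equiv₀ (Coh.toAb (Coh.structureModule Xo.left)) isTerminalTop
  let eQ := Sheaf.H.equiv₀ (Coh.toAb (ClSub.quotMod (Models.specialFibreIdeal R Xo))) isTerminalTop
  obtain ⟨a, ha⟩ := hs (eQ y)
  refine ⟨eY.symm a, eQ.injective ?_⟩
  refine (Sheaf.H.equiv₀_naturality isTerminalTop _ (eY.symm a)).symm.trans ?_
  rw [AddEquiv.apply_symm_apply]
  exact ha

end Groth.Agent.S15145
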