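import Groth.Statements.S15148
import Groth.Agent.Synt29.CurveSing
import Mathlib

set_option autoImplicit false
universe u
open HilbZeta

namespace Groth.Agent.S15148

/-- Let k be a field, s a natural number and R a k-subalgebra of the product of s copies of the power
series ring k[[x]], of finite codimension δ over k and local with residue field k (all components of
an element of R have the same constant term); write v_i for the x-adic order of the i-th component
of an s-tuple, and let c = (c_1, …, c_s) be the conductor exponents, so that an s-tuple f satisfies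
f·g ∈ R for every s-tuple g exactly when v_i(f) ≥ c_i for all i (over an algebraically closed field
such an R is precisely the completed local ring of a reduced curve singularity having s branches
sitting inside its normalisation, δ is its delta invariant and the conductor ideal is generated by
the x_i^{c_i}), and put C = c_1 + ⋯ + c_s. Let I be an ideal of R of finite colength d with
branch-length vector a (for every i the ideal of k[[x]] generated by the i-th components of the
elements of I is (x^{a_i})). Then −δ ≤ d − Σ a_i ≤ C − δ, and the second inequality is strict when R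
is not the whole product (the singularity is not smooth). (The published statement is over an
algebraically closed field; this row allows any field.) -/
theorem result (k : Type u) [Field k] (s : ℕ)
    (R : Subalgebra k (Fin s → PowerSeries k))
    (hfin : Module.Finite k ((Fin s → PowerSeries k) ⧸ Subalgebra.toSubmodule R))
    (hloc : ∀ f ∈ R, ∀ i j : Fin s, PowerSeries.constantCoeff (f i) = PowerSeries.constantCoeff (f j))
    (c : Fin s → ℕ)
    (hc : ∀ f : Fin s → PowerSeries k,
      (∀ g : Fin s → PowerSeries k, g * f ∈ R) ↔ ∀ i, ((c i : ℕ) : ℕ∞) ≤ (f i).order)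
    (I : Ideal ↥R) (hI : Module.Finite k (↥R ⧸ I)) (a : Fin s → ℕ)
    (ha : (∀ i : Fin s, Ideal.map ((Pi.evalAlgHom k (fun _ : Fin s => PowerSeries k) i).comp R.val) I = Ideal.span {PowerSeries.X ^ (a i)})) :
    (∑ i, a i) ≤ Module.finrank k (↥R ⧸ I) + Module.finrank k ((Fin s → PowerSeries k) ⧸ Subalgebra.toSubmodule R) ∧
    Module.finrank k (↥R ⧸ I) + Module.finrank k ((Fin s → PowerSeries k) ⧸ Subalgebra.toSubmodule R) ≤ (∑ i, a i) + ∑ i, c i ∧
    (R ≠ ⊤ → Module.finrank k (↥R ⧸ I) + Module.finrank k ((Fin s → PowerSeries k) ⧸ Subalgebra.toSubmodule R) < (∑ i, a i) + ∑ i, c i) := by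
  classical
  let W := Groth.Agent.Synt29.CurveSing.W (k := k) (s := s)
  let P := Subalgebra.toSubmodule R
  let I' : Submodule k (Fin s → PowerSeries k) := (I.restrictScalars k).map R.val.toLinearMap
  have hI'P : I' ≤ P := by rintro _ ⟨x, -, rfl⟩; exact x.2
  have hI'a : I' ≤ W a := by
    rintro _ ⟨x, hx, rfl⟩ i
    exact Groth.Agent.Synt29.CurveSing.le_order R I a ha hx i
  have hWI' : W (fun i => a i + c i) ≤ I' := fun g hg => by
    obtain ⟨hgR, hgI⟩ := Groth.Agent.Synt29.CurveSing.mem_ideal R c hc I a
      (Groth.Agent.Synt29.CurveSing.exists_order R I a ha) g hg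
    exact ⟨⟨g, hgR⟩, hgI, rfl⟩
  have f0 := Groth.Agent.Synt29.CurveSing.finite_quot (k := k) (fun i => a i + c i)
  have hmono : ∀ {U V : Submodule k (Fin s → PowerSeries k)}, U ≤ V → Module.Finite k (_ ⧸ U) →
      Module.finrank k (_ ⧸ V) ≤ Module.finrank k (_ ⧸ U) := fun {U V} h hf =>
    LinearMap.finrank_le_finrank_of_surjective (f := Submodule.factor h) (Submodule.factor_surjective h)
  have f1 : Module.Finite k (_ ⧸ I') :=
    Module.Finite.of_surjective (Submodule.factor hWI') (Submodule.factor_surjective hWI')
  have hadd : Module.finrank k (↥R ⧸ I) + Module.finrank k ((Fin s → PowerSeries k) ⧸ P) =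
      Module.finrank k ((Fin s → PowerSeries k) ⧸ I') := by
    rw [← Submodule.finrank_quotient_add_finrank (P.map I'.mkQ),
      (Submodule.quotientQuotientEquivQuotient I' P hI'P).finrank_eq, add_comm]
    congr 1
    let φ : ↥R →ₗ[k] ((Fin s → PowerSeries k) ⧸ I') := I'.mkQ.comp R.val.toLinearMap
    have hr : LinearMap.range φ = P.map I'.mkQ := by
      rw [LinearMap.range_comp]
      congr 1
      exact le_antisymm (by rintro _ ⟨x, rfl⟩; exact x.2) (fun x hx => ⟨⟨x, hx⟩, rfl⟩)
    have hk : LinearMap.ker φ = I.restrictScalars k := by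
      ext x
      rw [LinearMap.mem_ker, LinearMap.comp_apply, Submodule.mkQ_apply, Submodule.Quotient.mk_eq_zero]
      exact ⟨fun ⟨y, hy, e⟩ => Subtype.ext e ▸ hy, fun hx => ⟨x, hx, rfl⟩⟩
    rw [← hr, ← φ.quotKerEquivRange.finrank_eq, (Submodule.quotEquivOfEq _ _ hk).finrank_eq]
    exact (Submodule.Quotient.restrictScalarsEquiv k I).finrank_eq.symm
  have hsum : ∑ i, (a i + c i) = (∑ i, a i) + ∑ i, c i := Finset.sum_add_distrib
  rw [hadd]
  refine ⟨?_, ?_, fun hR => ?_⟩
  · rw [← Groth.Agent.Synt29.CurveSing.finrank_quot (k := k) a]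
    exact hmono hI'a f1
  · rw [← hsum, ← Groth.Agent.Synt29.CurveSing.finrank_quot (k := k) (fun i => a i + c i)]
    exact hmono hWI' f0
  · rw [← hsum, ← Groth.Agent.Synt29.CurveSing.finrank_quot (k := k) (fun i => a i + c i)]
    refine lt_of_le_of_ne (hmono hWI' f0) fun heq => hR ?_
    have heqI : I' ≤ W (fun i => a i + c i) := by
      let π := Submodule.factor hWI'
      have hinj : Function.Injective π :=
        (LinearMap.injective_iff_surjective_of_finrank_eq_finrank heq.symm).2 (Submodule.factor_surjective hWI')
      intro x hx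
      rw [← Submodule.Quotient.mk_eq_zero]
      apply hinj
      rw [map_zero]
      exact (Submodule.Quotient.mk_eq_zero I').2 hx
    have hc0 : ∀ i, c i = 0 := fun i => by
      obtain ⟨f, hf, hfo⟩ := Groth.Agent.Synt29.CurveSing.exists_order R I a ha i
      have h := heqI ⟨f, hf, rfl⟩ i
      change ((a i + c i : ℕ) : ℕ∞) ≤ ((f : Fin s → PowerSeries k) i).order at h
      rw [hfo] at h
      have : a i + c i ≤ a i := by exact_mod_cast h
      omega
    rw [eq_top_iff]
    intro f _
    exact Groth.Agent.Synt29.CurveSing.mem_of_order R c hc (fun i => by rw [hc0 i]; simp)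

end Groth.Agent.S15148
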