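import Groth.Statements.S15149
import Groth.Agent.Synt29.CurveShift
import Mathlib

set_option autoImplicit false
universe u
open HilbZeta

namespace Groth.Agent.S15149

open Groth.Agent.Synt29.CurveSing

/-- Let k be a field, s a natural number and R a k-subalgebra of the product of s copies of the power
series ring k[[x]], of finite codimension δ over k and local with residue field k (all components of
an element of R have the same constant term); write v_i for the x-adic order of the i-th component
of an s-tuple, and let c = (c_1, …, c_s) be the conductor exponents, so that an s-tuple f satisfies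
f·g ∈ R for every s-tuple g exactly when v_i(f) ≥ c_i for all i (over an algebraically closed field
such an R is precisely the completed local ring of a reduced curve singularity having s branches
sitting inside its normalisation, δ is its delta invariant and the conductor ideal is generated by
the x_i^{c_i}). Fix a branch j, a colength d and a branch-length vector a = (a_1, …, a_s) with a_j ≥
c_j, and let ξ be the s-tuple with x in the j-th place and 1 elsewhere. Call an ideal I of R of type
(d, a) when it has colength d and, for every i, the ideal of k[[x]] generated by the i-th components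
of its elements is (x^{a_i}). Then multiplication by ξ is a bijection from the ideals of type (d, a)
onto the ideals of type (d + 1, a + e_j), where a + e_j is a with its j-th entry raised by one: for
every ideal I of type (d, a) the set ξ·I is (the image of) an ideal of type (d + 1, a + e_j), and
every ideal of type (d + 1, a + e_j) is ξ·I for some ideal I of type (d, a). (The published
statement is the equality, in the Grothendieck ring of varieties, of the classes of the two
corresponding branch-length strata of the punctual Hilbert scheme; this row states the bijection on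
ideals underlying it, which is what the argument establishes; the published statement is over an
algebraically closed field, and this row allows any field.) -/
theorem result (k : Type u) [Field k] (s : ℕ)
    (R : Subalgebra k (Fin s → PowerSeries k))
    (hfin : Module.Finite k ((Fin s → PowerSeries k) ⧸ Subalgebra.toSubmodule R))
    (hloc : ∀ f ∈ R, ∀ i j : Fin s, PowerSeries.constantCoeff (f i) = PowerSeries.constantCoeff (f j))
    (c : Fin s → ℕ)
    (hc : ∀ f : Fin s → PowerSeries k,
      (∀ g : Fin s → PowerSeries k, g * f ∈ R) ↔ ∀ i, ((c i : ℕ) : ℕ∞) ≤ (f i).order)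
    (j : Fin s) (d : ℕ) (a : Fin s → ℕ) (hj : c j ≤ a j) :
    (∀ I ∈ {I : Ideal ↥R | Module.Finite k (↥R ⧸ I) ∧ Module.finrank k (↥R ⧸ I) = d ∧ (∀ i : Fin s, Ideal.map ((Pi.evalAlgHom k (fun _ : Fin s => PowerSeries k) i).comp R.val) I = Ideal.span {PowerSeries.X ^ (a i)})},
      ∃ J ∈ {I : Ideal ↥R | Module.Finite k (↥R ⧸ I) ∧ Module.finrank k (↥R ⧸ I) = d + 1 ∧ (∀ i : Fin s, Ideal.map ((Pi.evalAlgHom k (fun _ : Fin s => PowerSeries k) i).comp R.val) I = Ideal.span {PowerSeries.X ^ ((Function.update a j (a j + 1)) i)})},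
        (Subtype.val '' (J : Set ↥R)) = (fun f => Pi.mulSingle j PowerSeries.X * f) '' (Subtype.val '' (I : Set ↥R))) ∧
    (∀ J ∈ {I : Ideal ↥R | Module.Finite k (↥R ⧸ I) ∧ Module.finrank k (↥R ⧸ I) = d + 1 ∧ (∀ i : Fin s, Ideal.map ((Pi.evalAlgHom k (fun _ : Fin s => PowerSeries k) i).comp R.val) I = Ideal.span {PowerSeries.X ^ ((Function.update a j (a j + 1)) i)})},
      ∃ I ∈ {I : Ideal ↥R | Module.Finite k (↥R ⧸ I) ∧ Module.finrank k (↥R ⧸ I) = d ∧ (∀ i : Fin s, Ideal.map ((Pi.evalAlgHom k (fun _ : Fin s => PowerSeries k) i).comp R.val) I = Ideal.span {PowerSeries.X ^ (a i)})},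
        (Subtype.val '' (J : Set ↥R)) = (fun f => Pi.mulSingle j PowerSeries.X * f) '' (Subtype.val '' (I : Set ↥R))) := by
  classical
  let u : Fin s → PowerSeries k := Pi.mulSingle j PowerSeries.X
  have hufi : ∀ (f : Fin s → PowerSeries k) i, (u * f) i = if i = j then PowerSeries.X * f i else f i :=
    fun f i => mulU_apply j f i
  let a' := Function.update a j (a j + 1)
  have hX1 : ∀ b : ℕ, ∀ φ : PowerSeries k, ((b + 1 : ℕ) : ℕ∞) ≤ (PowerSeries.X * φ).order ↔ ((b : ℕ) : ℕ∞) ≤ φ.order := fun b φ => by
    rw [nat_le_order_iff, nat_le_order_iff, ← PowerSeries.X_pow_dvd_iff, ← PowerSeries.X_pow_dvd_iff, pow_succ',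
      mul_dvd_mul_iff_left PowerSeries.X_ne_zero]
  have hXo : ∀ φ : PowerSeries k, ∀ b : ℕ, (PowerSeries.X * φ).order = ((b + 1 : ℕ) : ℕ∞) ↔ φ.order = ((b : ℕ) : ℕ∞) := fun φ b => by
    rw [PowerSeries.order_mul, PowerSeries.order_X]
    induction φ.order using ENat.recTopCoe with
    | top => constructor <;> intro h <;> simp at h <;> exact absurd h.symm (ENat.natCast_ne_top _)
    | coe n =>
      constructor <;> intro h
      · have : 1 + n = b + 1 := by exact_mod_cast h
        exact_mod_cast (show n = b by omega)
      · have : n = b := by exact_mod_cast h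
        subst this
        push_cast
        rw [add_comm]
  -- a tuple differing from an element of `R` only by high order on the branch `j`
  have hmem : ∀ h : Fin s → PowerSeries k, ((a j : ℕ) : ℕ∞) ≤ (h j).order → (u * h ∈ R ↔ h ∈ R) := by
    intro h hh
    have hd : u * h - h ∈ R := mem_of_order R c hc fun i => by
      rw [Pi.sub_apply, hufi]
      split
      · next he =>
        subst he
        rw [nat_le_order_iff]
        intro t ht
        have ht' : t < a i := lt_of_lt_of_le ht hj
        have e0 : ∀ t' < a i, PowerSeries.coeff t' (h i) = 0 := (nat_le_order_iff _ _).1 hh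
        rw [map_sub, e0 t ht', sub_zero]
        rcases t with _ | t
        · simp
        · rw [PowerSeries.coeff_succ_X_mul]; exact e0 t (by omega)
      · simp
    exact ⟨fun hu => by simpa using R.sub_mem hu hd, fun hh' => by simpa using R.add_mem hd hh'⟩
  have rel : ∀ I J : Ideal ↥R, (Subtype.val '' (J : Set ↥R)) = (fun f => u * f) '' (Subtype.val '' (I : Set ↥R)) →
      (J.restrictScalars k).map R.val.toLinearMap = ((I.restrictScalars k).map R.val.toLinearMap).map (mulU j) := by
    intro I J h
    apply SetLike.coe_injective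
    show Subtype.val '' (J : Set ↥R) = (fun f => u * f) '' (Subtype.val '' (I : Set ↥R))
    exact h
  have hdim : ∀ I J : Ideal ↥R, Module.Finite k ((Fin s → PowerSeries k) ⧸ (I.restrictScalars k).map R.val.toLinearMap) →
      (Subtype.val '' (J : Set ↥R)) = (fun f => u * f) '' (Subtype.val '' (I : Set ↥R)) →
      Module.Finite k (↥R ⧸ I) ∧ Module.Finite k (↥R ⧸ J) ∧
        Module.finrank k (↥R ⧸ J) = Module.finrank k (↥R ⧸ I) + 1 := by
    intro I J hfI h
    have h1 := finrank_quot_map_mulU j ((I.restrictScalars k).map R.val.toLinearMap)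
    rw [← rel I J h] at h1
    have := h1.1
    obtain ⟨eI, fI⟩ := finrank_add R I
    obtain ⟨eJ, fJ⟩ := finrank_add R J
    have := h1.2
    exact ⟨fI, fJ, by omega⟩
  have hfin' : ∀ (I : Ideal ↥R) (b : Fin s → ℕ),
      (∀ i, Ideal.map ((Pi.evalAlgHom k (fun _ : Fin s => PowerSeries k) i).comp R.val) I = Ideal.span {PowerSeries.X ^ (b i)}) →
      Module.Finite k ((Fin s → PowerSeries k) ⧸ (I.restrictScalars k).map R.val.toLinearMap) := by
    intro I b hb
    have hW : W (fun i => b i + c i) ≤ (I.restrictScalars k).map R.val.toLinearMap := fun g hg => by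
      obtain ⟨hgR, hgI⟩ := mem_ideal R c hc I b (exists_order R I b hb) g hg
      exact ⟨⟨g, hgR⟩, hgI, rfl⟩
    have := finite_quot (k := k) (fun i => b i + c i)
    exact Module.Finite.of_surjective (Submodule.factor hW) (Submodule.factor_surjective hW)
  constructor
  · rintro I ⟨hIf, hId, hIa⟩
    have hin : ∀ f : ↥R, f ∈ I → u * (f : Fin s → PowerSeries k) ∈ R := fun f hf =>
      (hmem _ (le_order R I a hIa hf j)).2 f.2
    let J : Ideal ↥R :=
      { carrier := {g | ∃ f ∈ I, (g : Fin s → PowerSeries k) = u * (f : Fin s → PowerSeries k)}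
        zero_mem' := ⟨0, I.zero_mem, by simp⟩
        add_mem' := by
          rintro g g' ⟨f, hf, e⟩ ⟨f', hf', e'⟩
          exact ⟨f + f', I.add_mem hf hf', by rw [Subalgebra.coe_add, Subalgebra.coe_add, e, e', mul_add]⟩
        smul_mem' := by
          rintro r g ⟨f, hf, e⟩
          exact ⟨r * f, I.mul_mem_left r hf, by rw [smul_eq_mul, Subalgebra.coe_mul, Subalgebra.coe_mul, e, mul_left_comm]⟩ }
    have himg : (Subtype.val '' (J : Set ↥R)) = (fun f => u * f) '' (Subtype.val '' (I : Set ↥R)) := by
      apply subset_antisymm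
      · rintro _ ⟨g, ⟨f, hf, e⟩, rfl⟩
        exact ⟨f, ⟨f, hf, rfl⟩, e.symm⟩
      · rintro _ ⟨_, ⟨f, hf, rfl⟩, rfl⟩
        exact ⟨⟨_, hin f hf⟩, ⟨f, hf, rfl⟩, rfl⟩
    obtain ⟨-, fJ, eJ⟩ := hdim I J (hfin' I a hIa) himg
    refine ⟨J, ⟨fJ, by rw [eJ, hId], fun i => map_eq_of_order R J i _ ?_ ?_⟩, himg⟩
    · rintro g ⟨f, hf, e⟩
      rw [e, hufi]
      rcases eq_or_ne i j with rfl | hij
      · rw [if_pos rfl, Function.update_self, hX1]; exact le_order R I a hIa hf i
      · rw [if_neg hij, Function.update_of_ne hij]; exact le_order R I a hIa hf i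
    · obtain ⟨f, hf, hfo⟩ := exists_order R I a hIa i
      refine ⟨⟨_, hin f hf⟩, ⟨f, hf, rfl⟩, ?_⟩
      show ((u * (f : Fin s → PowerSeries k)) i).order = _
      rw [hufi]
      rcases eq_or_ne i j with rfl | hij
      · rw [if_pos rfl, Function.update_self, hXo]; exact hfo
      · rw [if_neg hij, Function.update_of_ne hij]; exact hfo
  · rintro J ⟨hJf, hJd, hJa⟩
    have hdiv : ∀ g : ↥R, g ∈ J → ∃ h : Fin s → PowerSeries k, (g : Fin s → PowerSeries k) = u * h ∧
        h ∈ R ∧ ((a j : ℕ) : ℕ∞) ≤ (h j).order := by
      intro g hg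
      have h1 := le_order R J _ hJa hg j
      rw [Function.update_self] at h1
      obtain ⟨z, hz⟩ := (PowerSeries.X_pow_dvd_iff (φ := (g : Fin s → PowerSeries k) j) (n := a j + 1)).2
        ((nat_le_order_iff _ _).1 h1)
      let h : Fin s → PowerSeries k := Function.update (g : Fin s → PowerSeries k) j (PowerSeries.X ^ a j * z)
      have e : (g : Fin s → PowerSeries k) = u * h := funext fun i => by
        rw [hufi]
        rcases eq_or_ne i j with rfl | hij
        · rw [if_pos rfl]; simp only [h, Function.update_self]; rw [← mul_assoc, ← pow_succ', ← hz]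
        · rw [if_neg hij]; simp only [h, Function.update_of_ne hij]
      have ho : ((a j : ℕ) : ℕ∞) ≤ (h j).order := by
        rw [nat_le_order_iff, ← PowerSeries.X_pow_dvd_iff]
        simp only [h, Function.update_self]
        exact dvd_mul_right _ _
      exact ⟨h, e, (hmem h ho).1 (e ▸ g.2), ho⟩
    let I : Ideal ↥R :=
      { carrier := {f | ∃ g ∈ J, (g : Fin s → PowerSeries k) = u * (f : Fin s → PowerSeries k)}
        zero_mem' := ⟨0, J.zero_mem, by simp⟩
        add_mem' := by
          rintro f f' ⟨g, hg, e⟩ ⟨g', hg', e'⟩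
          exact ⟨g + g', J.add_mem hg hg', by rw [Subalgebra.coe_add, Subalgebra.coe_add, e, e', mul_add]⟩
        smul_mem' := by
          rintro r f ⟨g, hg, e⟩
          exact ⟨r * g, J.mul_mem_left r hg, by rw [smul_eq_mul, Subalgebra.coe_mul, Subalgebra.coe_mul, e, mul_left_comm]⟩ }
    have himg : (Subtype.val '' (J : Set ↥R)) = (fun f => u * f) '' (Subtype.val '' (I : Set ↥R)) := by
      apply subset_antisymm
      · rintro _ ⟨g, hg, rfl⟩
        obtain ⟨h, e, hR, -⟩ := hdiv g hg
        exact ⟨h, ⟨⟨h, hR⟩, ⟨g, hg, e⟩, rfl⟩, e.symm⟩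
      · rintro _ ⟨_, ⟨f, ⟨g, hg, e⟩, rfl⟩, rfl⟩
        exact ⟨g, hg, e⟩
    have hIa : ∀ i, Ideal.map ((Pi.evalAlgHom k (fun _ : Fin s => PowerSeries k) i).comp R.val) I =
        Ideal.span {PowerSeries.X ^ (a i)} := fun i => by
      refine map_eq_of_order R I i _ ?_ ?_
      · rintro f ⟨g, hg, e⟩
        have h1 := le_order R J _ hJa hg i
        rw [e, hufi] at h1
        rcases eq_or_ne i j with rfl | hij
        · rw [if_pos rfl, Function.update_self, hX1] at h1; exact h1
        · rw [if_neg hij, Function.update_of_ne hij] at h1; exact h1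
      · obtain ⟨g, hg, hgo⟩ := exists_order R J _ hJa i
        obtain ⟨h, e, hR, -⟩ := hdiv g hg
        refine ⟨⟨h, hR⟩, ⟨g, hg, e⟩, ?_⟩
        rw [e, hufi] at hgo
        rcases eq_or_ne i j with rfl | hij
        · rw [if_pos rfl, Function.update_self, hXo] at hgo; exact hgo
        · rw [if_neg hij, Function.update_of_ne hij] at hgo; exact hgo
    obtain ⟨fI, -, eI⟩ := hdim I J (hfin' I a hIa) himg
    exact ⟨I, ⟨fI, by omega, hIa⟩, himg⟩

end Groth.Agent.S15149
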