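import Groth.Statements.S15150
import Mathlib

set_option autoImplicit false
open scoped TensorProduct
universe u
open HilbZeta

namespace Groth.Agent.S15150

/-- A nil ideal in an algebra of dimension `d` over a field has vanishing `d`-th power. -/
lemma pow_finrank_eq_bot (K R : Type u) [Field K] [CommRing R] [Algebra K R] [Module.Finite K R] (J : Ideal R)
    (hJ : J ≤ nilradical R) : J ^ Module.finrank K R = ⊥ := by
  have : IsNoetherianRing R := isNoetherian_of_tower K inferInstance
  have hnil : IsNilpotent J := by
    obtain ⟨n, hn⟩ := IsNoetherianRing.isNilpotent_nilradical R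
    exact ⟨n, le_bot_iff.1 ((Ideal.pow_right_mono hJ n).trans hn.le)⟩
  have key : ∀ i : ℕ, J ^ i = ⊥ ∨ Module.finrank K ↥((J ^ i).restrictScalars K) + i ≤ Module.finrank K R := by
    intro i
    induction i with
    | zero => right; simpa using Submodule.finrank_le _
    | succ i ih =>
      by_cases h0 : J ^ (i + 1) = ⊥
      · exact Or.inl h0
      right
      have hi : J ^ i ≠ ⊥ := fun h => h0 (by rw [pow_succ, h, Ideal.bot_mul])
      have hne : J ^ (i + 1) ≠ J ^ i := by
        intro h
        obtain ⟨n, hn⟩ := hnil
        have : ∀ m, J ^ (i + m) = J ^ i := by
          intro m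
          induction m with
          | zero => rfl
          | succ m ihm => rw [← add_assoc, pow_succ, ihm, ← pow_succ, h]
        apply hi
        rw [← this n, pow_add, hn]
        exact Ideal.mul_bot _
      have hlt : (J ^ (i + 1)).restrictScalars K < (J ^ i).restrictScalars K :=
        lt_of_le_of_ne (fun x hx => Ideal.pow_le_pow_right (Nat.le_succ i) hx)
          (fun h => hne (Submodule.restrictScalars_injective K R R h))
      have := Submodule.finrank_lt_finrank_of_lt hlt
      have := ih.resolve_left hi
      omega
  rcases key (Module.finrank K R) with h | h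
  · exact h
  · have h' : Module.finrank K ↥((J ^ Module.finrank K R).restrictScalars K) = 0 := by omega
    rw [Submodule.finrank_eq_zero] at h'
    exact (Submodule.restrictScalars_eq_bot_iff K R R).1 h'

/-- Let A be a reduced commutative ring, S an A-algebra together with an A-algebra homomorphism π : S →
A (a section of Spec S → Spec A), with kernel m, and I an ideal of S such that S/I is a finite
projective A-module of constant rank d and m is contained in the radical of I (the finite flat
subscheme Spec S/I of degree d lies, as a set, on the section). Then m^d ⊆ I: the subscheme lies in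
the (d−1)-st infinitesimal neighbourhood of the section. (The published statement is for a closed
subscheme, flat and proper of degree d over a Noetherian base, of a family of reduced curve
singularities with a section, with no reducedness assumption on the base; over the dual numbers k[ε]
the ideal (x − ε) of k[ε][x] has quotient free of rank one and radical containing x but does not
contain x, so the base is taken reduced here, and the statement is given in its affine form, to
which the argument reduces at once; the curve hypotheses play no role and are dropped; the condition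
that Spec S/I lies set-theoretically on the section, which the published argument deduces from
properness of Z inside the germ, is a hypothesis here.) -/
theorem result (A : Type u) [CommRing A] [IsReduced A]
    (S : Type u) [CommRing S] [Algebra A S] (π : S →ₐ[A] A) (I : Ideal S) (d : ℕ)
    [Module.Finite A (S ⧸ I)] [Module.Projective A (S ⧸ I)]
    (hrank : ∀ p : PrimeSpectrum A, Module.rankAtStalk (R := A) (S ⧸ I) p = d)
    (hsupp : RingHom.ker π ≤ I.radical) :
    RingHom.ker π ^ d ≤ I := by
  intro z hz
  rw [← Ideal.Quotient.eq_zero_iff_mem]
  set y : S ⧸ I := Ideal.Quotient.mk I z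
  obtain ⟨σ, hσ⟩ := Module.projective_def.1 (inferInstance : Module.Projective A (S ⧸ I))
  suffices h : σ y = 0 by
    have := hσ y
    rw [h, map_zero] at this
    exact this.symm
  ext b
  rw [Finsupp.zero_apply]
  apply IsReduced.eq_zero
  rw [nilpotent_iff_mem_prime]
  intro p hp
  let K := p.ResidueField
  let R := TensorProduct A K (S ⧸ I)
  have hd : Module.finrank K R = d := by
    rw [← hrank ⟨p, hp⟩, Module.rankAtStalk_eq]
  let inc : S →+* R := (Algebra.TensorProduct.includeRight : (S ⧸ I) →ₐ[A] R).toRingHom.comp (Ideal.Quotient.mk I)
  have hJ : (RingHom.ker π).map inc ≤ nilradical R := by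
    rw [Ideal.map_le_iff_le_comap]
    intro x hx
    obtain ⟨n, hn⟩ := hsupp hx
    refine ⟨n, ?_⟩
    rw [← map_pow, RingHom.comp_apply, Ideal.Quotient.eq_zero_iff_mem.2 hn, map_zero]
    exact zero_mem _
  have h0 : inc z = 0 := by
    have h1 : inc z ∈ ((RingHom.ker π).map inc) ^ d := Ideal.map_pow inc _ d ▸ Ideal.mem_map_of_mem inc hz
    rwa [← hd, pow_finrank_eq_bot K R _ hJ, Ideal.mem_bot] at h1
  let f : (S ⧸ I) →ₗ[A] A := Finsupp.lapply b ∘ₗ σ
  have h2 : TensorProduct.rid A K (f.lTensor K (inc z)) = algebraMap A K (σ y b) := by
    show TensorProduct.rid A K (f.lTensor K ((1 : K) ⊗ₜ[A] y)) = _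
    rw [LinearMap.lTensor_tmul, TensorProduct.rid_tmul, Algebra.smul_def, mul_one]
    rfl
  rw [h0, map_zero, map_zero, eq_comm, Ideal.algebraMap_residueField_eq_zero] at h2
  exact h2

end Groth.Agent.S15150
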