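import Groth.Statements.S15152
import Mathlib

set_option autoImplicit false
universe u
open HilbZeta

namespace Groth.Agent.S15152

/-- Let k be a field, s a natural number and R a k-subalgebra of the product of s copies of the power
series ring k[[x]], of finite codimension δ over k and local with residue field k (all components of
an element of R have the same constant term); write v_i for the x-adic order of the i-th component
of an s-tuple, and let c = (c_1, …, c_s) be the conductor exponents, so that an s-tuple f satisfies
f·g ∈ R for every s-tuple g exactly when v_i(f) ≥ c_i for all i (over an algebraically closed field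
such an R is precisely the completed local ring of a reduced curve singularity having s branches
sitting inside its normalisation, δ is its delta invariant and the conductor ideal is generated by
the x_i^{c_i}). Let A be the k-subalgebra of the product of s polynomial rings k[x] consisting of
the tuples whose image in the power series product lies in R, and m₀ its ideal of tuples with zero
constant terms. Then: A is of finite type over k and has no idempotents besides 0 and 1; the product
of polynomial rings is a finite A-module, and for some N every product of N elements of m₀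
multiplies all of it into A; every element of R is approximated to any x-adic order by elements of
A; and for every N there is an M such that every element of A whose components are all divisible by
x^M lies in m₀^N. In words: Y = Spec A is a connected affine curve whose normalisation is the
disjoint union of s affine lines and is an isomorphism away from the origin, and the completed local
ring of Y at the origin is R, compatibly with the inclusion of the polynomial product in the power
series product. (The published statement asserts the existence of such a curve Y and is over an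
algebraically closed field; this row names Y and allows any field.) -/
theorem result (k : Type u) [Field k] (s : ℕ)
    (R : Subalgebra k (Fin s → PowerSeries k))
    (hfin : Module.Finite k ((Fin s → PowerSeries k) ⧸ Subalgebra.toSubmodule R))
    (hloc : ∀ f ∈ R, ∀ i j : Fin s, PowerSeries.constantCoeff (f i) = PowerSeries.constantCoeff (f j))
    (c : Fin s → ℕ)
    (hc : ∀ f : Fin s → PowerSeries k,
      (∀ g : Fin s → PowerSeries k, g * f ∈ R) ↔ ∀ i, ((c i : ℕ) : ℕ∞) ≤ (f i).order)
    (A : Subalgebra k (Fin s → Polynomial k))
    (hA : ∀ g : Fin s → Polynomial k, g ∈ A ↔ (fun i => ((g i : Polynomial k) : PowerSeries k)) ∈ R) :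
    Algebra.FiniteType k ↥A ∧
    (∀ e ∈ A, e * e = e → e = 0 ∨ e = 1) ∧
    Module.Finite ↥A (Fin s → Polynomial k) ∧
    (∃ N : ℕ, ∀ g : Fin N → (Fin s → Polynomial k),
      (∀ n, g n ∈ A ∧ ∀ i, (g n i).coeff 0 = 0) → ∀ p : Fin s → Polynomial k, p * ∏ n, g n ∈ A) ∧
    (∀ f ∈ R, ∀ N : ℕ, ∃ g ∈ A, ∀ i : Fin s, (N : ℕ∞) ≤ (f i - ((g i : Polynomial k) : PowerSeries k)).order) ∧
    (∀ N : ℕ, ∃ M : ℕ, ∀ g : ↥A, (∀ i : Fin s, Polynomial.X ^ M ∣ (g : Fin s → Polynomial k) i) →
      g ∈ (Ideal.span {h : ↥A | ∀ i : Fin s, ((h : Fin s → Polynomial k) i).coeff 0 = 0}) ^ N) := by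
  
  classical
  let C : ℕ := (Finset.univ.sup c) + 1
  have hcC : ∀ i, c i ≤ C := fun i => (Finset.le_sup (Finset.mem_univ i)).trans (Nat.le_succ _)
  have hC1 : 1 ≤ C := Nat.succ_le_succ (Nat.zero_le _)
  let toR : (Fin s → Polynomial k) → (Fin s → PowerSeries k) := fun g i => (g i : PowerSeries k)
  have hRmem : ∀ f : Fin s → PowerSeries k, (∀ i, ((C : ℕ) : ℕ∞) ≤ (f i).order) → f ∈ R := by
    intro f hf
    have := (hc f).2 (fun i => (Nat.cast_le.2 (hcC i)).trans (hf i)) 1
    rwa [one_mul] at this
  have hcond : ∀ g : Fin s → Polynomial k, (∀ i, Polynomial.X ^ C ∣ g i) → g ∈ A := by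
    intro g hg
    refine (hA g).2 (hRmem _ fun i => PowerSeries.nat_le_order _ _ fun j hj => ?_)
    rw [Polynomial.coeff_coe]
    exact Polynomial.X_pow_dvd_iff.1 (hg i) j hj
  let u : Fin s → (Fin s → Polynomial k) := fun i => Pi.single i (Polynomial.X ^ C)
  have hu : ∀ i, u i ∈ A := fun i => hcond _ fun j => by
    rcases eq_or_ne j i with rfl | h
    · simp [u]
    · simp [u, h]
  -- finiteness of the normalisation
  have hfinite : Module.Finite ↥A (Fin s → Polynomial k) := by
    let G : Finset (Fin s → Polynomial k) :=
      (Finset.univ : Finset (Fin s × Fin C)).image fun ij => Pi.single ij.1 (Polynomial.X ^ (ij.2 : ℕ))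
    have hmon : ∀ (n : ℕ) (i : Fin s),
        (Pi.single i (Polynomial.X ^ n) : Fin s → Polynomial k) ∈ Submodule.span ↥A (G : Set (Fin s → Polynomial k)) := by
      intro n
      induction n using Nat.strong_induction_on with
      | _ n ih =>
        intro i
        rcases lt_or_ge n C with hn | hn
        · exact Submodule.subset_span (Finset.mem_coe.2 (Finset.mem_image.2 ⟨(i, ⟨n, hn⟩), Finset.mem_univ _, rfl⟩))
        · have : (Pi.single i (Polynomial.X ^ n) : Fin s → Polynomial k) =
              (⟨u i, hu i⟩ : ↥A) • (Pi.single i (Polynomial.X ^ (n - C)) : Fin s → Polynomial k) := by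
            show _ = u i * _
            funext j
            rcases eq_or_ne j i with rfl | h
            · simp [u, ← pow_add, Nat.add_sub_cancel' hn]
            · simp [u, h]
          rw [this]
          exact Submodule.smul_mem _ _ (ih (n - C) (by omega) i)
    refine ⟨⟨G, eq_top_iff.2 fun g _ => ?_⟩⟩
    rw [← Finset.univ_sum_single g]
    refine Submodule.sum_mem _ fun i _ => ?_
    induction g i using Polynomial.induction_on' with
    | add p q hp hq => rw [Pi.single_add]; exact add_mem hp hq
    | monomial n a =>
      have : (Pi.single i (Polynomial.monomial n a) : Fin s → Polynomial k) =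
          (algebraMap k ↥A a) • (Pi.single i (Polynomial.X ^ n) : Fin s → Polynomial k) := by
        rw [IsScalarTower.algebraMap_smul, ← Pi.single_smul, Polynomial.smul_X_eq_monomial]
      rw [this]
      exact Submodule.smul_mem _ _ (hmon n i)
  have hft : Algebra.FiniteType k (Fin s → Polynomial k) := by
    let G : Finset (Fin s → Polynomial k) :=
      (Finset.univ : Finset (Fin s)).image (fun i => Pi.single i 1) ∪
        (Finset.univ : Finset (Fin s)).image (fun i => Pi.single i Polynomial.X)
    refine ⟨⟨G, eq_top_iff.2 fun g _ => ?_⟩⟩
    rw [← Finset.univ_sum_single g]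
    refine Subalgebra.sum_mem _ fun i _ => ?_
    induction g i using Polynomial.induction_on' with
    | add p q hp hq => rw [Pi.single_add]; exact add_mem hp hq
    | monomial n a =>
      have : (Pi.single i (Polynomial.monomial n a) : Fin s → Polynomial k) =
          a • ((Pi.single i 1 : Fin s → Polynomial k) * (Pi.single i Polynomial.X : Fin s → Polynomial k) ^ n) := by
        funext j
        rcases eq_or_ne j i with rfl | h
        · simp [Polynomial.smul_X_eq_monomial]
        · simp [h]
      rw [this]
      refine Subalgebra.smul_mem _ (mul_mem (Algebra.subset_adjoin ?_) (pow_mem (Algebra.subset_adjoin ?_) _)) a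
      · exact Finset.mem_coe.2 (Finset.mem_union_left _ (Finset.mem_image.2 ⟨i, Finset.mem_univ _, rfl⟩))
      · exact Finset.mem_coe.2 (Finset.mem_union_right _ (Finset.mem_image.2 ⟨i, Finset.mem_univ _, rfl⟩))
  refine ⟨⟨fg_of_fg_of_fg k ↥A (Fin s → Polynomial k) hft.1 hfinite.1 Subtype.val_injective⟩,
    fun e he hee => ?_, hfinite, ⟨C, fun g hg p => hcond _ fun i => ?_⟩, fun f hf N => ?_, fun N => ?_⟩
  · have h01 : ∀ i, e i = 0 ∨ e i = 1 := fun i => IsIdempotentElem.iff_eq_zero_or_one.1 (congrFun hee i)
    have hcc : ∀ i j, (e i).coeff 0 = (e j).coeff 0 := fun i j => by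
      have := hloc _ ((hA e).1 he) i j
      simpa [← PowerSeries.coeff_zero_eq_constantCoeff_apply] using this
    by_cases h : ∀ i, e i = 0
    · exact Or.inl (funext h)
    · push Not at h
      obtain ⟨i, hi⟩ := h
      refine Or.inr (funext fun j => (h01 j).resolve_left fun hj => ?_)
      have := hcc i j
      rw [(h01 i).resolve_left hi, hj] at this
      simp at this
  · rw [Pi.mul_apply, Finset.prod_apply]
    refine Dvd.dvd.mul_left ?_ _
    have := Finset.prod_dvd_prod_of_dvd (fun _ => Polynomial.X) (fun n => g n i)
      (s := (Finset.univ : Finset (Fin C))) fun n _ => Polynomial.X_dvd_iff.2 ((hg n).2 i)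
    simpa using this
  · let g : Fin s → Polynomial k := fun i => PowerSeries.trunc (max N C) (f i)
    have hord : ∀ i, ((max N C : ℕ) : ℕ∞) ≤ (f i - (g i : PowerSeries k)).order := fun i =>
      PowerSeries.nat_le_order _ _ fun j hj => by simp [g, PowerSeries.coeff_trunc, hj]
    refine ⟨g, (hA g).2 ?_, fun i => le_trans (Nat.cast_le.2 (le_max_left _ _)) (hord i)⟩
    have h1 : (fun i => f i - (g i : PowerSeries k)) ∈ R :=
      hRmem _ fun i => le_trans (Nat.cast_le.2 (le_max_right _ _)) (hord i)
    have h2 := R.sub_mem hf h1
    simpa [Pi.sub_def] using h2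
  · refine ⟨C * N + C, fun g hg => ?_⟩
    choose q hq using hg
    let U : ↥A := ⟨fun _ => Polynomial.X ^ C, hcond _ fun _ => dvd_rfl⟩
    let r : ↥A := ⟨fun i => Polynomial.X ^ C * q i, hcond _ fun i => dvd_mul_right _ _⟩
    have he : g = U ^ N * r := Subtype.ext (funext fun i => by
      rw [hq i]
      simp [U, r, pow_add, pow_mul, mul_assoc])
    rw [he]
    refine Ideal.mul_mem_right _ _ (Ideal.pow_mem_pow (Ideal.subset_span fun i => ?_) N)
    simp [U, Polynomial.coeff_X_pow, (by omega : ¬ 0 = C)]

end Groth.Agent.S15152
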