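import Groth.Statements.S15153
import Groth.Agent.FibreKer.Basic

set_option autoImplicit false
set_option linter.style.haveILetI false
universe u
open TensorProduct
open HilbZeta

namespace Groth.Agent.S15153

open TensorProduct

/-- The canonical map from the base change of endomorphisms. -/
noncomputable def theta {A : Type u} [CommRing A] (Q : Type u) [AddCommGroup Q] [Module A Q] (K : Type u) [CommRing K]
    [Algebra A K] : K ⊗[A] (Q →ₗ[A] Q) →ₗ[K] (K ⊗[A] Q →ₗ[K] K ⊗[A] Q) :=
  (LinearMap.baseChangeHom A K Q Q).liftBaseChange K

theorem theta_tmul {A : Type u} [CommRing A] {Q : Type u} [AddCommGroup Q] [Module A Q] {K : Type u} [CommRing K]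
    [Algebra A K] (c : K) (f : Q →ₗ[A] Q) : theta (A := A) Q K (c ⊗ₜ[A] f) = c • f.baseChange K := by
  simp [theta]

theorem theta_injective {A : Type u} [CommRing A] (Q : Type u) [AddCommGroup Q] [Module A Q] [Module.Finite A Q]
    [Module.Projective A Q] (K : Type u) [CommRing K] [Algebra A K] : Function.Injective (theta (A := A) Q K) := by
  obtain ⟨n, π, i, -, -, hπi⟩ := Module.Finite.exists_comp_eq_id_of_projective A Q
  let conj : (Q →ₗ[A] Q) →ₗ[A] ((Fin n → A) →ₗ[A] (Fin n → A)) :=
    (LinearMap.llcomp A (Fin n → A) Q (Fin n → A) i).comp (LinearMap.lcomp A Q π)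
  let back : ((Fin n → A) →ₗ[A] (Fin n → A)) →ₗ[A] (Q →ₗ[A] Q) :=
    (LinearMap.llcomp A Q (Fin n → A) Q π).comp (LinearMap.lcomp A (Fin n → A) i)
  have hback : back.comp conj = LinearMap.id := LinearMap.ext fun φ => LinearMap.ext fun q => by
    have h1 := LinearMap.congr_fun hπi q
    have h2 := LinearMap.congr_fun hπi (φ q)
    simp only [LinearMap.comp_apply, LinearMap.id_apply] at h1 h2
    simp [conj, back, h1, h2]
  have hnat : ∀ x, theta (A := A) (Fin n → A) K (conj.baseChange K x) =
      (i.baseChange K).comp ((theta (A := A) Q K x).comp (π.baseChange K)) := fun x => by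
    induction x with
    | zero => simp
    | tmul c f =>
      rw [LinearMap.baseChange_tmul, theta_tmul, theta_tmul, LinearMap.smul_comp, LinearMap.comp_smul,
        show conj f = i.comp (f.comp π) from rfl, LinearMap.baseChange_comp, LinearMap.baseChange_comp]
    | add a b ha hb => simp only [map_add, ha, hb, LinearMap.add_comp, LinearMap.comp_add]
  have hF : Function.Injective (theta (A := A) (Fin n → A) K) :=
    (Module.isBaseChange_map_of_finite_free (R := A) (Fin n → A) K (Fin n)).equiv.injective
  intro x y h
  have h1 : conj.baseChange K x = conj.baseChange K y := hF (by rw [hnat, hnat, h])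
  have h2 := congrArg (back.baseChange K) h1
  rw [← LinearMap.comp_apply, ← LinearMap.comp_apply, ← LinearMap.baseChange_comp, hback,
    LinearMap.baseChange_id] at h2
  exact h2

theorem projective_end {A : Type u} [CommRing A] (Q : Type u) [AddCommGroup Q] [Module A Q] [Module.Finite A Q]
    [Module.Projective A Q] : Module.Projective A (Q →ₗ[A] Q) := by
  obtain ⟨n, π, i, -, -, hπi⟩ := Module.Finite.exists_comp_eq_id_of_projective A Q
  refine Module.Projective.of_split (M := (Fin n → A) →ₗ[A] (Fin n → A))
    ((LinearMap.llcomp A (Fin n → A) Q (Fin n → A) i).comp (LinearMap.lcomp A Q π))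
    ((LinearMap.llcomp A Q (Fin n → A) Q π).comp (LinearMap.lcomp A (Fin n → A) i))
    (LinearMap.ext fun φ => LinearMap.ext fun q => ?_)
  have h1 := LinearMap.congr_fun hπi q
  have h2 := LinearMap.congr_fun hπi (φ q)
  simp only [LinearMap.comp_apply, LinearMap.id_apply] at h1 h2
  simp [h1, h2]

theorem finrank_span_eq {A : Type u} [CommRing A] (Q : Type u) [AddCommGroup Q] [Module A Q] [Module.Finite A Q]
    [Module.Projective A Q] (K : Type u) [Field K] [Algebra A K] {ι : Type u} (μ : ι → (Q →ₗ[A] Q)) :
    Module.finrank K (Submodule.span K (Set.range fun s => (μ s).baseChange K)) =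
      Module.finrank K (LinearMap.range ((Submodule.span A (Set.range μ)).subtype.baseChange K)) := by
  rw [(Submodule.equivMapOfInjective _ (theta_injective (A := A) Q K) _).finrank_eq]
  suffices h : Submodule.span K (Set.range fun s => (μ s).baseChange K) =
      (LinearMap.range ((Submodule.span A (Set.range μ)).subtype.baseChange K)).map (theta (A := A) Q K) by rw [h]
  refine le_antisymm (Submodule.span_le.2 ?_) ?_
  · rintro _ ⟨s, rfl⟩
    exact ⟨_, ⟨(1 : K) ⊗ₜ[A] ⟨μ s, Submodule.subset_span ⟨s, rfl⟩⟩, rfl⟩, by simp [theta_tmul]⟩
  · rintro _ ⟨_, ⟨x, rfl⟩, rfl⟩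
    induction x with
    | zero => simp
    | add a b ha hb => simp only [map_add]; exact add_mem ha hb
    | tmul c m =>
      rw [LinearMap.baseChange_tmul, theta_tmul]
      refine Submodule.smul_mem _ c ?_
      obtain ⟨m, hm⟩ := m
      show (LinearMap.baseChangeHom A K Q Q m : K ⊗[A] Q →ₗ[K] K ⊗[A] Q) ∈ _
      induction hm using Submodule.span_induction with
      | mem m hm => obtain ⟨s, rfl⟩ := hm; exact Submodule.subset_span ⟨s, rfl⟩
      | zero => rw [map_zero]; exact zero_mem _
      | add a b _ _ ha hb => rw [map_add]; exact add_mem ha hb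
      | smul t a _ ha => rw [map_smul, ← algebraMap_smul K t]; exact Submodule.smul_mem _ _ ha

theorem isConstructible_of_diff {A : Type u} [CommRing A] [IsNoetherianRing A] {U V : Set (PrimeSpectrum A)}
    (hU : IsOpen U) (hV : IsOpen V) : Topology.IsConstructible (U \ V) :=
  ((TopologicalSpace.NoetherianSpace.isCompact U).isConstructible hU).sdiff
    ((TopologicalSpace.NoetherianSpace.isCompact V).isConstructible hV)

/-- Let A be a Noetherian commutative ring, S a commutative A-algebra and Q an S-module which is finite
and flat as an A-module. For a prime p of A with residue field κ(p), multiplication by an element of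
S induces a κ(p)-linear endomorphism of the fibre κ(p) ⊗_A Q; let φ(p) be the κ(p)-dimension of the
span of these endomorphisms, which is the colength of the annihilator of the fibre module κ(p) ⊗_A Q
in the fibre algebra κ(p) ⊗_A S (the length of the smallest subscheme of the fibre carrying it).
Then p ↦ φ(p) is a constructible function: for every n the primes with φ(p) = n form a constructible
subset of Spec A. (The published statement is for a coherent sheaf, flat and finite over a
Noetherian base, on a family of reduced curve singularities with a section, and its function of the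
base point is this colength; the curve hypotheses play no role and the row is the affine form over
any Noetherian ring.) -/
theorem result (A : Type u) [CommRing A] [IsNoetherianRing A]
    (S : Type u) [CommRing S] [Algebra A S]
    (Q : Type u) [AddCommGroup Q] [Module A Q] [Module S Q] [IsScalarTower A S Q]
    [Module.Finite A Q] [Module.Flat A Q] (n : ℕ) :
    Topology.IsConstructible {p : PrimeSpectrum A |
      Module.finrank p.asIdeal.ResidueField
        (Submodule.span p.asIdeal.ResidueField
          (Set.range fun s : S =>
            LinearMap.baseChange p.asIdeal.ResidueField (DistribSMul.toLinearMap A Q s))) = n} := by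
  classical
  haveI : Module.FinitePresentation A Q := Module.finitePresentation_of_finite A Q
  haveI : Module.Projective A Q := Module.Flat.projective_of_finitePresentation
  let W := Submodule.span A (Set.range fun s : S => DistribSMul.toLinearMap A Q s)
  haveI : IsNoetherian A (Q →ₗ[A] Q) := isNoetherian_of_isNoetherianRing_of_finite A _
  haveI : Module.Finite A W := Module.Finite.iff_fg.2 (IsNoetherian.noetherian W)
  let a := Groth.Agent.FibreKer.rk (A := A) (Q →ₗ[A] Q)
  let b := Groth.Agent.FibreKer.rk (A := A) ((Q →ₗ[A] Q) ⧸ LinearMap.range W.subtype)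
  have key : ∀ x : PrimeSpectrum A, Module.finrank x.asIdeal.ResidueField
      (Submodule.span x.asIdeal.ResidueField (Set.range fun s : S =>
        LinearMap.baseChange x.asIdeal.ResidueField (DistribSMul.toLinearMap A Q s))) + b x = a x := fun x => by
    rw [finrank_span_eq]
    exact Groth.Agent.FibreKer.finrank_range_add W.subtype
  haveI : Module.Projective A (Q →ₗ[A] Q) := projective_end Q
  have ha : IsLocallyConstant a := Groth.Agent.FibreKer.isLocallyConstant_rk _
  have hb : ∀ m, IsOpen {x | b x < m} := fun m =>
    (Groth.Agent.FibreKer.upperSemicontinuous_rk (A := A) _).isOpen_preimage m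
  have heq : {p : PrimeSpectrum A | Module.finrank p.asIdeal.ResidueField
      (Submodule.span p.asIdeal.ResidueField (Set.range fun s : S =>
        LinearMap.baseChange p.asIdeal.ResidueField (DistribSMul.toLinearMap A Q s))) = n} =
      ⋃ j ∈ Set.range a, (a ⁻¹' {j}) ∩ ({x | b x + n < j + 1} \ {x | b x + n < j}) := by
    ext x
    have := key x
    simp only [Set.mem_ofPred_eq, Set.mem_iUnion, Set.mem_inter_iff, Set.mem_preimage, Set.mem_singleton_iff,
      Set.mem_diff, Set.mem_range, exists_prop]
    constructor
    · intro h; exact ⟨a x, ⟨x, rfl⟩, rfl, by omega, by omega⟩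
    · rintro ⟨j, -, hj, h1, h2⟩; omega
  rw [heq]
  refine Topology.IsConstructible.biUnion ha.range_finite fun j _ => ?_
  refine ((TopologicalSpace.NoetherianSpace.isCompact _).isConstructible (ha {j})).inter (isConstructible_of_diff ?_ ?_) <;>
  · rw [show {x | b x + n < _} = {x | b x < _ - n} from Set.ext fun x => (Nat.lt_sub_iff_add_lt).symm]
    exact hb _

end Groth.Agent.S15153
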