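import Mathlib
import Groth.Statements.S15155
-- import your own Groth.Agent.* helpers here

set_option autoImplicit false
open CAlg

namespace Groth.Agent.S15155

open Matrix

lemma det_skew_isSquare {F : Type*} [Field F] (h2 : (2 : F) ≠ 0) :
    ∀ (N : ℕ) (n : Type) [Fintype n] [DecidableEq n] (S : Matrix n n F),
      Fintype.card n = N → Sᵀ = -S → IsSquare S.det := by
  intro N
  induction N using Nat.strong_induction_on with
  | _ N ih =>
    intro n _ _ S hN hS
    classical
    have hij : ∀ a b, S b a = -S a b := fun a b => congrFun (congrFun hS a) b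
    have hd : ∀ a, S a a = 0 := fun a => by
      have := hij a a
      rw [eq_neg_iff_add_eq_zero, ← two_mul, mul_eq_zero] at this
      exact this.resolve_left h2
    by_cases h0 : S = 0
    · subst h0
      rcases isEmpty_or_nonempty n with h | h
      · exact ⟨1, by rw [Matrix.det_isEmpty]; simp⟩
      · exact ⟨0, by simp⟩
    obtain ⟨i, j, hne⟩ : ∃ i j, S i j ≠ 0 := by
      by_contra hc
      push Not at hc
      exact h0 (Matrix.ext hc)
    have hne' : i ≠ j := fun h => hne (h ▸ hd i)
    let p : n → Prop := fun x => x = i ∨ x = j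
    let e : {x // p x} ⊕ {x // ¬ p x} ≃ n := Equiv.sumCompl p
    let T := S.submatrix e e
    have hT : S.det = T.det := (Matrix.det_submatrix_equiv_self e S).symm
    let A := T.toBlocks₁₁
    let B := T.toBlocks₁₂
    let C := T.toBlocks₂₁
    let D := T.toBlocks₂₂
    let f : Fin 2 → {x // p x} := fun a => if a = 0 then ⟨i, Or.inl rfl⟩ else ⟨j, Or.inr rfl⟩
    have hf : Function.Bijective f := by
      refine ⟨fun a b hab => ?_, fun x => ?_⟩
      · fin_cases a <;> fin_cases b <;>
          first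
          | rfl
          | exact absurd (Subtype.ext_iff.1 hab) hne'
          | exact absurd (Subtype.ext_iff.1 hab).symm hne'
      · rcases x.2 with h | h
        · exact ⟨0, Subtype.ext (by simp [f, h])⟩
        · exact ⟨1, Subtype.ext (by simp [f, h])⟩
    have hA : A.det = S i j * S i j := by
      rw [← Matrix.det_submatrix_equiv_self (Equiv.ofBijective f hf) A, Matrix.det_fin_two]
      show S i i * S j j - S i j * S j i = _
      rw [hd, hd, hij i j]
      ring
    haveI : Invertible A := Matrix.invertibleOfIsUnitDet A (by rw [hA]; exact isUnit_iff_ne_zero.2 (mul_ne_zero hne hne))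
    have hskA : Aᵀ = -A := by ext a b; exact hij (e (Sum.inl a)) (e (Sum.inl b))
    have hskD : Dᵀ = -D := by ext a b; exact hij (e (Sum.inr a)) (e (Sum.inr b))
    have hB : Bᵀ = -C := by ext a b; exact hij (e (Sum.inr a)) (e (Sum.inl b))
    have hC : Cᵀ = -B := by ext a b; exact hij (e (Sum.inl a)) (e (Sum.inr b))
    have hinv : (⅟A)ᵀ = -⅟A := by
      rw [Matrix.invOf_eq_nonsing_inv, Matrix.transpose_nonsing_inv, hskA]
      refine Matrix.inv_eq_left_inv ?_
      rw [neg_mul_neg, ← Matrix.invOf_eq_nonsing_inv, invOf_mul_self]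
    have hsk : (D - C * ⅟A * B)ᵀ = -(D - C * ⅟A * B) := by
      rw [Matrix.transpose_sub, Matrix.transpose_mul, Matrix.transpose_mul, hskD, hB, hC, hinv]
      simp [Matrix.mul_assoc, Matrix.neg_mul, Matrix.mul_neg, sub_eq_add_neg, add_comm]
    have hlt : Fintype.card {x // ¬ p x} < N := by
      rw [← hN]
      exact Fintype.card_subtype_lt (x := i) (fun h => h (Or.inl rfl))
    obtain ⟨c, hc⟩ := ih _ hlt _ _ rfl hsk
    refine ⟨S i j * c, ?_⟩
    rw [hT, ← Matrix.fromBlocks_toBlocks T, Matrix.det_fromBlocks₁₁, hA, hc]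
    ring

lemma det_skew_sq {R : Type*} [CommRing R] [IsDomain R] [IsIntegrallyClosed R] (h2 : (2 : R) ≠ 0)
    {n : Type} [Fintype n] [DecidableEq n] (S : Matrix n n R) (hS : Sᵀ = -S) :
    ∃ q : R, S.det = q ^ 2 := by
  let φ := algebraMap R (FractionRing R)
  have hinj : Function.Injective φ := IsFractionRing.injective R (FractionRing R)
  have h2' : (2 : FractionRing R) ≠ 0 := by
    rw [← map_ofNat φ 2, ne_eq, map_eq_zero_iff φ hinj]; exact h2
  obtain ⟨c, hc⟩ := det_skew_isSquare h2' _ n (φ.mapMatrix S) rfl (by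
    ext a b
    show φ (S b a) = -φ (S a b)
    rw [← map_neg]; exact congrArg φ (congrFun (congrFun hS a) b))
  rw [← RingHom.map_det] at hc
  have hint : IsIntegral R (c ^ 2) := by
    rw [pow_two, ← hc]; exact isIntegral_algebraMap
  obtain ⟨q, hq⟩ := IsIntegrallyClosed.exists_algebraMap_eq_of_isIntegral_pow (R := R) two_pos hint
  exact ⟨q, hinj (by rw [map_pow, show φ q = c from hq, pow_two, hc])⟩

/-- The determinant of the skew part of `J * G` for a matrix of indeterminates `G`. -/
lemma exists_sq {S : Type} [CommRing S] [IsDomain S] [UniqueFactorizationMonoid S] (half : S) (hhalf : 2 * half = 1)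
    (m : ℕ) (J L : Matrix (Fin m ⊕ Fin m) (Fin m ⊕ Fin m) S) (c : S) (hJ : c ^ 2 * J.det = 1) :
    ∃ P : MvPolynomial ((Fin m ⊕ Fin m) × (Fin m ⊕ Fin m)) S, ∀ B : Matrix (Fin m ⊕ Fin m) (Fin m ⊕ Fin m) S,
      (J * (L - B))ᵀ = -(J * (L - B)) → (L - B).det = (MvPolynomial.eval (fun ij => B ij.1 ij.2) P) ^ 2 := by
  let R := MvPolynomial ((Fin m ⊕ Fin m) × (Fin m ⊕ Fin m)) S
  let G : Matrix (Fin m ⊕ Fin m) (Fin m ⊕ Fin m) R := fun a b => MvPolynomial.X (a, b)
  let M : Matrix (Fin m ⊕ Fin m) (Fin m ⊕ Fin m) R :=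
    (MvPolynomial.C : S →+* R).mapMatrix J * ((MvPolynomial.C : S →+* R).mapMatrix L - G)
  let T : Matrix (Fin m ⊕ Fin m) (Fin m ⊕ Fin m) R := (MvPolynomial.C half : R) • (M - Mᵀ)
  have h2 : (2 : R) ≠ 0 := by
    intro h
    have h' : (2 : R) * MvPolynomial.C half = 1 := by
      rw [← map_ofNat (MvPolynomial.C : S →+* R) 2, ← map_mul, hhalf, map_one]
    rw [h, zero_mul] at h'
    exact zero_ne_one h'
  obtain ⟨q, hq⟩ := det_skew_sq h2 T (by
    simp only [T, Matrix.transpose_smul, Matrix.transpose_sub, Matrix.transpose_transpose, ← smul_neg, neg_sub])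
  refine ⟨MvPolynomial.C c * q, fun B hB => ?_⟩
  let ev : R →+* S := MvPolynomial.eval fun ij : (Fin m ⊕ Fin m) × (Fin m ⊕ Fin m) => B ij.1 ij.2
  have hG : ev.mapMatrix G = B := by ext a b; exact MvPolynomial.eval_X _
  have hC : ∀ X : Matrix (Fin m ⊕ Fin m) (Fin m ⊕ Fin m) S,
      ev.mapMatrix ((MvPolynomial.C : S →+* R).mapMatrix X) = X := fun X => by ext a b; exact MvPolynomial.eval_C _
  have hM : ev.mapMatrix M = J * (L - B) := by simp only [M, map_mul, map_sub, hC, hG]
  have hT : ev.mapMatrix T = J * (L - B) := by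
    have e1 : ∀ a b, ev.mapMatrix T a b = half * (ev.mapMatrix M a b - ev.mapMatrix M b a) := fun a b => by
      show ev (MvPolynomial.C half * (M a b - M b a)) = _
      rw [map_mul, map_sub]
      congr 1
      exact MvPolynomial.eval_C _
    ext a b
    rw [e1, hM, show (J * (L - B)) b a = -((J * (L - B)) a b) from congrFun (congrFun hB a) b, sub_neg_eq_add,
      ← two_mul, ← mul_assoc, mul_comm half, hhalf, one_mul]
  have hdet : ev T.det = J.det * (L - B).det := by rw [RingHom.map_det, hT, Matrix.det_mul]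
  rw [hq, map_pow] at hdet
  show _ = ev _ ^ 2
  rw [map_mul, mul_pow, show ev (MvPolynomial.C c) = c from MvPolynomial.eval_C _, hdet, ← mul_assoc, hJ, one_mul]

/-- Let J be the 2m × 2m block matrix with blocks 0, I_m in the first row and −I_m, 0 in the second,
over the complex numbers. On the set of complex 2m × 2m matrices A with ᵗA · J = J · A (equivalently
ᵗA = J A J⁻¹, J being invertible), the characteristic polynomial is the square of a single
polynomial in the entries of A with coefficients in ℂ[X], and the determinant is the square of a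
single polynomial in the entries of A. -/
theorem result (m : ℕ) :
    (∃ P : MvPolynomial ((Fin m ⊕ Fin m) × (Fin m ⊕ Fin m)) (Polynomial ℂ),
      ∀ A : Matrix (Fin m ⊕ Fin m) (Fin m ⊕ Fin m) ℂ,
        A.transpose * Matrix.fromBlocks 0 1 (-1) 0 = Matrix.fromBlocks 0 1 (-1) 0 * A →
        A.charpoly = (MvPolynomial.eval (fun ij => Polynomial.C (A ij.1 ij.2)) P) ^ 2) ∧
    (∃ Q : MvPolynomial ((Fin m ⊕ Fin m) × (Fin m ⊕ Fin m)) ℂ,
      ∀ A : Matrix (Fin m ⊕ Fin m) (Fin m ⊕ Fin m) ℂ,
        A.transpose * Matrix.fromBlocks 0 1 (-1) 0 = Matrix.fromBlocks 0 1 (-1) 0 * A →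
        A.det = (MvPolynomial.eval (fun ij => A ij.1 ij.2) Q) ^ 2) := by
  let J : Matrix (Fin m ⊕ Fin m) (Fin m ⊕ Fin m) ℂ := Matrix.fromBlocks 0 1 (-1) 0
  have hJt : Jᵀ = -J := by
    simp [J, Matrix.fromBlocks_transpose, Matrix.fromBlocks_neg]
  have hJJ : J * J = -1 := by
    simp [J, Matrix.fromBlocks_multiply]
    rw [← Matrix.fromBlocks_one, Matrix.fromBlocks_neg]; simp
  have hJ0 : J.det ≠ 0 := by
    intro h
    have h' := congrArg Matrix.det hJJ
    rw [Matrix.det_mul, h, zero_mul, Matrix.det_neg, Matrix.det_one, mul_one] at h'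
    exact pow_ne_zero _ (by norm_num : (-1 : ℂ) ≠ 0) h'.symm
  obtain ⟨d, hd⟩ := det_skew_isSquare (two_ne_zero (α := ℂ)) _ _ J rfl hJt
  have hd0 : d ≠ 0 := fun h => hJ0 (by rw [hd, h, zero_mul])
  have hcJ : d⁻¹ ^ 2 * J.det = 1 := by rw [hd]; field_simp
  constructor
  · let φ : ℂ →+* Polynomial ℂ := Polynomial.C
    obtain ⟨P, hP⟩ := exists_sq (S := Polynomial ℂ) (Polynomial.C (2⁻¹ : ℂ))
      (by rw [← map_ofNat (Polynomial.C : ℂ →+* Polynomial ℂ) 2, ← map_mul, mul_inv_cancel₀ (two_ne_zero), map_one])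
      m (φ.mapMatrix J) (Matrix.scalar _ Polynomial.X) (φ d⁻¹)
      (by rw [← RingHom.map_det, ← map_pow, ← map_mul, hcJ, map_one])
    refine ⟨P, fun A hA => ?_⟩
    have hA' : (J * A)ᵀ = -(J * A) := by
      rw [Matrix.transpose_mul, hJt, Matrix.mul_neg]; exact congrArg (- ·) hA
    have h1 : (φ.mapMatrix J * Matrix.scalar _ Polynomial.X)ᵀ = -(φ.mapMatrix J * Matrix.scalar _ Polynomial.X) := by
      ext a b
      simp [Matrix.scalar_apply, Matrix.mul_diagonal, φ, show J b a = -(J a b) from congrFun (congrFun hJt a) b]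
    have h2 : (φ.mapMatrix (J * A))ᵀ = -(φ.mapMatrix (J * A)) := by
      refine Matrix.ext fun a b => ?_
      show φ ((J * A) b a) = -φ ((J * A) a b)
      rw [← map_neg]
      exact congrArg φ (congrFun (congrFun hA' a) b)
    have := hP (φ.mapMatrix A) (by rw [mul_sub, Matrix.transpose_sub, ← map_mul, h1, h2, neg_sub', sub_neg_eq_add])
    exact this
  · obtain ⟨Q, hQ⟩ := exists_sq (S := ℂ) (2⁻¹ : ℂ) (by norm_num) m J 0 d⁻¹ hcJ
    refine ⟨Q, fun A hA => ?_⟩
    have hA' : (J * A)ᵀ = -(J * A) := by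
      rw [Matrix.transpose_mul, hJt, Matrix.mul_neg]; exact congrArg (- ·) hA
    have := hQ A (by simp [Matrix.transpose_neg, hA'])
    rwa [zero_sub, Matrix.det_neg, Fintype.card_sum, ← two_mul, pow_mul, neg_one_sq, one_pow, one_mul] at this

end Groth.Agent.S15155
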