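import Groth.Statements.S15156
import Groth.Agent.HiggsSlope.Basic
import Groth.Agent.QCoh.Qcqs
import Groth.Agent.PnCoh.PushNat
import Groth.Agent.TFOneX.Beta
import Groth.Agent.LimModLib.FlatDescent

set_option linter.style.haveILetI false
set_option backward.isDefEq.respectTransparency false
set_option backward.isDefEq.respectTransparency.types false
open CategoryTheory AlgebraicGeometry CategoryTheory.Limits
-- import your own Groth.Agent.* helpers here

set_option autoImplicit false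
open CategoryTheory CategoryTheory.Limits AlgebraicGeometry
open VBCurve

namespace Groth.Agent.S15156

open Groth.Agent in
theorem euler_pullback_iso {U X : Scheme.{0}} [U.Over (Spec (CommRingCat.of ℂ))]
    [IsProper (U ↘ Spec (CommRingCat.of ℂ))]
    [X.Over (Spec (CommRingCat.of ℂ))] [IsProper (X ↘ Spec (CommRingCat.of ℂ))] (g : U ⟶ X) [IsIso g]
    (hg : g ≫ (X ↘ Spec (CommRingCat.of ℂ)) = U ↘ Spec (CommRingCat.of ℂ)) {H : X.Modules}
    (hH : Coh.IsQCoh H) :
    Curv2.euler ℂ U ((Scheme.Modules.pullback g).obj H) = Curv2.euler ℂ X H := by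
  rw [← Euler.euler_congr ℂ ((Scheme.Modules.restrictFunctorIsoPullback g).app H)]
  haveI : IsIso ((Scheme.Modules.restrictAdjunction g).unit.app H) := by
    refine Scheme.Modules.Hom.isIso_iff_isIso_app.2 fun W => ?_
    rw [Scheme.Modules.restrictAdjunction_unit_app_app]
    have e : g ''ᵁ (g ⁻¹ᵁ W) = W := by
      rw [g.image_preimage_eq_opensRange_inf, Scheme.Hom.opensRange_of_isIso, top_inf_eq]
    haveI : IsIso (homOfLE e.le) := ⟨homOfLE e.ge, rfl, rfl⟩
    infer_instance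
  refine Eq.trans ?_ (Euler.euler_congr ℂ (asIso ((Scheme.Modules.restrictAdjunction g).unit.app H))).symm
  refine (finsum_congr fun n => ?_).symm
  obtain ⟨a⟩ := PnCoh.exists_linearEquiv_push ℂ g hg (QCoh.isQCoh_restrict g hH) n
  exact congrArg (fun m : ℕ => (-1 : ℤ) ^ n * (m : ℤ)) a.finrank_eq.symm

/-- Let X be a smooth proper integral curve of genus at least 2 over the complex numbers with an
involution σ ≠ id over the complex numbers, and (E, φ) a σ-linearized finite locally free module of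
rank r ≥ 1: φ : σ^*E ≅ E with φ ∘ σ^*φ equal to the canonical identification σ^*σ^*E ≅ E. A
submodule F ⊂ E is σ-invariant when the composite σ^*F → σ^*E → E factors through F. Then (E, φ) is
semistable with respect to σ-invariant finite locally free submodules (deg F · r ≤ deg E · rk F for
each such F of positive rank) if and only if E is slope-semistable (the same inequality for every
finite locally free submodule of positive rank); degrees are χ − rank · χ(O). -/
theorem result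
    (X : Scheme.{0}) [X.Over (Spec (CommRingCat.of ℂ))] [IsIntegral X] [IsProper (X ↘ Spec (CommRingCat.of ℂ))] [Smooth (X ↘ Spec (CommRingCat.of ℂ))]
    (hdim : topologicalKrullDim X = 1) (hg : 2 ≤ Curv2.genus ℂ X)
    (σ : X ⟶ X) (hσS : σ ≫ (X ↘ Spec (CommRingCat.of ℂ)) = X ↘ Spec (CommRingCat.of ℂ)) (hσ : σ ≫ σ = 𝟙 X) (hσ1 : σ ≠ 𝟙 X)
    (r : ℕ) (hr : 0 < r) (E : X.Modules) (hE : FlatMod.IsFinLocFreeOfRank r E)
    (φ : (Scheme.Modules.pullback σ).obj E ≅ E)
    (hφ : (Scheme.Modules.pullback σ).map φ.hom ≫ φ.hom =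
      (Scheme.Modules.pullbackComp σ σ).hom.app E ≫ (Scheme.Modules.pullbackCongr hσ).hom.app E ≫
        (Scheme.Modules.pullbackId X).hom.app E) :
    (∀ (F : X.Modules) (r' : ℕ) (i : F ⟶ E), Mono i → 0 < r' → FlatMod.IsFinLocFreeOfRank r' F →
      (∃ j : (Scheme.Modules.pullback σ).obj F ⟶ F, j ≫ i = (Scheme.Modules.pullback σ).map i ≫ φ.hom) →
      Curv2.deg ℂ X F r' * (r : ℤ) ≤ Curv2.deg ℂ X E r * (r' : ℤ)) ↔
    (∀ (F : X.Modules) (r' : ℕ) (i : F ⟶ E), Mono i → 0 < r' → FlatMod.IsFinLocFreeOfRank r' F →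
      Curv2.deg ℂ X F r' * (r : ℤ) ≤ Curv2.deg ℂ X E r * (r' : ℤ)) := by
  refine ⟨fun hss => ?_, fun hss F r' i hi hr' hF _ => hss F r' i hi hr' hF⟩
  intro G n j hj hn hG
  haveI := hj
  haveI := Groth.Agent.CurveSlope.isLocallyNoetherian' ℂ (X := X)
  haveI : IsIso σ := ⟨σ, hσ, hσ⟩
  have hEf := Groth.Agent.CurveStable.isFinLocFree_of_rank hE
  have hEc := Groth.Agent.CurveStable.coh_of_free ℂ hEf
  obtain ⟨F, i, hi, hF0, hF, -, hmax⟩ := Groth.Agent.HiggsSlope.exists_max ℂ hdim.le hEf (fun _ _ => True)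
    ⟨G, j, hj, Groth.Agent.CurveStable.isFinLocFree_of_rank hG, by rw [Groth.Agent.CurveBundle.rk_eq hG]; exact hn,
      trivial⟩
  haveI := hi
  have hFc := Groth.Agent.CurveStable.coh_of_free ℂ hF
  have hF1 := Groth.Agent.CurveBundle.isFinLocFreeOfRank_rk hF
  -- the translate
  let F' := (Scheme.Modules.pullback σ).obj F
  have hF'1 : FlatMod.IsFinLocFreeOfRank (Groth.Agent.CurveBundle.rk F) F' :=
    Groth.Agent.TFOneX.isFinLocFreeOfRank_pullback σ hF1
  have hF' := Groth.Agent.CurveStable.isFinLocFree_of_rank hF'1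
  have hr' : Groth.Agent.CurveBundle.rk F' = Groth.Agent.CurveBundle.rk F := Groth.Agent.CurveBundle.rk_eq hF'1
  have hd' : Groth.Agent.CurveSlope.dg ℂ F' = Groth.Agent.CurveSlope.dg ℂ F := by
    unfold Groth.Agent.CurveSlope.dg
    rw [hr', euler_pullback_iso σ hσS hFc.1]
  haveI : Mono ((Scheme.Modules.pullback σ).map i) :=
    Groth.Agent.LimModLib.mono_pullback_of_flat σ hFc.1 hEc.1 i
  let i' : F' ⟶ E := (Scheme.Modules.pullback σ).map i ≫ φ.hom
  haveI : Mono i' := mono_comp _ _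
  let θ : F' ⟶ cokernel i := i' ≫ cokernel.π i
  have hθ : θ = 0 := by
    have hQ : Coh.IsCoh (cokernel i) := Groth.Agent.QCoh.isCoh_cokernel hFc.1 hEc i
    have hF'c := Groth.Agent.CurveStable.coh_of_free ℂ hF'
    obtain ⟨I, π, jI, hjI, hfac, hKc, hIc, hπ, w, hS⟩ := Groth.Agent.CurveSlope.exists_factor hF'c hQ θ
    haveI := hjI
    obtain ⟨hM, hMr, hMd⟩ := Groth.Agent.HiggsSlope.preimage_spec ℂ hdim.le hEf hFc i jI hIc
    exact Groth.Agent.HiggsSlope.eq_zero ℂ hdim.le hEf hF' (by rw [hr']; exact hF0) i' (fun _ _ => True)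
      (fun A a ha hA hA0 hPA => by rw [hr', hd']; exact hmax A a ha hA hA0 hPA) θ π jI hfac hIc hKc
      (Groth.Agent.CurveSlope.rk_add_coh ℂ _ _ w hS hF'c) (Groth.Agent.CurveSlope.dg_add ℂ _ _ w hS hKc hF'c hIc)
      trivial (kernel.ι (cokernel.π i ≫ cokernel.π jI)) hM trivial (by rw [hMr, hr']) (by rw [hMd, hd'])
  have hS := Groth.Agent.CurveSlope.shortExact_cokernel_of_mono i
  haveI := hS.mono_f
  have h1 := hss F _ i hi hF0 hF1 ⟨hS.exact.lift i' hθ, hS.exact.lift_f i' hθ⟩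
  obtain ⟨h2, -⟩ := hmax G j hj (Groth.Agent.CurveStable.isFinLocFree_of_rank hG)
    (by rw [Groth.Agent.CurveBundle.rk_eq hG]; exact hn) trivial
  rw [Groth.Agent.CurveBundle.rk_eq hG] at h2
  rw [Groth.Agent.CurveSlope.deg_eq_dg ℂ hG, Groth.Agent.CurveSlope.deg_eq_dg ℂ hE]
  rw [Groth.Agent.CurveSlope.deg_eq_dg ℂ hF1, Groth.Agent.CurveSlope.deg_eq_dg ℂ hE] at h1
  have hrF : (0 : ℤ) < Groth.Agent.CurveBundle.rk F := by exact_mod_cast hF0
  refine le_of_mul_le_mul_right ?_ hrF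
  have h3 := mul_le_mul_of_nonneg_right h2 (Int.natCast_nonneg r)
  have h4 := mul_le_mul_of_nonneg_right h1 (Int.natCast_nonneg n)
  linarith

end Groth.Agent.S15156
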