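import Groth.Statements.S15159
import Mathlib.LinearAlgebra.FiniteDimensional.Lemmas
import Mathlib.LinearAlgebra.Dimension.Constructions
import Mathlib.Algebra.DirectSum.LinearMap

set_option autoImplicit false
open CAlg

namespace Groth.Agent.S15159

theorem sum_ite_clamp (m : ℤ) : ∀ M : ℕ,
    ∑ c ∈ Finset.range M, ((if (c : ℤ) < m then (1 : ℤ) else 0) - if m ≤ -(c : ℤ) - 1 then 1 else 0) =
      max (-(M : ℤ)) (min (M : ℤ) m)
  | 0 => by simp
  | M + 1 => by
    rw [Finset.sum_range_succ, sum_ite_clamp m M]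
    split_ifs <;> push_cast <;> omega

section

variable {W : Type} [AddCommGroup W] [Module ℂ W] {H : Type} [AddCommGroup H] [Module ℂ H] [FiniteDimensional ℂ H]
  {ι : Type} [Fintype ι]

/-- The weight filtration. -/
noncomputable def low (Hs : ι → Submodule ℂ H) (m : ι → ℤ) (c : ℤ) : Submodule ℂ H :=
  (Finset.univ.filter fun i => m i ≤ c).sup Hs

omit [Fintype ι] in
theorem finrank_sup_indep [DecidableEq ι] {Hs : ι → Submodule ℂ H} (h : iSupIndep Hs) (t : Finset ι) :
    Module.finrank ℂ (t.sup Hs : Submodule ℂ H) = ∑ i ∈ t, Module.finrank ℂ (Hs i) := by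
  induction t using Finset.induction_on with
  | empty => simp
  | insert a t ha ih =>
    rw [Finset.sup_insert, Finset.sum_insert ha, ← ih]
    have hd : Hs a ⊓ t.sup Hs = ⊥ := disjoint_iff.1 ((h.disjoint_biSup (y := (t : Set ι)) (x := a) (by simpa using ha)).mono_right
      (Finset.sup_le fun i hi => le_iSup₂ (f := fun i (_ : i ∈ (t : Set ι)) => Hs i) i hi))
    have := Submodule.finrank_sup_add_finrank_inf_eq (Hs a) (t.sup Hs)
    rw [hd, finrank_bot, add_zero] at this
    exact this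

variable {q : H →ₗ[ℂ] H →ₗ[ℂ] W} {Hs : ι → Submodule ℂ H} {m : ι → ℤ}

omit [FiniteDimensional ℂ H] in
theorem low_pair {c d : ℤ} (h : ∀ i j, m i ≤ c → m j ≤ d → ∀ x ∈ Hs i, ∀ y ∈ Hs j, q x y = 0) :
    ∀ x ∈ low Hs m c, ∀ y ∈ low Hs m d, q x y = 0 := by
  intro x hx y hy
  have h1 : low Hs m c ≤ LinearMap.ker (q.flip y) := Finset.sup_le fun i hi x hx => by
    have h2 : low Hs m d ≤ LinearMap.ker (q x) := Finset.sup_le fun j hj z hz =>
      h i j (Finset.mem_filter.1 hi).2 (Finset.mem_filter.1 hj).2 x hx z hz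
    exact h2 hy
  exact h1 hx

omit [Fintype ι] in
theorem mem_perp (q : H →ₗ[ℂ] H →ₗ[ℂ] W) (V : Submodule ℂ H) (x : H) :
    x ∈ (⨅ (y : H) (_ : y ∈ V), LinearMap.ker (q.flip y) : Submodule ℂ H) ↔ ∀ y ∈ V, q x y = 0 := by
  simp [Submodule.mem_iInf]

theorem term_ge [DecidableEq ι] (hind : iSupIndep Hs) (M : ℕ) (hM : ∀ i, (m i).natAbs ≤ M)
    (hsum : ∑ i, m i * (Module.finrank ℂ (Hs i) : ℤ) = 0) :
    ∑ c ∈ Finset.range M, ((∑ i, (Module.finrank ℂ (Hs i) : ℤ)) - Module.finrank ℂ (low Hs m c)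
      - Module.finrank ℂ (low Hs m (-(c : ℤ) - 1))) = 0 := by
  have e : ∀ c : ℤ, (Module.finrank ℂ (low Hs m c) : ℤ) = ∑ i, if m i ≤ c then (Module.finrank ℂ (Hs i) : ℤ) else 0 :=
    fun c => by
      rw [show Module.finrank ℂ (low Hs m c) = ∑ i ∈ Finset.univ.filter (fun i => m i ≤ c), Module.finrank ℂ (Hs i) from
        finrank_sup_indep hind _, Finset.sum_filter, Nat.cast_sum]
      exact Finset.sum_congr rfl fun i _ => by split_ifs <;> simp
  simp only [e]
  simp only [← Finset.sum_sub_distrib]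
  rw [Finset.sum_comm, ← hsum]
  refine Finset.sum_congr rfl fun i _ => ?_
  have h := sum_ite_clamp (m i) M
  rw [show max (-(M : ℤ)) (min (M : ℤ) (m i)) = m i by have := hM i; omega] at h
  conv_rhs => rw [← h, Finset.sum_mul]
  refine Finset.sum_congr rfl fun c _ => ?_
  split_ifs <;> simp <;> omega

theorem exists_three (q : H →ₗ[ℂ] H →ₗ[ℂ] W) (V : Submodule ℂ H) (hV : ∀ x ∈ V, ∀ y ∈ V, q x y = 0)
    (hsym : ∀ x y, q x y = 0 → q y x = 0) :
    ∃ Hs : Fin 3 → Submodule ℂ H, DirectSum.IsInternal Hs ∧ Hs 0 = V ∧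
      ((Module.finrank ℂ (Hs 0) : ℤ) + Module.finrank ℂ (Hs 1) =
        Module.finrank ℂ ↥(⨅ (y : H) (_ : y ∈ V), LinearMap.ker (q.flip y) : Submodule ℂ H)) ∧
      ((Module.finrank ℂ (Hs 0) : ℤ) + Module.finrank ℂ (Hs 1) + Module.finrank ℂ (Hs 2) = Module.finrank ℂ H) ∧
      ∀ i j : Fin 3, ((i = 0 ∧ j ≠ 2) ∨ (j = 0 ∧ i ≠ 2)) → ∀ x ∈ Hs i, ∀ y ∈ Hs j, q x y = 0 := by
  obtain ⟨U, hU⟩ : ∃ U, U = (⨅ (y : H) (_ : y ∈ V), LinearMap.ker (q.flip y) : Submodule ℂ H) := ⟨_, rfl⟩
  rw [← hU]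
  have hVU : V ≤ U := fun x hx => by rw [hU, mem_perp]; exact fun y hy => hV x hx y hy
  obtain ⟨C, hC⟩ := V.exists_isCompl
  obtain ⟨Z, hZ⟩ := U.exists_isCompl
  have hd : V ⊓ (C ⊓ U) = ⊥ := by rw [← inf_assoc, hC.inf_eq_bot, bot_inf_eq]
  have hs : V ⊔ C ⊓ U = U := by rw [← sup_inf_assoc_of_le C hVU, hC.sup_eq_top, top_inf_eq]
  have e1 := Submodule.finrank_sup_add_finrank_inf_eq V (C ⊓ U)
  rw [hd, hs, finrank_bot, add_zero] at e1
  have e2 := Submodule.finrank_add_eq_of_isCompl hZ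
  refine ⟨![V, C ⊓ U, Z], ?_, rfl, ?_, ?_, ?_⟩
  · have hsurj : Function.Surjective (DirectSum.coeLinearMap ![V, C ⊓ U, Z]) := by
      rw [← LinearMap.range_eq_top, DirectSum.range_coeLinearMap, eq_top_iff, ← hZ.sup_eq_top]
      exact sup_le (hs.ge.trans (sup_le (le_iSup ![V, C ⊓ U, Z] 0) (le_iSup ![V, C ⊓ U, Z] 1))) (le_iSup ![V, C ⊓ U, Z] 2)
    haveI : Module.Finite ℂ (DirectSum (Fin 3) fun i => ↥(![V, C ⊓ U, Z] i)) :=
      Module.Finite.equiv (DirectSum.linearEquivFunOnFintype ℂ (Fin 3) fun i => ↥(![V, C ⊓ U, Z] i)).symm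
    refine ⟨(LinearMap.injective_iff_surjective_of_finrank_eq_finrank ?_).2 hsurj, hsurj⟩
    rw [Module.finrank_directSum, Fin.sum_univ_three]
    show Module.finrank ℂ V + Module.finrank ℂ ↥(C ⊓ U) + Module.finrank ℂ Z = _
    omega
  · show (Module.finrank ℂ V : ℤ) + Module.finrank ℂ ↥(C ⊓ U) = _
    omega
  · show (Module.finrank ℂ V : ℤ) + Module.finrank ℂ ↥(C ⊓ U) + Module.finrank ℂ Z = _
    omega
  · have hin : ∀ j : Fin 3, j ≠ 2 → ![V, C ⊓ U, Z] j ≤ U := by
      intro j hj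
      fin_cases j
      · exact hVU
      · exact inf_le_right
      · exact absurd rfl hj
    rintro i j (⟨rfl, h⟩ | ⟨rfl, h⟩) x hx y hy
    · exact hsym y x ((mem_perp q V y).1 (hU ▸ hin j h hy) x hx)
    · exact (mem_perp q V x).1 (hU ▸ hin i h hx) y hy

end

/-- Let W be a finite-dimensional complex vector space with an involution s, H a finite-dimensional
complex vector space and q : H → H → W a nonzero bilinear map with q(x)(y) = s(q(y)(x)). Write V^⊥ =
{x | q(x)(y) = 0 for all y ∈ V} and call V totally isotropic when q vanishes on V × V. The pair (H,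
q) is semistable (dim V + dim V^⊥ ≤ dim H for every nonzero totally isotropic subspace V),
respectively stable (strict inequality), if and only if the line of q is semistable, respectively
stable, for the action of SL(H), the latter being expressed through one-parameter subgroups: for
every decomposition H = ⊕_i H_i into subspaces with integer weights m_i such that Σ_i m_i dim H_i =
0 and some nonzero H_i has nonzero weight, there are indices i, j with q(H_i, H_j) ≠ 0 and m_i + m_j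
≤ 0, respectively m_i + m_j < 0. (The published statement speaks of semistability and stability of
the point of the projective space of such forms under SL(H); this row states the numerical condition
on one-parameter subgroups to which that is equivalent and which the published argument verifies.) -/
theorem result
    (W : Type) [AddCommGroup W] [Module ℂ W] [FiniteDimensional ℂ W]
    (s : W →ₗ[ℂ] W) (hs : s ∘ₗ s = LinearMap.id)
    (H : Type) [AddCommGroup H] [Module ℂ H] [FiniteDimensional ℂ H]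
    (q : H →ₗ[ℂ] H →ₗ[ℂ] W) (hq : ∀ x y : H, q x y = s (q y x)) (hq0 : q ≠ 0) :
    ((∀ V : Submodule ℂ H, V ≠ ⊥ → (∀ x ∈ V, ∀ y ∈ V, q x y = 0) →
        Module.finrank ℂ V + Module.finrank ℂ ↥(⨅ (y : H) (_ : y ∈ V), LinearMap.ker (q.flip y) : Submodule ℂ H) ≤ Module.finrank ℂ H) ↔
      (∀ (ι : Type) [Fintype ι] [DecidableEq ι] (Hs : ι → Submodule ℂ H) (m : ι → ℤ),
        DirectSum.IsInternal Hs → (∑ i, m i * (Module.finrank ℂ (Hs i) : ℤ)) = 0 →
        (∃ i, m i ≠ 0 ∧ Hs i ≠ ⊥) →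
        ∃ i j, (∃ x ∈ Hs i, ∃ y ∈ Hs j, q x y ≠ 0) ∧ m i + m j ≤ 0)) ∧
    ((∀ V : Submodule ℂ H, V ≠ ⊥ → (∀ x ∈ V, ∀ y ∈ V, q x y = 0) →
        Module.finrank ℂ V + Module.finrank ℂ ↥(⨅ (y : H) (_ : y ∈ V), LinearMap.ker (q.flip y) : Submodule ℂ H) < Module.finrank ℂ H) ↔
      (∀ (ι : Type) [Fintype ι] [DecidableEq ι] (Hs : ι → Submodule ℂ H) (m : ι → ℤ),
        DirectSum.IsInternal Hs → (∑ i, m i * (Module.finrank ℂ (Hs i) : ℤ)) = 0 →
        (∃ i, m i ≠ 0 ∧ Hs i ≠ ⊥) →
        ∃ i j, (∃ x ∈ Hs i, ∃ y ∈ Hs j, q x y ≠ 0) ∧ m i + m j < 0)) := by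
  have hsym : ∀ x y, q x y = 0 → q y x = 0 := fun x y h => by rw [hq, h, map_zero]
  constructor <;> constructor
  · intro hss ι _ _ Hs m hint hsum hex
    by_contra hcon
    push Not at hcon
    have hvan : ∀ i j, m i + m j ≤ 0 → ∀ x ∈ Hs i, ∀ y ∈ Hs j, q x y = 0 := fun i j hij x hx y hy => by
      by_contra h
      exact absurd hij (not_le.2 (hcon i j ⟨x, hx, y, hy, h⟩))
    have hind := hint.submodule_iSupIndep
    obtain ⟨i₀, -, hi₀⟩ := hex
    have hn : (∑ i, (Module.finrank ℂ (Hs i) : ℤ)) = Module.finrank ℂ H := by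
      rw [← Nat.cast_sum, ← finrank_sup_indep hind, Finset.sup_univ_eq_iSup, hint.submodule_iSup_eq_top, finrank_top]
    have hle : ∀ c : ℕ, (Module.finrank ℂ (low Hs m (-(c : ℤ))) : ℤ) + Module.finrank ℂ (low Hs m c) ≤
        Module.finrank ℂ H := fun c => by
      rcases eq_or_ne (low Hs m (-(c : ℤ))) ⊥ with h | h
      · rw [h, finrank_bot]; simpa using Submodule.finrank_le (low Hs m c)
      · have h1 := hss _ h (low_pair fun i j hi hj => hvan i j (by omega))
        have h2 := Submodule.finrank_mono (show low Hs m c ≤ (⨅ (y : H) (_ : y ∈ low Hs m (-(c : ℤ))),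
          LinearMap.ker (q.flip y) : Submodule ℂ H) from fun x hx => (mem_perp q _ x).2 fun y hy =>
            low_pair (fun i j hi hj => hvan i j (by omega)) x hx y hy)
        omega
    have hmono : ∀ c d : ℤ, c ≤ d → low Hs m c ≤ low Hs m d := fun c d h => Finset.sup_mono fun i hi =>
      Finset.mem_filter.2 ⟨Finset.mem_univ i, (Finset.mem_filter.1 hi).2.trans h⟩
    obtain ⟨M, hM⟩ : ∃ M : ℕ, ∀ i, (m i).natAbs < M :=
      ⟨(Finset.univ.sup fun i => (m i).natAbs) + 1, fun i => Nat.lt_succ_of_le (Finset.le_sup (f := fun i => (m i).natAbs) (Finset.mem_univ i))⟩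
    have h0 := term_ge hind M (fun i => (hM i).le) hsum
    rw [hn] at h0
    have hnn : ∀ c ∈ Finset.range M, (0 : ℤ) ≤ (Module.finrank ℂ H : ℤ) - Module.finrank ℂ (low Hs m c)
        - Module.finrank ℂ (low Hs m (-(c : ℤ) - 1)) := fun c _ => by
      have := Submodule.finrank_mono (hmono (-(c : ℤ) - 1) (-(c : ℤ)) (by omega))
      have := hle c
      omega
    have hz := (Finset.sum_eq_zero_iff_of_nonneg hnn).1 h0
    have hD : ∀ c : ℕ, c ≤ M → Module.finrank ℂ (low Hs m (-(c : ℤ))) = Module.finrank ℂ (low Hs m 0) := by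
      intro c
      induction c with
      | zero => simp
      | succ c ih =>
        intro hc
        have h1 := hz c (Finset.mem_range.2 (by omega))
        have h2 := Submodule.finrank_mono (hmono (-(c : ℤ) - 1) (-(c : ℤ)) (by omega))
        have h3 := hle c
        have h4 := ih (by omega)
        rw [show (-((c + 1 : ℕ) : ℤ)) = -(c : ℤ) - 1 by omega]
        omega
    have hbot : low Hs m (-(M : ℤ)) = ⊥ := le_bot_iff.1 (Finset.sup_le fun i hi => absurd (Finset.mem_filter.1 hi).2 (by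
      have := hM i; omega))
    have h00 := hD M le_rfl
    rw [hbot, finrank_bot] at h00
    have hz0 := hz 0 (Finset.mem_range.2 (by have := hM i₀; omega))
    have h1 := Submodule.finrank_mono (hmono (-((0 : ℕ) : ℤ) - 1) 0 (by omega))
    have h2 : low Hs m ((0 : ℕ) : ℤ) = low Hs m 0 := rfl
    rw [h2] at hz0
    have hH : Module.finrank ℂ H = 0 := by omega
    exact hi₀ (Submodule.finrank_eq_zero.1 (Nat.eq_zero_of_le_zero (hH ▸ Submodule.finrank_le (Hs i₀))))
  · intro hw V hV hiso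
    by_contra hcon
    obtain ⟨Hs, hint, h0, h01, h012, hvan⟩ := exists_three q V hiso hsym
    obtain ⟨a, b, c, ha, hb, hc⟩ : ∃ a b c : ℤ, a = Module.finrank ℂ (Hs 0) ∧ b = Module.finrank ℂ (Hs 1) ∧
      c = Module.finrank ℂ (Hs 2) := ⟨_, _, _, rfl, rfl, rfl⟩
    have hac : c < a := by rw [← h0] at hcon; rw [← h0] at h01; omega
    have ha0 : (0 : ℤ) < a := by
      have : Module.finrank ℂ V ≠ 0 := fun h => hV (Submodule.finrank_eq_zero.1 h)
      rw [h0] at ha; omega
    by_cases hz : b + c = 0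
    · refine hq0 (LinearMap.ext fun x => LinearMap.ext fun y => ?_)
      have hVtop : V = ⊤ := Submodule.eq_top_of_finrank_eq (by rw [h0] at ha; rw [h0] at h012; omega)
      simpa using hiso x (hVtop ▸ Submodule.mem_top) y (hVtop ▸ Submodule.mem_top)
    obtain ⟨i, j, ⟨x, hx, y, hy, hxy⟩, hij⟩ := hw (Fin 3) Hs ![-(b + c), a - c, a + b] hint
      (by simp only [Fin.sum_univ_three, Matrix.cons_val_zero, Matrix.cons_val_one, Matrix.cons_val, ← ha, ← hb, ← hc]; ring)
      ⟨0, by simpa using (show -(b + c) ≠ 0 by omega), h0.symm ▸ hV⟩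
    refine hxy (hvan i j ?_ x hx y hy)
    fin_cases i <;> fin_cases j <;> first | decide | (simp at hij; omega)
  · intro hs' ι _ _ Hs m hint hsum hex
    by_contra hcon
    push Not at hcon
    have hvan : ∀ i j, m i + m j < 0 → ∀ x ∈ Hs i, ∀ y ∈ Hs j, q x y = 0 := fun i j hij x hx y hy => by
      by_contra h
      exact absurd hij (not_lt.2 (hcon i j ⟨x, hx, y, hy, h⟩))
    have hind := hint.submodule_iSupIndep
    have hn : (∑ i, (Module.finrank ℂ (Hs i) : ℤ)) = Module.finrank ℂ H := by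
      rw [← Nat.cast_sum, ← finrank_sup_indep hind, Finset.sup_univ_eq_iSup, hint.submodule_iSup_eq_top, finrank_top]
    have hlt : ∀ c : ℕ, (low Hs m (-(c : ℤ) - 1) ≠ ⊥ →
        (Module.finrank ℂ (low Hs m (-(c : ℤ) - 1)) : ℤ) + Module.finrank ℂ (low Hs m c) < Module.finrank ℂ H) :=
      fun c h => by
        have h1 := hs' _ h (low_pair fun i j hi hj => hvan i j (by omega))
        have h2 := Submodule.finrank_mono (show low Hs m c ≤ (⨅ (y : H) (_ : y ∈ low Hs m (-(c : ℤ) - 1)),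
          LinearMap.ker (q.flip y) : Submodule ℂ H) from fun x hx => (mem_perp q _ x).2 fun y hy =>
            low_pair (fun i j hi hj => hvan i j (by omega)) x hx y hy)
        omega
    obtain ⟨M, hM⟩ : ∃ M : ℕ, ∀ i, (m i).natAbs < M :=
      ⟨(Finset.univ.sup fun i => (m i).natAbs) + 1, fun i => Nat.lt_succ_of_le (Finset.le_sup (f := fun i => (m i).natAbs) (Finset.mem_univ i))⟩
    have h0 := term_ge hind M (fun i => (hM i).le) hsum
    rw [hn] at h0
    have hnn : ∀ c ∈ Finset.range M, (0 : ℤ) ≤ (Module.finrank ℂ H : ℤ) - Module.finrank ℂ (low Hs m c)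
        - Module.finrank ℂ (low Hs m (-(c : ℤ) - 1)) := fun c _ => by
      rcases eq_or_ne (low Hs m (-(c : ℤ) - 1)) ⊥ with h | h
      · rw [h, finrank_bot]; have := Submodule.finrank_le (low Hs m c); omega
      · have := hlt c h; omega
    have hz := (Finset.sum_eq_zero_iff_of_nonneg hnn).1 h0
    obtain ⟨i, hmi, hi⟩ := hex
    have hneg : 0 < m i := by
      by_contra h
      have hc := hz (-m i - 1).toNat (Finset.mem_range.2 (by have := hM i; omega))
      have hne : low Hs m (-(((-m i - 1).toNat : ℕ) : ℤ) - 1) ≠ ⊥ := fun hb => hi (le_bot_iff.1 (hb ▸ Finset.le_sup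
        (f := Hs) (Finset.mem_filter.2 ⟨Finset.mem_univ i, by omega⟩)))
      have := hlt _ hne
      omega
    have hc := hz (m i - 1).toNat (Finset.mem_range.2 (by have := hM i; omega))
    rcases eq_or_ne (low Hs m (-(((m i - 1).toNat : ℕ) : ℤ) - 1)) ⊥ with hb | hb
    · rw [hb, finrank_bot] at hc
      have htop : low Hs m ((m i - 1).toNat : ℕ) = ⊤ := Submodule.eq_top_of_finrank_eq (by omega)
      have hd : Disjoint (Hs i) (low Hs m ((m i - 1).toNat : ℕ)) := by
        have hni : i ∉ ((Finset.univ.filter fun j => m j ≤ ((m i - 1).toNat : ℕ) : Finset ι) : Set ι) := by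
          simp; omega
        exact (hind.disjoint_biSup hni).mono_right
          (Finset.sup_le fun j hj => le_iSup₂ (f := fun j (_ : j ∈ (_ : Set ι)) => Hs j) j hj)
      rw [htop, disjoint_top] at hd
      exact hi hd
    · have := hlt _ hb
      omega
  · intro hw V hV hiso
    by_contra hcon
    obtain ⟨Hs, hint, h0, h01, h012, hvan⟩ := exists_three q V hiso hsym
    obtain ⟨a, b, c, ha, hb, hc⟩ : ∃ a b c : ℤ, a = Module.finrank ℂ (Hs 0) ∧ b = Module.finrank ℂ (Hs 1) ∧
      c = Module.finrank ℂ (Hs 2) := ⟨_, _, _, rfl, rfl, rfl⟩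
    have hac : c ≤ a := by rw [← h0] at hcon; rw [← h0] at h01; omega
    have ha0 : (0 : ℤ) < a := by
      have : Module.finrank ℂ V ≠ 0 := fun h => hV (Submodule.finrank_eq_zero.1 h)
      rw [h0] at ha; omega
    by_cases hz : b + c = 0
    · refine hq0 (LinearMap.ext fun x => LinearMap.ext fun y => ?_)
      have hVtop : V = ⊤ := Submodule.eq_top_of_finrank_eq (by rw [h0] at ha; rw [h0] at h012; omega)
      simpa using hiso x (hVtop ▸ Submodule.mem_top) y (hVtop ▸ Submodule.mem_top)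
    obtain ⟨i, j, ⟨x, hx, y, hy, hxy⟩, hij⟩ := hw (Fin 3) Hs ![-(b + c), a - c, a + b] hint
      (by simp only [Fin.sum_univ_three, Matrix.cons_val_zero, Matrix.cons_val_one, Matrix.cons_val, ← ha, ← hb, ← hc]; ring)
      ⟨0, by simpa using (show -(b + c) ≠ 0 by omega), h0.symm ▸ hV⟩
    refine hxy (hvan i j ?_ x hx y hy)
    fin_cases i <;> fin_cases j <;> first | decide | (simp at hij; omega)

end Groth.Agent.S15159
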