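import Groth.Statements.S15163
import Groth.Agent.GL2Int.Basic
import Mathlib.LinearAlgebra.Matrix.Adjugate

set_option autoImplicit false
open Matrix
open BddFin

namespace Groth.Agent.S15163

/-- Let Γ be a finite subgroup of GL_2(ℤ) and d > 6 an integer. Suppose some vector w of (ℤ/dℤ)², with
m·w ≠ 0 for all 0 < m < d, is fixed by the reduction modulo d of every element of Γ. Then some
non-zero vector of ℤ² is fixed by all of Γ. -/
theorem result
    (Γ : Subgroup (Matrix.GeneralLinearGroup (Fin 2) ℤ)) [Finite Γ] (d : ℕ) (hd : 6 < d)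
    (w : Fin 2 → ZMod d) (hw : ∀ m : ℕ, 0 < m → m < d → m • w ≠ 0)
    (hfix : ∀ γ ∈ Γ, ((γ : Matrix (Fin 2) (Fin 2) ℤ).map (Int.castRingHom (ZMod d))) *ᵥ w = w) :
    ∃ v : Fin 2 → ℤ, v ≠ 0 ∧ ∀ γ ∈ Γ, (γ : Matrix (Fin 2) (Fin 2) ℤ) *ᵥ v = v := by
  refine Groth.Agent.GL2Int.exists_common_fixed Γ fun γ hγ => ?_
  set M := (γ : Matrix (Fin 2) (Fin 2) ℤ) with hM
  let f := Int.castRingHom (ZMod d)
  have hNw : (M - 1).map f *ᵥ w = 0 := by
    rw [show (M - 1).map f = M.map f - 1 by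
      simp [Matrix.map_sub], Matrix.sub_mulVec, Matrix.one_mulVec, hfix γ hγ, sub_self]
  have h0 : f (M - 1).det • w = 0 := by
    have := congrArg (((M - 1).map f).adjugate *ᵥ ·) hNw
    simp only [Matrix.mulVec_mulVec, Matrix.adjugate_mul, Matrix.mulVec_zero, Matrix.smul_mulVec,
      Matrix.one_mulVec] at this
    rwa [RingHom.map_det]
  obtain ⟨n, hn, hn1⟩ : ∃ n : ℕ, 0 < n ∧ γ ^ n = 1 := by
    obtain ⟨n, hn, hn1⟩ := isOfFinOrder_iff_pow_eq_one.1 (isOfFinOrder_of_finite (⟨γ, hγ⟩ : Γ))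
    exact ⟨n, hn, congrArg Subtype.val hn1⟩
  have hb := Groth.Agent.GL2Int.abs_det_sub_one_le M hn
    (by rw [hM, ← Units.val_pow_eq_pow_val, hn1, Units.val_one])
  have hzero : (M - 1).det = 0 := by
    by_contra hne
    rw [Int.abs_eq_natAbs] at hb
    refine hw (M - 1).det.natAbs (Int.natAbs_pos.2 hne) (by omega) ?_
    have h1 : (((M - 1).det : ℤ) : ZMod d) • w = 0 := h0
    rcases Int.natAbs_eq (M - 1).det with he | he <;> rw [he] at h1
    · rwa [Int.cast_natCast, Nat.cast_smul_eq_nsmul] at h1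
    · rwa [Int.cast_neg, Int.cast_natCast, neg_smul, Nat.cast_smul_eq_nsmul, neg_eq_zero] at h1
  obtain ⟨v, hv, hv0⟩ := Matrix.exists_mulVec_eq_zero_iff.2 hzero
  exact ⟨v, hv, sub_eq_zero.1 (by rwa [Matrix.sub_mulVec, Matrix.one_mulVec] at hv0)⟩

end Groth.Agent.S15163
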