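import Groth.Statements.S15164
import Groth.Agent.BddQuad.Basic

set_option autoImplicit false
universe u v
open BddFin

namespace Groth.Agent.S15164

/-- Let K be a field of characteristic p > 2, V a finite-dimensional K-vector space and q a quadratic
form on V that does not represent zero (q x = 0 only for x = 0). Then the group of K-linear
automorphisms of V preserving q has no element of order p: if g preserves q and g ^ p = 1 then g =
1. (Non-degeneracy of q, also assumed in the published statement, follows from anisotropy since 2 is
invertible, so it is not repeated here.) -/
theorem result
    (K : Type u) [Field K] (p : ℕ) [Fact p.Prime] [CharP K p] (hp : p ≠ 2)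
    (V : Type v) [AddCommGroup V] [Module K V] [FiniteDimensional K V]
    (q : QuadraticForm K V) (hq : q.Anisotropic)
    (g : V ≃ₗ[K] V) (hg : ∀ x : V, q (g x) = q x) (hgp : g ^ p = 1) : g = 1 := by
  exact Groth.Agent.BddQuad.isometry_eq_one_of_pow_char K p hp q hq g hg hgp

end Groth.Agent.S15164
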