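import Groth.Statements.S15166
import Groth.Agent.BddQuad.Basic
import Groth.Agent.BddFinX.Involutions
import Mathlib.GroupTheory.OrderOfElement

set_option autoImplicit false
universe u v
open Polynomial
open BddFin

namespace Groth.Agent.S15166

/-- Let K be a field of characteristic different from 2 such that K contains all roots of unity (for
every n ≥ 1 the polynomial X^n − 1 splits into linear factors over K), V a finite-dimensional
K-vector space and q a quadratic form on V that does not represent zero. Then every finite subgroup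
of the group of K-linear automorphisms of V preserving q is abelian and has order at most 2 ^ (dim
V). (The published statement also covers perfect fields of characteristic 2; this row is the case of
characteristic ≠ 2.) -/
theorem result
    (K : Type u) [Field K] (hK : ∀ n : ℕ, 0 < n → (X ^ n - 1 : K[X]).Splits) (h2 : (2 : K) ≠ 0)
    (V : Type v) [AddCommGroup V] [Module K V] [FiniteDimensional K V]
    (q : QuadraticForm K V) (hq : q.Anisotropic)
    (G : Subgroup (V ≃ₗ[K] V)) [Finite G] (hG : ∀ g ∈ G, ∀ x : V, q (g x) = q x) :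
    (∀ g ∈ G, ∀ h ∈ G, g * h = h * g) ∧ Nat.card G ≤ 2 ^ Module.finrank K V := by
  classical
  have hsq : ∀ g ∈ G, g * g = 1 := fun g hg => by
    have hfin : IsOfFinOrder (⟨g, hg⟩ : G) := isOfFinOrder_of_finite _
    have h := BddQuad.isometry_sq_eq_one K hK h2 q hq g (hG g hg) (d := orderOf (⟨g, hg⟩ : G))
      hfin.orderOf_pos (by
        have := congrArg Subtype.val (pow_orderOf_eq_one (⟨g, hg⟩ : G))
        simpa using this)
    rwa [pow_two] at h
  have hcomm : ∀ g ∈ G, ∀ h ∈ G, g * h = h * g := fun g hg h hh => by
    have hinv : ∀ a ∈ G, a⁻¹ = a := fun a ha => inv_eq_of_mul_eq_one_right (hsq a ha)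
    have := hinv _ (mul_mem hg hh)
    rw [mul_inv_rev, hinv g hg, hinv h hh] at this
    exact this.symm
  refine ⟨hcomm, ?_⟩
  let S : Set (Module.End K V) := (fun g : V ≃ₗ[K] V => (g : V →ₗ[K] V)) '' (G : Set (V ≃ₗ[K] V))
  have hinj : Function.Injective (fun g : V ≃ₗ[K] V => (g : V →ₗ[K] V)) :=
    LinearEquiv.toLinearMap_injective
  have hcard : S.ncard = Nat.card G := by
    rw [Set.ncard_image_of_injective _ hinj]
    rfl
  rw [← hcard]
  refine BddFinX.ncard_le_two_pow_of_involutions K h2 _ V rfl S ((Set.toFinite _).image _) ?_ ?_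
  · rintro _ ⟨g, hg, rfl⟩
    exact LinearMap.ext fun x => LinearEquiv.congr_fun (hsq g hg) x
  · rintro _ ⟨g, hg, rfl⟩ _ ⟨h, hh, rfl⟩
    exact LinearMap.ext fun x => LinearEquiv.congr_fun (hcomm g hg h hh) x

end Groth.Agent.S15166
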