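import Groth.Statements.S15167
import Groth.Agent.CSALib.RedCharpoly

set_option autoImplicit false
universe u v
open Polynomial
open BddFin

namespace Groth.Agent.S15167

/-- Let K be a field such that K contains all roots of unity (for every n ≥ 1 the polynomial X^n − 1
splits into linear factors over K), A a central simple K-algebra of dimension n ^ 2, and x an
invertible element of A some power x ^ m (m ≥ 1) of which lies in K. Then there are a positive
integer r dividing n and elements a_i of K such that the minimal polynomial of x over K is the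
product of the polynomials X ^ r − a_i. -/
theorem result
    (K : Type u) [Field K] (hK : ∀ n : ℕ, 0 < n → (X ^ n - 1 : K[X]).Splits)
    (A : Type v) [Ring A] [Algebra K A] [Algebra.IsCentral K A] [IsSimpleRing A] [FiniteDimensional K A]
    (n : ℕ) (hn : Module.finrank K A = n ^ 2)
    (x : A) (hx : IsUnit x) (hxm : ∃ m : ℕ, 0 < m ∧ x ^ m ∈ (algebraMap K A).range) :
    ∃ r : ℕ, 0 < r ∧ r ∣ n ∧ ∃ s : Multiset K, minpoly K x = (s.map fun a : K => X ^ r - C a).prod := by
  classical
  obtain ⟨m, hm, c, hc⟩ := hxm
  have hc0 : c ≠ 0 := fun h0 => (hx.pow m).ne_zero (by rw [← hc, h0, map_zero])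
  set P := minpoly K x with hP
  have hPm : P.Monic := minpoly.monic (Algebra.IsIntegral.isIntegral x)
  have hPd : P ∣ X ^ m - C c := minpoly.dvd K x (by
    rw [map_sub, map_pow, aeval_X, aeval_C, hc, sub_self])
  have hPpos : 0 < P.natDegree := minpoly.natDegree_pos (Algebra.IsIntegral.isIntegral x)
  obtain ⟨Q, hQm, hQ, hQd⟩ := Polynomial.exists_monic_irreducible_factor P
    (fun hu => hPpos.ne' (natDegree_eq_zero_of_isUnit hu))
  refine ⟨Q.natDegree, Irreducible.natDegree_pos hQ,
    CSALib.natDegree_dvd_degree hK hn hm hc0 hc.symm hQ hQm (hQd.trans hPd),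
    (UniqueFactorizationMonoid.normalizedFactors P).map fun R => -R.coeff 0, ?_⟩
  have key : ∀ R ∈ UniqueFactorizationMonoid.normalizedFactors P,
      X ^ Q.natDegree - C (-R.coeff 0) = R := by
    intro R hR
    have hRirr := UniqueFactorizationMonoid.irreducible_of_normalized_factor R hR
    have hRm : R.Monic := by
      rw [← UniqueFactorizationMonoid.normalize_normalized_factor R hR]
      exact Polynomial.monic_normalize hRirr.ne_zero
    have hRd : R ∣ X ^ m - C c :=
      (UniqueFactorizationMonoid.dvd_of_mem_normalizedFactors hR).trans hPd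
    obtain ⟨a, -, ha⟩ := CSALib.irreducible_eq_binomial hK hm hc0 hRirr hRm hRd
    have hdeg := CSALib.natDegree_eq_of_dvd_binomial hK hm hc0 hRirr hRm hRd hQ hQm (hQd.trans hPd)
    have hcoef : R.coeff 0 = -a := by
      rw [ha, coeff_sub, coeff_X_pow, coeff_C_zero, if_neg (Irreducible.natDegree_pos hRirr).ne,
        zero_sub]
    rw [hcoef, neg_neg, ← hdeg, ← ha]
  rw [Multiset.map_map, Multiset.map_congr rfl (g := id) (fun R hR => by simpa using key R hR),
    Multiset.map_id]
  refine eq_of_monic_of_associated hPm ?_ ?_
  · rw [← Multiset.map_id' (UniqueFactorizationMonoid.normalizedFactors P)]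
    refine monic_multiset_prod_of_monic _ _ fun R hR => ?_
    exact key R hR ▸ monic_X_pow_sub_C _ (Irreducible.natDegree_pos hQ).ne'
  · exact (UniqueFactorizationMonoid.prod_normalizedFactors hPm.ne_zero).symm

end Groth.Agent.S15167
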