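import Groth.Statements.S15168
import Groth.Agent.CSALib.RedCharpoly

set_option autoImplicit false
universe u v
open Polynomial
open BddFin

namespace Groth.Agent.S15168

/-- Let K be a field such that K contains all roots of unity (for every n ≥ 1 the polynomial X^n − 1
splits into linear factors over K), A a central division algebra of dimension n ^ 2 over K, and x an
element of A some power x ^ m (m ≥ 1) of which lies in K. Then x ^ n lies in K; that is, the order
of the class of x in the quotient of the unit group of A by that of K divides n. -/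
theorem result
    (K : Type u) [Field K] (hK : ∀ n : ℕ, 0 < n → (X ^ n - 1 : K[X]).Splits)
    (A : Type v) [DivisionRing A] [Algebra K A] [Algebra.IsCentral K A] [FiniteDimensional K A]
    (n : ℕ) (hn : Module.finrank K A = n ^ 2)
    (x : A) (hxm : ∃ m : ℕ, 0 < m ∧ x ^ m ∈ (algebraMap K A).range) :
    x ^ n ∈ (algebraMap K A).range := by
  obtain ⟨m, hm, c, hc⟩ := hxm
  have hn0 : n ≠ 0 := by
    rintro rfl
    exact Module.finrank_pos.ne' (by simpa using hn)
  by_cases hx : x = 0
  · exact ⟨0, by rw [map_zero, hx, zero_pow hn0]⟩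
  have hc0 : c ≠ 0 := fun h0 => pow_ne_zero m hx (by rw [← hc, h0, map_zero])
  have hint : IsIntegral K x := Algebra.IsIntegral.isIntegral x
  have hPd : minpoly K x ∣ X ^ m - C c := minpoly.dvd K x (by
    rw [map_sub, map_pow, aeval_X, aeval_C, hc, sub_self])
  obtain ⟨d, hd⟩ := CSALib.natDegree_dvd_degree hK hn hm hc0 hc.symm (minpoly.irreducible hint)
    (minpoly.monic hint) hPd
  obtain ⟨a, -, ha⟩ := CSALib.irreducible_eq_binomial hK hm hc0 (minpoly.irreducible hint)
    (minpoly.monic hint) hPd
  have h := minpoly.aeval K x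
  rw [ha, map_sub, map_pow, aeval_X, aeval_C, sub_eq_zero] at h
  exact ⟨a ^ d, by rw [map_pow, ← h, ← pow_mul, ← hd]⟩

end Groth.Agent.S15168
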