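import Groth.Statements.S15169
import Groth.Agent.CSALib.CharPDegree

set_option autoImplicit false
universe u v
open BddFin

namespace Groth.Agent.S15169

/-- (1) ⇒ (2): let K be a field with char K = p > 0 and A a central division K-algebra with dim_K A = p
^ 2. If some element of A is not separable over K, then there are v, u in A with v ^ p and u ^ p in
K and v * u - u * v = 1 which generate A as a K-algebra. -/
theorem result
    (K : Type u) [Field K] (p : ℕ) [Fact p.Prime] [CharP K p]
    (A : Type v) [DivisionRing A] [Algebra K A] [Algebra.IsCentral K A] [FiniteDimensional K A]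
    (hA : Module.finrank K A = p ^ 2) (h : ∃ v : A, ¬ IsSeparable K v) :
    ∃ v u : A, v ^ p ∈ (algebraMap K A).range ∧ u ^ p ∈ (algebraMap K A).range ∧ v * u - u * v = 1 ∧
      Algebra.adjoin K {v, u} = ⊤ := by
  classical
  obtain ⟨v₀, hv₀⟩ := h
  obtain ⟨hvp, hvK⟩ := CSALib.pow_mem_of_not_separable p hA hv₀
  have hp := (Fact.out : p.Prime)
  let D : Module.End K A := CSALib.innerDer v₀
  have hDp : D ^ p = 0 := by
    obtain ⟨c, hc⟩ := hvp
    refine LinearMap.ext fun x => ?_
    rw [CSALib.innerDer_pow_char, CSALib.innerDer_apply, ← hc, Algebra.commutes, sub_self,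
      LinearMap.zero_apply]
  obtain ⟨y₀, hy₀⟩ : ∃ y, D y ≠ 0 := by
    by_contra hc
    push Not at hc
    have hmem : v₀ ∈ Subalgebra.center K A :=
      Subalgebra.mem_center_iff.2 fun b => (sub_eq_zero.1 (hc b)).symm
    rw [Algebra.IsCentral.center_eq_bot, Algebra.mem_bot] at hmem
    obtain ⟨r, hr⟩ := hmem
    exact hvK ⟨r, hr⟩
  have hex : ∃ k, (D ^ k) y₀ = 0 := ⟨p, by rw [hDp, LinearMap.zero_apply]⟩
  obtain ⟨k, hk⟩ : ∃ k, Nat.find hex = k + 2 := by
    refine ⟨Nat.find hex - 2, ?_⟩
    have h0 : Nat.find hex ≠ 0 := fun h0 => by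
      have := Nat.find_spec hex
      rw [h0, pow_zero, Module.End.one_apply] at this
      exact hy₀ (by rw [this, map_zero])
    have h1 : Nat.find hex ≠ 1 := fun h1 => by
      have := Nat.find_spec hex
      rw [h1, pow_one] at this
      exact hy₀ this
    omega
  set y := (D ^ k) y₀
  have hz : D y ≠ 0 := by
    have := Nat.find_min hex (show k + 1 < Nat.find hex by omega)
    rwa [pow_succ', Module.End.mul_apply] at this
  have hz2 : v₀ * D y = D y * v₀ := by
    have := Nat.find_spec hex
    rw [hk, pow_succ', pow_succ', Module.End.mul_apply, Module.End.mul_apply] at this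
    exact sub_eq_zero.1 this
  have hvu : v₀ * (y * (D y)⁻¹) - y * (D y)⁻¹ * v₀ = 1 := by
    have hcm : Commute v₀ (D y)⁻¹ := Commute.inv_right₀ hz2
    rw [← mul_assoc, mul_assoc y, ← hcm.eq, ← mul_assoc y, ← sub_mul]
    exact mul_inv_cancel₀ hz
  set u := y * (D y)⁻¹
  have htop := CSALib.adjoin_pair_eq_top p hA hvp hvu
  refine ⟨v₀, u, hvp, ?_, hvu, htop⟩
  refine CSALib.mem_range_of_commute htop ?_ ((Commute.refl u).pow_left p)
  obtain ⟨j, hj⟩ : ∃ j, p = j + 2 := ⟨p - 2, by have := hp.two_le; omega⟩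
  have h := LinearMap.congr_fun (CSALib.innerDer_pow_char (K := K) p u) v₀
  have h1 : CSALib.innerDer (K := K) u v₀ = -1 := by
    rw [CSALib.innerDer_apply, ← neg_sub, hvu]
  have h2 : CSALib.innerDer (K := K) u (-1) = 0 := by
    rw [CSALib.innerDer_apply]; simp
  have h3 : (CSALib.innerDer (K := K) u ^ p) v₀ = 0 := by
    rw [hj, pow_succ, pow_succ, Module.End.mul_apply, Module.End.mul_apply, h1, h2, map_zero]
  rw [h3, CSALib.innerDer_apply] at h
  exact sub_eq_zero.1 h.symm

end Groth.Agent.S15169
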