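import Groth.Statements.S1517
import Mathlib.RingTheory.SimpleRing.Basic
import Mathlib.LinearAlgebra.Span.Basic
import Mathlib.RingTheory.TwoSidedIdeal.Operations
import Mathlib.Algebra.Module.LinearMap.End

set_option autoImplicit false
universe u
open Brauer

namespace Groth.Agent.S1517

/-- Let A be a ring with no nontrivial two-sided ideals and M a nonzero right ideal, viewed as a right
A-module with endomorphism ring A'. Then every A'-linear endomorphism of M is right multiplication
by exactly one element of A; that is, the natural map from A to the bicommutant of M is a bijection. -/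
theorem result (A : Type u) [Ring A] [IsSimpleRing A]
    (M : Submodule Aᵐᵒᵖ A) (hM : M ≠ ⊥)
    (g : Module.End (Module.End Aᵐᵒᵖ M) M) :
    ∃! a : A, ∀ m : M, (g m : A) = (m : A) * a := by
  classical
  obtain ⟨m₀, hm₀, hne⟩ := (Submodule.ne_bot_iff M).mp hM
  let I : TwoSidedIdeal A := TwoSidedIdeal.span (M : Set A)
  have hI : I = ⊤ := by
    refine (eq_bot_or_eq_top I).resolve_left fun h => hne ?_
    have : m₀ ∈ I := TwoSidedIdeal.subset_span hm₀
    rw [h] at this
    exact this
  let J : Submodule ℤ A := Submodule.span ℤ {z | ∃ b : A, ∃ m : M, z = b * (m : A)}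
  have hJ : ∀ x ∈ J, ∀ a : A, a * x ∈ J ∧ x * a ∈ J := by
    intro x hx a
    induction hx using Submodule.span_induction with
    | mem z hz =>
      obtain ⟨b, m, rfl⟩ := hz
      exact ⟨Submodule.subset_span ⟨a * b, m, by rw [mul_assoc]⟩,
        Submodule.subset_span ⟨b, MulOpposite.op a • m, by simp [mul_assoc]⟩⟩
    | zero => simp
    | add x y _ _ hx hy => exact ⟨by rw [mul_add]; exact add_mem hx.1 hy.1,
        by rw [add_mul]; exact add_mem hx.2 hy.2⟩
    | smul c x _ hx => exact ⟨by rw [mul_smul_comm]; exact J.smul_mem c hx.1,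
        by rw [smul_mul_assoc]; exact J.smul_mem c hx.2⟩
  have h1 : (1 : A) ∈ J := by
    have : (1 : A) ∈ I := hI ▸ trivial
    refine TwoSidedIdeal.mem_span_iff.mp this (TwoSidedIdeal.mk' (J : Set A) (zero_mem J)
      (fun {x y} => add_mem) (fun {x} => neg_mem) (fun {x y} hy => (hJ y hy x).1)
      (fun {x y} hx => (hJ x hx y).2)) ?_ |> (TwoSidedIdeal.mem_mk' ..).mp
    intro m hm
    exact (TwoSidedIdeal.mem_mk' ..).mpr (Submodule.subset_span ⟨1, ⟨m, hm⟩, by simp⟩)
  -- endomorphisms of `M` given by left multiplication by elements of `M`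
  let lam : A → ↥M → Module.End Aᵐᵒᵖ M := fun b n =>
    { toFun := fun x => MulOpposite.op (b * (x : A)) • n
      map_add' := fun x y => by ext; simp [mul_add]
      map_smul' := fun c x => by ext; simp [mul_assoc] }
  have hg : ∀ (b : A) (n x : M), (g (lam b n x) : A) = (n : A) * b * (g x : A) := by
    intro b n x
    have := g.map_smul (lam b n) x
    rw [show lam b n • x = lam b n x from rfl, show lam b n • g x = lam b n (g x) from rfl] at this
    rw [this]
    simp [lam, mul_assoc]
  have key : ∀ z ∈ J, ∃ a : A, ∀ n : M, ∀ y : M, (y : A) = (n : A) * z → (g y : A) = n * a := by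
    intro z hz
    induction hz using Submodule.span_induction with
    | mem z hz =>
      obtain ⟨b, m, rfl⟩ := hz
      refine ⟨b * (g m : A), fun n y hy => ?_⟩
      have : y = lam b n m := Subtype.ext (by simp [lam, hy])
      rw [this, hg, mul_assoc]
    | zero =>
      refine ⟨0, fun n y hy => ?_⟩
      have : y = 0 := Subtype.ext (by simp [hy])
      simp [this]
    | add z₁ z₂ h₁ h₂ ih₁ ih₂ =>
      obtain ⟨a₁, ha₁⟩ := ih₁; obtain ⟨a₂, ha₂⟩ := ih₂
      refine ⟨a₁ + a₂, fun n y hy => ?_⟩
      have : y = MulOpposite.op z₁ • n + MulOpposite.op z₂ • n := Subtype.ext (by simp [hy, mul_add])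
      rw [this, map_add, Submodule.coe_add, ha₁ n _ (by simp), ha₂ n _ (by simp), mul_add]
    | smul c z h ih =>
      obtain ⟨a, ha⟩ := ih
      refine ⟨c • a, fun n y hy => ?_⟩
      have : y = c • (MulOpposite.op z • n) := Subtype.ext (by simp [hy]; rw [← mul_assoc, ← (Int.cast_commute c (n : A)).eq, mul_assoc])
      rw [this, map_zsmul, AddSubgroupClass.coe_zsmul, ha n _ (by simp), mul_smul_comm]
  obtain ⟨a, ha⟩ := key 1 h1
  refine ⟨a, fun m => ha m m (mul_one _).symm, fun a' ha' => ?_⟩
  have hz : ∀ z ∈ J, z * (a' - a) = 0 := by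
    intro z hz
    induction hz using Submodule.span_induction with
    | mem z hz =>
      obtain ⟨b, m, rfl⟩ := hz
      rw [mul_assoc, mul_sub (m : A), ← ha', ← ha m m (mul_one _).symm, sub_self, mul_zero]
    | zero => simp
    | add x y _ _ hx hy => rw [add_mul, hx, hy, add_zero]
    | smul c x _ hx => rw [smul_mul_assoc, hx, smul_zero]
  have := hz 1 h1
  rwa [one_mul, sub_eq_zero] at this

end Groth.Agent.S1517
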