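import Groth.Statements.S15170
import Groth.Agent.CSALib.CharPDegree
import Mathlib.RingTheory.Adjoin.PowerBasis
import Mathlib.FieldTheory.Galois.Basic

set_option autoImplicit false
universe u v
open BddFin

namespace Groth.Agent.S15170

/-- (2) ⇒ (3): let K be a field with char K = p > 0 and A a central division K-algebra with dim_K A = p
^ 2. If v, u in A satisfy v ^ p ∈ K, u ^ p ∈ K and v * u - u * v = 1, then some Galois extension L
of K with [L : K] = p admits a K-algebra embedding into A (so A has a Galois subfield of degree p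
over K). -/
theorem result
    (K : Type u) [Field K] (p : ℕ) [Fact p.Prime] [CharP K p]
    (A : Type v) [DivisionRing A] [Algebra K A] [Algebra.IsCentral K A] [FiniteDimensional K A]
    (hA : Module.finrank K A = p ^ 2) (v u : A) (hv : v ^ p ∈ (algebraMap K A).range)
    (hu : u ^ p ∈ (algebraMap K A).range) (hvu : v * u - u * v = 1) :
    ∃ (L : Type v) (_ : Field L) (_ : Algebra K L), IsGalois K L ∧ Module.finrank K L = p ∧
      Nonempty (L →ₐ[K] A) := by
  open Polynomial in
  classical
  have hp := (Fact.out : p.Prime)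
  haveI : CharP A p := charP_of_injective_algebraMap (algebraMap K A).injective p
  have htop := CSALib.adjoin_pair_eq_top p hA hv hvu
  obtain ⟨w, hw⟩ : ∃ w, w = u * v := ⟨_, rfl⟩
  have hDv : CSALib.innerDer (K := K) w v = -v := by
    rw [CSALib.innerDer_apply, hw, ← mul_assoc v, sub_eq_iff_eq_add.1 hvu, add_mul, one_mul,
      mul_assoc]
    abel
  have hDu : CSALib.innerDer (K := K) w u = u := by
    rw [CSALib.innerDer_apply, hw, mul_assoc, sub_eq_iff_eq_add.1 hvu, mul_add, mul_one]
    abel
  have hvw : v * w = (w + 1) * v := by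
    rw [hw, ← mul_assoc, sub_eq_iff_eq_add.1 hvu, add_mul, one_mul, add_mul, one_mul, add_comm]
  have hneg : ∀ j, ((CSALib.innerDer (K := K) w) ^ j) v = (-1) ^ j * v := fun j => by
    induction j with
    | zero => simp
    | succ j ih =>
      rw [pow_succ', Module.End.mul_apply, ih]
      rcases neg_one_pow_eq_or A j with e | e <;> rw [e, pow_succ', e] <;> simp [hDv]
  have hpos : ∀ j, ((CSALib.innerDer (K := K) w) ^ j) u = u := fun j => by
    induction j with
    | zero => simp
    | succ j ih => rw [pow_succ', Module.End.mul_apply, ih, hDu]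
  have hzv : Commute (w ^ p - w) v := by
    have h := LinearMap.congr_fun (CSALib.innerDer_pow_char (K := K) p w) v
    haveI : ExpChar A p := ExpChar.prime hp
    rw [hneg, neg_one_pow_expChar, neg_one_mul, ← hDv, CSALib.innerDer_apply,
      CSALib.innerDer_apply] at h
    show (w ^ p - w) * v = v * (w ^ p - w)
    rw [sub_mul, mul_sub, sub_eq_sub_iff_sub_eq_sub]
    exact h.symm
  have hzu : Commute (w ^ p - w) u := by
    have h := LinearMap.congr_fun (CSALib.innerDer_pow_char (K := K) p w) u
    rw [hpos] at h
    have h' := hDu.trans h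
    rw [CSALib.innerDer_apply, CSALib.innerDer_apply] at h'
    show (w ^ p - w) * u = u * (w ^ p - w)
    rw [sub_mul, mul_sub, sub_eq_sub_iff_sub_eq_sub]
    exact h'.symm
  obtain ⟨c, hc⟩ := CSALib.mem_range_of_commute htop hzv hzu
  let S := Algebra.adjoin K ({w} : Set A)
  letI : CommRing S := Algebra.adjoinCommRingOfComm K
    (fun a ha b hb => by rw [Set.mem_singleton_iff] at ha hb; rw [ha, hb])
  haveI : IsDomain S := NoZeroDivisors.to_isDomain _
  haveI : FiniteDimensional K S := inferInstanceAs (FiniteDimensional K (Subalgebra.toSubmodule S))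
  letI : Field S := (isField_of_isIntegral_of_isField' (R := K) (S := S)
    (Field.toIsField K)).toField
  let ws : S := ⟨w, Algebra.self_mem_adjoin_singleton K w⟩
  have hgen : Algebra.adjoin K {ws} = ⊤ := by
    rw [← Algebra.adjoin_adjoin_coe_preimage (R := K) (s := ({w} : Set A))]
    congr 1
    ext x
    simp [ws, Subtype.ext_iff]
  have hle : Module.finrank K S ≤ p := by
    have hdim := (PowerBasis.ofAdjoinEqTop (Algebra.IsIntegral.isIntegral ws) hgen).finrank
    rw [hdim, PowerBasis.ofAdjoinEqTop_dim]
    refine (natDegree_le_natDegree (minpoly.min K ws (monic_X_pow_sub (p := X + C c) (n := p) ?_) ?_)).trans ?_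
    · exact (degree_X_add_C c).trans_lt (by exact_mod_cast hp.one_lt)
    · apply Subtype.ext
      rw [map_sub, map_add, map_pow, aeval_X, aeval_C]
      show w ^ p - (w + algebraMap K A c) = 0
      rw [hc]
      abel
    · refine (natDegree_sub_le _ _).trans (max_le (by rw [natDegree_X_pow]) ?_)
      rw [natDegree_X_add_C]
      exact hp.one_lt.le
  have hv0 : v ≠ 0 := by
    rintro rfl
    simp at hvu
  have hconj : ∀ x ∈ S, v * x * v⁻¹ ∈ S := by
    intro x hx
    induction hx using Algebra.adjoin_induction with
    | mem x hx =>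
      rw [Set.mem_singleton_iff] at hx
      rw [hx, hvw, mul_inv_cancel_right₀ hv0]
      exact add_mem (Algebra.self_mem_adjoin_singleton K w) (one_mem _)
    | algebraMap r =>
      rw [← Algebra.commutes, mul_inv_cancel_right₀ hv0]
      exact S.algebraMap_mem r
    | add x y _ _ h1 h2 => rw [mul_add, add_mul]; exact add_mem h1 h2
    | mul x y _ _ h1 h2 =>
      have := mul_mem h1 h2
      rwa [show v * x * v⁻¹ * (v * y * v⁻¹) = v * (x * y) * v⁻¹ by
        simp only [mul_assoc, inv_mul_cancel_left₀ hv0]] at this
  let σ : S →ₐ[K] S :=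
    { toFun := fun x => ⟨v * x * v⁻¹, hconj x x.2⟩
      map_one' := Subtype.ext (by simp [hv0])
      map_mul' := fun x y => Subtype.ext (by simp [mul_assoc, inv_mul_cancel_left₀ hv0])
      map_zero' := Subtype.ext (by simp)
      map_add' := fun x y => Subtype.ext (by simp [mul_add, add_mul])
      commutes' := fun r => Subtype.ext (by
        show v * algebraMap K A r * v⁻¹ = algebraMap K A r
        rw [← Algebra.commutes, mul_inv_cancel_right₀ hv0]) }
  let e : S ≃ₐ[K] S := AlgEquiv.ofBijective σ (Algebra.IsAlgebraic.algHom_bijective σ)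
  have hews : e ws = ws + 1 := Subtype.ext (by
    show v * w * v⁻¹ = w + 1
    rw [hvw, mul_inv_cancel_right₀ hv0])
  have he : ∀ i : ℕ, (e ^ i) ws = ws + i := fun i => by
    induction i with
    | zero => simp
    | succ i ih => rw [pow_succ', AlgEquiv.mul_apply, ih, map_add, map_natCast, hews]; push_cast; ring
  haveI : CharP S p := charP_of_injective_algebraMap (algebraMap K S).injective p
  have hinj : Function.Injective (fun i : Fin p => e ^ (i : ℕ)) := by
    intro i j hij
    have h := DFunLike.congr_fun hij ws
    simp only [he, add_right_inj] at h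
    exact Fin.ext (((CharP.natCast_eq_natCast S p).1 h).eq_of_lt_of_lt i.isLt j.isLt)
  have hge : p ≤ Nat.card (S ≃ₐ[K] S) := by
    simpa using Nat.card_le_card_of_injective _ hinj
  have hcard : Nat.card (S ≃ₐ[K] S) ≤ Module.finrank K S := by
    rw [Nat.card_eq_fintype_card]
    exact AlgEquiv.card_le
  refine ⟨S, ‹Field S›, inferInstance, IsGalois.of_card_aut_eq_finrank K S (le_antisymm hcard (hle.trans hge)),
    le_antisymm hle (hge.trans hcard), ⟨S.val⟩⟩

end Groth.Agent.S15170
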