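import Groth.Statements.S15171
import Groth.Agent.CSALib.CyclicSplit
import Mathlib.FieldTheory.IsAlgClosed.AlgebraicClosure
import Mathlib.Algebra.CharP.Lemmas
import Mathlib.RingTheory.SimpleRing.Basic

set_option autoImplicit false
universe u v w
open BddFin

namespace Groth.Agent.S15171

/-- (3) ⇒ (1): let K be a field with char K = p > 0 and A a central division K-algebra with dim_K A = p
^ 2. If some Galois extension L of K with [L : K] = p admits a K-algebra embedding into A, then some
element of A is not separable over K. -/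
theorem result
    (K : Type u) [Field K] (p : ℕ) [Fact p.Prime] [CharP K p]
    (A : Type v) [DivisionRing A] [Algebra K A] [Algebra.IsCentral K A] [FiniteDimensional K A]
    (hA : Module.finrank K A = p ^ 2) (L : Type w) [Field L] [Algebra K L] [IsGalois K L]
    (hL : Module.finrank K L = p) (ι : L →ₐ[K] A) :
    ∃ v : A, ¬ IsSeparable K v := by
  open Polynomial in
  classical
  haveI hLfin : FiniteDimensional K L :=
    Module.finite_of_finrank_pos (hL ▸ (Fact.out : p.Prime).pos)
  have hcard : Nat.card (L ≃ₐ[K] L) = p := by rw [IsGalois.card_aut_eq_finrank, hL]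
  haveI : IsCyclic (L ≃ₐ[K] L) := isCyclic_of_prime_card hcard
  obtain ⟨σ, hσ⟩ := IsCyclic.exists_generator (α := L ≃ₐ[K] L)
  obtain ⟨b, ι', y, hyp, hcomm, -, -, -⟩ :=
    CSALib.exists_isCyclicAlg_of_embedding hσ (by rw [hA, hL]) ι
  rw [hL] at hyp
  refine ⟨y, fun hsep => ?_⟩
  have hint : IsIntegral K y := Algebra.IsIntegral.isIntegral y
  have hdvd : minpoly K y ∣ X ^ p - C (b : K) := minpoly.dvd K y (by
    rw [map_sub, map_pow, aeval_X, aeval_C, hyp, sub_self])
  obtain ⟨β, hβ⟩ := IsAlgClosed.exists_pow_nat_eq (algebraMap K (AlgebraicClosure K) b)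
    (Fact.out : p.Prime).pos
  haveI : CharP (AlgebraicClosure K) p :=
    charP_of_injective_algebraMap (algebraMap K (AlgebraicClosure K)).injective p
  have h1 : (minpoly K y).map (algebraMap K (AlgebraicClosure K)) ∣
      (X - C β : (AlgebraicClosure K)[X]) ^ p := by
    have h := Polynomial.map_dvd (algebraMap K (AlgebraicClosure K)) hdvd
    rwa [Polynomial.map_sub, Polynomial.map_pow, map_X, map_C, ← hβ, C_pow,
      ← sub_pow_char] at h
  have h2 := (Separable.squarefree (Polynomial.Separable.map (hsep : (minpoly K y).Separable)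
    (f := algebraMap K (AlgebraicClosure K)))).isRadical p _ h1
  have h3 : (minpoly K y).natDegree = 1 := by
    refine le_antisymm ?_ (minpoly.natDegree_pos hint)
    have := natDegree_le_of_dvd h2 (X_sub_C_ne_zero β)
    rwa [natDegree_map, natDegree_X_sub_C] at this
  obtain ⟨r, hr⟩ := minpoly.natDegree_eq_one_iff.1 h3
  have hy0 : y ≠ 0 := by
    intro h0
    rw [h0, zero_pow (Fact.out : p.Prime).ne_zero] at hyp
    exact b.ne_zero ((algebraMap K A).injective (by rw [← hyp, map_zero]))
  have hσ1 : σ = 1 := by
    ext x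
    refine RingHom.injective ι'.toRingHom (mul_left_cancel₀ hy0 ?_)
    show y * ι' (σ x) = y * ι' x
    rw [← hcomm, ← hr, Algebra.commutes]
  have htriv : Nat.card (L ≃ₐ[K] L) = 1 := by
    haveI : Subsingleton (L ≃ₐ[K] L) := ⟨fun a c => by
      have ha := hσ a
      have hc := hσ c
      rw [hσ1, Subgroup.zpowers_one_eq_bot, Subgroup.mem_bot] at ha hc
      rw [ha, hc]⟩
    exact Nat.card_unique
  exact (Fact.out : p.Prime).one_lt.ne' (hcard.symm.trans htriv)

end Groth.Agent.S15171
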