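import Groth.Statements.S15172
import Mathlib.Algebra.Polynomial.Roots
import Mathlib.LinearAlgebra.Lagrange
import Mathlib.Tactic.LinearCombination

set_option autoImplicit false
universe u v
open Polynomial
open BddFin

namespace Groth.Agent.S15172

/-- Let L be a field of characteristic p > 0 and s a finite subset of L containing 0 and closed under
addition (a finite additive subgroup). Then the polynomial f = ∏_{a ∈ s} (X - a) is additive: f (x +
y) = f x + f y for all x, y in any commutative L-algebra (equivalently, as an identity of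
polynomials in two variables). -/
theorem result
    (L : Type u) [Field L] (p : ℕ) [Fact p.Prime] [CharP L p] (s : Finset L) (h0 : (0 : L) ∈ s)
    (hadd : ∀ a ∈ s, ∀ b ∈ s, a + b ∈ s) (R : Type v) [CommRing R] [Algebra L R] (x y : R) :
    aeval (x + y) (∏ a ∈ s, (X - C a)) = aeval x (∏ a ∈ s, (X - C a)) + aeval y (∏ a ∈ s, (X - C a)) := by
  classical
  set P : L[X] := ∏ a ∈ s, (X - C a) with hP
  have hbij : ∀ a ∈ s, ∀ b ∈ s, ∃ c ∈ s, a + c = b := by
    intro a ha
    have hinj : Set.InjOn (fun c => a + c) (s : Set L) := fun c _ d _ h => add_left_cancel h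
    have : s.image (fun c => a + c) = s := Finset.eq_of_subset_of_card_le
      (fun b hb => by
        obtain ⟨c, hc, rfl⟩ := Finset.mem_image.1 hb
        exact hadd a ha c hc) (Finset.card_image_of_injOn hinj).ge
    intro b hb
    rw [← this] at hb
    obtain ⟨c, hc, hcb⟩ := Finset.mem_image.1 hb
    exact ⟨c, hc, hcb⟩
  have hroot : ∀ a ∈ s, P.eval a = 0 := fun a ha => by
    rw [hP, eval_prod]
    exact Finset.prod_eq_zero ha (by simp)
  have hshift : ∀ a ∈ s, P.comp (X + C a) = P := by
    intro a ha
    rw [hP, prod_comp]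
    refine Finset.prod_bij (fun c _ => c - a) (fun c hc => ?_) (fun c _ d _ h => sub_left_injective h)
      (fun b hb => ⟨a + b, hadd a ha b hb, by ring⟩) (fun c hc => ?_)
    · obtain ⟨d, hd, hdc⟩ := hbij a ha c hc
      rw [← hdc, add_sub_cancel_left]
      exact hd
    · rw [sub_comp, X_comp, C_comp, C_sub]
      ring
  set P' : L[X][X] := P.map C with hP'
  have hP'deg : P'.degree = (s.card : WithBot ℕ) := by
    rw [hP', degree_map_eq_of_injective C_injective, hP, degree_prod]
    simp
  have hcompdeg : (P'.comp (X + C X)).degree = P'.degree := by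
    rw [degree_eq_natDegree, degree_eq_natDegree, natDegree_comp, natDegree_X_add_C, mul_one]
    · exact ne_zero_of_degree_gt (n := ⊥) (by rw [hP'deg]; exact WithBot.bot_lt_coe _)
    · intro h
      have := congrArg natDegree h
      rw [natDegree_comp, natDegree_X_add_C, mul_one, natDegree_zero] at this
      have hc : (s.card : WithBot ℕ) = 0 := by
        rw [← hP'deg, degree_eq_natDegree (ne_zero_of_degree_gt (n := ⊥)
          (by rw [hP'deg]; exact WithBot.bot_lt_coe _)), this]
        rfl
      exact (Finset.card_pos.2 ⟨0, h0⟩).ne' (by exact_mod_cast hc)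
  have hQ : P'.comp (X + C X) - P' - C P = 0 := by
    refine eq_zero_of_degree_lt_of_eval_finset_eq_zero (s := s.image C) ?_ ?_
    · rw [Finset.card_image_of_injective _ C_injective]
      have hlt : (P'.comp (X + C X) - P').degree < (s.card : WithBot ℕ) := by
        rw [← hP'deg, ← hcompdeg]
        refine degree_sub_lt hcompdeg (fun h => ?_) ?_
        · rw [h, degree_zero, hP'deg] at hcompdeg
          exact WithBot.bot_ne_coe hcompdeg
        · have hm : P'.Monic := (monic_prod_of_monic _ _ fun a _ => monic_X_sub_C a).map C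
          rw [leadingCoeff_comp (by simp), leadingCoeff_X_add_C, one_pow, mul_one]
      refine (degree_sub_le _ _).trans_lt (max_lt hlt ?_)
      exact degree_C_le.trans_lt (WithBot.coe_lt_coe.2 (Finset.card_pos.2 ⟨0, h0⟩))
    · intro b hb
      obtain ⟨a, ha, rfl⟩ := Finset.mem_image.1 hb
      rw [eval_sub, eval_sub, eval_comp, eval_C, eval_add, eval_X, eval_C, hP', eval_map,
        eval_map, eval₂_at_apply, hroot a ha, map_zero, sub_zero, sub_eq_zero]
      conv_rhs => rw [← hshift a ha]
      rw [comp, add_comm]
  have h := congrArg (eval₂ (aeval y : L[X] →ₐ[L] R).toRingHom x) hQ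
  rw [eval₂_sub, eval₂_sub, eval₂_comp, eval₂_C, eval₂_add, eval₂_X, eval₂_C, eval₂_zero, hP',
    eval₂_map, eval₂_map] at h
  have hcomp : (aeval y : L[X] →ₐ[L] R).toRingHom.comp C = algebraMap L R :=
    RingHom.ext fun c => by simp
  rw [hcomp, ← aeval_def, ← aeval_def] at h
  simp only [AlgHom.toRingHom_eq_coe, RingHom.coe_coe, aeval_X] at h
  linear_combination h

end Groth.Agent.S15172
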