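import Groth.Statements.S15173
import Mathlib.GroupTheory.NoncommPiCoprod
import Mathlib.RingTheory.LittleWedderburn
import Mathlib.GroupTheory.QuotientGroup.Basic

set_option autoImplicit false
universe u v
open Polynomial
open BddFin

namespace Groth.Agent.S15173

/-- Let K be a field of characteristic p > 0 such that K contains all roots of unity (for every n ≥ 1
the polynomial X^n − 1 splits into linear factors over K), and A a finite-dimensional central
division algebra over K. If A contains an element w not in K with w ^ p in K, then the quotient of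
the unit group of A by that of K has unbounded finite subgroups: for every N there is a subgroup H
of the units of A containing the units of K as a subgroup of finite index greater than N. (The
published statement assumes only that some element of A is inseparable over K and passes at once to
a purely inseparable subfield of degree p; this row assumes an element generating such a subfield
directly, which is what the rest of the printed argument uses.) -/
theorem result
    (K : Type u) [Field K] (p : ℕ) [Fact p.Prime] [CharP K p] (hK : ∀ n : ℕ, 0 < n → (X ^ n - 1 : K[X]).Splits)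
    (A : Type v) [DivisionRing A] [Algebra K A] [Algebra.IsCentral K A] [FiniteDimensional K A]
    (w : A) (hw : w ^ p ∈ (algebraMap K A).range) (hwK : w ∉ (algebraMap K A).range) (N : ℕ) :
    ∃ H : Subgroup Aˣ, (Units.map (algebraMap K A : K →* A)).range ≤ H ∧
      N < ((Units.map (algebraMap K A : K →* A)).range).relIndex H := by
  classical
  have hp0 : p.Prime := Fact.out
  haveI : Nontrivial A := inferInstance
  haveI : CharP A p := charP_of_injective_algebraMap (algebraMap K A).injective p
  haveI : Infinite K := by
    by_contra hfin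
    haveI : Finite K := not_infinite_iff_finite.mp hfin
    haveI : Finite A := Module.finite_of_finite K
    letI := littleWedderburn A
    obtain ⟨r, hr⟩ := (Algebra.IsCentral.out (K := K) (D := A)) (Subalgebra.mem_center_iff.mpr fun x => mul_comm x w)
    exact hwK ⟨r, hr⟩
  obtain ⟨c, hc⟩ := hw
  let C : Subgroup Aˣ := (Units.map (algebraMap K A : K →* A)).range
  haveI hCn : C.Normal := ⟨fun x hx g => by
    obtain ⟨l, rfl⟩ := hx
    have h : g * Units.map (algebraMap K A : K →* A) l * g⁻¹ = Units.map (algebraMap K A : K →* A) l := by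
      rw [mul_inv_eq_iff_eq_mul]; exact Units.ext (Algebra.commutes _ _).symm
    rw [h]; exact ⟨l, rfl⟩⟩
  let π := QuotientGroup.mk' C
  have hne : ∀ t : K, 1 + t • w ≠ 0 := by
    intro t h0
    by_cases ht : t = 0
    · simp [ht] at h0
    refine hwK ⟨-t⁻¹, ?_⟩
    calc algebraMap K A (-t⁻¹) = t⁻¹ • (-1 : A) := by rw [Algebra.algebraMap_eq_smul_one, neg_smul, smul_neg]
      _ = t⁻¹ • (t • w) := by rw [neg_eq_of_add_eq_zero_right h0]
      _ = w := by rw [smul_smul, inv_mul_cancel₀ ht, one_smul]
  let W : K → Aˣ := fun t => Units.mk0 _ (hne t)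
  have hpow : ∀ t, π (W t) ^ p = 1 := by
    intro t
    rw [← map_pow]
    refine (QuotientGroup.eq_one_iff _).mpr ?_
    have h1 : ((W t ^ p : Aˣ) : A) = algebraMap K A (1 + t ^ p * c) := by
      rw [Units.val_pow_eq_pow_val, Units.val_mk0, add_pow_char_of_commute p (Commute.one_left _), one_pow, smul_pow, ← hc,
        map_add, map_one, Algebra.smul_def, ← map_mul]
    have h0 : 1 + t ^ p * c ≠ 0 := fun h0 => (W t ^ p).ne_zero (by rw [h1, h0, map_zero])
    exact ⟨Units.mk0 _ h0, Units.ext h1.symm⟩
  obtain ⟨S, hS⟩ := Infinite.exists_subset_card_eq K (N + 1)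
  let φ : (s : S) → Multiplicative (ZMod p) →* Aˣ ⧸ C := fun s =>
    AddMonoidHom.toMultiplicativeLeft (ZMod.lift p
      ⟨zmultiplesHom (Additive (Aˣ ⧸ C)) (Additive.ofMul (π (W s))), by
        rw [zmultiplesHom_apply, natCast_zsmul]; exact congrArg Additive.ofMul (hpow s)⟩)
  have hφ1 : ∀ s : S, φ s (Multiplicative.ofAdd 1) = π (W s) := by
    intro s
    show Additive.toMul (ZMod.lift p _ (1 : ZMod p)) = _
    rw [← Int.cast_one, ZMod.lift_coe]
    simp
  have hcomm : Pairwise fun s s' : S => ∀ x y, Commute (φ s x) (φ s' y) := by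
    intro s s' _ x y
    have hc1 : Commute (π (W s)) (π (W s')) := by
      refine Commute.map ?_ π
      apply Commute.units_of_val
      exact (Commute.one_left _).add_left
        ((Commute.one_right _).add_right (((Commute.refl w).smul_left (s : K)).smul_right (s' : K)))
    have hform : ∀ (s : S) (x : Multiplicative (ZMod p)), ∃ j : ℤ, φ s x = π (W s) ^ j := by
      intro s x
      obtain ⟨j, hj⟩ := ZMod.intCast_surjective (Multiplicative.toAdd x)
      refine ⟨j, ?_⟩
      show Additive.toMul (ZMod.lift p _ (Multiplicative.toAdd x)) = _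
      rw [← hj, ZMod.lift_coe]
      simp
    obtain ⟨i, hi⟩ := hform s x
    obtain ⟨j, hj⟩ := hform s' y
    rw [hi, hj]
    exact hc1.zpow_zpow i j
  let Ψ := MonoidHom.noncommPiCoprod φ hcomm
  haveI : Finite Ψ.range := Finite.Set.finite_range Ψ
  refine ⟨Ψ.range.comap π, fun x hx => ?_, ?_⟩
  · rw [Subgroup.mem_comap, show π x = 1 from (QuotientGroup.eq_one_iff x).mpr hx]
    exact one_mem _
  have hrel : C.relIndex (Ψ.range.comap π) = Nat.card Ψ.range := by
    have hk : (⊥ : Subgroup (Aˣ ⧸ C)).comap π = C := by rw [MonoidHom.comap_bot, QuotientGroup.ker_mk']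
    calc C.relIndex (Ψ.range.comap π) = ((⊥ : Subgroup (Aˣ ⧸ C)).comap π).relIndex (Ψ.range.comap π) := by rw [hk]
      _ = _ := by rw [ Subgroup.relIndex_comap, Subgroup.map_comap_eq_self_of_surjective (QuotientGroup.mk'_surjective C),
      Subgroup.relIndex_bot_left]
  show N < C.relIndex _
  rw [hrel]
  let ι : S → Ψ.range := fun s => ⟨π (W s), Pi.mulSingle s (Multiplicative.ofAdd 1), by
    rw [MonoidHom.noncommPiCoprod_mulSingle, hφ1]⟩
  have hι : Function.Injective ι := by
    intro s s' h
    obtain ⟨l, hl⟩ := QuotientGroup.eq.mp (show π (W s) = π (W s') from congrArg Subtype.val h)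
    have h2 : W s' = W s * Units.map (algebraMap K A : K →* A) l := by rw [hl, mul_inv_cancel_left]
    have h3' : (1 : A) + (s' : K) • w = (1 + (s : K) • w) * algebraMap K A (l : K) := congrArg Units.val h2
    rw [add_mul, one_mul, smul_mul_assoc, ← Algebra.commutes, ← Algebra.smul_def, smul_smul] at h3'
    have h4 : algebraMap K A (1 - (l : K)) = ((s : K) * (l : K) - (s' : K)) • w := by
      rw [map_sub, map_one, sub_smul, sub_eq_sub_iff_add_eq_add, h3']
      abel
    by_cases hz : (s : K) * (l : K) - (s' : K) = 0
    · rw [hz, zero_smul, map_eq_zero, sub_eq_zero] at h4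
      exact Subtype.ext (by rwa [← h4, mul_one, sub_eq_zero] at hz)
    · refine absurd ⟨((s : K) * (l : K) - (s' : K))⁻¹ * (1 - (l : K)), ?_⟩ hwK
      rw [map_mul, h4, ← Algebra.smul_def, smul_smul, inv_mul_cancel₀ hz, one_smul]
  have := Nat.card_le_card_of_injective ι hι
  simp only [Nat.card_eq_fintype_card, Fintype.card_coe, hS] at this ⊢
  omega

end Groth.Agent.S15173
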