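import Groth.Statements.S15174
import Groth.Agent.TorusPts.Scheme

set_option autoImplicit false
universe u
open CategoryTheory MonoidalCategory CartesianMonoidalCategory MonObj GrpObj AlgebraicGeometry
open BddFin

namespace Groth.Agent.S15174

/-- Let n and d be positive integers with d larger than the order of every finite subgroup of GL_n(ℤ);
let K be a field whose characteristic does not divide d and which contains a primitive d-th root of
unity; let T be a K-group scheme that is an n-dimensional torus (it becomes isomorphic, as a group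
scheme, to the split torus D(ℤ^n) = 𝔾_m^n after some field extension L of K). Write T(K) for the
group of sections Spec K → T. If T(K) has an element of order d, then some homomorphism 𝔾_m → T of
K-group schemes is a monomorphism (T has a subtorus isomorphic to 𝔾_m). -/
theorem result
    (n d : ℕ) (hn : 0 < n) (hd : 0 < d)
    (hΥ : ∀ H : Subgroup (Matrix.GeneralLinearGroup (Fin n) ℤ), Finite H → Nat.card H < d)
    (K : Type u) [Field K] (hdK : (d : K) ≠ 0) (ζ : K) (hζ : IsPrimitiveRoot ζ d)
    (T : Over (Spec (CommRingCat.of K))) [GrpObj T]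
    (hT : ∃ (L : Type u) (_ : Field L) (_ : Algebra K L),
      Red.IsSplitTorusWith (Fin n → ℤ) (Red.bc (Spec.map (CommRingCat.ofHom (algebraMap K L))) T))
    (x : 𝟙_ (Over (Spec (CommRingCat.of K))) ⟶ T) (hx : orderOf x = d) :
    ∃ i : Red.Gm (Spec (CommRingCat.of K)) ⟶ T, IsMonHom i ∧ Mono i := by
  by_contra hno
  obtain ⟨A, _, _, L, _, _, _, _, ⟨e⟩, ⟨E⟩, han⟩ := TorusPts.exists_torus_data T hT
  let H := (TorusPts.galImage e).map TorusPts.toGL
  haveI : Finite H := Finite.of_equiv _ ((TorusPts.galImage e).equivMapOfInjective _ TorusPts.toGL_injective).toEquiv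
  have hcard : Nat.card H = Nat.card (TorusPts.galImage e) :=
    (Nat.card_congr ((TorusPts.galImage e).equivMapOfInjective _ TorusPts.toGL_injective).toEquiv).symm
  have hroots : ∀ z : L, z ^ d = 1 → ∃ c, algebraMap K L c = z := fun z hz => by
    haveI : NeZero d := ⟨hd.ne'⟩
    obtain ⟨i, -, hi⟩ := (hζ.map_of_injective (algebraMap K L).injective).eq_pow_of_pow_eq_one hz
    exact ⟨ζ ^ i, by rw [map_pow, hi]⟩
  have hxd : orderOf (E x) = d := (E.orderOf_eq x).trans hx
  have h1 : E x ^ Nat.card H = 1 := by
    rw [hcard]
    exact TorusPts.pow_card_galImage e (han fun i h1 h2 => hno ⟨i, h1, h2⟩) hroots (E x)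
      (hxd ▸ pow_orderOf_eq_one (E x))
  have h2 := Nat.le_of_dvd Nat.card_pos (orderOf_dvd_of_pow_eq_one h1)
  exact absurd (hΥ H inferInstance) (by omega)

end Groth.Agent.S15174
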