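import Groth.Statements.S15175
import Groth.Agent.TorusPts.Scheme

set_option autoImplicit false
universe u
open CategoryTheory MonoidalCategory CartesianMonoidalCategory MonObj GrpObj AlgebraicGeometry
open Polynomial
open BddFin

namespace Groth.Agent.S15175

/-- Let K be a field such that K contains all roots of unity (for every n ≥ 1 the polynomial X^n − 1
splits into linear factors over K), and T a K-group scheme that is an n-dimensional torus (it
becomes isomorphic, as a group scheme, to the split torus D(ℤ^n) = 𝔾_m^n after some field extension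
L of K) and is anisotropic (no homomorphism 𝔾_m → T of K-group schemes is a monomorphism, i.e. T
contains no subtorus isomorphic to 𝔾_m); T(K) is the group of sections Spec K → T. Then a torsion
element of T(K) has order invertible in K (prime to the characteristic) and at most |H| for some
finite subgroup H of GL_n(ℤ) (that is, at most Υ(n), the largest such order), and a finite subgroup
of T(K) has at most |H| ^ n elements for some finite subgroup H of GL_n(ℤ) (at most Υ(n) ^ n). (The
published corollary also records that a finite subgroup of T(K) has order prime to the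
characteristic; that follows from the first clause applied to its elements of prime order and is not
restated.) -/
theorem result
    (K : Type u) [Field K] (hK : ∀ n : ℕ, 0 < n → (X ^ n - 1 : K[X]).Splits) (n : ℕ)
    (T : Over (Spec (CommRingCat.of K))) [GrpObj T]
    (hT : ∃ (L : Type u) (_ : Field L) (_ : Algebra K L),
      Red.IsSplitTorusWith (Fin n → ℤ) (Red.bc (Spec.map (CommRingCat.ofHom (algebraMap K L))) T))
    (haniso : ∀ i : Red.Gm (Spec (CommRingCat.of K)) ⟶ T, IsMonHom i → Mono i → False) :
    (∀ x : 𝟙_ (Over (Spec (CommRingCat.of K))) ⟶ T, IsOfFinOrder x →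
        ((orderOf x : ℕ) : K) ≠ 0 ∧
        ∃ H : Subgroup (Matrix.GeneralLinearGroup (Fin n) ℤ), Finite H ∧ orderOf x ≤ Nat.card H) ∧
    (∀ G : Subgroup (𝟙_ (Over (Spec (CommRingCat.of K))) ⟶ T), Finite G →
        ∃ H : Subgroup (Matrix.GeneralLinearGroup (Fin n) ℤ), Finite H ∧ Nat.card G ≤ Nat.card H ^ n) := by
  obtain ⟨A, _, _, L, _, _, _, _, ⟨e⟩, ⟨E⟩, han⟩ := TorusPts.exists_torus_data T hT
  let H := (TorusPts.galImage e).map TorusPts.toGL
  haveI : Finite H := Finite.of_equiv _ ((TorusPts.galImage e).equivMapOfInjective _ TorusPts.toGL_injective).toEquiv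
  have hcard : Nat.card H = Nat.card (TorusPts.galImage e) :=
    (Nat.card_congr ((TorusPts.galImage e).equivMapOfInjective _ TorusPts.toGL_injective).toEquiv).symm
  have key : ∀ x : WithConv (A →ₐ[K] K), IsOfFinOrder x → x ^ Nat.card H = 1 := fun x hx => by
    rw [hcard]
    exact TorusPts.pow_card_galImage e (han haniso)
      (TorusPts.roots_mem_range hx.orderOf_pos (hK _ hx.orderOf_pos)) x (pow_orderOf_eq_one x)
  refine ⟨fun x hx => ?_, fun G hG => ?_⟩
  · have hx' : IsOfFinOrder (E x) := E.toMonoidHom.isOfFinOrder hx
    rw [← E.orderOf_eq x]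
    exact ⟨TorusPts.orderOf_cast_ne_zero (E x) hx' e, H, inferInstance,
      Nat.le_of_dvd Nat.card_pos (orderOf_dvd_of_pow_eq_one (key _ hx'))⟩
  · refine ⟨H, inferInstance, ?_⟩
    rw [Nat.card_congr (G.equivMapOfInjective E.toMonoidHom E.injective).toEquiv]
    refine TorusPts.card_le_pow e Nat.card_pos _ fun x hx => key x ?_
    haveI : Finite (G.map E.toMonoidHom) :=
      Finite.of_equiv _ (G.equivMapOfInjective E.toMonoidHom E.injective).toEquiv
    exact TorusPts.isOfFinOrder_of_mem (G.map E.toMonoidHom) hx

end Groth.Agent.S15175
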