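import Groth.Statements.S15176
import Groth.Agent.TorusPts.Scheme

set_option autoImplicit false
universe u
open CategoryTheory MonoidalCategory CartesianMonoidalCategory MonObj GrpObj AlgebraicGeometry
open Polynomial
open BddFin

namespace Groth.Agent.S15176

/-- Let K be a field such that K contains all roots of unity (for every n ≥ 1 the polynomial X^n − 1
splits into linear factors over K), and T a K-group scheme that is a 2-dimensional torus (it becomes
isomorphic, as a group scheme, to the split torus D(ℤ^2) = 𝔾_m^2 after some field extension L of K)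
and is anisotropic (no homomorphism 𝔾_m → T of K-group schemes is a monomorphism, i.e. T contains no
subtorus isomorphic to 𝔾_m); T(K) is the group of sections Spec K → T. Then torsion elements of T(K)
have order ≤ 6, and finite subgroups of T(K) have at most 36 elements. -/
theorem result
    (K : Type u) [Field K] (hK : ∀ n : ℕ, 0 < n → (X ^ n - 1 : K[X]).Splits)
    (T : Over (Spec (CommRingCat.of K))) [GrpObj T]
    (hT : ∃ (L : Type u) (_ : Field L) (_ : Algebra K L),
      Red.IsSplitTorusWith (Fin 2 → ℤ) (Red.bc (Spec.map (CommRingCat.ofHom (algebraMap K L))) T))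
    (haniso : ∀ i : Red.Gm (Spec (CommRingCat.of K)) ⟶ T, IsMonHom i → Mono i → False) :
    (∀ x : 𝟙_ (Over (Spec (CommRingCat.of K))) ⟶ T, IsOfFinOrder x → orderOf x ≤ 6) ∧
    (∀ G : Subgroup (𝟙_ (Over (Spec (CommRingCat.of K))) ⟶ T), Finite G → Nat.card G ≤ 36) := by
  classical
  obtain ⟨A, _, _, L, _, _, _, _, ⟨e⟩, ⟨E⟩, han⟩ := TorusPts.exists_torus_data T hT
  obtain ⟨N, hN0, hN4, key⟩ : ∃ N, 0 < N ∧ N ≤ 4 ∧ ∀ x : WithConv (A →ₐ[K] K), IsOfFinOrder x → x ^ N = 1 := by
    by_cases hA : ∃ h ∈ TorusPts.galImage e, h ≠ 1 ∧ (TorusPts.toGL h : Matrix (Fin 2) (Fin 2) ℤ).det = 1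
    · obtain ⟨h, hh, h1, hdet⟩ := hA
      have hinv : ∀ x : WithConv (A →ₐ[K] K), IsOfFinOrder x → ∀ g ∈ TorusPts.galImage e, ∀ m,
          TorusPts.chi e x (g m) = TorusPts.chi e x m := fun x hx g hg m =>
        TorusPts.chi_invariant e (TorusPts.roots_mem_range hx.orderOf_pos (hK _ hx.orderOf_pos)) x
          (pow_orderOf_eq_one x) g hg m
      obtain ⟨j, hj0, hj4, hj, -⟩ := TorusPts.exists_exponent_le_of_two (TorusPts.galImage e)
        (1 : TorusPts.Lat 2 →* L) (fun _ _ _ => rfl) h hh h1 hdet 1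
      refine ⟨j, hj0, hj4, fun x hx => TorusPts.pow_eq_one_of_chi e fun m => ?_⟩
      obtain ⟨j', -, -, hj', hpow⟩ := TorusPts.exists_exponent_le_of_two (TorusPts.galImage e)
        (TorusPts.chi e x) (hinv x hx) h hh h1 hdet m
      rw [hj, ← hj']; exact hpow
    · refine ⟨Nat.card (TorusPts.galImage e), Nat.card_pos,
        (TorusPts.card_le_two_of_det fun h hh hd => ?_).trans (by norm_num), fun x hx =>
        TorusPts.pow_card_galImage e (han haniso)
          (TorusPts.roots_mem_range hx.orderOf_pos (hK _ hx.orderOf_pos)) x (pow_orderOf_eq_one x)⟩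
      by_contra h1
      exact hA ⟨h, hh, h1, hd⟩
  refine ⟨fun x hx => ?_, fun G hG => ?_⟩
  · rw [← E.orderOf_eq x]
    exact (Nat.le_of_dvd hN0 (orderOf_dvd_of_pow_eq_one (key _ (E.toMonoidHom.isOfFinOrder hx)))).trans
      (hN4.trans (by norm_num))
  · rw [Nat.card_congr (G.equivMapOfInjective E.toMonoidHom E.injective).toEquiv]
    refine (TorusPts.card_le_pow e hN0 _ fun x hx => key x ?_).trans
      ((Nat.pow_le_pow_left hN4 2).trans (by norm_num))
    haveI : Finite (G.map E.toMonoidHom) :=
      Finite.of_equiv _ (G.equivMapOfInjective E.toMonoidHom E.injective).toEquiv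
    exact TorusPts.isOfFinOrder_of_mem (G.map E.toMonoidHom) hx

end Groth.Agent.S15176
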