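import Groth.Statements.S15177
import Groth.Agent.ComodLib.Unitriangular
import Mathlib.LinearAlgebra.Matrix.Charpoly.Basic
import Mathlib.RingTheory.Bialgebra.Convolution
import Mathlib.GroupTheory.OrderOfElement

set_option autoImplicit false
universe u v
open BddFin

namespace Groth.Agent.S15177

/-- Let K be a field and Γ a unipotent linear algebraic group over K, given here by its coordinate Hopf
algebra A (a finitely generated, formally smooth commutative Hopf algebra over K all of whose
non-zero finite-dimensional comodules have a non-zero fixed vector). Then the group Γ(K) of K-points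
(K-algebra maps A → K under convolution) has no non-trivial element of finite order coprime to the
characteristic of K: an element of finite order whose order is non-zero in K is the identity. -/
theorem result
    (K : Type u) [Field K] (A : Type v) [CommRing A] [HopfAlgebra K A] [Algebra.FiniteType K A]
    [Algebra.FormallySmooth K A] (hU : HopfRep.IsUnipotent K A)
    (g : WithConv (A →ₐ[K] K)) (hg : IsOfFinOrder g) (hcop : ((orderOf g : ℕ) : K) ≠ 0) : g = 1 := by
  classical
  obtain ⟨N, hN0, hNg, hNk⟩ : ∃ N : ℕ, 0 < N ∧ g ^ N = 1 ∧ (N : K) ≠ 0 :=
    ⟨orderOf g, hg.orderOf_pos, pow_orderOf_eq_one g, hcop⟩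
  have key : ∀ a : A, g a = Coalgebra.counit (R := K) a := by
    intro a
    obtain ⟨W, hWf, haW, hW⟩ := Groth.Agent.ComodLib.exists_finite_subcomod_mem (C := A) (k := K) a
    letI := ComodSub.Comod.restr (HopfRep.Comod.regular K A) W hW
    obtain ⟨b, hM⟩ := Groth.Agent.ComodLib.exists_uniMatrix_basis (A := A) hU W
    set M := Groth.Agent.ComodLib.coeffMatrix b (A := A) with hMdef
    let G : WithConv (A →ₐ[K] K) → Matrix (Fin (Module.finrank K W)) (Fin (Module.finrank K W)) K :=
      fun f => Matrix.of fun i j => f (M i j)
    have hG1 : G 1 = 1 := by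
      ext i j
      have h := congrArg (fun z => TensorProduct.lid K A z)
        (Coalgebra.rTensor_counit_comul (R := K) (M i j))
      simp only [G, Matrix.of_apply, AlgHom.convOne_apply, Algebra.algebraMap_self, RingHom.id_apply]
      have hc := congrArg (fun z => TensorProduct.lid K K ((b.coord i).rTensor K z))
        (LinearMap.congr_fun (HopfRep.Comod.counit_comp (k := K) (A := A) (V := W)) (b j))
      simp only [LinearMap.comp_apply, Groth.Agent.ComodLib.coact_basis, map_sum, LinearMap.lTensor_tmul,
        LinearMap.rTensor_tmul, TensorProduct.lid_tmul, Module.Basis.coord_apply, Module.Basis.repr_self,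
        Finsupp.single_apply, ite_smul, one_smul, zero_smul, Finset.sum_ite_eq', Finset.mem_univ, if_true,
        LinearMap.flip_apply, TensorProduct.mk_apply] at hc
      rw [hMdef, hc, Matrix.one_apply]
      by_cases h : i = j
      · subst h; simp
      · simp [h, Ne.symm h]
    have hGmul : ∀ f₁ f₂, G (f₁ * f₂) = G f₁ * G f₂ := fun f₁ f₂ => by
      ext i j
      simp only [G, Matrix.of_apply, Matrix.mul_apply, AlgHom.convMul_apply, hM.2, map_sum,
        Algebra.TensorProduct.lift_tmul]
    have hGpow : ∀ m : ℕ, G (g ^ m) = G g ^ m := fun m => by
      induction m with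
      | zero => rw [pow_zero, pow_zero, hG1]
      | succ m ih => rw [pow_succ, pow_succ, hGmul, ih]
    have hGN : G g ^ N = 1 := by rw [← hGpow, hNg, hG1]
    have htri : (G g).IsUpperTriangular := fun i j hji => by
      simp only [G, Matrix.of_apply]
      have hlt : j < i := hji
      rw [hM.1 i j hlt.le, if_neg hlt.ne', map_zero]
    have hchar : (G g).charpoly = (Polynomial.X - Polynomial.C 1) ^ Module.finrank K W := by
      rw [Matrix.charpoly_of_isUpperTriangular _ htri]
      have hd : ∀ i, G g i i = 1 := fun i => by
        simp only [G, Matrix.of_apply]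
        rw [hM.1 i i le_rfl, if_pos rfl, map_one]
      simp [hd]
    have hG : G g = 1 := by
      let S : Polynomial K := ∑ i ∈ Finset.range N, Polynomial.X ^ i
      have hco : IsCoprime S ((Polynomial.X - Polynomial.C 1) ^ Module.finrank K W) := by
        refine (IsCoprime.symm ?_).pow_right
        refine (Polynomial.irreducible_X_sub_C (1 : K)).coprime_iff_not_dvd.2 fun h => hNk ?_
        have := (Polynomial.dvd_iff_isRoot.1 h)
        simpa [S, Polynomial.IsRoot.def, Polynomial.eval_finsetSum] using this
      obtain ⟨u, v, huv⟩ := hco
      have hS : S * (Polynomial.X - Polynomial.C 1) = Polynomial.X ^ N - 1 := by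
        rw [map_one]; exact geom_sum_mul _ _
      have h2 : Polynomial.X - Polynomial.C 1 = u * (Polynomial.X ^ N - 1) +
          v * (Polynomial.X - Polynomial.C 1) * (G g).charpoly := by
        rw [hchar, ← hS]
        linear_combination (Polynomial.C 1 - Polynomial.X) * huv
      have h3 := congrArg (Polynomial.aeval (G g)) h2
      simp only [map_add, map_mul, Matrix.aeval_self_charpoly, mul_zero, map_sub, map_pow,
        Polynomial.aeval_X, map_one, hGN, sub_self, add_zero, sub_eq_zero] at h3
      exact h3
    have hb : ∀ j, g (b j : A) = Coalgebra.counit (R := K) (b j : A) := by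
      intro j
      have h1 : Coalgebra.comul (R := K) (b j : A) = ∑ i, (b i : A) ⊗ₜ[K] M i j := by
        have := ComodSub.restr_coact_coe (HopfRep.Comod.regular K A) W hW (b j)
        rw [Groth.Agent.ComodLib.coact_basis b j] at this
        simp only [map_sum, LinearMap.rTensor_tmul, Submodule.subtype_apply] at this
        exact this.symm
      have h2 := congrArg (TensorProduct.lid K A) (Coalgebra.rTensor_counit_comul (R := K) (b j : A))
      rw [h1] at h2
      simp only [map_sum, LinearMap.rTensor_tmul, TensorProduct.lid_tmul, one_smul] at h2
      conv_lhs => rw [← h2]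
      rw [map_sum]
      have hij : ∀ i, g (M i j) = if i = j then (1 : K) else 0 := fun i => by
        have := congrFun (congrFun hG i) j
        simpa [G, Matrix.one_apply] using this
      simp [map_smul, hij]
    have hlin : g.ofConv.toLinearMap.comp W.subtype = (Coalgebra.counit (R := K)).comp W.subtype :=
      b.ext hb
    exact LinearMap.congr_fun hlin ⟨a, haW⟩
  apply WithConv.ofConv_injective
  ext a
  exact (key a).trans (by simp [AlgHom.convOne_def])

end Groth.Agent.S15177
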