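import Groth.Statements.S15180
import Groth.Agent.LineSub.Ga
import Groth.Agent.LineSub.Gm
import Groth.Agent.S15602
import Groth.Agent.GrpSchLib.AffineHopf
import Mathlib.LinearAlgebra.SymmetricAlgebra.Basis

set_option autoImplicit false
universe u
open CategoryTheory MonoidalCategory CartesianMonoidalCategory MonObj GrpObj AlgebraicGeometry
open BddFin

namespace Groth.Agent.S15180

/-- Let K be an arbitrary field, G a K-group scheme isomorphic (as a group scheme) to 𝔾_a (additive) or
to 𝔾_m (multiplicative), and H a finite subgroup scheme of G (a monomorphic homomorphism H → G with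
H finite over K). Then the quotient G/H is isomorphic to G; equivalently, there is a homomorphism of
K-group schemes G → G which is flat and surjective and whose kernel is H. -/
theorem result
    (K : Type u) [Field K] (G H : Over (Spec (CommRingCat.of K))) [GrpObj G] [GrpObj H]
    (hG : Nonempty (Grp.mk G ≅ Grp.mk (Red.Ga (Spec (CommRingCat.of K)))) ∨
      Nonempty (Grp.mk G ≅ Grp.mk (Red.Gm (Spec (CommRingCat.of K)))))
    (i : H ⟶ G) [IsMonHom i] [Mono i] [IsFinite H.hom] :
    ∃ φ : G ⟶ G, IsMonHom φ ∧ AlgGrp.IsKernel i φ ∧ Flat φ.left ∧ Surjective φ.left := by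
  let R := ULift.{u} ℤ
  let : Algebra R K := ((algebraMap ℤ K).comp (ULift.ringEquiv.toRingHom)).toAlgebra
  rcases hG with ⟨⟨b⟩⟩ | ⟨⟨b⟩⟩
  · obtain ⟨e1⟩ := GrpSchLib.AffineHopf.nonempty_bc_iso (Limits.IsTerminal.from specULiftZIsTerminal (Spec (CommRingCat.of K)))
      (Spec.map (CommRingCat.ofHom (algebraMap R K))) (specULiftZIsTerminal.hom_ext _ _) Red.GaZ
    obtain ⟨e2⟩ := GrpSchLib.AffineHopf.nonempty_bc_sp (R := R) K (SymmetricAlgebra R R)
    let j := (Grp.forget _).mapIso ((b.trans e1).trans e2)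
    haveI : IsAffine G.left := @IsAffine.of_isIso _ _ ((Over.forget _).mapIso j).hom (Iso.isIso_hom _) (isAffine_Spec _)
    obtain ⟨-, ⟨ψ⟩⟩ := Groth.Agent.S15602.aux R K
    exact LineSub.exists_endo_Ga i (ψ.trans (GrpSchLib.LineGroups.fnEquiv j))
  · obtain ⟨a⟩ := GrpSchLib.AffineHopf.nonempty_DS_iso K ℤ
    let j := (Grp.forget _).mapIso (b.trans a.symm)
    haveI : IsAffine G.left := @IsAffine.of_isIso _ _ ((Over.forget _).mapIso j).hom (Iso.isIso_hom _) (isAffine_Spec _)
    exact LineSub.exists_endo_Gm i (((AddMonoidAlgebra.toMultiplicativeAlgEquiv K K ℤ).trans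
      (GrpSchLib.LineGroups.spEquiv (k := K) _)).trans (GrpSchLib.LineGroups.fnEquiv j))

end Groth.Agent.S15180
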