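import Groth.Statements.S15183
import Mathlib.RingTheory.SimpleModule.Basic
import Mathlib.RingTheory.Polynomial.Cyclotomic.Roots
import Mathlib.RingTheory.Artinian.Module
import Mathlib.RingTheory.SimpleModule.WedderburnArtin

set_option autoImplicit false
universe u v
open Polynomial
open BddFin

namespace Groth.Agent.S15183

/-- Let K be a field such that K contains all roots of unity (for every n ≥ 1 the polynomial X^n − 1
splits into linear factors over K), and A a finite-dimensional central simple K-algebra which is not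
a division algebra (some non-zero element is not a unit). Then the quotient of the unit group of A
by that of K has elements of every finite order invertible in K: for every d ≥ 1 with d ≠ 0 in K
there is a unit x of A with x ^ d in K and x ^ k not in K for 0 < k < d. (The published assertion is
phrased for the automorphism group of the Severi–Brauer variety of A, which is isomorphic to the
units of A modulo those of K; this row is the algebra-side statement its proof establishes.) -/
theorem result
    (K : Type u) [Field K] (hK : ∀ n : ℕ, 0 < n → (X ^ n - 1 : K[X]).Splits)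
    (A : Type v) [Ring A] [Algebra K A] [Algebra.IsCentral K A] [IsSimpleRing A] [FiniteDimensional K A]
    (hA : ∃ y : A, y ≠ 0 ∧ ¬ IsUnit y) (d : ℕ) (hd : 0 < d) (hdK : (d : K) ≠ 0) :
    ∃ x : A, IsUnit x ∧ x ^ d ∈ (algebraMap K A).range ∧
      ∀ k : ℕ, 0 < k → k < d → x ^ k ∉ (algebraMap K A).range := by
  open Polynomial in
  classical
  obtain ⟨y, hy0, hy⟩ := hA
  haveI : IsArtinianRing A := IsArtinianRing.of_finite K A
  haveI : IsSemisimpleRing A := (IsSimpleRing.isSemisimpleRing_iff_isArtinianRing).2 ‹_›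
  obtain ⟨e, he, hI⟩ := IsSemisimpleRing.ideal_eq_span_idempotent (Ideal.span {y})
  have he0 : e ≠ 0 := by
    rintro rfl
    rw [Ideal.span_singleton_eq_bot.2 rfl, Ideal.span_singleton_eq_bot] at hI
    exact hy0 hI
  have he1 : e ≠ 1 := by
    rintro rfl
    have h1 : (1 : A) ∈ Ideal.span {y} := hI ▸ Ideal.mem_span_singleton_self _
    obtain ⟨a, ha⟩ := Ideal.mem_span_singleton'.1 h1
    exact hy (IsUnit.of_mul_eq_one_right a ha)
  haveI : NeZero (d : K) := ⟨hdK⟩
  obtain ⟨ζ, hζ⟩ : ∃ ζ : K, IsPrimitiveRoot ζ d := by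
    have hs : (cyclotomic d K).Splits :=
      (hK d hd).of_dvd (by simpa using X_pow_sub_C_ne_zero hd (1 : K)) (cyclotomic.dvd_X_pow_sub_one d K)
    obtain ⟨ζ, hζ⟩ := hs.exists_eval_eq_zero (degree_cyclotomic_pos d K hd).ne'
    exact ⟨ζ, isRoot_cyclotomic_iff.1 hζ⟩
  have hmul : ∀ a b : K, (1 + (a - 1) • e) * (1 + (b - 1) • e) = 1 + (a * b - 1) • e := fun a b => by
    rw [add_mul, one_mul, mul_add, mul_one, smul_mul_smul_comm, he.eq, add_assoc, ← add_smul, ← add_smul]
    ring_nf
  have hpow : ∀ k, (1 + (ζ - 1) • e) ^ k = 1 + (ζ ^ k - 1) • e := fun k => by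
    induction k with
    | zero => simp
    | succ k ih => rw [pow_succ, ih, hmul, pow_succ]
  have hd1 : (1 + (ζ - 1) • e) ^ d = 1 := by rw [hpow, hζ.pow_eq_one]; simp
  refine ⟨1 + (ζ - 1) • e, IsUnit.of_pow_eq_one hd1 hd.ne', ⟨1, by rw [map_one, hd1]⟩, fun k hk hkd ⟨r, hr⟩ => ?_⟩
  rw [hpow] at hr
  have hne : ζ ^ k - 1 ≠ 0 := sub_ne_zero.2 (hζ.pow_ne_one_of_pos_of_lt hk.ne' hkd)
  have hesc : e = algebraMap K A ((r - 1) / (ζ ^ k - 1)) := by
    rw [div_eq_inv_mul, map_mul, ← Algebra.smul_def, map_sub, map_one, hr, add_sub_cancel_left,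
      inv_smul_smul₀ hne]
  have h2 := he.eq
  rw [hesc, ← map_mul] at h2
  rcases IsIdempotentElem.iff_eq_zero_or_one.1 ((algebraMap K A).injective h2) with h | h
  · exact he0 (by rw [hesc, h, map_zero])
  · exact he1 (by rw [hesc, h, map_one])

end Groth.Agent.S15183
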