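import Groth.Statements.S15185
import Groth.Agent.S15168
import Mathlib.Algebra.CharP.Lemmas
import Mathlib.LinearAlgebra.Dimension.Constructions
import Mathlib.LinearAlgebra.FreeModule.Finite.Matrix

set_option autoImplicit false
universe u v
open Polynomial
open BddFin

namespace Groth.Agent.S15185

/-- Let K be a field of characteristic p > 0 such that K contains all roots of unity (for every n ≥ 1
the polynomial X^n − 1 splits into linear factors over K), A a central division algebra of dimension
n ^ 2 over K, and write n = n' · p ^ m with n' prime to p; let N be the reduced norm of A. Consider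
the kernel of the homomorphism from the units of A modulo those of K to Kˣ/(Kˣ)^(p^m) induced by N.
Every element of finite order of that kernel has order dividing n': if x ≠ 0 in A has x ^ r in K for
some r ≥ 1 and N x is a (p ^ m)-th power of a non-zero element of K, then x ^ n' lies in K. -/
theorem result
    (K : Type u) [Field K] (p : ℕ) [Fact p.Prime] [CharP K p] (hK : ∀ n : ℕ, 0 < n → (X ^ n - 1 : K[X]).Splits)
    (A : Type v) [DivisionRing A] [Algebra K A] [Algebra.IsCentral K A] [FiniteDimensional K A]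
    (n n' m : ℕ) (hA : Module.finrank K A = n ^ 2) (hn : n = n' * p ^ m) (hn' : ¬ p ∣ n')
    (N : A →* K) (hN : CSAGal.IsRedNorm K A N)
    (x : A) (hx : x ≠ 0) (hxr : ∃ r : ℕ, 0 < r ∧ x ^ r ∈ (algebraMap K A).range)
    (hNx : ∃ b : K, b ≠ 0 ∧ N x = b ^ (p ^ m)) :
    x ^ n' ∈ (algebraMap K A).range := by
  open Polynomial TensorProduct in
  classical
  have hp := (Fact.out : p.Prime)
  haveI : CharP A p := charP_of_injective_algebraMap (algebraMap K A).injective p
  obtain ⟨c, hc⟩ := S15168.result K hK A n hA x hxr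
  obtain ⟨b, hb, hNb⟩ := hNx
  obtain ⟨L, _, _, _, n₀, φ, hφ⟩ := hN
  have hn₀ : n₀ = n := by
    have h := φ.toLinearEquiv.finrank_eq
    rw [Module.finrank_baseChange, Module.finrank_matrix, Fintype.card_fin, Module.finrank_self,
      mul_one, hA, ← sq] at h
    exact (Nat.pow_left_injective two_ne_zero h).symm
  have hNc : ∀ c : K, N (algebraMap K A c) = c ^ n := fun c => by
    apply (algebraMap K L).injective
    rw [hφ, map_pow, show (1 : L) ⊗ₜ[K] algebraMap K A c = algebraMap L (L ⊗[K] A) (algebraMap K L c) by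
        rw [Algebra.TensorProduct.algebraMap_apply, Algebra.algebraMap_self_apply,
          Algebra.algebraMap_eq_smul_one, Algebra.algebraMap_eq_smul_one, TensorProduct.tmul_smul,
          TensorProduct.smul_tmul'],
      φ.commutes, Matrix.algebraMap_eq_diagonal, Matrix.det_diagonal]
    simp [hn₀]
  have hy : (x ^ n') ^ p ^ m = algebraMap K A c := by rw [← pow_mul, ← hn, hc]
  have h1 : c ^ n' = (b ^ n') ^ p ^ m := by
    refine iterateFrobenius_inj K p m ?_
    simp only [iterateFrobenius_def]
    have h := congrArg N hc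
    rw [hNc, map_pow, hNb] at h
    rw [← pow_mul c, ← hn, h, ← pow_mul, ← pow_mul, ← pow_mul]
    congr 1
    rw [hn]
    ring
  have hcop : IsCoprime (n' : ℤ) ((p ^ m : ℕ) : ℤ) :=
    Nat.isCoprime_iff_coprime.2 (Nat.Coprime.pow_right _ (Nat.Coprime.symm ((Nat.Prime.coprime_iff_not_dvd hp).2 hn')))
  obtain ⟨s, t, hst⟩ := hcop
  have hc0 : c ≠ 0 := fun h0 => pow_ne_zero n hx (by rw [← hc, h0, map_zero])
  have hd : ((b ^ n') ^ s * c ^ t) ^ p ^ m = c := by
    rw [← zpow_natCast _ (p ^ m), mul_zpow, zpow_comm _ s, zpow_natCast, ← h1, ← zpow_natCast c n',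
      ← zpow_mul, ← zpow_mul, ← zpow_add₀ hc0]
    rw [show (n' : ℤ) * s + t * ((p ^ m : ℕ) : ℤ) = 1 by rw [← hst]; ring, zpow_one]
  refine ⟨(b ^ n') ^ s * c ^ t, (sub_eq_zero.1 (eq_zero_of_pow_eq_zero (n := p ^ m) ?_)).symm⟩
  rw [sub_pow_char_pow_of_commute (p := p) (n := m) (h := (Algebra.commutes _ _).symm), ← map_pow, hd, hy, sub_self]

end Groth.Agent.S15185
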