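import Groth.Statements.S15188
import Groth.Agent.S15187
import Groth.Agent.CSALib.RedCharpoly

set_option autoImplicit false
universe u
open CategoryTheory CategoryTheory.Limits AlgebraicGeometry Polynomial
open BddFin

namespace Groth.Agent.S15188

/-- Let k be a field such that k contains all roots of unity (for every m ≥ 1 the polynomial X^m − 1
splits into linear factors over k), A a central division algebra of dimension n² over k with the
characteristic of k not dividing n, and X → Spec k the Severi–Brauer variety of A (X represents the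
functor of left ideals of A with projective quotient of corank n² − n). Then every automorphism g of
X over k of finite order satisfies g ^ n = 1. -/
theorem result
    (k : Type u) [Field k] (hk : ∀ m : ℕ, 0 < m → (X ^ m - 1 : k[X]).Splits)
    (A : Type u) [DivisionRing A] [Algebra k A] [Algebra.IsCentral k A]
    (n : ℕ) (hn : 0 < n) (hnk : (n : k) ≠ 0) (hA : Module.finrank k A = n * n)
    {X : Scheme.{u}} (f : X ⟶ Spec (CommRingCat.of k)) (hX : BrSev.IsSBOf k A (n * n - n) f)
    (g : Aut (Over.mk f)) (hg : IsOfFinOrder g) : g ^ n = 1 := by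
  classical
  haveI : Module.Finite k A := Module.finite_of_finrank_pos (by rw [hA]; positivity)
  obtain ⟨ξ, hξ, hker⟩ := Groth.Agent.S15187.result k A n hn hA f hX
  obtain ⟨x, rfl⟩ := hξ g
  obtain ⟨m, hm, hxm⟩ := isOfFinOrder_iff_pow_eq_one.mp hg
  have hmem : x ^ m ∈ ξ.ker := by rw [MonoidHom.mem_ker, map_pow, hxm]
  rw [hker] at hmem
  obtain ⟨c, hc⟩ := hmem
  have hx : (x : A) ^ m = algebraMap k A (c : k) := by
    rw [← Units.val_pow_eq_pow_val, ← hc]; rfl
  have hint : IsIntegral k (x : A) := Algebra.IsIntegral.isIntegral _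
  have hQ := minpoly.irreducible hint
  have hQd : minpoly k (x : A) ∣ Polynomial.X ^ m - C (c : k) :=
    minpoly.dvd k _ (by rw [map_sub, map_pow, aeval_X, aeval_C, hx, sub_self])
  obtain ⟨t, ht⟩ := Groth.Agent.CSALib.natDegree_dvd_degree hk (by rw [hA, sq]) hm c.ne_zero hx hQ
    (minpoly.monic hint) hQd
  obtain ⟨a, ha, hQa⟩ := Groth.Agent.CSALib.irreducible_eq_binomial hk hm c.ne_zero hQ (minpoly.monic hint) hQd
  have hd : (x : A) ^ (minpoly k (x : A)).natDegree = algebraMap k A a := by
    have h := minpoly.aeval k (x : A)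
    rw [hQa, map_sub, map_pow, aeval_X, aeval_C, sub_eq_zero] at h
    exact h
  have hxn : x ^ n ∈ ξ.ker := by
    rw [hker]
    refine ⟨Units.mk0 (a ^ t) (pow_ne_zero _ ha), Units.ext ?_⟩
    rw [Units.coe_map, Units.val_mk0, Units.val_pow_eq_pow_val, ht, pow_mul, hd]
    exact map_pow _ _ _
  rw [← map_pow, MonoidHom.mem_ker.mp hxn]

end Groth.Agent.S15188
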