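import Groth.Statements.S15189
import Groth.Agent.S15187
import Groth.Agent.CSALib.DegreeThree
import Groth.Agent.CSALib.RedCharpoly
import Groth.Agent.CSALib.BrauerRel
import Mathlib.GroupTheory.NoncommPiCoprod

set_option autoImplicit false
universe u
open CategoryTheory CategoryTheory.Limits AlgebraicGeometry
open BddFin

namespace Groth.Agent.S15189

/-- Let p be 2 or 3, k an infinite field of characteristic p, A a central simple k-algebra of dimension
p², and X → Spec k the Severi–Brauer variety of A (X represents the functor of left ideals of A with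
projective quotient of corank p² − p; X has dimension p − 1). Then the group of automorphisms of X
over k has unbounded finite subgroups: for every N it has a finite subgroup of order greater than N. -/
theorem result
    (k : Type u) [Field k] [Infinite k] (p : ℕ) [Fact p.Prime] [CharP k p] (hp : p = 2 ∨ p = 3)
    (A : Type u) [Ring A] [Algebra k A] [Algebra.IsCentral k A] [IsSimpleRing A]
    (hA : Module.finrank k A = p * p)
    {X : Scheme.{u}} (f : X ⟶ Spec (CommRingCat.of k)) (hX : BrSev.IsSBOf k A (p * p - p) f) (N : ℕ) :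
    ∃ G : Subgroup (Aut (Over.mk f)), Finite G ∧ N < Nat.card G := by
  classical
  have hp0 : p.Prime := Fact.out
  haveI : Module.Finite k A := Module.finite_of_finrank_pos (by rw [hA]; exact Nat.mul_pos hp0.pos hp0.pos)
  obtain ⟨ξ, -, hker⟩ := Groth.Agent.S15187.result k A p hp0.pos hA f hX
  have key : ∃ v : A, v ∉ (algebraMap k A).range ∧ v ^ p ∈ (algebraMap k A).range ∧
      ∀ t : k, IsUnit (1 + t • v) := by
    obtain ⟨m, hm, D, _, _, hc, hf, ⟨e⟩⟩ := CSALib.exists_division k A
    rcases Nat.lt_or_ge m 2 with hm2 | hm2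
    · obtain rfl : m = 1 := by have := hm.out; omega
      have hD : Module.finrank k D = p ^ 2 := by
        have h := e.toLinearEquiv.finrank_eq
        rw [hA, Module.finrank_matrix, Fintype.card_fin, one_mul, one_mul] at h
        rw [← h, sq]
      haveI : Nontrivial D := inferInstance
      obtain ⟨x, hx⟩ : ∃ x : D, x ∉ (algebraMap k D).range := by
        by_contra! h
        have hsurj : Function.Surjective (Algebra.linearMap k D) := fun x => h x
        have := LinearMap.finrank_le_finrank_of_surjective hsurj
        rw [hD, Module.finrank_self] at this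
        have : 1 < p ^ 2 := Nat.one_lt_pow two_ne_zero hp0.one_lt
        omega
      obtain ⟨v, hv⟩ : ∃ v : D, ¬ IsSeparable k v := by
        rcases hp with rfl | rfl
        · by_cases hs : IsSeparable k x
          · exact CSALib.exists_inseparable_two hD hx hs
          · exact ⟨x, hs⟩
        · exact CSALib.exists_inseparable_three hD hx
      have hint : IsIntegral k v := Algebra.IsIntegral.isIntegral v
      have hvn : v ∉ (algebraMap k D).range := fun ⟨r, hr⟩ => hv (hr ▸ isSeparable_algebraMap r)
      have hdeg : (minpoly k v).natDegree = p := by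
        rcases hp with rfl | rfl
        · exact le_antisymm (CSALib.natDegree_minpoly_le hD v) (CSALib.two_le_natDegree_minpoly hvn)
        · exact CSALib.natDegree_minpoly_eq_three hD hvn
      have hvp : v ^ p ∈ (algebraMap k D).range := by
        have hirr := minpoly.irreducible hint
        obtain ⟨g, hg1, hg2⟩ := (Polynomial.separable_or p hirr).resolve_left hv |>.2
        have hd := congrArg Polynomial.natDegree hg2
        rw [Polynomial.natDegree_expand, hdeg] at hd
        have hg3 : g.natDegree = 1 := Nat.eq_of_mul_eq_mul_right hp0.pos (by rw [hd, one_mul])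
        have hgm : g.leadingCoeff ≠ 0 := Polynomial.leadingCoeff_ne_zero.mpr hg1.ne_zero
        have h := minpoly.aeval k v
        rw [← hg2, Polynomial.expand_aeval, Polynomial.aeval_eq_sum_range, hg3, Finset.sum_range_succ,
          Finset.sum_range_one, pow_zero, pow_one] at h
        have h1 : g.coeff 1 ≠ 0 := by rw [← hg3]; exact hgm
        refine ⟨-g.coeff 0 / g.coeff 1, ?_⟩
        rw [Algebra.algebraMap_eq_smul_one, div_eq_inv_mul, ← smul_smul, neg_smul,
          neg_eq_of_add_eq_zero_right h, smul_smul, inv_mul_cancel₀ h1, one_smul]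
      let ε : D ≃ₐ[k] A := ((CSALib.matrixOne D).symm).trans e.symm
      refine ⟨ε v, ?_, ?_, fun t => ?_⟩
      · rintro ⟨r, hr⟩
        exact hvn ⟨r, ε.injective (by rw [AlgEquiv.commutes, hr])⟩
      · obtain ⟨r, hr⟩ := hvp
        exact ⟨r, by rw [← map_pow, ← hr, AlgEquiv.commutes]⟩
      · rw [← map_smul, ← map_one ε, ← map_add]
        refine (isUnit_iff_ne_zero.mpr fun h0 => hvn ?_).map ε
        by_cases ht : t = 0
        · simp [ht] at h0
        refine ⟨-t⁻¹, ?_⟩
        calc algebraMap k D (-t⁻¹) = t⁻¹ • (-1 : D) := by rw [Algebra.algebraMap_eq_smul_one, neg_smul, smul_neg]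
          _ = t⁻¹ • (t • v) := by rw [neg_eq_of_add_eq_zero_right h0]
          _ = v := by rw [smul_smul, inv_mul_cancel₀ ht, one_smul]
    · haveI : Nontrivial D := inferInstance
      let i0 : Fin m := ⟨0, by omega⟩
      let i1 : Fin m := ⟨1, hm2⟩
      have hne : i0 ≠ i1 := by simp [i0, i1, Fin.ext_iff]
      let u : A := e.symm (Matrix.single i0 i1 (1 : D))
      have hu : u * u = 0 := by
        rw [← map_mul, Matrix.single_mul_single_of_ne _ _ _ _ hne.symm, map_zero]
      refine ⟨u, ?_, ⟨0, ?_⟩, fun t => ?_⟩
      · rintro ⟨r, hr⟩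
        have h := congrArg e hr
        rw [AlgEquiv.commutes, AlgEquiv.apply_symm_apply] at h
        have := congrFun (congrFun h i0) i1
        simp [Matrix.algebraMap_matrix_apply, hne] at this
      · rw [map_zero, ← Nat.sub_add_cancel hp0.two_le, pow_add, sq, hu, mul_zero]
      · exact ⟨⟨1 + t • u, 1 - t • u, by simp [mul_sub, add_mul, smul_smul, hu],
          by simp [sub_mul, mul_add, smul_smul, hu]⟩, rfl⟩
  obtain ⟨v, hv, ⟨c, hc⟩, hunit⟩ := key
  haveI : Nontrivial A := inferInstance
  haveI : CharP A p := charP_of_injective_algebraMap (algebraMap k A).injective p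
  let w : k → Aˣ := fun t => (hunit t).unit
  have hwv : ∀ t, (w t : A) = 1 + t • v := fun t => (hunit t).unit_spec
  have hpow : ∀ t, ξ (w t) ^ p = 1 := by
    intro t
    rw [← map_pow, ← MonoidHom.mem_ker, hker]
    have h1 : ((w t ^ p : Aˣ) : A) = algebraMap k A (1 + t ^ p * c) := by
      rw [Units.val_pow_eq_pow_val, hwv, add_pow_char_of_commute p (Commute.one_left _), one_pow, smul_pow, ← hc,
        map_add, map_one, Algebra.smul_def, ← map_mul]
    have h0 : 1 + t ^ p * c ≠ 0 := fun h0 => (w t ^ p).ne_zero (by rw [h1, h0, map_zero])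
    exact ⟨Units.mk0 _ h0, Units.ext h1.symm⟩
  obtain ⟨S, hS⟩ := Infinite.exists_subset_card_eq k (N + 1)
  let φ : (s : S) → Multiplicative (ZMod p) →* Aut (Over.mk f) := fun s =>
    AddMonoidHom.toMultiplicativeLeft (ZMod.lift p
      ⟨zmultiplesHom (Additive (Aut (Over.mk f))) (Additive.ofMul (ξ (w s))), by
        rw [zmultiplesHom_apply, natCast_zsmul]; exact congrArg Additive.ofMul (hpow s)⟩)
  have hφ1 : ∀ s : S, φ s (Multiplicative.ofAdd 1) = ξ (w s) := by
    intro s
    show Additive.toMul (ZMod.lift p _ (1 : ZMod p)) = _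
    rw [← Int.cast_one, ZMod.lift_coe]
    simp
  have hcomm : Pairwise fun s s' : S => ∀ x y, Commute (φ s x) (φ s' y) := by
    intro s s' _ x y
    have hc1 : Commute (ξ (w s)) (ξ (w s')) := by
      refine Commute.map ?_ ξ
      apply Commute.units_of_val
      rw [hwv, hwv]
      exact (Commute.one_left _).add_left
        ((Commute.one_right _).add_right (((Commute.refl v).smul_left (s : k)).smul_right (s' : k)))
    have hform : ∀ (s : S) (x : Multiplicative (ZMod p)), ∃ j : ℤ, φ s x = ξ (w s) ^ j := by
      intro s x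
      obtain ⟨j, hj⟩ := ZMod.intCast_surjective (Multiplicative.toAdd x)
      refine ⟨j, ?_⟩
      show Additive.toMul (ZMod.lift p _ (Multiplicative.toAdd x)) = _
      rw [← hj, ZMod.lift_coe]
      simp
    obtain ⟨i, hi⟩ := hform s x
    obtain ⟨j, hj⟩ := hform s' y
    rw [hi, hj]
    exact hc1.zpow_zpow i j
  let Ψ := MonoidHom.noncommPiCoprod φ hcomm
  haveI : Finite Ψ.range := Finite.Set.finite_range Ψ
  refine ⟨Ψ.range, inferInstance, ?_⟩
  let ι : S → Ψ.range := fun s => ⟨ξ (w s), Pi.mulSingle s (Multiplicative.ofAdd 1), by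
    rw [MonoidHom.noncommPiCoprod_mulSingle, hφ1]⟩
  have hι : Function.Injective ι := by
    intro s s' h
    have h' : (w s)⁻¹ * w s' ∈ ξ.ker := by
      rw [MonoidHom.mem_ker, map_mul, map_inv, show ξ (w s) = ξ (w s') from congrArg Subtype.val h, inv_mul_cancel]
    rw [hker] at h'
    obtain ⟨l, hl⟩ := h'
    have h2 : w s' = w s * Units.map (algebraMap k A : k →* A) l := by rw [hl, mul_inv_cancel_left]
    have h3 := congrArg Units.val h2
    rw [Units.val_mul, hwv, hwv, Units.coe_map] at h3
    have h4 : algebraMap k A (1 - (l : k)) = ((s : k) * (l : k) - (s' : k)) • v := by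
      have h3' : (1 : A) + (s' : k) • v = (1 + (s : k) • v) * algebraMap k A (l : k) := h3
      rw [add_mul, one_mul, smul_mul_assoc, ← Algebra.commutes, ← Algebra.smul_def, smul_smul] at h3'
      rw [map_sub, map_one, sub_smul, sub_eq_sub_iff_add_eq_add, h3']
      abel
    by_cases hz : (s : k) * (l : k) - (s' : k) = 0
    · rw [hz, zero_smul, map_eq_zero, sub_eq_zero] at h4
      exact Subtype.ext (by rwa [← h4, mul_one, sub_eq_zero] at hz)
    · refine absurd ⟨((s : k) * (l : k) - (s' : k))⁻¹ * (1 - (l : k)), ?_⟩ hv
      rw [map_mul, h4, ← Algebra.smul_def, smul_smul, inv_mul_cancel₀ hz, one_smul]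
  have := Nat.card_le_card_of_injective ι hι
  simp only [Nat.card_eq_fintype_card, Fintype.card_coe, hS] at this ⊢
  omega

end Groth.Agent.S15189
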