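import Groth.Statements.S15190
import Groth.Agent.S15187
import Groth.Agent.CSALib.RedCharpoly
import Mathlib.GroupTheory.Transfer
import Mathlib.GroupTheory.Index

set_option autoImplicit false
universe u
open CategoryTheory CategoryTheory.Limits AlgebraicGeometry Polynomial
open BddFin

namespace Groth.Agent.S15190

/-- A finite image of a group with central kernel containing all torsion is commutative. -/
theorem comm_of_torsion {U M : Type*} [Group U] [Group M] (ξ : U →* M) (hξ : Function.Surjective ξ)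
    (hz : ξ.ker ≤ Subgroup.center U) (htors : ∀ (c : U) (N : ℕ), 0 < N → c ^ N = 1 → c ∈ ξ.ker)
    (G : Subgroup M) [Finite G] : ∀ g ∈ G, ∀ h ∈ G, g * h = h * g := by
  intro g hg h hh
  obtain ⟨x, rfl⟩ := hξ g
  obtain ⟨y, rfl⟩ := hξ h
  let Gt := G.comap ξ
  let r : Gt →* G := ξ.subgroupComap G
  have hrk : r.ker ≤ Subgroup.center Gt := by
    intro z hz0
    have hz' : (z : U) ∈ ξ.ker := by
      rw [MonoidHom.mem_ker]
      exact congrArg Subtype.val (MonoidHom.mem_ker.mp hz0)
    rw [Subgroup.mem_center_iff]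
    exact fun w => Subtype.ext (Subgroup.mem_center_iff.mp (hz hz') (w : U))
  haveI : r.ker.FiniteIndex := ⟨by rw [Subgroup.index_ker]; exact Nat.card_pos.ne'⟩
  haveI : (Subgroup.center Gt).FiniteIndex := Subgroup.finiteIndex_of_le hrk
  let a : Gt := ⟨x, hg⟩
  let b : Gt := ⟨y, hh⟩
  have hN : 0 < (Subgroup.center Gt).index := Nat.pos_of_ne_zero Subgroup.FiniteIndex.index_ne_zero
  have h1 : (a * b * a⁻¹ * b⁻¹) ^ (Subgroup.center Gt).index = 1 := by
    rw [← MonoidHom.transferCenterPow_apply, map_mul, map_mul, map_mul, map_inv, map_inv,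
      show ∀ u v : Subgroup.center Gt, u * v * u⁻¹ * v⁻¹ = 1 from fun u v => by
        rw [show u * v = v * u from Subtype.ext ((Subgroup.mem_center_iff.mp v.2 (u : Gt))), mul_inv_cancel_right,
          mul_inv_cancel]]
    rfl
  have h2 := htors _ _ hN (congrArg Subtype.val h1)
  rw [MonoidHom.mem_ker] at h2
  simp only [a, b, Subgroup.coe_mul, Subgroup.coe_inv, map_mul, map_inv] at h2
  exact mul_inv_eq_iff_eq_mul.mp (mul_inv_eq_one.mp h2)

/-- Splitting of a finite commutative subgroup along coprime exponents. -/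
theorem exists_split {M : Type*} [Group M] (G : Subgroup M) (n' q : ℕ) (hcop : Nat.Coprime n' q)
    (hcomm : ∀ g ∈ G, ∀ h ∈ G, g * h = h * g) (hexp : ∀ g ∈ G, g ^ (n' * q) = 1) :
    ∃ H S : Subgroup M, H ≤ G ∧ S ≤ G ∧
      (∀ g ∈ G, ∀ h ∈ H, g * h * g⁻¹ ∈ H) ∧ H ⊓ S = ⊥ ∧ H ⊔ S = G ∧
      (∀ h ∈ H, orderOf h ∣ n') ∧ (∀ s ∈ S, ∀ t ∈ S, s * t = t * s) ∧ (∀ s ∈ S, s ^ q = 1) := by
  let K : ℕ → Subgroup M := fun e =>
    { carrier := {g | g ∈ G ∧ g ^ e = 1}
      one_mem' := ⟨G.one_mem, one_pow e⟩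
      mul_mem' := fun {a b} ha hb => ⟨G.mul_mem ha.1 hb.1, by
        rw [Commute.mul_pow (show Commute a b from hcomm a ha.1 b hb.1), ha.2, hb.2, one_mul]⟩
      inv_mem' := fun {a} ha => ⟨G.inv_mem ha.1, by rw [inv_pow, ha.2, inv_one]⟩ }
  refine ⟨K n', K q, fun g hg => hg.1, fun g hg => hg.1, ?_, ?_, ?_,
    fun h hh => orderOf_dvd_iff_pow_eq_one.mpr hh.2, fun s hs t ht => hcomm s hs.1 t ht.1, fun s hs => hs.2⟩
  · intro g hg h hh
    rw [hcomm g hg h hh.1, mul_inv_cancel_right]
    exact hh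
  · rw [eq_bot_iff]
    intro g hg
    have h1 : g ^ Nat.gcd n' q = 1 := by
      rw [← orderOf_dvd_iff_pow_eq_one]
      exact Nat.dvd_gcd (orderOf_dvd_iff_pow_eq_one.mpr hg.1.2) (orderOf_dvd_iff_pow_eq_one.mpr hg.2.2)
    rw [hcop.gcd_eq_one, pow_one] at h1
    exact Subgroup.mem_bot.mpr h1
  · refine le_antisymm (sup_le (fun g hg => hg.1) fun g hg => hg.1) fun g hg => ?_
    have hgn : g ^ ((n' : ℤ) * (q : ℤ)) = 1 := by
      rw [← Nat.cast_mul, zpow_natCast]; exact hexp g hg
    have hbez := Nat.gcd_eq_gcd_ab n' q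
    rw [hcop.gcd_eq_one, Nat.cast_one] at hbez
    rw [← zpow_one g, hbez, zpow_add]
    refine Subgroup.mul_mem _ (Subgroup.mem_sup_right ⟨G.zpow_mem hg _, ?_⟩)
      (Subgroup.mem_sup_left ⟨G.zpow_mem hg _, ?_⟩)
    · rw [← zpow_natCast, ← zpow_mul, show (n' : ℤ) * Nat.gcdA n' q * (q : ℤ) =
        ((n' : ℤ) * (q : ℤ)) * Nat.gcdA n' q by ring, zpow_mul, hgn, one_zpow]
    · rw [← zpow_natCast, ← zpow_mul, show (q : ℤ) * Nat.gcdB n' q * (n' : ℤ) =
        ((n' : ℤ) * (q : ℤ)) * Nat.gcdB n' q by ring, zpow_mul, hgn, one_zpow]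

/-- An element mapping into a finite subgroup has a power in the kernel. -/
theorem exists_pow_mem_ker {U M : Type*} [Group U] [Group M] (ξ : U →* M) (G : Subgroup M) [Finite G]
    (x : U) (hx : ξ x ∈ G) : ∃ e, 0 < e ∧ x ^ e ∈ ξ.ker := by
  obtain ⟨e, he, hxe⟩ := isOfFinOrder_iff_pow_eq_one.mp (isOfFinOrder_of_finite (⟨ξ x, hx⟩ : G))
  exact ⟨e, he, by rw [MonoidHom.mem_ker, map_pow]; exact congrArg Subtype.val hxe⟩

/-- Let k be a field of characteristic p > 0 such that k contains all roots of unity (for every r ≥ 1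
the polynomial X^r − 1 splits into linear factors over k), A a central division algebra of dimension
n² over k with n = n' · p ^ m and n' prime to p, and X → Spec k the Severi–Brauer variety of A (X
represents the functor of left ideals of A with projective quotient of corank n² − n). Then every
finite subgroup G of the group of automorphisms of X over k is a semidirect product: there are
subgroups H and S of G with H normal in G, H ∩ S trivial and H S = G, such that every element of H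
has order prime to p and S is abelian with s ^ (p ^ m) = 1 for all s in S. (The published statement
also bounds the order of H; that bound is not part of this row.) -/
theorem result
    (k : Type u) [Field k] (p : ℕ) [Fact p.Prime] [CharP k p]
    (hk : ∀ r : ℕ, 0 < r → (X ^ r - 1 : k[X]).Splits)
    (A : Type u) [DivisionRing A] [Algebra k A] [Algebra.IsCentral k A]
    (n n' m : ℕ) (hn0 : 0 < n) (hA : Module.finrank k A = n * n) (hn : n = n' * p ^ m) (hn' : ¬ p ∣ n')
    {X : Scheme.{u}} (f : X ⟶ Spec (CommRingCat.of k)) (hX : BrSev.IsSBOf k A (n * n - n) f)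
    (G : Subgroup (Aut (Over.mk f))) [Finite G] :
    ∃ H S : Subgroup (Aut (Over.mk f)), H ≤ G ∧ S ≤ G ∧
      (∀ g ∈ G, ∀ h ∈ H, g * h * g⁻¹ ∈ H) ∧ H ⊓ S = ⊥ ∧ H ⊔ S = G ∧
      (∀ h ∈ H, ((orderOf h : ℕ) : k) ≠ 0) ∧
      (∀ s ∈ S, ∀ t ∈ S, s * t = t * s) ∧ (∀ s ∈ S, s ^ (p ^ m) = 1) := by
  classical
  haveI : Module.Finite k A := Module.finite_of_finrank_pos (by rw [hA]; positivity)
  obtain ⟨ξ, hξ, hker⟩ := Groth.Agent.S15187.result k A n hn0 hA f hX
  -- every element of finite order in the unit group is central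
  have htors : ∀ (c : Aˣ) (N : ℕ), 0 < N → c ^ N = 1 → c ∈ ξ.ker := by
    intro c N hN hc
    have h1 : aeval (c : A) (Polynomial.X ^ N - 1 : k[X]) = 0 := by
      rw [map_sub, map_pow, aeval_X, map_one, ← Units.val_pow_eq_pow_val, hc, Units.val_one, sub_self]
    have hmin := minpoly.dvd k (c : A) h1
    have hne : (Polynomial.X ^ N - 1 : k[X]) ≠ 0 := by simpa using X_pow_sub_C_ne_zero hN (1 : k)
    have hirr := minpoly.irreducible (Algebra.IsIntegral.isIntegral (R := k) (c : A))
    have hdeg : (minpoly k (c : A)).natDegree = 1 :=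
      natDegree_eq_of_degree_eq_some (((hk N hN).of_dvd hne hmin).degree_eq_one_of_irreducible hirr)
    obtain ⟨r, hr⟩ := minpoly.natDegree_eq_one_iff.1 hdeg
    have hr0 : r ≠ 0 := fun h => c.ne_zero (by rw [← hr, h, map_zero])
    rw [hker]
    exact ⟨Units.mk0 r hr0, Units.ext hr⟩
  -- the group is commutative
  have hcomm := comm_of_torsion ξ hξ (by
    rw [hker]
    rintro _ ⟨t, rfl⟩
    rw [Subgroup.mem_center_iff]
    exact fun w => Units.ext (Algebra.commutes (t : k) (w : A)).symm) htors G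
  -- the exponent divides the degree
  have hexp : ∀ g ∈ G, g ^ n = 1 := by
    intro g hg
    obtain ⟨x, rfl⟩ := hξ g
    obtain ⟨e, he, hmem⟩ := exists_pow_mem_ker ξ G x hg
    rw [hker] at hmem
    obtain ⟨c, hc⟩ := hmem
    have hx : (x : A) ^ e = algebraMap k A (c : k) := by
      rw [← Units.val_pow_eq_pow_val, ← hc]; rfl
    have hint : IsIntegral k (x : A) := Algebra.IsIntegral.isIntegral _
    have hQ := minpoly.irreducible hint
    have hQd : minpoly k (x : A) ∣ Polynomial.X ^ e - C (c : k) :=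
      minpoly.dvd k _ (by rw [map_sub, map_pow, aeval_X, aeval_C, hx, sub_self])
    obtain ⟨t, ht⟩ := Groth.Agent.CSALib.natDegree_dvd_degree hk (by rw [hA, sq]) he c.ne_zero hx hQ
      (minpoly.monic hint) hQd
    obtain ⟨a, ha, hQa⟩ := Groth.Agent.CSALib.irreducible_eq_binomial hk he c.ne_zero hQ (minpoly.monic hint) hQd
    have hd : (x : A) ^ (minpoly k (x : A)).natDegree = algebraMap k A a := by
      have h := minpoly.aeval k (x : A)
      rw [hQa, map_sub, map_pow, aeval_X, aeval_C, sub_eq_zero] at h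
      exact h
    have hxn : x ^ n ∈ ξ.ker := by
      rw [hker]
      refine ⟨Units.mk0 (a ^ t) (pow_ne_zero _ ha), Units.ext ?_⟩
      rw [Units.coe_map, Units.val_mk0, Units.val_pow_eq_pow_val, ht, pow_mul, hd]
      exact map_pow _ _ _
    rw [← map_pow, MonoidHom.mem_ker.mp hxn]
  have hcop : Nat.Coprime n' (p ^ m) :=
    (((Fact.out : p.Prime).coprime_iff_not_dvd.mpr hn').symm).pow_right m
  obtain ⟨H, S, h1, h2, h3, h4, h5, h6, h7, h8⟩ := exists_split G n' (p ^ m) hcop hcomm
    fun g hg => by rw [← hn]; exact hexp g hg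
  refine ⟨H, S, h1, h2, h3, h4, h5, fun h hh h0 => ?_, h7, h8⟩
  rw [CharP.cast_eq_zero_iff k p] at h0
  exact hn' (h0.trans (h6 h hh))

end Groth.Agent.S15190
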