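import Groth.Statements.S15224
import Mathlib.Data.Nat.Choose.Sum
import Mathlib.Data.Nat.Choose.Cast
import Mathlib.Tactic.Ring
import Mathlib.Tactic.FieldSimp
import Mathlib.Algebra.Module.Rat

set_option autoImplicit false
open Finset
open W4c2rk2extmaps

namespace Groth.Agent.S15224

/-- In a commutative ℚ-algebra R let y be an element and put c_k = y^k / k! for every k. Then for k ≥ 2,
Σ_{i=1}^{k-1} (-1)^(i-1) c_i c_(k-i) + (-1)^(k-1) c_k = c_k. (The published statement concerns the
Chern classes of a specific vector bundle on a Jacobian, which are of the form c_k = (4θ)^k / k!;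
the printed argument establishes the identity for every sequence of this form in a commutative
ℚ-algebra, which is the form stated here.) -/
theorem result (R : Type*) [CommRing R] [Algebra ℚ R] (y : R)
    (c : ℕ → R) (hc : ∀ k : ℕ, c k = ((Nat.factorial k : ℚ)⁻¹) • y ^ k)
    (k : ℕ) (hk : 2 ≤ k) :
    (∑ i ∈ Finset.Ico 1 k, (-1 : R) ^ (i - 1) * c i * c (k - i)) + (-1 : R) ^ (k - 1) * c k = c k := by
  have key : ∀ i ∈ Finset.Ico 1 (k + 1), (-1 : R) ^ (i - 1) * c i * c (k - i) =
      (((-1 : ℤ) ^ (i - 1) * (k.choose i : ℤ) : ℤ) : R) * c k := by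
    intro i hi
    have hik : i ≤ k := by simp at hi; omega
    rw [hc i, hc (k - i), hc k, mul_assoc, smul_mul_smul_comm, ← pow_add, Nat.add_sub_cancel' hik]
    rw [Int.cast_mul, Int.cast_pow, Int.cast_neg, Int.cast_one, Int.cast_natCast, mul_assoc]
    congr 1
    rw [← nsmul_eq_mul, ← Nat.cast_smul_eq_nsmul ℚ, smul_smul]
    congr 1
    rw [Nat.cast_choose ℚ hik]
    field_simp
  have hlast : (-1 : R) ^ (k - 1) * c k = (-1 : R) ^ (k - 1) * c k * c (k - k) := by
    simp [hc 0]
  rw [hlast, ← Finset.sum_Ico_succ_top (f := fun i => (-1 : R) ^ (i - 1) * c i * c (k - i)) (by omega : 1 ≤ k),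
    Finset.sum_congr rfl key, ← Finset.sum_mul, ← Int.cast_sum]
  have h1 : ∑ i ∈ Finset.Ico 1 (k + 1), (-1 : ℤ) ^ (i - 1) * (k.choose i : ℤ) = 1 := by
    have := Int.alternating_sum_range_choose_of_ne (n := k) (by omega)
    rw [Finset.range_eq_Ico, Finset.sum_eq_sum_Ico_succ_bot (by omega)] at this
    simp only [pow_zero, Nat.choose_zero_right, Nat.cast_one, mul_one, Nat.zero_add] at this
    have e : ∑ i ∈ Finset.Ico 1 (k + 1), (-1 : ℤ) ^ i * (k.choose i : ℤ) =
        - ∑ i ∈ Finset.Ico 1 (k + 1), (-1 : ℤ) ^ (i - 1) * (k.choose i : ℤ) := by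
      rw [← Finset.sum_neg_distrib]
      refine Finset.sum_congr rfl fun i hi => ?_
      obtain ⟨j, rfl⟩ : ∃ j, i = j + 1 := ⟨i - 1, by simp at hi; omega⟩
      simp [pow_succ]
    omega
  rw [h1, Int.cast_one, one_mul]


end Groth.Agent.S15224
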