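import Groth.Statements.S15225
import Groth.Agent.Lib.InvEnd
import Groth.Agent.Lib.CurveTensor
import Groth.Agent.Lib.CurveBundle
import Groth.Agent.KFlatLib.Scheme.Pullback
import Groth.Agent.KFlatLib.Perfect.Tensor
import Groth.Agent.CurveBC.Geometry
import Groth.Agent.H23.PullPush
import Groth.Agent.Synt29.Rank2

set_option autoImplicit false
open CategoryTheory CategoryTheory.Limits AlgebraicGeometry MonoidalCategory
open VBCurve

namespace Groth.Agent.S15225

/-- Let X be a smooth proper integral curve over ℂ of genus at least 2 which is non-hyperelliptic (no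
invertible module of degree 2 has two independent global sections), K a module isomorphic to its
sheaf of differentials, and E a slope-stable finite locally free module of rank 2 and degree 0 or 1
(degrees are χ(−) minus rank times χ(O_X)). Call E very stable when every O_X-linear map α : E → E ⊗
K with α ∘ α = 0 (the composite E → E ⊗ K → (E ⊗ K) ⊗ K) is zero; for rank 2 this is the absence of
non-zero nilpotent K-valued endomorphisms. Then E fails to be very stable exactly when E has a line
subbundle L, i.e. an invertible submodule whose quotient E/L is invertible, together with a non-zero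
O_X-linear map E/L → L ⊗ K. (With det E = Λ and L the dual of a line bundle L₀ the space of such
maps is H^0(K ⊗ L₀^{-2} ⊗ Λ^{-1}), which is how the criterion is usually written.) -/
theorem result
    (X : Scheme.{0}) [X.Over (Spec (CommRingCat.of ℂ))] [IsIntegral X]
    [IsProper (X ↘ Spec (CommRingCat.of ℂ))] [Smooth (X ↘ Spec (CommRingCat.of ℂ))]
    (hdim : topologicalKrullDim X = 1) (hg : 2 ≤ Curv2.genus ℂ X)
    (hnh : ∀ M : X.Modules, PicF.IsInvertible M → Curv2.deg ℂ X M 1 = 2 →
      Module.finrank ℂ (Coh.HH X M 0) ≤ 1)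
    (K : X.Modules) (eK : K ≅ Omega.sheaf (X ↘ Spec (CommRingCat.of ℂ)))
    (E : X.Modules) (hE : FlatMod.IsFinLocFreeOfRank 2 E)
    (hdegE : Curv2.deg ℂ X E 2 = 0 ∨ Curv2.deg ℂ X E 2 = 1)
    (hst : ModFun.IsSlopeStable ℂ X E 2) :
    (¬ ∀ α : E ⟶ CohB1.tensorMod E K,
        α ≫ (CohB1.sheafifyMod X).map
          (MonoidalCategoryStruct.whiskerRight (C := CohB1.PMod X) α.val (CohB1.toPMod K)) = 0 → α = 0) ↔
      ∃ (L : X.Modules) (j : L ⟶ E), PicF.IsInvertible L ∧ Mono j ∧ PicF.IsInvertible (cokernel j) ∧
        ∃ β : cokernel j ⟶ CohB1.tensorMod L K, β ≠ 0 := by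
  haveI : IsLocallyNoetherian X := LocallyOfFiniteType.isLocallyNoetherian (X ↘ Spec (CommRingCat.of ℂ))
  let G := DCoh.tensorBi.flip.obj K
  haveI : G.Additive := Functor.additive_of_preserves_binary_products _
  have hK : FlatMod.IsFinLocFree K :=
    Groth.Agent.H23.PullPush.isFinLocFree_of_iso eK.symm
      (Groth.Agent.CurveBC.isFinLocFree_omega ℂ X)
  have hG : ∀ {A B : X.Modules} (f : A ⟶ B) [Mono f], Mono (G.map f) := fun {A B} f _ => by
    have h : (CategoryTheory.ShortComplex.mk f (cokernel.π f) (cokernel.condition f)).ShortExact :=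
      { exact := CategoryTheory.ShortComplex.exact_cokernel f }
    haveI := (Groth.Agent.CurveTensor.shortExact_tensor hK _ _ _ h).mono_f
    let τ := (Groth.Agent.KFlatLib.tensorBiFlipIso X).app K
    rw [← NatIso.naturality_2 τ f]
    infer_instance
  constructor
  · intro h
    push_neg at h
    obtain ⟨α, hαα, hα⟩ := h
    let a : E ⟶ G.obj E := α
    have haa : a ≫ G.map a = 0 := hαα
    have ha : a ≠ 0 := hα
    have hEl := Groth.Agent.H28.KvbModel.lf_of_rank hE
    have hGEl : FlatMod.IsFinLocFree (G.obj E) := Groth.Agent.KFlatLib.isFinLocFree_tensor hEl hK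
    have hEc := Groth.Agent.CurveDeg.isCoh_of_isFinLocFree hEl
    have hLc := Groth.Agent.QCoh.isCoh_kernel hEc (Groth.Agent.CurveDeg.isCoh_of_isFinLocFree hGEl) a
    let j := kernel.ι a
    have hIc : Coh.IsCoh (cokernel j) := Groth.Agent.QCoh.isCoh_cokernel hLc.1 hEc j
    let i : cokernel j ⟶ G.obj E := Abelian.factorThruCoimage a
    haveI : Mono i := (inferInstance : Mono (Abelian.factorThruCoimage a))
    have hfac : cokernel.π j ≫ i = a := Abelian.coimage.fac a
    have hS : (ShortComplex.mk j (cokernel.π j) (cokernel.condition j)).ShortExact :=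
      { exact := ShortComplex.exact_cokernel j }
    have hLl := Groth.Agent.CurveBundle.isFinLocFree_of_mono ℂ hdim.le hLc j hEl
    have hIl := Groth.Agent.CurveBundle.isFinLocFree_of_mono ℂ hdim.le hIc i hGEl
    have hrk := Groth.Agent.CurveBundle.rk_add' _ _ _ hS (Groth.Agent.CurveBundle.finite_stalk_of_coh hEc _)
    rw [Groth.Agent.CurveBundle.rk_eq hE] at hrk
    have hI0 : Groth.Agent.CurveBundle.rk (cokernel j) ≠ 0 := fun h0 => ha (by
      rw [← hfac, (Groth.Agent.CurveBundle.isZero_of_rk_zero hIl h0).eq_of_tgt (cokernel.π j) 0,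
        Limits.zero_comp])
    have hL0 : Groth.Agent.CurveBundle.rk (kernel a) ≠ 0 := fun h0 => ha (by
      haveI : Mono a := Preadditive.mono_of_isZero_kernel a
        (Groth.Agent.CurveBundle.isZero_of_rk_zero hLl h0)
      haveI := hG a
      exact (cancel_mono (G.map a)).1 (haa.trans Limits.zero_comp.symm))
    have hrL : Groth.Agent.CurveBundle.rk (kernel a) = 1 := by omega
    have hrI : Groth.Agent.CurveBundle.rk (cokernel j) = 1 := by omega
    have hLi := Groth.Agent.H28.PBCores.isInvertible_iff_rank.2
      (hrL ▸ Groth.Agent.CurveBundle.isFinLocFreeOfRank_rk hLl)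
    have hIi := Groth.Agent.H28.PBCores.isInvertible_iff_rank.2
      (hrI ▸ Groth.Agent.CurveBundle.isFinLocFreeOfRank_rk hIl)
    -- `a` lands in `G L`, as `G` is exact
    have hGS : ((ShortComplex.mk j (cokernel.π j) (cokernel.condition j)).map G).ShortExact :=
      ShortComplex.shortExact_of_iso
        (ShortComplex.mapNatIso _ ((Groth.Agent.KFlatLib.tensorBiFlipIso X).app K)).symm
        (Groth.Agent.CurveTensor.shortExact_tensor hK _ _ _ hS)
    haveI := hG i
    have h1 : a ≫ G.map (cokernel.π j) = 0 := (cancel_mono (G.map i)).1 (by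
      rw [Category.assoc, ← G.map_comp, hfac, haa, Limits.zero_comp])
    haveI := hGS.mono_f
    let γ : E ⟶ G.obj (kernel a) := hGS.exact.lift a h1
    have hγ : γ ≫ G.map j = a := hGS.exact.lift_f a h1
    haveI := hG j
    have hjγ : j ≫ γ = 0 := (cancel_mono (G.map j)).1 (by
      rw [Category.assoc, hγ, Limits.zero_comp]; exact kernel.condition a)
    refine ⟨kernel a, j, hLi, inferInstance, hIi, cokernel.desc j γ hjγ, fun hβ => ha ?_⟩
    have hb : cokernel.desc j γ hjγ = 0 := hβ
    rw [← hγ, ← cokernel.π_desc j γ hjγ, hb, Limits.comp_zero, Limits.zero_comp]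
  · rintro ⟨L, j, hL, hj, hQ, β, hβ⟩ h
    let b : cokernel j ⟶ G.obj L := β
    haveI := hG j
    let a : E ⟶ G.obj E := cokernel.π j ≫ b ≫ G.map j
    have e : G.map j ≫ G.map (cokernel.π j) = 0 := by
      rw [← G.map_comp, cokernel.condition, Functor.map_zero]
    have haa : a ≫ G.map a = 0 := by
      simp only [a, Functor.map_comp, Category.assoc]
      rw [reassoc_of% e]
      simp
    have ha : a = 0 := h a haa
    refine hβ (show b = 0 from ?_)
    refine (cancel_mono (G.map j)).1 ((cancel_epi (cokernel.π j)).1 ?_)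
    rw [Limits.zero_comp, Limits.comp_zero]
    exact ha

end Groth.Agent.S15225
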