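import Groth.Statements.S15226
import Groth.Agent.Synt29.VirtClass
import Groth.Agent.Lib.InvEnd
import Groth.Agent.Lib.CurveTensor
import Groth.Agent.KFlatLib.Scheme.Pullback
import Groth.Agent.CurveBC.Geometry
import Groth.Agent.H23.PullPush
import Groth.Agent.Synt29.Rank2

set_option autoImplicit false
open CategoryTheory CategoryTheory.Limits AlgebraicGeometry MonoidalCategory
open VBCurve

namespace Groth.Agent.S15226

/-- Let X be a smooth proper integral curve over ℂ of genus at least 2 which is non-hyperelliptic, K a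
module isomorphic to its sheaf of differentials, and E a slope-stable finite locally free module of
rank 2 and degree 0 or 1 which is very stable: every O_X-linear α : E → E ⊗ K with α ∘ α = 0 (as a
map E → (E ⊗ K) ⊗ K) vanishes. Let L be an invertible module occurring as a line subbundle of E of
maximal degree (a monomorphism L → E with invertible quotient exists, and every invertible module
mapping monomorphically into E has degree at most deg L). Then for every non-zero s : L → E and
every non-zero t : E → L ⊗ K the composite L → E → L ⊗ K is non-zero; in other words the pairing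
Hom(L, E) × Hom(E, L ⊗ K) → Hom(L, L ⊗ K) ≅ H^0(K) vanishes on no pair of non-zero elements. -/
theorem result
    (X : Scheme.{0}) [X.Over (Spec (CommRingCat.of ℂ))] [IsIntegral X]
    [IsProper (X ↘ Spec (CommRingCat.of ℂ))] [Smooth (X ↘ Spec (CommRingCat.of ℂ))]
    (hdim : topologicalKrullDim X = 1) (hg : 2 ≤ Curv2.genus ℂ X)
    (hnh : ∀ M : X.Modules, PicF.IsInvertible M → Curv2.deg ℂ X M 1 = 2 →
      Module.finrank ℂ (Coh.HH X M 0) ≤ 1)
    (K : X.Modules) (eK : K ≅ Omega.sheaf (X ↘ Spec (CommRingCat.of ℂ)))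
    (E : X.Modules) (hE : FlatMod.IsFinLocFreeOfRank 2 E)
    (hdegE : Curv2.deg ℂ X E 2 = 0 ∨ Curv2.deg ℂ X E 2 = 1)
    (hst : ModFun.IsSlopeStable ℂ X E 2)
    (hvs : ∀ α : E ⟶ CohB1.tensorMod E K,
        α ≫ (CohB1.sheafifyMod X).map
          (MonoidalCategoryStruct.whiskerRight (C := CohB1.PMod X) α.val (CohB1.toPMod K)) = 0 → α = 0)
    (L : X.Modules) (hL : PicF.IsInvertible L)
    (hmax : ∃ j : L ⟶ E, Mono j ∧ PicF.IsInvertible (cokernel j) ∧
      ∀ (M : X.Modules) (i : M ⟶ E), PicF.IsInvertible M → Mono i → Curv2.deg ℂ X M 1 ≤ Curv2.deg ℂ X L 1)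
    (s : L ⟶ E) (hs : s ≠ 0) (t : E ⟶ CohB1.tensorMod L K) (ht : t ≠ 0) :
    s ≫ t ≠ 0 := by
  intro hst0
  haveI : IsLocallyNoetherian X := LocallyOfFiniteType.isLocallyNoetherian (X ↘ Spec (CommRingCat.of ℂ))
  let G := DCoh.tensorBi.flip.obj K
  haveI hs' : Mono s := Groth.Agent.Synt29.Rank2.mono_of_ne_zero (Groth.Agent.H28.PBCores.isInvertible_iff_rank.1 hL)
    (Groth.Agent.H28.KvbModel.lf_of_rank hE) s hs
  have hK : FlatMod.IsFinLocFree K :=
    Groth.Agent.H23.PullPush.isFinLocFree_of_iso eK.symm
      (Groth.Agent.CurveBC.isFinLocFree_omega ℂ X)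
  haveI : Mono (G.map s) := by
    have h : (CategoryTheory.ShortComplex.mk s (cokernel.π s) (cokernel.condition s)).ShortExact :=
      { exact := CategoryTheory.ShortComplex.exact_cokernel s }
    haveI := (Groth.Agent.CurveTensor.shortExact_tensor hK _ _ _ h).mono_f
    let τ := (Groth.Agent.KFlatLib.tensorBiFlipIso X).app K
    rw [← NatIso.naturality_2 τ s]
    infer_instance
  haveI : G.Additive := Functor.additive_of_preserves_binary_products _
  let t' : E ⟶ G.obj L := t
  have e : G.map s ≫ G.map t' = 0 := by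
    rw [← G.map_comp, show s ≫ t' = 0 from hst0, Functor.map_zero]
  let α : E ⟶ G.obj E := t' ≫ G.map s
  have hαα : α ≫ G.map α = 0 := by
    simp only [α, Functor.map_comp, Category.assoc]
    rw [reassoc_of% e, zero_comp, comp_zero]
  have h0 : α = 0 := hvs α hαα
  exact ht ((cancel_mono (G.map s)).1 (h0.trans zero_comp.symm) : t' = 0)

end Groth.Agent.S15226
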