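import Groth.Statements.S15228
import Groth.Agent.Synt29.Secant

set_option autoImplicit false
open CategoryTheory CategoryTheory.Limits AlgebraicGeometry
open scoped Groth.Agent.H23.PicMul
open CategoryTheory CategoryTheory.Limits AlgebraicGeometry MonoidalCategory
open VBCurve

namespace Groth.Agent.S15228

/-- Let X be a smooth proper integral curve over ℂ of genus g ≥ 3 which is non-hyperelliptic, K a module
isomorphic to its sheaf of differentials, and N an invertible module of degree g with h^0(N) ≤ 1, so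
that the complete linear system of K ⊗ N maps X to a projective space of dimension 2g − 2 as a curve
of degree 3g − 2. An effective divisor D of degree d, recorded through its invertible ideal sheaf I
⊂ O_X (of degree −d), is a d-secant when its linear span has dimension d − 2, i.e. h^0(I ⊗ K ⊗ N) =
h^0(K ⊗ N) − d + 1. Then X has exactly one g-secant: some invertible ideal I ⊂ O_X of degree −g
satisfies h^0(I ⊗ K ⊗ N) + (g − 1) = h^0(K ⊗ N), and any two such ideals are equal as subobjects of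
O_X (an isomorphism between them commutes with the inclusions). -/
theorem result
    (X : Scheme.{0}) [X.Over (Spec (CommRingCat.of ℂ))] [IsIntegral X]
    [IsProper (X ↘ Spec (CommRingCat.of ℂ))] [Smooth (X ↘ Spec (CommRingCat.of ℂ))]
    (hdim : topologicalKrullDim X = 1) (hg : 2 ≤ Curv2.genus ℂ X)
    (hnh : ∀ M : X.Modules, PicF.IsInvertible M → Curv2.deg ℂ X M 1 = 2 →
      Module.finrank ℂ (Coh.HH X M 0) ≤ 1)
    (K : X.Modules) (eK : K ≅ Omega.sheaf (X ↘ Spec (CommRingCat.of ℂ)))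
    (g : ℕ) (hg3 : 3 ≤ g) (hgen : Curv2.genus ℂ X = g)
    (N : X.Modules) (hN : PicF.IsInvertible N) (hdN : Curv2.deg ℂ X N 1 = (g : ℤ))
    (h0 : Module.finrank ℂ (Coh.HH X N 0) ≤ 1) :
    (∃ (I : X.Modules) (ι : I ⟶ Coh.structureModule X),
        PicF.IsInvertible I ∧ Mono ι ∧ Curv2.deg ℂ X I 1 = -((g : ℤ)) ∧
        Module.finrank ℂ (Coh.HH X (CohB1.tensorMod I (CohB1.tensorMod K N)) 0) + (g - 1) =
          Module.finrank ℂ (Coh.HH X (CohB1.tensorMod K N) 0)) ∧
      ∀ (I I' : X.Modules) (ι : I ⟶ Coh.structureModule X) (ι' : I' ⟶ Coh.structureModule X),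
        (PicF.IsInvertible I ∧ Mono ι ∧ Curv2.deg ℂ X I 1 = -((g : ℤ)) ∧
        Module.finrank ℂ (Coh.HH X (CohB1.tensorMod I (CohB1.tensorMod K N)) 0) + (g - 1) =
          Module.finrank ℂ (Coh.HH X (CohB1.tensorMod K N) 0)) →
        (PicF.IsInvertible I' ∧ Mono ι' ∧ Curv2.deg ℂ X I' 1 = -((g : ℤ)) ∧
        Module.finrank ℂ (Coh.HH X (CohB1.tensorMod I' (CohB1.tensorMod K N)) 0) + (g - 1) =
          Module.finrank ℂ (Coh.HH X (CohB1.tensorMod K N) 0)) →
        ∃ φ : I' ≅ I, φ.hom ≫ ι = ι' := by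
  obtain ⟨-, hlow, heq⟩ := Groth.Agent.Synt29.Secant.finrank_h0_KN ℂ hdim eK hN
  have hKN := heq (by omega)
  refine ⟨?_, fun I I' ι ι' h h' => ?_⟩
  swap
  · obtain ⟨hI, hι, hdI, hh⟩ := h
    obtain ⟨hI', hι', hdI', hh'⟩ := h'
    haveI := hι
    haveI := hι'
    exact Groth.Agent.Synt29.Secant.exists_iso_of_inverse ℂ hN h0 ι ι'
      (Groth.Agent.Synt29.Secant.cl_mul_eq_one ℂ hdim eK hN hI (by omega) (by omega))
      (Groth.Agent.Synt29.Secant.cl_mul_eq_one ℂ hdim eK hN hI' (by omega) (by omega))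
  haveI : ConnectedSpace X := inferInstance
  haveI := Groth.Agent.CurveCohLib.isNoetherian_of_proper (k := ℂ) (X := X)
  have hne : Module.finrank ℂ (Coh.HH X N 0) ≠ 0 := by
    have := Groth.Agent.Synt29.Secant.euler_eq ℂ hdim hN
    omega
  obtain ⟨s, hs⟩ := Groth.Agent.CurveRR.exists_hom_ne_zero (P := N) ℂ hne
  obtain ⟨D, hD, e⟩ := Groth.Agent.H23.PicInv.exists_inverse hN
  have hND : PicF.cl N * PicF.cl D = 1 := Groth.Agent.H23.PicMul.cl_eq_iff.2 e
  let G := (DCoh.tensorBi (X := X)).obj D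
  haveI : G.IsEquivalence := Groth.Agent.CurveOnSurf.isEquivalence_tensor hD
  haveI : Mono s := Groth.Agent.InvEnd.mono_of_ne_zero Groth.Agent.CurveDeg.isInvertible_structureModule hN s hs
  obtain ⟨e'⟩ := Groth.Agent.H23.PicMul.cl_eq_iff.1
    (show PicF.cl (CohB1.tensorMod D N) = PicF.cl (Coh.structureModule X) by
      rw [Groth.Agent.H23.PicMul.cl_tensor, mul_comm, hND, Groth.Agent.H23.PicMul.one_def])
  let e'' : G.obj N ≅ Coh.structureModule X := e'
  refine ⟨D, (Groth.Agent.KFlatLib.tensorUnitIso D).inv ≫ G.map s ≫ e''.hom, hD, inferInstance, ?_, ?_⟩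
  · have h1 := Groth.Agent.Synt29.Secant.deg_mul ℂ hdim hN hD
    have h2 := Groth.Agent.Synt29.Secant.deg_of_cl ℂ (X := X)
      (show PicF.cl (CohB1.tensorMod N D) = PicF.cl (Coh.structureModule X) by
        rw [Groth.Agent.H23.PicMul.cl_tensor, hND, Groth.Agent.H23.PicMul.one_def])
    have h3 := Groth.Agent.CurveDeg.deg_structureModule (k := ℂ) (X := X)
    omega
  · obtain ⟨eD⟩ := Groth.Agent.H23.PicMul.cl_eq_iff.1
      (show PicF.cl (CohB1.tensorMod D (CohB1.tensorMod K N)) = PicF.cl K by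
        rw [Groth.Agent.H23.PicMul.cl_tensor, Groth.Agent.H23.PicMul.cl_tensor, mul_left_comm,
          mul_comm (PicF.cl D), hND, mul_one])
    have hK0 := (Groth.Agent.CurveCohLib.hhEquiv (k := ℂ) (eD ≪≫ eK) 0).finrank_eq
    have hc := (Groth.Agent.CurveBC.canonical_invariants ℂ X hdim
      (Groth.Agent.CurveCohLib.finrank_h0_eq_one ℂ X)).1
    omega

end Groth.Agent.S15228
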