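import Groth.Statements.S15229
import Mathlib

set_option autoImplicit false
open Finset
open W4c2rk2extmaps

namespace Groth.Agent.S15229

/-- In a commutative ℚ-algebra R let θ, η be elements and g a natural number, and put c_k = (4θ)^k / k!.
Suppose θ^(g+1) = 0 and that η satisfies the relation η^(g+1) = Σ_{i=1}^{g+1} (-1)^(i-1) c_i
η^(g+1-i). Then η^(g+k) θ^(g-k) = c_k η^g θ^(g-k) for every 1 ≤ k ≤ g. (The published statement
concerns the first Chern class η of the tautological line bundle on a projective bundle P(U) over a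
g-dimensional Jacobian, with c_k the Chern classes of U, which are (4θ)^k / k!; there θ^(g+1)
vanishes for dimension reasons and the displayed relation is the projective-bundle relation, and the
printed argument derives the identity from exactly these three inputs, which is the form stated
here.) -/
theorem result (R : Type*) [CommRing R] [Algebra ℚ R]
    (θ η : R) (g : ℕ) (c : ℕ → R) (hc : ∀ k : ℕ, c k = ((Nat.factorial k : ℚ)⁻¹) • ((4 : R) * θ) ^ k)
    (hθ : θ ^ (g + 1) = 0)
    (hrel : η ^ (g + 1) = ∑ i ∈ Finset.Ico 1 (g + 2), (-1 : R) ^ (i - 1) * c i * η ^ (g + 1 - i))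
    (k : ℕ) (hk1 : 1 ≤ k) (hkg : k ≤ g) :
    η ^ (g + k) * θ ^ (g - k) = c k * η ^ g * θ ^ (g - k) := by
  let C : ℕ → R := fun i => algebraMap ℚ R ((4 : ℚ) ^ i / (Nat.factorial i : ℚ))
  have hC : ∀ i, c i = C i * θ ^ i := by
    intro i
    rw [hc, mul_pow, Algebra.smul_def, ← mul_assoc]
    congr 1
    simp only [C, div_eq_inv_mul, map_mul, map_pow, map_ofNat]
  have hvan : ∀ n, g < n → θ ^ n = 0 := fun n hn => by
    rw [show n = g + 1 + (n - (g + 1)) by omega, pow_add, hθ, zero_mul]
  have main : ∀ k, k ≤ g → η ^ (g + k) * θ ^ (g - k) = C k * η ^ g * θ ^ g := by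
    intro k
    induction k using Nat.strong_induction_on with
    | _ k ih =>
      intro hk
      rcases Nat.eq_zero_or_pos k with rfl | hk0
      · simp [C]
      have e1 : η ^ (g + k) = η ^ (k - 1) * η ^ (g + 1) := by rw [← pow_add]; congr 1; omega
      rw [e1, hrel, Finset.mul_sum, Finset.sum_mul]
      rw [← Finset.sum_subset (s₁ := Finset.Ico 1 (k + 1)) (fun i hi => by
        simp only [Finset.mem_Ico] at hi ⊢; omega)]
      · have e2 : ∀ i ∈ Finset.Ico 1 (k + 1),
            η ^ (k - 1) * ((-1 : R) ^ (i - 1) * c i * η ^ (g + 1 - i)) * θ ^ (g - k) =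
              ((-1 : R) ^ (i - 1) * (C i * C (k - i))) * (η ^ g * θ ^ g) := by
          intro i hi
          simp only [Finset.mem_Ico] at hi
          have h := ih (k - i) (by omega) (by omega)
          have e3 : η ^ (k - 1) * η ^ (g + 1 - i) = η ^ (g + (k - i)) := by rw [← pow_add]; congr 1; omega
          have e4 : θ ^ i * θ ^ (g - k) = θ ^ (g - (k - i)) := by rw [← pow_add]; congr 1; omega
          calc _ = (-1 : R) ^ (i - 1) * C i * ((η ^ (k - 1) * η ^ (g + 1 - i)) * (θ ^ i * θ ^ (g - k))) := by
                rw [hC]; ring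
            _ = _ := by rw [e3, e4, h]; ring
        rw [Finset.sum_congr rfl e2, ← Finset.sum_mul, mul_assoc]
        congr 1
        have h1 : ((-1 : R)) = algebraMap ℚ R (-1) := by simp
        simp only [C, h1, ← map_pow, ← map_mul, ← map_sum]
        congr 1
        have hk' : (∑ i ∈ Finset.range (k + 1), ((-1 : ℚ)) ^ i * (k.choose i : ℚ)) = 0 := by
          have := Int.alternating_sum_range_choose_of_ne (n := k) (by omega)
          exact_mod_cast this
        rw [Finset.range_eq_Ico, Finset.sum_eq_sum_Ico_succ_bot (by omega)] at hk'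
        simp only [zero_add, pow_zero, Nat.choose_zero_right, Nat.cast_one, one_mul] at hk'
        have e5 : ∀ i ∈ Finset.Ico 1 (k + 1), ((-1 : ℚ)) ^ (i - 1) * ((4 : ℚ) ^ i / (i.factorial : ℚ) * ((4 : ℚ) ^ (k - i) / ((k - i).factorial : ℚ))) =
            -((4 : ℚ) ^ k / (k.factorial : ℚ)) * ((-1) ^ i * (k.choose i : ℚ)) := by
          intro i hi
          simp only [Finset.mem_Ico] at hi
          have hp : (-1 : ℚ) ^ i = (-1) * (-1) ^ (i - 1) := by rw [← pow_succ']; congr 1; omega
          have h4 : (4 : ℚ) ^ k = 4 ^ i * 4 ^ (k - i) := by rw [← pow_add]; congr 1; omega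
          rw [Nat.cast_choose ℚ (by omega : i ≤ k), hp, h4]
          field_simp
        rw [Finset.sum_congr rfl e5, ← Finset.mul_sum, show (∑ i ∈ Finset.Ico 1 (k + 1), ((-1 : ℚ)) ^ i * (k.choose i : ℚ)) = -1 by linarith]
        ring
      · intro i hi hi'
        simp only [Finset.mem_Ico] at hi hi'
        rw [hC]
        have : θ ^ i * θ ^ (g - k) = 0 := by rw [← pow_add]; exact hvan _ (by omega)
        calc _ = η ^ (k - 1) * ((-1 : R) ^ (i - 1)) * C i * η ^ (g + 1 - i) * (θ ^ i * θ ^ (g - k)) := by ring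
          _ = 0 := by rw [this, mul_zero]
  rw [main k hkg, hC]
  calc _ = C k * η ^ g * (θ ^ k * θ ^ (g - k)) := by rw [← pow_add]; congr 2; omega
    _ = _ := by ring


end Groth.Agent.S15229
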