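import Groth.Statements.S15231
import Mathlib
import Groth.Agent.H9Misc.DRingFibre
import Groth.Agent.H9Misc.DRingNilp

set_option autoImplicit false
universe u
open CategoryTheory CategoryTheory.Limits
attribute [local instance] HasDerivedCategory.standard
open DRing

namespace Groth.Agent.S15231

/-- Let R be a Noetherian local commutative ring with residue field κ, let P be any object of D(R) and
a, b integers. Suppose that H^i(P ⊗^L_R κ) = 0 for every i outside [a, b] (over the field κ this
says exactly that P ⊗^L_R κ has tor amplitude in [a, b] as an object of D(κ)). Then for every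
R-module N of finite length, H^i(P ⊗^L_R N) = 0 for every i outside [a, b]. The derived base change
to κ and the derived tensor products with R-modules are the total left derived functors on D(R),
assumed to exist for every R-module (as they do). -/
theorem result (R : Type u) [CommRing R] [IsNoetherianRing R]
    [IsLocalRing R] [DRing.HasLBaseChange (IsLocalRing.residue R)] [∀ M : ModuleCat.{u} R, DRing.HasLTensor R M]
    (P : Dual.D R) (a b : ℤ)
    (h : ∀ i : ℤ, (i < a ∨ b < i) →
      Subsingleton (Dual.HD (IsLocalRing.ResidueField R) ((DRing.LBaseChange (IsLocalRing.residue R)).obj P) i))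
    (N : Type u) [AddCommGroup N] [Module R N] (hN : IsFiniteLength R N) (i : ℤ) (hi : i < a ∨ b < i) :
    Subsingleton (Dual.HD R ((DRing.LTensor R (ModuleCat.of R N)).obj P) i) := by
  obtain ⟨E, hE, hflat, ⟨e⟩⟩ := Groth.Agent.H9Misc.DRingLTensor.exists_rep P
  rw [Groth.Agent.H9Misc.DRingTor.exactAt_tensC_iff _ hE e i]
  have hκ : ∀ L : ModuleCat.{u} (IsLocalRing.ResidueField R),
      ((Groth.Agent.H9Misc.DRingLTensor.tensC L).obj
        ((Groth.Agent.H9Misc.DRingLTensor.extC' (IsLocalRing.residue R)).obj E)).ExactAt i := fun L => by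
    have h0 := Groth.Agent.H9Misc.DRingFibre.exactAt_of_lbase (IsLocalRing.residue R) hE e i (h i hi)
    rw [HomologicalComplex.exactAt_iff' _ (i - 1) i (i + 1) (by simp) (by simp)] at h0 ⊢
    rw [ShortComplex.ShortExact.moduleCat_exact_iff_function_exact] at h0 ⊢
    exact Module.Flat.rTensor_exact L h0
  obtain ⟨_, _⟩ := isFiniteLength_iff_isNoetherian_isArtinian.1 hN
  obtain ⟨k, hk⟩ := IsArtinian.monotone_stabilizes
    (⟨fun n => OrderDual.toDual ((IsLocalRing.maximalIdeal R) ^ n • (⊤ : Submodule R N)),
      fun a b hab => Submodule.smul_mono_left (Ideal.pow_le_pow_right hab)⟩ : ℕ →o (Submodule R N)ᵒᵈ)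
  have hk' : (IsLocalRing.maximalIdeal R) ^ k • (⊤ : Submodule R N) = ⊥ := by
    refine Submodule.eq_bot_of_le_smul_of_le_jacobson_bot (IsLocalRing.maximalIdeal R) _
      (IsNoetherian.noetherian _) ?_ (IsLocalRing.maximalIdeal_le_jacobson _)
    rw [← Submodule.mul_smul, ← pow_succ']
    exact le_of_eq (OrderDual.toDual_inj.1 (hk (k + 1) (Nat.le_succ k)))
  refine Groth.Agent.H9Misc.DRingNilp.exactAt_of_pow (IsLocalRing.residue R) Ideal.Quotient.mk_surjective
    hflat i hκ k (ModuleCat.of R N) fun r hr x => ?_
  rw [IsLocalRing.ker_residue] at hr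
  have : r • x ∈ (IsLocalRing.maximalIdeal R) ^ k • (⊤ : Submodule R N) :=
    Submodule.smul_mem_smul hr Submodule.mem_top
  rwa [hk'] at this

end Groth.Agent.S15231
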