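import Groth.Statements.S15232
import Mathlib
import Groth.Agent.H9Misc.DRingFibre

set_option autoImplicit false
universe u
open CategoryTheory CategoryTheory.Limits
attribute [local instance] HasDerivedCategory.standard
open DRing

namespace Groth.Agent.S15232

/-- Let R be a Noetherian commutative ring and I an ideal contained in the Jacobson radical of R, and
assume the derived base change D(R) → D(R/I) exists. Let P be a pseudo-coherent object of D(R) and
a, b integers. If P ⊗^L_R R/I has tor amplitude in [a, b] as an object of D(R/I), then P has tor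
amplitude in [a, b] as an object of D(R). Tor amplitude is taken in the flat-representative form
(isomorphic in the derived category to a complex of flat modules vanishing outside [a, b]). -/
theorem result (R : Type u) [CommRing R] [IsNoetherianRing R]
    (I : Ideal R) (hI : I ≤ Ideal.jacobson (⊥ : Ideal R)) [DRing.HasLBaseChange (Ideal.Quotient.mk I)]
    (P : Dual.D R) (hP : DRing.IsPseudoCoherent' R P) (a b : ℤ)
    (h : DRing.HasTorAmplitudeIn (R ⧸ I) a b ((DRing.LBaseChange (Ideal.Quotient.mk I)).obj P)) :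
    DRing.HasTorAmplitudeIn R a b P := by
  obtain ⟨E, b₀, hz, hE, ⟨e⟩⟩ := hP
  have hKF := Groth.Agent.H9Misc.DRingFibre.isKF hE hz
  obtain ⟨Q, hQ₁, hQ₂, ⟨eQ⟩⟩ := Groth.Agent.H9Misc.DRingFibre.amp_of_fibres hE hz a b fun m hm i hi => by
    have hIm : I ≤ m := hI.trans (sInf_le ⟨bot_le, hm⟩)
    let ψ : R ⧸ I →+* R ⧸ m := Ideal.Quotient.factor hIm
    obtain ⟨e'⟩ := Groth.Agent.H9Misc.DRingLBase.nonempty_lbase_iso (Ideal.Quotient.mk I) hKF
    have hKF' := Groth.Agent.KFlatLib.kFlat_extendScalars (Ideal.Quotient.mk I) hKF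
    have eP := e'.symm ≪≫ (DRing.LBaseChange (Ideal.Quotient.mk I)).mapIso e
    have hV := (Groth.Agent.H9Misc.DRingTor.iff_van hKF' eP).1 h
    haveI := Groth.Agent.H9Misc.DRingLBase.hasLBaseChange ψ
    have hamp := Groth.Agent.H9Misc.DRingLBase.hasTorAmplitudeIn_lbase ψ h
    refine (Groth.Agent.H9Misc.DRingFibre.exactAt_extC_comp (Ideal.Quotient.mk I) ψ (Ideal.Quotient.mk m)
      (RingHom.ext fun x => rfl) i).1 ?_
    exact Groth.Agent.H9Misc.DRingFibre.exactAt_of_lbase ψ hKF' eP i
      (Groth.Agent.H9Misc.DRingPerfect.isZero_of_amp hamp i hi)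
  exact ⟨Q, hQ₁, hQ₂, ⟨eQ ≪≫ e⟩⟩

end Groth.Agent.S15232
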