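import Groth.Statements.S15233


set_option autoImplicit false
universe u
open CategoryTheory CategoryTheory.Limits Opposite
open CohSite

namespace Groth.Agent.S15233

/-- Let C be a small category with a Grothendieck topology J, and let B be a class of objects forming a
prebasis: for every object V and every covering sieve S of V, the arrows of S whose domain lies in B
generate a covering sieve of V. If F is a presheaf of abelian groups on C such that F(U) = 0 for
every object U in B, then the sheafification of F is zero. -/
theorem result {C : Type u} [SmallCategory C] (J : GrothendieckTopology C)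
    (B : ObjectProperty C)
    (hB : ∀ (V : C) (S : Sieve V), S ∈ J V →
      Sieve.generate (fun (U : C) => {g : U ⟶ V | S.arrows g ∧ B U}) ∈ J V)
    (F : Cᵒᵖ ⥤ AddCommGrpCat.{u}) (hF : ∀ U : C, B U → IsZero (F.obj (op U))) :
    IsZero ((presheafToSheaf J AddCommGrpCat.{u}).obj F) := by
  refine (IsZero.iff_id_eq_zero _).2 (((sheafificationAdjunction J AddCommGrpCat.{u}).homEquiv _ _).injective ?_)
  ext ⟨V⟩ s
  let G := (presheafToSheaf J AddCommGrpCat.{u}).obj F
  refine Presheaf.IsSheaf.isSeparated G.property _ _ (hB V ⊤ (J.top_mem V)) _ _ fun W g hg => ?_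
  obtain ⟨U, a, b, ⟨-, hU⟩, rfl⟩ := hg
  have h0 : F.map b.op s = 0 := ConcreteCategory.congr_hom ((hF U hU).eq_of_tgt (𝟙 _) 0) _
  have key : ∀ φ : F ⟶ G.obj, G.obj.map (a ≫ b).op (φ.app (op V) s) = 0 := fun φ => by
    rw [← NatTrans.naturality_apply, op_comp, Functor.map_comp, ConcreteCategory.comp_apply, h0, map_zero, map_zero]
  exact (key _).trans (key _).symm

end Groth.Agent.S15233
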