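import Groth.Statements.S15235
import Mathlib
import Groth.Agent.H9Misc.MLSeq

set_option autoImplicit false
universe u
open CategoryTheory Opposite
open HomAlg3

namespace Groth.Agent.S15235

/-- Let (G_j) be an inverse system of abelian groups indexed by the natural numbers, with transition
maps G_{j+1} → G_j, and let j₀ be a natural number such that the transition map G_{j+1} → G_j is
surjective for every j ≥ j₀. Then: (a) the system satisfies the Mittag-Leffler condition; (b) the
evaluation map from the inverse limit (realised as the set of compatible families) to G_{j₀} is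
surjective; (c) if in addition the transition maps G_{j+1} → G_j are injective for every j ≥ j₀,
that evaluation map is bijective. (The published statement indexes the system by the negative
integers and assumes j₀ ≥ 1; this row indexes it by the natural numbers and allows j₀ = 0, which
changes nothing.) -/
theorem result (G : ℕᵒᵖ ⥤ AddCommGrpCat.{u})
    (j₀ : ℕ) (hs : ∀ j : ℕ, j₀ ≤ j → Function.Surjective (G.map (homOfLE (Nat.le_succ j)).op).hom) :
    (G ⋙ forget AddCommGrpCat.{u}).IsMittagLeffler ∧
      Function.Surjective (fun s : (G ⋙ forget AddCommGrpCat.{u}).sections => s.1 (op j₀)) ∧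
      ((∀ j : ℕ, j₀ ≤ j → Function.Injective (G.map (homOfLE (Nat.le_succ j)).op).hom) →
        Function.Bijective (fun s : (G ⋙ forget AddCommGrpCat.{u}).sections => s.1 (op j₀))) := by
  have hsur : ∀ (a b : ℕ) (h : a ≤ b), j₀ ≤ a → Function.Surjective (G.map (homOfLE h).op).hom := by
    intro a b h ha
    induction h with
    | refl => intro x; exact ⟨x, ConcreteCategory.congr_hom (G.map_id (op a)) x⟩
    | @step b h ih =>
      intro x
      obtain ⟨y, rfl⟩ := ih x
      obtain ⟨z, rfl⟩ := hs b (ha.trans h) y
      refine ⟨z, ?_⟩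
      exact (ConcreteCategory.congr_hom (G.map_comp (homOfLE (Nat.le_succ b)).op (homOfLE h).op) z)
  have hML : (G ⋙ forget AddCommGrpCat.{u}).IsMittagLeffler := by
    rintro ⟨n⟩
    refine ⟨op (max n j₀), (homOfLE (le_max_left n j₀)).op, ?_⟩
    rintro ⟨l⟩ g
    rintro _ ⟨y, rfl⟩
    obtain ⟨z, hz⟩ := hsur _ (max (max n j₀) l) (le_max_left _ _) (le_max_right n j₀) y
    refine ⟨(G.map (homOfLE (le_max_right (max n j₀) l)).op).hom z, ?_⟩
    rw [← hz]
    refine (ConcreteCategory.congr_hom (G.map_comp _ g) z).symm.trans ?_
    rw [Subsingleton.elim ((homOfLE (le_max_right (max n j₀) l)).op ≫ g)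
      ((homOfLE (le_max_left (max n j₀) l)).op ≫ (homOfLE (le_max_left n j₀)).op)]
    exact ConcreteCategory.congr_hom (G.map_comp _ _) z
  refine ⟨hML, fun x => ?_, fun hi => ?_⟩
  · obtain ⟨w, hw⟩ := Groth.Agent.H9Misc.MLSeq.exists_lim_through G hML j₀ x
      (fun l h => hsur j₀ l h le_rfl x)
    exact ⟨⟨fun i => Limits.limit.π G i w,
      fun {i j} f => ConcreteCategory.congr_hom (Limits.limit.w G f) w⟩, hw⟩
  · have hinj : ∀ (a b : ℕ) (h : a ≤ b), j₀ ≤ a → Function.Injective (G.map (homOfLE h).op).hom := by
      intro a b h ha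
      induction h with
      | refl => intro x y e; simpa using e
      | @step b h ih =>
        intro x y e
        refine hi b (ha.trans h) (ih ?_)
        have := G.map_comp (homOfLE (Nat.le_succ b)).op (homOfLE h).op
        exact (ConcreteCategory.congr_hom this x).symm.trans
          (e.trans (ConcreteCategory.congr_hom this y))
    refine ⟨(G ⋙ forget AddCommGrpCat.{u}).eval_section_injective_of_eventually_injective
      (fun i f => ?_) (op j₀) (𝟙 _), fun x => ?_⟩
    · exact hinj j₀ i.unop (leOfHom f.unop) le_rfl
    · obtain ⟨w, hw⟩ := Groth.Agent.H9Misc.MLSeq.exists_lim_through G hML j₀ x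
        (fun l h => hsur j₀ l h le_rfl x)
      exact ⟨⟨fun i => Limits.limit.π G i w,
        fun {i j} f => ConcreteCategory.congr_hom (Limits.limit.w G f) w⟩, hw⟩

end Groth.Agent.S15235
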