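import Groth.Statements.S15237
import Groth.Agent.Lib.UncountableAvoid

set_option autoImplicit false
open CategoryTheory AlgebraicGeometry
universe u
open Variety

namespace Groth.Agent.S15237

/-- Let k be an uncountable field and X an irreducible k-scheme of finite type. Then the closed points
of X are not covered by countably many closed subsets of X different from X: for every sequence Z₀,
Z₁, … of closed subsets of X with Zₙ ≠ X for all n there is a closed point of X lying in no Zₙ. (The
published statement is for an irreducible quasi-projective variety and says that the variety is not
a countable union of closed subsets different from it, a variety being read through its closed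
points; with the generic point of the scheme that assertion would be immediate, so this row asks for
a closed point, and it assumes only finite type over k.) -/
theorem result (k : Type u) [Field k] [Uncountable k]
    (X : Scheme.{u}) (sX : X ⟶ Spec (CommRingCat.of k)) [IrreducibleSpace X]
    [LocallyOfFiniteType sX] [QuasiCompact sX]
    (Z : ℕ → TopologicalSpace.Closeds X) (hZ : ∀ n, (Z n : Set X) ≠ Set.univ) :
    ∃ x : X, IsClosed ({x} : Set X) ∧ ∀ n, x ∉ Z n := by
  obtain ⟨x, -, hx, hx'⟩ := Groth.Agent.UncountableAvoid.exists_closedPoint_avoid_open k X sX Z hZ
    Set.univ isOpen_univ ⟨Classical.arbitrary X, trivial⟩
  exact ⟨x, hx, hx'⟩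

end Groth.Agent.S15237
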