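import Groth.Statements.S15240
import Groth.Agent.AGFLib.BorelFixed
-- import your own Groth.Agent.* helpers here

set_option autoImplicit false
set_option backward.isDefEq.respectTransparency false
set_option backward.isDefEq.respectTransparency.types false
universe u
open CategoryTheory CategoryTheory.Limits MonoidalCategory CartesianMonoidalCategory MonObj GrpObj AlgebraicGeometry
open AGF

namespace Groth.Agent.S15240

/-- Let k be an algebraically closed field, B a connected solvable affine algebraic group over k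
(affine, smooth, connected, solvable k-group scheme) acting on a complete k-scheme X (separated, of
finite type and proper over k) with finitely many orbits (finitely many subsets of X arise as images
of orbit maps of k-points), and Y a separated k-scheme of finite type on which B acts trivially.
Then every closed irreducible subset Z of X ×_k Y which is stable under the translations by all
k-points of B (acting on the first factor) is of the form V × W: there are a B-stable closed
irreducible subset V of X and a closed irreducible subset W of Y with Z equal to the set of points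
whose two projections lie in V and in W. -/
theorem result (k : Type u) [Field k] [IsAlgClosed k]
    (B X Y : Over (Spec (CommRingCat.of k))) [GrpObj B] [IsAffine B.left] [Smooth B.hom] [ConnectedSpace ↥B.left]
    (hsolv : Red.IsSolvableGrp B)
    [IsProper X.hom]
    [IsSeparated Y.hom] [LocallyOfFiniteType Y.hom] [QuasiCompact Y.hom]
    (a : AlgGrp.Action B X)
    (hfin : Set.Finite {S : Set ↥X.left | ∃ x : 𝟙_ (Over (Spec (CommRingCat.of k))) ⟶ X, S = Set.range ⇑(a.orbitMap x).left.base})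
    (Z : Set ↥(X ⊗ Y).left) (hZc : IsClosed Z) (hZi : IsIrreducible Z)
    (hZs : ∀ b : 𝟙_ (Over (Spec (CommRingCat.of k))) ⟶ B,
      ⇑(CartesianMonoidalCategory.lift (CartesianMonoidalCategory.toUnit (X ⊗ Y) ≫ b) (𝟙 (X ⊗ Y)) ≫
          (α_ B X Y).inv ≫ (a.act ▷ Y)).left.base '' Z ⊆ Z) :
    ∃ (V : Set ↥X.left) (W : Set ↥Y.left), IsClosed V ∧ IsIrreducible V ∧ IsClosed W ∧ IsIrreducible W ∧
      (∀ b : 𝟙_ (Over (Spec (CommRingCat.of k))) ⟶ B,
        ⇑(CartesianMonoidalCategory.lift (CartesianMonoidalCategory.toUnit X ≫ b) (𝟙 X) ≫ a.act).left.base '' V ⊆ V) ∧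
      Z = ⇑(CartesianMonoidalCategory.fst X Y).left.base ⁻¹' V ∩ ⇑(CartesianMonoidalCategory.snd X Y).left.base ⁻¹' W := by
  classical
  haveI : JacobsonSpace X.left := LocallyOfFiniteType.jacobsonSpace X.hom
  haveI : JacobsonSpace Y.left := LocallyOfFiniteType.jacobsonSpace Y.hom
  haveI : LocallyOfFiniteType (X ⊗ Y).hom :=
    inferInstanceAs (LocallyOfFiniteType (Limits.pullback.fst X.hom Y.hom ≫ X.hom))
  haveI : IsSeparated (X ⊗ Y).hom := inferInstanceAs (IsSeparated (Limits.pullback.fst X.hom Y.hom ≫ X.hom))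
  haveI : JacobsonSpace (X ⊗ Y).left := LocallyOfFiniteType.jacobsonSpace (X ⊗ Y).hom
  haveI : IrreducibleSpace B.left := Groth.Agent.S0348.result k B
  open Groth.Agent.AGFLib.Gen Groth.Agent.AGFLib.BorelFixed in
  have main : ∀ (Z : Set ↥(X ⊗ Y).left), IsClosed Z → IsIrreducible Z →
      (∀ (b : 𝟙_ _ ⟶ B) (x : 𝟙_ _ ⟶ X) (y : 𝟙_ _ ⟶ Y), cp (lift x y) ∈ Z → cp (lift (lift b x ≫ a.act) y) ∈ Z) →
      ∃ (x : 𝟙_ _ ⟶ X), Z = (fst X Y).left ⁻¹' closure (Set.range (a.orbitMap x).left) ∩
        (snd X Y).left ⁻¹' ((lift (toUnit Y ≫ x) (𝟙 Y)).left ⁻¹' Z) := by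
    intro Z hZc hZi hZs
    let S := {S : Set ↥X.left | ∃ x : 𝟙_ _ ⟶ X, S = Set.range ⇑(a.orbitMap x).left.base}
    haveI : Finite S := hfin.to_subtype
    choose xs hxs using fun s : S => s.2
    let P : S → Set ↥(X ⊗ Y).left := fun s => (fst X Y).left ⁻¹' closure (Set.range (a.orbitMap (xs s)).left) ∩
        (snd X Y).left ⁻¹' ((lift (toUnit Y ≫ xs s) (𝟙 Y)).left ⁻¹' Z)
    have hPc : ∀ s, IsClosed (P s) := fun s => (isClosed_closure.preimage (fst X Y).left.continuous).inter
      ((hZc.preimage (lift (toUnit Y ≫ xs s) (𝟙 Y)).left.continuous).preimage (snd X Y).left.continuous)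
    have hslice : ∀ (z : 𝟙_ _ ⟶ X) (y : 𝟙_ _ ⟶ Y),
        cp y ∈ (lift (toUnit Y ≫ z) (𝟙 Y)).left ⁻¹' Z ↔ cp (lift z y) ∈ Z := fun z y => by
      rw [Set.mem_preimage, ← cp_comp, comp_lift, Category.comp_id, ← Category.assoc,
        toUnit_unique (y ≫ toUnit Y) (𝟙 _), Category.id_comp]
    have hsub : ∀ s, P s ⊆ Z := fun s => by
      have hc : P s ∩ closedPoints _ ⊆ Z := by
        rintro _ ⟨⟨hw1, hw2⟩, hw⟩
        obtain ⟨t, rfl⟩ := exists_cp hw
        rw [Set.mem_preimage, ← cp_comp] at hw1 hw2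
        have h1 : cp (lift (xs s) (t ≫ snd X Y)) ∈ Z := (hslice _ _).mp hw2
        let sl : X ⟶ X ⊗ Y := lift (𝟙 X) (toUnit X ≫ t ≫ snd X Y)
        have h2 : closure (Set.range (a.orbitMap (xs s)).left) ⊆ sl.left ⁻¹' Z := by
          refine closure_minimal ?_ (hZc.preimage sl.left.continuous)
          rintro _ ⟨b, rfl⟩
          refine (eq_univ_of_forall_cp ((hZc.preimage sl.left.continuous).preimage (a.orbitMap (xs s)).left.continuous)
            fun g => ?_).ge (Set.mem_univ b)
          show cp ((g ≫ a.orbitMap (xs s)) ≫ sl) ∈ Z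
          rw [pt_orbitMap, comp_lift, Category.comp_id, ← Category.assoc,
            toUnit_unique ((lift g (xs s) ≫ a.act) ≫ toUnit X) (𝟙 _), Category.id_comp]
          exact hZs g _ _ h1
        have h3 := h2 hw1
        rw [Set.mem_preimage, ← cp_comp, comp_lift, Category.comp_id, ← Category.assoc (t ≫ fst X Y),
          toUnit_unique ((t ≫ fst X Y) ≫ toUnit X) (𝟙 _), Category.id_comp, ← comp_lift, lift_fst_snd,
          Category.comp_id] at h3
        exact h3
      rw [← JacobsonSpace.closure_inter_closedPoints (hPc s)]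
      exact closure_minimal hc hZc
    have hcov : Z ⊆ ⋃ s, P s := by
      rw [← JacobsonSpace.closure_inter_closedPoints hZc]
      refine closure_minimal ?_ (isClosed_iUnion_of_finite hPc)
      rintro _ ⟨hwZ, hw⟩
      obtain ⟨t, rfl⟩ := exists_cp hw
      let s : S := ⟨Set.range (a.orbitMap (t ≫ fst X Y)).left, t ≫ fst X Y, rfl⟩
      obtain ⟨g, hg⟩ : ∃ g : 𝟙_ _ ⟶ B, lift g (t ≫ fst X Y) ≫ a.act = xs s := by
        have : cp (xs s) ∈ Set.range (a.orbitMap (t ≫ fst X Y)).left := by
          refine (hxs s).ge ⟨cp (1 : 𝟙_ _ ⟶ B), ?_⟩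
          show cp ((1 : 𝟙_ _ ⟶ B) ≫ a.orbitMap (xs s)) = cp (xs s)
          rw [pt_orbitMap, Groth.Agent.GrpSchLib.act_one]
        obtain ⟨g, hg⟩ := exists_of_mem_range (a.orbitMap (t ≫ fst X Y)) (xs s) this
        exact ⟨g, by rw [← pt_orbitMap]; exact hg⟩
      refine Set.mem_iUnion.mpr ⟨s, ?_, ?_⟩
      · refine subset_closure ((hxs s).le ⟨cp (1 : 𝟙_ _ ⟶ B), ?_⟩)
        show cp ((1 : 𝟙_ _ ⟶ B) ≫ a.orbitMap (t ≫ fst X Y)) = cp (t ≫ fst X Y)
        rw [pt_orbitMap, Groth.Agent.GrpSchLib.act_one]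
      · rw [Set.mem_preimage, ← cp_comp, hslice, ← hg]
        refine hZs g _ _ ?_
        rwa [← comp_lift, lift_fst_snd, Category.comp_id]
    obtain ⟨_, hmem, hle⟩ := isIrreducible_iff_sUnion_isClosed.mp hZi (Set.finite_range P).toFinset
      (fun z hz => by
        obtain ⟨s, rfl⟩ := (Set.Finite.mem_toFinset _).mp hz
        exact hPc s)
      (by rw [Set.Finite.coe_toFinset, Set.sUnion_range]; exact hcov)
    obtain ⟨s, rfl⟩ := (Set.Finite.mem_toFinset _).mp hmem
    exact ⟨xs s, subset_antisymm hle (hsub s)⟩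
  open Groth.Agent.AGFLib.Gen Groth.Agent.AGFLib.BorelFixed in
  obtain ⟨x, hx⟩ := main Z hZc hZi (fun b x y h => by
    refine hZs b ⟨cp (lift x y), h, ?_⟩
    rw [← cp_comp]
    congr 1
    have e : lift x y ≫ lift (toUnit (X ⊗ Y) ≫ b) (𝟙 (X ⊗ Y)) = lift b (lift x y) := by
      rw [comp_lift, Category.comp_id, ← Category.assoc, toUnit_unique (lift x y ≫ toUnit (X ⊗ Y)) (𝟙 _),
        Category.id_comp]
    have e2 : lift b (lift x y) ≫ (α_ B X Y).inv = lift (lift b x) y := by
      apply CartesianMonoidalCategory.hom_ext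
      · apply CartesianMonoidalCategory.hom_ext <;> simp
      · simp
    rw [reassoc_of% e, reassoc_of% e2, lift_whiskerRight])
  let W : Set ↥Y.left := (lift (toUnit Y ≫ x) (𝟙 Y)).left ⁻¹' Z
  have hWc : IsClosed W := hZc.preimage (lift (toUnit Y ≫ x) (𝟙 Y)).left.continuous
  have hWZ : W = closure ((snd X Y).left '' Z) := by
    refine subset_antisymm ?_ (closure_minimal ?_ hWc)
    · intro w hw
      refine subset_closure ⟨(lift (toUnit Y ≫ x) (𝟙 Y)).left w, hw, ?_⟩
      rw [← Scheme.Hom.comp_apply, ← Over.comp_left, lift_snd]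
      rfl
    · rintro _ ⟨z, hz, rfl⟩
      exact (hx.le hz).2
  have hVi : IsIrreducible (closure (Set.range (a.orbitMap x).left)) := by
    rw [← Set.image_univ]
    exact ((IrreducibleSpace.isIrreducible_univ _).image _ (a.orbitMap x).left.continuous.continuousOn).closure
  refine ⟨closure (Set.range (a.orbitMap x).left), W, isClosed_closure, hVi, hWc, ?_, fun b => ?_, hx⟩
  · rw [hWZ]
    exact (hZi.image _ (snd X Y).left.continuous.continuousOn).closure
  · have h2 : lift (toUnit B ≫ b) (𝟙 B) ≫ μ[B] = (toUnit B ≫ b) * 𝟙 B := (Hom.mul_def _ _).symm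
    refine (image_closure_subset_closure_image (lift (toUnit X ≫ b) (𝟙 X) ≫ a.act).left.continuous).trans
      (closure_mono ?_)
    rintro _ ⟨_, ⟨z, rfl⟩, rfl⟩
    refine ⟨((toUnit B ≫ b) * 𝟙 B).left z, ?_⟩
    have e : ((toUnit B ≫ b) * 𝟙 B) ≫ a.orbitMap x = a.orbitMap x ≫ lift (toUnit X ≫ b) (𝟙 X) ≫ a.act := by
      simp only [AlgGrp.Action.orbitMap, ← Category.assoc, comp_lift, Category.comp_id, comp_toUnit]
      rw [Groth.Agent.GrpSchLib.act_mul]
    exact congrArg (fun f : B ⟶ X => f.left z) e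

end Groth.Agent.S15240
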