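import Groth.Statements.S15245
import Groth.Agent.RootData.Inversions

set_option autoImplicit false
universe u
open CategoryTheory AlgebraicGeometry
open RedSub

namespace Groth.Agent.S15245

open Groth.Agent.RootData

/-- Let Φ be a finite reduced root system (a reduced root pairing over ℤ on a finite index set) with a
base b, w an element of its Weyl group, given as the product of the reflections along a word l and
acting on the roots, and γ a positive root. Writing ℓ(u) for the number of positive roots a with
u(a) negative, one has ℓ(w) < ℓ(σ_γ w) if and only if w⁻¹(γ) is positive. (Here the length is taken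
as the number of inverted positive roots.) -/
theorem result {idx M N : Type}
    [AddCommGroup M] [AddCommGroup N] [Finite idx]
    (P : RootPairing idx ℤ M N) [P.IsReduced] (b : P.Base) (l : List idx) (c : idx)
    (hc : c ∈ RedSub.posRoots P b) :
    Set.ncard {a : idx | a ∈ RedSub.posRoots P b ∧ RedSub.wordPerm P l a ∈ RedSub.negRoots P b} <
        Set.ncard {a : idx | a ∈ RedSub.posRoots P b ∧
          (P.reflectionPerm c * RedSub.wordPerm P l) a ∈ RedSub.negRoots P b} ↔
      (RedSub.wordPerm P l)⁻¹ c ∈ RedSub.posRoots P b := by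
  classical
  have := Fintype.ofFinite idx
  have h := Simple.of_base b
  set g := word P l
  have hg : g ∈ P.weylGroup := word_mem_weylGroup l
  have hw : ∀ a, RedSub.wordPerm P l a = g • a := fun a => (word_smul l a).symm
  have hnegR : ∀ a, a ∈ RedSub.negRoots P b ↔ a ∉ RootD.posOf P (b.support : Set idx) := fun a => by
    rw [← h.neg_mem_posOf_iff]
    show -P.root a ∈ RootD.natSpan P (b.support : Set idx) ↔ P.root _ ∈ RootD.natSpan P (b.support : Set idx)
    rw [root_neg]
  have e1 : {a : idx | a ∈ RedSub.posRoots P b ∧ RedSub.wordPerm P l a ∈ RedSub.negRoots P b} =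
      inv' P (b.support : Set idx) g := by
    ext a
    show (_ ∧ _) ↔ (_ ∧ _)
    rw [hnegR, hw]; rfl
  have e2 : {a : idx | a ∈ RedSub.posRoots P b ∧
      (P.reflectionPerm c * RedSub.wordPerm P l) a ∈ RedSub.negRoots P b} =
      inv' P (b.support : Set idx) (RootPairing.Equiv.reflection P c * g) := by
    ext a
    show (_ ∧ _) ↔ (_ ∧ _)
    rw [hnegR, Equiv.Perm.mul_apply, hw, mul_smul, refl_smul_idx]; rfl
  have e3 : (RedSub.wordPerm P l)⁻¹ c = g⁻¹ • c := by
    rw [eq_inv_smul_iff, ← hw]
    exact (RedSub.wordPerm P l).apply_symm_apply c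
  rw [e1, e2, e3]
  refine ⟨fun hlt => ?_, fun hpos => h.ncard_inv_lt hg hc hpos⟩
  by_contra hn
  have hn' : g⁻¹ • c ∉ RootD.posOf P (b.support : Set idx) := hn
  have := h.ncard_inv_lt (mul_mem (P.reflection_mem_weylGroup c) hg) hc (c := c) (by
    rw [mul_inv_rev, mul_smul, inv_eq_of_mul_eq_one_left (refl_mul_self c), refl_smul_idx, smul_neg_idx]
    exact h.neg_mem_posOf_iff.mpr hn')
  rw [← mul_assoc, refl_mul_self, one_mul] at this
  omega

end Groth.Agent.S15245
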