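import Groth.Statements.S15247
import Groth.Agent.VarDim.Proj
import Groth.Agent.ComodLib.GradedAug

set_option autoImplicit false
set_option backward.isDefEq.respectTransparency false
set_option backward.isDefEq.respectTransparency.types false
set_option linter.style.haveILetI false
set_option linter.unusedSectionVars false
set_option maxHeartbeats 400000
open Fano

namespace Groth.Agent.S15247


theorem le_choose (m : ℕ) : ∀ j, 1 ≤ j → j ≤ m → m + 1 ≤ (m + 1).choose j := by
  induction m with
  | zero => intro j h1 h2; omega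
  | succ m ih =>
    intro j h1 h2
    obtain ⟨i, rfl⟩ : ∃ i, j = i + 1 := ⟨j - 1, by omega⟩
    rcases (Nat.lt_or_eq_of_le (Nat.le_of_succ_le_succ h2)) with h | h
    · have := ih (i + 1) (by omega) (by omega)
      rw [Nat.choose_succ_succ']
      have : 0 < (m + 1).choose i := Nat.choose_pos (by omega)
      omega
    · subst h
      rw [Nat.choose_symm_of_eq_add (show i + 1 + 1 = (i + 1) + 1 from rfl), Nat.choose_one_right]

open MvPolynomial Groth.Agent.VarDim Groth.Agent.VarDim.ProjN in
theorem finrank_add_le (k : Type)  [Field k] (n j c : ℕ) (I : Ideal (MvPolynomial (Fin (n + 1)) k))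
    (hirr : I.radical.IsPrime)
    (hdim : ringKrullDim (MvPolynomial (Fin (n + 1)) k ⧸ I) = (c : WithBot ℕ∞)) :
    (c + j - 1).choose j + Module.finrank k ↥(homogeneousSubmodule (Fin (n + 1)) k j ⊓ Submodule.restrictScalars k I)
      ≤ Module.finrank k ↥(homogeneousSubmodule (Fin (n + 1)) k j) := by
  classical
  let P := I.radical
  haveI : P.IsPrime := hirr
  have hdimP : ringKrullDim (MvPolynomial (Fin (n + 1)) k ⧸ P) = (c : WithBot ℕ∞) := by
    rw [← hdim, ringKrullDim_quotient, ringKrullDim_quotient, PrimeSpectrum.zeroLocus_radical]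
  obtain ⟨c', hc', htr⟩ := exists_dim_eq_trdeg k (MvPolynomial (Fin (n + 1)) k ⧸ P)
  have hcc : c' = c := by
    rw [hdimP] at hc'
    exact_mod_cast hc'.symm
  subst hcc
  let x : Fin (n + 1) → MvPolynomial (Fin (n + 1)) k ⧸ P := fun i => Ideal.Quotient.mkₐ k P (X i)
  have hgen : Algebra.adjoin k (Set.range x) = ⊤ := by
    rw [show Set.range x = Ideal.Quotient.mkₐ k P '' Set.range X from Set.range_comp _ _,
      ← AlgHom.map_adjoin, adjoin_range_X, Algebra.map_top]
    exact (AlgHom.range_eq_top _).2 (Ideal.Quotient.mkₐ_surjective k P)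
  haveI : Algebra.IsAlgebraic ↥(Algebra.adjoin k (Set.range x)) (MvPolynomial (Fin (n + 1)) k ⧸ P) :=
    ⟨fun a => isAlgebraic_algebraMap (⟨a, hgen ▸ Algebra.mem_top⟩ : ↥(Algebra.adjoin k (Set.range x)))⟩
  obtain ⟨t, hts, ht⟩ := exists_isTranscendenceBasis_subset (R := k) (Set.range x)
  have hcard : Cardinal.mk t = c' := ht.cardinalMk_eq_trdeg.trans htr
  obtain ⟨e⟩ : Nonempty (Fin c' ≃ t) := by
    rw [← Cardinal.lift_mk_eq']
    simp [hcard]
  choose idx hidx using fun i : Fin c' => hts (e i).2
  let ψ : MvPolynomial (Fin c') k →ₐ[k] MvPolynomial (Fin (n + 1)) k := rename idx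
  have hinj : ∀ p, ψ p ∈ P → p = 0 := fun p hp => by
    have h := (ht.1.comp e e.injective)
    refine h.eq_zero_of_aeval_eq_zero p ?_
    show MvPolynomial.aeval (fun i => ((e i : t) : MvPolynomial (Fin (n + 1)) k ⧸ P)) p = 0
    rw [show (fun i => ((e i : t) : MvPolynomial (Fin (n + 1)) k ⧸ P)) = fun i => x (idx i) from funext fun i => (hidx i).symm]
    rw [show MvPolynomial.aeval (fun i => x (idx i)) p = Ideal.Quotient.mkₐ k P (ψ p) from by
      rw [← AlgHom.comp_apply]
      congr 1
      ext i
      simp [ψ, x]]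
    exact Ideal.Quotient.eq_zero_iff_mem.2 hp
  haveI := (ComodLib.GradedAug.finrank_homogeneous (k := k) c' j).1
  haveI := (ComodLib.GradedAug.finrank_homogeneous (k := k) (n + 1) j).1
  let W := homogeneousSubmodule (Fin (n + 1)) k j ⊓ Submodule.restrictScalars k I
  let V := (homogeneousSubmodule (Fin c') k j).map ψ.toLinearMap
  have hψi : Function.Injective ψ := fun a b h => sub_eq_zero.1 (hinj _ (by rw [map_sub, h, sub_self]; exact P.zero_mem))
  have hV : V ≤ homogeneousSubmodule (Fin (n + 1)) k j := by
    rintro _ ⟨p, hp, rfl⟩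
    exact IsHomogeneous.rename_isHomogeneous hp
  have hdis : V ⊓ W = ⊥ := by
    rw [eq_bot_iff]
    rintro _ ⟨⟨p, hp, rfl⟩, -, hI⟩
    have : p = 0 := hinj p (Ideal.le_radical hI)
    simp [this]
  haveI : FiniteDimensional k V := Submodule.finiteDimensional_of_le hV
  haveI : FiniteDimensional k W := Submodule.finiteDimensional_of_le inf_le_left
  have h1 := Submodule.finrank_sup_add_finrank_inf_eq V W
  rw [hdis, finrank_bot, add_zero] at h1
  have h2 : Module.finrank k V = (c' + j - 1).choose j := by
    rw [← (ComodLib.GradedAug.finrank_homogeneous (k := k) c' j).2]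
    exact (Submodule.equivMapOfInjective ψ.toLinearMap hψi _).symm.finrank_eq
  rw [← h2, ← h1]
  exact Submodule.finrank_mono (sup_le hV inf_le_left)

/-- Over ℂ, let Y be an irreducible closed subscheme of projective m-space of dimension m − d, where 1 ≤
d and d + 1 ≤ m. Then the hypersurfaces of degree d + 1 containing Y form a linear family of
codimension at least m + 1 (that is, greater than m) in the projective space of all hypersurfaces of
degree d + 1. Here Y is given by a homogeneous ideal I of ℂ[x_0, …, x_m] whose radical is prime and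
with dim ℂ[x_0, …, x_m]/I = m + 1 − d, a hypersurface contains Y when its form lies in I, and the
conclusion reads: the forms of degree d + 1 in I span a subspace of codimension at least m + 1 in
the space of all forms of degree d + 1. -/
theorem result (m d : ℕ) (hd : 1 ≤ d) (hdm : d + 1 ≤ m)
    (I : Ideal (MvPolynomial (Fin (m + 1)) ℂ))
    (hI : I.IsHomogeneous (CohB1.polyGrading m ℂ))
    (hirr : I.radical.IsPrime)
    (hdim : ringKrullDim (MvPolynomial (Fin (m + 1)) ℂ ⧸ I) = ((m + 1 - d : ℕ) : WithBot ℕ∞)) :
    m + 1 + Module.finrank ℂ ↥(CohB1.polyGrading m ℂ (d + 1) ⊓ Submodule.restrictScalars ℂ I)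
      ≤ Module.finrank ℂ (LefPen.Form m ℂ (d + 1)) := by
  have h := finrank_add_le ℂ m (d + 1) (m + 1 - d) I hirr hdim
  rw [show m + 1 - d + (d + 1) - 1 = m + 1 by omega] at h
  have h2 := le_choose m (d + 1) (by omega) (by omega)
  exact le_trans (Nat.add_le_add_right h2 _) h

end Groth.Agent.S15247
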