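import Groth.Agent.ConeLines.Transfer
import Groth.Agent.PlaneParam.Generic
import Groth.Statements.S15249
-- import your own Groth.Agent.* helpers here

set_option autoImplicit false
open Fano

namespace Groth.Agent.S15249

open MvPolynomial in
theorem result_aux (n d : ℕ) (hdn : d + 3 ≤ n) :
    LefPen.IsGeneric ℂ {Φ : LefPen.Form n ℂ d |
      ∀ v : Fin (n + 1) → ℂ, v ≠ 0 → MvPolynomial.eval v Φ.1 = 0 →
        LefPen.CodimGE ℂ {w : Fin (n + 1) → ℂ | ∀ s t : ℂ, MvPolynomial.eval (s • v + t • w) Φ.1 = 0} d} := by
  classical
  choose P hP0 hP using fun i₀ => ConeLines.exists_poly_hasSub (k := ℂ) hdn i₀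
  refine PlaneParam.isGeneric_of_poly ℂ (P := ∏ i₀, P i₀) (Finset.prod_ne_zero_iff.2 fun i _ => hP0 i) fun G hG w hw hG0 => ?_
  rw [map_prod, Finset.prod_ne_zero_iff] at hG
  obtain ⟨i₀, hi₀⟩ : ∃ i, w i ≠ 0 := Function.ne_iff.1 hw
  set c := w i₀ with hc
  let v : Fin n → ℂ := fun a => w (i₀.succAbove a) / c
  have hw' : w = c • ConeLines.pt i₀ v := by
    funext j
    induction j using Fin.succAboveCases i₀ with
    | x => simp [ConeLines.pt, hc]
    | p a => simp [ConeLines.pt, v, mul_div_cancel₀ _ hi₀]
  have h0 : eval (ConeLines.pt i₀ v) G.1 = 0 := by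
    rw [hw', ConeLines.eval_smul' G.2, mul_eq_zero] at hG0
    exact hG0.resolve_left (pow_ne_zero _ hi₀)
  have h := ConeLines.codimGE_of_hasSub i₀ v G.2 (hP i₀ G.1 G.2 (hG i₀ (Finset.mem_univ i₀)) v h0)
  refine h.trans (Ideal.height_mono fun f hf u hu => hf u ?_)
  intro s t
  have := hu (s / c) t
  rwa [hw', smul_smul, div_mul_cancel₀ _ hi₀] at this

/-- Over ℂ, let 1 ≤ d ≤ n − 3. For a general hypersurface X of degree d in projective n-space and every
point p of X, the lines contained in X and passing through p form a family of dimension at most n −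
d − 1. Here X is given by a form Φ of degree d in n + 1 variables; general means on a set of forms
containing the non-vanishing locus of a nonzero polynomial function; a point of X is a nonzero zero
v of Φ; and the family of lines through [v] on X is measured by the cone C_v of all w in ℂ^(n+1)
such that Φ vanishes identically on the span of v and w, whose codimension in ℂ^(n+1) is asked to be
at least d (C_v is the inverse image in ℂ^(n+1) of the affine cone over that family of lines, a
subset of the projective space of lines through [v], so this says the family has dimension at most n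
− d − 1). (The published statement concludes that, for general X, the projection onto X of the
scheme of pointed lines on X is flat with fibres of dimension n − d − 1; this row states only the
upper bound n − d − 1 on the dimension of the family of lines through each point of X.) -/
theorem result (n d : ℕ) (hd : 1 ≤ d) (hdn : d + 3 ≤ n) :
    LefPen.IsGeneric ℂ {Φ : LefPen.Form n ℂ d |
      ∀ v : Fin (n + 1) → ℂ, v ≠ 0 → MvPolynomial.eval v Φ.1 = 0 →
        LefPen.CodimGE ℂ {w : Fin (n + 1) → ℂ | ∀ s t : ℂ, MvPolynomial.eval (s • v + t • w) Φ.1 = 0} d} := by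
  exact result_aux n d hdn

end Groth.Agent.S15249
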