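import Groth.Statements.S15250
import Groth.Agent.AlgStLib.SmoothBootstrap

set_option backward.isDefEq.respectTransparency false
set_option backward.isDefEq.respectTransparency.types false
-- import your own Groth.Agent.* helpers here

set_option autoImplicit false
open CategoryTheory AlgebraicGeometry
universe u
open AlgSt

namespace Groth.Agent.S15250

/-- For algebraic stacks: let S be a scheme and f : 𝒳 → 𝒴 a 1-morphism of stacks in groupoids over the
category of schemes over S. If 𝒴 is an algebraic stack and for every scheme U over S and every
1-morphism g : U → 𝒴 the 2-fibre product U ×_𝒴 𝒳 is an algebraic stack, then 𝒳 is an algebraic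
stack. All stacks here are for the étale topology on schemes over S; an algebraic stack is a stack
in groupoids whose diagonal is representable by algebraic spaces and which has a smooth surjective
atlas from a scheme. (The published statement asks the fibre-product condition only for affine
schemes U and uses algebraic stacks whose diagonal is moreover separated and quasi-compact; this row
asks the condition for every scheme U over S and uses algebraic stacks with no condition on the
diagonal beyond representability by algebraic spaces.) -/
theorem result {S : Scheme.{u}} {𝒳 𝒴 : AlgSt.Cat S}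
    (h𝒳 : Stk.IsStack (QuotSh.J Scheme.etalePrecoverage S) 𝒳)
    (h𝒴 : AlgSt.IsAlgStack Scheme.etalePrecoverage 𝒴) (f : 𝒳 ⥤ᵇ 𝒴)
    (hf : ∀ (U : Over S) (g : FibCat.overCat U ⥤ᵇ 𝒴),
      AlgSt.IsAlgStack Scheme.etalePrecoverage (FibCat.fp g f)) :
    AlgSt.IsAlgStack Scheme.etalePrecoverage 𝒳 :=  by
  obtain ⟨W, w, hw, hw'⟩ := h𝒴.atlas
  have h := hf W w
  exact ⟨h𝒳, Groth.Agent.AlgStLib.repByAlgSp1_diag_of_smooth_cover h𝒳 h.isStack.1 h.diag
      (Groth.Agent.AlgStLib.repByAlgSpWith_fpSnd f hw) (Groth.Agent.AlgStLib.repByAlgSpWith_fpSnd f hw'),
    Groth.Agent.AlgStLib.hasAtlas_of_smooth_cover h.isStack.1 h.atlas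
      (Groth.Agent.AlgStLib.repByAlgSpWith_fpSnd f hw) (Groth.Agent.AlgStLib.repByAlgSpWith_fpSnd f hw')⟩
end Groth.Agent.S15250
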