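import Groth.Statements.S15251
import Groth.Agent.AlgStLib.SmoothBootstrap

set_option backward.isDefEq.respectTransparency false
set_option backward.isDefEq.respectTransparency.types false
-- import your own Groth.Agent.* helpers here

set_option autoImplicit false
open CategoryTheory AlgebraicGeometry
universe u
open AlgSt

namespace Groth.Agent.S15251

/-- Let S be a scheme and f : 𝒳 → 𝒴 a 1-morphism of stacks in groupoids over the category of schemes
over S. If 𝒴 is a Deligne–Mumford stack and for every scheme U over S and every 1-morphism g : U → 𝒴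
the 2-fibre product U ×_𝒴 𝒳 is a Deligne–Mumford stack, then 𝒳 is a Deligne–Mumford stack. All
stacks here are for the étale topology on schemes over S; an algebraic stack is a stack in groupoids
whose diagonal is representable by algebraic spaces and which has a smooth surjective atlas from a
scheme, and a Deligne–Mumford stack is an algebraic stack with an étale surjective atlas from a
scheme. (The published statement asks the fibre-product condition only for affine schemes U and uses
Deligne–Mumford stacks whose diagonal is moreover separated and quasi-compact; this row asks the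
condition for every scheme U over S and uses Deligne–Mumford stacks with no condition on the
diagonal beyond representability by algebraic spaces.) -/
theorem result {S : Scheme.{u}} {𝒳 𝒴 : AlgSt.Cat S}
    (h𝒳 : Stk.IsStack (QuotSh.J Scheme.etalePrecoverage S) 𝒳)
    (h𝒴 : AlgSt.IsDM Scheme.etalePrecoverage 𝒴) (f : 𝒳 ⥤ᵇ 𝒴)
    (hf : ∀ (U : Over S) (g : FibCat.overCat U ⥤ᵇ 𝒴),
      AlgSt.IsDM Scheme.etalePrecoverage (FibCat.fp g f)) :
    AlgSt.IsDM Scheme.etalePrecoverage 𝒳 :=  by
  obtain ⟨W, w, hw, hw'⟩ := Groth.Agent.AlgStLib.hasAtlas_locP_etale h𝒴.2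
  obtain ⟨h, hA⟩ := hf W w
  have hu := Groth.Agent.AlgStLib.repByAlgSpWith_fpSnd f hw
  have hu' := Groth.Agent.AlgStLib.repByAlgSpWith_fpSnd f hw'
  have hsm := Groth.Agent.AlgStLib.repByAlgSpWith_mono
    (fun _ _ _ h => Groth.Agent.AlgSpLib.locP_mono Groth.Agent.AlgStLib.etale_le_smooth h) hu
  obtain ⟨W', w₁, hw₁, hw₁'⟩ := Groth.Agent.AlgStLib.hasAtlas_locP_etale hA
  have hg := Groth.Agent.AlgStLib.isFibGrpd_overCat W'
  exact ⟨⟨h𝒳, Groth.Agent.AlgStLib.repByAlgSp1_diag_of_smooth_cover h𝒳 h.isStack.1 h.diag hsm hu',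
    Groth.Agent.AlgStLib.hasAtlas_of_smooth_cover h.isStack.1 h.atlas hsm hu'⟩,
    Groth.Agent.AlgStLib.hasAtlas_isEtaleMor ⟨W', CategoryTheory.BasedFunctor.comp w₁ _,
      Groth.Agent.AlgStLib.repByAlgSpWith_locP_comp hg h.isStack.1 hw₁ hu,
      Groth.Agent.AlgStLib.repByAlgSpWith_isSurjectiveMor_comp hg h.isStack.1 hw₁' hu'⟩⟩
end Groth.Agent.S15251
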