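import Groth.Statements.S15253
import Groth.Agent.JetsPt22.Jets
-- import your own Groth.Agent.* helpers here

set_option autoImplicit false
universe u
open CategoryTheory CategoryTheory.Limits AlgebraicGeometry TopologicalSpace
open W4c2seshadripos

namespace Groth.Agent.S15253

/-- Let X be a scheme, x a closed point of X with ideal sheaf m_x, and F, G quasi-coherent O_X-modules
of finite type (coherent modules when X is locally Noetherian). A module M separates l-jets at x
when the restriction map H^0(X, M) → H^0(X, M / m_x^(l+1) M) is surjective. If F separates i-jets at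
x and G separates j-jets at x, with i, j ≥ 0, then F ⊗ G separates (i+j)-jets at x; in other words
s(F; x) + s(G; x) ≤ s(F ⊗ G; x) whenever both terms are ≥ 0, where s(M; x) is the largest l such
that M separates l-jets at x. -/
theorem result (X : Scheme.{u}) (x : X) (hx : IsClosed ({x} : Set X))
    (F G : X.Modules) (hF : Coh.IsCoh F) (hG : Coh.IsCoh G) (i j : ℕ)
    (hi : W4c2seshadripos.SeparatesJets F x hx i) (hj : W4c2seshadripos.SeparatesJets G x hx j) :
    W4c2seshadripos.SeparatesJets (CohB1.tensorMod F G) x hx (i + j) := by
  obtain ⟨U, hU, hxU, -⟩ := exists_isAffineOpen_mem_and_subset (show x ∈ (⊤ : X.Opens) from trivial)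
  have hFq : Coh.IsQCoh F := hF.1
  have hGq : Coh.IsQCoh G := hG.1
  let V : X.affineOpens := ⟨U, hU⟩
  rw [Groth.Agent.JetsPt22.separates_iff hx hFq (U := V) hxU] at hi
  rw [Groth.Agent.JetsPt22.separates_iff hx hGq (U := V) hxU] at hj
  have hT : Coh.IsQCoh (CohB1.tensorMod F G) := KFlatLib.isQCoh_tensor hFq hGq
  rw [Groth.Agent.JetsPt22.separates_iff hx hT (U := V) hxU]
  exact fun f => Groth.Agent.JetsPt22.exists_global_tensor _ hFq hGq i j hi hj f

end Groth.Agent.S15253
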