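import Groth.Statements.S15254
import Groth.Agent.JetsPt22.Point
import Groth.Agent.AmpleVan.Uniform
-- import your own Groth.Agent.* helpers here

set_option autoImplicit false
universe u
open CategoryTheory CategoryTheory.Limits AlgebraicGeometry TopologicalSpace
open W4c2seshadripos

namespace Groth.Agent.S15254

/-- Let X be an integral scheme proper over a field k (the published statement: a projective variety), x
a closed point of X with ideal sheaf m_x, and L an ample invertible O_X-module. Then there is m₀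
such that for every m ≥ m₀, every i > 1 and every a ≥ 0 the cohomology group H^i(X, m_x^a ⊗ L^{⊗m})
vanishes (here m_x^a ⊗ L^{⊗m} = m_x^a · L^{⊗m}, the ideal sheaf m_x^a being taken as an O_X-module). -/
theorem result (k : Type u) [Field k] (X : Scheme.{u})
    [X.Over (Spec (CommRingCat.of k))] [IsProper (X ↘ (Spec (CommRingCat.of k)))] [IsIntegral X]
    (x : X) (hx : IsClosed ({x} : Set X)) (L : X.Modules) (hL : CohB1.IsAmple L) :
    ∃ m₀ : ℕ, ∀ m : ℕ, m₀ ≤ m → ∀ i : ℕ, 1 < i → ∀ a : ℕ,
      Subsingleton (Coh.HH X (CohB1.tensorMod (ClSub.idealMod ((W4c2seshadripos.pointIdeal x hx) ^ a))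
        (CohB1.tensorPow L m)) i) := by
  haveI : AlgebraicGeometry.IsNoetherian X := by
    haveI := LocallyOfFiniteType.isLocallyNoetherian (X ↘ Spec (CommRingCat.of k))
    haveI := QuasiCompact.compactSpace_of_compactSpace (X ↘ Spec (CommRingCat.of k))
    exact {}
  haveI : X.IsSeparated := by
    constructor
    rw [← terminal.comp_from (X ↘ Spec (CommRingCat.of k))]
    infer_instance
  obtain ⟨m₀, hm₀⟩ := Groth.Agent.AmpleVan.exists_vanishing (A := k) hL
    (Groth.Agent.BlowPush22.isCoh_of_lf (Groth.Agent.H23.PullPush.isFinLocFree_of_isInvertible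
      (Groth.Agent.InvX.isInvertible_structureModule (X := X))))
  refine ⟨m₀, fun m hm i hi a => ?_⟩
  obtain ⟨j, rfl⟩ : ∃ j, i = j + 1 + 1 := ⟨i - 2, by omega⟩
  let eL := Groth.Agent.KFlatLib.structureTensorIso (CohB1.tensorPow L m)
  obtain ⟨S, hS, h₂, ⟨e⟩, hq, hsupp⟩ := Groth.Agent.JetsPt22.exists_twist_ses
    ((W4c2seshadripos.pointIdeal x hx) ^ a) (F := CohB1.tensorPow L m)
    (Groth.Agent.H23.PullPush.isFinLocFree_of_isInvertible (Groth.Agent.InvX.isInvertible_tensorPow hL.1 m))
  refine Groth.Agent.QCoh.subsingleton_HH_of_iso e _ (Groth.Agent.LerayCorner.subsingleton_HH_X₁ hS (j + 1)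
    (Groth.Agent.JetsPt22.subsingleton_HH_point hx hq
      (hsupp.trans (Groth.Agent.JetsPt22.support_pow_subset hx a)) (j + 1) (by omega)) ?_)
  rw [h₂]
  exact Groth.Agent.QCoh.subsingleton_HH_of_iso eL _ (hm₀ m hm (j + 1))

end Groth.Agent.S15254
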