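import Groth.Statements.S15283
import Groth.Agent.Lib.EtaleCompVal12
-- import your own Groth.Agent.* helpers here

set_option autoImplicit false
universe u
open CAlg

namespace Groth.Agent.S15283

/-- Let L/K be a finite extension of valued fields, v_L extending v_K up to equivalence, such that the
valuation rings K° and L° both have finitely many prime ideals, and let P be a prime ideal of L°
lying over the prime p of K°. Then v_K is composed from the valuation of K with ring the
localization (K°)_p and the valuation of the residue field of (K°)_p with ring K°/p, and similarly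
for v_L with (L°)_P and L°/P. If the induced homomorphisms (K°)_p → (L°)_P and K°/p → L°/P are both
étale, then K° → L° is étale. (For finite extensions of valued fields of finite height, being
unramified is the same as the map of valuation rings being étale, so this is the statement that an
extension composed from two unramified extensions is unramified.) -/
theorem result
    {K L Γ₀ Γ₁ : Type u} [Field K] [Field L] [Algebra K L] [FiniteDimensional K L]
    [LinearOrderedCommGroupWithZero Γ₀] [LinearOrderedCommGroupWithZero Γ₁]
    (vK : Valuation K Γ₀) (vL : Valuation L Γ₁) [vK.HasExtension vL]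
    [Finite (PrimeSpectrum vK.valuationSubring)] [Finite (PrimeSpectrum vL.valuationSubring)]
    (P : Ideal vL.valuationSubring) [P.IsPrime]
    (hA : (Localization.localRingHom (Ideal.comap (algebraMap vK.valuationSubring vL.valuationSubring) P) P
      (algebraMap vK.valuationSubring vL.valuationSubring) rfl).Etale)
    (hB : (Ideal.quotientMap P (algebraMap vK.valuationSubring vL.valuationSubring)
      (le_refl (Ideal.comap (algebraMap vK.valuationSubring vL.valuationSubring) P))).Etale) :
    Algebra.Etale vK.valuationSubring vL.valuationSubring := by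
  classical
  have hcoe : ∀ x : vK.valuationSubring, ((algebraMap vK.valuationSubring vL.valuationSubring x : vL.valuationSubring) : L) =
      algebraMap K L (x : K) := fun _ => rfl
  refine Groth.Agent.EtaleCompVal12.etale P (fun x y h => Subtype.ext ((algebraMap K L).injective ?_)) ?_ hA hB
  · rw [← hcoe, ← hcoe, h]
  intro s hs
  have hs0 : (s : L) ≠ 0 := fun h => hs (by rw [show s = 0 from Subtype.ext h]; exact zero_mem _)
  have hint : IsIntegral K (s : L) := IsIntegral.of_finite K _
  let p := minpoly K (s : L)
  have hsum : ∑ i ∈ p.support, algebraMap K L (p.coeff i) * (s : L) ^ i = 0 := by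
    have h := minpoly.aeval K (s : L)
    rwa [Polynomial.aeval_def, Polynomial.eval₂_eq_sum, Polynomial.sum_def] at h
  let v : ℕ → Γ₁ := fun i => vL (algebraMap K L (p.coeff i) * (s : L) ^ i)
  have hne : p.support.Nonempty := Polynomial.support_nonempty.2 (minpoly.ne_zero hint)
  obtain ⟨j, hj, hmax⟩ := Finset.exists_max_image p.support v hne
  have hj0 : p.coeff j ≠ 0 := Polynomial.mem_support_iff.1 hj
  obtain ⟨i, hi, hij, heq⟩ : ∃ i ∈ p.support, i ≠ j ∧ v i = v j := by
    by_contra! hc
    have h := Valuation.map_sum_eq_of_lt vL hj (f := fun i => algebraMap K L (p.coeff i) * (s : L) ^ i)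
      fun i hi => by
        rw [Finset.mem_sdiff, Finset.mem_singleton] at hi
        exact lt_of_le_of_ne (hmax i hi.1) (hc i hi.1 hi.2)
    rw [hsum, map_zero] at h
    exact mul_ne_zero ((map_ne_zero (algebraMap K L)).2 hj0) (pow_ne_zero _ hs0) ((map_eq_zero vL).1 h.symm)
  have hi0 : p.coeff i ≠ 0 := Polynomial.mem_support_iff.1 hi
  obtain ⟨m, hm, q, hq⟩ : ∃ (m : ℕ) (_ : 0 < m) (q : K), vL (algebraMap K L q) = vL ((s : L) ^ m) := by
    have hpos : ∀ (a b : ℕ), a < b → p.coeff b ≠ 0 →
        v a = v b → ∃ (m : ℕ) (_ : 0 < m) (q : K), vL (algebraMap K L q) = vL ((s : L) ^ m) := by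
      intro a b hab hb h
      refine ⟨b - a, by omega, p.coeff a / p.coeff b, ?_⟩
      simp only [v, map_mul] at h
      rw [map_div₀, map_div₀, div_eq_iff ((map_ne_zero vL).2 ((map_ne_zero (algebraMap K L)).2 hb))]
      refine mul_right_cancel₀ ((map_ne_zero vL).2 (pow_ne_zero a hs0)) ?_
      rw [h, mul_comm (vL ((s : L) ^ (b - a))), mul_assoc, ← map_mul vL ((s : L) ^ (b - a)), ← pow_add,
        Nat.sub_add_cancel hab.le]
    rcases lt_or_gt_of_ne hij with h | h
    · exact hpos i j h hj0 heq
    · exact hpos j i h hi0 heq.symm
  have hs1 : vL (s : L) ≤ 1 := s.2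
  have hq1 : q ∈ vK.valuationSubring := by
    show vK q ≤ 1
    rw [← Valuation.HasExtension.val_map_le_one_iff vK vL, hq, map_pow]
    exact pow_le_one₀ zero_le' hs1
  have hw : algebraMap K L q / (s : L) ∈ vL.valuationSubring := by
    show vL (algebraMap K L q / (s : L)) ≤ 1
    obtain ⟨m, rfl⟩ := Nat.exists_eq_succ_of_ne_zero hm.ne'
    rw [map_div₀, hq, map_pow, pow_succ, mul_div_assoc, div_self ((map_ne_zero vL).2 hs0), mul_one]
    exact pow_le_one₀ zero_le' hs1
  refine ⟨⟨q, hq1⟩, fun hc => ?_, ⟨_, hw⟩, Subtype.ext ?_⟩
  · -- then a power of `s` would lie in the prime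
    have hu : (s : L) ^ m / algebraMap K L q ∈ vL.valuationSubring := by
      show vL ((s : L) ^ m / algebraMap K L q) ≤ 1
      rw [map_div₀, hq, div_self ((map_ne_zero vL).2 (pow_ne_zero _ hs0))]
    have hq0 : algebraMap K L q ≠ 0 := fun h => by
      rw [h, map_zero] at hq
      exact pow_ne_zero m hs0 ((map_eq_zero vL).1 hq.symm)
    have h1 : (⟨_, hu⟩ : vL.valuationSubring) * algebraMap vK.valuationSubring vL.valuationSubring ⟨q, hq1⟩ = s ^ m := by
      refine Subtype.ext ?_
      show (s : L) ^ m / algebraMap K L q * algebraMap K L q = _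
      rw [div_mul_cancel₀ _ hq0]
      rfl
    exact hs ((inferInstance : P.IsPrime).mem_of_pow_mem m (h1 ▸ P.mul_mem_left _ hc))
  · show algebraMap K L q = (s : L) * (algebraMap K L q / (s : L))
    rw [mul_div_cancel₀ _ hs0]

end Groth.Agent.S15283
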