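import Groth.Statements.S15285


set_option autoImplicit false
universe v v' u u'
open PicCat

namespace Groth.Agent.S15285

open CategoryTheory MonoidalCategory in
/-- Let C and D be Picard categories (monoidal groupoids in which tensoring on either side with any
object is an equivalence of categories) and F : C ⥤ D a lax monoidal functor. If F induces a
bijection on isomorphism classes of objects (it is essentially surjective, and F X ≅ F Y only when X
≅ Y) and a bijection on endomorphisms of the unit object, then F is an equivalence of categories. -/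
theorem result
    {C : Type u} [Category.{v} C] [MonoidalCategory C] [IsGroupoid C]
    {D : Type u'} [Category.{v'} D] [MonoidalCategory D] [IsGroupoid D]
    (hC : ∀ X : C, (tensorLeft X).IsEquivalence ∧ (tensorRight X).IsEquivalence)
    (hD : ∀ X : D, (tensorLeft X).IsEquivalence ∧ (tensorRight X).IsEquivalence)
    (F : C ⥤ D) [F.LaxMonoidal] [F.EssSurj]
    (h0 : ∀ X Y : C, Nonempty (F.obj X ≅ F.obj Y) → Nonempty (X ≅ Y))
    (h1 : Function.Bijective (fun φ : 𝟙_ C ⟶ 𝟙_ C => F.map φ)) :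
    F.IsEquivalence := by
  haveI hεi : IsIso (Functor.LaxMonoidal.ε F) := IsGroupoid.all_isIso _
  haveI hμi : ∀ X Y : C, IsIso (Functor.LaxMonoidal.μ F X Y) := fun X Y => IsGroupoid.all_isIso _
  haveI : ∀ {X Y : C} (f : X ⟶ Y), IsIso f := fun f => IsGroupoid.all_isIso f
  have hend : ∀ X : C, Function.Bijective (fun φ : 𝟙_ C ⟶ 𝟙_ C => (λ_ X).inv ≫ φ ▷ X ≫ (λ_ X).hom) := by
    intro X
    haveI := (hC X).2
    refine ⟨fun a b h => ?_, fun g => ?_⟩
    · exact (tensorRight X).map_injective (by simpa using h)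
    · obtain ⟨φ, hφ⟩ := (tensorRight X).map_surjective ((λ_ X).hom ≫ g ≫ (λ_ X).inv)
      exact ⟨φ, by simp only; rw [show φ ▷ X = (tensorRight X).map φ from rfl, hφ]; simp⟩
  have hendD : ∀ X : D, Function.Bijective (fun φ : 𝟙_ D ⟶ 𝟙_ D => (λ_ X).inv ≫ φ ▷ X ≫ (λ_ X).hom) := by
    intro X
    haveI := (hD X).2
    refine ⟨fun a b h => ?_, fun g => ?_⟩
    · exact (tensorRight X).map_injective (by simpa using h)
    · obtain ⟨φ, hφ⟩ := (tensorRight X).map_surjective ((λ_ X).hom ≫ g ≫ (λ_ X).inv)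
      exact ⟨φ, by simp only; rw [show φ ▷ X = (tensorRight X).map φ from rfl, hφ]; simp⟩
  have comp : ∀ (X : C) (φ : 𝟙_ C ⟶ 𝟙_ C), F.map ((λ_ X).inv ≫ φ ▷ X ≫ (λ_ X).hom) =
      (λ_ (F.obj X)).inv ≫ (Functor.LaxMonoidal.ε F ≫ F.map φ ≫ inv (Functor.LaxMonoidal.ε F)) ▷ F.obj X ≫
        (λ_ (F.obj X)).hom := by
    intro X φ
    have hl : F.map (λ_ X).hom = inv (Functor.LaxMonoidal.μ F (𝟙_ C) X) ≫
        inv (Functor.LaxMonoidal.ε F ▷ F.obj X) ≫ (λ_ (F.obj X)).hom := by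
      rw [Functor.LaxMonoidal.left_unitality F X]; simp
    have hli : F.map (λ_ X).inv = (λ_ (F.obj X)).inv ≫ Functor.LaxMonoidal.ε F ▷ F.obj X ≫
        Functor.LaxMonoidal.μ F (𝟙_ C) X := by
      rw [← cancel_mono (F.map (λ_ X).hom), ← F.map_comp, Iso.inv_hom_id, F.map_id, hl]
      simp
    rw [F.map_comp, F.map_comp, hl, hli]
    simp only [Category.assoc, comp_whiskerRight, inv_whiskerRight]
    congr 2
    rw [← Functor.LaxMonoidal.μ_natural_left_assoc]
    simp
  have hF : ∀ X : C, Function.Bijective (fun g : X ⟶ X => F.map g) := by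
    intro X
    have hbij : Function.Bijective (fun φ : 𝟙_ C ⟶ 𝟙_ C =>
        Functor.LaxMonoidal.ε F ≫ F.map φ ≫ inv (Functor.LaxMonoidal.ε F)) := by
      refine ⟨fun a b h => h1.1 ?_, fun g => ?_⟩
      · exact (cancel_mono _).mp ((cancel_epi _).mp h)
      · obtain ⟨φ, hφ⟩ := h1.2 (inv (Functor.LaxMonoidal.ε F) ≫ g ≫ Functor.LaxMonoidal.ε F)
        exact ⟨φ, by simp only at hφ ⊢; rw [hφ]; simp⟩
    refine (Function.Bijective.of_comp_iff _ (hend X)).mp ?_
    have : ((fun g : X ⟶ X => F.map g) ∘ fun φ : 𝟙_ C ⟶ 𝟙_ C => (λ_ X).inv ≫ φ ▷ X ≫ (λ_ X).hom) =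
        (fun φ : 𝟙_ D ⟶ 𝟙_ D => (λ_ (F.obj X)).inv ≫ φ ▷ F.obj X ≫ (λ_ (F.obj X)).hom) ∘
          fun φ : 𝟙_ C ⟶ 𝟙_ C => Functor.LaxMonoidal.ε F ≫ F.map φ ≫ inv (Functor.LaxMonoidal.ε F) := funext (comp X)
    rw [this]
    exact (hendD _).comp hbij
  haveI : F.Full := ⟨fun {X Y} g => by
    haveI : IsIso g := IsGroupoid.all_isIso g
    obtain ⟨e⟩ := h0 X Y ⟨asIso g⟩
    obtain ⟨k, hk⟩ := (hF X).2 (g ≫ F.map e.inv)
    exact ⟨k ≫ e.hom, by simp only at hk; rw [F.map_comp, hk, Category.assoc, ← F.map_comp, e.inv_hom_id, F.map_id, Category.comp_id]⟩⟩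
  haveI : F.Faithful := ⟨fun {X Y} a b h => by
    haveI : IsIso a := IsGroupoid.all_isIso a
    have : F.map (b ≫ inv a) = F.map (𝟙 X) := by rw [F.map_comp, ← h, ← F.map_comp, IsIso.hom_inv_id]
    have h' := (hF X).1 this
    exact by
      rw [← Category.comp_id b, ← IsIso.inv_hom_id a, reassoc_of% h']⟩
  exact { }


end Groth.Agent.S15285
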