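import Groth.Statements.S15286
import Mathlib


set_option autoImplicit false
universe v v' u u'
open PicCat

namespace Groth.Agent.S15286

section
open CategoryTheory MonoidalCategory

variable {D : Type u'} [Category.{v'} D] [MonoidalCategory D]

/-- The action of an endomorphism of the unit on an object. -/
def act (φ : 𝟙_ D ⟶ 𝟙_ D) (X : D) : X ⟶ X := (λ_ X).inv ≫ φ ▷ X ≫ (λ_ X).hom

theorem act_nat (φ : 𝟙_ D ⟶ 𝟙_ D) {X Y : D} (f : X ⟶ Y) : f ≫ act φ Y = act φ X ≫ f := by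
  simp only [act, Category.assoc]
  rw [leftUnitor_inv_naturality_assoc, whisker_exchange_assoc, leftUnitor_naturality]

theorem act_id (X : D) : act (𝟙 (𝟙_ D)) X = 𝟙 X := by simp [act]

theorem act_comp (φ ψ : 𝟙_ D ⟶ 𝟙_ D) (X : D) : act (φ ≫ ψ) X = act φ X ≫ act ψ X := by simp [act]

theorem act_unit (φ : 𝟙_ D ⟶ 𝟙_ D) : act φ (𝟙_ D) = φ := by
  simp [act, unitors_equal, unitors_inv_equal]

theorem End_comm (φ ψ : 𝟙_ D ⟶ 𝟙_ D) : φ ≫ ψ = ψ ≫ φ := by
  have h := act_nat ψ φ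
  rwa [act_unit] at h

theorem act_whiskerRight (φ : 𝟙_ D ⟶ 𝟙_ D) (X Y : D) : act φ X ▷ Y = act φ (X ⊗ Y) := by
  simp only [act, comp_whiskerRight, whiskerRight_tensor]
  monoidal

theorem act_whiskerLeft [BraidedCategory D] (φ : 𝟙_ D ⟶ 𝟙_ D) (X Y : D) : X ◁ act φ Y = act φ (X ⊗ Y) := by
  rw [← cancel_mono (β_ X Y).hom, BraidedCategory.braiding_naturality_right, act_whiskerRight, act_nat]

theorem act_tensor [BraidedCategory D] (φ ψ : 𝟙_ D ⟶ 𝟙_ D) (X Y : D) :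
    act φ X ⊗ₘ act ψ Y = act (φ ≫ ψ) (X ⊗ Y) := by
  rw [MonoidalCategory.tensorHom_def, act_whiskerRight, act_whiskerLeft, act_comp]

theorem act_inj {X : D} (h : (tensorRight X).IsEquivalence) {a b : 𝟙_ D ⟶ 𝟙_ D} (e : act a X = act b X) :
    a = b :=
  (tensorRight X).map_injective (by simpa [act] using e)

theorem act_surj {X : D} (h : (tensorRight X).IsEquivalence) (g : X ⟶ X) : ∃ φ, act φ X = g := by
  obtain ⟨φ, hφ⟩ := (tensorRight X).map_surjective ((λ_ X).hom ≫ g ≫ (λ_ X).inv)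
  exact ⟨φ, by simp only [act]; rw [show φ ▷ X = (tensorRight X).map φ from rfl, hφ]; simp⟩

end

open CategoryTheory MonoidalCategory in
/-- Let C be a Picard category, D a commutative (braided) Picard category, F, G : C ⥤ D lax monoidal
functors and θ₀ : F ⟶ G a monoidal natural transformation. Identify an endomorphism φ of the unit of
D with the automorphism λ⁻¹ ≫ (φ ▷ Z) ≫ λ of any object Z. Then the monoidal natural transformations
F ⟶ G form a torsor under the monoid homomorphisms χ from the monoid of isomorphism classes of C to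
End(𝟙_D): every monoidal θ : F ⟶ G is X ↦ θ₀_X ≫ (action of χ[X] on G X) for a unique such χ, and
for every χ this formula defines a monoidal natural transformation. (The published statement allows
D non-commutative; for a non-braided monoidal groupoid the classes so obtained are crossed rather
than plain homomorphisms, so D is taken braided here.) -/
theorem result
    {C : Type u} [Category.{v} C] [MonoidalCategory C] [IsGroupoid C]
    {D : Type u'} [Category.{v'} D] [MonoidalCategory D] [BraidedCategory D] [IsGroupoid D]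
    (hC : ∀ X : C, (tensorLeft X).IsEquivalence ∧ (tensorRight X).IsEquivalence)
    (hD : ∀ X : D, (tensorLeft X).IsEquivalence ∧ (tensorRight X).IsEquivalence)
    (F G : C ⥤ D) [F.LaxMonoidal] [G.LaxMonoidal] (θ₀ : F ⟶ G) [NatTrans.IsMonoidal θ₀] :
    (∀ θ : F ⟶ G, NatTrans.IsMonoidal θ →
      ∃! χ : Skeleton C →* End (𝟙_ D), ∀ X : C,
        θ.app X = θ₀.app X ≫ (λ_ (G.obj X)).inv ≫
          ((χ (toSkeleton X) : 𝟙_ D ⟶ 𝟙_ D) ▷ G.obj X) ≫ (λ_ (G.obj X)).hom) ∧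
    (∀ χ : Skeleton C →* End (𝟙_ D), ∃ θ : F ⟶ G, NatTrans.IsMonoidal θ ∧ ∀ X : C,
        θ.app X = θ₀.app X ≫ (λ_ (G.obj X)).inv ≫
          ((χ (toSkeleton X) : 𝟙_ D ⟶ 𝟙_ D) ▷ G.obj X) ≫ (λ_ (G.obj X)).hom) := by
  haveI : ∀ {X Y : D} (f : X ⟶ Y), IsIso f := fun f => IsGroupoid.all_isIso f
  change (∀ θ : F ⟶ G, NatTrans.IsMonoidal θ →
      ∃! χ : Skeleton C →* End (𝟙_ D), ∀ X : C,
        θ.app X = θ₀.app X ≫ act (χ (toSkeleton X)) (G.obj X)) ∧
    (∀ χ : Skeleton C →* End (𝟙_ D), ∃ θ : F ⟶ G, NatTrans.IsMonoidal θ ∧ ∀ X : C,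
        θ.app X = θ₀.app X ≫ act (χ (toSkeleton X)) (G.obj X))
  have uniq : ∀ (X : C) (a b : 𝟙_ D ⟶ 𝟙_ D),
      θ₀.app X ≫ act a (G.obj X) = θ₀.app X ≫ act b (G.obj X) → a = b :=
    fun X a b h => act_inj (hD _).2 ((cancel_epi (θ₀.app X)).mp h)
  have hμ : ∀ (θ : F ⟶ G) (X Y : C) (a b : 𝟙_ D ⟶ 𝟙_ D),
      θ.app X = θ₀.app X ≫ act a (G.obj X) → θ.app Y = θ₀.app Y ≫ act b (G.obj Y) →
      (θ.app X ⊗ₘ θ.app Y) ≫ Functor.LaxMonoidal.μ G X Y =
        Functor.LaxMonoidal.μ F X Y ≫ θ₀.app (X ⊗ Y) ≫ act (a ≫ b) (G.obj (X ⊗ Y)) := by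
    intro θ X Y a b ha hb
    rw [ha, hb, ← tensorHom_comp_tensorHom, Category.assoc, act_tensor, ← act_nat,
      ← Category.assoc (Functor.LaxMonoidal.μ F X Y), NatTrans.IsMonoidal.tensor (τ := θ₀) X Y, Category.assoc]
  refine ⟨fun θ hθ => ?_, fun χ => ?_⟩
  · have hex : ∀ X : C, ∃ φ : 𝟙_ D ⟶ 𝟙_ D, θ.app X = θ₀.app X ≫ act φ (G.obj X) := by
      intro X
      obtain ⟨φ, hφ⟩ := act_surj (hD _).2 (inv (θ₀.app X) ≫ θ.app X)
      exact ⟨φ, by rw [hφ]; simp⟩
    choose φ hφ using hex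
    have hiso : ∀ X Y : C, (X ≅ Y) → φ X = φ Y := by
      intro X Y e
      refine uniq Y _ _ ?_
      rw [← hφ Y, ← cancel_epi (F.map e.hom), θ.naturality, hφ X, θ₀.naturality_assoc, act_nat,
        Category.assoc]
    have h1 : φ (𝟙_ C) = 𝟙 _ := by
      refine uniq (𝟙_ C) _ _ ?_
      rw [← hφ, act_id, Category.comp_id, ← cancel_epi (Functor.LaxMonoidal.ε F),
        NatTrans.IsMonoidal.unit (τ := θ), NatTrans.IsMonoidal.unit (τ := θ₀)]
    have h2 : ∀ X Y : C, φ (X ⊗ Y) = φ Y ≫ φ X := by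
      intro X Y
      refine uniq (X ⊗ Y) _ _ ?_
      rw [← hφ, ← cancel_epi (Functor.LaxMonoidal.μ F X Y), NatTrans.IsMonoidal.tensor (τ := θ) X Y,
        hμ θ X Y _ _ (hφ X) (hφ Y), End_comm]
    let χ : Skeleton C →* End (𝟙_ D) :=
      { toFun := fun X => φ X.out
        map_one' := by
          show φ (toSkeleton (𝟙_ C)).out = 𝟙 (𝟙_ D)
          rw [hiso _ (𝟙_ C) (Skeleton.isoOfEq (Quotient.out_eq _)), h1]
        map_mul' := fun X Y => by
          show φ (toSkeleton (X.out ⊗ Y.out)).out = φ Y.out ≫ φ X.out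
          rw [hiso _ (X.out ⊗ Y.out) (Skeleton.isoOfEq (Quotient.out_eq _)), h2] }
    have hχ : ∀ X : C, θ.app X = θ₀.app X ≫ act (χ (toSkeleton X)) (G.obj X) := fun X => by
      rw [show (χ (toSkeleton X) : 𝟙_ D ⟶ 𝟙_ D) = φ X from hiso _ X (Skeleton.isoOfEq (Quotient.out_eq _))]
      exact hφ X
    refine ⟨χ, hχ, fun χ' hχ' => MonoidHom.ext fun X => ?_⟩
    induction X using Quotient.inductionOn with
    | _ X => exact uniq X _ _ ((hχ' X).symm.trans (hχ X))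
  · let θ : F ⟶ G :=
      { app := fun X => θ₀.app X ≫ act (χ (toSkeleton X)) (G.obj X)
        naturality := fun X Y f => by
          haveI : IsIso f := IsGroupoid.all_isIso f
          rw [θ₀.naturality_assoc, act_nat, congr_toSkeleton_of_iso (asIso f), Category.assoc] }
    refine ⟨θ, { unit := ?_, tensor := fun X Y => ?_ }, fun X => rfl⟩
    · show Functor.LaxMonoidal.ε F ≫ θ₀.app (𝟙_ C) ≫ act (χ (toSkeleton (𝟙_ C))) _ = _
      rw [show χ (toSkeleton (𝟙_ C)) = 𝟙 (𝟙_ D) from χ.map_one, act_id, Category.comp_id,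
        NatTrans.IsMonoidal.unit (τ := θ₀)]
    · rw [hμ θ X Y _ _ rfl rfl]
      show _ ≫ θ₀.app _ ≫ act (χ (toSkeleton (X ⊗ Y))) _ = _
      rw [show (χ (toSkeleton (X ⊗ Y)) : 𝟙_ D ⟶ 𝟙_ D) = (χ (toSkeleton Y) : 𝟙_ D ⟶ 𝟙_ D) ≫ χ (toSkeleton X) by
        rw [Skeleton.toSkeleton_tensorObj, χ.map_mul]; rfl, End_comm]


end Groth.Agent.S15286
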