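import Groth.Statements.S1529
import Groth.Agent.S10832

set_option autoImplicit false
universe u
open CategoryTheory CategoryTheory.Limits AlgebraicGeometry
open Variety

namespace Groth.Agent.S1529

/-- A scheme of finite type over a field whose underlying topological space has Krull dimension at most
zero is affine, and its structure morphism is finite. -/
theorem result (k : Type u) [Field k] (X : Scheme.{u}) [X.Over (Spec (CommRingCat.of k))]
    [LocallyOfFiniteType (X ↘ (Spec (CommRingCat.of k)))] [QuasiCompact (X ↘ (Spec (CommRingCat.of k)))]
    (hdim : topologicalKrullDim X ≤ 0) :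
    IsAffine X ∧ IsFinite (X ↘ (Spec (CommRingCat.of k))) := by
  set p := X ↘ (Spec (CommRingCat.of k))
  have : IsLocallyNoetherian X := LocallyOfFiniteType.isLocallyNoetherian p
  have : CompactSpace X := (quasiCompact_iff_compactSpace p).1 inferInstance
  have := IsLocallyArtinian.of_topologicalKrullDim_le_zero hdim
  have : Finite X := finite_of_compact_of_discrete
  refine ⟨inferInstance, ?_⟩
  rw [HasAffineProperty.iff_of_isAffine (P := @IsFinite)]
  exact ⟨inferInstance, Groth.Agent.S10832.finite_appTop_of_discrete k p⟩

end Groth.Agent.S1529
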