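import Groth.Statements.S15293
import Mathlib

set_option autoImplicit false
universe u
open DeRham

namespace Groth.Agent.S15293

open exteriorPower in
/-- For a commutative square of ring maps R → A → B, R → S → B (B an algebra over R, A and S
compatibly), there is a family of additive maps ψ_p from the p-forms of A over R to the p-forms of B
over S, p ≥ 0, which is the map of de Rham complexes induced by the square: ψ_p sends b₀ db₁ ∧ … ∧
db_p to g(b₀) d(g b₁) ∧ … ∧ d(g b_p), where g : A → B is the structure map. In degree 0 this is g
and in degree 1 the induced map on Kähler differentials. -/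
theorem result (R S A B : Type u) [CommRing R] [CommRing S] [CommRing A] [CommRing B]
    [Algebra R S] [Algebra R A] [Algebra R B] [Algebra A B] [Algebra S B]
    [IsScalarTower R A B] [IsScalarTower R S B] :
    ∃ ψ : ∀ p : ℕ, ↥(⋀[A]^p (Ω[A⁄R])) →+ ↥(⋀[B]^p (Ω[B⁄S])),
      DeRham.IsCxMap (KaehlerDifferential.D R A) (KaehlerDifferential.D S B) (algebraMap A B) ψ := by
  let g : Ω[A⁄R] →ₗ[A] Ω[B⁄S] := KaehlerDifferential.map R S A B
  let alt : ∀ p : ℕ, (Ω[A⁄R]) [⋀^Fin p]→ₗ[A] ↥(⋀[B]^p (Ω[B⁄S])) := fun p =>
    { toFun := fun v => exteriorPower.ιMulti B p (fun i => g (v i))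
      map_update_add' := fun v i x y => by
        have h : ∀ w, (fun j => g (Function.update v i w j)) = Function.update (fun j => g (v j)) i (g w) := fun w => by
          funext j; exact Function.apply_update (fun _ => g) v i w j
        simp only [h, map_add, AlternatingMap.map_update_add]
      map_update_smul' := fun v i c x => by
        have h : ∀ w, (fun j => g (Function.update v i w j)) = Function.update (fun j => g (v j)) i (g w) := fun w => by
          funext j; exact Function.apply_update (fun _ => g) v i w j
        simp only [h, g.map_smul]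
        rw [← algebraMap_smul B c (g x), AlternatingMap.map_update_smul, algebraMap_smul]
      map_eq_zero_of_eq' := fun v i j hv hij =>
        AlternatingMap.map_eq_zero_of_eq _ _ (by rw [hv]) hij }
  refine ⟨fun p => (exteriorPower.alternatingMapLinearEquiv (alt p)).toAddMonoidHom, fun p b₀ b => ?_⟩
  show exteriorPower.alternatingMapLinearEquiv (alt p) (b₀ • exteriorPower.ιMulti A p _) = _
  rw [map_smul, exteriorPower.alternatingMapLinearEquiv_apply_ιMulti, DeRham.gen, ← algebraMap_smul B b₀]
  congr 1
  show exteriorPower.ιMulti B p _ = _
  congr 1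
  funext i
  exact KaehlerDifferential.map_D R S A B (b i)

end Groth.Agent.S15293
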