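import Groth.Statements.S15295
import Groth.Agent.Synt29.DRGen
import Groth.Agent.Synt29.ExtBC
import Mathlib

set_option autoImplicit false
universe u
open DeRham

namespace Groth.Agent.S15295

open exteriorPower TensorProduct in
/-- The de Rham complex commutes with base change. Let R → A and R → S be ring maps and B = S ⊗_R A (an
R-algebra over A and S with the pushout property), and let ψ be the induced map of de Rham complexes
from the p-forms of A over R to the p-forms of B over S (additive maps sending b₀ db₁ ∧ … ∧ db_p to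
g(b₀) d(g b₁) ∧ … ∧ d(g b_p), g : A → B the structure map). Then in each degree p the S-linear
extension S ⊗_R ⋀^p Ω_{A/R} → ⋀^p Ω_{B/S}, s ⊗ x ↦ s · ψ_p(x), is bijective. (This row states the
degreewise bijectivity, with the base change written S ⊗_R − rather than − ⊗_R S; the compatibility
of ψ with the differentials, which makes this an isomorphism of complexes, holds for any square of
ring maps.) -/
theorem result (R S A B : Type u) [CommRing R] [CommRing S] [CommRing A] [CommRing B]
    [Algebra R S] [Algebra R A] [Algebra R B] [Algebra A B] [Algebra S B]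
    [IsScalarTower R A B] [IsScalarTower R S B] [Algebra.IsPushout R S A B]
    (ψ : ∀ p : ℕ, ↥(⋀[A]^p (Ω[A⁄R])) →+ ↥(⋀[B]^p (Ω[B⁄S])))
    (hψ : DeRham.IsCxMap (KaehlerDifferential.D R A) (KaehlerDifferential.D S B) (algebraMap A B) ψ)
    (p : ℕ) (Φ : S ⊗[R] ↥(⋀[A]^p (Ω[A⁄R])) →+ ↥(⋀[B]^p (Ω[B⁄S])))
    (hΦ : ∀ (s : S) (x : ↥(⋀[A]^p (Ω[A⁄R]))), Φ (s ⊗ₜ[R] x) = s • ψ p x) :
    Function.Bijective Φ := by
  
  classical
  let X := ↥(⋀[A]^p (Ω[A⁄R]))
  let c : B ⊗[A] X ≃ₗ[S] S ⊗[R] X := Algebra.IsPushout.cancelBaseChange R S A B X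
  let e : B ⊗[A] (Ω[A⁄R]) ≃ₗ[B] Ω[B⁄S] := KaehlerDifferential.tensorKaehlerEquiv R S A B
  let me := exteriorPower.map p e.toLinearMap
  have hme : Function.Bijective me :=
    ⟨exteriorPower.map_injective e.symm.toLinearMap (by ext; simp), exteriorPower.map_surjective e.surjective⟩
  let G : S ⊗[R] X →+ ↥(⋀[B]^p (Ω[B⁄S])) :=
    (me.toAddMonoidHom.comp (Groth.Agent.Synt29.ExtBC.fwd A B (Ω[A⁄R]) p).toAddMonoidHom).comp
      c.symm.toLinearMap.toAddMonoidHom
  have hG : Function.Bijective G :=
    (hme.comp (Groth.Agent.Synt29.ExtBC.bijective_fwd p)).comp c.symm.bijective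
  have hψ' : ∀ x : X, ψ p x = me (Groth.Agent.Synt29.ExtBC.fwd A B (Ω[A⁄R]) p ((1 : B) ⊗ₜ[A] x)) := by
    refine Groth.Agent.Synt29.DRGen.gen_induction (KaehlerDifferential.D R A)
      (KaehlerDifferential.span_range_derivation R A) (by simp) (fun x y hx hy => by
        rw [map_add, hx, hy, TensorProduct.tmul_add, map_add, map_add]) fun b₀ b => ?_
    rw [hψ p b₀ b]
    simp only [DeRham.gen]
    rw [TensorProduct.tmul_smul, ← algebraMap_smul B b₀, map_smul, map_smul,
      Groth.Agent.Synt29.ExtBC.fwd_tmul, one_smul, exteriorPower.map_apply_ιMulti]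
    congr 2
    funext i
    show _ = e ((1 : B) ⊗ₜ[A] KaehlerDifferential.D R A (b i))
    rw [KaehlerDifferential.tensorKaehlerEquiv_tmul_D, one_smul]
  have hΦG : Φ = G := by
    refine AddMonoidHom.ext fun z => ?_
    induction z using TensorProduct.induction_on with
    | zero => rw [map_zero, map_zero]
    | add x y hx hy => rw [map_add, map_add, hx, hy]
    | tmul s x =>
      rw [hΦ, hψ']
      show _ = me (Groth.Agent.Synt29.ExtBC.fwd A B (Ω[A⁄R]) p (c.symm (s ⊗ₜ[R] x)))
      rw [show c.symm (s ⊗ₜ[R] x) = algebraMap S B s ⊗ₜ[A] x from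
        Algebra.IsPushout.cancelBaseChange_symm_tmul R S A B X s x, ← mul_one (algebraMap S B s), ← smul_eq_mul,
        ← TensorProduct.smul_tmul', map_smul, map_smul, algebraMap_smul]
  rw [hΦG]
  exact hG

end Groth.Agent.S15295
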