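import Groth.Statements.S15296
import Groth.Agent.Synt29.DRGen
import Groth.Agent.Synt29.ExtKer
import Mathlib

set_option autoImplicit false
universe u
open DeRham

namespace Groth.Agent.S15296

open exteriorPower in
/-- Let R → A be a ring map, π a surjective A-linear map from the Kähler differentials of A over R onto
an A-module Ω', δ = π ∘ d the induced derivation A → Ω', and d_A a de Rham differential of the
Kähler differentials. Suppose the kernel of π is generated over A by elements ω with π(ω) = 0 whose
differential d_A(ω) is killed by the second exterior power of π. Then the exterior powers of Ω' over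
A carry a de Rham differential for δ: a family of R-linear maps d from p-forms to (p+1)-forms with
d(f₀ δf₁ ∧ … ∧ δf_p) = δf₀ ∧ δf₁ ∧ … ∧ δf_p and d ∘ d = 0; moreover d is compatible with d_A through
the exterior powers of π. -/
theorem result (R A Ω' : Type u) [CommRing R] [CommRing A] [Algebra R A]
    [AddCommGroup Ω'] [Module A Ω'] [Module R Ω'] [IsScalarTower R A Ω']
    (π : Ω[A⁄R] →ₗ[A] Ω') (hπ : Function.Surjective π)
    (dA : ∀ p : ℕ, ↥(⋀[A]^p (Ω[A⁄R])) →ₗ[R] ↥(⋀[A]^(p + 1) (Ω[A⁄R])))
    (hdA : DeRham.IsDiff (KaehlerDifferential.D R A) dA)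
    (hker : LinearMap.ker π ≤ Submodule.span A {ω : Ω[A⁄R] | π ω = 0 ∧
      exteriorPower.map 2 π (dA 1 ((exteriorPower.oneEquiv A (Ω[A⁄R])).symm ω)) = 0}) :
    ∃ d : ∀ p : ℕ, ↥(⋀[A]^p Ω') →ₗ[R] ↥(⋀[A]^(p + 1) Ω'),
      DeRham.IsDiff (π.compDer (KaehlerDifferential.D R A)) d ∧
        ∀ (p : ℕ) (x : ↥(⋀[A]^p (Ω[A⁄R]))),
          d p (exteriorPower.map p π x) = exteriorPower.map (p + 1) π (dA p x) := by
  
  classical
  set D := KaehlerDifferential.D R A with hD
  have hspan := KaehlerDifferential.span_range_derivation R A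
  have hcoe : ∀ (n : ℕ) (x : ↥(⋀[A]^n (Ω[A⁄R]))),
      (exteriorPower.map n π x : ExteriorAlgebra A Ω') = ExteriorAlgebra.map π (x : ExteriorAlgebra A (Ω[A⁄R])) := by
    intro n x
    have h : (⋀[A]^n Ω').subtype ∘ₗ exteriorPower.map n π =
        (ExteriorAlgebra.map π).toLinearMap ∘ₗ (⋀[A]^n (Ω[A⁄R])).subtype := by
      refine exteriorPower.linearMap_ext (AlternatingMap.ext fun v => ?_)
      simp [Function.comp_def]
    exact LinearMap.congr_fun h x
  let sym : Ω[A⁄R] → ↥(⋀[A]^1 (Ω[A⁄R])) := fun ω => (exteriorPower.oneEquiv A (Ω[A⁄R])).symm ω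
  have hsymD : ∀ (a e : A), sym (a • D e) = DeRham.gen D 1 a (fun _ => e) := by
    intro a e
    refine (LinearEquiv.symm_apply_eq _).2 ?_
    rw [DeRham.gen, map_smul, exteriorPower.oneEquiv_ιMulti]
  have hd1 : ∀ (a e : A), (dA 1 (sym (a • D e)) : ExteriorAlgebra A (Ω[A⁄R])) =
      ExteriorAlgebra.ι A (D a) * ExteriorAlgebra.ι A (D e) := by
    intro a e
    rw [hsymD, hdA.1, exteriorPower.ιMulti_apply_coe, ExteriorAlgebra.ιMulti_succ_apply,
      ExteriorAlgebra.ιMulti_succ_apply, ExteriorAlgebra.ιMulti_zero_apply, mul_one]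
    rfl
  have hadd : ∀ x y, sym (x + y) = sym x + sym y := fun x y => map_add _ x y
  have hzero : sym 0 = 0 := map_zero _
  -- Leibniz in degree one
  have hL : ∀ (a : A) (ω : Ω[A⁄R]), (dA 1 (sym (a • ω)) : ExteriorAlgebra A (Ω[A⁄R])) =
      ExteriorAlgebra.ι A (D a) * ExteriorAlgebra.ι A ω + a • (dA 1 (sym ω) : ExteriorAlgebra A (Ω[A⁄R])) := by
    intro a ω
    have key : ∀ c : A, (dA 1 (sym (a • (c • ω))) : ExteriorAlgebra A (Ω[A⁄R])) =
        ExteriorAlgebra.ι A (D a) * ExteriorAlgebra.ι A (c • ω) +
          a • (dA 1 (sym (c • ω)) : ExteriorAlgebra A (Ω[A⁄R])) := by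
      induction hspan.ge (Submodule.mem_top (x := ω)) using Submodule.span_induction with
      | mem z hz =>
        obtain ⟨e, rfl⟩ := hz
        intro c
        rw [smul_smul, hd1, hd1, Derivation.leibniz, map_add, map_smul, map_smul, map_smul, add_mul,
          smul_mul_assoc, smul_mul_assoc, mul_smul_comm, add_comm]
      | zero => intro c; simp [hzero]
      | add x y _ _ hx hy =>
        intro c
        simp only [smul_add, hadd, map_add, Submodule.coe_add, mul_add, hx c, hy c]
        abel
      | smul r x _ hx => intro c; rw [smul_smul c r x]; exact hx _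
    have := key 1
    rwa [one_smul] at this
  -- Leibniz against exact forms
  have hW : ∀ (p : ℕ) (b : Fin p → A) (ω : Ω[A⁄R]),
      (dA (p + 1) (exteriorPower.ιMulti A (p + 1) (Fin.cons ω fun i => D (b i))) : ExteriorAlgebra A (Ω[A⁄R])) =
        (dA 1 (sym ω) : ExteriorAlgebra A (Ω[A⁄R])) *
          ExteriorAlgebra.ιMulti A p (fun i => D (b i)) := by
    intro p b ω
    have hu : ∀ z, (Fin.cons z fun i => D (b i) : Fin (p + 1) → Ω[A⁄R]) =
        Function.update (Fin.cons 0 fun i => D (b i)) 0 z := fun z => (Fin.update_cons_zero ..).symm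
    have key : ∀ c : A,
        (dA (p + 1) (exteriorPower.ιMulti A (p + 1) (Fin.cons (c • ω) fun i => D (b i))) : ExteriorAlgebra A (Ω[A⁄R])) =
          (dA 1 (sym (c • ω)) : ExteriorAlgebra A (Ω[A⁄R])) *
            ExteriorAlgebra.ιMulti A p (fun i => D (b i)) := by
      induction hspan.ge (Submodule.mem_top (x := ω)) using Submodule.span_induction with
      | mem z hz =>
        obtain ⟨e, rfl⟩ := hz
        intro c
        have hg : exteriorPower.ιMulti A (p + 1) (Fin.cons (c • D e) fun i => D (b i)) =
            DeRham.gen D (p + 1) c (Fin.cons e b) := by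
          rw [hu, AlternatingMap.map_update_smul, ← hu, Groth.Agent.Synt29.DRGen.gen_one_cons,
            DeRham.gen, DeRham.gen, one_smul]
        rw [hg, hdA.1, hd1, exteriorPower.ιMulti_apply_coe, ExteriorAlgebra.ιMulti_succ_apply,
          ExteriorAlgebra.ιMulti_succ_apply, mul_assoc]
        rfl
      | zero =>
        intro c
        rw [smul_zero, hu, AlternatingMap.map_update_zero, hzero]
        simp
      | add x y _ _ hx hy =>
        intro c
        rw [smul_add, hu, AlternatingMap.map_update_add, ← hu, ← hu, hadd, map_add, map_add,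
          Submodule.coe_add, Submodule.coe_add, add_mul, hx c, hy c]
      | smul r x _ hx => intro c; rw [smul_smul c r x]; exact hx _
    have := key 1
    rwa [one_smul] at this
  have hsurj : ∀ p, Function.Surjective (exteriorPower.map p π) := fun p =>
    exteriorPower.map_surjective hπ
  have hker' : ∀ p, LinearMap.ker ((exteriorPower.map p π).restrictScalars R) ≤
      LinearMap.ker ((exteriorPower.map (p + 1) π).restrictScalars R ∘ₗ dA p) := by
    intro p x hx
    rw [LinearMap.mem_ker, LinearMap.restrictScalars_apply] at hx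
    rw [LinearMap.mem_ker, LinearMap.comp_apply, LinearMap.restrictScalars_apply]
    cases p with
    | zero =>
      have hnat : ∀ y, exteriorPower.zeroEquiv A Ω' (exteriorPower.map 0 π y) =
          exteriorPower.zeroEquiv A (Ω[A⁄R]) y := LinearMap.congr_fun (exteriorPower.zeroEquiv_naturality π)
      have : x = 0 := (exteriorPower.zeroEquiv A (Ω[A⁄R])).injective (by rw [← hnat, hx, map_zero, map_zero])
      rw [this, map_zero, map_zero]
    | succ p =>
      -- the wedge with a kernel form
      have hωker : ∀ ω ∈ LinearMap.ker π, exteriorPower.map 2 π (dA 1 (sym ω)) = 0 := by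
        intro ω hω
        induction hker hω using Submodule.span_induction with
        | mem z hz => exact hz.2
        | zero => rw [hzero, map_zero, map_zero]
        | add x y hx hy ihx ihy =>
          have hπ' : ∀ z ∈ Submodule.span A {ω : Ω[A⁄R] | π ω = 0 ∧
              exteriorPower.map 2 π (dA 1 ((exteriorPower.oneEquiv A (Ω[A⁄R])).symm ω)) = 0}, π z = 0 :=
            fun z hz => (Submodule.span_le.2 (fun w hw => hw.1) : _ ≤ LinearMap.ker π) hz
          rw [hadd, map_add, map_add, ihx (hπ' x hx), ihy (hπ' y hy), add_zero]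
        | smul a x hx ihx =>
          have hπx : π x = 0 :=
            (Submodule.span_le.2 (fun w hw => hw.1) : _ ≤ LinearMap.ker π) hx
          have h0 := congrArg (Subtype.val) (ihx hπx)
          rw [hcoe, ZeroMemClass.coe_zero] at h0
          refine Subtype.ext ?_
          rw [hcoe, hL, map_add, map_smul, map_mul, ExteriorAlgebra.map_apply_ι, ExteriorAlgebra.map_apply_ι,
            hπx, map_zero, mul_zero, zero_add, h0, smul_zero, ZeroMemClass.coe_zero]
      have hgenker : ∀ (ω : Ω[A⁄R]), π ω = 0 → ∀ (a : A) (b : Fin p → A),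
          exteriorPower.map (p + 1 + 1) π (dA (p + 1)
            (a • exteriorPower.ιMulti A (p + 1) (Fin.cons ω fun i => D (b i)))) = 0 := by
        intro ω hω a b
        have hu : a • exteriorPower.ιMulti A (p + 1) (Fin.cons ω fun i => D (b i)) =
            exteriorPower.ιMulti A (p + 1) (Fin.cons (a • ω) fun i => D (b i)) := by
          have hc : ∀ z, (Fin.cons z fun i => D (b i) : Fin (p + 1) → Ω[A⁄R]) =
              Function.update (Fin.cons 0 fun i => D (b i)) 0 z := fun z => (Fin.update_cons_zero ..).symm
          rw [hc, hc (a • ω), AlternatingMap.map_update_smul]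
        have h0 := congrArg Subtype.val (hωker (a • ω) (by rw [LinearMap.mem_ker, map_smul, hω, smul_zero]))
        rw [hcoe, ZeroMemClass.coe_zero] at h0
        refine Subtype.ext ?_
        rw [hcoe, hu, hW, map_mul, h0, zero_mul, ZeroMemClass.coe_zero]
      have hgen2 : ∀ z ∈ Groth.Agent.Synt29.ExtKer.kerSpan π p, ∀ a : A,
          exteriorPower.map (p + 1 + 1) π (dA (p + 1) (a • z)) = 0 := by
        intro z hz
        induction hz using Submodule.span_induction with
        | mem z hz =>
          obtain ⟨ω, v, hω, rfl⟩ := hz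
          -- the wedge map `⋀^p → ⋀^(p+1)` by `ω`
          let L : ↥(⋀[A]^p (Ω[A⁄R])) →ₗ[A] ↥(⋀[A]^(p + 1) (Ω[A⁄R])) :=
            exteriorPower.alternatingMapLinearEquiv ((exteriorPower.ιMulti A (p + 1)).curryLeft ω)
          have hLv : ∀ w : Fin p → Ω[A⁄R],
              L (exteriorPower.ιMulti A p w) = exteriorPower.ιMulti A (p + 1) (Fin.cons ω w) := fun w => by
            simp only [L, exteriorPower.alternatingMapLinearEquiv_apply_ιMulti]
            rfl
          have key : ∀ y, exteriorPower.map (p + 1 + 1) π (dA (p + 1) (L y)) = 0 := by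
            refine Groth.Agent.Synt29.DRGen.gen_induction D hspan (by simp only [map_zero])
              (fun x y hx hy => by simp only [map_add, hx, hy, add_zero]) fun a b => ?_
            rw [DeRham.gen, map_smul, hLv]
            exact hgenker ω hω a b
          intro a
          rw [← hLv, ← map_smul]
          exact key _
        | zero => intro a; simp only [smul_zero, map_zero]
        | add x y _ _ hx hy => intro a; rw [smul_add, map_add, map_add, hx a, hy a, add_zero]
        | smul c x _ hx => intro a; rw [smul_smul]; exact hx _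
      have := hgen2 x (Groth.Agent.Synt29.ExtKer.ker_map_le π hπ p hx) 1
      rwa [one_smul] at this
  choose σ hσ using fun p => hsurj p
  let dd : ∀ p : ℕ, ↥(⋀[A]^p Ω') →ₗ[R] ↥(⋀[A]^(p + 1) Ω') := fun p =>
    (LinearMap.ker ((exteriorPower.map p π).restrictScalars R)).liftQ
        ((exteriorPower.map (p + 1) π).restrictScalars R ∘ₗ dA p) (hker' p) ∘ₗ
      (((exteriorPower.map p π).restrictScalars R).quotKerEquivOfSurjective (hsurj p)).symm.toLinearMap
  have hdd : ∀ (p : ℕ) (x : ↥(⋀[A]^p (Ω[A⁄R]))),
      dd p (exteriorPower.map p π x) = exteriorPower.map (p + 1) π (dA p x) := by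
    intro p x
    have : (((exteriorPower.map p π).restrictScalars R).quotKerEquivOfSurjective (hsurj p)).symm
        (exteriorPower.map p π x) = Submodule.Quotient.mk x := (LinearEquiv.symm_apply_eq _).2 rfl
    simp only [dd, LinearMap.comp_apply, LinearEquiv.coe_coe, this]
    rfl
  refine ⟨dd, ⟨fun p b₀ b => ?_, fun p => LinearMap.ext fun y => ?_⟩, hdd⟩
  · have hg : DeRham.gen (π.compDer D) p b₀ b = exteriorPower.map p π (DeRham.gen D p b₀ b) := by
      rw [DeRham.gen, DeRham.gen, map_smul, exteriorPower.map_apply_ιMulti]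
      rfl
    rw [hg, hdd, hdA.1, exteriorPower.map_apply_ιMulti, Fin.comp_cons]
    rfl
  · rw [← hσ p y, LinearMap.comp_apply, hdd, hdd]
    have := LinearMap.congr_fun (hdA.2 p) (σ p y)
    rw [LinearMap.comp_apply] at this
    rw [this]
    simp

end Groth.Agent.S15296
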