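import Groth.Statements.S15297
import Mathlib

set_option autoImplicit false
universe u
open DeRham

namespace Groth.Agent.S15297

open exteriorPower in
/-- Let R → A be a ring map and d a de Rham differential of the Kähler differentials of A over R. Then
each d from p-forms to (p+1)-forms, an R-linear map between A-modules, is a differential operator of
order at most 1 relative to R → A: every commutator of d with multiplication by an element of A is
A-linear. -/
theorem result (R A : Type u) [CommRing R] [CommRing A] [Algebra R A]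
    (d : ∀ p : ℕ, ↥(⋀[A]^p (Ω[A⁄R])) →ₗ[R] ↥(⋀[A]^(p + 1) (Ω[A⁄R])))
    (hd : DeRham.IsDiff (KaehlerDifferential.D R A) d) (p : ℕ) :
    Diff16.IsDiffOpLE R A ↥(⋀[A]^p (Ω[A⁄R])) ↥(⋀[A]^(p + 1) (Ω[A⁄R])) 1 (d p) := by
  show ∀ (b a : A) (m : ↥(⋀[A]^p (Ω[A⁄R]))),
    Diff16.commutator R A _ _ (d p) b (a • m) = a • Diff16.commutator R A _ _ (d p) b m
  intro b a m
  let δ := KaehlerDifferential.D R A
  have htop : Submodule.span A (Set.range fun bs : Fin p → A => ιMulti A p fun i => δ (bs i)) = ⊤ := by
    have hs : Submodule.span A (ιMulti A p '' {v : Fin p → Ω[A⁄R] | Set.range v ⊆ Set.range δ}) = ⊤ :=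
      ιMulti_span_of_span A p _ (KaehlerDifferential.span_range_derivation R A)
    rw [eq_top_iff, ← hs]
    refine Submodule.span_le.2 ?_
    rintro _ ⟨v, hv, rfl⟩
    choose bs hbs using fun i => hv ⟨i, rfl⟩
    exact Submodule.subset_span ⟨bs, by simp only [hbs]⟩
  have hm : m ∈ Submodule.span A (Set.range fun bs : Fin p → A => ιMulti A p fun i => δ (bs i)) := by
    rw [htop]; trivial
  have key : ∀ (c : A) (bs : Fin p → A),
      Diff16.commutator R A _ _ (d p) b (c • ιMulti A p fun i => δ (bs i)) =
        c • ιMulti A (p + 1) (Fin.cons (δ b) fun i => δ (bs i)) := by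
    intro c bs
    show d p (b • c • ιMulti A p fun i => δ (bs i)) - b • d p (c • ιMulti A p fun i => δ (bs i)) = _
    rw [smul_smul]
    change d p (DeRham.gen δ p (b * c) bs) - b • d p (DeRham.gen δ p c bs) = _
    rw [hd.1, hd.1, Derivation.leibniz]
    let M := (ιMulti A (p + 1) (M := Ω[A⁄R])).toMultilinearMap
    show M (Fin.cons (b • δ c + c • δ b) fun i => δ (bs i)) - b • M (Fin.cons (δ c) fun i => δ (bs i)) =
      c • M (Fin.cons (δ b) fun i => δ (bs i))
    rw [M.cons_add, M.cons_smul, M.cons_smul]
    abel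
  induction hm using Submodule.span_induction generalizing a with
  | mem x hx =>
    obtain ⟨bs, rfl⟩ := hx
    have h1 := key 1 bs
    rw [one_smul, one_smul] at h1
    rw [key, h1]
  | zero => simp
  | add x y _ _ hx hy =>
    rw [smul_add, map_add, map_add, hx a, hy a, smul_add]
  | smul c x _ hx =>
    rw [smul_smul, hx, hx c, smul_smul]

end Groth.Agent.S15297
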