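import Mathlib
import Groth.Statements.S15298
-- import your own Groth.Agent.* helpers here

set_option autoImplicit false
universe u
open CAlg

noncomputable section

namespace Groth.Agent.S15298

section helpers

open PowerSeries

variable {k A B : Type u} [CommRing k] [CommRing A] [CommRing B] [Algebra k A] [Algebra k B]
  (s : B →ₐ[k] A) (x : A)

/-- Evaluation of a polynomial through a section. -/
abbrev ev (P : Polynomial B) : A := Polynomial.eval₂ s.toRingHom x P

lemma ev_sub_mem {n : ℕ} {P Q : Polynomial B} (h : ∀ i < n, P.coeff i = Q.coeff i) :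
    ev s x P - ev s x Q ∈ Ideal.span {x} ^ n := by
  obtain ⟨D, hD⟩ : Polynomial.X ^ n ∣ P - Q :=
    Polynomial.X_pow_dvd_iff.mpr fun i hi => by rw [Polynomial.coeff_sub, h i hi, sub_self]
  rw [ev, ev, ← Polynomial.eval₂_sub, hD, Polynomial.eval₂_mul, Polynomial.eval₂_X_pow,
    Ideal.span_singleton_pow]
  exact Ideal.mul_mem_right _ _ (Ideal.mem_span_singleton_self _)

/-- The n-th approximation of the evaluation. -/
def app (n : ℕ) : PowerSeries B →ₐ[k] A ⧸ Ideal.span {x} ^ n where
  toFun f := Ideal.Quotient.mk _ (ev s x (trunc n f))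
  map_one' := by
    cases n with
    | zero =>
        haveI : Subsingleton (A ⧸ Ideal.span {x} ^ 0) :=
          Ideal.Quotient.subsingleton_iff.mpr (by rw [pow_zero, Ideal.one_eq_top])
        exact Subsingleton.elim _ _
    | succ n => rw [PowerSeries.trunc_one, ev, Polynomial.eval₂_one, map_one]
  map_mul' f g := by
    rw [← map_mul, Ideal.Quotient.eq, ev, ev, ev, ← Polynomial.eval₂_mul]
    refine ev_sub_mem s x fun i hi => ?_
    rw [← trunc_trunc_mul_trunc, coeff_trunc, if_pos hi, ← Polynomial.coe_mul, Polynomial.coeff_coe]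
  map_zero' := by rw [map_zero, ev, Polynomial.eval₂_zero, map_zero]
  map_add' f g := by rw [map_add, ev, ev, ev, Polynomial.eval₂_add, map_add]
  commutes' c := by
    cases n with
    | zero =>
        haveI : Subsingleton (A ⧸ Ideal.span {x} ^ 0) :=
          Ideal.Quotient.subsingleton_iff.mpr (by rw [pow_zero, Ideal.one_eq_top])
        exact Subsingleton.elim _ _
    | succ n =>
        rw [PowerSeries.algebraMap_apply, PowerSeries.trunc_C, ev, Polynomial.eval₂_C]
        exact congrArg (Ideal.Quotient.mk _) (s.commutes c)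

variable [IsAdicComplete (Ideal.span {x}) A]

lemma app_compat {m n : ℕ} (hle : m ≤ n) :
    (Ideal.Quotient.factorₐ k (Ideal.pow_le_pow_right hle)).comp (app s x n) = app s x m := by
  refine AlgHom.ext fun f => ?_
  change Ideal.Quotient.mk _ (ev s x (trunc n f)) = Ideal.Quotient.mk _ (ev s x (trunc m f))
  rw [Ideal.Quotient.eq]
  refine ev_sub_mem s x fun i hi => ?_
  rw [coeff_trunc, coeff_trunc, if_pos hi, if_pos (lt_of_lt_of_le hi hle)]

/-- Evaluation of power series. -/
def evalPS : PowerSeries B →ₐ[k] A :=
  ((AdicCompletion.ofAlgEquiv (Ideal.span {x})).symm.toAlgHom.restrictScalars k).comp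
    (AdicCompletion.liftAlgHom (Ideal.span {x}) (app s x) (app_compat s x))

lemma evalPS_sub_mem (f : PowerSeries B) (n : ℕ) :
    evalPS s x f - ev s x (trunc n f) ∈ Ideal.span {x} ^ n := by
  rw [← Ideal.Quotient.eq]
  set z := AdicCompletion.liftAlgHom (Ideal.span {x}) (app s x) (app_compat s x) f with hz
  have h1 : AdicCompletion.evalₐ (Ideal.span {x}) n z = app s x n f :=
    AdicCompletion.evalₐ_liftAlgHom _ _ _ _ _
  have h2 : AdicCompletion.ofAlgEquiv (Ideal.span {x}) (evalPS s x f) = z := by
    simp [evalPS, hz]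
  rw [← h2, AdicCompletion.ofAlgEquiv_apply] at h1
  rw [AdicCompletion.evalₐ_of] at h1
  exact h1

lemma eq_of_forall_sub_mem {a b : A} (h : ∀ n, a - b ∈ Ideal.span {x} ^ n) : a = b := by
  rw [← sub_eq_zero]
  refine IsHausdorff.haus' (I := Ideal.span {x}) _ fun n => ?_
  rw [SModEq.zero, smul_eq_mul, Ideal.mul_top]
  exact h n

lemma evalPS_X : evalPS s x PowerSeries.X = x := by
  refine eq_of_forall_sub_mem x fun n => ?_
  have h1 := evalPS_sub_mem s x PowerSeries.X (n + 2)
  rw [PowerSeries.trunc_X, ev, Polynomial.eval₂_X] at h1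
  exact Ideal.pow_le_pow_right (by omega) h1

lemma mk_evalPS (f : PowerSeries B) :
    evalPS s x f - s (PowerSeries.constantCoeff f) ∈ Ideal.span {x} := by
  have h1 := evalPS_sub_mem s x f 1
  rw [pow_one] at h1
  have h2 : trunc 1 f = Polynomial.C (PowerSeries.constantCoeff f) := by
    ext i
    rw [coeff_trunc, Polynomial.coeff_C]
    rcases i with _ | i <;> simp
  rwa [h2, ev, Polynomial.eval₂_C] at h1

end helpers

/-- Let k be a field, A a Noetherian k-algebra and x a non-zero-divisor of A such that A is separated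
and complete for the (x)-adic topology, and assume that B = A/xA is formally smooth over k. Then A
is a power series ring over B in the variable x: there is a k-algebra isomorphism e : B[[T]] ≅ A
with e(T) = x whose reduction modulo x is the constant-coefficient map, i.e. e(f) ≡ f(0) mod x for
every power series f. -/
theorem result (k A : Type u) [Field k]
    [CommRing A] [Algebra k A] [IsNoetherianRing A] (x : A) (hx : x ∈ nonZeroDivisors A)
    [IsAdicComplete (Ideal.span {x}) A] [Algebra.FormallySmooth k (A ⧸ Ideal.span {x})] :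
    ∃ e : PowerSeries (A ⧸ Ideal.span {x}) ≃ₐ[k] A,
      e PowerSeries.X = x ∧
      ∀ f : PowerSeries (A ⧸ Ideal.span {x}),
        Ideal.Quotient.mk (Ideal.span {x}) (e f) = PowerSeries.constantCoeff f := by
  obtain ⟨s, hs⟩ := Algebra.FormallySmooth.exists_mkₐ_comp_eq_of_isAdicComplete
    (AlgHom.id k (A ⧸ Ideal.span {x}))
  have hs' : ∀ b, Ideal.Quotient.mk (Ideal.span {x}) (s b) = b := fun b => AlgHom.congr_fun hs b
  have hres : ∀ f, Ideal.Quotient.mk (Ideal.span {x}) (evalPS s x f) = PowerSeries.constantCoeff f := by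
    intro f
    conv_rhs => rw [← hs' (PowerSeries.constantCoeff f)]
    exact Ideal.Quotient.eq.mpr (mk_evalPS s x f)
  have hinj : Function.Injective (evalPS s x) := by
    rw [injective_iff_map_eq_zero]
    intro f hf
    have hall : ∀ n, PowerSeries.X ^ n ∣ f := by
      intro n
      induction n with
      | zero => simp
      | succ n ih =>
          obtain ⟨g, rfl⟩ := ih
          rw [map_mul, map_pow, evalPS_X, mul_left_mem_nonZeroDivisors_eq_zero_iff (pow_mem hx n)] at hf
          have h0 : PowerSeries.constantCoeff g = 0 := by rw [← hres, hf, map_zero]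
          rw [pow_succ]
          exact mul_dvd_mul_left _ (PowerSeries.X_dvd_iff.mpr h0)
    ext n
    rw [map_zero]
    exact PowerSeries.X_pow_dvd_iff.mp (hall (n + 1)) n (Nat.lt_succ_self n)
  have hsurj : Function.Surjective (evalPS s x) := by
    intro a
    have hdiv : ∀ c : A, ∃ d, c = s (Ideal.Quotient.mk (Ideal.span {x}) c) + x * d := by
      intro c
      obtain ⟨d, hd⟩ := Ideal.mem_span_singleton.mp
        (Ideal.Quotient.eq.mp (hs' (Ideal.Quotient.mk (Ideal.span {x}) c)).symm)
      exact ⟨d, by rw [← hd]; ring⟩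
    choose q hq using hdiv
    let f : PowerSeries (A ⧸ Ideal.span {x}) :=
      PowerSeries.mk fun n => Ideal.Quotient.mk (Ideal.span {x}) (q^[n] a)
    have key : ∀ n, a = ev s x (PowerSeries.trunc n f) + x ^ n * q^[n] a := by
      intro n
      induction n with
      | zero =>
          have h0 : PowerSeries.trunc 0 f = 0 := by ext i; simp [PowerSeries.coeff_trunc]
          simp [h0, ev]
      | succ n ih =>
          conv_lhs => rw [ih, hq (q^[n] a), ← Function.iterate_succ_apply' q n a]
          rw [PowerSeries.trunc_succ, ev, ev, Polynomial.eval₂_add, Polynomial.eval₂_monomial]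
          simp only [f, PowerSeries.coeff_mk]
          rw [pow_succ]
          change _ = _ + s _ * x ^ n + _
          ring
    refine ⟨f, eq_of_forall_sub_mem x fun n => ?_⟩
    have h1 := evalPS_sub_mem s x f n
    have h2 : x ^ n * q^[n] a ∈ Ideal.span {x} ^ n :=
      Ideal.mul_mem_right _ _ (Ideal.pow_mem_pow (Ideal.mem_span_singleton_self x) n)
    have h3 := sub_mem h1 h2
    rwa [show evalPS s x f - ev s x (PowerSeries.trunc n f) - x ^ n * q^[n] a = evalPS s x f - a by
      conv_rhs => rw [key n]
      ring] at h3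
  refine ⟨AlgEquiv.ofBijective (evalPS s x) ⟨hinj, hsurj⟩, ?_, fun f => ?_⟩
  · exact evalPS_X s x
  · exact hres f

end Groth.Agent.S15298
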