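import Groth.Statements.S15299
import Groth.Agent.DRExt.Poincare

set_option autoImplicit false
universe u
open Omega

namespace Groth.Agent.S15299

/-- Let k be a field of characteristic zero, A = k[x_1, …, x_n] and Ω = Ω_{A/k}. Let d be a k-linear
endomorphism of the exterior algebra ⋀_A Ω which agrees with the universal derivation on A, sends
⋀^p Ω into ⋀^(p+1) Ω, is a graded derivation and satisfies d ∘ d = 0 (these properties characterise
the de Rham differential). Then the de Rham complex 0 → k → A → Ω → ⋀^2 Ω → ⋯ → ⋀^n Ω → 0 is exact: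
an element of A with d a = 0 is a constant, and every d-closed element of ⋀^(p+1) Ω is d of some
element of ⋀^p Ω. -/
theorem result (k : Type u) [Field k] [CharZero k] (n : ℕ)
    (d : ExteriorAlgebra (MvPolynomial (Fin n) k) (KaehlerDifferential k (MvPolynomial (Fin n) k)) →ₗ[k]
      ExteriorAlgebra (MvPolynomial (Fin n) k) (KaehlerDifferential k (MvPolynomial (Fin n) k)))
    (h0 : ∀ a : MvPolynomial (Fin n) k,
      d (algebraMap (MvPolynomial (Fin n) k) _ a) =
        ExteriorAlgebra.ι (MvPolynomial (Fin n) k) (KaehlerDifferential.D k (MvPolynomial (Fin n) k) a))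
    (hdeg : ∀ (p : ℕ) (ω : ExteriorAlgebra (MvPolynomial (Fin n) k) (KaehlerDifferential k (MvPolynomial (Fin n) k))),
      ω ∈ ExteriorAlgebra.exteriorPower (MvPolynomial (Fin n) k) p (KaehlerDifferential k (MvPolynomial (Fin n) k)) →
        d ω ∈ ExteriorAlgebra.exteriorPower (MvPolynomial (Fin n) k) (p + 1) (KaehlerDifferential k (MvPolynomial (Fin n) k)))
    (hder : ∀ (p : ℕ) (ω η : ExteriorAlgebra (MvPolynomial (Fin n) k) (KaehlerDifferential k (MvPolynomial (Fin n) k))),
      ω ∈ ExteriorAlgebra.exteriorPower (MvPolynomial (Fin n) k) p (KaehlerDifferential k (MvPolynomial (Fin n) k)) →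
        d (ω * η) = d ω * η + (-1) ^ p * ω * d η)
    (hdd : ∀ ω, d (d ω) = 0) :
    (∀ a : MvPolynomial (Fin n) k, d (algebraMap (MvPolynomial (Fin n) k) _ a) = 0 →
        ∃ c : k, a = MvPolynomial.C c) ∧
    ∀ (p : ℕ) (ω : ExteriorAlgebra (MvPolynomial (Fin n) k) (KaehlerDifferential k (MvPolynomial (Fin n) k))),
      ω ∈ ExteriorAlgebra.exteriorPower (MvPolynomial (Fin n) k) (p + 1) (KaehlerDifferential k (MvPolynomial (Fin n) k)) →
        d ω = 0 →
          ∃ θ ∈ ExteriorAlgebra.exteriorPower (MvPolynomial (Fin n) k) p (KaehlerDifferential k (MvPolynomial (Fin n) k)),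
            d θ = ω := by
  have hd := Groth.Agent.DRExt.unique d h0 hder hdd
  subst hd
  exact ⟨fun a h => Groth.Agent.DRExt.closed_zero k n h,
    fun p ω hω h => Groth.Agent.DRExt.exact_succ k n hω h⟩


end Groth.Agent.S15299
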