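import Groth.Statements.S15300
import Mathlib
import Groth.Agent.H9Misc.MLSeq

set_option autoImplicit false
universe u
open HomAlg3

namespace Groth.Agent.S15300

open Groth.Agent.TowerLib

open CategoryTheory CategoryTheory.Limits Opposite in
/-- For abelian groups, let (A_n)_n be a tower of cochain complexes of abelian groups, indexed by the
natural numbers, all of whose transition maps A_{n+1}^p → A_n^p are surjective. Then for every p
there is a short exact sequence 0 → lim¹_n h^(p-1)(A_n) → h^p(lim_n A_n) → lim_n h^p(A_n) → 0: the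
comparison map h^p(lim A_n) → lim h^p(A_n) is surjective and its kernel is isomorphic to lim¹ of the
tower of the (p-1)-st cohomology groups (existence of an isomorphism only). (The published statement
is made in an axiomatic setting that also covers quasi-coherent sheaves; this row is the case of
abelian groups.) -/
theorem result
    (K : ℕᵒᵖ ⥤ HomologicalComplex AddCommGrpCat.{u} (ComplexShape.up ℤ))
    (hK : ∀ (n : ℕ) (q : ℤ), Function.Surjective ((K.map (homOfLE (Nat.le_succ n)).op).f q).hom)
    (p q : ℤ) (hqp : q + 1 = p) :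
    Function.Surjective (limit.post K (HomologicalComplex.homologyFunctor _ _ p)).hom ∧
      Nonempty ((limit.post K (HomologicalComplex.homologyFunctor _ _ p)).hom.ker ≃+
        Formal2.limOne (fun n => (K.obj (op n)).homology q)
          (fun n => (HomologicalComplex.homologyMap (K.map (homOfLE (Nat.le_succ n)).op) q).hom)) := by
  obtain rfl : q = p - 1 := by lia
  have hML : ∀ i : ℤ, ((K ⋙ HomologicalComplex.eval _ _ i) ⋙ forget AddCommGrpCat).IsMittagLeffler := by
    intro i
    have hsur : ∀ {a b : ℕ} (h : a ≤ b), Function.Surjective ((K.map (homOfLE h).op).f i).hom := by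
      intro a b h
      induction h with
      | refl =>
        intro x
        exact ⟨x, ConcreteCategory.congr_hom (congrArg (fun φ => φ.f i) (K.map_id (op a))) x⟩
      | @step b h ih =>
        intro x
        obtain ⟨y, rfl⟩ := ih x
        obtain ⟨z, rfl⟩ := hK b i y
        exact ⟨z, ConcreteCategory.congr_hom (congrArg (fun φ => φ.f i)
          (K.map_comp (homOfLE (Nat.le_succ b)).op (homOfLE h).op)) z⟩
    exact Functor.isMittagLeffler_of_surjective _ fun a b f => hsur (leOfHom f.unop)
  refine ⟨surjective_post K p (hML (p - 1)), ?_⟩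
  let G : ℤ → ℕ → Type u := fun i n => (K.obj (op n)).X i
  let t : ∀ i n, G i (n + 1) →+ G i n := fun i n => ((K.map (homOfLE (Nat.le_succ n)).op).f i).hom
  let dd : (∀ n, G (p - 1) n) →+ (∀ n, G p n) :=
    AddMonoidHom.mk' (fun x n => (K.obj (op n)).d (p - 1) p (x n))
      (fun x y => funext fun n => map_add ((K.obj (op n)).d (p - 1) p).hom _ _)
  let S : AddSubgroup (∀ n, G (p - 1) n) := ((Formal2.towerDiff (G p) (t p)).comp dd).ker
  have dnat : ∀ (n : ℕ) (i j : ℤ) (x : G i (n + 1)),
      (K.obj (op n)).d i j (t i n x) = t j n ((K.obj (op (n + 1))).d i j x) := fun n i j x =>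
    ConcreteCategory.congr_hom ((K.map (homOfLE (Nat.le_succ n)).op).comm i j) x
  have hS : ∀ (x : S) n, t p n (dd x.1 (n + 1)) = dd x.1 n := fun x n =>
    (sub_eq_zero.1 (congrFun x.2 n)).symm
  -- the class in the cohomology of the limit
  have hA : ∀ x : S, ∃ w : (limit K).cycles p,
      ∀ n, (limit.π K (op n)).f p ((limit K).iCycles p w) = dd x.1 n := by
    intro x
    obtain ⟨y, hy⟩ := exists_lim K p (fun n => dd x.1 n) (hS x)
    obtain ⟨w, hw⟩ := exists_cycle (limit K) p y (p + 1) rfl (lim_ext K (p + 1) _ _ fun n => by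
      rw [map_zero]
      refine (ConcreteCategory.congr_hom ((limit.π K (op n)).comm p (p + 1)).symm y).trans ?_
      refine (congrArg ((K.obj (op n)).d p (p + 1)) (hy n)).trans ?_
      exact ConcreteCategory.congr_hom ((K.obj (op n)).d_comp_d (p - 1) p (p + 1)) (x.1 n))
    exact ⟨w, fun n => by rw [hw]; exact hy n⟩
  choose A hA using hA
  let α : S →+ (limit K).homology p :=
    AddMonoidHom.mk' (fun x => (limit K).homologyπ p (A x)) (fun x y => by
      refine (congrArg _ ?_).trans (map_add ((limit K).homologyπ p).hom _ _)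
      apply iCycles_injective
      refine (lim_ext K p _ _ fun n => ?_).trans (map_add ((limit K).iCycles p).hom _ _).symm
      refine (hA _ n).trans (Eq.trans ?_ (map_add ((limit.π K (op n)).f p).hom _ _).symm)
      exact (congrFun (map_add dd x.1 y.1) n).trans (congrArg₂ (· + ·) (hA x n) (hA y n)).symm)
  -- the class in `lim¹`
  have hB : ∀ (x : S) (n : ℕ), ∃ w : (K.obj (op n)).cycles (p - 1),
      (K.obj (op n)).iCycles (p - 1) w = x.1 n - t (p - 1) n (x.1 (n + 1)) := fun x n => by
    refine exists_cycle _ (p - 1) _ p (by lia) ?_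
    refine (map_sub ((K.obj (op n)).d (p - 1) p).hom _ _).trans (sub_eq_zero.2 ?_)
    exact (hS x n).symm.trans (dnat n (p - 1) p (x.1 (n + 1))).symm
  choose B hB using hB
  let H : ℕ → Type u := fun n => (K.obj (op n)).homology (p - 1)
  let tH : ∀ n, H (n + 1) →+ H n := fun n =>
    (HomologicalComplex.homologyMap (K.map (homOfLE (Nat.le_succ n)).op) (p - 1)).hom
  let β₀ : S →+ (∀ n, H n) :=
    AddMonoidHom.mk' (fun x n => (K.obj (op n)).homologyπ (p - 1) (B x n)) (fun x y => funext fun n => by
      refine (congrArg _ ?_).trans (map_add ((K.obj (op n)).homologyπ (p - 1)).hom _ _)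
      apply iCycles_injective
      refine (hB _ n).trans (Eq.trans ?_ (map_add ((K.obj (op n)).iCycles (p - 1)).hom _ _).symm)
      refine Eq.trans ?_ (congrArg₂ (· + ·) (hB x n) (hB y n)).symm
      show x.1 n + y.1 n - t (p - 1) n (x.1 (n + 1) + y.1 (n + 1)) = _
      rw [map_add]; abel)
  let β : S →+ Formal2.limOne H tH := (QuotientAddGroup.mk' _).comp β₀
  have hiC : ∀ (n : ℕ) (w : (K.obj (op (n + 1))).cycles (p - 1)),
      (K.obj (op n)).iCycles (p - 1) (tr (cyc K (p - 1)) (Nat.le_succ n) w) =
        t (p - 1) n ((K.obj (op (n + 1))).iCycles (p - 1) w) := fun n w =>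
    ConcreteCategory.congr_hom
      (HomologicalComplex.cyclesMap_i (K.map (homOfLE (Nat.le_succ n)).op) (p - 1)) w
  -- solving `x - t x = y`
  have solve : ∀ (i : ℤ) (y : ∀ n, G i n), ∃ x : ∀ n, G i n,
      ∀ n, x n - t i n (x (n + 1)) = y n := by
    intro i y
    choose g hg using fun n (z : G i n) => hK n i (z - y n)
    refine ⟨fun n => Nat.rec 0 g n, fun n => ?_⟩
    show _ - t i n (g n _) = _
    rw [show t i n (g n _) = _ from hg n _, sub_sub_cancel]
  have hβ : Function.Surjective β := by
    intro h
    obtain ⟨h, rfl⟩ := QuotientAddGroup.mk'_surjective _ h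
    choose w hw using fun n => exists_cycle_rep (K.obj (op n)) (p - 1) (h n)
    obtain ⟨x, hx⟩ := solve (p - 1) fun n => (K.obj (op n)).iCycles (p - 1) (w n)
    have hxS : x ∈ S := funext fun n => by
      show dd x n - t p n (dd x (n + 1)) = 0
      rw [show t p n (dd x (n + 1)) = _ from (dnat n (p - 1) p (x (n + 1))).symm]
      refine (map_sub ((K.obj (op n)).d (p - 1) p).hom _ _).symm.trans ?_
      exact (congrArg _ (hx n)).trans (ConcreteCategory.congr_hom ((K.obj (op n)).iCycles_d (p - 1) p) (w n))
    refine ⟨⟨x, hxS⟩, congrArg _ (funext fun n => ?_)⟩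
    refine Eq.trans (congrArg ((K.obj (op n)).homologyπ (p - 1)) ?_) (hw n)
    exact iCycles_injective _ _ ((hB ⟨x, hxS⟩ n).trans (hx n))
  let φ := limit.post K (HomologicalComplex.homologyFunctor AddCommGrpCat.{u} (ComplexShape.up ℤ) p)
  have hα : α.range = φ.hom.ker := by
    ext h
    constructor
    · rintro ⟨x, rfl⟩
      refine Concrete.limit_ext _ _ _ fun ⟨n⟩ => ?_
      refine (ConcreteCategory.congr_hom
        (limit.post_π K (HomologicalComplex.homologyFunctor _ _ p) (op n)) _).trans ?_
      refine Eq.trans ?_ (map_zero (limit.π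
        (K ⋙ HomologicalComplex.homologyFunctor AddCommGrpCat.{u} (ComplexShape.up ℤ) p) (op n)).hom).symm
      refine (ConcreteCategory.congr_hom
        (HomologicalComplex.homologyπ_naturality (limit.π K (op n)) p) (A x)).trans ?_
      refine (congrArg ((K.obj (op n)).homologyπ p) (iCycles_injective _ _ ?_)).trans
        (homologyπ_toCycles _ p (p - 1) (x.1 n))
      refine (ConcreteCategory.congr_hom (HomologicalComplex.cyclesMap_i (limit.π K (op n)) p) _).trans ?_
      exact (hA x n).trans (ConcreteCategory.congr_hom ((K.obj (op n)).toCycles_i (p - 1) p) _).symm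
    · intro hh
      obtain ⟨w, rfl⟩ := exists_cycle_rep _ p h
      have hne : ∀ n, ∃ y, (K.obj (op n)).d (p - 1) p y =
          (limit.π K (op n)).f p ((limit K).iCycles p w) := by
        intro n
        obtain ⟨y, hy⟩ := exists_boundary _ p (HomologicalComplex.cyclesMap (limit.π K (op n)) p w) (by
          refine (ConcreteCategory.congr_hom
            (HomologicalComplex.homologyπ_naturality (limit.π K (op n)) p) w).symm.trans ?_
          refine (ConcreteCategory.congr_hom
            (limit.post_π K (HomologicalComplex.homologyFunctor _ _ p) (op n)) _).symm.trans ?_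
          exact (congrArg (limit.π (K ⋙ HomologicalComplex.homologyFunctor _ _ p) (op n)) hh).trans
            (map_zero (limit.π (K ⋙ HomologicalComplex.homologyFunctor _ _ p) (op n)).hom))
        refine ⟨y, (ConcreteCategory.congr_hom ((K.obj (op n)).toCycles_i (p - 1) p) y).symm.trans ?_⟩
        refine (congrArg ((K.obj (op n)).iCycles p) hy).trans ?_
        exact ConcreteCategory.congr_hom (HomologicalComplex.cyclesMap_i (limit.π K (op n)) p) w
      choose y hy using hne
      have hyS : y ∈ S := funext fun n => by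
        show (K.obj (op n)).d (p - 1) p (y n) -
          t p n ((K.obj (op (n + 1))).d (p - 1) p (y (n + 1))) = 0
        rw [hy, hy, sub_eq_zero]
        exact (ConcreteCategory.congr_hom (congrArg (fun ψ => ψ.f p)
          (limit.w K (homOfLE (Nat.le_succ n)).op)) ((limit K).iCycles p w)).symm
      refine ⟨⟨y, hyS⟩, congrArg ((limit K).homologyπ p) (iCycles_injective _ _ (lim_ext K p _ _ fun n => ?_))⟩
      exact (hA ⟨y, hyS⟩ n).trans (hy n)
  have hker : α.ker = β.ker := by
    ext x
    constructor
    · intro hx
      obtain ⟨Y, hY⟩ := exists_boundary _ p (A x) hx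
      have hz : ∀ n, ∃ z : (K.obj (op n)).cycles (p - 1), (K.obj (op n)).iCycles (p - 1) z =
          x.1 n - (limit.π K (op n)).f (p - 1) Y := fun n => by
        refine exists_cycle _ (p - 1) _ p (by lia) ?_
        refine (map_sub ((K.obj (op n)).d (p - 1) p).hom _ _).trans (sub_eq_zero.2 ?_)
        refine (hA x n).symm.trans ?_
        refine Eq.trans ?_ (ConcreteCategory.congr_hom ((limit.π K (op n)).comm (p - 1) p) Y).symm
        refine congrArg _ ?_
        exact (congrArg _ hY).symm.trans (ConcreteCategory.congr_hom ((limit K).toCycles_i (p - 1) p) Y)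
      choose z hz using hz
      refine (QuotientAddGroup.eq_zero_iff _).2 ⟨fun n => (K.obj (op n)).homologyπ (p - 1) (z n),
        funext fun n => ?_⟩
      show (K.obj (op n)).homologyπ (p - 1) (z n) -
        tH n ((K.obj (op (n + 1))).homologyπ (p - 1) (z (n + 1))) = _
      rw [show tH n _ = _ from (homologyπ_tr K (p - 1) (Nat.le_succ n) (z (n + 1))).symm]
      refine (map_sub ((K.obj (op n)).homologyπ (p - 1)).hom _ _).symm.trans (congrArg _ ?_)
      apply iCycles_injective
      refine (map_sub ((K.obj (op n)).iCycles (p - 1)).hom _ _).trans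
        (Eq.trans ?_ (hB x n).symm)
      refine (congrArg₂ (· - ·) (hz n)
        ((hiC n (z (n + 1))).trans ((congrArg _ (hz (n + 1))).trans (map_sub (t (p - 1) n) _ _)))).trans ?_
      rw [show t (p - 1) n ((limit.π K (op (n + 1))).f (p - 1) Y) = _ from
        ConcreteCategory.congr_hom (congrArg (fun ψ => ψ.f (p - 1))
          (limit.w K (homOfLE (Nat.le_succ n)).op)) Y]
      exact sub_sub_sub_cancel_right _ _ _
    · intro hx
      obtain ⟨h, hh⟩ := (QuotientAddGroup.eq_zero_iff _).1 hx
      choose z hz using fun n => exists_cycle_rep (K.obj (op n)) (p - 1) (h n)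
      have he : ∀ n, ∃ e, (K.obj (op n)).toCycles (p - 1 - 1) (p - 1) e =
          B x n - (z n - (HomologicalComplex.cyclesMap (K.map (homOfLE (Nat.le_succ n)).op) (p - 1)).hom
            (z (n + 1))) := fun n => by
        refine exists_boundary _ _ _ ?_
        refine (map_sub ((K.obj (op n)).homologyπ (p - 1)).hom _ _).trans (sub_eq_zero.2 ?_)
        refine (congrFun hh n).symm.trans ?_
        refine (congrArg₂ (· - ·) (hz n).symm ?_).trans
          (map_sub ((K.obj (op n)).homologyπ (p - 1)).hom _ _).symm
        exact (congrArg (tH n) (hz (n + 1)).symm).trans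
          (homologyπ_tr K (p - 1) (Nat.le_succ n) (z (n + 1))).symm
      choose e he using he
      obtain ⟨f, hf⟩ := solve (p - 1 - 1) e
      let y : ∀ n, G (p - 1) n := fun n => x.1 n - (K.obj (op n)).iCycles (p - 1) (z n) -
        (K.obj (op n)).d (p - 1 - 1) (p - 1) (f n)
      obtain ⟨Y, hY⟩ := exists_lim K (p - 1) y (fun n => by
        show t (p - 1) n (y (n + 1)) = y n
        have h1 : (K.obj (op n)).d (p - 1 - 1) (p - 1) (f n) -
            t (p - 1) n ((K.obj (op (n + 1))).d (p - 1 - 1) (p - 1) (f (n + 1))) =
            (x.1 n - t (p - 1) n (x.1 (n + 1))) - ((K.obj (op n)).iCycles (p - 1) (z n) -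
              t (p - 1) n ((K.obj (op (n + 1))).iCycles (p - 1) (z (n + 1)))) := by
          rw [← dnat n (p - 1 - 1) (p - 1) (f (n + 1)), ← hB, ← hiC]
          refine (map_sub ((K.obj (op n)).d (p - 1 - 1) (p - 1)).hom _ _).symm.trans ?_
          refine (congrArg _ (hf n)).trans ?_
          refine (ConcreteCategory.congr_hom ((K.obj (op n)).toCycles_i _ _) (e n)).symm.trans ?_
          refine (congrArg _ (he n)).trans ?_
          exact (map_sub ((K.obj (op n)).iCycles (p - 1)).hom _ _).trans
            (congrArg _ (map_sub ((K.obj (op n)).iCycles (p - 1)).hom _ _))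
        simp only [y, map_sub]
        rw [← sub_eq_zero]
        rw [← sub_eq_zero] at h1
        refine Eq.trans ?_ h1
        abel)
      refine (congrArg ((limit K).homologyπ p) ?_).trans (homologyπ_toCycles _ p (p - 1) Y)
      apply iCycles_injective
      refine lim_ext K p _ _ fun n => ?_
      refine (hA x n).trans ?_
      refine Eq.trans ?_ (congrArg ((limit.π K (op n)).f p)
        (ConcreteCategory.congr_hom ((limit K).toCycles_i (p - 1) p) Y)).symm
      refine Eq.trans ?_ (ConcreteCategory.congr_hom ((limit.π K (op n)).comm (p - 1) p) Y)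
      refine Eq.trans ?_ (congrArg ((K.obj (op n)).d (p - 1) p) (hY n)).symm
      refine Eq.trans ?_ (map_sub ((K.obj (op n)).d (p - 1) p).hom _ _).symm
      refine Eq.trans ?_ (congrArg₂ (· - ·) (map_sub ((K.obj (op n)).d (p - 1) p).hom _ _).symm
        (ConcreteCategory.congr_hom ((K.obj (op n)).d_comp_d (p - 1 - 1) (p - 1) p) (f n)).symm)
      refine Eq.trans ?_ (congrArg (fun a => (K.obj (op n)).d (p - 1) p (x.1 n) - a - 0)
        (ConcreteCategory.congr_hom ((K.obj (op n)).iCycles_d (p - 1) p) (z n)).symm)
      exact ((sub_zero _).trans (sub_zero _)).symm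
  exact ⟨(AddEquiv.addSubgroupCongr hα.symm).trans ((QuotientAddGroup.quotientKerEquivRange α).symm.trans
    ((QuotientAddGroup.quotientAddEquivOfEq hker).trans
      (QuotientAddGroup.quotientKerEquivOfSurjective β hβ)))⟩

end Groth.Agent.S15300
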