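import Groth.Statements.S15302
import Mathlib

set_option autoImplicit false
universe v u
open HomAlg3

namespace Groth.Agent.S15302

open CategoryTheory CategoryTheory.Limits in
/-- In an abelian category with enough injectives, let α : G ⟶ F be a morphism and I an injective
resolution of F. Then G has an injective resolution J together with a morphism of cochain complexes
β : J ⟶ I lying over α (the augmentations commute with α and β) such that for every p there are an
object K^p and an isomorphism J^p ≅ I^p ⊕ K^p identifying β^p with the projection onto the first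
factor (so K^p is injective as well). (The published statement is for abelian sheaves on a
topological space; its proof uses only an embedding of G into an injective object and cokernels, so
the row is stated in any abelian category with enough injectives.) -/
theorem result {C : Type u} [Category.{v} C] [Abelian C]
    [EnoughInjectives C] {G F : C} (α : G ⟶ F) (I : InjectiveResolution F) :
    ∃ (J : InjectiveResolution G) (β : J.cocomplex ⟶ I.cocomplex),
      J.ι ≫ β = (CochainComplex.single₀ C).map α ≫ I.ι ∧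
      ∀ p : ℕ, ∃ (K : C) (e : J.cocomplex.X p ≅ I.cocomplex.X p ⊞ K), β.f p = e.hom ≫ biprod.fst := by
  have inst : ∀ (W : C), Injective (Injective.under W) := fun _ => inferInstance
  let Φ : ℕ → Type _ := fun p => { P : Σ G : C, (G ⟶ I.cocomplex.X p) // P.2 ≫ I.cocomplex.d p (p + 1) = 0 }
  let jof : ∀ p (P : Φ p), P.1.1 ⟶ I.cocomplex.X p ⊞ Injective.under P.1.1 :=
    fun p P => biprod.lift P.1.2 (Injective.ι _)
  have hcond : ∀ p (P : Φ p),
      jof p P ≫ biprod.fst ≫ I.cocomplex.d p (p + 1) = 0 := fun p P => by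
    simpa [jof] using P.2
  let next : ∀ p, Φ p → Φ (p + 1) := fun p P => ⟨⟨cokernel (jof p P), cokernel.desc _ _ (hcond p P)⟩, by
    rw [← cancel_epi (cokernel.π (jof p P))]
    simp⟩
  let P₀ : Φ 0 := ⟨⟨G, α ≫ I.ι.f 0⟩, by
    have h := I.ι.comm 0 1
    simp at h
    simp [h]⟩
  let P : ∀ p, Φ p := fun p => Nat.rec P₀ next p
  let X : ℕ → C := fun p => I.cocomplex.X p ⊞ Injective.under (P p).1.1
  let d : ∀ p, X p ⟶ X (p + 1) := fun p => cokernel.π (jof p (P p)) ≫ jof (p + 1) (P (p + 1))
  have hd : ∀ p, d p ≫ d (p + 1) = 0 := fun p => by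
    show (cokernel.π (jof p (P p)) ≫ jof (p + 1) (P (p + 1))) ≫
      cokernel.π (jof (p + 1) (P (p + 1))) ≫ jof (p + 1 + 1) (P (p + 1 + 1)) = 0
    rw [Category.assoc, cokernel.condition_assoc, zero_comp, comp_zero]
  let J : CochainComplex C ℕ := CochainComplex.of X d hd
  haveI : ∀ n, Injective (J.X n) := fun n => (inferInstance : Injective (X n))
  have hJd : ∀ n, J.d n (n + 1) = d n := fun n => CochainComplex.of_d X d n
  have hmono : ∀ p, Mono (jof p (P p)) := fun p => by
    haveI : Mono (jof p (P p) ≫ biprod.snd) := by simp [jof]; infer_instance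
    exact mono_of_mono (jof p (P p)) biprod.snd
  have hex : ∀ p, (ShortComplex.mk (d p) (d (p + 1)) (hd p)).Exact := fun p => by
    haveI := hmono (p + 1 + 1)
    let S₁ := ShortComplex.mk (jof (p + 1) (P (p + 1))) (cokernel.π _) (cokernel.condition _)
    let S₂ := ShortComplex.mk (d p) (d (p + 1)) (hd p)
    let S₃ := ShortComplex.mk (jof (p + 1) (P (p + 1))) (d (p + 1))
      (by show _ ≫ cokernel.π _ ≫ _ = 0; rw [cokernel.condition_assoc, zero_comp])
    let f₁₃ : S₁ ⟶ S₃ := { τ₁ := 𝟙 _, τ₂ := 𝟙 _, τ₃ := jof (p + 1 + 1) (P (p + 1 + 1)), comm₂₃ := Category.id_comp _ }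
    haveI : Epi f₁₃.τ₁ := inferInstanceAs (Epi (𝟙 _))
    haveI : IsIso f₁₃.τ₂ := inferInstanceAs (IsIso (𝟙 _))
    haveI : Mono f₁₃.τ₃ := hmono _
    have h₃ : S₃.Exact := (ShortComplex.exact_iff_of_epi_of_isIso_of_mono f₁₃).1 (ShortComplex.exact_cokernel _)
    let f₂₃ : S₂ ⟶ S₃ := { τ₁ := cokernel.π (jof p (P p)), τ₂ := 𝟙 _, τ₃ := 𝟙 _, comm₁₂ := (Category.comp_id _).symm }
    haveI : Epi f₂₃.τ₁ := inferInstanceAs (Epi (cokernel.π _))
    haveI : IsIso f₂₃.τ₂ := inferInstanceAs (IsIso (𝟙 _))
    haveI : Mono f₂₃.τ₃ := inferInstanceAs (Mono (𝟙 _))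
    exact (ShortComplex.exact_iff_of_epi_of_isIso_of_mono f₂₃).2 h₃
  have hι0 : jof 0 (P 0) ≫ J.d 0 1 = 0 := by
    rw [hJd 0]
    show _ ≫ cokernel.π _ ≫ _ = 0
    rw [cokernel.condition_assoc, zero_comp]
  let ι : (CochainComplex.single₀ C).obj G ⟶ J := (CochainComplex.fromSingle₀Equiv _ _).symm ⟨jof 0 (P 0), hι0⟩
  haveI : QuasiIso ι := ⟨fun n => by
    cases n
    · rw [CochainComplex.quasiIsoAt₀_iff, ShortComplex.quasiIso_iff_of_zeros]
      · haveI := hmono 0
        haveI := hmono 1
        have h₃ : (ShortComplex.mk (jof 0 (P 0)) (d 0) (hJd 0 ▸ hι0)).Exact := by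
          let S₁ := ShortComplex.mk (jof 0 (P 0)) (cokernel.π _) (cokernel.condition _)
          let S₃ := ShortComplex.mk (jof 0 (P 0)) (d 0) (hJd 0 ▸ hι0)
          let f₁₃ : S₁ ⟶ S₃ := { τ₁ := 𝟙 _, τ₂ := 𝟙 _, τ₃ := jof 1 (P 1), comm₂₃ := Category.id_comp _ }
          haveI : Epi f₁₃.τ₁ := inferInstanceAs (Epi (𝟙 _))
          haveI : IsIso f₁₃.τ₂ := inferInstanceAs (IsIso (𝟙 _))
          haveI : Mono f₁₃.τ₃ := hmono _
          exact (ShortComplex.exact_iff_of_epi_of_isIso_of_mono f₁₃).1 (ShortComplex.exact_cokernel _)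
        refine (ShortComplex.exact_and_mono_f_iff_of_iso ?_).2 ⟨h₃, hmono 0⟩
        refine ShortComplex.isoMk (Iso.refl _) (Iso.refl _) (Iso.refl _) ?_ ?_
        · simp [ι]
          erw [Category.id_comp, Category.comp_id]
        · simp [← hJd 0]
          erw [Category.id_comp, Category.comp_id]
      all_goals rfl
    · rename_i n
      rw [quasiIsoAt_iff_exactAt]
      · rw [J.exactAt_iff' n (n + 1) (n + 1 + 1) (by simp) (by simp)]
        refine (ShortComplex.exact_iff_of_iso (ShortComplex.isoMk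
          (S₁ := HomologicalComplex.sc' J n (n + 1) (n + 1 + 1)) (S₂ := ShortComplex.mk (d n) (d (n + 1)) (hd n))
          (Iso.refl _) (Iso.refl _) (Iso.refl _) ?_ ?_)).2 (hex n)
        · erw [Category.id_comp, Category.comp_id]; exact (hJd n).symm
        · erw [Category.id_comp, Category.comp_id]; exact (hJd (n + 1)).symm
      · apply CochainComplex.exactAt_succ_single_obj⟩
  let β : J ⟶ I.cocomplex :=
    { f := fun p => (biprod.fst : X p ⟶ I.cocomplex.X p)
      comm' := fun p q (h : p + 1 = q) => by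
        subst h
        rw [hJd]
        show biprod.fst ≫ _ = (cokernel.π _ ≫ jof (p + 1) (P (p + 1))) ≫ biprod.fst
        simp only [jof, Category.assoc, biprod.lift_fst]
        exact (cokernel.π_desc _ _ (hcond p (P p))).symm }
  refine ⟨{ cocomplex := J, ι := ι }, β, ?_, fun p => ⟨_, Iso.refl _, (Category.id_comp _).symm⟩⟩
  refine HomologicalComplex.from_single_hom_ext ?_
  simp [ι, β, jof, P, P₀]

end Groth.Agent.S15302
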