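import Groth.Statements.S15303
import Groth.Agent.EtLC12.CutEtale
import Mathlib.AlgebraicGeometry.Morphisms.Etale
import Mathlib.AlgebraicGeometry.Morphisms.ClosedImmersion
import Mathlib.AlgebraicGeometry.Morphisms.FormallyUnramified
import Mathlib.AlgebraicGeometry.Morphisms.Smooth
-- import your own Groth.Agent.* helpers here

set_option autoImplicit false
set_option backward.isDefEq.respectTransparency false
set_option backward.isDefEq.respectTransparency.types false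
universe u
open EtBase

namespace Groth.Agent.S15303

open CategoryTheory AlgebraicGeometry in
/-- Let k be a field of characteristic zero, X and Y smooth k-schemes, f : X ⟶ Y a smooth k-morphism and
i : Z ⟶ X a closed immersion such that the composite Z ⟶ Y is again a closed immersion. Then for
every point z of Z there are an open neighbourhood U of i(z) in X and a closed subscheme j : W ⟶ U
of U which is étale over Y (through U ⊆ X ⟶ Y) and contains Z ∩ U, i.e. the restriction of i over U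
factors through j. -/
theorem result (k : Type u) [Field k] [CharZero k]
    {X Y Z : Scheme.{u}} [X.Over (Spec (CommRingCat.of k))] [Y.Over (Spec (CommRingCat.of k))]
    [Smooth (X ↘ Spec (CommRingCat.of k))] [Smooth (Y ↘ Spec (CommRingCat.of k))]
    (f : X ⟶ Y) [f.IsOver (Spec (CommRingCat.of k))] [Smooth f]
    (i : Z ⟶ X) [IsClosedImmersion i] [IsClosedImmersion (i ≫ f)] (z : Z) :
    ∃ (U : X.Opens) (_ : i.base z ∈ U) (W : Scheme.{u}) (j : W ⟶ (U : Scheme.{u})) (_ : IsClosedImmersion j)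
      (_ : Etale (j ≫ U.ι ≫ f)) (g : ((i ⁻¹ᵁ U : Z.Opens) : Scheme.{u}) ⟶ W), g ≫ j = i ∣_ U := by
  obtain ⟨Y0, hY0, hyY0, -⟩ := TopologicalSpace.Opens.isBasis_iff_nbhd.mp Y.isBasis_affineOpens
    (TopologicalSpace.Opens.mem_top (f.base (i.base z)))
  obtain ⟨V, hV, hxV, e⟩ := TopologicalSpace.Opens.isBasis_iff_nbhd.mp X.isBasis_affineOpens
    (show i.base z ∈ f ⁻¹ᵁ Y0 from hyY0)
  replace hV : IsAffineOpen V := hV
  replace hY0 : IsAffineOpen Y0 := hY0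
  have hC : IsAffineOpen (i ⁻¹ᵁ V) := hV.preimage i
  let φ : Γ(Y, Y0) ⟶ Γ(X, V) := f.appLE Y0 V e
  letI : Algebra Γ(Y, Y0) Γ(X, V) := φ.hom.toAlgebra
  haveI : Algebra.Smooth Γ(Y, Y0) Γ(X, V) := f.smooth_appLE hY0 hV e
  let ψ : Γ(X, V) ⟶ Γ(Z, i ⁻¹ᵁ V) := i.app V
  have hψ : Function.Surjective ψ := i.app_surjective V hV
  letI : Algebra Γ(Y, Y0) Γ(Z, i ⁻¹ᵁ V) := (φ ≫ ψ).hom.toAlgebra
  haveI : Algebra.FormallyUnramified Γ(Y, Y0) Γ(Z, i ⁻¹ᵁ V) := by
    have e' : i ⁻¹ᵁ V ≤ (i ≫ f) ⁻¹ᵁ Y0 := fun w hw => e hw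
    have h := (i ≫ f).formallyUnramified_appLE hY0 hC e'
    have heq : (i ≫ f).appLE Y0 (i ⁻¹ᵁ V) e' = φ ≫ ψ := by
      rw [← Scheme.Hom.appLE_comp_appLE i f Y0 V (i ⁻¹ᵁ V) e le_rfl]
      exact congrArg (φ ≫ ·) (Scheme.Hom.app_eq_appLE i).symm
    rw [heq] at h
    exact h
  let ψ' : Γ(X, V) →ₐ[Γ(Y, Y0)] Γ(Z, i ⁻¹ᵁ V) := { ψ.hom with commutes' := fun _ => rfl }
  let I : Ideal Γ(X, V) := RingHom.ker ψ'
  haveI : Algebra.FormallyUnramified Γ(Y, Y0) (Γ(X, V) ⧸ I) :=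
    Algebra.FormallyUnramified.of_equiv (Ideal.quotientKerAlgEquivOfSurjective (f := ψ') hψ).symm
  let q := hV.primeIdealOf ⟨i.base z, hxV⟩
  have hq : hV.fromSpec.base q = i.base z := hV.fromSpec_primeIdealOf ⟨i.base z, hxV⟩
  have hbas : ∀ b : Γ(X, V), i.base z ∈ X.basicOpen b ↔ b ∉ q.asIdeal := fun b => by
    rw [← hq]
    show q ∈ hV.fromSpec ⁻¹ᵁ X.basicOpen b ↔ _
    rw [hV.fromSpec_preimage_basicOpen]
    rfl
  have hIq : I ≤ q.asIdeal := by
    intro b hb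
    by_contra hbq
    have h1 : z ∈ i ⁻¹ᵁ X.basicOpen b := (hbas b).mpr hbq
    rw [Scheme.preimage_basicOpen, show i.app V b = 0 from hb, Scheme.basicOpen_zero] at h1
    exact h1
  obtain ⟨g, hg, κ, _, fs, hfs, hEt⟩ := Groth.Agent.EtLC12.CutEtale.exists_etale_cut (R := Γ(Y, Y0)) I q.asIdeal hIq
  let L := Localization.Away g
  let J : Ideal L := Ideal.span (Set.range fun t => algebraMap Γ(X, V) L (fs t))
  let am : Γ(X, V) ⟶ CommRingCat.of L := CommRingCat.ofHom (algebraMap Γ(X, V) L)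
  let mk : CommRingCat.of L ⟶ CommRingCat.of (L ⧸ J) := CommRingCat.ofHom (Ideal.Quotient.mk J)
  haveI : IsOpenImmersion (Spec.map am) := IsOpenImmersion.of_isLocalization g
  let σ : Spec (CommRingCat.of L) ⟶ X := Spec.map am ≫ hV.fromSpec
  let U : X.Opens := σ.opensRange
  have hxU : i.base z ∈ U := by
    obtain ⟨p, hp⟩ : q ∈ Set.range (PrimeSpectrum.comap (algebraMap Γ(X, V) L)) := by
      rw [PrimeSpectrum.localization_away_comap_range L g]
      exact hg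
    exact ⟨p, (congrArg hV.fromSpec.base hp).trans hq⟩
  haveI : IsClosedImmersion (Spec.map mk) :=
    IsClosedImmersion.spec_of_surjective mk Ideal.Quotient.mk_surjective
  have hι : σ.isoOpensRange.hom ≫ U.ι = σ := σ.isoOpensRange_hom_ι
  have het : Etale ((Spec.map mk ≫ σ.isoOpensRange.hom) ≫ U.ι ≫ f) := by
    rw [Category.assoc, reassoc_of% hι]
    show Etale (Spec.map mk ≫ Spec.map am ≫ hV.fromSpec ≫ f)
    rw [← hY0.SpecMap_appLE_fromSpec f hV e, ← Spec.map_comp_assoc, ← Spec.map_comp_assoc]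
    haveI : Etale (Spec.map ((φ ≫ am) ≫ mk)) := by
      rw [HasRingHomProperty.Spec_iff (P := @Etale)]
      have h : (algebraMap Γ(Y, Y0) (L ⧸ J)) = ((φ ≫ am) ≫ mk).hom := rfl
      rw [← h]
      exact RingHom.etale_algebraMap.mpr hEt
    infer_instance
  -- the factorisation of `Z ∩ U` through the closed subscheme
  let T : Scheme.{u} := (i ⁻¹ᵁ U : Z.Opens)
  let h : T ⟶ Spec (CommRingCat.of L) := (i ∣_ U) ≫ σ.isoOpensRange.inv
  have hTV : i ⁻¹ᵁ U ≤ i ⁻¹ᵁ V := by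
    rintro w ⟨p, hp⟩
    exact hV.range_fromSpec.le ⟨_, hp⟩
  let k : T ⟶ Spec Γ(X, V) := Z.homOfLE hTV ≫ (i ⁻¹ᵁ V).toSpecΓ ≫ Spec.map ψ
  have hhk : h ≫ Spec.map am = k := by
    rw [← cancel_mono hV.fromSpec]
    show (h ≫ Spec.map am) ≫ hV.fromSpec = k ≫ hV.fromSpec
    have e1 : Spec.map ψ ≫ hV.fromSpec = hC.fromSpec ≫ i := by
      rw [show ψ = i.appLE V (i ⁻¹ᵁ V) le_rfl from Scheme.Hom.app_eq_appLE i,
        hV.SpecMap_appLE_fromSpec i hC le_rfl]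
    simp only [k, Category.assoc, e1, hC.toSpecΓ_fromSpec_assoc, Scheme.homOfLE_ι_assoc]
    show h ≫ σ = _
    rw [← hι, Category.assoc, σ.isoOpensRange.inv_hom_id_assoc, morphismRestrict_ι]
  let α : L →+* Γ(T, ⊤) := ((Scheme.ΓSpecIso (CommRingCat.of L)).inv ≫ h.appTop).hom
  have hα : ∀ b : Γ(X, V), α (algebraMap Γ(X, V) L b) =
      ((Scheme.ΓSpecIso Γ(X, V)).inv ≫ k.appTop).hom b := by
    intro b
    rw [← hhk, Scheme.Hom.comp_appTop, ← Category.assoc, ← Scheme.ΓSpecIso_inv_naturality am]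
    rfl
  have hJ : J ≤ RingHom.ker α := by
    rw [Ideal.span_le]
    rintro _ ⟨t, rfl⟩
    show α (algebraMap Γ(X, V) L (fs t)) = 0
    rw [hα]
    have e2 : (Scheme.ΓSpecIso Γ(X, V)).inv ≫ k.appTop = ψ ≫ (Scheme.ΓSpecIso _).inv ≫
        (Z.homOfLE hTV ≫ (i ⁻¹ᵁ V).toSpecΓ).appTop := by
      rw [show k = (Z.homOfLE hTV ≫ (i ⁻¹ᵁ V).toSpecΓ) ≫ Spec.map ψ from (Category.assoc _ _ _).symm,
        Scheme.Hom.comp_appTop (Z.homOfLE hTV ≫ (i ⁻¹ᵁ V).toSpecΓ) (Spec.map ψ), ← Category.assoc,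
        ← Scheme.ΓSpecIso_inv_naturality ψ, Category.assoc]
    rw [e2]
    show ((Scheme.ΓSpecIso _).inv ≫ (Z.homOfLE hTV ≫ (i ⁻¹ᵁ V).toSpecΓ).appTop).hom (ψ (fs t)) = 0
    rw [show ψ (fs t) = 0 from hfs t, map_zero]
  refine ⟨U, hxU, Spec (CommRingCat.of (L ⧸ J)), Spec.map mk ≫ σ.isoOpensRange.hom, inferInstance, het,
    T.toSpecΓ ≫ Spec.map (CommRingCat.ofHom (Ideal.Quotient.lift J α hJ)), ?_⟩
  rw [Category.assoc, ← Spec.map_comp_assoc]
  have e3 : mk ≫ CommRingCat.ofHom (Ideal.Quotient.lift J α hJ) =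
      (Scheme.ΓSpecIso (CommRingCat.of L)).inv ≫ h.appTop := CommRingCat.hom_ext (RingHom.ext fun _ => rfl)
  rw [e3, Spec.map_comp, Category.assoc, ← Scheme.toSpecΓ_naturality_assoc h]
  have e4 : (Spec (CommRingCat.of L)).toSpecΓ ≫ Spec.map (Scheme.ΓSpecIso (CommRingCat.of L)).inv = 𝟙 _ := by
    rw [← SpecMap_ΓSpecIso_hom, ← Spec.map_comp, Iso.inv_hom_id, Spec.map_id]
  rw [reassoc_of% e4]
  simp [h]

end Groth.Agent.S15303
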