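import Groth.Statements.S15307
import Groth.Agent.TowerLib.LimVanish

set_option autoImplicit false
universe u
open HomAlg3

namespace Groth.Agent.S15307

open CategoryTheory CategoryTheory.Limits in
/-- For abelian groups, for an inverse system (A_n) of abelian groups indexed by the natural numbers,
the right derived functors lim^(i) A_n of the inverse limit vanish for every i ≥ 2. (The two
instance hypotheses, enough injectives in the category of towers of abelian groups and additivity of
the limit functor, always hold. The published statement is made in an axiomatic setting that also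
covers quasi-coherent sheaves; this row is the case of abelian groups.) -/
theorem result
    [EnoughInjectives (ℕᵒᵖ ⥤ AddCommGrpCat.{u})]
    [(lim : (ℕᵒᵖ ⥤ AddCommGrpCat.{u}) ⥤ AddCommGrpCat.{u}).Additive]
    (A : ℕᵒᵖ ⥤ AddCommGrpCat.{u}) (i : ℕ) (hi : 2 ≤ i) :
    IsZero (((lim : (ℕᵒᵖ ⥤ AddCommGrpCat.{u}) ⥤ AddCommGrpCat.{u}).rightDerived i).obj A) := by
  obtain ⟨k, rfl⟩ : ∃ k, i = k + 2 := ⟨i - 2, by omega⟩
  exact Groth.Agent.TowerLib.isZero_rightDerived A k

end Groth.Agent.S15307
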