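import Groth.Statements.S15311
import Groth.Agent.Synt29.AffineDR
import Groth.Agent.Synt29.PolyPoincare

set_option autoImplicit false
universe u
open DeRhamSh

namespace Groth.Agent.S15311

open CategoryTheory AlgebraicGeometry TopologicalSpace in
/-- Let k be a field of characteristic zero and n ≥ 0. Then the algebraic de Rham cohomology of affine
n-space Spec k[x_1, …, x_n] over k, the hypercohomology of its de Rham complex, vanishes in every
degree i ≠ 0, and in degree 0 it is additively isomorphic to k (existence of an additive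
isomorphism; the identification of H^0 with the constants is canonical). (The published computation
also gives the de Rham homology of affine space; this row is the cohomology statement, for any de
Rham complex of affine n-space over k.) -/
theorem result (k : Type u) [Field k] [CharZero k] (n : ℕ)
    [QuasiSeparated (Spec.map (CommRingCat.ofHom (algebraMap k (MvPolynomial (Fin n) k))))]
    (D : DeRhamSh.OmegaCx (Spec.map (CommRingCat.ofHom (algebraMap k (MvPolynomial (Fin n) k)))))
    [HasDerivedCategory.{u} (Sheaf (Opens.grothendieckTopology ↥(Spec (CommRingCat.of (MvPolynomial (Fin n) k)))) AddCommGrpCat.{u})] :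
    (∀ i : ℤ, i ≠ 0 → Subsingleton (DeRhamSh.HdR D i)) ∧ Nonempty (DeRhamSh.HdR D 0 ≃+ k) := by
  classical
  obtain ⟨d, hrule, hdd, hH⟩ := Groth.Agent.Synt29.AffineDR.exists_affine k (MvPolynomial (Fin n) k) D
  obtain ⟨hex, hconst⟩ := Groth.Agent.Synt29.PolyPoincare.poincare k n d hrule hdd
  refine ⟨fun i hi => ?_, ?_⟩
  · rcases lt_or_ge i 0 with hneg | hpos
    · haveI : D.KZ.IsStrictlyGE 0 := (CochainComplex.isStrictlyGE_iff _ 0).2 fun j hj =>
        D.K.isZero_extend_X ComplexShape.embeddingUpNat j fun l hl => by simp at hl; omega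
      exact Groth.Agent.DLim.subsingleton_HDU_of_isGE (DerivedCategory.Q.obj D.KZ) 0 i hneg _
    · obtain ⟨m, rfl⟩ : ∃ m : ℕ, ((m + 1 : ℕ) : ℤ) = i := ⟨i.toNat - 1, by omega⟩
      obtain ⟨Φ, hΦs, hΦk⟩ := hH (m + 1)
      refine subsingleton_of_forall_eq 0 fun x => ?_
      obtain ⟨ω, rfl⟩ := hΦs x
      obtain ⟨η, hη⟩ := hex m ω.1 ω.2
      exact (hΦk ω).2 (.inr ⟨m, rfl, η, hη⟩)
  · obtain ⟨Φ, hΦs, hΦk⟩ := hH 0
    let e0 : ↥(⋀[MvPolynomial (Fin n) k]^0 (Ω[MvPolynomial (Fin n) k⁄k])) :=
      exteriorPower.ιMulti _ 0 (fun i => Fin.elim0 i)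
    have hker : ∀ a : k, d 0 ((MvPolynomial.C a : MvPolynomial (Fin n) k) • e0) = 0 := fun a => by
      have h := hrule 0 (MvPolynomial.C a) (fun i => Fin.elim0 i)
      have he : (MvPolynomial.C a : MvPolynomial (Fin n) k) • e0 =
          DeRham.gen (KaehlerDifferential.D k (MvPolynomial (Fin n) k)) 0 (MvPolynomial.C a) (fun i => Fin.elim0 i) := by
        show _ = _ • exteriorPower.ιMulti _ 0 _
        congr 2
      rw [he, h]
      refine (exteriorPower.ιMulti _ 1).map_coord_zero (i := 0) ?_
      rw [Fin.cons_zero, show (MvPolynomial.C a : MvPolynomial (Fin n) k) = algebraMap k _ a from rfl,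
        Derivation.map_algebraMap]
    let c : k →+ (d 0).ker := AddMonoidHom.mk' (fun a => ⟨(MvPolynomial.C a : MvPolynomial (Fin n) k) • e0, hker a⟩)
      (fun a b => Subtype.ext (by simp [add_smul]))
    have hc : Function.Bijective (Φ.comp c) := by
      refine ⟨(injective_iff_map_eq_zero _).2 fun a ha => ?_, hΦs.comp fun x => ?_⟩
      · rcases (hΦk _).1 ha with ⟨-, h⟩ | ⟨m, h, -⟩
        · have h1 := congrArg (exteriorPower.zeroEquiv (MvPolynomial (Fin n) k) (Ω[MvPolynomial (Fin n) k⁄k])) h
          simpa [c, e0] using h1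
        · omega
      · obtain ⟨a, ha⟩ := hconst x.1 x.2
        exact ⟨a, Subtype.ext ha⟩
    exact ⟨(AddEquiv.ofBijective _ hc).symm⟩

end Groth.Agent.S15311
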