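import Groth.Statements.S15315
import Groth.Agent.ArLefLib.Length
-- import your own Groth.Agent.* helpers here

set_option autoImplicit false
universe u
open ArLef

namespace Groth.Agent.S15315

/-- For a Noetherian commutative ring A, elements a, b with a a non-zero-divisor on A/(b), and an ideal
I, one has length(A/(aI + bA)) = length(A/(a, b)) + length(A/(I + bA)) as extended natural numbers;
in particular when two of the three quotients have finite length so does the third. -/
theorem result (A : Type u) [CommRing A] [IsNoetherianRing A] (a b : A) (I : Ideal A)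
    (ha : IsSMulRegular (A ⧸ Ideal.span ({b} : Set A)) a) :
    Module.length A (A ⧸ (Ideal.span {a} * I ⊔ Ideal.span {b})) =
      Module.length A (A ⧸ Ideal.span ({a, b} : Set A)) + Module.length A (A ⧸ (I ⊔ Ideal.span {b})) := by
    refine (ArLefLib.length_quot_eq_add (J := Ideal.span {a, b}) (K := I ⊔ Ideal.span {b}) a ?_ ?_).trans (add_comm _ _)
    · refine le_antisymm (Ideal.span_le.2 (Set.pair_subset ?_ ?_)) (sup_le (sup_le ?_ ?_) ?_)
      · exact Submodule.mem_sup_right (Ideal.subset_span rfl)
      · exact Submodule.mem_sup_left (Submodule.mem_sup_right (Ideal.subset_span rfl))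
      · exact le_trans (show Ideal.span {a} * I ≤ Ideal.span {a} from Ideal.mul_le_left) (Ideal.span_mono (by simp))
      · exact Ideal.span_mono (by simp)
      · exact Ideal.span_mono (by simp)
    · intro x
      constructor
      · intro hx
        obtain ⟨i, hi, c, hc, rfl⟩ := Submodule.mem_sup.1 hx
        rw [add_mul]
        exact add_mem (Submodule.mem_sup_left (mul_comm a i ▸ Ideal.mul_mem_mul (Ideal.subset_span rfl) hi))
          (Submodule.mem_sup_right (Ideal.mul_mem_right _ _ hc))
      · intro hx
        obtain ⟨y, hy, c, hc, h⟩ := Submodule.mem_sup.1 hx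
        obtain ⟨i, hi, rfl⟩ := Ideal.mem_span_singleton_mul.1 hy
        have : (Submodule.Quotient.mk (x - i) : A ⧸ Ideal.span ({b} : Set A)) = 0 := by
          refine ha ?_
          change a • (Submodule.Quotient.mk (x - i) : A ⧸ Ideal.span ({b} : Set A)) = a • 0
          rw [smul_zero, ← Submodule.Quotient.mk_smul, Submodule.Quotient.mk_eq_zero, smul_eq_mul,
            show a * (x - i) = c by linear_combination -h]
          exact hc
        rw [Submodule.Quotient.mk_eq_zero] at this
        exact Submodule.mem_sup.2 ⟨i, hi, x - i, this, add_sub_cancel _ _⟩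

end Groth.Agent.S15315
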