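import Groth.Statements.S15316
import Groth.Agent.ArLefLib.Apps
-- import your own Groth.Agent.* helpers here

set_option autoImplicit false
universe u
open ArLef ArLef.NodeAlg

namespace Groth.Agent.S15316

/-- Let B be a discrete valuation ring with uniformizer π and N = B[[t, e]]/(te - π) the complete local
ring of a semi-stable arithmetic surface at a singular point of the closed fibre. A ring
automorphism σ of N with σ(π) associated to π (for instance a B-algebra automorphism, or one lying
over an automorphism of B) either stabilizes the two branches, σ(t) = α t and σ(e) = β e for units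
α, β, or switches them, σ(t) = α e and σ(e) = β t for units α, β. (The published setting has B
complete with algebraically closed residue field and σ linear over B or over an automorphism of B;
the argument uses only that σ(π) generates (π).) -/
theorem result (B : Type u) [CommRing B] [IsDomain B] [IsDiscreteValuationRing B] (π : B) (hπ : Irreducible π)
    (σ : ArLef.NodeAlg B π ≃+* ArLef.NodeAlg B π)
    (hσ : Associated (σ (algebraMap B (ArLef.NodeAlg B π) π)) (algebraMap B (ArLef.NodeAlg B π) π)) :
    (∃ α β : (ArLef.NodeAlg B π)ˣ, σ (ArLef.NodeAlg.t π) = (α : ArLef.NodeAlg B π) * ArLef.NodeAlg.t π ∧ σ (ArLef.NodeAlg.e π) = (β : ArLef.NodeAlg B π) * ArLef.NodeAlg.e π) ∨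
      (∃ α β : (ArLef.NodeAlg B π)ˣ, σ (ArLef.NodeAlg.t π) = (α : ArLef.NodeAlg B π) * ArLef.NodeAlg.e π ∧ σ (ArLef.NodeAlg.e π) = (β : ArLef.NodeAlg B π) * ArLef.NodeAlg.t π) := by
    have hmx := ArLefLib.Node.hmax hπ
    haveI := ArLefLib.Node.isDomain hmx hπ.ne_zero
    have hpt := ArLefLib.Node.prime_t hmx (ArLefLib.Node.t_ne_zero hmx)
    have hpe := ArLefLib.Node.prime_e hmx (ArLefLib.Node.e_ne_zero hmx)
    have hst : Prime (σ (ArLef.NodeAlg.t π)) := (MulEquiv.prime_iff (e := σ)).2 hpt
    rw [ArLefLib.Node.map_pi_eq, ← ArLefLib.Node.t_mul_e] at hσ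
    have key : ∀ x y : ArLef.NodeAlg B π, x ≠ 0 → Associated (σ (ArLef.NodeAlg.t π)) x →
        Associated (σ (ArLef.NodeAlg.t π) * σ (ArLef.NodeAlg.e π)) (x * y) →
        ∃ α β : (ArLef.NodeAlg B π)ˣ, σ (ArLef.NodeAlg.t π) = α * x ∧ σ (ArLef.NodeAlg.e π) = β * y := by
      intro x y hx h1 h
      obtain ⟨u, hu⟩ := h1.symm
      obtain ⟨w, hw⟩ := (Associated.of_mul_left h h1 hst.ne_zero).symm
      exact ⟨u, w, by rw [← hu]; ring, by rw [← hw]; ring⟩
    rcases hst.dvd_or_dvd ((Dvd.intro _ rfl).trans hσ.dvd) with h | h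
    · exact Or.inl (key _ _ hpt.ne_zero (hst.associated_of_dvd hpt h) hσ)
    · exact Or.inr (key _ _ hpe.ne_zero (hst.associated_of_dvd hpe h)
        (by rwa [mul_comm (ArLef.NodeAlg.e π)]))

end Groth.Agent.S15316
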