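import Groth.Statements.S15317
import Groth.Agent.ArLefLib.Apps
-- import your own Groth.Agent.* helpers here

set_option autoImplicit false
universe u
open ArLef ArLef.NodeAlg

namespace Groth.Agent.S15317

/-- Let B be a discrete valuation ring with uniformizer π, N = B[[t, e]]/(te - π), and σ a non-trivial
B-algebra automorphism of N stabilizing both branches of the closed fibre (σ(t) associated to t,
σ(e) associated to e). Then the fixed-point ideal of σ, generated by all σ(r) - r, is g·(t, e) for a
non-zero g: the divisorial part of the fixed locus is cut out by g and its residual part is the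
reduced closed point, of multiplicity one. (Stated in the complete local ring, where the published
argument takes place; the published setting has B complete with algebraically closed residue field.) -/
theorem result (B : Type u) [CommRing B] [IsDomain B] [IsDiscreteValuationRing B] (π : B) (hπ : Irreducible π)
    (σ : ArLef.NodeAlg B π ≃ₐ[B] ArLef.NodeAlg B π) (hσ : σ ≠ AlgEquiv.refl)
    (ht : Associated (σ (ArLef.NodeAlg.t π)) (ArLef.NodeAlg.t π))
    (he : Associated (σ (ArLef.NodeAlg.e π)) (ArLef.NodeAlg.e π)) :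
    ∃ g : ArLef.NodeAlg B π, g ≠ 0 ∧
      ArLef.fixIdeal σ = Ideal.span {g} * Ideal.span ({ArLef.NodeAlg.t π, ArLef.NodeAlg.e π} : Set (ArLef.NodeAlg B π)) := by
    have hmx := ArLefLib.Node.hmax hπ
    haveI := ArLefLib.Node.isDomain hmx hπ.ne_zero
    obtain ⟨u, hu⟩ := ht.symm
    obtain ⟨w, hw⟩ := he.symm
    have h1 : (u : ArLef.NodeAlg B π) * w = 1 := by
      apply mul_left_cancel₀ (ArLefLib.Node.pi_ne_zero hπ)
      rw [mul_one]
      conv_rhs => rw [← σ.commutes π, ArLefLib.Node.map_pi_eq, ← hu, ← hw]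
      rw [← ArLefLib.Node.t_mul_e]; ring
    have hfix : ArLef.fixIdeal σ = Ideal.span {(u : ArLef.NodeAlg B π) - 1} *
        Ideal.span ({ArLef.NodeAlg.t π, ArLef.NodeAlg.e π} : Set (ArLef.NodeAlg B π)) := by
      refine le_antisymm (ArLefLib.node_fixIdeal_le hmx σ.toRingEquiv.toRingHom (fun b => ?_) ?_ ?_) ?_
      · change σ (algebraMap B _ b) - algebraMap B _ b ∈ _
        rw [σ.commutes, sub_self]; exact zero_mem _
      · change σ (ArLef.NodeAlg.t π) - ArLef.NodeAlg.t π ∈ _
        rw [← hu, show ArLef.NodeAlg.t π * u - ArLef.NodeAlg.t π = ((u : ArLef.NodeAlg B π) - 1) * ArLef.NodeAlg.t π by ring]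
        exact Ideal.mul_mem_mul (Ideal.subset_span rfl) (Ideal.subset_span (by simp))
      · change σ (ArLef.NodeAlg.e π) - ArLef.NodeAlg.e π ∈ _
        rw [← hw, show ArLef.NodeAlg.e π * w - ArLef.NodeAlg.e π =
          ((u : ArLef.NodeAlg B π) - 1) * ((-w) * ArLef.NodeAlg.e π) by linear_combination ArLef.NodeAlg.e π * h1]
        exact Ideal.mul_mem_mul (Ideal.subset_span rfl) (Ideal.mul_mem_left _ _ (Ideal.subset_span (by simp)))
      · rw [Ideal.span_mul_span', Ideal.span_le]
        rintro _ ⟨x, hx, y, hy, rfl⟩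
        obtain rfl : x = (u : ArLef.NodeAlg B π) - 1 := hx
        rcases hy with hy | hy
        · rw [SetLike.mem_coe]
          change ((u : ArLef.NodeAlg B π) - 1) * y ∈ _
          rw [hy, show ((u : ArLef.NodeAlg B π) - 1) * ArLef.NodeAlg.t π = σ (ArLef.NodeAlg.t π) - ArLef.NodeAlg.t π by rw [← hu]; ring]
          exact ArLefLib.sub_mem_fixIdeal σ _
        · rw [SetLike.mem_coe]
          change ((u : ArLef.NodeAlg B π) - 1) * y ∈ _
          rw [show y = ArLef.NodeAlg.e π from hy, show ((u : ArLef.NodeAlg B π) - 1) * ArLef.NodeAlg.e π =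
            (-u : ArLef.NodeAlg B π) * (σ (ArLef.NodeAlg.e π) - ArLef.NodeAlg.e π) by
              rw [← hw]; linear_combination ArLef.NodeAlg.e π * h1]
          exact Ideal.mul_mem_left _ _ (ArLefLib.sub_mem_fixIdeal σ _)
    refine ⟨_, fun h => hσ (AlgEquiv.ext fun r => sub_eq_zero.1 ?_), hfix⟩
    have := ArLefLib.sub_mem_fixIdeal σ r
    rw [hfix, h, Ideal.span_singleton_eq_bot.2 rfl, Ideal.bot_mul] at this
    exact this

end Groth.Agent.S15317
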