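import Groth.Statements.S15318
import Groth.Agent.ArLefLib.Apps
-- import your own Groth.Agent.* helpers here

set_option autoImplicit false
universe u
open ArLef ArLef.NodeAlg

namespace Groth.Agent.S15318

/-- Let B be a discrete valuation ring with uniformizer π, N = B[[t, e]]/(te - π), and σ a B-algebra
automorphism of N switching the two branches of the closed fibre (σ(t) associated to e, σ(e)
associated to t). Then the fixed-point ideal of σ is principal, generated by an element h of order
one (h is not in (t, e)²), and π is a non-zero-divisor modulo h: the fixed locus is a horizontal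
regular divisor through the point with empty residual part. (Stated in the complete local ring,
where the published argument takes place; the published setting has B complete with algebraically
closed residue field.) -/
theorem result (B : Type u) [CommRing B] [IsDomain B] [IsDiscreteValuationRing B] (π : B) (hπ : Irreducible π)
    (σ : ArLef.NodeAlg B π ≃ₐ[B] ArLef.NodeAlg B π)
    (ht : Associated (σ (ArLef.NodeAlg.t π)) (ArLef.NodeAlg.e π))
    (he : Associated (σ (ArLef.NodeAlg.e π)) (ArLef.NodeAlg.t π)) :
    ∃ h : ArLef.NodeAlg B π, ArLef.fixIdeal σ = Ideal.span {h} ∧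
      h ∉ (Ideal.span ({ArLef.NodeAlg.t π, ArLef.NodeAlg.e π} : Set (ArLef.NodeAlg B π))) ^ 2 ∧
      IsSMulRegular (ArLef.NodeAlg B π ⧸ Ideal.span ({h} : Set (ArLef.NodeAlg B π))) π := by
    have hmx := ArLefLib.Node.hmax hπ
    haveI := ArLefLib.Node.isDomain hmx hπ.ne_zero
    obtain ⟨u, hu⟩ := ht.symm
    obtain ⟨w, hw⟩ := he.symm
    have h1 : (u : ArLef.NodeAlg B π) * w = 1 := by
      apply mul_left_cancel₀ (ArLefLib.Node.pi_ne_zero hπ)
      rw [mul_one]
      conv_rhs => rw [← σ.commutes π, ArLefLib.Node.map_pi_eq, ← hu, ← hw]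
      rw [← ArLefLib.Node.t_mul_e]; ring
    set t := ArLef.NodeAlg.t π
    set e := ArLef.NodeAlg.e π
    set h := σ t - t with hh
    have hb1 : ArLefLib.Node.branch hmx 1 h = PowerSeries.X * ArLefLib.Node.branch hmx 1 (u : ArLef.NodeAlg B π) := by
      rw [hh, ← hu]; simp [t, e]
    have hb0 : ArLefLib.Node.branch hmx 0 h = -PowerSeries.X := by
      rw [hh, ← hu]; simp [t, e]
    refine ⟨h, le_antisymm (ArLefLib.node_fixIdeal_le hmx σ.toRingEquiv.toRingHom (fun b => ?_) ?_ ?_)
      (Ideal.span_le.2 (Set.singleton_subset_iff.2 (ArLefLib.sub_mem_fixIdeal σ _))), ?_, ?_⟩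
    · change σ (algebraMap B _ b) - algebraMap B _ b ∈ _
      rw [σ.commutes, sub_self]; exact zero_mem _
    · exact Ideal.subset_span rfl
    · refine Ideal.mem_span_singleton'.2 ⟨-w, ?_⟩
      change -(w : ArLef.NodeAlg B π) * h = σ e - e
      rw [hh, ← hu, ← hw]; linear_combination -e * h1
    · intro hm
      have h2 := Ideal.mem_map_of_mem (ArLefLib.Node.branch hmx 0) hm
      rw [Ideal.map_pow, hb0] at h2
      have h3 : (Ideal.span ({t, e} : Set (ArLef.NodeAlg B π))).map (ArLefLib.Node.branch hmx 0) ≤
          Ideal.span {(PowerSeries.X : PowerSeries (IsLocalRing.ResidueField B))} := by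
        rw [Ideal.map_span, Ideal.span_le]
        rintro _ ⟨y, hy | hy, rfl⟩
        · rw [hy]; simp [t, Ideal.mem_span_singleton]
        · rw [show y = e from hy]; simp [e]
      have h4 := Ideal.pow_right_mono h3 2 h2
      rw [Ideal.span_singleton_pow, Ideal.mem_span_singleton, dvd_neg, PowerSeries.X_pow_dvd_iff] at h4
      simpa using h4 1 (by norm_num)
    · intro x y hxy
      obtain ⟨x, rfl⟩ := Ideal.Quotient.mk_surjective x
      obtain ⟨y, rfl⟩ := Ideal.Quotient.mk_surjective y
      change (Ideal.Quotient.mk (Ideal.span {h})) (π • x) = Ideal.Quotient.mk _ (π • y) at hxy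
      replace hxy : algebraMap B (ArLef.NodeAlg B π) π * (x - y) ∈ Ideal.span {h} := by
        rw [mul_sub, ← Algebra.smul_def, ← Algebra.smul_def]
        exact Ideal.Quotient.eq.1 hxy
      refine Ideal.Quotient.eq.2 ?_
      obtain ⟨c, hc⟩ := Ideal.mem_span_singleton'.1 hxy
      obtain ⟨c₁, rfl⟩ := (ArLefLib.Node.t_dvd_iff hmx (x := c)).2 (by
        have := congrArg (ArLefLib.Node.branch hmx 1) hc
        rw [map_mul, map_mul, hb1, ← ArLefLib.Node.t_mul_e, map_mul, ArLefLib.Node.branch_t_one, zero_mul, zero_mul,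
          mul_eq_zero] at this
        exact this.resolve_right (mul_ne_zero PowerSeries.X_ne_zero (u.isUnit.map _).ne_zero))
      obtain ⟨c₂, rfl⟩ := (ArLefLib.Node.e_dvd_iff hmx (x := c₁)).2 (by
        have := congrArg (ArLefLib.Node.branch hmx 0) hc
        rw [map_mul, map_mul, map_mul, hb0, ← ArLefLib.Node.t_mul_e, map_mul, ArLefLib.Node.branch_t_zero,
          ArLefLib.Node.branch_e_zero, mul_zero, zero_mul, mul_eq_zero, mul_eq_zero] at this
        exact (this.resolve_right (neg_ne_zero.2 PowerSeries.X_ne_zero)).resolve_left PowerSeries.X_ne_zero)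
      refine Ideal.mem_span_singleton'.2 ⟨c₂, mul_left_cancel₀ (ArLefLib.Node.pi_ne_zero hπ) ?_⟩
      rw [← hc, ← ArLefLib.Node.t_mul_e]; ring

end Groth.Agent.S15318
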