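import Groth.Statements.S15319
import Groth.Agent.ArLefLib.Apps
-- import your own Groth.Agent.* helpers here

set_option autoImplicit false
universe u
open ArLef ArLef.NodeAlg

namespace Groth.Agent.S15319

/-- Let B be a discrete valuation ring with uniformizer π, N = B[[t, e]]/(te - π) the complete local
ring of a semi-stable arithmetic surface over B at a singular point of the closed fibre, and σ a
ring automorphism of N sending π to π + γ π^j with γ a unit of B and j ≥ 1 (σ lies over an
automorphism τ of B with v(τ(π) - π) = j). Then the fixed-point ideal of σ is not contained in (π^j)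
= (t^j e^j): the two branches through the point cannot both occur with multiplicity j in the
divisorial part of the fixed locus. (The published setting has B complete with algebraically closed
residue field.) -/
theorem result (B : Type u) [CommRing B] [IsDomain B] [IsDiscreteValuationRing B] (π : B) (hπ : Irreducible π)
    (j : ℕ) (hj : 1 ≤ j) (γ : B) (hγ : IsUnit γ)
    (σ : ArLef.NodeAlg B π ≃+* ArLef.NodeAlg B π)
    (hσ : σ (algebraMap B (ArLef.NodeAlg B π) π) = algebraMap B (ArLef.NodeAlg B π) (π + γ * π ^ j)) :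
    ¬ ArLef.fixIdeal σ ≤ Ideal.span ({algebraMap B (ArLef.NodeAlg B π) (π ^ j)} : Set (ArLef.NodeAlg B π)) := by
    intro hle
    have hmx := ArLefLib.Node.hmax hπ
    haveI := ArLefLib.Node.isDomain hmx hπ.ne_zero
    have hd : ∀ r, σ r - r ∈ Ideal.span ({algebraMap B (ArLef.NodeAlg B π) (π ^ j)} : Set (ArLef.NodeAlg B π)) :=
      fun r => hle (ArLefLib.sub_mem_fixIdeal σ r)
    obtain ⟨a, ha⟩ := Ideal.mem_span_singleton'.1 (hd (ArLef.NodeAlg.t π))
    obtain ⟨b, hb⟩ := Ideal.mem_span_singleton'.1 (hd (ArLef.NodeAlg.e π))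
    have h2 : algebraMap B (ArLef.NodeAlg B π) π + algebraMap B _ γ * algebraMap B _ (π ^ j) =
        σ (ArLef.NodeAlg.t π) * σ (ArLef.NodeAlg.e π) := by
      rw [← ArLefLib.Node.map_pi_eq, hσ, map_add, map_mul]
    set P := algebraMap B (ArLef.NodeAlg B π) (π ^ j) with hP
    have hP0 : P ≠ 0 := by
      rw [hP, map_pow]; exact pow_ne_zero _ (ArLefLib.Node.pi_ne_zero hπ)
    have h1 : algebraMap B (ArLef.NodeAlg B π) γ = ArLef.NodeAlg.t π * b + ArLef.NodeAlg.e π * a + P * a * b := by
      apply mul_left_cancel₀ hP0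
      linear_combination h2 + ArLefLib.Node.t_mul_e (π := π) - σ (ArLef.NodeAlg.e π) * ha - (ArLef.NodeAlg.t π + a * P) * hb
    have h3 := (ArLefLib.Node.isUnit_iff hmx 1).1 (hγ.map (algebraMap B (ArLef.NodeAlg B π)))
    apply h3
    rw [h1, hP, map_pow, ← ArLefLib.Node.t_mul_e]
    simp [(show j ≠ 0 by omega)]

end Groth.Agent.S15319
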