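import Groth.Statements.S1532
import Groth.Agent.CurveCohLib.Nonspecial
-- import your own Groth.Agent.* helpers here

set_option autoImplicit false
universe u
open CategoryTheory CategoryTheory.Limits AlgebraicGeometry
open Curves

namespace Groth.Agent.S1532

/-- Let X be a proper integral one-dimensional scheme over k whose global functions are k, of genus g, L
an invertible module and Z a closed subscheme of dimension zero with ideal sheaf I, with deg L > 2g
- 2 + deg Z. Then H^1(X, I ⊗ L) = 0, and if moreover H^0(X, I ⊗ L) = 0 then g = 0 and deg L = deg Z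
- 1. -/
theorem result (k : Type u) [Field k] (X : Scheme.{u}) [X.Over (Spec (CommRingCat.of k))]
    [IsProper (X ↘ (Spec (CommRingCat.of k)))] [IsIntegral X] (hdim : topologicalKrullDim X = 1)
    (h0 : Module.finrank k (Coh.HH X (Coh.structureModule X) 0) = 1)
    (L : X.Modules) (hL : PicF.IsInvertible L) (Z : X.IdealSheafData) (hZ : topologicalKrullDim (Z.support : Set X) ≤ 0)
    (hdeg : 2 * (Curv2.genus k X : ℤ) - 2 + Module.finrank k (Coh.HH X (ClSub.quotMod Z) 0) < Curv2.deg k X L 1) :
    Subsingleton (Coh.HH X (CohB1.tensorMod (ClSub.idealMod Z) L) 1) ∧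
      (Subsingleton (Coh.HH X (CohB1.tensorMod (ClSub.idealMod Z) L) 0) →
        Curv2.genus k X = 0 ∧ Curv2.deg k X L 1 = Module.finrank k (Coh.HH X (ClSub.quotMod Z) 0) - 1) := by
  haveI := Groth.Agent.CurveCohLib.isNoetherian_of_proper (k := k) (X := X)
  have e : CohB1.tensorMod (ClSub.idealMod Z) L ≅ Groth.Agent.CurveCohLib.Nonspecial.twist Z L :=
    Groth.Agent.CurveTensor.commIso (ClSub.idealMod Z) L
  have hχ := Groth.Agent.CurveCohLib.Nonspecial.euler_twist k Z hL hdim hZ
  rw [Groth.Agent.CurveCohLib.Nonspecial.euler_structure k hdim h0] at hχ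
  haveI h1 := Groth.Agent.CurveCohLib.Nonspecial.h1_of_euler k hdim (Groth.Agent.CurveCohLib.Nonspecial.isCoh_twist k Z hL)
    (Groth.Agent.CurveCohLib.Nonspecial.section_twist k Z hL) (by omega)
  refine ⟨(Groth.Agent.CurveCohLib.hhEquiv (k := k) e 1).toEquiv.subsingleton, fun hs => ?_⟩
  haveI := hs
  haveI := (Groth.Agent.CurveCohLib.hhEquiv (k := k) e 0).symm.toEquiv.subsingleton
  have hh := Groth.Agent.CurveRR.euler_eq_h0_sub_h1 k hdim.le (Groth.Agent.CurveCohLib.Nonspecial.isCoh_twist k Z hL).1
  rw [Module.finrank_zero_of_subsingleton, Module.finrank_zero_of_subsingleton] at hh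
  omega

end Groth.Agent.S1532
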