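import Groth.Statements.S15320
import Groth.Agent.ArLefLib.Apps
-- import your own Groth.Agent.* helpers here

set_option autoImplicit false
universe u
open ArLef ArLef.NodeAlg

namespace Groth.Agent.S15320

/-- Let B be a discrete valuation ring with uniformizer π, N = B[[t, e]]/(te - π) the complete local
ring of a semi-stable arithmetic surface over B at a singular point x of the closed fibre, and σ a
ring automorphism of N over an automorphism τ of B with v(τ(π) - π) = j ≥ 1, that is σ(π) = π + γ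
π^j with γ a unit of B, and with σ(b) - b ∈ π^j N for every b ∈ B (automatic when B is totally
ramified over the fixed ring of τ, as in the published setting, where the residue field is
algebraically closed). If σ switches the two branches through x (σ(t) associated to e and σ(e) to
t), then the fixed-point ideal I of σ is contained in no proper principal ideal (x is not on the
divisorial part of the fixed locus) and N/I has length 2j - 1 (the multiplicity of x in the residual
fixed-point scheme). -/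
theorem result (B : Type u) [CommRing B] [IsDomain B] [IsDiscreteValuationRing B] (π : B) (hπ : Irreducible π)
    (j : ℕ) (hj : 1 ≤ j) (γ : B) (hγ : IsUnit γ)
    (σ : ArLef.NodeAlg B π ≃+* ArLef.NodeAlg B π)
    (hσB : ∀ b : B, σ (algebraMap B (ArLef.NodeAlg B π) b) - algebraMap B (ArLef.NodeAlg B π) b ∈
      Ideal.span ({algebraMap B (ArLef.NodeAlg B π) (π ^ j)} : Set (ArLef.NodeAlg B π)))
    (hσπ : σ (algebraMap B (ArLef.NodeAlg B π) π) = algebraMap B (ArLef.NodeAlg B π) (π + γ * π ^ j))
    (ht : Associated (σ (ArLef.NodeAlg.t π)) (ArLef.NodeAlg.e π)) (he : Associated (σ (ArLef.NodeAlg.e π)) (ArLef.NodeAlg.t π)) :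
    (∀ g : ArLef.NodeAlg B π, ArLef.fixIdeal σ ≤ Ideal.span ({g} : Set (ArLef.NodeAlg B π)) → IsUnit g) ∧
      Module.length (ArLef.NodeAlg B π) (ArLef.NodeAlg B π ⧸ ArLef.fixIdeal σ) = ((2 * j - 1 : ℕ) : ℕ∞) := by
    have hmx := ArLefLib.Node.hmax hπ
    haveI := ArLefLib.Node.isDomain hmx hπ.ne_zero
    haveI := ArLefLib.Node.isLocalRing hmx
    set t := ArLef.NodeAlg.t π
    set e := ArLef.NodeAlg.e π
    have hpe : Prime e := ArLefLib.Node.prime_e hmx (ArLefLib.Node.e_ne_zero hmx)
    obtain ⟨u, hu⟩ := ht.symm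
    obtain ⟨w, hw⟩ := he.symm
    obtain ⟨q, rfl⟩ : ∃ q, j = q + 1 := ⟨j - 1, by omega⟩
    have hab := ArLefLib.Node.alpha_mul_beta' (ArLefLib.Node.pi_ne_zero hπ) hj σ hσπ
      (α := (u : ArLef.NodeAlg B π)) (β := (w : ArLef.NodeAlg B π))
      (by rw [← hu, ← hw, ← ArLefLib.Node.t_mul_e]; ring)
    rw [show q + 1 - 1 = q by omega] at hab
    set γ' := algebraMap B (ArLef.NodeAlg B π) γ
    have hγ' : IsUnit γ' := hγ.map _
    change _ = γ' * (t ^ q * e ^ q) at hab
    set h := σ t - t with hh
    have hb0 : ArLefLib.Node.branch hmx 0 h = -PowerSeries.X := by rw [hh, ← hu]; simp [t, e]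
    have heh : ¬ e ∣ h := by
      rw [ArLefLib.Node.e_dvd_iff hmx, hb0]; simpa using PowerSeries.X_ne_zero
    -- `t` is `e` times a unit modulo `h`
    have hpow : ∀ k, t ^ k - ((u : ArLef.NodeAlg B π) * e) ^ k ∈ Ideal.span {h} := fun k => by
      refine Ideal.mem_span_singleton.2 (dvd_trans ⟨-1, ?_⟩ (sub_dvd_pow_sub_pow t ((u : ArLef.NodeAlg B π) * e) k))
      rw [hh, ← hu]; ring
    have hdiff : σ e - e = -(w : ArLef.NodeAlg B π) * h + γ' * (t ^ q * e ^ (q + 1)) := by
      rw [hh, ← hu, ← hw]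
      linear_combination (norm := (simp only [pow_succ]; ring_nf)) e * hab
    have hmem : ∀ x ∈ ({h, algebraMap B (ArLef.NodeAlg B π) (π ^ (q + 1)), t ^ q * e ^ (q + 1)} : Set (ArLef.NodeAlg B π)),
        x ∈ Ideal.span {h, e ^ (2 * q + 1)} := by
      rintro x (hx | hx | hx)
      · exact Ideal.subset_span (by simp [hx])
      · obtain ⟨c, hc⟩ := Ideal.mem_span_singleton'.1 (hpow (q + 1))
        refine Ideal.mem_span_pair.2 ⟨c * e ^ (q + 1), (u : ArLef.NodeAlg B π) ^ (q + 1) * e, ?_⟩
        rw [show x = t ^ (q + 1) * e ^ (q + 1) from hx.trans (ArLefLib.Node.algebraMap_pow _)]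
        linear_combination (norm := ring_nf) e ^ (q + 1) * hc
      · obtain ⟨c, hc⟩ := Ideal.mem_span_singleton'.1 (hpow q)
        refine Ideal.mem_span_pair.2 ⟨c * e ^ (q + 1), (u : ArLef.NodeAlg B π) ^ q, ?_⟩
        rw [show x = t ^ q * e ^ (q + 1) from hx]
        linear_combination (norm := ring_nf) e ^ (q + 1) * hc
    have hfix : ArLef.fixIdeal σ = Ideal.span {h} ⊔ Ideal.span {e ^ (2 * q + 1)} := by
      rw [← Ideal.span_union, Set.singleton_union]
      refine le_antisymm (ArLefLib.node_fixIdeal_le hmx σ.toRingHom (fun b => ?_) ?_ ?_) (Ideal.span_le.2 (Set.pair_subset ?_ ?_))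
      · exact (Ideal.span_singleton_le_iff_mem _).2 (hmem _ (by simp)) (hσB b)
      · exact Ideal.subset_span (Or.inl rfl)
      · change σ e - e ∈ _
        rw [hdiff]
        exact add_mem (Ideal.mul_mem_left _ _ (hmem _ (by simp))) (Ideal.mul_mem_left _ _ (hmem _ (by simp)))
      · exact ArLefLib.sub_mem_fixIdeal σ _
      · have h1 : t ^ q * e ^ (q + 1) ∈ ArLef.fixIdeal σ := by
          refine (Ideal.unit_mul_mem_iff_mem _ hγ').1 ?_
          rw [show γ' * (t ^ q * e ^ (q + 1)) = (σ e - e) + (w : ArLef.NodeAlg B π) * (σ t - t) by rw [hdiff, hh]; ring]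
          exact add_mem (ArLefLib.sub_mem_fixIdeal σ _) (Ideal.mul_mem_left _ _ (ArLefLib.sub_mem_fixIdeal σ _))
        obtain ⟨c, hc⟩ := Ideal.mem_span_singleton'.1 (hpow q)
        refine (Ideal.unit_mul_mem_iff_mem _ (u.isUnit.pow q)).1 ?_
        rw [show (u : ArLef.NodeAlg B π) ^ q * e ^ (2 * q + 1) = t ^ q * e ^ (q + 1) - (c * e ^ (q + 1)) * (σ t - t) by
          rw [← hh]; linear_combination (norm := ring_nf) e ^ (q + 1) * hc]
        exact sub_mem h1 (Ideal.mul_mem_left _ _ (ArLefLib.sub_mem_fixIdeal σ _))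
    refine ⟨fun g hg => ?_, ?_⟩
    · by_contra hgu
      rw [hfix] at hg
      have hgh := Ideal.mem_span_singleton.1 (hg (Submodule.mem_sup_left (Ideal.subset_span rfl)))
      have hge := Ideal.mem_span_singleton.1 (hg (Submodule.mem_sup_right (Ideal.subset_span rfl)))
      obtain ⟨i, _, hi⟩ := (dvd_prime_pow hpe _).1 hge
      cases i with
      | zero => rw [pow_zero] at hi; exact hgu (associated_one_iff_isUnit.1 hi)
      | succ i => exact heh ((dvd_pow_self e (Nat.succ_ne_zero i)).trans (hi.symm.dvd.trans hgh))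
    · rw [hfix, ArLefLib.length_quot_pow (ArLefLib.Node.regular_mod hpe heh),
        show Ideal.span {h} ⊔ Ideal.span {e} = IsLocalRing.maximalIdeal (ArLef.NodeAlg B π) from ?_,
        ArLefLib.length_quot_maximal (IsLocalRing.maximalIdeal (ArLef.NodeAlg B π)), mul_one]
      · congr 1
      rw [← Ideal.span_union, Set.singleton_union, ArLefLib.Node.maximalIdeal_eq hmx]
      refine le_antisymm (Ideal.span_le.2 (Set.pair_subset ?_ ?_)) (Ideal.span_le.2 (Set.pair_subset ?_ ?_))
      · exact Ideal.mem_span_pair.2 ⟨-1, (u : ArLef.NodeAlg B π), by rw [hh, ← hu]; ring⟩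
      · exact Ideal.subset_span (Or.inr rfl)
      · exact Ideal.mem_span_pair.2 ⟨-1, (u : ArLef.NodeAlg B π), by rw [hh, ← hu]; ring⟩
      · exact Ideal.subset_span (Or.inr rfl)

end Groth.Agent.S15320
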