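import Groth.Statements.S15321
import Groth.Agent.ArLefLib.Fix
-- import your own Groth.Agent.* helpers here

set_option autoImplicit false
universe u
open ArLef

namespace Groth.Agent.S15321

/-- In the case of a smooth point with the closed fibre outside the divisorial part, let B be a discrete
valuation ring with uniformizer π and residue field k, B[[t]] the complete local ring of a
semi-stable arithmetic surface over B at a point x where the closed fibre is smooth, and σ a ring
automorphism of B[[t]] over an automorphism τ of B with v(τ(π) - π) = j ≥ 1, that is σ(π) = π + γ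
π^j with γ a unit, and σ(b) - b ∈ π^j B[[t]] for all b ∈ B (automatic for B totally ramified over
the fixed ring of τ, as in the published setting). If π does not divide f = σ(t) - t (the closed
fibre is not in the divisorial part of the fixed locus near x), then the length of B[[t]] modulo the
fixed-point ideal of σ is j m, where m, the length of k[[t]]/(f mod π), is the multiplicity of x as
a fixed point of σ on the closed fibre. -/
theorem result (B : Type u) [CommRing B] [IsDomain B] [IsDiscreteValuationRing B] (π : B) (hπ : Irreducible π)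
    (j : ℕ) (hj : 1 ≤ j) (γ : B) (hγ : IsUnit γ)
    (σ : PowerSeries B ≃+* PowerSeries B)
    (hσB : ∀ b : B, σ (algebraMap B (PowerSeries B) b) - algebraMap B (PowerSeries B) b ∈
      Ideal.span ({algebraMap B (PowerSeries B) (π ^ j)} : Set (PowerSeries B)))
    (hσπ : σ (algebraMap B (PowerSeries B) π) = algebraMap B (PowerSeries B) (π + γ * π ^ j))
    (h0 : ¬ (algebraMap B (PowerSeries B) π ∣ σ PowerSeries.X - PowerSeries.X)) :
    Module.length (PowerSeries B) (PowerSeries B ⧸ ArLef.fixIdeal σ) =
      (j : ℕ∞) * Module.length (PowerSeries (IsLocalRing.ResidueField B)) (PowerSeries (IsLocalRing.ResidueField B) ⧸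
        Ideal.span ({PowerSeries.map (IsLocalRing.residue B) (σ PowerSeries.X - PowerSeries.X)} : Set (PowerSeries (IsLocalRing.ResidueField B)))) := by
    have hmx := hπ.maximalIdeal_eq
    set F := PowerSeries.map (IsLocalRing.residue B)
    set P : PowerSeries B := algebraMap B (PowerSeries B) π
    set f := σ PowerSeries.X - PowerSeries.X
    have hC : P = PowerSeries.C π := PowerSeries.C_eq_algebraMap.symm
    have hker : ∀ x, F x = 0 ↔ x ∈ Ideal.span {P} := by
      intro x
      rw [Ideal.mem_span_singleton', hC]
      constructor
      · intro hx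
        have hdiv : ∀ n, ∃ c, c * π = PowerSeries.coeff n x := fun n => by
          have h := congrArg (PowerSeries.coeff n) hx
          rw [PowerSeries.coeff_map, map_zero, IsLocalRing.residue_eq_zero_iff, hmx] at h
          exact Ideal.mem_span_singleton'.1 h
        choose c hc using hdiv
        exact ⟨PowerSeries.mk c, by ext n; rw [PowerSeries.coeff_mul_C, PowerSeries.coeff_mk, hc]⟩
      · rintro ⟨c, rfl⟩
        rw [map_mul, PowerSeries.map_C, (IsLocalRing.residue_eq_zero_iff π).2 (hmx ▸ Ideal.subset_span rfl),
          map_zero, mul_zero]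
    have hf0 : F f ≠ 0 := fun h => h0 (Ideal.mem_span_singleton.1 ((hker f).1 h))
    have hreg : ∀ y, P * y ∈ Ideal.span {f} → y ∈ Ideal.span {f} := by
      intro y hy
      obtain ⟨c, hc⟩ := Ideal.mem_span_singleton'.1 hy
      have h := congrArg F hc
      rw [map_mul, map_mul, (hker P).2 (Ideal.subset_span rfl), zero_mul, mul_eq_zero] at h
      obtain ⟨d, rfl⟩ := Ideal.mem_span_singleton'.1 ((hker c).1 (h.resolve_right hf0))
      refine Ideal.mem_span_singleton'.2 ⟨d, mul_left_cancel₀ (show P ≠ 0 from ?_) ?_⟩
      · rw [hC]; exact (map_ne_zero_iff _ PowerSeries.C_injective).2 hπ.ne_zero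
      · rw [← hc]; ring
    have hfix : ArLef.fixIdeal σ = Ideal.span {f} ⊔ Ideal.span {P ^ j} := by
      refine le_antisymm (ArLefLib.powerSeries_fixIdeal_le σ.toRingHom (fun b => ?_) ?_) (sup_le ?_ ?_)
      · refine Submodule.mem_sup_right ?_
        rw [← map_pow]
        exact hσB b
      · exact Submodule.mem_sup_left (Ideal.subset_span rfl)
      · exact (Ideal.span_singleton_le_iff_mem _).2 (ArLefLib.sub_mem_fixIdeal σ _)
      · rw [Ideal.span_singleton_le_iff_mem]
        have h := ArLefLib.sub_mem_fixIdeal σ (algebraMap B (PowerSeries B) π)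
        rw [hσπ, ← map_sub, add_sub_cancel_left, map_mul, map_pow] at h
        exact (Ideal.unit_mul_mem_iff_mem _ (hγ.map _)).1 h
    rw [hfix, ArLefLib.length_quot_pow hreg]
    congr 1
    refine ArLefLib.length_quot_of_surjective F (PowerSeries.map_surjective _ IsLocalRing.residue_surjective) _ _ fun x => ?_
    constructor
    · intro hx
      obtain ⟨y, hy, z, hz, rfl⟩ := Submodule.mem_sup.1 hx
      obtain ⟨c, rfl⟩ := Ideal.mem_span_singleton'.1 hy
      rw [map_add, (hker z).2 hz, add_zero, map_mul]
      exact Ideal.mem_span_singleton'.2 ⟨F c, rfl⟩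
    · intro hx
      obtain ⟨c, hc⟩ := Ideal.mem_span_singleton'.1 hx
      obtain ⟨c, rfl⟩ := PowerSeries.map_surjective _ IsLocalRing.residue_surjective c
      refine Submodule.mem_sup.2 ⟨c * f, Ideal.mem_span_singleton'.2 ⟨c, rfl⟩, x - c * f, (hker _).1 ?_, add_sub_cancel _ _⟩
      rw [map_sub, map_mul, hc, sub_self]

end Groth.Agent.S15321
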