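import Groth.Statements.S15322
import Mathlib.AlgebraicGeometry.Morphisms.Separated
import Mathlib.AlgebraicGeometry.Morphisms.Etale
import Mathlib.AlgebraicGeometry.Morphisms.FormallyUnramified
-- import your own Groth.Agent.* helpers here

set_option autoImplicit false
universe u
open CategoryTheory AlgebraicGeometry
open CategoryTheory.Limits
open ArLef

namespace Groth.Agent.S15322

set_option backward.isDefEq.respectTransparency false in
/-- Let f : D → C be a morphism, τ an automorphism of C and σ an automorphism of D with σ f = f τ; call
σ a good lifting of τ when the fixed-point scheme of σ is the full preimage of that of τ, i.e. every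
morphism z : Z → D with z f τ = z f has z σ = z. If f is etale, separated and surjective with D
connected and the fixed-point scheme of τ is non-empty (some point of C, with its residue field, is
fixed by τ), then τ has at most one good lifting. (The published statement is for a finite etale
cover of smooth projective irreducible curves over a field and a non-trivial τ; the argument uses
only the hypotheses stated here.) -/
theorem result {C D : Scheme.{u}} (f : D ⟶ C) [Etale f] [IsSeparated f] [Surjective f]
    [ConnectedSpace D] (τ : C ≅ C) (σ σ' : D ≅ D)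
    (hσ : σ.hom ≫ f = f ≫ τ.hom) (hσ' : σ'.hom ≫ f = f ≫ τ.hom)
    (good : ∀ (Z : Scheme.{u}) (z : Z ⟶ D), z ≫ f ≫ τ.hom = z ≫ f → z ≫ σ.hom = z)
    (good' : ∀ (Z : Scheme.{u}) (z : Z ⟶ D), z ≫ f ≫ τ.hom = z ≫ f → z ≫ σ'.hom = z)
    (x : C) (hx : C.fromSpecResidueField x ≫ τ.hom = C.fromSpecResidueField x) :
    σ = σ' := by
    obtain ⟨d, rfl⟩ := f.surjective x
    let z := D.fromSpecResidueField d
    have hz : z ≫ f ≫ τ.hom = z ≫ f := by
      rw [← Scheme.Hom.SpecMap_residueFieldMap_fromSpecResidueField_assoc, hx, Scheme.Hom.SpecMap_residueFieldMap_fromSpecResidueField]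
    let X' : Over C := Over.mk (σ.hom ≫ f)
    let Y' : Over C := Over.mk f
    let a : X' ⟶ Y' := Over.homMk σ.hom
    let b : X' ⟶ Y' := Over.homMk σ'.hom (by simp [X', Y', hσ, hσ'])
    haveI : IsSeparated Y'.hom := ‹IsSeparated f›
    haveI : Etale Y'.hom := ‹Etale f›
    haveI : IsOpenImmersion (equalizer.ι a b).left := by
      refine MorphismProperty.of_isPullback
        ((isPullback_equalizer_prod a b).map (Over.forget _)).flip ?_
      rw [← MorphismProperty.cancel_right_of_respectsIso @IsOpenImmersion _
        (Over.prodLeftIsoPullback Y' Y').hom]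
      convert! (inferInstance : IsOpenImmersion (pullback.diagonal Y'.hom))
      ext1 <;> simp [← Over.comp_left]
    let U : Over C := Over.mk (z ≫ σ.hom ≫ f)
    let l : U ⟶ X' := Over.homMk z
    have hl : l ≫ a = l ≫ b := by
      ext1
      change z ≫ σ.hom = z ≫ σ'.hom
      rw [good _ z hz, good' _ z hz]
    have hne : (Set.range (equalizer.ι a b).left).Nonempty := by
      refine ⟨d, (equalizer.lift l hl).left (default : Spec (D.residueField d)), ?_⟩
      rw [← Scheme.Hom.comp_apply, ← Over.comp_left, equalizer.lift_ι]
      exact Scheme.fromSpecResidueField_apply d _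
    haveI : IsClosedImmersion (equalizer.ι a b).left := isClosedImmersion_equalizer_ι_left a b
    haveI : PreconnectedSpace X'.left := inferInstanceAs (PreconnectedSpace D)
    haveI : Surjective (equalizer.ι a b).left := ⟨Set.range_eq_univ.1
      (IsClopen.eq_univ ⟨(equalizer.ι a b).left.isClosedEmbedding.isClosed_range,
        (equalizer.ι a b).left.isOpenEmbedding.isOpen_range⟩ hne)⟩
    haveI := isIso_of_isOpenImmersion_of_opensRange_eq_top (equalizer.ι a b).left
      (TopologicalSpace.Opens.ext (Set.range_eq_univ.2 (equalizer.ι a b).left.surjective))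
    ext1
    rw [← cancel_epi (equalizer.ι a b).left]
    exact congrArg CommaMorphism.left (equalizer.condition a b)

end Groth.Agent.S15322
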