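import Groth.Statements.S15325
import Groth.Agent.ArLefLib.Stab
-- import your own Groth.Agent.* helpers here

set_option autoImplicit false
universe u
open ArLef ArLef.NodeAlg

namespace Groth.Agent.S15325

/-- Let k be a field, A = k[[t, e]]/(te) the complete local ring of a nodal curve at a node x, and σ a
k-algebra automorphism of A fixing the two branches, σ(t) = α t and σ(e) = β e with units α, β.
Writing I for the fixed-point ideal of σ (generated by all σ(r) - r), the fixed-point multiplicity
length(A/I) of σ at x and the fixed-point multiplicities length(A/(I + (t))), length(A/(I + (e))) of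
the automorphisms induced on the two branches satisfy length(A/I) + 1 = length(A/(I + (t))) +
length(A/(I + (e))), as extended natural numbers (both sides are infinite when σ fixes a branch
pointwise). (The published setting has k algebraically closed.) -/
theorem result (k : Type u) [Field k]
    (σ : ArLef.NodeAlg k 0 ≃ₐ[k] ArLef.NodeAlg k 0) (α β : (ArLef.NodeAlg k 0)ˣ)
    (ht : σ (ArLef.NodeAlg.t (0 : k)) = (α : ArLef.NodeAlg k 0) * ArLef.NodeAlg.t (0 : k)) (he : σ (ArLef.NodeAlg.e (0 : k)) = (β : ArLef.NodeAlg k 0) * ArLef.NodeAlg.e (0 : k)) :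
    Module.length (ArLef.NodeAlg k 0) (ArLef.NodeAlg k 0 ⧸ ArLef.fixIdeal σ) + 1 =
      Module.length (ArLef.NodeAlg k 0) (ArLef.NodeAlg k 0 ⧸ (ArLef.fixIdeal σ ⊔ Ideal.span ({ArLef.NodeAlg.t (0 : k)} : Set (ArLef.NodeAlg k 0)))) +
        Module.length (ArLef.NodeAlg k 0) (ArLef.NodeAlg k 0 ⧸ (ArLef.fixIdeal σ ⊔ Ideal.span ({ArLef.NodeAlg.e (0 : k)} : Set (ArLef.NodeAlg k 0)))) := by
    have hmx : IsLocalRing.maximalIdeal k = Ideal.span {(0 : k)} := by
      rw [Ideal.span_singleton_eq_bot.2 rfl, IsLocalRing.isField_iff_maximalIdeal_eq.1 (Field.toIsField k)]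
    haveI := ArLefLib.Node.isLocalRing hmx
    set t := ArLef.NodeAlg.t (0 : k)
    set e := ArLef.NodeAlg.e (0 : k)
    set a : ArLef.NodeAlg k 0 := (α : ArLef.NodeAlg k 0) - 1
    set b : ArLef.NodeAlg k 0 := (β : ArLef.NodeAlg k 0) - 1
    have hte : t * e = 0 := by rw [ArLefLib.Node.t_mul_e, map_zero]
    have hfix : ArLef.fixIdeal σ = Ideal.span {a * t, b * e} := by
      refine le_antisymm (ArLefLib.node_fixIdeal_le hmx σ.toRingEquiv.toRingHom (fun c => ?_) ?_ ?_)
        (Ideal.span_le.2 (Set.pair_subset ?_ ?_))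
      · change σ (algebraMap k _ c) - algebraMap k _ c ∈ _
        rw [σ.commutes, sub_self]; exact zero_mem _
      · exact Ideal.subset_span (Or.inl (by change σ t - t = _; rw [ht]; ring))
      · exact Ideal.subset_span (Or.inr (by change σ e - e = _; rw [he]; ring))
      · rw [show a * t = σ t - t by rw [ht]; ring]; exact ArLefLib.sub_mem_fixIdeal σ _
      · rw [show b * e = σ e - e by rw [he]; ring]; exact ArLefLib.sub_mem_fixIdeal σ _
    set I := ArLef.fixIdeal σ
    have hm := ArLefLib.Node.maximalIdeal_eq hmx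
    have hsup : I ⊔ Ideal.span {t} ⊔ Ideal.span {e} = IsLocalRing.maximalIdeal (ArLef.NodeAlg k 0) := by
      rw [hm, hfix]
      refine le_antisymm (sup_le (sup_le (Ideal.span_le.2 (Set.pair_subset ?_ ?_)) ?_) ?_)
        (Ideal.span_le.2 (Set.pair_subset ?_ ?_))
      · exact Ideal.mul_mem_left _ _ (Ideal.subset_span (by simp [t]))
      · exact Ideal.mul_mem_left _ _ (Ideal.subset_span (by simp [e]))
      · exact Ideal.span_mono (by simp [t])
      · exact Ideal.span_mono (by simp [e])
      · exact Submodule.mem_sup_left (Submodule.mem_sup_right (Ideal.subset_span rfl))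
      · exact Submodule.mem_sup_right (Ideal.subset_span rfl)
    have h1 : Module.length (ArLef.NodeAlg k 0) (ArLef.NodeAlg k 0 ⧸ I) =
        Module.length (ArLef.NodeAlg k 0) (ArLef.NodeAlg k 0 ⧸ (Submodule.colon I ({t} : Set (ArLef.NodeAlg k 0)))) +
          Module.length (ArLef.NodeAlg k 0) (ArLef.NodeAlg k 0 ⧸ (I ⊔ Ideal.span {t})) :=
      ArLefLib.length_quot_eq_add t rfl fun x => Submodule.mem_colon_singleton
    have h2 : Module.length (ArLef.NodeAlg k 0) (ArLef.NodeAlg k 0 ⧸ (I ⊔ Ideal.span {e})) =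
        Module.length (ArLef.NodeAlg k 0) (ArLef.NodeAlg k 0 ⧸ (Submodule.colon I ({t} : Set (ArLef.NodeAlg k 0)))) +
          Module.length (ArLef.NodeAlg k 0) (ArLef.NodeAlg k 0 ⧸ IsLocalRing.maximalIdeal (ArLef.NodeAlg k 0)) := by
      refine ArLefLib.length_quot_eq_add t ?_ fun x => ?_
      · rw [← hsup]; ac_rfl
      rw [Submodule.mem_colon_singleton, smul_eq_mul]
      refine ⟨fun h => Submodule.mem_sup_left h, fun h => ?_⟩
      obtain ⟨i, hi, y, hy, hxy⟩ := Submodule.mem_sup.1 h
      obtain ⟨c, rfl⟩ := Ideal.mem_span_singleton'.1 hy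
      rw [← hxy]
      refine add_mem hi ?_
      rw [hfix] at hi ⊢
      obtain ⟨v, w, rfl⟩ := Ideal.mem_span_pair.1 hi
      obtain ⟨c', hc'⟩ := (ArLefLib.Node.t_dvd_iff hmx (x := w * b + c)).2 (by
        have h5 := congrArg (ArLefLib.Node.branch hmx 1) hxy
        simp only [map_add, map_mul, t, e, ArLefLib.Node.branch_t_one, ArLefLib.Node.branch_e_one, mul_zero, zero_add] at h5
        rw [map_add, map_mul]
        exact (mul_eq_zero.1 (show (_ + _) * PowerSeries.X = 0 by rw [add_mul, mul_assoc]; exact h5)).resolve_right PowerSeries.X_ne_zero)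
      exact Ideal.mem_span_pair.2 ⟨0, -w, by linear_combination -e * hc' - c' * hte⟩
    rw [h1, h2, ArLefLib.length_quot_maximal (IsLocalRing.maximalIdeal (ArLef.NodeAlg k 0))]
    ring

end Groth.Agent.S15325
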