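import Groth.Statements.S15326
import Mathlib.RingTheory.Localization.AtPrime.Basic
import Mathlib.Tactic.LinearCombination
-- import your own Groth.Agent.* helpers here

set_option autoImplicit false
universe u
open ArLef

namespace Groth.Agent.S15326

/-- Let A be a commutative ring, t an element generating a prime ideal (a local equation of an
irreducible component C of the closed fibre), v an element outside (t) with π = vt the uniformizer,
and σ a ring automorphism of A with σ(vt) = vt whose fixed-point ideal is contained in (t^i) for
some i ≥ 1 (C has multiplicity at least i in the fixed locus). Then σ(t) - t lies in t^(i+1) A_(t),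
the localization at the prime (t): σ - 1 vanishes on (t)/(t^(i+1)) at the generic point of C. -/
theorem result (A : Type u) [CommRing A] (t v : A)
    [ht : (Ideal.span ({t} : Set A)).IsPrime] (hv : v ∉ Ideal.span ({t} : Set A))
    (σ : A ≃+* A) (hσ : σ (v * t) = v * t) (i : ℕ) (hi : 1 ≤ i)
    (hI : ArLef.fixIdeal σ ≤ Ideal.span ({t ^ i} : Set A)) :
    algebraMap A (Localization.AtPrime (Ideal.span ({t} : Set A))) (σ t - t) ∈
      Ideal.span ({algebraMap A (Localization.AtPrime (Ideal.span ({t} : Set A))) (t ^ (i + 1))} :
        Set (Localization.AtPrime (Ideal.span ({t} : Set A)))) := by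
    set P := Ideal.span ({t} : Set A)
    have hd : ∀ r, σ r - r ∈ Ideal.span ({t ^ i} : Set A) := fun r => hI (Ideal.subset_span ⟨r, rfl⟩)
    have hle : Ideal.span ({t ^ i} : Set A) ≤ P :=
      Ideal.span_singleton_le_span_singleton.2 (dvd_pow_self t (by omega))
    have hu : IsUnit (algebraMap A (Localization.AtPrime P) (σ v)) :=
      IsLocalization.map_units (Localization.AtPrime P)
        (⟨σ v, fun h => hv (by have := sub_mem h (hle (hd v)); rwa [sub_sub_cancel] at this)⟩ : P.primeCompl)
    obtain ⟨c, hc⟩ := Ideal.mem_span_singleton'.1 (hd v)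
    rw [map_mul] at hσ
    refine (Ideal.unit_mul_mem_iff_mem _ hu).1 (Ideal.mem_span_singleton'.2
      ⟨algebraMap A _ (-c), ?_⟩)
    rw [← map_mul, ← map_mul]
    congr 1
    linear_combination (norm := (rw [pow_succ]; ring_nf)) -hσ - t * hc

end Groth.Agent.S15326
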