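import Groth.Statements.S15328
import Groth.Agent.HiggsSlope.Quot

set_option linter.style.haveILetI false
set_option backward.isDefEq.respectTransparency false
set_option backward.isDefEq.respectTransparency.types false
open CategoryTheory AlgebraicGeometry CategoryTheory.Limits
-- import your own Groth.Agent.* helpers here

set_option autoImplicit false
open CategoryTheory AlgebraicGeometry CategoryTheory.Limits
open VBCurve

namespace Groth.Agent.S15328

/-- Let X be a smooth proper integral curve over the complex numbers, L an invertible module on X and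
(E, φ) an L-valued Higgs bundle on X: E finite locally free of rank r ≥ 1 and φ : E → E ⊗ L. A
submodule j : G → E (a monomorphism) is a Higgs submodule when φ restricts to it, that is, some ψ :
G → G ⊗ L followed by j ⊗ L equals j followed by φ; (E, φ) is semistable when deg G · r ≤ deg E · r'
for every finite locally free Higgs submodule G of rank r' ≥ 1, degrees being χ − rank · χ(O).
Suppose (E, φ) is semistable and F is a finite locally free Higgs submodule of rank r' ≥ 1 with the
same slope, deg F · r = deg E · r'. Then the quotient E/F is finite locally free of rank r − r' and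
is semistable of the same slope for its induced Higgs field: for every φ' : E/F → (E/F) ⊗ L
compatible with φ along the projection and every finite locally free submodule G of E/F of rank s ≥
1 to which φ' restricts, deg G · (r − r') ≤ deg(E/F) · s. (The published statement also assumes F
semistable, which the published argument does not use; this row omits it.) -/
theorem result
    (X : Scheme.{0}) [X.Over (Spec (CommRingCat.of ℂ))] [IsIntegral X]
    [IsProper (X ↘ Spec (CommRingCat.of ℂ))] [Smooth (X ↘ Spec (CommRingCat.of ℂ))]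
    (hdim : topologicalKrullDim X = 1)
    (L : X.Modules) (hL : PicF.IsInvertible L)
    (r : ℕ) (hr : 0 < r) (E : X.Modules) (hE : FlatMod.IsFinLocFreeOfRank r E)
    (φ : E ⟶ CohB1.tensorMod E L)
    (hss : ∀ (G : X.Modules) (s : ℕ) (j : G ⟶ E) (ψ : G ⟶ CohB1.tensorMod G L), Mono j → 0 < s →
      FlatMod.IsFinLocFreeOfRank s G →
      ψ ≫ (CohB1.sheafifyMod X).map (MonoidalCategoryStruct.whiskerRight (C := CohB1.PMod X) j.val (CohB1.toPMod L)) = j ≫ φ →
      Curv2.deg ℂ X G s * (r : ℤ) ≤ Curv2.deg ℂ X E r * (s : ℤ))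
    (F : X.Modules) (r' : ℕ) (hr' : 0 < r') (hF : FlatMod.IsFinLocFreeOfRank r' F)
    (i : F ⟶ E) [Mono i] (ψF : F ⟶ CohB1.tensorMod F L)
    (hψF : ψF ≫ (CohB1.sheafifyMod X).map (MonoidalCategoryStruct.whiskerRight (C := CohB1.PMod X) i.val (CohB1.toPMod L)) = i ≫ φ)
    (hslope : Curv2.deg ℂ X F r' * (r : ℤ) = Curv2.deg ℂ X E r * (r' : ℤ)) :
    FlatMod.IsFinLocFreeOfRank (r - r') (cokernel i) ∧
    ∀ (φ' : cokernel i ⟶ CohB1.tensorMod (cokernel i) L),
      cokernel.π i ≫ φ' = φ ≫ (CohB1.sheafifyMod X).map (MonoidalCategoryStruct.whiskerRight (C := CohB1.PMod X) (cokernel.π i).val (CohB1.toPMod L)) →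
      ∀ (G : X.Modules) (s : ℕ) (j : G ⟶ cokernel i) (ψ : G ⟶ CohB1.tensorMod G L), Mono j → 0 < s →
        FlatMod.IsFinLocFreeOfRank s G →
        ψ ≫ (CohB1.sheafifyMod X).map (MonoidalCategoryStruct.whiskerRight (C := CohB1.PMod X) j.val (CohB1.toPMod L)) = j ≫ φ' →
        Curv2.deg ℂ X G s * ((r - r' : ℕ) : ℤ) ≤ Curv2.deg ℂ X (cokernel i) (r - r') * (s : ℤ) := by
  haveI := Groth.Agent.CurveSlope.isLocallyNoetherian' ℂ (X := X)
  have hrk := Groth.Agent.CurveBundle.rk_eq hE
  have hrk' := Groth.Agent.CurveBundle.rk_eq hF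
  have hEf := Groth.Agent.CurveStable.isFinLocFree_of_rank hE
  have hFf := Groth.Agent.CurveStable.isFinLocFree_of_rank hF
  rw [Groth.Agent.CurveSlope.deg_eq_dg ℂ hF, Groth.Agent.CurveSlope.deg_eq_dg ℂ hE] at hslope
  obtain ⟨h1, h2, -, h4⟩ := Groth.Agent.HiggsSlope.quot_semistable ℂ hdim.le hL hEf φ (by omega)
    (fun M m χ hm hMf hχ => by
      rw [hrk]
      rcases Nat.eq_zero_or_pos (Groth.Agent.CurveBundle.rk M) with h0 | h0
      · rw [h0, Groth.Agent.CurveSlope.dg_eq_zero_of_isZero ℂ (Groth.Agent.CurveBundle.isZero_of_rk_zero hMf h0)]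
        simp
      · have hM1 := Groth.Agent.CurveBundle.isFinLocFreeOfRank_rk hMf
        have h := hss M _ m χ hm h0 hM1 hχ
        rwa [Groth.Agent.CurveSlope.deg_eq_dg ℂ hM1, Groth.Agent.CurveSlope.deg_eq_dg ℂ hE] at h)
    (Groth.Agent.CurveStable.coh_of_free ℂ hFf) i ψF hψF (by rw [hrk, hrk']; exact hslope)
  have hq : Groth.Agent.CurveBundle.rk (cokernel i) = r - r' := by omega
  have hQ1 : FlatMod.IsFinLocFreeOfRank (r - r') (cokernel i) :=
    hq ▸ Groth.Agent.CurveBundle.isFinLocFreeOfRank_rk h1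
  refine ⟨hQ1, fun φ' hφ' G s j ψ hj hs hG hψ => ?_⟩
  have h := h4 φ' hφ' G j ψ hj (Groth.Agent.CurveStable.isFinLocFree_of_rank hG) hψ
  rw [Groth.Agent.CurveSlope.deg_eq_dg ℂ hG, Groth.Agent.CurveSlope.deg_eq_dg ℂ hQ1]
  rwa [hq, Groth.Agent.CurveBundle.rk_eq hG] at h

end Groth.Agent.S15328
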