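import Groth.Statements.S15330
import Groth.Agent.HiggsSlope.Quot

set_option linter.style.haveILetI false
set_option backward.isDefEq.respectTransparency false
set_option backward.isDefEq.respectTransparency.types false
open CategoryTheory AlgebraicGeometry CategoryTheory.Limits
-- import your own Groth.Agent.* helpers here

set_option autoImplicit false
open CategoryTheory AlgebraicGeometry CategoryTheory.Limits
open VBCurve

namespace Groth.Agent.S15330

/-- Let X be a smooth proper integral curve over the complex numbers, L an invertible module on X, and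
(E, φ_E), (F, φ_F) two L-valued Higgs bundles on X of the same rank r ≥ 1 and the same degree d
(degree = χ − rank · χ(O)), each semistable: deg G · r ≤ d · s for every finite locally free
submodule G of rank s ≥ 1 to which the Higgs field restricts. Let E_0 ⊂ E_1 ⊂ … ⊂ E_n = E with E_0 =
0 and F = F_0 ⊃ F_1 ⊃ … ⊃ F_n = 0 be chains of finite locally free submodules to which the Higgs
fields restrict, of ranks with rk E_i + rk F_i = r, which are opposite: E_{i+1}/E_i ≅ F_i/F_{i+1} as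
O-modules for i < n. Then every E_i of positive rank and every F_i of positive rank has slope d/r,
that is deg · r = d · rank, and is semistable for its restricted Higgs field; and each graded piece
E_{i+1}/E_i of positive rank is finite locally free of rank rk E_{i+1} − rk E_i, of slope d/r, and
semistable for every Higgs field on it compatible with that of E_{i+1} along the projection. (The
published statement indexes the second chain so that F_i/F_{i+1} matches E_i/E_{i−1} and takes the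
isomorphisms of graded pieces as Higgs bundles; here they are assumed as O-modules only, together
with the rank bookkeeping rk E_i + rk F_i = r that they imply.) -/
theorem result
    (X : Scheme.{0}) [X.Over (Spec (CommRingCat.of ℂ))] [IsIntegral X]
    [IsProper (X ↘ Spec (CommRingCat.of ℂ))] [Smooth (X ↘ Spec (CommRingCat.of ℂ))]
    (hdim : topologicalKrullDim X = 1)
    (L : X.Modules) (hL : PicF.IsInvertible L) (r : ℕ) (hr : 0 < r) (d : ℤ)
    (E : X.Modules) (hE : FlatMod.IsFinLocFreeOfRank r E) (φE : E ⟶ CohB1.tensorMod E L)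
    (hEd : Curv2.deg ℂ X E r = d)
    (hEss : (∀ (G : X.Modules) (s : ℕ) (j : G ⟶ E) (χ : G ⟶ CohB1.tensorMod G L), Mono j → 0 < s →
        FlatMod.IsFinLocFreeOfRank s G →
        χ ≫ (CohB1.sheafifyMod X).map (MonoidalCategoryStruct.whiskerRight (C := CohB1.PMod X) j.val (CohB1.toPMod L)) = j ≫ φE →
        Curv2.deg ℂ X G s * (r : ℤ) ≤ Curv2.deg ℂ X E r * (s : ℤ)))
    (F : X.Modules) (hF : FlatMod.IsFinLocFreeOfRank r F) (φF : F ⟶ CohB1.tensorMod F L)
    (hFd : Curv2.deg ℂ X F r = d)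
    (hFss : (∀ (G : X.Modules) (s : ℕ) (j : G ⟶ F) (χ : G ⟶ CohB1.tensorMod G L), Mono j → 0 < s →
        FlatMod.IsFinLocFreeOfRank s G →
        χ ≫ (CohB1.sheafifyMod X).map (MonoidalCategoryStruct.whiskerRight (C := CohB1.PMod X) j.val (CohB1.toPMod L)) = j ≫ φF →
        Curv2.deg ℂ X G s * (r : ℤ) ≤ Curv2.deg ℂ X F r * (s : ℤ)))
    (n : ℕ)
    (Es : ℕ → X.Modules) (rE : ℕ → ℕ) (hEs : ∀ i, FlatMod.IsFinLocFreeOfRank (rE i) (Es i))
    (ιE : ∀ i, Es i ⟶ E) (hιE : ∀ i, Mono (ιE i))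
    (ψE : ∀ i, Es i ⟶ CohB1.tensorMod (Es i) L)
    (hψE : ∀ i, ψE i ≫ (CohB1.sheafifyMod X).map (MonoidalCategoryStruct.whiskerRight (C := CohB1.PMod X) (ιE i).val (CohB1.toPMod L)) = ιE i ≫ φE)
    (a : ∀ i, Es i ⟶ Es (i + 1)) (ha : ∀ i, a i ≫ ιE (i + 1) = ιE i)
    (hE0 : IsZero (Es 0)) (hEn : IsIso (ιE n))
    (Fs : ℕ → X.Modules) (rF : ℕ → ℕ) (hFs : ∀ i, FlatMod.IsFinLocFreeOfRank (rF i) (Fs i))
    (ιF : ∀ i, Fs i ⟶ F) (hιF : ∀ i, Mono (ιF i))
    (ψF : ∀ i, Fs i ⟶ CohB1.tensorMod (Fs i) L)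
    (hψF : ∀ i, ψF i ≫ (CohB1.sheafifyMod X).map (MonoidalCategoryStruct.whiskerRight (C := CohB1.PMod X) (ιF i).val (CohB1.toPMod L)) = ιF i ≫ φF)
    (b : ∀ i, Fs (i + 1) ⟶ Fs i) (hb : ∀ i, b i ≫ ιF i = ιF (i + 1))
    (hF0 : IsIso (ιF 0)) (hFn : IsZero (Fs n))
    (hrk : ∀ i, i ≤ n → rE i + rF i = r)
    (hopp : ∀ i, i < n → Nonempty (cokernel (a i) ≅ cokernel (b i))) :
    (∀ i, i ≤ n → 0 < rE i →
      Curv2.deg ℂ X (Es i) (rE i) * (r : ℤ) = d * (rE i : ℤ) ∧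
      (∀ (G : X.Modules) (s : ℕ) (j : G ⟶ (Es i)) (χ : G ⟶ CohB1.tensorMod G L), Mono j → 0 < s →
        FlatMod.IsFinLocFreeOfRank s G →
        χ ≫ (CohB1.sheafifyMod X).map (MonoidalCategoryStruct.whiskerRight (C := CohB1.PMod X) j.val (CohB1.toPMod L)) = j ≫ ψE i →
        Curv2.deg ℂ X G s * (rE i : ℤ) ≤ Curv2.deg ℂ X (Es i) (rE i) * (s : ℤ))) ∧
    (∀ i, i ≤ n → 0 < rF i →
      Curv2.deg ℂ X (Fs i) (rF i) * (r : ℤ) = d * (rF i : ℤ) ∧
      (∀ (G : X.Modules) (s : ℕ) (j : G ⟶ (Fs i)) (χ : G ⟶ CohB1.tensorMod G L), Mono j → 0 < s →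
        FlatMod.IsFinLocFreeOfRank s G →
        χ ≫ (CohB1.sheafifyMod X).map (MonoidalCategoryStruct.whiskerRight (C := CohB1.PMod X) j.val (CohB1.toPMod L)) = j ≫ ψF i →
        Curv2.deg ℂ X G s * (rF i : ℤ) ≤ Curv2.deg ℂ X (Fs i) (rF i) * (s : ℤ))) ∧
    (∀ i, i < n → rE i < rE (i + 1) →
      FlatMod.IsFinLocFreeOfRank (rE (i + 1) - rE i) (cokernel (a i)) ∧
      Curv2.deg ℂ X (cokernel (a i)) (rE (i + 1) - rE i) * (r : ℤ) = d * ((rE (i + 1) - rE i : ℕ) : ℤ) ∧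
      ∀ (φ' : cokernel (a i) ⟶ CohB1.tensorMod (cokernel (a i)) L),
        cokernel.π (a i) ≫ φ' = ψE (i + 1) ≫ (CohB1.sheafifyMod X).map (MonoidalCategoryStruct.whiskerRight (C := CohB1.PMod X) (cokernel.π (a i)).val (CohB1.toPMod L)) →
        (∀ (G : X.Modules) (s : ℕ) (j : G ⟶ cokernel (a i)) (χ : G ⟶ CohB1.tensorMod G L), Mono j → 0 < s →
        FlatMod.IsFinLocFreeOfRank s G →
        χ ≫ (CohB1.sheafifyMod X).map (MonoidalCategoryStruct.whiskerRight (C := CohB1.PMod X) j.val (CohB1.toPMod L)) = j ≫ φ' →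
        Curv2.deg ℂ X G s * ((rE (i + 1) - rE i : ℕ) : ℤ) ≤ Curv2.deg ℂ X (cokernel (a i)) (rE (i + 1) - rE i) * (s : ℤ))) := by
  haveI := Groth.Agent.CurveSlope.isLocallyNoetherian' ℂ (X := X)
  have hLf := Groth.Agent.CurveStable.isFinLocFree_of_rank (Groth.Agent.InvEnd.isFinLocFreeOfRank_one hL)
  let dg' := fun M : X.Modules => Groth.Agent.CurveSlope.dg ℂ M
  have hEc := fun i => Groth.Agent.CurveStable.coh_of_free ℂ (Groth.Agent.CurveStable.isFinLocFree_of_rank (hEs i))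
  have hFc := fun i => Groth.Agent.CurveStable.coh_of_free ℂ (Groth.Agent.CurveStable.isFinLocFree_of_rank (hFs i))
  have hbE : ∀ i, dg' (Es i) * (r : ℤ) ≤ d * (rE i : ℤ) := fun i => by
    haveI := hιE i
    rcases Nat.eq_zero_or_pos (rE i) with h0 | h0
    · rw [h0, show dg' (Es i) = 0 from Groth.Agent.CurveSlope.dg_eq_zero_of_isZero ℂ
        (Groth.Agent.CurveBundle.isZero_of_rk_zero (Groth.Agent.CurveStable.isFinLocFree_of_rank (hEs i))
          ((Groth.Agent.CurveBundle.rk_eq (hEs i)).trans h0))]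
      simp
    · have h := hEss _ _ (ιE i) (ψE i) (hιE i) h0 (hEs i) (hψE i)
      rwa [hEd, Groth.Agent.CurveSlope.deg_eq_dg ℂ (hEs i)] at h
  have hbF : ∀ i, dg' (Fs i) * (r : ℤ) ≤ d * (rF i : ℤ) := fun i => by
    haveI := hιF i
    rcases Nat.eq_zero_or_pos (rF i) with h0 | h0
    · rw [h0, show dg' (Fs i) = 0 from Groth.Agent.CurveSlope.dg_eq_zero_of_isZero ℂ
        (Groth.Agent.CurveBundle.isZero_of_rk_zero (Groth.Agent.CurveStable.isFinLocFree_of_rank (hFs i))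
          ((Groth.Agent.CurveBundle.rk_eq (hFs i)).trans h0))]
      simp
    · have h := hFss _ _ (ιF i) (ψF i) (hιF i) h0 (hFs i) (hψF i)
      rwa [hFd, Groth.Agent.CurveSlope.deg_eq_dg ℂ (hFs i)] at h
  have hma : ∀ i, Mono (a i) := fun i => by
    haveI : Mono (a i ≫ ιE (i + 1)) := by rw [ha i]; exact hιE i
    exact mono_of_mono (a i) (ιE (i + 1))
  have hmb : ∀ i, Mono (b i) := fun i => by
    haveI : Mono (b i ≫ ιF i) := by rw [hb i]; exact hιF (i + 1)
    exact mono_of_mono (b i) (ιF i)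
  have hsum : ∀ i, i ≤ n → dg' (Es i) + dg' (Fs i) = d := by
    intro i
    induction i with
    | zero =>
      intro _
      haveI := hF0
      rw [show dg' (Es 0) = 0 from Groth.Agent.CurveSlope.dg_eq_zero_of_isZero ℂ hE0,
        show dg' (Fs 0) = dg' F from Groth.Agent.CurveSlope.dg_congr ℂ (asIso (ιF 0)), zero_add, ← hFd,
        Groth.Agent.CurveSlope.deg_eq_dg ℂ hF]
    | succ i ih =>
      intro hi
      haveI := hma i
      haveI := hmb i
      obtain ⟨e⟩ := hopp i (by omega)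
      have h1 := Groth.Agent.CurveSlope.dg_add ℂ _ _ _ (Groth.Agent.CurveSlope.shortExact_cokernel_of_mono (a i))
        (hEc i) (hEc (i + 1)) (Groth.Agent.QCoh.isCoh_cokernel (hEc i).1 (hEc (i + 1)) (a i))
      have h2 := Groth.Agent.CurveSlope.dg_add ℂ _ _ _ (Groth.Agent.CurveSlope.shortExact_cokernel_of_mono (b i))
        (hFc (i + 1)) (hFc i) (Groth.Agent.QCoh.isCoh_cokernel (hFc (i + 1)).1 (hFc i) (b i))
      have h3 := Groth.Agent.CurveSlope.dg_congr ℂ e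
      have := ih (by omega)
      simp only [dg'] at *
      omega
  have heq : ∀ i, i ≤ n → dg' (Es i) * (r : ℤ) = d * (rE i : ℤ) ∧ dg' (Fs i) * (r : ℤ) = d * (rF i : ℤ) := by
    intro i hi
    have h1 := hbE i
    have h2 := hbF i
    have h3 : ((rE i : ℤ) + (rF i : ℤ)) = (r : ℤ) := by exact_mod_cast hrk i hi
    have h4 : dg' (Es i) * (r : ℤ) + dg' (Fs i) * (r : ℤ) = d * (rE i : ℤ) + d * (rF i : ℤ) := by
      rw [← add_mul, ← mul_add, hsum i hi, h3]
    exact ⟨by linarith, by linarith⟩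
  have key : ∀ {A : X.Modules} (m : ℕ) (B : X.Modules) (φB : B ⟶ (DCoh.tensorBi.obj B).obj L)
      (φA : A ⟶ (DCoh.tensorBi.obj A).obj L) (ι : A ⟶ B), Mono ι → FlatMod.IsFinLocFreeOfRank m A → 0 < m →
      φA ≫ Groth.Agent.CurveHiggs.twist L ι = ι ≫ φB → FlatMod.IsFinLocFreeOfRank r B → Curv2.deg ℂ X B r = d →
      (∀ (G : X.Modules) (s : ℕ) (j : G ⟶ B) (χ : G ⟶ (DCoh.tensorBi.obj G).obj L), Mono j → 0 < s →
        FlatMod.IsFinLocFreeOfRank s G → χ ≫ Groth.Agent.CurveHiggs.twist L j = j ≫ φB →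
        Curv2.deg ℂ X G s * (r : ℤ) ≤ Curv2.deg ℂ X B r * (s : ℤ)) →
      dg' A * (r : ℤ) = d * (m : ℤ) →
      ∀ (G : X.Modules) (s : ℕ) (j : G ⟶ A) (χ : G ⟶ (DCoh.tensorBi.obj G).obj L), Mono j → 0 < s →
        FlatMod.IsFinLocFreeOfRank s G → χ ≫ Groth.Agent.CurveHiggs.twist L j = j ≫ φA →
        Curv2.deg ℂ X G s * (m : ℤ) ≤ Curv2.deg ℂ X A m * (s : ℤ) := by
    intro A m B φB φA ι hι hA hm hφ hB hBd hBss hAd G s j χ hj hs hG hχ
    haveI := hι
    haveI := hj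
    have h := hBss G s (j ≫ ι) χ inferInstance hs hG (by
      rw [Groth.Agent.CurveHiggs.twist_comp, reassoc_of% hχ, Category.assoc, hφ])
    rw [hBd] at h
    rw [Groth.Agent.CurveSlope.deg_eq_dg ℂ hA]
    change Curv2.deg ℂ X G s * (m : ℤ) ≤ dg' A * (s : ℤ)
    refine le_of_mul_le_mul_right ?_ (show (0 : ℤ) < r by exact_mod_cast hr)
    have h2 := mul_le_mul_of_nonneg_right h (Int.natCast_nonneg m)
    linear_combination h2 - (s : ℤ) * hAd
  refine ⟨fun i hi h0 => ⟨?_, ?_⟩, fun i hi h0 => ⟨?_, ?_⟩, fun i hi hlt => ?_⟩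
  · rw [Groth.Agent.CurveSlope.deg_eq_dg ℂ (hEs i)]
    exact (heq i hi).1
  · exact key (rE i) E φE (ψE i) (ιE i) (hιE i) (hEs i) h0 (hψE i) hE hEd hEss (heq i hi).1
  · rw [Groth.Agent.CurveSlope.deg_eq_dg ℂ (hFs i)]
    exact (heq i hi).2
  · exact key (rF i) F φF (ψF i) (ιF i) (hιF i) (hFs i) h0 (hψF i) hF hFd hFss (heq i hi).2
  haveI := hma i
  haveI := hιE (i + 1)
  have hinv : (show Es i ⟶ (DCoh.tensorBi.obj (Es i)).obj L from ψE i) ≫ Groth.Agent.CurveHiggs.twist L (a i) =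
      a i ≫ ψE (i + 1) := by
    haveI := Groth.Agent.CurveHiggs.mono_twist hLf (ιE (i + 1))
    rw [← cancel_mono (Groth.Agent.CurveHiggs.twist L (ιE (i + 1))), Category.assoc,
      ← Groth.Agent.CurveHiggs.twist_comp, ha i, Category.assoc]
    refine (hψE i).trans ?_
    rw [← ha i, Category.assoc]
    exact congrArg (a i ≫ ·) (hψE (i + 1)).symm
  have hr1 := Groth.Agent.CurveBundle.rk_eq (hEs (i + 1))
  have hr0 := Groth.Agent.CurveBundle.rk_eq (hEs i)
  obtain ⟨he1, -⟩ := heq (i + 1) hi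
  obtain ⟨he0, -⟩ := heq i hi.le
  obtain ⟨h1, h2, h3, h4⟩ := Groth.Agent.HiggsSlope.quot_semistable ℂ hdim.le hL
    (Groth.Agent.CurveStable.isFinLocFree_of_rank (hEs (i + 1)))
    (show Es (i + 1) ⟶ (DCoh.tensorBi.obj (Es (i + 1))).obj L from ψE (i + 1)) (by omega)
    (fun M m χ hm hMf hχ => by
      rw [hr1]
      rcases Nat.eq_zero_or_pos (Groth.Agent.CurveBundle.rk M) with h0 | h0
      · rw [h0, Groth.Agent.CurveSlope.dg_eq_zero_of_isZero ℂ (Groth.Agent.CurveBundle.isZero_of_rk_zero hMf h0)]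
        simp
      · have hM1 := Groth.Agent.CurveBundle.isFinLocFreeOfRank_rk hMf
        have h := key (rE (i + 1)) E φE (ψE (i + 1)) (ιE (i + 1)) (hιE (i + 1)) (hEs (i + 1)) (by omega)
          (hψE (i + 1)) hE hEd hEss he1 M _ m χ hm h0 hM1 hχ
        rwa [Groth.Agent.CurveSlope.deg_eq_dg ℂ hM1, Groth.Agent.CurveSlope.deg_eq_dg ℂ (hEs (i + 1))] at h)
    (hEc i) (a i) (ψE i) hinv (by
      rw [hr1, hr0]
      refine mul_right_cancel₀ (show (r : ℤ) ≠ 0 by exact_mod_cast hr.ne') ?_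
      change dg' (Es i) * (rE (i + 1) : ℤ) * (r : ℤ) = dg' (Es (i + 1)) * (rE i : ℤ) * (r : ℤ)
      linear_combination (rE (i + 1) : ℤ) * he0 - (rE i : ℤ) * he1)
  have hq : Groth.Agent.CurveBundle.rk (cokernel (a i)) = rE (i + 1) - rE i := by omega
  have hQ1 : FlatMod.IsFinLocFreeOfRank (rE (i + 1) - rE i) (cokernel (a i)) :=
    hq ▸ Groth.Agent.CurveBundle.isFinLocFreeOfRank_rk h1
  refine ⟨hQ1, ?_, fun φ' hφ' G s j χ hj hs hG hχ => ?_⟩
  · rw [Groth.Agent.CurveSlope.deg_eq_dg ℂ hQ1, ← hq]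
    rw [hr1] at h3
    refine mul_right_cancel₀ (show (rE (i + 1) : ℤ) ≠ 0 by omega) ?_
    change dg' (cokernel (a i)) * (r : ℤ) * (rE (i + 1) : ℤ) = _
    linear_combination (r : ℤ) * h3 + (Groth.Agent.CurveBundle.rk (cokernel (a i)) : ℤ) * he1
  · have h := h4 φ' hφ' G j χ hj (Groth.Agent.CurveStable.isFinLocFree_of_rank hG) hχ
    rw [Groth.Agent.CurveSlope.deg_eq_dg ℂ hG, Groth.Agent.CurveSlope.deg_eq_dg ℂ hQ1]
    rwa [hq, Groth.Agent.CurveBundle.rk_eq hG] at h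

end Groth.Agent.S15330
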