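import Groth.Statements.S15331
import Groth.Agent.Lib.InvEnd
import Groth.Agent.Lib.CurveStable

set_option autoImplicit false
set_option linter.style.haveILetI false
set_option linter.unusedVariables false
universe u
open CategoryTheory CategoryTheory.Limits AlgebraicGeometry
open VBCurve

namespace Groth.Agent.S15331

open Groth.Agent.CurveBundle Groth.Agent.CurveSlope Groth.Agent.CurveStable

/-- Let X be a smooth proper integral curve (integral, smooth and proper of dimension one) over an
algebraically closed field k and E a finite locally free O_X-module of rank r ≥ 1. Then the degrees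
of the finite locally free submodules F of E, of any rank r' (degree meaning χ(F) − r'·χ(O_X)), are
bounded above. -/
theorem result (k : Type u) [Field k] [IsAlgClosed k] (X : Scheme.{u}) [X.Over (Spec (CommRingCat.of k))]
    [IsIntegral X] [IsProper (X ↘ Spec (CommRingCat.of k))] [Smooth (X ↘ Spec (CommRingCat.of k))]
    (hdim : topologicalKrullDim X = 1)
    (r : ℕ) (hr : 0 < r) (E : X.Modules) (hE : FlatMod.IsFinLocFreeOfRank r E) :
    ∃ N : ℤ, ∀ (F : X.Modules) (r' : ℕ) (i : F ⟶ E), Mono i → FlatMod.IsFinLocFreeOfRank r' F →
      Curv2.deg k X F r' ≤ N := by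
  haveI := isLocallyNoetherian' k (X := X)
  refine ⟨(Module.finrank k (Coh.HH X E 0) : ℤ) + (r : ℤ) * |Curv2.euler k X (Coh.structureModule X)|,
    fun F r' i hi hF => ?_⟩
  haveI := hi
  have hEc := coh_of_free k (isFinLocFree_of_rank hE)
  have h := dg_le_h0 k hdim.le i (coh_of_free k (isFinLocFree_of_rank hF)) hEc
  have hle := rk_le_of_mono k i hEc
  rw [rk_eq hF, rk_eq hE] at hle
  rw [rk_eq hF, ← deg_eq_dg k hF] at h
  have hle' : (r' : ℤ) ≤ r := by exact_mod_cast hle
  have h1 := mul_le_mul_of_nonneg_right hle' (abs_nonneg (Curv2.euler k X (Coh.structureModule X)))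
  have h2 := mul_le_mul_of_nonneg_left (neg_abs_le (Curv2.euler k X (Coh.structureModule X)))
    (Int.natCast_nonneg r')
  linarith

end Groth.Agent.S15331
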