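import Groth.Statements.S15335
import Groth.Agent.Lib.CurveEnd
import Groth.Agent.Lib.CurveStable
import Groth.Agent.Lib.InvEnd
import Groth.Agent.Lib.CurveDeg

set_option autoImplicit false
set_option linter.style.haveILetI false
set_option linter.unusedVariables false
universe u
open CategoryTheory CategoryTheory.Limits AlgebraicGeometry
open VBCurve

namespace Groth.Agent.S15335

open Groth.Agent.CurveBundle Groth.Agent.CurveSlope Groth.Agent.CurveStable


/-- Let X be a smooth proper integral curve (integral, smooth and proper of dimension one) over an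
algebraically closed field k, and E₁, E₂ finite locally free O_X-modules of ranks r₁ ≥ 1, r₂ ≥ 1.
The maximal slope of E₁ ⊕ E₂ is at most the larger of the maximal slopes of E₁ and E₂: if m₁, m₂ are
rational numbers such that every finite locally free submodule of positive rank of E₁ (resp. E₂) has
slope deg/rank ≤ m₁ (resp. ≤ m₂), degree meaning χ − rank·χ(O_X), then every finite locally free
submodule F of the biproduct E₁ ⊞ E₂ of rank r' ≥ 1 has slope deg F / r' ≤ max(m₁, m₂). -/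
theorem result (k : Type u) [Field k] [IsAlgClosed k] (X : Scheme.{u}) [X.Over (Spec (CommRingCat.of k))]
    [IsIntegral X] [IsProper (X ↘ Spec (CommRingCat.of k))] [Smooth (X ↘ Spec (CommRingCat.of k))]
    (hdim : topologicalKrullDim X = 1)
    (r₁ r₂ : ℕ) (hr₁ : 0 < r₁) (hr₂ : 0 < r₂) (E₁ E₂ : X.Modules)
    (hE₁ : FlatMod.IsFinLocFreeOfRank r₁ E₁) (hE₂ : FlatMod.IsFinLocFreeOfRank r₂ E₂) (m₁ m₂ : ℚ)
    (h₁ : ∀ (G : X.Modules) (r' : ℕ) (i : G ⟶ E₁), Mono i → 0 < r' → FlatMod.IsFinLocFreeOfRank r' G →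
      (Curv2.deg k X G r' : ℚ) / r' ≤ m₁)
    (h₂ : ∀ (G : X.Modules) (r' : ℕ) (i : G ⟶ E₂), Mono i → 0 < r' → FlatMod.IsFinLocFreeOfRank r' G →
      (Curv2.deg k X G r' : ℚ) / r' ≤ m₂)
    (F : X.Modules) (r' : ℕ) (i : F ⟶ E₁ ⊞ E₂) (hi : Mono i) (hr' : 0 < r')
    (hF : FlatMod.IsFinLocFreeOfRank r' F) :
    (Curv2.deg k X F r' : ℚ) / r' ≤ max m₁ m₂ := by
  haveI := hi
  haveI := isLocallyNoetherian' k (X := X)
  have hFf := isFinLocFree_of_rank hF
  obtain ⟨I, π, j, hj, hπ, hfac, hK, hI, hrk, hdg, -, -⟩ :=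
    exists_decomp k hdim.le hFf (isFinLocFree_of_rank hE₂) (i ≫ biprod.snd)
  let l : kernel (i ≫ biprod.snd) ⟶ E₁ := kernel.ι (i ≫ biprod.snd) ≫ i ≫ biprod.fst
  haveI : Mono l := by
    refine Preadditive.mono_of_cancel_zero _ fun g hg => ?_
    rw [← cancel_mono (kernel.ι (i ≫ biprod.snd)), zero_comp, ← cancel_mono i, zero_comp]
    refine biprod.hom_ext _ _ ?_ ?_
    · rw [zero_comp, Category.assoc, Category.assoc]
      exact hg
    · rw [zero_comp, Category.assoc, Category.assoc, kernel.condition, comp_zero]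
  have bound : ∀ {A B : X.Modules} {m : ℚ} (g : A ⟶ B), Mono g → FlatMod.IsFinLocFree A →
      (∀ (G : X.Modules) (n : ℕ) (i : G ⟶ B), Mono i → 0 < n → FlatMod.IsFinLocFreeOfRank n G →
        (Curv2.deg k X G n : ℚ) / n ≤ m) → (dg k A : ℚ) ≤ m * (rk A : ℚ) := by
    intro A B m g hg hA h
    rcases Nat.eq_zero_or_pos (rk A) with h0 | h0
    · rw [h0, dg_eq_zero_of_isZero k (isZero_of_rk_zero hA h0)]
      simp
    · have := h A _ g hg h0 (isFinLocFreeOfRank_rk hA)
      rw [deg_eq_dg k (isFinLocFreeOfRank_rk hA)] at this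
      rwa [div_le_iff₀ (by exact_mod_cast h0)] at this
  have b1 := bound l inferInstance hK h₁
  have b2 := bound j hj hI h₂
  rw [deg_eq_dg k hF, div_le_iff₀ (by exact_mod_cast hr'), hdg]
  rw [rk_eq hF] at hrk
  rw [hrk]
  push_cast
  have c1 := mul_le_mul_of_nonneg_right (le_max_left m₁ m₂) (Nat.cast_nonneg (α := ℚ) (rk (kernel (i ≫ biprod.snd))))
  have c2 := mul_le_mul_of_nonneg_right (le_max_right m₁ m₂) (Nat.cast_nonneg (α := ℚ) (rk I))
  linarith

end Groth.Agent.S15335
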