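import Groth.Statements.S15339
import Groth.Agent.Lib.InvEnd
import Groth.Agent.H23.PicMul
import Mathlib.LinearAlgebra.InvariantBasisNumber
import Mathlib.LinearAlgebra.Matrix.StdBasis
-- import your own Groth.Agent.* helpers here

set_option autoImplicit false
universe u
open CategoryTheory CategoryTheory.Limits AlgebraicGeometry
open VBCurve

namespace Groth.Agent.S15339

open scoped Groth.Agent.H23.PicMul in
theorem exists_torsion {X : Scheme.{u}} {L : X.Modules} (hL : PicF.IsInvertible L) {i j : ℕ} (hij : i ≠ j)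
    (e : Nonempty (CohB1.tensorPow L i ≅ CohB1.tensorPow L j)) :
    ∃ m : ℕ, 0 < m ∧ Nonempty (CohB1.tensorPow L m ≅ Coh.structureModule X) := by
  rw [← H23.PicMul.cl_eq_iff, H23.PicMul.cl_tensorPow, H23.PicMul.cl_tensorPow] at e
  obtain ⟨a, ha⟩ := H23.PicMul.isUnit_cl hL
  rw [← ha] at e
  rcases lt_or_gt_of_ne hij with h | h
  · refine ⟨j - i, by omega, H23.PicMul.cl_eq_iff.1 ?_⟩
    rw [H23.PicMul.cl_tensorPow, ← ha, ← H23.PicMul.one_def]
    have h' : (a : PicF.Cl X) ^ i * (a : PicF.Cl X) ^ (j - i) = (a : PicF.Cl X) ^ i * 1 := by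
      rw [← pow_add, Nat.add_sub_cancel' h.le, mul_one, e]
    exact (a ^ i).isUnit.mul_left_cancel (by simpa using h')
  · refine ⟨i - j, by omega, H23.PicMul.cl_eq_iff.1 ?_⟩
    rw [H23.PicMul.cl_tensorPow, ← ha, ← H23.PicMul.one_def]
    have h' : (a : PicF.Cl X) ^ j * (a : PicF.Cl X) ^ (i - j) = (a : PicF.Cl X) ^ j * 1 := by
      rw [← pow_add, Nat.add_sub_cancel' h.le, mul_one, e]
    exact (a ^ j).isUnit.mul_left_cancel (by simpa using h')

/-- In a linear category with scalar endomorphisms of a simple summand, multiplicities are bounded. -/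
theorem mult_le {C : Type*} [Category C] [Preadditive C] {k : Type*} [Field k]
    {ι κ : Type} [Fintype ι] [Fintype κ] (A : ι → C) (B : κ → C) [HasCoproduct A] [HasCoproduct B]
    (e : (∐ A) ≅ (∐ B)) (T : C) (σ : k →+* End T) (hσ : Function.Bijective σ)
    {α β : Type} [Fintype α] (a : α → ι) (ha : Function.Injective a) (haT : ∀ x, A (a x) = T)
    [Fintype β] (b : β → κ) (hb : Function.Injective b) (hbT : ∀ y, B (b y) = T)
    (horth : ∀ i : κ, i ∉ Set.range b → ∀ (u : T ⟶ B i) (v : B i ⟶ T), u ≫ v = 0) :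
    Fintype.card α ≤ Fintype.card β := by
  classical
  let pA : ∀ x : α, (∐ A) ⟶ T := fun x => Sigma.desc fun i => if h : i = a x then eqToHom (by rw [h, haT]) else 0
  let pB : ∀ i : κ, (∐ B) ⟶ B i := fun i => Sigma.desc fun j => if h : j = i then eqToHom (by rw [h]) else 0
  have hid : ∑ i, pB i ≫ Sigma.ι B i = 𝟙 (∐ B) := by
    refine Sigma.hom_ext _ _ fun i => ?_
    rw [Preadditive.comp_sum, Category.comp_id, Finset.sum_eq_single i]
    · simp [pB]
    · intro j _ hj
      simp [pB, Ne.symm hj]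
    · simp
  let F : α → β → End T := fun x y => eqToHom (haT x).symm ≫ Sigma.ι A (a x) ≫ e.hom ≫ pB (b y) ≫ eqToHom (hbT y)
  let G : β → α → End T := fun y x => eqToHom (hbT y).symm ≫ Sigma.ι B (b y) ≫ e.inv ≫ pA x
  choose M hM using fun x y => hσ.2 (F x y)
  choose N hN using fun y x => hσ.2 (G y x)
  have hMN : (Matrix.of M) * (Matrix.of N) = 1 := by
    ext x x'
    apply hσ.1
    rw [Matrix.mul_apply, map_sum]
    have h1 : ∀ y, σ (M x y * N y x') = (F x y : T ⟶ T) ≫ G y x' := fun y => by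
      rw [mul_comm, map_mul, hM, hN]
      rfl
    simp only [Matrix.of_apply, h1]
    have h2 : ∑ i : κ, eqToHom (haT x).symm ≫ Sigma.ι A (a x) ≫ e.hom ≫ pB i ≫ Sigma.ι B i ≫ e.inv ≫ pA x' =
        (eqToHom (haT x).symm ≫ Sigma.ι A (a x) ≫ pA x' : T ⟶ T) := by
      rw [← Preadditive.comp_sum, ← Preadditive.comp_sum, ← Preadditive.comp_sum]
      simp only [← Category.assoc (pB _)]
      rw [← Preadditive.sum_comp, hid, Category.id_comp, Iso.hom_inv_id_assoc]
    have h3 : σ ((1 : Matrix α α k) x x') = (eqToHom (haT x).symm ≫ Sigma.ι A (a x) ≫ pA x' : T ⟶ T) := by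
      by_cases h : x = x'
      · subst h
        rw [Matrix.one_apply_eq, map_one]
        simp [pA, End.one_def]
      · rw [Matrix.one_apply_ne h, map_zero]
        simp [pA, ha.ne h]
    rw [h3, ← h2]
    refine Eq.trans (Finset.sum_congr rfl fun y _ => ?_) ((Finset.sum_image (f := fun i => (eqToHom (haT x).symm ≫
      Sigma.ι A (a x) ≫ e.hom ≫ pB i ≫ Sigma.ι B i ≫ e.inv ≫ pA x' : T ⟶ T)) (g := b) (s := Finset.univ)
      (fun _ _ _ _ h => hb h)).symm.trans (Finset.sum_subset (Finset.subset_univ _) fun i _ hi => ?_))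
    · simp [F, G]
    · have hi' : i ∉ Set.range b := fun ⟨y, hy⟩ => hi (Finset.mem_image.2 ⟨y, Finset.mem_univ _, hy⟩)
      simpa using horth i hi' (eqToHom (haT x).symm ≫ Sigma.ι A (a x) ≫ e.hom ≫ pB i)
        (Sigma.ι B i ≫ e.inv ≫ pA x')
  have hinj : Function.Injective (Matrix.of N).mulVecLin := fun v w h => by
    have h' := congrArg (Matrix.of M).mulVec h
    simpa [Matrix.mulVecLin_apply, Matrix.mulVec_mulVec, hMN] using h'
  have := LinearMap.finrank_le_finrank_of_injective hinj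
  simpa using this

/-- Let X be a smooth proper integral curve (integral, smooth and proper of dimension one) over an
algebraically closed field k and L an invertible O_X-module. Then L is finite in the sense of Weil:
there are two distinct polynomials P ≠ Q with natural-number coefficients such that P(L) ≅ Q(L),
where P(L) denotes the direct sum over i of P_i copies of the i-th tensor power L^{⊗ i} (L^{⊗ 0} =
O_X) if and only if L^{⊗ m} ≅ O_X for some m > 0. -/
theorem result (k : Type u) [Field k] [IsAlgClosed k] (X : Scheme.{u}) [X.Over (Spec (CommRingCat.of k))]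
    [IsIntegral X] [IsProper (X ↘ Spec (CommRingCat.of k))] [Smooth (X ↘ Spec (CommRingCat.of k))]
    (hdim : topologicalKrullDim X = 1)
    (L : X.Modules) (hL : PicF.IsInvertible L) :
    (∃ P Q : Polynomial ℕ, P ≠ Q ∧ Nonempty ((∐ fun i : Fin (P.natDegree + 1) => ∐ fun _ : Fin (P.coeff ↑i) => CohB1.tensorPow L ↑i) ≅
      (∐ fun i : Fin (Q.natDegree + 1) => ∐ fun _ : Fin (Q.coeff ↑i) => CohB1.tensorPow L ↑i))) ↔
    ∃ m : ℕ, 0 < m ∧ Nonempty (CohB1.tensorPow L m ≅ Coh.structureModule X) := by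
  constructor
  · rintro ⟨P, Q, hPQ, ⟨e⟩⟩
    by_contra htor
    push Not at htor
    apply hPQ
    have orth : ∀ t i : ℕ, i ≠ t → ∀ (u : CohB1.tensorPow L t ⟶ CohB1.tensorPow L i)
        (v : CohB1.tensorPow L i ⟶ CohB1.tensorPow L t), u ≫ v = 0 := by
      intro t i hit u v
      by_contra huv
      have ht := H23.PicMul.isInvertible_tensorPow hL t
      have hi := H23.PicMul.isInvertible_tensorPow hL i
      have hiso : ∀ {M : X.Modules}, PicF.IsInvertible M → ∀ f : M ⟶ M, f ≠ 0 → IsIso f := by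
        intro M hM f hf
        letI := CurveEnd.kAlgebra (k := k) M
        obtain ⟨c, hc⟩ := (InvEnd.exists_scalar (k := k) hM).2 f
        have hc0 : c ≠ 0 := fun h => hf (by rw [← hc, h, map_zero])
        exact (isUnit_iff_isIso f).1 (hc ▸ (isUnit_iff_ne_zero.2 hc0).map (algebraMap k (End M)))
      haveI := hiso ht _ huv
      have hvu : v ≫ u ≠ 0 := fun h => huv <| by
        have h2 : (u ≫ v) ≫ (u ≫ v) = 0 := by
          rw [Category.assoc, ← Category.assoc v u v, h]
          simp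
        rw [← cancel_epi (u ≫ v), h2, comp_zero]
      haveI := hiso hi _ hvu
      haveI : Mono u := mono_of_mono u v
      haveI : IsSplitEpi u := ⟨⟨⟨inv (v ≫ u) ≫ v, by simp⟩⟩⟩
      haveI : IsIso u := isIso_of_mono_of_isSplitEpi u
      obtain ⟨m, hm, hm'⟩ := exists_torsion hL hit ⟨(asIso u).symm⟩
      exact (htor m hm).false hm'.some
    have le : ∀ (P Q : Polynomial ℕ)
        (e : (∐ fun i : Fin (P.natDegree + 1) => ∐ fun _ : Fin (P.coeff ↑i) => CohB1.tensorPow L ↑i) ≅
          (∐ fun i : Fin (Q.natDegree + 1) => ∐ fun _ : Fin (Q.coeff ↑i) => CohB1.tensorPow L ↑i)) (t : ℕ),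
        P.coeff t ≤ Q.coeff t := by
      intro P Q e t
      rcases eq_or_ne (P.coeff t) 0 with h0 | h0
      · omega
      have htd : t < P.natDegree + 1 := Nat.lt_succ_of_le (Polynomial.le_natDegree_of_ne_zero h0)
      let A : (Σ i : Fin (P.natDegree + 1), Fin (P.coeff ↑i)) → X.Modules := fun p => CohB1.tensorPow L ↑p.1
      let B : (Σ i : Fin (Q.natDegree + 1), Fin (Q.coeff ↑i)) → X.Modules := fun p => CohB1.tensorPow L ↑p.1
      let e' : (∐ A) ≅ (∐ B) :=
        (sigmaSigmaIso (fun i : Fin (P.natDegree + 1) => Fin (P.coeff ↑i)) fun i _ => CohB1.tensorPow L ↑i).symm ≪≫ e ≪≫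
          sigmaSigmaIso (fun i : Fin (Q.natDegree + 1) => Fin (Q.coeff ↑i)) fun i _ => CohB1.tensorPow L ↑i
      letI := CurveEnd.kAlgebra (k := k) (CohB1.tensorPow L t)
      have := mult_le A B e' (CohB1.tensorPow L t) (algebraMap k _)
        (InvEnd.exists_scalar (k := k) (H23.PicMul.isInvertible_tensorPow hL t))
        (fun x : Fin (P.coeff t) => (⟨⟨t, htd⟩, x⟩ : Σ i : Fin (P.natDegree + 1), Fin (P.coeff ↑i)))
        (fun x y h => by simpa using h) (fun _ => rfl)
        (fun y : { p : Σ i : Fin (Q.natDegree + 1), Fin (Q.coeff ↑i) // (p.1 : ℕ) = t } => y.1)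
        Subtype.val_injective (fun y => by show CohB1.tensorPow L _ = _; rw [y.2])
        (fun i hi u v => orth t ↑i.1 (fun h => hi ⟨⟨i, h⟩, rfl⟩) u v)
      rw [Fintype.card_fin] at this
      refine this.trans ?_
      refine (Fintype.card_le_of_injective
        (fun y : { p : Σ i : Fin (Q.natDegree + 1), Fin (Q.coeff ↑i) // (p.1 : ℕ) = t } =>
          (Fin.cast (by rw [y.2]) y.1.2 : Fin (Q.coeff t))) ?_).trans (Fintype.card_fin _).le
      rintro ⟨⟨i, x⟩, hi⟩ ⟨⟨j, y⟩, hj⟩ h
      obtain rfl : i = j := Fin.ext (hi.trans hj.symm)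
      obtain rfl : x = y := Fin.ext (by simpa [Fin.ext_iff] using h)
      rfl
    ext t
    exact le_antisymm (le P Q e t) (le Q P e.symm t)
  · rintro ⟨m, hm, ⟨e⟩⟩
    refine ⟨Polynomial.X ^ m, 1, fun h => ?_, ⟨?_⟩⟩
    · have := congrArg Polynomial.natDegree h
      rw [Polynomial.natDegree_X_pow, Polynomial.natDegree_one] at this
      omega
    let U : ∀ (P : Polynomial ℕ) (m : ℕ), (∀ i, P.coeff i = if i = m then 1 else 0) → m ≤ P.natDegree →
        ((∐ fun i : Fin (P.natDegree + 1) => ∐ fun _ : Fin (P.coeff ↑i) => CohB1.tensorPow L ↑i) ≅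
          CohB1.tensorPow L m) := fun P m hP hd =>
      have h1 : P.coeff m = 1 := by rw [hP, if_pos rfl]
      have key : ∀ p : Σ i : Fin (P.natDegree + 1), Fin (P.coeff ↑i), (p.1 : ℕ) = m := fun p => by
        by_contra h
        have h2 : (p.2 : ℕ) < P.coeff ↑p.1 := p.2.isLt
        have h3 : P.coeff ↑p.1 = 0 := by rw [hP, if_neg h]
        omega
      haveI : Subsingleton (Σ i : Fin (P.natDegree + 1), Fin (P.coeff ↑i)) := ⟨fun p q => by
        have hp := key p
        have hq := key q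
        obtain ⟨i, x⟩ := p
        obtain ⟨j, y⟩ := q
        obtain rfl : i = j := Fin.ext (hp.trans hq.symm)
        have hc : P.coeff ↑i = 1 := (congrArg P.coeff hp).trans h1
        have hx : (x : ℕ) < P.coeff ↑i := x.isLt
        have hy : (y : ℕ) < P.coeff ↑i := y.isLt
        obtain rfl : x = y := Fin.ext (by omega)
        rfl⟩
      haveI : Unique (Σ i : Fin (P.natDegree + 1), Fin (P.coeff ↑i)) :=
        uniqueOfSubsingleton ⟨⟨m, Nat.lt_succ_of_le hd⟩, ⟨0, by show 0 < P.coeff m; omega⟩⟩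
      sigmaSigmaIso (fun i : Fin (P.natDegree + 1) => Fin (P.coeff ↑i)) (fun i _ => CohB1.tensorPow L ↑i) ≪≫
        coproductUniqueIso (fun p : Σ i : Fin (P.natDegree + 1), Fin (P.coeff ↑i) => CohB1.tensorPow L ↑p.1) ≪≫
        eqToIso (congrArg (CohB1.tensorPow L) (key default))
    exact U (Polynomial.X ^ m) m (fun i => Polynomial.coeff_X_pow m i) (Polynomial.natDegree_X_pow m).ge ≪≫ e ≪≫
      (U 1 0 (fun i => by rw [Polynomial.coeff_one]) (Nat.zero_le _)).symm

end Groth.Agent.S15339
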