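import Groth.Statements.S1534
import Groth.Agent.CurveCM.H0Field
import Groth.Agent.Lib.Euler
-- import your own Groth.Agent.* helpers here

set_option autoImplicit false
universe u
open CategoryTheory CategoryTheory.Limits AlgebraicGeometry
open Curves

namespace Groth.Agent.S1534

/-- A proper scheme of dimension one over a field k whose global functions are k is connected, all of
its local rings are Cohen–Macaulay, and every irreducible component has dimension one. -/
theorem result (k : Type u) [Field k] (X : Scheme.{u}) [X.Over (Spec (CommRingCat.of k))]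
    [IsProper (X ↘ (Spec (CommRingCat.of k)))] (hdim : topologicalKrullDim X = 1) (h0 : Module.finrank k (Coh.HH X (Coh.structureModule X) 0) = 1) :
    ConnectedSpace X ∧ (∀ x : X, LocCoh.IsCohenMacaulayLocalRing (X.presheaf.stalk x)) ∧
      ∀ Z ∈ irreducibleComponents (X : Type u), topologicalKrullDim Z = 1 := by
  haveI := Groth.Agent.CurveCohLib.isNoetherian_of_proper (k := k) (X := X)
  have hb := Groth.Agent.CurveBC.bijective_appTop k X h0
  have hc := Groth.Agent.CurveBC.connectedSpace_of_h0 k X h0
  have htwo : ∀ x : X, ∃ y, y ≠ x := fun x => by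
    by_contra! hall
    haveI : Subsingleton X := ⟨fun a b => (hall a).trans (hall b).symm⟩
    haveI : Subsingleton (TopologicalSpace.IrreducibleCloseds X) := ⟨fun A B =>
      TopologicalSpace.IrreducibleCloseds.ext ((Subsingleton.eq_univ_of_nonempty A.isIrreducible'.nonempty).trans
        (Subsingleton.eq_univ_of_nonempty B.isIrreducible'.nonempty).symm)⟩
    have h : topologicalKrullDim X ≤ 0 := Order.krullDim_nonpos_of_subsingleton
    rw [hdim] at h
    exact absurd h (by norm_num)
  have hdepth : ∀ x : X, IsClosed ({x} : Set X) → (1 : ℕ∞) ≤ LocCoh.depth (X.presheaf.stalk x) (X.presheaf.stalk x) :=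
    fun x hx => Groth.Agent.Alg6.one_le_depth_iff.2 (Groth.Agent.CurveCM.maximalIdeal_notMem_ass hb hx (htwo x).choose_spec)
  have hcm : ∀ x : X, IsClosed ({x} : Set X) → LocCoh.IsCohenMacaulayLocalRing (X.presheaf.stalk x) := fun x hx => by
    refine { supportDim_eq_depth := le_antisymm ?_ (Groth.Agent.LC.depth_le_supportDim (X.presheaf.stalk x)) }
    rw [Module.supportDim_self_eq_ringKrullDim]
    refine ((Groth.Agent.CurveCohLib.ringKrullDim_stalk_le_topologicalKrullDim x).trans hdim.le).trans ?_
    exact_mod_cast hdepth x hx
  refine ⟨hc, fun x => ?_, fun Z hZ => ?_⟩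
  · obtain ⟨y, hxy, hy⟩ := Groth.Agent.SchTop.exists_isClosed_specializes x
    haveI := hcm y hy
    exact Groth.Agent.CMClosed.stalk_of_specializes hxy
  · have hcl : IsClosed Z := isClosed_of_mem_irreducibleComponents Z hZ
    have hle : topologicalKrullDim Z ≤ 1 := (topologicalKrullDim_subspace_le X Z).trans hdim.le
    by_contra hne
    have h0' : topologicalKrullDim Z ≤ 0 := by
      revert hle hne
      generalize topologicalKrullDim ↥Z = a
      intro hle hne
      cases a with
      | bot => exact bot_le
      | coe a =>
        have h1 : a ≤ 1 := WithBot.coe_le_coe.1 hle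
        have h2 : a ≠ 1 := fun h => hne (h ▸ rfl)
        have h3 : a < 0 + 1 := by rw [zero_add]; exact lt_of_le_of_ne h1 h2
        exact WithBot.coe_le_coe.2 ((ENat.lt_add_one_iff (by simp)).1 h3)
    obtain ⟨η, hη⟩ := QuasiSober.sober hZ.1 hcl
    have hηcl : IsClosed ({η} : Set X) := by
      rw [← Groth.Agent.Euler.closure_eq_self_of_dim_le_zero hcl h0' hη.mem]
      exact isClosed_closure
    have hmax : ∀ y : X, y ⤳ η → y = η := fun y hy => by
      have h1 : Z ⊆ closure {y} := hη.def ▸ closure_minimal (Set.singleton_subset_iff.2 hy.mem_closure) isClosed_closure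
      have h2 : closure ({y} : Set X) ⊆ Z := hZ.2 isIrreducible_singleton.closure h1
      exact (Specializes.antisymm hy (hη.specializes (h2 (subset_closure rfl)))).eq
    have h1 := (WithBot.coe_le_coe.2 (hdepth η hηcl)).trans
      ((Groth.Agent.LC.depth_le_supportDim (X.presheaf.stalk η)).trans
        ((le_of_eq (Module.supportDim_self_eq_ringKrullDim _)).trans (Groth.Agent.CurveCM.ringKrullDim_stalk_le_zero η hmax)))
    exact absurd h1 (by norm_num)
end Groth.Agent.S1534
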