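import Groth.Statements.S15340
import Groth.Agent.Lib.CurveEnd
import Groth.Agent.Lib.CurveStable

set_option autoImplicit false
set_option linter.style.haveILetI false
universe u
open CategoryTheory CategoryTheory.Limits AlgebraicGeometry
open VBCurve

namespace Groth.Agent.S15340

/-- Let X be a smooth proper integral curve (integral, smooth and proper of dimension one) over an
algebraically closed field k and E a finite locally free O_X-module of rank r ≥ 1 which is
slope-semistable and slope-stable (deg G · r ≤ deg E · r' for finite locally free submodules G of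
rank r' ≥ 1, strictly when r' < r; degree = χ − rank·χ(O_X)). Then E is indecomposable: it is
nonzero and whenever E ≅ E₁ ⊞ E₂ as O_X-modules, one of E₁, E₂ is zero. -/
theorem result (k : Type u) [Field k] [IsAlgClosed k] (X : Scheme.{u}) [X.Over (Spec (CommRingCat.of k))]
    [IsIntegral X] [IsProper (X ↘ Spec (CommRingCat.of k))] [Smooth (X ↘ Spec (CommRingCat.of k))]
    (hdim : topologicalKrullDim X = 1)
    (r : ℕ) (hr : 0 < r) (E : X.Modules) (hE : FlatMod.IsFinLocFreeOfRank r E)
    (hEss : ModFun.IsSlopeSemistable k X E r) (hEst : ModFun.IsSlopeStable k X E r) :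
    ¬ IsZero E ∧ ∀ (E₁ E₂ : X.Modules), Nonempty (E ≅ E₁ ⊞ E₂) → IsZero E₁ ∨ IsZero E₂ := by
  have key : ∀ f : E ⟶ E, f ≠ 0 → IsIso f := fun f hf =>
    Groth.Agent.CurveBundle.isIso_of_slopes k hdim.le r E E hE hE rfl
      (fun K I a b i j hi hj ha har hb hbr hK hI => by
        linarith [hEst K a i hi ha har hK, hEst I b j hj hb hbr hI]) f hf
  refine ⟨Groth.Agent.CurveEnd.not_isZero E r hr hE, ?_⟩
  rintro E₁ E₂ ⟨e⟩
  by_cases h : e.hom ≫ biprod.fst ≫ biprod.inl ≫ e.inv = 0
  · left
    rw [IsZero.iff_id_eq_zero]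
    have h1 := congrArg (fun f => biprod.inl ≫ e.inv ≫ f ≫ e.hom ≫ biprod.fst) h
    simpa using h1
  · right
    haveI := key _ h
    rw [IsZero.iff_id_eq_zero]
    have h1 : biprod.inr ≫ e.inv ≫ (e.hom ≫ biprod.fst ≫ biprod.inl ≫ e.inv) = 0 := by simp
    rw [← Category.assoc] at h1
    have h3 : biprod.inr ≫ e.inv = 0 := (cancel_mono (e.hom ≫ biprod.fst ≫ biprod.inl ≫ e.inv)).1 (h1.trans zero_comp.symm)
    have h2 := congrArg (fun f => f ≫ e.hom ≫ biprod.snd) h3
    simpa using h2

end Groth.Agent.S15340
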