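import Groth.Statements.S15345
import Groth.Agent.MorLib.SpecLFT

set_option autoImplicit false
universe u
open CategoryTheory CategoryTheory.Limits AlgebraicGeometry
open Mor

namespace Groth.Agent.S15345

/-- Let f : Y ⟶ X be a morphism of schemes, X quasi-separated. If for every morphism X' ⟶ X locally of
finite type the projection Y ×_X X' ⟶ X' reflects specializations (the image of y₁ specializing to
the image of y₀ forces y₁ to specialize to y₀), then the same holds for every morphism X' ⟶ X. (The
published statement assumes moreover that f is a monomorphism; this row does not.) -/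
theorem result {X Y : Scheme.{u}} [QuasiSeparatedSpace ↥X]
    (f : Y ⟶ X)
    (h : ∀ (X' : Scheme.{u}) (g : X' ⟶ X) [LocallyOfFiniteType g] (y₀ y₁ : ↥(pullback f g)),
      (pullback.snd f g).base y₁ ⤳ (pullback.snd f g).base y₀ → y₁ ⤳ y₀) :
    ∀ (X' : Scheme.{u}) (g : X' ⟶ X) (y₀ y₁ : ↥(pullback f g)),
        (pullback.snd f g).base y₁ ⤳ (pullback.snd f g).base y₀ → y₁ ⤳ y₀ := by
  exact fun X' g y₀ y₁ => Groth.Agent.MorLib.SpecLFT.specializes_of_lft f h g y₀ y₁

end Groth.Agent.S15345
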