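import Groth.Statements.S15347
import Mathlib.AlgebraicGeometry.Morphisms.Immersion
import Mathlib.AlgebraicGeometry.ValuativeCriterion

set_option autoImplicit false
universe u
open CategoryTheory CategoryTheory.Limits AlgebraicGeometry
open Mor

namespace Groth.Agent.S15347

/-- Let f : Y ⟶ X be an immersion of schemes. Then: for every valuation ring A with fraction field K and
every commutative square Spec K ⟶ Y, Spec A ⟶ X over f such that some morphism from the spectrum of
the residue field of A to Y lies over Spec A ⟶ X, the square admits a lift; and for every integral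
domain A and every morphism s : Spec A ⟶ X such that the points of a dense subset of Spec A lift to
Y (the residue field of each such point maps to Y over s), there is a nonempty open subscheme U of
Spec A with a morphism U ⟶ Y over s. (The published statement is for a representable, locally
finitely presented morphism of algebraic stacks with locally Noetherian target and a quasi-compact
immersion, and also lists that f is a monomorphism; this row is the case of schemes, for any
immersion and any target.) -/
theorem result {X Y : Scheme.{u}} (f : Y ⟶ X) [IsImmersion f] :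
    (∀ S : ValuativeCommSq f,
        (∃ l₀ : Spec (CommRingCat.of (IsLocalRing.ResidueField S.R)) ⟶ Y,
            l₀ ≫ f = Spec.map (CommRingCat.ofHom (IsLocalRing.residue S.R)) ≫ S.i₂) →
          S.commSq.HasLift) ∧
      ∀ (A : Type u) [CommRing A] [IsDomain A] (s : Spec (CommRingCat.of A) ⟶ X) (D : Set ↥(Spec (CommRingCat.of A))),
        Dense D →
        (∀ p ∈ D, ∃ l : Spec ((Spec (CommRingCat.of A)).residueField p) ⟶ Y,
            l ≫ f = (Spec (CommRingCat.of A)).fromSpecResidueField p ≫ s) →
          ∃ U : (Spec (CommRingCat.of A)).Opens, (U : Set ↥(Spec (CommRingCat.of A))).Nonempty ∧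
            ∃ l : (U : Scheme.{u}) ⟶ Y, l ≫ f = U.ι ≫ s := by
  constructor
  · rintro S ⟨l₀, hl₀⟩
    have hc : IsLocalRing.closedPoint S.R ∈ S.i₂ ⁻¹ᵁ f.coborderRange := by
      have h := congrArg (fun k : Spec (CommRingCat.of (IsLocalRing.ResidueField S.R)) ⟶ X =>
        k (IsLocalRing.closedPoint _)) hl₀
      simp only [Scheme.Hom.comp_apply] at h
      have he : Spec.map (CommRingCat.ofHom (IsLocalRing.residue S.R)) (IsLocalRing.closedPoint _) =
          IsLocalRing.closedPoint S.R := IsLocalRing.comap_closedPoint (IsLocalRing.residue S.R)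
      rw [he] at h
      show S.i₂ _ ∈ (f.coborderRange : Set X)
      rw [← h]
      exact subset_coborder ⟨_, rfl⟩
    let i₂' : Spec (CommRingCat.of S.R) ⟶ f.coborderRange := IsOpenImmersion.lift f.coborderRange.ι S.i₂ (by
      rw [Scheme.Opens.range_ι]
      rintro _ ⟨q, rfl⟩
      exact ((IsLocalRing.specializes_closedPoint q).map S.i₂.continuous).mem_open f.coborderRange.2 hc)
    have hv : ValuativeCriterion.Existence f.liftCoborder := by
      have : UniversallyClosed f.liftCoborder := inferInstance
      rw [UniversallyClosed.eq_valuativeCriterion] at this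
      exact this.1
    obtain ⟨l, hl₁, hl₂⟩ := (hv { R := S.R, K := S.K, i₁ := S.i₁, i₂ := i₂', commSq := ⟨by
      rw [← cancel_mono f.coborderRange.ι, Category.assoc, Category.assoc, IsOpenImmersion.lift_fac,
        Scheme.Hom.liftCoborder_ι, S.commSq.w]⟩ }).exists_lift
    exact ⟨⟨⟨l, hl₁, (congrArg (l ≫ ·) (Scheme.Hom.liftCoborder_ι f).symm).trans
      ((Category.assoc _ _ _).symm.trans ((congrArg (· ≫ f.coborderRange.ι) hl₂).trans
        (IsOpenImmersion.lift_fac _ _ _)))⟩⟩⟩
  · intro A _ _ s D hD hl
    have hr : ∀ p ∈ D, s p ∈ Set.range f := fun p hp => by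
      obtain ⟨l, hl⟩ := hl p hp
      have h := congrArg (fun k : Spec ((Spec (CommRingCat.of A)).residueField p) ⟶ X =>
        k (IsLocalRing.closedPoint _)) hl
      simp only [Scheme.Hom.comp_apply, Scheme.fromSpecResidueField_apply] at h
      exact ⟨_, h⟩
    let U : (Spec (CommRingCat.of A)).Opens := s ⁻¹ᵁ f.coborderRange
    obtain ⟨p, hp⟩ := hD.nonempty
    refine ⟨U, ⟨p, subset_coborder (hr p hp)⟩, ?_⟩
    let s' : (U : Scheme.{u}) ⟶ f.coborderRange := s ∣_ f.coborderRange
    haveI : IsReduced (U : Scheme.{u}) := isReduced_of_isOpenImmersion U.ι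
    let c := Limits.pullback.fst s' f.liftCoborder
    haveI : Surjective c := by
      have hc : IsClosed (Set.range c) := c.isClosedEmbedding.isClosed_range
      refine ⟨fun q => ?_⟩
      have : closure (U.ι ⁻¹' D) ⊆ Set.range c := by
        refine hc.closure_subset_iff.mpr fun q hq => ?_
        rw [Scheme.Pullback.range_fst]
        obtain ⟨y, hy⟩ := hr _ hq
        refine ⟨y, f.coborderRange.ι.isOpenEmbedding.injective ?_⟩
        rw [← Scheme.Hom.comp_apply, Scheme.Hom.liftCoborder_ι, hy, ← Scheme.Hom.comp_apply,
          ← Scheme.Hom.comp_apply, morphismRestrict_ι]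
      exact this ((hD.preimage U.ι.isOpenEmbedding.isOpenMap).closure_eq.ge trivial)
    haveI : IsIso c := isIso_of_isClosedImmersion_of_surjective c
    refine ⟨inv c ≫ Limits.pullback.snd s' f.liftCoborder,
      (congrArg ((inv c ≫ Limits.pullback.snd s' f.liftCoborder) ≫ ·) (Scheme.Hom.liftCoborder_ι f).symm).trans ?_⟩
    rw [Category.assoc, ← Limits.pullback.condition_assoc, IsIso.inv_hom_id_assoc, morphismRestrict_ι]

end Groth.Agent.S15347
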