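import Groth.Statements.S15349
import Groth.Agent.MorLib.MonoSpec

set_option autoImplicit false
universe u
open CategoryTheory CategoryTheory.Limits AlgebraicGeometry
open Mor

namespace Groth.Agent.S15349

theorem exists_comap_eq {R : Type u} [CommRing R] {I : Ideal R} {q : PrimeSpectrum R} (h : I ≤ q.asIdeal) :
    ∃ p : PrimeSpectrum (R ⧸ I), p.asIdeal.comap (Ideal.Quotient.mk I) = q.asIdeal := by
  refine ⟨⟨q.asIdeal.map (Ideal.Quotient.mk I),
    Ideal.map_isPrime_of_surjective Ideal.Quotient.mk_surjective (by rwa [Ideal.mk_ker])⟩, ?_⟩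
  rw [Ideal.comap_map_of_surjective _ Ideal.Quotient.mk_surjective]
  refine le_antisymm (sup_le le_rfl ?_) le_sup_left
  intro z hz
  exact h (Ideal.Quotient.eq_zero_iff_mem.mp (Ideal.mem_comap.mp hz))

theorem compact_piece {X Y : Scheme.{u}} (f : Y ⟶ X) [Mono f]
    (hc : ∀ (A : Type u) [CommRing A] [IsDomain A] (s : Spec (CommRingCat.of A) ⟶ X) (D : Set ↥(Spec (CommRingCat.of A))),
        Dense D →
        (∀ p ∈ D, ∃ l : Spec ((Spec (CommRingCat.of A)).residueField p) ⟶ Y,
            l ≫ f = (Spec (CommRingCat.of A)).fromSpecResidueField p ≫ s) →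
          ∃ U : (Spec (CommRingCat.of A)).Opens, (U : Set ↥(Spec (CommRingCat.of A))).Nonempty ∧
            ∃ l : (U : Scheme.{u}) ⟶ Y, l ≫ f = U.ι ≫ s)
    {R : CommRingCat.{u}} [IsNoetherianRing R] (j : Spec R ⟶ X) (I : Ideal R) :
    IsCompact {y : Y | ∃ q : PrimeSpectrum R, I ≤ q.asIdeal ∧ j q = f y} := by
  classical
  refine IsWellFounded.induction (· > ·) I (motive := fun I : Ideal R =>
    IsCompact {y : Y | ∃ q : PrimeSpectrum R, I ≤ q.asIdeal ∧ j q = f y}) fun I ih => ?_
  by_cases htop : I = ⊤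
  · convert isCompact_empty
    exact Set.eq_empty_of_forall_notMem fun y ⟨q, hq, _⟩ => q.2.ne_top (top_le_iff.mp (htop ▸ hq))
  have hlt : ∀ c, c ∉ I → I < I ⊔ Ideal.span {c} := fun c hc => lt_of_le_of_ne le_sup_left fun e =>
    hc (e ▸ Ideal.mem_sup_right (Ideal.mem_span_singleton_self c))
  by_cases hI : I.IsPrime
  swap
  · obtain ⟨a, ha, b, hb, hab⟩ := (Ideal.not_isPrime_iff.mp hI).resolve_left htop
    convert (ih _ (hlt a ha)).union (ih _ (hlt b hb)) using 1
    ext y
    constructor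
    · rintro ⟨q, hq, hqy⟩
      exact (q.2.mem_or_mem (hq hab)).imp
        (fun h => ⟨q, sup_le hq ((Ideal.span_singleton_le_iff_mem _).mpr h), hqy⟩)
        (fun h => ⟨q, sup_le hq ((Ideal.span_singleton_le_iff_mem _).mpr h), hqy⟩)
    · rintro (⟨q, hq, hqy⟩ | ⟨q, hq, hqy⟩) <;> exact ⟨q, le_sup_left.trans hq, hqy⟩
  let i : Spec (CommRingCat.of (R ⧸ I)) ⟶ X := Spec.map (CommRingCat.ofHom (Ideal.Quotient.mk I)) ≫ j
  let D : Set (Spec (CommRingCat.of (R ⧸ I))) := i ⁻¹' Set.range f
  obtain ⟨ā, hā, K, hK, hKi, hKc⟩ : ∃ ā : R ⧸ I, ā ≠ 0 ∧ ∃ K : Set Y, IsCompact K ∧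
      K ⊆ f ⁻¹' Set.range i ∧ ∀ p : PrimeSpectrum (R ⧸ I), ā ∉ p.asIdeal → ∀ y, f y = i p → y ∈ K := by
    by_cases hD : Dense D
    · obtain ⟨U, hU, l, hl⟩ := hc _ i D hD fun p hp => by
        obtain ⟨y, hy⟩ := hp
        exact Groth.Agent.MorLib.MonoSpec.exists_lift_residue f
          (K := (Spec (CommRingCat.of (R ⧸ I))).residueField p) _ y (by
          rw [Scheme.Hom.comp_apply, Scheme.fromSpecResidueField_apply]; exact hy.symm)
      obtain ⟨q, hq⟩ := hU
      obtain ⟨_, ⟨a, rfl⟩, hqa, haU⟩ :=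
        PrimeSpectrum.isTopologicalBasis_basic_opens.exists_subset_of_mem_open hq U.2
      refine ⟨a, fun h0 => hqa (h0 ▸ Ideal.zero_mem _),
        l '' (U.ι ⁻¹' ((PrimeSpectrum.basicOpen a : TopologicalSpace.Opens (PrimeSpectrum _)) : Set (PrimeSpectrum _))), ?_, ?_, ?_⟩
      · refine (U.ι.isOpenEmbedding.toIsEmbedding.isInducing.isCompact_preimage' ?_ ?_).image l.continuous
        · exact PrimeSpectrum.isCompact_basicOpen a
        · rw [Scheme.Opens.range_ι]; exact haU
      · rintro _ ⟨t, -, rfl⟩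
        exact ⟨U.ι t, by rw [← Scheme.Hom.comp_apply, ← hl, Scheme.Hom.comp_apply]⟩
      · intro p hp y hy
        refine ⟨⟨p, haU hp⟩, hp, f.injective ?_⟩
        rw [hy, ← Scheme.Hom.comp_apply, hl, Scheme.Hom.comp_apply]
        rfl
    · obtain ⟨q, hq⟩ : ∃ q, q ∉ closure D := by
        by_contra hne
        push Not at hne
        exact hD (fun x => hne x)
      obtain ⟨_, ⟨a, rfl⟩, hqa, haD⟩ :=
        PrimeSpectrum.isTopologicalBasis_basic_opens.exists_subset_of_mem_open hq isClosed_closure.isOpen_compl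
      exact ⟨a, fun h0 => hqa (h0 ▸ Ideal.zero_mem _), ∅, isCompact_empty, Set.empty_subset _,
        fun p hp y hy => absurd (subset_closure (show p ∈ D from ⟨y, hy⟩)) (haD hp)⟩
  obtain ⟨a, rfl⟩ := Ideal.Quotient.mk_surjective ā
  have haI : a ∉ I := fun h => hā (Ideal.Quotient.eq_zero_iff_mem.mpr h)
  convert (ih _ (hlt a haI)).union hK using 1
  ext y
  constructor
  · rintro ⟨q, hq, hqy⟩
    by_cases haq : a ∈ q.asIdeal
    · exact Or.inl ⟨q, sup_le hq ((Ideal.span_singleton_le_iff_mem _).mpr haq), hqy⟩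
    · obtain ⟨p, hp⟩ := exists_comap_eq hq
      refine Or.inr (hKc p (fun h => haq (hp ▸ h)) y ?_)
      rw [← hqy]
      show j q = j (PrimeSpectrum.comap (Ideal.Quotient.mk I) p)
      congr 1
      exact PrimeSpectrum.ext hp.symm
  · rintro (⟨q, hq, hqy⟩ | hy)
    · exact ⟨q, le_sup_left.trans hq, hqy⟩
    · obtain ⟨p, hp⟩ := hKi hy
      refine ⟨PrimeSpectrum.comap (Ideal.Quotient.mk I) p, fun z hz => ?_, hp⟩
      show Ideal.Quotient.mk I z ∈ p.asIdeal
      rw [Ideal.Quotient.eq_zero_iff_mem.mpr hz]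
      exact zero_mem _


/-- Let X be a locally Noetherian scheme and f : Y ⟶ X a monomorphism locally of finite presentation
such that, for every integral domain A and every morphism s : Spec A ⟶ X for which the points of a
dense subset of Spec A lift to Y (the residue field of each such point maps to Y over s), some
nonempty open subscheme of Spec A maps to Y over s. Then f is quasi-compact. (The published remark
is for a representable morphism of algebraic stacks; this row is the case of schemes.) -/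
theorem result {X Y : Scheme.{u}} [IsLocallyNoetherian X]
    (f : Y ⟶ X) [LocallyOfFinitePresentation f] [Mono f]
    (hc : ∀ (A : Type u) [CommRing A] [IsDomain A] (s : Spec (CommRingCat.of A) ⟶ X) (D : Set ↥(Spec (CommRingCat.of A))),
        Dense D →
        (∀ p ∈ D, ∃ l : Spec ((Spec (CommRingCat.of A)).residueField p) ⟶ Y,
            l ≫ f = (Spec (CommRingCat.of A)).fromSpecResidueField p ≫ s) →
          ∃ U : (Spec (CommRingCat.of A)).Opens, (U : Set ↥(Spec (CommRingCat.of A))).Nonempty ∧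
            ∃ l : (U : Scheme.{u}) ⟶ Y, l ≫ f = U.ι ≫ s) :
    QuasiCompact f := by
  refine ⟨fun O hO hOc => ?_⟩
  obtain ⟨t, ht, hcovO⟩ := (isCompact_iff_finite_and_eq_biUnion_affineOpens (U := ⟨O, hO⟩)).mp hOc
  have hO' : O = ⋃ V ∈ t, (V.1 : Set X) := by
    have h := congrArg (fun W : X.Opens => (W : Set X)) hcovO
    simpa using h
  rw [hO', Set.preimage_iUnion₂]
  refine ht.isCompact_biUnion fun V _ => ?_
  haveI : IsNoetherianRing Γ(X, V.1) := IsLocallyNoetherian.component_noetherian V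
  have h := compact_piece f hc V.2.fromSpec ⊥
  convert h using 1
  ext y
  show f y ∈ (V.1 : Set X) ↔ _
  rw [← V.2.range_fromSpec]
  exact ⟨fun ⟨q, hq⟩ => ⟨q, bot_le, hq⟩, fun ⟨q, _, hq⟩ => ⟨q, hq⟩⟩

end Groth.Agent.S15349
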