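import Groth.Statements.S15350
import Groth.Agent.SecComp5.Open
-- import your own Groth.Agent.* helpers here

set_option autoImplicit false
universe u
open CategoryTheory CategoryTheory.Limits AlgebraicGeometry
open MoreMor

namespace Groth.Agent.S15350

set_option backward.isDefEq.respectTransparency false
set_option backward.isDefEq.respectTransparency.types false

/-- Let f : X ⟶ S be smooth, quasi-compact and quasi-separated, let g : S' ⟶ S be universally open and
let e : S' ⟶ X satisfy e ≫ f = g. Then there is an open subset U of X (necessarily unique) such that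
for every point s of S, U ∩ f⁻¹(s) is the union of those connected components of the fibre f⁻¹(s),
with its subspace topology, which meet e(S'). -/
theorem result {S S' X : Scheme.{u}} (f : X ⟶ S)
    [Smooth f] [QuasiCompact f] [QuasiSeparated f] (g : S' ⟶ S) [UniversallyOpen g] (e : S' ⟶ X)
    (he : e ≫ f = g) :
    ∃ U : X.Opens, ∀ s : S, (U : Set ↥X) ∩ f.base ⁻¹' {s} =
      ⋃ x ∈ Set.range e.base ∩ f.base ⁻¹' {s}, connectedComponentIn (f.base ⁻¹' {s}) x := by
  let X' := pullback f g
  let q' : X' ⟶ S' := pullback.snd f g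
  let p' : X' ⟶ X := pullback.fst f g
  let e' : S' ⟶ X' := pullback.lift e (𝟙 _) (by rw [he, Category.id_comp])
  haveI : Smooth q' := MorphismProperty.pullback_snd (P := @Smooth) _ _ inferInstance
  have he' : e' ≫ q' = 𝟙 _ := pullback.lift_snd _ _ _
  have hp' : ∀ s', p' (e' s') = e s' := fun s' => by
    rw [← Scheme.Hom.comp_apply, pullback.lift_fst]
  have hfp : ∀ z, f (p' z) = g (q' z) := fun z => by
    rw [← Scheme.Hom.comp_apply, pullback.condition, Scheme.Hom.comp_apply]
  refine ⟨⟨p' '' MoreMor.sectionComponents q' e',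
    p'.isOpenMap _ (SecComp5.isOpen_sectionComponents q' e' he')⟩, fun s => subset_antisymm ?_ ?_⟩
  · rintro _ ⟨⟨z, hz, rfl⟩, hzs⟩
    replace hz : z ∈ connectedComponentIn (q' ⁻¹' {q' z}) (e' (q' z)) := hz
    have hmem : e' (q' z) ∈ q' ⁻¹' {q' z} := SecComp5.apply_section q' e' he' _
    have hs : g (q' z) = s := by rw [← hfp z]; exact hzs
    have hes : f (e (q' z)) = s := by rw [← hp', hfp, SecComp5.apply_section q' e' he', hs]
    refine Set.mem_iUnion₂.2 ⟨e (q' z), ⟨⟨_, rfl⟩, hes⟩, ?_⟩
    refine (isPreconnected_connectedComponentIn.image p' p'.continuous.continuousOn).subset_connectedComponentIn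
      ⟨_, mem_connectedComponentIn hmem, hp' _⟩ ?_ ⟨z, hz, rfl⟩
    rintro _ ⟨w, hw, rfl⟩
    show f (p' w) = s
    rw [hfp, show q' w = q' z from connectedComponentIn_subset (q' ⁻¹' {q' z}) (e' (q' z)) hw, hs]
  · intro w hw
    obtain ⟨x, ⟨⟨s', hs'x⟩, hxs⟩, hw⟩ := Set.mem_iUnion₂.1 hw
    replace hs'x : e s' = x := hs'x
    subst hs'x
    refine ⟨?_, connectedComponentIn_subset _ _ hw⟩
    have hgs : g s' = s := by
      rw [← show f (e s') = g s' from by rw [← Scheme.Hom.comp_apply, he]]
      exact hxs
    subst hgs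
    let k := S.residueField (g s')
    let L := S'.residueField s'
    let ρ := g.residueFieldMap s'
    letI : Algebra k L := ρ.hom.toAlgebra
    let Y := f.fiber (g s')
    letI : Y.Over (Spec (CommRingCat.of k)) := ⟨f.fiberToSpecResidueField (g s')⟩
    let y₀ : Spec (CommRingCat.of L) ⟶ Y := pullback.lift (S'.fromSpecResidueField s' ≫ e) (Spec.map ρ)
      (by
        rw [Category.assoc, he]
        exact (Scheme.Hom.SpecMap_residueFieldMap_fromSpecResidueField g s').symm)
    let σ : Spec (CommRingCat.of L) ⟶ Curv2.bc k Y L := pullback.lift y₀ (𝟙 _) (by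
      rw [Category.id_comp]
      exact pullback.lift_snd _ _ _)
    let j : Curv2.bc k Y L ⟶ X' := pullback.lift (Curv2.bcFst k Y L ≫ f.fiberι (g s'))
      (Curv2.bcSnd k Y L ≫ S'.fromSpecResidueField s') (by
        have h1 : f.fiberι (g s') ≫ f = f.fiberToSpecResidueField (g s') ≫ S.fromSpecResidueField (g s') :=
          pullback.condition
        have h2 : Curv2.bcFst k Y L ≫ f.fiberToSpecResidueField (g s') = Curv2.bcSnd k Y L ≫ Spec.map ρ :=
          pullback.condition
        rw [Category.assoc, h1, reassoc_of% h2, Category.assoc,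
          Scheme.Hom.SpecMap_residueFieldMap_fromSpecResidueField g s'])
    let cp := IsLocalRing.closedPoint L
    have hy₀ : f.fiberι (g s') (y₀ cp) = e s' := by
      rw [← Scheme.Hom.comp_apply, show y₀ ≫ f.fiberι (g s') = S'.fromSpecResidueField s' ≫ e from
        pullback.lift_fst _ _ _, Scheme.Hom.comp_apply]
      exact congrArg e.base (Scheme.fromSpecResidueField_apply _ _)
    rw [← hy₀, SecComp5.connectedComponentIn_fiberι] at hw
    obtain ⟨z, hz, rfl⟩ := hw
    have hσ : Curv2.bcFst k Y L (σ cp) = y₀ cp := by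
      rw [← Scheme.Hom.comp_apply]
      exact congrArg (fun m : Spec (CommRingCat.of L) ⟶ Y => m cp) (pullback.lift_fst _ _ _)
    rw [← hσ, ← GeomField.image_connectedComponent L (σ cp)] at hz
    obtain ⟨z', hz', rfl⟩ := hz
    have hqj : ∀ v, q' (j v) = s' := fun v => by
      rw [← Scheme.Hom.comp_apply, pullback.lift_snd, Scheme.Hom.comp_apply]
      exact Scheme.fromSpecResidueField_apply _ _
    have hjσ : σ ≫ j = S'.fromSpecResidueField s' ≫ e' := by
      apply pullback.hom_ext
      · rw [Category.assoc, Category.assoc, pullback.lift_fst, pullback.lift_fst, ← Category.assoc,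
          show σ ≫ Curv2.bcFst k Y L = y₀ from pullback.lift_fst _ _ _]
        exact pullback.lift_fst _ _ _
      · rw [Category.assoc, Category.assoc, pullback.lift_snd, pullback.lift_snd, ← Category.assoc,
          show σ ≫ Curv2.bcSnd k Y L = 𝟙 _ from pullback.lift_snd _ _ _, Category.id_comp, Category.comp_id]
    refine ⟨j z', ?_, ?_⟩
    · show j z' ∈ connectedComponentIn (q' ⁻¹' {q' (j z')}) (e' (q' (j z')))
      rw [hqj]
      refine (isPreconnected_connectedComponent.image j j.continuous.continuousOn).subset_connectedComponentIn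
        ⟨σ cp, mem_connectedComponent, ?_⟩ ?_ ⟨z', hz', rfl⟩
      · rw [← Scheme.Hom.comp_apply, hjσ, Scheme.Hom.comp_apply]
        exact congrArg e'.base (Scheme.fromSpecResidueField_apply _ _)
      · rintro _ ⟨v, -, rfl⟩
        exact hqj v
    · rw [← Scheme.Hom.comp_apply, pullback.lift_fst, Scheme.Hom.comp_apply]

end Groth.Agent.S15350
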