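import Groth.Statements.S15352
import Groth.Agent.GrpSchLib.FieldComp
-- import your own Groth.Agent.* helpers here

set_option autoImplicit false
universe u
open CategoryTheory CategoryTheory.Limits MonoidalCategory CartesianMonoidalCategory MonObj GrpObj AlgebraicGeometry
open GrpSch

open Groth.Agent.GrpSchLib

namespace Groth.Agent.S15352

/-- Let k be an algebraically closed field, G a group scheme locally of finite type over k, G⁰ ⊆ G the
connected component of the unit point, and U a nonempty open subscheme of G contained in G⁰. Then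
every point of G⁰ is in the image of the morphism U ×_k U ⟶ G, (g, h) ↦ g·h⁻¹. (The published
statement writes U as an open of G mapping to G⁰ × G⁰; this row makes the containment U ⊆ G⁰
explicit.) -/
theorem result (k : Type u) [Field k] [IsAlgClosed k]
    (G : Over (Spec (CommRingCat.of k))) [GrpObj G] [LocallyOfFiniteType G.hom] (U : G.left.Opens)
    (hne : (U : Set ↥G.left).Nonempty)
    (hU : (U : Set ↥G.left) ⊆ connectedComponent (η[G].left.base (IsLocalRing.closedPoint k))) :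
    connectedComponent (η[G].left.base (IsLocalRing.closedPoint k)) ⊆ Set.range
      ((((Over.homMk U.ι rfl : Over.mk (U.ι ≫ G.hom) ⟶ G) ⊗ₘ
          ((Over.homMk U.ι rfl : Over.mk (U.ι ≫ G.hom) ⟶ G) ≫ ι[G])) ≫ μ[G]).left.base) := by
  obtain ⟨g, hg, hge⟩ := exists_isMaxPt (η[G].left.base (IsLocalRing.closedPoint k))
  rw [connectedComponent_one hg hge] at hU ⊢
  obtain ⟨u, hu⟩ := hne
  intro x hx
  have hι : ((GrpObj.inv : G ⟶ G) ≫ GrpObj.inv) = 𝟙 G := GrpObj.inv_comp_inv G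
  obtain ⟨p, ⟨hp1, hp2⟩, hpx⟩ := exists_mul_eq hg hge hx U.2
    (U.2.preimage (GrpObj.inv : G ⟶ G).left.continuous) ⟨u, hu, hU hu⟩
    ⟨(GrpObj.inv : G ⟶ G).left u, show (GrpObj.inv : G ⟶ G).left ((GrpObj.inv : G ⟶ G).left u) ∈ U by
      rw [← left_comp_apply, hι]; exact hu, inv_mem_closure hg hge (hU hu)⟩
  let j : Over.mk (U.ι ≫ G.hom) ⟶ G := Over.homMk U.ι rfl
  have : (G ◁ (GrpObj.inv : G ⟶ G)).left p ∈ Set.range (j ⊗ₘ j).left := by
    rw [range_tensorHom]
    refine ⟨?_, ?_⟩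
    · rw [Set.mem_preimage, ← left_comp_apply, whiskerLeft_fst]
      show _ ∈ Set.range U.ι
      rw [Scheme.Opens.range_ι]; exact hp1
    · rw [Set.mem_preimage, ← left_comp_apply, whiskerLeft_snd, left_comp_apply]
      show _ ∈ Set.range U.ι
      rw [Scheme.Opens.range_ι]; exact hp2
  obtain ⟨q, hq⟩ := this
  refine ⟨q, ?_⟩
  have he : (j ⊗ₘ (j ≫ ι[G])) ≫ μ[G] = (j ⊗ₘ j) ≫ G ◁ (GrpObj.inv : G ⟶ G) ≫ μ[G] := by
    rw [← Category.assoc, MonoidalCategory.tensorHom_def (f := j) (g := j ≫ ι[G]),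
      MonoidalCategory.tensorHom_def (f := j) (g := j)]
    simp [MonoidalCategory.whiskerLeft_comp]
  show ((j ⊗ₘ (j ≫ ι[G])) ≫ μ[G]).left q = x
  have h2 : G ◁ (GrpObj.inv : G ⟶ G) ≫ G ◁ (GrpObj.inv : G ⟶ G) = 𝟙 _ := by
    rw [← MonoidalCategory.whiskerLeft_comp, hι, MonoidalCategory.whiskerLeft_id]
  have h3 : (G ◁ (GrpObj.inv : G ⟶ G)).left ((G ◁ (GrpObj.inv : G ⟶ G)).left p) = p :=
    (left_comp_apply (G ◁ (GrpObj.inv : G ⟶ G)) (G ◁ (GrpObj.inv : G ⟶ G)) p).symm.trans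
      (congrArg (fun f : G ⊗ G ⟶ G ⊗ G => f.left p) h2)
  rw [he, left_comp_apply, left_comp_apply, hq, h3]
  exact hpx

end Groth.Agent.S15352
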