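import Groth.Statements.S15353
import Groth.Agent.InvMod.PicNil

set_option autoImplicit false
universe u
open CAlg

namespace Groth.Agent.S15353

/-- Let f : A' → A be a surjective ring homomorphism whose kernel is a nilpotent ideal. Then the induced
homomorphism of Picard groups Pic(A') → Pic(A), base change of invertible modules along f, is
bijective. -/
theorem result {A' A : Type u} [CommRing A'] [CommRing A]
    (f : A' →+* A) (hf : Function.Surjective f) (hker : IsNilpotent (RingHom.ker f)) :
    Function.Bijective (CommRing.Pic.mapRingHom f) := by
  letI := f.toAlgebra
  exact Groth.Agent.InvMod.mapAlgebra_bijective (R := A') (A := A) hf hker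

end Groth.Agent.S15353
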