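import Groth.Statements.S15354
import Groth.Agent.MorLib.DenseValuative2

set_option autoImplicit false
universe u
open CategoryTheory CategoryTheory.Limits AlgebraicGeometry
open Mor

namespace Groth.Agent.S15354

/-- Let f : Y ⟶ X be a morphism of schemes, A a valuation ring with fraction field K and residue field
k, and ξ, η : Spec A ⟶ Y two A-points of Y over the same A-point of X. If ξ and η restrict to the
same K-point and to the same k-point of Y, then ξ = η. (The published statement is an equivalence,
for algebraic spaces locally of finite presentation over a Noetherian scheme, between local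
separatedness of f and conditions (a), (b); this row is the necessity of (a) in the case of schemes,
where no hypothesis on f is needed.) -/
theorem result {X Y : Scheme.{u}} (f : Y ⟶ X)
    (A : Type u) [CommRing A] [IsDomain A] [ValuationRing A] (K : Type u) [Field K] [Algebra A K]
    [IsFractionRing A K] (ξ η : Spec (CommRingCat.of A) ⟶ Y) (hf : ξ ≫ f = η ≫ f)
    (hK : Spec.map (CommRingCat.ofHom (algebraMap A K)) ≫ ξ = Spec.map (CommRingCat.ofHom (algebraMap A K)) ≫ η)
    (hk : Spec.map (CommRingCat.ofHom (IsLocalRing.residue A)) ≫ ξ =
      Spec.map (CommRingCat.ofHom (IsLocalRing.residue A)) ≫ η) :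
    ξ = η := by
  obtain ⟨W, hW, hy, -⟩ := exists_isAffineOpen_mem_and_subset
    (x := ξ (IsLocalRing.closedPoint A)) (U := ⊤) trivial
  refine Groth.Agent.MorLib.DenseValuative.hom_ext_into_affine (j := algebraMap A K)
    (IsFractionRing.injective A K) ξ η hW hy ?_ hK
  have h := congrArg (fun k : Spec (CommRingCat.of (IsLocalRing.ResidueField A)) ⟶ Y =>
    k (IsLocalRing.closedPoint _)) hk
  simp only [Scheme.Hom.comp_apply] at h
  have hc : Spec.map (CommRingCat.ofHom (IsLocalRing.residue A)) (IsLocalRing.closedPoint _) =
      IsLocalRing.closedPoint A := IsLocalRing.comap_closedPoint (IsLocalRing.residue A)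
  rw [hc] at h
  exact h ▸ hy

end Groth.Agent.S15354
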