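import Groth.Statements.S15355
import Mathlib.AlgebraicGeometry.Morphisms.Separated

set_option autoImplicit false
universe u
open CategoryTheory CategoryTheory.Limits AlgebraicGeometry
open Mor

namespace Groth.Agent.S15355

/-- Let f : Y ⟶ X be a morphism of schemes, A an integral domain and ξ, η : Spec A ⟶ Y two A-points of Y
over the same A-point of X. If ξ and η induce the same κ(p)-point of Y at every point p of some
dense subset of Spec A, then ξ and η agree on a nonempty open subscheme of Spec A. (The published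
statement is an equivalence, for algebraic spaces locally of finite presentation over a Noetherian
scheme, between local separatedness of f and conditions (a), (b); this row is the necessity of (b)
in the case of schemes, where no hypothesis on f is needed.) -/
theorem result {X Y : Scheme.{u}} (f : Y ⟶ X)
    (A : Type u) [CommRing A] [IsDomain A] (ξ η : Spec (CommRingCat.of A) ⟶ Y) (hf : ξ ≫ f = η ≫ f)
    (D : Set ↥(Spec (CommRingCat.of A))) (hD : Dense D)
    (hpt : ∀ p ∈ D, (Spec (CommRingCat.of A)).fromSpecResidueField p ≫ ξ =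
      (Spec (CommRingCat.of A)).fromSpecResidueField p ≫ η) :
    ∃ U : (Spec (CommRingCat.of A)).Opens, (U : Set ↥(Spec (CommRingCat.of A))).Nonempty ∧ U.ι ≫ ξ = U.ι ≫ η := by
  classical
  obtain ⟨p, hp⟩ := hD.nonempty
  have hpη : ∀ q ∈ D, η q = ξ q := fun q hq => by
    have h := congrArg (fun k : Spec ((Spec (CommRingCat.of A)).residueField q) ⟶ Y =>
      k (IsLocalRing.closedPoint _)) (hpt q hq)
    simp only [Scheme.Hom.comp_apply, Scheme.fromSpecResidueField_apply] at h
    exact h.symm
  obtain ⟨W, hW, hyW, -⟩ := exists_isAffineOpen_mem_and_subset (x := ξ p) (U := ⊤) trivial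
  let U : (Spec (CommRingCat.of A)).Opens := ξ ⁻¹ᵁ W ⊓ η ⁻¹ᵁ W
  have hpU : p ∈ U := ⟨hyW, show η p ∈ W from (hpη p hp).symm ▸ hyW⟩
  refine ⟨U, ⟨p, hpU⟩, ?_⟩
  haveI : IsAffine (W : Scheme.{u}) := hW
  haveI : IsReduced (U : Scheme.{u}) := isReduced_of_isOpenImmersion U.ι
  let a : (U : Scheme.{u}) ⟶ W := IsOpenImmersion.lift W.ι (U.ι ≫ ξ) (by
    rw [Scheme.Opens.range_ι]; rintro _ ⟨t, rfl⟩; rw [Scheme.Hom.comp_apply]; exact t.2.1)
  let b : (U : Scheme.{u}) ⟶ W := IsOpenImmersion.lift W.ι (U.ι ≫ η) (by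
    rw [Scheme.Opens.range_ι]; rintro _ ⟨t, rfl⟩; rw [Scheme.Hom.comp_apply]; exact t.2.2)
  let D' : Set (U : Scheme.{u}) := U.ι ⁻¹' D
  let c : (∐ fun q : D' => Spec ((U : Scheme.{u}).residueField q.1)) ⟶ (U : Scheme.{u}) :=
    Limits.Sigma.desc fun q => (U : Scheme.{u}).fromSpecResidueField q.1
  haveI : IsDominant c := by
    refine ⟨Dense.mono ?_ (hD.preimage U.ι.isOpenEmbedding.isOpenMap)⟩
    intro q hq
    refine ⟨Limits.Sigma.ι (fun q : D' => Spec ((U : Scheme.{u}).residueField q.1)) ⟨q, hq⟩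
      (IsLocalRing.closedPoint _), ?_⟩
    rw [← Scheme.Hom.comp_apply, Limits.Sigma.ι_desc]
    exact Scheme.fromSpecResidueField_apply _ _
  have hab : a = b := ext_of_isDominant c (Limits.Sigma.hom_ext _ _ fun q => by
    rw [← cancel_mono W.ι]
    simp only [a, b, c, Category.assoc, IsOpenImmersion.lift_fac, Limits.Sigma.ι_desc_assoc]
    haveI : IsIso (U.ι.residueFieldMap q.1) := inferInstance
    have h := hpt (U.ι q.1) q.2
    rw [← cancel_epi (Spec.map (U.ι.residueFieldMap q.1)),
      Scheme.Hom.SpecMap_residueFieldMap_fromSpecResidueField_assoc,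
      Scheme.Hom.SpecMap_residueFieldMap_fromSpecResidueField_assoc] at h
    exact h)
  have h2 := congrArg (· ≫ W.ι) hab
  simpa [a, b] using h2

end Groth.Agent.S15355
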