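import Groth.Statements.S15360
import Mathlib.NumberTheory.Padics.RingHoms
import Mathlib.Topology.Instances.Matrix
import Mathlib.Analysis.SpecificLimits.Normed
import Mathlib.LinearAlgebra.Matrix.GeneralLinearGroup.Defs
import Mathlib.LinearAlgebra.Matrix.Notation

set_option autoImplicit false
universe u
open GalCoh

namespace Groth.Agent.S15360

/-- Let 𝔊 be a profinite group and ϕ : 𝔊 → GL₂(ℤ_p) a continuous homomorphism. Then ϕ is surjective if
and only if (i) the composite of ϕ with reduction modulo p, 𝔊 → GL₂(𝔽_p), is surjective, and (ii)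
for every integer n ≥ 1 there is g ∈ 𝔊 such that ϕ(g) has the form [[1 + pⁿa, pⁿ⁺¹b], [pⁿ⁺¹c, 1 +
pⁿ⁺¹d]] with a, b, c, d ∈ ℤ_p and a not divisible by p (equivalently: the image of ϕ⁻¹(1 +
pⁿM₂(ℤ_p)) in M₂(𝔽_p) under g ↦ (ϕ(g) − 1)/pⁿ contains a matrix [[x, 0], [0, 0]] with x ≠ 0).
Continuity of ϕ is expressed through its matrix entries. -/
theorem result (p : ℕ) [Fact p.Prime]
    (𝔊 : Type u) [Group 𝔊] [TopologicalSpace 𝔊] [IsTopologicalGroup 𝔊] [CompactSpace 𝔊] [T2Space 𝔊]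
    [TotallyDisconnectedSpace 𝔊]
    (ϕ : 𝔊 →* GL (Fin 2) ℤ_[p])
    (hϕ : Continuous fun g => ((ϕ g : GL (Fin 2) ℤ_[p]) : Matrix (Fin 2) (Fin 2) ℤ_[p])) :
    Function.Surjective ϕ ↔
      (Function.Surjective ((Matrix.GeneralLinearGroup.map (n := Fin 2) (PadicInt.toZMod (p := p))).comp ϕ) ∧
        ∀ n : ℕ, 1 ≤ n → ∃ (g : 𝔊) (a b c d : ℤ_[p]), ¬ ((p : ℤ_[p]) ∣ a) ∧
          ((ϕ g : GL (Fin 2) ℤ_[p]) : Matrix (Fin 2) (Fin 2) ℤ_[p]) =
            !![1 + (p : ℤ_[p]) ^ n * a, (p : ℤ_[p]) ^ (n + 1) * b;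
               (p : ℤ_[p]) ^ (n + 1) * c, 1 + (p : ℤ_[p]) ^ (n + 1) * d]) := by
  classical
  let red : Matrix (Fin 2) (Fin 2) ℤ_[p] →+* Matrix (Fin 2) (Fin 2) (ZMod p) := (PadicInt.toZMod (p := p)).mapMatrix
  have hredp : PadicInt.toZMod ((p : ℤ_[p])) = 0 := by rw [map_natCast, ZMod.natCast_self]
  have hkerR : ∀ X Y : Matrix (Fin 2) (Fin 2) ℤ_[p], red X = red Y → ∃ Z, X = Y + (p : ℤ_[p]) • Z := by
    intro X Y h
    have : ∀ i j, (p : ℤ_[p]) ∣ X i j - Y i j := by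
      intro i j
      rw [← Ideal.mem_span_singleton, ← PadicInt.maximalIdeal_eq_span_p, ← PadicInt.ker_toZMod, RingHom.mem_ker,
        map_sub, sub_eq_zero]
      exact congrFun (congrFun h i) j
    choose Z hZ using this
    exact ⟨Matrix.of Z, by ext i j; simp [← hZ]⟩
  have hliftR : ∀ X : Matrix (Fin 2) (Fin 2) (ZMod p), ∃ Y, red Y = X := by
    intro X
    refine ⟨Matrix.of fun i j => ((X i j).val : ℤ_[p]), ?_⟩
    ext i j
    simp [red]
  constructor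
  · intro hs
    refine ⟨fun gb => ?_, fun n hn => ?_⟩
    · obtain ⟨Y, hY⟩ := hliftR (gb : Matrix (Fin 2) (Fin 2) (ZMod p))
      have hdet : IsUnit Y.det := by
        by_contra hu
        have h0 : PadicInt.toZMod Y.det = 0 := by
          rw [← RingHom.mem_ker, PadicInt.ker_toZMod]; exact hu
        rw [RingHom.map_det] at h0
        exact (gb.isUnit.map Matrix.detMonoidHom).ne_zero (by rw [← hY]; exact h0)
      obtain ⟨g, hg⟩ := hs ((Matrix.isUnit_iff_isUnit_det Y).mpr hdet).unit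
      refine ⟨g, Units.ext ?_⟩
      show red ((ϕ g : GL (Fin 2) ℤ_[p]) : Matrix (Fin 2) (Fin 2) ℤ_[p]) = _
      rw [hg, IsUnit.unit_spec, hY]
    · have hdet : IsUnit (!![1 + (p : ℤ_[p]) ^ n, 0; 0, 1] : Matrix (Fin 2) (Fin 2) ℤ_[p]).det := by
        by_contra hu
        have h0 : PadicInt.toZMod (!![1 + (p : ℤ_[p]) ^ n, 0; 0, 1] : Matrix (Fin 2) (Fin 2) ℤ_[p]).det = 0 := by
          rw [← RingHom.mem_ker, PadicInt.ker_toZMod]; exact hu
        simp [Matrix.det_fin_two, zero_pow (show n ≠ 0 by omega)] at h0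
      obtain ⟨g, hg⟩ := hs ((Matrix.isUnit_iff_isUnit_det _).mpr hdet).unit
      refine ⟨g, 1, 0, 0, 0, ?_, ?_⟩
      · intro h
        exact PadicInt.prime_p.not_unit (isUnit_of_dvd_one h)
      · rw [hg, IsUnit.unit_spec]; simp
  · rintro ⟨h1, h2⟩
    have hconj : ∀ n, 1 ≤ n → ∀ X : Matrix (Fin 2) (Fin 2) (ZMod p),
        ∃ g Y, ((ϕ g : GL (Fin 2) ℤ_[p]) : Matrix (Fin 2) (Fin 2) ℤ_[p]) = 1 + (p : ℤ_[p]) ^ n • Y ∧ red Y = X := by
      intro n hn
      let V : Set (Matrix (Fin 2) (Fin 2) (ZMod p)) := {X | ∃ g Y,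
        ((ϕ g : GL (Fin 2) ℤ_[p]) : Matrix (Fin 2) (Fin 2) ℤ_[p]) = 1 + (p : ℤ_[p]) ^ n • Y ∧ red Y = X}
      have hq : ∀ Y : Matrix (Fin 2) (Fin 2) ℤ_[p], red ((p : ℤ_[p]) ^ n • Y) = 0 := by
        intro Y; ext i j
        simp [red, zero_pow (show n ≠ 0 by omega)]
      have hadd : ∀ X ∈ V, ∀ X' ∈ V, X + X' ∈ V := by
        rintro _ ⟨g, Y, hg, rfl⟩ _ ⟨g', Y', hg', rfl⟩
        refine ⟨g * g', Y + Y' + Y * ((p : ℤ_[p]) ^ n • Y'), ?_, ?_⟩
        · rw [map_mul, Units.val_mul, hg, hg', add_mul, mul_add, mul_add, _root_.one_mul, _root_.mul_one, _root_.one_mul,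
            smul_add, smul_add, smul_mul_assoc]
          abel
        · rw [map_add, map_add, map_mul, hq, mul_zero, add_zero]
      have hsmul : ∀ X ∈ V, ∀ x : ZMod p, x • X ∈ V := by
        intro X hX x
        rw [← ZMod.natCast_zmod_val x, Nat.cast_smul_eq_nsmul]
        induction x.val with
        | zero => exact ⟨1, 0, by simp, by simp⟩
        | succ m ih => rw [succ_nsmul]; exact hadd _ ih _ hX
      have hcj : ∀ X ∈ V, ∀ c : GL (Fin 2) (ZMod p),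
          (c : Matrix (Fin 2) (Fin 2) (ZMod p)) * X * ((c⁻¹ : GL (Fin 2) (ZMod p)) : Matrix (Fin 2) (Fin 2) (ZMod p)) ∈ V := by
        rintro _ ⟨g, Y, hg, rfl⟩ c
        obtain ⟨h, rfl⟩ := h1 c
        refine ⟨h * g * h⁻¹, ((ϕ h : GL (Fin 2) ℤ_[p]) : Matrix (Fin 2) (Fin 2) ℤ_[p]) * Y *
          (((ϕ h)⁻¹ : GL (Fin 2) ℤ_[p]) : Matrix (Fin 2) (Fin 2) ℤ_[p]), ?_, ?_⟩
        · rw [map_mul, map_mul, map_inv, Units.val_mul, Units.val_mul, hg, mul_add, add_mul, _root_.mul_one,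
            Units.mul_inv, mul_smul_comm, smul_mul_assoc]
        · rw [map_mul, map_mul]; rfl
      obtain ⟨g, a, b, c, d, ha, hg⟩ := h2 n hn
      have hE : !![PadicInt.toZMod a, 0; 0, 0] ∈ V := by
        refine ⟨g, !![a, (p : ℤ_[p]) * b; (p : ℤ_[p]) * c, (p : ℤ_[p]) * d], ?_, ?_⟩
        · rw [hg]; ext i j; fin_cases i <;> fin_cases j <;> simp [pow_succ, mul_assoc]
        · ext i j; fin_cases i <;> fin_cases j <;> simp [red]
      have ha0 : PadicInt.toZMod a ≠ 0 := by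
        intro h
        rw [← RingHom.mem_ker, PadicInt.ker_toZMod, PadicInt.maximalIdeal_eq_span_p, Ideal.mem_span_singleton] at h
        exact ha h
      have h11 : !![(1 : ZMod p), 0; 0, 0] ∈ V := by
        convert hsmul _ hE (PadicInt.toZMod a)⁻¹ using 1
        ext i j; fin_cases i <;> fin_cases j <;> simp [ha0]
      let sw : GL (Fin 2) (ZMod p) := ⟨!![0, 1; 1, 0], !![0, 1; 1, 0],
        by ext i j; fin_cases i <;> fin_cases j <;> simp [Matrix.mul_apply, Fin.sum_univ_two],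
        by ext i j; fin_cases i <;> fin_cases j <;> simp [Matrix.mul_apply, Fin.sum_univ_two]⟩
      let T : GL (Fin 2) (ZMod p) := ⟨!![1, 1; 0, 1], !![1, -1; 0, 1],
        by ext i j; fin_cases i <;> fin_cases j <;> simp [Matrix.mul_apply, Fin.sum_univ_two],
        by ext i j; fin_cases i <;> fin_cases j <;> simp [Matrix.mul_apply, Fin.sum_univ_two]⟩
      have h22 : !![(0 : ZMod p), 0; 0, 1] ∈ V := by
        convert hcj _ h11 sw using 1
        ext i j; fin_cases i <;> fin_cases j <;> simp [sw, Matrix.mul_apply, Fin.sum_univ_two]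
      have h12 : !![(0 : ZMod p), 1; 0, 0] ∈ V := by
        convert hadd _ h11 _ (hsmul _ (hcj _ h11 T) (-1)) using 1
        ext i j; fin_cases i <;> fin_cases j <;> simp [T, Matrix.mul_apply, Fin.sum_univ_two]
      have h21 : !![(0 : ZMod p), 0; 1, 0] ∈ V := by
        convert hcj _ h12 sw using 1
        ext i j; fin_cases i <;> fin_cases j <;> simp [sw, Matrix.mul_apply, Fin.sum_univ_two]
      intro X
      show X ∈ V
      convert hadd _ (hadd _ (hsmul _ h11 (X 0 0)) _ (hsmul _ h12 (X 0 1))) _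
        (hadd _ (hsmul _ h21 (X 1 0)) _ (hsmul _ h22 (X 1 1))) using 1
      ext i j; fin_cases i <;> fin_cases j <;> simp
    intro γ
    have happ : ∀ n, ∃ g Y, (γ : Matrix (Fin 2) (Fin 2) ℤ_[p]) =
        ((ϕ g : GL (Fin 2) ℤ_[p]) : Matrix (Fin 2) (Fin 2) ℤ_[p]) + (p : ℤ_[p]) ^ (n + 1) • Y := by
      intro n
      induction n with
      | zero =>
        obtain ⟨g, hg⟩ := h1 (Matrix.GeneralLinearGroup.map (n := Fin 2) (PadicInt.toZMod (p := p)) γ)
        obtain ⟨Z, hZ⟩ := hkerR (γ : Matrix (Fin 2) (Fin 2) ℤ_[p]) (ϕ g : GL (Fin 2) ℤ_[p])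
          (congrArg Units.val hg).symm
        exact ⟨g, Z, by rw [pow_one]; exact hZ⟩
      | succ n ih =>
        obtain ⟨g, Y, hY⟩ := ih
        let Y' := (((ϕ g)⁻¹ : GL (Fin 2) ℤ_[p]) : Matrix (Fin 2) (Fin 2) ℤ_[p]) * Y
        obtain ⟨g₁, Y'', hg₁, hY''⟩ := hconj (n + 1) (by omega) (red Y')
        obtain ⟨Z, hZ⟩ := hkerR Y' Y'' hY''.symm
        refine ⟨g * g₁, ((ϕ g : GL (Fin 2) ℤ_[p]) : Matrix (Fin 2) (Fin 2) ℤ_[p]) * Z, ?_⟩
        have hY2 : Y = ((ϕ g : GL (Fin 2) ℤ_[p]) : Matrix (Fin 2) (Fin 2) ℤ_[p]) * Y' := (Units.mul_inv_cancel_left _ _).symm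
        rw [hY, hY2, hZ, map_mul, Units.val_mul, hg₁, mul_add, mul_add, mul_smul_comm, mul_smul_comm, _root_.mul_one,
          smul_add, smul_smul, ← pow_succ]
        abel
    choose g Y hY using happ
    have hclosed : IsClosed (Set.range fun g => ((ϕ g : GL (Fin 2) ℤ_[p]) : Matrix (Fin 2) (Fin 2) ℤ_[p])) :=
      (isCompact_range hϕ).isClosed
    have hlim : Filter.Tendsto (fun n => ((ϕ (g n) : GL (Fin 2) ℤ_[p]) : Matrix (Fin 2) (Fin 2) ℤ_[p])) Filter.atTop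
        (nhds (γ : Matrix (Fin 2) (Fin 2) ℤ_[p])) := by
      refine tendsto_pi_nhds.mpr fun i => tendsto_pi_nhds.mpr fun j => ?_
      rw [tendsto_iff_norm_sub_tendsto_zero]
      refine squeeze_zero (fun n => norm_nonneg _) (g := fun n => ‖(p : ℤ_[p])‖ ^ (n + 1)) (fun n => ?_) ?_
      · have e : (γ : Matrix (Fin 2) (Fin 2) ℤ_[p]) i j =
            ((ϕ (g n) : GL (Fin 2) ℤ_[p]) : Matrix (Fin 2) (Fin 2) ℤ_[p]) i j + (p : ℤ_[p]) ^ (n + 1) * Y n i j := by
          rw [hY n]; simp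
        rw [e, sub_add_cancel_left, norm_neg, norm_mul, norm_pow]
        exact mul_le_of_le_one_right (pow_nonneg (norm_nonneg _) _) (PadicInt.norm_le_one _)
      · exact (tendsto_pow_atTop_nhds_zero_of_lt_one (norm_nonneg _) (by rw [PadicInt.norm_p]; exact inv_lt_one_of_one_lt₀ (by exact_mod_cast (Fact.out : p.Prime).one_lt))).comp (Filter.tendsto_add_atTop_nat 1)
    obtain ⟨g', hg'⟩ := hclosed.mem_of_tendsto hlim (Filter.Eventually.of_forall fun n => ⟨g n, rfl⟩)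
    exact ⟨g', Units.ext hg'⟩

end Groth.Agent.S15360
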