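import Groth.Statements.S15361
import Mathlib.LinearAlgebra.Matrix.GeneralLinearGroup.Defs
import Mathlib.LinearAlgebra.Matrix.Notation
import Mathlib.LinearAlgebra.Matrix.ToLinearEquiv
import Mathlib.FieldTheory.Finite.GaloisField
import Mathlib.RingTheory.Norm.Defs
import Mathlib.GroupTheory.Perm.Cycle.Type
import Mathlib.Tactic.LinearCombination

set_option autoImplicit false
open scoped Matrix
open GalCoh

namespace Groth.Agent.S15361

/-- Let p be a prime and H a subgroup of GL₂(𝔽_p). Then H = GL₂(𝔽_p) if and only if (i) some non-split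
Cartan subgroup lies in H, i.e. some subgroup C ≤ H such that C ∪ {0} is a subfield of the matrix
algebra M₂(𝔽_p) with p² elements, and (ii) p divides the order of H. -/
theorem result (p : ℕ) [Fact p.Prime]
    (H : Subgroup (GL (Fin 2) (ZMod p))) :
    H = ⊤ ↔
      (∃ (C : Subgroup (GL (Fin 2) (ZMod p))) (E : Subring (Matrix (Fin 2) (Fin 2) (ZMod p))),
          C ≤ H ∧ IsField E ∧ Nat.card E = p ^ 2 ∧
            (E : Set (Matrix (Fin 2) (Fin 2) (ZMod p))) =
              insert 0 ((fun g : GL (Fin 2) (ZMod p) => (g : Matrix (Fin 2) (Fin 2) (ZMod p))) ''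
                (C : Set (GL (Fin 2) (ZMod p))))) ∧
        p ∣ Nat.card H := by
  classical
  haveI : NeZero p := ⟨(Fact.out : p.Prime).ne_zero⟩
  constructor
  · rintro rfl
    let F := GaloisField p 2
    have hF : Module.finrank (ZMod p) F = 2 := GaloisField.finrank p two_ne_zero
    let b := Module.finBasisOfFinrankEq (ZMod p) F hF
    let ψ : F →ₐ[ZMod p] Matrix (Fin 2) (Fin 2) (ZMod p) := Algebra.leftMulMatrix b
    have hψ : Function.Injective ψ := Algebra.leftMulMatrix_injective b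
    let C : Subgroup (GL (Fin 2) (ZMod p)) := (Units.map (ψ : F →* Matrix (Fin 2) (Fin 2) (ZMod p))).range
    refine ⟨⟨C, ψ.toRingHom.range, le_top, ?_, ?_, ?_⟩, ?_⟩
    · exact (RingEquiv.toMulEquiv (RingEquiv.ofBijective ψ.toRingHom.rangeRestrict
        ⟨fun x y h => hψ (congrArg Subtype.val h), ψ.toRingHom.rangeRestrict_surjective⟩).symm).isField (Field.toIsField F)
    · rw [show Nat.card ψ.toRingHom.range = Nat.card F from (Nat.card_congr (Equiv.ofInjective ψ hψ)).symm,
        GaloisField.card p 2 two_ne_zero]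
    · ext M
      simp only [RingHom.coe_range, Set.mem_range, Set.mem_insert_iff, Set.mem_image, SetLike.mem_coe]
      constructor
      · rintro ⟨x, rfl⟩
        by_cases hx : x = 0
        · left; subst hx; simp
        · exact Or.inr ⟨_, ⟨Units.mk0 x hx, rfl⟩, rfl⟩
      · rintro (rfl | ⟨g, ⟨x, rfl⟩, rfl⟩)
        · exact ⟨0, map_zero _⟩
        · exact ⟨x, rfl⟩
    · let T : GL (Fin 2) (ZMod p) := ⟨!![1, 1; 0, 1], !![1, -1; 0, 1],
        by ext i j; fin_cases i <;> fin_cases j <;> simp [Matrix.mul_apply, Fin.sum_univ_two],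
        by ext i j; fin_cases i <;> fin_cases j <;> simp [Matrix.mul_apply, Fin.sum_univ_two]⟩
      have hpow : ∀ n : ℕ, ((T ^ n : GL (Fin 2) (ZMod p)) : Matrix (Fin 2) (Fin 2) (ZMod p)) = !![1, (n : ZMod p); 0, 1] := by
        intro n
        induction n with
        | zero => ext i j; fin_cases i <;> fin_cases j <;> simp
        | succ n ih =>
          rw [pow_succ, Units.val_mul, ih]
          ext i j; fin_cases i <;> fin_cases j <;> simp [T, Matrix.mul_apply, Fin.sum_univ_two, add_comm]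
      have hT : orderOf T = p := by
        refine orderOf_eq_prime (Units.ext ?_) fun h => ?_
        · rw [hpow, ZMod.natCast_self]; ext i j; fin_cases i <;> fin_cases j <;> simp
        · have := congrArg (fun g : GL (Fin 2) (ZMod p) => (g : Matrix (Fin 2) (Fin 2) (ZMod p)) 0 1) h
          simp [T] at this
      calc p = orderOf (⟨T, trivial⟩ : (⊤ : Subgroup (GL (Fin 2) (ZMod p)))) := by rw [← Subgroup.orderOf_coe, hT]
        _ ∣ _ := orderOf_dvd_natCard _
  · rintro ⟨⟨C, E, hCH, hE, hcard, hEC⟩, hpH⟩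
    haveI : CharP (Matrix (Fin 2) (Fin 2) (ZMod p)) p :=
      charP_of_injective_algebraMap (algebraMap (ZMod p) (Matrix (Fin 2) (Fin 2) (ZMod p))).injective p
    have hmemC : ∀ e ∈ E, e ≠ 0 → ∃ c ∈ C, (c : (Matrix (Fin 2) (Fin 2) (ZMod p))) = e := by
      intro e he h0
      have : e ∈ (E : Set (Matrix (Fin 2) (Fin 2) (ZMod p))) := he
      rw [hEC] at this
      rcases this with h | ⟨c, hc, rfl⟩
      · exact absurd h h0
      · exact ⟨c, hc, rfl⟩
    have htrans : ∀ v w : Fin 2 → ZMod p, v ≠ 0 → w ≠ 0 → ∃ c ∈ C, (c : (Matrix (Fin 2) (Fin 2) (ZMod p))) *ᵥ v = w := by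
      intro v w hv hw
      let ev : E → (Fin 2 → ZMod p) := fun e => (e : (Matrix (Fin 2) (Fin 2) (ZMod p))) *ᵥ v
      have hinj : Function.Injective ev := by
        intro e e' h
        by_contra hne
        have hne' : (e : (Matrix (Fin 2) (Fin 2) (ZMod p))) - e' ≠ 0 := sub_ne_zero.mpr fun h' => hne (Subtype.ext h')
        obtain ⟨c, -, hc⟩ := hmemC _ (E.sub_mem e.2 e'.2) hne'
        apply hv
        have h0 : (c : (Matrix (Fin 2) (Fin 2) (ZMod p))) *ᵥ v = 0 := by rw [hc, Matrix.sub_mulVec, sub_eq_zero]; exact h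
        calc v = ((c⁻¹ : GL (Fin 2) (ZMod p)) : (Matrix (Fin 2) (Fin 2) (ZMod p))) *ᵥ ((c : (Matrix (Fin 2) (Fin 2) (ZMod p))) *ᵥ v) := by
              rw [Matrix.mulVec_mulVec, ← Units.val_mul, inv_mul_cancel, Units.val_one, Matrix.one_mulVec]
          _ = 0 := by rw [h0, Matrix.mulVec_zero]
      have hbij : Function.Bijective ev := by
        rw [Nat.bijective_iff_injective_and_card]
        exact ⟨hinj, by rw [hcard]; simp [Nat.card_eq_fintype_card]⟩
      obtain ⟨e, he⟩ := hbij.2 w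
      obtain ⟨c, hc, hce⟩ := hmemC e e.2 fun h0 => hw (by rw [← he]; simp [ev, h0])
      exact ⟨c, hc, by rw [hce]; exact he⟩
    let U : ZMod p → (Matrix (Fin 2) (Fin 2) (ZMod p)) := fun x => !![1, x; 0, 1]
    let L : ZMod p → (Matrix (Fin 2) (Fin 2) (ZMod p)) := fun x => !![1, 0; x, 1]
    let S : Set (Matrix (Fin 2) (Fin 2) (ZMod p)) := (fun g : GL (Fin 2) (ZMod p) => (g : (Matrix (Fin 2) (Fin 2) (ZMod p)))) '' (H : Set (GL (Fin 2) (ZMod p)))
    have hmul : ∀ A ∈ S, ∀ B ∈ S, A * B ∈ S := by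
      rintro _ ⟨g, hg, rfl⟩ _ ⟨g', hg', rfl⟩
      exact ⟨g * g', H.mul_mem hg hg', rfl⟩
    obtain ⟨g, hg⟩ := exists_prime_orderOf_dvd_card' (G := H) p hpH
    have hgp : ((g : GL (Fin 2) (ZMod p)) : (Matrix (Fin 2) (Fin 2) (ZMod p))) ^ p = 1 := by
      have := pow_orderOf_eq_one g; rw [hg] at this
      exact congrArg (fun x : H => (((x : GL (Fin 2) (ZMod p))) : Matrix (Fin 2) (Fin 2) (ZMod p))) this
    set N : (Matrix (Fin 2) (Fin 2) (ZMod p)) := ((g : GL (Fin 2) (ZMod p)) : (Matrix (Fin 2) (Fin 2) (ZMod p))) - 1 with hNdef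
    have hN0 : N ≠ 0 := by
      intro h
      have : g = 1 := Subtype.ext (Units.ext (sub_eq_zero.mp h))
      rw [this, orderOf_one] at hg
      exact (Fact.out : p.Prime).one_lt.ne hg
    have hNp : N ^ p = 0 := by
      rw [hNdef, sub_pow_char_of_commute _ (Commute.one_right _), hgp, one_pow, sub_self]
    have hdetN : N 0 0 * N 1 1 - N 0 1 * N 1 0 = 0 := by
      have := congrArg Matrix.det hNp
      simp only [Matrix.det_pow, Matrix.det_fin_two, Matrix.zero_apply, mul_zero, sub_zero] at this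

      exact eq_zero_of_pow_eq_zero this
    obtain ⟨u, hu0, hu⟩ := Matrix.exists_mulVec_eq_zero_iff.mpr (show N.det = 0 by rw [Matrix.det_fin_two]; exact hdetN)
    have conjmem : ∀ c ∈ C, (c : (Matrix (Fin 2) (Fin 2) (ZMod p))) * ((g : GL (Fin 2) (ZMod p)) : (Matrix (Fin 2) (Fin 2) (ZMod p))) * ((c⁻¹ : GL (Fin 2) (ZMod p)) : (Matrix (Fin 2) (Fin 2) (ZMod p))) ∈ S :=
      fun c hc => ⟨c * g * c⁻¹, H.mul_mem (H.mul_mem (hCH hc) g.2) (H.inv_mem (hCH hc)), rfl⟩
    have conjN : ∀ c ∈ C, ∃ M : (Matrix (Fin 2) (Fin 2) (ZMod p)), M + 1 ∈ S ∧ M ≠ 0 ∧ M ^ p = 0 ∧ M *ᵥ ((c : (Matrix (Fin 2) (Fin 2) (ZMod p))) *ᵥ u) = 0 := by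
      intro c hc
      refine ⟨(c : (Matrix (Fin 2) (Fin 2) (ZMod p))) * N * ((c⁻¹ : GL (Fin 2) (ZMod p)) : (Matrix (Fin 2) (Fin 2) (ZMod p))), ?_, ?_, ?_, ?_⟩
      · have h1 : (c : (Matrix (Fin 2) (Fin 2) (ZMod p))) * N * ((c⁻¹ : GL (Fin 2) (ZMod p)) : (Matrix (Fin 2) (Fin 2) (ZMod p))) + 1 =
            (c : (Matrix (Fin 2) (Fin 2) (ZMod p))) * ((g : GL (Fin 2) (ZMod p)) : (Matrix (Fin 2) (Fin 2) (ZMod p))) * ((c⁻¹ : GL (Fin 2) (ZMod p)) : (Matrix (Fin 2) (Fin 2) (ZMod p))) := by
          rw [hNdef, mul_sub, sub_mul, _root_.mul_one, ← Units.val_mul c c⁻¹, mul_inv_cancel, Units.val_one, sub_add_cancel]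
        rw [h1]; exact conjmem c hc
      · intro h
        refine hN0 ?_
        have := congrArg (fun M => ((c⁻¹ : GL (Fin 2) (ZMod p)) : (Matrix (Fin 2) (Fin 2) (ZMod p))) * M * (c : (Matrix (Fin 2) (Fin 2) (ZMod p)))) h
        simpa [mul_assoc] using this
      · have : ∀ n : ℕ, ((c : (Matrix (Fin 2) (Fin 2) (ZMod p))) * N * ((c⁻¹ : GL (Fin 2) (ZMod p)) : (Matrix (Fin 2) (Fin 2) (ZMod p)))) ^ n =
            (c : (Matrix (Fin 2) (Fin 2) (ZMod p))) * N ^ n * ((c⁻¹ : GL (Fin 2) (ZMod p)) : (Matrix (Fin 2) (Fin 2) (ZMod p))) := by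
          intro n
          induction n with
          | zero => simp
          | succ n ih => rw [pow_succ, ih, pow_succ]; simp [mul_assoc]
        rw [this, hNp, mul_zero, zero_mul]
      · rw [Matrix.mulVec_mulVec, mul_assoc, ← Units.val_mul, inv_mul_cancel, Units.val_one, _root_.mul_one,
          ← Matrix.mulVec_mulVec, hu, Matrix.mulVec_zero]
    have hpow : ∀ A ∈ S, ∀ n : ℕ, A ^ n ∈ S := by
      intro A hA n
      induction n with
      | zero => exact ⟨1, H.one_mem, by simp⟩
      | succ n ih => rw [pow_succ]; exact hmul _ ih _ hA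
    have hU : ∀ x, U x ∈ S := by
      obtain ⟨c, hc, hcu⟩ := htrans u ![1, 0] hu0 (by simp)
      obtain ⟨M, hM1, hM0, hMp, hMe⟩ := conjN c hc
      rw [hcu] at hMe
      have h00 : M 0 0 = 0 := by simpa [Matrix.mulVec, dotProduct] using congrFun hMe 0
      have h10 : M 1 0 = 0 := by simpa [Matrix.mulVec, dotProduct] using congrFun hMe 1
      have h11' : ∀ n : ℕ, (M ^ n) 1 1 = M 1 1 ^ n ∧ (M ^ n) 1 0 = 0 := by
        intro n
        induction n with
        | zero => simp
        | succ n ih =>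
          rw [pow_succ, Matrix.mul_apply, Matrix.mul_apply, Fin.sum_univ_two, Fin.sum_univ_two, ih.1, ih.2, h10]
          simp [pow_succ]
      have h11 : M 1 1 = 0 := by
        have := (h11' p).1
        rw [hMp] at this
        exact eq_zero_of_pow_eq_zero this.symm
      have ha : M 0 1 ≠ 0 := fun h => hM0 (by ext i j; fin_cases i <;> fin_cases j <;> simp [h00, h10, h11, h])
      have hU1 : U (M 0 1) ∈ S := by
        convert hM1 using 1
        ext i j; fin_cases i <;> fin_cases j <;> simp [U, h00, h10, h11]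
      intro x
      convert hpow _ hU1 (x / M 0 1).val using 1
      have : ∀ n : ℕ, U (M 0 1) ^ n = U (n * M 0 1) := by
        intro n
        induction n with
        | zero => ext i j; fin_cases i <;> fin_cases j <;> simp [U]
        | succ n ih => rw [pow_succ, ih]; ext i j; fin_cases i <;> fin_cases j <;> simp [U, Matrix.mul_apply, Fin.sum_univ_two, add_mul, add_comm]
      rw [this, ZMod.natCast_zmod_val, div_mul_cancel₀ _ ha]
    have hL : ∀ x, L x ∈ S := by
      obtain ⟨c, hc, hcu⟩ := htrans u ![0, 1] hu0 (by simp)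
      obtain ⟨M, hM1, hM0, hMp, hMe⟩ := conjN c hc
      rw [hcu] at hMe
      have h01 : M 0 1 = 0 := by simpa [Matrix.mulVec, dotProduct] using congrFun hMe 0
      have h11 : M 1 1 = 0 := by simpa [Matrix.mulVec, dotProduct] using congrFun hMe 1
      have h00' : ∀ n : ℕ, (M ^ n) 0 0 = M 0 0 ^ n ∧ (M ^ n) 0 1 = 0 := by
        intro n
        induction n with
        | zero => simp
        | succ n ih =>
          rw [pow_succ, Matrix.mul_apply, Matrix.mul_apply, Fin.sum_univ_two, Fin.sum_univ_two, ih.1, ih.2, h01]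
          simp [pow_succ]
      have h00 : M 0 0 = 0 := by
        have := (h00' p).1
        rw [hMp] at this
        exact eq_zero_of_pow_eq_zero this.symm
      have ha : M 1 0 ≠ 0 := fun h => hM0 (by ext i j; fin_cases i <;> fin_cases j <;> simp [h00, h01, h11, h])
      have hL1 : L (M 1 0) ∈ S := by
        convert hM1 using 1
        ext i j; fin_cases i <;> fin_cases j <;> simp [L, h00, h01, h11]
      intro x
      convert hpow _ hL1 (x / M 1 0).val using 1
      have : ∀ n : ℕ, L (M 1 0) ^ n = L (n * M 1 0) := by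
        intro n
        induction n with
        | zero => ext i j; fin_cases i <;> fin_cases j <;> simp [L]
        | succ n ih => rw [pow_succ, ih]; ext i j; fin_cases i <;> fin_cases j <;> simp [L, Matrix.mul_apply, Fin.sum_univ_two, add_mul, add_comm]
      rw [this, ZMod.natCast_zmod_val, div_mul_cancel₀ _ ha]
    have hSL0 : ∀ A : (Matrix (Fin 2) (Fin 2) (ZMod p)), A.det = 1 → A 1 0 ≠ 0 → A ∈ S := by
      intro A hA hc
      rw [Matrix.det_fin_two] at hA
      convert hmul _ (hmul _ (hU ((A 0 0 - 1) / A 1 0)) _ (hL (A 1 0))) _ (hU ((A 1 1 - 1) / A 1 0)) using 1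
      ext i j
      fin_cases i <;> fin_cases j <;> simp [U, L, Matrix.mul_apply, Fin.sum_univ_two] <;> field_simp <;>
        first
        | ring1
        | linear_combination hA
        | linear_combination -hA
    have hSL : ∀ A : (Matrix (Fin 2) (Fin 2) (ZMod p)), A.det = 1 → A ∈ S := by
      intro A hA
      by_cases hc : A 1 0 = 0
      · have h0 : A 0 0 ≠ 0 := fun h => by rw [Matrix.det_fin_two, h, hc] at hA; simp at hA
        have h1 : L 1 * A ∈ S := hSL0 _ (by rw [Matrix.det_mul, hA, Matrix.det_fin_two]; simp [L]) (by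
          simpa [L, Matrix.mul_apply, Fin.sum_univ_two, hc] using h0)
        convert hmul _ (hL (-1)) _ h1 using 1
        rw [← mul_assoc, show L (-1) * L 1 = 1 by
          ext i j; fin_cases i <;> fin_cases j <;> simp [L, Matrix.mul_apply, Fin.sum_univ_two], _root_.one_mul]
      · exact hSL0 A hA hc
    have hdet : ∀ v : ZMod p, v ≠ 0 → ∃ c ∈ C, (c : (Matrix (Fin 2) (Fin 2) (ZMod p))).det = v := by
      intro v hv
      obtain ⟨c, hc, hce⟩ := htrans ![1, 0] ![0, 1] (by simp) (by simp)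
      have hE' : ∀ c ∈ C, (c : (Matrix (Fin 2) (Fin 2) (ZMod p))) ∈ E := fun c hc => by
        show (c : (Matrix (Fin 2) (Fin 2) (ZMod p))) ∈ (E : Set (Matrix (Fin 2) (Fin 2) (ZMod p)))
        rw [hEC]; exact Or.inr ⟨c, hc, rfl⟩
      have h00 : (c : (Matrix (Fin 2) (Fin 2) (ZMod p))) 0 0 = 0 := by simpa [Matrix.mulVec, dotProduct] using congrFun hce 0
      have h10 : (c : (Matrix (Fin 2) (Fin 2) (ZMod p))) 1 0 = 1 := by simpa [Matrix.mulVec, dotProduct] using congrFun hce 1
      set b := (c : (Matrix (Fin 2) (Fin 2) (ZMod p))) 0 1 with hb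
      set d := (c : (Matrix (Fin 2) (Fin 2) (ZMod p))) 1 1 with hd
      have hone : ∀ x : ZMod p, x • (1 : (Matrix (Fin 2) (Fin 2) (ZMod p))) ∈ E := fun x => by
        rw [show x • (1 : (Matrix (Fin 2) (Fin 2) (ZMod p))) = ((x.val : ℕ) : (Matrix (Fin 2) (Fin 2) (ZMod p))) by
          rw [← ZMod.natCast_zmod_val x, Nat.cast_smul_eq_nsmul, nsmul_eq_mul, _root_.mul_one, ZMod.natCast_zmod_val]]
        exact natCast_mem E _
      have hsm : ∀ (x : ZMod p), x • (c : (Matrix (Fin 2) (Fin 2) (ZMod p))) ∈ E := fun x => by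
        rw [← _root_.one_mul (c : (Matrix (Fin 2) (Fin 2) (ZMod p))), ← smul_mul_assoc]
        exact E.mul_mem (hone x) (hE' c hc)
      have hform : ∀ x y : ZMod p, (x • (1 : (Matrix (Fin 2) (Fin 2) (ZMod p))) + y • (c : (Matrix (Fin 2) (Fin 2) (ZMod p)))).det = x * (x + d * y) - b * y ^ 2 := by
        intro x y
        rw [Matrix.det_fin_two]
        simp [h00, h10, ← hb, ← hd]; ring
      suffices ∃ x y : ZMod p, x * (x + d * y) - b * y ^ 2 = v by
        obtain ⟨x, y, hxy⟩ := this
        have hne : x • (1 : (Matrix (Fin 2) (Fin 2) (ZMod p))) + y • (c : (Matrix (Fin 2) (Fin 2) (ZMod p))) ≠ 0 := fun h0 => hv (by rw [← hxy, ← hform, h0]; simp)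
        obtain ⟨c', hc', hce'⟩ := hmemC _ (E.add_mem (hone x) (hsm y)) hne
        exact ⟨c', hc', by rw [hce', hform, hxy]⟩
      by_cases h2 : p = 2
      · subst h2
        refine ⟨1, 0, ?_⟩
        have h12 : ∀ v : ZMod 2, v ≠ 0 → v = 1 := fun v hv => by fin_cases v; exacts [absurd rfl hv, rfl]
        have : v = 1 := h12 v hv
        rw [this]; ring
      haveI : Fact (2 < p) := ⟨lt_of_le_of_ne (Fact.out : p.Prime).two_le (Ne.symm h2)⟩
      have h20 : (2 : ZMod p) ≠ 0 := by
        intro h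
        have : (p : ℕ) ∣ 2 := (ZMod.natCast_eq_zero_iff 2 p).mp (by exact_mod_cast h)
        exact absurd (Nat.le_of_dvd (by norm_num) this) (not_le.mpr (Fact.out : 2 < p))
      set D : ZMod p := -b - (d / 2) ^ 2 with hD
      have hD0 : D ≠ 0 := by
        intro hD0
        have hbd : b = -(d / 2) ^ 2 := by linear_combination -hD0
        set e : (Matrix (Fin 2) (Fin 2) (ZMod p)) := (c : (Matrix (Fin 2) (Fin 2) (ZMod p))) + (-(d / 2)) • (1 : (Matrix (Fin 2) (Fin 2) (ZMod p))) with he
        have hee : e * e = 0 := by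
          rw [he]
          ext i j
          fin_cases i <;> fin_cases j <;> simp [Matrix.mul_apply, Fin.sum_univ_two, h00, h10, ← hb, ← hd, hbd] <;>
            field_simp <;> ring
        have he0 : e ≠ 0 := by
          intro h0
          have := congrFun (congrFun h0 1) 0
          simp [he, h10] at this
        obtain ⟨c', -, hce'⟩ := hmemC e (E.add_mem (hE' c hc) (hone _)) he0
        refine he0 ?_
        calc e = ((c'⁻¹ : GL (Fin 2) (ZMod p)) : (Matrix (Fin 2) (Fin 2) (ZMod p))) * ((c' : (Matrix (Fin 2) (Fin 2) (ZMod p))) * e) := by rw [← mul_assoc, ← Units.val_mul, inv_mul_cancel, Units.val_one, _root_.one_mul]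
          _ = 0 := by rw [hce', hee, mul_zero]
      obtain ⟨X', y, hXy⟩ := FiniteField.exists_root_sum_quadratic (R := ZMod p)
        (f := Polynomial.X ^ 2) (g := Polynomial.C D * Polynomial.X ^ 2 - Polynomial.C v)
        (Polynomial.degree_X_pow 2) (by
          rw [Polynomial.degree_sub_eq_left_of_degree_lt] <;> rw [Polynomial.degree_C_mul_X_pow 2 hD0]
          · rfl
          · exact (Polynomial.degree_C_le).trans_lt (by decide)) (by
          rw [Fintype.card_eq_nat_card, Nat.card_zmod]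
          exact (Nat.Prime.eq_two_or_odd (Fact.out : p.Prime)).resolve_left h2)
      simp only [Polynomial.eval_pow, Polynomial.eval_X, Polynomial.eval_sub, Polynomial.eval_mul, Polynomial.eval_C] at hXy
      refine ⟨X' - d / 2 * y, y, ?_⟩
      rw [hD] at hXy
      field_simp at hXy ⊢
      linear_combination hXy
    rw [eq_top_iff]
    intro g' _
    obtain ⟨c, hc, hcd⟩ := hdet (g' : (Matrix (Fin 2) (Fin 2) (ZMod p))).det (g'.isUnit.map Matrix.detMonoidHom).ne_zero
    have h1 : (((c⁻¹ * g' : GL (Fin 2) (ZMod p))) : (Matrix (Fin 2) (Fin 2) (ZMod p))).det = 1 := by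
      have h2 : (c : (Matrix (Fin 2) (Fin 2) (ZMod p))).det * (((c⁻¹ * g' : GL (Fin 2) (ZMod p))) : (Matrix (Fin 2) (Fin 2) (ZMod p))).det = (g' : (Matrix (Fin 2) (Fin 2) (ZMod p))).det := by
        rw [← Matrix.det_mul, ← Units.val_mul, mul_inv_cancel_left]
      rw [hcd] at h2
      exact (mul_eq_left₀ (g'.isUnit.map Matrix.detMonoidHom).ne_zero).mp h2
    obtain ⟨h, hh, hhe⟩ := hSL _ h1
    rw [show g' = c * h from by rw [Units.ext hhe, mul_inv_cancel_left]]
    exact H.mul_mem (hCH hc) hh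

end Groth.Agent.S15361
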