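import Groth.Statements.S15362
import Mathlib
import Groth.Agent.SigmaLinLib.Basic
import Groth.Agent.SigmaLinLib.AlgClosed
-- import your own Groth.Agent.* helpers here

set_option autoImplicit false
universe u v w
open CAlg

namespace Groth.Agent.S15362

/-- For an algebraically closed field L of characteristic p > 0, a commutative L-algebra R integral over
L, and a finitely presented R-module M carrying an additive endomorphism φ with φ(r·m) = r^p·φ(m)
for r ∈ R, m ∈ M, the map m ↦ φ(m) − m is onto. (R is taken of exponential characteristic p so that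
its Frobenius is a ring endomorphism; for a non-zero L-algebra this is automatic.) -/
theorem result (p : ℕ) [Fact p.Prime]
    (L : Type u) [Field L] [IsAlgClosed L] [CharP L p]
    (R : Type v) [CommRing R] [Algebra L R] [Algebra.IsIntegral L R] [ExpChar R p]
    (M : Type w) [AddCommGroup M] [Module R M] [Module.FinitePresentation R M]
    (φ : M →ₛₗ[frobenius R p] M) :
    Function.Surjective fun m : M => φ m - m := by
  classical
  intro m
  letI : Module L M := Module.compHom M (algebraMap L R)
  haveI : IsScalarTower L R M := IsScalarTower.of_algebraMap_smul fun _ _ => rfl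
  obtain ⟨n, g, hg⟩ := Module.Finite.exists_fin (R := R) (M := M)
  have hmem : ∀ x : M, ∃ c : Fin n → R, ∑ j, c j • g j = x := fun x =>
    (Submodule.mem_span_range_iff_exists_fun R).1 (hg ▸ Submodule.mem_top)
  choose r hr using hmem
  let S : Set R := Set.range (r m) ∪ ⋃ i, Set.range (r (φ (g i)))
  have hS : S.Finite := (Set.finite_range _).union (Set.finite_iUnion fun i => Set.finite_range _)
  let R0 := Algebra.adjoin L S
  haveI : Module.Finite L R0 :=
    Module.Finite.iff_fg.2 (fg_adjoin_of_finite hS fun x _ => Algebra.IsIntegral.isIntegral x)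
  let π : (Fin n → R0) →ₗ[L] M :=
    { toFun := fun c => ∑ j, (c j : R) • g j
      map_add' := fun a b => by simp [add_smul, Finset.sum_add_distrib]
      map_smul' := fun l a => by simp [Finset.smul_sum] }
  let V := LinearMap.range π
  have hφ : ∀ v ∈ V, φ v ∈ V := by
    rintro _ ⟨c, rfl⟩
    refine ⟨fun k => ∑ i, c i ^ p * ⟨r (φ (g i)) k,
      Algebra.subset_adjoin (Or.inr (Set.mem_iUnion.2 ⟨i, k, rfl⟩))⟩, ?_⟩
    show (∑ k, ((∑ i, c i ^ p * (⟨_, _⟩ : R0) : R0) : R) • g k) = φ (∑ j, (c j : R) • g j)
    simp only [map_sum, LinearMap.map_smulₛₗ, frobenius_def]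
    conv_rhs => enter [2, j]; rw [← hr (φ (g j)), Finset.smul_sum]
    simp only [AddSubmonoidClass.coe_finsetSum, MulMemClass.coe_mul, SubmonoidClass.coe_pow,
      Finset.sum_smul, mul_smul]
    exact Finset.sum_comm
  have hfr : ∀ (l : L) (x : M), φ (l • x) = frobenius L p l • φ x := fun l x => by
    rw [← algebraMap_smul R l x, LinearMap.map_smulₛₗ, frobenius_def, ← map_pow, algebraMap_smul,
      frobenius_def]
  let T : V →ₛₗ[frobenius L p] V :=
    { toFun := fun v => ⟨φ v, hφ v v.2⟩
      map_add' := fun a b => Subtype.ext (map_add φ _ _)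
      map_smul' := fun l a => Subtype.ext (hfr l a) }
  have hm : -m ∈ V := by
    refine Submodule.neg_mem _ ⟨fun j => ⟨r m j, Algebra.subset_adjoin (Or.inl ⟨j, rfl⟩)⟩, ?_⟩
    exact hr m
  obtain ⟨v, hv⟩ := Groth.Agent.SigmaLinLib.sub_surjective T
    (fun c => by
      obtain ⟨y, hy⟩ := IsAlgClosed.exists_pow_nat_eq c (Fact.out (p := p.Prime)).pos
      exact ⟨y, by rw [frobenius_def, hy]⟩)
    (Groth.Agent.SigmaLinLib.frob_fixed_eq p) (Groth.Agent.SigmaLinLib.frob_sub_eq p) ⟨-m, hm⟩
  refine ⟨v, ?_⟩
  have h := congrArg Subtype.val hv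
  show φ v - v = m
  rw [← neg_sub]
  exact neg_eq_iff_eq_neg.2 h

end Groth.Agent.S15362
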