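import Groth.Statements.S15363
import Groth.Agent.SekSuwaLib.Points
-- import your own Groth.Agent.* helpers here

set_option autoImplicit false
universe u
open CategoryTheory AlgebraicGeometry
open SekSuwa

namespace Groth.Agent.S15363

/-- Let R be an integral domain, p a prime and λ ∈ R a non-zero element with λ^p dividing (1 + λX)^p −
1, so that the congruence group scheme G_λ = Spec R[T]/(P_λ(T)) of level λ and its homomorphism θ_λ
: G_λ → μ_p, X ↦ 1 + λT, are defined. For every scheme G flat over Spec R, composition with θ_λ is
injective on R-morphisms G → G_λ; in particular θ_λ induces an injective map from the homomorphisms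
G → G_λ of a flat R-group scheme G to its homomorphisms G → μ_p. (The published statement is over
the ring of integers of an algebraic closure of a complete discretely valued field of mixed
characteristic, for finite flat commutative group schemes killed by p; the published argument, that
θ_λ is an isomorphism on the generic fibre and G is flat, gives the form stated here.) -/
theorem result (R : Type u) [CommRing R] [IsDomain R]
    (p : ℕ) [Fact p.Prime] (lam : R) (h : SekSuwa.DivCond lam p)
    (G : Over (Spec (CommRingCat.of R))) [Flat G.hom]
    (f g : G ⟶ SekSuwa.GK R lam p h)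
    (hfg : f ≫ SekSuwa.alphaN R lam p h = g ≫ SekSuwa.alphaN R lam p h) : f = g := by
  let F := SekSuwaLib.ptRingHom f
  let F' := SekSuwaLib.ptRingHom g
  have hu : F (1 + lam • AK.t) = F' (1 + lam • AK.t) := by
    have h1 := congrArg (fun m => SekSuwaLib.ptRingHom m (MonoidAlgebra.single (Multiplicative.ofAdd (1 : ZMod p)) (1 : R))) hfg
    simp only [SekSuwa.alphaN, SekSuwaLib.ptRingHom_comp_specHom, SekSuwa.alphaNHom_single_one] at h1
    exact h1
  have ht : F AK.t = F' AK.t := by
    rw [← sub_eq_zero]
    refine SekSuwaLib.eq_zero_of_mul_eq_zero (T := G) h.nzd ?_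
    rw [mul_sub, sub_eq_zero]
    rw [map_add, map_add, map_one, map_one, add_left_cancel_iff, Algebra.smul_def, map_mul, map_mul,
      SekSuwaLib.ptRingHom_algebraMap, SekSuwaLib.ptRingHom_algebraMap] at hu
    exact hu
  have hinv : F AK.inv = F' AK.inv := by
    have e1 : (1 + lam • (AK.t : AK R lam p h)) * AK.inv = 1 := by
      have := congrArg (AK.mkHom R lam p h) (A.u_mul_inv (R := R) (lam := lam))
      rw [map_mul, map_one, A.u, map_add, map_one, map_smul] at this
      exact this
    have e2 := congrArg F e1
    have e3 := congrArg F' e1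
    rw [map_mul, map_one] at e2 e3
    calc F AK.inv = F AK.inv * (F' (1 + lam • AK.t) * F' AK.inv) := by rw [e3, _root_.mul_one]
      _ = F' AK.inv := by rw [← hu, ← _root_.mul_assoc, _root_.mul_comm (F AK.inv), e2, _root_.one_mul]
  apply SekSuwaLib.ptRingHom_injective
  letI := SekSuwaLib.algΓ G
  let f₁ : AK R lam p h →ₐ[R] Γ(G.left, ⊤) := { F with commutes' := SekSuwaLib.ptRingHom_algebraMap f }
  let g₁ : AK R lam p h →ₐ[R] Γ(G.left, ⊤) := { F' with commutes' := SekSuwaLib.ptRingHom_algebraMap g }
  exact congrArg AlgHom.toRingHom (AK.algHom_ext (f := f₁) (g := g₁) ht hinv)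

end Groth.Agent.S15363
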