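import Groth.Statements.S15364
import Groth.Agent.H23.RigidGamma
import Mathlib.Topology.Separation.Connected
import Mathlib.AlgebraicGeometry.Morphisms.QuasiFinite

set_option autoImplicit false
universe u
open CategoryTheory CategoryTheory.Limits MonoidalCategory CartesianMonoidalCategory AlgebraicGeometry
open AbSch

namespace Groth.Agent.S15364

open Groth.Agent.H23
open MonObj TopologicalSpace

/-- For an abelian scheme f : A → T (a commutative T-group scheme, proper and smooth over T with
geometrically connected fibres) and a commutative group scheme H finite and locally free over T, the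
adjunction map H → f_* f^* H of fppf sheaves on T is an isomorphism, i.e. for every T-scheme U the
map H(U) → H(A ×_T U), s ↦ s ∘ pr, is bijective. This row states the case U = T, to which the
general case reduces by base change: composition with the structure morphism A → T is a bijection
from the sections of H over T onto the T-morphisms A → H. The group structure of H plays no role and
is not assumed. (The published statement has an arbitrary base T; the published argument rests on
the rigidity lemma in its form for Noetherian schemes, so T is taken locally Noetherian here.) -/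
theorem result {T : Scheme.{u}} [IsLocallyNoetherian T]
    (A : Over T) [GrpObj A] [IsCommMonObj A] [IsProper A.hom] [Smooth A.hom] [GeometricallyConnected A.hom]
    (H : Over T) [IsFinite H.hom] [Flat H.hom] [LocallyOfFinitePresentation H.hom] :
    Function.Bijective fun s : (𝟙_ (Over T) ⟶ H) => toUnit A ≫ s := by
  refine ⟨fun s s' h => ?_, fun φ => ⟨η[A] ≫ φ, ?_⟩⟩
  · have := congrArg (η[A] ≫ ·) h
    simpa [← Category.assoc, toUnit_unique (η[A] ≫ toUnit A) (𝟙 _)] using this
  have : GeometricallyReduced A.hom := RigidGamma.geometricallyReduced_of_smooth A.hom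
  have h0 := RigidGamma.constFibres A.hom
  have : IsLocallyNoetherian A.left := LocallyOfFiniteType.isLocallyNoetherian A.hom
  obtain ⟨C, -, hC, hfac⟩ := RigidNoeth.rigidity_of_section A.hom A.hom.isClosedMap η[A].left (Over.w η[A]) h0
    H.hom φ.left (Over.w φ)
  have htop : C = ⊤ := by
    ext t
    simp only [Opens.coe_top, Set.mem_univ, iff_true]
    rw [hC]
    have he : A.hom (η[A].left t) = t := congr($(Over.w η[A]) t)
    refine ⟨φ.left (η[A].left t), fun x hx => ?_⟩
    have hsub : φ.left '' (A.hom ⁻¹' {t}) ⊆ H.hom ⁻¹' {t} := by
      rintro _ ⟨z, hz, rfl⟩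
      exact (congr($(Over.w φ) z)).trans hz
    have hpre := (A.hom.isConnected_preimage_singleton t).isPreconnected.image φ.left φ.left.continuous.continuousOn
    have := isPreconnected_iff_preconnectedSpace.mp hpre
    have : DiscreteTopology ↥(φ.left '' (A.hom ⁻¹' {t})) :=
      DiscreteTopology.of_subset (isDiscrete_iff_discreteTopology.mp (H.hom.isDiscrete_preimage_singleton t)) hsub
    have := PreconnectedSpace.trivial_of_discrete (X := ↥(φ.left '' (A.hom ⁻¹' {t})))
    exact congrArg Subtype.val (Subsingleton.elim (⟨_, x, hx, rfl⟩ : ↥(φ.left '' (A.hom ⁻¹' {t}))) ⟨_, _, he, rfl⟩)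
  subst htop
  have : IsIso (A.hom ⁻¹ᵁ (⊤ : T.Opens)).ι := inferInstanceAs (IsIso A.left.topIso.hom)
  refine Over.OverMorphism.ext ?_
  rw [← cancel_epi (A.hom ⁻¹ᵁ ⊤).ι]
  exact hfac.symm

end Groth.Agent.S15364
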