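import Mathlib
import Groth.Statements.S15365

set_option autoImplicit false
universe u v
open scoped BigOperators
open CAlg Matrix

noncomputable section

namespace Groth.Agent.S15365

section helpers

variable {A : Type u} [CommRing A] {n : ℕ} (p : ℕ) (h : Matrix (Fin n) (Fin n) A)

/-- The ideal of p-linear relations attached to a matrix. -/
abbrev rels : Ideal (MvPolynomial (Fin n) A) :=
  Ideal.span (Set.range fun j : Fin n =>
    (MvPolynomial.X j : MvPolynomial (Fin n) A) ^ p -
      ∑ i : Fin n, MvPolynomial.C (h i j) * MvPolynomial.X i)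

/-- The class of the i-th variable. -/
abbrev gx (i : Fin n) : MvPolynomial (Fin n) A ⧸ rels p h :=
  Ideal.Quotient.mk (rels p h) (MvPolynomial.X i)

variable {B : Type v} [CommRing B] [Algebra A B]

lemma exists_hom (b : Fin n → B)
    (hb : ∀ j, b j ^ p = ∑ i, algebraMap A B (h i j) * b i) :
    ∃ g : (MvPolynomial (Fin n) A ⧸ rels p h) →ₐ[A] B, ∀ i, g (gx p h i) = b i := by
  have hle : rels p h ≤ RingHom.ker (MvPolynomial.aeval (R := A) b) := by
    rw [Ideal.span_le]
    rintro _ ⟨j, rfl⟩
    simp [RingHom.mem_ker, map_sum, hb j]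
  exact ⟨Ideal.Quotient.liftₐ _ (MvPolynomial.aeval (R := A) b) (fun a ha => RingHom.mem_ker.mp (hle ha)),
    fun i => (Ideal.Quotient.lift_mk _ _ _).trans (MvPolynomial.aeval_X b i)⟩

lemma hom_rel (g : (MvPolynomial (Fin n) A ⧸ rels p h) →ₐ[A] B) (j : Fin n) :
    g (gx p h j) ^ p = ∑ i, algebraMap A B (h i j) * g (gx p h i) := by
  have hm : Ideal.Quotient.mk (rels p h) ((MvPolynomial.X j : MvPolynomial (Fin n) A) ^ p -
      ∑ i : Fin n, MvPolynomial.C (h i j) * MvPolynomial.X i) = 0 :=
    Ideal.Quotient.eq_zero_iff_mem.mpr (Ideal.subset_span ⟨j, rfl⟩)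
  rw [map_sub, sub_eq_zero, map_pow, map_sum] at hm
  have := congrArg g hm
  rw [map_pow, map_sum] at this
  rw [this]
  refine Finset.sum_congr rfl fun i _ => ?_
  rw [map_mul, map_mul]
  congr 1
  exact g.commutes (h i j)

lemma hom_ext' {C : Type v} [CommRing C] [Algebra A C]
    {g₁ g₂ : (MvPolynomial (Fin n) A ⧸ rels p h) →ₐ[A] C}
    (he : ∀ i, g₁ (gx p h i) = g₂ (gx p h i)) : g₁ = g₂ :=
  Ideal.Quotient.algHom_ext _ (MvPolynomial.algHom_ext he)

lemma add_pow_of_sq (hp : (p : B) = 0) (hp2 : 2 ≤ p) (x d : B) (hd : d * d = 0) :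
    (x + d) ^ p = x ^ p := by
  have key : ∀ m : ℕ, (x + d) ^ (m + 1) = x ^ (m + 1) + ((m + 1 : ℕ) : B) * x ^ m * d := by
    intro m
    induction m with
    | zero => simp
    | succ m ih =>
        rw [pow_succ _ (m + 1), ih]
        push_cast
        linear_combination ((m : B) + 1) * x ^ m * hd
  obtain ⟨m, rfl⟩ : ∃ m, p = m + 1 := ⟨p - 1, by omega⟩
  rw [key m, hp]
  simp

end helpers

/-- Let A be a commutative ring of characteristic p > 0 and (h_{ij})_{1 ≤ i,j ≤ n} a square matrix over
A, the matrix of a commutative p-Lie algebra (L, φ) with L free with basis e_1, …, e_n and φ(e_j) =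
Σ_i h_{ij} e_i. The associated finite group scheme Spec A[X_1, …, X_n]/(X_j^p − Σ_i h_{ij} X_i)_{1 ≤
j ≤ n} is étale over A if and only if the matrix (h_{ij}) is invertible, i.e. its determinant is a
unit of A. Only the algebra structure enters this assertion. -/
theorem result (p : ℕ) [Fact p.Prime]
    (A : Type u) [CommRing A] [CharP A p] (n : ℕ) (h : Matrix (Fin n) (Fin n) A) :
    Algebra.Etale A (MvPolynomial (Fin n) A ⧸ Ideal.span (Set.range fun j : Fin n =>
        (MvPolynomial.X j : MvPolynomial (Fin n) A) ^ p -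
          ∑ i : Fin n, MvPolynomial.C (h i j) * MvPolynomial.X i)) ↔
      IsUnit h.det := by
  have hp2 : 2 ≤ p := (Fact.out : p.Prime).two_le
  constructor
  · intro het
    by_contra hu
    obtain ⟨m, hm, hmem⟩ := Ideal.exists_le_maximal (Ideal.span {h.det})
      (by rwa [Ne, Ideal.span_singleton_eq_top])
    letI := Ideal.Quotient.field m
    have hdet : (h.map (Ideal.Quotient.mk m)).det = 0 := by
      rw [← RingHom.mapMatrix_apply, ← RingHom.map_det]
      exact Ideal.Quotient.eq_zero_iff_mem.mpr (hmem (Ideal.mem_span_singleton_self _))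
    obtain ⟨v, hv0, hv⟩ := Matrix.exists_vecMul_eq_zero_iff.mpr hdet
    let I : Ideal (TrivSqZeroExt (A ⧸ m) (A ⧸ m)) :=
      RingHom.ker (TrivSqZeroExt.fstHom (A ⧸ m) (A ⧸ m) (A ⧸ m))
    have hI : I ^ 2 = ⊥ := by
      rw [pow_two, eq_bot_iff, Ideal.mul_le]
      intro x hx y hy
      have hx' : x.fst = 0 := hx
      have hy' : y.fst = 0 := hy
      rw [Ideal.mem_bot]
      ext
      · rw [TrivSqZeroExt.fst_mul, hx', zero_mul, TrivSqZeroExt.fst_zero]
      · rw [TrivSqZeroExt.snd_mul, hx', hy', TrivSqZeroExt.snd_zero]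
        simp
    obtain ⟨g₁, hg₁⟩ := exists_hom p h (fun i => (TrivSqZeroExt.inr (v i) : (TrivSqZeroExt (A ⧸ m) (A ⧸ m)))) (by
      intro j
      have h1 : ((TrivSqZeroExt.inr (v j) : (TrivSqZeroExt (A ⧸ m) (A ⧸ m)))) ^ p = 0 := by
        obtain ⟨q, rfl⟩ : ∃ q, p = 2 + q := ⟨p - 2, by omega⟩
        rw [pow_add, pow_two, TrivSqZeroExt.inr_mul_inr, zero_mul]
      rw [h1]
      symm
      have h2 : ∀ i, algebraMap A (TrivSqZeroExt (A ⧸ m) (A ⧸ m)) (h i j) * TrivSqZeroExt.inr (v i) =
          TrivSqZeroExt.inr (v i * (h.map (Ideal.Quotient.mk m)) i j) := by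
        intro i
        rw [TrivSqZeroExt.algebraMap_eq_inl', TrivSqZeroExt.inl_mul_inr, smul_eq_mul, mul_comm]
        rfl
      simp only [h2]
      rw [← TrivSqZeroExt.inr_sum]
      have := congrFun hv j
      simp only [Matrix.vecMul, dotProduct, Pi.zero_apply] at this
      rw [this, TrivSqZeroExt.inr_zero])
    obtain ⟨g₀, hg₀⟩ := exists_hom p h (fun _ => (0 : (TrivSqZeroExt (A ⧸ m) (A ⧸ m))))
      (fun j => by simp [zero_pow (show p ≠ 0 by omega)])
    have heq : g₁ = g₀ := by
      haveI hf : Algebra.FormallyUnramified A (MvPolynomial (Fin n) A ⧸ rels p h) :=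
        haveI : Algebra.Etale A (MvPolynomial (Fin n) A ⧸ rels p h) := het
        inferInstance
      refine Algebra.FormallyUnramified.comp_injective I hI ?_
      refine Ideal.Quotient.algHom_ext _ (MvPolynomial.algHom_ext fun i => ?_)
      change (Ideal.Quotient.mkₐ A I) (g₁ (gx p h i)) = (Ideal.Quotient.mkₐ A I) (g₀ (gx p h i))
      rw [hg₁, hg₀]
      apply Ideal.Quotient.eq.mpr
      simp [I, RingHom.mem_ker]
    apply hv0
    funext i
    have h3 := hg₁ i
    rw [heq, hg₀] at h3
    have h4 := congrArg TrivSqZeroExt.snd h3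
    simpa using h4.symm
  · intro hu
    refine @Algebra.Etale.mk _ _ _ _ _ ?_ ?_
    · rw [Algebra.FormallyEtale.iff_comp_bijective]
      intro B _ _ I hI
      have hpB : (p : B) = 0 := by
        rw [← map_natCast (algebraMap A B), CharP.cast_eq_zero, map_zero]
      have hsq : ∀ d ∈ I, d * d = 0 := fun d hd => by
        have : d * d ∈ I ^ 2 := by rw [pow_two]; exact Ideal.mul_mem_mul hd hd
        rwa [hI, Ideal.mem_bot] at this
      set H : Matrix (Fin n) (Fin n) B := h.map (algebraMap A B) with hH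
      have hHdet : IsUnit H.det := by
        rw [hH, ← RingHom.mapMatrix_apply, ← RingHom.map_det]
        exact hu.map _
      have hsum : ∀ (b : Fin n → B) (j : Fin n),
          ∑ i, algebraMap A B (h i j) * b i = (b ᵥ* H) j := fun b j => by
        simp [Matrix.vecMul, dotProduct, hH, mul_comm]
      constructor
      · intro g₁ g₂ he
        refine hom_ext' p h fun i => ?_
        have hd : ∀ i, g₁ (gx p h i) - g₂ (gx p h i) ∈ I := fun i =>
          Ideal.Quotient.eq.mp (AlgHom.congr_fun he (gx p h i))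
        have hker : (fun i => g₁ (gx p h i) - g₂ (gx p h i)) ᵥ* H = 0 := by
          funext j
          rw [← hsum, Pi.zero_apply]
          simp only [mul_sub, Finset.sum_sub_distrib, ← hom_rel]
          have h1 : g₁ (gx p h j) = g₂ (gx p h j) + (g₁ (gx p h j) - g₂ (gx p h j)) := by ring
          rw [h1, add_pow_of_sq p hpB hp2 _ _ (hsq _ (hd j)), sub_self]
        have h0 : (fun i => g₁ (gx p h i) - g₂ (gx p h i)) = 0 := by
          have := congrArg (fun w => w ᵥ* H⁻¹) hker
          simpa [Matrix.vecMul_vecMul, Matrix.mul_nonsing_inv H hHdet] using this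
        exact sub_eq_zero.mp (congrFun h0 i)
      · intro f
        choose b hb using fun i => Ideal.Quotient.mk_surjective (f (gx p h i))
        let e : Fin n → B := fun j => b j ^ p - (b ᵥ* H) j
        have he : ∀ j, e j ∈ I := by
          intro j
          rw [← Ideal.Quotient.eq_zero_iff_mem]
          simp only [e, ← hsum, map_sub, map_pow, map_sum, map_mul, hb, hom_rel p h f j]
          rw [sub_eq_zero]
          rfl
        have hd : ∀ i, (e ᵥ* H⁻¹) i ∈ I := fun i => by
          simp only [Matrix.vecMul, dotProduct]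
          exact Ideal.sum_mem _ fun k _ => I.mul_mem_right _ (he k)
        obtain ⟨g, hg⟩ := exists_hom p h (fun i => b i + (e ᵥ* H⁻¹) i) (by
          intro j
          rw [hsum, add_pow_of_sq p hpB hp2 _ _ (hsq _ (hd j))]
          have : (fun i => b i + (e ᵥ* H⁻¹) i) ᵥ* H = fun j => b j ^ p := by
            rw [show (fun i => b i + (e ᵥ* H⁻¹) i) = b + e ᵥ* H⁻¹ from rfl, Matrix.add_vecMul,
              Matrix.vecMul_vecMul, Matrix.nonsing_inv_mul H hHdet, Matrix.vecMul_one]
            funext k
            simp [e]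
          rw [this])
        refine ⟨g, hom_ext' p h fun i => ?_⟩
        rw [AlgHom.comp_apply, hg, map_add]
        rw [show (Ideal.Quotient.mkₐ A I) ((e ᵥ* H⁻¹) i) = 0 from
          Ideal.Quotient.eq_zero_iff_mem.mpr (hd i), add_zero]
        exact hb i
    · exact Algebra.FinitePresentation.quotient (Submodule.fg_span (Set.finite_range _))

end Groth.Agent.S15365
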