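import Groth.Statements.S15366
import Mathlib
-- import your own Groth.Agent.* helpers here

set_option autoImplicit false
set_option backward.isDefEq.respectTransparency false
set_option backward.isDefEq.respectTransparency.types false
universe u
open CAlg

namespace Groth.Agent.S15366

/-- Let k be an algebraically closed field of characteristic p > 0, R = k[[t₁, t₂]], and O = R_{(t₁)}
the local ring of Spec R at the generic point x of the divisor t₁ = 0 (a discrete valuation ring,
with uniformizer t₁ and residue field k((t₂))). Then O embeds, by an injective local k-algebra map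
φ, into some complete discrete valuation ring A containing k whose residue field is algebraically
closed and in which φ(t₁) is still a uniformizer. The prime ideal (t₁) is passed as an ideal P equal
to it together with its primality. -/
theorem result
    (p : ℕ) [Fact p.Prime] (k : Type u) [Field k] [IsAlgClosed k] [CharP k p]
    (P : Ideal (MvPowerSeries (Fin 2) k))
    (hP : P = Ideal.span {(MvPowerSeries.X 0 : MvPowerSeries (Fin 2) k)}) [P.IsPrime] :
    ∃ (A : Type u) (_ : CommRing A) (_ : IsDomain A) (_ : IsDiscreteValuationRing A) (_ : Algebra k A)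
      (φ : Localization.AtPrime P →ₐ[k] A),
      IsAdicComplete (IsLocalRing.maximalIdeal A) A ∧ IsAlgClosed (IsLocalRing.ResidueField A) ∧
        Function.Injective φ ∧ IsLocalHom φ.toRingHom ∧
          Irreducible (φ (algebraMap (MvPowerSeries (Fin 2) k) (Localization.AtPrime P)
            (MvPowerSeries.X 0))) := by
  let D := MvPowerSeries (Fin 1) k
  let F := FractionRing D
  let Ω := AlgebraicClosure F
  let g : D →+* Ω := (algebraMap F Ω).comp (algebraMap D F)
  have hg : Function.Injective g := (algebraMap F Ω).injective.comp (IsFractionRing.injective D F)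
  let e := MvPowerSeries.finSuccEquiv k 1
  letI : Algebra k (PowerSeries Ω) := ((PowerSeries.map g).comp ((e.toRingHom).comp (algebraMap k _))).toAlgebra
  let ψ : MvPowerSeries (Fin 2) k →ₐ[k] PowerSeries Ω :=
    { (PowerSeries.map g).comp e.toRingHom with commutes' := fun _ => rfl }
  have hmap : Function.Injective (PowerSeries.map g) := PowerSeries.map_injective g hg
  have hψ : Function.Injective ψ := hmap.comp e.injective
  have hψX : ψ (MvPowerSeries.X 0) = PowerSeries.X := by
    show PowerSeries.map g (e (MvPowerSeries.X 0)) = _
    rw [MvPowerSeries.finSuccEquiv_X_zero, PowerSeries.map_X]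
  have hunit : ∀ y : P.primeCompl, IsUnit (ψ y) := by
    rintro ⟨y, hy⟩
    rw [PowerSeries.isUnit_iff_constantCoeff, isUnit_iff_ne_zero]
    show PowerSeries.constantCoeff (PowerSeries.map g (e y)) ≠ 0
    rw [← PowerSeries.coeff_zero_eq_constantCoeff_apply, PowerSeries.coeff_map, PowerSeries.coeff_zero_eq_constantCoeff_apply]
    intro h0
    obtain ⟨z, hz⟩ := PowerSeries.X_dvd_iff.2 (hg (h0.trans (map_zero g).symm))
    apply hy
    rw [hP, SetLike.mem_coe, Ideal.mem_span_singleton]
    exact ⟨e.symm z, e.injective (by rw [map_mul, e.apply_symm_apply, MvPowerSeries.finSuccEquiv_X_zero, hz])⟩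
  let φ : Localization.AtPrime P →ₐ[k] PowerSeries Ω := IsLocalization.liftAlgHom (f := ψ) hunit
  have hφψ : ∀ y, φ (algebraMap _ (Localization.AtPrime P) y) = ψ y := fun y => IsLocalization.lift_eq _ y
  refine ⟨PowerSeries Ω, inferInstance, inferInstance, inferInstance, inferInstance, φ, ?_, ?_, ?_, ?_, ?_⟩
  · rw [PowerSeries.maximalIdeal_eq_span_X]; infer_instance
  · exact IsAlgClosed.of_ringEquiv _ _ (PowerSeries.residueFieldOfPowerSeries (k := Ω)).symm
  · exact (IsLocalization.lift_injective_iff _).2 fun x y =>
      ⟨fun h => by
        have h' := congrArg φ h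
        rw [hφψ, hφψ] at h'
        exact h', fun h => congrArg _ (hψ h)⟩
  · refine ⟨fun x hx => ?_⟩
    obtain ⟨a, s, rfl⟩ := IsLocalization.exists_mk'_eq P.primeCompl x
    by_contra hnu
    have ha : a ∈ P := by
      by_contra ha
      exact hnu ((IsLocalization.AtPrime.isUnit_mk'_iff _ P a s).2 ha)
    rw [hP, Ideal.mem_span_singleton] at ha
    obtain ⟨c, rfl⟩ := ha
    have hu : IsUnit (φ (algebraMap _ _ (MvPowerSeries.X 0 * c))) := by
      rw [← IsLocalization.mk'_spec (Localization.AtPrime P) (MvPowerSeries.X 0 * c) s, map_mul]
      refine IsUnit.mul hx ?_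
      rw [hφψ]
      exact hunit s
    rw [hφψ, map_mul, hψX, PowerSeries.isUnit_iff_constantCoeff, map_mul, PowerSeries.constantCoeff_X,
      zero_mul] at hu
    exact not_isUnit_zero hu
  · rw [hφψ, hψX]
    exact PowerSeries.X_irreducible

end Groth.Agent.S15366
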