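import Groth.Statements.S15367
import Mathlib
import Groth.Agent.DvrTorsion.Basic

set_option autoImplicit false
universe u v
open TensorProduct
open CAlg

namespace Groth.Agent.S15367

/-- Let R be a discrete valuation ring with uniformizer π and residue field k, n ≥ 0, and M₀ a finitely
generated module over R/πⁿR, viewed as an R-module killed by πⁿ; put M₀* = Hom_R(M₀, R/πⁿR). Then
dim_k(M₀*/πM₀*) = dim_k(M₀/πM₀). The published lemma is stated for a finitely presented module over
the quotient of the ring of integers of an algebraic closure of K by the elements of valuation ≥ t,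
with its dual into that quotient ring, and the published proof reduces it by descent to exactly this
statement over the valuation ring of a finite extension of K; the row states that step. -/
theorem result
    (R : Type u) [CommRing R] [IsDomain R] [IsDiscreteValuationRing R] (ϖ : R) (hϖ : Irreducible ϖ) (n : ℕ)
    (M : Type v) [AddCommGroup M] [Module R M] [Module.Finite R M] (hM : ∀ m : M, ϖ ^ n • m = 0) :
    Module.finrank (IsLocalRing.ResidueField R)
        (IsLocalRing.ResidueField R ⊗[R] (M →ₗ[R] (R ⧸ Ideal.span {ϖ ^ n}))) =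
      Module.finrank (IsLocalRing.ResidueField R) (IsLocalRing.ResidueField R ⊗[R] M) := by
  rcases n with _ | n
  · have : Subsingleton M := subsingleton_of_forall_eq 0 fun m => by simpa using hM m
    rw [Module.finrank_zero_of_subsingleton, Module.finrank_zero_of_subsingleton]
  let S := R ⧸ Ideal.span {ϖ ^ (n + 1)}
  have hD : ∀ φ : M →ₗ[R] S, ϖ ^ (n + 1) • φ = 0 := fun φ => LinearMap.ext fun m => by
    rw [LinearMap.smul_apply, ← map_smul, hM, map_zero]; rfl
  have h1 := Groth.Agent.DvrTorsion.finrank_eq_length_torsion hϖ (M →ₗ[R] S) (n + 1) hD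
  obtain ⟨e⟩ := Groth.Agent.DvrTorsion.exists_equiv_torsion hϖ n
  let k := IsLocalRing.ResidueField R
  let K := LinearMap.ker (Groth.Agent.DvrTorsion.mulπ ϖ (M →ₗ[R] S))
  let a : K →ₗ[R] (M →ₗ[R] LinearMap.ker (Groth.Agent.DvrTorsion.mulπ ϖ S)) :=
    { toFun := fun φ => LinearMap.codRestrict _ φ.1 (fun m => LinearMap.congr_fun φ.2 m)
      map_add' := fun _ _ => rfl
      map_smul' := fun _ _ => rfl }
  have ha : Function.Bijective a := by
    refine ⟨fun φ ψ h => Subtype.ext (LinearMap.ext fun m => congrArg Subtype.val (LinearMap.congr_fun h m)),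
      fun χ => ⟨⟨(LinearMap.ker _).subtype ∘ₗ χ, LinearMap.ext fun m => (χ m).2⟩, rfl⟩⟩
  let e₁ : K ≃ₗ[R] (M →ₗ[R] k) := (LinearEquiv.ofBijective a ha).trans (LinearEquiv.congrRight e)
  have h2 : Module.length R (M →ₗ[R] k) = Module.finrank k (k ⊗[R] M) := by
    rw [((LinearMap.liftBaseChangeEquiv k (M := M) (N := k)).restrictScalars R).length_eq,
      Module.length_eq_of_surjective (S := R) (R := k) IsLocalRing.residue_surjective,
      Module.length_eq_finrank, Module.finrank_linearMap, Module.finrank_self, mul_one]
  rw [e₁.length_eq, h2] at h1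
  exact_mod_cast h1

end Groth.Agent.S15367
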