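import Groth.Statements.S1537
import Groth.Agent.GeomField.Connected

set_option autoImplicit false
universe u
open CategoryTheory CategoryTheory.Limits AlgebraicGeometry
open Variety

namespace Groth.Agent.S1537

/-- A connected k-scheme is geometrically connected as soon as it has a point whose residue field
contains no element integral over k other than the elements of k. -/
theorem result (k : Type u) [Field k] (X : Scheme.{u}) [X.Over (Spec (CommRingCat.of k))] [ConnectedSpace X]
    (x : X) (hx : ∀ a : X.residueField x, (Curv2.resMap k X x).IsIntegralElem a → a ∈ (Curv2.resMap k X x).range) :
    GeometricallyConnected (X ↘ (Spec (CommRingCat.of k))) := by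
  exact GeomField.geometricallyConnected_of_point x hx

end Groth.Agent.S1537
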