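import Groth.Statements.S15376
import Groth.Agent.Synt29.AntiCanonical
import Groth.Agent.SurfRows.NumEquiv
import Groth.Agent.CurveFin.RelDim

set_option autoImplicit false
set_option linter.style.haveILetI false
set_option backward.isDefEq.respectTransparency false
set_option backward.isDefEq.respectTransparency.types false
set_option maxHeartbeats 1000000
universe u
open CategoryTheory CategoryTheory.Limits AlgebraicGeometry
open Biell

namespace Groth.Agent.S15376

/-- Let k be an algebraically closed field and X a (quasi-)bielliptic surface over k, meaning here: X is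
an integral k-scheme, proper and smooth of relative dimension 2 over k and carrying an ample
invertible sheaf, whose canonical sheaf ω (a second exterior power of Ω_{X/k}) is numerically
trivial (degree 0 on every integral closed curve in X) and whose second ℓ-adic Betti number (the
rank of lim_ν H²(X_et, Z/ℓ^ν)) equals 2 for every prime ℓ invertible in k. Then the geometric genus
p_g(X) = dim_k H²(X, O_X) equals 1 if and only if ω ≅ O_X, i.e. ω has order 1 in Pic(X). (The
published statement is for bielliptic surfaces and has a third equivalent condition, non-reducedness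
of the identity component of the Picard scheme, which is not stated here; the equivalence of the two
conditions stated rests only on the numerical triviality of ω on an integral smooth projective
surface, so this row states it for quasi-bielliptic surfaces as well.) -/
theorem result (k : Type u) [Field k] [IsAlgClosed k] (X : Scheme.{u}) [X.Over (Spec (CommRingCat.of k))]
    [IsIntegral X] [IsProper (X ↘ Spec (CommRingCat.of k))] [SmoothOfRelativeDimension 2 (X ↘ Spec (CommRingCat.of k))]
    (hproj : ∃ H : X.Modules, CohB1.IsAmple H)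
    (ω : X.Modules) (hω : Canon.IsTopDiff (X ↘ Spec (CommRingCat.of k)) 2 ω) (hnum : Pic13.IsNumEquivZero k X ω)
    (hb2 : ∀ ℓ : ℕ, ℓ.Prime → (ℓ : k) ≠ 0 → EtAdic.betti X ℓ 2 = 2) :
    Module.finrank k (Coh.HH X (Coh.structureModule X) 2) = 1 ↔ Nonempty (ω ≅ Coh.structureModule X) := by
  open Groth.Agent Groth.Agent.Synt29 Groth.Agent.H23.PicMul Groth.Agent.H23.TrivBasic in
  haveI : IsNoetherian X := CurveCohLib.isNoetherian_of_proper (k := k)
  haveI : Smooth (X ↘ Spec (CommRingCat.of k)) := SmoothOfRelativeDimension.smooth 2 _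
  have hdim : topologicalKrullDim X = 2 := by
    obtain ⟨U, hU, V, hV, hxV, e, hstd⟩ := SmoothOfRelativeDimension.exists_isStandardSmoothOfRelativeDimension
      (n := 2) (f := X ↘ Spec (CommRingCat.of k)) (Classical.arbitrary X)
    have hUt : U = ⊤ := top_le_iff.1 fun p _ => by
      haveI : Subsingleton (Spec (CommRingCat.of k)) := inferInstanceAs (Subsingleton (PrimeSpectrum k))
      rw [Subsingleton.elim p ((X ↘ Spec (CommRingCat.of k)) (Classical.arbitrary X))]; exact e hxV
    subst hUt
    let ψ := (Scheme.ΓSpecIso (CommRingCat.of k)).inv ≫ (X ↘ Spec (CommRingCat.of k)).appLE ⊤ V e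
    have h' : RingHom.IsStandardSmoothOfRelativeDimension 2 ψ.hom :=
      RingHom.isStandardSmoothOfRelativeDimension_respectsIso.2 _
        (Scheme.ΓSpecIso (CommRingCat.of k)).symm.commRingCatIsoToRingEquiv hstd
    let _ := ψ.hom.toAlgebra
    have : Algebra.IsStandardSmoothOfRelativeDimension 2 k Γ(X, V) := h'
    have : Nonempty V := ⟨⟨_, hxV⟩⟩
    rw [← CurveFin.ringKrullDim_affine_eq (X ↘ Spec (CommRingCat.of k)) hV ⟨_, hxV⟩]
    exact SmoothDim.ringKrullDim_eq k Γ(X, V) 2
  obtain ⟨H, hH⟩ := hproj
  letI := H23.PicMul.clMonoid (X := X)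
  haveI : HasExt.{u} X.Modules := IsGrothendieckAbelian.hasExt _
  have hωi : PicF.IsInvertible ω := SurfAdj.isInvertible_W k hdim hω
  have hS : PicF.IsInvertible (Coh.structureModule X) := H23.InvStalk.isInvertible_structureModule
  have hF := H23.PullPush.isFinLocFree_of_isInvertible hS
  obtain ⟨e⟩ := PnDual.nonempty_ext_linearEquiv_HH (A := k) hF ω 0
  obtain ⟨t⟩ := LMHom.nonempty_tensor_dual hF ω
  obtain ⟨t₀⟩ := LMHom.nonempty_tensor_dual hF (Coh.structureModule X)
  have hd : PicF.cl (RefHull.dual (Coh.structureModule X)) = 1 := by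
    have h : PicF.cl (RefHull.dual (Coh.structureModule X)) * PicF.cl (Coh.structureModule X) = 1 := by
      rw [← LMHom.cl_hom_unit hS, cl_eq_iff.2 ⟨t₀⟩, cl_tensor, ← H23.PicMul.one_def, mul_one, mul_one]
    rwa [← H23.PicMul.one_def, mul_one] at h
  have hpg : Module.finrank k (Coh.HH X (Coh.structureModule X) 2) = Module.finrank k (Coh.HH X ω 0) := by
    have hx := (SerreCore.finrank_ext (k := k) hdim hH hω (CurveDeg.isCoh_of_isInvertible hS) (i := 0) (Nat.zero_le 2)).2
    rw [show (2 - 0 : ℕ) = 2 from rfl] at hx
    rw [← hx, e.finrank_eq]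
    refine AntiCanonical.finrank_of_cl ?_ 0
    rw [cl_eq_iff.2 ⟨t⟩, cl_tensor, hd, one_mul]
  constructor
  · intro h1
    have hnz : Nontrivial (Coh.HH X ω 0) :=
      Module.nontrivial_of_finrank_pos (R := k) (by rw [← hpg, h1]; exact one_pos)
    obtain ⟨s, hs⟩ := CurveAmple.exists_section_ne_zero hnz
    by_cases ht : locus s = ⊤
    · exact triv_of_frame (locus_eq_top_iff.1 ht)
    · exfalso
      have hp := SurfAmple.pair_pos (k := k) hdim (SurfHodge.regular k) hωi hH hs ht
      have h0 := (SurfRows.numEquiv_iff (k := k) hdim hωi).1 hnum H hH.1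
      omega
  · rintro ⟨i⟩
    rw [hpg, AntiCanonical.finrank_of_cl (k := k) (cl_eq_iff.2 ⟨i⟩) 0]
    exact SurfAdj.finrank_h0 k X

end Groth.Agent.S15376
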