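import Groth.Statements.S15383
import Groth.Prelude.Def_GmPts

set_option autoImplicit false
universe u
open GmDual CategoryTheory CategoryTheory.Limits AlgebraicGeometry TopologicalSpace Opposite

namespace Groth.Agent.S15383


open CategoryTheory AlgebraicGeometry in
/-- Let f : X' ⟶ X be a finite flat morphism of Noetherian schemes (so finite locally free). A morphism
of abelian sheaves N : f_* 𝔾_{m,X'} ⟶ 𝔾_{m,X} on the big fppf site of X is called a norm map of f
when, on every affine test scheme T over X for which the functions of T ×_X X' form a finite free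
algebra over those of T, it sends an invertible function on T ×_X X' to the determinant of
multiplication by it. Two norm maps of f are equal: a norm map is determined by its affine-local
description by determinants. -/
theorem result (X X' : Scheme.{u}) (f : X' ⟶ X) [IsFinite f] [Flat f]
    [AlgebraicGeometry.IsNoetherian X]
    (N N' : CGrpSh3.pushGm Scheme.fppfPrecoverage f ⟶ CGrpSh2.Gm Scheme.fppfPrecoverage X)
    (hN : CGrpSh3.IsNormMap Scheme.fppfPrecoverage f N) (hN' : CGrpSh3.IsNormMap Scheme.fppfPrecoverage f N') :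
    N = N' := by

  classical
  haveI : IsLocallyNoetherian X := inferInstance
  have hfree : ∀ x : X, ∃ (V : X.Opens) (hV : IsAffineOpen V) (r : Γ((V : Scheme.{u}), ⊤)),
      x ∈ V.ι ''ᵁ (V : Scheme.{u}).basicOpen r ∧
      ∀ (U : Scheme.{u}) [IsAffine U] (u : U ⟶ (V : Scheme.{u})) (_ : IsUnit (u.appTop r)),
        letI := (pullback.fst (u ≫ V.ι) f).appTop.hom.toAlgebra
        Module.Finite Γ(U, ⊤) Γ(pullback (u ≫ V.ι) f, ⊤) ∧ Module.Free Γ(U, ⊤) Γ(pullback (u ≫ V.ι) f, ⊤) := by
    intro x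
    obtain ⟨(V : X.Opens), hV, hxV, -⟩ := Opens.isBasis_iff_nbhd.mp X.isBasis_affineOpens (Opens.mem_top x)
    haveI : IsAffine (V : Scheme.{u}) := hV
    haveI : IsAffine (f ⁻¹ᵁ V : Scheme.{u}) := hV.preimage f
    let A := Γ((V : Scheme.{u}), ⊤)
    let M := Γ((f ⁻¹ᵁ V : Scheme.{u}), ⊤)
    haveI : IsFinite (f ∣_ V) := MorphismProperty.of_isPullback (isPullback_morphismRestrict f V).flip ‹IsFinite f›
    haveI : Flat (f ∣_ V) := MorphismProperty.of_isPullback (isPullback_morphismRestrict f V).flip ‹Flat f›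
    letI : Algebra A M := (f ∣_ V).appTop.hom.toAlgebra
    haveI : Module.Finite A M := (f ∣_ V).finite_appTop
    haveI : Module.Flat A M := (f ∣_ V).flat_appTop
    haveI : IsNoetherianRing A := by
      haveI : IsLocallyNoetherian (V : Scheme.{u}) := inferInstance
      exact IsLocallyNoetherian.component_noetherian ⟨⊤, isAffineOpen_top _⟩
    haveI : Module.FinitePresentation A M := Module.finitePresentation_of_finite A M
    let p : PrimeSpectrum A := (V : Scheme.{u}).isoSpec.hom ⟨x, hxV⟩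
    haveI : Module.Free (Localization.AtPrime p.asIdeal) (LocalizedModule p.asIdeal.primeCompl M) :=
      Module.free_of_flat_of_isLocalRing
    obtain ⟨r, hr, hr', -⟩ := Module.FinitePresentation.exists_free_localizedModule_powers
      p.asIdeal.primeCompl (LocalizedModule.mkLinearMap p.asIdeal.primeCompl M)
      (Localization.AtPrime p.asIdeal)
    refine ⟨V, hV, r, ?_, fun U _ u hu => ?_⟩
    · refine ⟨⟨x, hxV⟩, ?_, rfl⟩
      rw [← Scheme.toSpecΓ_preimage_basicOpen]
      exact hr
    ·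
      let e := pullback.fst (u ≫ V.ι) f
      letI : Algebra Γ(U, ⊤) Γ(pullback (u ≫ V.ι) f, ⊤) := e.appTop.hom.toAlgebra
      let g : pullback (u ≫ V.ι) f ⟶ (f ⁻¹ᵁ V : Scheme.{u}) := (isPullback_morphismRestrict f V).lift
        (e ≫ u) (pullback.snd _ _) (by rw [Category.assoc, pullback.condition])
      have hg1 : g ≫ (f ∣_ V) = e ≫ u := IsPullback.lift_fst _ _ _ _
      have hg2 : g ≫ (f ⁻¹ᵁ V).ι = pullback.snd _ _ := IsPullback.lift_snd _ _ _ _
      have hP : IsPullback e g u (f ∣_ V) := by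
        refine (IsPullback.of_right ?_ hg1 (isPullback_morphismRestrict f V).flip).flip
        rw [hg2]
        exact (IsPullback.of_hasPullback _ _).flip
      letI : Algebra A Γ(U, ⊤) := u.appTop.hom.toAlgebra
      letI : Algebra M Γ(pullback (u ≫ V.ι) f, ⊤) := g.appTop.hom.toAlgebra
      letI : Algebra A Γ(pullback (u ≫ V.ι) f, ⊤) := (g ≫ (f ∣_ V)).appTop.hom.toAlgebra
      haveI : IsScalarTower A M Γ(pullback (u ≫ V.ι) f, ⊤) := IsScalarTower.of_algebraMap_eq' (by
        show (g ≫ (f ∣_ V)).appTop.hom = g.appTop.hom.comp (f ∣_ V).appTop.hom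
        rw [Scheme.Hom.comp_appTop]; rfl)
      haveI : IsScalarTower A Γ(U, ⊤) Γ(pullback (u ≫ V.ι) f, ⊤) := IsScalarTower.of_algebraMap_eq' (by
        show (g ≫ (f ∣_ V)).appTop.hom = e.appTop.hom.comp u.appTop.hom
        rw [hg1, Scheme.Hom.comp_appTop]; rfl)
      haveI hpo : Algebra.IsPushout A Γ(U, ⊤) M Γ(pullback (u ≫ V.ι) f, ⊤) :=
        CommRingCat.isPushout_iff_isPushout.mp (isPushout_appTop_of_isPullback hP)
      letI : Algebra (Localization.Away r) Γ(U, ⊤) := (IsLocalization.Away.lift r hu).toAlgebra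
      haveI : IsScalarTower A (Localization.Away r) Γ(U, ⊤) :=
        IsScalarTower.of_algebraMap_eq fun a => (IsLocalization.Away.lift_eq r hu a).symm
      haveI : Module.Free (Localization.Away r) (TensorProduct A (Localization.Away r) M) :=
        Module.Free.of_equiv (IsLocalizedModule.isBaseChange (Submonoid.powers r) (Localization.Away r)
          (LocalizedModule.mkLinearMap (Submonoid.powers r) M)).equiv.symm
      haveI : Module.Free Γ(U, ⊤) (TensorProduct A Γ(U, ⊤) M) :=
        Module.Free.of_equiv (TensorProduct.AlgebraTensorModule.cancelBaseChange A (Localization.Away r)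
          Γ(U, ⊤) Γ(U, ⊤) M)
      exact ⟨Module.Finite.equiv hpo.out.equiv, Module.Free.of_equiv hpo.out.equiv⟩
  choose V hV r hxr hr using hfree
  refine Sheaf.hom_ext (NatTrans.ext (funext fun T => AddCommGrpCat.ext fun z => ?_))
  refine ULift.ext _ _ (congrArg Additive.ofMul ?_)
  set T' := T.unop
  let t' : (Over.pullback f).obj T' ⟶ Red.Gm X' := Additive.toMul (ULift.down z)
  show CGrpSh3.normPt _ f N T' t' = CGrpSh3.normPt _ f N' T' t'
  apply Over.OverMorphism.ext
  refine Scheme.hom_ext_of_forall _ _ fun p => ?_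
  let x := T'.hom p
  obtain ⟨(U : T'.left.Opens), hU, hpU, hUle⟩ := Opens.isBasis_iff_nbhd.mp T'.left.isBasis_affineOpens
    (show p ∈ T'.hom ⁻¹ᵁ ((V x).ι ''ᵁ (V x : Scheme.{u}).basicOpen (r x)) from hxr x)
  refine ⟨U, hpU, ?_⟩
  haveI : IsAffine (U : Scheme.{u}) := hU
  let u : (U : Scheme.{u}) ⟶ (V x : Scheme.{u}) :=
    IsOpenImmersion.lift (V x).ι (U.ι ≫ T'.hom) (by
      rintro _ ⟨q, rfl⟩
      obtain ⟨w, -, hw⟩ := hUle q.2
      exact ⟨w, hw⟩)
  have hu : u ≫ (V x).ι = U.ι ≫ T'.hom := IsOpenImmersion.lift_fac _ _ _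
  let T₁ : Over X := Over.mk (u ≫ (V x).ι)
  let ρ : T₁ ⟶ T' := Over.homMk U.ι hu.symm
  have hunit : IsUnit (u.appTop (r x)) := by
    refine RingedSpace.isUnit_of_isUnit_germ (U : Scheme.{u}).toLocallyRingedSpace.toRingedSpace ⊤ _
      fun q _ => ?_
    refine (Scheme.mem_basicOpen_top (X := (U : Scheme.{u})) _ q).1 ?_
    rw [← Scheme.preimage_basicOpen_top]
    obtain ⟨w, hw, hwe⟩ := hUle q.2
    have h' : (V x).ι (u q) = (V x).ι w := by
      rw [← Scheme.Hom.comp_apply, hu]
      exact hwe.symm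
    show u q ∈ (V x : Scheme.{u}).basicOpen (r x)
    rw [(V x).ι.isOpenEmbedding.injective h']
    exact hw
  have hnat : ∀ M : CGrpSh3.pushGm Scheme.fppfPrecoverage f ⟶ CGrpSh2.Gm Scheme.fppfPrecoverage X,
      ρ ≫ CGrpSh3.normPt _ f M T' t' = CGrpSh3.normPt _ f M T₁ ((Over.pullback f).map ρ ≫ t') := fun M => by
    let z' : ToType ((CGrpSh3.pushGm Scheme.fppfPrecoverage f).obj.obj (op T')) := ULift.up (Additive.ofMul t')
    have h := congrArg (fun w => Additive.toMul (ULift.down w)) (NatTrans.naturality_apply M.hom ρ.op z')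
    exact h.symm
  suffices h : ρ ≫ CGrpSh3.normPt _ f N T' t' = ρ ≫ CGrpSh3.normPt _ f N' T' t' from
    congrArg (fun φ => φ.left) h
  rw [hnat N, hnat N']
  haveI : IsAffine T₁.left := hU
  letI : Algebra Γ(T₁.left, ⊤) Γ(((Over.pullback f).obj T₁).left, ⊤) :=
    (pullback.fst T₁.hom f).appTop.hom.toAlgebra
  obtain ⟨hfin, hfr⟩ := hr x (U : Scheme.{u}) u hunit
  haveI : Module.Finite Γ(T₁.left, ⊤) Γ(((Over.pullback f).obj T₁).left, ⊤) := hfin
  haveI : Module.Free Γ(T₁.left, ⊤) Γ(((Over.pullback f).obj T₁).left, ⊤) := hfr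
  refine GmPts.gmFn_injective ?_
  show Red.gmFn _ = Red.gmFn _
  rw [hN T₁ (fun a => rfl), hN' T₁ (fun a => rfl)]

end Groth.Agent.S15383
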