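import Groth.Statements.S15384
import Groth.Agent.NormMap.Main

set_option autoImplicit false
universe u
open GmDual

namespace Groth.Agent.S15384

open Groth.Agent

open CategoryTheory AlgebraicGeometry in
/-- Let f : X' ⟶ X be a finite flat morphism of Noetherian schemes (so finite locally free). There is a
morphism of abelian sheaves N : f_* 𝔾_{m,X'} ⟶ 𝔾_{m,X} on the big fppf site of X which is a norm map
of f: on every affine test scheme T over X for which the functions of T ×_X X' form a finite free
algebra over those of T (structure map the pullback of functions along the projection), N sends an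
invertible function on T ×_X X' to the determinant of multiplication by it. -/
theorem result (X X' : Scheme.{u}) (f : X' ⟶ X) [IsFinite f] [Flat f]
    [AlgebraicGeometry.IsNoetherian X] :
    ∃ N : CGrpSh3.pushGm Scheme.fppfPrecoverage f ⟶ CGrpSh2.Gm Scheme.fppfPrecoverage X,
      CGrpSh3.IsNormMap Scheme.fppfPrecoverage f N := by

  exact ⟨Groth.Agent.NormMap.normHom f, Groth.Agent.NormMap.isNormMap_normHom f⟩

end Groth.Agent.S15384
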