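import Groth.Statements.S15385
import Groth.Agent.StkCntLib.BaseTransfer
import Groth.Agent.StkCntLib.Mass
import Groth.Agent.StkCntLib.FinPts
-- import your own Groth.Agent.* helpers here

set_option autoImplicit false
set_option backward.isDefEq.respectTransparency.types false
set_option maxHeartbeats 1000000
universe u
open StackCount

namespace Groth.Agent.S15385

open CategoryTheory AlgebraicGeometry in
/-- Let k be a finite field and G a finite etale group scheme over k (in particular affine over k, so
that every G-torsor is a scheme). For every finite field extension k' of k, the point count of the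
classifying stack B(G) over k' — the sum, over the isomorphism classes of the groupoid of
etale-locally trivial G-torsors over Spec k', of the inverse orders of their automorphism groups —
equals 1. The finiteness of that groupoid (finitely many classes, finite automorphism groups) is
carried as a hypothesis. -/
theorem result (k : Type u) [Field k] [Finite k]
    (G : Over (Spec (CommRingCat.of k))) [GrpObj G] [IsFinite G.hom] [Etale G.hom]
    (k' : Type u) [Field k'] [Algebra k k'] [Module.Finite k k']
    (h : StkCnt.IsEssFinite (StkCnt.pts (AlgSt.BG Scheme.etalePrecoverage G) k')) :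
    StkCnt.ptCount (AlgSt.BG Scheme.etalePrecoverage G) k' h = 1 := by
  open MonoidalCategory CartesianMonoidalCategory MonObj StkCntLib in
  classical
  let f : Spec (CommRingCat.of k') ⟶ Spec (CommRingCat.of k) := (SGA7.pt (K := k) k').hom
  haveI : Finite k' := Module.finite_of_finite k
  let K : Type u := AlgebraicClosure k'
  haveI : IsGalois k' K := Frob.isGalois_algClosure
  let j : (Over.map f).obj (SGA7.pt (K := k') k') ≅ SGA7.pt (K := k) k' :=
    Over.isoMk (Iso.refl _) (by
      show 𝟙 _ ≫ f = Spec.map (CommRingCat.ofHom (algebraMap k' k')) ≫ f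
      rw [show CommRingCat.ofHom (algebraMap k' k') = 𝟙 _ from rfl, Spec.map_id])
  let F := Transfer.dnFunctor f (AlgSt.trivAction G) j
  obtain ⟨h', hh'⟩ := Transfer.count_congr F h
  obtain ⟨π, hπ⟩ := Frob.exists_frobenius (k := k') (K := K)
  let G' := Red.bc f G
  let X' := Red.bc f (𝟙_ (Over (Spec (CommRingCat.of k))))
  haveI : IsFinite G'.hom := MorphismProperty.pullback_snd G.hom f inferInstance
  haveI : Etale G'.hom := MorphismProperty.pullback_snd G.hom f inferInstance
  haveI : IsFinite X'.hom := MorphismProperty.pullback_snd (𝟙_ (Over (Spec (CommRingCat.of k)))).hom f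
    (inferInstanceAs (IsFinite (𝟙 (Spec (CommRingCat.of k)))))
  have hm := ptCount_eq_mass (G := G') (X := X') (aX := (AlgSt.trivAction G).bc f) hπ h'
  show StkCnt.count _ h = 1
  rw [← hh']
  refine hm.trans ?_
  have hsub : Subsingleton (SGA7.Pts K X') :=
    ((Over.mapPullbackAdj f).homEquiv (SGA7.pt (K := k') K) (𝟙_ (Over (Spec (CommRingCat.of k))))).symm.subsingleton
  haveI : Finite (SGA7.Pts K G') := finite_pts_of_isFinite G'
  let x₀ : SGA7.Pts K X' :=
    (Over.mapPullbackAdj f).homEquiv (SGA7.pt (K := k') K) (𝟙_ (Over (Spec (CommRingCat.of k)))) (toUnit _)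
  let e : Dat π ((AlgSt.trivAction G).bc f) ≃ SGA7.Pts K G' :=
    { toFun := fun d => d.a
      invFun := fun a => ⟨a, x₀, Subsingleton.elim _ _⟩
      left_inv := fun d => Dat.ext rfl (Subsingleton.elim _ _)
      right_inv := fun a => rfl }
  haveI := Finite.of_equiv _ e.symm
  rw [mass_eq_div, Nat.card_congr e, div_self (Nat.cast_ne_zero.2 Nat.card_pos.ne')]

end Groth.Agent.S15385
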