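import Groth.Statements.S15391
import Mathlib

set_option autoImplicit false
universe u
open TensorProduct
open TorFree

namespace Groth.Agent.S15391

/-- Let R be a reduced Noetherian commutative ring, M a finitely generated torsion-free R-module (no
non-zero element of M is annihilated by a non-zero-divisor of R), and t an element of M whose image
1 ⊗ t in the fibre κ(p) ⊗_R M vanishes for every prime ideal p of R, κ(p) being the residue field at
p. Then t = 0. This is the affine form of the claim that a global section of a coherent torsion-free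
module on a reduced Noetherian scheme which vanishes in every fibre is zero. -/
theorem result (R : Type u) [CommRing R] [IsReduced R] [IsNoetherianRing R]
    (M : Type u) [AddCommGroup M] [Module R M] [Module.Finite R M] [Module.IsTorsionFree R M]
    (t : M) (ht : ∀ p : PrimeSpectrum R, (1 : p.asIdeal.ResidueField) ⊗ₜ[R] t = (0 : p.asIdeal.ResidueField ⊗[R] M)) :
    t = 0 := by
  classical
  by_contra hne
  set A : Ideal R := Submodule.colon (⊥ : Submodule R M) {t} with hA
  have hmem : ∀ r : R, r ∈ A ↔ r • t = 0 := fun r => by
    rw [hA, Submodule.mem_colon_singleton, Submodule.mem_bot]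
  have hnot : ∀ P ∈ minimalPrimes R, ¬ A ≤ P := by
    intro P hP hle
    have hPp : P.IsPrime := hP.1.1
    let L := Localization.AtPrime P
    have h0 : IsField L := by
      have : Ring.KrullDimLE 0 L := Ring.KrullDimLE.of_isLocalization P hP L
      exact Ring.KrullDimLE.isField_of_isReduced
    have hbot : IsLocalRing.maximalIdeal L = ⊥ := IsLocalRing.isField_iff_maximalIdeal_eq.mp h0
    let e : L ≃ₐ[R] P.ResidueField := AlgEquiv.ofBijective (IsScalarTower.toAlgHom R L _)
      ⟨by
        rw [injective_iff_map_eq_zero]
        intro x hx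
        rw [← Submodule.mem_bot L, ← hbot, ← IsLocalRing.residue_eq_zero_iff]
        exact hx, IsLocalRing.residue_surjective⟩
    have : IsLocalization P.primeCompl P.ResidueField := IsLocalization.isLocalization_of_algEquiv P.primeCompl e
    have hl : IsLocalizedModule P.primeCompl (TensorProduct.mk R P.ResidueField M 1) :=
      (isLocalizedModule_iff_isBaseChange P.primeCompl P.ResidueField _).mpr
        (TensorProduct.isBaseChange R M P.ResidueField)
    obtain ⟨s, hs⟩ := (IsLocalizedModule.eq_zero_iff P.primeCompl
      (TensorProduct.mk R P.ResidueField M 1)).mp (ht ⟨P, hPp⟩)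
    exact s.2 (hle ((hmem _).mpr hs))
  have hfin := minimalPrimes.finite_of_isNoetherianRing R
  have : ¬ (A : Set R) ⊆ ⋃ P ∈ (hfin.toFinset : Set (Ideal R)), (P : Set R) := by
    intro h
    obtain ⟨P, hP, hle⟩ := (Ideal.subset_union_prime (f := fun P : Ideal R => P) ⊥ ⊥
      (fun P hP _ _ => (hfin.mem_toFinset.mp hP).1.1)).mp h
    exact hnot P (hfin.mem_toFinset.mp hP) hle
  obtain ⟨r, hrA, hr⟩ := Set.not_subset.mp this
  simp only [Set.Finite.coe_toFinset, Set.mem_iUnion, not_exists] at hr
  have hreg : IsRegular r := by
    rw [isRegular_iff_mem_nonZeroDivisors, mem_nonZeroDivisors_iff_right]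
    intro x hx
    have hxm : ∀ P ∈ minimalPrimes R, x ∈ P := fun P hP =>
      (hP.1.1.mem_or_mem (show x * r ∈ P by rw [hx]; exact P.zero_mem)).resolve_right (hr P hP)
    have : x ∈ nilradical R := by
      rw [nilradical, ← Ideal.sInf_minimalPrimes]
      exact Submodule.mem_sInf.mpr fun P hP => hxm P hP
    rwa [nilradical_eq_zero, Ideal.zero_eq_bot, Ideal.mem_bot] at this
  exact hne (Module.IsTorsionFree.isSMulRegular hreg (by simpa using (hmem r).mp hrA))

end Groth.Agent.S15391
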