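import Groth.Statements.S15392
import Groth.Agent.Lib.SigmaPushForward
import Groth.Agent.Lib.AVKerSplit
import Groth.Agent.S11133
import Groth.Agent.QCoh.LocFree

set_option autoImplicit false
set_option backward.isDefEq.respectTransparency false
set_option backward.isDefEq.respectTransparency.types false
set_option linter.style.haveILetI false
set_option linter.unusedSectionVars false
set_option maxHeartbeats 400000
universe u
open CategoryTheory CategoryTheory.Limits MonoidalCategory CartesianMonoidalCategory MonObj GrpObj AlgebraicGeometry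
open AbVar

namespace Groth.Agent.S15392

/-- Let k be an algebraically closed field of characteristic zero, A and B abelian varieties over k
(proper smooth k-group schemes with geometrically connected fibres), π : A → B a homomorphism which
is an isogeny (finite and surjective), and E a finite locally free O_A-module. For a k-rational
point a of A write t_a : A → A for the translation by a (the product of the identity and the
constant map a in the group Hom(A, A)). Then π^*π_*E is isomorphic to the direct sum of the
translates t_a^*E over the k-rational points a of A with π(a) equal to the unit of B, that is over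
the k-points of the kernel of π (existence of an isomorphism). -/
theorem result (k : Type u) [Field k] [IsAlgClosed k] [CharZero k]
    (A B : Over (Spec (CommRingCat.of k))) [GrpObj A] [IsProper A.hom] [Smooth A.hom] [GeometricallyConnected A.hom]
    [GrpObj B] [IsProper B.hom] [Smooth B.hom] [GeometricallyConnected B.hom]
    (π : A ⟶ B) [IsMonHom π] [IsFinite π.left] [Surjective π.left]
    (E : A.left.Modules) (hE : FlatMod.IsFinLocFree E) :
    Nonempty ((Scheme.Modules.pullback π.left).obj ((Scheme.Modules.pushforward π.left).obj E) ≅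
      ∐ fun a : {a : 𝟙_ (Over (Spec (CommRingCat.of k))) ⟶ A // a ≫ π = 1} =>
        (Scheme.Modules.pullback (𝟙 A * (toUnit A ≫ a.1)).left).obj E) := by
  classical
  haveI : IsReduced B.left := Groth.Agent.GrpSchLib.isReduced_of_smooth_field B.hom
  haveI : Flat π.left := Groth.Agent.GrpSchLib.flat_of_surjective_hom π
  haveI : Etale π.left := Groth.Agent.AVKerSplit.etale_isogeny π
  obtain ⟨hfin, hpb⟩ := Groth.Agent.AVKerSplit.exists_isPullback π
  haveI := hfin
  haveI : Coh.IsQCoh E := Groth.Agent.QCoh.isQCoh_of_isFinLocFree hE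
  have hbc := Groth.Agent.S11133.Aux.isIso_bc π.left π.left _ _ hpb E
  let g' := Sigma.desc fun a : {a : 𝟙_ (Over (Spec (CommRingCat.of k))) ⟶ A // a ≫ π = 1} =>
    (𝟙 A * (toUnit A ≫ a.1)).left
  let i := fun a : {a : 𝟙_ (Over (Spec (CommRingCat.of k))) ⟶ A // a ≫ π = 1} =>
    Sigma.ι (fun _ : {a : 𝟙_ (Over (Spec (CommRingCat.of k))) ⟶ A // a ≫ π = 1} => A.left) a
  obtain ⟨e⟩ := Groth.Agent.SigmaPushForward.nonempty_iso i
    (Sigma.desc fun _ : {a : 𝟙_ (Over (Spec (CommRingCat.of k))) ⟶ A // a ≫ π = 1} => 𝟙 A.left)
    (fun a => Sigma.ι_desc _ _) ((Scheme.Modules.pullback g').obj E)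
    (fun z => ⟨_, ((Scheme.IsLocallyDirected.openCover (Discrete.functor fun _ : {a : 𝟙_ (Over (Spec (CommRingCat.of k))) ⟶ A // a ≫ π = 1} => A.left)).covers z).choose,
      ((Scheme.IsLocallyDirected.openCover (Discrete.functor fun _ : {a : 𝟙_ (Over (Spec (CommRingCat.of k))) ⟶ A // a ≫ π = 1} => A.left)).covers z).choose_spec⟩)
    (fun a b hab w w' h => hab (congrArg Sigma.fst ((AlgebraicGeometry.sigmaι_eq_iff (fun _ : {a : 𝟙_ (Over (Spec (CommRingCat.of k))) ⟶ A // a ≫ π = 1} => A.left) _ _ w w').1 h)))
  let e₂ := fun a : {a : 𝟙_ (Over (Spec (CommRingCat.of k))) ⟶ A // a ≫ π = 1} =>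
    ((Scheme.Modules.restrictFunctorIsoPullback (i a)).app ((Scheme.Modules.pullback g').obj E)) ≪≫
      (Scheme.Modules.pullbackComp (i a) g').app E ≪≫
      (Scheme.Modules.pullbackCongr (show i a ≫ g' = (𝟙 A * (toUnit A ≫ a.1)).left from Sigma.ι_desc _ a)).app E
  refine ⟨(@asIso _ _ _ _ _ hbc).trans (e.trans ?_)⟩
  exact Sigma.mapIso e₂

end Groth.Agent.S15392
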