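import Groth.Statements.S15393
import Groth.Agent.Lib.AVIdealDual
import Groth.Agent.S14126
import Groth.Agent.Lib.AVPoincareD
import Groth.Agent.Lib.DerivedBC
import Groth.Agent.Lib.DerivedNat
import Groth.Agent.Lib.SmoothDuality
import Groth.Agent.KFlatLib.Scheme.TriNatShift
import Groth.Agent.QCoh.Support
import Groth.Agent.ZClosLib.Basic
import Groth.Agent.H23.SpClosed
import Groth.Agent.Lib.RegEpiGen
import Groth.Agent.Lib.AVAmple

set_option autoImplicit false
set_option backward.isDefEq.respectTransparency false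
set_option backward.isDefEq.respectTransparency.types false
set_option linter.style.haveILetI false
set_option linter.unusedSectionVars false
set_option maxHeartbeats 400000
universe u
open CategoryTheory CategoryTheory.Limits MonoidalCategory CartesianMonoidalCategory MonObj GrpObj AlgebraicGeometry
attribute [local instance] HasDerivedCategory.standard
open AbVar

namespace Groth.Agent.S15393

set_option maxHeartbeats 1600000
open Groth.Agent.H23 Groth.Agent.AVPair
open Groth.Agent.Lib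
open scoped Groth.Agent.H23.PicMul
open CategoryTheory.Limits CategoryTheory.Pretriangulated

namespace Aux

/-- Derived tensor product of two modules in degree zero, the first invertible. -/
theorem nonempty_ltensorMod_inD {X : Scheme.{u}} {P N : X.Modules} (hP : PicF.IsInvertible P) [DCoh.HasLTensorMod N] :
    Nonempty ((DCoh.LTensorMod N).obj (DCoh.inD X P) ≅ DCoh.inD X (CohB1.tensorMod P N)) := by
  haveI := KFlatLib.hasLTensorCx ((HomologicalComplex.single X.Modules (ComplexShape.up ℤ) 0).obj N)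
  obtain ⟨a⟩ := KFlatLib.nonempty_ltensorMod_ltensorCx N (DCoh.inD X P)
  obtain ⟨b⟩ := KFlatLib.nonempty_ltensor_inD (DerivedNat.isFlat_of_invertible hP) N
  exact ⟨a ≪≫ b⟩

variable {k : Type u} [Field k] [IsAlgClosed k] {A : Over (Spec (CommRingCat.of k))} [GrpObj A] [IsProper A.hom]
  [Smooth A.hom] [GeometricallyConnected A.hom]

theorem subsingleton_HH_idl : Subsingleton (Coh.HH A.left (AVIdealDual.idl A) 0) := by
  haveI := AVDual.geometricallyIntegral_of_smooth A
  have hb := H23.CubeField.bijective_appTop_of_connected A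
  haveI : Subsingleton Γ(AVIdealDual.idl A, (⊤ : A.left.Opens)) := by
    refine subsingleton_of_forall_eq 0 fun s => ?_
    let u := ClSub.unitToPush η[A].left
    refine ZClosLib.app_injective_of_mono (kernel.ι u) ⊤ ?_
    rw [map_zero]
    have h1 : η[A].left.appTop ((kernel.ι u).app ⊤ s) = 0 :=
      show u.app ⊤ ((kernel.ι u).app ⊤ s) = 0 from
        congrArg (fun m : AVIdealDual.idl A ⟶ _ => m.app ⊤ s) (kernel.condition u)
    obtain ⟨c, hc⟩ := hb.2 ((kernel.ι u).app ⊤ s)
    have h2 : η[A].left.appTop (A.hom.appTop c) = c := by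
      rw [← CommRingCat.comp_apply, ← Scheme.Hom.comp_appTop, Over.w η[A]]
      rfl
    rw [hc, h1] at h2
    rw [← hc, ← h2, map_zero]
  haveI : Subsingleton ↑((Coh.toAb (AVIdealDual.idl A)).obj.obj (Opposite.op (⊤ : A.left.Opens))) :=
    ‹Subsingleton Γ(AVIdealDual.idl A, (⊤ : A.left.Opens))›
  exact (Sheaf.H.equiv₀ (Coh.toAb (AVIdealDual.idl A)) isTerminalTop).subsingleton

theorem nontrivial_HH_zero : Nontrivial (Coh.HH A.left (Coh.structureModule A.left) 0) := by
  haveI := AVDual.geometricallyIntegral_of_smooth A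
  haveI : IsIntegral A.left := GeometricallyIntegral.isIntegral_of_subsingleton A.hom
  haveI : Nonempty (⊤ : A.left.Opens) := ⟨⟨η[A].left (IsLocalRing.closedPoint k), trivial⟩⟩
  haveI : Nontrivial Γ(Coh.structureModule A.left, (⊤ : A.left.Opens)) :=
    inferInstanceAs (Nontrivial Γ(A.left, ⊤))
  haveI : Nontrivial ↑((Coh.toAb (Coh.structureModule A.left)).obj.obj (Opposite.op (⊤ : A.left.Opens))) :=
    ‹Nontrivial Γ(Coh.structureModule A.left, (⊤ : A.left.Opens))›
  exact (Sheaf.H.equiv₀ (Coh.toAb (Coh.structureModule A.left)) isTerminalTop).nontrivial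

/-- Serre duality in top degree. -/
theorem exists_duality {g : ℕ} (hg : topologicalKrullDim ↥A.left = g) [HasExt.{u} A.left.Modules] :
    letI : A.left.Over (Spec (CommRingCat.of k)) := ⟨A.hom⟩
    ∀ M : A.left.Modules, Coh.IsCoh M →
      (Subsingleton (Coh.HH A.left M 0) → Subsingleton (Abelian.Ext M (Coh.structureModule A.left) g)) ∧
      (Nontrivial (Coh.HH A.left M 0) → Nontrivial (Abelian.Ext M (Coh.structureModule A.left) g)) := by
  letI : A.left.Over (Spec (CommRingCat.of k)) := ⟨A.hom⟩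
  intro M hM
  haveI := AVDual.geometricallyIntegral_of_smooth A
  haveI : IsIntegral A.left := GeometricallyIntegral.isIntegral_of_subsingleton A.hom
  haveI : SmoothOfRelativeDimension g A.hom := CurveFin.smoothOfRelativeDimension_of_dim A.hom hg
  haveI : SmoothOfRelativeDimension g (A.left ↘ Spec (CommRingCat.of k)) :=
    inferInstanceAs (SmoothOfRelativeDimension g A.hom)
  obtain ⟨W, hW, ⟨w⟩⟩ := AVDuality.exists_canonical_triv (A := A) g
  obtain ⟨L₀, hL₀, -⟩ := S8121.result k A
  obtain ⟨r, j, -, -, hι, hιs, -⟩ := AmpleEmbedPow.exists_closedImmersion A.hom hL₀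
  haveI := hι
  obtain ⟨e⟩ := SmoothDuality.nonempty_ext_equiv j hιs hW M hM g le_rfl
  let f : Abelian.Ext M (Coh.structureModule A.left) g → Abelian.Ext M W g := fun α =>
    α.comp (Abelian.Ext.mk₀ w.inv) (add_zero g)
  have hf : Function.Bijective f := by
    refine Function.bijective_iff_has_inverse.2 ⟨fun α => α.comp (Abelian.Ext.mk₀ w.hom) (add_zero g), fun α => ?_, fun α => ?_⟩
    · show (α.comp _ _).comp _ _ = α
      rw [Abelian.Ext.comp_assoc_of_third_deg_zero, Abelian.Ext.mk₀_comp_mk₀, Iso.inv_hom_id, Abelian.Ext.comp_mk₀_id]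
    · show (α.comp _ _).comp _ _ = α
      rw [Abelian.Ext.comp_assoc_of_third_deg_zero, Abelian.Ext.mk₀_comp_mk₀, Iso.hom_inv_id, Abelian.Ext.comp_mk₀_id]
  rw [Nat.sub_self] at e
  refine ⟨fun h => ?_, fun h => ?_⟩
  · haveI := h
    haveI := e.toEquiv.subsingleton
    exact hf.1.subsingleton
  · haveI := h
    haveI : Nontrivial (Module.Dual k (Coh.HH A.left M 0)) := by
      obtain ⟨x, hx⟩ := exists_ne (0 : Coh.HH A.left M 0)
      obtain ⟨l, hl⟩ := not_forall.1 (fun hh => hx ((Module.forall_dual_apply_eq_zero_iff k x).1 hh))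
      exact nontrivial_of_ne l 0 fun h0 => hl (by rw [h0]; rfl)
    haveI := e.toEquiv.nontrivial
    exact (Equiv.ofBijective f hf).nontrivial

end Aux

namespace Aux2

open DerivedCategory

/-- Maps out of a module in degree `g`. -/
noncomputable def homShift {X : Scheme.{u}} (M : X.Modules) (K : DCoh.D X) (g : ℕ) :
    ((singleFunctor X.Modules (g : ℤ)).obj M ⟶ K) ≃ ShiftedHom ((singleFunctor X.Modules 0).obj M) K (g : ℤ) :=
  (Functor.FullyFaithful.ofFullyFaithful (shiftFunctor (DCoh.D X) (g : ℤ))).homEquiv.trans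
    ((((singleFunctors X.Modules).shiftIso (g : ℤ) 0 (g : ℤ) (add_zero _)).app M).homCongr (Iso.refl _))

/-- Derived tensor product of a shifted structure module with a module. -/
theorem nonempty_ltensor_single {X : Scheme.{u}} (I : X.Modules) (g : ℤ)
    [DCoh.HasLTensorCx ((HomologicalComplex.single X.Modules (ComplexShape.up ℤ) 0).obj I)] :
    Nonempty ((DCoh.LTensorCx ((HomologicalComplex.single X.Modules (ComplexShape.up ℤ) 0).obj I)).obj
      ((singleFunctor X.Modules g).obj (Coh.structureModule X)) ≅ (singleFunctor X.Modules g).obj I) := by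
  haveI : CochainComplex.IsStrictlyLE
      ((HomologicalComplex.single X.Modules (ComplexShape.up ℤ) g).obj (Coh.structureModule X)) g :=
    (CochainComplex.isStrictlyLE_iff _ g).2
      fun j hj => HomologicalComplex.isZero_single_obj_X (ComplexShape.up ℤ) g _ j (by omega)
  have hR : DCoh.IsKFlat ((HomologicalComplex.single X.Modules (ComplexShape.up ℤ) g).obj (Coh.structureModule X)) :=
    KFlatLib.isKFlat_of_isStrictlyLE _ g (KFlatLib.isFlat_single g KFlatLib.isFlat_structureModule)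
  obtain ⟨u⟩ : Nonempty ((DCoh.tensorBi.flip.obj I).obj (Coh.structureModule X) ≅ I) := by
    refine (PicGrp.cl_eq_cl_iff (CohB1.tensorMod (Coh.structureModule X) I) I).1 ?_
    show (1 : PicF.Cl X) * PicF.cl I = PicF.cl I
    exact _root_.one_mul _
  exact ⟨(DCoh.LTensorCx _).mapIso ((singleFunctorIsoCompQ X.Modules g).app _) ≪≫
    KFlatLib.ltensorCxIso _ hR ≪≫
    Q.mapIso ((KFlatLib.singleIso (DCoh.tensorBi (X := X)) I).app _ ≪≫
      (HomologicalComplex.singleMapHomologicalComplex (DCoh.tensorBi.flip.obj I) _ g).app _ ≪≫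
      (HomologicalComplex.single X.Modules (ComplexShape.up ℤ) g).mapIso u) ≪≫
    ((singleFunctorIsoCompQ X.Modules g).app I).symm⟩

/-- The global functions of a point. -/
theorem isUnit_of_ne_zero {k : Type u} [Field k] (c : Γ(Spec (CommRingCat.of k), ⊤)) (hc : c ≠ 0) : IsUnit c := by
  let σ := (Scheme.ΓSpecIso (CommRingCat.of k)).commRingCatIsoToRingEquiv
  have h0 : (σ c : k) ≠ 0 := fun h => hc (σ.injective (h.trans (map_zero σ).symm))
  have h := (isUnit_iff_ne_zero.2 h0).map σ.symm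
  rwa [RingEquiv.symm_apply_apply] at h

/-- The endomorphism given by a function. -/
noncomputable def scal {X : Scheme.{u}} (c : Γ(X, ⊤)) : Coh.structureModule X ⟶ Coh.structureModule X :=
  InvX.ofSect (M := Coh.structureModule X) c

theorem one_scal {X : Scheme.{u}} (c : Γ(X, ⊤)) : (RegEpi.one (scal c) : Γ(X, ⊤)) = c :=
  RegEpi.one_ofSect (M := Coh.structureModule X) c

theorem scal_comp {X : Scheme.{u}} (a b : Γ(X, ⊤)) (h : a * b = 1) : scal a ≫ scal b = 𝟙 _ := by
  refine RegEpi.hom_eq_of_one_eq _ _ ?_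
  have h1 : (RegEpi.one (scal a ≫ scal b) : Γ(X, ⊤)) = (scal b).app ⊤ (RegEpi.one (scal a)) := rfl
  have h2 := Scheme.Modules.Hom.app_smul (scal b) a (1 : Γ(X, ⊤))
  have h3 : @Eq Γ(X, ⊤) ((scal b).app ⊤ (a * 1 : Γ(X, ⊤))) (@HMul.hMul Γ(X, ⊤) Γ(X, ⊤) Γ(X, ⊤) _ a (RegEpi.one (scal b))) := h2
  rw [_root_.mul_one, one_scal, h] at h3
  rw [one_scal] at h1
  exact h1.trans h3

/-- A nonzero map from the structure module to the skyscraper at a rational point. -/
theorem exists_factor {k : Type u} [Field k] {X : Scheme.{u}} (e : Spec (CommRingCat.of k) ⟶ X)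
    (ψ : Coh.structureModule X ⟶ (Scheme.Modules.pushforward e).obj (Coh.structureModule _)) (hψ : ψ ≠ 0) :
    ∃ θ : Coh.structureModule (Spec (CommRingCat.of k)) ≅ Coh.structureModule (Spec (CommRingCat.of k)),
      ψ = ClSub.unitToPush e ≫ (Scheme.Modules.pushforward e).map θ.hom := by
  let c : Γ(Spec (CommRingCat.of k), ⊤) := RegEpi.one ψ
  have hc : c ≠ 0 := fun h0 => hψ (RegEpi.hom_eq_of_one_eq ψ 0 h0)
  obtain ⟨v, hv⟩ := isUnit_of_ne_zero c hc
  refine ⟨⟨scal c, scal (v⁻¹ : Γ(Spec (CommRingCat.of k), ⊤)ˣ).val, scal_comp _ _ ?_, scal_comp _ _ ?_⟩, ?_⟩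
  · rw [← hv, Units.mul_inv]
  · rw [← hv, Units.inv_mul]
  refine RegEpi.hom_eq_of_one_eq _ _ ?_
  have h1 : (e.app ⊤) (1 : Γ(X, ⊤)) = (1 : Γ(Spec (CommRingCat.of k), ⊤)) := map_one _
  show c = (scal c).app ⊤ ((e.app ⊤) (1 : Γ(X, ⊤)))
  rw [h1]
  exact (one_scal c).symm

theorem map_zero_of_pres {X Y : Scheme.{u}} {G : DCoh.D X ⥤ DCoh.D Y} (hG : KFlatLib.TriNat.PresTri G)
    (M N : DCoh.D X) : G.map (0 : M ⟶ N) = 0 := by
  have hz := isZero_zero (DCoh.D X)
  rw [show (0 : M ⟶ N) = hz.from_ M ≫ hz.to_ N from (by rw [hz.eq_of_tgt (hz.from_ M) 0, zero_comp]), Functor.map_comp,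
    (hG.isZero_obj hz).eq_of_tgt (G.map (hz.from_ M)) 0, zero_comp]

/-- Faithfulness on quasi-coherent objects. -/
theorem eq_zero_of_map_eq_zero {X Y : Scheme.{u}} (G : DCoh.D X ⥤ DCoh.D Y)
    (hq : ∀ M : DCoh.D X, DCoh.IsQCohD M → DCoh.IsQCohD (G.obj M))
    (hE : (ObjectProperty.lift (DCoh.IsQCohD (X := Y))
      (ObjectProperty.ι (DCoh.IsQCohD (X := X)) ⋙ G) (fun M => hq M.obj M.property)).IsEquivalence)
    {M N : DCoh.D X} (hM : DCoh.IsQCohD M) (hN : DCoh.IsQCohD N) (a : M ⟶ N) (h : G.map a = G.map 0) : a = 0 := by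
  haveI := hE
  let α : (⟨M, hM⟩ : DCoh.DQCoh X) ⟶ ⟨N, hN⟩ := ObjectProperty.homMk a
  have h1 : α = 0 := (ObjectProperty.lift (DCoh.IsQCohD (X := Y))
      (ObjectProperty.ι (DCoh.IsQCohD (X := X)) ⋙ G) (fun M => hq M.obj M.property)).map_injective
        (ObjectProperty.hom_ext _ h)
  exact congrArg (fun z => z.hom) h1

variable {k : Type u} [Field k] {B : Over (Spec (CommRingCat.of k))} [GrpObj B] [IsProper B.hom]

/-- The cone of a nonzero map to the skyscraper. -/
theorem nonempty_cone (T : Triangle (DCoh.D B.left)) (hT : T ∈ distTriang (DCoh.D B.left)) (d m : ℤ) (hm : 1 + d = m)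
    (e₁ : T.obj₁ ≅ (DCoh.inD B.left (Coh.structureModule B.left))⟦d⟧)
    (e₂ : T.obj₂ ≅ (DCoh.inD B.left (AVSkyDual.sky B))⟦d⟧) (h : T.mor₁ ≠ 0) :
    Nonempty (T.obj₃ ≅ (DCoh.inD B.left (AVIdealDual.idl B))⟦m⟧) := by
  let F := singleFunctor B.left.Modules 0
  let Sh := shiftFunctor (DCoh.D B.left) d
  obtain ⟨φ', hφ'⟩ := Sh.map_surjective (e₁.inv ≫ T.mor₁ ≫ e₂.hom)
  obtain ⟨ψ, hψ⟩ := F.map_surjective φ'
  have hψ0 : ψ ≠ 0 := fun h0 => h (by
    rw [h0, Functor.map_zero] at hψ
    rw [← hψ, Functor.map_zero] at hφ'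
    have h2 := congrArg (fun z => e₁.hom ≫ z ≫ e₂.inv) hφ'
    simpa using h2.symm)
  obtain ⟨θ, hθ⟩ := exists_factor η[B].left ψ hψ0
  let u : Coh.structureModule B.left ⟶ AVSkyDual.sky B := ClSub.unitToPush η[B].left
  let Θ : (DCoh.inD B.left (AVSkyDual.sky B))⟦d⟧ ≅ (DCoh.inD B.left (AVSkyDual.sky B))⟦d⟧ :=
    Sh.mapIso (F.mapIso ((Scheme.Modules.pushforward η[B].left).mapIso θ))
  have key : T.mor₁ ≫ e₂.hom = e₁.hom ≫ Sh.map (F.map u) ≫ Θ.hom := by
    have h3 : Sh.map (F.map u) ≫ Θ.hom = Sh.map (F.map ψ) := by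
      rw [hθ]
      simp only [Θ, Functor.mapIso_hom, ← Functor.map_comp]
      rfl
    rw [h3, hψ, hφ', Iso.hom_inv_id_assoc]
  have hR := Triangle.shift_distinguished _ (rot_of_distTriang _ (AVIdealDual.shortExact_idl (A := B)).singleTriangle_distinguished) d
  let E₁ : T.obj₁ ≅ (DCoh.inD B.left (Coh.structureModule B.left))⟦d⟧ :=
    { hom := d.negOnePow • e₁.hom
      inv := d.negOnePow • e₁.inv
      hom_inv_id := by simp [Linear.units_smul_comp, Linear.comp_units_smul, smul_smul]
      inv_hom_id := by simp [Linear.units_smul_comp, Linear.comp_units_smul, smul_smul] }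
  refine ⟨Triangle.π₃.mapIso (isoTriangleOfIso₁₂ T _ hT hR E₁ (e₂ ≪≫ Θ.symm) ?_) ≪≫
    ((shiftFunctorAdd' (DCoh.D B.left) 1 d m hm).app _).symm⟩
  show T.mor₁ ≫ e₂.hom ≫ Θ.inv = (d.negOnePow • e₁.hom) ≫ (d.negOnePow • Sh.map (F.map u))
  rw [← Category.assoc, key]
  simp [Linear.units_smul_comp, Linear.comp_units_smul, smul_smul]

end Aux2

namespace Aux3

variable {k : Type u} [Field k] {A At : Over (Spec (CommRingCat.of k))} (P : (pullback A.hom At.hom).Modules)
  [QuasiCompact A.hom] [QuasiSeparated A.hom] [DCoh.HasLpull (pullback.fst A.hom At.hom)] [DCoh.HasLTensorMod P]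
  [DCoh.HasRpush (pullback.snd A.hom At.hom)]

theorem isQCohD_fm (hP : PicF.IsInvertible P) (M : DCoh.D A.left) (hM : DCoh.IsQCohD M) :
    DCoh.IsQCohD ((DCoh.Lpull (pullback.fst A.hom At.hom) ⋙ DCoh.LTensorMod P ⋙
      DCoh.Rpush (pullback.snd A.hom At.hom)).obj M) := by
  have h1 := DerivedBC.isQCohD_ltensorMod_of_invertible hP (KFlatLib.isQCohD_lpull (pullback.fst A.hom At.hom) hM)
  show DCoh.IsQCohD ((DCoh.Rpush (pullback.snd A.hom At.hom)).obj
    ((DCoh.LTensorMod P).obj ((DCoh.Lpull (pullback.fst A.hom At.hom)).obj M)))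
  exact KFlatLib.isQCohD_rpush (pullback.snd A.hom At.hom) h1

theorem fm_map_zero (M N : DCoh.D A.left) :
    (DCoh.Lpull (pullback.fst A.hom At.hom) ⋙ DCoh.LTensorMod P ⋙ DCoh.Rpush (pullback.snd A.hom At.hom)).map
      (0 : M ⟶ N) = 0 :=
  Aux2.map_zero_of_pres (KFlatLib.TriNat.presTri_comp (KFlatLib.TriNat.presTri_lpull (pullback.fst A.hom At.hom))
    (KFlatLib.TriNat.presTri_comp (KFlatLib.TriNat.presTri_ltensorMod P)
      (KFlatLib.TriNat.presTri_rpush (pullback.snd A.hom At.hom)))) M N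

end Aux3

/-- Let k be an algebraically closed field of characteristic zero, A an abelian variety over k (a proper
smooth k-group scheme with geometrically connected fibres) of dimension g, (A^t, φ) a given dual
abelian variety of A for the fppf topology with A^t itself an abelian variety, and P an invertible
module on A ×_k A^t whose class is a Poincaré class. Let I_0 ⊆ O_A be the ideal sheaf of the unit
point of A (the kernel of O_A → e_*O_{Spec k} for the unit section e), I_0^∨ = RHom(I_0, O_A) its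
derived dual in D(O_A), and similarly I_{0^t} ⊆ O_{A^t} the ideal sheaf of the unit point of A^t.
Write Φ_P = Rpr_{2,*}(Lpr_1^*(−) ⊗^L P) : D(O_A) → D(O_{A^t}); the derived functors involved are
assumed to exist. Then Φ_P(I_0^∨) is isomorphic in D(O_{A^t}) to I_{0^t}[−(g − 1)], the ideal sheaf
of the unit point placed in degree g − 1 (existence of an isomorphism). -/
theorem result (k : Type u) [Field k] [IsAlgClosed k] [CharZero k]
    (A At : Over (Spec (CommRingCat.of k))) [GrpObj A] [IsProper A.hom] [Smooth A.hom] [GeometricallyConnected A.hom]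
    [GrpObj At] [IsProper At.hom] [Smooth At.hom] [GeometricallyConnected At.hom]
    (φ : ∀ T : Over (Spec (CommRingCat.of k)), PicF.Cl (PicF.XT A.hom T) → (T ⟶ At))
    (hφ : AbDual.IsDualAV Scheme.fppfPrecoverage A At φ)
    (P : (pullback A.hom At.hom).Modules) (hP : PicF.IsInvertible P)
    (hPξ : AbDual.IsPoincareCl A At φ (PicF.cl P))
    (g : ℕ) (hg : topologicalKrullDim ↥A.left = g)
    [DCoh.HasLpull (pullback.fst A.hom At.hom)] [DCoh.HasLTensorMod P] [DCoh.HasRpush (pullback.snd A.hom At.hom)]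
    [DCoh.HasLTensorCx ((HomologicalComplex.single A.left.Modules (ComplexShape.up ℤ) 0).obj (kernel (ClSub.unitToPush η[A].left)))]
    [DCoh.HasRSheafHom ((HomologicalComplex.single A.left.Modules (ComplexShape.up ℤ) 0).obj (kernel (ClSub.unitToPush η[A].left)))] :
    Nonempty ((DCoh.Lpull (pullback.fst A.hom At.hom) ⋙ DCoh.LTensorMod P ⋙ DCoh.Rpush (pullback.snd A.hom At.hom)).obj
        ((DCoh.RSheafHom ((HomologicalComplex.single A.left.Modules (ComplexShape.up ℤ) 0).obj
          (kernel (ClSub.unitToPush η[A].left)))).obj (DCoh.inD A.left (Coh.structureModule A.left))) ≅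
      (shiftFunctor (DCoh.D At.left) (-((g : ℤ) - 1))).obj (DCoh.inD At.left (kernel (ClSub.unitToPush η[At].left)))) := by
  haveI := AVDual.geometricallyIntegral_of_smooth A
  haveI := AVDual.geometricallyIntegral_of_smooth At
  haveI : IsCommMonObj A := isCommMonObj_of_isProper_of_geometricallyIntegral _
  haveI : IsCommMonObj At := isCommMonObj_of_isProper_of_geometricallyIntegral _
  haveI : IsIntegral A.left := GeometricallyIntegral.isIntegral_of_subsingleton A.hom
  haveI : IsIntegral At.left := GeometricallyIntegral.isIntegral_of_subsingleton At.hom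
  haveI : IsLocallyNoetherian A.left := LocallyOfFiniteType.isLocallyNoetherian A.hom
  have hgAt := AVPoincare.dim_eq hφ hg
  have hsep := AVPoincare.sep_of_dual hφ hPξ
  let q1 := pullback.fst A.hom At.hom
  let q2 := pullback.snd A.hom At.hom
  let pt : Scheme.{u} := Spec (CommRingCat.of k)
  let eA : pt ⟶ A.left := η[A].left
  let OA := Coh.structureModule A.left
  let OT := Coh.structureModule At.left
  haveI : Flat q1 := MorphismProperty.pullback_fst (P := @Flat) _ _ inferInstance
  haveI := KFlatLib.hasLTensorCx ((HomologicalComplex.single A.left.Modules (ComplexShape.up ℤ) 0).obj (AVSkyDual.sky A))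
  haveI := AVIdealDual.hasRSheafHom ((HomologicalComplex.single A.left.Modules (ComplexShape.up ℤ) 0).obj (AVSkyDual.sky A))
  obtain ⟨s⟩ := AVSkyDual.nonempty_dual_sky (A := A) hg
  obtain ⟨a, b, c, hT⟩ := AVIdealDual.exists_triangle_idl (A := A)
  let G := DCoh.Lpull (pullback.fst A.hom At.hom) ⋙ DCoh.LTensorMod P ⋙ DCoh.Rpush (pullback.snd A.hom At.hom)
  -- the transform of the structure module
  obtain ⟨eO⟩ : Nonempty (G.obj (DCoh.inD A.left OA) ≅
      (DCoh.inD At.left (AVSkyDual.sky At))⟦-(g : ℤ)⟧) := by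
    obtain ⟨l⟩ := KFlatLib.nonempty_lpull_inD_of_flat q1 OA
    obtain ⟨u⟩ := PicClLib.nonempty_pullback_structureModule q1
    obtain ⟨j⟩ := Aux.nonempty_ltensorMod_inD (N := P) (InvX.isInvertible_structureModule (X := pullback A.hom At.hom))
    obtain ⟨t⟩ : Nonempty (CohB1.tensorMod (Coh.structureModule (pullback A.hom At.hom)) P ≅ P) := by
      refine (PicGrp.cl_eq_cl_iff _ _).1 ?_
      show (1 : PicF.Cl (pullback A.hom At.hom)) * PicF.cl P = PicF.cl P
      exact _root_.one_mul _
    haveI := KFlatLib.hasRpush_scheme η[At].left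
    obtain ⟨sky⟩ := AVPoincareD.nonempty_rpush_snd_of_sep (A := A) (B := At) hP hsep hg hgAt
    haveI : IsClosedImmersion η[At].left := by
      haveI : IsClosedImmersion (η[At].left ≫ At.hom) := by
        rw [Over.w η[At]]; exact inferInstanceAs (IsClosedImmersion (𝟙 _))
      exact IsClosedImmersion.of_comp η[At].left At.hom
    obtain ⟨r⟩ := KFlatLib.AffineRpush.nonempty_rpush_inD η[At].left (Coh.structureModule _) QCoh.isQCoh_structureModule
    exact ⟨(DCoh.Rpush q2).mapIso ((DCoh.LTensorMod P).mapIso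
        (l ≪≫ (DerivedCategory.singleFunctor _ 0).mapIso u) ≪≫ j ≪≫
        (DerivedCategory.singleFunctor _ 0).mapIso t) ≪≫ sky ≪≫
      (shiftFunctor (DCoh.D At.left) (-(g : ℤ))).mapIso r⟩
  -- the transform of the skyscraper
  obtain ⟨eK⟩ : Nonempty (G.obj (DCoh.inD A.left (AVSkyDual.sky A)) ≅ DCoh.inD At.left OT) := by
    let iO : At ⟶ A ⊗ At := lift (toUnit At ≫ η[A]) (𝟙 At)
    let i : At.left ⟶ pullback A.hom At.hom := iO.left
    have hi1 : i ≫ q1 = At.hom ≫ eA := by
      show iO.left ≫ (fst A At).left = _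
      rw [← Over.comp_left, lift_fst]; rfl
    have hi2 : i ≫ q2 = 𝟙 At.left := by
      show iO.left ≫ (snd A At).left = _
      rw [← Over.comp_left, lift_snd]; rfl
    have hsq : IsPullback i At.hom q1 eA := by
      refine IsPullback.of_right ?_ hi1 (IsPullback.of_hasPullback A.hom At.hom).flip
      rw [hi2, show eA ≫ A.hom = 𝟙 _ from Over.w η[A]]
      exact IsPullback.of_horiz_isIso ⟨by rw [Category.id_comp]; exact (Category.comp_id _).symm⟩
    haveI : IsClosedImmersion eA := by
      haveI : IsClosedImmersion (eA ≫ A.hom) := by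
        rw [show eA ≫ A.hom = 𝟙 _ from Over.w η[A]]; infer_instance
      exact IsClosedImmersion.of_comp eA A.hom
    haveI := KFlatLib.hasRpush_scheme eA
    haveI := KFlatLib.hasRpush_scheme i
    haveI := KFlatLib.hasRpush_scheme (𝟙 At.left)
    haveI := KFlatLib.hasLpull At.hom
    haveI := KFlatLib.hasLpull (𝟙 At.left)
    obtain ⟨r⟩ := KFlatLib.AffineRpush.nonempty_rpush_inD eA (Coh.structureModule pt) QCoh.isQCoh_structureModule
    obtain ⟨bk⟩ := DerivedBC.nonempty_baseChange_of_flat_right (f := eA) (g := q1) (f' := i) (g' := At.hom) hsq.flip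
    obtain ⟨l⟩ := KFlatLib.nonempty_lpull_inD_of_flat At.hom (Coh.structureModule pt)
    obtain ⟨u⟩ := PicClLib.nonempty_pullback_structureModule At.hom
    let NP : At.left.Modules := (Scheme.Modules.pullback i).obj P
    haveI := KFlatLib.hasLTensorMod NP
    obtain ⟨p⟩ := DerivedNat.nonempty_projection i hP (N' := NP) (Iso.refl _)
    obtain ⟨eN⟩ : Nonempty (NP ≅ OT) := by
      refine (PicGrp.cl_eq_cl_iff NP _).1 ?_
      show pl (lift (toUnit At ≫ η[A]) (𝟙 At)) (PicF.cl P : PicF.Cl (A ⊗ At).left) = 1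
      rw [← Hom.one_def]
      exact (AVDual.poincare_axes hφ hPξ).1
    obtain ⟨tu⟩ := DerivedNat.nonempty_tensor_unit eN
    obtain ⟨cp⟩ := DerivedNat.nonempty_rpush_comp' i q2 (𝟙 _) hi2
    obtain ⟨ri⟩ := DerivedNat.nonempty_rpush_iso_lpull_inv (𝟙 At.left) (𝟙 At.left) (Category.id_comp _) (Category.id_comp _)
    obtain ⟨li⟩ := KExact.A1Shriek.nonempty_lpull_id (𝟙 At.left) rfl
    have hpt : DCoh.IsQCohD (DCoh.inD pt (Coh.structureModule pt)) :=
      KFlatLib.isQCohD_inD_of_isQCoh QCoh.isQCoh_structureModule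
    exact ⟨(DCoh.Rpush q2).mapIso ((DCoh.LTensorMod P).mapIso ((DCoh.Lpull q1).mapIso r.symm ≪≫
        bk.app ⟨_, hpt⟩ ≪≫ (DCoh.Rpush i).mapIso (l ≪≫ (DerivedCategory.singleFunctor _ 0).mapIso u)) ≪≫
        (p.app _).symm ≪≫ (DCoh.Rpush i).mapIso (tu.app _)) ≪≫ cp.app _ ≪≫ ri.app _ ≪≫ li.app _⟩
  have hG : KFlatLib.TriNat.PresTri G :=
    KFlatLib.TriNat.presTri_comp (KFlatLib.TriNat.presTri_lpull _)
      (KFlatLib.TriNat.presTri_comp (KFlatLib.TriNat.presTri_ltensorMod P) (KFlatLib.TriNat.presTri_rpush _))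
  obtain ⟨c', hT'⟩ := hG _ hT
  let T' : Triangle (DCoh.D At.left) := Triangle.mk (G.map a) (G.map b) c'
  -- the map of the triangle is nonzero
  have ha : a ≠ 0 := by
    intro ha
    haveI : HasExt.{u} A.left.Modules := IsGrothendieckAbelian.hasExt _
    let S := (DerivedCategory.singleFunctor A.left.Modules (g : ℤ)).obj OA
    have hnt : Nontrivial (S ⟶ DCoh.inD A.left OA) := by
      haveI := ((Aux.exists_duality hg) OA QCoh.isCoh_structureModule').2 Aux.nontrivial_HH_zero
      haveI := (Abelian.Ext.homEquiv (X := OA) (Y := OA) (n := g)).symm.nontrivial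
      exact (Aux2.homShift OA (DCoh.inD A.left OA) g).nontrivial
    have hsub : Subsingleton (S ⟶ (DCoh.RSheafHom ((HomologicalComplex.single A.left.Modules (ComplexShape.up ℤ) 0).obj
        (kernel (ClSub.unitToPush η[A].left)))).obj (DCoh.inD A.left OA)) := by
      haveI := ((Aux.exists_duality hg) (AVIdealDual.idl A)
        (QCoh.isCoh_kernel QCoh.isCoh_structureModule' (H23.SpClosed.isCoh_push η[A].left) _)).1
          Aux.subsingleton_HH_idl
      haveI := (Abelian.Ext.homEquiv (X := AVIdealDual.idl A) (Y := OA) (n := g)).symm.subsingleton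
      haveI := (Aux2.homShift (AVIdealDual.idl A) (DCoh.inD A.left OA) g).subsingleton
      obtain ⟨e⟩ := Aux2.nonempty_ltensor_single (AVIdealDual.idl A) (g : ℤ)
      haveI : Subsingleton ((DCoh.LTensorCx ((HomologicalComplex.single A.left.Modules (ComplexShape.up ℤ) 0).obj
          (kernel (ClSub.unitToPush η[A].left)))).obj S ⟶ DCoh.inD A.left OA) :=
        (e.homCongr (Iso.refl _)).subsingleton
      exact ((DCoh.RSheafHomAdj _).homEquiv _ _).symm.subsingleton
    obtain ⟨f, hf⟩ := exists_ne (0 : S ⟶ DCoh.inD A.left OA)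
    obtain ⟨h, hh⟩ := Triangle.coyoneda_exact₂ _ hT f (hsub.elim _ _)
    exact hf (by rw [hh]; simp [ha])
  have ha' : G.map a ≠ 0 := by
    intro h0
    refine ha ?_
    have hOq : DCoh.IsQCohD (DCoh.inD A.left OA) := KFlatLib.isQCohD_inD_of_isQCoh QCoh.isQCoh_structureModule
    have hsq : Coh.IsQCoh (AVSkyDual.sky A) := by
      haveI : IsClosedImmersion η[A].left := by
        haveI : IsClosedImmersion (η[A].left ≫ A.hom) := by
          rw [Over.w η[A]]; exact inferInstanceAs (IsClosedImmersion (𝟙 _))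
        exact IsClosedImmersion.of_comp η[A].left A.hom
      exact QCoh.isQCoh_pushforward _ QCoh.isQCoh_structureModule
    obtain ⟨sh⟩ := AVPoincareD.nonempty_single_shift (AVSkyDual.sky A) (g : ℤ)
    have hKq := KFlatLib.isQCohD_of_iso (s ≪≫ sh).symm
      (KFlatLib.isQCohD_shift (KFlatLib.isQCohD_inD_of_isQCoh hsq) _)
    exact Aux2.eq_zero_of_map_eq_zero
      (DCoh.Lpull (pullback.fst A.hom At.hom) ⋙ DCoh.LTensorMod P ⋙ DCoh.Rpush (pullback.snd A.hom At.hom))
      (Aux3.isQCohD_fm P hP) (Groth.Agent.S14126.result k A At φ hφ P hP hPξ (Aux3.isQCohD_fm P hP)) hKq hOq a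
      (h0.trans (Aux3.fm_map_zero P _ _).symm)
  -- the first two objects
  obtain ⟨sT⟩ := KFlatLib.TriNat.PresTri.nonempty_shift
    (KFlatLib.TriNat.presTri_comp (KFlatLib.TriNat.presTri_lpull _)
      (KFlatLib.TriNat.presTri_comp (KFlatLib.TriNat.presTri_ltensorMod P) (KFlatLib.TriNat.presTri_rpush _)) :
      KFlatLib.TriNat.PresTri G) (DCoh.inD A.left (AVSkyDual.sky A)) (-(g : ℤ))
  obtain ⟨sh⟩ := AVPoincareD.nonempty_single_shift (AVSkyDual.sky A) (g : ℤ)
  let d : ℤ := -(g : ℤ)
  let e₁ : T'.obj₁ ≅ (DCoh.inD At.left OT)⟦d⟧ :=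
    G.mapIso (s ≪≫ sh) ≪≫ sT ≪≫ (shiftFunctor (DCoh.D At.left) d).mapIso eK
  exact Aux2.nonempty_cone T' hT' d (-((g : ℤ) - 1)) (by simp only [d]; omega) e₁ eO ha'

end Groth.Agent.S15393
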