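import Groth.Statements.S15396
import Groth.Agent.Lib.AVIdealDual

set_option autoImplicit false
set_option backward.isDefEq.respectTransparency false
set_option backward.isDefEq.respectTransparency.types false
set_option linter.style.haveILetI false
set_option linter.unusedSectionVars false
set_option maxHeartbeats 400000
universe u
open CategoryTheory CategoryTheory.Limits MonoidalCategory CartesianMonoidalCategory MonObj GrpObj AlgebraicGeometry
attribute [local instance] HasDerivedCategory.standard
open AbVar

namespace Groth.Agent.S15396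

open CategoryTheory.Limits CategoryTheory.Pretriangulated

namespace Aux

open DerivedCategory

theorem isZero_hd_single {X : Scheme.{u}} (M : X.Modules) (n p : ℤ) (h : p ≠ n) :
    IsZero (DCoh.HD ((singleFunctor X.Modules n).obj M) p) := by
  rcases lt_or_gt_of_ne h with h | h
  · exact DerivedCategory.isZero_of_isGE _ n p h
  · exact DerivedCategory.isZero_of_isLE _ n p h

noncomputable def hdSingle {X : Scheme.{u}} (M : X.Modules) (n : ℤ) : DCoh.HD ((singleFunctor X.Modules n).obj M) n ≅ M :=
  (homologyFunctor _ n).mapIso ((singleFunctorIsoCompQ X.Modules n).app M) ≪≫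
    (homologyFunctorFactors _ n).app _ ≪≫
    (HomologicalComplex.homologyFunctorSingleIso _ (ComplexShape.up ℤ) n).app M

end Aux

/-- Let k be an algebraically closed field of characteristic zero and A an abelian variety over k (a
proper smooth k-group scheme with geometrically connected fibres) of dimension g ≥ 2, with unit
section e : Spec k → A. Let I_0 ⊆ O_A be the ideal sheaf of the unit point (the kernel of O_A →
e_*O_{Spec k}) and I_0^∨ = RHom(I_0, O_A) its derived dual in D(O_A), whose cohomology sheaves are
the sheaves Ext^p(I_0, O_A); the derived functors involved are assumed to exist. Then Ext^0(I_0,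
O_A) is isomorphic to O_A, Ext^{g−1}(I_0, O_A) is isomorphic to the skyscraper e_*O_{Spec k}, and
Ext^p(I_0, O_A) = 0 for every integer p different from 0 and g − 1 (existence of isomorphisms). (The
published table is printed without restriction on g and twisted by a principal polarization, which
does not change the computation; for g = 1 the degrees 0 and g − 1 coincide and Hom(I_0, O_A) is the
invertible module O_A(0), so the table is stated here for g ≥ 2, the case in which it is used.) -/
theorem result (k : Type u) [Field k] [IsAlgClosed k] [CharZero k]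
    (A : Over (Spec (CommRingCat.of k))) [GrpObj A] [IsProper A.hom] [Smooth A.hom] [GeometricallyConnected A.hom]
    (g : ℕ) (hg : topologicalKrullDim ↥A.left = g) (hg2 : 2 ≤ g)
    [DCoh.HasLTensorCx ((HomologicalComplex.single A.left.Modules (ComplexShape.up ℤ) 0).obj (kernel (ClSub.unitToPush η[A].left)))] [DCoh.HasRSheafHom ((HomologicalComplex.single A.left.Modules (ComplexShape.up ℤ) 0).obj (kernel (ClSub.unitToPush η[A].left)))] :
    Nonempty (DCoh.HD ((DCoh.RSheafHom ((HomologicalComplex.single A.left.Modules (ComplexShape.up ℤ) 0).obj (kernel (ClSub.unitToPush η[A].left)))).obj (DCoh.inD A.left (Coh.structureModule A.left))) 0 ≅ Coh.structureModule A.left) ∧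
    Nonempty (DCoh.HD ((DCoh.RSheafHom ((HomologicalComplex.single A.left.Modules (ComplexShape.up ℤ) 0).obj (kernel (ClSub.unitToPush η[A].left)))).obj (DCoh.inD A.left (Coh.structureModule A.left))) ((g : ℤ) - 1) ≅
      (Scheme.Modules.pushforward η[A].left).obj (Coh.structureModule (Spec (CommRingCat.of k)))) ∧
    (∀ p : ℤ, p ≠ 0 → p ≠ (g : ℤ) - 1 → IsZero (DCoh.HD ((DCoh.RSheafHom ((HomologicalComplex.single A.left.Modules (ComplexShape.up ℤ) 0).obj (kernel (ClSub.unitToPush η[A].left)))).obj (DCoh.inD A.left (Coh.structureModule A.left))) p)) := by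
  let I := kernel (ClSub.unitToPush η[A].left)
  haveI := KFlatLib.hasLTensorCx ((HomologicalComplex.single A.left.Modules (ComplexShape.up ℤ) 0).obj (AVSkyDual.sky A))
  haveI := AVIdealDual.hasRSheafHom ((HomologicalComplex.single A.left.Modules (ComplexShape.up ℤ) 0).obj (AVSkyDual.sky A))
  obtain ⟨s⟩ := AVSkyDual.nonempty_dual_sky (A := A) hg
  obtain ⟨a, b, c, hT⟩ := AVIdealDual.exists_triangle_idl (A := A)
  let O := Coh.structureModule A.left
  let F := fun p : ℤ => DerivedCategory.homologyFunctor A.left.Modules p
  have hO : ∀ p : ℤ, p ≠ 0 → IsZero (DCoh.HD (DCoh.inD A.left O) p) := fun p hp => Aux.isZero_hd_single O 0 p hp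
  have hK : ∀ p : ℤ, p ≠ (g : ℤ) → IsZero ((F p).obj (Triangle.mk a b c).obj₁) := fun p hp =>
    (Aux.isZero_hd_single (AVSkyDual.sky A) (g : ℤ) p hp).of_iso ((F p).mapIso s)
  refine ⟨?_, ?_, fun p hp0 hpg => ?_⟩
  · haveI : Mono ((F 0).map (Triangle.mk a b c).mor₂) :=
      (DerivedCategory.HomologySequence.mono_homologyMap_mor₂_iff _ hT 0).2 ((hK 0 (by omega)).eq_of_src _ _)
    haveI : Epi ((F 0).map (Triangle.mk a b c).mor₂) :=
      (DerivedCategory.HomologySequence.epi_homologyMap_mor₂_iff _ hT 0 1 (by omega)).2
        ((hK 1 (by omega)).eq_of_tgt _ _)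
    haveI := isIso_of_mono_of_epi ((F 0).map (Triangle.mk a b c).mor₂)
    exact ⟨(asIso ((F 0).map (Triangle.mk a b c).mor₂)).symm ≪≫ Aux.hdSingle O 0⟩
  · let δ := DerivedCategory.HomologySequence.δ (Triangle.mk a b c) ((g : ℤ) - 1) (g : ℤ) (by omega)
    haveI : Mono δ :=
      (DerivedCategory.HomologySequence.exact₃ _ hT ((g : ℤ) - 1) (g : ℤ) (by omega)).mono_g
        ((hO ((g : ℤ) - 1) (by omega)).eq_of_src _ _)
    haveI : Epi δ :=
      (DerivedCategory.HomologySequence.exact₁ _ hT ((g : ℤ) - 1) (g : ℤ) (by omega)).epi_f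
        ((hO (g : ℤ) (by omega)).eq_of_tgt _ _)
    haveI := isIso_of_mono_of_epi δ
    exact ⟨asIso δ ≪≫ (F (g : ℤ)).mapIso s ≪≫ Aux.hdSingle (AVSkyDual.sky A) (g : ℤ)⟩
  · exact (DerivedCategory.HomologySequence.exact₃ _ hT p (p + 1) rfl).isZero_of_both_zeros
      ((hO p hp0).eq_of_src _ _) ((hK (p + 1) (by omega)).eq_of_tgt _ _)

end Groth.Agent.S15396
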