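import Groth.Statements.S15397
import Groth.Agent.Lib.AVMulSect
import Groth.Agent.FlatG.Gamma
import Groth.Agent.Lib.CurveEnd

set_option autoImplicit false
set_option backward.isDefEq.respectTransparency false
set_option backward.isDefEq.respectTransparency.types false
set_option linter.style.haveILetI false
set_option linter.unusedSectionVars false
set_option maxHeartbeats 400000
universe u
open CategoryTheory CategoryTheory.Limits MonoidalCategory CartesianMonoidalCategory MonObj GrpObj AlgebraicGeometry
open AbVar

namespace Groth.Agent.S15397

/-- Let k be an algebraically closed field of characteristic zero, A an abelian variety over k (a proper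
smooth k-group scheme with geometrically connected fibres), and E a finite locally free O_A-module
of rank r which is generically globally generated: there are a non-empty open subset U of A and a
family of global sections s_j : O_A → E such that the induced map from the direct sum of copies of
O_A to E is an epimorphism after restriction to U. Assume that r is smaller than the dimension over
k of H^0(A, E), and let D be a determinant of E, that is an r-th exterior power of E. Then the
multiplication map on global sections Γ(A, E) ⊗ Γ(A, D) → Γ(A, E ⊗ D), written as the canonical map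
from the global sections of the sectionwise tensor product presheaf (the tensor being over the ring
of global functions Γ(A, O_A)) to the global sections of its sheafification, is not injective. -/
theorem result (k : Type u) [Field k] [IsAlgClosed k] [CharZero k]
    (A : Over (Spec (CommRingCat.of k))) [GrpObj A] [IsProper A.hom] [Smooth A.hom] [GeometricallyConnected A.hom]
    (E : A.left.Modules) (r : ℕ) (hE : FlatMod.IsFinLocFreeOfRank r E)
    (hgen : ∃ (U : A.left.Opens) (J : Type u) (s : J → (Coh.structureModule A.left ⟶ E)),
      (U : Set ↥A.left).Nonempty ∧ Epi ((Scheme.Modules.restrictFunctor U.ι).map (Sigma.desc s)))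
    (hlt : r < @Module.finrank k (Coh.HH A.left E 0) _ _ (@Coh.moduleOver k _ A.left ⟨A.hom⟩ E 0))
    (D : A.left.Modules) (hD : ExtPow.IsExtPow r E D) :
    ¬ Function.Injective
      ((toSheafify (Opens.grothendieckTopology ↥A.left) (CohB1.tensorPre E D).presheaf).app (Opposite.op ⊤)) := by
  classical
  obtain ⟨U, J, s, hU, hepi⟩ := hgen
  haveI := hepi
  haveI : GeometricallyIntegral A.hom := Groth.Agent.AVDual.geometricallyIntegral_of_smooth A
  haveI : IsIntegral A.left := GeometricallyIntegral.isIntegral_of_subsingleton A.hom
  letI : A.left.Over (Spec (CommRingCat.of k)) := ⟨A.hom⟩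
  haveI : IsProper (A.left ↘ Spec (CommRingCat.of k)) := ‹IsProper A.hom›
  have hb := Groth.Agent.CurveEnd.toGlobal_bijective (k := k) (X := A.left)
  refine Groth.Agent.AVMulSect.not_injective (MulEquiv.isField (Field.toIsField k)
    (RingEquiv.ofBijective _ hb).symm.toMulEquiv) hE hU s (fun t => ?_) hD
  by_contra! hall
  let e := Groth.Agent.FlatG.h0Equiv (X := A.left) k E
  have hspan : Submodule.span k (Set.range fun i => e.symm (t i)) = ⊤ := by
    refine eq_top_iff.2 fun x _ => ?_
    obtain ⟨c, hc⟩ := Submodule.mem_span_range_iff_exists_fun _ |>.1 (hall (e x))
    refine (Submodule.mem_span_range_iff_exists_fun k).2 ⟨fun i => (RingEquiv.ofBijective _ hb).symm (c i), ?_⟩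
    apply e.injective
    rw [map_sum, ← hc]
    refine Finset.sum_congr rfl fun i _ => ?_
    refine ((e.map_smul _ _).trans (congrArg _ (e.apply_symm_apply (t i)))).trans ?_
    refine congrArg (fun r : Γ(A.left, ⊤) => r • t i) ?_
    show A.left.presheaf.map (homOfLE (le_top : (⊤ : A.left.Opens) ≤ ⊤)).op
      (RingEquiv.ofBijective _ hb ((RingEquiv.ofBijective _ hb).symm (c i))) = c i
    rw [RingEquiv.apply_symm_apply, show (homOfLE (le_top : (⊤ : A.left.Opens) ≤ ⊤)).op = 𝟙 (Opposite.op ⊤) from
      Subsingleton.elim _ _, A.left.presheaf.map_id]
    rfl
  have hle := finrank_range_le_card (R := k) (fun i => e.symm (t i))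
  rw [Set.finrank, hspan, finrank_top, Fintype.card_fin] at hle
  exact absurd hlt (not_lt.2 hle)

end Groth.Agent.S15397
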