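import Groth.Statements.S15404
import Groth.Agent.GrLib8.PicUnion.Main
-- import your own Groth.Agent.* helpers here

set_option autoImplicit false
universe u
open CategoryTheory CategoryTheory.Limits AlgebraicGeometry
open PicGrp

namespace Groth.Agent.S15404

/-- Let π : X ⟶ B be quasi-compact and separated and let X be the union of the closed subschemes Y =
V(I) and Z = V(J), I and J quasi-coherent ideals with I ∩ J = 0 (so that O_X → O_Y × O_Z is
injective with cokernel O_W, W = Y ∩ Z = V(I + J)); assume that W is flat, proper and of finite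
presentation over B, that W → B has a section, and that the geometric fibres of W → B are reduced
and connected. Assume the Picard group laws on B, X, Y, Z, W and that pullback of invertible classes
along π, along the inclusions of Y, Z in X and of W in Y, Z, and along the structure maps of Y, Z, W
is multiplicative. Then the square of groups formed by Pic(X)/π^*Pic(B), Pic(Y)/Pic(B),
Pic(Z)/Pic(B) and Pic(W)/Pic(B) under restriction is cartesian: (a) an invertible class on X whose
restrictions to Y and to Z are pulled back from B is itself pulled back from B; (b) for invertible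
classes y on Y and z on Z whose restrictions to W agree up to a class pulled back from B, there is a
class on X whose restrictions to Y and Z are y and z up to classes pulled back from B. (The
published statement asserts this for the functor T ↦ Pic(X ×_B T)/Pic(T) on all B-schemes T and
assumes only that π is quasi-compact and separated, W flat over B with a section and geometrically
reduced connected fibres; its proof uses that every global unit on W comes from B, through a lemma
on flat proper morphisms, and without properness the assertion fails — over a field, two affine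
planes glued along the hyperbola ts = 1 have non-trivial Picard group — so W is taken proper and of
finite presentation over B here (finite presentation being automatic over a locally Noetherian
base), and only the value at T = B is stated.) -/
theorem result {X B : Scheme.{u}} (π : X ⟶ B)
    [QuasiCompact π] [IsSeparated π] (I J : X.IdealSheafData) (hIJ : I ⊓ J = ⊥)
    [Flat ((I ⊔ J).subschemeι ≫ π)] [IsProper ((I ⊔ J).subschemeι ≫ π)]
    [LocallyOfFinitePresentation ((I ⊔ J).subschemeι ≫ π)]
    (s : B ⟶ (I ⊔ J).subscheme) (hs : s ≫ (I ⊔ J).subschemeι ≫ π = 𝟙 B)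
    (hfib : ∀ (K : Type u) [Field K] [IsAlgClosed K] (g : Spec (CommRingCat.of K) ⟶ B),
      IsReduced (pullback ((I ⊔ J).subschemeι ≫ π) g) ∧ ConnectedSpace ↥(pullback ((I ⊔ J).subschemeι ≫ π) g))
    [PicGrp.Law B] [PicGrp.Law X] [PicGrp.Law I.subscheme] [PicGrp.Law J.subscheme] [PicGrp.Law (I ⊔ J).subscheme]
    (hπ : PicGrp.PullMul π) (hY : PicGrp.PullMul I.subschemeι) (hZ : PicGrp.PullMul J.subschemeι)
    (hπY : PicGrp.PullMul (I.subschemeι ≫ π)) (hπZ : PicGrp.PullMul (J.subschemeι ≫ π))
    (hπW : PicGrp.PullMul ((I ⊔ J).subschemeι ≫ π))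
    (hWY : PicGrp.PullMul (Scheme.IdealSheafData.inclusion (le_sup_left : I ≤ I ⊔ J)))
    (hWZ : PicGrp.PullMul (Scheme.IdealSheafData.inclusion (le_sup_right : J ≤ I ⊔ J))) :
    (∀ c : PicLoc.PicSet X,
        (∃ b₁ : PicLoc.PicSet B, PicGrp.pullHom I.subschemeι hY c = PicGrp.pullHom (I.subschemeι ≫ π) hπY b₁) →
        (∃ b₂ : PicLoc.PicSet B, PicGrp.pullHom J.subschemeι hZ c = PicGrp.pullHom (J.subschemeι ≫ π) hπZ b₂) →
          ∃ b : PicLoc.PicSet B, c = PicGrp.pullHom π hπ b) ∧
      (∀ (y : PicLoc.PicSet I.subscheme) (z : PicLoc.PicSet J.subscheme),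
        (∃ b : PicLoc.PicSet B,
            PicGrp.pullHom (Scheme.IdealSheafData.inclusion (le_sup_left : I ≤ I ⊔ J)) hWY y =
              PicGrp.pullHom (Scheme.IdealSheafData.inclusion (le_sup_right : J ≤ I ⊔ J)) hWZ z *
                PicGrp.pullHom ((I ⊔ J).subschemeι ≫ π) hπW b) →
          ∃ (c : PicLoc.PicSet X) (b₁ b₂ : PicLoc.PicSet B),
            PicGrp.pullHom I.subschemeι hY c = y * PicGrp.pullHom (I.subschemeι ≫ π) hπY b₁ ∧
              PicGrp.pullHom J.subschemeι hZ c = z * PicGrp.pullHom (J.subschemeι ≫ π) hπZ b₂) := by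
  let W := (I ⊔ J).subscheme
  let wY : W ⟶ I.subscheme := Scheme.IdealSheafData.inclusion (le_sup_left : I ≤ I ⊔ J)
  let wZ : W ⟶ J.subscheme := Scheme.IdealSheafData.inclusion (le_sup_right : J ≤ I ⊔ J)
  have G := GrLib8.PicUnion.isGluedSquare_union I J hIJ
  have eWY : wY ≫ I.subschemeι ≫ π = (I ⊔ J).subschemeι ≫ π :=
    Scheme.IdealSheafData.inclusion_subschemeι_assoc _ _
  have eWZ : wZ ≫ J.subschemeι ≫ π = (I ⊔ J).subschemeι ≫ π :=
    Scheme.IdealSheafData.inclusion_subschemeι_assoc _ _
  have hu : GrLib8.PicUnion.UnitsFromBase (wY ≫ I.subschemeι ≫ π) := fun w => by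
    rw [eWY]
    exact GrLib8.PicUnion.exists_unit_of_section _ s hs hfib w
  constructor
  · rintro c ⟨b₁, h₁⟩ ⟨b₂, h₂⟩
    have hW : PicF.pullCl (wY ≫ I.subschemeι ≫ π) b₁.1 = PicF.pullCl (wZ ≫ J.subschemeι ≫ π) b₂.1 := by
      have h1' : PicF.pullCl (I.subschemeι ≫ π) b₁.1 = PicF.pullCl I.subschemeι c.1 :=
        (congrArg Subtype.val h₁).symm
      have h2' : PicF.pullCl (J.subschemeι ≫ π) b₂.1 = PicF.pullCl J.subschemeι c.1 :=
        (congrArg Subtype.val h₂).symm
      rw [PicLoc.pullCl_comp, PicLoc.pullCl_comp wZ, h1', h2', ← PicLoc.pullCl_comp,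
        ← PicLoc.pullCl_comp wZ, G.w]
    have hb : b₁ = b₂ := by
      have h := congrArg (PicF.pullCl s) hW
      rw [← PicLoc.pullCl_comp, ← PicLoc.pullCl_comp s, eWY, eWZ, hs, PicLoc.pullCl_id, PicLoc.pullCl_id] at h
      exact Subtype.ext h
    subst hb
    refine ⟨b₁, ?_⟩
    rw [← mul_inv_eq_one]
    obtain ⟨L, hL, hcL⟩ := exists_eq_cls (c * (pullHom π hπ b₁)⁻¹)
    have hY1 : pullHom I.subschemeι hY (c * (pullHom π hπ b₁)⁻¹) = pullHom I.subschemeι hY 1 := by
      rw [map_mul, map_inv, map_one, h₁, pullHom_comp_apply _ _ hY hπ hπY, mul_inv_cancel]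
    have hZ1 : pullHom J.subschemeι hZ (c * (pullHom π hπ b₁)⁻¹) = pullHom J.subschemeι hZ 1 := by
      rw [map_mul, map_inv, map_one, h₂, pullHom_comp_apply _ _ hZ hπ hπZ, mul_inv_cancel]
    rw [hcL, ← cls_structureModule_eq_one, pullHom_cls, pullHom_cls, cls_eq_cls_iff] at hY1 hZ1
    obtain ⟨eY⟩ := hY1
    obtain ⟨eZ⟩ := hZ1
    rw [hcL, cls_eq_one_iff]
    exact GrLib8.PicUnion.trivial_of_restrict G hu hL eY eZ
  · rintro y z ⟨b, hb⟩
    obtain ⟨Ly, hLy, rfl⟩ := exists_eq_cls y
    obtain ⟨Lz, hLz, hz'⟩ := exists_eq_cls (z * pullHom (J.subschemeι ≫ π) hπZ b)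
    have e1 : pullHom wY hWY (cls Ly hLy) = pullHom wZ hWZ (cls Lz hLz) := by
      rw [hb, ← hz', map_mul]
      congr 1
      refine Subtype.ext ?_
      show PicF.pullCl ((I ⊔ J).subschemeι ≫ π) b.1 = PicF.pullCl wZ (PicF.pullCl (J.subschemeι ≫ π) b.1)
      rw [← PicLoc.pullCl_comp, eWZ]
    rw [pullHom_cls, pullHom_cls, cls_eq_cls_iff] at e1
    obtain ⟨σ⟩ := e1
    obtain ⟨M, hM, hMY, hMZ⟩ := GrLib8.PicUnion.exists_glued_inv G hLy hLz σ
    refine ⟨cls M hM, 1, b, ?_, ?_⟩
    · rw [map_one, mul_one, pullHom_cls, cls_eq_cls_iff]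
      exact hMY
    · rw [hz', pullHom_cls, cls_eq_cls_iff]
      exact hMZ

end Groth.Agent.S15404
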