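import Groth.Statements.S15405
import Groth.Agent.ASB24.CyclicPic
-- import your own Groth.Agent.* helpers here

set_option autoImplicit false
set_option backward.isDefEq.respectTransparency false
set_option backward.isDefEq.respectTransparency.types false
set_option linter.style.haveILetI false
universe u
open CategoryTheory CategoryTheory.Limits AlgebraicGeometry
open ASBun

namespace Groth.Agent.S15405

open W4c1astiltbs12 in
/-- Let X be proper over a field k, K an algebraic closure of k such that X_K is connected, and π : X_K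
→ X the projection; assume the Picard group laws on X and on X_K and that pullback of invertible
classes along π is multiplicative. Suppose that Pic(X_K) is infinite cyclic, generated by the class
of an invertible module L; that J is an invertible O_X-module with π^*J ≅ L^{⊗r} for some r ≥ 1; and
that there is an indecomposable finite locally free O_X-module (nonzero, and in any direct-sum
decomposition one summand is zero) whose pullback to X_K is isomorphic to L^{⊕d} for some d. Then:
(a) every indecomposable finite locally free O_X-module E whose pullback to X_K is a finite direct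
sum of invertible modules is isomorphic to M ⊗ J_a, where 0 ≤ j < r, M is an indecomposable finite
locally free O_X-module with π^*M ≅ (L^{⊗j})^{⊕d} for some d, a is an integer and J_a is an
invertible O_X-module whose class in Pic(X) is the a-th power of the class of J; (b) the integers a
and j in such an expression are determined by E. (The published statement takes r to be the least
such integer, the period, and leaves the connectedness of X_K implicit; the argument treats
invertible modules on X_K as indecomposable, whence that hypothesis, and does not use the minimality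
of r.) -/
theorem result (k : Type u) [Field k] {X : Scheme.{u}}
    (p : X ⟶ Spec (CommRingCat.of k)) [IsProper p] (K : Type u) [Field K] [Algebra k K] [IsAlgClosure k K]
    [ConnectedSpace ↥(W4bk4gw11416.baseChange p K)]
    [PicGrp.Law X] [PicGrp.Law (W4bk4gw11416.baseChange p K)] (hπ : PicGrp.PullMul (proj p K))
    (L : (W4bk4gw11416.baseChange p K).Modules) (hL : PicF.IsInvertible L)
    (e : PicLoc.PicSet (W4bk4gw11416.baseChange p K) ≃* Multiplicative ℤ)
    (he : e (PicGrp.cls L hL) = Multiplicative.ofAdd 1)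
    (r : ℕ) (hr : 1 ≤ r) (J : X.Modules) (hJ : PicF.IsInvertible J)
    (hJL : Nonempty (bcMod p K J ≅ CohB1.tensorPow L r))
    (hML : ∃ (M₁ : X.Modules) (d₁ : ℕ), FlatMod.IsFinLocFree M₁ ∧
      (¬ IsZero M₁ ∧ ∀ A B : X.Modules, Nonempty (M₁ ≅ A ⊞ B) → IsZero A ∨ IsZero B) ∧
      Nonempty (bcMod p K M₁ ≅ pow L d₁))
    (E : X.Modules) (hE : FlatMod.IsFinLocFree E)
    (hEi : (¬ IsZero E ∧ ∀ A B : X.Modules, Nonempty (E ≅ A ⊞ B) → IsZero A ∨ IsZero B))
    (n : ℕ) (Ls : Fin n → (W4bk4gw11416.baseChange p K).Modules) (hLs : ∀ i, PicF.IsInvertible (Ls i))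
    (hEs : Nonempty (bcMod p K E ≅ ∐ Ls)) :
    (∃ (a : ℤ) (j : ℕ), j < r ∧ ∃ (M : X.Modules) (d : ℕ) (Ja : X.Modules) (hJa : PicF.IsInvertible Ja),
      FlatMod.IsFinLocFree M ∧ (¬ IsZero M ∧ ∀ A B : X.Modules, Nonempty (M ≅ A ⊞ B) → IsZero A ∨ IsZero B) ∧
      Nonempty (bcMod p K M ≅ pow (CohB1.tensorPow L j) d) ∧
      PicGrp.cls Ja hJa = PicGrp.cls J hJ ^ a ∧ Nonempty (E ≅ CohB1.tensorMod M Ja)) ∧
    (∀ (a a' : ℤ) (j j' : ℕ) (M M' : X.Modules) (d d' : ℕ) (Ja Ja' : X.Modules)
      (hJa : PicF.IsInvertible Ja) (hJa' : PicF.IsInvertible Ja'),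
      j < r → j' < r →
      (¬ IsZero M ∧ ∀ A B : X.Modules, Nonempty (M ≅ A ⊞ B) → IsZero A ∨ IsZero B) → (¬ IsZero M' ∧ ∀ A B : X.Modules, Nonempty (M' ≅ A ⊞ B) → IsZero A ∨ IsZero B) →
      Nonempty (bcMod p K M ≅ pow (CohB1.tensorPow L j) d) → Nonempty (bcMod p K M' ≅ pow (CohB1.tensorPow L j') d') →
      PicGrp.cls Ja hJa = PicGrp.cls J hJ ^ a → PicGrp.cls Ja' hJa' = PicGrp.cls J hJ ^ a' →
      Nonempty (E ≅ CohB1.tensorMod M Ja) → Nonempty (E ≅ CohB1.tensorMod M' Ja') → a = a' ∧ j = j') := by
  haveI : Algebra.IsAlgebraic k K := IsAlgClosure.isAlgebraic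
  obtain ⟨M₁, d₁, hM₁, hM₁i, ⟨eM₁⟩⟩ := hML
  exact Groth.Agent.ASB24.main p K hπ hL hJ hJL e he hr hM₁ hM₁i eM₁ hE hEi Ls hLs hEs.some

end Groth.Agent.S15405
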