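import Groth.Statements.S19553
import Groth.Agent.H26.DualPoint
import Groth.Agent.H26.VertApply
import Groth.Agent.H26.ClosedConst
import Groth.Agent.CurveEmbed.Equiv
import Groth.Agent.Hensel.Local

set_option autoImplicit false
universe u
open CategoryTheory CategoryTheory.Limits AlgebraicGeometry
open Models

namespace Groth.Agent.S19553

/-- The surjectivity of the degree map, which is the assertion in the published proof that uses
completeness of R and an algebraically closed residue field. Let R be a complete discrete valuation
ring with algebraically closed residue field k and fraction field K, C a smooth proper curve over K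
with H⁰(C, O_C) = K and dim_K H¹(C, O_C) = g ≥ 2, X → Spec R a regular proper model of C, and Γ₁, …,
Γ_n the irreducible components of the closed fibre. Then for each i there is an invertible
O_X-module M with deg_k(M|Γ_i) = 1 and deg_k(M|Γ_j) = 0 for j ≠ i; in other words the degree map
from invertible modules on X to ℤ^n is surjective. (The published proposition, which also assumes
that the multiplicities of the Γ_j have no common divisor, is the exact sequence 0 → Pic⁰ X → Pic C
→ G → 0 with Pic⁰ X the classes of degree zero on every Γ_j and G the cokernel of the intersection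
matrix; its other constituents — the kernel of restriction to C is generated by the O_X(Γ_j), a
class of degree zero on every Γ_j and trivial on C is trivial when the multiplicities are coprime,
and the kernel of the induced map on Pic C — hold over any discrete valuation ring and are stated
separately; this row is the assertion whose published argument uses that R is complete with
algebraically closed residue field.) -/
theorem result
    (R : Type u) [CommRing R] [IsDomain R] [IsDiscreteValuationRing R]
    [IsAdicComplete (IsLocalRing.maximalIdeal R) R]
    (hk : IsAlgClosed (IsLocalRing.ResidueField R))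
    (C : Scheme.{u}) (fC : C ⟶ (Spec (CommRingCat.of (FractionRing R)))) [IsProper fC] [Smooth fC]
    (hC0 : Models.hRank (FractionRing R) C fC (Coh.structureModule C) 0 = 1)
    (g : ℕ) (hg2 : 2 ≤ g) (hg : Models.curveGenus (FractionRing R) C fC = g)
    (X : Scheme.{u}) (p : X ⟶ (Spec (CommRingCat.of R))) (hX : Models.IsRegularProperModel R X p C fC)
    {n : ℕ} (Γ : Fin n → ArSurf.VertComp R (Over.mk p)) (hΓ : Models.IsComponentList R (Over.mk p) Γ)
    (i : Fin n) :
    ∃ M : X.Modules, PicF.IsInvertible M ∧
      ∀ j : Fin n, ArSurf.inter R (Over.mk p) M (Γ j) = if j = i then 1 else 0 := by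
  classical
  haveI := hk
  haveI : HenselianLocalRing R := Hensel.henselianLocalRing_of_henselianRing R
  haveI : IsProper (Over.mk p).hom := hX.2.1
  haveI : IsProper p := hX.2.1
  haveI : Flat (Over.mk p).hom := hX.1.1
  have hconn : _root_.IsConnected (Models.specialFibreSet R (Over.mk p)) := by
    haveI := Groth.Agent.ModelConn.geometricallyConnected_model p fC hX
      (Groth.Agent.H26.ClosedConst.bijective_appTop_of_hRank fC hC0)
    exact Groth.Agent.H26.InterForm.isConnected_specialFibreSet (X := Over.mk p)
      (GeometricallyConnected.geometrically_connectedSpace (f := p) _ _ _ (IsPullback.of_hasPullback _ _))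
  haveI : IsLocallyNoetherian X := LocallyOfFiniteType.isLocallyNoetherian p
  haveI : CompactSpace X := QuasiCompact.compactSpace_of_compactSpace p
  haveI : IsNoetherian X := {}
  haveI : IsClosed (Models.specialFibreSet R (Over.mk p)) := Models.isClosed_specialFibreSet R (Over.mk p)
  have hmeet : ∀ S : Set X, IsClosed S → S.Nonempty → (S ∩ Models.specialFibreSet R (Over.mk p)).Nonempty := by
    intro S hS ⟨a, ha⟩
    obtain ⟨z, hz, hzc⟩ := hS.exists_closed_singleton ⟨a, ha⟩
    refine ⟨z, hz, ?_⟩
    have h := p.isClosedMap _ hzc
    rw [Set.image_singleton] at h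
    have hm : p z ⤳ IsLocalRing.closedPoint R :=
      (PrimeSpectrum.le_iff_specializes (p z) (IsLocalRing.closedPoint R)).1
        (IsLocalRing.le_maximalIdeal (p z).isPrime.ne_top)
    exact (hm.mem_closed h rfl).symm
  haveI : PreconnectedSpace X := ⟨isPreconnected_closed_iff.2 fun s t hs ht hst h1 h2 => by
    by_contra hne
    rw [Set.univ_inter] at h1 h2 hne
    obtain ⟨a, ha⟩ := hmeet s hs h1
    obtain ⟨b, hb⟩ := hmeet t ht h2
    obtain ⟨z, -, hz⟩ := isPreconnected_closed_iff.1 hconn.isPreconnected s t hs ht
      (fun w _ => hst (Set.mem_univ w)) ⟨a, ha.2, ha.1⟩ ⟨b, hb.2, hb.1⟩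
    exact hne ⟨z, hz⟩⟩
  haveI : Nonempty X := ⟨hconn.nonempty.some⟩
  haveI : ConnectedSpace X := ⟨inferInstance⟩
  haveI : IsIntegral X := CurveEmbed.isIntegral_of_normal_connected fun y => by
    haveI := hX.2.2 y
    exact ⟨RegLoc6.isDomain_of_isRegularLocalRing _, RegLoc6.isIntegrallyClosed_of_isRegularLocalRing _⟩
  haveI : IsIntegral (Over.mk p).left := ‹IsIntegral X›
  exact H26.DualPoint.exists_dual hΓ i

end Groth.Agent.S19553
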