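import Groth.Statements.S15406
import Groth.Agent.H26.PicGroup
import Groth.Agent.S19553
import Groth.Agent.H26.ClosedConst

set_option autoImplicit false
universe u
open CategoryTheory CategoryTheory.Limits AlgebraicGeometry
open Models

namespace Groth.Agent.S15406

/-- Let R be a complete discrete valuation ring with algebraically closed residue field k and fraction
field K, C a smooth proper curve over K with H⁰(C, O_C) = K and dim_K H¹(C, O_C) ≥ 2, and X → Spec R
a regular proper model of C, with g : C → X exhibiting C as the generic fibre. Let Γ₁, …, Γ_n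
enumerate the irreducible components of the closed fibre, with multiplicities of greatest common
divisor 1, and for each i let L_i be an invertible O_X-module inverse to the ideal sheaf of Γ_i (so
that (L_i · Γ_j) is the intersection number Γ_i · Γ_j). Assume the Picard group laws on X and on C
and that pullback of invertible classes along g is multiplicative. Let G be the quotient of ℤⁿ by
the subgroup spanned by the vectors ((L_i · Γ_j))_j, i = 1, …, n. Then: (a) an invertible O_X-module
of degree 0 on every Γ_j whose pullback to C is trivial is itself trivial; (b) there is a surjective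
homomorphism ψ from Pic(C) (written additively) onto G which sends the class of g^*L, for every
invertible O_X-module L, to the class of the vector ((L · Γ_j))_j, and whose kernel consists exactly
of the classes g^*L with L invertible on X of degree 0 on every Γ_j. In other words 0 → Pic⁰(X) →
Pic(C) → G → 0 is exact, Pic⁰(X) denoting the classes of degree 0 on all components of the closed
fibre. -/
theorem result
    (R : Type u) [CommRing R] [IsDomain R] [IsDiscreteValuationRing R]
    [IsAdicComplete (IsLocalRing.maximalIdeal R) R] (hk : IsAlgClosed (IsLocalRing.ResidueField R))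
    (C : Scheme.{u}) (fC : C ⟶ Spec (CommRingCat.of (FractionRing R))) [IsProper fC] [Smooth fC]
    (hC0 : Models.hRank (FractionRing R) C fC (Coh.structureModule C) 0 = 1)
    (hg2 : 2 ≤ Models.curveGenus (FractionRing R) C fC)
    (X : Scheme.{u}) (p : X ⟶ Spec (CommRingCat.of R)) (hX : Models.IsRegularProperModel R X p C fC)
    (g : C ⟶ X) (hg : IsPullback g fC p (Spec.map (CommRingCat.ofHom (algebraMap R (FractionRing R)))))
    {n : ℕ} (Γ : Fin n → ArSurf.VertComp R (Over.mk p)) (hΓ : Models.IsComponentList R (Over.mk p) Γ)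
    (hgcd : Models.multGcd R (Over.mk p) Γ = 1)
    (LD : Fin n → X.Modules) (hLD : ∀ i, ClSub.IsInverseOf (LD i) (ClSub.idealMod (Γ i).ι.ker))
    [PicGrp.Law X] [PicGrp.Law C] (hgm : PicGrp.PullMul g) :
    (∀ (L : X.Modules) (hL : PicF.IsInvertible L), (∀ j, ArSurf.inter R (Over.mk p) L (Γ j) = 0) →
        PicGrp.pullHom g hgm (PicGrp.cls L hL) = 1 → PicGrp.cls L hL = 1) ∧
      ∃ ψ : Additive (PicLoc.PicSet C) →+
          ((Fin n → ℤ) ⧸ LinearMap.range (Matrix.mulVecLin
            (Matrix.of fun j i => ArSurf.inter R (Over.mk p) (LD i) (Γ j)))),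
        (∀ (L : X.Modules) (hL : PicF.IsInvertible L),
            ψ (Additive.ofMul (PicGrp.pullHom g hgm (PicGrp.cls L hL))) =
              Submodule.Quotient.mk (fun j => ArSurf.inter R (Over.mk p) L (Γ j))) ∧
          Function.Surjective ψ ∧
          (∀ c : PicLoc.PicSet C, ψ (Additive.ofMul c) = 0 →
            ∃ (L : X.Modules) (hL : PicF.IsInvertible L),
              (∀ j, ArSurf.inter R (Over.mk p) L (Γ j) = 0) ∧ PicGrp.pullHom g hgm (PicGrp.cls L hL) = c) := by
  classical
  open scoped Groth.Agent.H23.PicMul in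
  haveI := hk
  haveI : IsProper p := hX.2.1
  haveI : IsProper (Over.mk p).hom := hX.2.1
  haveI : Flat (Over.mk p).hom := hX.1.1
  letI : PicGrp.Law (Over.mk p).left := ‹PicGrp.Law X›
  have hconn : _root_.IsConnected (Models.specialFibreSet R (Over.mk p)) := by
    haveI := Groth.Agent.ModelConn.geometricallyConnected_model p fC hX
      (Groth.Agent.H26.ClosedConst.bijective_appTop_of_hRank fC hC0)
    exact Groth.Agent.H26.InterForm.isConnected_specialFibreSet (X := Over.mk p)
      (GeometricallyConnected.geometrically_connectedSpace (f := p) _ _ _ (IsPullback.of_hasPullback _ _))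
  let D := Groth.Agent.H26.VertModel.mkData hX hΓ LD hLD
  have sq : IsPullback g fC (Over.mk p).hom (Spec.map (CommRingCat.ofHom (algebraMap R (FractionRing R)))) := hg
  have htriv : ∀ (L : X.Modules) (hL : PicF.IsInvertible L), PicGrp.pullHom g hgm (PicGrp.cls L hL) = 1 →
      Nonempty ((Scheme.Modules.pullback g).obj L ≅ Coh.structureModule C) := fun L hL h => by
    rwa [PicGrp.pullHom_cls, PicGrp.cls_eq_one_iff] at h
  refine ⟨fun L hL hdeg h1 => ?_, ?_⟩
  · obtain ⟨T, -, hT⟩ := Groth.Agent.H26.VertClass.pow_gcd_eq_one (X := Over.mk p) D hconn sq hL (htriv L hL h1) hdeg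
    rw [hgcd, pow_one] at hT
    exact Subtype.ext (hT.trans (PicGrp.one_val (Y := X)).symm)
  let V := Groth.Agent.H26.PicGroup.degHom (Over.mk p) Γ
  let M := Matrix.mulVecLin (Matrix.of fun j i => ArSurf.inter R (Over.mk p) (LD i) (Γ j))
  let Φ : Additive (PicLoc.PicSet X) →+ ((Fin n → ℤ) ⧸ LinearMap.range M) :=
    (LinearMap.range M).mkQ.toAddMonoidHom.comp V
  let π : Additive (PicLoc.PicSet X) →+ Additive (PicLoc.PicSet C) := MonoidHom.toAdditive (PicGrp.pullHom g hgm)
  have hπ : Function.Surjective π :=
    Groth.Agent.H26.PicGroup.pullHom_surjective (X := Over.mk p) hX.2.2 sq hgm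
  have hker : ∀ x, π x = 0 → Φ x = 0 := fun x hx => by
    obtain ⟨L, hL, hLx⟩ := PicGrp.exists_eq_cls x.toMul
    obtain ⟨a, ha⟩ := D.exists_P_of_trivial sq hL (htriv L hL (by rw [← hLx]; exact hx))
    rw [← D.P_natCast] at ha
    refine (Submodule.Quotient.mk_eq_zero _).2 ⟨fun i => (a i : ℤ), ?_⟩
    show _ = Groth.Agent.H26.PicGroup.degVec (Over.mk p) Γ x.toMul
    rw [hLx]
    refine Eq.trans ?_ (Groth.Agent.H26.PicGroup.degVec_cls (Over.mk p) Γ L hL).symm
    funext j
    rw [D.inter_eq hL ha j]
    show ∑ i, ArSurf.inter R (Over.mk p) (LD i) (Γ j) * (a i : ℤ) = ∑ i, (a i : ℤ) * ArSurf.inter R (Over.mk p) (LD i) (Γ j)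
    exact Finset.sum_congr rfl fun i _ => mul_comm _ _
  choose s hs using hπ
  have key : ∀ x c, π x = c → Φ (s c) = Φ x := fun x c h => by
    rw [← sub_eq_zero, ← map_sub]
    exact hker _ (by rw [map_sub, hs, h, sub_self])
  let ψ : Additive (PicLoc.PicSet C) →+ ((Fin n → ℤ) ⧸ LinearMap.range M) :=
    AddMonoidHom.mk' (fun c => Φ (s c)) fun a b => by
      rw [key (s a + s b) (a + b) (by rw [map_add, hs, hs]), map_add]
  refine ⟨ψ, fun L hL => ?_, fun γ => ?_, fun c hc => ?_⟩
  · refine (key (Additive.ofMul (PicGrp.cls L hL)) _ rfl).trans ?_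
    exact congrArg Submodule.Quotient.mk (Groth.Agent.H26.PicGroup.degVec_cls (Over.mk p) Γ L hL)
  · obtain ⟨v, rfl⟩ := Submodule.Quotient.mk_surjective _ γ
    choose N hN hNd using fun i => Groth.Agent.S19553.result R hk C fC hC0 _ hg2 rfl X p hX Γ hΓ i
    let x : Additive (PicLoc.PicSet X) := ∑ i, v i • Additive.ofMul (PicGrp.cls (N i) (hN i))
    refine ⟨π x, (key x _ rfl).trans (congrArg Submodule.Quotient.mk ?_)⟩
    show V x = v
    rw [map_sum]
    funext j
    rw [Finset.sum_apply]
    have e : ∀ i, V (v i • Additive.ofMul (PicGrp.cls (N i) (hN i))) j = v i * (if j = i then 1 else 0) := fun i => by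
      rw [map_zsmul, Pi.smul_apply, smul_eq_mul, ← hNd i j]
      congr 1
      exact congrFun (Groth.Agent.H26.PicGroup.degVec_cls (Over.mk p) Γ (N i) (hN i)) j
    simp [e]
  · obtain ⟨z, hz⟩ := (Submodule.Quotient.mk_eq_zero _).1 hc
    let Dg : Fin n → Additive (PicLoc.PicSet X) := fun i => Additive.ofMul (PicGrp.cls (LD i) (D.isInvertible i))
    let x' : Additive (PicLoc.PicSet X) := s (Additive.ofMul c) - ∑ i, z i • Dg i
    obtain ⟨L, hL, hLx⟩ := PicGrp.exists_eq_cls x'.toMul
    have hV : V x' = 0 := by
      rw [map_sub, map_sum, sub_eq_zero]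
      refine hz.symm.trans (funext fun j => ?_)
      rw [Finset.sum_apply]
      show ∑ i, ArSurf.inter R (Over.mk p) (LD i) (Γ j) * z i = _
      refine Finset.sum_congr rfl fun i _ => ?_
      rw [map_zsmul, Pi.smul_apply, smul_eq_mul]
      exact (mul_comm _ _).trans (congrArg (z i * ·) (congrFun
        (Groth.Agent.H26.PicGroup.degVec_cls (Over.mk p) Γ (LD i) (D.isInvertible i)) j).symm)
    have hπx : π x' = Additive.ofMul c := by
      have h0 : ∀ i, π (Dg i) = 0 := fun i =>
        Groth.Agent.H26.PicGroup.pullHom_component (X := Over.mk p) hΓ hX.2.2 sq hgm i (LD i) (D.isInvertible i) (hLD i)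
      simp [x', hs, map_sum, map_zsmul, h0]
    refine ⟨L, hL, fun j => ?_, ?_⟩
    · have h := congrFun hV j
      change Groth.Agent.H26.PicGroup.degVec (Over.mk p) Γ x'.toMul j = 0 at h
      rw [hLx] at h
      exact (congrFun (Groth.Agent.H26.PicGroup.degVec_cls (Over.mk p) Γ L hL) j).symm.trans h
    · rw [← hLx]
      exact hπx

end Groth.Agent.S15406
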