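import Groth.Statements.S15407
import Groth.Agent.H26.PicRoot.System
import Groth.Agent.H26.PicRoot.Model
import Groth.Agent.H26.TorsTriv

set_option autoImplicit false
universe u
open CategoryTheory CategoryTheory.Limits AlgebraicGeometry
open Models
open CategoryTheory CategoryTheory.Limits AlgebraicGeometry
open Groth.Agent

namespace Groth.Agent.S15407

/-- Let R be a complete discrete valuation ring with algebraically closed residue field k and fraction
field K, C a smooth proper K-scheme of Krull dimension one (a curve) with H⁰(C, O_C) = K and dim_K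
H¹(C, O_C) ≥ 2, X → Spec R a regular proper model of C, X_k = X ×_R Spec k its closed fibre with
inclusion i : X_k → X, and q ≥ 1 an integer which is nonzero in k. Assume the Picard group laws on X
and X_k and that pullback of invertible classes along i is multiplicative. Then (a) the restriction
Pic(X) → Pic(X_k) is surjective, and (b) its kernel N is uniquely q-divisible: for every c in N
there is exactly one d in N with d^q = c. (The published statement introduces N as the kernel of
Pic⁰(X) → Pic⁰(X_k), Pic⁰ denoting the classes of degree 0 on every component of the closed fibre,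
and asserts that this map is surjective; a class trivial on X_k has degree 0 on every component, so
N is the kernel in (b), and (a) is the equivalent surjectivity of the unrestricted map.) -/
theorem result
    (R : Type u) [CommRing R] [IsDomain R] [IsDiscreteValuationRing R]
    [IsAdicComplete (IsLocalRing.maximalIdeal R) R] (hk : IsAlgClosed (IsLocalRing.ResidueField R))
    (C : Scheme.{u}) (fC : C ⟶ Spec (CommRingCat.of (FractionRing R))) [IsProper fC] [Smooth fC]
    (hC0 : Models.hRank (FractionRing R) C fC (Coh.structureModule C) 0 = 1)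
    (hg2 : 2 ≤ Models.curveGenus (FractionRing R) C fC) (hC1 : topologicalKrullDim C = 1)
    (X : Scheme.{u}) (p : X ⟶ Spec (CommRingCat.of R)) (hX : Models.IsRegularProperModel R X p C fC)
    (q : ℕ) (hq : 1 ≤ q) (hqk : (q : IsLocalRing.ResidueField R) ≠ 0)
    [PicGrp.Law X]
    [PicGrp.Law (pullback p (Spec.map (CommRingCat.ofHom (algebraMap R (IsLocalRing.ResidueField R)))))]
    (hi : PicGrp.PullMul (pullback.fst p (Spec.map (CommRingCat.ofHom (algebraMap R (IsLocalRing.ResidueField R)))))) :
    Function.Surjective (PicGrp.pullHom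
        (pullback.fst p (Spec.map (CommRingCat.ofHom (algebraMap R (IsLocalRing.ResidueField R))))) hi) ∧
      ∀ c ∈ (PicGrp.pullHom
          (pullback.fst p (Spec.map (CommRingCat.ofHom (algebraMap R (IsLocalRing.ResidueField R))))) hi).ker,
        ∃! d : PicLoc.PicSet X,
          d ∈ (PicGrp.pullHom
            (pullback.fst p (Spec.map (CommRingCat.ofHom (algebraMap R (IsLocalRing.ResidueField R))))) hi).ker ∧
          d ^ q = c := by
  open scoped Groth.Agent.H23.PicMul in
  haveI : IsProper p := hX.2.1
  haveI : Flat p := hX.1.1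
  let I := IsLocalRing.maximalIdeal R
  let res : Spec (CommRingCat.of (IsLocalRing.ResidueField R)) ⟶ Spec (CommRingCat.of R) :=
    Spec.map (CommRingCat.ofHom (algebraMap R (IsLocalRing.ResidueField R)))
  haveI : IsClosedImmersion res := IsClosedImmersion.spec_of_surjective _ IsLocalRing.residue_surjective
  let σ : (R ⧸ I ^ (0 + 1)) ≃+* IsLocalRing.ResidueField R := Ideal.quotEquivOfEq (by rw [zero_add, pow_one])
  let r' : Spec (CommRingCat.of (IsLocalRing.ResidueField R)) ⟶ Spec (CommRingCat.of (R ⧸ I ^ (0 + 1))) :=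
    Spec.map σ.toCommRingCatIso.hom
  have hr' : r' ≫ CohB1.specQuot I 0 = res := (Spec.map_comp _ _).symm.trans rfl
  have hsq : IsPullback (pullback.fst p res) (pullback.snd p res ≫ r') p (CohB1.specQuot I 0) :=
    (IsPullback.of_hasPullback p res).of_iso (Iso.refl _) (Iso.refl _) (asIso r') (Iso.refl _)
      (by simp) (by simp) (by simp) (by simp [hr'])
  let e : pullback p res ≅ CohB1.thick p I 0 := hsq.isoPullback
  have he : e.hom ≫ CohB1.thickι p I 0 = pullback.fst p res := hsq.isoPullback_hom_fst
  have he' : e.inv ≫ pullback.fst p res = CohB1.thickι p I 0 := by rw [← he, e.inv_hom_id_assoc]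
  let φ := H23.PicMul.pullHom (pullback.fst p res)
  let ψ := H23.PicMul.pullHom (CohB1.thickι p I 0)
  have hcomp : ∀ {Y Z W : Scheme.{u}} (a : Y ⟶ Z) (b : Z ⟶ W) (c : PicF.Cl W),
      H23.PicMul.pullHom a (H23.PicMul.pullHom b c) = H23.PicMul.pullHom (a ≫ b) c := fun a b c => by
    induction c using Quot.ind with | mk A =>
    exact (PicGrp.cl_eq_cl_iff _ _).2 ⟨(Scheme.Modules.pullbackComp a b).app A⟩
  have h2 : Subsingleton (Coh.HH (CohB1.thick p I 0) (Coh.structureModule (CohB1.thick p I 0)) 2) := by
    haveI : IsClosedImmersion (CohB1.thickι p I 0) := AmpleVan.FibreVanish.closed_thickι p I 0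
    haveI : IsLocallyNoetherian (CohB1.thick p I 0) := LocallyOfFiniteType.isLocallyNoetherian (CohB1.thickι p I 0 ≫ p)
    haveI : CompactSpace (CohB1.thick p I 0) := QuasiCompact.compactSpace_of_compactSpace (CohB1.thickι p I 0 ≫ p)
    haveI : IsNoetherian (CohB1.thick p I 0) := ⟨⟩
    haveI : (CohB1.thick p I 0).IsSeparated := ⟨by
      rw [← terminal.comp_from (CohB1.thickι p I 0 ≫ p)]; infer_instance⟩
    refine Snapper.subsingleton_HH_of_dim_le (d := 1) ?_
      (CurveDeg.isCoh_of_isInvertible CurveDeg.isInvertible_structureModule).1 (by decide)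
    exact (IsHomeomorph.topologicalKrullDim_eq _ e.inv.homeomorph.isHomeomorph).trans_le
      (H26.PicRoot.dim_specialFibre_le_one fC hC0 hC1 p hX)
  have hpow : ∀ (c : PicLoc.PicSet X) (n : ℕ), (c ^ n).1 = c.1 ^ n := fun c n => by
    induction n with
    | zero => rw [pow_zero, pow_zero, PicGrp.one_val]; rfl
    | succ n ih => rw [pow_succ, pow_succ, PicGrp.Law.mul_val, ih]; rfl
  refine ⟨fun c => ?_, fun c hc => ?_⟩
  · obtain ⟨L₀, hL₀, rfl⟩ := PicGrp.exists_eq_cls c
    obtain ⟨M, hM, hMe⟩ := H26.PicRoot.exists_lift_zero p h2 ((Scheme.Modules.pullback e.inv).obj L₀)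
      (PicClLib.isInvertible_pullback _ hL₀)
    refine ⟨PicGrp.cls M hM, Subtype.ext ?_⟩
    show φ (PicF.cl M) = PicF.cl L₀
    have h1 : ψ (PicF.cl M) = H23.PicMul.pullHom e.inv (PicF.cl L₀) := H23.PicMul.cl_eq_iff.2 hMe
    show H23.PicMul.pullHom (pullback.fst p res) _ = _
    rw [← he, ← hcomp, h1, hcomp, e.hom_inv_id]
    exact H23.PicMul.cl_eq_iff.2 ⟨(Scheme.Modules.pullbackId _).app L₀⟩
  · obtain ⟨L, hL, rfl⟩ := PicGrp.exists_eq_cls c
    have hc' : φ (PicF.cl L) = 1 := by
      have h1 : PicGrp.pullHom (pullback.fst p res) hi (PicGrp.cls L hL) = 1 := hc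
      exact (congrArg Subtype.val h1).trans (PicGrp.one_val (Y := pullback p res))
    have hψ : ψ (PicF.cl L) = 1 := by
      show H23.PicMul.pullHom (CohB1.thickι p I 0) _ = 1
      rw [← he', ← hcomp, hc', map_one]
    have hqR : IsUnit (q : R) := by
      by_contra h
      exact hqk (by rw [← map_natCast (IsLocalRing.residue R), IsLocalRing.residue_eq_zero_iff]; exact h)
    obtain ⟨M, hM, hMq, hM0⟩ := H26.PicRoot.exists_root p hqR L hL (H23.PicMul.cl_eq_iff.1 hψ)
    have hchar : ∀ l : ℕ, l.Prime → CharP (IsLocalRing.ResidueField R) l → ¬ l ∣ q := fun l hl hch hdvd =>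
      hqk ((CharP.cast_eq_zero_iff (IsLocalRing.ResidueField R) l q).2 hdvd)
    have hMker : PicGrp.cls M hM ∈ (PicGrp.pullHom (pullback.fst p res) hi).ker := by
      refine MonoidHom.mem_ker.2 (Subtype.ext ?_)
      rw [PicGrp.one_val]
      show H23.PicMul.pullHom (pullback.fst p res) (PicF.cl M) = 1
      rw [← he, ← hcomp,
        show H23.PicMul.pullHom (CohB1.thickι p I 0) (PicF.cl M) = 1 from H23.PicMul.cl_eq_iff.2 hM0, map_one]
    have hMpow : PicGrp.cls M hM ^ q = PicGrp.cls L hL := Subtype.ext (by
      rw [hpow]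
      exact (H23.PicMul.cl_tensorPow M q).symm.trans (H23.PicMul.cl_eq_iff.2 hMq))
    refine ⟨_, ⟨hMker, hMpow⟩, fun d hd => ?_⟩
    obtain ⟨N, hN, hdN⟩ := PicGrp.exists_eq_cls (d * (PicGrp.cls M hM)⁻¹)
    have hNker : φ (PicF.cl N) = 1 := by
      have := MonoidHom.mem_ker.1 (mul_mem hd.1 (inv_mem hMker))
      rw [hdN] at this
      have h := congrArg Subtype.val this
      rw [PicGrp.one_val] at h
      exact h
    have hNpow : PicGrp.cls N hN ^ q = 1 := by
      rw [← hdN, mul_pow, inv_pow, hd.2, hMpow, mul_inv_cancel]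
    have hNq : Nonempty (CohB1.tensorPow N q ≅ Coh.structureModule X) := H23.PicMul.cl_eq_iff.1 (by
      rw [H23.PicMul.cl_tensorPow]
      exact (hpow (PicGrp.cls N hN) q).symm.trans ((congrArg Subtype.val hNpow).trans (PicGrp.one_val (Y := X))))
    have hspec : ∀ x, p x = IsLocalRing.closedPoint R → ∃ z, pullback.fst p res z = x := fun x hx => by
      have h : x ∈ Set.range (pullback.fst p res) := by
        rw [Scheme.Pullback.range_fst, H26.PicRoot.range_residue]
        exact hx
      exact h
    obtain ⟨w⟩ := H26.TorsTriv.iso_of_torsion p hq hchar hN hNq (pullback.fst p res) hspec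
      (H23.PicMul.cl_eq_iff.1 hNker)
    have h1 : d * (PicGrp.cls M hM)⁻¹ = 1 := by rw [hdN, PicGrp.cls_eq_one_iff]; exact ⟨w⟩
    exact mul_inv_eq_one.1 h1

end Groth.Agent.S15407
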