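import Groth.Statements.S15409
import Groth.Agent.ASB24.TwPow2
-- import your own Groth.Agent.* helpers here

set_option autoImplicit false
set_option backward.isDefEq.respectTransparency false
set_option backward.isDefEq.respectTransparency.types false
set_option linter.style.haveILetI false
universe u
open CategoryTheory CategoryTheory.Limits AlgebraicGeometry
open ASBun

namespace Groth.Agent.S15409

open W4c1astiltbs12 in
/-- Let X be proper over a field k with k ≅ H⁰(X, O_X), K an algebraic closure of k with X_K connected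
and projection π : X_K → X; assume the Picard group laws on X and X_K with pullback along π
multiplicative, that Pic(X_K) is infinite cyclic generated by the class of an invertible module L,
and that J is an invertible O_X-module whose pullback to X_K has class the r-th power of the class
of L, r ≥ 1. Let j and a be integers and N, N' invertible O_{X_K}-modules with classes (cls L)^j and
(cls L)^{j'} where either j' = −j or j' = j + a·r. If W, W' are indecomposable finite locally free
O_X-modules (nonzero, and in any direct-sum decomposition one summand is zero) with π^*W ≅ N^{⊕d}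
and π^*W' ≅ N'^{⊕d'}, then d = d': the rank of the indecomposable absolutely isotypical sheaf of
type L^{⊗j} depends only on ±j modulo r. (The published statement phrases this for the sheaves
W_{L^{⊗j}}, whose existence for every j it assumes through an indecomposable absolutely isotypical
sheaf of type L; here the two sheaves are given, and r need not be minimal.) -/
theorem result (k : Type u) [Field k] {X : Scheme.{u}}
    (p : X ⟶ Spec (CommRingCat.of k)) [IsProper p] (hO : IsIso p.appTop) (K : Type u) [Field K] [Algebra k K] [IsAlgClosure k K]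
    [ConnectedSpace ↥(W4bk4gw11416.baseChange p K)]
    [PicGrp.Law X] [PicGrp.Law (W4bk4gw11416.baseChange p K)] (hπ : PicGrp.PullMul (proj p K))
    (L : (W4bk4gw11416.baseChange p K).Modules) (hL : PicF.IsInvertible L)
    (e : PicLoc.PicSet (W4bk4gw11416.baseChange p K) ≃* Multiplicative ℤ)
    (he : e (PicGrp.cls L hL) = Multiplicative.ofAdd 1)
    (r : ℕ) (hr : 1 ≤ r) (J : X.Modules) (hJ : PicF.IsInvertible J)
    (hJL : PicGrp.cls (bcMod p K J) (PicLoc.isInvertible_pullback (proj p K) hJ) = PicGrp.cls L hL ^ r)
    (j a j' : ℤ) (hj' : j' = -j ∨ j' = j + a * r)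
    (N N' : (W4bk4gw11416.baseChange p K).Modules) (hN : PicF.IsInvertible N) (hN' : PicF.IsInvertible N')
    (hNj : PicGrp.cls N hN = PicGrp.cls L hL ^ j) (hN'j : PicGrp.cls N' hN' = PicGrp.cls L hL ^ j')
    (W W' : X.Modules) (hW : FlatMod.IsFinLocFree W) (hW' : FlatMod.IsFinLocFree W')
    (hWi : (¬ IsZero W ∧ ∀ A B : X.Modules, Nonempty (W ≅ A ⊞ B) → IsZero A ∨ IsZero B)) (hW'i : (¬ IsZero W' ∧ ∀ A B : X.Modules, Nonempty (W' ≅ A ⊞ B) → IsZero A ∨ IsZero B))
    (d d' : ℕ) (eW : Nonempty (bcMod p K W ≅ pow N d)) (eW' : Nonempty (bcMod p K W' ≅ pow N' d')) :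
    d = d' := by
  haveI : Algebra.IsAlgebraic k K := IsAlgClosure.isAlgebraic
  haveI : Nonempty (W4bk4gw11416.baseChange p K) := ConnectedSpace.toNonempty
  rcases hj' with h | h
  · have h1 : PicGrp.cls N hN * PicGrp.cls N' hN' = 1 := by
      rw [hNj, hN'j, h, zpow_neg, mul_inv_cancel]
    obtain ⟨t⟩ := (PicGrp.cls_mul_cls_eq_one_iff hN hN').1 h1
    obtain ⟨u⟩ := Groth.Agent.ASB24.dual_iso_inverse t
    exact Groth.Agent.ASB24.mult_eq_of_dual p K hW hW' hWi hW'i hN hN' eW.some eW'.some u.symm
  · obtain ⟨T, hT, hTJ⟩ := PicGrp.exists_eq_cls (PicGrp.cls J hJ ^ a)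
    have h1 : PicGrp.pullHom (proj p K) hπ (PicGrp.cls T hT) = PicGrp.cls L hL ^ ((r : ℤ) * a) := by
      rw [← hTJ, map_zpow, zpow_mul, zpow_natCast]
      congr 1
    have h2 : PicGrp.cls N' hN' = PicGrp.cls N hN * PicGrp.cls (bcMod p K T) (PicLoc.isInvertible_pullback (proj p K) hT) := by
      rw [hN'j, h, hNj, zpow_add, mul_comm a (r : ℤ), ← h1]
      rfl
    have h3 := congrArg Subtype.val h2
    rw [PicGrp.cls_mul_cls_val, PicGrp.cls_val, PicGrp.cl_eq_cl_iff] at h3
    exact Groth.Agent.ASB24.mult_eq_of_tensor p K hW hW' hWi hW'i hN hN' eW.some eW'.some hT h3.some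

end Groth.Agent.S15409
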