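import Groth.Statements.S1541
import Groth.Agent.GeomField.Reduced

set_option autoImplicit false
universe u
open CategoryTheory CategoryTheory.Limits AlgebraicGeometry
attribute [local instance] Curv2.resAlgebra Curv2.stalkAlgebra
open Variety

namespace Groth.Agent.S1541

/-- Let X be a scheme over a field k and x a point of X. Then X is geometrically reduced at x (all local
rings of all base changes X_{k'} at points over x are reduced) if and only if the local ring 𝒪_{X,x}
is geometrically reduced as a k-algebra. -/
theorem result (k : Type u) [Field k] (X : Scheme.{u}) [X.Over (Spec (CommRingCat.of k))] (x : X) :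
    Curv2.IsGeomReducedAt k X x ↔ Algebra.IsGeometricallyReduced k (X.presheaf.stalk x) := by
  exact GeomField.isGeomReducedAt_iff x

end Groth.Agent.S1541
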