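import Groth.Statements.S15411
import Mathlib.LinearAlgebra.FreeModule.Basic
import Mathlib.RingTheory.TensorProduct.Free
import Mathlib.LinearAlgebra.Basis.VectorSpace
import Mathlib.RingTheory.Bialgebra.TensorProduct


set_option autoImplicit false
universe u
open scoped TensorProduct
open Hopf

namespace Groth.Agent.S15411

open scoped TensorProduct

section
variable {K : Type u} [Field K] {ιv : Type u} {Kv : ιv → Type u} [∀ i, CommRing (Kv i)] [∀ i, Algebra K (Kv i)]

/-- A family of algebras through which scalars are jointly faithful detects vectors. -/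
private theorem eq_of_tmul_eq (hinj : ∀ a : K, (∀ i, algebraMap K (Kv i) a = 0) → a = 0)
    {M : Type u} [AddCommGroup M] [Module K M] {x y : M}
    (h : ∀ i, (1 : Kv i) ⊗ₜ[K] x = 1 ⊗ₜ[K] y) : x = y := by
  let bM := Module.Free.chooseBasis K M
  refine bM.repr.injective (Finsupp.ext fun j => sub_eq_zero.1 (hinj _ fun i => ?_))
  have h2 := congrArg (fun z => TensorProduct.rid K (Kv i) ((bM.coord j).lTensor (Kv i) z)) (h i)
  simp only [LinearMap.lTensor_tmul, TensorProduct.rid_tmul, Module.Basis.coord_apply] at h2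
  rw [map_sub, sub_eq_zero, Algebra.algebraMap_eq_smul_one, Algebra.algebraMap_eq_smul_one]
  exact h2

end

section
variable {K : Type u} [Field K] {S T A B : Type u} [CommRing S] [CommRing T] [Algebra K S] [Algebra K T]
  [CommRing A] [CommRing B] [Algebra K A] [Algebra K B] (f : S ⊗[K] B →ₐ[S] S ⊗[K] A) (ρ : S →ₐ[K] T)

/-- Extension of scalars of a map along `ρ`. -/
private noncomputable def ext' : T ⊗[K] B →ₐ[T] T ⊗[K] A :=
  Algebra.TensorProduct.lift (Algebra.ofId T (T ⊗[K] A))
    ((Algebra.TensorProduct.map ρ (AlgHom.id K A)).comp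
      ((f.restrictScalars K).comp Algebra.TensorProduct.includeRight)) fun _ _ => Commute.all _ _

private theorem ext'_map (z : S ⊗[K] B) :
    ext' f ρ (Algebra.TensorProduct.map ρ (AlgHom.id K B) z) =
      Algebra.TensorProduct.map ρ (AlgHom.id K A) (f z) := by
  induction z using TensorProduct.induction_on with
  | zero => simp
  | add x y hx hy => simp only [map_add, hx, hy]
  | tmul s b =>
    have e : s ⊗ₜ[K] b = algebraMap S (S ⊗[K] B) s * ((1 : S) ⊗ₜ[K] b) := by simp
    rw [Algebra.TensorProduct.map_tmul]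
    refine (Algebra.TensorProduct.lift_tmul _ _ _ _ _).trans ?_
    rw [e, map_mul, AlgHom.commutes, map_mul]
    rfl

end


/-- Let K be a field and let finitely many commutative K-algebras be given in two layers, K_i for each
vertex i and K_k for each edge k, with K-algebra maps from K_{l k} and from K_{r k} into K_k for
every edge k, such that K is the equalizer of the system: every family (x_i) whose two images in K_k
agree for every k comes from exactly one element of K. Let A and B be commutative K-bialgebras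
(coordinate rings of affine group or monoid schemes over K) and let u_i : K_i ⊗ B ≅ K_i ⊗ A be
isomorphisms of K_i-bialgebras such that, for every edge k, the base changes of u_{l k} and u_{r k}
to K_k agree. Then there is exactly one isomorphism of K-bialgebras v : B ≅ A inducing every u_i,
that is with u_i (1 ⊗ b) = 1 ⊗ v b. (The published statement is for the system obtained from a
finite inverse factorization system of fields by base change to a finite separable extension K, and
for linear algebraic groups; this row keeps from that setting only what the argument uses: K is a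
field and is the equalizer of the finite system, and the group schemes are affine.) -/
theorem result
    (K : Type u) [Field K] (ιv ιe : Type u) [Finite ιv] [Finite ιe]
    (Kv : ιv → Type u) [∀ i, CommRing (Kv i)] [∀ i, Algebra K (Kv i)]
    (Ke : ιe → Type u) [∀ k, CommRing (Ke k)] [∀ k, Algebra K (Ke k)]
    (l r : ιe → ιv) (ρl : ∀ k, Kv (l k) →ₐ[K] Ke k) (ρr : ∀ k, Kv (r k) →ₐ[K] Ke k)
    (hlim : ∀ x : (∀ i, Kv i), (∀ k, ρl k (x (l k)) = ρr k (x (r k))) →
      ∃! a : K, ∀ i, algebraMap K (Kv i) a = x i)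
    (A B : Type u) [CommRing A] [CommRing B] [Bialgebra K A] [Bialgebra K B]
    (u : ∀ i, (Kv i ⊗[K] B) ≃ₐc[Kv i] (Kv i ⊗[K] A))
    (hu : ∀ (k : ιe) (b : B),
      Algebra.TensorProduct.map (ρl k) (AlgHom.id K A) (u (l k) (1 ⊗ₜ[K] b)) =
        Algebra.TensorProduct.map (ρr k) (AlgHom.id K A) (u (r k) (1 ⊗ₜ[K] b))) :
    ∃! v : B ≃ₐc[K] A, ∀ (i : ιv) (b : B), u i (1 ⊗ₜ[K] b) = 1 ⊗ₜ[K] v b := by
  classical
  cases nonempty_fintype ιv
  have hinj : ∀ a : K, (∀ i, algebraMap K (Kv i) a = 0) → a = 0 := fun a ha => by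
    obtain ⟨c, -, hu'⟩ := hlim 0 fun k => by simp
    rw [hu' a (fun i => ha i), hu' 0 fun i => map_zero _]
  let bA := Module.Free.chooseBasis K A
  let co : ∀ (S : Type u) [CommRing S] [Algebra K S], Module.Free.ChooseBasisIndex K A → (S ⊗[K] A) →ₗ[K] S :=
    fun S _ _ j => (TensorProduct.rid K S).toLinearMap.comp ((bA.coord j).lTensor S)
  have hco : ∀ (S T : Type u) [CommRing S] [Algebra K S] [CommRing T] [Algebra K T] (ρ : S →ₐ[K] T) (j) (z : S ⊗[K] A),
      co T j (Algebra.TensorProduct.map ρ (AlgHom.id K A) z) = ρ (co S j z) := by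
    intro S T _ _ _ _ ρ j z
    induction z using TensorProduct.induction_on with
    | zero => simp
    | add x y hx hy => simp only [map_add, hx, hy]
    | tmul s a => simp [co]
  have hdesc : ∀ z : (∀ i, Kv i ⊗[K] A),
      (∀ k, Algebra.TensorProduct.map (ρl k) (AlgHom.id K A) (z (l k)) =
        Algebra.TensorProduct.map (ρr k) (AlgHom.id K A) (z (r k))) → ∃ a : A, ∀ i, z i = 1 ⊗ₜ[K] a := by
    intro z hz
    have h1 : ∀ j, ∃! c : K, ∀ i, algebraMap K (Kv i) c = co (Kv i) j (z i) := fun j =>
      hlim (fun i => co (Kv i) j (z i)) fun k => by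
        rw [← hco, ← hco, hz k]
    choose c hc hcu using h1
    let R : ∀ i, Module.Basis _ (Kv i) (Kv i ⊗[K] A) := fun i => Algebra.TensorProduct.basis (Kv i) bA
    have hR : ∀ i j (w : Kv i ⊗[K] A), (R i).repr w j = co (Kv i) j w := by
      intro i j w
      induction w using TensorProduct.induction_on with
      | zero => simp
      | add x y hx hy => simp only [map_add, Finsupp.add_apply, hx, hy]
      | tmul s a =>
        rw [Algebra.TensorProduct.basis_repr_tmul]
        simp [co, Algebra.smul_def, mul_comm]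
    let sup := Finset.univ.biUnion fun i => ((R i).repr (z i)).support
    have hsupp : ∀ j, c j ≠ 0 → j ∈ sup := by
      intro j hj
      obtain ⟨i, hi⟩ := not_forall.1 fun hh : ∀ i, co (Kv i) j (z i) = 0 =>
        hj (hinj _ fun i => (hc j i).trans (hh i))
      exact Finset.mem_biUnion.2 ⟨i, Finset.mem_univ _, Finsupp.mem_support_iff.2 (hR i j (z i) ▸ hi)⟩
    let cf := Finsupp.onFinset sup c hsupp
    refine ⟨bA.repr.symm cf, fun i => (R i).repr.injective (Finsupp.ext fun j => ?_)⟩
    rw [hR, hR]
    show _ = co (Kv i) j _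
    simp [co, cf, ← hc, Algebra.smul_def]
  let bB0 := Module.Free.chooseBasis K B
  let coB : ∀ (S : Type u) [CommRing S] [Algebra K S], Module.Free.ChooseBasisIndex K B → (S ⊗[K] B) →ₗ[K] S :=
    fun S _ _ j => (TensorProduct.rid K S).toLinearMap.comp ((bB0.coord j).lTensor S)
  have hcoB : ∀ (S T : Type u) [CommRing S] [Algebra K S] [CommRing T] [Algebra K T] (ρ : S →ₐ[K] T) (j) (z : S ⊗[K] B),
      coB T j (Algebra.TensorProduct.map ρ (AlgHom.id K B) z) = ρ (coB S j z) := by
    intro S T _ _ _ _ ρ j z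
    induction z using TensorProduct.induction_on with
    | zero => simp
    | add x y hx hy => simp only [map_add, hx, hy]
    | tmul s a => simp [coB]
  have hdescB : ∀ z : (∀ i, Kv i ⊗[K] B),
      (∀ k, Algebra.TensorProduct.map (ρl k) (AlgHom.id K B) (z (l k)) =
        Algebra.TensorProduct.map (ρr k) (AlgHom.id K B) (z (r k))) → ∃ a : B, ∀ i, z i = 1 ⊗ₜ[K] a := by
    intro z hz
    have h1 : ∀ j, ∃! c : K, ∀ i, algebraMap K (Kv i) c = coB (Kv i) j (z i) := fun j =>
      hlim (fun i => coB (Kv i) j (z i)) fun k => by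
        rw [← hcoB, ← hcoB, hz k]
    choose c hc hcu using h1
    let R : ∀ i, Module.Basis _ (Kv i) (Kv i ⊗[K] B) := fun i => Algebra.TensorProduct.basis (Kv i) bB0
    have hR : ∀ i j (w : Kv i ⊗[K] B), (R i).repr w j = coB (Kv i) j w := by
      intro i j w
      induction w using TensorProduct.induction_on with
      | zero => simp
      | add x y hx hy => simp only [map_add, Finsupp.add_apply, hx, hy]
      | tmul s a =>
        rw [Algebra.TensorProduct.basis_repr_tmul]
        simp [coB, Algebra.smul_def, mul_comm]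
    let sup := Finset.univ.biUnion fun i => ((R i).repr (z i)).support
    have hsupp : ∀ j, c j ≠ 0 → j ∈ sup := by
      intro j hj
      obtain ⟨i, hi⟩ := not_forall.1 fun hh : ∀ i, coB (Kv i) j (z i) = 0 =>
        hj (hinj _ fun i => (hc j i).trans (hh i))
      exact Finset.mem_biUnion.2 ⟨i, Finset.mem_univ _, Finsupp.mem_support_iff.2 (hR i j (z i) ▸ hi)⟩
    let cf := Finsupp.onFinset sup c hsupp
    refine ⟨bB0.repr.symm cf, fun i => (R i).repr.injective (Finsupp.ext fun j => ?_)⟩
    rw [hR, hR]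
    show _ = coB (Kv i) j _
    simp [coB, cf, ← hc, Algebra.smul_def]
  choose v hv using fun b : B => hdesc (fun i => u i (1 ⊗ₜ[K] b)) (fun k => hu k b)
  let vA : B →ₐ[K] A :=
    { toFun := v
      map_one' := eq_of_tmul_eq hinj fun i => (hv 1 i).symm.trans (map_one (u i))
      map_mul' := fun x y => eq_of_tmul_eq hinj fun i => by
        rw [← hv, show (1 : Kv i) ⊗ₜ[K] (v x * v y) = ((1 : Kv i) ⊗ₜ[K] v x) * (1 ⊗ₜ[K] v y) by simp, ← hv, ← hv,
          ← map_mul]
        simp
      map_zero' := eq_of_tmul_eq hinj fun i => by rw [← hv]; simp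
      map_add' := fun x y => eq_of_tmul_eq hinj fun i => by
        rw [← hv, TensorProduct.tmul_add, map_add, TensorProduct.tmul_add, ← hv, ← hv]
      commutes' := fun c => eq_of_tmul_eq hinj fun i => by
        rw [← hv, Algebra.algebraMap_eq_smul_one, Algebra.algebraMap_eq_smul_one, TensorProduct.tmul_smul,
          TensorProduct.tmul_smul, ← Algebra.TensorProduct.one_def, ← algebraMap_smul (Kv i) c, map_smul, map_one,
          algebraMap_smul]
        rfl }
  have hcounit : (Bialgebra.counitAlgHom K A).comp vA = Bialgebra.counitAlgHom K B := by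
    refine AlgHom.ext fun b => sub_eq_zero.1 (hinj _ fun i => ?_)
    have h := congrArg (fun z => Coalgebra.counit (R := Kv i) z) (hv b i)
    simp only [CoalgHomClass.counit_comp_apply] at h
    simp only [TensorProduct.counit_tmul, Bialgebra.counit_one] at h
    rw [map_sub, sub_eq_zero]
    simpa [Algebra.smul_def, vA] using h.symm
  have hcomul : (Algebra.TensorProduct.map vA vA).comp (Bialgebra.comulAlgHom K B) =
      (Bialgebra.comulAlgHom K A).comp vA := by
    refine AlgHom.ext fun b => eq_of_tmul_eq hinj fun i => ?_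
    let Φ : (Kv i ⊗[K] A) ⊗[Kv i] (Kv i ⊗[K] A) →ₐ[Kv i] Kv i ⊗[K] (A ⊗[K] A) :=
      Algebra.TensorProduct.lift
        (Algebra.TensorProduct.map (AlgHom.id (Kv i) (Kv i)) Algebra.TensorProduct.includeLeft)
        (Algebra.TensorProduct.map (AlgHom.id (Kv i) (Kv i)) Algebra.TensorProduct.includeRight)
        fun _ _ => Commute.all _ _
    have hΦ : ∀ x y : A, Φ (((1 : Kv i) ⊗ₜ[K] x) ⊗ₜ[Kv i] ((1 : Kv i) ⊗ₜ[K] y)) = 1 ⊗ₜ[K] (x ⊗ₜ[K] y) := by
      intro x y
      simp [Φ]
    have hB : Coalgebra.comul (R := Kv i) ((1 : Kv i) ⊗ₜ[K] b) =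
        TensorProduct.AlgebraTensorModule.tensorTensorTensorComm K (Kv i) K (Kv i) (Kv i) (Kv i) B B
          ((1 : Kv i ⊗[Kv i] Kv i) ⊗ₜ[K] Coalgebra.comul (R := K) b) := by
      simp [TensorProduct.comul_tmul, Algebra.TensorProduct.one_def]
    have h := congrArg (fun z => Φ (Coalgebra.comul (R := Kv i) z)) (hv b i)
    simp only [← CoalgHomClass.map_comp_comul_apply, hB] at h
    have hA : ∀ a : A, Φ (Coalgebra.comul (R := Kv i) ((1 : Kv i) ⊗ₜ[K] a)) = 1 ⊗ₜ[K] Coalgebra.comul (R := K) a := by
      intro a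
      simp only [TensorProduct.comul_tmul, Bialgebra.comul_one]
      induction Coalgebra.comul (R := K) a using TensorProduct.induction_on with
      | zero => simp
      | add x y hx hy => simp only [TensorProduct.tmul_add, map_add, hx, hy]
      | tmul x y => simp [Algebra.TensorProduct.one_def, hΦ]
    rw [hA] at h
    refine Eq.trans ?_ h
    show (1 : Kv i) ⊗ₜ[K] Algebra.TensorProduct.map vA vA (Coalgebra.comul (R := K) b) = _
    induction Coalgebra.comul (R := K) b using TensorProduct.induction_on with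
    | zero => simp
    | add x y hx hy => simp only [TensorProduct.tmul_add, map_add, hx, hy]
    | tmul x y => simp [Algebra.TensorProduct.one_def, vA, hv, hΦ]
  let vB : B →ₐc[K] A := BialgHom.ofAlgHom vA hcounit hcomul
  have hbij : Function.Bijective vB := by
    refine ⟨fun b b' hbb => eq_of_tmul_eq hinj fun i => (u i).injective ?_, fun a => ?_⟩
    · show u i (1 ⊗ₜ[K] b) = u i (1 ⊗ₜ[K] b')
      rw [hv, hv, show v b = v b' from hbb]
    · let z : ∀ i, Kv i ⊗[K] B := fun i => (u i).symm (1 ⊗ₜ[K] a)
      have hz : ∀ k, Algebra.TensorProduct.map (ρl k) (AlgHom.id K B) (z (l k)) =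
          Algebra.TensorProduct.map (ρr k) (AlgHom.id K B) (z (r k)) := by
        intro k
        let g := fun i => (u i).toAlgEquiv.toAlgHom
        let g' := fun i => (u i).toAlgEquiv.symm.toAlgHom
        have heq : ext' (g (l k)) (ρl k) = ext' (g (r k)) (ρr k) := by
          refine Algebra.TensorProduct.ext (Subsingleton.elim _ _) (AlgHom.ext fun b => ?_)
          show ext' (g (l k)) (ρl k) (1 ⊗ₜ[K] b) = ext' (g (r k)) (ρr k) (1 ⊗ₜ[K] b)
          rw [show (1 : Ke k) ⊗ₜ[K] b = Algebra.TensorProduct.map (ρl k) (AlgHom.id K B) (1 ⊗ₜ[K] b) by simp, ext'_map,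
            show Algebra.TensorProduct.map (ρl k) (AlgHom.id K B) ((1 : Kv (l k)) ⊗ₜ[K] b) =
              Algebra.TensorProduct.map (ρr k) (AlgHom.id K B) ((1 : Kv (r k)) ⊗ₜ[K] b) by simp, ext'_map]
          exact hu k b
        have hUU : (ext' (g' (l k)) (ρl k)).comp (ext' (g (l k)) (ρl k)) = AlgHom.id (Ke k) _ := by
          refine Algebra.TensorProduct.ext (Subsingleton.elim _ _) (AlgHom.ext fun b => ?_)
          show ext' (g' (l k)) (ρl k) (ext' (g (l k)) (ρl k) (1 ⊗ₜ[K] b)) = 1 ⊗ₜ[K] b
          rw [show (1 : Ke k) ⊗ₜ[K] b = Algebra.TensorProduct.map (ρl k) (AlgHom.id K B) (1 ⊗ₜ[K] b) by simp, ext'_map,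
            ext'_map]
          exact congrArg _ ((u (l k)).toAlgEquiv.symm_apply_apply _)
        have key : ∀ w, ext' (g' (l k)) (ρl k) (ext' (g (l k)) (ρl k) w) = w := fun w => AlgHom.congr_fun hUU w
        rw [← key (Algebra.TensorProduct.map (ρl k) (AlgHom.id K B) (z (l k))),
          ← key (Algebra.TensorProduct.map (ρr k) (AlgHom.id K B) (z (r k)))]
        refine congrArg _ ?_
        rw [ext'_map, heq, ext'_map]
        show Algebra.TensorProduct.map (ρl k) (AlgHom.id K A) (u (l k) ((u (l k)).symm (1 ⊗ₜ[K] a))) =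
          Algebra.TensorProduct.map (ρr k) (AlgHom.id K A) (u (r k) ((u (r k)).symm (1 ⊗ₜ[K] a)))
        rw [show u (l k) ((u (l k)).symm (1 ⊗ₜ[K] a)) = 1 ⊗ₜ[K] a from (u (l k)).toAlgEquiv.apply_symm_apply _,
          show u (r k) ((u (r k)).symm (1 ⊗ₜ[K] a)) = 1 ⊗ₜ[K] a from (u (r k)).toAlgEquiv.apply_symm_apply _]
        simp
      obtain ⟨b, hb⟩ : ∃ b : B, ∀ i, z i = 1 ⊗ₜ[K] b := hdescB z hz
      refine ⟨b, eq_of_tmul_eq hinj fun i => ?_⟩
      show (1 : Kv i) ⊗ₜ[K] v b = _
      rw [← hv, ← hb]
      exact (u i).toAlgEquiv.apply_symm_apply _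
  refine ⟨BialgEquiv.ofBijective vB hbij, fun i b => hv b i, fun w hw => ?_⟩
  refine BialgEquiv.ext fun b => eq_of_tmul_eq hinj fun i => ?_
  rw [← hw]
  exact hv b i

end Groth.Agent.S15411
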