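import Groth.Statements.S15413
import Groth.Agent.BitorsLib.Basic

set_option autoImplicit false
set_option backward.isDefEq.respectTransparency false
set_option backward.isDefEq.respectTransparency.types false
universe w v u
open CategoryTheory Opposite
open Bitors

namespace Groth.Agent.S15413

/-- On a site, let G and H be sheaves of groups and P, P' sheaves of sets with left G-actions, the
action on P' being simply transitive on every set of sections; let P and P' carry right H-actions ρ,
ρ' (compatible with restriction, commuting with G, simply transitive section-wise) that are given by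
families of group isomorphisms φ, φ' through p · h = φ_p(h) · p and p' · h = φ'_{p'}(h) · p'. Then a
G-equivariant morphism of sheaves f : P → P' commutes with the right H-actions (is a morphism of
bitorsors) if and only if φ_p = φ'_{f(p)} for every section p of P. (The published statement takes P
and P' to be (G, H)-bitorsors; only the simple transitivity of the G-action on the sections of P'
enters.) -/
theorem result
    {C : Type u} [Category.{v} C] {J : GrothendieckTopology C}
    (G H : Sheaf J GrpCat.{w}) (P P' : NonAbH1.GSheaf G) (hP' : P'.IsPseudoTorsor)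
    (ρ : Bitors.RightStr P H) (ρ' : Bitors.RightStr P' H)
    (φ : Bitors.IsomFamily P H) (φ' : Bitors.IsomFamily P' H)
    (hρ : ∀ (U : Cᵒᵖ) (p : P.P.obj.obj U) (h : H.obj.obj U), ρ.rsmul p h = P.smul (φ.φ p h) p)
    (hρ' : ∀ (U : Cᵒᵖ) (p : P'.P.obj.obj U) (h : H.obj.obj U), ρ'.rsmul p h = P'.smul (φ'.φ p h) p)
    (f : P ⟶ P') :
    (∀ (U : Cᵒᵖ) (p : P.P.obj.obj U) (h : H.obj.obj U),
        f.hom.hom.app U (ρ.rsmul p h) = ρ'.rsmul (f.hom.hom.app U p) h) ↔
      ∀ (U : Cᵒᵖ) (p : P.P.obj.obj U) (h : H.obj.obj U),
        φ.φ p h = φ'.φ (f.hom.hom.app U p) h := by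
  exact forall_congr' fun U => forall_congr' fun p => forall_congr' fun h =>
    Groth.Agent.BitorsLib.hom_rsmul_iff hP' ρ ρ' φ φ' hρ hρ' f U p h

end Groth.Agent.S15413
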