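import Groth.Statements.S15420
import Groth.Agent.GrLib8.FilterInj
-- import your own Groth.Agent.* helpers here

set_option autoImplicit false
universe u
open GrLC

namespace Groth.Agent.S15420

/-- Let k be a field, S = k[x_0, …, x_r] graded by degree, 𝔪 = (x_0, …, x_r), M a finitely generated
ℤ-graded S-module, x ∈ S_1 a linear form quasi-regular on M (the elements of M killed by x form a
submodule of finite length), and N = M/xM, given as a graded module with a surjective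
degree-preserving S-linear map π : M → N with kernel xM; graded local cohomology is computed from
*injective resolutions in the graded category. Call a module d-regular when H^0_𝔪 of it has no
nonzero piece in degrees above d and H^i_𝔪 of it vanishes in degree d − i + 1 for every i > 0. Then
M is d-regular if and only if N is d-regular and H^0_𝔪(M) has no nonzero piece in degrees above d. -/
theorem result (k : Type u) [Field k] (r : ℕ)
    (M : Type u) [AddCommGroup M] [Module k M] [Module (MvPolynomial (Fin (r + 1)) k) M]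
    [IsScalarTower k (MvPolynomial (Fin (r + 1)) k) M] [Module.Finite (MvPolynomial (Fin (r + 1)) k) M]
    (ℳ : ℤ → Submodule k M) [DirectSum.Decomposition ℳ] [SetLike.GradedSMul (GrSyz.stdGr k (Fin (r + 1))) ℳ]
    (x : MvPolynomial (Fin (r + 1)) k) (hx : x ∈ GrSyz.stdGr k (Fin (r + 1)) 1)
    (hq : IsFiniteLength (MvPolynomial (Fin (r + 1)) k) ↥(Submodule.torsionBy (MvPolynomial (Fin (r + 1)) k) M x))
    (N : Type u) [AddCommGroup N] [Module k N] [Module (MvPolynomial (Fin (r + 1)) k) N]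
    [IsScalarTower k (MvPolynomial (Fin (r + 1)) k) N] [Module.Finite (MvPolynomial (Fin (r + 1)) k) N]
    (𝒩 : ℤ → Submodule k N) [DirectSum.Decomposition 𝒩] [SetLike.GradedSMul (GrSyz.stdGr k (Fin (r + 1))) 𝒩]
    (π : M →ₗ[MvPolynomial (Fin (r + 1)) k] N) (hπ : Function.Surjective π) (hπg : GrLC.IsGrHom ℳ 𝒩 π)
    (hker : LinearMap.ker π = LinearMap.range (x • (LinearMap.id : M →ₗ[MvPolynomial (Fin (r + 1)) k] M)))
    (E : GrLC.StarInjRes (GrSyz.stdGr k (Fin (r + 1))) ℳ) (E' : GrLC.StarInjRes (GrSyz.stdGr k (Fin (r + 1))) 𝒩) (d : ℤ) :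
    (GrLC.endDeg (E.Hgr (GrSyz.irrel (GrSyz.stdGr k (Fin (r + 1)))) 0) ≤ ((d : WithTop ℤ) : WithBot (WithTop ℤ)) ∧ ∀ i : ℕ, 0 < i → E.Hcomp (GrSyz.irrel (GrSyz.stdGr k (Fin (r + 1)))) i (d - (i : ℤ) + 1) = ⊥) ↔
      ((GrLC.endDeg (E'.Hgr (GrSyz.irrel (GrSyz.stdGr k (Fin (r + 1)))) 0) ≤ ((d : WithTop ℤ) : WithBot (WithTop ℤ)) ∧ ∀ i : ℕ, 0 < i → E'.Hcomp (GrSyz.irrel (GrSyz.stdGr k (Fin (r + 1)))) i (d - (i : ℤ) + 1) = ⊥) ∧
        GrLC.endDeg (E.Hgr (GrSyz.irrel (GrSyz.stdGr k (Fin (r + 1)))) 0) ≤ ((d : WithTop ℤ) : WithBot (WithTop ℤ))) := by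
  classical
  let a := GrSyz.irrel (GrSyz.stdGr k (Fin (r + 1)))
  let X := GrLib8.gmodPieces (GrSyz.stdGr k (Fin (r + 1))) ℳ
  let Y := GrLib8.gmodPieces (GrSyz.stdGr k (Fin (r + 1))) 𝒩
  have hend : ∀ {P : Type u} [AddCommGroup P] [Module k P] [Module (MvPolynomial (Fin (r + 1)) k) P]
      {𝒫' : ℤ → Submodule k P} [DirectSum.Decomposition 𝒫'] [SetLike.GradedSMul (GrSyz.stdGr k (Fin (r + 1))) 𝒫']
      (F : GrLC.StarInjRes (GrSyz.stdGr k (Fin (r + 1))) 𝒫'),
      GrLC.endDeg (F.Hgr a 0) ≤ ((d : WithTop ℤ) : WithBot (WithTop ℤ)) ↔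
        ∀ g, d < g → GrLib8.HVan a (GrLib8.gmodPieces (GrSyz.stdGr k (Fin (r + 1))) 𝒫') 0 g := by
    intro P _ _ _ 𝒫' _ _ F
    rw [GrLib8.endDeg_le_iff]
    simp only [GrLib8.Hgr_eq_bot_iff, GrLib8.hVan_of_pieces_res F]
  have persist : ∀ Z : GrLC.GMod.{u} (GrSyz.stdGr k (Fin (r + 1))),
      (∀ i : ℕ, 1 ≤ i → GrLib8.HVan a Z i (d + 1 - i)) →
        ∀ (i : ℕ) (g : ℤ), 1 ≤ i → d + 1 - i ≤ g → GrLib8.HVan a Z i g := fun Z hZ i g hi hg => by
    have h := GrLib8.hVan_persist (GrLib8.irrel_le_span_one k (r + 1)) Z (d + 1) 1 le_rfl hZ (g + i) (by omega) i hi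
    rwa [add_sub_cancel_right] at h
  rw [hend E, hend E']
  constructor
  · rintro ⟨h0, hpos⟩
    have hX := persist X fun i hi => by
      rw [show d + 1 - (i : ℤ) = d - i + 1 by ring]
      exact (GrLib8.hVan_of_pieces_res E).2 (hpos i hi)
    refine ⟨⟨fun g hg => GrLib8.filter_right ℳ 𝒩 hx hq π hπ hπg hker 0 g (h0 g hg) (hX 1 (g - 1) le_rfl (by omega)),
      fun i hi => (GrLib8.hVan_of_pieces_res E').1 (GrLib8.filter_right ℳ 𝒩 hx hq π hπ hπg hker i _
        (hX i _ hi (by omega)) (hX (i + 1) _ (by omega) (by push_cast; omega)))⟩, h0⟩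
  · rintro ⟨⟨h0', hpos'⟩, h0⟩
    refine ⟨h0, fun i hi => (GrLib8.hVan_of_pieces_res E).1 ?_⟩
    have hY := persist Y fun i hi => by
      rw [show d + 1 - (i : ℤ) = d - i + 1 by ring]
      exact (GrLib8.hVan_of_pieces_res E').2 (hpos' i hi)
    obtain ⟨j, rfl⟩ : ∃ j, i = j + 1 := ⟨i - 1, by omega⟩
    have hxa : x ∈ a.toIdeal := Ideal.subset_span ⟨1, one_pos, hx⟩
    refine GrLib8.hVan_of_filter (X := X) (Y := Y) hx hxa π hπ (fun g m hm => (add_zero g).symm ▸ hπg g m hm)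
      hker (GrLib8.torsion_of_finiteLength ℳ x 1 hx hq) j (d - j) (fun g hg => ?_) _ (by push_cast; omega)
    rcases Nat.eq_zero_or_pos j with rfl | hj
    · exact h0' g (by simpa using hg)
    · exact hY j g hj (by omega)

end Groth.Agent.S15420
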