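import Groth.Statements.S15421
import Groth.Agent.GrLib8.RegStd
-- import your own Groth.Agent.* helpers here

set_option autoImplicit false
universe u
open GrSyz

namespace Groth.Agent.S15421

/-- Let k be a field, S = k[x_0, …, x_r] graded by degree, 𝔪 = (x_0, …, x_r), M a finitely generated
ℤ-graded S-module, x ∈ S_1 a linear form quasi-regular on M (the elements of M killed by x form a
submodule of finite length) and N = M/xM, given as a graded module with a surjective
degree-preserving S-linear map π : M → N with kernel xM. Then reg M = max(end H^0_𝔪(M), reg N),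
where reg is the Castelnuovo–Mumford regularity in the sense of minimal graded free resolutions (as
an extended integer, −∞ for the zero module) and end H^0_𝔪(M) is the largest degree of a nonzero
piece of the graded local cohomology H^0_𝔪(M), computed from any *injective resolution of M in the
graded category. (The published statement takes x quasi-regular without repeating that it is a
linear form; a linear form is meant, as in the proposition it rests on.) -/
theorem result (k : Type u) [Field k] (r : ℕ)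
    (M : Type u) [AddCommGroup M] [Module k M] [Module (MvPolynomial (Fin (r + 1)) k) M]
    [IsScalarTower k (MvPolynomial (Fin (r + 1)) k) M] [Module.Finite (MvPolynomial (Fin (r + 1)) k) M]
    (ℳ : ℤ → Submodule k M) [DirectSum.Decomposition ℳ] [SetLike.GradedSMul (GrSyz.stdGr k (Fin (r + 1))) ℳ]
    (x : MvPolynomial (Fin (r + 1)) k) (hx : x ∈ GrSyz.stdGr k (Fin (r + 1)) 1)
    (hq : IsFiniteLength (MvPolynomial (Fin (r + 1)) k) ↥(Submodule.torsionBy (MvPolynomial (Fin (r + 1)) k) M x))
    (N : Type u) [AddCommGroup N] [Module k N] [Module (MvPolynomial (Fin (r + 1)) k) N]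
    [IsScalarTower k (MvPolynomial (Fin (r + 1)) k) N] [Module.Finite (MvPolynomial (Fin (r + 1)) k) N]
    (𝒩 : ℤ → Submodule k N) [DirectSum.Decomposition 𝒩] [SetLike.GradedSMul (GrSyz.stdGr k (Fin (r + 1))) 𝒩]
    (π : M →ₗ[MvPolynomial (Fin (r + 1)) k] N) (hπ : Function.Surjective π) (hπg : GrLC.IsGrHom ℳ 𝒩 π)
    (hker : LinearMap.ker π = LinearMap.range (x • (LinearMap.id : M →ₗ[MvPolynomial (Fin (r + 1)) k] M)))
    (E : GrLC.StarInjRes (GrSyz.stdGr k (Fin (r + 1))) ℳ) :
    GrSyz.reg (GrSyz.stdGr k (Fin (r + 1))) ℳ (GrSyz.irrel (GrSyz.stdGr k (Fin (r + 1)))).toIdeal =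
      GrLC.endDeg (E.Hgr (GrSyz.irrel (GrSyz.stdGr k (Fin (r + 1)))) 0) ⊔ GrSyz.reg (GrSyz.stdGr k (Fin (r + 1))) 𝒩 (GrSyz.irrel (GrSyz.stdGr k (Fin (r + 1)))).toIdeal := by
  classical
  let a := GrSyz.irrel (GrSyz.stdGr k (Fin (r + 1)))
  let E' := GrLib8.starRes (𝒜 := GrSyz.stdGr k (Fin (r + 1))) 𝒩
  let X := GrLib8.gmodPieces (GrSyz.stdGr k (Fin (r + 1))) ℳ
  let Y := GrLib8.gmodPieces (GrSyz.stdGr k (Fin (r + 1))) 𝒩
  have h1 : a.toIdeal ≤ _ := GrLib8.irrel_le_span_one k (r + 1)
  have hxa : x ∈ a.toIdeal := GrLib8.mem_irrel_of_pos _ one_pos hx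
  refine GrLib8.eq_of_forall_int_le fun d => ?_
  rw [sup_le_iff, GrLib8.reg_le_iff, GrLib8.reg_le_iff, GrLib8.endDeg_le_iff]
  simp only [GrLib8.Hgr_eq_bot_iff, ← GrLib8.hVan_of_pieces_res E]
  constructor
  · intro hX
    refine ⟨fun g hg => hX 0 g (by simpa using hg), fun i g hg => ?_⟩
    exact GrLib8.filter_right ℳ 𝒩 hx hq π hπ hπg hker i g (hX i g hg) (hX (i + 1) (g - 1) (by push_cast; omega))
  · rintro ⟨h0, hY⟩ i g hg
    rcases i with _ | j
    · exact h0 g (by simpa using hg)
    · refine GrLib8.hVan_of_filter (X := X) (Y := Y) hx hxa π hπ (fun g m hm => (add_zero g).symm ▸ hπg g m hm)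
        hker (GrLib8.torsion_of_finiteLength ℳ x 1 hx hq) j (d - j) (fun g' hg' => hY j g' (by omega)) g ?_
      push_cast at hg
      omega

end Groth.Agent.S15421
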