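import Groth.Statements.S15422
import Groth.Agent.GrLib8.RegStd
-- import your own Groth.Agent.* helpers here

set_option autoImplicit false
universe u
open GrSyz

namespace Groth.Agent.S15422

/-- Let k be a field, S = k[x_0, …, x_r] graded by degree, 𝔪 = (x_0, …, x_r) and M a finitely generated
ℤ-graded S-module of finite length. Then the Castelnuovo–Mumford regularity of M, in the sense of
minimal graded free resolutions (an extended integer, −∞ for the zero module), equals the largest
degree d with M_d ≠ 0. -/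
theorem result (k : Type u) [Field k] (r : ℕ)
    (M : Type u) [AddCommGroup M] [Module k M] [Module (MvPolynomial (Fin (r + 1)) k) M]
    [IsScalarTower k (MvPolynomial (Fin (r + 1)) k) M] [Module.Finite (MvPolynomial (Fin (r + 1)) k) M]
    (ℳ : ℤ → Submodule k M) [DirectSum.Decomposition ℳ] [SetLike.GradedSMul (GrSyz.stdGr k (Fin (r + 1))) ℳ]
    (hM : IsFiniteLength (MvPolynomial (Fin (r + 1)) k) M) :
    GrSyz.reg (GrSyz.stdGr k (Fin (r + 1))) ℳ (GrSyz.irrel (GrSyz.stdGr k (Fin (r + 1)))).toIdeal = GrLC.endDeg (fun n => (ℳ n).toAddSubgroup) := by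
  classical
  let 𝒜 := GrSyz.stdGr k (Fin (r + 1))
  let X := GrLib8.gmodPieces 𝒜 ℳ
  haveI : Module.Finite (MvPolynomial (Fin (r + 1)) k) X.carrier := inferInstanceAs (Module.Finite _ M)
  have htors := GrLib8.isPowerTorsion_of_isFiniteLength 𝒜 ℳ (GrLib8.stdGr_nonneg k (Fin (r + 1))) hM
  refine GrLib8.eq_of_forall_int_le fun d => ?_
  rw [GrLib8.reg_le_iff, GrLib8.endDeg_le_iff]
  constructor
  · intro h g hg
    refine (AddSubgroup.eq_bot_iff_forall _).2 fun m hm => ?_
    obtain ⟨e, he⟩ := GrLib8.exists_H0_equiv (GrLib8.starRes X.gr) (GrSyz.irrel 𝒜)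
    have h0 := (GrLib8.Hcomp_eq_bot_iff _ _ 0 g).1 (h 0 g (by simpa using hg) (GrLib8.starRes X.gr)) _
      ((he g ⟨m, htors m⟩).1 hm)
    exact congrArg Subtype.val (e.map_eq_zero_iff.1 h0)
  · intro h i g hg
    rcases i with _ | i
    · exact GrLib8.hVan_zero_of fun m _ hm => (AddSubgroup.eq_bot_iff_forall _).1 (h g (by simpa using hg)) m hm
    · exact GrLib8.hVan_of_torsion htors i g

end Groth.Agent.S15422
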