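import Groth.Statements.S15425
import Groth.Agent.GrLib8.RegQuot
-- import your own Groth.Agent.* helpers here

set_option autoImplicit false
universe u
open GrSyz

namespace Groth.Agent.S15425

/-- Let k be a field, S = k[x_0, …, x_r] graded by degree, 𝔪 = (x_0, …, x_r), M a finitely generated
ℤ-graded S-module and y_1, …, y_t linear forms that form a weakly regular sequence on M (each y_j is
a non-zerodivisor on M/(y_1, …, y_{j−1})M) with N = M/(y_1, …, y_t)M of finite length; N is given as
a graded module with a surjective degree-preserving S-linear map π : M → N whose kernel is (y_1, …,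
y_t)M. Then the Castelnuovo–Mumford regularity of M in the sense of minimal graded free resolutions
equals the largest degree d with N_d ≠ 0 (−∞ when N = 0). (The published statement assumes M
Cohen–Macaulay and the regular sequence maximal; for a regular sequence of linear forms this is the
same as the quotient having finite length, the form used here.) -/
theorem result (k : Type u) [Field k] (r : ℕ)
    (M : Type u) [AddCommGroup M] [Module k M] [Module (MvPolynomial (Fin (r + 1)) k) M]
    [IsScalarTower k (MvPolynomial (Fin (r + 1)) k) M] [Module.Finite (MvPolynomial (Fin (r + 1)) k) M]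
    (ℳ : ℤ → Submodule k M) [DirectSum.Decomposition ℳ] [SetLike.GradedSMul (GrSyz.stdGr k (Fin (r + 1))) ℳ]
    (ys : List (MvPolynomial (Fin (r + 1)) k)) (hys : ∀ y ∈ ys, y ∈ GrSyz.stdGr k (Fin (r + 1)) 1)
    (hreg : RingTheory.Sequence.IsWeaklyRegular M ys)
    (N : Type u) [AddCommGroup N] [Module k N] [Module (MvPolynomial (Fin (r + 1)) k) N]
    [IsScalarTower k (MvPolynomial (Fin (r + 1)) k) N] [Module.Finite (MvPolynomial (Fin (r + 1)) k) N]
    (𝒩 : ℤ → Submodule k N) [DirectSum.Decomposition 𝒩] [SetLike.GradedSMul (GrSyz.stdGr k (Fin (r + 1))) 𝒩]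
    (π : M →ₗ[MvPolynomial (Fin (r + 1)) k] N) (hπ : Function.Surjective π) (hπg : GrLC.IsGrHom ℳ 𝒩 π)
    (hker : LinearMap.ker π = Ideal.ofList ys • (⊤ : Submodule (MvPolynomial (Fin (r + 1)) k) M))
    (hN : IsFiniteLength (MvPolynomial (Fin (r + 1)) k) N) :
    GrSyz.reg (GrSyz.stdGr k (Fin (r + 1))) ℳ (GrSyz.irrel (GrSyz.stdGr k (Fin (r + 1)))).toIdeal = GrLC.endDeg (fun n => (𝒩 n).toAddSubgroup) := by
  classical
  let 𝒜 := GrSyz.stdGr k (Fin (r + 1))
  let X := GrLib8.gmodPieces 𝒜 ℳ
  haveI : Module.Finite (MvPolynomial (Fin (r + 1)) k) X.carrier := inferInstanceAs (Module.Finite _ M)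
  have htors := GrLib8.isPowerTorsion_of_isFiniteLength 𝒜 𝒩 (GrLib8.stdGr_nonneg k (Fin (r + 1))) hN
  have htors' : ∀ m : X.carrier, ∃ j : ℕ, ∀ c ∈ (GrSyz.irrel 𝒜).toIdeal ^ j,
      c • m ∈ Ideal.ofList ys • (⊤ : Submodule (MvPolynomial (Fin (r + 1)) k) X.carrier) := fun (m : M) => by
    obtain ⟨j, hj⟩ := htors (π m)
    exact ⟨j, fun c hc => hker.le (LinearMap.mem_ker.2 ((map_smul π c m).trans (hj c hc)))⟩
  have hpiece : ∀ g, ((fun n => (𝒩 n).toAddSubgroup) g = ⊥ ↔
      ∀ m ∈ X.gr g, m ∈ Ideal.ofList ys • (⊤ : Submodule (MvPolynomial (Fin (r + 1)) k) X.carrier)) := by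
    intro g
    rw [AddSubgroup.eq_bot_iff_forall]
    constructor
    · intro h (m : M) hm
      exact hker.le (LinearMap.mem_ker.2 (h _ (hπg g m hm)))
    · intro h y hy
      obtain ⟨w, hw, rfl⟩ := GrLib8.exists_preimage_mem (ℳ := ℳ) (𝒩 := 𝒩) π (GrLib8.isGrHomDeg_zero_iff.2 hπg) hy (hπ y)
      rw [sub_zero] at hw
      exact LinearMap.mem_ker.1 (hker.ge (h w hw))
  refine GrLib8.eq_of_forall_int_le fun d => ?_
  rw [GrLib8.reg_le_iff, GrLib8.endDeg_le_iff]
  simp only [hpiece]
  exact ⟨GrLib8.mem_of_regBd ys X hys hreg htors' d,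
    GrLib8.hVan_of_regular_seq ys X hys (fun y hy => GrLib8.mem_irrel_of_pos _ one_pos (hys y hy)) hreg htors' d⟩

end Groth.Agent.S15425
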