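import Groth.Statements.S15430
import Groth.Agent.GrLib8.SyzLen
import Groth.Agent.GrLib8.StdField
-- import your own Groth.Agent.* helpers here

set_option autoImplicit false
universe u
open GrSyz

namespace Groth.Agent.S15430

/-- Let k be a field, S = k[x_0, …, x_r] graded by degree, 𝔪 = (x_0, …, x_r), M a finitely generated
ℤ-graded S-module and F a minimal graded free resolution of M by free modules of finite rank with
homogeneous bases (all matrix entries in 𝔪). Then the length of F is the projective dimension of M:
for every natural number n, all terms F_i with i > n vanish if and only if M has projective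
dimension at most n as an S-module (all Ext^i_S(M, −) with i > n vanish). -/
theorem result (k : Type u) [Field k] (r : ℕ)
    (M : Type u) [AddCommGroup M] [Module k M] [Module (MvPolynomial (Fin (r + 1)) k) M]
    [IsScalarTower k (MvPolynomial (Fin (r + 1)) k) M] [Module.Finite (MvPolynomial (Fin (r + 1)) k) M]
    (ℳ : ℤ → Submodule k M) [DirectSum.Decomposition ℳ] [SetLike.GradedSMul (GrSyz.stdGr k (Fin (r + 1))) ℳ]
    (F : GrSyz.FreeRes (GrSyz.stdGr k (Fin (r + 1))) ℳ) (hF : F.IsMinimal (GrSyz.irrel (GrSyz.stdGr k (Fin (r + 1)))).toIdeal) (n : ℕ) :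
    F.HasLengthLE n ↔ CategoryTheory.HasProjectiveDimensionLE (ModuleCat.of (MvPolynomial (Fin (r + 1)) k) M) n := by
  classical
  exact GrLib8.hasLengthLE_iff (GrLib8.stdGr_nonneg k (Fin (r + 1))) F hF n

end Groth.Agent.S15430
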