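import Groth.Statements.S15432
import Groth.Agent.GrLib8.HBDegrees
import Groth.Agent.GrLib8.Basic
-- import your own Groth.Agent.* helpers here

set_option autoImplicit false
universe u
open GrSyz

namespace Groth.Agent.S15432

/-- Let k be a field, Z a nonempty finite set of nonzero vectors of k^3, regarded as points of the
projective plane, I ⊆ S = k[x_0, x_1, x_2] the homogeneous vanishing ideal of Z (a polynomial lies
in I exactly when each of its homogeneous components vanishes at every vector of Z), M = S/I given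
as a ℤ-graded S-module with a surjective degree-preserving S-linear map π : S → M with kernel I, and
F a minimal graded free resolution of M of length at most 2 whose terms F_1 and F_2 have ranks t + 1
and t, with basis degrees a_1 ≥ … ≥ a_{t+1} for F_1 and b_1 ≥ … ≥ b_t for F_2 (non-increasing along
the chosen bases), so that the (i, j) entry of the matrix F_2 → F_1 has degree b_j − a_i. Put e_i =
b_i − a_i and f_i = b_i − a_{i+1}. Then e_i ≥ 1 and f_i ≥ 1 for every i, and Σ_i a_i = Σ_j b_j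
(equivalently a_i = Σ_{j < i} e_j + Σ_{j ≥ i} f_j for every i). (The ordering of both bases is the
standing assumption under which the published statement is made; this row carries it as the
hypotheses on the basis degrees. The further inequalities f_i ≥ e_i and f_i ≥ e_{i+1} follow at once
from the ordering and are not restated.) -/
theorem result (k : Type u) [Field k]
    (Z : Finset (Fin 3 → k)) (hZ : ∀ p ∈ Z, p ≠ 0) (hZne : Z.Nonempty) (I : Ideal (MvPolynomial (Fin 3) k))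
    (hI : ∀ f : MvPolynomial (Fin 3) k, f ∈ I ↔
      ∀ p ∈ Z, ∀ j : ℕ, MvPolynomial.eval p (MvPolynomial.homogeneousComponent j f) = 0)
    (M : Type u) [AddCommGroup M] [Module k M] [Module (MvPolynomial (Fin 3) k) M] [IsScalarTower k (MvPolynomial (Fin 3) k) M]
    (ℳ : ℤ → Submodule k M) [DirectSum.Decomposition ℳ] [SetLike.GradedSMul (GrSyz.stdGr k (Fin 3)) ℳ]
    (π : MvPolynomial (Fin 3) k →ₗ[MvPolynomial (Fin 3) k] M) (hπ : Function.Surjective π)
    (hπg : GrLC.IsGrHom (GrSyz.stdGr k (Fin 3)) ℳ π) (hker : LinearMap.ker π = I)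
    (F : GrSyz.FreeRes (GrSyz.stdGr k (Fin 3)) ℳ) (hF : F.IsMinimal (GrSyz.irrel (GrSyz.stdGr k (Fin 3))).toIdeal) (hlen : F.HasLengthLE 2)
    (t : ℕ) (h1 : F.rk 1 = t + 1) (h2 : F.rk 2 = t)
    (ha : ∀ i j : Fin (t + 1), i ≤ j → F.deg 1 (Fin.cast h1.symm j) ≤ F.deg 1 (Fin.cast h1.symm i))
    (hb : ∀ i j : Fin t, i ≤ j → F.deg 2 (Fin.cast h2.symm j) ≤ F.deg 2 (Fin.cast h2.symm i)) :
    (∀ i : Fin t, 1 ≤ F.deg 2 (Fin.cast h2.symm i) - F.deg 1 (Fin.cast h1.symm i.castSucc) ∧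
        1 ≤ F.deg 2 (Fin.cast h2.symm i) - F.deg 1 (Fin.cast h1.symm i.succ)) ∧
      ∑ i : Fin (t + 1), F.deg 1 (Fin.cast h1.symm i) = ∑ j : Fin t, F.deg 2 (Fin.cast h2.symm j) := by
  classical
  haveI : Module.Finite (MvPolynomial (Fin 3) k) M := Module.Finite.of_surjective π hπ
  have hone : π 1 ∈ ℳ 0 := hπg 0 1 (SetLike.one_mem_graded _)
  have hπ1 : π 1 ≠ 0 := fun h => by
    obtain ⟨p, hp⟩ := hZne
    have h1 : (1 : MvPolynomial (Fin 3) k) ∈ I := hker.le (LinearMap.mem_ker.2 h)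
    have h2 := (hI 1).1 h1 p hp 0
    simp at h2
  have hpre : ∀ g : ℤ, ∀ y ∈ ℳ g, ∃ f ∈ GrSyz.stdGr k (Fin 3) g, π f = y := fun g y hy => by
    obtain ⟨f, hf, rfl⟩ := Groth.Agent.GrLib8.exists_preimage_mem (ℳ := GrSyz.stdGr k (Fin 3)) (𝒩 := ℳ) π
      (Groth.Agent.GrLib8.isGrHomDeg_zero_iff.2 hπg) hy (hπ y)
    exact ⟨f, by rwa [sub_zero] at hf, rfl⟩
  have hN : ∀ g : ℤ, (Module.finrank k ↥(ℳ g) : ℤ) ≤ (Z.card : ℤ) := fun g => by
    rcases lt_or_ge g 0 with hg | hg
    · have h0 : ℳ g = ⊥ := (Submodule.eq_bot_iff _).2 fun y hy => by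
        obtain ⟨f, hf, rfl⟩ := hpre g y hy
        rw [Groth.Agent.GrLib8.stdGr_nonneg k (Fin 3) g hg f hf, map_zero]
      rw [h0, finrank_bot]
      exact Int.natCast_nonneg _
    obtain ⟨n, rfl⟩ := Int.eq_ofNat_of_zero_le hg
    haveI := (Groth.Agent.GrLib8.stdGr_piece (k := k) 2 (n : ℤ)).1
    let P : GrSyz.stdGr k (Fin 3) (n : ℤ) →ₗ[k] ℳ (n : ℤ) := ((π.restrictScalars k).comp
      (GrSyz.stdGr k (Fin 3) (n : ℤ)).subtype).codRestrict _ fun f => hπg _ _ f.2
    have hP : Function.Surjective P := fun y => by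
      obtain ⟨f, hf, hfy⟩ := hpre _ y.1 y.2
      exact ⟨⟨f, hf⟩, Subtype.ext hfy⟩
    let L : GrSyz.stdGr k (Fin 3) (n : ℤ) →ₗ[k] (Z → k) :=
      (LinearMap.pi fun p : Z => (MvPolynomial.aeval (R := k) p.1).toLinearMap).comp
        (GrSyz.stdGr k (Fin 3) (n : ℤ)).subtype
    have hL : LinearMap.ker L ≤ LinearMap.ker P := fun f hf => by
      refine LinearMap.mem_ker.2 (Subtype.ext (LinearMap.mem_ker.1 (hker.ge ((hI f.1).2 fun p hp j => ?_))))
      have hf' : f.1.IsHomogeneous n := (MvPolynomial.mem_homogeneousSubmodule _ _).1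
        (Groth.Agent.GrLib8.stdGr_natCast (k := k) 3 n ▸ f.2)
      rw [MvPolynomial.homogeneousComponent_of_mem ((MvPolynomial.mem_homogeneousSubmodule _ _).2 hf')]
      split_ifs with hj
      · have h1 := congrFun (LinearMap.mem_ker.1 hf) ⟨p, hp⟩
        simpa [L, MvPolynomial.aeval_eq_eval] using h1
      · rw [map_zero]
    have e1 := P.finrank_range_add_finrank_ker
    have e2 := L.finrank_range_add_finrank_ker
    rw [LinearMap.range_eq_top.2 hP, finrank_top] at e1
    have e3 := Submodule.finrank_mono hL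
    have e4 := Submodule.finrank_le (LinearMap.range L)
    rw [Module.finrank_fintype_fun_eq_card, Fintype.card_coe] at e4
    omega
  obtain ⟨hA, hB⟩ := Groth.Agent.GrLib8.HBDegrees.sum_eq hlen hN
  have h0 : F.rk 0 = 1 := by omega
  let b₀ : Fin (F.rk 0) := ⟨0, by omega⟩
  have hu : ∀ b : Fin (F.rk 0), b = b₀ := fun b => Fin.ext (by have := b.2; show b.1 = 0; omega)
  have hdeg : F.deg 0 b₀ = 0 := by
    obtain ⟨v, hv⟩ := F.aug_surjective (π 1)
    rw [Fintype.linearCombination_apply, Finset.sum_eq_single b₀ (fun b _ h => absurd (hu b) h)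
      (fun h => absurd (Finset.mem_univ _) h)] at hv
    have hne : F.aug b₀ ≠ 0 := fun h => hπ1 (by rw [← hv, h, smul_zero])
    rcases lt_trichotomy (F.deg 0 b₀) 0 with h | h | h
    · obtain ⟨f, hf, hfy⟩ := hpre _ _ (F.aug_mem b₀)
      exact absurd (by rw [← hfy, Groth.Agent.GrLib8.stdGr_nonneg k (Fin 3) _ h f hf, map_zero]) hne
    · exact h
    · refine absurd ?_ hπ1
      rw [← DirectSum.decompose_of_mem_same ℳ hone, ← hv,
        Groth.Agent.GrLib8.decompose_smul_of_mem (GrSyz.stdGr k (Fin 3)) ℳ (F.aug_mem b₀),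
        Groth.Agent.GrLib8.stdGr_nonneg k (Fin 3) (0 - F.deg 0 b₀) (by omega) _ (SetLike.coe_mem _), zero_smul]
  have hlt := Groth.Agent.GrLib8.HBDegrees.deg_lt hF hlen h0 t h1 h2 ha hb
  refine ⟨fun i => ⟨hlt i, le_trans (hlt i) (sub_le_sub_left (ha i.castSucc i.succ (Fin.castSucc_le_succ i)) _)⟩, ?_⟩
  have hs0 : ∑ b, F.deg 0 b = 0 := Finset.sum_eq_zero fun b _ => by rw [hu b, hdeg]
  have e1 : ∑ i : Fin (t + 1), F.deg 1 (Fin.cast h1.symm i) = ∑ b, F.deg 1 b :=
    Fintype.sum_equiv (finCongr h1.symm) _ _ fun i => rfl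
  have e2 : ∑ j : Fin t, F.deg 2 (Fin.cast h2.symm j) = ∑ b, F.deg 2 b :=
    Fintype.sum_equiv (finCongr h2.symm) _ _ fun j => rfl
  rw [e1, e2]
  omega

end Groth.Agent.S15432
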