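import Groth.Statements.S15433
import Groth.Agent.GrLib8.CyclicLength
import Groth.Agent.GrLib8.RegStd
import Groth.Agent.S15425
-- import your own Groth.Agent.* helpers here

set_option autoImplicit false
universe u
open GrSyz

namespace Groth.Agent.S15433

/-- Let k be a field, S = k[x_0, …, x_r] graded by degree, 𝔪 = (x_0, …, x_r), and M = S/I a graded
quotient of S, given with a surjective degree-preserving S-linear map π : S → M whose kernel I
contains no nonzero linear form. Let y_0, …, y_t be linear forms forming a weakly regular sequence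
on M (each a non-zerodivisor modulo the previous ones) and N = M/(y_0, …, y_t)M, given as a graded
module with a surjective degree-preserving S-linear map σ : M → N with kernel (y_0, …, y_t)M, and
suppose N has finite length ℓ. Then reg M + (r − t) ≤ ℓ, reg being the Castelnuovo–Mumford
regularity of M in the sense of minimal graded free resolutions. (The published statement is reg S_X
≤ deg X − codim X for an arithmetically Cohen–Macaulay subvariety X of P^r not contained in a
hyperplane; this row is the algebraic statement its proof establishes, with S_X any graded quotient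
of S by an ideal without linear forms, the maximal regular sequence of linear forms given, deg X
replaced by the length of S_X/(y_0, …, y_t)S_X and codim X by r − t, which agree with the degree and
the codimension in that situation.) -/
theorem result (k : Type u) [Field k] (r : ℕ)
    (M : Type u) [AddCommGroup M] [Module k M] [Module (MvPolynomial (Fin (r + 1)) k) M]
    [IsScalarTower k (MvPolynomial (Fin (r + 1)) k) M] [Module.Finite (MvPolynomial (Fin (r + 1)) k) M]
    (ℳ : ℤ → Submodule k M) [DirectSum.Decomposition ℳ] [SetLike.GradedSMul (GrSyz.stdGr k (Fin (r + 1))) ℳ]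
    (π : MvPolynomial (Fin (r + 1)) k →ₗ[MvPolynomial (Fin (r + 1)) k] M) (hπ : Function.Surjective π)
    (hπg : GrLC.IsGrHom (GrSyz.stdGr k (Fin (r + 1))) ℳ π)
    (hlin : ∀ x : MvPolynomial (Fin (r + 1)) k, x ∈ GrSyz.stdGr k (Fin (r + 1)) 1 → π x = 0 → x = 0)
    (ys : List (MvPolynomial (Fin (r + 1)) k)) (hys : ∀ y ∈ ys, y ∈ GrSyz.stdGr k (Fin (r + 1)) 1)
    (hreg : RingTheory.Sequence.IsWeaklyRegular M ys)
    (N : Type u) [AddCommGroup N] [Module k N] [Module (MvPolynomial (Fin (r + 1)) k) N]
    [IsScalarTower k (MvPolynomial (Fin (r + 1)) k) N]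
    (𝒩 : ℤ → Submodule k N) [DirectSum.Decomposition 𝒩] [SetLike.GradedSMul (GrSyz.stdGr k (Fin (r + 1))) 𝒩]
    (σ : M →ₗ[MvPolynomial (Fin (r + 1)) k] N) (hσ : Function.Surjective σ) (hσg : GrLC.IsGrHom ℳ 𝒩 σ)
    (hker : LinearMap.ker σ = Ideal.ofList ys • (⊤ : Submodule (MvPolynomial (Fin (r + 1)) k) M))
    (ℓ : ℕ) (hℓ : Module.length (MvPolynomial (Fin (r + 1)) k) N = (ℓ : ℕ∞)) :
    GrSyz.reg (GrSyz.stdGr k (Fin (r + 1))) ℳ (GrSyz.irrel (GrSyz.stdGr k (Fin (r + 1)))).toIdeal + ((((r : ℤ) + 1 - (ys.length : ℤ) : ℤ) : WithTop ℤ) : WithBot (WithTop ℤ)) ≤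
      (((ℓ : ℤ) : WithTop ℤ) : WithBot (WithTop ℤ)) := by
  classical
  haveI : Module.Finite (MvPolynomial (Fin (r + 1)) k) N := Module.Finite.of_surjective σ hσ
  have hN : IsFiniteLength (MvPolynomial (Fin (r + 1)) k) N :=
    Module.length_ne_top_iff.1 (by rw [hℓ]; exact ENat.natCast_ne_top ℓ)
  have hp : π 1 ∈ ℳ 0 := hπg 0 1 (SetLike.one_mem_graded _)
  have hn₀ : σ (π 1) ∈ 𝒩 0 := hσg 0 _ hp
  have hgen : ∀ v : N, ∃ a : MvPolynomial (Fin (r + 1)) k, a • σ (π 1) = v := fun v => by
    obtain ⟨w, rfl⟩ := hσ v
    obtain ⟨a, rfl⟩ := hπ w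
    exact ⟨a, by rw [← map_smul, ← map_smul, smul_eq_mul, mul_one]⟩
  have hfin := fun g => Groth.Agent.GrLib8.CyclicLength.finite_piece (k := k) (n := r + 1) 𝒩 g
  have hone : r + 1 ≤ Module.finrank k (𝒩 1) + ys.length := by
    haveI := hfin 1
    let L : (Fin (r + 1) → k) →ₗ[k] MvPolynomial (Fin (r + 1)) k :=
      Fintype.linearCombination k fun i => (MvPolynomial.X i : MvPolynomial (Fin (r + 1)) k)
    have hL : ∀ c, L c ∈ GrSyz.stdGr k (Fin (r + 1)) 1 := fun c => by
      rw [Fintype.linearCombination_apply]
      exact Submodule.sum_mem _ fun i _ => Submodule.smul_mem _ _ (Groth.Agent.GrLib8.CyclicLength.X_mem i)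
    have hLi : Function.Injective L := by
      rw [injective_iff_map_eq_zero]
      intro c hc
      funext i
      have h := congrArg (MvPolynomial.coeff (Finsupp.single i 1)) hc
      simpa [L, Fintype.linearCombination_apply, MvPolynomial.coeff_sum, MvPolynomial.coeff_smul,
        MvPolynomial.coeff_X, Finsupp.single_left_inj] using h
    let T : (Fin (r + 1) → k) →ₗ[k] 𝒩 1 := LinearMap.codRestrict (𝒩 1) (((σ.comp π).restrictScalars k).comp L)
      fun c => hσg 1 _ (hπg 1 _ (hL c))
    let W : Submodule k M := Submodule.span k ((fun y => π y) '' {y | y ∈ ys})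
    have hW : Module.finrank k W ≤ ys.length := by
      have he : (fun y => π y) '' {y | y ∈ ys} = ((ys.toFinset.image fun y => π y : Finset M) : Set M) := by simp
      show Module.finrank k (Submodule.span k ((fun y => π y) '' {y | y ∈ ys})) ≤ _
      rw [he]
      exact (finrank_span_finset_le_card _).trans (Finset.card_image_le.trans (List.toFinset_card_le ys))
    haveI : Module.Finite k W := Module.Finite.span_of_finite k (ys.finite_toSet.image _)
    have hk : ∀ c ∈ LinearMap.ker T, π (L c) ∈ W := fun c hc => by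
      have h0 : π (L c) ∈ LinearMap.ker σ := congrArg Subtype.val (LinearMap.mem_ker.1 hc)
      rw [hker] at h0
      have h1 := Groth.Agent.GrLib8.CyclicLength.comp_one_mem_span ℳ π hπ hp ys hys h0
      rwa [DirectSum.decompose_of_mem_same ℳ (hπg 1 _ (hL c))] at h1
    let K : LinearMap.ker T →ₗ[k] W := LinearMap.codRestrict W
      (((π.restrictScalars k).comp L).comp (LinearMap.ker T).subtype) fun c => hk c.1 c.2
    have hK : Function.Injective K := by
      rw [injective_iff_map_eq_zero]
      intro c hc
      exact Subtype.ext (hLi ((hlin _ (hL c.1) (congrArg Subtype.val hc)).trans (map_zero L).symm))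
    have h1 := T.finrank_range_add_finrank_ker
    rw [Module.finrank_fin_fun] at h1
    have h2 := Submodule.finrank_le (LinearMap.range T)
    have h3 := LinearMap.finrank_le_finrank_of_injective hK
    omega
  rw [Groth.Agent.S15425.result k r M ℳ ys hys hreg N 𝒩 σ hσ hσg hker hN, Groth.Agent.GrLib8.add_coe_le_iff,
    Groth.Agent.GrLib8.endDeg_le_iff]
  intro g hg
  by_contra hne
  have hne' : 𝒩 g ≠ ⊥ := fun h => hne (by rw [h]; rfl)
  have h := Groth.Agent.GrLib8.CyclicLength.deg_le 𝒩 hn₀ hgen hfin hℓ hne'
  omega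

end Groth.Agent.S15433
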