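import Groth.Statements.S15434
import Groth.Agent.GrLib8.RegTilde.Std

set_option autoImplicit false
universe u
open GrSyz

namespace Groth.Agent.S15434

/-- Let k be a field, S = k[x_0, …, x_r] graded by degree, 𝔪 = (x_0, …, x_r), and M a finitely generated
ℤ-graded S-module; M̃ denotes the O-module on P^r_k associated with the pieces of M of non-negative
degree (it depends only on the pieces of large degree). If the Castelnuovo–Mumford regularity of M
in the sense of minimal graded free resolutions is at most d, then the sheaf M̃ is d-regular: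
H^i(P^r_k, M̃(d − i)) = 0 for 1 ≤ i ≤ r. In words, reg M̃ ≤ reg M. (The published statement also
asserts that equality holds exactly when M is the module of twisted global sections of M̃; that
characterisation fails in the 'only if' direction, for instance for M = S ⊕ k, and only the
inequality is stated here.) -/
theorem result (k : Type u) [Field k] (r : ℕ)
    (M : Type u) [AddCommGroup M] [Module k M] [Module (MvPolynomial (Fin (r + 1)) k) M]
    [IsScalarTower k (MvPolynomial (Fin (r + 1)) k) M] [Module.Finite (MvPolynomial (Fin (r + 1)) k) M]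
    (ℳ : ℤ → Submodule k M) [DirectSum.Decomposition ℳ] [SetLike.GradedSMul (GrSyz.stdGr k (Fin (r + 1))) ℳ]
    [SetLike.GradedSMul (CohB1.polyGrading r k) (fun n : ℕ => ℳ (n : ℤ))] (d : ℤ)
    (hd : GrSyz.IsRegLE (GrSyz.stdGr k (Fin (r + 1))) ℳ (GrSyz.irrel (GrSyz.stdGr k (Fin (r + 1)))).toIdeal d) :
    Curv2.IsMRegular k r (GrTilde.tilde (CohB1.polyGrading r k) (fun n : ℕ => ℳ (n : ℤ)) 0) d := by
  obtain ⟨F, -, hF⟩ := hd
  exact fun i hi _ => GrLib8.RegTilde.subsingleton_HH_twist_tilde F hF i hi

end Groth.Agent.S15434
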