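import Groth.Statements.S15436
import Groth.Agent.GrLib8.TorMin
import Groth.Agent.GrLib8.ABStd
import Mathlib.RingTheory.SimpleModule.Basic
-- import your own Groth.Agent.* helpers here

set_option autoImplicit false
universe u
open GrSyz

namespace Groth.Agent.S15436

/-- Let k be a field, S = k[x_0, …, x_r] graded by degree, 𝔪 = (x_0, …, x_r), M a finitely generated
ℤ-graded S-module and F a minimal graded free resolution of M by free modules of finite rank with
homogeneous bases (all matrix entries in 𝔪). Then for every i the rank of F_i (the number of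
elements of a minimal generating set of the i-th syzygy module) equals the length, i.e. the
dimension over k = S/𝔪, of Tor_i^S(S/𝔪, M), where Tor_i is the i-th left derived functor of S/𝔪 ⊗_S
− on S-modules. (The published statement is the degree-by-degree refinement: F_i has exactly dim_k
Tor_i^S(k, M)_j basis vectors of degree j; the grading on Tor is not available here, so the counts
are summed over j.) -/
theorem result (k : Type u) [Field k] (r : ℕ)
    (M : Type u) [AddCommGroup M] [Module k M] [Module (MvPolynomial (Fin (r + 1)) k) M]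
    [IsScalarTower k (MvPolynomial (Fin (r + 1)) k) M] [Module.Finite (MvPolynomial (Fin (r + 1)) k) M]
    (ℳ : ℤ → Submodule k M) [DirectSum.Decomposition ℳ] [SetLike.GradedSMul (GrSyz.stdGr k (Fin (r + 1))) ℳ]
    (F : GrSyz.FreeRes (GrSyz.stdGr k (Fin (r + 1))) ℳ) (hF : F.IsMinimal (GrSyz.irrel (GrSyz.stdGr k (Fin (r + 1)))).toIdeal) (i : ℕ) :
    Module.length (MvPolynomial (Fin (r + 1)) k)
        (((CategoryTheory.Tor (ModuleCat.{u} (MvPolynomial (Fin (r + 1)) k)) i).obj
            (ModuleCat.of (MvPolynomial (Fin (r + 1)) k) ((MvPolynomial (Fin (r + 1)) k) ⧸ (GrSyz.irrel (GrSyz.stdGr k (Fin (r + 1)))).toIdeal))).obj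
          (ModuleCat.of (MvPolynomial (Fin (r + 1)) k) M)) = (F.rk i : ℕ∞) := by
  classical
  have hI : (GrSyz.irrel (GrSyz.stdGr k (Fin (r + 1)))).toIdeal =
      RingHom.ker (MvPolynomial.constantCoeff (σ := Fin (r + 1)) (R := k)) := by
    rw [GrLib8.irrel_stdGr_eq_ofList]
    refine le_antisymm (Ideal.span_le.2 fun y hy => ?_) fun p hp => ?_
    · obtain ⟨j, rfl⟩ := List.mem_ofFn.1 hy
      exact MvPolynomial.constantCoeff_X _ j
    · have : p ∈ Ideal.span (MvPolynomial.X '' (Set.univ : Set (Fin (r + 1)))) := by
        rw [MvPolynomial.mem_ideal_span_X_image]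
        intro d hd
        by_contra h
        push Not at h
        rw [show d = 0 from Finsupp.ext fun j => h j trivial] at hd
        exact MvPolynomial.mem_support_iff.1 hd hp
      exact Ideal.span_mono (by rintro _ ⟨j, -, rfl⟩; exact List.mem_ofFn.2 ⟨j, rfl⟩) this
  have hmax : (GrSyz.irrel (GrSyz.stdGr k (Fin (r + 1)))).toIdeal.IsMaximal := by
    rw [hI]
    exact RingHom.ker_isMaximal_of_surjective _ fun a => ⟨MvPolynomial.C a, MvPolynomial.constantCoeff_C _ a⟩
  rw [GrLib8.TorMin.length_tor (GrSyz.irrel (GrSyz.stdGr k (Fin (r + 1)))).toIdeal F.rk F.dLin F.augLin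
    F.aug_surjective (LinearMap.exact_iff.2 F.exact_zero) (fun j => LinearMap.exact_iff.2 (F.exact_succ j))
    (fun j v b => by
      show dotProduct (fun c => F.d j b c) v ∈ _
      rw [dotProduct]
      exact Ideal.sum_mem _ fun c _ => Ideal.mul_mem_right _ _ (hF j b c)) i,
    (Module.length_eq_one_iff).2 (isSimpleModule_iff_isCoatom.2 hmax.out), mul_one]

end Groth.Agent.S15436
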