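import Groth.Statements.S15438
import Groth.Agent.AlgEqPts.Main

set_option autoImplicit false
universe u
open AlgEqCyc

namespace Groth.Agent.S15438

open Groth.Agent

open AlgebraicGeometry CategoryTheory CategoryTheory.Limits in
/-- Let C be a scheme over a field k that is smooth over k, projective over k, integral and of dimension
one, and let P₁, P₂ be two k-rational points of C. Then the zero-cycle [P₁] − [P₂] on C is an
elementary algebraically trivial cycle: it is the difference of the members, at two k-rational
points, of a single family of cycles on C parametrised by a smooth projective integral curve over k,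
every component of the family dominating the parameter curve. In particular [P₁] and [P₂] are
algebraically equivalent on C. (The published statement is over an algebraically closed field of
characteristic zero, where the points are closed points and algebraic equivalence is considered on
smooth projective schemes; this row allows any field, asks the two points to be k-rational and asks
C to be projective over k.) -/
theorem result (k : Type u) [Field k]
    (C : Scheme.{u}) [DecidableEq ↥C] (q : C ⟶ Spec (CommRingCat.of k)) (hs : Smooth q)
    (hp : Neron.IsProjectiveOver k (Over.mk q)) (hi : IsIntegral C) (hd : topologicalKrullDim ↥C = 1)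
    (P₁ P₂ : Spec (CommRingCat.of k) ⟶ C) (h₁ : P₁ ≫ q = 𝟙 _) (h₂ : P₂ ≫ q = 𝟙 _) :
    AlgEqCyc.IsElemAlgTriv q
      (Function.locallyFinsuppWithin.single (P₁ (IsLocalRing.closedPoint k)) (1 : ℤ) -
        Function.locallyFinsuppWithin.single (P₂ (IsLocalRing.closedPoint k)) (1 : ℤ)) := by

  haveI := hi
  haveI : IsClosedImmersion (𝟙 C) := inferInstance
  exact Groth.Agent.AlgEqPts.isElemAlgTriv_single_sub_single (𝟙 C) (Category.id_comp q) hs hp hi hd P₁ P₂ h₁ h₂

end Groth.Agent.S15438
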