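import Groth.Statements.S15440
import Groth.Agent.Lib.PointsChain
import Groth.Agent.Lib.AlgEqPtsMap
import Groth.Agent.CurveInAV.Birational
import Groth.Agent.CurveCohLib.SmoothCurve
import Groth.Agent.H23.MultiP1.Basic
import Groth.Agent.WeilLib.Geometry

set_option autoImplicit false
set_option backward.isDefEq.respectTransparency false
set_option backward.isDefEq.respectTransparency.types false
set_option linter.style.haveILetI false
set_option linter.unusedSectionVars false
set_option maxHeartbeats 400000
universe u
open AlgEqCyc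

namespace Groth.Agent.S15440


open scoped Classical

namespace Groth.Agent.S15440X

open Groth.Agent
open AlgebraicGeometry CategoryTheory CategoryTheory.Limits

theorem isAlgEquiv_of_curve {k : Type u} [Field k] [IsAlgClosed k] {X : Scheme.{u}}
    [DecidableEq ↥X] (p : X ⟶ Spec (CommRingCat.of k)) [IsProper p] [IsIntegral X] (ξ a b : X)
    (hdeg : VarDim.deg p ξ = 1) (ha : IsClosed ({a} : Set X)) (hb : IsClosed ({b} : Set X))
    (hξa : ξ ⤳ a) (hξb : ξ ⤳ b) :
    AlgEqCyc.IsAlgEquiv p (Function.locallyFinsuppWithin.single a (1 : ℤ))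
      (Function.locallyFinsuppWithin.single b (1 : ℤ)) := by
  haveI : IsIntegral (Over.mk p).left := ‹IsIntegral X›
  haveI : IsProper (Over.mk p).hom := ‹IsProper p›
  obtain ⟨C, hint, hsm, hp, w, hdim, hη, -⟩ := CurveInAV.exists_birational (X := Over.mk p) hdeg
  haveI := hint
  haveI := hsm
  haveI := hp
  haveI : IsProper (w.left ≫ (Over.mk p).hom) := by rw [Over.w]; exact hp
  haveI : IsProper w.left := IsProper.of_comp w.left (Over.mk p).hom
  have key : ∀ c : X, IsClosed ({c} : Set X) → ξ ⤳ c →
      ∃ d : C.left, IsClosed ({d} : Set C.left) ∧ w.left d = c := by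
    intro c hc hξc
    obtain ⟨c₁, hc₁⟩ : c ∈ Set.range w.left.base :=
      hξc.mem_closed w.left.isClosedMap.isClosed_range ⟨_, hη⟩
    obtain ⟨d, hd, hdc⟩ := VarDim.exists_closed_specialization C.hom c₁
    exact ⟨d, hdc, (hc₁ ▸ hd.map w.left.continuous : c ⤳ w.left d).mem_closed hc rfl⟩
  obtain ⟨ca, hca, hwa⟩ := key a ha hξa
  obtain ⟨cb, hcb, hwb⟩ := key b hb hξb
  have hd : topologicalKrullDim C.left = 1 := by
    refine le_antisymm hdim ?_
    rw [topologicalKrullDim, Order.krullDim_eq_of_orderIso (irreducibleSetEquivPoints (α := C.left))]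
    refine Order.one_le_krullDim_iff.2 ⟨ca, genericPoint C.left, lt_of_le_not_ge
      (Scheme.le_iff_specializes.2 (genericPoint_specializes ca)) fun h => ?_⟩
    have he : ca = genericPoint C.left :=
      (Scheme.le_iff_specializes.1 h).antisymm (genericPoint_specializes ca) |>.eq
    have h0 := (VarDim.closedPoint_iff_deg_eq_zero p a).1 ha
    rw [← hwa, he, hη, hdeg] at h0
    exact one_ne_zero h0
  have h := AlgEqPts.isElemAlgTriv_of_map (p := p) (q := C.hom) w.left (Over.w w) hsm
    (AlgEqPts.isProjectiveOver_of_proper C.hom hd) hint hd (pointOfClosedPoint C.hom ca hca)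
    (pointOfClosedPoint C.hom cb hcb) (pointOfClosedPoint_comp ..) (pointOfClosedPoint_comp ..)
  rw [pointOfClosedPoint_apply, pointOfClosedPoint_apply] at h
  erw [hwa, hwb] at h
  exact AddSubgroup.subset_closure h

theorem isAlgEquiv_points {k : Type u} [Field k] [IsAlgClosed k] {X : Scheme.{u}}
    [DecidableEq ↥X] (p : X ⟶ Spec (CommRingCat.of k)) [IsProper p] [IsIntegral X] {a b : X}
    (ha : IsClosed ({a} : Set X)) (hb : IsClosed ({b} : Set X)) :
    AlgEqCyc.IsAlgEquiv p (Function.locallyFinsuppWithin.single a (1 : ℤ))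
      (Function.locallyFinsuppWithin.single b (1 : ℤ)) := by
  refine PointsChain.rel_of_connected p (fun a b => AlgEqCyc.IsAlgEquiv p
    (Function.locallyFinsuppWithin.single a (1 : ℤ)) (Function.locallyFinsuppWithin.single b (1 : ℤ)))
    (fun a => ?_) (fun a b h => ?_) (fun a b c h1 h2 => ?_) (isAlgEquiv_of_curve p) ha hb
  · show _ - _ ∈ AlgEqCyc.algTriv p
    rw [sub_self]; exact zero_mem _
  · show _ - _ ∈ AlgEqCyc.algTriv p
    rw [← neg_sub]; exact neg_mem h
  · show _ - _ ∈ AlgEqCyc.algTriv p
    rw [← sub_add_sub_cancel]; exact add_mem h1 h2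

end Groth.Agent.S15440X

open AlgebraicGeometry CategoryTheory CategoryTheory.Limits in
/-- Let k be an algebraically closed field of characteristic zero and X a connected scheme, smooth and
projective over k, with structure morphism p; let δ be the weight function on X induced from weight
0 on the point Spec k and let α be a zero-cycle on X for δ whose degree over k is zero. Then α is
algebraically equivalent to zero on X. (This is one inclusion of the published statement, which
asserts that on such an X the zero-cycles of degree zero, identified there with the homologically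
trivial ones for a fixed Weil cohomology, are exactly the algebraically trivial zero-cycles; the
reverse inclusion is not stated here.) -/
theorem result (k : Type u) [Field k]
    [IsAlgClosed k] [CharZero k] (X : Scheme.{u}) (p : X ⟶ Spec (CommRingCat.of k)) [QuasiCompact p]
    (hs : Smooth p) (hp : Neron.IsProjectiveOver k (Over.mk p)) (hc : ConnectedSpace ↥X)
    (δ : ↥X → ℤ) (hδ : Cyc.DeltaCompat p δ (fun _ => 0)) (α : AlgebraicCycle X ℤ)
    (hα : α ∈ Cyc.Zk X δ 0) (hdeg : ChowOps.deg p δ α = 0) :
    AlgEqCyc.IsAlgEquivZero p α := by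
  haveI := hc
  haveI := hs
  obtain ⟨n, i, hi, hi'⟩ := hp
  haveI : IsClosedImmersion i := hi
  haveI : IsProper p := by
    haveI := H23.MultiP1.isProper_toBase (X := Spec (CommRingCat.of k)) n
    have : IsProper (i ≫ CohB1.ProjSpaceOver.toBase n (Spec (CommRingCat.of k))) := inferInstance
    rwa [hi'] at this
  haveI : CompactSpace X := QuasiCompact.compactSpace_of_compactSpace p
  haveI : IsIntegral X := CurveCohLib.isIntegral_of_smooth_connected p
  have hfin : α.support.Finite := by
    have := α.locallyFiniteSupport.finite_inter_support_of_isCompact (isCompact_univ (X := ↥X))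
    rwa [Set.univ_inter] at this
  set s := hfin.toFinset with hsdef
  have hclosed : ∀ x ∈ s, IsClosed ({x} : Set ↥X) ∧ δ x = 0 := fun x hx => by
    have h0 : δ x = 0 := by
      by_contra h
      exact (Function.mem_support.1 ((Set.Finite.mem_toFinset _).1 hx)) (hα x h)
    refine ⟨(VarDim.closedPoint_iff_deg_eq_zero p x).2 ?_, h0⟩
    obtain ⟨m, hm, hx⟩ := hδ x
    have h : VarDim.tdeg p x = m := (VarDim.tdeg_eq_rdeg p x).trans hm
    rw [h0, zero_add] at hx
    rw [VarDim.deg, h, Cardinal.toNat_natCast]
    exact_mod_cast hx.symm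
  have hdeg' : ∑ x ∈ s, α x = 0 := by
    rw [← hdeg]
    show _ = (∑ᶠ x ∈ p ⁻¹' {IsLocalRing.closedPoint k},
      α x * (AlgebraicCycle.mapCoeff p δ (fun _ => (0 : ℤ)) x : ℤ))
    rw [finsum_mem_eq_sum_of_subset (t := s) _ ?_ ?_]
    · refine Finset.sum_congr rfl fun x hx => ?_
      obtain ⟨hc, h0⟩ := hclosed x hx
      rw [AlgebraicCycle.mapCoeff, if_pos h0, WeilLib.residueDegree_hom_of_isClosed p x hc,
        Nat.cast_one, mul_one]
    · intro x hx
      rw [Finset.mem_coe, Set.Finite.mem_toFinset]
      exact fun h => hx.2 (by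
        show α x * _ = 0
        rw [h, zero_mul])
    · intro x _
      exact (Subsingleton.elim (p x) (IsLocalRing.closedPoint k) :)
  rcases s.eq_empty_or_nonempty with h | ⟨x₀, hx₀⟩
  · show α ∈ AlgEqCyc.algTriv p
    have : α = 0 := by
      ext x
      by_contra hx
      exact Finset.eq_empty_iff_forall_notMem.1 h x ((Set.Finite.mem_toFinset _).2 hx)
    rw [this]; exact zero_mem _
  have key : α = ∑ x ∈ s, α x • (Function.locallyFinsuppWithin.single x (1 : ℤ) -
      Function.locallyFinsuppWithin.single x₀ (1 : ℤ)) := by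
    simp only [smul_sub, Finset.sum_sub_distrib]
    rw [← Finset.sum_smul, hdeg', zero_smul, sub_zero]
    ext y
    rw [Function.locallyFinsuppWithin.coe_sum, Finset.sum_apply]
    simp only [Function.locallyFinsuppWithin.coe_zsmul, Pi.smul_apply,
      Function.locallyFinsuppWithin.single_apply, smul_eq_mul, mul_ite, mul_one, mul_zero]
    rw [Finset.sum_ite_eq]
    split_ifs with hy
    · rfl
    · by_contra h
      exact hy ((Set.Finite.mem_toFinset _).2 h)
  show α ∈ AlgEqCyc.algTriv p
  rw [key]
  exact sum_mem fun x hx => zsmul_mem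
    (Groth.Agent.S15440X.isAlgEquiv_points p (hclosed x hx).1 (hclosed x₀ hx₀).1) _

end Groth.Agent.S15440
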