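import Groth.Statements.S15459
import Groth.Agent.WeilLib.Cycles

set_option autoImplicit false
open Groth.Agent.WeilLib
universe u v
open CategoryTheory AlgebraicGeometry
open WeilCoh

namespace Groth.Agent.S15459

/-- In the case r = 1, to which the general case reduces once the cycle class map is known to be a ring
homomorphism: for a Weil cohomology theory H^* (coefficients in K of characteristic zero, on
nonsingular connected projective varieties over an algebraically closed field k), such a variety X
and a 0-cycle α on X, the intersection number (α) = deg(α) equals Tr_X(cl(α)). The dimension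
function δ on X is the one induced from weight 0 on Spec k and deg is the degree of 0-cycles over k. -/
theorem result (k : Type u) [Field k] [IsAlgClosed k] (K : Type v) [Field K] [CharZero K]
    (T : WeilCoh.Theory k K) (X : WeilCoh.Var k) [QuasiCompact X.obj.hom]
    (δ : ↥X.obj.left → ℤ) (hδ : Cyc.DeltaCompat X.obj.hom δ (fun _ => 0))
    (α : AlgebraicCycle X.obj.left ℤ) (hα : α ∈ Cyc.Zk X.obj.left δ 0) :
    (ChowOps.deg X.obj.hom δ α : K) = T.tr X (T.clCyc X α) := by
  exact deg_eq_tr_clCyc T X hδ hα

end Groth.Agent.S15459
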