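import Groth.Statements.S15460
import Groth.Agent.LangWeilWeak.ArithAbscissa
-- import your own Groth.Agent.* helpers here

set_option autoImplicit false
set_option backward.isDefEq.respectTransparency false
universe u
open CategoryTheory AlgebraicGeometry
open Zeta Groth.Agent.ZetaLib Groth.Agent.LangWeilWeak

namespace Groth.Agent.S15460

/-- A characteristic zero domain has points over enough prime fields. -/
theorem primeCount_domain (A : Type u) [CommRing A] [IsDomain A] [Algebra.FiniteType ℤ A] (K : Type u)
    [Field K] [CharZero K] [Algebra A K] [IsFractionRing A K] (r : ℕ) (hr : ringKrullDim A = r) :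
    ∃ d : ℕ, PrimeCount A d ∧ (r : ℝ) ≤ (d : ℝ) + 1 := by
  haveI : Algebra.EssFiniteType ℤ K := by
    haveI : Algebra.EssFiniteType A K := Algebra.EssFiniteType.of_isLocalization K (nonZeroDivisors A)
    exact Algebra.EssFiniteType.comp ℤ A K
  haveI : Algebra.EssFiniteType ℚ K := Algebra.EssFiniteType.of_comp ℤ ℚ K
  obtain ⟨s, hs, -⟩ := exists_isTranscendenceBasis_and_isSeparable_of_perfectField ℚ K
  have hKtr : Algebra.trdeg ℚ K = ((s.card : ℕ) : Cardinal) := by
    rw [← hs.cardinalMk_eq_trdeg, Cardinal.mk_coe_finset]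
  let ι : A →ₐ[ℤ] K := intHom (algebraMap A K)
  have hinj : Function.Injective ι := IsFractionRing.injective A K
  obtain ⟨c, hc, P, hP, hcount⟩ := primeCount_of_fg s.card K hKtr ι.range
    (by rw [← Algebra.map_top]; exact Subalgebra.FG.map _ Algebra.FiniteType.out)
    (top_le_iff.mp fun z _ => by
      obtain ⟨a, b, -, rfl⟩ := IsFractionRing.div_surjective (A := A) z
      exact div_mem (IntermediateField.subset_adjoin ℚ _ ⟨a, rfl⟩) (IntermediateField.subset_adjoin ℚ _ ⟨b, rfl⟩))
  let e : A ≃ₐ[ℤ] ι.range := AlgEquiv.ofInjective ι hinj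
  refine ⟨s.card, ⟨c, hc, P, hP, fun p hp => (hcount p hp).trans (le_of_eq ?_)⟩, ?_⟩
  · refine congrArg (fun m : ℕ => (m : ℝ)) (Nat.card_congr ?_)
    exact { toFun := fun φ => φ.comp e.toRingEquiv.toRingHom
            invFun := fun φ => φ.comp e.toRingEquiv.symm.toRingHom
            left_inv := fun φ => RingHom.ext fun x => congrArg φ (e.toRingEquiv.apply_symm_apply x)
            right_inv := fun φ => RingHom.ext fun x => congrArg φ (e.toRingEquiv.symm_apply_apply x) }
  · have h := ringKrullDim_le_trdeg_add_one A K s.card hKtr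
    rw [hr] at h
    exact_mod_cast (WithBot.coe_le_coe.mp h : ((r : ℕ) : ℕ∞) ≤ ((s.card + 1 : ℕ) : ℕ∞))

/-- The dimension bounds the abscissa from below. -/
theorem le_abscissa_int {X : Scheme.{u}}
    (f : X ⟶ Spec (CommRingCat.of (ULift.{u} ℤ))) [LocallyOfFiniteType f] [QuasiCompact f] (r : ℕ)
    (hr : topologicalKrullDim X = r) :
    ((r : ℝ) : EReal) ≤ LSeries.abscissaOfAbsConv (Zeta.arithCoeff X) := by
  haveI : Nonempty X := by
    by_contra hne
    rw [not_nonempty_iff] at hne
    haveI : IsEmpty (TopologicalSpace.IrreducibleCloseds X) := ⟨fun Z => IsEmpty.false Z.isIrreducible.nonempty.choose⟩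
    rw [topologicalKrullDim, Order.krullDim_eq_bot] at hr
    exact absurd hr WithBot.bot_ne_coe
  by_contra hlt
  rw [not_le] at hlt
  obtain ⟨y, hy1, hy2⟩ := EReal.lt_iff_exists_real_btwn.mp hlt
  have hyr : y < r := EReal.coe_lt_coe_iff.mp hy2
  have hsum : LSeriesSummable (Zeta.arithCoeff X) (y : ℂ) :=
    LSeriesSummable_of_abscissaOfAbsConv_lt_re (by simpa using hy1)
  rcases le_or_gt y 0 with hy0 | hy0
  · exact not_lseriesSummable_neg f r hr.le hy0 hsum
  have hpts := summable_ptNorm_of_lseries f r hr.le hsum
  obtain ⟨n, A, j, hj, hft, hdim, hcov⟩ := exists_affine_cover f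
  obtain ⟨i, hi⟩ := exists_open_dim_ge A j hcov r hr.ge
  haveI := hj i
  haveI := hft i
  obtain ⟨P, hP⟩ := exists_quotient_dim_eq r ((hdim i).trans hr.le) hi
  let A' := (A i : Type u) ⧸ P.asIdeal
  haveI : IsDomain A' := Ideal.Quotient.isDomain _
  haveI : Algebra.FiniteType ℤ A' :=
    Algebra.FiniteType.of_surjective (Ideal.Quotient.mkₐ ℤ P.asIdeal) (Ideal.Quotient.mkₐ_surjective ℤ P.asIdeal)
  let g : Spec (CommRingCat.of A') ⟶ X := Spec.map (CommRingCat.ofHom (Ideal.Quotient.mk P.asIdeal)) ≫ j i
  haveI : IsClosedImmersion (Spec.map (CommRingCat.ofHom (Ideal.Quotient.mk P.asIdeal))) :=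
    IsClosedImmersion.spec_of_surjective _ Ideal.Quotient.mk_surjective
  rcases CharP.exists A' with ⟨p, hp⟩
  rcases CharP.char_is_prime_or_zero A' p with hpp | rfl
  · -- characteristic `p`
    haveI : Fact p.Prime := ⟨hpp⟩
    let k := ULift.{u} (ZMod p)
    letI : Algebra (ZMod p) A' := ZMod.algebra A' p
    letI : Algebra k A' := ((algebraMap (ZMod p) A').comp ULift.ringEquiv.toRingHom).toAlgebra
    haveI : Finite k := Finite.of_equiv _ Equiv.ulift.symm
    haveI : Algebra.FiniteType k A' := by
      obtain ⟨s, hs⟩ := ‹Algebra.FiniteType ℤ A'›.out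
      refine ⟨⟨s, top_le_iff.mp ?_⟩⟩
      intro a hatop
      clear hatop
      have ha : a ∈ Algebra.adjoin ℤ (s : Set A') := by rw [hs]; trivial
      induction ha using Algebra.adjoin_induction with
      | mem x hx => exact Algebra.subset_adjoin hx
      | algebraMap z => rw [show algebraMap ℤ A' z = (z : A') from eq_intCast _ z]; exact intCast_mem _ z
      | add _ _ _ _ hx hy => exact add_mem hx hy
      | mul _ _ _ _ hx hy => exact mul_mem hx hy
    let fA : Spec (CommRingCat.of A') ⟶ Spec (CommRingCat.of k) := Spec.map (CommRingCat.ofHom (algebraMap k A'))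
    haveI : LocallyOfFiniteType fA := by
      rw [HasRingHomProperty.Spec_iff (P := @LocallyOfFiniteType)]
      exact RingHom.finiteType_algebraMap.mpr ‹_›
    obtain ⟨d, hd1, hd2⟩ := VarDim.exists_dim_eq_trdeg k A'
    have hdr : d = r := by
      have : (d : WithBot ℕ∞) = r := hd1.symm.trans hP
      exact_mod_cast this
    have hdimA : topologicalKrullDim (Spec (CommRingCat.of A')) = r := by
      show topologicalKrullDim (PrimeSpectrum A') = r
      rw [PrimeSpectrum.topologicalKrullDim_eq_ringKrullDim]; exact hP
    let K := FractionRing A'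
    haveI : Algebra.IsAlgebraic A' K := IsLocalization.isAlgebraic K (nonZeroDivisors A')
    have hKtr : Algebra.trdeg k K = (r : Cardinal) := by
      have h := trdeg_add_eq k A' (A := K)
      rw [trdeg_eq_zero (R := A') (A := K), add_zero, hd2, hdr] at h
      exact h.symm
    let ι : A' →ₐ[k] K := IsScalarTower.toAlgHom k A' K
    have hinj : Function.Injective ι := IsFractionRing.injective A' K
    haveI : Algebra.EssFiniteType A' K := Algebra.EssFiniteType.of_isLocalization K (nonZeroDivisors A')
    haveI : Algebra.EssFiniteType k K := Algebra.EssFiniteType.comp k A' K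
    have hgood := goodCount_of_fg r k K hKtr ι.range
      (by rw [← Algebra.map_top]; exact Subalgebra.FG.map _ Algebra.FiniteType.out)
      (top_le_iff.mp fun z _ => by
        obtain ⟨a, b, -, rfl⟩ := IsFractionRing.div_surjective (A := A') z
        exact div_mem (IntermediateField.subset_adjoin k _ ⟨a, rfl⟩) (IntermediateField.subset_adjoin k _ ⟨b, rfl⟩))
    haveI : Algebra.FiniteType k ι.range :=
      Algebra.FiniteType.equiv inferInstance (AlgEquiv.ofInjective ι hinj)
    let e : A' ≃ₐ[k] ι.range := AlgEquiv.ofInjective ι hinj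
    let π : Spec (CommRingCat.of ι.range) ⟶ Spec (CommRingCat.of A') :=
      Spec.map (CommRingCat.ofHom e.toRingEquiv.toRingHom)
    haveI : IsClosedImmersion π := IsClosedImmersion.spec_of_surjective _ e.surjective
    refine not_summable_of_goodCount fA π hgood hy0.le hyr ?_
    -- closed points of the piece are closed points of `X`
    let G : ClosedPt (Spec (CommRingCat.of A')) → ClosedPt X := fun x => ⟨g x.1, by
      haveI : Finite ((Spec (CommRingCat.of A')).residueField x.1) :=
        finite_residueField (fA ≫ toSpecZ k) x.2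
      haveI : Finite (X.residueField (g x.1)) := Nat.finite_of_card_ne_zero (by
        rw [← card_residueField_of_preimmersion g x.1]; exact Nat.card_pos.ne')
      exact isClosed_of_finite_residueField_int f _⟩
    have hG : Function.Injective G := fun a b h => Subtype.ext (g.isEmbedding.injective (congrArg Subtype.val h))
    refine (hpts.comp_injective hG).congr fun x => ?_
    simp only [Function.comp_apply, ptNorm, G]
    rw [card_residueField_of_preimmersion g x.1]
  · -- characteristic `0`
    haveI : CharZero A' := CharP.charP_to_charZero A'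
    let K := FractionRing A'
    haveI : CharZero K := charZero_of_injective_algebraMap (IsFractionRing.injective A' K)
    obtain ⟨d, hgood, hd⟩ := primeCount_domain A' K r hP
    exact not_summable_of_primeCount f g hgood (by linarith) hpts

/-- If X is an arithmetic scheme (a scheme of finite type over ℤ) of dimension r, the abscissa of
convergence of its zeta function L_X(s) = Σ_{n ≥ 1} a_n n^{−s}, where a_n is the number of effective
0-cycles on X of norm n (nonnegative coefficients, so convergence and absolute convergence agree),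
is ρ = r. -/
theorem result {X : Scheme.{u}}
    (f : X ⟶ Spec (CommRingCat.of (ULift.{u} ℤ))) [LocallyOfFiniteType f] [QuasiCompact f] (r : ℕ)
    (hr : topologicalKrullDim X = r) :
    LSeries.abscissaOfAbsConv (Zeta.arithCoeff X) = (r : ℝ) := by
  exact le_antisymm (Groth.Agent.ZetaLib.abscissa_le f r hr.le) (le_abscissa_int f r hr)

end Groth.Agent.S15460
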