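import Groth.Statements.S15465
import Mathlib.CategoryTheory.Abelian.Refinements
import Mathlib.Algebra.Homology.ShortComplex.ShortExact
import Mathlib.Algebra.Homology.ShortComplex.Abelian

set_option autoImplicit false
universe v u
open HomAlg

namespace Groth.Agent.S15465

open CategoryTheory CategoryTheory.Limits in
/-- In an abelian category let 0 → A₂ → B₂ → C₂ → 0 (maps i₂, π₂), 0 → A₁ → A₂ → A₃ → 0 (maps i₁, p₁)
and 0 → C₁ → C₂ → C₃ → 0 (maps j, q) be short exact sequences, let α = i₁ ≫ i₂ : A₁ → B₂ and β = π₂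
≫ q : B₂ → C₃, and let K = ker β / im α be the homology object of the complex A₁ → B₂ → C₃. Let f :
A₃ → K be the map induced by i₂ (the unique map whose composite with p₁ is the homology class of the
cycle i₂) and g : K → C₁ the map induced by π₂ (the unique map whose composite with j is the map K →
C₂ induced by π₂). Then 0 → A₃ → K → C₁ → 0, with maps f and g, is a short exact sequence. (The
hypotheses w, h₂, h₃ are consequences of i₂ ≫ π₂ = 0, carried so that the maps can be named; the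
published statement assumes in addition that the category has enough injective objects, which plays
no role in this assertion.) -/
theorem result
    {C : Type u} [Category.{v} C] [Abelian C] {A₁ A₂ A₃ B₂ C₁ C₂ C₃ : C}
    (i₁ : A₁ ⟶ A₂) (p₁ : A₂ ⟶ A₃) (wA : i₁ ≫ p₁ = 0) (hA : (ShortComplex.mk i₁ p₁ wA).ShortExact)
    (i₂ : A₂ ⟶ B₂) (π₂ : B₂ ⟶ C₂) (wB : i₂ ≫ π₂ = 0) (hB : (ShortComplex.mk i₂ π₂ wB).ShortExact)
    (j : C₁ ⟶ C₂) (q : C₂ ⟶ C₃) (wC : j ≫ q = 0) (hC : (ShortComplex.mk j q wC).ShortExact)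
    (w : (i₁ ≫ i₂) ≫ (π₂ ≫ q) = 0) (h₂ : i₂ ≫ (π₂ ≫ q) = 0) (h₃ : (i₁ ≫ i₂) ≫ π₂ = 0)
    (f : A₃ ⟶ (CategoryTheory.ShortComplex.mk (i₁ ≫ i₂) (π₂ ≫ q) w).homology)
    (g : (CategoryTheory.ShortComplex.mk (i₁ ≫ i₂) (π₂ ≫ q) w).homology ⟶ C₁)
    (hf : p₁ ≫ f = (CategoryTheory.ShortComplex.mk (i₁ ≫ i₂) (π₂ ≫ q) w).liftCycles i₂ h₂ ≫ (CategoryTheory.ShortComplex.mk (i₁ ≫ i₂) (π₂ ≫ q) w).homologyπ)
    (hg : g ≫ j = (CategoryTheory.ShortComplex.mk (i₁ ≫ i₂) (π₂ ≫ q) w).homologyι ≫ (CategoryTheory.ShortComplex.mk (i₁ ≫ i₂) (π₂ ≫ q) w).descOpcycles π₂ h₃) :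
    ∃ wfg : f ≫ g = 0, (ShortComplex.mk f g wfg).ShortExact := by
  haveI := hA.epi_g
  haveI := hB.mono_f
  haveI := hB.epi_g
  haveI := hC.mono_f
  let S := ShortComplex.mk (i₁ ≫ i₂) (π₂ ≫ q) w
  have key : ∀ {T : C} (z : T ⟶ B₂) (hz : z ≫ π₂ ≫ q = 0),
      S.liftCycles z hz ≫ S.homologyπ ≫ g ≫ j = z ≫ π₂ := by
    intro T z hz
    rw [hg, ShortComplex.homology_π_ι_assoc, ShortComplex.p_descOpcycles, ShortComplex.liftCycles_i_assoc]
  have kf : ∀ {T : C} (a : T ⟶ A₂), a ≫ p₁ ≫ f = S.liftCycles (a ≫ i₂) (show (a ≫ i₂) ≫ π₂ ≫ q = 0 by rw [Category.assoc, h₂, comp_zero]) ≫ S.homologyπ := by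
    intro T a
    rw [hf, ← Category.assoc, ShortComplex.comp_liftCycles]
  have wfg : f ≫ g = 0 := by
    rw [← cancel_epi p₁, ← cancel_mono j, comp_zero, zero_comp, Category.assoc, Category.assoc, reassoc_of% hf,
      key i₂ h₂, wB]
  haveI : Mono f := Preadditive.mono_of_cancel_zero _ fun {T} x hx => by
    obtain ⟨T₁, π, hπ, a, ha⟩ := surjective_up_to_refinements_of_epi p₁ x
    have h0 := kf a
    rw [← Category.assoc a, ← ha, Category.assoc, hx, comp_zero] at h0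
    obtain ⟨T₂, π', hπ', b, hb⟩ := (S.liftCycles_comp_homologyπ_eq_zero_iff_up_to_refinements _ _).1 h0.symm
    have hb' : π' ≫ a = b ≫ i₁ := by
      rw [← cancel_mono i₂, Category.assoc, Category.assoc]
      exact hb
    rw [← cancel_epi π, ← cancel_epi π', ha, ← Category.assoc, hb', Category.assoc, wA, comp_zero, comp_zero, comp_zero]
  haveI : Epi g := by
    rw [epi_iff_surjective_up_to_refinements]
    intro T c
    obtain ⟨T₁, π, hπ, z, hz⟩ := surjective_up_to_refinements_of_epi π₂ (c ≫ j)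
    have hz' : z ≫ π₂ ≫ q = 0 := by rw [← Category.assoc, ← hz, Category.assoc, Category.assoc, wC, comp_zero, comp_zero]
    refine ⟨T₁, π, hπ, S.liftCycles z hz' ≫ S.homologyπ, ?_⟩
    rw [← cancel_mono j, Category.assoc, Category.assoc, Category.assoc, key z hz', hz]
  refine ⟨wfg, { exact := ?_ }⟩
  rw [ShortComplex.exact_iff_exact_up_to_refinements]
  intro T y (hy : y ≫ g = 0)
  obtain ⟨T₁, π, hπ, z, hz, hzy⟩ := S.eq_liftCycles_homologyπ_up_to_refinements y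
  have hz0 : z ≫ π₂ = 0 := by
    rw [← key z hz, ← reassoc_of% hzy, reassoc_of% hy, zero_comp, comp_zero]
  obtain ⟨T₂, π', hπ', a, ha⟩ := hB.exact.exact_up_to_refinements z hz0
  refine ⟨T₂, π' ≫ π, epi_comp _ _, a ≫ p₁, ?_⟩
  show (π' ≫ π) ≫ y = (a ≫ p₁) ≫ f
  rw [Category.assoc, hzy, Category.assoc, kf a, ← Category.assoc, ShortComplex.comp_liftCycles]
  simp only [ha]

end Groth.Agent.S15465
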