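import Groth.Statements.S15466
import Mathlib.Algebra.Homology.Refinements
-- import your own Groth.Agent.* helpers here

set_option autoImplicit false
universe v u
open HomAlg
set_option backward.isDefEq.respectTransparency false

namespace Groth.Agent.S15466

open CategoryTheory CategoryTheory.Limits

section

variable {C : Type u} [Category.{v} C] [Abelian C] (S : ShortComplex C) {C₁ : C}

/-- The subobject of the middle term attached to a map to homology. -/
noncomputable def subOf (s : C₁ ⟶ S.homology) : Subobject S.X₂ :=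
  (Subobject.map S.iCycles).obj ((Subobject.pullback S.homologyπ).obj (imageSubobject s))

lemma subOf_eq (s : C₁ ⟶ S.homology) [Mono s] :
    subOf S s = Subobject.mk (pullback.snd s S.homologyπ ≫ S.iCycles) := by
  rw [subOf, imageSubobject_mono, Subobject.pullback_obj_mk (IsPullback.of_hasPullback s S.homologyπ),
    Subobject.map_mk]

/-- The first map of the extension. -/
noncomputable def aOf (s : C₁ ⟶ S.homology) : S.X₁ ⟶ pullback s S.homologyπ :=
  pullback.lift 0 S.toCycles (by simp)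

lemma aOf_fst (s : C₁ ⟶ S.homology) : aOf S s ≫ pullback.fst s S.homologyπ = 0 :=
  pullback.lift_fst _ _ _

lemma aOf_arrow (s : C₁ ⟶ S.homology) :
    aOf S s ≫ pullback.snd s S.homologyπ ≫ S.iCycles = S.f := by
  rw [aOf, pullback.lift_snd_assoc, S.toCycles_i]

lemma shortExact_of_section (s : C₁ ⟶ S.homology) [Mono s] [Mono S.f] :
    (ShortComplex.mk (aOf S s) (pullback.fst s S.homologyπ) (aOf_fst S s)).ShortExact := by
  have : Mono (aOf S s) := mono_of_mono_fac (aOf_arrow S s)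
  have : Epi (pullback.fst s S.homologyπ) := Abelian.epi_pullback_of_epi_g _ _
  refine { exact := ?_ }
  rw [ShortComplex.exact_iff_exact_up_to_refinements]
  intro T x hx
  dsimp at x hx
  have h : (x ≫ pullback.snd s S.homologyπ) ≫ S.homologyπ = 0 := by
    rw [Category.assoc, ← pullback.condition, reassoc_of% hx, zero_comp]
  obtain ⟨T', e, he, w, hw⟩ := (S.comp_homologyπ_eq_zero_iff_up_to_refinements _).1 h
  refine ⟨T', e, he, w, pullback.hom_ext ?_ ?_⟩
  · simp [hx, aOf_fst]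
  · simp only [Category.assoc, aOf]
    rw [pullback.lift_snd]
    simpa using hw

end

open CategoryTheory CategoryTheory.Limits in
/-- In an abelian category let 0 → A₂ → B₂ → C₂ → 0 (maps i₂, π₂), 0 → A₁ → A₂ → A₃ → 0 (maps i₁, p₁)
and 0 → C₁ → C₂ → C₃ → 0 (maps j, q) be short exact sequences, α = i₁ ≫ i₂, β = π₂ ≫ q, K = ker β /
im α, and let f : A₃ → K and g : K → C₁ be the maps induced by i₂ and π₂ (pinned by their defining
squares), so that 0 → A₃ → K → C₁ → 0 is short exact. Sending a section s of g to the subobject B₁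
of B₂ obtained by pulling the image of s back along ker β → K and then including ker β into B₂ is a
bijection from the sections of g (equivalently, the splittings of that sequence) onto the subobjects
B₁ of B₂ that complete the data to a 3 × 3 diagram with exact rows and columns: there are maps A₁ →
B₁ → C₁ over i₁ ≫ i₂ and under π₂ forming a short exact sequence, and maps A₃ → B₂/B₁ → C₃ under i₂
and over π₂ ≫ q forming a short exact sequence. (The hypotheses w, h₂, h₃ are consequences of i₂ ≫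
π₂ = 0, carried so that the maps can be named; the published statement assumes in addition that the
category has enough injective objects, which plays no role here.) -/
theorem result
    {C : Type u} [Category.{v} C] [Abelian C] {A₁ A₂ A₃ B₂ C₁ C₂ C₃ : C}
    (i₁ : A₁ ⟶ A₂) (p₁ : A₂ ⟶ A₃) (wA : i₁ ≫ p₁ = 0) (hA : (ShortComplex.mk i₁ p₁ wA).ShortExact)
    (i₂ : A₂ ⟶ B₂) (π₂ : B₂ ⟶ C₂) (wB : i₂ ≫ π₂ = 0) (hB : (ShortComplex.mk i₂ π₂ wB).ShortExact)
    (j : C₁ ⟶ C₂) (q : C₂ ⟶ C₃) (wC : j ≫ q = 0) (hC : (ShortComplex.mk j q wC).ShortExact)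
    (w : (i₁ ≫ i₂) ≫ (π₂ ≫ q) = 0) (h₂ : i₂ ≫ (π₂ ≫ q) = 0) (h₃ : (i₁ ≫ i₂) ≫ π₂ = 0)
    (f : A₃ ⟶ (CategoryTheory.ShortComplex.mk (i₁ ≫ i₂) (π₂ ≫ q) w).homology)
    (g : (CategoryTheory.ShortComplex.mk (i₁ ≫ i₂) (π₂ ≫ q) w).homology ⟶ C₁)
    (hf : p₁ ≫ f = (CategoryTheory.ShortComplex.mk (i₁ ≫ i₂) (π₂ ≫ q) w).liftCycles i₂ h₂ ≫ (CategoryTheory.ShortComplex.mk (i₁ ≫ i₂) (π₂ ≫ q) w).homologyπ)
    (hg : g ≫ j = (CategoryTheory.ShortComplex.mk (i₁ ≫ i₂) (π₂ ≫ q) w).homologyι ≫ (CategoryTheory.ShortComplex.mk (i₁ ≫ i₂) (π₂ ≫ q) w).descOpcycles π₂ h₃) :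
    (∀ B₁ : Subobject B₂,
      (∃ (a : A₁ ⟶ (B₁ : C)) (c : (B₁ : C) ⟶ C₁) (wac : a ≫ c = 0)
         (a' : A₃ ⟶ cokernel B₁.arrow) (c' : cokernel B₁.arrow ⟶ C₃) (wac' : a' ≫ c' = 0),
         a ≫ B₁.arrow = i₁ ≫ i₂ ∧ c ≫ j = B₁.arrow ≫ π₂ ∧ (ShortComplex.mk a c wac).ShortExact ∧
         p₁ ≫ a' = i₂ ≫ cokernel.π B₁.arrow ∧ cokernel.π B₁.arrow ≫ c' = π₂ ≫ q ∧
         (ShortComplex.mk a' c' wac').ShortExact) ↔
      ∃ s : C₁ ⟶ (CategoryTheory.ShortComplex.mk (i₁ ≫ i₂) (π₂ ≫ q) w).homology, s ≫ g = 𝟙 C₁ ∧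
        (Subobject.map (CategoryTheory.ShortComplex.mk (i₁ ≫ i₂) (π₂ ≫ q) w).iCycles).obj ((Subobject.pullback (CategoryTheory.ShortComplex.mk (i₁ ≫ i₂) (π₂ ≫ q) w).homologyπ).obj (imageSubobject s)) = B₁) ∧
    (∀ s s' : C₁ ⟶ (CategoryTheory.ShortComplex.mk (i₁ ≫ i₂) (π₂ ≫ q) w).homology, s ≫ g = 𝟙 C₁ → s' ≫ g = 𝟙 C₁ →
      (Subobject.map (CategoryTheory.ShortComplex.mk (i₁ ≫ i₂) (π₂ ≫ q) w).iCycles).obj ((Subobject.pullback (CategoryTheory.ShortComplex.mk (i₁ ≫ i₂) (π₂ ≫ q) w).homologyπ).obj (imageSubobject s)) = (Subobject.map (CategoryTheory.ShortComplex.mk (i₁ ≫ i₂) (π₂ ≫ q) w).iCycles).obj ((Subobject.pullback (CategoryTheory.ShortComplex.mk (i₁ ≫ i₂) (π₂ ≫ q) w).homologyπ).obj (imageSubobject s')) → s = s') := by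
  let S := CategoryTheory.ShortComplex.mk (i₁ ≫ i₂) (π₂ ≫ q) w
  have : Mono i₁ := hA.mono_f
  have : Mono i₂ := hB.mono_f
  have : Mono j := hC.mono_f
  have : Epi p₁ := hA.epi_g
  have : Epi π₂ := hB.epi_g
  have : Epi q := hC.epi_g
  have : Mono S.f := mono_comp i₁ i₂
  have hgj : S.homologyπ ≫ g ≫ j = S.iCycles ≫ π₂ := by
    rw [hg, S.homology_π_ι_assoc, S.p_descOpcycles]
  have hsec : ∀ s : C₁ ⟶ S.homology, s ≫ g = 𝟙 C₁ →
      pullback.fst s S.homologyπ ≫ j = (pullback.snd s S.homologyπ ≫ S.iCycles) ≫ π₂ := by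
    intro s hs
    rw [Category.assoc, ← hgj, ← pullback.condition_assoc, reassoc_of% hs]
  refine ⟨fun B₁ => ⟨?_, ?_⟩, ?_⟩
  · rintro ⟨a, c, wac, a', c', wac', ha, hc, hse, ha', hc', hse'⟩
    have hk : B₁.arrow ≫ (π₂ ≫ q) = 0 := by
      rw [← reassoc_of% hc, wC, comp_zero]
    let k : (B₁ : C) ⟶ S.cycles := S.liftCycles B₁.arrow hk
    have hak : a ≫ k = S.toCycles := by
      rw [← cancel_mono S.iCycles]
      simp [k, ha, S]
    have : Epi c := hse.epi_g
    let s : C₁ ⟶ S.homology := hse.exact.desc (k ≫ S.homologyπ) (by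
      show a ≫ k ≫ S.homologyπ = 0
      rw [reassoc_of% hak, S.toCycles_comp_homologyπ])
    have hcs : c ≫ s = k ≫ S.homologyπ := hse.exact.g_desc _ _
    have hs : s ≫ g = 𝟙 C₁ := by
      rw [← cancel_mono j, ← cancel_epi c, Category.assoc, reassoc_of% hcs, hgj, Category.id_comp, hc]
      simp [k]
    have : IsSplitMono s := ⟨⟨⟨g, hs⟩⟩⟩
    refine ⟨s, hs, ?_⟩
    show subOf S s = B₁
    rw [subOf_eq]
    let l : (B₁ : C) ⟶ pullback s S.homologyπ := pullback.lift c k hcs
    have hl : l ≫ pullback.snd s S.homologyπ ≫ S.iCycles = B₁.arrow := by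
      exact (pullback.lift_snd_assoc _ _ _ _).trans (S.liftCycles_i _ _)
    have hal : a ≫ l = aOf S s := by
      apply pullback.hom_ext
      · exact (Category.assoc _ _ _).trans ((congrArg (a ≫ ·) (pullback.lift_fst _ _ _)).trans (wac.trans (aOf_fst S s).symm))
      · exact (Category.assoc _ _ _).trans ((congrArg (a ≫ ·) (pullback.lift_snd _ _ _)).trans (hak.trans (pullback.lift_snd _ _ _).symm))
    let φ : ShortComplex.mk a c wac ⟶
        ShortComplex.mk (aOf S s) (pullback.fst s S.homologyπ) (aOf_fst S s) :=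
      { τ₁ := 𝟙 _
        τ₂ := l
        τ₃ := 𝟙 _
        comm₁₂ := (Category.id_comp _).trans hal.symm
        comm₂₃ := (pullback.lift_fst _ _ _).trans (Category.comp_id _).symm }
    have : IsIso l := ShortComplex.isIso₂_of_shortExact_of_isIso₁₃' φ hse (shortExact_of_section S s)
      inferInstance inferInstance
    exact (Subobject.mk_arrow B₁).symm.trans (Subobject.mk_eq_mk_of_comm _ _ (asIso l) hl) |>.symm
  · rintro ⟨s, hs, rfl⟩
    have : IsSplitMono s := ⟨⟨⟨g, hs⟩⟩⟩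
    let B₁ := subOf S s
    let B₁' := Subobject.mk (pullback.snd s S.homologyπ ≫ S.iCycles)
    have hB₁ : subOf S s = B₁' := subOf_eq S s
    let u : pullback s S.homologyπ ≅ (B₁ : C) :=
      (Subobject.underlyingIso _).symm ≪≫ Subobject.isoOfEq _ _ hB₁.symm
    have hu : u.hom ≫ B₁.arrow = pullback.snd s S.homologyπ ≫ S.iCycles := by
      simp [u, B₁]
    have hu' : B₁.arrow = u.inv ≫ pullback.snd s S.homologyπ ≫ S.iCycles := by
      rw [← hu, Iso.inv_hom_id_assoc]
    let a : A₁ ⟶ (B₁ : C) := aOf S s ≫ u.hom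
    let c : (B₁ : C) ⟶ C₁ := u.inv ≫ pullback.fst s S.homologyπ
    have wac : a ≫ c = 0 := by simp [a, c, aOf_fst]
    have ha : a ≫ B₁.arrow = i₁ ≫ i₂ := by
      rw [Category.assoc, hu]
      exact aOf_arrow S s
    have hc : c ≫ j = B₁.arrow ≫ π₂ := by
      rw [Category.assoc, hsec s hs, hu']
      simp only [Category.assoc]
    have hse : (ShortComplex.mk a c wac).ShortExact :=
      ShortComplex.shortExact_of_iso (ShortComplex.isoMk (Iso.refl _) u (Iso.refl _)
        (by simp [a]) (by simp [c]) :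
          ShortComplex.mk (aOf S s) (pullback.fst s S.homologyπ) (aOf_fst S s) ≅ ShortComplex.mk a c wac)
        (shortExact_of_section S s)
    have h0 : i₁ ≫ i₂ ≫ cokernel.π B₁.arrow = 0 := by
      rw [← Category.assoc, ← ha, Category.assoc, cokernel.condition, comp_zero]
    let a' : A₃ ⟶ cokernel B₁.arrow := hA.exact.desc (i₂ ≫ cokernel.π B₁.arrow) h0
    have ha' : p₁ ≫ a' = i₂ ≫ cokernel.π B₁.arrow := hA.exact.g_desc _ _
    let c' : cokernel B₁.arrow ⟶ C₃ :=
      cokernel.desc _ (π₂ ≫ q) (by rw [← reassoc_of% hc, wC, comp_zero])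
    have hc' : cokernel.π B₁.arrow ≫ c' = π₂ ≫ q := cokernel.π_desc _ _ _
    have wac' : a' ≫ c' = 0 := by
      rw [← cancel_epi p₁, reassoc_of% ha', hc', h₂, comp_zero]
    refine ⟨a, c, wac, a', c', wac', ha, hc, hse, ha', hc', ?_⟩
    have : Mono a' := by
      refine Preadditive.mono_of_cancel_zero _ fun {T} y hy => ?_
      obtain ⟨T₁, e₁, he₁, y₂, hy₂⟩ := surjective_up_to_refinements_of_epi p₁ y
      have h : (y₂ ≫ i₂) ≫ cokernel.π B₁.arrow = 0 := by
        rw [Category.assoc, ← ha', ← reassoc_of% hy₂, hy, comp_zero]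
      obtain ⟨T₂, e₂, he₂, z, hz⟩ :=
        (ShortComplex.exact_of_g_is_cokernel (ShortComplex.mk B₁.arrow (cokernel.π B₁.arrow) (cokernel.condition _)) (cokernelIsCokernel _)).exact_up_to_refinements _ h
      dsimp at z hz
      have hzc : z ≫ c = 0 := by
        rw [← cancel_mono j, Category.assoc, hc, zero_comp, ← reassoc_of% hz]
        simp [wB]
      obtain ⟨T₃, e₃, he₃, x, hx⟩ := hse.exact.exact_up_to_refinements z hzc
      dsimp at x hx
      have h3 : e₃ ≫ e₂ ≫ y₂ = x ≫ i₁ := by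
        rw [← cancel_mono i₂, Category.assoc, Category.assoc, hz, Category.assoc, ← ha, reassoc_of% hx]
      have h4 : e₃ ≫ e₂ ≫ e₁ ≫ y = 0 := by
        rw [hy₂, reassoc_of% h3, wA, comp_zero]
      simpa [← cancel_epi e₁, ← cancel_epi e₂, ← cancel_epi e₃] using h4
    have : Epi c' := by
      have := epi_comp π₂ q
      exact epi_of_epi_fac hc'
    refine ShortComplex.ShortExact.mk' ?_ ‹Mono a'› ‹Epi c'›
    rw [ShortComplex.exact_iff_exact_up_to_refinements]
    intro T x hx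
    dsimp at x hx ⊢
    obtain ⟨T₁, e₁, he₁, x₂, hx₂⟩ := surjective_up_to_refinements_of_epi (cokernel.π B₁.arrow) x
    have h : (x₂ ≫ π₂) ≫ q = 0 := by
      rw [Category.assoc, ← hc', ← reassoc_of% hx₂, hx, comp_zero]
    obtain ⟨T₂, e₂, he₂, t, ht⟩ := hC.exact.exact_up_to_refinements _ h
    dsimp at t ht
    have : Epi c := hse.epi_g
    obtain ⟨T₃, e₃, he₃, z, hz⟩ := surjective_up_to_refinements_of_epi c t
    have h' : (e₃ ≫ e₂ ≫ x₂ - z ≫ B₁.arrow) ≫ π₂ = 0 := by
      rw [Preadditive.sub_comp, sub_eq_zero]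
      simp only [Category.assoc, ← hc, ht, ← reassoc_of% hz]
    obtain ⟨T₄, e₄, he₄, y, hy⟩ := hB.exact.exact_up_to_refinements _ h'
    dsimp at y hy
    refine ⟨T₄, e₄ ≫ e₃ ≫ e₂ ≫ e₁, inferInstance, y ≫ p₁, ?_⟩
    have h'' := congrArg (fun m => m ≫ cokernel.π B₁.arrow) hy
    simp only [Category.assoc, Preadditive.comp_sub, Preadditive.sub_comp, cokernel.condition,
      comp_zero, sub_zero] at h''
    rw [Category.assoc, Category.assoc, Category.assoc, hx₂, h'', Category.assoc, ha']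
  · intro s s' hs hs' heq
    have : IsSplitMono s := ⟨⟨⟨g, hs⟩⟩⟩
    have : IsSplitMono s' := ⟨⟨⟨g, hs'⟩⟩⟩
    change subOf S s = subOf S s' at heq
    rw [subOf_eq, subOf_eq] at heq
    let e := Subobject.isoOfMkEqMk _ _ heq
    have he : e.hom ≫ pullback.snd s' S.homologyπ = pullback.snd s S.homologyπ := by
      rw [← cancel_mono S.iCycles, Category.assoc]
      simp [e]
    have he' : e.hom ≫ pullback.fst s' S.homologyπ = pullback.fst s S.homologyπ := by
      rw [← cancel_mono j, Category.assoc, hsec s' hs', hsec s hs, ← he]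
      simp
    have : Epi (pullback.fst s S.homologyπ) := Abelian.epi_pullback_of_epi_g _ _
    rw [← cancel_epi (pullback.fst s S.homologyπ), pullback.condition, ← he, Category.assoc,
      ← pullback.condition, reassoc_of% he']

end Groth.Agent.S15466
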