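import Groth.Statements.S15470
import Groth.Agent.IsoNatLib.Main

set_option autoImplicit false
set_option backward.isDefEq.respectTransparency false
set_option backward.isDefEq.respectTransparency.types false
universe u
open CategoryTheory AlgebraicGeometry
open IsoNat

namespace Groth.Agent.S15470

/-- A property of morphisms of algebraic stacks read on one square of smooth scheme charts is detected
by the induced map of presheaves of isomorphism classes. Let f : 𝒳 → 𝒴 and f' : 𝒳' → 𝒴' be morphisms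
of algebraic stacks over a quasi-separated scheme S, and suppose given isomorphisms of the
presheaves of isomorphism classes of 𝒳 with 𝒳' and of 𝒴 with 𝒴' under which the maps induced by f
and f' correspond. If there are smooth scheme charts x : U → 𝒳 (surjective) and y : V → 𝒴 and h : U
→ V with x followed by f 2-isomorphic to h followed by y and h having P, then the same holds for f'.
For P smooth local on the source-and-target, containing the smooth surjections and stable under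
composition and base change, this is the statement that f has P if and only if f' has P (flat,
locally of finite type, locally of finite presentation, smooth); the transfer itself holds for every
P. Here an algebraic stack over a quasi-separated scheme S means a stack in groupoids for the fppf
topology with a smooth surjective atlas from a scheme, whose diagonal is representable by separated
quasi-compact morphisms of algebraic spaces and whose inertia is locally of finite presentation over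
it. -/
theorem result
    (S : Scheme.{u}) [QuasiSeparatedSpace S]
    (𝒳 𝒴 : AlgSt.Cat S)
    (h𝒳 : AlgSt.IsAlgStack Scheme.fppfPrecoverage 𝒳)
    (h𝒳d : AlgSt.RepByAlgSpWith (AlgSp.IsSeparatedMor ⊓ AlgSp.IsQuasiCompactMor)
      (FibCat.diag (FibCat.toSelf 𝒳)))
    (h𝒳i : AlgSt.RepByAlgSpWith (AlgSp.LocP @LocallyOfFinitePresentation)
      (FibCat.inertiaToBase (FibCat.toSelf 𝒳)))
    (h𝒴 : AlgSt.IsAlgStack Scheme.fppfPrecoverage 𝒴)
    (h𝒴d : AlgSt.RepByAlgSpWith (AlgSp.IsSeparatedMor ⊓ AlgSp.IsQuasiCompactMor)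
      (FibCat.diag (FibCat.toSelf 𝒴)))
    (h𝒴i : AlgSt.RepByAlgSpWith (AlgSp.LocP @LocallyOfFinitePresentation)
      (FibCat.inertiaToBase (FibCat.toSelf 𝒴)))
    (𝒳' 𝒴' : AlgSt.Cat S)
    (h𝒳' : AlgSt.IsAlgStack Scheme.fppfPrecoverage 𝒳')
    (h𝒳'd : AlgSt.RepByAlgSpWith (AlgSp.IsSeparatedMor ⊓ AlgSp.IsQuasiCompactMor)
      (FibCat.diag (FibCat.toSelf 𝒳')))
    (h𝒳'i : AlgSt.RepByAlgSpWith (AlgSp.LocP @LocallyOfFinitePresentation)
      (FibCat.inertiaToBase (FibCat.toSelf 𝒳')))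
    (h𝒴' : AlgSt.IsAlgStack Scheme.fppfPrecoverage 𝒴')
    (h𝒴'd : AlgSt.RepByAlgSpWith (AlgSp.IsSeparatedMor ⊓ AlgSp.IsQuasiCompactMor)
      (FibCat.diag (FibCat.toSelf 𝒴')))
    (h𝒴'i : AlgSt.RepByAlgSpWith (AlgSp.LocP @LocallyOfFinitePresentation)
      (FibCat.inertiaToBase (FibCat.toSelf 𝒴')))
    (f : 𝒳 ⥤ᵇ 𝒴) (f' : 𝒳' ⥤ᵇ 𝒴') (φ : IsoNat.FIsoSq f f')
    (P : MorphismProperty (AlgSp.Sp S))
    (hf : AlgSt.LocQ P f) :
    AlgSt.LocQ P f' := by
  have := h𝒳.isStack.1
  have := h𝒴.isStack.1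
  have := h𝒳'.isStack.1
  have := h𝒴'.isStack.1
  have hX : Groth.Agent.IsoNatLib.Nice 𝒳 := ⟨h𝒳, h𝒳d, h𝒳i⟩
  have hY : Groth.Agent.IsoNatLib.Nice 𝒴 := ⟨h𝒴, h𝒴d, h𝒴i⟩
  have hX' : Groth.Agent.IsoNatLib.Nice 𝒳' := ⟨h𝒳', h𝒳'd, h𝒳'i⟩
  have hY' : Groth.Agent.IsoNatLib.Nice 𝒴' := ⟨h𝒴', h𝒴'd, h𝒴'i⟩
  obtain ⟨U, V, x, y, h, i, hx, hxs, hy, hP⟩ := hf
  obtain ⟨x', hxx⟩ := Groth.Agent.IsoNatLib.exists_corr_right (Groth.Agent.IsoNatLib.clsIsoOfFIso φ.src) x
  obtain ⟨y', hyy⟩ := Groth.Agent.IsoNatLib.exists_corr_right (Groth.Agent.IsoNatLib.clsIsoOfFIso φ.tgt) y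
  have e := congrArg ((Groth.Agent.IsoNatLib.clsIsoOfFIso φ.tgt).eqv U) (Groth.Agent.IsoNatLib.triv_eq_of_iso i)
  rw [Groth.Agent.IsoNatLib.triv_comp_overMap, (Groth.Agent.IsoNatLib.clsIsoOfFIso φ.tgt).nat, hyy, ← Groth.Agent.IsoNatLib.triv_comp_overMap] at e
  obtain ⟨j⟩ := Groth.Agent.IsoNatLib.exists_iso_of_triv ((Eq.symm (Groth.Agent.IsoNatLib.corr_comp φ hxx)).trans e)
  exact ⟨U, V, x', y', h, j, Groth.Agent.IsoNatLib.smooth_detect hX hX' hxx (Groth.Agent.AlgStLib.repByAlgSpWith_lfp_of_smooth hx) hx,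
    Groth.Agent.IsoNatLib.surj_detect hX hX' hxx hxs,
    Groth.Agent.IsoNatLib.smooth_detect hY hY' hyy (Groth.Agent.AlgStLib.repByAlgSpWith_lfp_of_smooth hy) hy, hP⟩

end Groth.Agent.S15470
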