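import Groth.Statements.S1548
import Groth.Agent.GeomField.Reduced

set_option autoImplicit false
universe u
open CategoryTheory CategoryTheory.Limits AlgebraicGeometry
open Variety

namespace Groth.Agent.S1548

/-- Let k be a field of characteristic p > 0. If the base change X_{k'} is reduced whenever k' is a
finite purely inseparable extension of k, then X is geometrically reduced over k. -/
theorem result (k : Type u) [Field k] (p : ℕ) [Fact p.Prime] [CharP k p]
    (X : Scheme.{u}) [X.Over (Spec (CommRingCat.of k))]
    (h : ∀ (k' : Type u) [Field k'] [Algebra k k'] [FiniteDimensional k k'] [IsPurelyInseparable k k'], IsReduced (Curv2.bc k X k')) :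
    GeometricallyReduced (X ↘ (Spec (CommRingCat.of k))) := by
  rw [GeomField.geometricallyReduced_iff]
  intro x
  refine GeomField.isGeomReducedAt_of_purelyInseparable x fun k' _ _ _ _ x' _ => ?_
  have := h k'
  infer_instance

end Groth.Agent.S1548
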