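import Groth.Statements.S15482
import Groth.Agent.AlgStLib.OpenSub
import Groth.Agent.AlgStLib.Imm
import Groth.Agent.AlgStLib.Charts

set_option autoImplicit false
set_option backward.isDefEq.respectTransparency false
set_option backward.isDefEq.respectTransparency.types false
universe u
open CategoryTheory AlgebraicGeometry
open IsoNat

namespace Groth.Agent.S15482

open AlgSp Groth.Agent.AlgStLib

theorem qcqs_of_proper {S : Scheme.{u}} : IsProperMor (S := S) ≤ qcqs := fun _ _ _ h =>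
  ⟨h.2.1.2, AlgSpLib.repWith_mono (fun _ _ g (_ : IsClosedImmersion g) => (inferInstance : QuasiCompact g)) _ h.1⟩

theorem qcqs_of_sep_qc {S : Scheme.{u}} :
    (AlgSp.IsSeparatedMor ⊓ AlgSp.IsQuasiCompactMor : MorphismProperty (AlgSp.Sp S)) ≤ qcqs := fun _ _ _ h =>
  ⟨h.2, AlgSpLib.repWith_mono (fun _ _ g (_ : IsClosedImmersion g) => (inferInstance : QuasiCompact g)) _ h.1⟩

theorem exists_qc_open {S : Scheme.{u}} {𝒴 : AlgSt.Cat S}
    (h𝒴 : AlgSt.IsAlgStack Scheme.fppfPrecoverage 𝒴) {U : Over S} [CompactSpace U.left]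
    (u : FibCat.overCat U ⥤ᵇ 𝒴) :
    ∃ T : Set (AlgSt.Points 𝒴), IsOpen T ∧ Set.range (AlgSt.Points.ofChart u) ⊆ T ∧
      AlgSt.IsQuasiCompact (AlgSt.fullSub 𝒴 (PtsIn T)) := by
  obtain ⟨V, x, hx, hx'⟩ := h𝒴.atlas
  have hsurj := ofChart_surjective h𝒴.isStack.1 hx'
  have ho := isOpenMap_ofChart h𝒴.isStack.1 (repByAlgSpWith_flat_of_smooth hx) (repByAlgSpWith_lfp_of_smooth hx)
  have hK : IsCompact (Set.range (AlgSt.Points.ofChart u)) :=
    isCompact_range (continuous_ofChart h𝒴.isStack.1 h𝒴.atlas u)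
  obtain ⟨s, hs⟩ := hK.elim_finite_subcover
    (fun A : V.left.affineOpens => AlgSt.Points.ofChart x '' (A.1 : Set V.left)) (fun A => ho _ A.1.2)
    (fun p _ => by
      obtain ⟨t, rfl⟩ := hsurj p
      obtain ⟨A, hA, htA, -⟩ := exists_isAffineOpen_mem_and_subset (U := (⊤ : V.left.Opens)) (x := t) trivial
      exact Set.mem_iUnion.2 ⟨⟨A, hA⟩, t, htA, rfl⟩)
  let W : V.left.Opens := ⨆ A ∈ s, A.1
  have hW : (W : Set V.left) = ⋃ A ∈ s, (A.1 : Set V.left) := by simp [W]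
  have hWc : IsCompact (W : Set V.left) :=
    hW ▸ s.finite_toSet.isCompact_biUnion fun A _ => A.2.isCompact
  refine ⟨AlgSt.Points.ofChart x '' (W : Set V.left), ho _ W.2, ?_, ?_⟩
  · rw [hW, Set.image_iUnion₂]
    exact hs
  · let T := AlgSt.Points.ofChart x '' (W : Set V.left)
    have hTs := isOpenSubstack_ptsIn h𝒴 (ho _ W.2 : IsOpen T)
    let Wo : Over S := Over.mk (W.ι ≫ V.hom)
    let ι : Wo ⟶ V := Over.homMk W.ι rfl
    haveI : CompactSpace Wo.left := isCompact_iff_compactSpace.mp hWc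
    let xW : FibCat.overCat Wo ⥤ᵇ AlgSt.fullSub 𝒴 (PtsIn T) :=
      { toFunctor := ObjectProperty.lift _ (BasedFunctor.comp (AlgSt.overMap ι) x).toFunctor (fun c =>
          (ptsIn_chart_iff h𝒴.isStack.1 x ((AlgSt.overMap ι).obj c)).2 fun w => ⟨_, (c.hom.left w).2, rfl⟩)
        w := (BasedFunctor.comp (AlgSt.overMap ι) x).w }
    have hinj := pts_map_injective_of_isMono hTs.2.1.isStack.1 h𝒴.isStack.1 (f := AlgSt.subIncl 𝒴 (PtsIn T))
      (isMono_of_isImm (repByAlgSpWith_mono (fun _ _ _ hh =>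
        AlgSpLib.repWith_mono (fun _ _ g (_ : IsOpenImmersion g) => (inferInstance : IsImmersion g)) _ hh) hTs.2.2))
    refine isQuasiCompact_of_surjective (isFibGrpd_overCat Wo) hTs.2.1 (f := xW) (fun p => ?_)
      (isQuasiCompact_overCat Wo)
    have hp : AlgSt.Points.map (AlgSt.subIncl 𝒴 (PtsIn T)) p ∈ T := by
      have hr : AlgSt.Points.map (AlgSt.subIncl 𝒴 (PtsIn T)) p ∈
          Set.range (AlgSt.Points.map (AlgSt.subIncl 𝒴 (PtsIn T))) := ⟨p, rfl⟩
      exact (Set.ext_iff.1 (range_subIncl_ptsIn (T := T)) _).1 hr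
    obtain ⟨w, hw, e⟩ := hp
    refine ⟨ptAt Wo ⟨w, hw⟩, hinj ?_⟩
    rw [← e, ← pts_map_comp, ← ofChart_eq_map]
    exact ofChart_overMap ι x ⟨w, hw⟩

open CategoryTheory AlgebraicGeometry in

/-- A morphism f : 𝒳 → 𝒴 of algebraic stacks over a quasi-separated scheme S is quasi-compact (its base
change to every quasi-compact algebraic stack is quasi-compact) if and only if for every
quasi-compact algebraic stack 𝒴' and every open immersion j : 𝒴' → 𝒴 (representable by open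
immersions of algebraic spaces) the 2-fibre product 𝒴' ×_𝒴 𝒳 is quasi-compact. Here an algebraic
stack over a quasi-separated scheme S means a stack in groupoids for the fppf topology with a smooth
surjective atlas from a scheme, whose diagonal is representable by separated quasi-compact morphisms
of algebraic spaces and whose inertia is locally of finite presentation over it. -/
theorem result
    (S : Scheme.{u}) [QuasiSeparatedSpace S]
    (𝒳 𝒴 : AlgSt.Cat S)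
    (h𝒳 : AlgSt.IsAlgStack Scheme.fppfPrecoverage 𝒳)
    (h𝒳d : AlgSt.RepByAlgSpWith (AlgSp.IsSeparatedMor ⊓ AlgSp.IsQuasiCompactMor)
      (FibCat.diag (FibCat.toSelf 𝒳)))
    (h𝒳i : AlgSt.RepByAlgSpWith (AlgSp.LocP @LocallyOfFinitePresentation)
      (FibCat.inertiaToBase (FibCat.toSelf 𝒳)))
    (h𝒴 : AlgSt.IsAlgStack Scheme.fppfPrecoverage 𝒴)
    (h𝒴d : AlgSt.RepByAlgSpWith (AlgSp.IsSeparatedMor ⊓ AlgSp.IsQuasiCompactMor)
      (FibCat.diag (FibCat.toSelf 𝒴)))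
    (h𝒴i : AlgSt.RepByAlgSpWith (AlgSp.LocP @LocallyOfFinitePresentation)
      (FibCat.inertiaToBase (FibCat.toSelf 𝒴)))
    (f : 𝒳 ⥤ᵇ 𝒴) :
    AlgSt.IsQuasiCompactMor Scheme.fppfPrecoverage f ↔
      ∀ (𝒴' : AlgSt.Cat S), AlgSt.IsAlgStack Scheme.fppfPrecoverage 𝒴' → AlgSt.IsQuasiCompact 𝒴' →
        ∀ (j : 𝒴' ⥤ᵇ 𝒴), AlgSt.IsOpenImm j → AlgSt.IsQuasiCompact (FibCat.fp j f) := by
  refine ⟨fun h 𝒴' h₁ h₂ j _ => h 𝒴' h₁ h₂ j, fun h => ?_⟩
  refine isQuasiCompactMor_of_affine h𝒳 h𝒴.isStack h𝒴.diag fun U u hU => ?_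
  have := hU
  obtain ⟨T, hT, hTu, hq⟩ := exists_qc_open h𝒴 u
  have hTs := isOpenSubstack_ptsIn h𝒴 hT
  let j := AlgSt.subIncl 𝒴 (PtsIn T)
  have hj : AlgSt.IsOpenImm j := hTs.2.2
  have hP := h (AlgSt.fullSub 𝒴 (PtsIn T)) hTs.2.1 hq j hj
  have hmem : ∀ a, PtsIn T (u.obj a) := fun a =>
    (ptsIn_chart_iff h𝒴.isStack.1 u a).2 fun w => hTu ⟨_, rfl⟩
  let u' : FibCat.overCat U ⥤ᵇ AlgSt.fullSub 𝒴 (PtsIn T) :=
    { toFunctor := ObjectProperty.lift _ u.toFunctor hmem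
      w := u.w }
  have hqs : AlgSt.IsQuasiSeparatedMor j := repByAlgSpWith_mono qcqs_of_proper
    (isSeparatedMor_and_isDMMor_of_isMono (isMono_of_isImm (repByAlgSpWith_mono
      (fun _ _ _ hh => AlgSpLib.repWith_mono (fun _ _ g (_ : IsOpenImmersion g) => (inferInstance : IsImmersion g)) _ hh) hj))).1
  have hPalg := isAlgStack_fp hTs.2.1 h𝒳 h𝒴.isStack h𝒴.diag j f
  have hqY : AlgSt.IsQuasiSeparatedOver 𝒴 := repByAlgSpWith_mono qcqs_of_sep_qc h𝒴d
  have h1 : AlgSt.IsQuasiCompactMor Scheme.fppfPrecoverage (BasedFunctor.comp (FibCat.fpFst j f) j) :=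
    isQuasiCompactMor_of_isQuasiSeparatedOver hPalg h𝒴 _ hP hqY
  have h2 : AlgSt.IsQuasiCompactMor Scheme.fppfPrecoverage (FibCat.fpFst j f) :=
    isQuasiCompactMor_of_comp hPalg hTs.2.1 h𝒴.isStack h𝒴.diag h1 hqs
  exact isQuasiCompact_of_equiv (Groth.Agent.FibBase.pasteVert_isEquivOver u' j f)
    (h2 _ (isAlgStack_overCat U) (isQuasiCompact_overCat U) u')

end Groth.Agent.S15482
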