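import Groth.Statements.S15483
import Groth.Agent.IsoNatLib.ProperInertia

set_option autoImplicit false
set_option backward.isDefEq.respectTransparency false
set_option backward.isDefEq.respectTransparency.types false
universe u
open CategoryTheory AlgebraicGeometry
open IsoNat

namespace Groth.Agent.S15483

/-- Properness of the inertia is detected by the presheaf of isomorphism classes. If 𝒳 and 𝒴 are
algebraic stacks over a quasi-separated scheme S with isomorphic presheaves of isomorphism classes,
𝒴 is locally Noetherian (every scheme smooth over 𝒴 is locally Noetherian), and the inertia stack of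
𝒳 is proper over 𝒳 (as a morphism representable by algebraic spaces), then the inertia stack of 𝒴 is
proper over 𝒴. Here an algebraic stack over a quasi-separated scheme S means a stack in groupoids
for the fppf topology with a smooth surjective atlas from a scheme, whose diagonal is representable
by separated quasi-compact morphisms of algebraic spaces and whose inertia is locally of finite
presentation over it. (The published statement compares within the wider class of quasi-algebraic
stacks, which need not have an atlas, and has no Noetherian hypothesis; its argument reads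
properness of the inertia from the presheaf evaluated on discrete valuation rings doubled along
their generic point, which decides properness over a locally Noetherian stack, so this row compares
algebraic stacks only and assumes 𝒴 locally Noetherian.) -/
theorem result
    (S : Scheme.{u}) [QuasiSeparatedSpace S]
    (𝒳 𝒴 : AlgSt.Cat S)
    (h𝒳 : AlgSt.IsAlgStack Scheme.fppfPrecoverage 𝒳)
    (h𝒳d : AlgSt.RepByAlgSpWith (AlgSp.IsSeparatedMor ⊓ AlgSp.IsQuasiCompactMor)
      (FibCat.diag (FibCat.toSelf 𝒳)))
    (h𝒳i : AlgSt.RepByAlgSpWith (AlgSp.LocP @LocallyOfFinitePresentation)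
      (FibCat.inertiaToBase (FibCat.toSelf 𝒳)))
    (h𝒴 : AlgSt.IsAlgStack Scheme.fppfPrecoverage 𝒴)
    (h𝒴d : AlgSt.RepByAlgSpWith (AlgSp.IsSeparatedMor ⊓ AlgSp.IsQuasiCompactMor)
      (FibCat.diag (FibCat.toSelf 𝒴)))
    (h𝒴i : AlgSt.RepByAlgSpWith (AlgSp.LocP @LocallyOfFinitePresentation)
      (FibCat.inertiaToBase (FibCat.toSelf 𝒴)))
    (hN : AlgSt.SmoothLocally (fun X => IsLocallyNoetherian X) 𝒴)
    (φ : IsoNat.FIso 𝒳 𝒴)
    (hpr : AlgSt.RepByAlgSpWith AlgSp.IsProperMor (FibCat.inertiaToBase (FibCat.toSelf 𝒳))) :
    AlgSt.RepByAlgSpWith AlgSp.IsProperMor (FibCat.inertiaToBase (FibCat.toSelf 𝒴)) := by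
  open Groth.Agent.IsoNatLib in
  have := h𝒳.isStack.1
  have := h𝒴.isStack.1
  exact properInertia_of_clsIso ⟨h𝒳, h𝒳d, h𝒳i⟩ ⟨h𝒴, h𝒴d, h𝒴i⟩ (clsIsoOfFIso φ) hN hpr

end Groth.Agent.S15483
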