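import Groth.Statements.S15484
import Groth.Agent.IsoNatLib.BG
-- import your own Groth.Agent.* helpers here

set_option autoImplicit false
universe u
open CategoryTheory AlgebraicGeometry MonoidalCategory
open IsoNat

namespace Groth.Agent.S15484

/-- The classifying stack of a commutative group scheme is determined by its presheaf of isomorphism
classes. Let S be a quasi-separated scheme, G a commutative group scheme over S with G → S affine
and locally of finite presentation, and BG its classifying stack (objects over T: the fppf
G_T-torsors, schemes since G is affine over S). If 𝒴 is an algebraic stack over S whose presheaf of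
isomorphism classes is isomorphic to that of BG, then there is an equivalence BG → 𝒴 over (Sch/S).
Here an algebraic stack over a quasi-separated scheme S means a stack in groupoids for the fppf
topology with a smooth surjective atlas from a scheme, whose diagonal is representable by separated
quasi-compact morphisms of algebraic spaces and whose inertia is locally of finite presentation over
it; BG is assumed to be of this kind too. (The published statement allows G to be an abelian group
algebraic space locally of finite presentation over an algebraic space and compares within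
quasi-algebraic stacks; this row takes G affine over the scheme S and compares algebraic stacks.) -/
theorem result
    (S : Scheme.{u}) [QuasiSeparatedSpace S]
    (G : Over S) [GrpObj G] [IsCommMonObj G] [IsAffineHom G.hom] [LocallyOfFinitePresentation G.hom]
    (hB : AlgSt.IsAlgStack Scheme.fppfPrecoverage (AlgSt.BG Scheme.fppfPrecoverage G))
    (hBd : AlgSt.RepByAlgSpWith (AlgSp.IsSeparatedMor ⊓ AlgSp.IsQuasiCompactMor)
      (FibCat.diag (FibCat.toSelf (AlgSt.BG Scheme.fppfPrecoverage G))))
    (hBi : AlgSt.RepByAlgSpWith (AlgSp.LocP @LocallyOfFinitePresentation)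
      (FibCat.inertiaToBase (FibCat.toSelf (AlgSt.BG Scheme.fppfPrecoverage G))))
    (𝒴 : AlgSt.Cat S)
    (h𝒴 : AlgSt.IsAlgStack Scheme.fppfPrecoverage 𝒴)
    (h𝒴d : AlgSt.RepByAlgSpWith (AlgSp.IsSeparatedMor ⊓ AlgSp.IsQuasiCompactMor)
      (FibCat.diag (FibCat.toSelf 𝒴)))
    (h𝒴i : AlgSt.RepByAlgSpWith (AlgSp.LocP @LocallyOfFinitePresentation)
      (FibCat.inertiaToBase (FibCat.toSelf 𝒴)))
    (φ : IsoNat.FIso (AlgSt.BG Scheme.fppfPrecoverage G) 𝒴) :
    ∃ e : (AlgSt.BG Scheme.fppfPrecoverage G) ⥤ᵇ 𝒴, FibCat.IsEquivOver e := by
  exact Groth.Agent.IsoNatLib.exists_equiv_of_bg G hB.isStack h𝒴.isStack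
    (Groth.Agent.AlgStLib.repByAlgSpWith_mono inf_le_left hBd)
    (Groth.Agent.AlgStLib.repByAlgSpWith_mono inf_le_left h𝒴d) φ

end Groth.Agent.S15484
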