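import Groth.Statements.S15487


set_option autoImplicit false
set_option backward.isDefEq.respectTransparency false
set_option backward.isDefEq.respectTransparency.types false
universe u
open CategoryTheory AlgebraicGeometry
open IsoNat

namespace Groth.Agent.S15487

/-- Surjectivity of a morphism of algebraic stacks is detected by the induced map of presheaves of
isomorphism classes. Let f : 𝒳 → 𝒴 and f' : 𝒳' → 𝒴' be morphisms of algebraic stacks over a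
quasi-separated scheme S with isomorphisms of the presheaves of isomorphism classes of 𝒳 with 𝒳' and
of 𝒴 with 𝒴' under which the induced maps correspond. If f induces a surjective map on spaces of
points, so does f'. Here an algebraic stack over a quasi-separated scheme S means a stack in
groupoids for the fppf topology with a smooth surjective atlas from a scheme, whose diagonal is
representable by separated quasi-compact morphisms of algebraic spaces and whose inertia is locally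
of finite presentation over it. -/
theorem result
    (S : Scheme.{u}) [QuasiSeparatedSpace S]
    (𝒳 𝒴 : AlgSt.Cat S)
    (h𝒳 : AlgSt.IsAlgStack Scheme.fppfPrecoverage 𝒳)
    (h𝒳d : AlgSt.RepByAlgSpWith (AlgSp.IsSeparatedMor ⊓ AlgSp.IsQuasiCompactMor)
      (FibCat.diag (FibCat.toSelf 𝒳)))
    (h𝒳i : AlgSt.RepByAlgSpWith (AlgSp.LocP @LocallyOfFinitePresentation)
      (FibCat.inertiaToBase (FibCat.toSelf 𝒳)))
    (h𝒴 : AlgSt.IsAlgStack Scheme.fppfPrecoverage 𝒴)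
    (h𝒴d : AlgSt.RepByAlgSpWith (AlgSp.IsSeparatedMor ⊓ AlgSp.IsQuasiCompactMor)
      (FibCat.diag (FibCat.toSelf 𝒴)))
    (h𝒴i : AlgSt.RepByAlgSpWith (AlgSp.LocP @LocallyOfFinitePresentation)
      (FibCat.inertiaToBase (FibCat.toSelf 𝒴)))
    (𝒳' 𝒴' : AlgSt.Cat S)
    (h𝒳' : AlgSt.IsAlgStack Scheme.fppfPrecoverage 𝒳')
    (h𝒳'd : AlgSt.RepByAlgSpWith (AlgSp.IsSeparatedMor ⊓ AlgSp.IsQuasiCompactMor)
      (FibCat.diag (FibCat.toSelf 𝒳')))
    (h𝒳'i : AlgSt.RepByAlgSpWith (AlgSp.LocP @LocallyOfFinitePresentation)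
      (FibCat.inertiaToBase (FibCat.toSelf 𝒳')))
    (h𝒴' : AlgSt.IsAlgStack Scheme.fppfPrecoverage 𝒴')
    (h𝒴'd : AlgSt.RepByAlgSpWith (AlgSp.IsSeparatedMor ⊓ AlgSp.IsQuasiCompactMor)
      (FibCat.diag (FibCat.toSelf 𝒴')))
    (h𝒴'i : AlgSt.RepByAlgSpWith (AlgSp.LocP @LocallyOfFinitePresentation)
      (FibCat.inertiaToBase (FibCat.toSelf 𝒴')))
    (f : 𝒳 ⥤ᵇ 𝒴) (f' : 𝒳' ⥤ᵇ 𝒴') (φ : IsoNat.FIsoSq f f')
    (hf : AlgSt.IsSurjective f) :
    AlgSt.IsSurjective f' := by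
  let pt' : ∀ {𝒲 𝒲' : AlgSt.Cat S} (p : AlgSt.FPt 𝒲), 𝒲'.p.Fiber (Over.mk p.str) → AlgSt.FPt 𝒲' :=
    fun p z => { K := p.K, str := p.str, obj := z.1, lies := z.2 }
  have hcls : ∀ {𝒲 𝒲' : AlgSt.Cat S} (p : AlgSt.FPt 𝒲) (z z' : 𝒲'.p.Fiber (Over.mk p.str)),
      IsoNat.cls z = IsoNat.cls z' → AlgSt.Points.mk (pt' p z) = AlgSt.Points.mk (pt' p z') := by
    intro 𝒲 𝒲' p z z' h
    obtain ⟨e⟩ := Quotient.exact h
    exact AlgSt.Points.sound ⟨pt' p z, 𝟙 z.1, e.hom.1, trivial⟩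
  let Φ : AlgSt.Points 𝒴 → AlgSt.Points 𝒴' := Quot.lift
    (fun p => AlgSt.Points.mk (pt' p (Quotient.out (φ.tgt.toEquiv _ (IsoNat.cls ⟨p.obj, p.lies⟩)))))
    (by
      have step : ∀ (r p : AlgSt.FPt 𝒴) (a : r.obj ⟶ p.obj),
          AlgSt.Points.mk (pt' r (Quotient.out (φ.tgt.toEquiv _ (IsoNat.cls ⟨r.obj, r.lies⟩)))) =
          AlgSt.Points.mk (pt' p (Quotient.out (φ.tgt.toEquiv _ (IsoNat.cls ⟨p.obj, p.lies⟩)))) := by
        intro r p a
        obtain ⟨y', y, b, hb, e', e⟩ := φ.tgt.natural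
          (eqToHom r.lies.symm ≫ 𝒴.p.map a ≫ eqToHom p.lies) ⟨r.obj, r.lies⟩ ⟨p.obj, p.lies⟩ a
          (IsHomLift.of_fac' 𝒴.p _ a r.lies p.lies (by simp))
        rw [hcls r _ y' ((Quotient.out_eq _).trans e'), hcls p _ y ((Quotient.out_eq _).trans e)]
        exact AlgSt.Points.sound ⟨pt' r y', 𝟙 _, b, trivial⟩
      rintro p q ⟨r, a, b, -⟩
      exact (step r p a).symm.trans (step r q b))
  intro q
  obtain ⟨q, rfl⟩ := AlgSt.Points.mk_surjective q
  let c : 𝒴.p.Fiber (Over.mk q.str) :=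
    Quotient.out ((φ.tgt.toEquiv _).symm (IsoNat.cls ⟨q.obj, q.lies⟩))
  obtain ⟨x, hx⟩ := hf (AlgSt.Points.mk (pt' q c))
  obtain ⟨p, rfl⟩ := AlgSt.Points.mk_surjective x
  refine ⟨AlgSt.Points.mk (pt' p (Quotient.out (φ.src.toEquiv _ (IsoNat.cls ⟨p.obj, p.lies⟩)))), ?_⟩
  have h₁ : Φ (AlgSt.Points.mk (pt' q c)) = AlgSt.Points.mk q :=
    hcls q _ ⟨q.obj, q.lies⟩ (((Quotient.out_eq _).trans
      (congrArg (φ.tgt.toEquiv _) (Quotient.out_eq _))).trans (Equiv.apply_symm_apply _ _))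
  refine Eq.trans ?_ ((congrArg Φ hx).trans h₁)
  have hc : φ.tgt.toEquiv _ (IsoNat.cls ⟨(p.map f).obj, (p.map f).lies⟩) =
      IsoNat.mapCls f' _ (φ.src.toEquiv _ (IsoNat.cls ⟨p.obj, p.lies⟩)) :=
    φ.comm _ (IsoNat.cls ⟨p.obj, p.lies⟩)
  exact (hcls p ((IsoNat.fibFun f' _).obj (Quotient.out (φ.src.toEquiv _ (IsoNat.cls ⟨p.obj, p.lies⟩)))) _
    (((congrArg (IsoNat.mapCls f' _) (Quotient.out_eq _)).trans hc.symm).trans (Quotient.out_eq _).symm))

end Groth.Agent.S15487
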