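import Groth.Statements.S15488
import Mathlib.LinearAlgebra.Projection
import Mathlib.GroupTheory.Coset.Basic
import Mathlib.GroupTheory.OrderOfElement
import Mathlib.LinearAlgebra.Dimension.Constructions
import Mathlib.LinearAlgebra.FiniteDimensional.Defs
import Mathlib.LinearAlgebra.FreeModule.StrongRankCondition

set_option autoImplicit false
set_option backward.isDefEq.respectTransparency false
set_option backward.isDefEq.respectTransparency.types false
universe u
open IsoNat

namespace Groth.Agent.S15488

/-- Let A be a nontrivial commutative ring, G a finite group, g an element of G of order ν and l an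
element of A with l ^ ν = 1. In the free A-module of functions G → A (the regular representation, g
acting by translation v ↦ v(g·)), the submodule of v with v(g h) = l v(h) for all h is a direct
summand, free of rank |G| / ν (stated as: free, rank · ν = |G|, and a complementary submodule
exists). (The published statement is over an arbitrary ring and also covers Hom(A^N, −) of the
regular representation, which follows; nontriviality of A is needed for the rank to be meaningful.) -/
theorem result
    (A : Type u) [CommRing A] [Nontrivial A] (G : Type u) [Group G] [Finite G]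
    (g : G) (l : A) (hl : l ^ orderOf g = 1) :
    Module.Free A (LinearMap.ker (LinearMap.funLeft A A (fun h : G => g * h) - l • LinearMap.id)) ∧
      Module.finrank A (LinearMap.ker (LinearMap.funLeft A A (fun h : G => g * h) - l • LinearMap.id)) * orderOf g = Nat.card G ∧
      ∃ E' : Submodule A (G → A), IsCompl (LinearMap.ker (LinearMap.funLeft A A (fun h : G => g * h) - l • LinearMap.id)) E' := by
  classical
  set E := LinearMap.ker (LinearMap.funLeft A A (fun h : G => g * h) - l • LinearMap.id) with hE
  have memE : ∀ v : G → A, v ∈ E ↔ ∀ h, v (g * h) = l * v h := by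
    intro v
    simp [hE, LinearMap.mem_ker, funext_iff, sub_eq_zero, LinearMap.funLeft_apply]
  let R := Quotient (QuotientGroup.rightRel (Subgroup.zpowers g))
  let r : R → G := Quotient.out
  let φ : R × Fin (orderOf g) → G := fun p => g ^ (p.2 : ℕ) * r p.1
  have hfin : IsOfFinOrder g := isOfFinOrder_of_finite g
  have hφ : Function.Bijective φ := by
    constructor
    · rintro ⟨q, i⟩ ⟨q', i'⟩ h
      have hq : q = q' := by
        rw [← Quotient.out_eq q, ← Quotient.out_eq q']
        refine Quotient.sound (QuotientGroup.rightRel_apply.2 ?_)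
        have h' : r q' = (g ^ (i' : ℕ))⁻¹ * (g ^ (i : ℕ) * r q) := eq_inv_mul_iff_mul_eq.2 h.symm
        show r q' * (r q)⁻¹ ∈ Subgroup.zpowers g
        rw [h', ← mul_assoc, mul_inv_cancel_right]
        exact (Subgroup.zpowers g).mul_mem ((Subgroup.zpowers g).inv_mem
          ((Subgroup.zpowers g).pow_mem (Subgroup.mem_zpowers g) _))
          ((Subgroup.zpowers g).pow_mem (Subgroup.mem_zpowers g) _)
      subst hq
      exact Prod.ext rfl (Fin.ext (pow_injOn_Iio_orderOf i.2 i'.2 (mul_right_cancel h)))
    · intro h
      have hm : h * (r (Quotient.mk _ h))⁻¹ ∈ Subgroup.zpowers g :=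
        QuotientGroup.rightRel_apply.1 (Quotient.mk_out (s := QuotientGroup.rightRel (Subgroup.zpowers g)) h)
      obtain ⟨n, hn⟩ := hfin.mem_powers_iff_mem_zpowers.2 hm
      refine ⟨⟨Quotient.mk _ h, ⟨n % orderOf g, Nat.mod_lt _ hfin.orderOf_pos⟩⟩, ?_⟩
      show g ^ (n % orderOf g) * r _ = h
      rw [pow_mod_orderOf]
      exact (congrArg (· * r _) hn).trans (inv_mul_cancel_right _ _)
  let e := Equiv.ofBijective φ hφ
  let res : (G → A) →ₗ[A] (R → A) := LinearMap.funLeft A A r
  let ext : (R → A) →ₗ[A] (G → A) :=
    { toFun := fun w h => l ^ ((e.symm h).2 : ℕ) * w (e.symm h).1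
      map_add' := fun a b => by funext h; simp [mul_add]
      map_smul' := fun a b => by funext h; simp [mul_left_comm] }
  have hl' : ∀ n : ℕ, l ^ (n % orderOf g) = l ^ n := by
    intro n
    conv_rhs => rw [← Nat.mod_add_div n (orderOf g), pow_add, pow_mul, hl, one_pow, mul_one]
  have key : ∀ (w : R → A) (q : R) (n : ℕ), ext w (g ^ n * r q) = l ^ n * w q := by
    intro w q n
    have h1 : e.symm (g ^ n * r q) = (q, ⟨n % orderOf g, Nat.mod_lt _ hfin.orderOf_pos⟩) := by
      rw [Equiv.symm_apply_eq]
      show g ^ n * r q = g ^ (n % orderOf g) * r q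
      rw [pow_mod_orderOf]
    show l ^ ((e.symm (g ^ n * r q)).2 : ℕ) * w (e.symm (g ^ n * r q)).1 = _
    rw [h1]
    exact congrArg (· * w q) (hl' n)
  have hext : ∀ w, ext w ∈ E := by
    intro w
    rw [memE]
    intro h
    obtain ⟨⟨q, i⟩, rfl⟩ := hφ.2 h
    show ext w (g * (g ^ (i : ℕ) * r q)) = l * ext w (g ^ (i : ℕ) * r q)
    rw [← mul_assoc, ← pow_succ', key, key, pow_succ']
    exact mul_assoc _ _ _
  have hres : ∀ w, res (ext w) = w := by
    intro w
    funext q
    have := key w q 0
    simpa [res, LinearMap.funLeft_apply] using this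
  have hvE : ∀ v ∈ E, ext (res v) = v := by
    intro v hv
    funext h
    obtain ⟨⟨q, i⟩, rfl⟩ := hφ.2 h
    show ext (res v) (g ^ (i : ℕ) * r q) = v (g ^ (i : ℕ) * r q)
    rw [key]
    generalize (i : ℕ) = n
    induction n with
    | zero => simp [res, LinearMap.funLeft_apply]
    | succ n ih => rw [pow_succ' g, pow_succ' l, mul_assoc g, (memE v).1 hv, mul_assoc, ih]
  let eqv : (R → A) ≃ₗ[A] E :=
    { toFun := fun w => ⟨ext w, hext w⟩
      map_add' := fun a b => Subtype.ext (ext.map_add a b)
      map_smul' := fun a b => Subtype.ext (ext.map_smul a b)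
      invFun := fun v => res v
      left_inv := hres
      right_inv := fun v => Subtype.ext (hvE _ v.2) }
  have : Fintype R := Fintype.ofFinite R
  refine ⟨Module.Free.of_equiv eqv, ?_, LinearMap.ker (ext.comp res), ?_⟩
  · rw [← eqv.finrank_eq, Module.finrank_pi, ← Nat.card_eq_fintype_card,
      ← Nat.card_congr e, Nat.card_prod, Nat.card_fin]
  · exact LinearMap.IsProj.isCompl ⟨fun v => hext (res v), hvE⟩

end Groth.Agent.S15488
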