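import Groth.Statements.S15491


set_option autoImplicit false
set_option backward.isDefEq.respectTransparency false
set_option backward.isDefEq.respectTransparency.types false
universe v u
open CategoryTheory CategoryTheory.Functor
open IsoNat

namespace Groth.Agent.S15491

/-- Pasting of 2-cartesian squares, stated in the 2-category of categories. Consider functors t : A → B,
t' : A' → B', t'' : A'' → B'' and l : A → A', r : B → B', l' : A' → A'', r' : B' → B'' with natural
isomorphisms e₁ : t ⋙ r ≅ l ⋙ t' and e₂ : t' ⋙ r' ≅ l' ⋙ t''. If the lower square (t', l', r', t'',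
e₂) is 2-cartesian (its comparison functor to the 2-fibre product is an equivalence), then the upper
square (t, l, r, t', e₁) is 2-cartesian if and only if the outer rectangle (t, l ⋙ l', r ⋙ r', t'')
with the pasted isomorphism is. (The published statement is for an arbitrary 2-category whose
2-morphisms are invertible; this row is the case of categories, functors and natural isomorphisms.) -/
theorem result
    {A B A' B' A'' B'' : Type u} [Category.{v} A] [Category.{v} B] [Category.{v} A'] [Category.{v} B']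
    [Category.{v} A''] [Category.{v} B'']
    (t : A ⥤ B) (l : A ⥤ A') (r : B ⥤ B') (t' : A' ⥤ B') (l' : A' ⥤ A'') (r' : B' ⥤ B'') (t'' : A'' ⥤ B'')
    (e₁ : t ⋙ r ≅ l ⋙ t') (e₂ : t' ⋙ r' ≅ l' ⋙ t'')
    (h₂ : FibCat.IsTwoCart t' l' r' t'' e₂) :
    FibCat.IsTwoCart t l r t' e₁ ↔
      FibCat.IsTwoCart t (l ⋙ l') (r ⋙ r') t''
        ((Functor.associator t r r').symm ≪≫ isoWhiskerRight e₁ r' ≪≫ Functor.associator l t' r' ≪≫
          isoWhiskerLeft l e₂ ≪≫ (Functor.associator l l' t'').symm) := by
  let K := (CategoryTheory.Limits.CategoricalPullback.CatCommSqOver.toFunctorToCategoricalPullback r' t'' A').obj ⟨t', l', e₂⟩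
  have hK : K.IsEquivalence := h₂
  let Φ : CategoryTheory.Limits.CategoricalPullback r t' ⥤ CategoryTheory.Limits.CategoricalPullback (r ⋙ r') t'' :=
    { obj := fun x => ⟨x.fst, l'.obj x.snd, r'.mapIso x.iso ≪≫ e₂.app x.snd⟩
      map := fun {x y} f => ⟨f.fst, l'.map f.snd, by
        show r'.map (r.map f.fst) ≫ r'.map y.iso.hom ≫ e₂.hom.app y.snd =
          (r'.map x.iso.hom ≫ e₂.hom.app x.snd) ≫ t''.map (l'.map f.snd)
        have n : r'.map (t'.map f.snd) ≫ e₂.hom.app y.snd = e₂.hom.app x.snd ≫ t''.map (l'.map f.snd) :=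
          e₂.hom.naturality f.snd
        rw [← Functor.map_comp_assoc, f.w, Functor.map_comp, Category.assoc, Category.assoc, n]⟩
      map_id := fun x => CategoryTheory.Limits.CategoricalPullback.hom_ext rfl (l'.map_id _)
      map_comp := fun f g => CategoryTheory.Limits.CategoricalPullback.hom_ext rfl (l'.map_comp _ _) }
  have hfaith : Φ.Faithful := ⟨fun {x y} f g h => by
    have h₁ : f.fst = g.fst := congrArg (fun s => s.fst) h
    refine CategoryTheory.Limits.CategoricalPullback.hom_ext h₁ (K.map_injective (CategoryTheory.Limits.CategoricalPullback.hom_ext ?_ (congrArg (fun s => s.snd) h)))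
    show t'.map f.snd = t'.map g.snd
    rw [← cancel_epi x.iso.hom, ← f.w, ← g.w, h₁]⟩
  have hfull : Φ.Full := ⟨fun {x y} φ => by
    have w : r'.map (r.map φ.fst) ≫ r'.map y.iso.hom ≫ e₂.hom.app y.snd =
        (r'.map x.iso.hom ≫ e₂.hom.app x.snd) ≫ t''.map φ.snd := φ.w
    let ψ : K.obj x.snd ⟶ K.obj y.snd := ⟨x.iso.inv ≫ r.map φ.fst ≫ y.iso.hom, φ.snd, by
      show r'.map (x.iso.inv ≫ r.map φ.fst ≫ y.iso.hom) ≫ e₂.hom.app y.snd = e₂.hom.app x.snd ≫ t''.map φ.snd
      simp only [Functor.map_comp, Category.assoc] at w ⊢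
      rw [w, ← Functor.map_comp_assoc, Iso.inv_hom_id, Functor.map_id]
      exact Category.id_comp _⟩
    refine ⟨⟨φ.fst, K.preimage ψ, ?_⟩, CategoryTheory.Limits.CategoricalPullback.hom_ext rfl
      (congrArg (fun s => s.snd) (K.map_preimage ψ))⟩
    have h₁ : t'.map (K.preimage ψ) = x.iso.inv ≫ r.map φ.fst ≫ y.iso.hom :=
      congrArg (fun s => s.fst) (K.map_preimage ψ)
    rw [h₁, Iso.hom_inv_id_assoc]⟩
  have hes : Φ.EssSurj := ⟨fun z => by
    let κ := K.objObjPreimageIso (⟨r.obj z.fst, z.snd, z.iso⟩ : CategoryTheory.Limits.CategoricalPullback r' t'')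
    let κ₁ : t'.obj (K.objPreimage (⟨r.obj z.fst, z.snd, z.iso⟩ : CategoryTheory.Limits.CategoricalPullback r' t'')) ≅ r.obj z.fst :=
      (CategoryTheory.Limits.CategoricalPullback.π₁ _ _).mapIso κ
    refine ⟨⟨z.fst, _, κ₁.symm⟩, ⟨CategoryTheory.Limits.CategoricalPullback.mkIso (Iso.refl _) ((CategoryTheory.Limits.CategoricalPullback.π₂ _ _).mapIso κ) ?_⟩⟩
    have w : r'.map κ₁.hom ≫ z.iso.hom = e₂.hom.app _ ≫ t''.map κ.hom.snd := κ.hom.w
    show r'.map (r.map (𝟙 z.fst)) ≫ z.iso.hom = (r'.map κ₁.inv ≫ e₂.hom.app _) ≫ t''.map κ.hom.snd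
    rw [Category.assoc, ← w, ← Functor.map_comp_assoc, Iso.inv_hom_id, r.map_id]⟩
  have hΦ : Φ.IsEquivalence := { }
  let up := (CategoryTheory.Limits.CategoricalPullback.CatCommSqOver.toFunctorToCategoricalPullback r t' A).obj ⟨t, l, e₁⟩
  let out := (CategoryTheory.Limits.CategoricalPullback.CatCommSqOver.toFunctorToCategoricalPullback (r ⋙ r') t'' A).obj ⟨t, l ⋙ l',
    (Functor.associator t r r').symm ≪≫ Functor.isoWhiskerRight e₁ r' ≪≫ Functor.associator l t' r' ≪≫
          Functor.isoWhiskerLeft l e₂ ≪≫ (Functor.associator l l' t'').symm⟩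
  let θ : up ⋙ Φ ≅ out := NatIso.ofComponents
    (fun a => CategoryTheory.Limits.CategoricalPullback.mkIso (Iso.refl _) (Iso.refl _) (by simp [up, out, Φ]; rfl))
    (fun f => CategoryTheory.Limits.CategoricalPullback.hom_ext ((Category.comp_id _).trans (Category.id_comp _).symm)
      ((Category.comp_id _).trans (Category.id_comp _).symm))
  show up.IsEquivalence ↔ out.IsEquivalence
  constructor
  · intro h
    exact Functor.isEquivalence_of_iso θ
  · intro h
    have : (up ⋙ Φ).IsEquivalence := Functor.isEquivalence_of_iso θ.symm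
    exact Functor.isEquivalence_of_comp_right up Φ

end Groth.Agent.S15491
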