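import Groth.Statements.S15492
import Groth.Agent.IsoNatLib.OpenSub
import Groth.Agent.AlgStLib.Stack

set_option autoImplicit false
set_option backward.isDefEq.respectTransparency false
set_option backward.isDefEq.respectTransparency.types false
universe u
open CategoryTheory AlgebraicGeometry
open IsoNat

namespace Groth.Agent.S15492

/-- Open subfunctors of the presheaf of isomorphism classes come from open substacks. Let 𝒴 be an
algebraic stack over a quasi-separated scheme S and W a subfunctor of its presheaf of isomorphism
classes — a set W(T) of isomorphism classes over each T, stable under pullback — which is open: for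
every object x over T there is an open subscheme V of T such that a pullback of x along g : T' → T
has class in W(T') exactly when g factors through V. Then the strictly full subcategory of 𝒴 on the
objects whose class lies in W is an open substack (the converse direction, that an open substack
gives an open subfunctor, is immediate from the definitions, and the two constructions are mutually
inverse). Here an algebraic stack over a quasi-separated scheme S means a stack in groupoids for the
fppf topology with a smooth surjective atlas from a scheme, whose diagonal is representable by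
separated quasi-compact morphisms of algebraic spaces and whose inertia is locally of finite
presentation over it. (The published statement is for an arbitrary stack; this row takes 𝒴
algebraic.) -/
theorem result
    (S : Scheme.{u}) [QuasiSeparatedSpace S]
    (𝒴 : AlgSt.Cat S)
    (h𝒴 : AlgSt.IsAlgStack Scheme.fppfPrecoverage 𝒴)
    (h𝒴d : AlgSt.RepByAlgSpWith (AlgSp.IsSeparatedMor ⊓ AlgSp.IsQuasiCompactMor)
      (FibCat.diag (FibCat.toSelf 𝒴)))
    (h𝒴i : AlgSt.RepByAlgSpWith (AlgSp.LocP @LocallyOfFinitePresentation)
      (FibCat.inertiaToBase (FibCat.toSelf 𝒴)))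
    (W : ∀ T : Over S, Set (IsoNat.IsoCl 𝒴 T))
    (hWpull : ∀ (T' T : Over S) (g : T' ⟶ T) (x' : 𝒴.p.Fiber T') (x : 𝒴.p.Fiber T) (a : x'.1 ⟶ x.1),
      𝒴.p.IsHomLift g a → IsoNat.cls x ∈ W T → IsoNat.cls x' ∈ W T')
    (hWopen : ∀ (T : Over S) (x : 𝒴.p.Fiber T), ∃ V : T.left.Opens,
      ∀ (T' : Over S) (g : T' ⟶ T) (x' : 𝒴.p.Fiber T') (a : x'.1 ⟶ x.1), 𝒴.p.IsHomLift g a →
        (IsoNat.cls x' ∈ W T' ↔ ∃ g' : T'.left ⟶ ↑V, g' ≫ V.ι = g.left)) :
    AlgSt.IsOpenSubstack 𝒴 (fun η => IsoNat.cls (⟨η, rfl⟩ : 𝒴.p.Fiber (𝒴.p.obj η)) ∈ W (𝒴.p.obj η))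
      Scheme.fppfPrecoverage := by
  open Groth.Agent.IsoNatLib Groth.Agent.AlgStLib in
  have := h𝒴.isStack.1
  refine ⟨⟨fun {η η'} e h => clsProp_of_hom hWpull e.inv h⟩, ?_, isOpenImm_clsSub hWopen⟩
  exact isAlgStack_of_repByAlgSp1 (isFibGrpd_clsSub hWpull) h𝒴
    (repByAlgSp1_of_repByAlgSpWith (isOpenImm_clsSub hWopen))

end Groth.Agent.S15492
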