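import Groth.Statements.S15493
import Groth.Agent.IsoNatLib.Main
import Groth.Agent.AlgStLib.Small

set_option autoImplicit false
set_option backward.isDefEq.respectTransparency false
set_option backward.isDefEq.respectTransparency.types false
universe u
open CategoryTheory AlgebraicGeometry
open IsoNat

namespace Groth.Agent.S15493

/-- The presheaf of isomorphism classes commutes with fibre products along an open immersion. Let f : 𝒳
→ 𝒴 be a morphism of algebraic stacks over a quasi-separated scheme S and i : 𝒴' → 𝒴 an open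
immersion of algebraic stacks (representable by open immersions of algebraic spaces). If two objects
of the 2-fibre product 𝒳 ×_𝒴 𝒴' over a scheme T have isomorphic images in 𝒳 over T and isomorphic
images in 𝒴' over T, then they are isomorphic over T. (Together with the evident surjectivity this
says that the natural map from the presheaf of isomorphism classes of 𝒳 ×_𝒴 𝒴' to the fibre product
of the presheaves of 𝒳 and 𝒴' over that of 𝒴 is an isomorphism; the published statement is for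
arbitrary stacks, this row takes them algebraic.) -/
theorem result
    (S : Scheme.{u}) [QuasiSeparatedSpace S]
    (𝒳 𝒴 𝒴' : AlgSt.Cat S)
    (h𝒳 : AlgSt.IsAlgStack Scheme.fppfPrecoverage 𝒳) (h𝒴 : AlgSt.IsAlgStack Scheme.fppfPrecoverage 𝒴)
    (h𝒴' : AlgSt.IsAlgStack Scheme.fppfPrecoverage 𝒴')
    (f : 𝒳 ⥤ᵇ 𝒴) (i : 𝒴' ⥤ᵇ 𝒴) (hi : AlgSt.IsOpenImm i)
    (T : Over S) (z₁ z₂ : (FibCat.fp f i).p.Fiber T)
    (h₁ : IsoNat.mapCls (FibCat.fpFst f i) T (IsoNat.cls z₁) = IsoNat.mapCls (FibCat.fpFst f i) T (IsoNat.cls z₂))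
    (h₂ : IsoNat.mapCls (FibCat.fpSnd f i) T (IsoNat.cls z₁) = IsoNat.mapCls (FibCat.fpSnd f i) T (IsoNat.cls z₂)) :
    IsoNat.cls z₁ = IsoNat.cls z₂ := by
  open Groth.Agent.FibBase Groth.Agent.AlgStLib in
  have hff : i.toFunctor.Full ∧ i.toFunctor.Faithful := full_faithful_of_isMono h𝒴.isStack.1
    (isMono_of_isImm (repByAlgSpWith_mono (fun _ _ _ h => Groth.Agent.AlgSpLib.repWith_mono
      (fun _ _ g (_ : IsOpenImmersion g) => (inferInstance : IsImmersion g)) _ h) hi))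
  have := hff.1
  have := hff.2
  obtain ⟨z₁, hz₁⟩ := z₁
  obtain ⟨z₂, hz₂⟩ := z₂
  obtain ⟨α⟩ := Quotient.exact h₁
  have hα : 𝒳.p.IsHomLift (𝟙 T) α.hom.1 := α.hom.2
  let αF : z₁.obj.fst ⟶ z₂.obj.fst := α.hom.1
  have : IsIso αF := ⟨α.inv.1, congrArg Subtype.val α.hom_inv_id, congrArg Subtype.val α.inv_hom_id⟩
  have hβ' : ∃ β : z₁.obj.snd ≅ z₂.obj.snd, i.map β.hom = z₁.obj.iso.inv ≫ f.map αF ≫ z₂.obj.iso.hom :=
    ⟨i.toFunctor.preimageIso (z₁.obj.iso.symm ≪≫ f.toFunctor.mapIso (asIso αF) ≪≫ z₂.obj.iso), by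
      rw [Functor.preimageIso_hom, Functor.map_preimage]; rfl⟩
  obtain ⟨β, hβ⟩ := hβ'
  let e : z₁.obj ≅ z₂.obj := CategoryTheory.Limits.CategoricalPullback.mkIso (asIso αF) β (by
    show f.map αF ≫ z₂.obj.iso.hom = z₁.obj.iso.hom ≫ i.map β.hom
    rw [hβ, Iso.hom_inv_id_assoc])
  refine Quotient.sound ⟨Groth.Agent.FibBase.fiberIsoMk (p := (FibCat.fp f i).p) (a := ⟨z₁, hz₁⟩) (b := ⟨z₂, hz₂⟩)
    (ObjectProperty.isoMk _ e) ?_⟩
  have hfac := IsHomLift.fac' 𝒳.p (𝟙 T) αF
  exact IsHomLift.of_fac' _ _ _ hz₁ hz₂ hfac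

end Groth.Agent.S15493
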