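import Groth.Statements.S15494
import Mathlib.Algebra.Module.BigOperators
import Mathlib.Algebra.Order.Interval.Finset.SuccPred
import Mathlib.Tactic.Abel
import Mathlib.Algebra.BigOperators.Intervals
-- import your own Groth.Agent.* helpers here

set_option autoImplicit false
universe u v
open Dieud

namespace Groth.Agent.S15494

/-- Let W be a commutative ring with a ring endomorphism σ, p a natural number, M a W-module and F an
additive self-map of M with F (w • m) = σ w • F m. Let d ≥ 1, c ≥ 1, h = d + c, and let e_1, …, e_h,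
… be vectors of M on which F acts through a display matrix in normal form: F e_i = e_{i+1} for 1 ≤ i
< d; F e_d = Σ_{i=1}^{d} a_{i,d} e_i + e_{d+1}; F e_j = Σ_{i=1}^{d} p a_{i,j} e_i + p e_{j+1} for d
< j < h; F e_h = Σ_{i=1}^{d} p a_{i,h} e_i. Then F^h e_1 = Σ_{i=1}^{d} Σ_{j=d}^{h} p^{j-d}
σ^{h-j}(a_{i,j}) F^{h+i-j-1} e_1. (The published statement is for the Dieudonné module of a
p-divisible group of dimension d and height h over the Witt ring of a field of characteristic p,
with σ the Frobenius and e_1, …, e_h a basis; this row keeps only the relations which the printed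
computation uses, so W, σ, p and the vectors are arbitrary.) -/
theorem result
    (W : Type u) [CommRing W] (σ : W →+* W) (p : ℕ)
    (M : Type v) [AddCommGroup M] [Module W M]
    (F : M →+ M) (hF : ∀ (w : W) (m : M), F (w • m) = σ w • F m)
    (d c : ℕ) (hd : 0 < d) (hc : 0 < c)
    (a : ℕ → ℕ → W) (e : ℕ → M)
    (h1 : ∀ i : ℕ, 1 ≤ i → i < d → F (e i) = e (i + 1))
    (h2 : F (e d) = (∑ i ∈ Finset.Icc 1 d, a i d • e i) + e (d + 1))
    (h3 : ∀ j : ℕ, d < j → j < d + c →
      F (e j) = (∑ i ∈ Finset.Icc 1 d, ((p : W) * a i j) • e i) + (p : W) • e (j + 1))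
    (h4 : F (e (d + c)) = ∑ i ∈ Finset.Icc 1 d, ((p : W) * a i (d + c)) • e i) :
    (⇑F)^[d + c] (e 1) = ∑ i ∈ Finset.Icc 1 d, ∑ j ∈ Finset.Icc d (d + c),
      ((p : W) ^ (j - d) * (⇑σ)^[d + c - j] (a i j)) • (⇑F)^[d + c + i - j - 1] (e 1) := by
  classical
  have he : ∀ i, 1 ≤ i → i ≤ d → (⇑F)^[i - 1] (e 1) = e i := by
    intro i
    induction i with
    | zero => omega
    | succ i ih =>
      intro _ hi
      rcases Nat.eq_zero_or_pos i with rfl | hpos
      · rfl
      · have h := congrArg F (ih hpos (by omega))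
        rw [← Function.iterate_succ_apply' (⇑F), h1 i hpos (by omega),
          show (i - 1).succ = i + 1 - 1 by omega] at h
        exact h
  let S : ℕ → M := fun t => ∑ i ∈ Finset.Icc 1 d, ∑ j ∈ Finset.Icc d (d + t),
    ((p : W) ^ (j - d) * (⇑σ)^[d + t - j] (a i j)) • (⇑F)^[d + t + i - j - 1] (e 1)
  have hFp : ∀ (t : ℕ) (v : M), F ((p : W) ^ t • v) = (p : W) ^ t • F v := fun t v => by
    rw [hF, map_pow, map_natCast]
  have hS : ∀ t, F (S t) + ∑ i ∈ Finset.Icc 1 d, ((p : W) ^ (t + 1) * a i (d + t + 1)) • e i = S (t + 1) := by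
    intro t
    simp only [S, map_sum, hF]
    rw [← Finset.sum_add_distrib]
    refine Finset.sum_congr rfl fun i hi => ?_
    obtain ⟨hi1, hi2⟩ := Finset.mem_Icc.1 hi
    rw [show d + (t + 1) = d + t + 1 from rfl, Finset.sum_Icc_succ_top (by omega)]
    congr 1
    · refine Finset.sum_congr rfl fun j hj => ?_
      obtain ⟨hj1, hj2⟩ := Finset.mem_Icc.1 hj
      rw [map_mul, map_pow, map_natCast, ← Function.iterate_succ_apply' (⇑σ),
        ← Function.iterate_succ_apply' (⇑F)]
      congr 4 <;> omega
    · rw [← he i hi1 hi2]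
      simp [show d + t + 1 - d = t + 1 by omega, show d + t + 1 + i - (d + t + 1) = i by omega]
  have claim : ∀ t < c, (⇑F)^[d + t] (e 1) = S t + (p : W) ^ t • e (d + t + 1) := by
    intro t
    induction t with
    | zero =>
      intro _
      obtain ⟨d', rfl⟩ : ∃ d', d = d' + 1 := ⟨d - 1, by omega⟩
      rw [add_zero, Function.iterate_succ_apply', show (⇑F)^[d'] (e 1) = e (d' + 1) from
        he (d' + 1) (by omega) le_rfl, h2]
      simp only [S, add_zero, Finset.Icc_self, Finset.sum_singleton, Nat.sub_self, pow_zero, one_mul,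
        Function.iterate_zero_apply, one_smul]
      congr 1
      refine Finset.sum_congr rfl fun i hi => ?_
      obtain ⟨hi1, hi2⟩ := Finset.mem_Icc.1 hi
      rw [show d' + 1 + i - (d' + 1) - 1 = i - 1 by omega, he i hi1 hi2]
    | succ t ih =>
      intro ht
      rw [← Nat.add_assoc, Function.iterate_succ_apply', ih (by omega), map_add, hFp,
        h3 (d + t + 1) (by omega) (by omega), smul_add, Finset.smul_sum, ← add_assoc]
      simp only [smul_smul, ← mul_assoc, ← pow_succ]
      rw [hS]
  obtain ⟨c', rfl⟩ : ∃ c', c = c' + 1 := ⟨c - 1, by omega⟩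
  rw [← Nat.add_assoc, Function.iterate_succ_apply', claim c' (by omega), map_add, hFp,
    show d + c' + 1 = d + (c' + 1) from rfl, h4, Finset.smul_sum]
  simp only [smul_smul, ← mul_assoc, ← pow_succ]
  exact hS c'

end Groth.Agent.S15494
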