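import Groth.Statements.S15495
import Mathlib

set_option autoImplicit false
universe u
open CAlg

namespace Groth.Agent.S15495

/-- In an Artinian local ring R whose maximal ideal m contains the prime number p, the multiplicative
group 1 + m is annihilated under some power of p: there is n with (1 + x)^(p^n) = 1 for every x in
m. (The published text makes this assertion inside a proof, for Artinian local algebras over the
Witt ring of a perfect field of characteristic p; only p ∈ m and the nilpotence of m are used.) -/
theorem result
    (R : Type u) [CommRing R] [IsLocalRing R] [IsArtinianRing R]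
    (p : ℕ) (hp : p.Prime) (hpm : (p : R) ∈ IsLocalRing.maximalIdeal R) :
    ∃ n : ℕ, ∀ x ∈ IsLocalRing.maximalIdeal R, (1 + x) ^ (p ^ n) = 1 := by
  obtain ⟨k, hk⟩ : IsNilpotent (IsLocalRing.maximalIdeal R) := by
    rw [← IsLocalRing.jacobson_eq_maximalIdeal ⊥ bot_ne_top]
    exact IsArtinianRing.isNilpotent_jacobson_bot
  refine ⟨k, fun x hx => ?_⟩
  have key : ∀ n : ℕ, (1 + x) ^ (p ^ n) - 1 ∈ IsLocalRing.maximalIdeal R ^ (n + 1) := by
    intro n
    induction n with
    | zero => simpa using hx
    | succ n ih =>
      rw [pow_succ p, pow_mul, ← geom_sum_mul, pow_succ', ]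
      refine Ideal.mul_mem_mul ?_ ih
      rw [← IsLocalRing.residue_eq_zero_iff]
      have h1 : IsLocalRing.residue R ((1 + x) ^ p ^ n) = 1 := by
        rw [map_pow, map_add, map_one, (IsLocalRing.residue_eq_zero_iff x).2 hx, add_zero, one_pow]
      simp only [map_sum, map_pow, h1, one_pow, Finset.sum_const, Finset.card_range, nsmul_one]
      rw [← map_natCast (IsLocalRing.residue R)]
      exact (IsLocalRing.residue_eq_zero_iff _).2 hpm
  have h := Ideal.pow_le_pow_right (Nat.le_succ k) (key k)
  rw [hk] at h
  exact sub_eq_zero.1 ((Submodule.mem_bot R).1 h)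

end Groth.Agent.S15495
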