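import Groth.Statements.S15496
import Mathlib.RingTheory.LocalRing.ResidueField.Basic
import Mathlib.Algebra.CharP.Lemmas
import Mathlib.Algebra.CharP.Reduced

set_option autoImplicit false
universe u
open CAlg

namespace Groth.Agent.S15496
open IsLocalRing

/-- Let R be a local ring with maximal ideal m, p a prime number lying in m, and suppose the residue
field of R is perfect, i.e. every element is a p-th power; let n ≥ 0. Then every unit of R is the
product of a p^n-th power of a unit and an element of 1 + m, and an element of 1 + m which is a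
p^n-th power of a unit is a p^n-th power of an element of 1 + m; so the inclusion of 1 + m in the
unit group induces a bijection between (1 + m)/(1 + m)^(p^n) and Rˣ/(Rˣ)^(p^n). (The published text
derives this equality of quotients, inside a proof, from perfectness of the base field K for all
Artinian local algebras over its Witt ring, whose residue fields need not be perfect; this row
assumes the residue field of R perfect of characteristic p, which the equality needs, and does not
assume R Artinian.) -/
theorem result
    (R : Type u) [CommRing R] [IsLocalRing R] (p : ℕ) (hp : p.Prime)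
    (hpm : (p : R) ∈ IsLocalRing.maximalIdeal R)
    (hperf : ∀ a : IsLocalRing.ResidueField R, ∃ b : IsLocalRing.ResidueField R, b ^ p = a)
    (n : ℕ) :
    (∀ u : Rˣ, ∃ v : Rˣ, ∃ x ∈ IsLocalRing.maximalIdeal R, (u : R) = (v : R) ^ (p ^ n) * (1 + x)) ∧
    (∀ x ∈ IsLocalRing.maximalIdeal R, (∃ v : Rˣ, (v : R) ^ (p ^ n) = 1 + x) →
      ∃ y ∈ IsLocalRing.maximalIdeal R, (1 + y) ^ (p ^ n) = 1 + x) := by
  haveI := Fact.mk hp
  haveI : CharP (IsLocalRing.ResidueField R) p := by
    refine (CharP.charP_iff_prime_eq_zero hp).2 ?_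
    rw [← map_natCast (IsLocalRing.residue R), IsLocalRing.residue_eq_zero_iff]
    exact hpm
  have hroot : ∀ (m : ℕ) (a : IsLocalRing.ResidueField R), ∃ b, b ^ p ^ m = a := by
    intro m
    induction m with
    | zero => exact fun a => ⟨a, by simp⟩
    | succ m ih =>
      intro a
      obtain ⟨b, rfl⟩ := hperf a
      obtain ⟨c, rfl⟩ := ih b
      exact ⟨c, by rw [pow_succ, pow_mul]⟩
  refine ⟨fun u => ?_, fun x hx hv => ?_⟩
  · obtain ⟨b, hb⟩ := hroot n (IsLocalRing.residue R u)
    obtain ⟨v, rfl⟩ := IsLocalRing.residue_surjective b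
    have hv : IsUnit v := by
      refine IsLocalRing.notMem_maximalIdeal.1 fun h => ?_
      have := (IsLocalRing.residue_eq_zero_iff _).2 (show v ^ p ^ n ∈ _ from Ideal.pow_mem_of_mem _ h _ (pow_pos hp.pos n))
      rw [map_pow] at this
      exact (IsLocalRing.residue_ne_zero_iff_isUnit (u : R)).2 u.isUnit (hb.symm.trans this)
    refine ⟨hv.unit, (u : R) * ((hv.unit ^ p ^ n)⁻¹ : Rˣ) - 1, ?_, ?_⟩
    · rw [← IsLocalRing.residue_eq_zero_iff, map_sub, map_mul, map_one, ← hb, sub_eq_zero,
        show IsLocalRing.residue R v ^ p ^ n =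
          IsLocalRing.residue R ((hv.unit ^ p ^ n : Rˣ) : R) by simp,
        ← map_mul, Units.mul_inv, map_one]
    · rw [add_sub_cancel, ← Units.val_pow_eq_pow_val, mul_left_comm, Units.mul_inv, mul_one]
  · obtain ⟨v, hv⟩ := hv
    refine ⟨(v : R) - 1, ?_, by rw [add_sub_cancel]; exact hv⟩
    rw [← IsLocalRing.residue_eq_zero_iff, map_sub, map_one, sub_eq_zero]
    have h1 := congrArg (IsLocalRing.residue R) hv
    rw [map_pow, map_add, map_one, (IsLocalRing.residue_eq_zero_iff x).2 hx, add_zero] at h1
    have h2 : (IsLocalRing.residue R (v : R) - 1) ^ p ^ n = 0 := by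
      rw [sub_pow_char_pow, one_pow, h1, sub_self]
    exact sub_eq_zero.1 (pow_eq_zero_iff (pow_pos hp.pos n).ne' |>.1 h2)

end Groth.Agent.S15496
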