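import Groth.Statements.S15497
import Mathlib.Tactic.Ring
-- import your own Groth.Agent.* helpers here

set_option autoImplicit false
universe u v
open Dieud

namespace Groth.Agent.S15497

/-- Let W be a commutative ring, p ∈ W, m, n natural numbers with h = m + n, M a W-module and e_0, e_1,
… vectors of M with e_{i+h} = p e_i for all i ≥ 0, and let φ be a W-linear endomorphism of M with
φ(e_i) = e_{i+m} for 0 ≤ i < h. Then φ^h(e_i) = p^m e_i for every i ≥ 0; so when e_0, …, e_{h−1} is
a basis, φ^h = p^m · id. (The published text asserts φ^h = p^m · id for the free module with basis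
e_0, …, e_{h−1} over the Witt ring of a perfect field, with p the residue characteristic; only the
stated relations are used.) -/
theorem result
    (W : Type u) [CommRing W] (p : W) (m n : ℕ)
    (M : Type v) [AddCommGroup M] [Module W M] (e : ℕ → M)
    (he : ∀ i : ℕ, e (i + (m + n)) = p • e i)
    (φ : M →ₗ[W] M) (hφ : ∀ i : ℕ, i < m + n → φ (e i) = e (i + m)) (i : ℕ) :
    (φ ^ (m + n)) (e i) = p ^ m • e i := by
  rcases Nat.eq_zero_or_pos (m + n) with h0 | hpos
  · obtain ⟨rfl, rfl⟩ : m = 0 ∧ n = 0 := by omega
    simp
  have hmul : ∀ t i, e (i + t * (m + n)) = p ^ t • e i := by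
    intro t
    induction t with
    | zero => simp
    | succ t ih =>
      intro i
      rw [Nat.succ_mul, ← add_assoc, he, ih, smul_smul, pow_succ']
  have hall : ∀ i, φ (e i) = e (i + m) := by
    intro i
    obtain ⟨r, t, hr, rfl⟩ : ∃ r t, r < m + n ∧ i = r + t * (m + n) :=
      ⟨i % (m + n), i / (m + n), Nat.mod_lt _ hpos, (Nat.mod_add_div' i (m + n)).symm⟩
    rw [hmul, map_smul, hφ r hr, ← hmul, add_right_comm]
  have hit : ∀ s i, (φ ^ s) (e i) = e (i + s * m) := by
    intro s
    induction s with
    | zero => simp
    | succ s ih => intro i; rw [pow_succ', Module.End.mul_apply, ih, hall]; congr 1; ring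
  rw [hit, mul_comm (m + n) m, hmul]

end Groth.Agent.S15497
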