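import Groth.Statements.S15498
import Mathlib.Tactic
import Mathlib.Algebra.BigOperators.Intervals
import Mathlib.Data.Nat.Factorization.Basic
import Mathlib.Order.Interval.Finset.Nat

set_option autoImplicit false
open NewtonPoly

namespace Groth.Agent.S15498

/-- Let m, n ≥ 1 be coprime, h = m + n, δ the segment from (0,0) to (h,m) (the isoclinic Newton polygon
of slope m/h) and ρ the ordinary polygon with n slopes 0 followed with m slopes 1, so ρ(i) = max(0,
i − n). The integer points (i,j), 0 ≤ i ≤ h, on or above ρ and strictly below δ — that is max(0, i −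
n) ≤ j and j·h < i·m — are (m−1)(n−1)/2 + (m+n−1) in number (which equals mn − r for r =
(m−1)(n−1)/2). (The published text works under m ≥ n > 0 coprime; the inequality m ≥ n is not used
and not assumed.) -/
theorem result
    (m n : ℕ) (hm : 0 < m) (hn : 0 < n) (hmn : Nat.Coprime m n) :
    ((Finset.range (m + n + 1) ×ˢ Finset.range (m + 1)).filter
      (fun ij : ℕ × ℕ => ij.1 ≤ ij.2 + n ∧ ij.2 * (m + n) < ij.1 * m)).card
      = (m - 1) * (n - 1) / 2 + (m + n - 1) := by
  have hcount : ((Finset.range (m + n + 1) ×ˢ Finset.range (m + 1)).filter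
      (fun ij : ℕ × ℕ => ij.1 ≤ ij.2 + n ∧ ij.2 * (m + n) < ij.1 * m)).card
      = ∑ j ∈ Finset.range m, (n - j * n / m) := by
    have key : ((Finset.range (m + n + 1) ×ˢ Finset.range (m + 1)).filter
        (fun ij : ℕ × ℕ => ij.1 ≤ ij.2 + n ∧ ij.2 * (m + n) < ij.1 * m)).card
        = ((Finset.range m).sigma fun j => Finset.Icc (j + j * n / m + 1) (j + n)).card := by
      refine Finset.card_nbij' (fun ij => ⟨ij.2, ij.1⟩) (fun x => (x.2, x.1)) ?_ ?_ (fun _ _ => rfl) (fun _ _ => rfl)
      · rintro ⟨i, j⟩ hij
        simp only [Finset.coe_filter, Set.mem_ofPred_eq, Finset.mem_product, Finset.mem_range] at hij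
        obtain ⟨⟨hi, hj⟩, h1, h2⟩ := hij
        simp only [Finset.mem_coe, Finset.mem_sigma, Finset.mem_range, Finset.mem_Icc]
        have hjm : j < m := by
          rcases Nat.lt_or_ge j m with h | h
          · exact h
          · exfalso
            obtain rfl : j = m := by omega
            nlinarith
        refine ⟨hjm, ?_, h1⟩
        have hji : j ≤ i := by
          by_contra hlt
          nlinarith [Nat.mul_le_mul_right m (Nat.le_of_lt (Nat.lt_of_not_le hlt))]
        have h3 : j * n < (i - j) * m := by
          rw [Nat.sub_mul]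
          have : j * (m + n) = j * m + j * n := Nat.mul_add ..
          omega
        have h4 : j * n / m < i - j := (Nat.div_lt_iff_lt_mul hm).mpr h3
        omega
      · rintro ⟨j, i⟩ hx
        simp only [Finset.mem_coe, Finset.mem_sigma, Finset.mem_range, Finset.mem_Icc] at hx
        obtain ⟨hj, h1, h2⟩ := hx
        simp only [Finset.coe_filter, Set.mem_ofPred_eq, Finset.mem_product, Finset.mem_range]
        refine ⟨⟨by omega, by omega⟩, h2, ?_⟩
        have h4 : j * n / m < i - j := by omega
        have h3 := (Nat.div_lt_iff_lt_mul hm).mp h4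
        rw [Nat.sub_mul] at h3
        have : j * (m + n) = j * m + j * n := Nat.mul_add ..
        omega
    rw [key, Finset.card_sigma]
    refine Finset.sum_congr rfl fun j _ => ?_
    rw [Nat.card_Icc]
    omega
  have hle : ∀ j ∈ Finset.range m, j * n / m ≤ n := fun j hj =>
    Nat.div_le_of_le_mul (Nat.mul_le_mul_right n (Finset.mem_range.mp hj).le)
  have hsum : ∑ j ∈ Finset.range m, (n - j * n / m) + ∑ j ∈ Finset.range m, j * n / m = m * n := by
    rw [← Finset.sum_add_distrib, Finset.sum_congr rfl (fun j hj => Nat.sub_add_cancel (hle j hj)), Finset.sum_const,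
      Finset.card_range, smul_eq_mul]
  obtain ⟨q, rfl⟩ := Nat.exists_eq_add_of_le' hm
  have hrefl : ∀ j ∈ Finset.range q, (j + 1) * n / (q + 1) + (q - 1 - j + 1) * n / (q + 1) = n - 1 := by
    intro j hj
    rw [Finset.mem_range] at hj
    have hj' : q - 1 - j + 1 = q + 1 - (j + 1) := by omega
    rw [hj']
    have hmod : (j + 1) * n % (q + 1) ≠ 0 := fun h0 => by
      have := Nat.le_of_dvd (by omega) ((Nat.Coprime.dvd_mul_right hmn).mp (Nat.dvd_of_mod_eq_zero h0))
      omega
    have h1 := Nat.div_add_mod ((j + 1) * n) (q + 1)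
    have h2 := Nat.mod_lt ((j + 1) * n) (Nat.succ_pos q)
    generalize (j + 1) * n / (q + 1) = a at h1 ⊢
    generalize hbdef : (j + 1) * n % (q + 1) = b at h1 h2 hmod
    have han : a < n := by
      by_contra hlt
      have h5 : (q + 1) * n ≤ (q + 1) * a := Nat.mul_le_mul le_rfl (by omega)
      have h6 : (j + 1) * n ≤ q * n := Nat.mul_le_mul_right n (by omega)
      rw [Nat.add_mul q 1 n, one_mul] at h5
      omega
    have h3 : (q + 1 - (j + 1)) * n / (q + 1) = n - a - 1 := by
      apply Nat.div_eq_of_lt_le
      · have e1 : (n - a - 1) * (q + 1) + (a + 1) * (q + 1) = n * (q + 1) := by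
          rw [← Nat.add_mul]; congr 1; omega
        have e2 : (q + 1 - (j + 1)) * n + (j + 1) * n = n * (q + 1) := by
          rw [← Nat.add_mul, Nat.sub_add_cancel (by omega), Nat.mul_comm]
        have e3 : (a + 1) * (q + 1) = (q + 1) * a + (q + 1) := by ring
        omega
      · have e1 : (n - a - 1 + 1) * (q + 1) + a * (q + 1) = n * (q + 1) := by
          rw [← Nat.add_mul]; congr 1; omega
        have e2 : (q + 1 - (j + 1)) * n + (j + 1) * n = n * (q + 1) := by
          rw [← Nat.add_mul, Nat.sub_add_cancel (by omega), Nat.mul_comm]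
        have e3 : a * (q + 1) = (q + 1) * a := Nat.mul_comm ..
        omega
    omega
  have hS : 2 * ∑ j ∈ Finset.range (q + 1), j * n / (q + 1) = q * (n - 1) := by
    rw [Finset.sum_range_succ', Nat.zero_mul, Nat.zero_div, add_zero, two_mul]
    conv_lhs => arg 2; rw [← Finset.sum_range_reflect]
    rw [← Finset.sum_add_distrib, Finset.sum_congr rfl hrefl, Finset.sum_const, Finset.card_range, smul_eq_mul]
  rw [hcount]
  have e : (q + 1) * n = q * (n - 1) + (q + n) := by
    obtain ⟨r, rfl⟩ := Nat.exists_eq_add_of_le' hn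
    simp only [Nat.add_sub_cancel]
    ring
  simp only [Nat.succ_eq_add_one, Nat.zero_add, Nat.add_sub_cancel] at *
  omega

end Groth.Agent.S15498
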