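import Groth.Statements.S17853
import Groth.Agent.Horrocks.Modules
import Mathlib.RingTheory.Finiteness.Projective

set_option autoImplicit false
open Polynomial LaurentPolynomial TensorProduct
universe u
open CAlg

namespace Groth.Agent.S17853

open Groth.Agent.Horrocks Matrix

variable {A : Type u} [CommRing A]

theorem mvn_of_semilinear {ι : Type} [Fintype ι] [DecidableEq ι] (p q : Matrix ι ι A[X]) (hp : p * p = p)
    (hq : q * q = q) {ML NL : Type u} [AddCommGroup ML] [Module A[T;T⁻¹] ML] [AddCommGroup NL] [Module A[T;T⁻¹] NL]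
    (hM : IsRetractBy ML (posM p)) (hN : IsRetractBy NL (posM q))
    (e : ML →ₛₗ[(LaurentPolynomial.invert (R := A)).toRingEquiv.toRingHom] NL) (he : Function.Bijective e) :
    MvN p ((p.map (Polynomial.evalRingHom 0)).map Polynomial.C) := by
  obtain ⟨iM, πM, hM₁, hM₂⟩ := hM
  obtain ⟨iN, πN, hN₁, hN₂⟩ := hN
  let σ : A[T;T⁻¹] →+* A[T;T⁻¹] := (LaurentPolynomial.invert (R := A)).toRingEquiv.toRingHom
  have hσσ : ∀ x, σ (σ x) = x := invert_invert
  have hM₁' : ∀ x, πM (iM x) = x := LinearMap.congr_fun hM₁
  have hN₁' : ∀ x, πN (iN x) = x := LinearMap.congr_fun hN₁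
  let d : NL → ML := (Equiv.ofBijective e he).symm
  have hed : ∀ y, e (d y) = y := (Equiv.ofBijective e he).apply_symm_apply
  have hde : ∀ y, d (e y) = y := (Equiv.ofBijective e he).symm_apply_apply
  let v : (ι → A[T;T⁻¹]) →ₗ[A[T;T⁻¹]] (ι → A[T;T⁻¹]) :=
    { toFun := fun x j => σ (iN (e (πM x)) j)
      map_add' := fun x y => funext fun j => by simp only [map_add, Pi.add_apply]
      map_smul' := fun a x => funext fun j => by
        simp only [map_smul, map_smulₛₗ, RingHom.id_apply, Pi.smul_apply, smul_eq_mul, map_mul]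
        rw [show σ ((LaurentPolynomial.invert (R := A)).toRingEquiv.toRingHom a) = a from hσσ a] }
  let u : (ι → A[T;T⁻¹]) →ₗ[A[T;T⁻¹]] (ι → A[T;T⁻¹]) :=
    { toFun := fun x => iM (d (πN fun j => σ (x j)))
      map_add' := fun x y => by
        rw [← map_add]
        refine congrArg _ (he.1 ?_)
        rw [map_add, hed, hed, hed, ← map_add]
        exact congrArg _ (funext fun j => map_add σ _ _)
      map_smul' := fun a x => by
        rw [RingHom.id_apply, ← map_smul]
        refine congrArg _ (he.1 ?_)
        rw [map_smulₛₗ, hed, hed, ← map_smul]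
        exact congrArg _ (funext fun j => map_mul σ _ _) }
  have hv : ∀ x j, v x j = σ (iN (e (πM x)) j) := fun x j => rfl
  have hu : ∀ x, u x = iM (d (πN fun j => σ (x j))) := fun x => rfl
  have huv : u ∘ₗ v = Matrix.toLin' (posM p) := LinearMap.ext fun x => by
    rw [← hM₂, LinearMap.comp_apply, hu, LinearMap.comp_apply]
    refine congrArg _ ?_
    rw [show (fun j => σ (v x j)) = iN (e (πM x)) from funext fun j => hσσ _, hN₁', hde]
  have hvu : v ∘ₗ u = Matrix.toLin' (negM q) := LinearMap.ext fun x => by
    funext j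
    have h := congrFun (LinearMap.congr_fun hN₂ (fun j => σ (x j))) j
    rw [LinearMap.comp_apply] at h
    rw [LinearMap.comp_apply, hv, hu, hM₁', hed, h, Matrix.toLin'_apply, Matrix.toLin'_apply]
    simp only [Matrix.mulVec, dotProduct, map_sum, map_mul, hσσ]
    rfl
  let E : Bundle A ι := {
    e := p
    ε := q
    u := LinearMap.toMatrix' u
    v := LinearMap.toMatrix' v
    he := hp
    hε := hq
    huv := by rw [← LinearMap.toMatrix'_comp, huv, LinearMap.toMatrix'_toLin']
    hvu := by rw [← LinearMap.toMatrix'_comp, hvu, LinearMap.toMatrix'_toLin']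
    hu := by
      refine Matrix.toLin'.injective ?_
      rw [Matrix.toLin'_mul, Matrix.toLin'_toMatrix', ← hM₂]
      refine LinearMap.ext fun x => ?_
      rw [LinearMap.comp_apply, LinearMap.comp_apply, hu, hM₁']
    hv := by
      refine Matrix.toLin'.injective ?_
      rw [Matrix.toLin'_mul, Matrix.toLin'_toMatrix', ← hvu]
      refine LinearMap.ext fun x => ?_
      funext j
      rw [LinearMap.comp_apply, LinearMap.comp_apply, hv, hv, hu, hM₁', hed,
        show (fun j => σ (v x j)) = iN (e (πM x)) from funext fun j => hσσ _, hN₁'] }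
  exact E.mvn_eval_zero

/-- For an arbitrary commutative ring A, a finitely generated projective A[t]-module M is extended from
A (isomorphic to A[t] ⊗_A P for an A-module P) if and only if it extends to a vector bundle on the
projective line over A. The latter is stated by gluing: there are a finitely generated projective
module N over the polynomial ring of the chart at infinity and an isomorphism over the Laurent
polynomial ring between the localisation of M and the base change of N along s ↦ t⁻¹, written as a
bijective additive map A[t,t⁻¹] ⊗ M → A[t,t⁻¹] ⊗ N that is semilinear with respect to the A-algebra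
involution t ↦ t⁻¹ of A[t,t⁻¹]. (The published statement adds: for A semilocal, M is then free on
each connected component of the affine line.) -/
theorem result
    (A : Type u) [CommRing A] (M : Type u) [AddCommGroup M] [Module A[X] M]
    [Module.Finite A[X] M] [Module.Projective A[X] M] :
    (∃ (P : Type u) (_ : AddCommGroup P) (_ : Module A P), Nonempty (M ≃ₗ[A[X]] (A[X] ⊗[A] P))) ↔
      ∃ (N : Type u) (_ : AddCommGroup N) (_ : Module A[X] N),
        Module.Finite A[X] N ∧ Module.Projective A[X] N ∧
        ∃ e : (A[T;T⁻¹] ⊗[A[X]] M) →ₛₗ[(LaurentPolynomial.invert (R := A)).toRingEquiv.toRingHom]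
            (A[T;T⁻¹] ⊗[A[X]] N), Function.Bijective e := by
  constructor
  · rintro ⟨P, _, _, ⟨φ⟩⟩
    haveI : IsScalarTower A A[X] A[T;T⁻¹] := IsScalarTower.of_algebraMap_eq fun a => by
      show algebraMap A A[T;T⁻¹] a = toLaurent (algebraMap A A[X] a)
      rw [Polynomial.algebraMap_eq, Polynomial.toLaurent_C, LaurentPolynomial.C_eq_algebraMap]
    obtain ⟨Φ, -⟩ : ∃ Φ : (A[T;T⁻¹] ⊗[A[X]] M) ≃ₗ[A[T;T⁻¹]] (A[T;T⁻¹] ⊗[A] P), True :=
      ⟨(TensorProduct.AlgebraTensorModule.congr (LinearEquiv.refl _ _) φ).trans
        (TensorProduct.AlgebraTensorModule.cancelBaseChange A A[X] A[T;T⁻¹] A[T;T⁻¹] P), trivial⟩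
    let τ : (A[T;T⁻¹] ⊗[A] P) ≃ₗ[A] (A[T;T⁻¹] ⊗[A] P) :=
      TensorProduct.congr (LaurentPolynomial.invert (R := A)).toLinearEquiv (LinearEquiv.refl A P)
    have hτ : ∀ (a : A[T;T⁻¹]) (x : A[T;T⁻¹] ⊗[A] P), τ (a • x) = LaurentPolynomial.invert a • τ x := fun a x => by
      induction x using TensorProduct.induction_on with
      | zero => simp
      | add x y hx hy => rw [smul_add, map_add, hx, hy, map_add, smul_add]
      | tmul b p =>
        rw [TensorProduct.smul_tmul', smul_eq_mul]
        simp only [τ, TensorProduct.congr_tmul, LinearEquiv.refl_apply]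
        rw [TensorProduct.smul_tmul', smul_eq_mul]
        exact congrArg (· ⊗ₜ[A] p) (map_mul (LaurentPolynomial.invert (R := A)) a b)
    refine ⟨M, inferInstance, inferInstance, inferInstance, inferInstance,
      { toFun := fun x => Φ.symm (τ (Φ x))
        map_add' := fun x y => by simp only [map_add]
        map_smul' := fun a x => by rw [map_smul, hτ, map_smul]; rfl }, ?_⟩
    exact (Φ.symm.bijective.comp τ.bijective).comp Φ.bijective
  · rintro ⟨N, _, _, _, _, e, he⟩
    obtain ⟨n, p, q, hM, hN⟩ := exists_pair_retract (R := A[X]) M N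
    have hpos : ∀ r : Matrix (Fin n) (Fin n) A[X], r.map (algebraMap A[X] A[T;T⁻¹]) = posM r := fun r => rfl
    have h := mvn_of_semilinear p q hM.idem hN.idem (hpos p ▸ hM.baseChange A[T;T⁻¹]) (hpos q ▸ hN.baseChange A[T;T⁻¹]) e he
    have h0 : p.map (Polynomial.evalRingHom 0) * p.map (Polynomial.evalRingHom 0) = p.map (Polynomial.evalRingHom 0) := by
      rw [← Matrix.map_mul, hM.idem]
    let P := LinearMap.range (Matrix.toLin' (p.map (Polynomial.evalRingHom 0)))
    have hP : IsRetractBy P (p.map (Polynomial.evalRingHom 0)) := by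
      refine ⟨P.subtype, LinearMap.rangeRestrict _, LinearMap.ext fun x => Subtype.ext ?_, rfl⟩
      obtain ⟨y, hy⟩ := x.2
      show Matrix.toLin' (p.map (Polynomial.evalRingHom 0)) (x : Fin n → A) = x
      rw [← hy, ← LinearMap.comp_apply, ← Matrix.toLin'_mul, h0]
    exact ⟨P, inferInstance, inferInstance, hM.equiv (hP.baseChange A[X]) h⟩

end Groth.Agent.S17853
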