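import Groth.Statements.S15499
import Groth.Agent.S17853
import Mathlib.RingTheory.Spectrum.Prime.FreeLocus
import Mathlib.RingTheory.Finiteness.Descent

set_option autoImplicit false
open Polynomial LaurentPolynomial
open scoped TensorProduct
universe u
open CAlg

namespace Groth.Agent.S15499

/-- Let S = Spec R be a smooth connected affine complex variety, so that R is a finitely generated
smooth ℂ-algebra and an integral domain, and let F be a locally free sheaf of finite rank on the
projective line over S, presented by its two standard charts: a finitely generated projective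
R[X]-module P on the affine line over S, a finitely generated projective R[X]-module P' on the chart
at infinity, and an identification of their base changes to R[X, X⁻¹] that is additive, bijective
and semilinear over the R-algebra involution X ↦ X⁻¹. Then S is covered by basic open sets D(g_1),
…, D(g_n) such that F restricted to the affine line over each D(g_i) is free: the localisation of P
at g_i is a free module over the localisation of R[X] at g_i. -/
theorem result
    (R : Type u) [CommRing R] [IsDomain R] [Algebra ℂ R] [Algebra.FiniteType ℂ R]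
    [Algebra.Smooth ℂ R]
    (P : Type u) [AddCommGroup P] [Module R[X] P] [Module.Finite R[X] P]
    [Module.Projective R[X] P]
    (P' : Type u) [AddCommGroup P'] [Module R[X] P'] [Module.Finite R[X] P']
    [Module.Projective R[X] P']
    (e : R[T;T⁻¹] ⊗[R[X]] P ≃+ R[T;T⁻¹] ⊗[R[X]] P')
    (he : ∀ (a : R[T;T⁻¹]) (m : R[T;T⁻¹] ⊗[R[X]] P),
      e (a • m) = LaurentPolynomial.invert a • e m) :
    ∃ (n : ℕ) (g : Fin n → R), Ideal.span (Set.range g) = ⊤ ∧
      ∀ i, Module.Free (Localization.Away (Polynomial.C (g i) : R[X]))
        (LocalizedModule (Submonoid.powers (Polynomial.C (g i) : R[X])) P) := by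
  classical
  obtain ⟨Q, _, _, ⟨φ⟩⟩ := (S17853.result R P).2 ⟨P', inferInstance, inferInstance, inferInstance, inferInstance,
    { toFun := e, map_add' := map_add e, map_smul' := he }, e.bijective⟩
  haveI : Module.Projective R[X] (R[X] ⊗[R] Q) := Module.Projective.of_equiv φ
  haveI : Module.Finite R[X] (R[X] ⊗[R] Q) := Module.Finite.equiv φ
  haveI : Module.Finite R Q := Module.Finite.of_finite_tensorProduct_of_faithfullyFlat R[X]
  haveI : Module.Projective R Q := by
    haveI : Module.Projective R (R[X] ⊗[R] Q) := by
      obtain ⟨n, π, ι, -, -, h⟩ := Module.Finite.exists_comp_eq_id_of_projective R[X] (R[X] ⊗[R] Q)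
      exact Module.Projective.of_split (ι.restrictScalars R) (π.restrictScalars R)
        (LinearMap.ext fun x => LinearMap.congr_fun h x)
    refine Module.Projective.of_split (TensorProduct.mk R R[X] Q 1)
      ((TensorProduct.lid R Q).toLinearMap.comp (LinearMap.rTensor Q (Polynomial.lcoeff R 0))) ?_
    refine LinearMap.ext fun q => ?_
    simp
  haveI : Module.FinitePresentation R Q := Module.finitePresentation_of_projective R Q
  let G : Set R := {g | Module.Free (Localization.Away g) (LocalizedModule.Away g Q)}
  have hG : Ideal.span G = ⊤ := by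
    by_contra h
    obtain ⟨m, hm, hle⟩ := Ideal.exists_le_maximal _ h
    haveI := hm.isPrime
    haveI : Module.Free (Localization.AtPrime m) (LocalizedModule m.primeCompl Q) :=
      Module.mem_freeLocus.1 ((Module.freeLocus_eq_univ (R := R) (M := Q)).symm ▸ Set.mem_univ
        (⟨m, hm.isPrime⟩ : PrimeSpectrum R))
    obtain ⟨r, hr, hr', -⟩ := Module.FinitePresentation.exists_free_localizedModule_powers
      m.primeCompl (LocalizedModule.mkLinearMap m.primeCompl Q) (Localization.AtPrime m)
    exact hr (hle (Ideal.subset_span hr'))
  obtain ⟨T, hT, hT'⟩ := (Ideal.span_eq_top_iff_finite G).1 hG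
  refine ⟨T.card, fun i => (T.equivFin.symm i : R), ?_, fun i => ?_⟩
  · refine Eq.trans (congrArg Ideal.span ?_) hT'
    ext x
    exact ⟨fun ⟨i, hi⟩ => hi ▸ (T.equivFin.symm i).2, fun hx => ⟨T.equivFin ⟨x, hx⟩, by simp⟩⟩
  set g : R := (T.equivFin.symm i : R)
  haveI : Module.Free (Localization.Away g) (LocalizedModule.Away g Q) := hT (T.equivFin.symm i).2
  let L := Localization.Away (Polynomial.C g : R[X])
  letI : Algebra (Localization.Away g) L := (Localization.awayMap (Polynomial.C : R →+* R[X]) g).toAlgebra
  haveI : IsScalarTower R (Localization.Away g) L := IsScalarTower.of_algebraMap_eq fun a => by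
    show _ = Localization.awayMap (Polynomial.C : R →+* R[X]) g (algebraMap R (Localization.Away g) a)
    simp only [Localization.awayMap, IsLocalization.Away.map, IsLocalization.map_eq]
    rfl
  let e₁ : LocalizedModule (Submonoid.powers (Polynomial.C g : R[X])) P ≃ₗ[L] L ⊗[R] Q :=
    (LocalizedModule.equivTensorProduct _ P).trans
      ((TensorProduct.AlgebraTensorModule.congr (LinearEquiv.refl L L) φ).trans
        (TensorProduct.AlgebraTensorModule.cancelBaseChange R R[X] L L Q))
  let e₂ : L ⊗[R] Q ≃ₗ[L] L ⊗[Localization.Away g] (LocalizedModule.Away g Q) :=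
    (TensorProduct.AlgebraTensorModule.cancelBaseChange R (Localization.Away g) L L Q).symm.trans
      (TensorProduct.AlgebraTensorModule.congr (LinearEquiv.refl L L) (LocalizedModule.equivTensorProduct _ Q).symm)
  exact Module.Free.of_equiv (e₁.trans e₂).symm

end Groth.Agent.S15499
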