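import Groth.Statements.S1550
import Mathlib

set_option autoImplicit false
set_option linter.style.haveILetI false
universe u
open CategoryTheory CategoryTheory.Limits AlgebraicGeometry
attribute [local instance] Curv2.resAlgebra
open Variety

namespace Groth.Agent.S1550

theorem eq_toSpecΓ_comp {R : CommRingCat.{u}} {X : Scheme.{u}} (f : X ⟶ Spec R) :
    f = X.toSpecΓ ≫ Spec.map ((Scheme.ΓSpecIso R).inv ≫ f.appTop) := by
  rw [Spec.map_comp, ← Category.assoc, ← Scheme.toSpecΓ_naturality, Category.assoc,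
    toSpecΓ_SpecMap_ΓSpecIso_inv, Category.comp_id]

/-- An étale algebra over a polynomial ring over a field has a homomorphism to a finite separable extension. -/
theorem exists_algHom_separable {k R : Type u} [Field k] [CommRing R] [Nontrivial R] {n : ℕ}
    (g : MvPolynomial (Fin n) k →+* R) (hg : g.Etale) :
    ∃ (L : Type u) (_ : Field L) (_ : Algebra k L), FiniteDimensional k L ∧ Algebra.IsSeparable k L ∧
      ∃ ψ : R →+* L, ψ.comp (g.comp MvPolynomial.C) = algebraMap k L := by
  classical
  letI := g.toAlgebra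
  haveI : Algebra.Etale (MvPolynomial (Fin n) k) R := hg
  have hopen : IsOpen (Set.range (PrimeSpectrum.comap (algebraMap (MvPolynomial (Fin n) k) R))) :=
    (PrimeSpectrum.isOpenMap_comap_of_hasGoingDown_of_finitePresentation).isOpen_range
  obtain ⟨Q₀⟩ : Nonempty (PrimeSpectrum R) := inferInstance
  obtain ⟨_, ⟨G, rfl⟩, hQ₀, hsub⟩ :=
    PrimeSpectrum.isTopologicalBasis_basic_opens.exists_subset_of_mem_open
      (Set.mem_range_self (f := PrimeSpectrum.comap (algebraMap (MvPolynomial (Fin n) k) R)) Q₀) hopen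
  have hG : G ≠ 0 := fun h => hQ₀ (h ▸ Submodule.zero_mem _)
  let Ω := AlgebraicClosure k
  obtain ⟨a, hsep, ha⟩ : ∃ a : Fin n → Ω, (∀ i, IsSeparable k (a i)) ∧ MvPolynomial.aeval a G ≠ 0 := by
    by_contra hcon
    push Not at hcon
    rcases finite_or_infinite k with hk | hk
    · haveI : PerfectField k := PerfectField.ofFinite
      have h0 : MvPolynomial.map (algebraMap k Ω) G = 0 := MvPolynomial.funext fun a => by
        rw [MvPolynomial.eval_map, map_zero]
        exact hcon a fun i => Algebra.IsSeparable.isSeparable k (a i)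
      exact hG (MvPolynomial.map_injective _ (algebraMap k Ω).injective (h0.trans (map_zero _).symm))
    · refine hG (MvPolynomial.funext fun a => ?_)
      have h1 := hcon (fun i => algebraMap k Ω (a i)) fun i => isSeparable_algebraMap _
      change MvPolynomial.aeval (algebraMap k Ω ∘ a) G = 0 at h1
      rw [MvPolynomial.aeval_algebraMap_apply, map_eq_zero] at h1
      rw [map_zero]
      exact h1
  let e : MvPolynomial (Fin n) k →ₐ[k] Ω := MvPolynomial.aeval a
  let m := RingHom.ker e
  haveI : m.IsPrime := RingHom.ker_isPrime _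
  obtain ⟨P, hP⟩ := hsub (show (⟨m, inferInstance⟩ : PrimeSpectrum _) ∈ PrimeSpectrum.basicOpen G from ha)
  -- the residue field of `m` is finite separable over `k`
  let K₀ := IntermediateField.adjoin k (Set.range a)
  haveI : Algebra.IsSeparable k K₀ := (IntermediateField.isSeparable_adjoin_iff_isSeparable (F := k) (E := Ω) (S := Set.range a)).mpr (by
    rintro _ ⟨i, rfl⟩
    exact hsep i)
  haveI : FiniteDimensional k K₀ := IntermediateField.finiteDimensional_adjoin fun x _ =>
    (Algebra.IsAlgebraic.isAlgebraic x).isIntegral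
  let e' : (MvPolynomial (Fin n) k ⧸ m) →ₐ[k] K₀ :=
    Ideal.Quotient.liftₐ m (e.codRestrict K₀.toSubalgebra fun p => by
      show MvPolynomial.aeval a p ∈ K₀
      exact IntermediateField.algebra_adjoin_le_adjoin k _ (Algebra.adjoin_range_eq_range_aeval k a ▸ ⟨p, rfl⟩)) fun p hp =>
      Subtype.ext hp
  have he' : Function.Injective e' := (injective_iff_map_eq_zero e').mpr fun p hp => by
    obtain ⟨p, rfl⟩ := Ideal.Quotient.mk_surjective p
    rw [Ideal.Quotient.eq_zero_iff_mem]
    exact congrArg Subtype.val hp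
  haveI : FiniteDimensional k (MvPolynomial (Fin n) k ⧸ m) :=
    Module.Finite.of_injective e'.toLinearMap he'
  haveI : m.IsMaximal := (Ideal.Quotient.maximal_ideal_iff_isField_quotient m).mpr
    (isField_of_isIntegral_of_isField' (R := k) (Field.toIsField k))
  letI : Field (MvPolynomial (Fin n) k ⧸ m) := Ideal.Quotient.field m
  haveI : Algebra.IsSeparable k (MvPolynomial (Fin n) k ⧸ m) := Algebra.IsSeparable.of_algHom k K₀ e'
  let T := TensorProduct (MvPolynomial (Fin n) k) (MvPolynomial (Fin n) k ⧸ m) R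
  haveI : Algebra.Etale (MvPolynomial (Fin n) k ⧸ m) T := inferInstance
  haveI : Nontrivial T := by
    have hle : m.map (algebraMap (MvPolynomial (Fin n) k) R) ≤ P.asIdeal := Ideal.map_le_iff_le_comap.mpr
      (congrArg PrimeSpectrum.asIdeal hP).ge
    let θ : T →ₐ[MvPolynomial (Fin n) k] R ⧸ P.asIdeal :=
      Algebra.TensorProduct.lift
        (Ideal.Quotient.liftₐ m (IsScalarTower.toAlgHom _ (MvPolynomial (Fin n) k) (R ⧸ P.asIdeal)) fun p hp => by
          show Ideal.Quotient.mk P.asIdeal (algebraMap _ R p) = 0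
          rw [Ideal.Quotient.eq_zero_iff_mem]
          exact hle (Ideal.mem_map_of_mem _ hp))
        (Ideal.Quotient.mkₐ _ P.asIdeal) fun _ _ => Commute.all _ _
    haveI : Nontrivial (R ⧸ P.asIdeal) := Ideal.Quotient.nontrivial_iff.mpr P.isPrime.ne_top
    exact θ.toRingHom.domain_nontrivial
  obtain ⟨I, hI, Ai, _, _, eT, hAi⟩ :=
    (Algebra.FormallyEtale.iff_exists_algEquiv_prod (MvPolynomial (Fin n) k ⧸ m) T).mp inferInstance
  obtain ⟨i⟩ : Nonempty I := by
    by_contra hempty
    rw [not_nonempty_iff] at hempty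
    exact not_subsingleton T eT.toEquiv.subsingleton
  let π : T →ₐ[MvPolynomial (Fin n) k ⧸ m] Ai i := (Pi.evalAlgHom _ Ai i).comp eT.toAlgHom
  haveI := hAi i
  haveI : Module.Finite (MvPolynomial (Fin n) k ⧸ m) T := Algebra.FormallyUnramified.finite_of_free _ _
  haveI : Module.Finite (MvPolynomial (Fin n) k ⧸ m) (Ai i) :=
    Module.Finite.of_surjective π.toLinearMap ((Function.surjective_eval i).comp eT.surjective)
  letI : Algebra k (Ai i) := ((algebraMap (MvPolynomial (Fin n) k ⧸ m) (Ai i)).comp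
    (algebraMap k (MvPolynomial (Fin n) k ⧸ m))).toAlgebra
  haveI : IsScalarTower k (MvPolynomial (Fin n) k ⧸ m) (Ai i) := IsScalarTower.of_algebraMap_eq fun _ => rfl
  refine ⟨Ai i, inferInstance, inferInstance, Module.Finite.trans (MvPolynomial (Fin n) k ⧸ m) _,
    Algebra.IsSeparable.trans k (MvPolynomial (Fin n) k ⧸ m) (Ai i),
    π.toRingHom.comp (Algebra.TensorProduct.includeRight (R := MvPolynomial (Fin n) k)
      (A := MvPolynomial (Fin n) k ⧸ m)).toRingHom, RingHom.ext fun c => ?_⟩
  show π (Algebra.TensorProduct.includeRight (R := MvPolynomial (Fin n) k) (A := MvPolynomial (Fin n) k ⧸ m)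
    (algebraMap (MvPolynomial (Fin n) k) R (MvPolynomial.C c))) = _
  rw [AlgHom.commutes, IsScalarTower.algebraMap_apply (MvPolynomial (Fin n) k)
    (MvPolynomial (Fin n) k ⧸ m) T, AlgHom.commutes]
  rfl

/-- If X is smooth over a field k, then the set of closed points of X whose residue field is finite
separable over k is dense in X. -/
theorem result (k : Type u) [Field k] (X : Scheme.{u}) [X.Over (Spec (CommRingCat.of k))] [Smooth (X ↘ (Spec (CommRingCat.of k)))] :
    Dense {x : X | IsClosed ({x} : Set X) ∧ FiniteDimensional k (X.residueField x) ∧ Algebra.IsSeparable k (X.residueField x)} := by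
  classical
  set f := X ↘ (Spec (CommRingCat.of k))
  haveI : JacobsonSpace X := LocallyOfFiniteType.jacobsonSpace f
  rw [dense_iff_inter_open]
  intro W hW ⟨w, hw⟩
  obtain ⟨U, hU, V, hV, hwV, e, hstd⟩ := (Smooth.iff_forall_exists_isStandardSmooth f).mp inferInstance w
  have hU' : U = ⊤ := top_le_iff.mp fun z _ => by
    rw [Subsingleton.elim z (f w)]
    exact e hwV
  subst hU'
  -- shrink to a basic open inside `W`
  obtain ⟨r, hrW, hwr⟩ := hV.exists_basicOpen_le (V := ⟨W, hW⟩) ⟨w, hw⟩ hwV
  haveI : Nonempty (X.basicOpen r) := ⟨⟨w, hwr⟩⟩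
  let φ₀ : k →+* Γ(X, V) := (f.appLE ⊤ V e).hom.comp (Scheme.ΓSpecIso (CommRingCat.of k)).inv.hom
  have hφ₀ : φ₀.IsStandardSmooth := RingHom.isStandardSmooth_respectsIso.right _
    (Scheme.ΓSpecIso (CommRingCat.of k)).symm.commRingCatIsoToRingEquiv hstd
  haveI := hV.isLocalization_basicOpen r
  let φ : k →+* Γ(X, X.basicOpen r) := (algebraMap Γ(X, V) Γ(X, X.basicOpen r)).comp φ₀
  have hφ : φ.IsStandardSmooth :=
    (RingHom.isStandardSmooth_holdsForLocalizationAway Γ(X, X.basicOpen r) r).comp hφ₀
  have haff := hV.basicOpen r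
  obtain ⟨n, g, hgC, hg⟩ := hφ.exists_etale_mvPolynomial
  obtain ⟨L, _, _, hfin, hsep, ψ, hψ⟩ := exists_algHom_separable g hg
  rw [hgC] at hψ
  let q : Spec (CommRingCat.of L) ⟶ X := Spec.map (CommRingCat.ofHom ψ) ≫ haff.fromSpec
  have hq : q ≫ f = Spec.map (CommRingCat.ofHom (algebraMap k L)) := by
    rw [Category.assoc, ← IsAffineOpen.SpecMap_appLE_fromSpec f (isAffineOpen_top _) haff le_top,
      IsAffineOpen.fromSpec_top, ← Spec.map_comp_assoc, Scheme.isoSpec_Spec_inv, ← Spec.map_comp, ← hψ]
    congr 1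
    ext c
    show ψ (f.appLE ⊤ (X.basicOpen r) le_top ((Scheme.ΓSpecIso (CommRingCat.of k)).inv c)) =
      ψ (algebraMap Γ(X, V) Γ(X, X.basicOpen r) (f.appLE ⊤ V e ((Scheme.ΓSpecIso (CommRingCat.of k)).inv c)))
    rw [← f.appLE_map e (homOfLE (X.basicOpen_le r)).op]
    rfl
  let x := q.base (IsLocalRing.closedPoint L)
  let χ : X.residueField x ⟶ CommRingCat.of L := (Scheme.SpecToEquivOfField L X q).2
  have hχ : Spec.map χ ≫ X.fromSpecResidueField x = q :=
    (Scheme.SpecToEquivOfField L X).symm_apply_apply q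
  have hf : X.fromSpecResidueField x ≫ f = Spec.map (CommRingCat.ofHom (Curv2.resMap k X x)) := by
    have h1 : f = X.toSpecΓ ≫ Spec.map (CommRingCat.ofHom (Coh.toGlobal f)) := eq_toSpecΓ_comp f
    rw [Scheme.fromSpecResidueField, Category.assoc]
    conv_lhs => rw [h1]
    rw [Scheme.fromSpecStalk_toSpecΓ_assoc, ← Spec.map_comp, ← Spec.map_comp]
    rfl
  have hcomp : CommRingCat.ofHom (Curv2.resMap k X x) ≫ χ = CommRingCat.ofHom (algebraMap k L) := by
    apply Spec.map_injective
    rw [Spec.map_comp, ← hf, ← Category.assoc, hχ, hq]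
  let χA : X.residueField x →ₐ[k] L := { χ.hom with commutes' := fun c => congrArg (fun m => m.hom c) hcomp }
  have hxmem : x ∈ X.basicOpen r := by
    have : x ∈ Set.range haff.fromSpec := ⟨_, rfl⟩
    rwa [haff.range_fromSpec] at this
  refine ⟨x, hrW hxmem, ?_, Module.Finite.of_injective χA.toLinearMap χA.injective,
    Algebra.IsSeparable.of_algHom k L χA⟩
  -- closedness
  letI : Algebra k Γ(X, X.basicOpen r) := φ.toAlgebra
  let ψA : Γ(X, X.basicOpen r) →ₐ[k] L := { ψ with commutes' := fun c => DFunLike.congr_fun hψ c }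
  haveI : (RingHom.ker ψ).IsPrime := RingHom.ker_isPrime ψ
  haveI : Module.Finite k (Γ(X, X.basicOpen r) ⧸ RingHom.ker ψA) :=
    Module.Finite.of_injective (Ideal.kerLiftAlg ψA).toLinearMap (Ideal.kerLiftAlg_injective ψA)
  haveI : (RingHom.ker ψA).IsPrime := RingHom.ker_isPrime ψ
  have hmax : (RingHom.ker ψA).IsMaximal := (Ideal.Quotient.maximal_ideal_iff_isField_quotient _).mpr
    (isField_of_isIntegral_of_isField' (R := k) (Field.toIsField k))
  let z : PrimeSpectrum Γ(X, X.basicOpen r) := ⟨RingHom.ker ψA, inferInstance⟩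
  have hzx : haff.fromSpec z = x := by
    refine congrArg haff.fromSpec (PrimeSpectrum.ext ?_)
    show RingHom.ker ψA = Ideal.comap ψ (IsLocalRing.maximalIdeal L)
    rw [IsLocalRing.maximalIdeal_eq_bot]
    rfl
  have hcl : IsLocallyClosed ({x} : Set X) := by
    have h0 : ({x} : Set X) = haff.fromSpec '' {z} := by
      refine ((congrArg (fun y => ({y} : Set X)) hzx).symm.trans ?_)
      exact (Set.image_singleton).symm
    rw [h0]
    exact ((PrimeSpectrum.isClosed_singleton_iff_isMaximal z).mpr hmax).isLocallyClosed.image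
      haff.fromSpec.isOpenEmbedding.isInducing haff.fromSpec.isOpenEmbedding.isOpen_range.isLocallyClosed
  exact isClosed_singleton_of_isLocallyClosed_singleton hcl

end Groth.Agent.S1550
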