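import Groth.Statements.S15501
import Mathlib.AlgebraicGeometry.PullbackCarrier
import Mathlib.AlgebraicGeometry.Fiber
import Mathlib.AlgebraicGeometry.Morphisms.UniversallyOpen
import Mathlib.Topology.Homeomorph.Lemmas

set_option autoImplicit false
open CategoryTheory CategoryTheory.Limits AlgebraicGeometry
open An

namespace Groth.Agent.S15501

/-- The base change of an elementary fibration f : X → S of smooth complex varieties along any morphism
u : S' → S of smooth complex varieties is an elementary fibration X ×_S S' → S', elementary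
fibration being taken in the following sense: f factors as an open immersion j : X → X̄ followed by
f̄ : X̄ → S, where f̄ is smooth and is a closed subscheme of some projective space over S with
geometrically irreducible fibres of dimension one, the complement of j(X) is the image of a closed
immersion Y → X̄ with Y finite, etale and surjective over S, and j(X) is dense in every fibre of f̄
(for smooth complex varieties the last clause is automatic, and this is the usual notion: a smooth
projective family of irreducible curves minus a finite etale multisection). (The published statement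
also treats rational and coordinatised elementary fibrations; this row states only the plain case.) -/
theorem result (X S S' : Scheme.{0})
    [X.Over An.SC] [Smooth (X ↘ An.SC)] [IsSeparated (X ↘ An.SC)] [QuasiCompact (X ↘ An.SC)]
    [S.Over An.SC] [Smooth (S ↘ An.SC)] [IsSeparated (S ↘ An.SC)] [QuasiCompact (S ↘ An.SC)]
    [S'.Over An.SC] [Smooth (S' ↘ An.SC)] [IsSeparated (S' ↘ An.SC)] [QuasiCompact (S' ↘ An.SC)]
    (f : X ⟶ S) [f.IsOver An.SC] (u : S' ⟶ S) [u.IsOver An.SC]
    (hf : An.IsElementaryFibration f) :
    An.IsElementaryFibration (pullback.snd f u) := by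
  obtain ⟨Xb, Y, j, fb, i, hfac, hj, hi, hrange, hdense, hsm, ⟨n, c, hc, hcfac⟩, hgeo, hfin, het, hsur⟩ := hf
  subst hfac
  let j' : pullback (j ≫ fb) u ⟶ pullback fb u :=
    pullback.map (j ≫ fb) u fb u j (𝟙 S') (𝟙 S) (by simp) (by simp)
  let i' : pullback (i ≫ fb) u ⟶ pullback fb u :=
    pullback.map (i ≫ fb) u fb u i (𝟙 S') (𝟙 S) (by simp) (by simp)
  have hj'1 : j' ≫ pullback.fst fb u = pullback.fst (j ≫ fb) u ≫ j := pullback.lift_fst _ _ _
  have hj'2 : j' ≫ pullback.snd fb u = pullback.snd (j ≫ fb) u :=
    (pullback.lift_snd _ _ _).trans (Category.comp_id _)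
  have hi'1 : i' ≫ pullback.fst fb u = pullback.fst (i ≫ fb) u ≫ i := pullback.lift_fst _ _ _
  have hi'2 : i' ≫ pullback.snd fb u = pullback.snd (i ≫ fb) u :=
    (pullback.lift_snd _ _ _).trans (Category.comp_id _)
  have hPj : IsPullback (pullback.fst (j ≫ fb) u) j' j (pullback.fst fb u) :=
    IsPullback.of_bot (by rw [hj'2]; exact IsPullback.of_hasPullback (j ≫ fb) u)
      hj'1.symm (IsPullback.of_hasPullback fb u)
  have hPi : IsPullback (pullback.fst (i ≫ fb) u) i' i (pullback.fst fb u) :=
    IsPullback.of_bot (by rw [hi'2]; exact IsPullback.of_hasPullback (i ≫ fb) u)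
      hi'1.symm (IsPullback.of_hasPullback fb u)
  have hrj : Set.range j' = pullback.fst fb u ⁻¹' Set.range j := by
    simp [j', Scheme.Pullback.range_map]
  have hri : Set.range i' = pullback.fst fb u ⁻¹' Set.range i := by
    simp [i', Scheme.Pullback.range_map]
  refine ⟨pullback fb u, pullback (i ≫ fb) u, j', pullback.snd fb u, i', hj'2,
    MorphismProperty.of_isPullback hPj hj, MorphismProperty.of_isPullback hPi hi,
    by rw [hrj, hri, hrange]; rfl, fun s' => ?_, inferInstance, ?_, fun Ω _ _ σ => ?_, ?_, ?_, ?_⟩
  · intro x hx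
    let g := pullback.snd fb u
    let M : g.fiber s' ⟶ fb.fiber (u s') := pullback.map _ _ _ _ (pullback.fst fb u)
      (Spec.map (u.residueFieldMap s')) u pullback.condition.symm (by simp)
    have hM : UniversallyOpen M := MorphismProperty.of_isPullback
      (isPullback_fiberToSpecResidueField_of_isPullback (IsPullback.of_hasPullback fb u) s').flip
      (show UniversallyOpen (Spec.map (u.residueFieldMap s')) by infer_instance)
    have hMι : M ≫ fb.fiberι (u s') = g.fiberι s' ≫ pullback.fst fb u := pullback.lift_fst _ _ _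
    let A : Set (fb.fiber (u s')) := fb.fiberι (u s') ⁻¹' Set.range j
    have hA : Dense A := fun z => by
      rw [(fb.fiberι (u s')).isEmbedding.isInducing.closure_eq_preimage_closure_image]
      have hz : fb.fiberι (u s') z ∈ fb ⁻¹' {u s'} := by
        rw [← Scheme.Hom.range_fiberι]; exact ⟨z, rfl⟩
      refine closure_mono ?_ (hdense (u s') hz)
      rintro _ ⟨hy₁, hy₂⟩
      rw [← Scheme.Hom.range_fiberι] at hy₂
      obtain ⟨w, rfl⟩ := hy₂
      exact ⟨w, hy₁, rfl⟩
    obtain ⟨w, rfl⟩ : x ∈ Set.range (g.fiberι s') := by rw [Scheme.Hom.range_fiberι]; exact hx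
    refine map_mem_closure (g.fiberι s').continuous ((hA.preimage M.isOpenMap) w) fun v hv => ?_
    refine ⟨?_, ?_⟩
    · rw [show Set.range j'.base = Set.range j' from rfl, hrj, Set.mem_preimage,
        ← Scheme.Hom.comp_apply, ← hMι, Scheme.Hom.comp_apply]
      exact hv
    · rw [← Scheme.Hom.range_fiberι]
      exact ⟨v, rfl⟩
  · let m : CohB1.ProjSpaceOver n S' ⟶ CohB1.ProjSpaceOver n S :=
      pullback.lift (pullback.fst _ _) (CohB1.ProjSpaceOver.toBase n S' ≫ u)
        (specULiftZIsTerminal.hom_ext _ _)
    have hm1 : m ≫ pullback.fst _ _ = pullback.fst _ _ := pullback.lift_fst _ _ _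
    have hm2 : m ≫ CohB1.ProjSpaceOver.toBase n S = CohB1.ProjSpaceOver.toBase n S' ≫ u :=
      pullback.lift_snd _ _ _
    have hPm : IsPullback m (CohB1.ProjSpaceOver.toBase n S') (CohB1.ProjSpaceOver.toBase n S) u := by
      refine IsPullback.of_right ?_ hm2 (IsPullback.of_hasPullback _ (specULiftZIsTerminal.from S))
      rw [hm1, show u ≫ specULiftZIsTerminal.from S = specULiftZIsTerminal.from S' from
        specULiftZIsTerminal.hom_ext _ _]
      exact IsPullback.of_hasPullback _ _
    let c' : pullback fb u ⟶ CohB1.ProjSpaceOver n S' :=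
      hPm.lift (pullback.fst fb u ≫ c) (pullback.snd fb u)
        (by rw [Category.assoc, hcfac, pullback.condition])
    have hc'1 : c' ≫ m = pullback.fst fb u ≫ c := hPm.lift_fst _ _ _
    have hc'2 : c' ≫ CohB1.ProjSpaceOver.toBase n S' = pullback.snd fb u := hPm.lift_snd _ _ _
    refine ⟨n, c', ?_, hc'2⟩
    have hPc : IsPullback (pullback.fst fb u) c' c m :=
      IsPullback.of_bot (by rw [hc'2, hcfac]; exact IsPullback.of_hasPullback fb u) hc'1.symm hPm
    exact MorphismProperty.of_isPullback hPc hc
  · obtain ⟨h₁, h₂⟩ := hgeo Ω (σ ≫ u)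
    let e := (pullbackLeftPullbackSndIso fb u σ).inv.homeomorph
    refine ⟨Function.Surjective.irreducibleSpace e.continuous e.surjective, ?_⟩
    rw [← e.isHomeomorph.topologicalKrullDim_eq, h₂]
  · rw [hi'2]; exact MorphismProperty.pullback_snd _ _ hfin
  · rw [hi'2]; exact MorphismProperty.pullback_snd _ _ het
  · have h : Surjective (pullback.snd (i ≫ fb) u) :=
      MorphismProperty.pullback_snd _ _ (⟨hsur⟩ : Surjective (i ≫ fb))
    rw [hi'2]; exact h.surj

end Groth.Agent.S15501
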