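import Groth.Statements.S15502
import Mathlib

set_option autoImplicit false
open Polynomial
universe u
open CAlg

namespace Groth.Agent.S15502
open scoped Matrix

/-- Let S = Spec R be a smooth connected affine complex variety (R a finitely generated smooth ℂ-algebra
and a domain), θ_1, …, θ_r ∈ R pairwise disjoint sections of the affine line over S (θ_i − θ_k a
unit for i ≠ k), Θ = ∏ (X − θ_i) ∈ R[X], and M = R^d. Suppose given an additive operator D₀ on M[X]
= R[X]^d with D₀(p v) = Θ p′ v + p D₀(v) (the action of the logarithmic vector field Θ ∂/∂X for a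
connection on the trivial bundle of rank d on the affine line over S with logarithmic poles along
the θ_i), its extension D to M[X, 1/Θ] = (R[X][1/Θ])^d with the same Leibniz rule, and for each i
the residue endomorphism Res_i of M, characterised by D₀(m)(θ_i) = (∏_{k ≠ i} (θ_i − θ_k)) ·
Res_i(m) for constant m ∈ M, whose characteristic polynomial has complex coefficients and no nonzero
integer root. Then M[X, 1/Θ] = D(M[X, 1/Θ]) + M[X]: every element of (R[X][1/Θ])^d is D of some
element plus an element coming from R[X]^d. (The published claim is made for residues whose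
characteristic roots all lie in the image of a right inverse τ of the quotient map ℂ → ℂ/ℤ with τ(0)
= 0, so that no root is a nonzero integer and no two roots differ by a nonzero integer; this row
assumes only that no nonzero integer is a root, which is all the argument uses.) -/
theorem result
    (R : Type u) [CommRing R] [IsDomain R] [Algebra ℂ R] [Algebra.FiniteType ℂ R]
    [Algebra.Smooth ℂ R] (d r : ℕ) (θ : Fin r → R)
    (hθ : ∀ i k, i ≠ k → IsUnit (θ i - θ k))
    (Θ : R[X]) (hΘ : Θ = ∏ i, (X - Polynomial.C (θ i)))
    (D₀ : (Fin d → R[X]) →+ (Fin d → R[X]))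
    (hD₀ : ∀ (p : R[X]) (v : Fin d → R[X]),
      D₀ (p • v) = (Θ * Polynomial.derivative p) • v + p • D₀ v)
    (D : (Fin d → Localization.Away Θ) →+ (Fin d → Localization.Away Θ))
    (hD : ∀ (p : R[X]) (w : Fin d → Localization.Away Θ),
      D (p • w) = (Θ * Polynomial.derivative p) • w + p • D w)
    (hDD₀ : ∀ v : Fin d → R[X],
      D (fun j => algebraMap R[X] (Localization.Away Θ) (v j)) =
        fun j => algebraMap R[X] (Localization.Away Θ) (D₀ v j))
    (Res : Fin r → ((Fin d → R) →ₗ[R] (Fin d → R)))
    (hRes : ∀ (i : Fin r) (m : Fin d → R) (j : Fin d),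
      (D₀ (fun j => Polynomial.C (m j)) j).eval (θ i) =
        (∏ k ∈ Finset.univ.erase i, (θ i - θ k)) * Res i m j)
    (hχ : ∀ i : Fin r, ∃ χ : ℂ[X], (Res i).charpoly = χ.map (algebraMap ℂ R) ∧
      ∀ n : ℤ, n ≠ 0 → χ.eval (n : ℂ) ≠ 0)
    (w : Fin d → Localization.Away Θ) :
    ∃ (w' : Fin d → Localization.Away Θ) (v : Fin d → R[X]),
      w = D w' + fun j => algebraMap R[X] (Localization.Away Θ) (v j) := by
  have hmon : Θ.Monic := hΘ ▸ monic_prod_of_monic _ _ fun i _ => monic_X_sub_C (θ i)
  have hev : ∀ i, Θ.eval (θ i) = 0 := fun i => by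
    rw [hΘ, eval_prod]; exact Finset.prod_eq_zero (Finset.mem_univ i) (by simp)
  have hder : ∀ i, Θ.derivative.eval (θ i) = ∏ k ∈ Finset.univ.erase i, (θ i - θ k) := fun i => by
    rw [hΘ, ← Finset.mul_prod_erase _ _ (Finset.mem_univ i), derivative_mul, eval_add, eval_mul, eval_mul,
      derivative_X_sub_C, eval_one, one_mul, eval_prod, eval_sub, eval_X, eval_C, sub_self, zero_mul, add_zero]
    simp
  have hc : ∀ i, IsUnit (∏ k ∈ Finset.univ.erase i, (θ i - θ k)) := fun i =>
    IsUnit.prod_iff.2 fun k hk => hθ i k (Ne.symm (Finset.ne_of_mem_erase hk))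
  have hT : IsUnit (algebraMap R[X] (Localization.Away Θ) Θ) :=
    IsLocalization.Away.algebraMap_isUnit (S := Localization.Away Θ) Θ
  have main : ∀ (N : ℕ) (w : Fin d → Localization.Away Θ) (u : Fin d → R[X]),
      (fun j => algebraMap R[X] (Localization.Away Θ) (u j)) = (Θ ^ N) • w →
      ∃ (w' : Fin d → Localization.Away Θ) (v : Fin d → R[X]),
        w = D w' + fun j => algebraMap R[X] (Localization.Away Θ) (v j) := by
    intro N
    induction N with
    | zero =>
      intro w u hu
      refine ⟨0, u, ?_⟩
      rw [map_zero, zero_add, hu, pow_zero, one_smul]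
    | succ N ih =>
      intro w u hu
      have hsol : ∀ i, ∃ v : Fin d → R, ∀ j,
          (∏ k ∈ Finset.univ.erase i, (θ i - θ k)) * (Res i v j - ((N + 1 : ℕ) : R) * v j) =
            (u j).eval (θ i) := by
        intro i
        obtain ⟨χ, hχ₁, hχ₂⟩ := hχ i
        have hdet : IsUnit (LinearMap.toMatrix' (((N + 1 : ℕ) : R) • LinearMap.id - Res i)).det := by
          have h : (LinearMap.toMatrix' (((N + 1 : ℕ) : R) • LinearMap.id - Res i)).det =
              (Res i).charpoly.eval ((N + 1 : ℕ) : R) := by
            rw [← LinearMap.charpoly_toMatrix (Res i) (Pi.basisFun R (Fin d)), ← LinearMap.toMatrix_eq_toMatrix',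
              Matrix.eval_charpoly]
            congr 1
            ext a b
            simp [LinearMap.toMatrix_eq_toMatrix', Matrix.scalar, Matrix.diagonal, Matrix.one_apply, Pi.single_apply]
          rw [h, hχ₁, ← map_natCast (algebraMap ℂ R), eval_map_algebraMap, aeval_algebraMap_apply]
          refine IsUnit.map _ (isUnit_iff_ne_zero.2 ?_)
          have := hχ₂ ((N + 1 : ℕ) : ℤ) (by omega)
          simpa using this
        obtain ⟨c', hc'⟩ := isUnit_iff_exists_inv.1 (hc i)
        let g : Fin d → R := fun j => -(c' * (u j).eval (θ i))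
        refine ⟨(LinearMap.toMatrix' (((N + 1 : ℕ) : R) • LinearMap.id - Res i))⁻¹ *ᵥ g, fun j => ?_⟩
        have h1 : (((N + 1 : ℕ) : R) • (LinearMap.id : (Fin d → R) →ₗ[R] (Fin d → R)) - Res i)
            ((LinearMap.toMatrix' (((N + 1 : ℕ) : R) • LinearMap.id - Res i))⁻¹ *ᵥ g) = g := by
          conv_lhs => rw [← LinearMap.toMatrix'_mulVec]
          rw [Matrix.mulVec_mulVec, Matrix.mul_nonsing_inv _ hdet, Matrix.one_mulVec]
        have h2 := congrFun h1 j
        simp only [LinearMap.sub_apply, LinearMap.smul_apply, LinearMap.id_apply, Pi.sub_apply,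
          Pi.smul_apply, smul_eq_mul, g] at h2
        linear_combination (-(∏ k ∈ Finset.univ.erase i, (θ i - θ k))) * h2 + ((u j).eval (θ i)) * hc'
      choose vv hvv using hsol
      choose cinv hcinv using fun i => isUnit_iff_exists_inv.1 (hc i)
      let m : Fin d → R[X] := fun j =>
        ∑ i, Polynomial.C (vv i j * cinv i) * ∏ k ∈ Finset.univ.erase i, (X - Polynomial.C (θ k))
      have hm : ∀ i j, (m j).eval (θ i) = vv i j := by
        intro i j
        simp only [m, eval_finset_sum, eval_mul, eval_C, eval_prod, eval_sub, eval_X]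
        rw [Finset.sum_eq_single i]
        · rw [mul_assoc, mul_comm (cinv i), hcinv, mul_one]
        · intro b _ hb
          rw [Finset.prod_eq_zero (Finset.mem_erase.2 ⟨Ne.symm hb, Finset.mem_univ i⟩) (by simp), mul_zero]
        · simp
      have hdvd : ∀ j, Θ ∣ u j - (D₀ m j - ((N + 1 : ℕ) : R[X]) * derivative Θ * m j) := by
        intro j
        rw [hΘ]
        refine Finset.prod_dvd_of_coprime (fun i _ k _ hik => ?_) fun i _ => dvd_iff_isRoot.2 ?_
        · exact isCoprime_X_sub_C_of_isUnit_sub (hθ i k hik)
        rw [← hΘ]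
        have hD0 : (D₀ m j).eval (θ i) = (D₀ (fun j => Polynomial.C (vv i j)) j).eval (θ i) := by
          have hdiv : ∀ j, ∃ q : R[X], m j = Polynomial.C (vv i j) + (X - Polynomial.C (θ i)) * q := fun j => by
            obtain ⟨q, hq⟩ := X_sub_C_dvd_sub_C_eval (p := m j) (a := θ i)
            exact ⟨q, by rw [← hm i j, ← hq]; ring⟩
          choose q hq using hdiv
          have hm' : m = (fun j => Polynomial.C (vv i j)) + (X - Polynomial.C (θ i)) • q := funext fun j => by
            simp only [Pi.add_apply, Pi.smul_apply, smul_eq_mul]; exact hq j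
          conv_lhs => rw [hm', map_add, hD₀]
          simp [hev i]
        rw [IsRoot.def, eval_sub, eval_sub, eval_mul, eval_mul, eval_natCast, hder, hm, hD0, hRes,
          ← hvv i j]
        ring
      choose q hq using hdvd
      obtain ⟨tinv, htinv⟩ := isUnit_iff_exists_inv.1 (hT.pow (N + 1))
      let f : Fin d → Localization.Away Θ := fun j => algebraMap R[X] _ (m j) * tinv
      have hf : (fun j => algebraMap R[X] (Localization.Away Θ) (m j)) = (Θ ^ (N + 1)) • f := funext fun j => by
        simp only [Pi.smul_apply, f, Algebra.smul_def, map_pow]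
        rw [mul_left_comm, htinv, mul_one]
      have key : ∀ j, algebraMap R[X] (Localization.Away Θ)
          (D₀ m j - ((N + 1 : ℕ) : R[X]) * derivative Θ * m j) = (Θ ^ (N + 1)) • D f j := by
        intro j
        have h := congrFun (hDD₀ m) j
        rw [hf, hD] at h
        have hmj : algebraMap R[X] (Localization.Away Θ) (m j) = (Θ ^ (N + 1)) • f j := congrFun hf j
        rw [map_sub, map_mul, ← h, hmj]
        simp only [Pi.add_apply, Pi.smul_apply]
        rw [derivative_pow_succ]
        simp only [Algebra.smul_def, map_mul, map_pow, map_add, map_natCast, map_one, Nat.cast_add,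
          Nat.cast_one, pow_succ]
        ring
      have hrec : (fun j => algebraMap R[X] (Localization.Away Θ) (q j)) = (Θ ^ N) • (w - D f) := by
        funext j
        refine hT.mul_left_cancel ?_
        rw [← map_mul, ← hq j, map_sub, key, congrFun hu j]
        simp only [Pi.smul_apply, Pi.sub_apply, Algebra.smul_def, map_pow, map_mul, pow_succ]
        ring
      obtain ⟨w', v, hv⟩ := ih (w - D f) q hrec
      exact ⟨f + w', v, by rw [map_add, add_assoc, ← hv]; abel⟩
  obtain ⟨⟨b, hb⟩, hint⟩ := IsLocalization.exist_integer_multiples_of_finite (Submonoid.powers Θ) w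
  obtain ⟨N, rfl⟩ := hb
  choose u hu using hint
  exact main N w u (funext hu)

end Groth.Agent.S15502
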