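import Groth.Statements.S15503
import Mathlib.LinearAlgebra.Charpoly.ToMatrix
import Mathlib.RingTheory.Localization.Integer

set_option autoImplicit false
open Polynomial
universe u
open CAlg

namespace Groth.Agent.S15503

open scoped Matrix

/-- Let S = Spec R be a smooth connected affine complex variety (R a finitely generated smooth ℂ-algebra
and a domain), θ_1, …, θ_r ∈ R pairwise disjoint sections of the affine line over S (θ_i − θ_k a
unit for i ≠ k), Θ = ∏ (X − θ_i) ∈ R[X], and M = R^d. Suppose given an additive operator D₀ on M[X]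
= R[X]^d with D₀(p v) = Θ p′ v + p D₀(v) (the action of the logarithmic vector field Θ ∂/∂X for a
connection on the trivial bundle of rank d on the affine line over S with logarithmic poles along
the θ_i), its extension D to M[X, 1/Θ] = (R[X][1/Θ])^d with the same Leibniz rule, and for each i
the residue endomorphism Res_i of M, characterised by D₀(m)(θ_i) = (∏_{k ≠ i} (θ_i − θ_k)) ·
Res_i(m) for constant m ∈ M, whose characteristic polynomial has complex coefficients and no nonzero
integer root. Then an element f of M[X, 1/Θ] = (R[X][1/Θ])^d with D(f) ∈ M[X] = R[X]^d lies in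
R[X]^d. (The published claim is made for residues whose characteristic roots all lie in the image of
a right inverse τ of the quotient map ℂ → ℂ/ℤ with τ(0) = 0, so that no root is a nonzero integer
and no two roots differ by a nonzero integer; this row assumes only that no nonzero integer is a
root, which is all the argument uses.) -/
theorem result
    (R : Type u) [CommRing R] [IsDomain R] [Algebra ℂ R] [Algebra.FiniteType ℂ R]
    [Algebra.Smooth ℂ R] (d r : ℕ) (θ : Fin r → R)
    (hθ : ∀ i k, i ≠ k → IsUnit (θ i - θ k))
    (Θ : R[X]) (hΘ : Θ = ∏ i, (X - Polynomial.C (θ i)))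
    (D₀ : (Fin d → R[X]) →+ (Fin d → R[X]))
    (hD₀ : ∀ (p : R[X]) (v : Fin d → R[X]),
      D₀ (p • v) = (Θ * Polynomial.derivative p) • v + p • D₀ v)
    (D : (Fin d → Localization.Away Θ) →+ (Fin d → Localization.Away Θ))
    (hD : ∀ (p : R[X]) (w : Fin d → Localization.Away Θ),
      D (p • w) = (Θ * Polynomial.derivative p) • w + p • D w)
    (hDD₀ : ∀ v : Fin d → R[X],
      D (fun j => algebraMap R[X] (Localization.Away Θ) (v j)) =
        fun j => algebraMap R[X] (Localization.Away Θ) (D₀ v j))
    (Res : Fin r → ((Fin d → R) →ₗ[R] (Fin d → R)))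
    (hRes : ∀ (i : Fin r) (m : Fin d → R) (j : Fin d),
      (D₀ (fun j => Polynomial.C (m j)) j).eval (θ i) =
        (∏ k ∈ Finset.univ.erase i, (θ i - θ k)) * Res i m j)
    (hχ : ∀ i : Fin r, ∃ χ : ℂ[X], (Res i).charpoly = χ.map (algebraMap ℂ R) ∧
      ∀ n : ℤ, n ≠ 0 → χ.eval (n : ℂ) ≠ 0)
    (f : Fin d → Localization.Away Θ)
    (hf : ∃ v : Fin d → R[X], D f = fun j => algebraMap R[X] (Localization.Away Θ) (v j)) :
    ∃ v : Fin d → R[X], f = fun j => algebraMap R[X] (Localization.Away Θ) (v j) := by
  have hmon : Θ.Monic := hΘ ▸ monic_prod_of_monic _ _ fun i _ => monic_X_sub_C (θ i)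
  have hinj : Function.Injective (algebraMap R[X] (Localization.Away Θ)) :=
    IsLocalization.injective _ (powers_le_nonZeroDivisors_of_noZeroDivisors hmon.ne_zero)
  obtain ⟨v, hv⟩ := hf
  have hev : ∀ i, Θ.eval (θ i) = 0 := fun i => by
    rw [hΘ, eval_prod]; exact Finset.prod_eq_zero (Finset.mem_univ i) (by simp)
  have hder : ∀ i, Θ.derivative.eval (θ i) = ∏ k ∈ Finset.univ.erase i, (θ i - θ k) := fun i => by
    rw [hΘ, ← Finset.mul_prod_erase _ _ (Finset.mem_univ i), derivative_mul, eval_add, eval_mul, eval_mul,
      derivative_X_sub_C, eval_one, one_mul, eval_prod, eval_sub, eval_X, eval_C, sub_self, zero_mul, add_zero]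
    simp
  have main : ∀ N : ℕ, ∀ w : Fin d → R[X],
      (fun j => algebraMap R[X] (Localization.Away Θ) (w j)) = (Θ ^ N) • f →
      ∃ v : Fin d → R[X], f = fun j => algebraMap R[X] (Localization.Away Θ) (v j) := by
    intro N
    induction N with
    | zero => intro w hw; exact ⟨w, by rw [hw, pow_zero, one_smul]⟩
    | succ N ih =>
      intro w hw
      have key : D₀ w = (((N + 1 : ℕ) : R[X]) * derivative Θ) • w + (Θ ^ (N + 1)) • v := by
        funext j
        apply hinj
        have h := congrFun (hDD₀ w) j
        rw [hw, hD, hv] at h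
        rw [← h]
        have hwj : algebraMap R[X] (Localization.Away Θ) (w j) = (Θ ^ (N + 1)) • f j := congrFun hw j
        simp only [Pi.add_apply, Pi.smul_apply, smul_eq_mul, map_add, map_mul, hwj]
        rw [derivative_pow_succ]
        simp only [Algebra.smul_def, map_mul, map_pow, map_add, map_natCast, map_one, Nat.cast_add,
          Nat.cast_one, pow_succ]
        ring
      have hwθ : ∀ i j, (w j).eval (θ i) = 0 := by
        intro i
        have hdiv : ∀ j, ∃ q : R[X], w j = Polynomial.C ((w j).eval (θ i)) + (X - Polynomial.C (θ i)) * q := fun j => by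
          obtain ⟨q, hq⟩ := X_sub_C_dvd_sub_C_eval (p := w j) (a := θ i)
          exact ⟨q, by rw [← hq]; ring⟩
        choose q hq using hdiv
        obtain ⟨m, hm⟩ : ∃ m : Fin d → R, m = fun j => (w j).eval (θ i) := ⟨_, rfl⟩
        have hD0 : ∀ j, (D₀ w j).eval (θ i) = (D₀ (fun j => Polynomial.C (m j)) j).eval (θ i) := fun j => by
          have hw' : w = (fun j => Polynomial.C (m j)) + (X - Polynomial.C (θ i)) • q := funext fun j => by
            simp only [hm, Pi.add_apply, Pi.smul_apply, smul_eq_mul]; exact hq j
          conv_lhs => rw [hw', map_add, hD₀]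
          simp [hev i]
        obtain ⟨χ, hχ₁, hχ₂⟩ := hχ i
        have hu : IsUnit (∏ k ∈ Finset.univ.erase i, (θ i - θ k)) :=
          IsUnit.prod_iff.2 fun k hk => hθ i k (Ne.symm (Finset.ne_of_mem_erase hk))
        have hres : ∀ j, Res i m j = ((N + 1 : ℕ) : R) * m j := fun j => by
          refine hu.mul_left_cancel ?_
          rw [← hRes i m j, ← hD0 j, key]
          simp only [Pi.add_apply, Pi.smul_apply, smul_eq_mul, eval_add, eval_mul, eval_natCast, eval_pow, hev i,
            zero_pow (Nat.succ_ne_zero N), zero_mul, add_zero, hder, hm]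
          ring
        have hdet : IsUnit (LinearMap.toMatrix' (((N + 1 : ℕ) : R) • LinearMap.id - Res i)).det := by
          have h : (LinearMap.toMatrix' (((N + 1 : ℕ) : R) • LinearMap.id - Res i)).det =
              (Res i).charpoly.eval ((N + 1 : ℕ) : R) := by
            rw [← LinearMap.charpoly_toMatrix (Res i) (Pi.basisFun R (Fin d)), ← LinearMap.toMatrix_eq_toMatrix',
              Matrix.eval_charpoly]
            congr 1
            ext a b
            simp [LinearMap.toMatrix_eq_toMatrix', Matrix.scalar, Matrix.diagonal, Matrix.one_apply, Pi.single_apply]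
          rw [h, hχ₁, ← map_natCast (algebraMap ℂ R), eval_map_algebraMap, aeval_algebraMap_apply]
          refine IsUnit.map _ (isUnit_iff_ne_zero.2 ?_)
          have := hχ₂ ((N + 1 : ℕ) : ℤ) (by omega)
          simpa using this
        have h0 : LinearMap.toMatrix' (((N + 1 : ℕ) : R) • LinearMap.id - Res i) *ᵥ m = 0 := by
          rw [← Matrix.toLin'_apply, Matrix.toLin'_toMatrix']
          funext j
          simp [hres j]
        intro j
        have h1 := congrArg (fun x => (LinearMap.toMatrix' (((N + 1 : ℕ) : R) • LinearMap.id - Res i))⁻¹ *ᵥ x) h0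
        simp only [Matrix.mulVec_mulVec, Matrix.nonsing_inv_mul _ hdet, Matrix.one_mulVec, Matrix.mulVec_zero] at h1
        simpa [hm] using congrFun h1 j
      have hdvd : ∀ j, Θ ∣ w j := fun j => by
        rw [hΘ]
        refine Finset.prod_dvd_of_coprime (fun i _ k _ hik => ?_) fun i _ => dvd_iff_isRoot.2 (hwθ i j)
        exact isCoprime_X_sub_C_of_isUnit_sub (hθ i k hik)
      choose w' hw' using hdvd
      refine ih w' (funext fun j => ?_)
      have h := congrFun hw j
      simp only [Pi.smul_apply, Algebra.smul_def, hw', map_mul, pow_succ, map_pow] at h ⊢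
      refine (IsLocalization.Away.algebraMap_isUnit (S := Localization.Away Θ) Θ).mul_left_cancel ?_
      rw [h]; ring
  obtain ⟨⟨b, hb⟩, hint⟩ := IsLocalization.exist_integer_multiples_of_finite (Submonoid.powers Θ) f
  obtain ⟨N, rfl⟩ := hb
  choose w hw using hint
  exact main N w (funext hw)

end Groth.Agent.S15503
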