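import Groth.Statements.S15504
import Mathlib.RingTheory.OrderOfVanishing.Basic
import Mathlib.RingTheory.KrullDimension.PID
import Mathlib.Algebra.Module.Submodule.Map
import Mathlib.RingTheory.WittVector.DiscreteValuationRing
import Mathlib.RingTheory.Artinian.Module
import Mathlib.RingTheory.PrincipalIdealDomain
import Mathlib.FieldTheory.IsAlgClosed.Basic
import Mathlib.Algebra.Module.Torsion.Basic
-- import your own Groth.Agent.* helpers here

set_option autoImplicit false
universe u v
open FrobAlg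

namespace Groth.Agent.S15504

/-- Let k be an algebraically closed field of characteristic p, W = W(k) the ring of p-typical Witt
vectors, M a finitely generated torsion W-module and φ a p⁻¹-linear endomorphism of M (additive,
with φ(a·m) = σ⁻¹(a)·φ(m) for the Frobenius automorphism σ of W). Then M = M_s ⊕ M_n for two
φ-stable submodules, with φ bijective on M_s and nilpotent on M_n (one iterate of φ kills M_n). -/
theorem result (p : ℕ) [Fact p.Prime]
    (k : Type u) [Field k] [CharP k p] [IsAlgClosed k]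
    (M : Type v) [AddCommGroup M] [Module (WittVector p k) M] [Module.Finite (WittVector p k) M]
    (hM : Module.IsTorsion (WittVector p k) M)
    (φ : M →ₛₗ[((WittVector.frobeniusEquiv p k).symm : WittVector p k →+* WittVector p k)] M) :
    ∃ Ms Mn : Submodule (WittVector p k) M, IsCompl Ms Mn ∧
      Set.MapsTo φ Ms Ms ∧ Set.MapsTo φ Mn Mn ∧ Set.BijOn φ Ms Ms ∧
      ∃ r : ℕ, ∀ x ∈ Mn, (⇑φ)^[r] x = 0 := by
    let σ : WittVector p k →+* WittVector p k :=
      ((WittVector.frobeniusEquiv p k).symm : WittVector p k →+* WittVector p k)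
    haveI : RingHomSurjective σ := ⟨(WittVector.frobeniusEquiv p k).symm.surjective⟩
    haveI hN : IsNoetherian (WittVector p k) M := isNoetherian_of_isNoetherianRing_of_finite _ M
    haveI hA : IsArtinian (WittVector p k) M := by
      obtain ⟨a, ha, ha0⟩ := Submodule.annihilator_top_inter_nonZeroDivisors hM
      obtain ⟨n, s, hs⟩ := Module.Finite.exists_fin' (WittVector p k) M
      haveI : IsArtinian (WittVector p k) (WittVector p k ⧸ Ideal.span {a}) :=
        (isFiniteLength_iff_isNoetherian_isArtinian.1 (isFiniteLength_quotient_span_singleton _ ha0)).2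
      let q : (Fin n → WittVector p k) →ₗ[WittVector p k] (Fin n → WittVector p k ⧸ Ideal.span {a}) :=
        LinearMap.pi fun j => (Ideal.span {a}).mkQ ∘ₗ LinearMap.proj j
      have hq : Function.Surjective q := fun z => by
        choose w hw using fun j => Submodule.mkQ_surjective (Ideal.span {a}) (z j)
        exact ⟨w, funext hw⟩
      have hker : LinearMap.ker q ≤ LinearMap.ker s := fun w hw => by
        rw [LinearMap.mem_ker, pi_eq_sum_univ w, map_sum]
        refine Finset.sum_eq_zero fun j _ => ?_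
        obtain ⟨c, hc⟩ := Ideal.mem_span_singleton'.1 ((Submodule.Quotient.mk_eq_zero _).1 (congrFun hw j))
        simp only [LinearMap.proj_apply] at hc
        rw [map_smul, ← hc, mul_smul, Submodule.mem_annihilator.1 ha _ Submodule.mem_top, smul_zero]
      exact isArtinian_of_surjective (M := Fin n → WittVector p k ⧸ Ideal.span {a})
        (((LinearMap.ker q).liftQ s hker) ∘ₗ (q.quotKerEquivOfSurjective hq).symm.toLinearMap)
        (fun m => by obtain ⟨w, rfl⟩ := hs m; exact ⟨q w, by simp⟩)
    let I : ℕ → Submodule (WittVector p k) M := fun j =>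
      Nat.rec ⊤ (fun _ S => S.map φ) j
    let K : ℕ → Submodule (WittVector p k) M := fun j =>
      Nat.rec ⊥ (fun _ S => S.comap φ) j
    have hK : ∀ j x, x ∈ K j ↔ (⇑φ)^[j] x = 0 := by
      intro j
      induction j with
      | zero => intro x; exact Submodule.mem_bot _
      | succ j ih => intro x; rw [Function.iterate_succ_apply]; exact ih (φ x)
    have hI : ∀ j x, x ∈ I j ↔ ∃ y, (⇑φ)^[j] y = x := by
      intro j
      induction j with
      | zero => intro x; exact ⟨fun _ => ⟨x, rfl⟩, fun _ => Submodule.mem_top⟩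
      | succ j ih =>
        intro x
        change x ∈ (I j).map φ ↔ _
        simp only [Submodule.mem_map, ih, Function.iterate_succ_apply']
        exact ⟨fun ⟨_, ⟨y, rfl⟩, h⟩ => ⟨y, h⟩, fun ⟨y, h⟩ => ⟨_, ⟨y, rfl⟩, h⟩⟩
    have hz : ∀ j, (⇑φ)^[j] 0 = 0 := fun j => Function.iterate_fixed (map_zero φ) j
    have hKm : Monotone K := monotone_nat_of_le_succ fun j x hx =>
      (hK (j + 1) x).2 (by rw [Function.iterate_succ_apply', (hK j x).1 hx, map_zero])
    have hIa : Antitone I := antitone_nat_of_succ_le fun j x hx => by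
      obtain ⟨y, rfl⟩ := (hI (j + 1) x).1 hx
      exact (hI j _).2 ⟨φ y, (Function.iterate_succ_apply _ _ _).symm⟩
    obtain ⟨a₁, ha₁⟩ := monotone_stabilizes_iff_noetherian.2 hN ⟨K, hKm⟩
    obtain ⟨a₂, ha₂⟩ := IsArtinian.monotone_stabilizes (R := WittVector p k) (M := M)
      ⟨fun j => OrderDual.toDual (I j), fun i j h => hIa h⟩
    have hK' : ∀ j, a₁ ≤ j → K a₁ = K j := ha₁
    have hI' : ∀ j, a₂ ≤ j → I a₂ = I j := fun j hj => congrArg OrderDual.ofDual (ha₂ j hj)
    obtain ⟨r, hr₁, hr₂, hr₃⟩ : ∃ r, a₁ ≤ r ∧ a₂ ≤ r ∧ 1 ≤ r := ⟨a₁ + a₂ + 1, by omega, by omega, by omega⟩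
    have hKs : ∀ j, r ≤ j → K j = K r := fun j hj => (hK' j (hr₁.trans hj)).symm.trans (hK' r hr₁)
    have hIs : ∀ j, r ≤ j → I j = I r := fun j hj => (hI' j (hr₂.trans hj)).symm.trans (hI' r hr₂)
    have hdis : ∀ x, x ∈ I r → x ∈ K r → x = 0 := by
      intro x hxI hxK
      obtain ⟨y, rfl⟩ := (hI _ _).1 hxI
      refine (hK r y).1 ?_
      rw [← hKs (r + r) (by omega), hK, Function.iterate_add_apply]
      exact (hK r _).1 hxK
    have hmaps : Set.MapsTo (⇑φ) (SetLike.coe (I r)) (SetLike.coe (I r)) := fun x (hx : x ∈ I r) => by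
      show φ x ∈ I r
      rw [← hIs (r + 1) (by omega)]
      exact Submodule.mem_map_of_mem hx
    refine ⟨I r, K r, ⟨Submodule.disjoint_def.2 hdis, codisjoint_iff.2 (eq_top_iff.2 fun x _ => ?_)⟩,
      hmaps, fun x hx => hKm (Nat.le_succ r) hx |> fun h => ?_, ⟨hmaps, ?_, ?_⟩, r, fun x hx => (hK r x).1 hx⟩
    · have : (⇑φ)^[r] x ∈ I (r + r) := by
        rw [hIs (r + r) (by omega)]; exact (hI _ _).2 ⟨x, rfl⟩
      obtain ⟨y, hy⟩ := (hI _ _).1 this
      refine Submodule.mem_sup.2 ⟨(⇑φ)^[r] y, (hI _ _).2 ⟨y, rfl⟩, x - (⇑φ)^[r] y, (hK _ _).2 ?_, add_sub_cancel _ _⟩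
      have hsub : ∀ (j : ℕ) (u w : M), (⇑φ)^[j] (u - w) = (⇑φ)^[j] u - (⇑φ)^[j] w := fun j => by
        induction j with
        | zero => intros; rfl
        | succ j ih => intro u w; simp only [Function.iterate_succ_apply', ih, map_sub]
      rw [hsub, ← Function.iterate_add_apply, hy, sub_self]
    · refine (hK r _).2 ?_
      rw [← Function.iterate_succ_apply]
      exact (hK _ _).1 h
    · intro x hx y hy h
      refine sub_eq_zero.1 (hdis _ (sub_mem hx hy) (hKm hr₃ ((hK 1 _).2 ?_)))
      rw [Function.iterate_one, map_sub, h, sub_self]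
    · intro x hx
      rw [← hIs (r + 1) (by omega)] at hx
      exact hx

end Groth.Agent.S15504
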