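import Groth.Statements.S15505
import Mathlib.Algebra.CharP.Algebra
import Mathlib.FieldTheory.Finite.Basic
-- import your own Groth.Agent.* helpers here

set_option autoImplicit false
universe u v w
open FrobAlg

namespace Groth.Agent.S15505

/-- Let k be an algebraically closed field of characteristic p, V a k-vector space, φ a p⁻¹-linear
endomorphism of V (additive, φ(a·v) = a^{1/p}·φ(v)) and b a finite basis of V consisting of vectors
fixed by φ. Then the vectors fixed by φ are exactly the combinations of the b_i with coefficients in
the prime field: v is fixed if and only if v = Σ c_i·b_i with all c_i in the image of ℤ/p. -/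
theorem result (p : ℕ) [Fact p.Prime]
    (k : Type u) [Field k] [CharP k p] [IsAlgClosed k]
    (V : Type v) [AddCommGroup V] [Module k V]
    (φ : V →ₛₗ[((frobeniusEquiv k p).symm : k →+* k)] V)
    {ι : Type w} [Fintype ι] (b : Module.Basis ι k V) (hb : ∀ i, φ (b i) = b i) (v : V) :
    φ v = v ↔ ∃ c : ι → ZMod p, v = ∑ i, (ZMod.castHom (dvd_refl p) k (c i)) • b i := by
  have key : φ v = ∑ i, (frobeniusEquiv k p).symm (b.repr v i) • b i := by
    conv_lhs => rw [← b.sum_repr v]
    rw [map_sum]
    exact Finset.sum_congr rfl fun i _ => by rw [map_smulₛₗ, hb]; rfl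
  constructor
  · intro h
    have hfix : ∀ i, (b.repr v i) ^ p = b.repr v i := by
      intro i
      have h2 := congrArg (fun w => b.repr w i) (key.symm.trans h)
      simp only [map_sum, map_smul, Finsupp.finsetSum_apply, Finsupp.smul_apply, Module.Basis.repr_self] at h2
      rw [Finset.sum_eq_single i (fun j _ hj => by simp [Finsupp.single_apply, hj]) (by simp),
        Finsupp.single_eq_same, smul_eq_mul, mul_one] at h2
      conv_lhs => rw [← h2]
      exact (frobeniusEquiv k p).apply_symm_apply _
    have hrange : ∀ i, ∃ a : ZMod p, ZMod.castHom (dvd_refl p) k a = b.repr v i := by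
      intro i
      have hmem : b.repr v i ∈ (⊥ : Subfield k) := by
        rw [Subfield.mem_bot_iff_pow_eq_self]; exact hfix i
      rw [mem_bot_iff_intCast p] at hmem
      obtain ⟨z, hz⟩ := hmem
      exact ⟨z, by rw [map_intCast, hz]⟩
    choose c hc using hrange
    exact ⟨c, by simp only [hc]; exact (b.sum_repr v).symm⟩
  · rintro ⟨c, rfl⟩
    rw [map_sum]
    refine Finset.sum_congr rfl fun i _ => ?_
    rw [map_smulₛₗ, hb]
    congr 1
    apply (frobeniusEquiv k p).injective
    change frobeniusEquiv k p ((frobeniusEquiv k p).symm _) = _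
    rw [RingEquiv.apply_symm_apply, frobeniusEquiv_def, ← map_pow, ZMod.pow_card]

end Groth.Agent.S15505
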