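import Groth.Statements.S15506
import Groth.Agent.EtFound.FieldExt

set_option autoImplicit false
universe u
open CategoryTheory AlgebraicGeometry
open EtBase

namespace Groth.Agent.S15506

/-- Let k be a field, K an algebraic closure of k (an algebraically closed field algebraic over k), Ω a
field containing K, and Z a scheme étale over Spec k. Composition with Spec Ω → Spec K is a
bijection from the k-morphisms Spec K → Z onto the k-morphisms Spec Ω → Z: two k-morphisms Spec K →
Z that agree on Spec Ω are equal, and every k-morphism Spec Ω → Z factors through Spec K. (The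
published statement is the case where k has characteristic zero with a chosen embedding of its
algebraic closure into the complex numbers, Ω = ℂ, and Z is the scheme of isomorphisms between two
K3 surfaces over k, known there to be étale over k; this row states the fact about an arbitrary
étale k-scheme that the argument establishes.) -/
theorem result
    (k K Ω : Type u) [Field k] [Field K] [Field Ω] [Algebra k K] [IsAlgClosed K] [Algebra.IsAlgebraic k K]
    [Algebra K Ω] [Algebra k Ω] [IsScalarTower k K Ω]
    (Z : Scheme.{u}) (f : Z ⟶ Spec (CommRingCat.of k)) [AlgebraicGeometry.Etale f] :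
    (∀ g₁ g₂ : Spec (CommRingCat.of K) ⟶ Z,
        g₁ ≫ f = Spec.map (CommRingCat.ofHom (algebraMap k K)) →
        g₂ ≫ f = Spec.map (CommRingCat.ofHom (algebraMap k K)) →
        Spec.map (CommRingCat.ofHom (algebraMap K Ω)) ≫ g₁ = Spec.map (CommRingCat.ofHom (algebraMap K Ω)) ≫ g₂ →
        g₁ = g₂) ∧
    (∀ h : Spec (CommRingCat.of Ω) ⟶ Z, h ≫ f = Spec.map (CommRingCat.ofHom (algebraMap k Ω)) →
        ∃ g : Spec (CommRingCat.of K) ⟶ Z, g ≫ f = Spec.map (CommRingCat.ofHom (algebraMap k K)) ∧
          Spec.map (CommRingCat.ofHom (algebraMap K Ω)) ≫ g = h) := by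
  refine ⟨fun g₁ g₂ h₁ h₂ e => ?_, fun h hh => ?_⟩
  · have ht : (Spec.map (CommRingCat.ofHom (algebraMap K Ω)) ≫ g₁) ≫ f =
        Spec.map (CommRingCat.ofHom (algebraMap K Ω)) ≫ Spec.map (CommRingCat.ofHom (algebraMap k K)) := by
      rw [Category.assoc, h₁]
    obtain ⟨c, -, hc⟩ := EtFound.existsUnique_fac f _ _ _ ht
    exact (hc g₁ ⟨h₁, rfl⟩).trans (hc g₂ ⟨h₂, e.symm⟩).symm
  · have ht : h ≫ f = Spec.map (CommRingCat.ofHom (algebraMap K Ω)) ≫ Spec.map (CommRingCat.ofHom (algebraMap k K)) := by
      rw [hh, ← Spec.map_comp, ← CommRingCat.ofHom_comp, ← IsScalarTower.algebraMap_eq]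
    obtain ⟨c, ⟨h1, h2⟩, -⟩ := EtFound.existsUnique_fac f _ _ _ ht
    exact ⟨c, h1, h2⟩

end Groth.Agent.S15506
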