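import Groth.Statements.S15509
import Groth.Agent.H23.TorsRed
import Groth.Agent.H23.RigidGamma
-- import your own Groth.Agent.* helpers here

set_option autoImplicit false
universe u
open CategoryTheory CategoryTheory.Limits MonoidalCategory CartesianMonoidalCategory MonObj AlgebraicGeometry
open AbSch

namespace Groth.Agent.S15509

/-- Let R be a regular local ring which is a domain and contains the rational numbers, with fraction
field K and residue field k, and let A be an abelian scheme over Spec R of relative dimension g (a
commutative group scheme which is smooth and proper with geometrically connected fibres of dimension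
g). Then for every integer m ≥ 1 the number of K-valued points of A over Spec R killed by m is at
most the number of k-valued points of A over Spec R killed by m: the m-torsion of the rational
points of the generic fibre is no larger than the m-torsion of the rational points of the closed
fibre. (The published statement is for an arbitrary Noetherian regular local ring R inside a paper
whose standing setting is schemes over the complex numbers; this row keeps from that setting only
that R contains the rationals, which is what the printed argument uses to make the m-torsion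
subgroup scheme étale over the base.) -/
theorem result
    (R : Type u) [CommRing R] [IsDomain R] [IsRegularLocalRing R] [Algebra ℚ R]
    (A : Over (Spec (CommRingCat.of R))) [GrpObj A] [IsCommMonObj A] (g : ℕ) (hA : AgPol.IsAbSch A g)
    (m : ℕ) (hm : 1 ≤ m) :
    Nat.card (AbDual.torsPts A m (Over.mk (Spec.map (CommRingCat.ofHom (algebraMap R (FractionRing R)))))) ≤
      Nat.card (AbDual.torsPts A m (Over.mk (Spec.map (CommRingCat.ofHom (IsLocalRing.residue R))))) := by
  obtain ⟨hs, hp, hc, -⟩ := hA
  have : GeometricallyReduced A.hom := Groth.Agent.H23.RigidGamma.geometricallyReduced_of_smooth A.hom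
  have hunit : IsUnit (((m : ℤ)) : Γ(Spec (CommRingCat.of R), ⊤)) := by
    have h : IsUnit (m : R) := by
      rw [← map_natCast (algebraMap ℚ R) m]
      exact (isUnit_iff_ne_zero.2 (Nat.cast_ne_zero.2 (by omega : m ≠ 0))).map _
    have := h.map (Scheme.ΓSpecIso (CommRingCat.of R)).inv.hom
    rw [map_natCast] at this
    simpa using this
  have he : Etale (𝟙 A ^ m : A ⟶ A).left := by
    rw [← zpow_natCast]; exact Groth.Agent.H23.MulEtale.etale_zpow _ hunit
  have hf : IsFinite (𝟙 A ^ m : A ⟶ A).left := by
    rw [← zpow_natCast]; exact Groth.Agent.H23.MulEtale.isFinite_zpow _ hunit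
  let q := Limits.pullback.fst (η[A]).left (𝟙 A ^ m : A ⟶ A).left
  have hqe : Etale q := MorphismProperty.pullback_fst (P := @Etale) _ _ he
  have hqf : IsFinite q := MorphismProperty.pullback_fst (P := @IsFinite) _ _ hf
  have : IsAffine (𝟙_ (Over (Spec (CommRingCat.of R)))).left := inferInstanceAs (IsAffine (Spec (CommRingCat.of R)))
  have : IsAffine (Groth.Agent.H23.TorsRed.tors A m) := isAffine_of_isAffineHom q
  let N := Groth.Agent.H23.TorsRed.tors A m
  let C := Γ(N, ⊤)
  obtain ⟨φ, hφ⟩ := Spec.map_surjective (N.isoSpec.inv ≫ q)
  let : Algebra R C := φ.hom.toAlgebra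
  have h1 : IsFinite (Spec.map φ) := by rw [hφ]; infer_instance
  have h2 : Etale (Spec.map φ) := by rw [hφ]; infer_instance
  have : Module.Finite R C := by
    rw [IsFinite.SpecMap_iff] at h1; exact h1
  have : Algebra.Etale R C := by
    rw [HasRingHomProperty.Spec_iff (P := @Etale)] at h2; exact h2
  have := Groth.Agent.RegLoc6.isIntegrallyClosed_of_isRegularLocalRing R
  have key : ∀ (L : Type u) [CommRing L] [Algebra R L],
      Nat.card (AbDual.torsPts A m (Over.mk (Spec.map (CommRingCat.ofHom (algebraMap R L))))) =
        Nat.card (C →ₐ[R] L) := by
    intro L _ _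
    let T : Over (Spec (CommRingCat.of R)) := Over.mk (Spec.map (CommRingCat.ofHom (algebraMap R L)))
    let E : {t : T.left ⟶ N // t ≫ q = T.hom} ≃ (C →ₐ[R] L) :=
      { toFun := fun t =>
          { (Spec.preimage (t.1 ≫ N.isoSpec.hom)).hom with
            commutes' := fun r => by
              have h : φ ≫ Spec.preimage (t.1 ≫ N.isoSpec.hom) = CommRingCat.ofHom (algebraMap R L) := by
                apply Spec.map_injective
                rw [Spec.map_comp, Spec.map_preimage, hφ, Category.assoc, Iso.hom_inv_id_assoc]
                exact t.2
              exact congrArg (fun ψ => ψ.hom r) h }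
        invFun := fun g => ⟨Spec.map (CommRingCat.ofHom g.toRingHom) ≫ N.isoSpec.inv, by
          rw [Category.assoc, ← hφ, ← Spec.map_comp]
          exact congrArg Spec.map (CommRingCat.hom_ext (RingHom.ext g.commutes))⟩
        left_inv := fun t => by
          apply Subtype.ext
          show Spec.map (Spec.preimage (t.1 ≫ N.isoSpec.hom)) ≫ N.isoSpec.inv = t.1
          rw [Spec.map_preimage, Category.assoc, Iso.hom_inv_id, Category.comp_id]
        right_inv := fun g => by
          refine AlgHom.ext fun c => ?_
          show (Spec.preimage ((Spec.map (CommRingCat.ofHom g.toRingHom) ≫ N.isoSpec.inv) ≫ N.isoSpec.hom)).hom c = g c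
          rw [Category.assoc, Iso.inv_hom_id, Category.comp_id, Spec.preimage_map]
          rfl }
    exact Nat.card_congr ((Groth.Agent.H23.TorsRed.ptsEquiv A m T).trans E)
  rw [key (FractionRing R)]
  refine le_trans Groth.Agent.H23.TorsRed.card_algHom_le (le_of_eq ?_)
  exact (key (IsLocalRing.ResidueField R)).symm

end Groth.Agent.S15509
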