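import Groth.Statements.S15510
import Groth.Agent.H23.RatProductK
import Groth.Agent.Lib.AVDual
import Mathlib.AlgebraicGeometry.SpreadingOut
import Mathlib.AlgebraicGeometry.FunctionField
-- import your own Groth.Agent.* helpers here

set_option autoImplicit false
universe u
open CategoryTheory CategoryTheory.Limits MonoidalCategory CartesianMonoidalCategory MonObj AlgebraicGeometry
open AbVar

namespace Groth.Agent.S15510

set_option linter.style.haveILetI false
set_option backward.isDefEq.respectTransparency false
set_option backward.isDefEq.respectTransparency.types false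
set_option maxHeartbeats 1000000

/-- Let F be a field and A a principally polarized abelian variety over F: a commutative group scheme
over Spec F, smooth and proper with geometrically connected fibres of dimension g, given together
with a commutative group scheme At, data φ presenting At as the dual of A for the fppf topology, and
a polarization lam : A ⟶ At which is an isomorphism. Let Q = F(t_1, …, t_n) be the field of rational
functions in n variables over F. Then base change from F to Q is a bijection from the F-rational
points of A onto the Q-valued points of A over Spec F: every Q-point of A comes from exactly one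
F-point. -/
theorem result
    (F : Type u) [Field F]
    (A At : Over (Spec (CommRingCat.of F))) [GrpObj A] [IsCommMonObj A] [GrpObj At] [IsCommMonObj At]
    (g : ℕ) (hA : AgPol.IsAbSch A g)
    (φ : AgPol.DualMap A At) (hdual : AbDual.IsDualAV Scheme.fppfPrecoverage A At φ)
    (lam : A ⟶ At) (hpol : AgPol.IsPolarization A At φ lam) (hiso : IsIso lam) (n : ℕ) :
    Function.Bijective (fun x : (Over.mk (𝟙 (Spec (CommRingCat.of F))) ⟶ A) =>
      (Over.homMk (Spec.map (CommRingCat.ofHom (algebraMap F (FractionRing (MvPolynomial (Fin n) F)))))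
          (Category.comp_id _) :
        Over.mk (Spec.map (CommRingCat.ofHom (algebraMap F (FractionRing (MvPolynomial (Fin n) F))))) ⟶
          Over.mk (𝟙 (Spec (CommRingCat.of F)))) ≫ x) := by
  have := hA.proper
  have := hA.smooth
  have := hA.geomConnected
  have : GeometricallyIntegral A.hom := Groth.Agent.AVDual.geometricallyIntegral_of_smooth A
  set K := FractionRing (MvPolynomial (Fin n) F) with hK
  constructor
  · intro x y hxy
    have : Flat (Spec.map (CommRingCat.ofHom (algebraMap F K))) :=
      (HasRingHomProperty.Spec_iff (P := @Flat)).2 (RingHom.flat_algebraMap_iff.2 inferInstance)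
    have : Surjective (Spec.map (CommRingCat.ofHom (algebraMap F K))) :=
      ⟨fun z => ⟨IsLocalRing.closedPoint K, Subsingleton.elim _ _⟩⟩
    have := Flat.epi_of_flat_of_surjective (Spec.map (CommRingCat.ofHom (algebraMap F K)))
    apply Over.OverMorphism.ext
    rw [← cancel_epi (Spec.map (CommRingCat.ofHom (algebraMap F K)))]
    exact congrArg CommaMorphism.left hxy
  · intro x
    let R : CommRingCat.{u} := CommRingCat.of (MvPolynomial (Fin n) F)
    have : IsDomain R := inferInstanceAs (IsDomain (MvPolynomial (Fin n) F))
    let sX : Spec R ⟶ Spec (CommRingCat.of F) := Spec.map (CommRingCat.ofHom MvPolynomial.C)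
    let : Algebra (MvPolynomial (Fin n) F) (Spec R).functionField :=
      StructureSheaf.stalkAlgebra R (genericPoint (Spec R))
    have : IsFractionRing (MvPolynomial (Fin n) F) (Spec R).functionField :=
      functionField_isFractionRing_of_affine R
    let i : K ≃ₐ[MvPolynomial (Fin n) F] (Spec R).functionField :=
      IsLocalization.algEquiv (nonZeroDivisors (MvPolynomial (Fin n) F)) K (Spec R).functionField
    let jm : CommRingCat.of K ⟶ (Spec R).functionField := CommRingCat.ofHom i.toRingEquiv.toRingHom
    have : IsIso jm := (ConcreteCategory.isIso_iff_bijective jm).2 i.bijective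
    let φ : Spec ((Spec R).presheaf.stalk (genericPoint (Spec R))) ⟶ A.left := Spec.map jm ≫ x.left
    have h1 : Spec.map (CommRingCat.ofHom (algebraMap F K)) =
        Spec.map (CommRingCat.ofHom (algebraMap (MvPolynomial (Fin n) F) K)) ≫ sX := by
      rw [← Spec.map_comp]
      rfl
    have h2 : Spec.map jm ≫ Spec.map (CommRingCat.ofHom (algebraMap (MvPolynomial (Fin n) F) K)) =
        (Spec R).fromSpecStalk (genericPoint (Spec R)) := by
      rw [Spec.fromSpecStalk_eq', ← Spec.map_comp]
      exact congrArg Spec.map (CommRingCat.hom_ext (RingHom.ext fun r => i.commutes r))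
    have hx : x.left ≫ A.hom = Spec.map (CommRingCat.ofHom (algebraMap F K)) := Over.w x
    have hφ : φ ≫ A.hom = (Spec R).fromSpecStalk (genericPoint (Spec R)) ≫ sX := by
      show (Spec.map jm ≫ x.left) ≫ A.hom = _
      rw [Category.assoc, hx, h1, ← Category.assoc, h2]
    obtain ⟨U, hxU, f, hf, hfs⟩ := spread_out_of_isGermInjective' sX A.hom φ hφ
    let N : Type u := ULift.{u} (Fin n)
    let e : 𝔸(N; Spec (CommRingCat.of F)) ≅ Spec R :=
      AffineSpace.SpecIso N (CommRingCat.of F) ≪≫ Scheme.Spec.mapIso
        ((MvPolynomial.renameEquiv F (Equiv.ulift.{u} (α := Fin n)).symm).toRingEquiv.toCommRingCatIso.op)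
    have he : e.hom ≫ sX = 𝔸(N; Spec (CommRingCat.of F)) ↘ Spec (CommRingCat.of F) := by
      rw [← Iso.eq_inv_comp]
      show Spec.map _ = (Spec.map _ ≫ (AffineSpace.SpecIso N (CommRingCat.of F)).inv) ≫ _
      rw [Category.assoc, AffineSpace.SpecIso_inv_over, ← Spec.map_comp]
      refine congrArg Spec.map (CommRingCat.hom_ext (RingHom.ext fun c => ?_))
      exact (MvPolynomial.rename_C _ c).symm
    let U' : (𝔸(N; Spec (CommRingCat.of F))).Opens := e.hom ⁻¹ᵁ U
    let X : Over (Spec (CommRingCat.of F)) := H23.RatProductK.affine F N
    have : Smooth X.hom := H23.RatProductK.smooth_affine N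
    have : IsSeparated X.hom := inferInstanceAs (IsSeparated (𝔸(N; Spec (CommRingCat.of F)) ↘ _))
    have : GeometricallyIntegral X.hom :=
      inferInstanceAs (GeometricallyIntegral (𝔸(N; Spec (CommRingCat.of F)) ↘ _))
    have hne : (U' : Set ↥(𝔸(N; Spec (CommRingCat.of F)))).Nonempty := ⟨e.inv (genericPoint (Spec R)), by
      show e.hom (e.inv (genericPoint (Spec R))) ∈ U
      rw [← Scheme.Hom.comp_apply, e.inv_hom_id]
      exact hxU⟩
    obtain ⟨g, hg⟩ := H23.RatExt.exists_extension (X := X) U' hne ((e.hom ∣_ U) ≫ f) (by
      rw [Category.assoc, hfs, ← Category.assoc, morphismRestrict_ι, Category.assoc, he]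
      rfl)
    obtain ⟨a, rfl⟩ := H23.RatProductK.affine_const N g
    refine ⟨a, Over.OverMorphism.ext ?_⟩
    have hfa : f = U.ι ≫ sX ≫ a.left := by
      rw [← cancel_epi (e.hom ∣_ U), ← hg, morphismRestrict_ι_assoc, reassoc_of% he]
      rfl
    show Spec.map (CommRingCat.ofHom (algebraMap F K)) ≫ a.left = x.left
    rw [← cancel_epi (Spec.map jm)]
    show _ = φ
    rw [hf, hfa, Scheme.Opens.fromSpecStalkOfMem_ι_assoc, h1, Category.assoc, reassoc_of% h2]

end Groth.Agent.S15510
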