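import Groth.Statements.S15511
import Groth.Agent.Lib.AbDualBase

set_option autoImplicit false
set_option backward.isDefEq.respectTransparency false
set_option backward.isDefEq.respectTransparency.types false
set_option linter.style.haveILetI false
set_option linter.unusedSectionVars false
set_option maxHeartbeats 400000
universe u
open CategoryTheory CategoryTheory.Limits MonoidalCategory CartesianMonoidalCategory MonObj AlgebraicGeometry
open AbSch

namespace Groth.Agent.S15511


open Groth.Agent.AbDualBase CategoryTheory.Limits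
open scoped Groth.Agent.H23.PicMul CategoryTheory.Obj

theorem exists_inv_cl {T : Scheme.{u}} {c : PicF.Cl T} (hc : PicF.IsInvertibleCl c) :
    ∃ d : PicF.Cl T, PicF.IsInvertibleCl d ∧ c * d = 1 := by
  obtain ⟨L, rfl, hL⟩ := hc
  obtain ⟨D, hD, e⟩ := H23.PicInv.exists_inverse hL
  exact ⟨PicF.cl D, ⟨D, rfl, hD⟩, (PicGrp.cl_eq_cl_iff _ _).2 e⟩

section Point

open Groth.Agent.H23

variable {S : Scheme.{u}} {A At : Over S} [GrpObj At] {φ : ∀ T : Over S, PicF.Cl (PicF.XT A.hom T) → (T ⟶ At)}
  (hφ : AbDual.IsDualAV Scheme.fppfPrecoverage A At φ) {N : (A ⊗ A).left.Modules}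
  (hpz : AbDual.IsPicZeroCl A.hom A (PicF.cl N))
include hφ hpz

theorem point_one {K : Type u} [Field K] (j : Spec (CommRingCat.of K) ⟶ A.left)
    (ht : TrivBasic.Triv ((Scheme.Modules.pullback (pullback.fst (snd A A).left j)).obj N)) :
    (Over.homMk j rfl : Over.mk (j ≫ A.hom) ⟶ A) ≫ φ A (PicF.cl N) = 1 := by
  let x : Over.mk (j ≫ A.hom) ⟶ A := Over.homMk j rfl
  rw [← hφ.relPic.natural _ _ x _ hpz]
  refine Eq.trans (congrArg _ ?_) (phi_one hφ _)
  refine (PicGrp.cl_eq_cl_iff _ _).2 (SeesawGlobal.triv_of_factor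
    (pullback.lift (PicF.XTmap A.hom x) (PicF.XTproj A.hom _) (pullback.lift_snd _ _ _)) (pullback.lift_fst _ _ _) ht)

theorem point_eq_of_fieldTriv {w : A.left} (hw : SeesawGlobal.FieldTriv (snd A A).left N w) :
    (φ A (PicF.cl N)).left w = η[At].left (A.hom w) := by
  let j := A.left.fromSpecResidueField w
  have := congrArg CommaMorphism.left (point_one hφ hpz (K := A.left.residueField w) j
    ((SeesawGlobal.fieldTriv_iff_residueField w).1 hw))
  rw [Hom.one_def] at this
  have e := congr($this (IsLocalRing.closedPoint (A.left.residueField w)))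
  have hj : j (IsLocalRing.closedPoint (A.left.residueField w)) = w := A.left.fromSpecResidueField_apply w _
  rw [← hj]
  exact e

variable [IsProper A.hom] [Flat A.hom] [GeometricallyIntegral A.hom] [IsLocallyNoetherian A.left]

theorem fieldTriv_of_agree (hN : PicF.IsInvertible N) (w : A.left)
    (h : ∃ (V : A.left.Opens), w ∈ V ∧ V.ι ≫ (φ A (PicF.cl N)).left = V.ι ≫ (1 : A ⟶ At).left) :
    SeesawGlobal.FieldTriv (snd A A).left N w := by
  obtain ⟨V, hwV, hV⟩ := h
  let Ω := AlgebraicClosure (A.left.residueField w)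
  let j : Spec (CommRingCat.of Ω) ⟶ A.left :=
    Spec.map (CommRingCat.ofHom (algebraMap (A.left.residueField w) Ω)) ≫ A.left.fromSpecResidueField w
  have hj : j (IsLocalRing.closedPoint Ω) = w := A.left.fromSpecResidueField_apply w _
  have hr : Set.range j ⊆ Set.range V.ι := by
    rintro _ ⟨p, rfl⟩
    haveI : Subsingleton (Spec (CommRingCat.of Ω)) := inferInstanceAs (Subsingleton (PrimeSpectrum Ω))
    rw [V.range_ι, Subsingleton.elim p (IsLocalRing.closedPoint Ω), hj]
    exact hwV
  let x : Over.mk (j ≫ A.hom) ⟶ A := Over.homMk j rfl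
  have hx : x ≫ φ A (PicF.cl N) = 1 := by
    rw [← MonObj.comp_one x]
    apply Over.OverMorphism.ext
    show j ≫ _ = j ≫ _
    rw [← IsOpenImmersion.lift_fac V.ι j hr, Category.assoc, Category.assoc, hV]
  rw [← hφ.relPic.natural _ _ x _ hpz, ← phi_one hφ] at hx
  have hq := eq_of_phi_point hφ _ (pz_xtMap x hpz) (pz_one _) hx
  haveI : IsProper (snd A A).left := inferInstanceAs (IsProper (pullback.snd A.hom A.hom))
  haveI : Flat (snd A A).left := inferInstanceAs (Flat (pullback.snd A.hom A.hom))
  haveI : GeometricallyIntegral (snd A A).left := inferInstanceAs (GeometricallyIntegral (pullback.snd A.hom A.hom))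
  refine SeesawGlobal.fieldTriv_of_point (snd A A).left hN Ω j hj ?_
  have hc : pullback.fst (snd A A).left j ≫ (fst A A).left ≫ A.hom = pullback.snd (snd A A).left j ≫ j ≫ A.hom := by
    rw [Over.w (fst A A), ← Over.w (snd A A), pullback.condition_assoc]
  refine SeesawGlobal.triv_of_factor (pullback.lift (pullback.fst (snd A A).left j ≫ (fst A A).left)
    (pullback.snd (snd A A).left j) (by rw [Category.assoc]; exact hc) :
      pullback (snd A A).left j ⟶ PicF.XT A.hom (Over.mk (j ≫ A.hom))) ?_
    ((PicGrp.cl_eq_cl_iff _ _).1 hq : TrivBasic.Triv ((Scheme.Modules.pullback (PicF.XTmap A.hom x)).obj N))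
  apply pullback.hom_ext
  · rw [Category.assoc]
    exact (congrArg (_ ≫ ·) ((pullback.lift_fst _ _ _).trans (Category.comp_id _))).trans (pullback.lift_fst _ _ _)
  · rw [Category.assoc]
    exact ((congrArg (_ ≫ ·) (pullback.lift_snd _ _ _)).trans
      ((Category.assoc _ _ _).symm.trans (congrArg (· ≫ j) (pullback.lift_snd _ _ _)))).trans pullback.condition.symm

end Point

/-- Let S be a connected locally Noetherian scheme, A an abelian scheme over S (a commutative group
scheme which is smooth and proper with geometrically connected fibres of dimension g) given with a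
commutative group scheme At and data φ presenting At as the dual of A for the fppf topology, L an
invertible module on A, and lam : A ⟶ At the homomorphism attached to L through φ (the morphism
sending a point x to the class of the translate of L by x tensor the inverse of L). If for some
closed point s of S the base change of lam to the fibre over s is the trivial homomorphism (the
class of L restricted to the fibre A_s has vanishing attached homomorphism, i.e. is zero in the
Néron–Severi group), then lam itself is the trivial homomorphism, the structure morphism of A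
followed by the unit section of At. (The published statement does not ask S to be connected; over a
base with two connected components, L trivial over one component and relatively ample over the other
gives an attached homomorphism vanishing on a closed fibre without vanishing identically, and the
printed proof rests on the rigidity lemma, which needs a connected base. The base is also taken
locally Noetherian, the published setting being schemes locally of finite type over ℂ.) -/
theorem result
    (S : Scheme.{u}) [IsLocallyNoetherian S] [ConnectedSpace S]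
    (A At : Over S) [GrpObj A] [IsCommMonObj A] [GrpObj At] [IsCommMonObj At]
    (g : ℕ) (hA : AgPol.IsAbSch A g)
    (φ : AgPol.DualMap A At) (hdual : AbDual.IsDualAV Scheme.fppfPrecoverage A At φ)
    (L : A.left.Modules) (hL : PicF.IsInvertible L) (lam : A ⟶ At) (hlam : AgPol.IsLambda A At φ L lam)
    (s : S) (hs : IsClosed ({s} : Set S))
    (h : (Over.pullback (S.fromSpecResidueField s)).map lam = 1) :
    lam = 1 := by
  haveI := hA.smooth
  haveI := hA.proper
  haveI := hA.geomConnected
  haveI : GeometricallyReduced A.hom := H23.RigidGamma.geometricallyReduced_of_smooth A.hom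
  obtain ⟨N, hN, hNL, rfl⟩ := hlam
  let j : A ⟶ A ⊗ A := lift (𝟙 A) (toUnit A ≫ η[A])
  have hN' : PicF.IsInvertibleCl (PicF.cl (N : (A ⊗ A).left.Modules)) := ⟨N, rfl, hN⟩
  have hl : PicF.IsInvertibleCl (PicF.cl L) := ⟨L, rfl, hL⟩
  obtain ⟨d, hd, hde⟩ := exists_inv_cl (PicClLib.isInvertibleCl_pullCl η[A].left hl)
  have hslice : PicF.pullCl j.left (PicF.cl N) = PicF.pullCl A.hom d := by
    have e : (PicF.cl N : PicF.Cl (A ⊗ A).left) * PicF.pullCl (fst A A).left (PicF.cl L) *
        PicF.pullCl (snd A A).left (PicF.cl L) = PicF.pullCl μ[A].left (PicF.cl L) :=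
      (PicGrp.cl_eq_cl_iff _ _).2 hNL
    have e' := congrArg (PicF.pullCl j.left) e
    rw [H23.PicMul.pullCl_mul, H23.PicMul.pullCl_mul, PicClLib.pullCl_comp, PicClLib.pullCl_comp,
      PicClLib.pullCl_comp, ← Over.comp_left, ← Over.comp_left, ← Over.comp_left, lift_fst, lift_snd,
      show j ≫ μ[A] = 𝟙 A by simp only [j, ← Hom.one_def, ← Hom.mul_def, _root_.mul_one], Over.id_left,
      PicClLib.pullCl_id, Over.comp_left, show (toUnit A).left = A.hom from rfl, ← PicClLib.pullCl_comp] at e'
    obtain ⟨m, -, hm⟩ := exists_inv_cl hl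
    have e'' := congrArg (fun z => PicF.pullCl A.hom d * (z * m)) e'
    simp only [hm, _root_.mul_one] at e''
    rw [← e'']
    calc PicF.pullCl j.left (PicF.cl N)
        = PicF.pullCl j.left (PicF.cl N) * (PicF.cl L * m) * (PicF.pullCl A.hom (PicF.pullCl η[A].left (PicF.cl L)) *
            PicF.pullCl A.hom d) := by
          rw [← H23.PicMul.pullCl_mul, hde, pullCl_one', hm, _root_.mul_one, _root_.mul_one]
      _ = _ := by simp only [mul_comm, mul_left_comm, _root_.mul_assoc]
  have hpz : AbDual.IsPicZeroCl A.hom A (PicF.cl N) := pz_of_slice η[A] hN' hd hslice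
  have hq : PicF.pullCl (PicF.XTmap A.hom η[A]) (PicF.cl N) = PicF.pullCl (PicF.XTproj A.hom (𝟙_ (Over S))) d := by
    have e1 : A ◁ η[A] = fst A (𝟙_ (Over S)) ≫ j := by
      apply CartesianMonoidalCategory.hom_ext <;> simp only [whiskerLeft_fst, whiskerLeft_snd, j, Category.assoc,
        lift_fst, lift_snd, Category.comp_id]
      rw [← Category.assoc, toUnit_unique (fst A (𝟙_ (Over S)) ≫ toUnit A) (snd _ _)]
    have e2 : (fst A (𝟙_ (Over S))).left ≫ A.hom = PicF.XTproj A.hom (𝟙_ (Over S)) :=
      (pullback.condition (f := A.hom) (g := 𝟙 S)).trans (Category.comp_id _)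
    rw [show PicF.XTmap A.hom η[A] = (A ◁ η[A]).left from rfl, e1, Over.comp_left, ← PicClLib.pullCl_comp, hslice,
      PicClLib.pullCl_comp, e2]
  have hunit : η[A] ≫ φ A (PicF.cl N) = η[At] := by
    rw [← hdual.relPic.natural _ _ η[A] _ hpz, hq, phi_base hdual hd (hq ▸ pz_xtMap η[A] hpz), Hom.one_def,
      show toUnit (𝟙_ (Over S)) = 𝟙 _ from toUnit_unique _ _, Category.id_comp]
  let δ := φ A (PicF.cl N)
  haveI : GeometricallyIntegral A.hom := geometricallyIntegral_hom A
  haveI : IsLocallyNoetherian A.left := LocallyOfFiniteType.isLocallyNoetherian A.hom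
  let f := (snd A A).left
  haveI : IsProper f := inferInstanceAs (IsProper (pullback.snd A.hom A.hom))
  haveI : Flat f := inferInstanceAs (Flat (pullback.snd A.hom A.hom))
  haveI : GeometricallyIntegral f := inferInstanceAs (GeometricallyIntegral (pullback.snd A.hom A.hom))
  let Z : Set A.left := {w | H23.SeesawGlobal.FieldTriv f N w}
  have hZ : IsClosed Z := H23.SeesawGlobal.isClosed_fieldTriv f hN
  let C : Set S := {x | ∀ w : A.left, A.hom w = x → w ∈ Z}
  have hcoll : ∀ x ∈ C, x ∈ H23.RigidNoeth.collapsed A.hom δ.left := fun x hx => by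
    refine ⟨η[At].left x, fun w hw => ?_⟩
    have := point_eq_of_fieldTriv hdual hpz (hx w hw)
    rwa [hw] at this
  have hnhd : ∀ x ∈ H23.RigidNoeth.collapsed A.hom δ.left, ∃ W : S.Opens, x ∈ W ∧ (W : Set S) ⊆ C := by
    rintro x ⟨y, hy⟩
    obtain ⟨_, ⟨V, hV, rfl⟩, hyV, -⟩ := At.left.isBasis_affineOpens.exists_subset_of_mem_open
      (Set.mem_univ y) isOpen_univ
    have hsZ : x ∉ A.hom '' ((δ.left ⁻¹ᵁ V : A.left.Opens) : Set A.left)ᶜ := by
      rintro ⟨x', hx', e'⟩
      exact hx' (show δ.left x' ∈ V from (hy x' e').symm ▸ hyV)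
    obtain ⟨_, ⟨W, hW, rfl⟩, hxW, hWle⟩ := S.isBasis_affineOpens.exists_subset_of_mem_open
      hsZ (A.hom.isClosedMap _ (δ.left ⁻¹ᵁ V).isOpen.isClosed_compl).isOpen_compl
    have hag := H23.RigidGen.agree_of_affine A.hom (H23.RigidGamma.constFibres A.hom) η[A].left (Over.w η[A])
      δ.left hW hV (fun x' hx' => by
        by_contra hc
        exact hWle hx' ⟨x', hc, rfl⟩)
    refine ⟨W, hxW, fun x' hx' w hw => fieldTriv_of_agree hdual hpz hN w ?_⟩
    have hw' : w ∈ H23.RigidNoeth.agreeLocus δ.left (A.hom ≫ η[A].left ≫ δ.left) := hag (show A.hom w ∈ W from hw.symm ▸ hx')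
    refine ⟨_, hw', ?_⟩
    have e1 : A.hom ≫ η[A].left ≫ δ.left = (1 : A ⟶ At).left := by
      rw [← Over.comp_left, hunit]
      rfl
    rw [H23.RigidNoeth.agreeLocus_eq, e1]
  have hCopen : IsOpen C := isOpen_iff_forall_mem_open.2 fun x hx => by
    obtain ⟨W, hxW, hW⟩ := hnhd x (hcoll x hx)
    exact ⟨W, hW, W.isOpen, hxW⟩
  have hCclosed : IsClosed C := by
    have e : Cᶜ = A.hom '' Zᶜ := by
      ext x
      simp [C, and_comm]
    rw [← isOpen_compl_iff, e]
    exact A.hom.isOpenMap _ hZ.isOpen_compl
  have hsC : s ∈ C := by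
    have hscoll : s ∈ H23.RigidNoeth.collapsed A.hom δ.left := by
      refine ⟨η[At].left s, fun a ha => ?_⟩
      obtain ⟨z, rfl, -⟩ := Scheme.Pullback.exists_preimage_pullback (f := A.hom) (g := S.fromSpecResidueField s) a
        (IsLocalRing.closedPoint (S.residueField s)) (ha.trans (S.fromSpecResidueField_apply s _).symm)
      have h' : (Over.pullback (S.fromSpecResidueField s)).map δ =
          (Over.pullback (S.fromSpecResidueField s)).map (1 : A ⟶ At) := h.trans (Functor.map_one _).symm
      have h1 := congrArg (fun f => f.left ≫ pullback.fst At.hom (S.fromSpecResidueField s)) h'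
      simp only [Over.pullback, Over.homMk_left, pullback.lift_fst, Hom.one_def, Over.comp_left,
        Over.toUnit_left] at h1
      have h2 := congr($h1 z)
      rw [Scheme.Hom.comp_apply, Scheme.Hom.comp_apply, Scheme.Hom.comp_apply] at h2
      exact h2.trans (congrArg η[At].left ha)
    obtain ⟨W, hsW, hW⟩ := hnhd s hscoll
    exact hW hsW
  have hall : C = Set.univ := IsClopen.eq_univ ⟨hCclosed, hCopen⟩ ⟨s, hsC⟩
  rw [H23.RigidAb.eq_toUnit_comp η[A] (φ A (PicF.cl N)) fun x => hcoll x (hall.symm ▸ Set.mem_univ x), hunit,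
    Hom.one_def]

end Groth.Agent.S15511
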