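import Mathlib
import Groth.Agent.S0563
import Groth.Agent.HomDimLib.Local
import Groth.Statements.S15512
-- import your own Groth.Agent.* helpers here

set_option autoImplicit false
universe u
open CategoryTheory
open CAlg

namespace Groth.Agent.S15512

/-- Let A be a Noetherian ring which is regular (its localization at every maximal ideal is a regular
local ring) and of finite Krull dimension, M a finitely generated A-module and d a natural number.
If Ext^i_A(M, A) vanishes for every i > d, then the projective dimension of M is at most d. -/
theorem result (A : Type u) [CommRing A]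
    [IsNoetherianRing A] (hreg : ∀ m : MaximalSpectrum A, IsRegularLocalRing (Localization.AtPrime m.asIdeal))
    (hdim : ringKrullDim A < ⊤) (M : Type u) [AddCommGroup M] [Module A M] [Module.Finite A M] (d : ℕ)
    (h : ∀ i : ℕ, d < i → Subsingleton (Abelian.Ext (ModuleCat.of A M) (ModuleCat.of A A) i)) :
    HasProjectiveDimensionLT (ModuleCat.of A M) (d + 1) := by
  classical
  -- a bound from regularity
  obtain ⟨D, hD⟩ : ∃ D : ℕ, ringKrullDim A ≤ (D : WithBot ℕ∞) := by
    generalize ringKrullDim A = x at hdim ⊢
    induction x using WithBot.recBotCoe with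
    | bot => exact ⟨0, bot_le⟩
    | coe x =>
        induction x using ENat.recTopCoe with
        | top => exact absurd hdim (lt_irrefl _)
        | coe a => exact ⟨a, le_rfl⟩
  have hbig : ∀ (L : Type u) [AddCommGroup L] [Module A L] [Module.Finite A L] (i : ℕ), D + 1 ≤ i →
      Subsingleton (Abelian.Ext (ModuleCat.of A M) (ModuleCat.of A L) i) := by
    intro L _ _ _ i hi
    refine Module.subsingleton_of_localization_maximal
      (fun (m : Ideal A) _ => LocalizedModule m.primeCompl
        (Abelian.Ext (ModuleCat.of A M) (ModuleCat.of A L) i))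
      (fun (m : Ideal A) _ => LocalizedModule.mkLinearMap m.primeCompl _) fun m hm => ?_
    obtain ⟨e⟩ := LC.exists_extLoc m.primeCompl L i M
    haveI : IsRegularLocalRing (Localization.AtPrime m) := hreg ⟨m, hm⟩
    have hle : ringKrullDim (Localization.AtPrime m) ≤ (D : WithBot ℕ∞) := by
      rw [IsLocalization.AtPrime.ringKrullDim_eq_height m]
      exact le_trans (Ideal.height_le_ringKrullDim_of_ne_top hm.ne_top) hD
    obtain ⟨c, hc⟩ : ∃ c : ℕ, ringKrullDim (Localization.AtPrime m) = c := by
      have h1 := (isRegularLocalRing_iff (Localization.AtPrime m)).mp inferInstance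
      exact ⟨_, h1.symm⟩
    haveI := S0563.result (Localization.AtPrime m) c hc (LocalizedModule m.primeCompl M)
    have hcD : c ≤ D := by rw [hc] at hle; exact_mod_cast hle
    haveI := HasProjectiveDimensionLT.subsingleton
      (ModuleCat.of (Localization.AtPrime m) (LocalizedModule m.primeCompl M)) (c + 1) i (by omega)
      (ModuleCat.of (Localization.AtPrime m) (LocalizedModule m.primeCompl L))
    exact e.toEquiv.subsingleton
  have hfree : ∀ (r i : ℕ), d < i →
      Subsingleton (Abelian.Ext (ModuleCat.of A M) (ModuleCat.of A (Fin r → A)) i) := by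
    intro r i hi
    haveI := h i hi
    refine subsingleton_of_forall_eq 0 fun e => ?_
    have hid : 𝟙 (ModuleCat.of A (Fin r → A)) = ∑ j : Fin r,
        ModuleCat.ofHom (LinearMap.proj (R := A) (φ := fun _ : Fin r => A) j) ≫
          ModuleCat.ofHom (LinearMap.single A (fun _ : Fin r => A) j) := by
      ext x j
      simp [ModuleCat.hom_sum, LinearMap.sum_apply, Finset.sum_apply, Pi.single_apply]
    rw [← Abelian.Ext.comp_mk₀_id e, hid]
    have key : ∀ s : Finset (Fin r), e.comp (Abelian.Ext.mk₀ (∑ j ∈ s,
        ModuleCat.ofHom (LinearMap.proj (R := A) (φ := fun _ : Fin r => A) j) ≫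
          ModuleCat.ofHom (LinearMap.single A (fun _ : Fin r => A) j))) (add_zero i) = 0 := by
      intro s
      induction s using Finset.induction_on with
      | empty => simp
      | @insert j s hj ih =>
          rw [Finset.sum_insert hj, Abelian.Ext.mk₀_add, Abelian.Ext.comp_add, ih, add_zero,
            ← Abelian.Ext.mk₀_comp_mk₀,
            ← Abelian.Ext.comp_assoc e _ _ (add_zero i) (zero_add 0) (by omega),
            Subsingleton.elim (e.comp _ (add_zero i)) 0, Abelian.Ext.zero_comp]
    exact key Finset.univ
  have hall : ∀ (j i : ℕ), d < i → D + 1 ≤ i + j → ∀ (L : Type u) [AddCommGroup L] [Module A L]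
      [Module.Finite A L], Subsingleton (Abelian.Ext (ModuleCat.of A M) (ModuleCat.of A L) i) := by
    intro j
    induction j with
    | zero => intro i _ hiD L _ _ _; exact hbig L i hiD
    | succ j ih =>
        intro i hi hiD L _ _ _
        obtain ⟨r, g, hg⟩ := Module.Finite.exists_fin' A L
        haveI : Module.Finite A (LinearMap.ker g) :=
          Module.Finite.iff_fg.mpr (IsNoetherian.noetherian _)
        haveI := ih (i + 1) (by omega) (by omega) (LinearMap.ker g)
        haveI := hfree r i hi
        refine subsingleton_of_forall_eq 0 fun x => ?_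
        obtain ⟨y, rfl⟩ := Abelian.Ext.covariant_sequence_exact₃ _
          (LinearMap.shortExact_shortComplexKer hg) x rfl (Subsingleton.elim _ _)
        rw [Subsingleton.elim y 0, Abelian.Ext.zero_comp]
  refine ModuleCat.hasProjectiveDimensionLT_of_forall_finite (ModuleCat.of A M) (d + 1) fun L _ => ?_
  exact hall (D + 1) (d + 1) (Nat.lt_succ_self d) (by omega) L

end Groth.Agent.S15512
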