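import Groth.Statements.S15513
import Groth.Agent.Lib.ExtShCodim

set_option autoImplicit false
set_option backward.isDefEq.respectTransparency false
set_option backward.isDefEq.respectTransparency.types false
set_option linter.style.haveILetI false
set_option linter.unusedSectionVars false
set_option maxHeartbeats 400000
universe u
open CategoryTheory CategoryTheory.Limits AlgebraicGeometry
open ProjDual

namespace Groth.Agent.S15513

open CategoryTheory CategoryTheory.Limits AlgebraicGeometry

/-- Let k be a field, P = P^N_k, ι : X → P a closed immersion, r a natural number with dim X + r ≤ N (X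
has codimension at least r), and E a finite locally free O_P-module. Then for every i < r the Ext
sheaf Ext^i_{O_P}(ι_* O_X, E) — the i-th right derived functor of the internal Hom functor Hom(ι_*
O_X, -) on O_P-modules (its existence and that of injective resolutions are the stated instance
hypotheses, both true), evaluated at E — is zero. (The published statement takes N ≥ 1 and r = N -
dim X; the case N = 0 and smaller r are trivially included.) -/
theorem result (k : Type u) [Field k] (N : ℕ)
    {X : Scheme.{u}} (ι : X ⟶ CohB1.ProjSpace N k) [IsClosedImmersion ι] (r : ℕ)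
    (hr : topologicalKrullDim ↥X + (r : WithBot ℕ∞) ≤ (N : WithBot ℕ∞))
    (E : (CohB1.ProjSpace N k).Modules) (hE : FlatMod.IsFinLocFree E)
    [ModSite.HasSheafHom (O := (CohB1.ProjSpace N k).sheaf) ((Scheme.Modules.pushforward ι).obj (Coh.structureModule X))]
    [HasInjectiveResolutions (ModSite.Mod (CohB1.ProjSpace N k).sheaf)] (i : ℕ) (hi : i < r) :
    IsZero ((ModSite.extSh (O := (CohB1.ProjSpace N k).sheaf)
      ((Scheme.Modules.pushforward ι).obj (Coh.structureModule X)) i).obj E) := by
  haveI := NegVanStalk.noetherian k N
  haveI := NegVanStalk.jacobson k N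
  have hn : ∀ p : CohB1.ProjSpace N k, IsClosed ({p} : Set (CohB1.ProjSpace N k)) →
      (N : WithBot ℕ∞) ≤ ringKrullDim ((CohB1.ProjSpace N k).presheaf.stalk p) :=
    fun p hp => (NegVanStalk.dim_stalk p hp).ge
  rcases isEmpty_or_nonempty X with hX | ⟨⟨x⟩⟩
  · haveI : IsLocallyNoetherian X := LocallyOfFiniteType.isLocallyNoetherian ι
    have hG : Coh.IsCoh ((Coh.push ι).obj (Coh.structureModule X)) :=
      QCoh.isCoh_pushforward_finite ι (CurveDeg.isCoh_of_isInvertible InvX.isInvertible_structureModule)
    rw [ExtShLocal.isZero_extSh_iff_stalk hG (QCoh.isQCoh_of_isFinLocFree hE) i]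
    intro y
    haveI := H23.ClosedPushLen.subsingleton_stalk ι (Coh.structureModule X) (y := y) fun ⟨z, _⟩ => hX.false z
    refine subsingleton_of_forall_eq 0 fun e => ?_
    rw [← Abelian.Ext.mk₀_id_comp e, show 𝟙 (ModuleCat.of ((CohB1.ProjSpace N k).presheaf.stalk y) _) = 0 from
      ModuleCat.hom_ext (LinearMap.ext fun z => Subsingleton.elim (α := ((Coh.push ι).obj (Coh.structureModule X)).presheaf.stalk y) _ _)]
    simp
  · have h0 : (0 : WithBot ℕ∞) ≤ topologicalKrullDim X :=
      le_trans ringKrullDim_nonneg_of_nontrivial (SchTop.ringKrullDim_stalk_le x)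
    obtain ⟨d, hd⟩ : ∃ d : ℕ, topologicalKrullDim X = d := by
      have h1 : topologicalKrullDim X ≤ (N : WithBot ℕ∞) :=
        le_trans (le_add_of_nonneg_right (by exact_mod_cast Nat.zero_le r)) hr
      generalize topologicalKrullDim X = t at h0 h1
      induction t using WithBot.recBotCoe with
      | bot => exact absurd h0 (by simp)
      | coe t =>
        induction t using ENat.recTopCoe with
        | top => exact absurd (WithBot.coe_le_coe.1 h1) (by simp)
        | coe t => exact ⟨t, rfl⟩
    rw [hd] at hr
    have hdr : d + r ≤ N := by exact_mod_cast hr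
    exact ExtShCodim.isZero_extSh ι N d NegVanStalk.isRegular_stalk hn hd.le E hE i (by omega)

end Groth.Agent.S15513
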