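import Groth.Statements.S15515
import Groth.Agent.Lib.DualRange
import Groth.Agent.S10934

set_option autoImplicit false
set_option backward.isDefEq.respectTransparency false
set_option backward.isDefEq.respectTransparency.types false
set_option linter.style.haveILetI false
set_option linter.unusedSectionVars false
set_option maxHeartbeats 400000
universe u
open CategoryTheory AlgebraicGeometry
open ProjDual

namespace Groth.Agent.S15515

open CategoryTheory CategoryTheory.Limits AlgebraicGeometry Filter

/-- (iii) ⇒ (i): let k be a field and X a k-scheme of dimension n with a closed immersion ι into P^N_k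
over k. Let (ω, t) be a dualizing sheaf for X: ω is a coherent O_X-module and t : H^n(X, ω) → k a
k-linear map such that for every coherent F and every k-linear form ψ on H^n(X, F) there is exactly
one φ : F → ω with ψ = t ∘ H^n(φ). Suppose that for every coherent O_X-module F and every i ≤ n, the
group Ext^i(F, ω) in the category of all O_X-modules (the Ext instance is the stated hypothesis; it
holds) vanishes if and only if H^(n-i)(X, F) vanishes. Then the local ring of X at every closed
point is Cohen–Macaulay of Krull dimension n. (The published statement assumes X connected and that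
the duality maps Ext^i(F, ω) → H^(n-i)(X, F)' are bijective for all i and F, and concludes that X is
Cohen–Macaulay; the weaker vanishing hypothesis used here suffices for the published proof, which
also yields the dimension of the local rings at closed points.) -/
theorem result
    (k : Type u) [Field k] (N n : ℕ) (X : Scheme.{u}) [X.Over (Spec (CommRingCat.of k))]
    (ι : X ⟶ CohB1.ProjSpace N k) [IsClosedImmersion ι]
    (hι : ι ≫ CohB1.ProjSpace.toSpec N k = X ↘ Spec (CommRingCat.of k))
    (hn : topologicalKrullDim ↥X = n) [HasExt.{u} X.Modules]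
    (ω : X.Modules) (hω : Coh.IsCoh ω) (t : Coh.HH X ω n →ₗ[k] k)
    (hdual : ∀ F : X.Modules, Coh.IsCoh F → ∀ ψ : Coh.HH X F n →ₗ[k] k,
        ∃! φ : F ⟶ ω, ∀ x : Coh.HH X F n,
          ψ x = t (Sheaf.H.map ((SheafOfModules.toSheaf X.ringCatSheaf).map φ) n x))
    (h : ∀ F : X.Modules, Coh.IsCoh F → ∀ i : ℕ, i ≤ n →
        (Subsingleton (Abelian.Ext F ω i) ↔ Subsingleton (Coh.HH X F (n - i)))) :
    ∀ x : X, IsClosed ({x} : Set ↥X) →
      LocCoh.IsCohenMacaulayLocalRing (X.presheaf.stalk x) ∧ ringKrullDim (X.presheaf.stalk x) = n := by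
  haveI := NegVanStalk.noetherian k N
  haveI : IsLocallyNoetherian X := LocallyOfFiniteType.isLocallyNoetherian ι
  have hO : Coh.IsCoh (Coh.structureModule X) :=
    CurveDeg.isCoh_of_isInvertible InvX.isInvertible_structureModule
  obtain ⟨e₀, he₀⟩ := DualRange.exists_ext_bound ι hω
  have hvan : ∀ j, j < n → ∀ᶠ e : ℤ in atBot, Subsingleton (Coh.HH X (CohB1.tensorMod (Coh.structureModule X)
      ((Scheme.Modules.pullback ι).obj (Twist.twistProjSpace N k e))) j) := by
    intro j hj
    refine eventually_atBot.2 ⟨e₀, fun e he => ?_⟩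
    have h1 := (h _ (DualRange.isCoh_pull ι e) (n - j) (by omega)).1 (he₀ e he (n - j) (by omega))
    rw [show n - (n - j) = j by omega] at h1
    let w : CohB1.tensorMod (Coh.structureModule X) (DualRange.tw ι e) ≅ DualRange.tw ι e :=
      (H23.PicMul.comm _ (DualRange.tw ι e)).some ≪≫ KFlatLib.tensorUnitIso (DualRange.tw ι e)
    exact QCoh.subsingleton_HH_of_iso w.symm j h1
  intro x hx
  have h1 := (NegVanClosed.negVan_closed_iff ι hO n).1 hvan x hx
  rw [S10934.depth_structure] at h1
  haveI : IsNoetherianRing (X.presheaf.stalk x) := inferInstance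
  have h2 := LC.depth_le_supportDim (R := X.presheaf.stalk x) (M := X.presheaf.stalk x)
  rw [Module.supportDim_self_eq_ringKrullDim] at h2
  have h3 : ringKrullDim (X.presheaf.stalk x) ≤ (n : WithBot ℕ∞) := (SchTop.ringKrullDim_stalk_le x).trans hn.le
  have h4 : ((n : ℕ∞) : WithBot ℕ∞) ≤ ((LocCoh.depth (X.presheaf.stalk x) (X.presheaf.stalk x) : ℕ∞) : WithBot ℕ∞) :=
    WithBot.coe_le_coe.2 h1
  have h5 : ringKrullDim (X.presheaf.stalk x) = (n : WithBot ℕ∞) := le_antisymm h3 (h4.trans h2)
  refine ⟨{ supportDim_eq_depth := ?_ }, h5⟩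
  rw [Module.supportDim_self_eq_ringKrullDim, h5]
  exact le_antisymm h4 (h2.trans h5.le)

end Groth.Agent.S15515
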