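import Groth.Statements.S15516
import Groth.Agent.Lib.PnDualExtPn

set_option autoImplicit false
set_option backward.isDefEq.respectTransparency false
set_option backward.isDefEq.respectTransparency.types false
set_option linter.style.haveILetI false
set_option linter.unusedSectionVars false
set_option maxHeartbeats 400000
universe u
open CategoryTheory AlgebraicGeometry
open ProjDual

namespace Groth.Agent.S15516

open Groth.Agent.PnDual

/-- Let k be a field, n a natural number, P = P^n_k, ω = O_P(-n-1) and F a coherent O_P-module. Then for
every i ≤ n the group Ext^i(F, ω), computed in the category of all O_P-modules (the Ext instance is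
the stated hypothesis; it holds) with its k-linear structure, is k-linearly isomorphic to the k-dual
of H^(n-i)(P, F); and for every i > n the group Ext^i(F, ω) vanishes. (Existence of a k-linear
isomorphism only; the published isomorphism, stated for every i ≥ 0 with H^(n-i) = 0 for i > n,
extends the perfect pairing Hom(F, ω) × H^n(P, F) → H^n(P, ω) ≅ k in degree 0. The published
statement takes n ≥ 1; n = 0 is trivially included.) -/
theorem result (k : Type u) [Field k] (n : ℕ)
    [HasExt.{u} (CohB1.ProjSpace n k).Modules] (F : (CohB1.ProjSpace n k).Modules) (hF : Coh.IsCoh F) :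
    (∀ i : ℕ, i ≤ n → Nonempty (Abelian.Ext F (Twist.twistProjSpace n k (-((n : ℤ) + 1))) i ≃ₗ[k]
      Module.Dual k (Coh.HH (CohB1.ProjSpace n k) F (n - i)))) ∧
    ∀ i : ℕ, n < i → Subsingleton (Abelian.Ext F (Twist.twistProjSpace n k (-((n : ℤ) + 1))) i) := by
  have hG : GoodPn F := goodPn_of_isCoh hF
  exact ⟨fun i hi => (serre_duality hG i).1 hi, fun i hi => (serre_duality hG i).2 hi⟩

end Groth.Agent.S15516
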