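import Groth.Statements.S1552
import Groth.Agent.CartExt.FiniteDescent

set_option autoImplicit false
universe u
open CategoryTheory CategoryTheory.Limits AlgebraicGeometry
open Variety

namespace Groth.Agent.S1552

/-- Let f : X → Y be finite, and V ⊆ Y an open over which f is an isomorphism, with Y minus V a discrete
space. Then every invertible O_X-module is isomorphic to the pullback of an invertible O_Y-module. -/
theorem result {X Y : Scheme.{u}} (f : X ⟶ Y) [IsFinite f]
    (V : Y.Opens) (hV : IsIso (f ∣_ V)) (hdisc : DiscreteTopology ((V : Set Y)ᶜ : Set Y))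
    (L : X.Modules) (hL : PicF.IsInvertible L) :
    ∃ N : Y.Modules, PicF.IsInvertible N ∧ Nonempty ((Scheme.Modules.pullback f).obj N ≅ L) := by
  exact Groth.Agent.CartExt.exists_descent_of_discrete f V hV hdisc L hL


end Groth.Agent.S1552
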