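import Groth.Statements.S15522
import Groth.Agent.QCoh.FlatAffine
import Groth.Agent.S2381

set_option autoImplicit false
universe u
attribute [local instance] HasDerivedCategory.standard
open Coherent

namespace Groth.Agent.S15522

open AlgebraicGeometry CategoryTheory in
/-- Let A be a reduced Noetherian ring, X a proper scheme over Spec A with structure morphism f, F a
coherent O_X-module flat over Spec A, and p a natural number such that the function y ↦ dim_{κ(y)}
H^p(X_y, F_y) is locally constant on Spec A. For each q write T^q for the functor M ↦ H^q(X, f^*(M~)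
⊗ F) from A-modules to abelian groups. Then T^p takes surjections to surjections, and so does
T^(p-1) when p ≥ 1; equivalently, every base-change map H^q(X, F) ⊗_A M → H^q(X, F ⊗_A M) is
bijective for q = p and q = p - 1. (The published statement also asserts that R^p f_*F is locally
free of finite rank; this row states the two exchange properties only, over an affine base.) -/
theorem result (A : Type u) [CommRing A]
    [IsNoetherianRing A] [IsReduced A] (X : Scheme.{u}) [X.Over (Spec (CommRingCat.of A))]
    [IsProper (X ↘ Spec (CommRingCat.of A))] (F : X.Modules) (hF : Coh.IsCoh F)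
    (hfl : FlatMod.IsFlatOver (X ↘ Spec (CommRingCat.of A)) F) (p : ℕ)
    (hconst : IsLocallyConstant (CohIII.fiberRank (X ↘ Spec (CommRingCat.of A)) F p)) :
    (CohIII.tensorAFunctor A F ⋙ CohIII.HAb X p).PreservesEpimorphisms ∧
      ∀ q : ℕ, q + 1 = p → (CohIII.tensorAFunctor A F ⋙ CohIII.HAb X q).PreservesEpimorphisms := by
  obtain ⟨P, hP⟩ := Groth.Agent.QCoh.exists_isBCModel F hF hfl
  have hfl' := Groth.Agent.QCoh.flat_of_isBCModel hP
  have hc : IsLocallyConstant (CohIII.dRank P (-(p : ℤ))) := by
    have hh : CohIII.dRank P (-(p : ℤ)) = CohIII.fiberRank (X ↘ Spec (CommRingCat.of A)) F p :=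
      funext fun x => ((Groth.Agent.QCoh.fibre_of_isBCModel hP x p).1).symm
    rw [hh]; exact hconst
  obtain ⟨hm, he⟩ := (Groth.Agent.S2381.result P (fun i => ⟨hP.1 i, hfl' i⟩) (-(p : ℤ))).2 inferInstance hc
  obtain ⟨ep⟩ := hP.2.2.2.2.1 p
  refine ⟨(Groth.Agent.QCoh.preservesEpi_iff_of_iso ep).2 he, fun q hq => ?_⟩
  obtain ⟨eq⟩ := hP.2.2.2.2.1 q
  exact (Groth.Agent.QCoh.preservesEpi_iff_of_iso eq).2
    ((Groth.Agent.FlatCxLib.preservesEpi_iff_preservesMono hfl' (show -(p : ℤ) + 1 = -(q : ℤ) by lia)).2 hm)

end Groth.Agent.S15522
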