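import Groth.Statements.S15524
import Groth.Agent.FFLib.Weil.RH

set_option autoImplicit false
open Groth.Agent
open Finset
open Zeta

namespace Groth.Agent.S15524

/-- Let q ≥ 1 and let α_1, …, α_{2g} be complex numbers permuted by α ↦ q/α, i.e. α_{σ(i)} α_i = q for a
permutation σ of the indices; these play the role of the inverse roots of the numerator of the zeta
function of a curve over a field with q elements, for which #X(F_{q^N}) = q^N + 1 − Σ_i α_i^N. If
for some d ≥ 1 and real C one has |Σ_i α_i^{dN}| ≤ C q^{dN/2} for every N ≥ 1, then |α_i|^2 = q for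
every i (the Riemann hypothesis for the curve). -/
theorem result {g : ℕ} (q : ℕ) (hq : 0 < q)
    (α : Fin (2 * g) → ℂ) (σ : Equiv.Perm (Fin (2 * g))) (hσ : ∀ i, α (σ i) * α i = q)
    (d : ℕ) (hd : 0 < d) (C : ℝ)
    (hC : ∀ N : ℕ, 1 ≤ N → ‖∑ i, α i ^ (d * N)‖ ≤ C * (q : ℝ) ^ ((d : ℝ) * N / 2))
    (i : Fin (2 * g)) : ‖α i‖ ^ 2 = q := by
  have hqR : (0 : ℝ) < q := by exact_mod_cast hq
  set s : ℝ := (q : ℝ) ^ ((d : ℝ) / 2) with hs
  have hs0 : 0 < s := Real.rpow_pos_of_pos hqR _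
  have hle : ∀ j, ‖α j‖ ^ 2 ≤ (q : ℝ) := by
    intro j
    have h1 := FFLib.norm_le_one_of_powerSum (fun j => α j ^ d / (s : ℂ)) (C := C) (m₀ := 1) (fun m hm => ?_) j
    · rw [norm_div, norm_pow, Complex.norm_real, Real.norm_eq_abs, abs_of_pos hs0, div_le_one hs0] at h1
      have h2 : (‖α j‖ ^ 2) ^ d ≤ (q : ℝ) ^ d := by
        rw [← pow_mul, mul_comm 2 d, pow_mul]
        refine (pow_le_pow_left₀ (pow_nonneg (norm_nonneg _) _) h1 2).trans_eq ?_
        rw [hs, ← Real.rpow_natCast _ 2, ← Real.rpow_mul hqR.le, ← Real.rpow_natCast _ d]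
        norm_num
      exact le_of_pow_le_pow_left₀ hd.ne' hqR.le h2
    · refine (Complex.re_le_norm _).trans ?_
      have hsum : (∑ j, (α j ^ d / (s : ℂ)) ^ m) = (∑ j, α j ^ (d * m)) / ((s ^ m : ℝ) : ℂ) := by
        rw [Finset.sum_div]
        exact Finset.sum_congr rfl fun j _ => by rw [div_pow, ← pow_mul]; push_cast; rfl
      rw [hsum, norm_div, Complex.norm_real, Real.norm_eq_abs, abs_of_pos (pow_pos hs0 m), div_le_iff₀ (pow_pos hs0 m)]
      refine (hC m hm).trans_eq ?_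
      rw [hs, ← Real.rpow_natCast _ m, ← Real.rpow_mul hqR.le]
      congr 2; ring
  refine le_antisymm (hle i) ?_
  have h1 := congrArg norm (hσ i)
  rw [norm_mul, Complex.norm_natCast] at h1
  have h2 : ‖α (σ i)‖ ^ 2 * ‖α i‖ ^ 2 = (q : ℝ) ^ 2 := by rw [← mul_pow, h1]
  nlinarith [hle (σ i), sq_nonneg ‖α i‖]

end Groth.Agent.S15524
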