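import Groth.Statements.S15525
import Mathlib

set_option autoImplicit false
universe u
open Zeta

namespace Groth.Agent.S15525

/-- Let L be a field with a ring embedding ι into ℂ and M an r × r matrix over L all of whose
eigenvalues, the complex roots of its characteristic polynomial mapped along ι, have absolute value
1. Then every coefficient of the characteristic polynomial of the block-diagonal matrix with blocks
M and the inverse transpose of M is mapped by ι into ℝ. This is the pointwise content of the
assertion that for a lisse sheaf F pure of weight 0 the sum of F and its dual is real, the Frobenius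
of the dual acting by the inverse transpose. -/
theorem result (L : Type u) [Field L] (ι : L →+* ℂ)
    {r : ℕ} (M : Matrix (Fin r) (Fin r) L)
    (hM : ∀ z ∈ ((Matrix.charpoly M).map ι).roots, ‖z‖ = 1) (n : ℕ) :
    (ι ((Matrix.fromBlocks M 0 0 (M⁻¹).transpose).charpoly.coeff n)).im = 0 := by
  classical
  let N : Matrix (Fin r) (Fin r) ℂ := M.map ι
  have hNp : N.charpoly = (M.charpoly).map ι := Matrix.charpoly_map M ι
  have hsplit : N.charpoly = (N.charpoly.roots.map fun z => Polynomial.X - Polynomial.C z).prod :=
    (IsAlgClosed.splits N.charpoly).eq_prod_roots_of_monic (Matrix.charpoly_monic N)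
  have hnorm : ∀ z ∈ N.charpoly.roots, ‖z‖ = 1 := fun z hz => hM z (hNp ▸ hz)
  have hdet : IsUnit N := by
    rw [Matrix.isUnit_iff_isUnit_det, isUnit_iff_ne_zero, Matrix.det_eq_prod_roots_charpoly]
    intro h
    have := hnorm 0 (Multiset.prod_eq_zero_iff.mp h)
    simp at this
  have hconj : N⁻¹.charpoly = N.charpoly.map (starRingEnd ℂ) := by
    refine Polynomial.eq_of_infinite_eval_eq _ _ (Set.Infinite.mono (s := {t : ℂ | t ≠ 0}) (fun t (ht : t ≠ 0) => ?_)
      ((Set.finite_singleton (0 : ℂ)).infinite_compl))
    show N⁻¹.charpoly.eval t = (N.charpoly.map (starRingEnd ℂ)).eval t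
    haveI : Invertible N := hdet.invertible
    have h1 : Matrix.scalar (Fin r) t - N⁻¹ = (-t) • (N⁻¹ * (Matrix.scalar (Fin r) t⁻¹ - N)) := by
      rw [Matrix.mul_sub, Matrix.inv_mul_of_invertible, smul_sub, Matrix.scalar_apply, Matrix.scalar_apply,
        ← Matrix.smul_one_eq_diagonal, ← Matrix.smul_one_eq_diagonal, Matrix.mul_smul, Matrix.mul_one, smul_smul,
        neg_mul, mul_inv_cancel₀ ht, neg_smul, neg_smul, one_smul]
      abel
    rw [Matrix.eval_charpoly, h1, Matrix.det_smul, Matrix.det_mul, Matrix.det_nonsing_inv, Ring.inverse_eq_inv',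
      ← Matrix.eval_charpoly, Matrix.det_eq_prod_roots_charpoly, hsplit, Polynomial.roots_multiset_prod_X_sub_C,
      Polynomial.map_multiset_prod, Polynomial.eval_multiset_prod, Polynomial.eval_multiset_prod, Multiset.map_map,
      Multiset.map_map, Multiset.map_map]
    have hcard : N.charpoly.roots.card = Fintype.card (Fin r) := by
      rw [← Matrix.charpoly_natDegree_eq_dim N]
      exact (IsAlgClosed.splits N.charpoly).natDegree_eq_card_roots.symm
    rw [← hcard, ← Multiset.prod_replicate, ← Multiset.map_const', ← Multiset.prod_map_inv', ← Multiset.prod_map_mul,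
      ← Multiset.prod_map_mul]
    refine congrArg Multiset.prod (Multiset.map_congr rfl fun z hz => ?_)
    have hz1 := hnorm z hz
    have hz0 : z ≠ 0 := fun h => by simp [h] at hz1
    have hc : (starRingEnd ℂ) z = z⁻¹ := by
      rw [Complex.inv_def, Complex.normSq_eq_norm_sq, hz1]
      simp
    simp only [Function.comp_apply, Function.const_apply, Polynomial.map_sub, Polynomial.map_X, Polynomial.map_C,
      Polynomial.eval_sub, Polynomial.eval_X, Polynomial.eval_C, hc]
    field_simp
    ring
  have hinv : N⁻¹ = (M⁻¹).map ι := by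
    refine Matrix.inv_eq_right_inv ?_
    show M.map ι * (M⁻¹).map ι = 1
    have hM' : IsUnit M.det := by
      rw [isUnit_iff_ne_zero]
      intro h
      have h1 := (Matrix.isUnit_iff_isUnit_det N).mp hdet
      rw [show N.det = ι M.det from (RingHom.map_det ι M).symm, h, map_zero] at h1
      exact not_isUnit_zero h1
    rw [← Matrix.map_mul, Matrix.mul_nonsing_inv _ hM', Matrix.map_one _ (map_zero ι) (map_one ι)]
  rw [Matrix.charpoly_fromBlocks_zero₁₂, Matrix.charpoly_transpose, ← Polynomial.coeff_map, Polynomial.map_mul,
    ← hNp, ← Matrix.charpoly_map, ← hinv, hconj]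
  refine Complex.conj_eq_iff_im.mp ?_
  rw [← Polynomial.coeff_map (starRingEnd ℂ)]
  congr 1
  rw [Polynomial.map_mul, Polynomial.map_map, show (starRingEnd ℂ).comp (starRingEnd ℂ) = RingHom.id ℂ from
    RingHom.ext fun z => Complex.conj_conj z, Polynomial.map_id, mul_comm]

end Groth.Agent.S15525
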