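import Groth.Statements.S15526
import Mathlib.Algebra.Polynomial.Div
import Mathlib.Algebra.MvPolynomial.Eval
import Mathlib.RingTheory.Ideal.Quotient.Operations
import Mathlib.Tactic.Ring

set_option autoImplicit false
universe u
open MvPolynomial
open CAlg

namespace Groth.Agent.S15526
open MvPolynomial

/-- The span of the reduced monomials is everything once the relations are applied. -/
theorem span_eq_top {R S : Type u} [CommRing R] [CommRing S] [Algebra R S] (d : ℕ) (P : Polynomial R) (hP : P.Monic)
    (hd : P.natDegree = d) (hd0 : 0 < d) (x y z : S) (hy : y ^ 2 = Polynomial.aeval x P) (hyz : y * z = 1)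
    (hgen : Algebra.adjoin R ({x, y, z} : Set S) = ⊤) :
    Submodule.span R {a : S | ∃ i n : ℕ, i < d ∧ (a = x ^ i * y ^ n ∨ a = x ^ i * z ^ n)} = ⊤ := by
  set V := Submodule.span R {a : S | ∃ i n : ℕ, i < d ∧ (a = x ^ i * y ^ n ∨ a = x ^ i * z ^ n)} with hV
  have my : ∀ a ∈ V, a * y ∈ V := by
    intro a ha
    induction ha using Submodule.span_induction with
    | mem a ha =>
      obtain ⟨i, n, hi, rfl | rfl⟩ := ha
      · exact Submodule.subset_span ⟨i, n + 1, hi, Or.inl (by ring)⟩
      · cases n with
        | zero => exact Submodule.subset_span ⟨i, 1, hi, Or.inl (by ring)⟩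
        | succ n =>
          refine Submodule.subset_span ⟨i, n, hi, Or.inr ?_⟩
          calc x ^ i * z ^ (n + 1) * y = x ^ i * z ^ n * (y * z) := by ring
            _ = x ^ i * z ^ n := by rw [hyz, mul_one]
    | zero => simp
    | add a b _ _ ha hb => rw [add_mul]; exact add_mem ha hb
    | smul c a _ ha => rw [smul_mul_assoc]; exact V.smul_mem c ha
  have mz : ∀ a ∈ V, a * z ∈ V := by
    intro a ha
    induction ha using Submodule.span_induction with
    | mem a ha =>
      obtain ⟨i, n, hi, rfl | rfl⟩ := ha
      · cases n with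
        | zero => exact Submodule.subset_span ⟨i, 1, hi, Or.inr (by ring)⟩
        | succ n =>
          refine Submodule.subset_span ⟨i, n, hi, Or.inl ?_⟩
          calc x ^ i * y ^ (n + 1) * z = x ^ i * y ^ n * (y * z) := by ring
            _ = x ^ i * y ^ n := by rw [hyz, mul_one]
      · exact Submodule.subset_span ⟨i, n + 1, hi, Or.inr (by ring)⟩
    | zero => simp
    | add a b _ _ ha hb => rw [add_mul]; exact add_mem ha hb
    | smul c a _ ha => rw [smul_mul_assoc]; exact V.smul_mem c ha
  have hpow : ∀ i ≤ d, x ^ i ∈ V := by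
    intro i hi
    rcases hi.lt_or_eq with h | rfl
    · exact Submodule.subset_span ⟨i, 0, h, Or.inl (by simp)⟩
    · have h1 : y ^ 2 = x ^ i + ∑ j ∈ Finset.range i, P.coeff j • x ^ j := by
        rw [hy, Polynomial.aeval_eq_sum_range, hd, Finset.sum_range_succ, add_comm,
          show P.coeff i = 1 from hd ▸ hP.coeff_natDegree, one_smul]
      rw [eq_sub_of_add_eq h1.symm]
      refine sub_mem (Submodule.subset_span ⟨0, 2, hd0, Or.inl (by simp)⟩) ?_
      exact sum_mem fun j hj => V.smul_mem _ (Submodule.subset_span ⟨j, 0, Finset.mem_range.1 hj, Or.inl (by simp)⟩)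
  have mx : ∀ a ∈ V, a * x ∈ V := by
    have hy' : ∀ (n : ℕ) (a : S), a ∈ V → a * y ^ n ∈ V := by
      intro n
      induction n with
      | zero => intro a ha; simpa using ha
      | succ n ih => intro a ha; rw [pow_succ, ← mul_assoc]; exact my _ (ih a ha)
    have hz' : ∀ (n : ℕ) (a : S), a ∈ V → a * z ^ n ∈ V := by
      intro n
      induction n with
      | zero => intro a ha; simpa using ha
      | succ n ih => intro a ha; rw [pow_succ, ← mul_assoc]; exact mz _ (ih a ha)
    intro a ha
    induction ha using Submodule.span_induction with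
    | mem a ha =>
      obtain ⟨i, n, hi, rfl | rfl⟩ := ha
      · rw [show x ^ i * y ^ n * x = x ^ (i + 1) * y ^ n by ring]
        exact hy' n _ (hpow _ hi)
      · rw [show x ^ i * z ^ n * x = x ^ (i + 1) * z ^ n by ring]
        exact hz' n _ (hpow _ hi)
    | zero => simp
    | add a b _ _ ha hb => rw [add_mul]; exact add_mem ha hb
    | smul c a _ ha => rw [smul_mul_assoc]; exact V.smul_mem c ha
  have key : ∀ b ∈ Algebra.adjoin R ({x, y, z} : Set S), ∀ a ∈ V, a * b ∈ V := by
    intro b hb
    induction hb using Algebra.adjoin_induction with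
    | mem b hb =>
      rcases hb with rfl | rfl | rfl
      · exact mx
      · exact my
      · exact mz
    | algebraMap r => intro a ha; rw [mul_comm, ← Algebra.smul_def]; exact V.smul_mem r ha
    | add b c _ _ hb hc => intro a ha; rw [mul_add]; exact add_mem (hb a ha) (hc a ha)
    | mul b c _ _ hb hc => intro a ha; rw [← mul_assoc]; exact hc _ (hb a ha)
  rw [eq_top_iff]
  intro b _
  have := key b (hgen ▸ Algebra.mem_top) 1 (by simpa using hpow 0 (Nat.zero_le _))
  simpa using this

/-- Let R be a commutative ring, P ∈ R[x] a monic polynomial of degree 2g + 1, and A = R[x, y, z]/(y^2 −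
P(x), yz − 1). Then every element of A is a finite sum Σ_n Q_n(x) y^n over integers n, negative
powers of y meaning powers of z, with each Q_n ∈ R[x] of degree at most 2g: the R-submodule of A
spanned by the classes of x^i y^n and x^i z^n with i ≤ 2g and n ≥ 0 is all of A. (The published
statement takes for R the ring of Witt vectors of a finite field and for P a lift of a separable
polynomial; the argument uses only that P is monic of degree 2g + 1.) -/
theorem result (R : Type u) [CommRing R] (g : ℕ)
    (P : Polynomial R) (hP : P.Monic) (hdeg : P.natDegree = 2 * g + 1) :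
    Submodule.span R {a : MvPolynomial (Fin 3) R ⧸
        Ideal.span ({X 1 ^ 2 - Polynomial.aeval (X 0 : MvPolynomial (Fin 3) R) P, X 1 * X 2 - 1} :
          Set (MvPolynomial (Fin 3) R)) |
        ∃ i n : ℕ, i ≤ 2 * g ∧
          (a = Ideal.Quotient.mk _ (X 0 ^ i * X 1 ^ n) ∨ a = Ideal.Quotient.mk _ (X 0 ^ i * X 2 ^ n))} =
      ⊤ := by
  let I : Ideal (MvPolynomial (Fin 3) R) :=
    Ideal.span {X 1 ^ 2 - Polynomial.aeval (X 0 : MvPolynomial (Fin 3) R) P, X 1 * X 2 - 1}
  let q : MvPolynomial (Fin 3) R →ₐ[R] MvPolynomial (Fin 3) R ⧸ I := Ideal.Quotient.mkₐ R I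
  have hgen : Algebra.adjoin R ({q (X 0), q (X 1), q (X 2)} : Set (MvPolynomial (Fin 3) R ⧸ I)) = ⊤ := by
    have : ({q (X 0), q (X 1), q (X 2)} : Set (MvPolynomial (Fin 3) R ⧸ I)) = q '' Set.range X := by
      ext a
      simp [Fin.exists_fin_succ, eq_comm]
    rw [this, ← AlgHom.map_adjoin, MvPolynomial.adjoin_range_X, Algebra.map_top, AlgHom.range_eq_top]
    exact Ideal.Quotient.mk_surjective
  have h := span_eq_top (2 * g + 1) P hP hdeg (by omega) (q (X 0)) (q (X 1)) (q (X 2)) (by
    rw [Polynomial.aeval_algHom_apply, ← map_pow]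
    exact Ideal.Quotient.eq.2 (Ideal.subset_span (Or.inl rfl))) (by
    rw [← map_mul, ← map_one q]
    exact Ideal.Quotient.eq.2 (Ideal.subset_span (Or.inr rfl))) hgen
  refine Eq.trans ?_ h
  congr 1
  ext a
  simp only [Set.mem_ofPred_eq, ← map_pow, ← map_mul, Nat.lt_succ_iff]
  rfl

end Groth.Agent.S15526
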