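import Groth.Statements.S15527
import Groth.Agent.Synt29.AffineDR

set_option autoImplicit false
universe u
open DeRhamSh

namespace Groth.Agent.S15527

open CategoryTheory AlgebraicGeometry exteriorPower in
/-- For a ring map R → A with X = Spec A → S = Spec R, a de Rham complex D of the sheaf of differentials
of X → S and a de Rham differential d of the Kähler differentials of A over R, the de Rham
cohomology group H^n(X, D) = H^n_dR(X/S) is isomorphic, as an additive group, to the n-th cohomology
of the ring-level de Rham complex (⋀^• Ω_{A/R}, d), for every n ≥ 0. (Existence of an additive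
isomorphism only: the published statement is a canonical identification, and it also identifies
RΓ(X, Ω^•_{X/S}) with Ω^•_{A/R} in D(R), which is not stated here.) -/
theorem result (R A : Type u) [CommRing R] [CommRing A] [Algebra R A]
    (D : DeRhamSh.OmegaCx (Spec.map (CommRingCat.ofHom (algebraMap R A))))
    [HasDerivedCategory.{u} (Sheaf (Opens.grothendieckTopology ↥(Spec (CommRingCat.of A))) AddCommGrpCat.{u})]
    (d : ∀ p : ℕ, ↥(⋀[A]^p (Ω[A⁄R])) →ₗ[R] ↥(⋀[A]^(p + 1) (Ω[A⁄R])))
    (hd : DeRham.IsDiff (KaehlerDifferential.D R A) d) (n : ℕ) :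
    Nonempty (DeRhamSh.HdR D (n : ℤ) ≃+ ↑(DeRham.H hd n)) := by
  obtain ⟨d', hrule, -, hH⟩ := Groth.Agent.Synt29.AffineDR.exists_affine R A D
  have hdd : ∀ p x, d' p x = d p x := fun p x => by
    have := Groth.Agent.Synt29.DRGen.addMonoidHom_ext (KaehlerDifferential.D R A)
      (KaehlerDifferential.span_range_derivation R A) (f := d' p) (g := (d p).toAddMonoidHom)
      (fun b₀ b => (hrule p b₀ b).trans (hd.1 p b₀ b).symm)
    exact congrArg (fun t => t x) this
  obtain ⟨Φ, hΦs, hΦk⟩ := hH n
  have hdx : ∀ (p : ℕ) (x : ↥(⋀[A]^p (Ω[A⁄R]))), ((DeRham.cx hd).d p (p + 1)).hom x = d p x := fun p x => by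
    unfold DeRham.cx; dsimp only [CochainComplex.of]; rw [CochainComplex.of_d]; rfl
  -- the homology as a quotient of the closed forms
  let ι := ((DeRham.cx hd).iCycles n).hom
  have hι : Function.Injective ι := (ModuleCat.mono_iff_injective _).1 inferInstance
  have hrange : ∀ x : ↥(⋀[A]^n (Ω[A⁄R])), d n x = 0 → ∃ z, ι z = x := fun x hx => by
    have hex : (CategoryTheory.ShortComplex.mk ((DeRham.cx hd).iCycles n) ((DeRham.cx hd).d n (n + 1))
        ((DeRham.cx hd).iCycles_d n (n + 1))).Exact :=
      CategoryTheory.ShortComplex.exact_of_f_is_kernel _ ((DeRham.cx hd).cyclesIsKernel n (n + 1) (by simp))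
    exact (CategoryTheory.ShortComplex.moduleCat_exact_iff _).1 hex x ((hdx n x).trans hx)
  have hιd : ∀ z, d' n (ι z) = 0 := fun z => by
    rw [hdd, ← hdx]
    exact congrArg (fun t => t.hom z) ((DeRham.cx hd).iCycles_d n (n + 1))
  let c : ↑((DeRham.cx hd).cycles n) →+ (d' n).ker := AddMonoidHom.mk' (fun z => ⟨ι z, hιd z⟩)
    (fun a b => Subtype.ext (map_add ι a b))
  have hc : Function.Surjective c := fun x => by
    obtain ⟨z, hz⟩ := hrange x.1 ((hdd n x.1).symm.trans x.2)
    exact ⟨z, Subtype.ext hz⟩
  let π := ((DeRham.cx hd).homologyπ n).hom.toAddMonoidHom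
  have hπ : Function.Surjective π := (ModuleCat.epi_iff_surjective _).1 inferInstance
  have hker : π.ker = (Φ.comp c).ker := by
    ext z
    show ((DeRham.cx hd).homologyπ n).hom z = 0 ↔ Φ (c z) = 0
    rw [hΦk]
    rcases n with _ | m
    · have : CategoryTheory.IsIso ((DeRham.cx hd).homologyπ 0) :=
        (DeRham.cx hd).isIso_homologyπ _ 0 rfl (by simp)
      constructor
      · intro h
        have : z = 0 := ((ModuleCat.mono_iff_injective ((DeRham.cx hd).homologyπ 0)).1 inferInstance)
          (h.trans (map_zero _).symm)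
        subst this
        exact .inl ⟨rfl, map_zero ι⟩
      · rintro (⟨-, h⟩ | ⟨m, h, -⟩)
        · have : z = 0 := hι (h.trans (map_zero ι).symm)
          subst this
          exact map_zero _
        · omega
    · have hex : (CategoryTheory.ShortComplex.mk ((DeRham.cx hd).toCycles m (m + 1)) ((DeRham.cx hd).homologyπ (m + 1))
          ((DeRham.cx hd).toCycles_comp_homologyπ m (m + 1))).Exact :=
        CategoryTheory.ShortComplex.exact_of_g_is_cokernel _ ((DeRham.cx hd).homologyIsCokernel m (m + 1) (by simp))
      have hti : ∀ y, ι (((DeRham.cx hd).toCycles m (m + 1)).hom y) = d m y := fun y =>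
        (congrArg (fun t => t.hom y) ((DeRham.cx hd).toCycles_i m (m + 1))).trans (hdx m y)
      constructor
      · intro h
        obtain ⟨y, rfl⟩ := (CategoryTheory.ShortComplex.moduleCat_exact_iff _).1 hex z h
        exact .inr ⟨m, rfl, y, (hdd m y).trans (hti y).symm⟩
      · rintro (⟨h, -⟩ | ⟨m', h, y, hy⟩)
        · omega
        · obtain rfl : m' = m := by omega
          have : z = ((DeRham.cx hd).toCycles m' (m' + 1)).hom y :=
            hι ((hti y).trans ((hdd m' y).symm.trans hy)).symm
          subst this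
          exact congrArg (fun t => t.hom y) ((DeRham.cx hd).toCycles_comp_homologyπ m' (m' + 1))
  exact ⟨((QuotientAddGroup.quotientKerEquivOfSurjective π hπ).symm.trans
    ((QuotientAddGroup.quotientAddEquivOfEq hker).trans
      (QuotientAddGroup.quotientKerEquivOfSurjective (Φ.comp c) (hΦs.comp hc)))).symm⟩

end Groth.Agent.S15527
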