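import Groth.Statements.S1553
import Groth.Agent.FibBound5.Basic

set_option backward.isDefEq.respectTransparency.types false
set_option backward.isDefEq.respectTransparency false
set_option linter.style.haveILetI false
-- import your own Groth.Agent.* helpers here

set_option autoImplicit false
universe u
open CategoryTheory CategoryTheory.Limits AlgebraicGeometry
open Variety

namespace Groth.Agent.S1553

/-- Let f : X → Y be locally of finite type, x a point with image y such that the local ring of Y at y
is Noetherian, and d a natural number such that at the generic points η of the irreducible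
components of X passing through x we have f(η) ≠ y and local fibre dimension d. Then the local
dimension at x of the fibre over y is at most d + dim O_{Y,y} - 1 (written additively). -/
theorem result {X Y : Scheme.{u}} (f : X ⟶ Y) [LocallyOfFiniteType f]
    (x : X) [IsNoetherianRing (Y.presheaf.stalk (f.base x))] (d : ℕ)
    (hgen : ∀ Z ∈ irreducibleComponents (X : Type u), x ∈ Z → ∀ η : X, IsGenericPoint η Z →
      f.base η ≠ f.base x ∧ FlatMor.fibreDimAt f η = d) :
    FlatMor.fibreDimAt f x + 1 ≤ (d : WithBot ℕ∞) + ringKrullDim (Y.presheaf.stalk (f.base x)) := by
  obtain ⟨η, a, c, hη, hmax, ha, hc, m, hm, hcase⟩ := Groth.Agent.FibBound5.exists_bound_stalk f x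
  obtain ⟨hne, hd⟩ := hgen _ (Groth.Agent.FibBound5.closure_mem_irreducibleComponents hmax)
    (specializes_iff_mem_closure.1 hη) η isGenericPoint_closure
  rw [ha] at hd
  have had : a = d := by exact_mod_cast hd
  rcases hcase with ⟨h1, -⟩ | h
  · exact absurd h1 hne
  · rw [hm, show ringKrullDim (Y.presheaf.stalk (f.base x)) = _ from hc]
    have h' : m + 1 ≤ d + c := had ▸ h
    exact_mod_cast h' 

end Groth.Agent.S1553
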