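import Groth.Statements.S15533
import Groth.Agent.Synt29.OmegaAffine
import Groth.Agent.SmoothSecLib.Basic
import Groth.Agent.GrpSchLib.SmoothReduced
import Mathlib

set_option autoImplicit false
universe u
open OmegaSh

namespace Groth.Agent.S15533

open CategoryTheory AlgebraicGeometry in
/-- For a field k and a smooth proper k-scheme X with structure morphism f, the derivation d : O_X →
Ω_{X/k} of f vanishes on global functions: d(s) = 0 in Γ(X, Ω_{X/k}) for every s ∈ Γ(X, O_X). -/
theorem result (k : Type u) [Field k] (X : Scheme.{u})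
    (f : X ⟶ Spec (CommRingCat.of k)) [IsProper f] [Smooth f] (s : Γ(X, ⊤)) :
    (OmegaSh.dOmega f).app ⊤ s = 0 := by
  
  classical
  have : IsReduced X := Groth.Agent.GrpSchLib.isReduced_of_smooth_field f
  let φ : CommRingCat.of k ⟶ Γ(X, ⊤) := (Scheme.ΓSpecIso (CommRingCat.of k)).inv ≫ f.appTop
  let _ : Algebra k Γ(X, ⊤) := φ.hom.toAlgebra
  have hint : IsIntegral k s := by
    have h1 : (f.appTop.hom.comp (Scheme.ΓSpecIso (CommRingCat.of k)).inv.hom).IsIntegral :=
      RingHom.IsIntegral.trans _ _
        (RingHom.isIntegral_of_surjective _ fun x =>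
          ⟨(Scheme.ΓSpecIso (CommRingCat.of k)).hom x,
            (Scheme.ΓSpecIso (CommRingCat.of k)).hom_inv_id_apply x⟩)
        (isIntegral_appTop_of_universallyClosed f)
    exact h1 s
  let S : Finset (Polynomial k) := ((UniqueFactorizationMonoid.normalizedFactors
    (minpoly k s)).toFinset).filter fun r => r.Separable
  have hS : ∀ r ∈ S, r.Monic ∧ Irreducible r ∧ r.Separable := fun r hr => by
    obtain ⟨h1, h2⟩ := Finset.mem_filter.mp hr
    rw [Multiset.mem_toFinset] at h1
    have := UniqueFactorizationMonoid.normalize_normalized_factor r h1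
    have hirr := UniqueFactorizationMonoid.irreducible_of_normalized_factor r h1
    exact ⟨this ▸ Polynomial.monic_normalize hirr.ne_zero, hirr, h2⟩
  let q : Polynomial k := ∏ r ∈ S, r
  have hqsep : q.Separable := Polynomial.separable_prod' (fun r hr r' hr' hne => by
    refine (hS r hr).2.1.coprime_iff_not_dvd.mpr fun hd => hne ?_
    exact Polynomial.eq_of_monic_of_associated (hS r hr).1 (hS r' hr').1
      ((hS r hr).2.1.associated_of_dvd (hS r' hr').2.1 hd)) fun r hr => (hS r hr).2.2
  have hq : Polynomial.aeval s q = 0 := by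
    by_contra hne
    have hb : X.basicOpen (Polynomial.aeval s q) ≠ ⊥ := fun hb => hne ((basicOpen_eq_bot_iff _).mp hb)
    obtain ⟨x, hx⟩ : ∃ x, x ∈ X.basicOpen (Polynomial.aeval s q) := by
      by_contra hex
      exact hb (eq_bot_iff.mpr fun x hx => (hex ⟨x, hx⟩).elim)
    obtain ⟨k', _, _, hfin, hsep, t, htf, htx⟩ :=
      Groth.Agent.SmoothSecLib.exists_separable_point f _ hx
    let ev : Γ(X, ⊤) →ₐ[k] k' :=
      { toRingHom := (t.appTop ≫ (Scheme.ΓSpecIso (CommRingCat.of k')).hom).hom
        commutes' := fun c => by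
          show (φ ≫ t.appTop ≫ (Scheme.ΓSpecIso (CommRingCat.of k')).hom) c = algebraMap k k' c
          have : φ ≫ t.appTop ≫ (Scheme.ΓSpecIso (CommRingCat.of k')).hom =
              CommRingCat.ofHom (algebraMap k k') := by
            dsimp only [φ]
            simp only [Category.assoc, ← Scheme.Hom.comp_appTop_assoc]
            rw [htf, Scheme.ΓSpecIso_naturality, Iso.inv_hom_id_assoc]
          rw [this]
          rfl }
    have hint' : IsIntegral k (ev s) := hint.map ev
    have hd : minpoly k (ev s) ∣ minpoly k s :=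
      minpoly.dvd k _ (by rw [Polynomial.aeval_algHom_apply, minpoly.aeval, map_zero])
    obtain ⟨r, hr, hra⟩ := UniqueFactorizationMonoid.exists_mem_normalizedFactors_of_dvd
      (minpoly.ne_zero hint) (minpoly.irreducible hint') hd
    have hrm : r = minpoly k (ev s) := by
      refine (Polynomial.eq_of_monic_of_associated (minpoly.monic hint') ?_ hra).symm
      rw [← UniqueFactorizationMonoid.normalize_normalized_factor r hr]
      exact Polynomial.monic_normalize
        (UniqueFactorizationMonoid.irreducible_of_normalized_factor r hr).ne_zero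
    have hrS : r ∈ S := Finset.mem_filter.mpr
      ⟨Multiset.mem_toFinset.mpr hr, hrm ▸ Algebra.IsSeparable.isSeparable k (ev s)⟩
    have h0 : ev (Polynomial.aeval s q) = 0 := by
      rw [← Polynomial.aeval_algHom_apply, map_prod]
      exact Finset.prod_eq_zero hrS (hrm ▸ minpoly.aeval k (ev s))
    have h1 : t.appTop (Polynomial.aeval s q) = 0 := by
      have := congrArg (Scheme.ΓSpecIso (CommRingCat.of k')).inv h0
      rwa [map_zero, show ev (Polynomial.aeval s q) = (Scheme.ΓSpecIso (CommRingCat.of k')).hom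
        (t.appTop (Polynomial.aeval s q)) from rfl, Iso.hom_inv_id_apply] at this
    have h2 : IsLocalRing.closedPoint k' ∈ t ⁻¹ᵁ X.basicOpen (Polynomial.aeval s q) := htx
    rw [Scheme.preimage_basicOpen, show t.app ⊤ (Polynomial.aeval s q) = 0 from h1,
      Scheme.basicOpen_zero] at h2
    exact h2
  let _ : Module k Γ(Omega.sheaf f, ⊤) := Module.compHom _ (algebraMap k Γ(X, ⊤))
  have : IsScalarTower k Γ(X, ⊤) Γ(Omega.sheaf f, ⊤) :=
    IsScalarTower.of_algebraMap_smul fun _ _ => rfl
  have hc : ∀ c : k, (OmegaSh.dOmega f).app ⊤ (algebraMap k Γ(X, ⊤) c) = 0 := fun c =>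
    Groth.Agent.Synt29.OmegaStalk.app_base _ (OmegaSh.dOmega f) ⊤ _
  let D : Derivation k Γ(X, ⊤) Γ(Omega.sheaf f, ⊤) :=
    Derivation.mk'
      { toFun := fun b => (OmegaSh.dOmega f).app ⊤ b
        map_add' := fun b b' => map_add _ b b'
        map_smul' := fun c b => by
          show (OmegaSh.dOmega f).app ⊤ (c • b) = algebraMap k Γ(X, ⊤) c • (OmegaSh.dOmega f).app ⊤ b
          rw [Algebra.smul_def, Groth.Agent.Synt29.OmegaStalk.app_mul, hc, smul_zero, add_zero] }
      fun a b => Groth.Agent.Synt29.OmegaStalk.app_mul _ (OmegaSh.dOmega f) ⊤ a b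
  have hD : Polynomial.aeval s (Polynomial.derivative q) • D s = 0 := by
    rw [← Derivation.map_aeval, hq, map_zero]
  obtain ⟨a, b, hab⟩ := hqsep
  have h1 := congrArg (Polynomial.aeval s) hab
  rw [map_add, map_mul, map_mul, hq, mul_zero, zero_add, map_one] at h1
  calc (OmegaSh.dOmega f).app ⊤ s = (1 : Γ(X, ⊤)) • D s := (one_smul _ _).symm
    _ = 0 := by rw [← h1, mul_smul, hD, smul_zero]

end Groth.Agent.S15533
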