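import Groth.Statements.S15535
import Groth.Agent.S3701
import Groth.Agent.Lib.NormalPush
import Groth.Agent.DescLib.Reduced

set_option autoImplicit false
set_option backward.isDefEq.respectTransparency false
set_option backward.isDefEq.respectTransparency.types false
set_option linter.style.haveILetI false
set_option maxHeartbeats 1000000
universe u
open OmegaSh

namespace Groth.Agent.S15535

open CategoryTheory CategoryTheory.Limits AlgebraicGeometry TopologicalSpace Opposite in
theorem zero_of_affine {S X : Scheme.{u}} (f : X ⟶ S) [IsProper f] [Smooth f]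
    {U : S.Opens} (hU : IsAffineOpen U) (s : Γ(X, f ⁻¹ᵁ U)) :
    (OmegaSh.dOmega f).app (f ⁻¹ᵁ U) s = 0 := by
  have hE : Etale f.fromNormalization := (Groth.Agent.S3701.result f (fun Ω _ _ σ => by
    haveI : Smooth (pullback.snd f σ) := inferInstance
    exact Groth.Agent.DescLib.isReduced_of_smooth_of_isReduced (pullback.snd f σ))).2
  let V : S.affineOpens := ⟨U, hU⟩
  letI := (f.app U).hom.toAlgebra
  have h1 : Etale (Spec.map (f.normalizationDiagramMap.app (op U)) ≫ hU.fromSpec) := by
    rw [← f.ι_fromNormalization V]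
    exact MorphismProperty.comp_mem _ _ _ inferInstance hE
  haveI := h1
  have h2 : Etale (Spec.map (f.normalizationDiagramMap.app (op U))) :=
    Etale.of_comp (Spec.map (f.normalizationDiagramMap.app (op U))) hU.fromSpec
  have h3 : (f.normalizationDiagramMap.app (op U)).hom.Etale :=
    (HasRingHomProperty.Spec_iff (P := @Etale)).1 h2
  haveI hB : Algebra.Etale Γ(S, U) (integralClosure Γ(S, U) Γ(X, f ⁻¹ᵁ U)) := RingHom.etale_algebraMap.1 h3
  have hint : Algebra.IsIntegral Γ(S, U) Γ(X, f ⁻¹ᵁ U) :=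
    ⟨fun x => Groth.Agent.Lib.NormalPush.isIntegral_app f hU x⟩
  have htop : integralClosure Γ(S, U) Γ(X, f ⁻¹ᵁ U) = ⊤ := integralClosure_eq_top_iff.2 hint
  haveI : Algebra.Etale Γ(S, U) Γ(X, f ⁻¹ᵁ U) :=
    Algebra.Etale.of_equiv ((Subalgebra.equivOfEq _ _ htop).trans Subalgebra.topEquiv)
  let M := Γ(Omega.sheaf f, f ⁻¹ᵁ U)
  letI : Module Γ(S, U) M := Module.compHom M (f.app U).hom
  haveI : IsScalarTower Γ(S, U) Γ(X, f ⁻¹ᵁ U) M := ⟨fun a b m => by
    show ((f.app U).hom a * b) • m = (f.app U).hom a • b • m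
    exact mul_smul _ _ _⟩
  let D : Derivation Γ(S, U) Γ(X, f ⁻¹ᵁ U) M := Derivation.mk'
    { toFun := fun x => (OmegaSh.dOmega f).app (f ⁻¹ᵁ U) x
      map_add' := fun x y => map_add _ x y
      map_smul' := fun a x => by
        show (OmegaSh.dOmega f).app (f ⁻¹ᵁ U) ((f.app U).hom a * x) =
          (f.app U).hom a • (OmegaSh.dOmega f).app (f ⁻¹ᵁ U) x
        refine ((OmegaSh.dOmega f).d_mul (X := op (f ⁻¹ᵁ U)) ((f.app U).hom a) x).trans ?_
        have h0 : (OmegaSh.dOmega f).d (X := op (f ⁻¹ᵁ U)) ((f.app U).hom a) = 0 :=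
          (OmegaSh.dOmega f).d_app (X := op U) a
        rw [h0, smul_zero, add_zero]
        rfl }
    (fun x y => (OmegaSh.dOmega f).d_mul (X := op (f ⁻¹ᵁ U)) x y)
  show D s = 0
  rw [← D.liftKaehlerDifferential_comp_D s, Subsingleton.elim (KaehlerDifferential.D Γ(S, U) Γ(X, f ⁻¹ᵁ U) s) 0, map_zero]


open CategoryTheory AlgebraicGeometry in
/-- For a quasi-compact quasi-separated scheme S and a proper morphism f : X → S which is smooth of
relative dimension n with all fibres nonempty (f surjective), the map d : f_*O_X → f_*Ω_{X/S}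
induced by the derivation of f is zero: d(s) = 0 for every section s of O_X over an open of the form
f⁻¹(V), V open in S. (The published lemma also asserts that f_*O_X is a finite étale O_S-algebra and
that Rf_*O_X splits off f_*O_X locally on S with perfect complement of tor amplitude in [1, ∞);
those parts are not stated here.) -/
theorem result (S X : Scheme.{u}) (f : X ⟶ S)
    [CompactSpace ↥S] [QuasiSeparatedSpace ↥S] [IsProper f] (n : ℕ) [SmoothOfRelativeDimension n f]
    [Surjective f] (V : S.Opens) (s : Γ(X, f ⁻¹ᵁ V)) :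
    (OmegaSh.dOmega f).app (f ⁻¹ᵁ V) s = 0 := by
  refine (TopCat.Sheaf.eq_of_locally_eq' (X := X.toPresheafedSpace.carrier)
    ⟨(Omega.sheaf f).presheaf, (Omega.sheaf f).isSheaf⟩
    (fun i : {U : S.affineOpens // U.1 ≤ V} => f ⁻¹ᵁ i.1.1) (f ⁻¹ᵁ V)
    (fun i => homOfLE (f.preimage_mono i.2)) (fun x hx => ?_) _ 0 fun i => ?_)
  · obtain ⟨W, hW, hxW, hWV⟩ := AlgebraicGeometry.exists_isAffineOpen_mem_and_subset (x := f x) (U := V) hx
    exact TopologicalSpace.Opens.mem_iSup.2 ⟨⟨⟨W, hW⟩, hWV⟩, hxW⟩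
  · refine (((OmegaSh.dOmega f).d_map (homOfLE (f.preimage_mono i.2)).op s).symm.trans ?_).trans (map_zero _).symm
    haveI : Smooth f := SmoothOfRelativeDimension.smooth n f
    exact zero_of_affine f i.1.2 _


end Groth.Agent.S15535
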