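import Groth.Statements.S15536
import Groth.Agent.Synt29.Lie
import Groth.Agent.Synt29.DRGen
import Groth.Agent.S15293
import Groth.Agent.S15294

set_option autoImplicit false
universe u
open DeRham

namespace Groth.Agent.S15536

open exteriorPower Polynomial in
/-- For a commutative ℚ-algebra R, an R-algebra A, de Rham differentials d on ⋀^• Ω_{A/R} and d' on ⋀^•
Ω_{A[t]/R}, and the map of de Rham complexes ψ induced by the inclusion A → A[t] (pinned by its
values on the elements b₀ db₁ ∧ … ∧ db_p and commuting with d, d'), the map ψ is a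
quasi-isomorphism: in every degree i, each d'-closed form on A[t] is the sum of ψ_i of a d-closed
form on A and a d'-exact form, and a d-closed form on A whose image under ψ_i is d'-exact is d-exact
(in degree 0, exact means zero). -/
theorem result (R A : Type u) [CommRing R]
    [CommRing A] [Algebra R A] [Algebra ℚ R]
    (d : ∀ p : ℕ, ↥(⋀[A]^p (Ω[A⁄R])) →ₗ[R] ↥(⋀[A]^(p + 1) (Ω[A⁄R])))
    (hd : DeRham.IsDiff (KaehlerDifferential.D R A) d)
    (d' : ∀ p : ℕ, ↥(⋀[A[X]]^p (Ω[A[X]⁄R])) →ₗ[R] ↥(⋀[A[X]]^(p + 1) (Ω[A[X]⁄R])))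
    (hd' : DeRham.IsDiff (KaehlerDifferential.D R A[X]) d')
    (ψ : ∀ p : ℕ, ↥(⋀[A]^p (Ω[A⁄R])) →+ ↥(⋀[A[X]]^p (Ω[A[X]⁄R])))
    (hψ : DeRham.IsCxMap (KaehlerDifferential.D R A) (KaehlerDifferential.D R A[X]) (algebraMap A A[X]) ψ)
    (hcomm : ∀ (p : ℕ) (x : ↥(⋀[A]^p (Ω[A⁄R]))), ψ (p + 1) (d p x) = d' p (ψ p x)) (i : ℕ) :
    (∀ y ∈ DeRham.cocycles d' i, ∃ x ∈ DeRham.cocycles d i, y - ψ i x ∈ DeRham.coboundaries d' i) ∧
      (∀ x ∈ DeRham.cocycles d i, ψ i x ∈ DeRham.coboundaries d' i → x ∈ DeRham.coboundaries d i) := by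
  
  classical
  open Groth.Agent.Synt29 in
  -- the retraction at `X = 0`
  obtain ⟨ρ, hρ, hρd⟩ : ∃ ρ : ∀ p, ↥(⋀[A[X]]^p (Ω[A[X]⁄R])) →+ ↥(⋀[A]^p (Ω[A⁄R])),
      (∀ (p : ℕ) (b₀ : A[X]) (b : Fin p → A[X]), ρ p (DeRham.gen (KaehlerDifferential.D R A[X]) p b₀ b) =
        DeRham.gen (KaehlerDifferential.D R A) p (b₀.eval 0) fun j => (b j).eval 0) ∧
      ∀ p x, ρ (p + 1) (d' p x) = d p (ρ p x) := by
    let alg : Algebra A[X] A := (evalRingHom 0).toAlgebra
    have : IsScalarTower R A[X] A := .of_algebraMap_eq fun r => by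
      show _ = eval 0 (algebraMap R A[X] r)
      simp [Polynomial.algebraMap_apply]
    obtain ⟨ρ, hρ⟩ := Groth.Agent.S15293.result R R A[X] A
    exact ⟨ρ, hρ, Groth.Agent.S15294.result R R A[X] A d' hd' d hd ρ hρ⟩
  set δ' := KaehlerDifferential.D R A[X] with hδ'
  have hρψ : ∀ p x, ρ p (ψ p x) = x := fun p x =>
    Groth.Agent.Synt29.DRGen.gen_induction (KaehlerDifferential.D R A) (KaehlerDifferential.span_range_derivation R A)
      (P := fun x => ρ p (ψ p x) = x) (by simp only [map_zero]) (fun x y hx hy => by simp only [map_add, hx, hy])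
      (fun b₀ b => by rw [hψ, hρ]; simp) x
  refine ⟨fun y hy => ?_, fun x hx hxb => ?_⟩
  swap
  · cases i with
    | zero =>
      have h0 : ψ 0 x = 0 := hxb
      have := hρψ 0 x
      rw [h0, map_zero] at this
      exact this ▸ Submodule.zero_mem _
    | succ i =>
      obtain ⟨y, hy⟩ := hxb
      exact ⟨ρ i y, by rw [← hρd, hy, hρψ]⟩
  -- the Lie derivative along `X ∂/∂X`
  let θ : Derivation R A[X] A[X] := ((X : A[X]) • Polynomial.derivative').restrictScalars R
  let φ : Ω[A[X]⁄R] →ₗ[A[X]] A[X] := θ.liftKaehlerDifferential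
  have hφ : ∀ (n : ℕ) (a : A), φ (δ' (monomial n a)) = n • monomial n a := fun n a => by
    rw [show φ (δ' (monomial n a)) = θ (monomial n a) from Derivation.liftKaehlerDifferential_comp_D _ _]
    show X * derivative (monomial n a) = _
    cases n with
    | zero => simp
    | succ n => rw [derivative_monomial, ← monomial_one_one_eq_X, monomial_mul_monomial, one_mul,
        Nat.add_sub_cancel, add_comm, nsmul_eq_mul, ← C_eq_natCast, C_mul_monomial, mul_comm]
  let ι' := fun n => (Groth.Agent.Synt29.Lie.contr φ n).restrictScalars R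
  let L : ∀ p, Module.End R ↥(⋀[A[X]]^p (Ω[A[X]⁄R])) := fun p => match p with
    | 0 => ι' 0 ∘ₗ d' 0
    | p + 1 => ι' (p + 1) ∘ₗ d' (p + 1) + d' p ∘ₗ ι' p
  have hLgen : ∀ (p : ℕ) (b₀ : A[X]) (b : Fin p → A[X]) (N₀ : ℕ) (N : Fin p → ℕ), φ (δ' b₀) = N₀ • b₀ →
      (∀ j, φ (δ' (b j)) = N j • b j) → L p (DeRham.gen δ' p b₀ b) = (N₀ + ∑ j, N j) • DeRham.gen δ' p b₀ b := by
    intro p b₀ b N₀ N h₀ hN
    cases p with
    | zero =>
      rw [Fin.sum_univ_zero, add_zero]
      exact Groth.Agent.Synt29.Lie.lie_gen_zero hd' φ b₀ b N₀ h₀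
    | succ p => exact Groth.Agent.Synt29.Lie.lie_gen hd' φ p b₀ b N₀ N h₀ hN
  -- positive weights
  let P : ↥(⋀[A[X]]^i (Ω[A[X]⁄R])) → Prop := fun z =>
    ∃ N, Groth.Agent.Synt29.Lie.kill (L i) N (z - ψ i (ρ i z)) = 0
  have hP0 : P 0 := ⟨0, by simp⟩
  have hPadd : ∀ z w, P z → P w → P (z + w) := by
    rintro z w ⟨N, hN⟩ ⟨M, hM⟩
    refine ⟨max N M, ?_⟩
    rw [show z + w - ψ i (ρ i (z + w)) = (z - ψ i (ρ i z)) + (w - ψ i (ρ i w)) by simp only [map_add]; abel, map_add,
      Groth.Agent.Synt29.Lie.kill_mono _ _ (le_max_left N M) hN, Groth.Agent.Synt29.Lie.kill_mono _ _ (le_max_right N M) hM, add_zero]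
  have hPgen : ∀ (n₀ : ℕ) (a₀ : A) (n : Fin i → ℕ) (a : Fin i → A),
      P (DeRham.gen δ' i (monomial n₀ a₀) fun j => monomial (n j) (a j)) := by
    intro n₀ a₀ n a
    set z := DeRham.gen δ' i (monomial n₀ a₀) fun j => monomial (n j) (a j) with hz
    by_cases h0 : n₀ = 0 ∧ ∀ j, n j = 0
    · refine ⟨0, ?_⟩
      have : z = ψ i (DeRham.gen (KaehlerDifferential.D R A) i a₀ a) := by
        rw [hψ, hz, h0.1]
        simp only [h0.2, monomial_zero_left, algebraMap_eq]
      rw [this, hρψ, sub_self, map_zero]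
    · have hρz : ρ i z = 0 := by
        rw [hz, hρ]
        rcases Classical.em (n₀ = 0) with h | h
        · obtain ⟨j, hj⟩ := not_forall.1 fun hn => h0 ⟨h, hn⟩
          rw [DeRham.gen, AlternatingMap.map_coord_zero (m := fun j => _) _ j (by simp [zero_pow hj]), smul_zero]
        · rw [DeRham.gen]
          simp [zero_pow h]
      obtain ⟨t, ht⟩ : ∃ t, n₀ + ∑ j, n j = t + 1 := Nat.exists_eq_succ_of_ne_zero fun h => h0
        ⟨by omega, fun j => Finset.sum_eq_zero_iff.1 (by omega) j (Finset.mem_univ j)⟩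
      refine ⟨t + 1, ?_⟩
      rw [hρz, map_zero, sub_zero]
      refine Groth.Agent.Synt29.Lie.kill_eq_zero_of_eigen _ _ t ?_
      rw [← ht]
      exact hLgen i _ _ n₀ n (hφ n₀ a₀) fun j => hφ (n j) (a j)
  have hS : Submodule.span A[X] {ω | ∃ (m : ℕ) (a : A), δ' (monomial m a) = ω} = ⊤ := by
    rw [eq_top_iff, ← KaehlerDifferential.span_range_derivation R A[X], Submodule.span_le]
    rintro _ ⟨f, rfl⟩
    show δ' f ∈ _
    induction f using Polynomial.induction_on' with
    | add p q hp hq => rw [map_add]; exact add_mem hp hq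
    | monomial m a => exact Submodule.subset_span ⟨m, a, rfl⟩
  have hPall : ∀ z, P z := by
    have key : ∀ z, ∀ f : A[X], P (f • z) := by
      intro z
      have hz : z ∈ Submodule.span A[X] (exteriorPower.ιMulti A[X] i ''
          {v | Set.range v ⊆ {ω | ∃ (m : ℕ) (a : A), δ' (monomial m a) = ω}}) := by
        rw [exteriorPower.ιMulti_span_of_span A[X] i (Ω[A[X]⁄R]) hS]
        trivial
      induction hz using Submodule.span_induction with
      | mem _ h =>
        obtain ⟨v, hv, rfl⟩ := h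
        choose m a hma using fun j => hv (Set.mem_range_self j)
        intro f
        induction f using Polynomial.induction_on' with
        | add p q hp hq => rw [add_smul]; exact hPadd _ _ hp hq
        | monomial m₀ a₀ =>
          have := hPgen m₀ a₀ m a
          simpa only [DeRham.gen, hma] using this
      | zero => intro f; rw [smul_zero]; exact hP0
      | add z w _ _ hz hw => intro f; rw [smul_add]; exact hPadd _ _ (hz f) (hw f)
      | smul c z _ hz => intro f; rw [smul_smul]; exact hz _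
    intro z
    simpa using key z 1
  have hy0 : d' i y = 0 := hy
  obtain ⟨N, hN⟩ := hPall y
  refine ⟨ρ i y, by show d i (ρ i y) = 0; rw [← hρd, hy0, map_zero], ?_⟩
  refine Groth.Agent.Synt29.Lie.mem_of_kill (L i) (LinearMap.ker (d' i)) (DeRham.coboundaries d' i) ?_ ?_ N _ ?_ hN
  · intro z hz
    have hz0 : d' i z = 0 := hz
    cases i with
    | zero => show ι' 0 (d' 0 z) = 0; rw [hz0, map_zero]
    | succ i =>
      show ι' (i + 1) (d' (i + 1) z) + d' i (ι' i z) ∈ _
      rw [hz0, map_zero, zero_add]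
      exact ⟨ι' i z, rfl⟩
  · intro z hz
    have hz0 : d' i z = 0 := hz
    cases i with
    | zero => show d' 0 (ι' 0 (d' 0 z)) = 0; rw [hz0, map_zero, map_zero]
    | succ i =>
      show d' (i + 1) (ι' (i + 1) (d' (i + 1) z) + d' i (ι' i z)) = 0
      rw [hz0, map_zero, zero_add]
      exact LinearMap.congr_fun (hd'.2 i) _
  · refine Submodule.sub_mem _ (LinearMap.mem_ker.2 hy0) (LinearMap.mem_ker.2 ?_)
    rw [← hcomm i (ρ i y), ← hρd i y, hy0]
    exact (congrArg (ψ (i + 1)) (ρ (i + 1)).map_zero).trans (ψ (i + 1)).map_zero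


end Groth.Agent.S15536
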