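import Groth.Statements.S1554
import Groth.Agent.FibBound5.Basic

set_option backward.isDefEq.respectTransparency.types false
set_option backward.isDefEq.respectTransparency false
set_option linter.style.haveILetI false
-- import your own Groth.Agent.* helpers here

set_option autoImplicit false
universe u
open CategoryTheory CategoryTheory.Limits AlgebraicGeometry
open Variety

namespace Groth.Agent.S1554

/-- Let f : X → Y be locally of finite type, x a point with image y such that the local ring of Y at y
is Noetherian of dimension at most one, and d a natural number such that the local fibre dimension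
is d at the generic points of the irreducible components of X passing through x. Then the local
dimension at x of the fibre over y equals d. -/
theorem result {X Y : Scheme.{u}} (f : X ⟶ Y) [LocallyOfFiniteType f]
    (x : X) [IsNoetherianRing (Y.presheaf.stalk (f.base x))] (hdimY : ringKrullDim (Y.presheaf.stalk (f.base x)) ≤ 1) (d : ℕ)
    (hgen : ∀ Z ∈ irreducibleComponents (X : Type u), x ∈ Z → ∀ η : X, IsGenericPoint η Z → FlatMor.fibreDimAt f η = d) :
    FlatMor.fibreDimAt f x = d := by
  obtain ⟨η, a, c, hη, hmax, ha, hc, m, hm, hcase⟩ := Groth.Agent.FibBound5.exists_bound_stalk f x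
  have hd := hgen _ (Groth.Agent.FibBound5.closure_mem_irreducibleComponents hmax)
    (specializes_iff_mem_closure.1 hη) η isGenericPoint_closure
  have hge := Groth.Agent.FibDim.fibreDimAt_ge_rd f hη
  rw [← Groth.Agent.FibDim.fibreDimAt_eq_rd f (Groth.Agent.FibDim.fibMax_of_maximal f hmax), hd, hm] at hge
  have hge' : d ≤ m := by exact_mod_cast hge
  rw [ha] at hd
  have had : a = d := by exact_mod_cast hd
  have hc1 : c ≤ 1 := by
    rw [show ringKrullDim (Y.presheaf.stalk (f.base x)) = _ from hc] at hdimY
    exact_mod_cast hdimY
  rw [hm]
  have : m = d := by
    rcases hcase with ⟨-, h2⟩ | h <;> omega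
  rw [this]
  rfl

end Groth.Agent.S1554
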