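import Groth.Statements.S15543
import Groth.Agent.EGA41Lib.ConsX

set_option autoImplicit false
open CategoryTheory AlgebraicGeometry
universe u
open ProCons

namespace Groth.Agent.S15543

/-- The ind-constructible case. Let f : X ⟶ Y be any morphism of schemes and T an ind-constructible
subset of Y (locally on Y a union of locally constructible subsets). Then the preimage of T under f
is ind-constructible in X. -/
theorem result {X Y : Scheme.{u}} (f : X ⟶ Y) (T : Set Y)
    (hT : ProCons.IsIndConstructible T) :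
    ProCons.IsIndConstructible (f.base ⁻¹' T) := by
  rw [EGA41Lib.ind_iff_compl] at hT ⊢
  rw [← Set.preimage_compl]
  refine EGA41Lib.pro_iff.mpr fun V hV => EGA41Lib.cc_affine_of_local hV fun x hx => ?_
  obtain ⟨_, ⟨U, hU, rfl⟩, hxU, -⟩ :=
    Y.isBasis_affineOpens.exists_subset_of_mem_open (Set.mem_univ (f.base x)) isOpen_univ
  obtain ⟨_, ⟨W, hW, rfl⟩, hxW, hWV⟩ :=
    X.isBasis_affineOpens.exists_subset_of_mem_open (show x ∈ V ⊓ f ⁻¹ᵁ U from ⟨hx, hxU⟩) (V ⊓ f ⁻¹ᵁ U).isOpen
  have hWU : W ≤ f ⁻¹ᵁ U := fun y hy => (hWV hy).2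
  exact ⟨W, hW, hxW, fun y hy => (hWV hy).1,
    SpecLib.CC.preimage (ProConsLib.isSpectralMap_of_affine f hU hW hWU) (EGA41Lib.pro_iff.mp hT U hU)⟩

end Groth.Agent.S15543
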