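import Groth.Statements.S15546
import Mathlib

set_option autoImplicit false
open scoped TensorProduct
universe u
open Unram

namespace Groth.Agent.S15546

/-- Let E be a finite extension of a field k which is not separable over k, and K an algebraic closure
of k. Then E ⊗_k K has a nonzero nilpotent element. -/
theorem result (k E K : Type u) [Field k] [Field E]
    [Algebra k E] [FiniteDimensional k E] [Field K] [Algebra k K] [IsAlgClosure k K]
    (h : ¬ Algebra.IsSeparable k E) : ∃ x : E ⊗[k] K, x ≠ 0 ∧ IsNilpotent x := by
  by_contra hne
  push Not at hne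
  apply h
  have hred : IsReduced (K ⊗[k] E) := ⟨fun x hx => by
    have := hne (Algebra.TensorProduct.comm k K E x)
    by_contra hx0
    exact this (by simpa using hx0) (hx.map _)⟩
  have : IsAlgClosed K := IsAlgClosure.isAlgClosed k
  have : IsArtinianRing (K ⊗[k] E) := isArtinian_of_tower K inferInstance
  have : Algebra.FormallyEtale K (K ⊗[k] E) := by
    let _ (m : MaximalSpectrum (K ⊗[k] E)) : Field ((K ⊗[k] E) ⧸ m.asIdeal) := Ideal.Quotient.field _
    have hm : ∀ m : MaximalSpectrum (K ⊗[k] E),
        Algebra.FormallyEtale K ((K ⊗[k] E) ⧸ m.asIdeal) := fun m => by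
      rw [Algebra.FormallyEtale.iff_isSeparable]
      infer_instance
    exact .of_equiv ((IsArtinianRing.equivPi (K ⊗[k] E)).restrictScalars K).symm
  have : Algebra.FormallyUnramified k E :=
    Algebra.FormallyUnramified.of_formallyUnramified_tensorProduct_of_faithfullyFlat K
  exact Algebra.FormallyUnramified.isSeparable k E

end Groth.Agent.S15546
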