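import Groth.Statements.S15547

set_option autoImplicit false
open CategoryTheory AlgebraicGeometry TopologicalSpace
universe u
open Coherent

namespace Groth.Agent.S15547
set_option backward.isDefEq.respectTransparency false
set_option backward.isDefEq.respectTransparency.types false

namespace Aux

variable {Z X : Scheme.{u}} (g : Z ⟶ X)

/-- The map from the stalk of the direct image to the stalk upstairs. -/
noncomputable abbrev toStalk {x : X} (z : Z) (hz : g.base z = x) :
    (g.base _* Z.presheaf).stalk x ⟶ Z.presheaf.stalk z :=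
  ((g.base _* Z.presheaf).stalkCongr (Inseparable.of_eq hz)).inv ≫
    TopCat.Presheaf.stalkPushforward CommRingCat g.base Z.presheaf z

theorem toStalk_germ {x : X} (z : Z) (hz : g.base z = x) (V : X.Opens) (hxV : x ∈ V) (hzV : z ∈ g ⁻¹ᵁ V)
    (s : Γ(Z, g ⁻¹ᵁ V)) :
    (toStalk g z hz).hom (((g.base _* Z.presheaf).germ V x hxV).hom s) = (Z.presheaf.germ (g ⁻¹ᵁ V) z hzV).hom s := by
  subst hz
  show (TopCat.Presheaf.stalkPushforward CommRingCat g.base Z.presheaf z).hom
    (((g.base _* Z.presheaf).stalkSpecializes (specializes_rfl : g.base z ⤳ g.base z)).hom (((g.base _* Z.presheaf).germ V _ hxV).hom s)) = _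
  rw [show ((g.base _* Z.presheaf).stalkSpecializes (specializes_rfl : g.base z ⤳ g.base z)).hom (((g.base _* Z.presheaf).germ V _ hxV).hom s) =
    ((g.base _* Z.presheaf).germ V _ hxV).hom s from (g.base _* Z.presheaf).germ_stalkSpecializes_apply hxV _ s]
  exact congr($(TopCat.Presheaf.stalkPushforward_germ CommRingCat g.base Z.presheaf V z hxV) s)

/-- The ideal attached to a point over `x`. -/
noncomputable abbrev ideal {x : X} (z : Z) (hz : g.base z = x) : Ideal ((g.base _* Z.presheaf).stalk x) :=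
  Ideal.comap (toStalk g z hz).hom (IsLocalRing.maximalIdeal (Z.presheaf.stalk z))

theorem mem_ideal {x : X} (z : Z) (hz : g.base z = x) (V : X.Opens) (hxV : x ∈ V) (hzV : z ∈ g ⁻¹ᵁ V)
    (s : Γ(Z, g ⁻¹ᵁ V)) :
    ((g.base _* Z.presheaf).germ V x hxV).hom s ∈ ideal g z hz ↔ z ∉ Z.basicOpen s := by
  rw [Ideal.mem_comap, toStalk_germ g z hz V hxV hzV s, IsLocalRing.mem_maximalIdeal, mem_nonunits_iff,
    Z.mem_basicOpen s z hzV]

variable [IsFinite g]

/-- The ring map `O_x → (g_* O_Z)_x`. -/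
noncomputable abbrev base (x : X) : X.presheaf.stalk x ⟶ (g.base _* Z.presheaf).stalk x :=
  (TopCat.Presheaf.stalkFunctor CommRingCat x).map g.c

theorem base_germ {x : X} (V : X.Opens) (hxV : x ∈ V) (a : Γ(X, V)) :
    (base g x).hom ((X.presheaf.germ V x hxV).hom a) = ((g.base _* Z.presheaf).germ V x hxV).hom ((g.app V).hom a) :=
  TopCat.Presheaf.stalkFunctor_map_germ_apply V x hxV g.c a

theorem exists_affine_germ {x : X} (c : (g.base _* Z.presheaf).stalk x) {U : X.Opens} (hxU : x ∈ U) :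
    ∃ (V : X.Opens) (_ : IsAffineOpen V) (_ : V ≤ U) (hxV : x ∈ V) (s : Γ(Z, g ⁻¹ᵁ V)),
      ((g.base _* Z.presheaf).germ V x hxV).hom s = c := by
  obtain ⟨W, hxW, s, rfl⟩ := (g.base _* Z.presheaf).exists_germ_eq c
  obtain ⟨V, hV, hxV, hVW⟩ := exists_isAffineOpen_mem_and_subset (X := X) (x := x) (U := W ⊓ U) ⟨hxW, hxU⟩
  have hVW' : V ≤ W := fun p hp => (hVW hp).1
  exact ⟨V, hV, fun p hp => (hVW hp).2, hxV, (g.base _* Z.presheaf).map (homOfLE hVW').op s,
    (g.base _* Z.presheaf).germ_res_apply (homOfLE hVW') x hxV s⟩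

theorem isIntegral_base (x : X) : (base g x).hom.IsIntegral := fun c => by
  obtain ⟨V, hV, -, hxV, s, rfl⟩ := exists_affine_germ g c (U := ⊤) trivial
  obtain ⟨p, hp, hp0⟩ := RingHom.IsIntegral.of_finite (g.finite_app V hV) s
  refine ⟨p.map (X.presheaf.germ V x hxV).hom, hp.map _, ?_⟩
  rw [Polynomial.eval₂_map, show (base g x).hom.comp (X.presheaf.germ V x hxV).hom =
    ((g.base _* Z.presheaf).germ V x hxV).hom.comp (g.app V).hom from RingHom.ext fun a => base_germ g V hxV a]
  refine (Polynomial.hom_eval₂ p (g.app V).hom ((g.base _* Z.presheaf).germ V x hxV).hom s).symm.trans ?_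
  exact (congrArg _ hp0).trans (map_zero _)

theorem isMaximal_ideal {x : X} (z : Z) (hz : g.base z = x) : (ideal g z hz).IsMaximal := by
  haveI : (ideal g z hz).IsPrime := Ideal.comap_isPrime _ _
  refine Ideal.isMaximal_of_isIntegral_of_isMaximal_comap' (base g x).hom (isIntegral_base g x) _ ?_
  have : (ideal g z hz).comap (base g x).hom = IsLocalRing.maximalIdeal (X.presheaf.stalk x) := by
    ext a
    obtain ⟨V, hxV, a, rfl⟩ := X.presheaf.exists_germ_eq a
    have hzV : z ∈ g ⁻¹ᵁ V := by show g.base z ∈ V; rw [hz]; exact hxV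
    rw [Ideal.mem_comap, base_germ, mem_ideal g z hz V hxV hzV, IsLocalRing.mem_maximalIdeal, mem_nonunits_iff,
      ← X.mem_basicOpen a x hxV, ← Scheme.preimage_basicOpen]
    show g.base z ∉ X.basicOpen a ↔ x ∉ X.basicOpen a
    rw [hz]
  rw [this]
  exact IsLocalRing.maximalIdeal.isMaximal _

theorem bijOn (x : X) : Set.BijOn (fun z : {z : Z // g.base z = x} => ideal g z.1 z.2)
    Set.univ {I : Ideal ((g.base _* Z.presheaf).stalk x) | I.IsMaximal} := by
  obtain ⟨U, hU, hxU, -⟩ := exists_isAffineOpen_mem_and_subset (X := X) (x := x) (U := ⊤) trivial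
  let W : Z.Opens := g ⁻¹ᵁ U
  have hW : IsAffineOpen W := hU.preimage g
  have hmemW : ∀ {z : Z}, g.base z = x → z ∈ W := fun {z} hz => by
    show g.base z ∈ U; rw [hz]; exact hxU
  refine ⟨fun z _ => isMaximal_ideal g z.1 z.2, fun z _ z' _ h => ?_, fun M hM => ?_⟩
  · refine Subtype.ext (by_contra fun hne => hne ?_)
    have hspec : hW.primeIdealOf ⟨z.1, hmemW z.2⟩ = hW.primeIdealOf ⟨z'.1, hmemW z'.2⟩ := by
      refine PrimeSpectrum.ext (Ideal.ext fun s => not_iff_not.mp ?_)
      rw [← PrimeSpectrum.mem_basicOpen, ← PrimeSpectrum.mem_basicOpen, ← hW.fromSpec_preimage_basicOpen]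
      show hW.fromSpec _ ∈ Z.basicOpen s ↔ hW.fromSpec _ ∈ Z.basicOpen s
      rw [hW.fromSpec_primeIdealOf, hW.fromSpec_primeIdealOf]
      have h1 := mem_ideal g z.1 z.2 U hxU (hmemW z.2) s
      rw [show ideal g z.1 z.2 = ideal g z'.1 z'.2 from h, mem_ideal g z'.1 z'.2 U hxU (hmemW z'.2) s] at h1
      exact (not_iff_not.mp h1).symm
    have := congrArg hW.fromSpec hspec
    rwa [hW.fromSpec_primeIdealOf, hW.fromSpec_primeIdealOf] at this
  · haveI : M.IsMaximal := hM
    let γ : Γ(Z, W) →+* (g.base _* Z.presheaf).stalk x := ((g.base _* Z.presheaf).germ U x hxU).hom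
    let P : PrimeSpectrum Γ(Z, W) := ⟨M.comap γ, Ideal.comap_isPrime γ M⟩
    let z : Z := hW.fromSpec P
    have hzW : z ∈ W := hW.range_fromSpec.le ⟨P, rfl⟩
    have hzs : ∀ s : Γ(Z, W), z ∈ Z.basicOpen s ↔ γ s ∉ M := fun s => by
      show P ∈ hW.fromSpec ⁻¹ᵁ Z.basicOpen s ↔ _
      rw [hW.fromSpec_preimage_basicOpen]
      rfl
    have hmax : M.comap (base g x).hom = IsLocalRing.maximalIdeal (X.presheaf.stalk x) :=
      IsLocalRing.eq_maximalIdeal (Ideal.isMaximal_comap_of_isIntegral_of_isMaximal' _ (isIntegral_base g x) M)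
    have hxa : ∀ a : Γ(X, U), g.base z ∈ X.basicOpen a ↔ x ∈ X.basicOpen a := fun a => by
      show z ∈ g ⁻¹ᵁ X.basicOpen a ↔ _
      rw [Scheme.preimage_basicOpen, hzs, X.mem_basicOpen a x hxU]
      show ((g.base _* Z.presheaf).germ U x hxU).hom ((g.app U).hom a) ∉ M ↔ _
      rw [← base_germ g U hxU, ← Ideal.mem_comap, hmax, IsLocalRing.mem_maximalIdeal, mem_nonunits_iff, not_not]
    have hzx : g.base z = x := by
      have hgz : g.base z ∈ U := hzW
      have h1 : hU.primeIdealOf ⟨g.base z, hgz⟩ = hU.primeIdealOf ⟨x, hxU⟩ := by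
        refine PrimeSpectrum.ext (Ideal.ext fun a => not_iff_not.mp ?_)
        rw [← PrimeSpectrum.mem_basicOpen, ← PrimeSpectrum.mem_basicOpen, ← hU.fromSpec_preimage_basicOpen]
        show hU.fromSpec _ ∈ X.basicOpen a ↔ hU.fromSpec _ ∈ X.basicOpen a
        rw [hU.fromSpec_primeIdealOf, hU.fromSpec_primeIdealOf]
        exact hxa a
      have := congrArg hU.fromSpec h1
      rwa [hU.fromSpec_primeIdealOf, hU.fromSpec_primeIdealOf] at this
    refine ⟨⟨z, hzx⟩, trivial, ((isMaximal_ideal g z hzx).eq_of_le ‹M.IsMaximal›.ne_top fun c hc => ?_)⟩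
    obtain ⟨V, hV, hVU, hxV, s, rfl⟩ := exists_affine_germ g c hxU
    obtain ⟨a, haV, hxa'⟩ := hU.exists_basicOpen_le (V := V) ⟨x, hxV⟩ hxU
    have hle : X.basicOpen a ≤ U := X.basicOpen_le a
    have hWloc : IsLocalization.Away (g.app U a) Γ(Z, Z.basicOpen (g.app U a)) := hW.isLocalization_basicOpen _
    have he : g ⁻¹ᵁ X.basicOpen a = Z.basicOpen (g.app U a) := Scheme.preimage_basicOpen g a
    let s' : Γ(Z, Z.basicOpen (g.app U a)) := Z.presheaf.map (homOfLE (he.ge.trans (g.preimage_mono haV))).op s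
    obtain ⟨⟨b, ⟨_, k, rfl⟩⟩, hb⟩ := IsLocalization.surj (Submonoid.powers (g.app U a)) s'
    have hcb : ((g.base _* Z.presheaf).germ V x hxV).hom s * γ ((g.app U a) ^ k) = γ b := by
      rw [← (g.base _* Z.presheaf).germ_res_apply (homOfLE haV) x hxa' s,
        show γ ((g.app U a) ^ k) = _ from ((g.base _* Z.presheaf).germ_res_apply (homOfLE hle) x hxa' _).symm,
        show γ b = _ from ((g.base _* Z.presheaf).germ_res_apply (homOfLE hle) x hxa' b).symm, ← map_mul]
      refine congrArg _ ?_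
      have hinj : Function.Injective (Z.presheaf.map (eqToHom he.symm).op) :=
        (ConcreteCategory.bijective_of_isIso _).1
      refine hinj ?_
      rw [map_mul]
      show Z.presheaf.map (eqToHom he.symm).op (Z.presheaf.map (homOfLE (g.preimage_mono haV)).op s) *
        Z.presheaf.map (eqToHom he.symm).op (Z.presheaf.map (homOfLE (g.preimage_mono hle)).op ((g.app U a) ^ k)) =
        Z.presheaf.map (eqToHom he.symm).op (Z.presheaf.map (homOfLE (g.preimage_mono hle)).op b)
      simp only [← ConcreteCategory.comp_apply, ← Functor.map_comp]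
      exact hb
    have hu : γ ((g.app U a) ^ k) ∉ M := by
      intro h
      rw [map_pow] at h
      exact (hzs _).mp (by rw [← Scheme.preimage_basicOpen]; exact (hxa a).mpr hxa') (‹M.IsMaximal›.isPrime.mem_of_pow_mem k h)
    have hbI : γ b ∈ ideal g z hzx := by rw [← hcb]; exact Ideal.mul_mem_right _ _ hc
    have hbM : γ b ∈ M := by
      by_contra hbM
      exact (mem_ideal g z hzx U hxU hzW b).mp hbI ((hzs b).mpr hbM)
    rw [← hcb] at hbM
    exact ((‹M.IsMaximal›.isPrime).mem_or_mem hbM).resolve_right hu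

end Aux


/-- Let g : Z ⟶ X be a finite morphism of schemes (Z is the spectrum of the finite quasi-coherent
O_X-algebra C = g_*O_Z) and x a point of X. Then the points of Z over x correspond bijectively to
the maximal ideals of the stalk C_x = (g_*O_Z)_x: the map sending z with g(z) = x to the preimage of
the maximal ideal of O_{Z,z} under the canonical map (g_*O_Z)_x ⟶ O_{Z,z} is a bijection from the
fibre onto the set of maximal ideals. -/
theorem result {Z X : Scheme.{u}} (g : Z ⟶ X)
    [IsFinite g] (x : X) :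
    Set.BijOn (fun z : {z : Z // g.base z = x} =>
        Ideal.comap (((g.base _* Z.presheaf).stalkCongr (Inseparable.of_eq z.2)).inv ≫
            TopCat.Presheaf.stalkPushforward CommRingCat g.base Z.presheaf z.1).hom
          (IsLocalRing.maximalIdeal (Z.presheaf.stalk z.1)))
      Set.univ {I : Ideal ((g.base _* Z.presheaf).stalk x) | I.IsMaximal} := by
  exact Aux.bijOn g x

end Groth.Agent.S15547
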