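import Groth.Agent.TorBridge.KerNat
import Groth.Statements.S15548
-- import your own Groth.Agent.* helpers here

set_option autoImplicit false
universe u
open CategoryTheory
open CAlg

namespace Groth.Agent.S15548

open Groth.Agent TensorProduct

lemma aux {R : Type u} [CommRing R] {F : Type u} [AddCommGroup F] [Module R F] (K : Submodule R F)
    (I : Ideal R) (n j : ℕ) (h : I ^ (n + j) ≤ I ^ n)
    (hj : ∀ m ≥ j, I ^ m • (⊤ : Submodule R F) ⊓ K = I ^ (m - j) • (I ^ j • ⊤ ⊓ K))
    (w : K ⊗[R] (R ⧸ I ^ (n + j))) (hker : K.subtype.rTensor (R ⧸ I ^ (n + j)) w = 0) :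
    (Submodule.factor h).lTensor K w = 0 := by
  obtain ⟨x, hx⟩ := Submodule.Quotient.mk_surjective _
    (TensorProduct.tensorQuotEquivQuotSMul K (I ^ (n + j)) w)
  obtain rfl : x ⊗ₜ[R] (1 : R ⧸ I ^ (n + j)) = w := by
    rw [← TensorProduct.tensorQuotEquivQuotSMul_symm_mk, hx, LinearEquiv.symm_apply_apply]
  rw [LinearMap.rTensor_tmul, ← TensorProduct.tensorQuotEquivQuotSMul_symm_mk, LinearEquiv.map_eq_zero_iff,
    Submodule.Quotient.mk_eq_zero] at hker
  have hmem : (x : F) ∈ I ^ n • K := by
    have h' : (x : F) ∈ I ^ (n + j) • (⊤ : Submodule R F) ⊓ K := ⟨hker, x.2⟩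
    rw [hj (n + j) (Nat.le_add_left j n), Nat.add_sub_cancel] at h'
    exact Submodule.smul_mono le_rfl inf_le_right h'
  have hx0 : x ∈ I ^ n • (⊤ : Submodule R K) := by
    have : (x : F) ∈ (I ^ n • (⊤ : Submodule R K)).map K.subtype := by
      rw [Submodule.map_smul'', Submodule.map_subtype_top]
      exact hmem
    obtain ⟨y, hy, hyx⟩ := this
    exact K.injective_subtype hyx ▸ hy
  rw [LinearMap.lTensor_tmul, show Submodule.factor h (1 : R ⧸ I ^ (n + j)) = (1 : R ⧸ I ^ n) from rfl,
    ← TensorProduct.tensorQuotEquivQuotSMul_symm_mk, (Submodule.Quotient.mk_eq_zero _).2 hx0, map_zero]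

/-- Let R be a Noetherian commutative ring, I an ideal of R and M a finitely generated R-module. Then
for every natural number n there is m ≥ n such that the map Tor_1^R(M, R/I^m) → Tor_1^R(M, R/I^n)
induced by the projection R/I^m → R/I^n is the zero map. Here Tor_1^R(M, -) is the first left
derived functor of M ⊗_R - (derived in the second variable). -/
theorem result (R : Type u) [CommRing R] [IsNoetherianRing R] (I : Ideal R)
    (M : Type u) [AddCommGroup M] [Module R M] [Module.Finite R M] (n : ℕ) :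
    ∃ m : ℕ, n ≤ m ∧ ∀ h : I ^ m ≤ I ^ n,
      ((CategoryTheory.Tor (ModuleCat.{u} R) 1).obj (ModuleCat.of R M)).map
        (ModuleCat.ofHom (Submodule.factor h)) = 0 := by
  obtain ⟨N, p, hp⟩ := Module.Finite.exists_fin' R M
  let S : ShortComplex (ModuleCat.{u} R) := ShortComplex.mk (ModuleCat.ofHom (LinearMap.ker p).subtype)
    (ModuleCat.ofHom p) (ModuleCat.hom_ext (LinearMap.ext fun x => x.2))
  have hS : S.ShortExact :=
    { exact := (ShortComplex.ShortExact.moduleCat_exact_iff_function_exact _).2 (LinearMap.exact_subtype_ker_map p)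
      mono_f := (ModuleCat.mono_iff_injective _).2 (LinearMap.ker p).injective_subtype
      epi_g := (ModuleCat.epi_iff_surjective _).2 hp }
  haveI : Module.Flat R S.X₂ := (inferInstance : Module.Flat R (Fin N → R))
  obtain ⟨j, hj⟩ := I.exists_pow_inf_eq_pow_smul (LinearMap.ker p)
  refine ⟨n + j, Nat.le_add_right n j, fun h => ?_⟩
  ext z
  apply TorBridge.KerNat.θ_injective hS (ModuleCat.of R (R ⧸ I ^ n))
  refine Eq.trans ?_ (map_zero (TorBridge.KerNat.θ hS (ModuleCat.of R (R ⧸ I ^ n))).hom).symm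
  have hnat := congrArg (fun φ => φ.hom z) (TorBridge.KerNat.θ_natural hS
    (ModuleCat.ofHom (Submodule.factor h)))
  refine hnat.trans ?_
  exact aux (LinearMap.ker p) I n j h hj _
    ((TorBridge.KerNat.θ_range hS (ModuleCat.of R (R ⧸ I ^ (n + j))) _).2 ⟨z, rfl⟩)

end Groth.Agent.S15548
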