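import Groth.Statements.S15549
import Groth.Agent.GrLib8.AlphaKer
-- import your own Groth.Agent.* helpers here

set_option autoImplicit false
universe u
open CategoryTheory AlgebraicGeometry
open LocCoh

namespace Groth.Agent.S15549

/-- Let R be a Noetherian commutative ring, positively graded by additive subgroups R_d, with irrelevant
ideal R_+ and X = Proj R, and let M be a graded R-module which is the direct sum of its pieces M_i,
i ≥ 0 (non-negatively graded here). For every i and every m ∈ M_i, the global section of M(i)~
defined by m (the value m/1 at every point) is zero if and only if some power of R_+ annihilates m.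
Equivalently, degree by degree, the kernel of the canonical map from M to the direct sum over all n
of Γ(X, M(n)~) is the R_+-power-torsion submodule H^0_{R_+}(M). -/
theorem result {R σ : Type u} [CommRing R] [IsNoetherianRing R] [SetLike σ R] [AddSubgroupClass σ R]
    (𝒜 : ℕ → σ) [GradedRing 𝒜] {M τ : Type u} [AddCommGroup M] [Module R M] [SetLike τ M] [AddSubgroupClass τ M]
    (ℳ : ℕ → τ) [SetLike.GradedSMul 𝒜 ℳ] [DirectSum.Decomposition ℳ]
    (i : ℕ) (m : ℳ i) :
    GrMod.alpha 𝒜 ℳ i m = 0 ↔
      ∃ k : ℕ, ∀ r : R, r ∈ (HomogeneousIdeal.irrelevant 𝒜).toIdeal ^ k → r • (m : M) = 0 := by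
  exact Groth.Agent.GrLib8.AlphaKer.alpha_eq_zero_iff m

end Groth.Agent.S15549
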