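import Groth.Statements.S15550
import Groth.Agent.GrLib8.SerreCorr.H1
import Groth.Agent.GrLib8.GrInter.NatInt
import Groth.Agent.GrLib8.LocalCoh
import Groth.Agent.Proj16.Points
import Groth.Agent.S13215

set_option autoImplicit false
universe u
open CategoryTheory AlgebraicGeometry Opposite
open LocCoh

namespace Groth.Agent.S15550

open DirectSum in
theorem aux {N : ℤ → Type u} [∀ n, AddCommGroup (N n)] {H : Type u} [AddCommGroup H] (δ : ∀ n, N n →+ H)
    (C : AddSubgroup (DirectSum ℤ N)) (hspan : ∀ w, w ∈ ⨆ n, (δ n).range)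
    (hC : C ≤ (DirectSum.toAddMonoid δ).ker) (hind : ∀ (t : Finset ℤ) (s : ∀ n, N n), ∑ n ∈ t, δ n (s n) = 0 →
      ∀ n ∈ t, δ n (s n) = 0) (hker : ∀ n s, δ n s = 0 → DirectSum.of N n s ∈ C) :
    Nonempty ((DirectSum ℤ N ⧸ C) ≃+ H) := by
  classical
  have hsurj : Function.Surjective (DirectSum.toAddMonoid δ) := fun w => by
    have : (⨆ n, (δ n).range) ≤ (DirectSum.toAddMonoid δ).range := iSup_le fun n => by
      rintro _ ⟨s, rfl⟩
      exact ⟨DirectSum.of N n s, DirectSum.toAddMonoid_of δ n s⟩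
    exact this (hspan w)
  have hC' : C = (DirectSum.toAddMonoid δ).ker := by
    refine le_antisymm hC fun f hf => ?_
    have hsum : ∑ n ∈ DFinsupp.support f, δ n (f n) = 0 := by
      have h := AddMonoidHom.mem_ker.1 hf
      rw [← DirectSum.sum_support_of f, map_sum] at h
      simpa only [DirectSum.toAddMonoid_of] using h
    rw [← DirectSum.sum_support_of f]
    exact AddSubgroup.sum_mem _ fun n hn => hker n _ (hind _ _ hsum n hn)
  exact ⟨(QuotientAddGroup.quotientAddEquivOfEq hC').trans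
    (QuotientAddGroup.quotientKerEquivOfSurjective _ hsurj)⟩

/-- Let R be a Noetherian commutative ring, positively graded by additive subgroups R_d, with irrelevant
ideal R_+ and X = Proj R, and let M be a graded R-module which is the direct sum of its pieces M_i,
i ≥ 0 (non-negatively graded here). Consider the canonical map from M to the direct sum over all
integers n of the groups of global sections Γ(X, M(n)~), which on M_i is m ↦ m/1. Its cokernel — the
quotient of that direct sum by the subgroup generated by the images of all the M_i — is isomorphic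
to the first local cohomology module H^1_{R_+}(M) of M with support in R_+. Together with the
description of the kernel as H^0_{R_+}(M) this is the four-term exact sequence 0 → H^0_{R_+}(M) → M
→ ⊕_n Γ(X, M(n)~) → H^1_{R_+}(M) → 0. (The published statement's isomorphism is canonical and linear
over R_0; this row asserts only the existence of an additive isomorphism.) -/
theorem result {R σ : Type u} [CommRing R] [IsNoetherianRing R] [SetLike σ R] [AddSubgroupClass σ R]
    (𝒜 : ℕ → σ) [GradedRing 𝒜] {M τ : Type u} [AddCommGroup M] [Module R M] [SetLike τ M] [AddSubgroupClass τ M]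
    (ℳ : ℕ → τ) [SetLike.GradedSMul 𝒜 ℳ] [DirectSum.Decomposition ℳ] :
    Nonempty ((DirectSum ℤ (fun n : ℤ => ((GrMod.tilde 𝒜 ℳ n).val.obj (op ⊤) : Type u)) ⧸
        AddSubgroup.closure (⋃ i : ℕ, Set.range (fun m : ℳ i =>
          DirectSum.of (fun n : ℤ => ((GrMod.tilde 𝒜 ℳ n).val.obj (op ⊤) : Type u)) (i : ℤ)
            (GrMod.alpha 𝒜 ℳ i m)))) ≃+
      LocCoh.H (HomogeneousIdeal.irrelevant 𝒜).toIdeal 1 M) := by
  classical
  letI := GrLib8.GrInter.extRing 𝒜
  letI := GrLib8.GrInter.extDec ℳ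
  haveI : SetLike.GradedSMul (GrLib8.GrInter.ext 𝒜) (GrLib8.GrInter.ext ℳ) :=
    ⟨fun _ _ _ _ ha hx => GrLib8.GrInter.ext_smul_mem ℳ 𝒜 smul_zero (zero_smul R) ha hx⟩
  haveI : SetLike.GradedSMul 𝒜 fun n : ℕ => GrLib8.GrInter.ext ℳ (n : ℤ) :=
    ⟨fun _ _ _ _ ha hx => SetLike.GradedSMul.smul_mem (A := 𝒜) (B := ℳ) ha hx⟩
  obtain ⟨E⟩ := S13215.result R (GrLib8.GrInter.ext 𝒜) M (GrLib8.GrInter.ext ℳ)
  haveI : ∀ p, SetLike.GradedSMul 𝒜 fun n : ℕ => (E.X p).gr (n : ℤ) := fun p =>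
    ⟨fun {i j c x} hc hx => by
      show c • x ∈ (E.X p).gr ((i + j : ℕ) : ℤ)
      rw [Nat.cast_add]
      exact SetLike.GradedSMul.smul_mem (A := GrLib8.GrInter.ext 𝒜) (B := (E.X p).gr)
        (show c ∈ GrLib8.GrInter.ext 𝒜 (i : ℤ) from hc) hx⟩
  haveI : AlgebraicGeometry.IsNoetherian (Proj 𝒜) := Proj16.isNoetherian_proj _
  obtain ⟨δ, hker, hspan, hind⟩ := GrLib8.SerreCorr.exists_deltas (𝒜 := 𝒜)
    (fun _ _ => GrLib8.GrInter.mem_ext_natCast 𝒜)
    (fun _ hz _ hc => GrLib8.GrInter.eq_zero_of_neg 𝒜 hz hc) E (GrLib8.GrInter.irrel_ext 𝒜)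
  obtain ⟨e⟩ := GrLib8.nonempty_H_equiv _ E (GrSyz.irrel (GrLib8.GrInter.ext 𝒜)) 1
  let tr : ∀ n : ℤ, Γ(GrMod.tilde 𝒜 ℳ n, (⊤ : (Proj 𝒜).Opens)) →+
      Γ(GrMod.tilde 𝒜 (fun i : ℕ => GrLib8.GrInter.ext ℳ (i : ℤ)) n, (⊤ : (Proj 𝒜).Opens)) := fun n =>
    ((GrMod.map 𝒜 (ℳ := ℳ) (𝒩 := fun i : ℕ => GrLib8.GrInter.ext ℳ (i : ℤ)) LinearMap.id
      (fun _ _ h => h) n).app ⊤).hom
  have htr : ∀ n s (y : (⊤ : (Proj 𝒜).Opens)), GrMod.val (tr n s) y = GrMod.val s y := fun n s y => by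
    refine (GrMod.map_app_val _ _ n ⊤ s y).trans ?_
    induction GrMod.val s y using LocalizedModule.induction_on with
    | h m t => exact GrMod.locMap_mk _ y.1 m t
  have hsurj : ∀ n, Function.Surjective (tr n) := fun n s => by
    refine ⟨(GrMod.map 𝒜 (ℳ := fun i : ℕ => GrLib8.GrInter.ext ℳ (i : ℤ)) (𝒩 := ℳ) LinearMap.id
      (fun _ _ h => h) n).app ⊤ s, GrModX.ext_val 𝒜 _ fun y => ((htr n _ y).trans (GrMod.map_app_val _ _ n ⊤ s y)).trans ?_⟩
    induction GrMod.val s y using LocalizedModule.induction_on with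
    | h m t => exact GrMod.locMap_mk _ y.1 m t
  have hinj : ∀ n, Function.Injective (tr n) := fun n s t h => GrModX.ext_val 𝒜 ℳ fun y =>
    ((htr n s y).symm.trans (congrArg (fun v => GrMod.val v y) h)).trans (htr n t y)
  have key := aux (N := fun n : ℤ => ((GrMod.tilde 𝒜 ℳ n).val.obj (op ⊤) : Type u))
    (fun n => e.toAddEquiv.toAddMonoidHom.comp ((δ n).comp (tr n)))
    (AddSubgroup.closure (⋃ i : ℕ, Set.range (fun m : ℳ i =>
      DirectSum.of (fun n : ℤ => ((GrMod.tilde 𝒜 ℳ n).val.obj (op ⊤) : Type u)) (i : ℤ)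
        (GrMod.alpha 𝒜 ℳ i m)))) (fun w => ?_) ?_ ?_ (fun n s hs => ?_)
  · rw [GrLib8.GrInter.irrel_ext] at key
    exact key
  · obtain ⟨v, rfl⟩ := e.toAddEquiv.surjective w
    refine AddSubgroup.iSup_induction _ (C := fun v => e.toAddEquiv v ∈ _) (hspan v) ?_ ?_ ?_
    · rintro n _ ⟨s, rfl⟩
      obtain ⟨s', rfl⟩ := hsurj n s
      exact AddSubgroup.mem_iSup_of_mem n ⟨s', rfl⟩
    · show e.toAddEquiv 0 ∈ _
      rw [map_zero]; exact zero_mem _
    · intro x y hx hy
      show e.toAddEquiv (x + y) ∈ _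
      rw [map_add]; exact add_mem hx hy
  · refine (AddSubgroup.closure_le _).2 ?_
    rintro _ ⟨_, ⟨i, rfl⟩, m, rfl⟩
    refine AddMonoidHom.mem_ker.2 ((DirectSum.toAddMonoid_of _ _ _).trans ?_)
    refine (congrArg e.toAddEquiv ((hker (i : ℤ) _).2 ⟨m.1, m.2, GrModX.ext_val 𝒜 _ fun y => ?_⟩)).trans
      (map_zero e.toAddEquiv)
    exact (htr (i : ℤ) _ y).symm
  · intro t s hsum n hn
    refine (congrArg e.toAddEquiv (hind t (fun n => tr n (s n)) ?_ n hn)).trans (map_zero e.toAddEquiv)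
    exact e.toAddEquiv.injective ((map_sum e.toAddEquiv _ _).trans (hsum.trans (map_zero e.toAddEquiv).symm))
  · obtain ⟨m, hm, hms⟩ := (hker n _).1 (e.toAddEquiv.injective (hs.trans (map_zero e.toAddEquiv).symm))
    rcases n with i | i
    · refine AddSubgroup.subset_closure (Set.mem_iUnion.2 ⟨i, ⟨m, hm⟩, ?_⟩)
      refine congrArg (DirectSum.of _ _) (hinj _ (Eq.trans (GrModX.ext_val 𝒜 _ fun y => ?_) hms))
      exact htr _ _ y
    · have h0 : m = 0 := hm
      have : s = 0 := hinj _ (hms.symm.trans (Eq.trans (GrModX.ext_val 𝒜 _ fun y => by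
        subst h0
        exact LocalizedModule.zero_mk _) (map_zero (tr (Int.negSucc i))).symm))
      rw [this, map_zero]
      exact zero_mem _

end Groth.Agent.S15550
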