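import Groth.Statements.S15551
import Groth.Agent.CurveInAV.Slice
import Groth.Agent.Pi1X.NormalCover
import Groth.Agent.GrpSchLib.IsogSub

set_option autoImplicit false
set_option backward.isDefEq.respectTransparency false
set_option backward.isDefEq.respectTransparency.types false
set_option linter.style.haveILetI false
universe u
open CategoryTheory CategoryTheory.Limits AlgebraicGeometry
open Pi1

namespace Groth.Agent.S15551

/-- Let k be an algebraically closed field and X an integral normal scheme (all local rings integrally
closed domains), proper over k and of dimension at least 2, with an ample invertible module L; let s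
be a nonzero global section of L, given as a monomorphism O_X → L, and D = Z(s) ⊆ X its zero scheme
(the support of an effective ample divisor). Then for every finite étale cover Y → X with Y
connected, the fibre product Y ×_X D is connected. This is the statement that the étale fundamental
group of D maps onto that of X. (The published statement takes X projective over k; this row takes X
proper over k with an ample invertible module, which is equivalent.) -/
theorem result (k : Type u) [Field k] [IsAlgClosed k]
    (X : Scheme.{u}) (f : X ⟶ Spec (CommRingCat.of k)) [IsProper f] [IsIntegral X] (hN : Pi1.IsNormalScheme X)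
    (hdim : (2 : WithBot ℕ∞) ≤ topologicalKrullDim X)
    (L : X.Modules) (hL : CohB1.IsAmple L) (s : Coh.structureModule X ⟶ L) (hs : Mono s)
    (Y : FEt.Cat X) [ConnectedSpace Y.left] :
    ConnectedSpace ↥(pullback Y.hom (PicF2.zeroScheme L s).subschemeι) := by
  obtain ⟨hfin, het⟩ := Y.prop
  let π : Y.left ⟶ X := Y.hom
  haveI : IsFinite π := hfin
  haveI : Etale π := het
  haveI := Pi1X.isIntegral_of_connected hN π
  haveI : Surjective π := ⟨fun x => (IsClopen.eq_univ ⟨π.isClosedMap.isClosed_range, π.isOpenMap.isOpen_range⟩
      (Set.range_nonempty _)).ge (Set.mem_univ x)⟩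
  have hdY : (2 : WithBot ℕ∞) ≤ topologicalKrullDim Y.left := by
    rw [GrpSchLib.IsogSub.topologicalKrullDim_eq_of_isIntegralHom π]
    exact hdim
  have e : InvX.ofSect (InvX.one s) = s := AVAmple.ofSect_one s
  have hs0 : InvX.one s ≠ 0 := fun h0 => by
    have hs' : s = 0 := Scheme.Modules.hom_ext _ _ (fun U => ConcreteCategory.hom_ext _ _ fun r => by
      refine (InvX.app_eq_smul s r).trans ?_
      rw [h0, show AModX.res L (le_top : U ≤ ⊤) 0 = 0 from map_zero _]
      exact smul_zero (show Γ(X, U) from r))
    have h1 : 𝟙 (Coh.structureModule X) = 0 := hs.right_cancellation _ _ (by rw [hs', comp_zero, comp_zero])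
    haveI : Nonempty (⊤ : X.Opens) := ⟨⟨genericPoint X, trivial⟩⟩
    exact one_ne_zero (α := Γ(X, ⊤))
      (congrArg (fun m : Coh.structureModule X ⟶ Coh.structureModule X =>
        (show Γ(X, ⊤) from m.app ⊤ (show Γ(Coh.structureModule X, ⊤) from (1 : Γ(X, ⊤))))) h1)
  obtain ⟨x₀, hx₀⟩ := (TopologicalSpace.Opens.ne_bot_iff_nonempty _).1 (H23.TrivBasic.locus_ne_bot hL.1 hs0)
  obtain ⟨w, hw⟩ := π.surjective x₀
  haveI : CompactSpace Y.left := QuasiCompact.compactSpace_of_compactSpace (π ≫ f)
  have hconn := S16202.isConnected_zero k (π ≫ f) hdY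
    (AmpleVan.FiniteSurj.isAmple_pullback_of_isAffineHom π hL)
    (CurveInAV.pullElt_ne_zero hL.1 π (InvX.one s) w (by rw [hw]; exact hx₀))
  rw [H23.TrivBasic.locus_pullElt hL.1 π (InvX.one s)] at hconn
  have hr : Set.range (pullback.fst π (PicF2.zeroScheme L s).subschemeι) =
      ((π ⁻¹ᵁ H23.TrivBasic.locus (InvX.one s) : Y.left.Opens) : Set Y.left)ᶜ := by
    rw [Scheme.Pullback.range_fst, Scheme.IdealSheafData.range_subschemeι, ← e, S16202.coe_support hL.1, e]
    rfl
  rw [← hr] at hconn
  haveI := isConnected_iff_connectedSpace.1 hconn
  have hind := (pullback.fst π (PicF2.zeroScheme L s).subschemeι).isClosedEmbedding.isEmbedding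
  exact hind.toHomeomorph.symm.surjective.connectedSpace hind.toHomeomorph.symm.continuous

end Groth.Agent.S15551
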