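import Groth.Statements.S15555
import Groth.Agent.ZetaLib.Tangent

set_option autoImplicit false
universe u
open CategoryTheory AlgebraicGeometry
open Zeta

namespace Groth.Agent.S15555

open Groth.Agent

/-- Let k be a finite field with q elements and n ≥ 1 a natural number; in the 2n + 2 variables X_0, …,
X_n, Y_0, …, Y_n (indexed by Fin (n+1) ⊕ Fin (n+1), the left summand carrying the X_i) let F = Σ_i
(X_i Y_i^q − Y_i X_i^q), a form of degree q + 1 defining the hypersurface Hyp ⊂ P^{2n+1}_k. Then no
hyperplane of P^{2n+1}_k defined over k meets Hyp transversally: for every linear form L = Σ_v c_v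
x_v with a nonzero coefficient vector c over k, the scheme-theoretic intersection Hyp ∩ (L = 0) ⊂
P^{2n+1}_k is not smooth over k. The intersection is presented through the standard open pieces of
its affine cone: with R = k[X, Y]/(F, L), the piece x_w ≠ 0 of the cone Spec R is (Hyp ∩ (L = 0) ∩
D₊(x_w)) × 𝔾_m, so Hyp ∩ (L = 0) is smooth over k exactly when every localisation R[1/x_w] is a
smooth k-algebra, and the row states that not all of them are. (The published example is stated for
every n ≥ 0; for n = 0 the hypersurface is the set of the q + 1 rational points of P^1_k, it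
contains every rational point H, and Hyp ∩ H = H is a reduced point, smooth over k; so this row
takes n ≥ 1, where no rational hyperplane is contained in Hyp and each one is tangent to Hyp at a
rational point, at which the intersection is singular.) -/
theorem result (k : Type u) [Field k] [Fintype k] (n : ℕ) (hn : 1 ≤ n)
    (F L : MvPolynomial (Fin (n + 1) ⊕ Fin (n + 1)) k)
    (hF : F = ∑ i : Fin (n + 1), (MvPolynomial.X (Sum.inl i) * MvPolynomial.X (Sum.inr i) ^ Fintype.card k -
      MvPolynomial.X (Sum.inr i) * MvPolynomial.X (Sum.inl i) ^ Fintype.card k))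
    (c : Fin (n + 1) ⊕ Fin (n + 1) → k) (hc : c ≠ 0)
    (hL : L = ∑ v, MvPolynomial.C (c v) * MvPolynomial.X v) :
    ¬ ∀ w : Fin (n + 1) ⊕ Fin (n + 1),
      Smooth (Spec.map (CommRingCat.ofHom (algebraMap k
        (Localization.Away (Ideal.Quotient.mk (Ideal.span {F, L}) (MvPolynomial.X w)))))) := by

  exact ZetaLib.Tangent.not_smooth hn F L hF c hc hL

end Groth.Agent.S15555
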