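import Groth.Statements.S1855
import Groth.Agent.CycLib.DivPushAll
-- import your own Groth.Agent.* helpers here

set_option autoImplicit false
universe u
open CategoryTheory AlgebraicGeometry
open Cyc

namespace Groth.Agent.S1855

/-- Proper pushforward preserves rational equivalence: for p : X → Y proper and k-cycles α, β on X that
are rationally equivalent, p_*α and p_*β are rationally equivalent k-cycles on Y. Here a pair (X, δ)
with Cyc.IsSetup plays the role of a scheme locally of finite type over a fixed base with a
dimension function (X locally Noetherian with universally catenary local rings, δ a dimension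
function), and Cyc.DeltaCompat records that the dimension function upstairs is the induced one. -/
theorem result (X Y : Scheme.{u}) (δX : X → ℤ) (δY : Y → ℤ) (hX : Cyc.IsSetup X δX) (hY : Cyc.IsSetup Y δY) (p : X ⟶ Y) [IsProper p] (hδ : Cyc.DeltaCompat p δX δY) (k : ℤ) (α β : AlgebraicCycle X ℤ) (hα : α ∈ Cyc.Zk X δX k) (hβ : β ∈ Cyc.Zk X δX k) (h : Cyc.RatEquiv δX k α β) : Cyc.RatEquiv δY k (AlgebraicCycle.map p δX δY α) (AlgebraicCycle.map p δX δY β) := by
  exact Groth.Agent.CycLib.ratEquiv_map p hX hY hδ h

end Groth.Agent.S1855
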