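import Groth.Statements.S15556
import Groth.Agent.S1868
import Groth.Agent.S1855
import Groth.Agent.CycLib.MayerVietoris
import Mathlib.FieldTheory.PurelyInseparable.Basic
-- import your own Groth.Agent.* helpers here

set_option autoImplicit false
set_option backward.isDefEq.respectTransparency false
set_option backward.isDefEq.respectTransparency.types false
set_option linter.style.haveILetI false
universe u
open CategoryTheory AlgebraicGeometry
open CategoryTheory.Limits
open Cyc

namespace Groth.Agent.S15556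

/-- Let k be a field of characteristic p > 0, E a finite purely inseparable field extension of k, X a
separated scheme of finite type over k, X' = X ×_k E with projection f : X' → X (any pullback
square), δ a dimension function on X making (X, δ) a cycle setup (X locally Noetherian with
universally catenary local rings) and δ' the induced dimension function on X' (so (X', δ') is a
cycle setup and δ' is compatible with δ along f, which has relative dimension 0). Then flat pullback
of cycles along f induces a bijection of Chow groups of i-cycles after inverting p, in the following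
two-sided sense: for every i-cycle β on X' there are an i-cycle α on X, an i-cycle α' on X' with the
flat-pullback coefficients of α, and an exponent s with [α'] = p^s · [β] in CH_i(X'); and for every
i-cycle α on X and every i-cycle α' on X' with the flat-pullback coefficients of α, if [α'] = 0 in
CH_i(X') then p^s · [α] = 0 in CH_i(X) for some s. (The published statement allows an arbitrary
purely inseparable extension E of k; this row takes E finite over k, the case the printed argument
carries out.) -/
theorem result (k E : Type u) [Field k] [Field E] [Algebra k E] (p : ℕ) [Fact p.Prime] [CharP k p] [Module.Finite k E] [IsPurelyInseparable k E] (X X' : Scheme.{u}) (g : X ⟶ Spec (CommRingCat.of k)) [IsSeparated g] [LocallyOfFiniteType g] [QuasiCompact g] (f : X' ⟶ X) (g' : X' ⟶ Spec (CommRingCat.of E)) (hsq : IsPullback f g' g (Spec.map (CommRingCat.ofHom (algebraMap k E)))) (δ : X → ℤ) (δ' : X' → ℤ) (hX : Cyc.IsSetup X δ) (hX' : Cyc.IsSetup X' δ') (hδ : Cyc.DeltaCompat f δ' δ) (i : ℤ) : (∀ (β : AlgebraicCycle X' ℤ)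 (hβ : β ∈ Cyc.Zk X' δ' i), ∃ (α : AlgebraicCycle X ℤ) (hα : α ∈ Cyc.Zk X δ i) (α' : AlgebraicCycle X' ℤ) (hα' : α' ∈ Cyc.Zk X' δ' i) (s : ℕ), ⇑α' = Cyc.pullFun f δ' δ 0 ⇑α ∧ ChowOps.cl α' hα' = p ^ s • ChowOps.cl β hβ) ∧ (∀ (α : AlgebraicCycle X ℤ) (hα : α ∈ Cyc.Zk X δ i) (α' : AlgebraicCycle X' ℤ) (hα' : α' ∈ Cyc.Zk X' δ' i), ⇑α' = Cyc.pullFun f δ' δ 0 ⇑α → ChowOps.cl α' hα' = 0 → ∃ s : ℕ, p ^ s • ChowOps.cl α hα = 0) := by
  classical
  open Groth.Agent in
  open Groth.Agent.H23 in
  haveI hse : UniversallyInjective (Spec.map (CommRingCat.ofHom (algebraMap k E))) := by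
    refine ((tfae_universallyInjective _).out 0 1).2 fun L hL g₁ g₂ hg => ?_
    obtain ⟨a, rfl⟩ := Spec.map_surjective g₁
    obtain ⟨b, rfl⟩ := Spec.map_surjective g₂
    have hg' : CommRingCat.ofHom (algebraMap k E) ≫ a = CommRingCat.ofHom (algebraMap k E) ≫ b :=
      Spec.map_injective (by rw [Spec.map_comp, Spec.map_comp]; exact hg)
    congr 1
    ext1
    letI := hL
    exact IsPurelyInseparable.injective_comp_algebraMap k E L congr($(hg').hom)
  haveI : IsFinite (Spec.map (CommRingCat.ofHom (algebraMap k E))) := by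
    rw [IsFinite.SpecMap_iff]
    exact RingHom.finite_algebraMap.2 inferInstance
  haveI : Flat (Spec.map (CommRingCat.ofHom (algebraMap k E))) := by
    rw [Flat.SpecMap_iff]
    exact RingHom.flat_algebraMap_iff.2 inferInstance
  haveI : IsFinite f := MorphismProperty.of_isPullback hsq.flip inferInstance
  haveI : Flat f := MorphismProperty.of_isPullback hsq.flip inferInstance
  haveI : UniversallyInjective f := MorphismProperty.of_isPullback hsq.flip hse
  obtain ⟨e, he⟩ := IsPurelyInseparable.finrank_eq_pow (F := k) E p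
  have hd : ∀ y : X, f.finrank y = p ^ e := fun y => by
    rw [Scheme.Hom.finrank_of_isPullback _ _ _ _ hsq.flip y, Scheme.Hom.finrank_SpecMap_algebraMap,
      Module.rankAtStalk_eq_finrank_of_free, ← he]
    rfl
  have hδx : ∀ x : X', δ' x = δ (f x) := fun x => by
    rw [CycLib.deltaCompat_eq f hδ x, FibDim.rd_eq_zero_of_quasiFinite f x]
    simp
  have hfib : ∀ x : X', f ⁻¹' {f x} = {x} := fun x =>
    Set.ext fun z => ⟨fun hz => f.injective hz, fun hz => congrArg f hz⟩
  have hdeg : ∀ x : X', f.residueDegree x * (FiniteFibreSum.fibreLen f x).toNat = p ^ e := fun x => by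
    have h := (FiniteFibreSum.sum_finrank f (f x)).2.trans (hd (f x))
    rwa [hfib x, finsum_mem_singleton] at h
  refine ⟨fun β hβ => ?_, fun α hα α' hα' hpull h0 => ?_⟩
  · have hγ : (p ^ e • β) ∈ Cyc.Zk X' δ' i := fun x hx => by
      show (p ^ e • β) x = 0
      simp [hβ x hx]
    have hα : AlgebraicCycle.map f δ' δ β ∈ Cyc.Zk X δ i := fun y hy => by
      rw [CycLib.map_apply']
      refine finsum_mem_eq_zero_of_forall_eq_zero fun x hx => ?_
      have hxy : f x = y := hx
      rw [hβ x (by rw [hδx x, hxy]; exact hy), zero_mul]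
    refine ⟨_, hα, p ^ e • β, hγ, e, funext fun x => ?_, ?_⟩
    · show (p ^ e • β) x = _
      rw [Cyc.pullFun, if_pos (by rw [add_zero]; exact hδx x), CycLib.map_apply', hfib x,
        finsum_mem_singleton, AlgebraicCycle.mapCoeff, if_pos (hδx x), mul_assoc, ← Nat.cast_mul]
      show _ = β x * ((f.residueDegree x * (FiniteFibreSum.fibreLen f x).toNat : ℕ) : ℤ)
      rw [hdeg x]
      simp [mul_comm]
    · exact map_nsmul (ChowOps.clHom X' δ' i) (p ^ e) ⟨β, hβ⟩
  · refine ⟨e, ?_⟩
    have hmap := (S1868.result X' X δ' δ hX' hX f (p ^ e) hd hδ i).2 α hα α' hpull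
    have hsub : ∀ a : ↥(ChowOps.zk X' δ' i), a ∈ ChowOps.ratTriv X' δ' i →
        ∃ h : AlgebraicCycle.map f δ' δ (a : AlgebraicCycle X' ℤ) ∈ ChowOps.zk X δ i,
          (⟨_, h⟩ : ↥(ChowOps.zk X δ i)) ∈ ChowOps.ratTriv X δ i := by
      intro a ha
      have hz : ∀ b : ↥(ChowOps.zk X' δ' i),
          AlgebraicCycle.map f δ' δ (b : AlgebraicCycle X' ℤ) ∈ ChowOps.zk X δ i := fun b y hy => by
        rw [CycLib.map_apply']
        refine finsum_mem_eq_zero_of_forall_eq_zero fun x hx => ?_
        have hxy : f x = y := hx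
        rw [b.2 x (by rw [hδx x, hxy]; exact hy), zero_mul]
      refine ⟨hz a, ?_⟩
      have hm0 : AlgebraicCycle.map f δ' δ (0 : AlgebraicCycle X' ℤ) = 0 := by
        ext y
        rw [CycLib.map_apply']
        exact finsum_mem_eq_zero_of_forall_eq_zero fun x _ => zero_mul _
      induction ha using AddSubgroup.closure_induction with
      | mem b hb =>
        refine AddSubgroup.subset_closure ?_
        show Cyc.RatEquivZero δ i _
        have h := S1855.result X' X δ' δ hX' hX f hδ i b 0 b.2 (fun _ _ => rfl)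
          (by show Cyc.RatEquivZero δ' i ((b : AlgebraicCycle X' ℤ) - 0); rw [sub_zero]; exact hb)
        rwa [hm0, Cyc.RatEquiv, sub_zero] at h
      | zero => exact (Subtype.ext hm0 : (⟨_, hz 0⟩ : ↥(ChowOps.zk X δ i)) = 0) ▸ zero_mem _
      | add b c _ _ hb hc =>
        have : (⟨_, hz (b + c)⟩ : ↥(ChowOps.zk X δ i)) = ⟨_, hz b⟩ + ⟨_, hz c⟩ :=
          Subtype.ext (by
            show AlgebraicCycle.map f δ' δ ((b : AlgebraicCycle X' ℤ) + (c : AlgebraicCycle X' ℤ)) = _
            rw [← sub_neg_eq_add, CycLib.map_sub', CycLib.map_neg', sub_neg_eq_add]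
            rfl)
        rw [this]
        exact add_mem hb hc
      | neg b _ hb =>
        have : (⟨_, hz (-b)⟩ : ↥(ChowOps.zk X δ i)) = -⟨_, hz b⟩ :=
          Subtype.ext (CycLib.map_neg' f δ' δ _)
        rw [this]
        exact neg_mem hb
    obtain ⟨h1, h2⟩ := hsub ⟨α', hα'⟩ ((QuotientAddGroup.eq_zero_iff _).1 h0)
    show p ^ e • ChowOps.clHom X δ i ⟨α, hα⟩ = 0
    rw [← map_nsmul]
    refine (QuotientAddGroup.eq_zero_iff _).2 ?_
    exact (Subtype.ext hmap : (⟨_, h1⟩ : ↥(ChowOps.zk X δ i)) = p ^ e • ⟨α, hα⟩) ▸ h2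

end Groth.Agent.S15556
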