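import Groth.Statements.S15558
import Groth.Agent.Approx.CofinCover

set_option autoImplicit false
set_option backward.isDefEq.respectTransparency false
set_option backward.isDefEq.respectTransparency.types false
universe u v
open CategoryTheory AlgebraicGeometry
open Lim

namespace Groth.Agent.S15558

/-- Let Λ be a cofinite partially ordered set (every element has finitely many elements below it; Λ need
not be directed) and X : Λᵒᵖ ⥤ Scheme an inverse system of quasi-compact quasi-separated schemes.
Then there exist an inverse system Y : Λᵒᵖ ⥤ Scheme of affine schemes and a morphism of inverse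
systems π : Y ⟶ X such that each π_λ : Y_λ → X_λ is a Zariski covering: it is surjective and Y_λ is
covered by pairwise disjoint open subschemes each of which maps to X_λ by an open immersion. (The
published statement is for schemes over a fixed perfect field; the base field plays no role, and the
version for schemes over a base follows by composing with the structure morphisms.) -/
theorem result {Λ : Type v} [PartialOrder Λ]
    (hΛ : ∀ l : Λ, (Set.Iic l).Finite) (X : Λᵒᵖ ⥤ Scheme.{u})
    (hqc : ∀ l : Λ, CompactSpace ↥(X.obj (Opposite.op l)))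
    (hqs : ∀ l : Λ, QuasiSeparatedSpace ↥(X.obj (Opposite.op l))) :
    ∃ (Y : Λᵒᵖ ⥤ Scheme.{u}) (π : Y ⟶ X), ∀ l : Λ,
      IsAffine (Y.obj (Opposite.op l)) ∧ Surjective (π.app (Opposite.op l)) ∧
        ∃ (ι : Type u) (U : ι → (Y.obj (Opposite.op l)).Opens),
          Pairwise (fun i j => Disjoint (U i) (U j)) ∧ iSup U = ⊤ ∧
            ∀ i, IsOpenImmersion ((U i).ι ≫ π.app (Opposite.op l)) := by
  classical
  haveI : WellFoundedLT Λ := ⟨by
    refine Subrelation.wf (r := InvImage (· < ·) fun l : Λ => (hΛ l).toFinset.card) (fun {a b} hab => ?_)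
      (InvImage.wf _ wellFounded_lt)
    refine Finset.card_lt_card (Set.Finite.toFinset_ssubset_toFinset.2 (Set.Iic_ssubset_Iic.2 hab))⟩
  haveI : ∀ l : Λ, Finite {μ : Λ // μ < l} := fun l =>
    ((hΛ l).subset (fun μ (hμ : μ < l) => hμ.le)).to_subtype
  refine ⟨Groth.Agent.Approx.CofinCover.system X, Groth.Agent.Approx.CofinCover.proj X, fun l =>
    ⟨Groth.Agent.Approx.CofinCover.isAffine_obj X l, ⟨fun x => ?_⟩, ?_⟩⟩
  · obtain ⟨s, hs⟩ := Groth.Agent.Approx.CofinCover.exists_mem_V X hqc hqs x
    have hx : x ∈ Groth.Agent.Approx.CofinCover.piece X l (Groth.Agent.Approx.CofinCover.mk X s) := by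
      rw [Groth.Agent.Approx.CofinCover.piece, Groth.Agent.Approx.CofinCover.pr_mk]; exact hs
    refine ⟨Limits.Sigma.ι (fun k : Groth.Agent.Approx.CofinCover.T X l =>
      (Groth.Agent.Approx.CofinCover.piece X l k).toScheme) _ ⟨x, hx⟩, ?_⟩
    show (Limits.Sigma.ι (fun k : Groth.Agent.Approx.CofinCover.T X l =>
      (Groth.Agent.Approx.CofinCover.piece X l k).toScheme) _ ≫ Limits.Sigma.desc _) _ = x
    rw [Limits.Sigma.ι_desc]
    rfl
  · let g := fun k : Groth.Agent.Approx.CofinCover.T X l =>
      (Groth.Agent.Approx.CofinCover.piece X l k).toScheme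
    refine ⟨Groth.Agent.Approx.CofinCover.T X l, fun k => (Limits.Sigma.ι g k).opensRange,
      fun i j hij => disjoint_opensRange_sigmaι g i j hij, ?_, fun k => ?_⟩
    · refine top_le_iff.1 fun z _ => TopologicalSpace.Opens.mem_iSup.2 ?_
      obtain ⟨i, y, hy⟩ := (sigmaOpenCover g).exists_eq z
      exact ⟨i, y, hy⟩
    · let e := IsOpenImmersion.isoOfRangeEq (Limits.Sigma.ι g k).opensRange.ι (Limits.Sigma.ι g k) (by
        rw [Scheme.Opens.range_ι]; rfl)
      have he : (Limits.Sigma.ι g k).opensRange.ι = e.hom ≫ Limits.Sigma.ι g k :=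
        (IsOpenImmersion.isoOfRangeEq_hom_fac _ _ _).symm
      show IsOpenImmersion ((Limits.Sigma.ι g k).opensRange.ι ≫ Limits.Sigma.desc _)
      rw [he, Category.assoc, Limits.Sigma.ι_desc]
      infer_instance

end Groth.Agent.S15558
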