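import Groth.Statements.S15560
import Groth.Agent.Kron.Basic

set_option autoImplicit false
universe u v w
open KronMod

namespace Groth.Agent.S15560

/-- Let f be a Kronecker module with n arrows over a field K, from a space V of dimension d₋₁ > 0 to a
space W of dimension d₀ > 0. If n·d₋₁ < d₀ or n·d₀ < d₋₁, then f is not semistable; that is, there
are no semistable Kronecker modules of dimension vector (d₋₁, d₀). (The published statement assumes
K algebraically closed of characteristic zero and n ≥ 2; this row allows any field K and any number
n of arrows.) -/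
theorem result (K : Type u) [Field K] (V : Type v) (W : Type w)
    [AddCommGroup V] [Module K V] [FiniteDimensional K V]
    [AddCommGroup W] [Module K W] [FiniteDimensional K W]
    (n : ℕ) (f : Fin n → (V →ₗ[K] W))
    (hV : 0 < Module.finrank K V) (hW : 0 < Module.finrank K W)
    (h : n * Module.finrank K V < Module.finrank K W ∨ n * Module.finrank K W < Module.finrank K V) :
    ¬ KronMod.IsSemistable f := by
  rw [Kron.isSemistable_iff]
  rintro ⟨-, hs⟩
  rcases h with h | h
  · have h1 := hs ⊤ (Kron.img f ⊤) (Kron.isSubrep_img ⊤)
    rw [finrank_top, mul_comm] at h1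
    have h2 := Nat.le_of_mul_le_mul_left h1 hV
    have h3 := Kron.finrank_img_le (f := f) ⊤
    rw [finrank_top] at h3
    omega
  · have h1 := hs (LinearMap.ker (Kron.into f)) ⊥ fun j => by
      rintro _ ⟨x, hx, rfl⟩
      exact (Submodule.mem_bot K).2 (congrFun (LinearMap.mem_ker.1 hx) j)
    rw [finrank_bot, mul_zero, Nat.le_zero, Nat.mul_eq_zero] at h1
    have h2 : Function.Injective (Kron.into f) :=
      LinearMap.ker_eq_bot.1 (Submodule.finrank_eq_zero.1 (h1.resolve_left (by omega)))
    have h3 := LinearMap.finrank_le_finrank_of_injective h2
    rw [Kron.finrank_pi_copy] at h3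
    omega


end Groth.Agent.S15560
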