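import Groth.Statements.S15564
import Groth.Agent.Kron.Basic

set_option autoImplicit false
universe u v w
open KronMod

namespace Groth.Agent.S15564

/-- For a Kronecker module f with n arrows over a field K between one-dimensional spaces V and W,
semistability, stability and f ≠ 0 are equivalent: the semistable locus and the stable locus of
dimension vector (1, 1) are both the complement of the zero module. (The published statement assumes
K algebraically closed of characteristic zero and n ≥ 2; this row allows any field K and any n.) -/
theorem result (K : Type u) [Field K] (V : Type v) (W : Type w)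
    [AddCommGroup V] [Module K V] [FiniteDimensional K V]
    [AddCommGroup W] [Module K W] [FiniteDimensional K W]
    (n : ℕ) (f : Fin n → (V →ₗ[K] W))
    (hV : Module.finrank K V = 1) (hW : Module.finrank K W = 1) :
    (KronMod.IsSemistable f ↔ f ≠ 0) ∧ (KronMod.IsStable f ↔ f ≠ 0) := by
  have hA : KronMod.IsSemistable f → f ≠ 0 := by
    rintro h rfl
    have h1 := (Kron.isSemistable_iff.1 h).2 ⊤ ⊥ fun j => by
      rintro _ ⟨x, -, rfl⟩; simp
    simp [hV, hW] at h1
  have hB : f ≠ 0 → KronMod.IsStable f := by
    intro hf
    refine ⟨by omega, fun V' W' hs h0 h1 => ?_⟩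
    rw [hV, hW, one_mul, one_mul]
    rcases Kron.eq_bot_or_top_of_finrank_one hV V' with rfl | rfl
    · rcases Kron.eq_bot_or_top_of_finrank_one hW W' with rfl | rfl
      · exact absurd ⟨rfl, rfl⟩ h0
      · rw [finrank_bot, finrank_top, hW]; exact Nat.one_pos
    · rcases Kron.eq_bot_or_top_of_finrank_one hW W' with rfl | rfl
      · refine absurd ?_ hf
        funext j
        ext x
        exact (Submodule.mem_bot K).1 (hs j ⟨x, Submodule.mem_top, rfl⟩)
      · exact absurd ⟨rfl, rfl⟩ h1
  exact ⟨⟨hA, fun h => Kron.isSemistable_of_isStable (hB h)⟩,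
    ⟨fun h => hA (Kron.isSemistable_of_isStable h), hB⟩⟩


end Groth.Agent.S15564
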