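import Groth.Statements.S15566
import Groth.Agent.Kron.Pencil

set_option autoImplicit false
universe u v w
open KronMod

namespace Groth.Agent.S15566

/-- Case of dimension vector (2, 2). Over an algebraically closed field K, if a Kronecker module f with
n arrows between two-dimensional spaces V and W is semistable, then some linear combination Σ_j z_j
f_j of its arrows is a linear isomorphism V → W (equivalently, the determinant of the generic
combination is not identically zero): the semistable locus of dimension vector (2, 2) lies in the
open set of modules whose generic combination is invertible. (The published statement, over an
algebraically closed field of characteristic zero, covers dimension vectors (1, 1) and (2, 2) for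
every n ≥ 2 and (k, k) for two arrows; this row states the (2, 2) case, for any n and without the
characteristic assumption.) -/
theorem result (K : Type u) [Field K] [IsAlgClosed K] (V : Type v) (W : Type w)
    [AddCommGroup V] [Module K V] [FiniteDimensional K V]
    [AddCommGroup W] [Module K W] [FiniteDimensional K W]
    (n : ℕ) (f : Fin n → (V →ₗ[K] W))
    (hV : Module.finrank K V = 2) (hW : Module.finrank K W = 2)
    (hf : KronMod.IsSemistable f) :
    ∃ z : Fin n → K, Function.Bijective ((∑ j, z j • f j : V →ₗ[K] W) : V → W) := by
  exact Kron.exists_bijective_two f hV hW hf


end Groth.Agent.S15566
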