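import Groth.Statements.S15568
import Mathlib

set_option autoImplicit false
universe u
open QuiverStab

namespace Groth.Agent.S15568

/-- Walls and chambers for stability weights of a quiver. Let I be the finite vertex set, d ∈ ℕ^I a
dimension vector, and call two weights θ₁, θ₂ ∈ ℝ^I orthogonal to d numerically equivalent when, for
every d′ ≤ d in ℕ^I, the numbers θ₁·d′ and θ₂·d′ are both positive, both negative or both zero. The
walls are the hyperplanes W(d′) = {θ ⊥ d : θ·d′ = 0} of d^⊥ for d′ ≤ d such that d is not a multiple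
of d′. Then θ₁ and θ₂ are numerically equivalent if and only if there is a set J₁ of such d′ for
which θ₁ and θ₂ lie in the same connected component of the locally closed subset of d^⊥ consisting
of the weights lying on W(d₁) for every d₁ ∈ J₁ and off W(d₂) for every other wall W(d₂). (Only the
quiver's vertex set enters; multiples are taken with natural-number factors.) -/
theorem result
    (I : Type u) [Fintype I] (d : I → ℕ) (θ₁ θ₂ : I → ℝ)
    (h₁ : ∑ i, θ₁ i * (d i : ℝ) = 0) (h₂ : ∑ i, θ₂ i * (d i : ℝ) = 0) :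
    (∀ d' : I → ℕ, d' ≤ d →
        SignType.sign (∑ i, θ₁ i * (d' i : ℝ)) = SignType.sign (∑ i, θ₂ i * (d' i : ℝ))) ↔
    ∃ J₁ : Set (I → ℕ), J₁ ⊆ {d' | d' ≤ d ∧ ¬ ∃ m : ℕ, d = m • d'} ∧
      θ₂ ∈ connectedComponentIn
        {θ : I → ℝ | ∑ i, θ i * (d i : ℝ) = 0 ∧ (∀ d₁ ∈ J₁, ∑ i, θ i * (d₁ i : ℝ) = 0) ∧
          ∀ d₂ : I → ℕ, d₂ ≤ d → (¬ ∃ m : ℕ, d = m • d₂) → d₂ ∉ J₁ →
            ∑ i, θ i * (d₂ i : ℝ) ≠ 0} θ₁ := by
  have hmul : ∀ (θ : I → ℝ), ∑ i, θ i * (d i : ℝ) = 0 → ∀ d' : I → ℕ, d' ≤ d → (∃ m : ℕ, d = m • d') →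
      ∑ i, θ i * (d' i : ℝ) = 0 := by
    intro θ hθ d' hle ⟨m, hm⟩
    rcases Nat.eq_zero_or_pos m with rfl | hm0
    · have hd : d = 0 := by simpa using hm
      have : d' = 0 := funext fun i => Nat.le_zero.1 (by simpa [hd] using hle i)
      simp [this]
    · have h : ∑ i, θ i * (d i : ℝ) = (m : ℝ) * ∑ i, θ i * (d' i : ℝ) := by
        rw [Finset.mul_sum]
        refine Finset.sum_congr rfl fun i _ => ?_
        rw [hm, Pi.smul_apply, smul_eq_mul, Nat.cast_mul]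
        ring
      rw [hθ] at h
      exact (mul_eq_zero.1 h.symm).resolve_left (Nat.cast_ne_zero.2 (by omega))
  constructor
  · intro hs
    let J₁ : Set (I → ℕ) := {d' | d' ≤ d ∧ (¬ ∃ m : ℕ, d = m • d') ∧ ∑ i, θ₁ i * (d' i : ℝ) = 0}
    refine ⟨J₁, fun d' hd' => ⟨hd'.1, hd'.2.1⟩, ?_⟩
    have hseg : IsPreconnected (segment ℝ θ₁ θ₂) := (convex_segment θ₁ θ₂).isPreconnected
    refine hseg.subset_connectedComponentIn (left_mem_segment ℝ θ₁ θ₂) ?_ (right_mem_segment ℝ θ₁ θ₂)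
    rintro θ ⟨a, b, ha, hb, hab, rfl⟩
    have hlin : ∀ d' : I → ℕ, ∑ i, (a • θ₁ + b • θ₂) i * (d' i : ℝ) =
        a * (∑ i, θ₁ i * (d' i : ℝ)) + b * ∑ i, θ₂ i * (d' i : ℝ) := fun d' => by
      rw [Finset.mul_sum, Finset.mul_sum, ← Finset.sum_add_distrib]
      exact Finset.sum_congr rfl fun i _ => by simp [Pi.add_apply, Pi.smul_apply]; ring
    refine ⟨by rw [hlin, h₁, h₂]; ring, fun d₁ hd₁ => ?_, fun d₂ hle hnm hnJ => ?_⟩
    · have hz := hs d₁ hd₁.1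
      rw [hd₁.2.2, sign_zero, eq_comm, sign_eq_zero_iff] at hz
      rw [hlin, hd₁.2.2, hz]; ring
    · have h0 : ∑ i, θ₁ i * (d₂ i : ℝ) ≠ 0 := fun h => hnJ ⟨hle, hnm, h⟩
      have hz := hs d₂ hle
      rw [hlin]
      rcases h0.lt_or_gt with hneg | hpos
      · rw [sign_neg hneg, eq_comm, sign_eq_neg_one_iff] at hz
        rcases ha.lt_or_eq with ha' | ha'
        · exact (add_neg_of_neg_of_nonpos (mul_neg_of_pos_of_neg ha' hneg)
            (mul_nonpos_of_nonneg_of_nonpos hb hz.le)).ne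
        · rw [← ha', show b = 1 by linarith]; simpa using hz.ne
      · rw [sign_pos hpos, eq_comm, sign_eq_one_iff] at hz
        rcases ha.lt_or_eq with ha' | ha'
        · exact (add_pos_of_pos_of_nonneg (mul_pos ha' hpos) (mul_nonneg hb hz.le)).ne'
        · rw [← ha', show b = 1 by linarith]; simpa using hz.ne'
  · rintro ⟨J₁, -, hmem⟩ d' hle
    have hθ₁ := connectedComponentIn_nonempty_iff.1 ⟨θ₂, hmem⟩
    have hθ₂ := connectedComponentIn_subset _ _ hmem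
    rcases Classical.em (∃ m : ℕ, d = m • d') with hm | hm
    · rw [hmul θ₁ h₁ d' hle hm, hmul θ₂ h₂ d' hle hm]
    rcases Classical.em (d' ∈ J₁) with hJ | hJ
    · rw [hθ₁.2.1 d' hJ, hθ₂.2.1 d' hJ]
    have hC := isPreconnected_connectedComponentIn (x := θ₁)
      (F := {θ : I → ℝ | ∑ i, θ i * (d i : ℝ) = 0 ∧ (∀ d₁ ∈ J₁, ∑ i, θ i * (d₁ i : ℝ) = 0) ∧
          ∀ d₂ : I → ℕ, d₂ ≤ d → (¬ ∃ m : ℕ, d = m • d₂) → d₂ ∉ J₁ →
            ∑ i, θ i * (d₂ i : ℝ) ≠ 0})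
    have hc : ContinuousOn (fun θ : I → ℝ => ∑ i, θ i * (d' i : ℝ)) Set.univ :=
      (continuous_finsetSum _ fun i _ => (continuous_apply i).mul continuous_const).continuousOn
    have hne : ∀ θ ∈ connectedComponentIn {θ : I → ℝ | ∑ i, θ i * (d i : ℝ) = 0 ∧
          (∀ d₁ ∈ J₁, ∑ i, θ i * (d₁ i : ℝ) = 0) ∧
          ∀ d₂ : I → ℕ, d₂ ≤ d → (¬ ∃ m : ℕ, d = m • d₂) → d₂ ∉ J₁ →
            ∑ i, θ i * (d₂ i : ℝ) ≠ 0} θ₁, ∑ i, θ i * (d' i : ℝ) ≠ 0 := fun θ hθ =>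
      (connectedComponentIn_subset _ _ hθ).2.2 d' hle hm hJ
    have hmem₁ := mem_connectedComponentIn hθ₁
    rcases (hne θ₁ hmem₁).lt_or_gt with ha | ha <;> rcases (hne θ₂ hmem).lt_or_gt with hb | hb
    · rw [sign_neg ha, sign_neg hb]
    · obtain ⟨θ, hθ, h0⟩ := hC.intermediate_value hmem₁ hmem (hc.mono (Set.subset_univ _)) ⟨ha.le, hb.le⟩
      exact absurd h0 (hne θ hθ)
    · obtain ⟨θ, hθ, h0⟩ := hC.intermediate_value hmem hmem₁ (hc.mono (Set.subset_univ _)) ⟨hb.le, ha.le⟩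
      exact absurd h0 (hne θ hθ)
    · rw [sign_pos ha, sign_pos hb]

end Groth.Agent.S15568
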