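import Groth.Statements.S15582
import Mathlib


set_option autoImplicit false
universe u
open CategoryTheory TopologicalSpace
open CohTop

namespace Groth.Agent.S15582

/-- Let `π : X → Y` be a continuous map such that every open set containing a fibre `π⁻¹(y)` contains
the preimage of an open neighbourhood of `y`, and such that every fibre is finite with its points
separated by pairwise disjoint open sets of `X`. Then the direct image of sheaves of sets along `π`
preserves epimorphisms. -/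
theorem result
    {X Y : TopCat.{u}} (π : X ⟶ Y)
    (h1 : ∀ (y : Y) (U : Set X), IsOpen U → π ⁻¹' {y} ⊆ U →
      ∃ V : Set Y, IsOpen V ∧ y ∈ V ∧ π ⁻¹' V ⊆ U)
    (h2 : ∀ y : Y, (π ⁻¹' {y}).Finite ∧ ∃ U : X → Set X,
      (∀ x ∈ π ⁻¹' {y}, IsOpen (U x) ∧ x ∈ U x) ∧ (π ⁻¹' {y}).PairwiseDisjoint U) :
    (TopCat.Sheaf.pushforward (Type u) π).PreservesEpimorphisms := by
  refine ⟨fun {F G} φ hφ => ?_⟩
  have hφ' := (Sheaf.isLocallySurjective_iff_epi φ).2 hφ
  refine (Sheaf.isLocallySurjective_iff_epi _).1 ⟨fun {V} s y hy => ?_⟩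
  classical
  obtain ⟨hfin, U, hU, hdisj⟩ := h2 y
  let s' : G.obj.obj (Opposite.op ((Opens.map π).obj V)) := s
  have hloc : ∀ x : (π ⁻¹' {y} : Set X), ∃ W : Opens X, x.1 ∈ W ∧ (W : Set X) ⊆ U x.1 ∧ ∃ (hW : W ≤ (Opens.map π).obj V)
      (t : F.obj.obj (Opposite.op W)), φ.hom.app _ t = G.obj.map (homOfLE hW).op s' := fun x => by
    have hm : Presheaf.imageSieve φ.hom (U := (Opens.map π).obj V) s' ∈
        Opens.grothendieckTopology X ((Opens.map π).obj V) := hφ'.imageSieve_mem s'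
    obtain ⟨W, i, ⟨t, ht⟩, hxW⟩ := hm x.1
      (show π x.1 ∈ V by rw [show π x.1 = y from x.2]; exact hy)
    refine ⟨W ⊓ ⟨U x.1, (hU x.1 x.2).1⟩, ⟨hxW, (hU x.1 x.2).2⟩, fun z hz => hz.2, inf_le_left.trans i.le,
      F.obj.map (homOfLE inf_le_left).op t, ?_⟩
    rw [NatTrans.naturality_apply φ.hom, ht, ← ConcreteCategory.comp_apply, ← G.obj.map_comp]
    rfl
  choose W hxW hWU hWV t ht using hloc
  have hbot : ∀ (A : Opens X), (A : Set X) = ∅ → Subsingleton (F.obj.obj (Opposite.op A)) := fun A hA => by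
    have h := TopCat.Sheaf.isTerminalOfEqEmpty F (U := A) (Opens.ext hA)
    exact ((Limits.Types.isTerminalEquivUnique _) h).instSubsingleton
  obtain ⟨T, hT, -⟩ := TopCat.Sheaf.existsUnique_gluing' F W (iSup W) (fun x => homOfLE (le_iSup W x)) le_rfl t
    (fun a b => by
      rcases eq_or_ne a b with rfl | hab
      · rfl
      · exact @Subsingleton.elim _ (hbot (W a ⊓ W b) (Set.eq_empty_iff_forall_notMem.2 fun z hz => Set.disjoint_left.1
          (hdisj a.2 b.2 fun e => hab (Subtype.ext e)) (hWU a hz.1) (hWU b hz.2))) _ _)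
  have hle : iSup W ≤ (Opens.map π).obj V := iSup_le hWV
  have hTs : φ.hom.app _ T = G.obj.map (homOfLE hle).op s' := by
    refine TopCat.Sheaf.eq_of_locally_eq' G W (iSup W) (fun x => homOfLE (le_iSup W x)) le_rfl _ _ fun x => ?_
    rw [← NatTrans.naturality_apply φ.hom, hT x, ht, ← ConcreteCategory.comp_apply, ← G.obj.map_comp]
    rfl
  obtain ⟨V', hV'o, hyV', hV'⟩ := h1 y (iSup W : Opens X) (iSup W).isOpen fun x hx => Opens.mem_iSup.2 ⟨⟨x, hx⟩, hxW _⟩
  refine ⟨⟨V', hV'o⟩ ⊓ V, homOfLE inf_le_right, ?_, hyV', hy⟩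
  have hle' : (Opens.map π).obj (⟨V', hV'o⟩ ⊓ V) ≤ iSup W := fun z hz => hV' hz.1
  refine ⟨F.obj.map (homOfLE hle').op T, ?_⟩
  show φ.hom.app (Opposite.op ((Opens.map π).obj (⟨V', hV'o⟩ ⊓ V))) (F.obj.map (homOfLE hle').op T) =
    G.obj.map ((Opens.map π).map (homOfLE inf_le_right)).op s'
  rw [NatTrans.naturality_apply φ.hom, hTs, ← ConcreteCategory.comp_apply, ← G.obj.map_comp]
  rfl

end Groth.Agent.S15582
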