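import Groth.Statements.S15583
import Groth.Agent.RInvLib.Herm

set_option autoImplicit false
universe u v
open RInv

namespace Groth.Agent.S15583

open Groth.Agent

/-- Let `A` be a commutative ring with an involution `lam` whose fixed ring `B` is local, let `ε = ±1`,
and let `h` be an invertible `n × n` matrix over `A` that is `(ε, lam)`-hermitian: `h` equals `ε`
times the transpose of `lam` applied entrywise to `h`. If `lam` is not the identity modulo the
Jacobson radical of `A`, or `ε ≠ -1` modulo that radical, or `n` is odd, then `h` is congruent to a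
diagonal matrix: there is an invertible `v` with `(lam v)ᵀ h v` diagonal. -/
theorem result (B : Type u) (A : Type v) [CommRing B] [CommRing A]
    [Algebra B A] (lam : A ≃+* A) (hlam : Function.Involutive lam) (hB : RInv.IsFixedRing B A lam)
    [IsLocalRing B] (n : ℕ) (ε : A) (hε : ε = 1 ∨ ε = -1) (h : Matrix (Fin n) (Fin n) A)
    (hh : IsUnit h) (herm : ε • (h.map lam).transpose = h)
    (hcase : (∃ a : A, lam a - a ∉ Ring.jacobson A) ∨ ε + 1 ∉ Ring.jacobson A ∨ Odd n) :
    ∃ v : Matrix (Fin n) (Fin n) A, IsUnit v ∧
      ∃ d : Fin n → A, (v.map lam).transpose * h * v = Matrix.diagonal d := by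
  exact RInvLib.exists_diagonal hlam hB hε h hh herm (by rwa [Fintype.card_fin])

end Groth.Agent.S15583
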