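import Groth.Statements.S15585
import Groth.Agent.RInvLib.Local

set_option autoImplicit false
universe u v
open RInv

namespace Groth.Agent.S15585

open Groth.Agent

/-- For a local ring `S` (maximal ideal `m`, residue field `k`) and a quadratic etale `S`-algebra `R`,
the ring `R/mR` is a field that is a separable extension of `k` of degree 2, or else it is
isomorphic as a `k`-algebra to `k × k`. -/
theorem result (S : Type u) (R : Type v) [CommRing S]
    [CommRing R] [Algebra S R] [IsLocalRing S] (hq : RInv.IsQuadEtale S R) :
    (IsField (R ⧸ (IsLocalRing.maximalIdeal S).map (algebraMap S R)) ∧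
      Module.finrank (S ⧸ IsLocalRing.maximalIdeal S)
        (R ⧸ (IsLocalRing.maximalIdeal S).map (algebraMap S R)) = 2 ∧
      Algebra.IsSeparable (S ⧸ IsLocalRing.maximalIdeal S)
        (R ⧸ (IsLocalRing.maximalIdeal S).map (algebraMap S R))) ∨
    Nonempty ((R ⧸ (IsLocalRing.maximalIdeal S).map (algebraMap S R)) ≃ₐ[S ⧸ IsLocalRing.maximalIdeal S]
      ((S ⧸ IsLocalRing.maximalIdeal S) × (S ⧸ IsLocalRing.maximalIdeal S))) := by
  exact RInvLib.fibre_structure hq

end Groth.Agent.S15585
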