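import Groth.Statements.S15590
import Mathlib

set_option autoImplicit false
universe u v
open CAlg

namespace Groth.Agent.S15590

/-- Let A → B be an injective homomorphism of commutative rings which makes B a finite flat A-module,
and suppose B is a Dedekind domain (Noetherian, integrally closed, of Krull dimension at most one; a
field is allowed). Then A is a Dedekind domain. -/
theorem result (A : Type u) (B : Type v)
    [CommRing A] [CommRing B] [Algebra A B] [IsDedekindDomain B]
    (hinj : Function.Injective (algebraMap A B)) [Module.Finite A B] [Module.Flat A B] :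
    IsDedekindDomain A := by
  haveI : FaithfulSMul A B := (faithfulSMul_iff_algebraMap_injective A B).2 hinj
  haveI : IsDomain A := Function.Injective.isDomain (algebraMap A B) hinj
  haveI : Algebra.IsIntegral A B := Algebra.IsIntegral.of_finite A B
  haveI hff : Module.FaithfullyFlat A B := Module.FaithfullyFlat.of_comap_surjective
    fun P => (Algebra.IsIntegral.comap_surjective A B) P
  have hcm : ∀ I : Ideal A, (I.map (algebraMap A B)).comap (algebraMap A B) = I :=
    fun I => Ideal.comap_map_eq_self_of_faithfullyFlat I
  haveI : IsNoetherianRing A := by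
    have hmono : StrictMono (Ideal.map (algebraMap A B)) :=
      Monotone.strictMono_of_injective (fun _ _ h => Ideal.map_mono h)
        (Function.LeftInverse.injective (g := Ideal.comap (algebraMap A B)) hcm)
    exact isNoetherian_mk ⟨(hmono.wellFoundedGT).wf⟩
  haveI : Ring.DimensionLEOne A := ⟨fun {P} hP hPp => by
    obtain ⟨⟨Q, hQp⟩, hQ⟩ := Algebra.IsIntegral.comap_surjective A B ⟨P, hPp⟩
    have hQ' : Q.comap (algebraMap A B) = P := congrArg PrimeSpectrum.asIdeal hQ
    have hQ0 : Q ≠ ⊥ := fun h => hP (by
      rw [← hQ', h, Ideal.comap_bot_of_injective _ hinj])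
    have := hQp.isMaximal hQ0
    exact hQ' ▸ Ideal.isMaximal_comap_of_isIntegral_of_isMaximal Q⟩
  haveI : IsIntegrallyClosed A := by
    let K := FractionRing A
    let L := FractionRing B
    haveI : IsScalarTower A B L := inferInstance
    have hAL : Function.Injective (algebraMap A L) := by
      rw [IsScalarTower.algebraMap_eq A B L]
      exact (IsFractionRing.injective B L).comp hinj
    let ψ : K →+* L := IsFractionRing.lift (g := algebraMap A L) hAL
    have hψ : ∀ a, ψ (algebraMap A K a) = algebraMap A L a := fun a => IsFractionRing.lift_algebraMap _ a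
    rw [isIntegrallyClosed_iff K]
    intro x hx
    obtain ⟨a, b, hb, rfl⟩ := IsFractionRing.div_surjective (A := A) x
    let ψa : K →ₐ[A] L := { ψ with commutes' := hψ }
    have hxL : IsIntegral B (ψa (algebraMap A K a / algebraMap A K b)) := (hx.map ψa).tower_top
    obtain ⟨c, hc⟩ := IsIntegrallyClosed.isIntegral_iff.1 hxL
    have hb0 : algebraMap A L b ≠ 0 := (map_ne_zero_iff _ hAL).2 (nonZeroDivisors.ne_zero hb)
    have hc' : c * algebraMap A B b = algebraMap A B a := IsFractionRing.injective B L (by
      rw [map_mul, hc, ← IsScalarTower.algebraMap_apply, ← IsScalarTower.algebraMap_apply]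
      change ψ _ * _ = _
      rw [map_div₀, hψ, hψ, div_mul_cancel₀ _ hb0])
    have ha : a ∈ Ideal.span {b} := by
      rw [← hcm (Ideal.span {b}), Ideal.mem_comap, Ideal.map_span, Set.image_singleton,
        Ideal.mem_span_singleton']
      exact ⟨c, hc'⟩
    obtain ⟨d, rfl⟩ := Ideal.mem_span_singleton'.1 ha
    exact ⟨d, by rw [map_mul, mul_div_assoc, div_self, mul_one]
                 exact (map_ne_zero_iff _ (IsFractionRing.injective A K)).2 (nonZeroDivisors.ne_zero hb)⟩
  exact {}

end Groth.Agent.S15590
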