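import Groth.Statements.S15591
import Groth.Agent.SolvGrp.GrothBC
import Groth.Agent.GrpSchLib.AntiAffineHom
import Groth.Agent.FibDim.BaseField
import Groth.Agent.S3901
-- import your own Groth.Agent.* helpers here

set_option autoImplicit false
universe u
open CategoryTheory MonoidalCategory CartesianMonoidalCategory MonObj GrpObj AlgebraicGeometry
open AGF

namespace Groth.Agent.S15591

set_option backward.isDefEq.respectTransparency false
set_option backward.isDefEq.respectTransparency.types false

open SolvGrp GrpSchLib AGFLib

/-- Let k be a field, G an affine smooth connected k-group scheme and T ⟶ G, T' ⟶ G two maximal k-tori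
of G (each maximal among the k-subtori of G through which it factors). Then T and T' have the same
dimension. -/
theorem result (k : Type u) [Field k]
    (G : Over (Spec (CommRingCat.of k))) [GrpObj G] [IsAffine G.left] [Smooth G.hom] [ConnectedSpace ↥G.left]
    (T T' : Over (Spec (CommRingCat.of k))) [GrpObj T] [GrpObj T'] (iT : T ⟶ G) (iT' : T' ⟶ G)
    (hT : AGF.IsMaxTorus iT) (hT' : AGF.IsMaxTorus iT') :
    topologicalKrullDim ↥T.left = topologicalKrullDim ↥T'.left := by
  let L := AlgebraicClosure k
  let g := Spec.map (CommRingCat.ofHom (algebraMap k L))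
  let F := Over.pullback g
  haveI : IsAffine (F.obj G).left := inferInstanceAs (IsAffine (Limits.pullback G.hom g))
  haveI : Smooth (F.obj G).hom := inferInstanceAs (Smooth (Limits.pullback.snd G.hom g))
  haveI : ConnectedSpace (F.obj G).left := GrpSchLib.AntiAffine.connectedSpace_bc G _
  obtain ⟨x, f, -⟩ := Groth.Agent.S3901.result L (F.obj G) (F.obj T) (F.obj T') (F.map iT) (F.map iT')
    (SolvGrp.Groth.isMaxTorus_bc (algebraMap k L) iT hT) (SolvGrp.Groth.isMaxTorus_bc (algebraMap k L) iT' hT')
  have e : topologicalKrullDim ↥(F.obj T).left = topologicalKrullDim ↥(F.obj T').left :=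
    (TopCat.homeoOfIso (Scheme.forgetToTop.mapIso ((Over.forget _).mapIso f))).isHomeomorph.topologicalKrullDim_eq
  haveI := (MultTypeLft.lft (TorusQI.isMultTypeFT_of_isTorus hT.2.2.1) : LocallyOfFiniteType T.hom)
  haveI := (MultTypeLft.lft (TorusQI.isMultTypeFT_of_isTorus hT'.2.2.1) : LocallyOfFiniteType T'.hom)
  rwa [show topologicalKrullDim ↥(F.obj T).left = topologicalKrullDim ↥T.left from
      FibDim.topologicalKrullDim_baseChange (IsPullback.of_hasPullback T.hom g),
    show topologicalKrullDim ↥(F.obj T').left = topologicalKrullDim ↥T'.left from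
      FibDim.topologicalKrullDim_baseChange (IsPullback.of_hasPullback T'.hom g)] at e
end Groth.Agent.S15591
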