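import Groth.Statements.S15592
import Groth.Agent.GrpSchLib.FixedLimit
import Groth.Agent.GrpSchLib.GaPts
import Mathlib.Algebra.Polynomial.Laurent
-- import your own Groth.Agent.* helpers here

set_option autoImplicit false
universe u
open CategoryTheory MonoidalCategory CartesianMonoidalCategory MonObj GrpObj AlgebraicGeometry
open AlgGrp

namespace Groth.Agent.S15592

open Groth.Agent.GrpSchLib PowerSeries AffineHopf

set_option backward.isDefEq.respectTransparency false
set_option backward.isDefEq.respectTransparency.types false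

section

variable {k : Type u} [Field k]

theorem fn_sp {R R' : Type u} [CommRing R] [CommRing R'] [Algebra k R] [Algebra k R'] (f : R →ₐ[k] R') (r : R) :
    (spMap f).left.appTop ((Scheme.ΓSpecIso (CommRingCat.of R)).inv r) = (Scheme.ΓSpecIso (CommRingCat.of R')).inv (f r) :=
  (congrArg (fun ψ => (ConcreteCategory.hom ψ) r) (Scheme.ΓSpecIso_inv_naturality (CommRingCat.ofHom f.toRingHom))).symm

theorem exists_to_sp {A : Type u} [CommRing A] [Algebra k A] (T : Over (Spec (CommRingCat.of k)))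
    (ψ : CommRingCat.of A ⟶ Γ(T.left, ⊤))
    (hψ : CommRingCat.ofHom (algebraMap k A) ≫ ψ = (Scheme.ΓSpecIso (CommRingCat.of k)).inv ≫ T.hom.appTop) :
    ∃ τ : T ⟶ sp k A, ∀ r : A, τ.left.appTop ((Scheme.ΓSpecIso (CommRingCat.of A)).inv r) = ψ r := by
  let τ : T.left ⟶ Spec (CommRingCat.of A) := ΓSpec.adjunction.homEquiv T.left (Opposite.op (CommRingCat.of A)) ψ.op
  have hτ : (Scheme.ΓSpecIso (CommRingCat.of A)).inv ≫ τ.appTop = ψ := ΓSpecIso_inv_ΓSpec_adjunction_homEquiv ψ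
  have hw : τ ≫ Spec.map (CommRingCat.ofHom (algebraMap k A)) = T.hom := by
    refine ext_of_isAffine ?_
    rw [Scheme.Hom.comp_appTop, ← cancel_epi (Scheme.ΓSpecIso (CommRingCat.of k)).inv,
      ← reassoc_of% Scheme.ΓSpecIso_inv_naturality, hτ, hψ]
  exact ⟨Over.homMk τ hw, fun r => congrArg (fun e => (ConcreteCategory.hom e) r) hτ⟩

theorem const_ok {A : Type u} [CommRing A] [Algebra k A] (φ : PowerSeries k →ₐ[k] PowerSeries A) (w : PowerSeries A)
    (h : φ PowerSeries.X = PowerSeries.X * w) (f : PowerSeries k) :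
    constantCoeff (φ f) = algebraMap k A (constantCoeff f) := by
  conv_lhs => rw [PowerSeries.eq_X_mul_shift_add_const f]
  rw [map_add, map_mul φ, h, PowerSeries.C_eq_algebraMap, AlgHom.commutes, map_add]
  simp [PowerSeries.algebraMap_apply]

theorem ga_case {X : Over (Spec (CommRingCat.of k))} [IsProper X.hom]
    (a : AlgGrp.Action (Red.Ga (Spec (CommRingCat.of k))) X)
    (x₀ : 𝟙_ (Over (Spec (CommRingCat.of k))) ⟶ X) : ∃ x : 𝟙_ (Over (Spec (CommRingCat.of k))) ⟶ X, a.IsFixedPt x := by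
  let pt : ∀ {R : Type u} [CommRing R] [Algebra k R], R → (sp k R ⟶ Red.Ga (Spec (CommRingCat.of k))) :=
    fun {R} _ _ r => GaPts.ptOfFn ((Scheme.ΓSpecIso (CommRingCat.of R)).inv r)
  have ptc : ∀ {R R' : Type u} [CommRing R] [CommRing R'] [Algebra k R] [Algebra k R'] (f : R →ₐ[k] R') (r : R),
      spMap f ≫ pt r = pt (f r) := fun f r => GaPts.gaFn_injective (by
    show Red.gaFn (spMap f ≫ pt r) = Red.gaFn (pt (f r))
    rw [GaPts.gaFn_comp, GaPts.gaFn_ptOfFn, GaPts.gaFn_ptOfFn, fn_sp])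
  let t : (Polynomial k)⟦X⟧ := PowerSeries.C Polynomial.X
  let den : ((Polynomial k)⟦X⟧)ˣ := (PowerSeries.isUnit_iff_constantCoeff.mpr
    (by simp : IsUnit (constantCoeff (1 + PowerSeries.X * t)))).unit
  have hs : PowerSeries.HasSubst ((PowerSeries.X : (Polynomial k)⟦X⟧) * (↑den⁻¹ : (Polynomial k)⟦X⟧)) :=
    PowerSeries.HasSubst.of_constantCoeff_zero' (by simp)
  refine FixedLimit.exists_fixed (Polynomial k) (pt Polynomial.X) ?_ (PowerSeries.substAlgHom hs) ?_ den⁻¹
    (PowerSeries.substAlgHom_X hs) (pt (algebraMap k⟦X⟧ (FractionRing k⟦X⟧) PowerSeries.X)⁻¹) ?_ a x₀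
  · intro T g
    let f := ((Scheme.ΓSpecIso (CommRingCat.of k)).inv ≫ T.hom.appTop).hom
    obtain ⟨τ, hτ⟩ := exists_to_sp T (CommRingCat.ofHom (Polynomial.eval₂RingHom f (Red.gaFn g)))
      (by ext r; exact Polynomial.eval₂_C _ _)
    refine ⟨τ, GaPts.gaFn_injective ?_⟩
    show Red.gaFn (τ ≫ pt Polynomial.X) = Red.gaFn g
    rw [GaPts.gaFn_comp, GaPts.gaFn_ptOfFn, hτ]
    exact Polynomial.eval₂_X _ _
  · exact const_ok _ _ (PowerSeries.substAlgHom_X hs)
  · intro M _ _ j P Q hP hQ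
    rw [ptc, ptc, ptc]
    refine GaPts.gaFn_injective ?_
    show Red.gaFn (pt (Q _)) = Red.gaFn (_ * _)
    rw [GaPts.gaFn_mul, GaPts.gaFn_ptOfFn, GaPts.gaFn_ptOfFn, GaPts.gaFn_ptOfFn]
    refine (congrArg _ ?_).trans (map_add (Scheme.ΓSpecIso (CommRingCat.of M)).inv.hom _ _)
    set u : FractionRing k⟦X⟧ := algebraMap k⟦X⟧ _ PowerSeries.X
    have hu : u ≠ 0 := by simpa [u] using (PowerSeries.X_ne_zero (R := k))
    have hQ' : Q u = j PowerSeries.X * j (↑den⁻¹) := by
      rw [hQ, PowerSeries.substAlgHom_X, map_mul]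
    have hP' : P u = j PowerSeries.X := by rw [hP, PowerSeries.map_X]
    have q1 : Q u * Q u⁻¹ = 1 := by rw [← map_mul, mul_inv_cancel₀ hu, map_one]
    have p1 : j PowerSeries.X * P u⁻¹ = 1 := by rw [← hP', ← map_mul, mul_inv_cancel₀ hu, map_one]
    have d1 : j (↑den⁻¹) * (1 + j PowerSeries.X * j t) = 1 := by
      rw [← map_one j, ← map_mul, ← map_add, ← map_mul]
      exact congrArg j den.inv_mul
    show Q u⁻¹ = j t + P u⁻¹
    rw [hQ'] at q1
    linear_combination (j t + P u⁻¹) * q1 - (Q u⁻¹ * j (↑den⁻¹)) * p1 - Q u⁻¹ * d1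

theorem gm_case {X : Over (Spec (CommRingCat.of k))} [IsProper X.hom]
    (a : AlgGrp.Action (Red.Gm (Spec (CommRingCat.of k))) X)
    (x₀ : 𝟙_ (Over (Spec (CommRingCat.of k))) ⟶ X) : ∃ x : 𝟙_ (Over (Spec (CommRingCat.of k))) ⟶ X, a.IsFixedPt x := by
  let pt : ∀ {R : Type u} [CommRing R] [Algebra k R], Rˣ → (sp k R ⟶ Red.Gm (Spec (CommRingCat.of k))) :=
    fun {R} _ _ r => GmPts.ptOfUnit (T := sp k R) (Units.map (Scheme.ΓSpecIso (CommRingCat.of R)).inv.hom.toMonoidHom r)
  have hpt : ∀ {R : Type u} [CommRing R] [Algebra k R] (r : Rˣ),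
      Red.gmFn (pt r) = (Scheme.ΓSpecIso (CommRingCat.of R)).inv (r : R) := fun r => GmPts.gmFn_ptOfUnit _
  have ptc : ∀ {R R' : Type u} [CommRing R] [CommRing R'] [Algebra k R] [Algebra k R'] (f : R →ₐ[k] R') (r : Rˣ),
      spMap f ≫ pt r = pt (Units.map f.toMonoidHom r) := fun f r => GmPts.gmFn_injective (by
    show Red.gmFn (spMap f ≫ pt r) = Red.gmFn (pt _)
    rw [GmPts.gmFn_comp, hpt, hpt, fn_sp]
    rfl)
  let tu : (LaurentPolynomial k)ˣ := (LaurentPolynomial.isUnit_T 1).unit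
  let w : ((LaurentPolynomial k)⟦X⟧)ˣ := Units.map (PowerSeries.C (R := LaurentPolynomial k)).toMonoidHom tu
  have hs : PowerSeries.HasSubst ((PowerSeries.X : (LaurentPolynomial k)⟦X⟧) * (w : (LaurentPolynomial k)⟦X⟧)) :=
    PowerSeries.HasSubst.of_constantCoeff_zero' (by simp)
  refine FixedLimit.exists_fixed (LaurentPolynomial k) (pt tu) ?_ (PowerSeries.substAlgHom hs) ?_ w
    (PowerSeries.substAlgHom_X hs) (pt (Units.mk0 (algebraMap k⟦X⟧ (FractionRing k⟦X⟧) PowerSeries.X)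
      (by simpa using (PowerSeries.X_ne_zero (R := k))))) ?_ a x₀
  · intro T g
    let f := ((Scheme.ΓSpecIso (CommRingCat.of k)).inv ≫ T.hom.appTop).hom
    obtain ⟨τ, hτ⟩ := exists_to_sp T (CommRingCat.ofHom (LaurentPolynomial.eval₂ f (GmPts.unitOfPt g)))
      (by ext r; exact LaurentPolynomial.eval₂_C _ _ _)
    refine ⟨τ, GmPts.gmFn_injective ?_⟩
    show Red.gmFn (τ ≫ pt tu) = Red.gmFn g
    rw [GmPts.gmFn_comp, hpt, hτ]
    exact (LaurentPolynomial.eval₂_T _ _ 1).trans (by rw [zpow_one]; rfl)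
  · exact const_ok _ _ (PowerSeries.substAlgHom_X hs)
  · intro M _ _ j P Q hP hQ
    rw [ptc, ptc, ptc]
    refine GmPts.gmFn_injective ?_
    show Red.gmFn (pt _) = Red.gmFn (_ * _)
    rw [GmPts.gmFn_mul, hpt, hpt, hpt]
    refine (congrArg _ ?_).trans (map_mul (Scheme.ΓSpecIso (CommRingCat.of M)).inv.hom _ _)
    show Q (algebraMap _ _ PowerSeries.X) = j (w : (LaurentPolynomial k)⟦X⟧) * P (algebraMap _ _ PowerSeries.X)
    rw [hQ, hP, PowerSeries.substAlgHom_X, PowerSeries.map_X, map_mul, mul_comm]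

theorem transport {G H X : Over (Spec (CommRingCat.of k))} [GrpObj G] [GrpObj H]
    (e : Grp.mk G ≅ Grp.mk H) (a : AlgGrp.Action G X) :
    ∃ b : AlgGrp.Action H X, ∀ x : 𝟙_ (Over (Spec (CommRingCat.of k))) ⟶ X, b.IsFixedPt x → a.IsFixedPt x := by
  let φ : H ⟶ G := e.inv.hom.hom
  haveI : IsMonHom φ := e.inv.hom.isMonHom_hom
  refine ⟨⟨(φ ▷ X) ≫ a.act, ?_, ?_⟩, fun x hx T g => ?_⟩
  · rw [← MonoidalCategory.comp_whiskerRight_assoc, IsMonHom.one_hom]
    exact a.one_act
  · rw [← MonoidalCategory.comp_whiskerRight_assoc, IsMonHom.mul_hom, MonoidalCategory.comp_whiskerRight_assoc,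
      a.mul_act]
    simp only [MonoidalCategory.whiskerLeft_comp, Category.assoc]
    simp [MonoidalCategory.tensorHom_def]
    have hφ : φ ▷ H ▷ X ≫ (α_ G H X).hom ≫ G ◁ φ ▷ X =
        (α_ H H X).hom ≫ H ◁ φ ▷ X ≫ (α_ H G X).inv ≫ φ ▷ G ▷ X ≫ (α_ G G X).hom := by
      ext1 <;> [skip; ext1] <;> simp
    rw [reassoc_of% hφ, MonoidalCategory.associator_naturality_left_assoc, Iso.inv_hom_id_assoc]
    simp only [MonoidalCategory.whisker_exchange_assoc]
  · have hh := hx T (g ≫ e.hom.hom.hom)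
    have he : e.hom.hom.hom ≫ φ = 𝟙 G := congrArg (fun f => f.hom.hom) e.hom_inv_id
    simpa [lift_whiskerRight_assoc, reassoc_of% he, he] using hh

end

/-- The case of a one-dimensional group. Let k be a field, X a proper k-scheme having a k-rational
point, and G a k-group scheme isomorphic, as a k-group scheme, to the additive group or to the
multiplicative group over k. Then every action of G on X fixes some k-rational point of X: there is
a k-point x with g · x = x for all points g of G with values in any k-scheme. (This is the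
one-dimensional case of the fixed point property of k-split solvable groups acting on proper
k-schemes with a rational point, to which the general case reduces by induction along a composition
series.) -/
theorem result (k : Type u) [Field k]
    (G X : Over (Spec (CommRingCat.of k))) [GrpObj G]
    (hG : Nonempty (Grp.mk G ≅ Grp.mk (Red.Ga (Spec (CommRingCat.of k)))) ∨ Nonempty (Grp.mk G ≅ Grp.mk (Red.Gm (Spec (CommRingCat.of k)))))
    [IsProper X.hom] (x₀ : 𝟙_ (Over (Spec (CommRingCat.of k))) ⟶ X) (a : AlgGrp.Action G X) :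
    ∃ x : 𝟙_ (Over (Spec (CommRingCat.of k))) ⟶ X, a.IsFixedPt x := by
  rcases hG with ⟨⟨e⟩⟩ | ⟨⟨e⟩⟩
  · obtain ⟨b, hb⟩ := transport e a
    obtain ⟨x, hx⟩ := ga_case b x₀
    exact ⟨x, hb x hx⟩
  · obtain ⟨b, hb⟩ := transport e a
    obtain ⟨x, hx⟩ := gm_case b x₀
    exact ⟨x, hb x hx⟩

end Groth.Agent.S15592
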