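import Groth.Statements.S15594
import Groth.Agent.GrpSchLib.PointsClosure
import Mathlib.RingTheory.TensorProduct.Maps


set_option autoImplicit false
universe u
open TensorProduct
open AGF

namespace Groth.Agent.S15594

/-- Affine form. Let k ⊆ K be a field extension, A a commutative k-algebra and S a set of k-algebra
homomorphisms A → k (rational points of Spec A). The ideal ⋂_{σ ∈ S} ker σ cuts out the Zariski
closure of S with its reduced structure, and its extension to K ⊗_k A equals ⋂_{σ ∈ S} ker σ_K,
where σ_K : K ⊗_k A → K is the K-algebra map induced by σ. In words: the closure of a set of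
rational points is formed compatibly with extension of the ground field. (The published statement is
for schemes locally of finite type; this affine row assumes no finiteness, which the argument does
not use.) -/
theorem result (k K A : Type u) [Field k] [Field K] [Algebra k K]
    [CommRing A] [Algebra k A] (S : Set (A →ₐ[k] k)) :
    Ideal.map (Algebra.TensorProduct.includeRight : A →ₐ[k] K ⊗[k] A) (⨅ σ ∈ S, RingHom.ker σ) =
      ⨅ σ ∈ S, RingHom.ker ((Algebra.TensorProduct.rid k K K).toAlgHom.comp
        (Algebra.TensorProduct.map (AlgHom.id K K) σ)) := by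
  apply le_antisymm
  · rw [Ideal.map_le_iff_le_comap]
    intro a ha
    simp only [Ideal.mem_iInf, RingHom.mem_ker, Ideal.mem_comap] at ha ⊢
    intro σ hσ
    simp [ha σ hσ]
  · intro z hz
    simp only [Ideal.mem_iInf, RingHom.mem_ker] at hz
    obtain ⟨s, c, rfl, hc⟩ := GrpSchLib.exists_sum_tmul_of_forall_lTensor (fun σ : S => σ.1.toLinearMap) z
      (fun σ => by
        apply (TensorProduct.rid k K).injective
        rw [map_zero, ← hz σ.1 σ.2]
        clear hz
        induction z using TensorProduct.induction_on with
        | zero => simp
        | tmul v a => simp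
        | add p q hp hq => simp only [map_add, hp, hq])
    refine Submodule.sum_mem _ fun j _ => ?_
    have e : Module.Basis.ofVectorSpace k K j ⊗ₜ[k] c j = (Module.Basis.ofVectorSpace k K j ⊗ₜ[k] (1 : A)) *
        (Algebra.TensorProduct.includeRight : A →ₐ[k] K ⊗[k] A) (c j) := by
      rw [Algebra.TensorProduct.includeRight_apply, Algebra.TensorProduct.tmul_mul_tmul, mul_one, one_mul]
    rw [e]
    refine Ideal.mul_mem_left _ _ (Ideal.mem_map_of_mem _ ?_)
    simp only [Ideal.mem_iInf, RingHom.mem_ker]
    exact fun σ hσ => hc j ⟨σ, hσ⟩

end Groth.Agent.S15594
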