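import Groth.Agent.S15594
import Groth.Agent.Hensel.HenselizationLoc
import Mathlib
import Groth.Statements.S15595
-- import your own Groth.Agent.* helpers here

set_option autoImplicit false
universe u
open TensorProduct
attribute [local instance] RingHom.ker_isPrime
open CAlg

namespace Groth.Agent.S15595

/-- Let k ⊆ K be a field extension and A a Noetherian local k-algebra with residue field k, recorded by
a k-algebra map π : A → k whose kernel is the maximal ideal. Let π_K : K ⊗_k A → K be the induced
K-algebra map, m' its kernel, and A' the localization of K ⊗_k A at m'. Assume A' is Noetherian.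
Then A is a regular local ring if and only if A' is a regular local ring. -/
theorem result (k K A : Type u) [Field k] [Field K]
    [Algebra k K] [CommRing A] [Algebra k A] [IsLocalRing A] [IsNoetherianRing A]
    (π : A →ₐ[k] k) (hπ : RingHom.ker π = IsLocalRing.maximalIdeal A)
    [IsNoetherianRing (Localization.AtPrime (RingHom.ker
      ((Algebra.TensorProduct.rid k K K).toAlgHom.comp (Algebra.TensorProduct.map (AlgHom.id K K) π))))] :
    IsRegularLocalRing A ↔ IsRegularLocalRing (Localization.AtPrime (RingHom.ker
      ((Algebra.TensorProduct.rid k K K).toAlgHom.comp (Algebra.TensorProduct.map (AlgHom.id K K) π)))) := by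
  set πK := (Algebra.TensorProduct.rid k K K).toAlgHom.comp (Algebra.TensorProduct.map (AlgHom.id K K) π) with hπK
  let incl : A →ₐ[k] TensorProduct k K A := Algebra.TensorProduct.includeRight
  let φ : A →+* Localization.AtPrime (RingHom.ker πK) :=
    (algebraMap (TensorProduct k K A) _).comp incl.toRingHom
  have hflat : φ.Flat := by
    refine RingHom.Flat.comp (f := incl.toRingHom) ?_ (RingHom.flat_algebraMap_iff.2 inferInstance)
    have h1 : (algebraMap A (TensorProduct k A K)).Flat := RingHom.flat_algebraMap_iff.2 inferInstance
    have h2 := RingHom.Flat.comp h1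
      (RingHom.Flat.of_bijective (Algebra.TensorProduct.comm k A K).bijective
        (f := (Algebra.TensorProduct.comm k A K).toAlgHom.toRingHom))
    convert h2 using 1
    ext a
    simp [incl]
  have hker : Ideal.map incl (RingHom.ker π) = RingHom.ker πK := by
    have := Groth.Agent.S15594.result k K A {π}
    rwa [iInf_singleton, iInf_singleton] at this
  letI : Algebra A (Localization.AtPrime (RingHom.ker πK)) := φ.toAlgebra
  haveI : Module.Flat A (Localization.AtPrime (RingHom.ker πK)) := hflat
  have hm : (IsLocalRing.maximalIdeal A).map (algebraMap A (Localization.AtPrime (RingHom.ker πK))) =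
      IsLocalRing.maximalIdeal (Localization.AtPrime (RingHom.ker πK)) := by
    rw [← hπ, RingHom.algebraMap_toAlgebra]
    show Ideal.map ((algebraMap (TensorProduct k K A) _).comp incl.toRingHom) (RingHom.ker π) = _
    rw [← Ideal.map_map, ← Localization.AtPrime.map_eq_maximalIdeal]
    exact congrArg _ hker
  haveI : IsLocalHom (algebraMap A (Localization.AtPrime (RingHom.ker πK))) :=
    ((IsLocalRing.local_hom_TFAE _).out 2 0).1 hm.le
  exact Groth.Agent.Hensel.isRegularLocalRing_iff_of_flat hm

end Groth.Agent.S15595
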