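import Groth.Statements.S15596
import Groth.Agent.GrpSchLib.ReducedPoints


set_option autoImplicit false
universe u
open CategoryTheory MonoidalCategory CartesianMonoidalCategory MonObj GrpObj AlgebraicGeometry
open AlgGrp

namespace Groth.Agent.S15596

/-- Let k be an algebraically closed field, H a smooth k-group scheme of finite type, and U a dense open
subset of H. Then every k-rational point h of H is of the form u₂ · u₁⁻¹ for k-rational points u₁,
u₂ of H whose underlying points lie in U. -/
theorem result (k : Type u) [Field k] [IsAlgClosed k]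
    (H : Over (Spec (CommRingCat.of k))) [GrpObj H] [Smooth H.hom] [QuasiCompact H.hom]
    (U : H.left.Opens) (hU : Dense (U : Set ↥H.left)) (h : 𝟙_ (Over (Spec (CommRingCat.of k))) ⟶ H) :
    ∃ u₁ u₂ : 𝟙_ (Over (Spec (CommRingCat.of k))) ⟶ H,
      u₁.left.base (IsLocalRing.closedPoint k) ∈ U ∧ u₂.left.base (IsLocalRing.closedPoint k) ∈ U ∧
        h = u₂ * u₁⁻¹ := by
  have : LocallyOfFiniteType H.hom := inferInstance
  have : JacobsonSpace H.left := LocallyOfFiniteType.jacobsonSpace H.hom
  let L : H ⟶ H := (toUnit H ≫ h) * 𝟙 H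
  let L' : H ⟶ H := (toUnit H ≫ h⁻¹) * 𝟙 H
  have hL : ∀ (T : Over (Spec (CommRingCat.of k))) (x : T ⟶ H), x ≫ L = (toUnit T ≫ h) * x := by
    intro T x
    rw [MonObj.comp_mul, Category.comp_id, ← Category.assoc, comp_toUnit]
  have hLL : L' ≫ L = 𝟙 H := by
    rw [hL, ← _root_.mul_assoc, ← MonObj.comp_mul, mul_inv_cancel, MonObj.comp_one, _root_.one_mul]
  have hsurj : Function.Surjective L.left.base := fun y =>
    ⟨L'.left.base y, by
      have := congrArg (fun e : H ⟶ H => e.left.base y) hLL
      simpa using this⟩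
  obtain ⟨y, hy⟩ : (U : Set ↥H.left).Nonempty := by
    have : Nonempty ↥H.left := ⟨η[H].left.base (IsLocalRing.closedPoint k)⟩
    exact hU.nonempty
  obtain ⟨x, hx⟩ := hsurj y
  have hopen : IsOpen ((U : Set ↥H.left) ∩ L.left.base ⁻¹' (U : Set ↥H.left)) :=
    U.isOpen.inter (U.isOpen.preimage L.left.base.hom.continuous)
  have hne : ((U : Set ↥H.left) ∩ L.left.base ⁻¹' (U : Set ↥H.left)).Nonempty := by
    rw [Set.inter_comm]
    exact hU.inter_open_nonempty _ (U.isOpen.preimage L.left.base.hom.continuous) ⟨x, by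
      show L.left.base x ∈ U
      rw [hx]; exact hy⟩
  obtain ⟨c, hc1, hc⟩ := nonempty_inter_closedPoints hne hopen.isLocallyClosed
  obtain ⟨s, hs⟩ := GrpSchLib.exists_point_of_isClosed (K := k) H hc
  let u : 𝟙_ (Over (Spec (CommRingCat.of k))) ⟶ H := Over.homMk s.left (by
    have := Over.w s
    simpa using this)
  refine ⟨u, h * u, ?_, ?_, by rw [mul_inv_cancel_right]⟩
  · show s.left.base _ ∈ U
    rw [show s.left.base (IsLocalRing.closedPoint k) = c from hs]
    exact hc1.1
  · have e : h * u = u ≫ L := by rw [hL, toUnit_unit, Category.id_comp]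
    rw [e]
    show L.left.base (s.left.base _) ∈ U
    rw [show s.left.base (IsLocalRing.closedPoint k) = c from hs]
    exact hc1.2

end Groth.Agent.S15596
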