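import Groth.Statements.S15597
import Groth.Agent.SolvGrp.Unip
import Groth.Agent.GrpSchLib.HopfFlat
import Groth.Agent.GrpSchLib.PerfectSmooth
import Groth.Agent.GrpSchLib.AntiAffine
import Groth.Agent.SepIdemLib.Basic
-- import your own Groth.Agent.* helpers here

set_option autoImplicit false
universe u v
open HopfRep

namespace Groth.Agent.S15597

set_option backward.isDefEq.respectTransparency false
set_option backward.isDefEq.respectTransparency.types false
set_option linter.style.haveILetI false

section Geometry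

open CategoryTheory MonoidalCategory CartesianMonoidalCategory MonObj AlgebraicGeometry
open SolvGrp GrpSchLib GrpSchLib.Kunneth GrpSchLib.LineGroups WeilCmp.Unip AGFLib AGFLib.Gen AGFLib.BorelFixed
  AGFLib.BorelExist

variable {k : Type u} [Field k] [IsAlgClosed k]

local notation "PT" => 𝟙_ (Over (Spec (CommRingCat.of k)))

/-- A connected group all of whose points are semisimple is commutative. -/
theorem commute_of_isSsPt (G : Over (Spec (CommRingCat.of k))) [GrpObj G] [IsAffine G.left] [Smooth G.hom]
    [ConnectedSpace G.left] (hss : ∀ g : PT ⟶ G, IsSsPt g) : ∀ a b : PT ⟶ G, Commute a b := by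
  haveI : IsReduced G.left := isReduced_of_smooth_field G.hom
  obtain ⟨B, _, iB, X, a, o, hB, hX, hpr⟩ := AGFLib.Borel.exists_borel G
  haveI := hpr
  obtain ⟨hmon, hcl, hsm, hconn, hsolv, -⟩ := id hB
  haveI := hmon
  haveI := hcl
  haveI := hsm
  haveI := hconn
  obtain ⟨haffB, hlftB, hqcB, hmono, hevB⟩ := sub_props iB
  haveI := haffB
  haveI := hlftB
  haveI := hmono
  haveI : IsReduced B.left := isReduced_of_smooth_field B.hom
  have hssB : ∀ b : PT ⟶ B, IsSsPt b := fun b => (hss (b ≫ iB)).map iB hevB
  obtain ⟨n, hn⟩ := id hsolv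
  obtain ⟨T, _, i, hi, hci, hT, hA, -⟩ := exists_torus_of_derivedSeries n B (hn _)
  haveI := hi
  haveI := hci
  haveI := mono_of_closedImmersion i
  have hBcomm : ∀ x y : PT ⟶ B, Commute x y := by
    have hall : ∀ x : PT ⟶ B, ∃ t : PT ⟶ T, t ≫ i = x := fun x => by
      obtain ⟨_, ⟨t, rfl⟩, hu⟩ := hA x
      exact ⟨t, inv_mul_eq_one.mp (eq_one_of_isSsPt_isUnipPt (hssB _) hu)⟩
    intro x y
    obtain ⟨t, rfl⟩ := hall x
    obtain ⟨t', rfl⟩ := hall y
    show (t ≫ i) * (t' ≫ i) = (t' ≫ i) * (t ≫ i)
    rw [← MonObj.mul_comp, ← MonObj.mul_comp, (torus_commute hT t t').eq]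
  have hcent : ∀ (w : PT ⟶ B) (g : PT ⟶ G), Commute (w ≫ iB) g := fun w g => by
    have hB' : ∀ (T' : Over (Spec (CommRingCat.of k))) (h : T' ⟶ B),
        (toUnit T' ≫ w) * h = h * (toUnit T' ≫ w) := by
      intro T' h
      have key : (toUnit B ≫ w) * 𝟙 B = 𝟙 B * (toUnit B ≫ w) := by
        haveI := GrpSchLib.AntiAffine.isSeparated_grp B
        refine hom_ext_pts fun y => ?_
        rw [MonObj.comp_mul, MonObj.comp_mul, Category.comp_id, ← Category.assoc,
          toUnit_unique (y ≫ toUnit B) (𝟙 _), Category.id_comp]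
        exact hBcomm w y
      have := congrArg (h ≫ ·) key
      simpa [MonObj.comp_mul, ← Category.assoc, toUnit_unique (h ≫ toUnit B) (toUnit T')] using this
    have := AGFLib.CentBorel.central hX (w ≫ iB) (fun T' x h => by
      rw [toUnit_unique x (toUnit T'), ← Category.assoc, ← MonObj.mul_comp, ← MonObj.mul_comp, hB'])
      PT (𝟙 PT) g
    rwa [Category.id_comp] at this
  let N : Subgroup (PT ⟶ G) := rangePts iB
  have hN : N.Normal := ⟨by
    rintro _ ⟨w, rfl⟩ g
    exact ⟨w, by show w ≫ iB = _; rw [← (hcent w g).eq, mul_inv_cancel_right]⟩⟩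
  obtain ⟨Q, _, q, hq, haQ, hsQ, -, hsurj, -, hker⟩ := exists_quot N (ptsClosed_range _) hN
  haveI := hq
  haveI := haQ
  haveI := hsQ
  haveI := hsurj
  haveI : ConnectedSpace Q.left := q.left.surjective.connectedSpace q.left.continuous
  obtain ⟨B', _, iB', p, hm', hci', hsm', himg⟩ := AGFLib.BorelImage.exists_image q iB
  haveI := hm'
  haveI := hci'
  haveI := hsm'
  obtain ⟨hpsurj, hp⟩ := himg hsm
  haveI := hpsurj
  haveI : Mono iB' := mono_of_closedImmersion iB'
  obtain ⟨-, hlft', -, -, -⟩ := sub_props iB'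
  haveI := hlft'
  have hc' : Subgroup.lowerCentralSeries (⊤ : Subgroup (PT ⟶ B')) 0 = ⊥ := by
    rw [Subgroup.lowerCentralSeries_zero, eq_bot_iff]
    intro x _
    haveI := GrpSchLib.AntiAffine.isSeparated_grp B'
    obtain ⟨y, rfl⟩ := exists_of_mem_range p x (p.left.surjective _)
    refine Subgroup.mem_bot.mpr ((cancel_mono iB').mp ?_)
    rw [MonObj.one_comp, Category.assoc, hp, ← Category.assoc]
    exact (hker _).mpr ⟨y, rfl⟩
  have htop := borel_unip_eq_top 0 Q B' iB' (AGFLib.BorelImage.isBorel_image q iB hB iB' p hp) hc'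
  have hmemN : ∀ g : PT ⟶ G, g ∈ N := fun g => (hker _).mp (by
    obtain ⟨b', hb'⟩ : g ≫ q ∈ rangePts iB' := htop ▸ Subgroup.mem_top _
    rw [← hb']
    have : b' ∈ (⊥ : Subgroup (PT ⟶ B')) := hc' ▸ (by rw [Subgroup.lowerCentralSeries_zero]; exact Subgroup.mem_top b')
    show b' ≫ iB' = 1
    rw [Subgroup.mem_bot.mp this, MonObj.one_comp])
  intro x y
  obtain ⟨w, rfl⟩ := hmemN x
  exact hcent w y

end Geometry

open scoped Groth.Agent.ComodLib

/-- The points act diagonalisably on the regular comodule. -/
theorem iSup_eigenspace_act {k : Type u} {A : Type v} [Field k] [IsAlgClosed k] [CommRing A] [HopfAlgebra k A]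
    (hss : ∀ (g : A →ₐ[k] k) (V : Type v) [AddCommGroup V] [Module k V] [HopfRep.Comod k A V],
      Module.Finite k V → Module.End.IsSemisimple (HopfRep.Comod.act k A V g)) (g : A →ₐ[k] k) :
    ⨆ μ, Module.End.eigenspace (HopfRep.Comod.act k A A g) μ = ⊤ := by
  refine eq_top_iff.mpr fun a _ => ?_
  obtain ⟨W, hWf, haW, hW⟩ := ComodLib.exists_finite_subcomod_mem (C := A) (k := k) (V := A) a
  letI cW : HopfRep.Comod k A W := ComodSub.Comod.restr (HopfRep.Comod.regular k A) W hW
  haveI := hWf
  have hcomm : ∀ w : W, ((HopfRep.Comod.act k A W g w : W) : A) = HopfRep.Comod.act k A A g (w : A) := fun w => by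
    show W.subtype (ComodLib.slice g.toLinearMap (cW.coact w)) = ComodLib.slice g.toLinearMap _
    rw [← ComodLib.slice_rTensor, ComodSub.restr_coact_coe]
  have hmem : (⟨a, haW⟩ : W) ∈ ⨆ μ, Module.End.eigenspace (HopfRep.Comod.act k A W g) μ := by
    rw [(hss g W inferInstance).iSup_eigenspace_eq_top]
    trivial
  have hle : (⨆ μ, Module.End.eigenspace (HopfRep.Comod.act k A W g) μ).map W.subtype ≤
      ⨆ μ, Module.End.eigenspace (HopfRep.Comod.act k A A g) μ := by
    rw [Submodule.map_iSup]
    refine iSup_mono fun μ => ?_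
    rintro _ ⟨w, hw, rfl⟩
    rw [Module.End.mem_eigenspace_iff]
    show HopfRep.Comod.act k A A g (w : A) = μ • (w : A)
    rw [← hcomm, Module.End.mem_eigenspace_iff.mp hw]
    rfl
  exact hle ⟨_, hmem, rfl⟩

/-- Points separate the elements of a reduced algebra of finite type. -/
theorem eq_zero_of_points' {k : Type u} {A : Type v} [Field k] [IsAlgClosed k] [CommRing A] [Algebra k A]
    [Algebra.FiniteType k A] [_root_.IsReduced A] (b : A) (h : ∀ χ : A →ₐ[k] k, χ b = 0) : b = 0 := by
  haveI : IsJacobsonRing A := isJacobsonRing_of_finiteType (A := k)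
  have hmem : b ∈ (⊥ : Ideal A).jacobson := by
    rw [Ideal.jacobson, Submodule.mem_sInf]
    rintro m ⟨-, hm⟩
    letI : Field (A ⧸ m) := Ideal.Quotient.field m
    haveI : Module.Finite k (A ⧸ m) := finite_of_finite_type_of_isJacobsonRing k (A ⧸ m)
    let e := AlgEquiv.ofBijective (Algebra.ofId k (A ⧸ m))
      (IsAlgClosed.algebraMap_bijective_of_isIntegral (k := k) (K := A ⧸ m))
    have := h (e.symm.toAlgHom.comp (Ideal.Quotient.mkₐ k m))
    simp only [AlgHom.comp_apply, AlgEquiv.coe_toAlgHom, EmbeddingLike.map_eq_zero_iff] at this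
    exact Ideal.Quotient.eq_zero_iff_mem.mp this
  rwa [(IsJacobsonRing.out' (⊥ : Ideal A) ((nilradical_eq_zero A).le)), Ideal.mem_bot] at hmem

open WithConv CategoryTheory AlgebraicGeometry MonoidalCategory CartesianMonoidalCategory MonObj in
/-- The points form a commutative group. -/
theorem commute_small {k : Type u} [Field k] [IsAlgClosed k] {A : Type u} [CommRing A] [HopfAlgebra k A]
    [Algebra.FiniteType k A] [_root_.IsReduced A] (hconn : ∀ e : A, IsIdempotentElem e → e = 0 ∨ e = 1)
    (hdiag : ∀ g : A →ₐ[k] k, ⨆ lam, Module.End.eigenspace (HopfRep.Comod.act k A A g) lam = ⊤)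
    (g h : WithConv (A →ₐ[k] k)) : g * h = h * g := by
  haveI : Nontrivial A := ⟨0, 1, fun e => by
    have := congrArg (Coalgebra.counit (R := k)) e
    simp at this⟩
  let G := GrpSchLib.AffineHopf.sp k A
  haveI : LocallyOfFiniteType G.hom :=
    (HasRingHomProperty.Spec_iff (P := @LocallyOfFiniteType)).mpr (RingHom.finiteType_algebraMap.mpr inferInstance)
  haveI : IsReduced G.left := inferInstanceAs (IsReduced (Spec (CommRingCat.of A)))
  haveI : Smooth G.hom := GrpSchLib.smooth_of_perfectField_of_isReduced G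
  haveI : Nonempty G.left := inferInstanceAs (Nonempty (PrimeSpectrum A))
  haveI : PreconnectedSpace G.left := GrpSchLib.AntiAffine.preconnectedSpace_of_forall_idem fun e he => by
    let E := (Scheme.ΓSpecIso (CommRingCat.of A)).commRingCatIsoToRingEquiv
    rcases hconn (E e) (he.map E) with h | h
    · exact Or.inl (E.injective (h.trans (map_zero E).symm))
    · exact Or.inr (E.injective (h.trans (map_one E).symm))
  haveI : ConnectedSpace G.left := { toNonempty := inferInstance }
  let e : Grp.mk (GrpSchLib.AffineHopf.sp k A) ≅ Grp.mk G := Iso.refl _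
  let φ := SolvGrp.coordEquiv e
  have hss : ∀ x : MonoidalCategoryStruct.tensorUnit (Over (Spec (CommRingCat.of k))) ⟶ G, SolvGrp.IsSsPt x := fun x => by
    have hkey : ∀ z, SolvGrp.rt x (φ z) = φ (HopfRep.Comod.act k A A (SolvGrp.ptsEquiv e x).ofConv z) := fun z => by
      refine WeilCmp.Unip.eq_of_vl fun y => ?_
      rw [SolvGrp.vl_rt]
      show (SolvGrp.ptsEquiv e (y * x)).ofConv z = (SolvGrp.ptsEquiv e y).ofConv _
      rw [map_mul, AlgHom.convMul_apply]
      show _ = (SolvGrp.ptsEquiv e y).ofConv (ComodLib.slice (SolvGrp.ptsEquiv e x).ofConv.toLinearMap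
        (Coalgebra.comul (R := k) z))
      induction Coalgebra.comul (R := k) z using TensorProduct.induction_on with
      | zero => simp
      | tmul a b => simp [mul_comm]
      | add a b ha hb => simp only [map_add, ha, hb]
    refine eq_top_iff.mpr fun f _ => ?_
    obtain ⟨z, rfl⟩ := φ.surjective f
    have hle : (⨆ lam, Module.End.eigenspace (HopfRep.Comod.act k A A (SolvGrp.ptsEquiv e x).ofConv) lam).map
        φ.toLinearMap ≤ ⨆ lam, Module.End.eigenspace (SolvGrp.rl x) lam := by
      rw [Submodule.map_iSup]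
      refine iSup_mono fun lam => ?_
      rintro _ ⟨w, hw, rfl⟩
      rw [Module.End.mem_eigenspace_iff]
      show SolvGrp.rt x (φ w) = lam • φ w
      rw [hkey, Module.End.mem_eigenspace_iff.mp hw, map_smul]
    exact hle ⟨z, hdiag _ ▸ Submodule.mem_top, rfl⟩
  obtain ⟨x, rfl⟩ := (SolvGrp.ptsEquiv_bijective e).2 g
  obtain ⟨y, rfl⟩ := (SolvGrp.ptsEquiv_bijective e).2 h
  rw [← map_mul, (commute_of_isSsPt G hss x y).eq, map_mul]


/-- Let k be an algebraically closed field and G = Spec A a smooth connected affine k-group, that is, A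
is a finitely generated commutative Hopf algebra over k which is reduced and has no idempotents
other than 0 and 1; commutativity of G is not assumed. If every k-point of G is semisimple, in the
sense that it acts semisimply in every finite-dimensional A-comodule, then G is a torus: A is
spanned over k by its group-like elements. (The published statement is over an arbitrary field, with
the hypothesis on the points over an algebraic closure; this row is the algebraically closed case.) -/
theorem result (k : Type u) (A : Type v) [Field k]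
    [IsAlgClosed k] [CommRing A] [HopfAlgebra k A] [Algebra.FiniteType k A] [IsReduced A]
    (hconn : ∀ e : A, IsIdempotentElem e → e = 0 ∨ e = 1)
    (hss : ∀ (g : A →ₐ[k] k) (V : Type v) [AddCommGroup V] [Module k V] [HopfRep.Comod k A V],
      Module.Finite k V → Module.End.IsSemisimple (HopfRep.Comod.act k A V g)) :
    HopfRep.IsDiagonalizable k A := by
  classical
  have hdiag := iSup_eigenspace_act hss
  -- the group of points is commutative
  have hcommA : ∀ (g h : A →ₐ[k] k) (a : A),
      (WithConv.toConv g * WithConv.toConv h).ofConv a = (WithConv.toConv h * WithConv.toConv g).ofConv a := by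
    obtain ⟨A', _, _, e, he, hft, hc, hε⟩ := GrpSchLib.HopfFlat.exists_small (k := k) A
    haveI := hft
    let E := AlgEquiv.ofBijective e he
    haveI : _root_.IsReduced A' := isReduced_of_injective e he.1
    have hconn' : ∀ x : A', IsIdempotentElem x → x = 0 ∨ x = 1 := fun x hx => by
      rcases hconn (e x) (hx.map e) with h | h
      · exact Or.inl (he.1 (h.trans (map_zero e).symm))
      · exact Or.inr (he.1 (h.trans (map_one e).symm))
    have hact : ∀ (g : A →ₐ[k] k) (x : A'),
        e (HopfRep.Comod.act k A' A' (g.comp e) x) = HopfRep.Comod.act k A A g (e x) := by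
      intro g x
      show e (ComodLib.slice (g.comp e).toLinearMap (Coalgebra.comul (R := k) x)) =
        ComodLib.slice g.toLinearMap (Coalgebra.comul (R := k) (e x))
      rw [← hc]
      induction Coalgebra.comul (R := k) x using TensorProduct.induction_on with
      | zero => simp
      | tmul a b => simp
      | add a b ha hb => simp only [map_add, ha, hb]
    have hdiag' : ∀ g' : A' →ₐ[k] k, ⨆ μ, Module.End.eigenspace (HopfRep.Comod.act k A' A' g') μ = ⊤ := fun g' => by
      refine eq_top_iff.mpr fun x _ => ?_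
      have hg : g' = (g'.comp E.symm.toAlgHom).comp e := AlgHom.ext fun y => congrArg g' (E.symm_apply_apply y).symm
      rw [hg]
      have hle : (⨆ μ, Module.End.eigenspace (HopfRep.Comod.act k A A (g'.comp E.symm.toAlgHom)) μ).comap
          e.toLinearMap ≤ ⨆ μ, Module.End.eigenspace (HopfRep.Comod.act k A' A' ((g'.comp E.symm.toAlgHom).comp e)) μ := by
        change (⨆ μ, Module.End.eigenspace (HopfRep.Comod.act k A A (g'.comp E.symm.toAlgHom)) μ).comap
          E.toLinearEquiv.toLinearMap ≤ _
        rw [Submodule.comap_equiv_eq_map_symm, Submodule.map_iSup]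
        refine iSup_mono fun μ => ?_
        rintro _ ⟨w, hw, rfl⟩
        obtain ⟨w, rfl⟩ := E.surjective w
        replace hw := Module.End.mem_eigenspace_iff.mp hw
        rw [Module.End.mem_eigenspace_iff]
        show HopfRep.Comod.act k A' A' _ (E.symm (E w)) = μ • E.symm (E w)
        rw [E.symm_apply_apply]
        apply he.1
        rw [hact, map_smul]
        exact hw
      exact hle (show e x ∈ _ from hdiag _ ▸ Submodule.mem_top)
    intro g h a
    obtain ⟨x, rfl⟩ := he.2 a
    have key : ∀ g h : A →ₐ[k] k, (WithConv.toConv g * WithConv.toConv h).ofConv (e x) =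
        (WithConv.toConv (g.comp e) * WithConv.toConv (h.comp e)).ofConv x := fun g h => by
      simp only [AlgHom.convMul_apply, ← hc]
      induction Coalgebra.comul (R := k) x using TensorProduct.induction_on with
      | zero => simp
      | tmul a b => simp
      | add a b ha hb => simp only [map_add, ha, hb]
    rw [key, key, commute_small hconn' hdiag']
  -- simultaneous eigenvectors are multiples of group-like elements
  have hcommT : ∀ g h : A →ₐ[k] k, Commute (HopfRep.Comod.act k A A g) (HopfRep.Comod.act k A A h) := by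
    intro g h
    refine LinearMap.ext fun a => ?_
    have e : ∀ g h : A →ₐ[k] k, HopfRep.Comod.act k A A g (HopfRep.Comod.act k A A h a) =
        ComodLib.actF (WithConv.toConv g.toLinearMap * WithConv.toConv h.toLinearMap).ofConv a := fun g h =>
      (ComodLib.actF_convMul (WithConv.toConv g.toLinearMap) (WithConv.toConv h.toLinearMap) a).symm
    show HopfRep.Comod.act k A A g _ = HopfRep.Comod.act k A A h _
    rw [e, e]
    refine congrArg (fun φ : A →ₗ[k] k => ComodLib.actF φ a) (LinearMap.ext fun z => ?_)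
    exact hcommA g h z
  refine eq_top_iff.mpr fun a _ => ?_
  obtain ⟨W, hWf, haW, hW⟩ := ComodLib.exists_finite_subcomod_mem (C := A) (k := k) (V := A) a
  haveI := hWf
  have hmem : ∀ g : A →ₐ[k] k, ∀ w ∈ W, HopfRep.Comod.act k A A g w ∈ W := fun g w hw =>
    ComodLib.subcomod_actF_mem hW g.toLinearMap hw
  let f : (A →ₐ[k] k) → Module.End k W := fun g => (HopfRep.Comod.act k A A g).restrict (hmem g)
  letI cW : HopfRep.Comod k A W := ComodSub.Comod.restr (HopfRep.Comod.regular k A) W hW
  have hfW' : ∀ g, ∀ w : W, ((f g w : W) : A) = HopfRep.Comod.act k A A g (w : A) := fun g w => rfl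
  have hfW : ∀ g, f g = HopfRep.Comod.act k A W g := fun g => LinearMap.ext fun w => Subtype.ext (by
    show ComodLib.slice g.toLinearMap _ = W.subtype (ComodLib.slice g.toLinearMap (cW.coact w))
    rw [← ComodLib.slice_rTensor, ComodSub.restr_coact_coe]
    rfl)
  have hss' : ∀ g, (f g).IsSemisimple := fun g => hfW g ▸ hss g W inferInstance
  have hfdiag : ∀ g, ⨆ μ, (f g).eigenspace μ = ⊤ := fun g => (hss' g).iSup_eigenspace_eq_top
  have htop : ⨆ χ : (A →ₐ[k] k) → k, ⨅ g, (f g).maxGenEigenspace (χ g) = ⊤ := by
    refine Module.End.iSup_iInf_maxGenEigenspace_eq_top_of_forall_mapsTo f (fun i j φ => ?_) (fun g => ?_)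
    · exact Module.End.mapsTo_maxGenEigenspace_of_comm (LinearMap.ext fun (w : W) => Subtype.ext
        (LinearMap.congr_fun (hcommT j i).eq (w : A) :)) φ
    · exact eq_top_iff.mpr ((hfdiag g).ge.trans (iSup_mono fun μ => Module.End.eigenspace_le_maxGenEigenspace))
  have ha : (⟨a, haW⟩ : W) ∈ ⨆ χ : (A →ₐ[k] k) → k, ⨅ g, (f g).maxGenEigenspace (χ g) := htop ▸ Submodule.mem_top
  have hle : (⨆ χ : (A →ₐ[k] k) → k, ⨅ g, (f g).maxGenEigenspace (χ g)).map W.subtype ≤
      Submodule.span k {x : A | IsGroupLikeElem k x} := by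
    rw [Submodule.map_iSup]
    refine iSup_le fun χ => ?_
    rintro _ ⟨w, hw, rfl⟩
    have hw' : ∀ g, HopfRep.Comod.act k A A g (w : A) = χ g • (w : A) := fun g => by
      have h1 := Submodule.mem_iInf _ |>.mp hw g
      rw [(hss' g).isFinitelySemisimple.maxGenEigenspace_eq_eigenspace] at h1
      exact congrArg Subtype.val (Module.End.mem_eigenspace_iff.mp h1)
    show (w : A) ∈ _
    by_cases h0 : (w : A) = 0
    · rw [h0]; exact Submodule.zero_mem _
    have hval : ∀ g : A →ₐ[k] k, g (w : A) = χ g * Coalgebra.counit (R := k) (w : A) := fun g => by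
      have h2 := congrArg (Coalgebra.counit (R := k)) (hw' g)
      rw [map_smul, smul_eq_mul] at h2
      rw [← h2]
      show g (w : A) = Coalgebra.counit (ComodLib.slice g.toLinearMap (Coalgebra.comul (R := k) (w : A)))
      conv_lhs => rw [← Coalgebra.sum_counit_smul (Coalgebra.Repr.arbitrary k (w : A)), map_sum]
      rw [← (Coalgebra.Repr.arbitrary k (w : A)).eq, map_sum, map_sum]
      simp [mul_comm]
    have hε : Coalgebra.counit (R := k) (w : A) ≠ 0 := fun hz => h0
      (eq_zero_of_points' (k := k) _ fun g => by rw [hval, hz, mul_zero])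
    let b : A := (Coalgebra.counit (R := k) (w : A))⁻¹ • (w : A)
    have hb : ∀ g : A →ₐ[k] k, g b = χ g := fun g => by
      simp only [b, map_smul, smul_eq_mul, hval]
      field_simp
    have hgl : IsGroupLikeElem k b := by
      refine ⟨by simp [b, inv_mul_cancel₀ hε], ?_⟩
      have h3 : ∀ g : A →ₐ[k] k, ComodLib.slice g.toLinearMap (Coalgebra.comul (R := k) b - b ⊗ₜ[k] b) = 0 := fun g => by
        rw [map_sub, ComodLib.slice_tmul]
        show ComodLib.slice g.toLinearMap (Coalgebra.comul (R := k) b) - g b • b = 0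
        rw [hb, sub_eq_zero]
        show HopfRep.Comod.act k A A g b = χ g • b
        rw [map_smul, hw', smul_comm]
      refine sub_eq_zero.mp ?_
      generalize Coalgebra.comul (R := k) b - b ⊗ₜ[k] b = z at h3
      let B := Module.Free.chooseBasis k A
      obtain ⟨c, rfl⟩ : ∃ c, (TensorProduct.equivFinsuppOfBasisLeft B).symm c = z :=
        ⟨_, (TensorProduct.equivFinsuppOfBasisLeft B).symm_apply_apply z⟩
      suffices c = 0 by rw [this, map_zero]
      refine Finsupp.ext fun i => eq_zero_of_points' (k := k) _ fun g => ?_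
      have h4 := congrArg (fun y => B.repr y i) (h3 g)
      by_cases hi : c i = 0
      · rw [hi, map_zero]
      · exact (by simpa [TensorProduct.equivFinsuppOfBasisLeft_symm_apply, Finsupp.sum, Finsupp.single_apply,
          Finsupp.coe_finsetSum] using h4 : ¬c i = 0 → g (c i) = 0) hi
    have : (w : A) = Coalgebra.counit (R := k) (w : A) • b := by simp [b, smul_smul, mul_inv_cancel₀ hε]
    rw [this]
    exact Submodule.smul_mem _ _ (Submodule.subset_span hgl)
  exact hle ⟨_, ha, rfl⟩

end Groth.Agent.S15597
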