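import Groth.Statements.S15598
import Groth.Agent.GrpSchLib.Homogeneous
import Groth.Agent.GrpSchLib.SmoothReduced
import Groth.Agent.GrpSchLib.Core
import Groth.Agent.GrpSchLib.IdentityComp
-- import your own Groth.Agent.* helpers here

set_option autoImplicit false
universe u
open CategoryTheory MonoidalCategory CartesianMonoidalCategory MonObj GrpObj AlgebraicGeometry
open AlgGrp

namespace Groth.Agent.S15598

/-- Let k be an algebraically closed field, G a k-group scheme of finite type, and X a smooth connected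
k-scheme with an action of G. Suppose that for some k-point x₀ of X the orbit map g ↦ g · x₀ from G
to X is surjective, and that the stabilizer of x₀, a subgroup scheme H ⟶ G whose points are exactly
the points g of G with g · x₀ = x₀, is connected. Then G is connected. (Stated over an algebraically
closed field, to which the general case reduces since a k-group scheme of finite type is connected
exactly when it is geometrically connected.) -/
theorem result (k : Type u) [Field k] [IsAlgClosed k]
    (G X : Over (Spec (CommRingCat.of k))) [GrpObj G] [LocallyOfFiniteType G.hom] [QuasiCompact G.hom]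
    [Smooth X.hom] [ConnectedSpace ↥X.left] (a : AlgGrp.Action G X) (x₀ : 𝟙_ (Over (Spec (CommRingCat.of k))) ⟶ X)
    (hsurj : Surjective (a.orbitMap x₀).left)
    (H : Over (Spec (CommRingCat.of k))) [GrpObj H] (i : H ⟶ G) [IsMonHom i] [Mono i]
    (hH : ∀ (T : Over (Spec (CommRingCat.of k))) (g : T ⟶ G), (∃ h : T ⟶ H, h ≫ i = g) ↔ g ≫ a.orbitMap x₀ = toUnit T ≫ x₀)
    [ConnectedSpace ↥H.left] : ConnectedSpace ↥G.left := by
  let orb := a.orbitMap x₀
  let pt := IsLocalRing.closedPoint k
  have : LocallyOfFiniteType X.hom := inferInstance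
  have : IsLocallyNoetherian X.left := LocallyOfFiniteType.isLocallyNoetherian X.hom
  have : IsLocallyNoetherian G.left := LocallyOfFiniteType.isLocallyNoetherian G.hom
  have : CompactSpace G.left := QuasiCompact.compactSpace_of_compactSpace G.hom
  have : IsNoetherian G.left := ⟨⟩
  have : IsReduced X.left := GrpSchLib.isReduced_of_smooth_field X.hom
  have : QuasiSeparated X.hom := (quasiSeparated_iff_quasiSeparatedSpace _).mpr inferInstance
  have : QuasiCompact orb.left := by
    have : QuasiCompact (orb.left ≫ X.hom) := by rw [Over.w orb]; infer_instance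
    exact QuasiCompact.of_comp orb.left X.hom
  have : LocallyOfFiniteType orb.left := by
    have : LocallyOfFiniteType (orb.left ≫ X.hom) := by rw [Over.w orb]; infer_instance
    exact locallyOfFiniteType_of_comp orb.left X.hom
  have : Surjective orb.left := hsurj
  have : Nonempty G.left := ⟨η[G].left pt⟩
  have hfl := (GrpSchLib.flat_surjective_of_homogeneous (X := G) (Y := X) k orb (fun y y' => by
    obtain ⟨w, hw⟩ := GrpSchLib.exists_point_lift orb y
    obtain ⟨w', hw'⟩ := GrpSchLib.exists_point_lift orb y'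
    obtain ⟨S, T, h1, -, h3⟩ := GrpSchLib.orbitMap_homogeneous (K := k) a x₀ w w'
    refine ⟨S, T, h1, ?_⟩
    rw [← hw, ← hw', show lift (w ≫ orb) (𝟙 _) = lift w (𝟙 _) ≫ orb ▷ _ by simp, Category.assoc, ← h1,
      ← Category.assoc, h3]
    simp [orb])).1
  have : LocallyOfFinitePresentation orb.left := inferInstance
  have hopen : IsOpenMap orb.left := orb.left.isOpenMap
  let C : Set G.left := connectedComponent (η[G].left pt)
  have hCo : IsOpen C := by
    obtain ⟨G₀, _, incl, _, _, _, hr, -, -⟩ := GrpSchLib.exists_identityComponent (G := G)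
    have : LocallyOfFinitePresentation incl.left := inferInstance
    exact (show Set.range incl.left = C from hr) ▸ incl.left.isOpenMap.isOpen_range
  have hCc : IsClosed C := isClosed_connectedComponent
  have : JacobsonSpace G.left := LocallyOfFiniteType.jacobsonSpace G.hom
  have : JacobsonSpace X.left := LocallyOfFiniteType.jacobsonSpace X.hom
  have hpts : ∀ {Y : Over (Spec (CommRingCat.of k))} [LocallyOfFiniteType Y.hom] (y : Y.left), IsClosed {y} →
      ∃ p : 𝟙_ (Over (Spec (CommRingCat.of k))) ⟶ Y, p.left pt = y := fun {Y} _ y hy =>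
    ⟨Over.homMk ((pointEquivClosedPoint Y.hom).symm ⟨y, hy⟩).1 ((pointEquivClosedPoint Y.hom).symm ⟨y, hy⟩).2,
      congrArg Subtype.val ((pointEquivClosedPoint Y.hom).apply_symm_apply ⟨y, hy⟩)⟩
  -- two points with the same orbit point lie in the same component
  have hsame : ∀ c c' : 𝟙_ (Over (Spec (CommRingCat.of k))) ⟶ G, c ≫ orb = c' ≫ orb →
      c.left pt ∈ C → c'.left pt ∈ C := by
    intro c c' e hc
    obtain ⟨h, hh⟩ := (hH _ (c⁻¹ * c')).mpr (by
      rw [GrpSchLib.comp_orbitMap, ← GrpSchLib.act_mul, ← GrpSchLib.comp_orbitMap, ← e,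
        GrpSchLib.comp_orbitMap, GrpSchLib.act_mul, inv_mul_cancel, GrpSchLib.act_one])
    have hHC : ∀ z, i.left z ∈ C := by
      intro z
      refine (isPreconnected_range i.left.continuous).subset_connectedComponent
        ⟨η[H].left pt, ?_⟩ ⟨z, rfl⟩
      show (η[H] ≫ i).left pt = _
      rw [IsMonHom.one_hom]
    let f : G ⟶ G := (toUnit G ≫ c) * 𝟙 G
    have hf : ∀ q : 𝟙_ (Over (Spec (CommRingCat.of k))) ⟶ G, q ≫ f = c * q := fun q => by
      simp [f, MonObj.comp_mul, toUnit_unique (q ≫ toUnit G) (𝟙 _)]
    have hfc : f.left (η[G].left pt) = c.left pt := by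
      have h1 : (1 : 𝟙_ (Over (Spec (CommRingCat.of k))) ⟶ G) = η[G] := by
        rw [Hom.one_def, toUnit_unique (toUnit _) (𝟙 _), Category.id_comp]
      exact congrArg (fun q : 𝟙_ (Over (Spec (CommRingCat.of k))) ⟶ G => q.left pt)
        (show η[G] ≫ f = c by rw [hf, ← h1, _root_.mul_one])
    have hfC : f.left '' C ⊆ C := by
      have := (isPreconnected_connectedComponent.image f.left f.left.continuous.continuousOn).subset_connectedComponent
        ⟨_, mem_connectedComponent, hfc⟩
      exact this.trans (connectedComponent_eq hc).symm.subset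
    have := hfC ⟨(h ≫ i).left pt, hHC _, rfl⟩
    rwa [show f.left ((h ≫ i).left pt) = ((h ≫ i) ≫ f).left pt from rfl, hf, hh, mul_inv_cancel_left] at this
  have hdisj : Disjoint (orb.left '' C) (orb.left '' Cᶜ) := by
    rw [Set.disjoint_iff_inter_eq_empty]
    by_contra hne
    obtain ⟨x, ⟨⟨c₁, hc₁, rfl⟩, ⟨c₂, hc₂, he⟩⟩, hx⟩ := nonempty_inter_closedPoints (Set.nonempty_iff_ne_empty.mpr hne)
      ((hopen _ hCo).inter (hopen _ hCc.isOpen_compl)).isLocallyClosed
    obtain ⟨p₁, hp₁, hp₁c⟩ := nonempty_inter_closedPoints (Z := C ∩ orb.left ⁻¹' {orb.left c₁}) ⟨c₁, hc₁, rfl⟩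
      (hCc.inter (hx.preimage orb.left.continuous)).isLocallyClosed
    obtain ⟨p₂, hp₂, hp₂c⟩ := nonempty_inter_closedPoints (Z := Cᶜ ∩ orb.left ⁻¹' {orb.left c₁}) ⟨c₂, hc₂, he⟩
      (hCo.isClosed_compl.inter (hx.preimage orb.left.continuous)).isLocallyClosed
    obtain ⟨q₁, rfl⟩ := hpts p₁ hp₁c
    obtain ⟨q₂, rfl⟩ := hpts p₂ hp₂c
    refine hp₂.1 (hsame q₁ q₂ (Over.OverMorphism.ext ?_) hp₁.1)
    exact ext_of_apply_closedPoint_eq X.hom (Over.w (q₁ ≫ orb)) (Over.w (q₂ ≫ orb))
      ((show orb.left (q₁.left pt) = orb.left c₁ from hp₁.2).trans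
        (show orb.left (q₂.left pt) = orb.left c₁ from hp₂.2).symm)
  have hC : C = Set.univ := by
    refine Set.compl_empty_iff.mp (Set.not_nonempty_iff_eq_empty.mp fun hne => ?_)
    obtain ⟨x, -, hx1, hx2⟩ := (PreconnectedSpace.isPreconnected_univ (α := X.left))
      _ _ (hopen _ hCo) (hopen _ hCc.isOpen_compl)
      (by rw [← Set.image_union, Set.union_compl_self, Set.image_univ, orb.left.surjective.range_eq])
      (by rw [Set.univ_inter]; exact ⟨_, _, mem_connectedComponent, rfl⟩)
      (by rw [Set.univ_inter]; exact hne.image _)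
    exact Set.disjoint_left.mp hdisj hx1 hx2
  exact { toNonempty := inferInstance
          isPreconnected_univ := hC ▸ isPreconnected_connectedComponent }

end Groth.Agent.S15598
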