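import Groth.Statements.S15599
import Groth.Agent.SolvGrp.UnipNormal

set_option autoImplicit false
universe u
open CategoryTheory MonoidalCategory CartesianMonoidalCategory MonObj GrpObj AlgebraicGeometry
open AGF

namespace Groth.Agent.S15599

set_option backward.isDefEq.respectTransparency false
set_option backward.isDefEq.respectTransparency.types false

/-- Let k be an algebraically closed field and G a smooth affine k-group scheme, not necessarily
connected, whose unipotent radical is trivial: every smooth connected normal closed subgroup scheme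
of G containing no non-trivial subtorus is trivial. Let N ⟶ G be a smooth closed normal subgroup
scheme, not necessarily connected. Then N has the same property: every smooth connected closed
subgroup scheme of N which is normal in N and contains no non-trivial subtorus is trivial.
Reductivity, in this sense allowing disconnected groups, passes to smooth normal subgroups. (The
published statement is over an arbitrary field, with reductivity defined after extension to an
algebraic closure; this row is the algebraically closed case.) -/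
theorem result (k : Type u) [Field k] [IsAlgClosed k]
    (G N : Over (Spec (CommRingCat.of k))) [GrpObj G] [GrpObj N] [IsAffine G.left] [Smooth G.hom]
    (j : N ⟶ G) [IsMonHom j] (hj : IsClosedImmersion j.left) [Smooth N.hom] (hN : AlgGrp.IsNormalHom j)
    (hG : ∀ (U : Over (Spec (CommRingCat.of k))) [GrpObj U] (i : U ⟶ G) [IsMonHom i], IsClosedImmersion i.left → Smooth U.hom →
        ConnectedSpace ↥U.left → AlgGrp.IsNormalHom i → Red.HasNoSubtorus k U → Red.IsTrivialGrp U) :
    ∀ (U : Over (Spec (CommRingCat.of k))) [GrpObj U] (i : U ⟶ N) [IsMonHom i], IsClosedImmersion i.left → Smooth U.hom →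
        ConnectedSpace ↥U.left → AlgGrp.IsNormalHom i → Red.HasNoSubtorus k U → Red.IsTrivialGrp U := by
  intro U _ i _ hci hsU hconnU hnorm hUn
  haveI := hj
  haveI := hci
  haveI := hsU
  haveI := hconnU
  obtain ⟨haN, hlN, hqN, hmj, -⟩ := SolvGrp.sub_props j
  haveI := haN
  haveI := hlN
  haveI := hmj
  obtain ⟨haU, hlU, hqU, hmi, -⟩ := SolvGrp.sub_props i
  haveI := haU
  haveI := hlU
  haveI := hmi
  haveI : IsReduced G.left := GrpSchLib.isReduced_of_smooth_field G.hom
  haveI : IsReduced N.left := GrpSchLib.isReduced_of_smooth_field N.hom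
  haveI : IsReduced U.left := GrpSchLib.isReduced_of_smooth_field U.hom
  obtain ⟨Γ, hΓ, hunip, hcont⟩ := SolvGrp.exists_unipContainer N
  obtain ⟨E, _, e, he, hce, -, -, hr⟩ := SolvGrp.exists_sub Γ hΓ
  haveI := he
  haveI := hce
  obtain ⟨-, hlE, hqE, -, -⟩ := SolvGrp.sub_props e
  haveI := hlE
  haveI := hqE
  haveI : IsMonHom (e ≫ j) := inferInstance
  haveI : QuasiCompact G.hom := inferInstance
  let C : Set (𝟙_ (Over (Spec (CommRingCat.of k))) ⟶ G) := {z | ∃ g x, z = g * ((x ≫ i) ≫ j) * g⁻¹}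
  have hC : ∀ g, ∀ z ∈ C, g * z * g⁻¹ ∈ C := by
    rintro g _ ⟨h, x, rfl⟩
    exact ⟨g * h, x, by group⟩
  have hCΓ : C ⊆ SolvGrp.rangePts (e ≫ j) := by
    rintro _ ⟨g, x, rfl⟩
    haveI : IsMonHom (AGF.conjBy g (i ≫ j)) := by rw [AGFLib.Borel.conjBy_eq]; infer_instance
    obtain ⟨φ, hφ, hφe⟩ := SolvGrp.exists_fac_sub j (AGF.conjBy g (i ≫ j)) (by
      rintro _ ⟨y, rfl⟩
      obtain ⟨z, hz⟩ := hN _ g (y ≫ i)
      refine ⟨z, ?_⟩
      show z ≫ j = y ≫ AGF.conjBy g (i ≫ j)
      rw [← hz, AGFLib.Borel.conjBy_eq, ← Category.assoc, SolvGrp.comp_conjM_pt, Category.assoc y i j])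
    haveI := hφ
    have hφpt : ∀ y : 𝟙_ (Over (Spec (CommRingCat.of k))) ⟶ U, (y ≫ φ) ≫ j = g * ((y ≫ i) ≫ j) * g⁻¹ := fun y => by
      rw [Category.assoc, hφe, AGFLib.Borel.conjBy_eq, ← Category.assoc, SolvGrp.comp_conjM_pt, Category.assoc y i j]
    haveI : IsClosedImmersion φ.left := by
      haveI : IsClosedImmersion (AGF.conjBy g (i ≫ j)).left := by
        rw [AGFLib.Borel.conjBy_eq]
        exact inferInstanceAs (IsClosedImmersion ((i.left ≫ j.left) ≫ (AGFLib.Borel.conjM g).left))
      haveI : IsClosedImmersion (φ.left ≫ j.left) := by rw [← Over.comp_left, hφe]; infer_instance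
      exact IsClosedImmersion.of_comp φ.left j.left
    have h1 := hcont U φ inferInstance hsU hconnU hUn ⟨fun z hz a => by
      obtain ⟨y, rfl⟩ := hz
      obtain ⟨c, hc⟩ := hN _ g⁻¹ a
      obtain ⟨y', hy'⟩ := hnorm _ c y
      refine ⟨y', (cancel_mono j).mp ?_⟩
      rw [MonObj.mul_comp, MonObj.mul_comp, GrpObj.inv_comp, hφpt, hφpt, ← hy', MonObj.mul_comp, MonObj.mul_comp,
        GrpObj.inv_comp, ← hc]
      group⟩
    obtain ⟨z, hz⟩ : x ≫ φ ∈ SolvGrp.rangePts e := hr.symm ▸ h1 ⟨x, rfl⟩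
    refine ⟨z, ?_⟩
    show z ≫ e ≫ j = _
    change z ≫ e = x ≫ φ at hz
    rw [← Category.assoc, hz, hφpt]
  obtain ⟨D, _, iD, hiD, hcD, hsD, hconnD, hDn, hle, hrec⟩ :=
    SolvGrp.exists_normalSub C hC _ (SolvGrp.ptsClosed_range (e ≫ j)) hCΓ
  haveI := hiD
  haveI := hcD
  haveI := hsD
  haveI := hconnD
  obtain ⟨haD, hlD, -, -, hevD⟩ := SolvGrp.sub_props iD
  haveI := haD
  haveI := hlD
  haveI : IsReduced D.left := GrpSchLib.isReduced_of_smooth_field D.hom
  have htriv : Red.IsTrivialGrp D := hG D iD hcD hsD hconnD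
    (SolvGrp.isNormalHom_of_pts iD hDn) (SolvGrp.hasNoSubtorus_of_isUnipPt fun z => SolvGrp.IsUnipPt.map iD hevD (by
      obtain ⟨q, hq⟩ := hle ⟨z, rfl⟩
      change q ≫ e ≫ j = z ≫ iD at hq
      rw [← hq, ← Category.assoc]
      exact (SolvGrp.map_isSsPt_isUnipPt j _).2 (hunip _ (hr ▸ ⟨q, rfl⟩))))
  refine SolvGrp.isTrivialGrp_of_pts fun x => (cancel_mono (i ≫ j)).mp ?_
  obtain ⟨z, hz⟩ := hrec U (i ≫ j) (fun w hw => by
    obtain ⟨y, rfl⟩ := hw
    exact ⟨1, y, by simp⟩) (⟨x, rfl⟩ : x ≫ i ≫ j ∈ SolvGrp.rangePts (i ≫ j))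
  rw [MonObj.one_comp, ← hz, SolvGrp.pt_eq_one_of_trivial htriv z]
  exact MonObj.one_comp iD

end Groth.Agent.S15599
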