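import Groth.Statements.S15600
import Groth.Agent.SolvGrp.UnipRadSep
import Groth.Agent.SolvGrp.GaloisDescent
import Groth.Agent.SolvGrp.SolvNormal
import Groth.Agent.SolvGrp.BC
import Groth.Agent.S8002
import Groth.Agent.DomHom.MonoAffine
-- import your own Groth.Agent.* helpers here

set_option autoImplicit false
universe u
open CategoryTheory MonoidalCategory CartesianMonoidalCategory MonObj GrpObj AlgebraicGeometry
open AGF

namespace Groth.Agent.S15600

set_option backward.isDefEq.respectTransparency false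
set_option backward.isDefEq.respectTransparency.types false

open SolvGrp GrpSchLib AGFLib AVTors

/-- Transport of the absence of subtori along an equal pair of base changes. -/
theorem hasNoSubtorus_bc_bc {k Ω L : Type u} [Field k] [Field Ω] [Field L]
    (τ : Spec (CommRingCat.of L) ⟶ Spec (CommRingCat.of Ω)) (σ : Spec (CommRingCat.of Ω) ⟶ Spec (CommRingCat.of k))
    (ρ : Spec (CommRingCat.of L) ⟶ Spec (CommRingCat.of k)) (h : τ ≫ σ = ρ)
    (X : Over (Spec (CommRingCat.of k))) [GrpObj X] :
    Red.HasNoSubtorus L (Red.bc τ (Red.bc σ X)) ↔ Red.HasNoSubtorus L (Red.bc ρ X) := by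
  obtain ⟨e₁⟩ := MultTypeBC.bc_bc τ σ X
  obtain ⟨e₂⟩ := MultTypeBC.bc_congr h X
  constructor
  · intro hh T _ j _ _ hT
    let w : Red.bc ρ X ≅ Red.bc τ (Red.bc σ X) := (Grp.forget _).mapIso (e₁ ≪≫ e₂).symm
    haveI : IsMonHom w.hom := (e₁ ≪≫ e₂).symm.hom.hom.isMonHom_hom
    exact hh T (j ≫ w.hom) hT
  · intro hh T _ j _ _ hT
    let w : Red.bc τ (Red.bc σ X) ≅ Red.bc ρ X := (Grp.forget _).mapIso (e₁ ≪≫ e₂)
    haveI : IsMonHom w.hom := (e₁ ≪≫ e₂).hom.hom.isMonHom_hom
    exact hh T (j ≫ w.hom) hT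


/-- Absence of subtori over an algebraic closure passes to every algebraically closed extension. -/
theorem hasNoSubtorus_any {Ω : Type u} [Field Ω] (L : Type u) [Field L] [IsAlgClosed L] [Algebra Ω L]
    [Algebra.IsAlgebraic Ω L] (N : Over (Spec (CommRingCat.of Ω))) [GrpObj N] [IsAffine N.left] [Smooth N.hom]
    [ConnectedSpace N.left]
    (h : Red.HasNoSubtorus L (Red.bc (Spec.map (CommRingCat.ofHom (algebraMap Ω L))) N))
    (L' : Type u) [Field L'] [IsAlgClosed L'] (τ : Spec (CommRingCat.of L') ⟶ Spec (CommRingCat.of Ω)) :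
    Red.HasNoSubtorus L' (Red.bc τ N) := by
  obtain ⟨φ, rfl⟩ := Spec.map_surjective τ
  letI : Algebra Ω L' := φ.hom.toAlgebra
  let ψ : L →ₐ[Ω] L' := IsAlgClosed.lift
  let σ := Spec.map (CommRingCat.ofHom (algebraMap Ω L))
  haveI : IsAffine (Red.bc σ N).left := inferInstanceAs (IsAffine (Limits.pullback N.hom σ))
  haveI : Smooth (Red.bc σ N).hom := inferInstanceAs (Smooth (Limits.pullback.snd N.hom σ))
  haveI : ConnectedSpace (Red.bc σ N).left := AntiAffine.connectedSpace_bc N (algebraMap Ω L)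
  have e : Spec.map (CommRingCat.ofHom (ψ : L →+* L')) ≫ σ = Spec.map φ := by
    rw [← Spec.map_comp]
    congr 1
    ext x
    exact ψ.commutes x
  exact (hasNoSubtorus_bc_bc _ _ _ e N).mp (UnipBC.hasNoSubtorus_bc_algClosed _ h)

/-- The radical of the identity component is normal in the whole group. -/
theorem isNormalHom_radical {k : Type u} [Field k] {G G₀ U : Over (Spec (CommRingCat.of k))} [GrpObj G] [GrpObj G₀]
    [GrpObj U] [IsAffine G.left] [Smooth G.hom] [IsAffine G₀.left] [Smooth G₀.hom] [ConnectedSpace ↥G₀.left]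
    [Smooth U.hom] [ConnectedSpace U.left]
    (j : G₀ ⟶ G) [IsMonHom j] [IsOpenImmersion j.left] [IsClosedImmersion j.left]
    (u : U ⟶ G₀) [IsMonHom u] [IsClosedImmersion u.left] (hu : Par.IsUnipotentRadical u) :
    AlgGrp.IsNormalHom (u ≫ j) := by
  haveI : QuasiCompact G.hom := inferInstance
  haveI : QuasiCompact G₀.hom := inferInstance
  haveI : IsAffine U.left := isAffine_of_isAffineHom u.left
  haveI : QuasiCompact U.hom := inferInstance
  haveI : LocallyOfFiniteType U.hom := inferInstance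
  haveI : IsMonHom (u ≫ j) := inferInstance
  haveI : IsClosedImmersion (u ≫ j).left := inferInstanceAs (IsClosedImmersion (u.left ≫ j.left))
  obtain ⟨-, -, hun, -, -, huf, humax⟩ := id hu
  let Ω := SeparableClosure k
  let L := AlgebraicClosure k
  let g := Spec.map (CommRingCat.ofHom (algebraMap k Ω))
  let τ := Spec.map (CommRingCat.ofHom (algebraMap Ω L))
  let F := Over.pullback g
  haveI : Algebra.IsAlgebraic Ω L := Algebra.IsAlgebraic.tower_top (K := k) Ω
  let P : ∀ (E : Over (Spec (CommRingCat.of Ω))) [GrpObj E], Prop := fun E _ =>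
    ∀ (L' : Type u) [Field L'] [IsAlgClosed L'] (τ' : Spec (CommRingCat.of L') ⟶ Spec (CommRingCat.of Ω)),
      Red.HasNoSubtorus L' (Red.bc τ' E)
  haveI : IsAffine (Red.bc g G₀).left := inferInstanceAs (IsAffine (Limits.pullback G₀.hom g))
  haveI : Smooth (Red.bc g G₀).hom := inferInstanceAs (Smooth (Limits.pullback.snd G₀.hom g))
  haveI : IsAffine (Red.bc g U).left := inferInstanceAs (IsAffine (Limits.pullback U.hom g))
  haveI : Smooth (Red.bc g U).hom := inferInstanceAs (Smooth (Limits.pullback.snd U.hom g))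
  haveI hUc : ConnectedSpace (Red.bc g U).left := AntiAffine.connectedSpace_bc U (algebraMap k Ω)
  obtain ⟨N, _, jN, hjN, hcN, hsN, hconN, hnN, hNu, hmaxN⟩ := UnipRadSep.exists_largest_bc τ (Red.bc g G₀)
  haveI := hjN
  haveI := hcN
  haveI := hsN
  haveI := hconN
  haveI : IsAffine N.left := isAffine_of_isAffineHom jN.left
  have hNP : P N := fun L' _ _ τ' => hasNoSubtorus_any L N hNu L' τ'
  obtain ⟨Z, _, z, hz, hzc, hzs, hzcon, hza, hzn, e, he, hez⟩ := Galois.exists_descend_largest G₀ P
    (fun σ E _ hE L' _ _ τ' => (hasNoSubtorus_bc_bc τ' _ _ rfl E).mpr (hE L' _)) g rfl N jN hnN hNP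
    (fun N' _ j' _ h1 h2 h3 _ h5 h6 => hmaxN N' j' h1 h2 h3 h5 (h6 L τ))
  haveI := hz
  haveI := he
  haveI := hzs
  haveI := hzcon
  haveI := hza
  haveI := hzc
  -- the descended subgroup has unipotent geometric fibres, hence lies in the radical
  have hZ : ∀ s : ↥(Spec (CommRingCat.of k)), ConnectedSpace (Red.geomFibre s Z).left ∧
      Red.HasNoSubtorus (AlgebraicClosure ((Spec (CommRingCat.of k)).residueField s)) (Red.geomFibre s Z) := by
    intro s
    obtain ⟨φ₀, hφ₀⟩ := Spec.map_surjective (Red.geomPt s)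
    let L₀ := AlgebraicClosure ((Spec (CommRingCat.of k)).residueField s)
    letI : Algebra k L₀ := φ₀.hom.toAlgebra
    refine ⟨?_, ?_⟩
    · show ConnectedSpace (Red.bc (Red.geomPt s) Z).left
      rw [← hφ₀]
      exact AntiAffine.connectedSpace_bc Z φ₀.hom
    · let ψ : Ω →ₐ[k] L₀ := IsAlgClosed.lift
      have e' : Spec.map (CommRingCat.ofHom (ψ : Ω →+* L₀)) ≫ g = Red.geomPt s := by
        rw [← hφ₀, ← Spec.map_comp]
        congr 1
        ext x
        exact ψ.commutes x
      refine (hasNoSubtorus_bc_bc _ g _ e' Z).mp ?_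
      intro T _ t _ _ hT
      let w := (Over.pullback (Spec.map (CommRingCat.ofHom (ψ : Ω →+* L₀)))).map e.hom
      haveI : IsMonHom e.hom := he
      haveI : IsMonHom w := inferInstanceAs (IsMonHom ((Over.pullback _).map e.hom))
      exact hNP L₀ _ T (t ≫ w) hT
  obtain ⟨f₀, hf₀⟩ := humax Z z hzc hzn hzs inferInstance hZ
  haveI : IsClosedImmersion (F.map u).left := MorphismProperty.baseChange_map (P := @IsClosedImmersion) g u ‹_›
  haveI : IsClosedImmersion (F.map (u ≫ j)).left := MorphismProperty.baseChange_map (P := @IsClosedImmersion) g (u ≫ j) ‹_›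
  have hUu : Red.HasNoSubtorus L (Red.bc τ (Red.bc g U)) := by
    let s₀ := AGFLib.GeomBC.pt k
    exact (hasNoSubtorus_bc_bc τ g _ rfl U).mpr (UnipBC.bc_algClosed_props s₀ (huf s₀).1 (huf s₀).2 _)
  -- so the base change of the radical is the largest such subgroup over the separable closure
  have hlargest : ∀ (N' : Over (Spec (CommRingCat.of Ω))) [GrpObj N'] (j' : N' ⟶ Red.bc g G₀) [IsMonHom j'],
      IsClosedImmersion j'.left → Smooth N'.hom → ConnectedSpace N'.left → AlgGrp.IsNormalHom j' →
      Red.HasNoSubtorus L (Red.bc τ N') → ∃ f : N' ⟶ Red.bc g U, f ≫ F.map u = j' := by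
    intro N' _ j' _ h1 h2 h3 h4 h5
    obtain ⟨f, hf⟩ := hmaxN N' j' h1 h2 h3 h4 h5
    exact ⟨f ≫ e.inv ≫ F.map f₀, by
      rw [Category.assoc, Category.assoc, ← F.map_comp, hf₀, ← hez, Iso.inv_hom_id_assoc, hf]⟩
  -- conjugation by a rational point over the separable closure preserves it
  haveI : IsOpenImmersion (F.map j).left := MorphismProperty.baseChange_map (P := @IsOpenImmersion) g j ‹_›
  haveI : ConnectedSpace (Red.bc g G₀).left := AntiAffine.connectedSpace_bc G₀ (algebraMap k Ω)
  haveI : Mono (F.map j) := (Over.forget _).mono_of_mono_map (inferInstanceAs (Mono (F.map j).left))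
  have hconj : ∀ p : 𝟙_ (Over (Spec (CommRingCat.of Ω))) ⟶ Red.bc g G,
      ∃ c : Red.bc g U ⟶ Red.bc g U,
        c ≫ F.map (u ≫ j) = (toUnit _ ≫ p) * F.map (u ≫ j) * (toUnit _ ≫ p)⁻¹ := by
    intro p
    have hsub : ∀ (q : 𝟙_ (Over (Spec (CommRingCat.of Ω))) ⟶ Red.bc g G) (A : Over (Spec (CommRingCat.of Ω))) [GrpObj A]
        (a : A ⟶ Red.bc g G₀) [IsMonHom a] [ConnectedSpace A.left],
        ∃ b : A ⟶ Red.bc g G₀, b ≫ F.map j = (toUnit _ ≫ q) * (a ≫ F.map j) * (toUnit _ ≫ q)⁻¹ := by
      intro q A _ a _ _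
      refine UnipRadSep.exists_fac_openSubgroup (F.map j) _ η[A] ?_
      rw [MonObj.comp_mul, MonObj.comp_mul, GrpObj.comp_inv, ← Category.assoc η[A] a, IsMonHom.one_hom a,
        IsMonHom.one_hom (F.map j), ← Category.assoc, toUnit_unique (η[A] ≫ toUnit A) (𝟙 _), Category.id_comp]
      rw [MonObj.one_eq_one, _root_.mul_one, mul_inv_cancel]
    obtain ⟨c₀, hc₀⟩ := hsub p (Red.bc g U) (F.map u)
    have hcomp : F.map u ≫ F.map j = F.map (u ≫ j) := (F.map_comp u j).symm
    haveI : IsMonHom c₀ := AGFLib.isMonHom_of_mul c₀ fun T a b => (cancel_mono (F.map j)).mp (by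
      simp only [MonObj.mul_comp, Category.assoc, hc₀]
      simp only [MonObj.comp_mul, GrpObj.comp_inv, ← Category.assoc, comp_toUnit]
      simp only [MonObj.mul_comp]
      group)
    haveI : Mono (F.map u) := (Over.forget _).mono_of_mono_map (inferInstanceAs (Mono (F.map u).left))
    haveI : IsClosedImmersion c₀.left := by
      have h1 : Mono c₀ := by
        refine ⟨fun a b h => (cancel_mono (F.map u)).mp ((cancel_mono (F.map j)).mp ?_)⟩
        have h2 := congrArg (· ≫ F.map j) h
        simp only [Category.assoc, hc₀, MonObj.comp_mul, GrpObj.comp_inv] at h2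
        rw [← Category.assoc a, ← Category.assoc b, toUnit_unique (a ≫ toUnit _) (toUnit _),
          toUnit_unique (b ≫ toUnit _) (toUnit _)] at h2
        simpa only [Category.assoc] using mul_left_cancel (mul_right_cancel h2)
      exact Groth.Agent.DomHom.isClosedImmersion_of_mono c₀
    have hnc : AlgGrp.IsNormalHom c₀ := by
      intro X x n
      obtain ⟨b, hb⟩ := hsub p⁻¹ (Red.bc g G₀) (𝟙 _)
      obtain ⟨m, hm⟩ := isNormalHom_bc g u hun X (x ≫ b) n
      refine ⟨m, (cancel_mono (F.map j)).mp ?_⟩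
      have h1 : ∀ {Y : Over (Spec (CommRingCat.of Ω))} (y : Y ⟶ Red.bc g U),
          (y ≫ c₀) ≫ F.map j = (toUnit _ ≫ p) * (y ≫ F.map u ≫ F.map j) * (toUnit _ ≫ p)⁻¹ := fun y => by
        rw [Category.assoc, hc₀, MonObj.comp_mul, MonObj.comp_mul, GrpObj.comp_inv, ← Category.assoc, comp_toUnit]
      have h2 : (x ≫ b) ≫ F.map j = (toUnit _ ≫ p)⁻¹ * (x ≫ F.map j) * (toUnit _ ≫ p) := by
        rw [Category.assoc, hb]
        simp only [MonObj.comp_mul, GrpObj.comp_inv, GrpObj.inv_comp, Category.id_comp, _root_.inv_inv, ← Category.assoc,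
          comp_toUnit]
      have h3 := congrArg (· ≫ F.map j) hm
      simp only [MonObj.mul_comp, GrpObj.inv_comp, h2, Category.assoc] at h3
      simp only [MonObj.mul_comp, GrpObj.inv_comp, h1]
      rw [← h3]
      show _ = _
      simp only [F, _root_.mul_inv_rev, _root_.inv_inv, _root_.mul_assoc, mul_inv_cancel_left, mul_inv_cancel,
        _root_.mul_one]
    obtain ⟨c, hc⟩ := hlargest (Red.bc g U) c₀ inferInstance inferInstance hUc hnc hUu
    exact ⟨c, by rw [← hcomp, ← Category.assoc, hc, hc₀]⟩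
  refine Groth.Agent.S8002.result k Ω G U (u ≫ j) fun T t p h => ?_
  obtain ⟨X, w, t', ht⟩ := SolvGrp.exists_lift_map g
    (t ≫ (Over.isoMk (f := Over.mk g) (g := (Over.map g).obj (𝟙_ (Over (Spec (CommRingCat.of Ω))))) (Iso.refl _)
      (by simp)).hom)
  let gm := Over.isoMk (f := Over.mk g) (g := (Over.map g).obj (𝟙_ (Over (Spec (CommRingCat.of Ω))))) (Iso.refl _)
      (by simp)
  obtain ⟨c, hc⟩ := hconj (bcPts g _ G (gm.inv ≫ p))
  obtain ⟨m, hm⟩ := (bcPts g X U).surjective (bcPts g X U (w.inv ≫ h) ≫ c)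
  refine ⟨w.hom ≫ m, ?_⟩
  have hbc : ∀ y : (Over.map g).obj X ⟶ U, bcPts g X G (y ≫ u ≫ j) = bcPts g X U y ≫ F.map (u ≫ j) := fun y =>
    bcPts_comp g y (u ≫ j)
  have h1 : (((Over.map g).map t' ≫ gm.inv) ≫ p) * ((w.inv ≫ h) ≫ u ≫ j) * (((Over.map g).map t' ≫ gm.inv) ≫ p)⁻¹ =
      m ≫ u ≫ j := by
    apply (bcPts g X G).injective
    rw [map_mul, map_mul, map_inv, hbc, hbc, hm, Category.assoc, bcPts_comp_left, Category.assoc, hc,
      MonObj.comp_mul, MonObj.comp_mul, GrpObj.comp_inv, ← Category.assoc, comp_toUnit, toUnit_unique t' (toUnit X)]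
  have h2 : t = w.hom ≫ (Over.map g).map t' ≫ gm.inv := by
    rw [← Category.assoc, ht, Category.assoc, Iso.hom_inv_id, Category.comp_id]
  rw [Category.assoc w.hom m, ← h1, MonObj.comp_mul, MonObj.comp_mul, GrpObj.comp_inv, h2]
  simp only [Category.assoc, Iso.hom_inv_id_assoc]

/-- Let k be a field, G a smooth affine k-group scheme and G⁰ ⟶ G its identity component, that is, an
open subgroup scheme whose underlying space is connected. If U ⟶ G⁰ is the k-unipotent radical of G⁰
(the largest normal closed subgroup scheme of G⁰, smooth and quasi-compact over k, with connected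
geometric fibre containing no non-trivial subtorus), then the composite U ⟶ G⁰ ⟶ G is the
k-unipotent radical of G. -/
theorem result (k : Type u) [Field k]
    (G G₀ U : Over (Spec (CommRingCat.of k))) [GrpObj G] [GrpObj G₀] [GrpObj U] [IsAffine G.left] [Smooth G.hom]
    (j : G₀ ⟶ G) [IsMonHom j] [IsOpenImmersion j.left] [ConnectedSpace ↥G₀.left]
    (u : U ⟶ G₀) (hu : Par.IsUnipotentRadical u) : Par.IsUnipotentRadical (u ≫ j) := by
  obtain ⟨hum, huc, hun, hus, huq, huf, humax⟩ := id hu
  haveI := hum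
  haveI := huc
  haveI := hus
  haveI : QuasiCompact G.hom := inferInstance
  haveI : Smooth G₀.hom := by rw [← Over.w j]; infer_instance
  haveI : Mono j := (Over.forget _).mono_of_mono_map (inferInstanceAs (Mono j.left))
  haveI : ConnectedSpace U.left := by
    let s₀ := AGFLib.GeomBC.pt k
    haveI := AGFLib.GeomBC.surjective_geomPt s₀
    haveI : ConnectedSpace ↥(Limits.pullback U.hom (Red.geomPt s₀)) := (huf s₀).1
    exact (Limits.pullback.fst U.hom (Red.geomPt s₀)).surjective.connectedSpace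
      (Limits.pullback.fst U.hom (Red.geomPt s₀)).continuous
  have hjo : IsOpenImmersion j.left := inferInstance
  haveI : IsClosedImmersion j.left := by
    refine IsClosedImmersion.of_isPreimmersion _ ?_
    let s₀ : Spec (CommRingCat.of k) := IsLocalRing.closedPoint k
    have e : Set.range j.left = connectedComponent (Neutral.unit G s₀) := by
      refine subset_antisymm ?_ ?_
      · exact (isConnected_range j.left.continuous).isPreconnected.subset_connectedComponent
          ⟨_, congrArg (fun m : 𝟙_ (Over (Spec (CommRingCat.of k))) ⟶ G => m.left s₀) (IsMonHom.one_hom j)⟩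
      · intro x hx
        refine (Neutral.openSubgroup G G₀ j).1 ?_
        rw [Neutral.mem_neutralSet_iff]
        rw [show (G.hom ⁻¹' {G.hom x}) = Set.univ from Set.eq_univ_of_forall fun y =>
          @Subsingleton.elim (PrimeSpectrum k) inferInstance _ _, connectedComponentIn_univ,
          show G.hom x = s₀ from @Subsingleton.elim (PrimeSpectrum k) inferInstance _ _]
        exact hx
    rw [e]
    exact isClosed_connectedComponent
  haveI : IsAffine G₀.left := isAffine_of_isAffineHom j.left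
  haveI : IsClosedImmersion (u ≫ j).left := inferInstanceAs (IsClosedImmersion (u.left ≫ j.left))
  refine ⟨inferInstance, inferInstance, ?_, hus, huq, huf, ?_⟩
  · exact isNormalHom_radical j u hu
  · intro U' _ u' _ hc' hn' hs' hq' hf'
    haveI : ConnectedSpace U'.left := by
      let s₀ := AGFLib.GeomBC.pt k
      haveI := AGFLib.GeomBC.surjective_geomPt s₀
      haveI : ConnectedSpace ↥(Limits.pullback U'.hom (Red.geomPt s₀)) := (hf' s₀).1
      exact (Limits.pullback.fst U'.hom (Red.geomPt s₀)).surjective.connectedSpace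
        (Limits.pullback.fst U'.hom (Red.geomPt s₀)).continuous
    obtain ⟨f, hf⟩ := UnipRadSep.exists_fac_openSubgroup j u' η[U'] (IsMonHom.one_hom u')
    haveI : IsMonHom f := AGFLib.isMonHom_of_mul f fun T a b => (cancel_mono j).mp (by
      rw [Category.assoc, hf, MonObj.mul_comp, MonObj.mul_comp, Category.assoc, Category.assoc, hf])
    haveI : IsClosedImmersion f.left := by
      haveI : IsClosedImmersion (f.left ≫ j.left) := by rw [← Over.comp_left, hf]; exact hc'
      exact IsClosedImmersion.of_comp f.left j.left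
    have hnf : AlgGrp.IsNormalHom f := fun X g n => by
      obtain ⟨m, hm⟩ := hn' X (g ≫ j) n
      refine ⟨m, (cancel_mono j).mp ?_⟩
      simp only [MonObj.mul_comp, GrpObj.inv_comp, Category.assoc, hf]
      exact hm
    obtain ⟨g, hg⟩ := humax U' f inferInstance hnf hs' hq' hf'
    exact ⟨g, by rw [← Category.assoc, hg, hf]⟩

end Groth.Agent.S15600
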