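import Groth.Statements.S15603
import Groth.Agent.GrpSchLib.LineGroups
import Groth.Agent.GrpSchLib.AffineHopf


set_option autoImplicit false
universe u
open CategoryTheory MonoidalCategory CartesianMonoidalCategory MonObj GrpObj AlgebraicGeometry
open AlgGrp

namespace Groth.Agent.S15603

/-- Multiplicative case. Let k be a field and consider the affine line minus the origin over k, taken
here as the underlying k-scheme of the multiplicative group. Any two structures of k-group scheme on
it with the same unit section have the same multiplication; in particular a group law on the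
punctured line whose identity is the point 1 is the usual multiplication. -/
theorem result (k : Type u) [Field k]
    (h₁ h₂ : GrpObj (Red.Gm (Spec (CommRingCat.of k)))) (e : h₁.one = h₂.one) : h₁.mul = h₂.mul := by
  obtain ⟨a⟩ := GrpSchLib.AffineHopf.nonempty_DS_iso k ℤ
  let j : GrpSchLib.AffineHopf.sp k (MonoidAlgebra k (Multiplicative ℤ)) ≅ Red.Gm (Spec (CommRingCat.of k)) := (Grp.forget _).mapIso a
  haveI : IsAffine (Red.Gm (Spec (CommRingCat.of k))).left := @IsAffine.of_isIso _ _ ((Over.forget _).mapIso j).inv (Iso.isIso_inv _) (isAffine_Spec _)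
  let φ : LaurentPolynomial k ≃ₐ[k] GrpSchLib.Kunneth.Fn (Red.Gm (Spec (CommRingCat.of k))) :=
    ((AddMonoidAlgebra.toMultiplicativeAlgEquiv k k ℤ).trans
      (GrpSchLib.LineGroups.spEquiv (k := k) (MonoidAlgebra k (Multiplicative ℤ)))).trans
      (GrpSchLib.LineGroups.fnEquiv j.symm)
  have k1 := @GrpSchLib.LineGroups.mul_coord_Gm k _ (Red.Gm (Spec (CommRingCat.of k))) h₁ _ φ
  have k2 := @GrpSchLib.LineGroups.mul_coord_Gm k _ (Red.Gm (Spec (CommRingCat.of k))) h₂ _ φ
  rw [← e] at k2
  exact GrpSchLib.LineGroups.ext_coord_Gm φ (k1.trans k2.symm)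


end Groth.Agent.S15603
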