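import Groth.Statements.S15604
import Groth.Agent.GrpSchLib.Homogeneous
-- import your own Groth.Agent.* helpers here

set_option autoImplicit false
universe u
open CategoryTheory MonoidalCategory CartesianMonoidalCategory MonObj GrpObj AlgebraicGeometry
open AlgGrp

namespace Groth.Agent.S15604

/-- Let k be a field and f : G ⟶ G' a homomorphism of k-group schemes of finite type, with G smooth over
k. The image of f is closed (not asserted here); with its reduced induced structure it is smooth
over k: every reduced closed subscheme H of G' whose underlying set is the set-theoretic image of f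
is smooth over k. -/
theorem result (k : Type u) [Field k]
    (G G' : Over (Spec (CommRingCat.of k))) [GrpObj G] [GrpObj G'] [Smooth G.hom] [QuasiCompact G.hom]
    [LocallyOfFiniteType G'.hom] [QuasiCompact G'.hom] (f : G ⟶ G') [IsMonHom f]
    (H : Scheme.{u}) (i : H ⟶ G'.left) [IsClosedImmersion i] [IsReduced H]
    (hH : Set.range i.base = Set.range f.left.base) : Smooth (i ≫ G'.hom) := by
  have : Nonempty G.left := ⟨(η[G] : 𝟙_ _ ⟶ G).left (IsLocalRing.closedPoint k)⟩
  have : IsLocallyNoetherian G'.left := LocallyOfFiniteType.isLocallyNoetherian G'.hom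
  have : QuasiSeparated G'.hom := (quasiSeparated_iff_quasiSeparatedSpace _).mpr inferInstance
  let a : AlgGrp.Action G G' :=
    { act := (f ▷ G') ≫ μ[G']
      one_act := by
        rw [← Category.assoc, ← comp_whiskerRight, IsMonHom.one_hom]
        exact MonObj.one_mul G'
      mul_act := by
        have hw : ∀ {Z : Over (Spec (CommRingCat.of k))} (u : Z ⟶ G'),
            (u ▷ G') ≫ μ[G'] = (fst Z G' ≫ u) * snd Z G' := by
          intro Z u
          rw [Hom.mul_def]
          congr 1
        rw [← Category.assoc (μ[G] ▷ G'), ← comp_whiskerRight, hw, hw, MonObj.comp_mul, MonObj.comp_mul,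
          IsMonHom.mul_hom]
        simp only [← Category.assoc, whiskerLeft_fst, associator_hom_fst]
        rw [Category.assoc (α_ G G G').hom (G ◁ _) (snd G G'), whiskerLeft_snd, ← Category.assoc,
          MonObj.comp_mul]
        simp only [← Category.assoc, associator_hom_snd_fst, associator_hom_snd_snd]
        rw [← _root_.mul_assoc]
        congr 1
        rw [Category.assoc, show (f ⊗ₘ f) ≫ μ[G'] = (fst G G ≫ f) * (snd G G ≫ f) by
          rw [Hom.mul_def]; congr 1, MonObj.comp_mul]
        simp only [← Category.assoc]
        congr 1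
        all_goals simp [Category.assoc] }
  have key : a.orbitMap (η[G'] : 𝟙_ _ ⟶ G') = f := by
    show lift (𝟙 G) (toUnit G ≫ η[G']) ≫ (f ▷ G') ≫ μ[G'] = f
    rw [lift_whiskerRight_assoc, Category.id_comp]
    show f * (toUnit G ≫ η[G']) = f
    exact _root_.mul_one f
  have hqc : QuasiCompact (a.orbitMap (η[G'] : 𝟙_ _ ⟶ G')).left := by
    rw [key]
    have : QuasiCompact (f.left ≫ G'.hom) := by rw [Over.w f]; infer_instance
    exact QuasiCompact.of_comp f.left G'.hom
  exact GrpSchLib.smooth_of_homogeneous_image (K := AlgebraicClosure k) (a.orbitMap (η[G'] : 𝟙_ _ ⟶ G'))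
    (GrpSchLib.orbitMap_homogeneous a _) H i (by rw [key]; exact hH)

end Groth.Agent.S15604
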