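import Groth.Statements.S15605
import Groth.Agent.GrpSchLib.PointsClosure
import Mathlib.RingTheory.TensorProduct.Quotient
import Mathlib.RingTheory.TensorProduct.Maps


set_option autoImplicit false
universe u
open TensorProduct
open AGF

namespace Groth.Agent.S15605

/-- Affine form. Let k be a field, A and A' finitely generated commutative k-algebras and S, S' sets of
k-algebra homomorphisms A → k, A' → k. The closure of a set of rational points of Spec A is cut out
by the intersection of their kernels. Compatibility of these closures with products: in A ⊗_k A',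
the intersection over (σ, σ') ∈ S × S' of the kernels of σ ⊗ σ' : A ⊗_k A' → k equals the ideal
generated by the images of ⋂_{σ} ker σ and of ⋂_{σ'} ker σ'. -/
theorem result (k A A' : Type u) [Field k] [CommRing A] [Algebra k A]
    [Algebra.FiniteType k A] [CommRing A'] [Algebra k A'] [Algebra.FiniteType k A']
    (S : Set (A →ₐ[k] k)) (S' : Set (A' →ₐ[k] k)) :
    (⨅ σ ∈ S, ⨅ σ' ∈ S', RingHom.ker ((Algebra.TensorProduct.lmul' (S := k) k).comp
        (Algebra.TensorProduct.map σ σ'))) =
      Ideal.map (Algebra.TensorProduct.includeLeft : A →ₐ[k] A ⊗[k] A') (⨅ σ ∈ S, RingHom.ker σ) ⊔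
        Ideal.map (Algebra.TensorProduct.includeRight : A' →ₐ[k] A ⊗[k] A') (⨅ σ' ∈ S', RingHom.ker σ') := by
  set J := ⨅ σ ∈ S, RingHom.ker σ with hJ
  set J' := ⨅ σ' ∈ S', RingHom.ker σ' with hJ'
  apply le_antisymm
  · intro z hz
    simp only [Ideal.mem_iInf, RingHom.mem_ker] at hz
    let q : A' →ₐ[k] A' ⧸ J' := Ideal.Quotient.mkₐ k J'
    have h1 : ∀ σ ∈ S, (Algebra.TensorProduct.lid k A').toAlgHom
        (Algebra.TensorProduct.map σ (AlgHom.id k A') z) ∈ J' := by
      intro σ hσ
      simp only [hJ', Ideal.mem_iInf, RingHom.mem_ker]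
      intro σ' hσ'
      rw [← hz σ hσ σ' hσ']
      clear hz
      induction z using TensorProduct.induction_on with
      | zero => simp
      | tmul v a => simp
      | add p q hp hq => simp only [map_add, hp, hq]
    let Φ : A ⊗[k] A' →ₐ[k] A ⊗[k] (A' ⧸ J') := Algebra.TensorProduct.map (AlgHom.id k A) q
    obtain ⟨s, c, hzs, hc⟩ := GrpSchLib.exists_sum_tmul_of_forall_lTensor (fun σ : S => σ.1.toLinearMap)
      (TensorProduct.comm k A (A' ⧸ J') (Φ z)) (fun σ => by
        apply (TensorProduct.rid k (A' ⧸ J')).injective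
        rw [map_zero, ← (Ideal.Quotient.eq_zero_iff_mem (I := J')).mpr (h1 σ.1 σ.2)]
        clear hz h1
        induction z using TensorProduct.induction_on with
        | zero => simp
        | tmul v a => simp [Φ, q, Algebra.smul_def, mul_comm]
        | add p q hp hq => simp only [map_add, hp, hq])
    choose d hd using fun j => Ideal.Quotient.mk_surjective (Module.Basis.ofVectorSpace k (A' ⧸ J') j)
    let w : A ⊗[k] A' := ∑ j ∈ s, c j ⊗ₜ d j
    have hΦw : Φ w = Φ z := by
      apply (TensorProduct.comm k A (A' ⧸ J')).injective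
      rw [hzs]
      simp [w, Φ, q, hd]
    have hsub : z - w ∈ RingHom.ker Φ := by rw [RingHom.mem_ker, map_sub, hΦw, sub_self]
    rw [Algebra.TensorProduct.lTensor_ker _ (Ideal.Quotient.mkₐ_surjective k J')] at hsub
    rw [← sub_add_cancel z w]
    refine Submodule.add_mem _ (Ideal.mem_sup_right ?_) (Submodule.sum_mem _ fun j _ => Ideal.mem_sup_left ?_)
    · erw [Ideal.Quotient.mkₐ_ker k J'] at hsub
      exact hsub
    · rw [show c j ⊗ₜ[k] d j = (Algebra.TensorProduct.includeLeft : A →ₐ[k] A ⊗[k] A') (c j) * ((1 : A) ⊗ₜ[k] d j) by simp]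
      refine Ideal.mul_mem_right _ _ (Ideal.mem_map_of_mem _ ?_)
      simp only [hJ, Ideal.mem_iInf, RingHom.mem_ker]
      exact fun σ hσ => hc j ⟨σ, hσ⟩
  · refine sup_le ?_ ?_ <;> rw [Ideal.map_le_iff_le_comap] <;> intro a ha <;>
      simp only [hJ, hJ', Ideal.mem_iInf, RingHom.mem_ker, Ideal.mem_comap] at ha ⊢ <;> intro σ hσ σ' hσ'
    · simp [ha σ hσ]
    · simp [ha σ' hσ']

end Groth.Agent.S15605
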