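import Groth.Statements.S15607
import Groth.Agent.GrpSchLib.IsogGmDescent
-- import your own Groth.Agent.* helpers here

set_option autoImplicit false

set_option backward.isDefEq.respectTransparency.types false
set_option maxHeartbeats 1000000
universe u
open CategoryTheory MonoidalCategory CartesianMonoidalCategory MonObj GrpObj AlgebraicGeometry
open AlgGrp

namespace Groth.Agent.S15607

/-- Multiplicative case. Let k be a field, H a smooth connected k-group scheme, and f a homomorphism
from H to the multiplicative group over k which is finite and surjective (an isogeny). Then H is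
isomorphic, as a k-group scheme, to the multiplicative group: a smooth connected k-group isogenous
to the multiplicative group over k is the split one-dimensional torus. -/
theorem result (k : Type u) [Field k]
    (H : Over (Spec (CommRingCat.of k))) [GrpObj H] [Smooth H.hom] [ConnectedSpace ↥H.left]
    (f : H ⟶ Red.Gm (Spec (CommRingCat.of k))) [IsMonHom f] [IsFinite f.left] [Surjective f.left] :
    Nonempty (Grp.mk H ≅ Grp.mk (Red.Gm (Spec (CommRingCat.of k)))) := by
  obtain ⟨ψ, hψ, hiso⟩ := GrpSchLib.IsogGmDescent.exists_iso f
  haveI := hψ
  haveI := hiso
  exact ⟨Grp.mkIso (asIso ψ) (IsMonHom.one_hom ψ) (IsMonHom.mul_hom ψ)⟩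


end Groth.Agent.S15607
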