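import Groth.Statements.S15609
import Groth.Agent.GrpSchLib.Shear
import Groth.Agent.GrpSchLib.Tangent
import Groth.Agent.GrpSchLib.Descent
import Groth.Agent.MorLib.GeomFibre
import Mathlib.RingTheory.Nilpotent.Lemmas
import Mathlib.LinearAlgebra.Dual.Lemmas
-- import your own Groth.Agent.* helpers here

set_option autoImplicit false
universe u
open CategoryTheory.Limits CategoryTheory MonoidalCategory CartesianMonoidalCategory MonObj GrpObj AlgebraicGeometry
open AlgGrp

namespace Groth.Agent.S15609

open Groth.Agent.GrpSchLib in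
/-- A one-point scheme of finite type over a field with a section and no tangent vectors is the point. -/
theorem id_eq_of_tangent {k : Type u} [Field k] (R : Type u) [CommRing R] [Algebra k R] [Algebra.FiniteType k R]
    (hR : Subsingleton (PrimeSpectrum R)) (ε : R →ₐ[k] k)
    (h : ∀ φ : R →ₐ[k] DualNumber k, φ = (Algebra.ofId k (DualNumber k)).comp ε) :
    AlgHom.id k R = (Algebra.ofId k R).comp ε := by
  have hm : ∀ r, r - algebraMap k R (ε r) ∈ RingHom.ker ε := fun r => by simp
  suffices hbot : RingHom.ker ε = ⊥ by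
    ext r
    have := hm r
    rw [hbot, Ideal.mem_bot, sub_eq_zero] at this
    exact this
  haveI : IsNoetherianRing R := Algebra.FiniteType.isNoetherianRing k R
  haveI hp : (RingHom.ker ε).IsPrime := RingHom.ker_isPrime ε
  have hnil : IsNilpotent (RingHom.ker ε) := by
    rw [Ideal.FG.isNilpotent_iff_le_nilradical (IsNoetherian.noetherian _), nilradical_eq_sInf]
    exact le_sInf fun q hq => le_of_eq (congrArg PrimeSpectrum.asIdeal
      (@Subsingleton.elim _ hR ⟨RingHom.ker ε, hp⟩ ⟨q, hq⟩))
  have hsq : RingHom.ker ε ≤ RingHom.ker ε * RingHom.ker ε := by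
    intro x hx
    by_contra hx2
    obtain ⟨d, hdx, hd⟩ := Submodule.exists_dual_map_eq_bot_of_notMem
      (p := (RingHom.ker ε * RingHom.ker ε).restrictScalars k) hx2 inferInstance
    have hd0 : ∀ y ∈ RingHom.ker ε * RingHom.ker ε, d y = 0 := fun y hy => by
      have : d y ∈ Submodule.map d ((RingHom.ker ε * RingHom.ker ε).restrictScalars k) := ⟨y, hy, rfl⟩
      rwa [hd, Submodule.mem_bot] at this
    let D : R →ₗ[k] k := d ∘ₗ (LinearMap.id - (Algebra.linearMap k R) ∘ₗ ε.toLinearMap)
    have hD : ∀ r, D r = d (r - algebraMap k R (ε r)) := fun r => rfl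
    let φ : R →ₐ[k] DualNumber k := AlgHom.ofLinearMap
      ((TrivSqZeroExt.inlAlgHom k k k).toLinearMap ∘ₗ ε.toLinearMap + (TrivSqZeroExt.inrHom k k) ∘ₗ D)
      (by ext <;> simp [D])
      (fun a b => by
        have e : D (a * b) = ε a * D b + ε b * D a := by
          have hab : a * b - algebraMap k R (ε (a * b)) = ε a • (b - algebraMap k R (ε b)) +
              ε b • (a - algebraMap k R (ε a)) + (a - algebraMap k R (ε a)) * (b - algebraMap k R (ε b)) := by
            simp [Algebra.smul_def]
            ring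
          rw [hD, hD, hD, hab, map_add, map_add, map_smul, map_smul, hd0 _ (Ideal.mul_mem_mul (hm a) (hm b))]
          simp
        ext <;> simp [e]
        ring)
    have := congrArg TrivSqZeroExt.snd (DFunLike.congr_fun (h φ) x)
    have hεx : ε x = 0 := hx
    refine hdx ?_
    simpa [φ, hD, hεx] using this
  obtain ⟨n, hn⟩ := hnil
  have : ∀ j, RingHom.ker ε ≤ RingHom.ker ε ^ (j + 1) := by
    intro j
    induction j with
    | zero => simp
    | succ j ih => exact hsq.trans (by rw [pow_succ (RingHom.ker ε) (j + 1)]; exact Ideal.mul_mono_left ih)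
  exact le_bot_iff.mp ((this n).trans (by rw [pow_succ, hn]; simp))

/-- The implication (ii) ⇒ (i). Let k be a field and f : G ⟶ G' a homomorphism of k-group schemes of
finite type. Suppose that f is injective on K-points for every algebraically closed field K over k,
and that f is injective on tangent spaces at the identity: every point of G with values in the dual
numbers k[ε] which restricts to the identity at ε = 0 and is sent by f to the identity point of G'
is itself the identity point. Then f has trivial kernel: it is a monomorphism. (The published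
statement assumes G smooth; this implication does not use it.) -/
theorem result (k : Type u) [Field k]
    (G G' : Over (Spec (CommRingCat.of k))) [GrpObj G] [GrpObj G'] [LocallyOfFiniteType G.hom] [QuasiCompact G.hom]
    [LocallyOfFiniteType G'.hom] [QuasiCompact G'.hom] (f : G ⟶ G') [IsMonHom f]
    (hgeom : ∀ (K : Type u) [Field K] [IsAlgClosed K] [Algebra k K],
      Function.Injective (fun g : (Over.mk (Spec.map (CommRingCat.ofHom (algebraMap k K)))) ⟶ G => g ≫ f))
    (htan : ∀ g : (Over.mk (Spec.map (CommRingCat.ofHom (algebraMap k (DualNumber k))))) ⟶ G,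
      (∀ x : 𝟙_ (Over (Spec (CommRingCat.of k))) ⟶ (Over.mk (Spec.map (CommRingCat.ofHom (algebraMap k (DualNumber k))))), x ≫ g = η[G]) →
        g ≫ f = toUnit _ ≫ η[G'] → g = toUnit _ ≫ η[G]) :
    Mono f := by
  classical
  haveI : IsSeparated G'.hom := (isSeparated_iff G'.hom).mpr ((Groth.Agent.GrpSchLib.diagonal_iff_unit @IsClosedImmersion).mpr inferInstance)
  let P := pullback f η[G']
  let κ : P ⟶ G := pullback.fst f η[G']
  have hPu : pullback.snd f η[G'] = toUnit P := toUnit_unique _ _
  have hκf : κ ≫ f = toUnit P ≫ η[G'] := by rw [← hPu]; exact pullback.condition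
  haveI : Mono η[G'] := mono_of_mono_fac (h := 𝟙 _) (show η[G'] ≫ toUnit G' = 𝟙 _ from toUnit_unique _ _)
  haveI : Mono κ := inferInstance
  -- reduction to the kernel
  suffices key : κ = toUnit P ≫ η[G] by
    refine ⟨fun {T} g₁ g₂ h => ?_⟩
    have e : (g₁ * g₂⁻¹) ≫ f = toUnit T ≫ η[G'] := by
      rw [MonObj.mul_comp, GrpObj.inv_comp, h, mul_inv_cancel]; rfl
    have h1 : g₁ * g₂⁻¹ = 1 := by
      rw [← pullback.lift_fst (f := f) (g := η[G']) _ _ e]
      show _ ≫ κ = _
      rw [key, ← Category.assoc, comp_toUnit]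
      rfl
    exact mul_inv_eq_one.mp h1
  let sec : 𝟙_ _ ⟶ P := pullback.lift η[G] (𝟙 _) (by rw [IsMonHom.one_hom f, Category.id_comp])
  have hsec : sec ≫ κ = η[G] := pullback.lift_fst _ _ _
  have hPsq : IsPullback κ.left (pullback.snd f η[G']).left f.left η[G'].left :=
    (IsPullback.of_hasPullback f η[G']).map (Over.forget _)
  haveI : IsClosedImmersion η[G'].left := by
    haveI : IsClosedImmersion (η[G'].left ≫ G'.hom) := by
      rw [Over.w]; exact inferInstanceAs (IsClosedImmersion (𝟙 _))
    exact IsClosedImmersion.of_comp η[G'].left G'.hom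
  haveI : IsClosedImmersion κ.left := MorphismProperty.of_isPullback hPsq.flip inferInstance
  -- one point
  have hpt : ∀ z : P.left, κ.left z = η[G].left (IsLocalRing.closedPoint k) := by
    intro z
    obtain ⟨Ω, _, _, y, hy⟩ := Groth.Agent.MorLib.GF.exists_geomPoint z
    letI : Algebra k Ω := (Spec.preimage (y ≫ P.hom)).hom.toAlgebra
    have hσ : y ≫ P.hom = Spec.map (CommRingCat.ofHom (algebraMap k Ω)) := (Spec.map_preimage _).symm
    let p : Over.mk (Spec.map (CommRingCat.ofHom (algebraMap k Ω))) ⟶ P := Over.homMk y hσ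
    have e : p ≫ κ = toUnit _ ≫ η[G] := hgeom Ω (by
      show (p ≫ κ) ≫ f = (toUnit _ ≫ η[G]) ≫ f
      rw [Category.assoc, hκf, ← Category.assoc, comp_toUnit, Category.assoc, IsMonHom.one_hom f])
    rw [← hy]
    refine (congrArg (fun φ : Over.mk (Spec.map (CommRingCat.ofHom (algebraMap k Ω))) ⟶ G =>
      φ.left (IsLocalRing.closedPoint Ω)) e).trans ?_
    exact congrArg η[G].left (@Subsingleton.elim ↥(Spec (CommRingCat.of k)) inferInstance _ _)
  haveI : Subsingleton ↥P.left := ⟨fun a b => κ.left.isClosedEmbedding.injective ((hpt a).trans (hpt b).symm)⟩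
  haveI : IsAffine P.left := by
    obtain ⟨_, ⟨U, hU, rfl⟩, hz, -⟩ := P.left.isBasis_affineOpens.exists_subset_of_mem_open
      (Set.mem_univ (sec.left (IsLocalRing.closedPoint k))) isOpen_univ
    have : U = ⊤ := TopologicalSpace.Opens.ext (Set.eq_univ_of_forall fun x => by
      rw [Subsingleton.elim x (sec.left (IsLocalRing.closedPoint k))]; exact hz)
    haveI : IsAffine _ := this ▸ hU
    exact .of_isIso P.left.topIso.inv
  -- the ring
  let R := Γ(P.left, ⊤)
  letI : Algebra k R := (Spec.preimage (P.left.isoSpec.inv ≫ P.hom)).hom.toAlgebra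
  let e : Groth.Agent.GrpSchLib.specOver k R ≅ P := Over.isoMk P.left.isoSpec.symm (Spec.map_preimage _).symm
  haveI : Algebra.FiniteType k R := by
    haveI : LocallyOfFiniteType P.hom := by rw [← Over.w κ]; infer_instance
    have hh : LocallyOfFiniteType (Spec.map (CommRingCat.ofHom (algebraMap k R))) := by
      show LocallyOfFiniteType (Groth.Agent.GrpSchLib.specOver k R).hom
      rw [← Over.w e.hom]
      haveI : IsIso e.hom.left := ((Over.forget _).mapIso e).isIso_hom
      infer_instance
    exact RingHom.finiteType_algebraMap.mp ((HasRingHomProperty.Spec_iff (P := @LocallyOfFiniteType)).mp hh)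
  have hR : Subsingleton (PrimeSpectrum R) := (P.left.isoSpec.inv.homeomorph.injective).subsingleton
  have hhom : ∀ (C : Type u) [CommRing C] [Algebra k C] (q : Groth.Agent.GrpSchLib.specOver k C ⟶ Groth.Agent.GrpSchLib.specOver k R),
      ∃ φ : R →ₐ[k] C, Groth.Agent.GrpSchLib.specHom φ = q := by
    intro C _ _ q
    refine ⟨⟨(Spec.preimage q.left).hom, fun r => ?_⟩, Over.OverMorphism.ext (Spec.map_preimage q.left)⟩
    have h := Over.w q
    rw [← Spec.map_preimage q.left] at h
    have h' := Spec.map_injective ((Spec.map_comp _ _).trans h)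
    exact DFunLike.congr_fun (congrArg CommRingCat.Hom.hom h') r
  let ek : 𝟙_ (Over (Spec (CommRingCat.of k))) ≅ Groth.Agent.GrpSchLib.specOver k k :=
    Over.isoMk (Iso.refl _) (by simp [Algebra.algebraMap_self])
  obtain ⟨ε, hε⟩ := hhom k (ek.inv ≫ sec ≫ e.inv)
  have hk : ∀ φ : R →ₐ[k] k, φ = ε := fun φ => by
    ext r
    have hm : r - algebraMap k R (φ r) ∈ RingHom.ker φ := by simp
    haveI := RingHom.ker_isPrime φ
    haveI := RingHom.ker_isPrime ε
    have hkk : RingHom.ker φ = RingHom.ker ε := congrArg PrimeSpectrum.asIdeal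
      (@Subsingleton.elim _ hR ⟨RingHom.ker φ, inferInstance⟩ ⟨RingHom.ker ε, inferInstance⟩)
    rw [hkk] at hm
    rw [RingHom.mem_ker, map_sub, AlgHom.commutes, Algebra.algebraMap_self, RingHom.id_apply, sub_eq_zero] at hm
    exact hm.symm
  have hid := id_eq_of_tangent R hR ε (fun φ => by
    let g := Groth.Agent.GrpSchLib.specHom φ ≫ e.hom ≫ κ
    have hg : g = toUnit _ ≫ η[G] := htan g (fun x => by
      obtain ⟨ψ, hψ⟩ := hhom k (ek.inv ≫ x ≫ Groth.Agent.GrpSchLib.specHom φ)
      rw [hk ψ, hε, cancel_epi] at hψ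
      rw [← hsec]
      show x ≫ Groth.Agent.GrpSchLib.specHom φ ≫ e.hom ≫ κ = _
      rw [← reassoc_of% hψ, Iso.inv_hom_id_assoc]) (by
      simp only [g, Category.assoc, hκf]
      rw [← Category.assoc e.hom, comp_toUnit, ← Category.assoc, comp_toUnit])
    have h2 : Groth.Agent.GrpSchLib.specHom φ = toUnit _ ≫ sec ≫ e.inv := by
      rw [← cancel_mono e.hom, ← cancel_mono κ]
      simpa [hsec, g] using hg
    have h3 : Groth.Agent.GrpSchLib.specHom ((Algebra.ofId k (DualNumber k)).comp ε) = toUnit _ ≫ sec ≫ e.inv := by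
      rw [← Groth.Agent.GrpSchLib.specHom_comp, hε, ← Category.assoc]
      congr 1
    have h4 := Spec.map_injective (congrArg CommaMorphism.left (h2.trans h3.symm))
    exact AlgHom.ext fun r => DFunLike.congr_fun (congrArg CommRingCat.Hom.hom h4) r)
  have h5 : 𝟙 (Groth.Agent.GrpSchLib.specOver k R) = toUnit _ ≫ sec ≫ e.inv := by
    rw [show 𝟙 (Groth.Agent.GrpSchLib.specOver k R) = Groth.Agent.GrpSchLib.specHom (AlgHom.id k R) from
      Over.OverMorphism.ext (by simp), hid, ← Groth.Agent.GrpSchLib.specHom_comp, hε, ← Category.assoc]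
    congr 1
  rw [← cancel_epi e.hom, ← Category.id_comp (e.hom ≫ κ), h5, ← Category.assoc e.hom, comp_toUnit]
  simp [hsec]

end Groth.Agent.S15609
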