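import Groth.Statements.S15619
import Groth.Agent.SchFinLib.Affine

set_option autoImplicit false
universe u
open SchFin SchFin.Alg

namespace Groth.Agent.S15619

open SchFin in
/-- Let X be a schematic finite space, A a quasi-coherent algebra on X and U an affine up-closed set of
points. Then the value of A at every point of U is faithfully flat over the ring of that point if
and only if the ring of sections of A over U is faithfully flat over the ring of sections of the
rings over U, through the natural ring map. (The published statement ranges over affine open
subsets; this row states the criterion for one affine up-closed subset and carries explicitly the
hypotheses that the product of the rings of the points of U is faithfully flat over the ring of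
sections of the rings over U, and likewise for the algebra; these hold for every affine open subset
and every quasi-coherent algebra by results the published proof uses and recalls without proof.) -/
theorem result (X : RSpace.{u}) (hX : X.IsSchematic) (A : Alg X)
    (hA : A.IsQcoh)
    (U : Set X.pt) (hU' : IsUpperSet U) (hUa : (X.restrict U).IsAffine)
    (hφ : Module.FaithfullyFlat (X.sectRing U) ((q : ↥U) → X.ring q.1))
    (hψ : (A.total.sectRing U).subtype.FaithfullyFlat) :
    (∀ q : X.pt, q ∈ U → Module.FaithfullyFlat (X.ring q) (A.carrier q)) ↔ (A.sectMap U).FaithfullyFlat := by
  exact SchFinLib.faithfullyFlat_iff hA U hUa hφ

end Groth.Agent.S15619
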