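import Groth.Statements.S15621
import Groth.Agent.SchFinLib.FEt

set_option autoImplicit false
universe u
open SchFin SchFin.FEt

namespace Groth.Agent.S15621

open SchFin CategoryTheory CategoryTheory.Limits in
/-- For a schematic finite space, the category of étale covers (quasi-coherent algebras whose value at
every point is finite and étale over the ring of that point, with algebra maps compatible with
restriction as morphisms) has an initial object and has pushouts. (In the published statement these
are the initial object and the finite direct sums over a third object of that category, given by the
rings themselves and by tensor products of algebras.) -/
theorem result (X : RSpace.{u}) (hX : X.IsSchematic) :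
    HasInitial (FEt X) ∧ HasPushouts (FEt X) := by
  exact ⟨SchFinLib.FEtCat.hasInitial X, SchFinLib.FEtCat.hasPushouts X⟩

end Groth.Agent.S15621
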