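import Groth.Statements.S15628
import Groth.Agent.SchFinLib.FEt

set_option autoImplicit false
universe u
open SchFin SchFin.FEt

namespace Groth.Agent.S15628

open SchFin CategoryTheory CategoryTheory.Limits in
/-- Over a schematic finite space, a morphism f from an étale cover A to an étale cover B which is
surjective at every point identifies B with a direct factor of A: there are an étale cover D and a
morphism from A to D which together with f exhibit A as the product of B and D in the category of
étale covers. (The published statement assumes f an epimorphism of étale covers and first shows that
epimorphisms are exactly the pointwise surjective morphisms, a step resting on an extension result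
for quasi-coherent modules recalled there without proof; this row takes f surjective at every
point.) -/
theorem result (X : RSpace.{u}) (hX : X.IsSchematic)
    {A B : FEt X} (f : A ⟶ B) (hf : ∀ p : X.pt, Function.Surjective (f.hom.app p)) :
    ∃ (D : FEt X) (π : A ⟶ D), Nonempty (IsLimit (BinaryFan.mk f π)) := by
  exact SchFinLib.FEtCat.exists_isLimit_binaryFan hX.1 f hf

end Groth.Agent.S15628
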