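import Groth.Statements.S15645
import Groth.Agent.NodeFam.Models
-- import your own Groth.Agent.* helpers here

set_option autoImplicit false
universe u
open StrictSS

set_option backward.isDefEq.respectTransparency false
set_option backward.isDefEq.respectTransparency.types false
set_option linter.style.haveILetI false

namespace Groth.Agent.S15645

open CategoryTheory CategoryTheory.Limits AlgebraicGeometry in
/-- A strictly semistable multipointed curve (C, D) over a scheme S is semistable. Here (C, D) is a
multipointed S-curve (C flat, finitely presented and of pure relative dimension one over S; D a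
closed subscheme of C, flat, finitely presented and of relative dimension zero over S) every point
of which has an open neighbourhood U, over an affine open Spec A of S, with an etale morphism of
pairs from (U, D ∩ U) to the line model (Spec A[T], zero section) or, when no marked point lies in
U, an etale morphism from U to a node model Spec A[u, v]/(uv - a); the conclusion is that C → S is
an at-worst-nodal family of curves, D → S is etale and D misses the non-smooth locus of C → S. (The
published remark concerns curves over the spectrum of a valuation ring; the notion and the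
implication are local on the base, and this row states the implication over an arbitrary base
scheme.) -/
theorem result
    {C D S : Scheme.{u}} (φ : C ⟶ S) (i : D ⟶ C) (h : StrictSS.IsStrictlySemistable φ i) :
    SSMod.IsSemistable φ i := by
  obtain ⟨⟨hflat, hlfp, hqc, hqs, hrd, hci, hDflat, hDlfp, hDrd⟩, hch⟩ := h
  haveI := hflat; haveI := hlfp
  haveI := hDflat; haveI := hDlfp
  -- each chart is a nodal family and each line chart is smooth
  have hline : ∀ x, StrictSS.HasLineChartAt φ i x → ∃ U : C.Opens, x ∈ U ∧ Smooth (U.ι ≫ φ) ∧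
      Curv2.IsNodalFamily (U.ι ≫ φ) ∧ Etale ((i ⁻¹ᵁ U).ι ≫ i ≫ φ) := by
    rintro x ⟨A, j, hj, U, hx, q, hq, f, fD, hf, hfq, hfD, hcomm⟩
    haveI := hj; haveI := hf; haveI := hfD
    have hUφ : U.ι ≫ φ = f ≫ StrictSS.lineToBase A ≫ j := by rw [hq, ← hfq, Category.assoc]
    haveI := NodeFam.smoothOfRelativeDimension_spec 1 A (Polynomial A)
    haveI : Smooth (StrictSS.lineToBase A) := SmoothOfRelativeDimension.smooth 1
      (Spec.map (CommRingCat.ofHom (algebraMap A (Polynomial A))))
    refine ⟨U, hx, ?_, ?_, ?_⟩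
    · rw [hUφ]; infer_instance
    · rw [hUφ]
      exact NodeFam.isNodalFamily_precomp _
        (NodeFam.isNodalFamily_postcomp j (StrictSS.lineToBase A) (NodeFam.isNodalFamily_line A)) f
    · have hz : StrictSS.lineZero A ≫ StrictSS.lineToBase A = 𝟙 _ := by
        rw [← Spec.map_comp, ← CommRingCat.ofHom_comp, ← Spec.map_id]
        congr 1
        ext c
        simp
      have : (i ⁻¹ᵁ U).ι ≫ i ≫ φ = fD ≫ j := by
        rw [← morphismRestrict_ι_assoc, hUφ, ← Category.assoc (i ∣_ U), ← hcomm, Category.assoc,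
          reassoc_of% hz]
      rw [this]; infer_instance
  have hnode : ∀ x, StrictSS.HasNodeChartAt φ i x → ∃ U : C.Opens, x ∈ U ∧
      Curv2.IsNodalFamily (U.ι ≫ φ) ∧ Disjoint (Set.range i) (U : Set C) := by
    rintro x ⟨A, j, hj, U, hx, q, hq, a, f, hf, hfq, hdis⟩
    haveI := hj; haveI := hf
    refine ⟨U, hx, ?_, hdis⟩
    rw [hq, ← hfq, Category.assoc]
    exact NodeFam.isNodalFamily_precomp _
      (NodeFam.isNodalFamily_postcomp j (StrictSS.nodeToBase A a) (NodeFam.isNodalFamily_node a)) f
  -- the marked points lie in line charts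
  have hD : ∀ d : D, ∃ U : C.Opens, i d ∈ U ∧ Smooth (U.ι ≫ φ) ∧ Etale ((i ⁻¹ᵁ U).ι ≫ i ≫ φ) := by
    intro d
    rcases hch (i d) with hl | hn
    · obtain ⟨U, hx, hs, -, he⟩ := hline _ hl
      exact ⟨U, hx, hs, he⟩
    · obtain ⟨U, hx, -, hdis⟩ := hnode _ hn
      exact absurd hx (Set.disjoint_left.1 hdis ⟨d, rfl⟩)
  refine ⟨⟨hflat, hlfp, hqc, hqs, hrd, hci, hDflat, hDlfp, hDrd⟩, ?_, ?_, ?_⟩
  · refine (NodeFam.isNodalFamily_iff_forall φ).2 fun x => ?_
    obtain ⟨U, hx, hnf⟩ : ∃ U : C.Opens, x ∈ U ∧ Curv2.IsNodalFamily (U.ι ≫ φ) := by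
      rcases hch x with hl | hn
      · obtain ⟨U, hx, -, hnf, -⟩ := hline x hl
        exact ⟨U, hx, hnf⟩
      · obtain ⟨U, hx, hnf, -⟩ := hnode x hn
        exact ⟨U, hx, hnf⟩
    exact (NodeFam.famGood_restrict_iff φ U ⟨x, hx⟩).1 ((NodeFam.isNodalFamily_iff_forall (U.ι ≫ φ)).1 hnf _)
  · choose U hU _ het using hD
    exact IsZariskiLocalAtSource.of_iSup_eq_top (P := @Etale) (fun d => i ⁻¹ᵁ U d)
      (top_le_iff.1 fun d _ => TopologicalSpace.Opens.mem_iSup.2 ⟨d, hU d⟩) het
  · rw [Set.disjoint_left]
    rintro _ ⟨d, rfl⟩ hns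
    obtain ⟨U, hx, hs, -⟩ := hD d
    have h1 : i d ∈ φ.smoothLocus := (NodeFam.exists_smooth_nhd_iff' φ (i d)).1 ⟨U, hx, hs⟩
    exact hns ((Scheme.Hom.mem_smoothLocus (f := φ)).1 h1)


end Groth.Agent.S15645
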