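import Groth.Statements.S1565
import Groth.Agent.CurveSepPt.Main

set_option backward.isDefEq.respectTransparency false
set_option backward.isDefEq.respectTransparency.types false
set_option linter.style.haveILetI false

set_option autoImplicit false
universe u
open CategoryTheory CategoryTheory.Limits AlgebraicGeometry
attribute [local instance] Curv2.resAlgebra
open Curves

namespace Groth.Agent.S1565

/-- Let X be a smooth proper curve over a field k whose global functions are k, of genus g ≥ 2. Then X
has a closed point whose residue field is a separable extension of k of degree at most 2g - 2. -/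
theorem result (k : Type u) [Field k] (X : Scheme.{u}) [X.Over (Spec (CommRingCat.of k))]
    (hX : Curve.IsSmoothProperCurve k X (X ↘ (Spec (CommRingCat.of k)))) (h0 : Module.finrank k (Coh.HH X (Coh.structureModule X) 0) = 1) (hg : 2 ≤ Curv2.genus k X) :
    ∃ x : X, IsClosed ({x} : Set X) ∧ Algebra.IsSeparable k (X.residueField x) ∧
      Module.finrank k (X.residueField x) ≤ 2 * Curv2.genus k X - 2 ∧ FiniteDimensional k (X.residueField x) := by
  haveI := hX.1
  haveI := hX.2.1
  haveI := CurveBC.isIntegral_of_h0 k X h0
  exact CurveSepPt.exists_separable_point k X hX.2.2.2 h0 hg

end Groth.Agent.S1565
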