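import Groth.Statements.S15653
import Groth.Agent.AVTate.Basis
import Groth.Agent.AVTate.CenterEq
import Groth.Agent.AVTate.Cube
import Groth.Agent.S15655
-- import your own Groth.Agent.* helpers here

set_option linter.style.haveILetI false
set_option backward.isDefEq.respectTransparency false
set_option backward.isDefEq.respectTransparency.types false
set_option maxHeartbeats 2000000
set_option synthInstance.maxHeartbeats 400000

set_option autoImplicit false
universe u
open CategoryTheory MonoidalCategory CartesianMonoidalCategory MonObj GrpObj AlgebraicGeometry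
open AbVar

namespace Groth.Agent.S15653

/-- Let A be a simple abelian variety of dimension g over a finite field k with q elements — a proper,
geometrically integral commutative group scheme over k, of Krull dimension g, whose only abelian
subvarieties over k (geometrically integral closed subgroup schemes) are the trivial subgroup and A
itself — and π_A its q-Frobenius endomorphism (the identity on points and the q-th power map on
sections; a homomorphism). Then End⁰(A) = ℚ ⊗_ℤ End_k(A) is finite-dimensional over ℚ and its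
reduced degree [End⁰(A) : ℚ[π_A]]^(1/2) · [ℚ[π_A] : ℚ] equals 2g: there is a natural number n such
that End⁰(A) has rank n² as a module (by left multiplication) over the ℚ-subalgebra ℚ[π_A] generated
by the image of π_A — a field when A is non-trivial — and n · [ℚ[π_A] : ℚ] = 2g. -/
theorem result (k : Type u) [Field k] [Finite k]
    (A : Over (Spec (CommRingCat.of k)))
    [GrpObj A] [IsCommMonObj A] [IsProper A.hom] [GeometricallyIntegral A.hom]
    (g : ℕ) (hg : topologicalKrullDim A.left = g)
    (hsimple : ∀ (B : Over (Spec (CommRingCat.of k))) [GrpObj B] [GeometricallyIntegral B.hom] (i : B ⟶ A) [IsMonHom i]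
      [IsClosedImmersion i.left], Subsingleton B.left ∨ IsIso i)
    (πA : A ⟶ A) [IsMonHom πA] (hπAb : πA.left.base = 𝟙 _)
    (hπAle : ∀ U : A.left.Opens, U ≤ πA.left ⁻¹ᵁ U)
    (hπAapp : ∀ (U : A.left.Opens) (s : Γ(A.left, U)), (πA.left.appLE U U (hπAle U)).hom s = s ^ Nat.card k) :
    Module.Finite ℚ (EndAV.End0 A) ∧ ∃ n : ℕ,
      Module.finrank (EndAV.QAdj (EndAV.End.of πA)) (EndAV.End0 A) = n ^ 2 ∧
      n * Module.finrank ℚ (EndAV.QAdj (EndAV.End.of πA)) = 2 * g := by
  let Ω := AlgebraicClosure k
  haveI : IsAlgClosed Ω := IsAlgClosure.isAlgClosed k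
  obtain ⟨l, hlp, hl⟩ := Groth.Agent.AVHomLattice.exists_prime k
  haveI := Fact.mk hlp
  obtain ⟨hf, hf'⟩ := Groth.Agent.AVTate.free_finite_tate (A := A) (Ω := Ω) hl
  haveI := hf
  haveI := hf'
  have hA : Groth.Agent.AVTate.IsFrob A πA := ⟨hπAb, hπAle, hπAapp⟩
  have hC := Groth.Agent.AVTate.cubeEmbeds k
  obtain ⟨P, hPm, hPd, -, hT⟩ := Groth.Agent.AVTateBC.exists_charpoly Ω A hg (EndAV.End.of πA)
  have hP := hT l hl
  haveI := Groth.Agent.AVEnd0.finite_end0 (A := A)
  refine ⟨inferInstance, ?_⟩
  rcases subsingleton_or_nontrivial (EndAV.End0 A) with hs | hn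
  · haveI := hs
    haveI : Subsingleton (EndAV.QAdj (EndAV.End.of πA)) := ⟨fun a b => Subtype.ext (Subsingleton.elim _ _)⟩
    have h1 := Groth.Agent.AVTate.finrank_end0_eq hl hP hC hA
    rw [Module.finrank_zero_of_subsingleton] at h1
    have hg0 := Groth.Agent.AVTate.natDegree_le_rsum (hPm.map (Int.castRingHom ℚ)).ne_zero
    rw [← h1, hPm.natDegree_map, hPd] at hg0
    refine ⟨1, ?_, ?_⟩
    · rw [one_pow]
      exact Module.finrank_eq_of_rank_eq (rank_subsingleton _ _)
    · rw [Module.finrank_zero_of_subsingleton (R := ℚ) (M := EndAV.QAdj (EndAV.End.of πA))]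
      omega
  · haveI := hn
    have hu := Groth.Agent.S15655.result k A hsimple
    haveI : NoZeroDivisors (EndAV.End0 A) := ⟨fun {a b} h => by
      by_cases ha : a = 0
      · exact Or.inl ha
      · exact Or.inr ((hu a ha).mul_right_eq_zero.1 h)⟩
    haveI : IsDomain (EndAV.End0 A) := NoZeroDivisors.to_isDomain _
    letI : CommRing (EndAV.QAdj (EndAV.End.of πA)) :=
      Algebra.adjoinCommRingOfComm ℚ (by rintro a rfl b rfl; rfl)
    have hK : IsField (EndAV.QAdj (EndAV.End.of πA)) := isField_of_isIntegral_of_isField' (R := ℚ) (Field.toIsField ℚ)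
    obtain ⟨d, h1, h2, -⟩ := Groth.Agent.AVTate.exists_sq_of_isField hl hP hC hA hg hK
    refine ⟨d, ?_, h2⟩
    letI := hK.toField
    have h3 := Module.finrank_mul_finrank ℚ (EndAV.QAdj (EndAV.End.of πA)) (EndAV.End0 A)
    rw [h1] at h3
    exact Nat.eq_of_mul_eq_mul_left Module.finrank_pos h3

end Groth.Agent.S15653
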