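import Groth.Statements.S1568
import Groth.Agent.MeroX.DivDim

set_option autoImplicit false
universe u
open CategoryTheory CategoryTheory.Limits AlgebraicGeometry
open Divisors

namespace Groth.Agent.S1568

/-- Let X be locally Noetherian and D an effective Cartier divisor. At a point ξ of D that is maximal in
D under generisation (a generic point of a component of D), the local ring of X has dimension
exactly one. -/
theorem result (X : Scheme.{u}) [IsLocallyNoetherian X]
    (D : X.IdealSheafData) (hD : BlowUp.IsEffCartierIdeal D) (ξ : X)
    (hξ : ξ ∈ (D.support : Set X)) (hgen : ∀ y ∈ (D.support : Set X), y ⤳ ξ → y = ξ) :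
    ringKrullDim (X.presheaf.stalk ξ) = 1 := by
  exact MeroX.stalk_dim_eq_one D hD ξ hξ hgen

end Groth.Agent.S1568
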