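import Groth.Statements.S15686
import Groth.Agent.StkCntLib.Classes
import Groth.Agent.StkCntLib.TwistPts
-- import your own Groth.Agent.* helpers here

set_option autoImplicit false
set_option backward.isDefEq.respectTransparency.types false
set_option maxHeartbeats 1000000
universe u
open CategoryTheory AlgebraicGeometry MonObj
open StackCount

namespace Groth.Agent.S15686

/-- Let k be a finite field with algebraic closure k̄, G a smooth affine algebraic group over k acting
on a variety X over k (reduced and of finite type), and [X/G] the quotient stack whose objects over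
a k-scheme T are G-torsors P → T (schemes, locally trivial for the étale topology) with a
G-equivariant morphism P → X. Suppose the Galois cohomology set H¹(k, G) (continuous cocycles of
Gal(k̄/k) with values in G(k̄), up to equivalence) is finite, and choose for every class c a
continuous cocycle z_c in it, a twist X_c of X by z_c through the action (a k-scheme whose base
change to k̄ is identified with that of X so that the Galois action becomes x ↦ z_c(σ) · σx), and
the inner form G_c of G determined by z_c. If the groupoid of k-points of [X/G] is essentially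
finite, then its point count (the sum over isomorphism classes of the inverse orders of the
automorphism groups) equals the sum over the classes c of #X_c(k) / #G_c(k). (The published
statement is for the k′-points over any finite extension k′ of k and for any smooth algebraic group
G; this row is the case k′ = k, to which the general case reduces by base change, and takes G affine
so that every torsor is a scheme.) -/
theorem result (k : Type u) [Field k] [Finite k]
    (kb : Type u) [Field kb] [Algebra k kb] [IsAlgClosure k kb]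
    (G : Over (Spec (CommRingCat.of k))) [GrpObj G] [Smooth G.hom] [IsAffineHom G.hom]
    (X : Over (Spec (CommRingCat.of k))) [LocallyOfFiniteType X.hom] [QuasiCompact X.hom]
    [IsReduced X.left] (aX : AlgGrp.Action G X)
    [Fintype (GpH1.H1lc (kb ≃ₐ[k] kb) (SGA7.Pts kb G))]
    (z : GpH1.H1lc (kb ≃ₐ[k] kb) (SGA7.Pts kb G) → GpH1.OneCocycleLC (kb ≃ₐ[k] kb) (SGA7.Pts kb G))
    (hz : ∀ c, (z c).cl = c)
    (Xz : GpH1.H1lc (kb ≃ₐ[k] kb) (SGA7.Pts kb G) → Over (Spec (CommRingCat.of k)))
    (hXz : ∀ c, GalTw.IsActTwist kb aX (z c).1 (Xz c))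
    (Gin : GpH1.H1lc (kb ≃ₐ[k] kb) (SGA7.Pts kb G) → Over (Spec (CommRingCat.of k)))
    [∀ c, GrpObj (Gin c)]
    (hGin : ∀ c, GalTw.IsInnTwist kb G (z c).1 (Gin c))
    (h : StkCnt.IsEssFinite (StkCnt.pts (AlgSt.QuotSt Scheme.etalePrecoverage G aX) k)) :
    StkCnt.ptCount (AlgSt.QuotSt Scheme.etalePrecoverage G aX) k h =
      ∑ c : GpH1.H1lc (kb ≃ₐ[k] kb) (SGA7.Pts kb G),
        (Nat.card (SGA7.Pts k (Xz c)) : ℚ) / (Nat.card (SGA7.Pts k (Gin c)) : ℚ) := by
  open CartesianMonoidalCategory MonObj StkCntLib in
  classical
  haveI : IsAlgClosed kb := IsAlgClosure.isAlgClosed k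
  haveI : IsGalois k kb := Frob.isGalois_algClosure
  obtain ⟨π, hπ⟩ := Frob.exists_frobenius (k := k) (K := kb)
  have hco := fun (a b : GpH1.OneCocycleLC (kb ≃ₐ[k] kb) (SGA7.Pts kb G)) =>
    Frob.cohomologous_iff hπ (fun g : SGA7.Pts kb G => isOpen_stabilizer g) a b
  rw [ptCount_eq_sum hπ h (fun c => (z c).1 π) (fun b x _ => ?_) (fun i j hij => ?_)]
  · refine Finset.sum_congr rfl fun c _ => ?_
    rw [card_actTwist (hXz c), card_innTwist (hGin c)]
    congr 2
    · exact Nat.card_congr (Equiv.subtypeEquivRight fun x => ⟨fun hx => fixed_of_frob hπ (z c) x hx, fun hx => hx π⟩)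
    · refine Nat.card_congr (Equiv.subtypeEquivRight fun g => ⟨fun hg σ => ?_, fun hg => ?_⟩)
      · have e := cocycle_ext hπ (z := z c) (z' := conjCocycle g (z c)) (by
          show (z c).1 π = g * (z c).1 π * (π • g)⁻¹
          rw [eq_mul_inv_iff_mul_eq]
          exact hg.symm) σ
        have e' : (z c).1 σ = g * (z c).1 σ * (σ • g)⁻¹ := e
        rw [mul_inv_eq_iff_eq_mul]
        exact eq_mul_inv_iff_mul_eq.1 e'
      · exact (mul_inv_eq_iff_eq_mul.1 (hg π)).symm
  · obtain ⟨z', hz'⟩ := Frob.exists_cocycle hπ (fun g : SGA7.Pts kb G => isOpen_stabilizer g) exists_finite_stable b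
    obtain ⟨g, hg⟩ := (hco (z z'.cl) z').1 (hz z'.cl)
    exact ⟨z'.cl, g, hg.symm.trans hz'⟩
  · obtain ⟨g, hg⟩ := hij
    rw [← hz i, ← hz j]
    exact ((hco (z j) (z i)).2 ⟨g, hg.symm⟩).symm

end Groth.Agent.S15686
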