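import Groth.Statements.S15687
import Groth.Agent.GalTw16.LangH1
-- import your own Groth.Agent.* helpers here

set_option autoImplicit false
set_option backward.isDefEq.respectTransparency false
set_option backward.isDefEq.respectTransparency.types false
universe u
open CategoryTheory AlgebraicGeometry MonObj
open GalTw

namespace Groth.Agent.S15687
open Groth.Agent

/-- Let k be a finite field with algebraic closure k̄, and let A, B, C be smooth algebraic groups over k
with homomorphisms i : A → B and π : B → C forming a short exact sequence 1 → A → B → C → 1 (π ∘ i
trivial, B a pseudo-torsor over C under A acting through i, and π acquiring sections fppf-locally on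
C), with A connected. Then the map H¹(k, B) → H¹(k, C) induced by π on the continuous Galois
cohomology sets (continuous cocycles of Gal(k̄/k) with values in the k̄-points, up to equivalence)
is bijective. -/
theorem result (k : Type u) [Field k] [Finite k]
    (kb : Type u) [Field kb] [Algebra k kb] [IsAlgClosure k kb]
    (A B C : Over (Spec (CommRingCat.of k))) [GrpObj A] [GrpObj B] [GrpObj C]
    [Smooth A.hom] [Smooth B.hom] [Smooth C.hom]
    [QuasiCompact A.hom] [QuasiCompact B.hom] [QuasiCompact C.hom]
    (i : A ⟶ B) (π : B ⟶ C) [IsMonHom i] [IsMonHom π]
    (hex : NonAbH1.IsExactSeq Scheme.fppfPrecoverage i π) [ConnectedSpace A.left] :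
    Function.Bijective
      (GalTw.H1lcMap (GalTw.ptsMap (K := kb) π) (GalTw.ptsMap_smul (K := kb) π)) := by
  haveI : LocallyOfFiniteType C.hom := inferInstance
  exact GalTw16.bijective i π hex

end Groth.Agent.S15687
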