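import Groth.Statements.S15688
import Groth.Agent.StkCntLib.TwistLang
import Groth.Agent.StkCntLib.TwistPts
-- import your own Groth.Agent.* helpers here

set_option autoImplicit false
set_option backward.isDefEq.respectTransparency.types false
set_option maxHeartbeats 1000000
universe u
open CategoryTheory AlgebraicGeometry MonoidalCategory CartesianMonoidalCategory MonObj
open StackCount

namespace Groth.Agent.S15688

/-- Let k be a finite field with algebraic closure k̄, and let A, B, C be smooth algebraic groups over k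
with homomorphisms i : A → B and π : B → C forming a short exact sequence 1 → A → B → C → 1 (π ∘ i
trivial, B a pseudo-torsor over C under A acting through i, and π acquiring sections fppf-locally on
C), with A connected; let c be the action of B on A by conjugation, i.e. an action with i(b · a) = b
i(a) b⁻¹. Let z be a continuous cocycle of Gal(k̄/k) with values in B(k̄), A_z a twist of A by z
through the action c, B_z an inner form of B by z, and C_z an inner form of C by the image of z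
under π. Then the numbers of k-points satisfy #B_z(k) = #A_z(k) · #C_z(k). -/
theorem result (k : Type u) [Field k] [Finite k]
    (kb : Type u) [Field kb] [Algebra k kb] [IsAlgClosure k kb]
    (A B C : Over (Spec (CommRingCat.of k))) [GrpObj A] [GrpObj B] [GrpObj C]
    [Smooth A.hom] [Smooth B.hom] [Smooth C.hom]
    [QuasiCompact A.hom] [QuasiCompact B.hom] [QuasiCompact C.hom]
    (i : A ⟶ B) (π : B ⟶ C) [IsMonHom i] [IsMonHom π]
    (hex : NonAbH1.IsExactSeq Scheme.fppfPrecoverage i π) [ConnectedSpace A.left]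
    (c : AlgGrp.Action B A) (hc : c.act ≫ i = fst B A * (snd B A ≫ i) * (fst B A)⁻¹)
    (z : GpH1.OneCocycleLC (kb ≃ₐ[k] kb) (SGA7.Pts kb B))
    (Az : Over (Spec (CommRingCat.of k))) (hAz : GalTw.IsActTwist kb c z.1 Az)
    (Bz : Over (Spec (CommRingCat.of k))) [GrpObj Bz] (hBz : GalTw.IsInnTwist kb B z.1 Bz)
    (Cz : Over (Spec (CommRingCat.of k))) [GrpObj Cz]
    (hCz : GalTw.IsInnTwist kb C
      (GalTw.lcMap (GalTw.ptsMap (K := kb) π) (GalTw.ptsMap_smul (K := kb) π) z).1 Cz) :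
    Nat.card (SGA7.Pts k Bz) = Nat.card (SGA7.Pts k Az) * Nat.card (SGA7.Pts k Cz) := by
  open CartesianMonoidalCategory MonObj GrpObj StkCntLib in
  classical
  haveI : IsAlgClosed kb := IsAlgClosure.isAlgClosed k
  haveI : IsGalois k kb := Frob.isGalois_algClosure
  obtain ⟨π₀, hπ⟩ := Frob.exists_frobenius (k := k) (K := kb)
  let a : SGA7.Pts kb B := z.1 π₀
  obtain ⟨-, -, hcomp, hpb, hloc⟩ := hex
  -- the kernel
  have hsplit : ∀ {T : Over (Spec (CommRingCat.of k))} (b b' : T ⟶ B), b ≫ π = b' ≫ π →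
      ∃ x : T ⟶ A, b * x ≫ i = b' := fun b b' hbb => by
    refine ⟨hpb.lift b b' hbb ≫ snd B A, ?_⟩
    have h1 := hpb.lift_fst b b' hbb
    have h2 := hpb.lift_snd b b' hbb
    have e : hpb.lift b b' hbb = lift b (hpb.lift b b' hbb ≫ snd B A) := by
      apply CartesianMonoidalCategory.hom_ext
      · rw [h1, lift_fst]
      · rw [lift_snd]
    rw [e, lift_whiskerLeft_assoc] at h2
    exact (Hom.mul_def _ _).trans h2
  haveI : Mono i := ⟨fun {T} x x' h => by
    have h1 : lift (1 : T ⟶ B) x = lift (1 : T ⟶ B) x' := hpb.hom_ext (by simp) (by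
      rw [lift_whiskerLeft_assoc, lift_whiskerLeft_assoc, h])
    simpa using congrArg (· ≫ snd B A) h1⟩
  -- surjectivity on points
  haveI : Surjective π.left := by
    obtain ⟨R, hR, hsec⟩ := hloc
    obtain ⟨I, U, f, rfl⟩ := R.exists_eq_ofArrows
    obtain ⟨hcov, -⟩ :=
      (Scheme.ofArrows_mem_precoverage_iff (P := @Flat ⊓ @LocallyOfFinitePresentation)).1 hR
    refine ⟨fun y => ?_⟩
    obtain ⟨j, w, hw⟩ := hcov y
    obtain ⟨s, hs⟩ := hsec (f j) (.mk j)
    refine ⟨s w, ?_⟩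
    rw [← Scheme.Hom.comp_apply, show s ≫ π.left = f j from hs, hw]
  haveI : LocallyOfFiniteType π.left := by
    haveI : LocallyOfFiniteType (π.left ≫ C.hom) := by rw [Over.w π]; infer_instance
    exact locallyOfFiniteType_of_comp π.left C.hom
  have hlang := fun u : SGA7.Pts kb A => twisted_lang i c hc hπ a u
  have hci : ∀ x : SGA7.Pts kb A, pmul c a x ≫ i = a * x ≫ i * a⁻¹ := fun x => by
    show (CartesianMonoidalCategory.lift a x ≫ c.act) ≫ i = _
    rw [Category.assoc, hc, MonObj.comp_mul, MonObj.comp_mul, GrpObj.comp_inv, lift_fst, lift_snd_assoc]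
  have hsm : ∀ x : SGA7.Pts kb A, (π₀ • x) ≫ i = π₀ • (x ≫ i) := fun x => Category.assoc _ _ _
  have hsmC : ∀ x : SGA7.Pts kb B, (π₀ • x) ≫ π = π₀ • (x ≫ π) := fun x => Category.assoc _ _ _
  rw [card_innTwist hBz, card_actTwist hAz, card_innTwist hCz]
  let z' := GalTw.lcMap (GalTw.ptsMap (K := kb) π) (GalTw.ptsMap_smul (K := kb) π) z
  have hz' : z'.1 π₀ = a ≫ π := rfl
  have hB : ∀ g : SGA7.Pts kb B, (∀ σ, z.1 σ * σ • g * (z.1 σ)⁻¹ = g) ↔ g * a = a * π₀ • g := fun g => by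
    refine ⟨fun h => (mul_inv_eq_iff_eq_mul.1 (h π₀)).symm, fun h σ => ?_⟩
    have e : z.1 σ = g * z.1 σ * (σ • g)⁻¹ := cocycle_ext hπ (z := z) (z' := conjCocycle g z) (by
      show z.1 π₀ = g * z.1 π₀ * (π₀ • g)⁻¹
      rw [eq_mul_inv_iff_mul_eq]
      exact h.symm) σ
    rw [mul_inv_eq_iff_eq_mul]
    exact eq_mul_inv_iff_mul_eq.1 e
  have hC : ∀ g : SGA7.Pts kb C, (∀ σ, z'.1 σ * σ • g * (z'.1 σ)⁻¹ = g) ↔ g * a ≫ π = a ≫ π * π₀ • g := fun g => by
    refine ⟨fun h => (mul_inv_eq_iff_eq_mul.1 (hz' ▸ h π₀)).symm, fun h σ => ?_⟩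
    have e : z'.1 σ = g * z'.1 σ * (σ • g)⁻¹ := cocycle_ext hπ (z := z') (z' := conjCocycle g z') (by
      show z'.1 π₀ = g * z'.1 π₀ * (π₀ • g)⁻¹
      rw [hz', eq_mul_inv_iff_mul_eq]
      exact h.symm) σ
    rw [mul_inv_eq_iff_eq_mul]
    exact eq_mul_inv_iff_mul_eq.1 e
  have hA : ∀ x : SGA7.Pts kb A, (∀ σ, pmul c (z.1 σ) (σ • x) = x) ↔ (x ≫ i) * a = a * π₀ • (x ≫ i) := fun x => by
    constructor
    · intro h
      have h1 := congrArg (· ≫ i) (h π₀)
      rw [hci, hsm] at h1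
      exact (mul_inv_eq_iff_eq_mul.1 h1).symm
    · intro h
      refine fixed_of_frob hπ z x ((cancel_mono i).1 ?_)
      rw [hci, hsm, mul_inv_eq_iff_eq_mul]
      exact h.symm
  let BB : Subgroup (SGA7.Pts kb B) :=
    { carrier := {g | g * a = a * π₀ • g}
      one_mem' := by show (1 : SGA7.Pts kb B) * a = a * π₀ • (1 : SGA7.Pts kb B); rw [smul_one, _root_.one_mul, _root_.mul_one]
      mul_mem' := fun {g h} hg hh => by
        show g * h * a = a * π₀ • (g * h)
        rw [StkCntLib.smul_mul', ← _root_.mul_assoc a, ← (hg : g * a = a * π₀ • g), _root_.mul_assoc, (hh : h * a = a * π₀ • h),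
          _root_.mul_assoc]
      inv_mem' := fun {g} hg => by
        show g⁻¹ * a = a * π₀ • g⁻¹
        rw [smul_inv', eq_mul_inv_iff_mul_eq, _root_.mul_assoc, ← (hg : g * a = a * π₀ • g), inv_mul_cancel_left] }
  let CC : Subgroup (SGA7.Pts kb C) :=
    { carrier := {g | g * a ≫ π = a ≫ π * π₀ • g}
      one_mem' := by show (1 : SGA7.Pts kb C) * _ = _ * π₀ • (1 : SGA7.Pts kb C); rw [smul_one, _root_.one_mul, _root_.mul_one]
      mul_mem' := fun {g h} hg hh => by
        show g * h * a ≫ π = a ≫ π * π₀ • (g * h)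
        rw [StkCntLib.smul_mul', ← _root_.mul_assoc (a ≫ π), ← (hg : g * a ≫ π = a ≫ π * π₀ • g), _root_.mul_assoc,
          (hh : h * a ≫ π = a ≫ π * π₀ • h), _root_.mul_assoc]
      inv_mem' := fun {g} hg => by
        show g⁻¹ * a ≫ π = a ≫ π * π₀ • g⁻¹
        rw [smul_inv', eq_mul_inv_iff_mul_eq, _root_.mul_assoc, ← (hg : g * a ≫ π = a ≫ π * π₀ • g), inv_mul_cancel_left] }
  have hmapC : ∀ g : SGA7.Pts kb B, g ∈ BB → g ≫ π ∈ CC := fun g hg => by
    show g ≫ π * a ≫ π = a ≫ π * π₀ • (g ≫ π)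
    rw [← hsmC, ← MonObj.mul_comp, ← MonObj.mul_comp, (hg : g * a = a * π₀ • g)]
  let φ : BB →* CC :=
    { toFun := fun g => ⟨g.1 ≫ π, hmapC g.1 g.2⟩
      map_one' := Subtype.ext (MonObj.one_comp π)
      map_mul' := fun g h => Subtype.ext (MonObj.mul_comp g.1 h.1 π) }
  have hsurj : Function.Surjective φ := fun ⟨y, hy⟩ => by
    obtain ⟨b, rfl⟩ := exists_lift_pts π y
    obtain ⟨u, hu⟩ := hsplit b (a * π₀ • b * a⁻¹) (by
      rw [MonObj.mul_comp, MonObj.mul_comp, GrpObj.inv_comp, hsmC, eq_mul_inv_iff_mul_eq]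
      exact hy)
    obtain ⟨w, hw⟩ := hlang u
    have h1 : a * π₀ • b = b * u ≫ i * a := mul_inv_eq_iff_eq_mul.1 hu.symm
    have h2 : π₀ • (w ≫ i) = a⁻¹ * (w ≫ i * (u ≫ i * a)) := by
      rw [← hw]; group
    refine ⟨⟨b * (w ≫ i)⁻¹, ?_⟩, Subtype.ext ?_⟩
    · show b * (w ≫ i)⁻¹ * a = a * π₀ • (b * (w ≫ i)⁻¹)
      rw [StkCntLib.smul_mul', smul_inv', h2, ← _root_.mul_assoc a (π₀ • b), h1]
      group
    · show (b * (w ≫ i)⁻¹) ≫ π = b ≫ π
      rw [MonObj.mul_comp, GrpObj.inv_comp, Category.assoc, hcomp, MonObj.comp_one, inv_one, _root_.mul_one]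
  have hker : Nat.card φ.ker = Nat.card {x : SGA7.Pts kb A // (x ≫ i) * a = a * π₀ • (x ≫ i)} := by
    refine (Nat.card_congr (Equiv.ofBijective
      (fun x : {x : SGA7.Pts kb A // (x ≫ i) * a = a * π₀ • (x ≫ i)} =>
        (⟨⟨x.1 ≫ i, x.2⟩, Subtype.ext (show (x.1 ≫ i) ≫ π = 1 by rw [Category.assoc, hcomp, MonObj.comp_one])⟩ : φ.ker))
      ⟨fun x x' h => Subtype.ext ((cancel_mono i).1 (congrArg (fun g : φ.ker => g.1.1) h)), fun ⟨⟨g, hg⟩, hk⟩ => ?_⟩)).symm
    have hk' : g ≫ π = 1 := congrArg Subtype.val hk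
    obtain ⟨x, hx⟩ := hsplit (1 : SGA7.Pts kb B) g (by rw [hk', MonObj.one_comp])
    rw [_root_.one_mul] at hx
    subst hx
    exact ⟨⟨x, hg⟩, rfl⟩
  have key : Nat.card BB = Nat.card φ.ker * Nat.card CC := by
    rw [Subgroup.card_eq_card_quotient_mul_card_subgroup φ.ker,
      Nat.card_congr (QuotientGroup.quotientKerEquivOfSurjective φ hsurj).toEquiv, Nat.mul_comm]
  rw [Nat.card_congr (Equiv.subtypeEquivRight hA), Nat.card_congr (Equiv.subtypeEquivRight hB),
    Nat.card_congr (Equiv.subtypeEquivRight hC), ← hker]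
  exact key

end Groth.Agent.S15688
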