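import Groth.Statements.S15692
import Groth.Agent.StkCntLib.TwistUnip
import Groth.Agent.StkCntLib.ClassReps
import Groth.Agent.StkCntLib.BaseTransfer
-- import your own Groth.Agent.* helpers here

set_option autoImplicit false
set_option linter.style.haveILetI false
set_option backward.isDefEq.respectTransparency.types false
set_option maxHeartbeats 1000000
universe u
open CategoryTheory AlgebraicGeometry MonoidalCategory CartesianMonoidalCategory MonObj
open StackCount

namespace Groth.Agent.S15692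

/-- Let k be a finite field with q elements and algebraic closure k̄, and G a smooth affine algebraic
group over k which is a semidirect product of closed subgroups H and U: the inclusions H → G and U →
G are homomorphisms, U is normal in G, and multiplication H × U → G, (h, u) ↦ h u, is an isomorphism
of k-schemes. Assume U is smooth, connected and unipotent (its base change to k̄ contains no
non-trivial subtorus), of dimension d. Let G act on a variety X over k (reduced, of finite type) and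
let H act on X through its inclusion. If the groupoids of k-points of the quotient stacks [X/G] and
[X/H] (G- resp. H-torsors over Spec k as schemes, locally trivial for the étale topology, with an
equivariant map to X) are essentially finite, then their point counts (sums over isomorphism classes
of the inverse orders of the automorphism groups) satisfy #[X/G](k) · q^d = #[X/H](k). (The
published statement is for the k′-points over any finite extension k′ of k; this row is the case k′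
= k, to which the general case reduces by base change, and takes the groups affine so that torsors
are schemes.) -/
theorem result (k : Type u) [Field k] [Finite k]
    (kb : Type u) [Field kb] [Algebra k kb] [IsAlgClosure k kb]
    (G H U : Over (Spec (CommRingCat.of k))) [GrpObj G] [GrpObj H] [GrpObj U]
    [Smooth G.hom] [IsAffineHom G.hom] [Smooth H.hom] [IsAffineHom H.hom]
    [Smooth U.hom] [IsAffineHom U.hom] [ConnectedSpace U.left]
    (iH : H ⟶ G) (iU : U ⟶ G) [IsMonHom iH] [IsMonHom iU] [Mono iH] [Mono iU]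
    (hUn : AlgGrp.IsNormalHom iU) (hsd : IsIso ((fst H U ≫ iH) * (snd H U ≫ iU)))
    (hUu : Red.HasNoSubtorus kb (GalTw.bcK kb U))
    (d : ℕ) (hd : topologicalKrullDim ↥U.left = (d : WithBot ℕ∞))
    (X : Over (Spec (CommRingCat.of k))) [LocallyOfFiniteType X.hom] [QuasiCompact X.hom]
    [IsReduced X.left] (aG : AlgGrp.Action G X) (aH : AlgGrp.Action H X)
    (haH : aH.act = (iH ▷ X) ≫ aG.act)
    (hG : StkCnt.IsEssFinite (StkCnt.pts (AlgSt.QuotSt Scheme.etalePrecoverage G aG) k))
    (hH : StkCnt.IsEssFinite (StkCnt.pts (AlgSt.QuotSt Scheme.etalePrecoverage H aH) k)) :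
    StkCnt.ptCount (AlgSt.QuotSt Scheme.etalePrecoverage G aG) k hG * (Nat.card k : ℚ) ^ d =
      StkCnt.ptCount (AlgSt.QuotSt Scheme.etalePrecoverage H aH) k hH := by
  open CartesianMonoidalCategory MonObj GrpObj StkCntLib in
  classical
  haveI : IsAlgClosed kb := IsAlgClosure.isAlgClosed k
  haveI : IsGalois k kb := Frob.isGalois_algClosure
  obtain ⟨π, hπ⟩ := Frob.exists_frobenius (k := k) (K := kb)
  obtain ⟨c, hc⟩ := exists_conjAction iU hUn
  obtain ⟨J, _, a, hax, ha, hdis⟩ := exists_class_reps (aX := aH) hπ hH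
  have hsmH : ∀ x : SGA7.Pts kb H, (π • x) ≫ iH = π • (x ≫ iH) := fun x => Category.assoc _ _ _
  have hsmU : ∀ x : SGA7.Pts kb U, (π • x) ≫ iU = π • (x ≫ iU) := fun x => Category.assoc _ _ _
  have hact : ∀ (h : SGA7.Pts kb H) (x : SGA7.Pts kb X), pmul aG (h ≫ iH) x = pmul aH h x := fun h x => by
    show lift (h ≫ iH) x ≫ aG.act = lift h x ≫ aH.act
    rw [haH, lift_whiskerRight_assoc]
  have hbij : Function.Bijective fun p : SGA7.Pts kb H × SGA7.Pts kb U => (p.1 ≫ iH) * (p.2 ≫ iU) := by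
    haveI := hsd
    refine ⟨fun p p' h => ?_, fun g => ?_⟩
    · have h1 : lift p.1 p.2 ≫ ((fst H U ≫ iH) * (snd H U ≫ iU)) =
          lift p'.1 p'.2 ≫ ((fst H U ≫ iH) * (snd H U ≫ iU)) := by
        simp only [MonObj.comp_mul, lift_fst_assoc, lift_snd_assoc]
        exact h
      have h2 := (cancel_mono _).1 h1
      exact Prod.ext (by simpa using congrArg (· ≫ fst H U) h2) (by simpa using congrArg (· ≫ snd H U) h2)
    · refine ⟨((g ≫ inv ((fst H U ≫ iH) * (snd H U ≫ iU))) ≫ fst H U,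
        (g ≫ inv ((fst H U ≫ iH) * (snd H U ≫ iU))) ≫ snd H U), ?_⟩
      show _ * _ = g
      simp only [Category.assoc]
      rw [← MonObj.comp_mul, ← MonObj.comp_mul, IsIso.inv_hom_id, Category.comp_id]
  -- twisted classes of G come from H
  have hred : ∀ g : SGA7.Pts kb G, ∃ (h : SGA7.Pts kb H) (v : SGA7.Pts kb G), v * (h ≫ iH) * (π • v)⁻¹ = g := fun g => by
    obtain ⟨⟨h, u⟩, hg⟩ := hbij.2 g
    change (h ≫ iH) * (u ≫ iU) = g at hg
    obtain ⟨u', hu'⟩ := hUn _ (h ≫ iH) u
    obtain ⟨v, hv⟩ := twisted_lang iU c hc hπ (h ≫ iH) u'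
    refine ⟨h, (v ≫ iU)⁻¹, ?_⟩
    rw [smul_inv', _root_.inv_inv, hv, ← hu', ← hg, inv_mul_cancel_right]
  have key : ∀ (h h' : SGA7.Pts kb H) (u : SGA7.Pts kb U),
      (h ≫ iH) * (u ≫ iU) * (h' ≫ iH) = (h' ≫ iH) * π • ((h ≫ iH) * (u ≫ iU)) ↔
        h * h' = h' * π • h ∧ (u ≫ iU) * (h' ≫ iH) = (h' ≫ iH) * π • (u ≫ iU) := fun h h' u => by
    refine ⟨fun e => ?_, fun ⟨e1, e2⟩ => ?_⟩
    · obtain ⟨w, hw⟩ := hUn _ (h' ≫ iH)⁻¹ u
      rw [_root_.inv_inv] at hw
      have e' : ((h * h') ≫ iH) * (w ≫ iU) = ((h' * π • h) ≫ iH) * ((π • u) ≫ iU) := by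
        rw [← hw, MonObj.mul_comp, MonObj.mul_comp, hsmH, hsmU, _root_.mul_assoc _ (π • (h ≫ iH)),
          ← StkCntLib.smul_mul', ← e]
        group
      have e'' := hbij.1 (a₁ := (h * h', w)) (a₂ := (h' * π • h, π • u)) e'
      simp only [Prod.mk.injEq] at e''
      refine ⟨e''.1, ?_⟩
      rw [← hsmU, ← e''.2, ← hw]
      group
    · have e1' : (h ≫ iH) * (h' ≫ iH) = (h' ≫ iH) * π • (h ≫ iH) := by
        rw [← hsmH, ← MonObj.mul_comp, ← MonObj.mul_comp, e1]
      rw [_root_.mul_assoc, e2, ← _root_.mul_assoc, e1', _root_.mul_assoc, ← StkCntLib.smul_mul']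
  have hfixU : ∀ h' : SGA7.Pts kb H,
      Nat.card {g : SGA7.Pts kb G // g * (h' ≫ iH) = (h' ≫ iH) * π • g} =
        Nat.card {h : SGA7.Pts kb H // h * h' = h' * π • h} * Nat.card k ^ d := fun h' => by
    rw [← card_twisted_unip hπ iU hUn hUu d hd (h' ≫ iH), ← Nat.card_prod]
    let e := Equiv.ofBijective _ hbij
    let e' := e.subtypeEquiv (p := fun p => p.1 * h' = h' * π • p.1 ∧ (p.2 ≫ iU) * (h' ≫ iH) = (h' ≫ iH) * π • (p.2 ≫ iU))
      (q := fun g => g * (h' ≫ iH) = (h' ≫ iH) * π • g) fun p => by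
        rw [show e p = (p.1 ≫ iH) * (p.2 ≫ iU) from rfl]
        exact (key p.1 h' p.2).symm
    rw [← Nat.card_congr e']
    exact Nat.card_congr (Equiv.subtypeProdEquivProd (p := fun h => h * h' = h' * π • h)
          (q := fun u : SGA7.Pts kb U => (u ≫ iU) * (h' ≫ iH) = (h' ≫ iH) * π • (u ≫ iU)))
  rw [ptCount_eq_sum hπ hH a ha hdis, ptCount_eq_sum hπ hG (fun j => a j ≫ iH) (fun b x hbx => ?_) (fun i j ⟨g, hg⟩ => ?_),
    Finset.sum_mul]
  · refine Finset.sum_congr rfl fun j _ => ?_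
    rw [hfixU, Nat.card_congr (Equiv.subtypeEquivRight fun x => by rw [hact] :
      {x : SGA7.Pts kb X // pmul aG (a j ≫ iH) (π • x) = x} ≃ {x : SGA7.Pts kb X // pmul aH (a j) (π • x) = x}),
      Nat.cast_mul, Nat.cast_pow, div_mul_eq_div_div, div_mul_cancel₀]
    exact pow_ne_zero _ (Nat.cast_ne_zero.2 Nat.card_pos.ne')
  · obtain ⟨h, v, hv⟩ := hred b
    have hx' : pmul aH h (π • pmul aG v⁻¹ x) = pmul aG v⁻¹ x := by
      rw [← hact, smul_pmul, ← pmul_mul, smul_inv',
        show (h ≫ iH) * (π • v)⁻¹ = v⁻¹ * b by rw [← hv]; group, pmul_mul, hbx]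
    obtain ⟨i, g, hg⟩ := ha h _ hx'
    refine ⟨i, v * (g ≫ iH), ?_⟩
    rw [StkCntLib.smul_mul', ← hsmH, _root_.mul_inv_rev, ← hv, ← hg, MonObj.mul_comp, MonObj.mul_comp, GrpObj.inv_comp, hsmH]
    group
  · obtain ⟨⟨h, u⟩, rfl⟩ := hbij.2 g
    change (h ≫ iH) * (u ≫ iU) * (a j ≫ iH) * (π • ((h ≫ iH) * (u ≫ iU)))⁻¹ = a i ≫ iH at hg
    obtain ⟨w, hw⟩ := hUn _ (a j ≫ iH)⁻¹ u
    rw [_root_.inv_inv] at hw
    rw [mul_inv_eq_iff_eq_mul] at hg
    have e' : ((h * a j) ≫ iH) * (w ≫ iU) = ((a i * π • h) ≫ iH) * ((π • u) ≫ iU) := by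
      rw [← hw, MonObj.mul_comp, MonObj.mul_comp, hsmH, hsmU, _root_.mul_assoc _ (π • (h ≫ iH)),
        ← StkCntLib.smul_mul', ← hg]
      group
    have e'' := congrArg Prod.fst (hbij.1 (a₁ := (h * a j, w)) (a₂ := (a i * π • h, π • u)) e')
    exact hdis i j ⟨h, mul_inv_eq_iff_eq_mul.2 e''⟩

end Groth.Agent.S15692
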