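import Groth.Statements.S15693
import Groth.Agent.StkCntLib.StabMass
import Groth.Agent.StkCntLib.Classes
-- import your own Groth.Agent.* helpers here

set_option autoImplicit false
set_option linter.style.haveILetI false
set_option backward.isDefEq.respectTransparency.types false
set_option maxHeartbeats 1000000
universe u
open CategoryTheory AlgebraicGeometry MonoidalCategory CartesianMonoidalCategory MonObj
open StackCount

namespace Groth.Agent.S15693

/-- Let k be a finite field with q elements and algebraic closure k̄, G a smooth affine algebraic group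
over k acting on a variety X over k (reduced, of finite type), and [X/G] the quotient stack whose
objects over a k-scheme T are G-torsors over T (schemes, locally trivial for the étale topology)
with an equivariant morphism to X. Choose k̄-points x_j of X, indexed by a finite set, lying in
pairwise distinct G(k̄)-orbits, each orbit stable under Gal(k̄/k), and such that every Galois-stable
orbit contains some x_j. For each j let s_j : S_j → G_k̄ be the stabiliser of x_j: a monomorphic
homomorphism of k̄-group schemes such that a T-valued point of G_k̄ factors through S_j exactly when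
it fixes x_j. Assume every S_j contains no non-trivial subtorus (equivalently, the identity
component of its reduced subgroup is unipotent) and has dimension d_j. If the groupoid of k-points
of [X/G] is essentially finite, then its point count (sum over isomorphism classes of the inverse
orders of the automorphism groups) equals Σ_j q^(−d_j). (The published statement is for the
k′-points over any finite extension k′, to which this case k′ = k applies after base change; it asks
the unipotency of the stabilisers of all orbits, of which only the Galois-stable ones enter; and it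
allows any algebraic group G, taken smooth and affine here so that torsors are schemes.) -/
theorem result (k : Type u) [Field k] [Finite k]
    (kb : Type u) [Field kb] [Algebra k kb] [IsAlgClosure k kb]
    (G : Over (Spec (CommRingCat.of k))) [GrpObj G] [Smooth G.hom] [IsAffineHom G.hom]
    (X : Over (Spec (CommRingCat.of k))) [LocallyOfFiniteType X.hom] [QuasiCompact X.hom]
    [IsReduced X.left] (aX : AlgGrp.Action G X)
    (J : Type) [Fintype J] (x : J → SGA7.Pts kb X)
    (hdis : ∀ j j' : J, (∃ g : SGA7.Pts kb G, lift g (x j) ≫ aX.act = x j') → j = j')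
    (hfix : ∀ (j : J) (σ : kb ≃ₐ[k] kb), ∃ g : SGA7.Pts kb G, lift g (σ • x j) ≫ aX.act = x j)
    (hall : ∀ y : SGA7.Pts kb X,
      (∀ σ : kb ≃ₐ[k] kb, ∃ g : SGA7.Pts kb G, lift g (σ • y) ≫ aX.act = y) →
        ∃ (j : J) (g : SGA7.Pts kb G), lift g (x j) ≫ aX.act = y)
    (S : J → Over (Spec (CommRingCat.of kb))) [∀ j, GrpObj (S j)]
    (s : ∀ j, S j ⟶ GalTw.bcK kb G) [∀ j, IsMonHom (s j)] [∀ j, Mono (s j)]
    (hS : ∀ (j : J) (T : Over (Spec (CommRingCat.of kb)))
      (g : (Over.map (SGA7.pt (K := k) kb).hom).obj T ⟶ G),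
      (∃ g' : T ⟶ S j, g' ≫ s j = (Over.mapPullbackAdj (SGA7.pt (K := k) kb).hom).homEquiv T G g) ↔
        lift g ((Over.homMk T.hom rfl : (Over.map (SGA7.pt (K := k) kb).hom).obj T ⟶ SGA7.pt (K := k) kb) ≫ x j)
            ≫ aX.act =
          (Over.homMk T.hom rfl : (Over.map (SGA7.pt (K := k) kb).hom).obj T ⟶ SGA7.pt (K := k) kb) ≫ x j)
    (hSu : ∀ j, Red.HasNoSubtorus kb (S j))
    (d : J → ℕ) (hd : ∀ j, topologicalKrullDim ↥(S j).left = (d j : WithBot ℕ∞))
    (h : StkCnt.IsEssFinite (StkCnt.pts (AlgSt.QuotSt Scheme.etalePrecoverage G aX) k)) :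
    StkCnt.ptCount (AlgSt.QuotSt Scheme.etalePrecoverage G aX) k h =
      ∑ j : J, ((Nat.card k : ℚ) ^ (d j))⁻¹ := by
  open CartesianMonoidalCategory MonObj GrpObj StkCntLib MulAction in
  classical
  haveI : IsAlgClosed kb := IsAlgClosure.isAlgClosed k
  haveI : IsGalois k kb := Frob.isGalois_algClosure
  obtain ⟨π, hπ⟩ := Frob.exists_frobenius (k := k) (K := kb)
  have hgal : ∀ (a : SGA7.Pts kb G) (y : SGA7.Pts kb X), pmul aX a (π • y) = y →
      ∀ σ : kb ≃ₐ[k] kb, ∃ g, pmul aX g (σ • y) = y := by
    intro a y hay σ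
    let T : Subgroup (kb ≃ₐ[k] kb) :=
      { carrier := {τ | ∃ g, pmul aX g (τ • y) = y}
        one_mem' := ⟨1, by rw [one_smul, pmul_one]⟩
        mul_mem' := fun {τ τ'} ⟨g, hg⟩ ⟨g', hg'⟩ => ⟨g * τ • g', by
          rw [pmul_mul, mul_smul, ← smul_pmul, hg', hg]⟩
        inv_mem' := fun {τ} ⟨g, hg⟩ => ⟨(τ⁻¹ • g)⁻¹, by
          have h1 : pmul aX (τ⁻¹ • g) y = τ⁻¹ • y := by
            conv_rhs => rw [← hg]
            rw [smul_pmul, inv_smul_smul]
          rw [← h1, ← pmul_mul, inv_mul_cancel, pmul_one]⟩ }
    obtain ⟨i, hi⟩ := Frob.exists_pow_mem hπ ((fun τ => σ⁻¹ * τ) ⁻¹' {τ | τ • y = y})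
      ((isOpen_stabilizer y).preimage (continuous_const_mul σ⁻¹)) ⟨σ, by simp⟩
    have hi' : π ^ i • y = σ • y := by
      have h1 : (σ⁻¹ * π ^ i) • y = y := hi
      rwa [mul_smul, inv_smul_eq_iff] at h1
    obtain ⟨g, hg⟩ := T.zpow_mem (show π ∈ T from ⟨a, hay⟩) i
    exact ⟨g, by rw [← hi']; exact hg⟩
  choose a₀ ha₀ using fun j => hfix j π
  have hm := fun j => mass_stab (aX := aX) hπ (x j) (a₀ j) (ha₀ j) (S j) (s j)
    (fun T g => hS j T g) (hSu j) (d j) (hd j)
  haveI := fun j => (hm j).1
  rw [ptCount_eq_mass hπ, mass_eq_sum_fib (Dat.xproj (π := π) (aX := aX)) (fun j => (⟨x j⟩ : PX aX kb))]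
  · exact Finset.sum_congr rfl fun j _ => (hm j).2
  · intro D
    obtain ⟨j, g, hg⟩ := hall D.x (hgal D.a D.x D.fix')
    exact ⟨j, g, PX.ext hg⟩
  · rintro i j ⟨g, hg⟩
    exact (hdis j i ⟨g, congrArg PX.val hg⟩).symm

end Groth.Agent.S15693
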