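import Groth.Statements.S15694
import Groth.Agent.StkCntLib.FinAct
import Groth.Agent.StkCntLib.TwistUnip
-- import your own Groth.Agent.* helpers here

set_option autoImplicit false
set_option linter.style.haveILetI false
set_option backward.isDefEq.respectTransparency.types false
set_option maxHeartbeats 1000000
universe u
open CategoryTheory AlgebraicGeometry MonoidalCategory CartesianMonoidalCategory MonObj
open StackCount

namespace Groth.Agent.S15694

/-- Let k be a finite field with q elements and algebraic closure k̄, and G a smooth affine algebraic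
group over k of the form (F × H) ⋉ U: F, H, U are closed subgroups (monomorphic homomorphisms into
G), F and H commute elementwise, U is normal, and multiplication (f, h, u) ↦ f h u is an isomorphism
of k-schemes F × H × U → G. Assume F has unipotent identity component (its base change to k̄
contains no non-trivial subtorus) and dimension d_F, H is connected, and U is smooth, connected,
unipotent (no non-trivial subtorus over k̄) of dimension d_U. Let X = E × V with E finite and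
reduced over k and V isomorphic over k to affine n-space, and let G act on X so that the restriction
of the action to F is the product of an action of F on E and an action of F on V, the latter
factoring through a homomorphism from F to a smooth connected algebraic group acting on V. Choose
k̄-points e_j of E, indexed by a finite set J, one in each Galois-stable F(k̄)-orbit of E(k̄) and in
pairwise distinct orbits. If the groupoid of k-points of the quotient stack [X/G] (étale G-torsors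
as schemes with an equivariant map to X) is essentially finite, then its point count satisfies
#[X/G](k) · #H(k) · q^(d_U + d_F) = #J · q^n. (The published statement is for k′-points over any
finite extension k′ and reads #[X/G](k′) = #J · (#k′)^(dim V − dim U − dim F) / #H(k′); this row is
the case k′ = k with denominators cleared, and takes the groups affine so that torsors are schemes.) -/
theorem result (k : Type u) [Field k] [Finite k]
    (kb : Type u) [Field kb] [Algebra k kb] [IsAlgClosure k kb]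
    (G F H U : Over (Spec (CommRingCat.of k))) [GrpObj G] [GrpObj F] [GrpObj H] [GrpObj U]
    [Smooth G.hom] [IsAffineHom G.hom] [Smooth F.hom] [IsAffineHom F.hom]
    [Smooth H.hom] [IsAffineHom H.hom] [ConnectedSpace H.left]
    [Smooth U.hom] [IsAffineHom U.hom] [ConnectedSpace U.left]
    (iF : F ⟶ G) (iH : H ⟶ G) (iU : U ⟶ G) [IsMonHom iF] [IsMonHom iH] [IsMonHom iU]
    [Mono iF] [Mono iH] [Mono iU]
    (hFH : (fst F H ≫ iF) * (snd F H ≫ iH) = (snd F H ≫ iH) * (fst F H ≫ iF))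
    (hUn : AlgGrp.IsNormalHom iU)
    (hsd : IsIso ((fst (F ⊗ H) U ≫ fst F H ≫ iF) * (fst (F ⊗ H) U ≫ snd F H ≫ iH) * (snd (F ⊗ H) U ≫ iU)))
    (hFu : Red.HasNoSubtorus kb (GalTw.bcK kb F)) (hUu : Red.HasNoSubtorus kb (GalTw.bcK kb U))
    (dF dU : ℕ) (hdF : topologicalKrullDim ↥F.left = (dF : WithBot ℕ∞))
    (hdU : topologicalKrullDim ↥U.left = (dU : WithBot ℕ∞))
    (E V : Over (Spec (CommRingCat.of k))) [IsFinite E.hom] [IsReduced E.left]
    (n : ℕ) (eV : V.left ≅ 𝔸(ULift.{u} (Fin n); Spec (CommRingCat.of k)))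
    (heV : eV.hom ≫ (𝔸(ULift.{u} (Fin n); Spec (CommRingCat.of k)) ↘ Spec (CommRingCat.of k)) = V.hom)
    (aX : AlgGrp.Action G (E ⊗ V)) (aE : AlgGrp.Action F E) (aV : AlgGrp.Action F V)
    (haF : (iF ▷ (E ⊗ V)) ≫ aX.act =
      lift (lift (fst F (E ⊗ V)) (snd F (E ⊗ V) ≫ fst E V) ≫ aE.act)
        (lift (fst F (E ⊗ V)) (snd F (E ⊗ V) ≫ snd E V) ≫ aV.act))
    (Fc : Over (Spec (CommRingCat.of k))) [GrpObj Fc] [Smooth Fc.hom] [QuasiCompact Fc.hom]
    [ConnectedSpace Fc.left] (ρ : F ⟶ Fc) [IsMonHom ρ] (aVc : AlgGrp.Action Fc V)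
    (haV : aV.act = (ρ ▷ V) ≫ aVc.act)
    (J : Type) [Fintype J] (e : J → SGA7.Pts kb E)
    (hdis : ∀ j j' : J, (∃ g : SGA7.Pts kb F, lift g (e j) ≫ aE.act = e j') → j = j')
    (hfix : ∀ (j : J) (σ : kb ≃ₐ[k] kb), ∃ g : SGA7.Pts kb F, lift g (σ • e j) ≫ aE.act = e j)
    (hall : ∀ y : SGA7.Pts kb E,
      (∀ σ : kb ≃ₐ[k] kb, ∃ g : SGA7.Pts kb F, lift g (σ • y) ≫ aE.act = y) →
        ∃ (j : J) (g : SGA7.Pts kb F), lift g (e j) ≫ aE.act = y)
    (h : StkCnt.IsEssFinite (StkCnt.pts (AlgSt.QuotSt Scheme.etalePrecoverage G aX) k)) :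
    StkCnt.ptCount (AlgSt.QuotSt Scheme.etalePrecoverage G aX) k h *
        (Nat.card (SGA7.Pts k H) : ℚ) * (Nat.card k : ℚ) ^ (dU + dF) =
      (Fintype.card J : ℚ) * (Nat.card k : ℚ) ^ n := by
  open CartesianMonoidalCategory MonObj GrpObj StkCntLib MulAction CategoryTheory.Limits in
  classical
  haveI : IsAlgClosed kb := IsAlgClosure.isAlgClosed k
  haveI : IsGalois k kb := Frob.isGalois_algClosure
  obtain ⟨π, hπ⟩ := Frob.exists_frobenius (k := k) (K := kb)
  haveI : LocallyOfFiniteType V.hom := by rw [← heV]; infer_instance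
  haveI : QuasiCompact V.hom := by rw [← heV]; infer_instance
  have hsm : ∀ {A B : Over (Spec (CommRingCat.of k))} (i : A ⟶ B) (x : SGA7.Pts kb A), (π • x) ≫ i = π • (x ≫ i) :=
    fun _ _ => Category.assoc _ _ _
  haveI : LocallyOfFiniteType (E ⊗ V).hom := by
    haveI : LocallyOfFiniteType (pullback.fst E.hom V.hom) := MorphismProperty.pullback_fst _ _ inferInstance
    exact inferInstanceAs (LocallyOfFiniteType (pullback.fst E.hom V.hom ≫ E.hom))
  haveI : QuasiCompact (E ⊗ V).hom := by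
    haveI : QuasiCompact (pullback.fst E.hom V.hom) := MorphismProperty.pullback_fst _ _ inferInstance
    exact inferInstanceAs (QuasiCompact (pullback.fst E.hom V.hom ≫ E.hom))
  -- connected groups have trivial twists
  have hlang : ∀ (A : Over (Spec (CommRingCat.of k))) [GrpObj A] [Smooth A.hom] [QuasiCompact A.hom] [ConnectedSpace A.left]
      (h : SGA7.Pts kb A), ∃ w : SGA7.Pts kb A, w⁻¹ * π • w = h := fun A _ _ _ _ h => by
    obtain ⟨c, hc⟩ := exists_conjAction (𝟙 A) fun T g x => ⟨g * x * g⁻¹, by rw [Category.comp_id, Category.comp_id]⟩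
    obtain ⟨w, hw⟩ := twisted_lang (𝟙 A) c hc hπ 1 h
    exact ⟨w, by simpa using hw⟩
  -- the action on components
  have haF' : ∀ (f : SGA7.Pts kb F) (y : SGA7.Pts kb (E ⊗ V)),
      pmul aX (f ≫ iF) y = lift (pmul aE f (y ≫ fst E V)) (pmul aV f (y ≫ snd E V)) := fun f y => by
    have h1 := congrArg (fun t => lift f y ≫ t) haF
    show lift (f ≫ iF) y ≫ aX.act = lift (lift f (y ≫ fst E V) ≫ aE.act) (lift f (y ≫ snd E V) ≫ aV.act)
    simpa only [lift_whiskerRight_assoc, comp_lift, comp_lift_assoc, lift_fst, lift_snd, lift_snd_assoc] using h1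
  have haV' : ∀ (f : SGA7.Pts kb F) (v : SGA7.Pts kb V), pmul aV f v = pmul aVc (f ≫ ρ) v := fun f v => by
    show lift f v ≫ aV.act = lift (f ≫ ρ) v ≫ aVc.act
    rw [haV, lift_whiskerRight_assoc]
  have hcomm : ∀ (f : SGA7.Pts kb F) (h : SGA7.Pts kb H), (f ≫ iF) * (h ≫ iH) = (h ≫ iH) * (f ≫ iF) := fun f h => by
    have h1 := congrArg (fun t => lift f h ≫ t) hFH
    simpa only [MonObj.comp_mul, lift_fst_assoc, lift_snd_assoc] using h1
  let mk : SGA7.Pts kb F × SGA7.Pts kb H × SGA7.Pts kb U → SGA7.Pts kb G := fun p =>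
    (p.1 ≫ iF) * (p.2.1 ≫ iH) * (p.2.2 ≫ iU)
  have hbij : Function.Bijective mk := by
    haveI := hsd
    let M := (fst (F ⊗ H) U ≫ fst F H ≫ iF) * (fst (F ⊗ H) U ≫ snd F H ≫ iH) * (snd (F ⊗ H) U ≫ iU)
    have hM : ∀ (f : SGA7.Pts kb F) (h : SGA7.Pts kb H) (u : SGA7.Pts kb U), lift (lift f h) u ≫ M = mk (f, h, u) :=
      fun f h u => by
        simp only [M, mk, MonObj.comp_mul, lift_fst_assoc, lift_snd_assoc]
    refine ⟨fun p p' h => ?_, fun g => ?_⟩
    · have h2 := (cancel_mono M).1 ((hM p.1 p.2.1 p.2.2).trans (h.trans (hM p'.1 p'.2.1 p'.2.2).symm))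
      refine Prod.ext ?_ (Prod.ext ?_ ?_)
      · simpa using congrArg (· ≫ fst (F ⊗ H) U ≫ fst F H) h2
      · simpa using congrArg (· ≫ fst (F ⊗ H) U ≫ snd F H) h2
      · simpa using congrArg (· ≫ snd (F ⊗ H) U) h2
    · let z := g ≫ inv M
      refine ⟨((z ≫ fst (F ⊗ H) U) ≫ fst F H, (z ≫ fst (F ⊗ H) U) ≫ snd F H, z ≫ snd (F ⊗ H) U), ?_⟩
      rw [← hM, ← comp_lift, lift_fst_snd, Category.comp_id, ← comp_lift, lift_fst_snd, Category.comp_id,
        Category.assoc, IsIso.inv_hom_id, Category.comp_id]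
  -- twisted centralisers
  have key : ∀ (a₁ a₂ f : SGA7.Pts kb F) (h : SGA7.Pts kb H) (u : SGA7.Pts kb U),
      mk (f, h, u) * (a₁ ≫ iF) = (a₂ ≫ iF) * π • mk (f, h, u) ↔
        f * a₁ = a₂ * π • f ∧ π • h = h ∧ (u ≫ iU) * (a₁ ≫ iF) = (a₁ ≫ iF) * π • (u ≫ iU) := fun a₁ a₂ f h u => by
    obtain ⟨w, hw⟩ := hUn _ (a₁ ≫ iF)⁻¹ u
    rw [_root_.inv_inv] at hw
    have hl : mk (f, h, u) * (a₁ ≫ iF) = mk (f * a₁, h, w) := by
      show (f ≫ iF) * (h ≫ iH) * (u ≫ iU) * (a₁ ≫ iF) = ((f * a₁) ≫ iF) * (h ≫ iH) * (w ≫ iU)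
      rw [← hw, MonObj.mul_comp, _root_.mul_assoc (f ≫ iF) (a₁ ≫ iF), hcomm a₁ h]
      group
    have hr : (a₂ ≫ iF) * π • mk (f, h, u) = mk (a₂ * π • f, π • h, π • u) := by
      show _ = ((a₂ * π • f) ≫ iF) * ((π • h) ≫ iH) * ((π • u) ≫ iU)
      rw [MonObj.mul_comp, hsm, hsm, hsm, _root_.mul_assoc _ (π • (f ≫ iF)), _root_.mul_assoc (a₂ ≫ iF),
        ← StkCntLib.smul_mul', ← StkCntLib.smul_mul']
    rw [hl, hr, hbij.1.eq_iff]
    simp only [Prod.mk.injEq]
    refine and_congr_right fun _ => and_congr eq_comm ?_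
    rw [← cancel_mono iU, ← hw, hsm]
    constructor
    · intro e; rw [← e]; group
    · intro e; rw [_root_.mul_assoc, e, inv_mul_cancel_left]
  -- every class of the group comes from the finite part
  have hred : ∀ g : SGA7.Pts kb G, ∃ (f : SGA7.Pts kb F) (t : SGA7.Pts kb G), t⁻¹ * (f ≫ iF) * π • t = g := fun g => by
    obtain ⟨⟨f, h, u⟩, rfl⟩ := hbij.2 g
    obtain ⟨u', hu'⟩ := hUn _ ((f ≫ iF) * (h ≫ iH)) u
    obtain ⟨cU, hcU⟩ := exists_conjAction iU hUn
    obtain ⟨v, hv⟩ := twisted_lang iU cU hcU hπ ((f ≫ iF) * (h ≫ iH)) u'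
    obtain ⟨w, hw⟩ := hlang H h
    refine ⟨f, (w ≫ iH) * (v ≫ iU), ?_⟩
    show _ = (f ≫ iF) * (h ≫ iH) * (u ≫ iU)
    rw [← inv_mul_cancel_right ((f ≫ iF) * (h ≫ iH) * (u ≫ iU)) ((f ≫ iF) * (h ≫ iH)), hu', ← hv, ← hw,
      StkCntLib.smul_mul', MonObj.mul_comp, GrpObj.inv_comp, hsm, _root_.mul_inv_rev]
    have h2 : (w ≫ iH)⁻¹ * (f ≫ iF) = (f ≫ iF) * (w ≫ iH)⁻¹ := by
      rw [← GrpObj.inv_comp, hcomm]
    rw [_root_.mul_assoc _ (w ≫ iH)⁻¹ (f ≫ iF), h2]
    group
  -- the mass over the finite scheme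
  choose a₀ ha₀ using fun j => hfix j π
  have hmJ := fun j => mass_stab_finite (aE := aE) hπ hFu dF hdF (e j) (a₀ j) (ha₀ j)
  haveI := fun j => (hmJ j).1
  have hhall : ∀ D : Dat π aE, ∃ j : J, (Dat.xproj (π := π) (aX := aE)) D ∈
      orbit (SGA7.Pts kb F) (⟨e j⟩ : PX aE kb) := fun D => by
    obtain ⟨j, g, hg⟩ := hall D.x (exists_pmul_smul_eq hπ D.a D.x D.fix')
    exact ⟨j, g, PX.ext hg⟩
  haveI : Finite (orbitRel.Quotient (SGA7.Pts kb F) (Dat π aE)) :=
    finite_quotient_of_fib (Dat.xproj (π := π) (aX := aE)) (fun j => (⟨e j⟩ : PX aE kb)) hhall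
  have hmass : mass (SGA7.Pts kb F) (Dat π aE) = (Fintype.card J : ℚ) * ((Nat.card k : ℚ) ^ dF)⁻¹ := by
    rw [mass_eq_sum_fib (Dat.xproj (π := π) (aX := aE)) (fun j => (⟨e j⟩ : PX aE kb)) hhall
        (by rintro i j ⟨g, hg⟩; exact (hdis j i ⟨g, congrArg PX.val hg⟩).symm),
      Finset.sum_congr rfl fun j _ => (hmJ j).2, Finset.sum_const, Finset.card_univ, nsmul_eq_mul]
  obtain ⟨I, _, a, ha, hdisa⟩ := exists_class_reps_of_finite (π := π) (aX := aE)
  haveI := fun i => finite_fib (aX := aE) hπ (⟨a i⟩ : TwG π F)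
  have hsum : mass (SGA7.Pts kb F) (Dat π aE) =
      ∑ i, (Nat.card {x : SGA7.Pts kb E // pmul aE (a i) (π • x) = x} : ℚ) /
        (Nat.card {g : SGA7.Pts kb F // g * a i = a i * π • g} : ℚ) := by
    rw [mass_eq_sum_fib (Dat.proj (π := π) (aX := aE)) (fun i => (⟨a i⟩ : TwG π F))
      (fun D => by obtain ⟨i, g, hg⟩ := ha D.a D.x D.fix'; exact ⟨i, g, TwG.ext hg⟩)
      (by rintro i j ⟨g, hg⟩; exact hdisa i j ⟨g, congrArg TwG.val hg⟩)]
    refine Finset.sum_congr rfl fun i _ => ?_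
    haveI := finite_stabilizer hπ (⟨a i⟩ : TwG π F)
    rw [mass_eq_div, card_stabilizer, Nat.card_congr (fibEquiv (⟨a i⟩ : TwG π F))]
  -- fixed points and centralisers in the group
  have hcG : ∀ i, Nat.card {g : SGA7.Pts kb G // g * (a i ≫ iF) = (a i ≫ iF) * π • g} =
      Nat.card {g : SGA7.Pts kb F // g * a i = a i * π • g} * (Nat.card (SGA7.Pts k H) * Nat.card k ^ dU) := fun i => by
    rw [← card_twisted_unip hπ iU hUn hUu dU hdU (a i ≫ iF), card_pts_frob hπ H, ← Nat.card_prod, ← Nat.card_prod]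
    let eq := Equiv.ofBijective mk hbij
    let e' := eq.subtypeEquiv
      (p := fun p => p.1 * a i = a i * π • p.1 ∧ (π • p.2.1 = p.2.1 ∧ (p.2.2 ≫ iU) * (a i ≫ iF) = (a i ≫ iF) * π • (p.2.2 ≫ iU)))
      (q := fun g => g * (a i ≫ iF) = (a i ≫ iF) * π • g) fun p => by
        rw [show eq p = mk (p.1, p.2.1, p.2.2) from rfl]
        exact (key _ _ p.1 p.2.1 p.2.2).symm
    rw [← Nat.card_congr e']
    exact Nat.card_congr ((Equiv.subtypeProdEquivProd (p := fun f : SGA7.Pts kb F => f * a i = a i * π • f)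
      (q := fun p : SGA7.Pts kb H × SGA7.Pts kb U => π • p.1 = p.1 ∧ (p.2 ≫ iU) * (a i ≫ iF) = (a i ≫ iF) * π • (p.2 ≫ iU))).trans
      (Equiv.prodCongr (Equiv.refl _) (Equiv.subtypeProdEquivProd (p := fun h : SGA7.Pts kb H => π • h = h)
        (q := fun u : SGA7.Pts kb U => (u ≫ iU) * (a i ≫ iF) = (a i ≫ iF) * π • (u ≫ iU)))))
  have hcX : ∀ i, Nat.card {y : SGA7.Pts kb (E ⊗ V) // pmul aX (a i ≫ iF) (π • y) = y} =
      Nat.card {x : SGA7.Pts kb E // pmul aE (a i) (π • x) = x} * Nat.card k ^ n := fun i => by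
    obtain ⟨c, hc⟩ := hlang Fc (a i ≫ ρ)
    have hV : Nat.card {v : SGA7.Pts kb V // pmul aV (a i) (π • v) = v} = Nat.card k ^ n := by
      rw [← card_pts_affineSpace V n eV heV, card_pts_frob hπ V]
      let sh : SGA7.Pts kb V ≃ SGA7.Pts kb V :=
        { toFun := fun v => pmul aVc c v
          invFun := fun v => pmul aVc c⁻¹ v
          left_inv := fun v => (pmul_mul _ _ _ v).symm.trans (by rw [inv_mul_cancel, pmul_one])
          right_inv := fun v => (pmul_mul _ _ _ v).symm.trans (by rw [mul_inv_cancel, pmul_one]) }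
      refine Nat.card_congr (sh.subtypeEquiv (q := fun w => π • w = w) fun v => ?_)
      show _ ↔ π • pmul aVc c v = pmul aVc c v
      rw [haV', ← hc, pmul_mul, ← smul_pmul]
      constructor
      · intro e
        conv_rhs => rw [← e, ← pmul_mul, mul_inv_cancel, pmul_one]
      · intro e
        rw [e, ← pmul_mul, inv_mul_cancel, pmul_one]
    rw [← hV, ← Nat.card_prod]
    refine Nat.card_congr
      { toFun := fun y => (⟨y.1 ≫ fst E V, ?_⟩, ⟨y.1 ≫ snd E V, ?_⟩)
        invFun := fun p => ⟨lift p.1.1 p.2.1, ?_⟩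
        left_inv := fun y => Subtype.ext (by simp only [← comp_lift, lift_fst_snd, Category.comp_id])
        right_inv := fun p => Prod.ext (Subtype.ext (lift_fst _ _)) (Subtype.ext (lift_snd _ _)) }
    · have h1 := y.2
      rw [haF'] at h1
      simpa only [lift_fst, hsm] using congrArg (· ≫ fst E V) h1
    · have h1 := y.2
      rw [haF'] at h1
      simpa only [lift_snd, hsm] using congrArg (· ≫ snd E V) h1
    · rw [haF', hsm, hsm, lift_fst, lift_snd, p.1.2, p.2.2]
  rw [ptCount_eq_sum hπ h (fun i => a i ≫ iF) (fun b y hby => ?_) (fun i j ⟨g, hg⟩ => ?_)]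
  · have hH : (Nat.card (SGA7.Pts k H) : ℚ) ≠ 0 := by
      haveI : Finite (SGA7.Pts k H) := finite_pts
      exact Nat.cast_ne_zero.2 Nat.card_pos.ne'
    have hk : (Nat.card k : ℚ) ≠ 0 := Nat.cast_ne_zero.2 Nat.card_pos.ne'
    calc _ = (∑ i, (Nat.card {x : SGA7.Pts kb E // pmul aE (a i) (π • x) = x} : ℚ) /
          (Nat.card {g : SGA7.Pts kb F // g * a i = a i * π • g} : ℚ)) *
            ((Nat.card k : ℚ) ^ n * (Nat.card k : ℚ) ^ dF) := by
          rw [Finset.sum_mul, Finset.sum_mul, Finset.sum_mul]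
          refine Finset.sum_congr rfl fun i _ => ?_
          rw [hcX, hcG]
          push_cast
          field_simp
          ring
      _ = _ := by
          rw [← hsum, hmass]
          field_simp
  · obtain ⟨f, t, ht⟩ := hred b
    have h1 : pmul aX (f ≫ iF) (π • pmul aX t y) = pmul aX t y := by
      rw [smul_pmul, ← pmul_mul, show (f ≫ iF) * π • t = t * b by rw [← ht]; group, pmul_mul, hby]
    have h2 := congrArg (· ≫ fst E V) h1
    simp only [haF', lift_fst] at h2
    rw [hsm] at h2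
    obtain ⟨i, g, hg⟩ := ha f _ h2
    refine ⟨i, t⁻¹ * (g ≫ iF), ?_⟩
    rw [StkCntLib.smul_mul', smul_inv', ← hsm, _root_.mul_inv_rev, _root_.inv_inv, ← ht, ← hg, MonObj.mul_comp,
      MonObj.mul_comp, GrpObj.inv_comp, hsm]
    group
  · obtain ⟨⟨f, h', u⟩, rfl⟩ := hbij.2 g
    have h1 : mk (f, h', u) * (a j ≫ iF) = (a i ≫ iF) * π • mk (f, h', u) := mul_inv_eq_iff_eq_mul.1 hg
    exact hdisa i j ⟨f, mul_inv_eq_iff_eq_mul.2 ((key _ _ f h' u).1 h1).1⟩

end Groth.Agent.S15694
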