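import Groth.Statements.S15698
import Groth.Agent.InvFldLib.Diag
set_option autoImplicit false
universe u
open InvFld

namespace Groth.Agent.S15698

section
variable {k : Type u} [Field k]

/-- The permutation action on the rational function field. -/
noncomputable def permHom (n : ℕ) :
    Equiv.Perm (Fin n) →* (InvFld.Fld (Fin n) k ≃ₐ[k] InvFld.Fld (Fin n) k) :=
  (IsFractionRing.fieldEquivOfAlgEquivHom k (InvFld.Fld (Fin n) k)).comp
    { toFun := fun π => MvPolynomial.renameEquiv k π
      map_one' := AlgEquiv.ext fun p => MvPolynomial.rename_id_apply p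
      map_mul' := fun π τ => AlgEquiv.ext fun p => (MvPolynomial.rename_rename τ π p).symm }

theorem permHom_algebraMap {n : ℕ} (π : Equiv.Perm (Fin n)) (p : MvPolynomial (Fin n) k) :
    permHom n π (algebraMap _ (InvFld.Fld (Fin n) k) p) = algebraMap _ _ (MvPolynomial.rename π p) :=
  IsFractionRing.fieldEquivOfAlgEquiv_algebraMap k (InvFld.Fld (Fin n) k) (InvFld.Fld (Fin n) k)
    (MvPolynomial.renameEquiv k π) p

theorem permHom_X {n : ℕ} (π : Equiv.Perm (Fin n)) (i : Fin n) :
    permHom n π (InvFld.X i : InvFld.Fld (Fin n) k) = InvFld.X (π i) := by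
  rw [show (InvFld.X i : InvFld.Fld (Fin n) k) = algebraMap _ _ (MvPolynomial.X i) from rfl,
    permHom_algebraMap, MvPolynomial.rename_X]

theorem permHom_injective (n : ℕ) : Function.Injective (permHom (k := k) n) := by
  intro π τ h
  refine Equiv.ext fun i => MvPolynomial.X_injective (σ := Fin n) (R := k) ?_
  refine IsFractionRing.injective (MvPolynomial (Fin n) k) (InvFld.Fld (Fin n) k) ?_
  exact (permHom_X π i).symm.trans ((AlgEquiv.congr_fun h _).trans (permHom_X τ i))

theorem fixedField_perm (n : ℕ) :
    IntermediateField.fixedField (permHom (k := k) n).range = IntermediateField.adjoin k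
      (Set.range fun i : Fin n => algebraMap _ (InvFld.Fld (Fin n) k)
        (MvPolynomial.esymm (Fin n) k (i + 1))) := by
  classical
  have hinj := IsFractionRing.injective (MvPolynomial (Fin n) k) (InvFld.Fld (Fin n) k)
  refine le_antisymm (fun z hz => ?_) (IntermediateField.adjoin_le_iff.2 ?_)
  · rw [IntermediateField.mem_fixedField_iff] at hz
    have hsym : ∀ p : MvPolynomial (Fin n) k, p.IsSymmetric → algebraMap _ (InvFld.Fld (Fin n) k) p ∈
        IntermediateField.adjoin k (Set.range fun i : Fin n => algebraMap _ (InvFld.Fld (Fin n) k)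
          (MvPolynomial.esymm (Fin n) k (i + 1))) := by
      intro p hp
      obtain ⟨q, hq⟩ := MvPolynomial.esymmAlgHom_surjective (σ := Fin n) k (n := n) (by simp) ⟨p, hp⟩
      have hq' := congrArg Subtype.val hq
      rw [MvPolynomial.esymmAlgHom_apply] at hq'
      change MvPolynomial.aeval (fun i : Fin n => MvPolynomial.esymm (Fin n) k (i + 1)) q = p at hq'
      rw [← hq', ← IsScalarTower.toAlgHom_apply k (MvPolynomial (Fin n) k) (InvFld.Fld (Fin n) k),
        ← AlgHom.comp_apply, MvPolynomial.comp_aeval]
      refine IntermediateField.algebra_adjoin_le_adjoin k _ ?_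
      rw [Algebra.adjoin_range_eq_range_aeval]
      exact ⟨q, rfl⟩
    obtain ⟨a, b, hb, rfl⟩ := IsFractionRing.div_surjective (MvPolynomial (Fin n) k) z
    have hb0 : b ≠ 0 := nonZeroDivisors.ne_zero hb
    let c : MvPolynomial (Fin n) k := ∏ π : Equiv.Perm (Fin n), MvPolynomial.rename π b
    have hc : c.IsSymmetric := fun τ => by
      simp only [c, map_prod, MvPolynomial.rename_rename]
      exact Fintype.prod_equiv (Equiv.mulLeft τ) _ _ fun π => rfl
    have hc0 : c ≠ 0 := Finset.prod_ne_zero_iff.2 fun π _ =>
      (map_ne_zero_iff _ (MvPolynomial.rename_injective π π.injective)).2 hb0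
    obtain ⟨d, hd⟩ : b ∣ c := by
      have h := Finset.dvd_prod_of_mem (fun π : Equiv.Perm (Fin n) => MvPolynomial.rename π b)
        (Finset.mem_univ 1)
      simpa using h
    have hdiv : algebraMap _ (InvFld.Fld (Fin n) k) a / algebraMap _ _ b =
        algebraMap _ _ (a * d) / algebraMap _ _ c := by
      rw [hd, map_mul, map_mul, mul_div_mul_right]
      exact (map_ne_zero_iff _ hinj).2 fun h => hc0 (by rw [hd, h, mul_zero])
    rw [hdiv] at hz ⊢
    refine div_mem (hsym _ fun τ => hinj ?_) (hsym _ hc)
    have h := hz _ ⟨τ, rfl⟩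
    rw [map_div₀, permHom_algebraMap, permHom_algebraMap, hc τ] at h
    exact (div_left_inj' ((map_ne_zero_iff _ hinj).2 hc0)).1 h
  · rintro _ ⟨i, rfl⟩
    rw [SetLike.mem_coe, IntermediateField.mem_fixedField_iff]
    rintro _ ⟨π, rfl⟩
    rw [permHom_algebraMap, MvPolynomial.rename_esymm]

end

/-- Let k be a characteristic-zero field; for each faithful finite-dimensional linear representation V
of the symmetric group S_n over k, the field of invariants k(V)^{S_n} is stably pure over k. Stated
with V = k^m: G is a finite group of k-algebra automorphisms of k(x_1, ..., x_m), each sending every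
variable to a k-linear combination of the variables, isomorphic as an abstract group to the
symmetric group on n letters; then for some r the rational function field in r variables over the
fixed field of G is generated over k by finitely many algebraically independent elements. -/
theorem result (k : Type u) [Field k] [CharZero k] (n m : ℕ)
    (G : Subgroup (InvFld.Fld (Fin m) k ≃ₐ[k] InvFld.Fld (Fin m) k)) [Finite G] (e : G ≃* Equiv.Perm (Fin n))
    (hG : ∀ σ ∈ G, ∀ i : Fin m, σ (InvFld.X i) ∈ Submodule.span k (Set.range fun j : Fin m => (InvFld.X j : InvFld.Fld (Fin m) k))) :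
    ∃ (r N : ℕ) (t : Fin N → InvFld.Fld (Fin r) (IntermediateField.fixedField G)),
      AlgebraicIndependent k t ∧ IntermediateField.adjoin k (Set.range t) = ⊤ := by
  classical
  let ρ := permHom (k := k) n
  let H := ρ.range
  let e' : G ≃* H := e.trans (MonoidHom.ofInjective (permHom_injective n))
  have hH : ∀ τ ∈ H, ∀ i : Fin n, τ (InvFld.X i) ∈ Submodule.span k
      (Set.range fun j : Fin n => (InvFld.X j : InvFld.Fld (Fin n) k)) := by
    rintro _ ⟨π, rfl⟩ i
    rw [permHom_X]
    exact Submodule.subset_span ⟨π i, rfl⟩
  obtain ⟨r, s, ⟨E⟩⟩ := InvFldLib.stably_equiv m n G H e' hG hH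
  let K := IntermediateField.fixedField H
  have hfix := fixedField_perm (k := k) n
  let g : Fin n → K := fun i => ⟨algebraMap _ (InvFld.Fld (Fin n) k)
    (MvPolynomial.esymm (Fin n) k (i + 1)), by
      rw [show K = _ from hfix]; exact IntermediateField.subset_adjoin _ _ ⟨i, rfl⟩⟩
  have hes : AlgebraicIndependent k
      (fun i : Fin n => MvPolynomial.esymm (Fin n) k (i + 1)) := by
    rw [algebraicIndependent_iff_injective_aeval]
    intro p q h
    refine MvPolynomial.esymmAlgHom_injective (σ := Fin n) k (n := n) (by simp) (Subtype.ext ?_)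
    rwa [MvPolynomial.esymmAlgHom_apply, MvPolynomial.esymmAlgHom_apply]
  have hg : AlgebraicIndependent k g :=
    AlgebraicIndependent.of_comp K.val (hes.map'
      (f := IsScalarTower.toAlgHom k (MvPolynomial (Fin n) k) (InvFld.Fld (Fin n) k))
      (IsFractionRing.injective _ _))
  have hgtop : IntermediateField.adjoin k (Set.range g) = ⊤ := by
    apply IntermediateField.map_injective K.val
    rw [IntermediateField.adjoin_map, ← AlgHom.fieldRange_eq_map, IntermediateField.fieldRange_val,
      ← Set.range_comp]
    exact hfix.symm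
  let T : Fin s ⊕ Fin n → InvFld.Fld (Fin s) K :=
    Sum.elim (fun j => InvFld.X j) (algebraMap K (InvFld.Fld (Fin s) K) ∘ g)
  have hT : AlgebraicIndependent k T :=
    AlgebraicIndependent.sumElim_comp hg (InvFldLib.indep_X (k := K) (Fin s))
  have hTtop : IntermediateField.adjoin k (Set.range T) = ⊤ := by
    rw [eq_top_iff]
    intro x hxt
    clear hxt
    have hK : ∀ c : K, algebraMap K (InvFld.Fld (Fin s) K) c ∈
        IntermediateField.adjoin k (Set.range T) := by
      intro c
      have hc : c ∈ IntermediateField.adjoin k (Set.range g) := by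
        rw [hgtop]; exact IntermediateField.mem_top
      induction hc using IntermediateField.adjoin_induction with
      | mem z hz => obtain ⟨i, rfl⟩ := hz; exact IntermediateField.subset_adjoin _ _ ⟨Sum.inr i, rfl⟩
      | algebraMap a => rw [← IsScalarTower.algebraMap_apply]; exact IntermediateField.algebraMap_mem _ a
      | add a b _ _ ha hb => rw [map_add]; exact add_mem ha hb
      | inv a _ ha => rw [map_inv₀]; exact inv_mem ha
      | mul a b _ _ ha hb => rw [map_mul]; exact mul_mem ha hb
    have hx : x ∈ IntermediateField.adjoin K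
        (Set.range fun j : Fin s => (InvFld.X j : InvFld.Fld (Fin s) K)) := by
      rw [InvFldLib.fld_adjoin_X]; exact IntermediateField.mem_top
    induction hx using IntermediateField.adjoin_induction with
    | mem z hz => obtain ⟨i, rfl⟩ := hz; exact IntermediateField.subset_adjoin _ _ ⟨Sum.inl i, rfl⟩
    | algebraMap c => exact hK c
    | add a b _ _ ha hb => exact add_mem ha hb
    | inv a _ ha => exact inv_mem ha
    | mul a b _ _ ha hb => exact mul_mem ha hb
  refine ⟨r, s + n, E.symm.toAlgHom ∘ T ∘ finSumFinEquiv.symm,
    (hT.comp _ finSumFinEquiv.symm.injective).map' (f := E.symm.toAlgHom) E.symm.injective, ?_⟩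
  rw [Set.range_comp, finSumFinEquiv.symm.surjective.range_comp T, ← IntermediateField.adjoin_map,
    hTtop, ← AlgHom.fieldRange_eq_map]
  exact (AlgHom.fieldRange_eq_top.2 E.symm.surjective)

end Groth.Agent.S15698
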