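import Groth.Statements.S15701


set_option autoImplicit false
universe u
open CategoryTheory AlgebraicGeometry
open RatVar

namespace Groth.Agent.S15701

/-- A faithful action of a finite group on a geometrically integral variety is almost free. Here k is a
field of characteristic zero, X is an integral separated scheme of finite type over k, and the
finite group G acts on X by k-automorphisms through an injective homomorphism to Aut X; the
conclusion is a non-empty G-stable open subscheme U of X such that for every field K and every
morphism Spec K → X whose image lies in U, an element of G fixing that K-point is the identity. (X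
is taken separated: for the affine line with a doubled origin and the involution exchanging the two
origins the action is faithful while every point off the origins is fixed, so no such U exists;
integrality replaces geometric integrality, which is all the codimension argument uses.) -/
theorem result (k : Type u) [Field k] [CharZero k]
    (X : Scheme.{u}) (f : X ⟶ Spec (CommRingCat.of k)) [IsIntegral X] [LocallyOfFiniteType f]
    [QuasiCompact f] [IsSeparated f]
    (G : Type u) [Group G] [Finite G] (ρ : G →* Aut X)
    (hρ : ∀ g : G, (ρ g).hom ≫ f = f) (hfaith : Function.Injective ρ) :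
    ∃ U : X.Opens, (U : Set X).Nonempty ∧ (∀ g : G, (ρ g).hom ⁻¹ᵁ U = U) ∧
      ∀ (K : Type u) [Field K] (x : Spec (CommRingCat.of K) ⟶ X),
        Set.range x.base ⊆ (U : Set X) → ∀ g : G, x ≫ (ρ g).hom = x → g = 1 := by
  classical
  haveI : X.IsSeparated := ⟨by rw [← Limits.terminal.comp_from f]; infer_instance⟩
  haveI : Fintype G := Fintype.ofFinite G
  let ι : ∀ g : G, Limits.equalizer (ρ g).hom (𝟙 X) ⟶ X := fun g => Limits.equalizer.ι _ _
  let Fix : G → Set X := fun g => Set.range (ι g).base
  have hclosed : ∀ g, IsClosed (Fix g) := fun g => (ι g).isClosedEmbedding.isClosed_range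
  have hne : ∀ g, g ≠ 1 → (Fix g)ᶜ.Nonempty := fun g hg => by
    by_contra h
    rw [Set.not_nonempty_iff_eq_empty, Set.compl_empty_iff] at h
    haveI : IsDominant (ι g) := ⟨by rw [denseRange_iff_closure_range, show Set.range (ι g) = Set.univ from h, closure_univ]⟩
    have e : (ρ g).hom = 𝟙 X := ext_of_isDominant (ι g) (Limits.equalizer.condition _ _)
    exact hg (hfaith (Aut.ext (e.trans (by rw [map_one]; rfl))))
  let s : Finset G := Finset.univ.filter (fun g => g ≠ 1)
  let V : X.Opens := ⟨⋂ g ∈ s, (Fix g)ᶜ, isOpen_biInter_finset fun g _ => (hclosed g).isOpen_compl⟩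
  have hV : (V : Set X).Nonempty := by
    show (⋂ g ∈ s, (Fix g)ᶜ).Nonempty
    have key : ∀ t : Finset G, t ⊆ s → (⋂ g ∈ t, (Fix g)ᶜ).Nonempty := by
      intro t
      induction t using Finset.induction_on with
      | empty => intro _; simp
      | insert a t ha ih =>
        intro hsub
        rw [Finset.set_biInter_insert]
        refine nonempty_preirreducible_inter (hclosed a).isOpen_compl
          (isOpen_biInter_finset fun g _ => (hclosed g).isOpen_compl)
          (hne a (Finset.mem_filter.1 (hsub (Finset.mem_insert_self a t))).2)
          (ih fun x hx => hsub (Finset.mem_insert_of_mem hx))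
    exact key s subset_rfl
  let U : X.Opens := ⟨⋂ h : G, (ρ h).hom.base ⁻¹' (V : Set X), isOpen_iInter_of_finite fun h => V.2.preimage (ρ h).hom.continuous⟩
  refine ⟨U, ?_, fun g => ?_, fun K _ x hx g hg => ?_⟩
  · show (⋂ h : G, (ρ h).hom.base ⁻¹' (V : Set X)).Nonempty
    have key : ∀ t : Finset G, (⋂ h ∈ t, (ρ h).hom.base ⁻¹' (V : Set X)).Nonempty := by
      intro t
      induction t using Finset.induction_on with
      | empty => simp
      | insert a t ha ih =>
        rw [Finset.set_biInter_insert]
        refine nonempty_preirreducible_inter (V.2.preimage (ρ a).hom.continuous)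
          (isOpen_biInter_finset fun g _ => V.2.preimage (ρ g).hom.continuous) ?_ ih
        obtain ⟨v, hv⟩ := hV
        obtain ⟨w, rfl⟩ := (ρ a).hom.surjective v
        exact ⟨w, hv⟩
    simpa using key Finset.univ
  · have hc : ∀ (h : G) (y : X), (ρ h).hom ((ρ g).hom y) = (ρ (h * g)).hom y := fun h y => by
      rw [map_mul]; rfl
    ext y
    show (ρ g).hom y ∈ (⋂ h : G, (ρ h).hom.base ⁻¹' (V : Set X)) ↔ y ∈ ⋂ h : G, (ρ h).hom.base ⁻¹' (V : Set X)
    simp only [Set.mem_iInter, Set.mem_preimage]
    refine ⟨fun H h => ?_, fun H h => ?_⟩
    · have h' := H (h * g⁻¹)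
      rw [hc, inv_mul_cancel_right] at h'
      exact h'
    · rw [hc]
      exact H _
  · by_contra hg1
    obtain ⟨z⟩ := (inferInstance : Nonempty (Spec (CommRingCat.of K)))
    have h1 : x.base z ∈ (U : Set X) := hx ⟨z, rfl⟩
    have h2 : x.base z ∈ (V : Set X) := by
      have := Set.mem_iInter.1 h1 1
      rw [map_one] at this
      exact this
    have h3 : x.base z ∉ Fix g := Set.mem_iInter₂.1 h2 g (Finset.mem_filter.2 ⟨Finset.mem_univ _, hg1⟩)
    refine h3 ⟨(Limits.equalizer.lift x (by rw [hg, Category.comp_id])).base z, ?_⟩
    show (ι g) ((Limits.equalizer.lift x _) z) = x z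
    rw [← Scheme.Hom.comp_apply, Limits.equalizer.lift_ι]

end Groth.Agent.S15701
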