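import Groth.Statements.S15702
import Groth.Agent.ComodLib.Rosenlicht
-- import your own Groth.Agent.* helpers here

set_option autoImplicit false
universe u
open GLin

namespace Groth.Agent.S15702

open Groth.Agent.ComodLib

/-- Let k be algebraically closed of characteristic zero, let G be a connected linear algebraic group
over k without non-trivial characters acting on an integral affine k-variety Spec B of finite type
with B a unique factorisation domain; then the field of G-invariant rational functions is the
fraction field of the ring of invariants B^G. In coordinate-ring form: A is a commutative Hopf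
algebra of finite type over k, a domain, whose only group-like element is 1; B is a k-algebra of
finite type, a domain and a unique factorisation monoid, with a coaction of A that is an algebra
map; k-points φ : A →ₐ[k] k act on B through the coaction. If f, g ∈ B, g ≠ 0, satisfy (φ·f) g = f
(φ·g) for all φ, then f g' = f' g for some f', g' ∈ B fixed by all φ with g' ≠ 0. (The published
lemma allows G disconnected with character-free identity component; this row is the connected case
treated first in its proof.) -/
theorem result (k : Type u) [Field k] [IsAlgClosed k] [CharZero k]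
    (A : Type u) [CommRing A] [HopfAlgebra k A] [Algebra.FiniteType k A] [IsDomain A]
    (hchar : ∀ a : A, IsGroupLikeElem k a → a = 1)
    (B : Type u) [CommRing B] [Algebra k B] [Algebra.FiniteType k B] [IsDomain B] [UniqueFactorizationMonoid B]
    [HopfRep.Comod k A B] [GLin.IsCoactAlg k A B]
    (f g : B) (hg : g ≠ 0)
    (hinv : ∀ φ : A →ₐ[k] k, HopfRep.Comod.act k A B φ f * g = f * HopfRep.Comod.act k A B φ g) :
    ∃ f' g' : B, (∀ φ : A →ₐ[k] k, HopfRep.Comod.act k A B φ f' = f') ∧
      (∀ φ : A →ₐ[k] k, HopfRep.Comod.act k A B φ g' = g') ∧ g' ≠ 0 ∧ f * g' = f' * g := by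
  classical
  by_cases hf : f = 0
  · refine ⟨0, 1, fun φ => map_zero _, fun φ => ?_, one_ne_zero, by simp [hf]⟩
    exact act_fixed (GLin.invariants k A B).one_mem φ
  obtain ⟨a, b, c, hab, rfl, rfl⟩ := UniqueFactorizationMonoid.exists_reduced_factors f hf g
  have hc : c ≠ 0 := left_ne_zero_of_mul hf
  have hb : b ≠ 0 := right_ne_zero_of_mul hg
  have ha : a ≠ 0 := right_ne_zero_of_mul hf
  have hinj : ∀ (φ : A →ₐ[k] k) (x : B), HopfRep.Comod.act k A B φ x = 0 → x = 0 := by
    intro φ x hx
    have h := act_act (B := B) (WithConv.toConv φ)⁻¹.ofConv φ x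
    rw [show WithConv.toConv ((WithConv.toConv φ)⁻¹).ofConv * WithConv.toConv φ = 1 from inv_mul_cancel _] at h
    rw [hx, map_zero] at h
    exact (act_one_pt (k := k) (A := A) x).symm.trans h
  have hab' : ∀ φ : A →ₐ[k] k, HopfRep.Comod.act k A B φ a * b = a * HopfRep.Comod.act k A B φ b := by
    intro φ
    have h := hinv φ
    rw [act_mul, act_mul] at h
    refine mul_left_cancel₀ (mul_ne_zero (fun h0 => hc (hinj φ c h0)) hc) ?_
    linear_combination h
  have hdvd : ∀ φ : A →ₐ[k] k, a ∣ HopfRep.Comod.act k A B φ a := fun φ =>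
    hab.dvd_of_dvd_mul_right ⟨_, hab' φ⟩
  have hu : ∀ φ : A →ₐ[k] k, ∃ u : Bˣ, HopfRep.Comod.act k A B φ a = u * a := by
    intro φ
    obtain ⟨x, hx⟩ := hdvd φ
    obtain ⟨y, hy⟩ := hdvd (WithConv.toConv φ)⁻¹.ofConv
    have h1 : a = HopfRep.Comod.act k A B φ (a * y) := by
      rw [← hy, ← act_act, show WithConv.toConv φ * WithConv.toConv ((WithConv.toConv φ)⁻¹).ofConv = 1 from mul_inv_cancel _]
      exact (act_one_pt a).symm
    rw [act_mul, hx, mul_assoc] at h1
    have hxy : x * HopfRep.Comod.act k A B φ y = 1 := mul_left_cancel₀ ha (h1.symm.trans (mul_one a).symm)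
    exact ⟨Units.mkOfMulEqOne _ _ hxy, by rw [hx, mul_comm]; rfl⟩
  obtain ⟨χ, hχ, hco⟩ := exists_character ha hu
  rw [hchar χ hχ] at hco
  have hfa : ∀ φ : A →ₐ[k] k, HopfRep.Comod.act k A B φ a = a := fun φ => act_fixed hco φ
  refine ⟨a, b, hfa, fun φ => ?_, hb, by ring⟩
  have h := hab' φ
  rw [hfa] at h
  exact (mul_left_cancel₀ ha h).symm

end Groth.Agent.S15702
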