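import Groth.Statements.S15705
import Groth.Agent.ComodLib.Rosenlicht
import Mathlib
-- import your own Groth.Agent.* helpers here

set_option autoImplicit false
universe u
open GLin

namespace Groth.Agent.S15705

open TensorProduct WithConv Groth.Agent.ComodLib

section Semi

variable {k : Type u} [Field k] [IsAlgClosed k] {A : Type u} [CommRing A] [HopfAlgebra k A] [Algebra.FiniteType k A]

/-- A function on rational points given by a character. -/
def IsChar (f : (A →ₐ[k] k) → Additive kˣ) : Prop :=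
  (∃ a : A, ∀ g : A →ₐ[k] k, g a = ((f g).toMul : k)) ∧
    ∀ g h : A →ₐ[k] k, f (toConv g * toConv h).ofConv = f g + f h

theorem isUnit_of_char {f : (A →ₐ[k] k) → Additive kˣ} {a : A} (ha : ∀ g : A →ₐ[k] k, g a = ((f g).toMul : k)) :
    IsUnit a := by
  by_contra h
  obtain ⟨g, hg⟩ := exists_point (k := k) (Ideal.span {a}) (by rwa [Ne, Ideal.span_singleton_eq_top])
  exact (f g).toMul.ne_zero ((ha g).symm.trans (hg (Ideal.mem_span_singleton_self a)))

theorem exists_finite_span_chars :
    ∃ T : Set ((A →ₐ[k] k) → Additive kˣ), T.Finite ∧ ∀ f, IsChar f → f ∈ Submodule.span ℤ T := by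
  classical
  haveI : IsNoetherianRing A := Algebra.FiniteType.isNoetherianRing k A
  let Q := {P : Ideal A // P ∈ minimalPrimes A}
  haveI : Finite Q := (minimalPrimes.finite_of_isNoetherianRing A).to_subtype
  haveI hQ : ∀ P : Q, P.1.IsPrime := fun P => P.2.1.1
  choose ι hι L hL using fun P : Q =>
    Groth.Agent.UnitsFG.exists_hom_units k (A ⧸ P.1)
  haveI := fun P => hι P
  let Ψ : Additive Aˣ →+ (∀ P : Q, ι P → ℤ) :=
    { toFun := fun a P => (L P (Units.map (Ideal.Quotient.mk P.1).toMonoidHom a.toMul)).toAdd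
      map_zero' := by funext P; simp
      map_add' := fun a b => by funext P; simp }
  let Φ : Additive Aˣ →+ ((A →ₐ[k] k) → Additive kˣ) :=
    { toFun := fun a g => Additive.ofMul (Units.map (g : A →* k) a.toMul)
      map_zero' := by funext g; simp
      map_add' := fun a b => by funext g; simp }
  let X : Set (Additive Aˣ) := {a | ∀ g h : A →ₐ[k] k, Φ a (toConv g * toConv h).ofConv = Φ a g + Φ a h}
  obtain ⟨T₁, hT₁, hspan⟩ := (Submodule.fg_span_iff_fg_span_finset_subset (R := ℤ) (Ψ '' X)).1
    (IsNoetherian.noetherian _)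
  choose lift hlift hlift' using fun v : T₁ => hT₁ v.2
  let N := (Nat.card Q + 1).factorial
  haveI hroots : Finite {u : kˣ // u ^ N = 1} := by
    haveI : NeZero N := ⟨Nat.factorial_ne_zero _⟩
    exact Finite.of_injective (β := rootsOfUnity N k) (fun u => ⟨u.1, u.2⟩)
      fun u v h => Subtype.ext (congrArg (fun x : rootsOfUnity N k => (x : kˣ)) h)
  choose PP hPP hPP' using fun g : A →ₐ[k] k => show ∃ p ∈ minimalPrimes A, p ≤ RingHom.ker g by
    haveI := RingHom.ker_isPrime g
    exact Ideal.exists_minimalPrimes_le (I := (⊥ : Ideal A)) (J := RingHom.ker g) bot_le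
  let K : Set ((A →ₐ[k] k) → Additive kˣ) :=
    Set.range fun F : Q → {u : kˣ // u ^ N = 1} => fun g => Additive.ofMul (F ⟨PP g, hPP g⟩).1
  refine ⟨Set.range (fun v : T₁ => Φ (lift v)) ∪ K, (Set.finite_range _).union (Set.finite_range _), ?_⟩
  rintro f ⟨⟨a, ha⟩, hmul⟩
  let u : Additive Aˣ := Additive.ofMul (isUnit_of_char ha).unit
  have hu : Φ u = f := by
    funext g
    apply Additive.toMul.injective
    apply Units.ext
    exact ha g
  have huX : u ∈ X := fun g h => by rw [hu]; exact hmul g h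
  have h1 : Ψ u ∈ Submodule.span ℤ (T₁ : Set (∀ P : Q, ι P → ℤ)) := hspan ▸ Submodule.subset_span ⟨u, huX, rfl⟩
  obtain ⟨n, hn⟩ := Submodule.mem_span_finset'.1 h1
  let z : Additive Aˣ := u - ∑ v : T₁, n v • lift v
  have hΨz : Ψ z = 0 := by
    rw [map_sub, map_sum, sub_eq_zero, ← hn]
    exact Finset.sum_congr rfl fun v _ => by rw [map_zsmul, hlift']
  have hzX : z ∈ X := by
    intro g h
    simp only [z, map_sub, map_sum, map_zsmul, Pi.sub_apply, Finset.sum_apply, Pi.smul_apply]
    rw [huX g h]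
    simp only [hlift _ g h, zsmul_add, Finset.sum_add_distrib]
    abel
  have hconst : ∀ P : Q, ∃ c : kˣ, ∀ g : A →ₐ[k] k, P.1 ≤ RingHom.ker g → Φ z g = Additive.ofMul c := by
    intro P
    have h2 := congrFun hΨz P
    have h3 : IsIntegral k ((Units.map (Ideal.Quotient.mk P.1).toMonoidHom z.toMul : (A ⧸ P.1)ˣ) : A ⧸ P.1) :=
      hL P _ (Multiplicative.toAdd.injective h2)
    set w := ((Units.map (Ideal.Quotient.mk P.1).toMonoidHom z.toMul : (A ⧸ P.1)ˣ) : A ⧸ P.1) with hw
    obtain ⟨c, hc⟩ : w ∈ (algebraMap k (A ⧸ P.1)).range := by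
      have := minpoly.mem_range_of_degree_eq_one k w
        (IsAlgClosed.degree_eq_one_of_irreducible k (minpoly.irreducible h3))
      exact this
    have hc0 : c ≠ 0 := by
      intro h0
      have hu' : IsUnit w := Units.isUnit _
      rw [← hc, h0, map_zero] at hu'
      exact not_isUnit_zero hu'
    refine ⟨Units.mk0 c hc0, fun g hg => ?_⟩
    apply Additive.toMul.injective
    apply Units.ext
    have h4 : g (z.toMul : A) = g (algebraMap k A c) := by
      rw [← sub_eq_zero, ← map_sub]
      refine hg ?_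
      rw [← Ideal.Quotient.eq_zero_iff_mem, map_sub, sub_eq_zero]
      exact hc.symm
    rw [AlgHom.commutes] at h4
    exact h4
  choose c hc using hconst
  have hfinval : ∀ g, Φ z g ∈ Set.range (fun P : Q => Additive.ofMul (c P)) := fun g =>
    ⟨⟨PP g, hPP g⟩, (hc ⟨PP g, hPP g⟩ g (hPP' g)).symm⟩
  have hzero : Φ z (1 : WithConv (A →ₐ[k] k)).ofConv = 0 := by
    have := hzX (1 : WithConv (A →ₐ[k] k)).ofConv (1 : WithConv (A →ₐ[k] k)).ofConv
    rw [toConv_ofConv, one_mul] at this
    exact left_eq_add.1 this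
  have hpow : ∀ (g : A →ₐ[k] k) (j : ℕ), Φ z ((toConv g) ^ j).ofConv = j • Φ z g := by
    intro g j
    induction j with
    | zero => rw [pow_zero, zero_smul, hzero]
    | succ j ih =>
      have := hzX ((toConv g) ^ j).ofConv g
      rw [toConv_ofConv, ← pow_succ] at this
      rw [this, ih, succ_nsmul]
  have hroot : ∀ g, N • Φ z g = 0 := by
    intro g
    choose P hP using fun j : Fin (Nat.card Q + 1) => hfinval ((toConv g) ^ (j : ℕ)).ofConv
    obtain ⟨i, j, hij, heq⟩ : ∃ i j, i ≠ j ∧ P i = P j := by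
      haveI := Fintype.ofFinite Q
      exact Fintype.exists_ne_map_eq_of_card_lt P (by rw [Nat.card_eq_fintype_card]; simp)
    have h5 : (i : ℕ) • Φ z g = (j : ℕ) • Φ z g := by
      rw [← hpow, ← hpow, ← hP i, ← hP j, heq]
    have key : ∀ a b : ℕ, a < b → b ≤ Nat.card Q → a • Φ z g = b • Φ z g → N • Φ z g = 0 := by
      intro a b hlt hb hab'
      obtain ⟨d, rfl⟩ := Nat.exists_eq_add_of_lt hlt
      rw [add_assoc, add_nsmul] at hab'
      have hd : (d + 1) • Φ z g = 0 := left_eq_add.1 hab'
      obtain ⟨q, hq⟩ := Nat.dvd_factorial (Nat.succ_pos d) (show d + 1 ≤ Nat.card Q + 1 by omega)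
      show (Nat.card Q + 1).factorial • Φ z g = 0
      rw [hq, mul_comm, mul_nsmul', hd, nsmul_zero]
    rcases lt_or_gt_of_ne (fun h => hij (Fin.ext h) : (i : ℕ) ≠ (j : ℕ)) with hlt | hgt
    · exact key _ _ hlt (by omega) h5
    · exact key _ _ hgt (by omega) h5.symm
  have hcP : ∀ P : Q, c P ^ N = 1 := by
    intro P
    obtain ⟨g, hg⟩ := exists_point (k := k) P.1 (hQ P).ne_top
    have := hroot g
    rw [hc P g hg] at this
    exact this
  have hzK : Φ z ∈ K := ⟨fun P => ⟨c P, hcP P⟩, funext fun g => (hc ⟨PP g, hPP g⟩ g (hPP' g)).symm⟩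
  have hf : f = Φ z + ∑ v : T₁, n v • Φ (lift v) := by
    rw [← hu, show u = z + ∑ v : T₁, n v • lift v from (sub_add_cancel u _).symm, map_add, map_sum]
    simp only [map_zsmul]
  rw [hf]
  exact Submodule.add_mem _ (Submodule.subset_span (Or.inr hzK))
    (Submodule.sum_mem _ fun v _ => Submodule.smul_mem _ _ (Submodule.subset_span (Or.inl ⟨v, rfl⟩)))

variable {B : Type u} [CommRing B] [Algebra k B] [HopfRep.Comod k A B]

/-- `c` is semi-invariant of weight `f`. -/
def Semi (f : (A →ₐ[k] k) → Additive kˣ) (c : B) : Prop :=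
  ∀ g : A →ₐ[k] k, HopfRep.Comod.act k A B g c = ((f g).toMul : k) • c

variable [GLin.IsCoactAlg k A B]

theorem act_one (g : A →ₐ[k] k) : HopfRep.Comod.act k A B g 1 = 1 := by
  show slice g.toLinearMap (HopfRep.Comod.coact (k := k) (A := A) (1 : B)) = 1
  rw [GLin.IsCoactAlg.coact_one, Algebra.TensorProduct.one_def, slice_tmul,
    show g.toLinearMap (1 : A) = 1 from map_one g, one_smul]

theorem act_pow (g : A →ₐ[k] k) (b : B) (n : ℕ) :
    HopfRep.Comod.act k A B g (b ^ n) = HopfRep.Comod.act k A B g b ^ n := by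
  induction n with
  | zero => simp [act_one]
  | succ n ih => rw [pow_succ, pow_succ, ComodLib.act_mul, ih]

theorem semi_mul {f f' : (A →ₐ[k] k) → Additive kˣ} {c c' : B} (h : Semi (A := A) f c) (h' : Semi (A := A) f' c') :
    Semi (A := A) (f + f') (c * c') := fun g => by
  rw [ComodLib.act_mul, h g, h' g, smul_mul_smul_comm, Pi.add_apply, toMul_add, Units.val_mul]

theorem semi_zero : Semi (A := A) (0 : (A →ₐ[k] k) → Additive kˣ) (1 : B) := fun g => by
  simp [act_one]

theorem semi_pow {f : (A →ₐ[k] k) → Additive kˣ} {c : B} (n : ℕ) (h : Semi (A := A) f c) :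
    Semi (A := A) (n • f) (c ^ n) := by
  induction n with
  | zero => simpa using semi_zero
  | succ n ih => rw [succ_nsmul, pow_succ]; exact semi_mul ih h

theorem semi_prod {ι : Type*} (s : Finset ι) (f : ι → (A →ₐ[k] k) → Additive kˣ) (c : ι → B)
    (h : ∀ i ∈ s, Semi (A := A) (f i) (c i)) : Semi (A := A) (∑ i ∈ s, f i) (∏ i ∈ s, c i) := by
  classical
  induction s using Finset.induction with
  | empty => simpa using semi_zero
  | insert i s hi ih =>
    rw [Finset.sum_insert hi, Finset.prod_insert hi]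
    exact semi_mul (h i (Finset.mem_insert_self i s)) (ih fun j hj => h j (Finset.mem_insert_of_mem hj))

variable [IsDomain B] [Algebra.FiniteType k B]

theorem act_injective (g : A →ₐ[k] k) : Function.Injective (HopfRep.Comod.act k A B g) := fun x y h => by
  have h1 := congrArg (HopfRep.Comod.act k A B (toConv g)⁻¹.ofConv) h
  rwa [← act_act, ← act_act, toConv_ofConv, inv_mul_cancel,
    show (1 : WithConv (A →ₐ[k] k)).ofConv = Bialgebra.counitAlgHom k A from rfl, act_one_pt, act_one_pt] at h1

theorem exists_semi_of_dvd (hunits : ∀ u : Bˣ, ∃ c : k, algebraMap k B c = u) {a : B} (ha : a ≠ 0)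
    (hdvd : ∀ g : A →ₐ[k] k, a ∣ HopfRep.Comod.act k A B g a) :
    ∃ f : (A →ₐ[k] k) → Additive kˣ, Semi (A := A) f a := by
  have hex : ∀ g : A →ₐ[k] k, ∃ c : kˣ, HopfRep.Comod.act k A B g a = (c : k) • a := by
    intro g
    obtain ⟨u, hu⟩ := hdvd g
    obtain ⟨v, hv⟩ := hdvd (toConv g)⁻¹.ofConv
    have h1 : a * (u * HopfRep.Comod.act k A B g v) = a * 1 := by
      have := congrArg (HopfRep.Comod.act k A B g) hv
      rw [ComodLib.act_mul, hu, ← act_act, toConv_ofConv, mul_inv_cancel,
        show (1 : WithConv (A →ₐ[k] k)).ofConv = Bialgebra.counitAlgHom k A from rfl, act_one_pt] at this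
      rw [mul_one, ← mul_assoc]
      exact this.symm
    obtain ⟨c, hc⟩ := hunits (Units.mkOfMulEqOne u _ (mul_left_cancel₀ ha h1))
    have hc0 : c ≠ 0 := by
      intro h0
      have := (Units.mkOfMulEqOne u _ (mul_left_cancel₀ ha h1)).ne_zero
      rw [← hc, h0, map_zero] at this
      exact this rfl
    refine ⟨Units.mk0 c hc0, ?_⟩
    rw [hu, Units.val_mk0, Algebra.smul_def, hc, mul_comm]
    rfl
  choose c hc using hex
  exact ⟨fun g => Additive.ofMul (c g), hc⟩

theorem isChar_of_semi {f : (A →ₐ[k] k) → Additive kˣ} {c : B} (hc : c ≠ 0) (hf : Semi (A := A) f c) :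
    IsChar f := by
  obtain ⟨π, hπ⟩ : ∃ π : B →ₗ[k] k, π c = 1 := by
    obtain ⟨π, hπ, -⟩ := Submodule.exists_dual_map_eq_bot_of_notMem
      (p := (⊥ : Submodule k B)) (by simpa using hc) inferInstance
    exact ⟨(π c)⁻¹ • π, by simp [inv_mul_cancel₀ hπ]⟩
  refine ⟨⟨coefFun (C := A) π c, fun g => ?_⟩, fun g h => ?_⟩
  · have h1 : π (HopfRep.Comod.act k A B g c) = g (coefFun (C := A) π c) := by
      show π (slice g.toLinearMap (HopfRep.Comod.coact (k := k) (A := A) c)) = _
      rw [coefFun_apply]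
      induction HopfRep.Comod.coact (k := k) (A := A) c using TensorProduct.induction_on with
      | zero => simp
      | tmul p q => simp [mul_comm]
      | add p q hp hq => simp only [map_add, hp, hq]
    rw [← h1, hf g, map_smul, hπ, smul_eq_mul, mul_one]
  · have h1 := hf (toConv g * toConv h).ofConv
    rw [act_act, hf h, map_smul, hf g, smul_smul] at h1
    apply Additive.toMul.injective
    apply Units.ext
    rw [toMul_add, Units.val_mul, mul_comm]
    exact (smul_left_injective k hc h1).symm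

end Semi

/-- Let k be algebraically closed of characteristic zero, G a linear algebraic group and X a factorial
affine G-variety with k[X]* = k*; then there is a G-invariant affine open U of X such that the field
of G-invariant rational functions is the fraction field of k[U]^G. In coordinate-ring form: A is a
commutative Hopf algebra of finite type over k coacting by an algebra map on B, a finitely generated
k-algebra which is a domain and a unique factorisation monoid all of whose units are scalars;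
k-points φ : A →ₐ[k] k of G act on B through the coaction. Conclusion: there is h ≠ 0 in B with D(h)
stable under every φ (φ·h divides a power of h) such that whenever a, b ∈ B, b ≠ 0, satisfy (φ·a) b
= a (φ·b) for all φ (the fraction a/b is invariant), there are c, d ∈ B and exponents r, t with d ≠
0, with c/h^r and d/h^t invariant in B[1/h] — that is (φ·c) h^r = c (φ·h)^r and (φ·d) h^t = d
(φ·h)^t for all φ — and a d h^r = b c h^t (so a/b = (c/h^r)/(d/h^t)). -/
theorem result (k : Type u) [Field k] [IsAlgClosed k] [CharZero k]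
    (A : Type u) [CommRing A] [HopfAlgebra k A] [Algebra.FiniteType k A]
    (B : Type u) [CommRing B] [Algebra k B] [Algebra.FiniteType k B] [IsDomain B] [UniqueFactorizationMonoid B]
    (hunits : ∀ u : Bˣ, ∃ c : k, algebraMap k B c = u)
    [HopfRep.Comod k A B] [GLin.IsCoactAlg k A B] :
    ∃ h : B, h ≠ 0 ∧ (∀ φ : A →ₐ[k] k, ∃ (N : ℕ) (u : B), HopfRep.Comod.act k A B φ h * u = h ^ N) ∧
      ∀ a b : B, b ≠ 0 → (∀ φ : A →ₐ[k] k, HopfRep.Comod.act k A B φ a * b = a * HopfRep.Comod.act k A B φ b) →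
        ∃ (c d : B) (r t : ℕ), d ≠ 0 ∧
          (∀ φ : A →ₐ[k] k, HopfRep.Comod.act k A B φ c * h ^ r = c * (HopfRep.Comod.act k A B φ h) ^ r) ∧
          (∀ φ : A →ₐ[k] k, HopfRep.Comod.act k A B φ d * h ^ t = d * (HopfRep.Comod.act k A B φ h) ^ t) ∧
          a * d * h ^ r = b * c * h ^ t := by
  classical
  let G := A →ₐ[k] k
  let M : Set (G → Additive kˣ) := {f | ∃ c : B, c ≠ 0 ∧ Semi (A := A) f c}
  obtain ⟨T, hT, hST⟩ := exists_finite_span_chars (k := k) (A := A)
  have hMle : Submodule.span ℤ M ≤ Submodule.span ℤ T := by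
    refine Submodule.span_le.2 ?_
    rintro f ⟨c, hc, hf⟩
    exact hST f (isChar_of_semi hc hf)
  haveI : IsNoetherian ℤ (Submodule.span ℤ T) := isNoetherian_span_of_finite ℤ hT
  haveI : IsNoetherian ℤ (Submodule.span ℤ M) := isNoetherian_of_le hMle
  obtain ⟨s, hsM, hs⟩ := (Submodule.fg_span_iff_fg_span_finset_subset M).1 (Module.Finite.iff_fg.1 (inferInstance : Module.Finite ℤ (Submodule.span ℤ M)))
  choose e he0 he using fun i : s => hsM i.2
  let h := ∏ i, e i
  have hh : Semi (A := A) (∑ i : s, (i : G → Additive kˣ)) h := semi_prod _ _ _ fun i _ => he i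
  have hh0 : h ≠ 0 := Finset.prod_ne_zero_iff.2 fun i _ => he0 i
  refine ⟨h, hh0, fun φ => ⟨1, algebraMap k B ((((∑ i : s, (i : G → Additive kˣ)) φ).toMul⁻¹ : kˣ) : k), ?_⟩, ?_⟩
  · rw [hh φ, pow_one, mul_comm, ← Algebra.smul_def, smul_smul, Units.inv_mul, one_smul]
  intro a b hb hab
  by_cases ha : a = 0
  · refine ⟨0, 1, 0, 0, one_ne_zero, fun φ => by simp, fun φ => ?_, by simp [ha]⟩
    simpa using act_one φ
  obtain ⟨a', b', c', hrel, rfl, rfl⟩ := UniqueFactorizationMonoid.exists_reduced_factors a ha b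
  have hc' : c' ≠ 0 := left_ne_zero_of_mul ha
  have ha' : a' ≠ 0 := right_ne_zero_of_mul ha
  have hb' : b' ≠ 0 := right_ne_zero_of_mul hb
  have hab' : ∀ φ : G, HopfRep.Comod.act k A B φ a' * b' = a' * HopfRep.Comod.act k A B φ b' := by
    intro φ
    have h1 := hab φ
    rw [ComodLib.act_mul, ComodLib.act_mul] at h1
    have h0 : HopfRep.Comod.act k A B φ c' ≠ 0 := fun h0 => hc' ((act_injective φ) (by rw [h0, map_zero]))
    refine mul_left_cancel₀ (mul_ne_zero h0 hc') ?_
    linear_combination h1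
  obtain ⟨f, hfa⟩ := exists_semi_of_dvd hunits ha' fun φ => by
    exact hrel.dvd_of_dvd_mul_right ⟨HopfRep.Comod.act k A B φ b', hab' φ⟩
  have hfb : Semi (A := A) f b' := fun φ => by
    have h1 := hab' φ
    rw [hfa φ, smul_mul_assoc, ← mul_smul_comm] at h1
    exact (mul_left_cancel₀ ha' h1).symm
  have hfM : f ∈ Submodule.span ℤ (s : Set (G → Additive kˣ)) := hs ▸ Submodule.subset_span ⟨a', ha', hfa⟩
  obtain ⟨n, hn⟩ := (Submodule.mem_span_finset').1 hfM
  let R : ℕ := ∑ i : s, (n i).natAbs
  let m : s → ℕ := fun i => ((R : ℤ) - n i).toNat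
  let E := ∏ i, e i ^ m i
  have hE : Semi (A := A) (∑ i : s, m i • (i : G → Additive kˣ)) E := semi_prod _ _ _ fun i _ => semi_pow _ (he i)
  have hE0 : E ≠ 0 := Finset.prod_ne_zero_iff.2 fun i _ => pow_ne_zero _ (he0 i)
  have hsum : f + ∑ i : s, m i • (i : G → Additive kˣ) = R • ∑ i : s, (i : G → Additive kˣ) := by
    rw [← hn, ← Finset.sum_add_distrib, ← Finset.sum_nsmul]
    refine Finset.sum_congr rfl fun i _ => ?_
    rw [← natCast_zsmul, ← natCast_zsmul, ← add_smul]
    congr 1
    have : (n i).natAbs ≤ R := Finset.single_le_sum (f := fun i : s => (n i).natAbs) (fun _ _ => Nat.zero_le _) (Finset.mem_univ i)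
    simp only [m]
    omega
  have key : ∀ c : B, Semi (A := A) f c → ∀ φ : G,
      HopfRep.Comod.act k A B φ (c * E) * h ^ R = c * E * HopfRep.Comod.act k A B φ h ^ R := by
    intro c hc φ
    have h1 := semi_mul hc hE φ
    rw [hsum] at h1
    have h2 := semi_pow R hh φ
    rw [h1, ← act_pow, h2, smul_mul_assoc, mul_smul_comm]
  exact ⟨a' * E, b' * E, R, R, mul_ne_zero hb' hE0, key a' hfa, key b' hfb, by ring⟩

end Groth.Agent.S15705
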