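import Groth.Statements.S15706
import Groth.Agent.CAlgLifts.Avoid

set_option autoImplicit false
universe u
open CAlg

namespace Groth.Agent.S15706

/-- Let A be a Noetherian ring with Serre's property (S_1), stated here in the equivalent form that
every associated prime of A is a minimal prime of A. Let I be an ideal of A and b an element of A/I
which is regular (a non-zero-divisor) in A/I. Then b is the image of a regular element of A. -/
theorem result (A : Type u) [CommRing A]
    [IsNoetherianRing A] (hS1 : ∀ p ∈ associatedPrimes A A, p ∈ minimalPrimes A) (I : Ideal A)
    (b : A ⧸ I) (hb : b ∈ nonZeroDivisors (A ⧸ I)) :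
    ∃ a : A, a ∈ nonZeroDivisors A ∧ Ideal.Quotient.mk I a = b := by
  exact Groth.Agent.CAlgLifts.exists_regular_lift hS1 I b hb

end Groth.Agent.S15706
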