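import Groth.Statements.S15712
import Groth.Agent.H23.SchDense
import Groth.Agent.Neron6.BirOpen
-- import your own Groth.Agent.* helpers here

set_option autoImplicit false
universe u
open CategoryTheory AlgebraicGeometry TopologicalSpace
open RatSing

namespace Groth.Agent.S15712


theorem mem_of_dense_of_dim_lt_one {X : Scheme.{u}} [IsLocallyNoetherian X] (U : X.Opens)
    (hU : Dense (U : Set X)) (x : X) (hd : ringKrullDim (X.presheaf.stalk x) < 1) : x ∈ U := by
  obtain ⟨_, ⟨V, hV, rfl⟩, hxV, -⟩ :=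
    X.isBasis_affineOpens.exists_subset_of_mem_open (Set.mem_univ x) isOpen_univ
  haveI : IsNoetherianRing Γ(X, V) := IsLocallyNoetherian.component_noetherian ⟨V, hV⟩
  letI := X.presheaf.algebra_section_stalk ⟨x, hxV⟩
  haveI := hV.isLocalization_stalk ⟨x, hxV⟩
  set p := hV.primeIdealOf ⟨x, hxV⟩
  have hmin : p.asIdeal ∈ minimalPrimes Γ(X, V) := by
    have he := IsLocalization.AtPrime.ringKrullDim_eq_height p.asIdeal (X.presheaf.stalk x)
    rw [he] at hd
    rw [← Ideal.height_eq_zero_iff]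
    exact ENat.lt_one_iff_eq_zero.1 (by exact_mod_cast hd)
  obtain ⟨a, hap, ha⟩ : ∃ a ∉ p.asIdeal, ∀ q ∈ minimalPrimes Γ(X, V), q ≠ p.asIdeal → a ∈ q := by
    have hfin : (minimalPrimes Γ(X, V)).Finite := minimalPrimes.finite_of_isNoetherianRing _
    have : ∀ q ∈ minimalPrimes Γ(X, V), q ≠ p.asIdeal → ∃ c ∈ q, c ∉ p.asIdeal := fun q hq hne =>
      Set.not_subset.1 fun hle => hne (le_antisymm hle (hmin.2 ⟨hq.1.1, bot_le⟩ hle))
    choose c hc hcp using this
    classical
    let s := hfin.toFinset.filter (fun q => q ≠ p.asIdeal)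
    let d : Ideal Γ(X, V) → Γ(X, V) := fun q =>
      if h : q ∈ minimalPrimes Γ(X, V) ∧ q ≠ p.asIdeal then c q h.1 h.2 else 1
    refine ⟨∏ q ∈ s, d q, fun hmem => ?_, fun q hq hne => ?_⟩
    · obtain ⟨q, hq, hqd⟩ := (Ideal.IsPrime.prod_mem_iff (p := p.asIdeal)).1 hmem
      simp only [s, Finset.mem_filter, Set.Finite.mem_toFinset] at hq
      simp only [d, dif_pos hq] at hqd
      exact hcp _ _ _ hqd
    · refine Ideal.mem_of_dvd _ (Finset.dvd_prod_of_mem d (a := q) ?_) ?_
      · simp [s, hq, hne]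
      · simp only [d, dif_pos (And.intro hq hne)]
        exact hc _ _ _
  have hxa : x ∈ X.basicOpen a := by
    suffices h : hV.fromSpec p ∈ X.basicOpen a by rwa [hV.fromSpec_primeIdealOf] at h
    have hp : p ∈ hV.fromSpec ⁻¹ᵁ X.basicOpen a := by
      rw [hV.fromSpec_preimage_basicOpen]
      exact hap
    exact hp
  obtain ⟨y, hya, hyU⟩ := hU.inter_open_nonempty _ (X.basicOpen a).isOpen ⟨x, hxa⟩
  have hyV : y ∈ V := X.basicOpen_le a hya
  obtain ⟨q, hq, hle⟩ := Ideal.exists_minimalPrimes_le (bot_le : ⊥ ≤ (hV.primeIdealOf ⟨y, hyV⟩).asIdeal)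
  have haq : a ∉ (hV.primeIdealOf ⟨y, hyV⟩).asIdeal := by
    have h1 : hV.fromSpec (hV.primeIdealOf ⟨y, hyV⟩) ∈ X.basicOpen a := by
      rw [hV.fromSpec_primeIdealOf]; exact hya
    have h2 : hV.primeIdealOf ⟨y, hyV⟩ ∈ hV.fromSpec ⁻¹ᵁ X.basicOpen a := h1
    rw [hV.fromSpec_preimage_basicOpen] at h2
    exact h2
  have hqp : q = p.asIdeal := by
    by_contra hne
    exact haq (hle (ha q hq hne))
  subst hqp
  have hsp := ((PrimeSpectrum.le_iff_specializes _ _).mp hle).map hV.fromSpec.continuous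
  rw [hV.fromSpec_primeIdealOf, hV.fromSpec_primeIdealOf] at hsp
  exact hsp.mem_open U.isOpen hyU

/-- Let X be a locally Noetherian scheme with Serre's property (S_1), i.e. every local ring O_{X,x} has
depth at least min(1, dim O_{X,x}) (for instance X Cohen–Macaulay), and let U ⊆ X be open. Then
scheme-theoretic density of U in X is equivalent to U being dense as a subset. (The published
statement assumes every scheme excellent, in particular locally Noetherian.) -/
theorem result (X : Scheme.{u}) [IsLocallyNoetherian X]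
    (hS1 : ∀ x : X, min (1 : WithBot ℕ∞) (ringKrullDim (X.presheaf.stalk x)) ≤
      ((LocCoh.depth (X.presheaf.stalk x) (X.presheaf.stalk x) : ℕ∞) : WithBot ℕ∞))
    (U : X.Opens) : CInt.IsSchematicallyDense U ↔ Dense (U : Set X) := by
  refine ⟨fun h => Groth.Agent.Neron6.dense_of_isSchematicallyDense h, fun h => ?_⟩
  rw [Groth.Agent.H23.SchDense.isSchematicallyDense_iff]
  intro x hx
  have h1 := hS1 x
  have hd : (1 : WithBot ℕ∞) ≤ ringKrullDim (X.presheaf.stalk x) := by
    by_contra hc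
    exact hx (mem_of_dense_of_dim_lt_one U h x (not_le.1 hc))
  rw [min_eq_left hd] at h1
  exact_mod_cast h1

end Groth.Agent.S15712
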