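import Groth.Statements.S15715
import Groth.Agent.H23.SchDense
import Groth.Agent.QCoh.Qcqs
-- import your own Groth.Agent.* helpers here

set_option autoImplicit false
universe u
open CategoryTheory AlgebraicGeometry TopologicalSpace
open RatSing

namespace Groth.Agent.S15715


theorem exists_nzd {X : Scheme.{u}} [IsLocallyNoetherian X] (U : X.Opens)
    (hU : CInt.IsSchematicallyDense U) (W : X.affineOpens) :
    ∃ a ∈ nonZeroDivisors Γ(X, W.1), X.basicOpen a ≤ U := by
  haveI : IsNoetherianRing Γ(X, W.1) := IsLocallyNoetherian.component_noetherian W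
  let C : Set (PrimeSpectrum Γ(X, W.1)) := W.2.fromSpec ⁻¹' (U : Set X)ᶜ
  have hC : IsClosed C := (U.isOpen.isClosed_compl).preimage W.2.fromSpec.continuous
  let J := PrimeSpectrum.vanishingIdeal C
  have hJ : PrimeSpectrum.zeroLocus (J : Set Γ(X, W.1)) = C := by
    rw [PrimeSpectrum.zeroLocus_vanishingIdeal_eq_closure, hC.closure_eq]
  have hass : ∀ p ∈ associatedPrimes Γ(X, W.1) Γ(X, W.1), ¬ J ≤ p := by
    intro p hp hle
    haveI := IsAssociatedPrime.isPrime hp
    obtain ⟨y, hy⟩ := Groth.Agent.H23.SchDense.primeIdealOf_fromSpec W.2 ⟨p, inferInstance⟩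
    have hyU : y.1 ∉ U := by
      have hm : (⟨p, inferInstance⟩ : PrimeSpectrum Γ(X, W.1)) ∈ C := hJ ▸ hle
      rw [← hy] at hm
      simpa [C, W.2.fromSpec_primeIdealOf] using hm
    have := (Groth.Agent.H23.SchDense.one_le_depth_iff W.2 y).1
      ((Groth.Agent.H23.SchDense.isSchematicallyDense_iff U).1 hU y.1 hyU)
    rw [hy] at this
    exact this hp
  obtain ⟨a, haJ, ha⟩ : ∃ a ∈ J, a ∈ nonZeroDivisors Γ(X, W.1) := by
    by_contra! h
    have hsub : (J : Set Γ(X, W.1)) ⊆ ⋃ p ∈ associatedPrimes Γ(X, W.1) Γ(X, W.1), (p : Set Γ(X, W.1)) := by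
      rw [biUnion_associatedPrimes_eq_compl_nonZeroDivisors]
      exact fun a ha => h a ha
    obtain ⟨p, hp, hle⟩ := (Ideal.subset_union_prime_finite (associatedPrimes.finite _ _) ⊥ ⊥
      fun i hi _ _ => IsAssociatedPrime.isPrime hi).1 hsub
    exact hass p hp hle
  refine ⟨a, ha, fun y hy => ?_⟩
  by_contra hyU
  have hyW : y ∈ W.1 := X.basicOpen_le a hy
  have h1 : W.2.fromSpec (W.2.primeIdealOf ⟨y, hyW⟩) ∈ X.basicOpen a := by
    rw [W.2.fromSpec_primeIdealOf]; exact hy
  have h2 : W.2.primeIdealOf ⟨y, hyW⟩ ∈ W.2.fromSpec ⁻¹ᵁ X.basicOpen a := h1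
  rw [W.2.fromSpec_preimage_basicOpen] at h2
  have h3 : W.2.primeIdealOf ⟨y, hyW⟩ ∈ PrimeSpectrum.zeroLocus (J : Set Γ(X, W.1)) := by
    rw [hJ]
    simpa [C, W.2.fromSpec_primeIdealOf] using hyU
  exact h2 (h3 haJ)

/-- Let X be a locally Noetherian scheme, φ : F → G a homomorphism of O_X-modules with F quasi-coherent
and torsion-free (over every affine open V, no nonzero section of F is killed by a regular element
of O_X(V)), and U a scheme-theoretically dense open subset of X such that the restriction of φ to U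
is injective. Then φ is injective. (The published statement allows an arbitrary O_X-module F; for
the skyscraper sheaf on the affine line over a field, placed at a closed point with value the local
ring at that point, which is torsion-free in this sense, the zero map to the zero module is
injective over the dense open complement of the point but not injective. This row takes F
quasi-coherent.) -/
theorem result (X : Scheme.{u})
    [IsLocallyNoetherian X] (F G : X.Modules) (hF : Coh.IsQCoh F)
    (htf : ∀ V : X.affineOpens, Submodule.torsion Γ(X, V.1) (F.val.obj (Opposite.op V.1)) = ⊥)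
    (φ : F ⟶ G) (U : X.Opens) (hU : CInt.IsSchematicallyDense U)
    (hφU : ∀ V : X.Opens, V ≤ U → Function.Injective ⇑(ConcreteCategory.hom (φ.val.app (Opposite.op V)))) (V : X.Opens) :
    Function.Injective ⇑(ConcreteCategory.hom (φ.val.app (Opposite.op V))) := by
  rw [injective_iff_map_eq_zero]
  intro s hs
  refine TopCat.Sheaf.eq_of_locally_eq' (⟨F.presheaf, F.isSheaf⟩ : TopCat.Sheaf Ab X)
    (fun W : {W : X.affineOpens // W.1 ≤ V} => W.1.1) V (fun W => homOfLE W.2)
    (fun z hz => ?_) s 0 fun W => ?_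
  · obtain ⟨_, ⟨W, hW, rfl⟩, hzW, hWV⟩ :=
      X.isBasis_affineOpens.exists_subset_of_mem_open (u := (V : Set X)) hz V.isOpen
    exact Opens.mem_iSup.2 ⟨⟨⟨W, hW⟩, hWV⟩, hzW⟩
  rw [map_zero]
  obtain ⟨a, ha, haU⟩ := exists_nzd U hU W.1
  set t := F.presheaf.map (homOfLE W.2).op s with ht
  have hres : F.presheaf.map (homOfLE (X.basicOpen_le a)).op t = 0 := by
    refine hφU _ haU ?_
    have h1 := congrArg (fun g => (ConcreteCategory.hom g) t)
      (φ.mapPresheaf.naturality (homOfLE (X.basicOpen_le a)).op)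
    have h2 := congrArg (fun g => (ConcreteCategory.hom g) s) (φ.mapPresheaf.naturality (homOfLE W.2).op)
    simp only [ConcreteCategory.comp_apply] at h1 h2
    refine (h1.trans ?_).trans (map_zero _).symm
    rw [ht]
    erw [h2]
    erw [hs]
    erw [map_zero, map_zero]
  obtain ⟨n, hn⟩ := Groth.Agent.QCoh.exists_pow_smul_eq_zero_of_isCompact hF W.1.2.isCompact a t hres
  have : t ∈ Submodule.torsion Γ(X, W.1.1) (F.val.obj (Opposite.op W.1.1)) :=
    ⟨⟨a ^ n, pow_mem ha n⟩, hn⟩
  rw [htf W.1] at this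
  exact (Submodule.mem_bot _).1 this

end Groth.Agent.S15715
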