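import Groth.Statements.S15717
import Groth.Agent.LC.GorLoc
import Groth.Agent.LC.DepthExt
import Mathlib

set_option autoImplicit false
universe u
open CAlg

namespace Groth.Agent.S15717

/-- Let R be a Cohen–Macaulay local ring and I an ideal of R with R/I equidimensional (all minimal
primes p over I have the same dim R/p). Then there is a regular sequence r_1, ..., r_n in I such
that the closed subscheme V(r_1, ..., r_n) of Spec R, a local complete intersection, contains V(I),
has the same dimension as V(I), and has the irreducible components of V(I) among its irreducible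
components: dim R/(r_1, ..., r_n) = dim R/I and every minimal prime over I is a minimal prime over
(r_1, ..., r_n). The sequence is asked to be weakly regular (each r_i a non-zero-divisor modulo the
previous ones), which for I proper is the same as regular and which also covers I = R with the
sequence (1). -/
theorem result (R : Type u) [CommRing R]
    [LocCoh.IsCohenMacaulayLocalRing R] (I : Ideal R)
    (hI : ∀ p ∈ I.minimalPrimes, ringKrullDim (R ⧸ p) = ringKrullDim (R ⧸ I)) :
    ∃ rs : List R, RingTheory.Sequence.IsWeaklyRegular R rs ∧ Ideal.ofList rs ≤ I ∧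
      ringKrullDim (R ⧸ Ideal.ofList rs) = ringKrullDim (R ⧸ I) ∧
      I.minimalPrimes ⊆ (Ideal.ofList rs).minimalPrimes := by
  classical
  haveI : IsLocalRing R := inferInstance
  haveI : IsNoetherianRing R := inferInstance
  by_cases hIt : I = ⊤
  · subst hIt
    refine ⟨[1], ?_, le_top, ?_, fun p hp => absurd (top_le_iff.1 hp.1.2) hp.1.1.ne_top⟩
    · rw [RingTheory.Sequence.isWeaklyRegular_cons_iff]
      exact ⟨fun a b h => by simpa using h, RingTheory.Sequence.IsWeaklyRegular.nil _ _⟩
    · rw [Ideal.ofList_singleton, Ideal.span_singleton_one]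
  have hIM : I • (⊤ : Submodule R R) ≠ ⊤ := by rwa [smul_eq_mul, Ideal.mul_top]
  obtain ⟨rs, hreg, hmem, hlen⟩ := Groth.Agent.LC.exists_idealDepth_eq_length I hIM
  rw [Groth.Agent.LC.idealDepth_self_eq_height] at hlen
  have hJI : Ideal.ofList rs ≤ I := Groth.Agent.LC.ofList_le I hmem
  have hhJ : (Ideal.ofList rs).height = I.height := by
    refine le_antisymm (Ideal.height_mono hJI) ?_
    have h := Groth.Agent.LC.idealDepth_quot_ofList (Ideal.ofList rs) (M := R) hreg
      (fun r hr => Ideal.subset_span hr)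
    rw [Groth.Agent.LC.idealDepth_self_eq_height] at h
    rw [hlen, ← h]
    exact le_add_self
  have hfin : ∀ q : Ideal R, q ≠ ⊤ → ∃ a b : ℕ, ringKrullDim (R ⧸ q) = a ∧ q.height = b ∧
      ringKrullDim R = ((a + b : ℕ) : ℕ) := by
    intro q hq
    have h := Groth.Agent.LC.height_add_ringKrullDim_quotient q hq
    haveI : Nontrivial (R ⧸ q) := Ideal.Quotient.nontrivial_iff.2 hq
    haveI := IsLocalRing.of_surjective' (Ideal.Quotient.mk q) Ideal.Quotient.mk_surjective
    obtain ⟨b, hb⟩ := ENat.ne_top_iff_exists.1 (Ideal.height_ne_top hq)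
    obtain ⟨a', ha'⟩ := WithBot.ne_bot_iff_exists.1 (ringKrullDim_ne_bot (R := R ⧸ q))
    obtain ⟨a, ha⟩ := ENat.ne_top_iff_exists.1 (fun e : a' = ⊤ => ringKrullDim_ne_top (R := R ⧸ q) (by rw [← ha', e]; rfl))
    refine ⟨a, b, by rw [← ha', ← ha]; rfl, hb.symm, ?_⟩
    rw [← h, ← ha', ← ha, ← hb]
    norm_cast
  obtain ⟨aI, bI, haI, hbI, hdI⟩ := hfin I hIt
  have hJt : Ideal.ofList rs ≠ ⊤ := fun h => hIt (top_le_iff.1 (h ▸ hJI))
  obtain ⟨aJ, bJ, haJ, hbJ, hdJ⟩ := hfin _ hJt
  have hcast : ∀ {a b : ℕ}, ((a : ℕ∞) : WithBot ℕ∞) = ((b : ℕ∞) : WithBot ℕ∞) → a = b := fun h => by exact_mod_cast h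
  have hbb : bJ = bI := by
    rw [hbJ, hbI] at hhJ
    exact_mod_cast hhJ
  refine ⟨rs, hreg, hJI, ?_, fun p hp => ?_⟩
  · rw [haJ, haI]
    have : aJ + bJ = aI + bI := by exact_mod_cast hdJ.symm.trans hdI
    congr 1
    omega
  · haveI := hp.1.1
    obtain ⟨a, b, ha, hb, hd⟩ := hfin p hp.1.1.ne_top
    have h1 := hI p hp
    rw [ha, haI] at h1
    have e1 : a = aI := by exact_mod_cast h1
    have e2 : a + b = aI + bI := by exact_mod_cast hd.symm.trans hdI
    refine ⟨⟨hp.1.1, hJI.trans hp.1.2⟩, fun q hq hqp => ?_⟩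
    haveI := hq.1
    by_contra hne
    have hlt : q < p := lt_of_le_not_ge hqp hne
    have hqh := Ideal.height_strict_mono_of_isPrime hlt
    have hge : (Ideal.ofList rs).height ≤ q.height := Ideal.height_mono hq.2
    rw [hhJ, hbI] at hge
    rw [hb, show b = bI by omega] at hqh
    exact absurd (hge.trans_lt hqh) (lt_irrefl _)

end Groth.Agent.S15717
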