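import Groth.Statements.S15723
import Groth.Agent.GeomHt22.Basic
-- import your own Groth.Agent.* helpers here

set_option autoImplicit false
universe u v
open CAlg

namespace Groth.Agent.S15723

/-- Let A be a Noetherian commutative ring graded by the natural numbers, J a homogeneous ideal of
uniform geometric height h (the height of the homogeneous localization J_(f) in the degree-zero ring
A_(f) is h for every homogeneous f of positive degree outside the radical of J), and q_1, ..., q_t
finitely many prime ideals none of which contains J or the irrelevant ideal A_+. Then there are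
homogeneous elements z_1, ..., z_h of positive degree, lying in J and in no q_i, such that for every
homogeneous f of positive degree outside the radical of J and every 1 ≤ j ≤ h the ideal (z_1, ...,
z_j) has geometric height j with respect to f. (The published statement lets f range over all
homogeneous elements outside the radical of J, degree 0 included; then it fails: in A = k[t][x] with
t of degree 0 and x of degree 1, the ideal J = (t) has geometric height 1 with respect to every
homogeneous f outside its radical, f = 1 included, while (z)_(1) = 0 has height 0 for every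
homogeneous z of positive degree. This row takes f of positive degree, in the hypothesis and in the
conclusion.) -/
theorem result {R : Type u} {A : Type v} [CommRing R] [CommRing A]
    [Algebra R A] [IsNoetherianRing A] (𝒜 : ℕ → Submodule R A) [GradedRing 𝒜]
    (J : Ideal A) (hJ : J.IsHomogeneous 𝒜) (h : ℕ) (hJh : W4c2ratsingkovacs.HasUniformGeomHeight 𝒜 J h)
    (P : Finset (Ideal A)) (hP : ∀ q ∈ P, q.IsPrime ∧ ¬ J ≤ q ∧ ¬ (HomogeneousIdeal.irrelevant 𝒜).toIdeal ≤ q) :
    ∃ zs : List A, zs.length = h ∧
      (∀ z ∈ zs, (∃ n : ℕ, 0 < n ∧ z ∈ 𝒜 n) ∧ z ∈ J ∧ ∀ q ∈ P, z ∉ q) ∧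
      ∀ (f : A) (n : ℕ), 0 < n → f ∈ 𝒜 n → f ∉ J.radical →
        ∀ j : ℕ, 1 ≤ j → j ≤ h → W4c2ratsingkovacs.geomHeight 𝒜 (Ideal.ofList (zs.take j)) f = j := by
  classical
  obtain ⟨zs, hlen, hzs, hht⟩ := GeomHt22.exists_seq 𝒜 J hJ h hJh P hP h le_rfl
  refine ⟨zs, hlen, hzs, fun f n hn hf hfJ j _ hj => le_antisymm ?_ (hht f n hn hf j hj)⟩
  have hgood : GeomHt22.Good 𝒜 J (zs.take j).toFinset := fun z hz =>
    ⟨(hzs z (List.mem_of_mem_take (List.mem_toFinset.1 hz))).1,
      (hzs z (List.mem_of_mem_take (List.mem_toFinset.1 hz))).2.1⟩
  have heq : Ideal.ofList (zs.take j) = Ideal.span ((zs.take j).toFinset : Set A) :=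
    congrArg Ideal.span (by ext; simp)
  rw [heq]
  refine (GeomHt22.height_le 𝒜 hn hf hJ hfJ hgood).trans ?_
  exact_mod_cast (List.toFinset_card_le _).trans (List.length_take_le _ _)

end Groth.Agent.S15723
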