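import Groth.Statements.S15724
import Groth.Agent.W4Hilb.Three
-- import your own Groth.Agent.* helpers here

set_option autoImplicit false
universe u
open W4c2invhilbsl2

namespace Groth.Agent.S15724

/-- Grade the polynomial ring k[X₀,…,X₄] over a field k by ℤ × ℤ/m, giving X₀ weight (1,0), X₁ and X₂
weight (−p,−1), and X₃ and X₄ weight (q,1), where 0 < p < q are coprime integers and m ≥ 1, and let
P be the principal ideal generated by the weight-zero element X₀^(q−p) − X₁X₄ + X₂X₃ (the equation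
of an affine hypersurface). Then every polynomial homogeneous of the weight of X₁ is congruent
modulo P to some a·X₁ + b·X₂ with a and b homogeneous of weight zero, and every polynomial
homogeneous of the weight of X₃ is congruent modulo P to some a·X₃ + b·X₄ with a and b homogeneous
of weight zero. Equivalently, in the coordinate ring of the hypersurface the weight pieces of the
weights of X₁ and of X₃ are generated over the weight-zero subring (the ring of invariants of the
diagonal action of a one-dimensional torus times the group of m-th roots of unity with these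
weights) by X₁, X₂ and by X₃, X₄ respectively. (For the weight of X₁ the congruence is already an
equality in the polynomial ring; for the weight of X₃ the hypersurface equation is needed, e.g.
X₀^(q+p)X₁ has that weight when m divides 2.) -/
theorem result (k : Type u) [Field k] (p q m : ℕ) (hp : 0 < p) (hpq : p < q) (hcop : Nat.Coprime p q) (hm : 0 < m) (f : MvPolynomial (Fin 5) k) :
    (f ∈ MvPolynomial.weightedHomogeneousSubmodule k (W4c2invhilbsl2.wt5 p q m) (W4c2invhilbsl2.wt5 p q m 1) →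
      ∃ a b : MvPolynomial (Fin 5) k, a ∈ MvPolynomial.weightedHomogeneousSubmodule k (W4c2invhilbsl2.wt5 p q m) 0 ∧ b ∈ MvPolynomial.weightedHomogeneousSubmodule k (W4c2invhilbsl2.wt5 p q m) 0 ∧
        f - (a * MvPolynomial.X (1 : Fin 5) + b * MvPolynomial.X (2 : Fin 5)) ∈ Ideal.span {MvPolynomial.X (0 : Fin 5) ^ (q - p) - MvPolynomial.X 1 * MvPolynomial.X 4 + MvPolynomial.X 2 * MvPolynomial.X 3}) ∧
    (f ∈ MvPolynomial.weightedHomogeneousSubmodule k (W4c2invhilbsl2.wt5 p q m) (W4c2invhilbsl2.wt5 p q m 3) →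
      ∃ a b : MvPolynomial (Fin 5) k, a ∈ MvPolynomial.weightedHomogeneousSubmodule k (W4c2invhilbsl2.wt5 p q m) 0 ∧ b ∈ MvPolynomial.weightedHomogeneousSubmodule k (W4c2invhilbsl2.wt5 p q m) 0 ∧
        f - (a * MvPolynomial.X (3 : Fin 5) + b * MvPolynomial.X (4 : Fin 5)) ∈ Ideal.span {MvPolynomial.X (0 : Fin 5) ^ (q - p) - MvPolynomial.X 1 * MvPolynomial.X 4 + MvPolynomial.X 2 * MvPolynomial.X 3}) := by
  have hW1 : W4c2invhilbsl2.wt5 p q m 1 = (-(p : ℤ), -1) := rfl
  have hW3 : W4c2invhilbsl2.wt5 p q m 3 = ((q : ℤ), 1) := rfl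
  constructor
  · refine Groth.Agent.W4Hilb.induction_weighted (P := fun f => ∃ a b : MvPolynomial (Fin 5) k, a ∈ MvPolynomial.weightedHomogeneousSubmodule k (W4c2invhilbsl2.wt5 p q m) 0 ∧ b ∈ MvPolynomial.weightedHomogeneousSubmodule k (W4c2invhilbsl2.wt5 p q m) 0 ∧
        f - (a * MvPolynomial.X (1 : Fin 5) + b * MvPolynomial.X (2 : Fin 5)) ∈ Ideal.span {MvPolynomial.X (0 : Fin 5) ^ (q - p) - MvPolynomial.X 1 * MvPolynomial.X 4 + MvPolynomial.X 2 * MvPolynomial.X 3})
      ⟨0, 0, zero_mem _, zero_mem _, by simp⟩ ?_ ?_ f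
    · rintro x y ⟨a, b, ha, hb, h⟩ ⟨a', b', ha', hb', h'⟩
      refine ⟨a + a', b + b', add_mem ha ha', add_mem hb hb', ?_⟩
      convert add_mem h h' using 1
      ring
    · intro d c hd
      rw [hW1] at hd
      have hmono : ∀ a b e u v : ℕ, (MvPolynomial.monomial (Groth.Agent.W4Hilb.v5 a b e u v) c : MvPolynomial (Fin 5) k) =
          MvPolynomial.C c * (MvPolynomial.X 0 ^ a * MvPolynomial.X 1 ^ b * MvPolynomial.X 2 ^ e * MvPolynomial.X 3 ^ u *
            MvPolynomial.X 4 ^ v) := fun a b e u v => by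
        rw [← Groth.Agent.W4Hilb.mono5, MvPolynomial.C_mul_monomial, mul_one]
      have hw : ∀ a b e u v : ℕ, (a : ℤ) - p * ((b + e : ℕ) : ℤ) + q * ((u + v : ℕ) : ℤ) = 0 →
          ((((u + v : ℕ) : ℤ) - ((b + e : ℕ) : ℤ) : ℤ) : ZMod m) = 0 →
          MvPolynomial.monomial (Groth.Agent.W4Hilb.v5 a b e u v) c ∈
            MvPolynomial.weightedHomogeneousSubmodule k (W4c2invhilbsl2.wt5 p q m) 0 := fun a b e u v h1 h2 =>
        Groth.Agent.W4Hilb.monomial_mem _ _ _ ((Groth.Agent.W4Hilb.weight5 p q m _ _ _ _ _ _ _).mpr ⟨h1, h2⟩)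
      rw [Groth.Agent.W4Hilb.eq_v5 d] at hd ⊢
      obtain ⟨hn, hz⟩ := (Groth.Agent.W4Hilb.weight5 p q m _ _ _ _ _ _ _).mp hd
      generalize d 0 = a, d 1 = b₁, d 2 = b₂, d 3 = e₁, d 4 = e₂ at hn hz hd ⊢
      rcases Nat.eq_zero_or_pos b₁ with h1 | h1
      · rcases Nat.eq_zero_or_pos b₂ with h2 | h2
        · subst h1 h2
          have h1 : (0 : ℤ) ≤ q * (e₁ + e₂ : ℕ) := by positivity
          simp only [add_zero, Nat.cast_zero, mul_zero, sub_zero] at hn
          omega
        · obtain ⟨b₂, rfl⟩ := Nat.exists_eq_succ_of_ne_zero h2.ne'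
          refine ⟨0, _, zero_mem _, hw a b₁ b₂ e₁ e₂ ?_ ?_, ?_⟩
          · push_cast at hn ⊢; linear_combination hn
          · push_cast at hz ⊢; linear_combination hz
          · convert Ideal.zero_mem _ using 1
            simp only [hmono, Nat.succ_eq_add_one, pow_add]; ring
      · obtain ⟨b₁, rfl⟩ := Nat.exists_eq_succ_of_ne_zero h1.ne'
        refine ⟨_, 0, hw a b₁ b₂ e₁ e₂ ?_ ?_, zero_mem _, ?_⟩
        · push_cast at hn ⊢; linear_combination hn
        · push_cast at hz ⊢; linear_combination hz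
        · convert Ideal.zero_mem _ using 1
          simp only [hmono, Nat.succ_eq_add_one, pow_add]; ring
  · refine Groth.Agent.W4Hilb.induction_weighted (P := fun f => ∃ a b : MvPolynomial (Fin 5) k, a ∈ MvPolynomial.weightedHomogeneousSubmodule k (W4c2invhilbsl2.wt5 p q m) 0 ∧ b ∈ MvPolynomial.weightedHomogeneousSubmodule k (W4c2invhilbsl2.wt5 p q m) 0 ∧
        f - (a * MvPolynomial.X (3 : Fin 5) + b * MvPolynomial.X (4 : Fin 5)) ∈ Ideal.span {MvPolynomial.X (0 : Fin 5) ^ (q - p) - MvPolynomial.X 1 * MvPolynomial.X 4 + MvPolynomial.X 2 * MvPolynomial.X 3})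
      ⟨0, 0, zero_mem _, zero_mem _, by simp⟩ ?_ ?_ f
    · rintro x y ⟨a, b, ha, hb, h⟩ ⟨a', b', ha', hb', h'⟩
      refine ⟨a + a', b + b', add_mem ha ha', add_mem hb hb', ?_⟩
      convert add_mem h h' using 1
      ring
    · intro d c hd
      rw [hW3] at hd
      have hmono : ∀ a b e u v : ℕ, (MvPolynomial.monomial (Groth.Agent.W4Hilb.v5 a b e u v) c : MvPolynomial (Fin 5) k) =
          MvPolynomial.C c * (MvPolynomial.X 0 ^ a * MvPolynomial.X 1 ^ b * MvPolynomial.X 2 ^ e * MvPolynomial.X 3 ^ u *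
            MvPolynomial.X 4 ^ v) := fun a b e u v => by
        rw [← Groth.Agent.W4Hilb.mono5, MvPolynomial.C_mul_monomial, mul_one]
      have hw : ∀ a b e u v : ℕ, (a : ℤ) - p * ((b + e : ℕ) : ℤ) + q * ((u + v : ℕ) : ℤ) = 0 →
          ((((u + v : ℕ) : ℤ) - ((b + e : ℕ) : ℤ) : ℤ) : ZMod m) = 0 →
          MvPolynomial.monomial (Groth.Agent.W4Hilb.v5 a b e u v) c ∈
            MvPolynomial.weightedHomogeneousSubmodule k (W4c2invhilbsl2.wt5 p q m) 0 := fun a b e u v h1 h2 =>
        Groth.Agent.W4Hilb.monomial_mem _ _ _ ((Groth.Agent.W4Hilb.weight5 p q m _ _ _ _ _ _ _).mpr ⟨h1, h2⟩)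
      rw [Groth.Agent.W4Hilb.eq_v5 d] at hd ⊢
      obtain ⟨hn, hz⟩ := (Groth.Agent.W4Hilb.weight5 p q m _ _ _ _ _ _ _).mp hd
      generalize d 0 = a, d 1 = b₁, d 2 = b₂, d 3 = e₁, d 4 = e₂ at hn hz hd ⊢
      rcases Nat.eq_zero_or_pos e₁ with h1 | h1
      · rcases Nat.eq_zero_or_pos e₂ with h2 | h2
        · subst h1 h2
          obtain ⟨a, rfl⟩ : ∃ j, a = (q - p) + j := Nat.exists_eq_add_of_le (by
            have h1 : (0 : ℤ) ≤ p * (b₁ + b₂ : ℕ) := by positivity
            simp only [add_zero, Nat.cast_zero, mul_zero, add_zero] at hn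
            omega)
          refine ⟨-MvPolynomial.monomial (Groth.Agent.W4Hilb.v5 a b₁ (b₂ + 1) 0 0) c, _,
            neg_mem (hw a b₁ (b₂ + 1) 0 0 ?_ ?_), hw a (b₁ + 1) b₂ 0 0 ?_ ?_, ?_⟩
          · push_cast [Nat.cast_sub hpq.le] at hn ⊢; linear_combination hn
          · push_cast at hz ⊢; linear_combination hz
          · push_cast [Nat.cast_sub hpq.le] at hn ⊢; linear_combination hn
          · push_cast at hz ⊢; linear_combination hz
          · refine Ideal.mem_span_singleton'.mpr ⟨MvPolynomial.monomial (Groth.Agent.W4Hilb.v5 a b₁ b₂ 0 0) c, ?_⟩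
            simp only [hmono, pow_add]; ring
        · obtain ⟨e₂, rfl⟩ := Nat.exists_eq_succ_of_ne_zero h2.ne'
          refine ⟨0, _, zero_mem _, hw a b₁ b₂ e₁ e₂ ?_ ?_, ?_⟩
          · push_cast at hn ⊢; linear_combination hn
          · push_cast at hz ⊢; linear_combination hz
          · convert Ideal.zero_mem _ using 1
            simp only [hmono, Nat.succ_eq_add_one, pow_add]; ring
      · obtain ⟨e₁, rfl⟩ := Nat.exists_eq_succ_of_ne_zero h1.ne'
        refine ⟨_, 0, hw a b₁ b₂ e₁ e₂ ?_ ?_, zero_mem _, ?_⟩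
        · push_cast at hn ⊢; linear_combination hn
        · push_cast at hz ⊢; linear_combination hz
        · convert Ideal.zero_mem _ using 1
          simp only [hmono, Nat.succ_eq_add_one, pow_add]; ring

end Groth.Agent.S15724
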