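import Groth.Statements.S15725
import Groth.Agent.W4Hilb.Three
-- import your own Groth.Agent.* helpers here

set_option autoImplicit false
universe u
open W4c2invhilbsl2

namespace Groth.Agent.S15725

/-- Grade the polynomial ring k[X₀,X₁,X₂] over a field k by ℤ × ℤ/m, giving X₀ weight (1,0), X₁ weight
(−p,−1) and X₂ weight (q,1), where 0 < p < q are coprime integers and m ≥ 1 (this three-variable
ring stands for the subring k[X₀,X₁,Xⱼ], j = 3 or 4, of the five-variable ring with the same
weights). Then every polynomial homogeneous of weight (q−p, 0) can be written a·X₀^(q−p) + b·X₁X₂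
with a and b homogeneous of weight zero; in other words the weight-(q−p, 0) piece is generated by
X₀^(q−p) and X₁X₂ as a module over the weight-zero subring. -/
theorem result (k : Type u) [Field k] (p q m : ℕ) (hp : 0 < p) (hpq : p < q) (hcop : Nat.Coprime p q) (hm : 0 < m) (f : MvPolynomial (Fin 3) k)
    (hf : f ∈ MvPolynomial.weightedHomogeneousSubmodule k (W4c2invhilbsl2.wt3 p q m) ((q : ℤ) - (p : ℤ), (0 : ZMod m))) :
    ∃ a b : MvPolynomial (Fin 3) k, a ∈ MvPolynomial.weightedHomogeneousSubmodule k (W4c2invhilbsl2.wt3 p q m) 0 ∧ b ∈ MvPolynomial.weightedHomogeneousSubmodule k (W4c2invhilbsl2.wt3 p q m) 0 ∧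
      f = a * MvPolynomial.X (0 : Fin 3) ^ (q - p) + b * (MvPolynomial.X (1 : Fin 3) * MvPolynomial.X (2 : Fin 3)) := by
  refine Groth.Agent.W4Hilb.induction_weighted (P := fun f => ∃ a b : MvPolynomial (Fin 3) k, a ∈ MvPolynomial.weightedHomogeneousSubmodule k (W4c2invhilbsl2.wt3 p q m) 0 ∧ b ∈ MvPolynomial.weightedHomogeneousSubmodule k (W4c2invhilbsl2.wt3 p q m) 0 ∧
      f = a * MvPolynomial.X (0 : Fin 3) ^ (q - p) + b * (MvPolynomial.X (1 : Fin 3) * MvPolynomial.X (2 : Fin 3)))
    ⟨0, 0, zero_mem _, zero_mem _, by simp⟩ ?_ ?_ f hf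
  · rintro _ _ ⟨a, b, ha, hb, rfl⟩ ⟨a', b', ha', hb', rfl⟩
    exact ⟨a + a', b + b', add_mem ha ha', add_mem hb hb', by ring⟩
  · intro d c hd
    rw [Groth.Agent.W4Hilb.eq_v3 d] at hd ⊢
    obtain ⟨hn, hz⟩ := (Groth.Agent.W4Hilb.weight3 p q m _ _ _ _ _).mp hd
    have hmono : ∀ a b e : ℕ, (MvPolynomial.monomial (Groth.Agent.W4Hilb.v3 a b e) c : MvPolynomial (Fin 3) k) =
        MvPolynomial.C c * (MvPolynomial.X 0 ^ a * MvPolynomial.X 1 ^ b * MvPolynomial.X 2 ^ e) := fun a b e => by
      rw [← Groth.Agent.W4Hilb.mono3, MvPolynomial.C_mul_monomial, mul_one]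
    generalize d 0 = a, d 1 = u, d 2 = v at hn hz hd ⊢
    by_cases hq : q - p ≤ a
    · obtain ⟨a, rfl⟩ := Nat.exists_eq_add_of_le hq
      refine ⟨MvPolynomial.monomial (Groth.Agent.W4Hilb.v3 a u v) c, 0,
        Groth.Agent.W4Hilb.monomial_mem _ _ _ ((Groth.Agent.W4Hilb.weight3 p q m _ _ _ _ _).mpr ⟨?_, hz⟩), zero_mem _, ?_⟩
      · push_cast [Nat.cast_sub hpq.le] at hn; linear_combination hn
      · simp only [hmono, pow_add]; ring
    · obtain ⟨u, rfl⟩ : ∃ j, u = j + 1 := ⟨u - 1, by
        rcases Nat.eq_zero_or_pos u with h | h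
        · subst h
          rcases Nat.eq_zero_or_pos v with hv | hv
          · subst hv; simp at hn; omega
          · have : (q : ℤ) ≤ q * v := le_mul_of_one_le_right (by positivity) (by exact_mod_cast hv)
            simp at hn; omega
        · omega⟩
      obtain ⟨v, rfl⟩ : ∃ j, v = j + 1 := ⟨v - 1, by
        rcases Nat.eq_zero_or_pos v with h | h
        · subst h
          have h1 : (0 : ℤ) ≤ p * (u + 1 : ℕ) := by positivity
          simp only [Nat.cast_zero, mul_zero, add_zero] at hn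
          omega
        · omega⟩
      refine ⟨0, MvPolynomial.monomial (Groth.Agent.W4Hilb.v3 a u v) c, zero_mem _,
        Groth.Agent.W4Hilb.monomial_mem _ _ _ ((Groth.Agent.W4Hilb.weight3 p q m _ _ _ _ _).mpr ⟨?_, ?_⟩), ?_⟩
      · push_cast at hn ⊢; linear_combination hn
      · push_cast at hz ⊢; linear_combination hz
      · simp only [hmono, pow_add]; ring

end Groth.Agent.S15725
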