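import Groth.Statements.S15726
import Groth.Agent.W4Hilb.Three
-- import your own Groth.Agent.* helpers here

set_option autoImplicit false
universe u
open W4c2invhilbsl2

namespace Groth.Agent.S15726

/-- Grade the polynomial ring k[X₀,…,X₄] over a field k by ℤ × ℤ/m, giving X₀ weight (1,0), X₁ and X₂
weight (−p,−1), and X₃ and X₄ weight (q,1), where 0 < p < q are coprime integers and m ≥ 1. Then
modulo the principal ideal generated by the weight-zero element X₀^(q−p) − X₁X₄ + X₂X₃ (the equation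
of an affine hypersurface), every polynomial homogeneous of weight (q−p, 0) is congruent to a
combination a₁₃X₁X₃ + a₁₄X₁X₄ + a₂₃X₂X₃ + a₂₄X₂X₄ whose four coefficients are homogeneous of weight
zero. Equivalently, in the coordinate ring of the hypersurface the weight-(q−p, 0) piece is
generated over the weight-zero subring (the invariant ring of the diagonal action with these
weights) by the span of the four products XₐX_b with a ∈ {1,2} and b ∈ {3,4}. (The published
statement is over the complex numbers; this row takes any field.) -/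
theorem result (k : Type u) [Field k] (p q m : ℕ) (hp : 0 < p) (hpq : p < q) (hcop : Nat.Coprime p q) (hm : 0 < m) (f : MvPolynomial (Fin 5) k)
    (hf : f ∈ MvPolynomial.weightedHomogeneousSubmodule k (W4c2invhilbsl2.wt5 p q m) ((q : ℤ) - (p : ℤ), (0 : ZMod m))) :
    ∃ a₁₃ a₁₄ a₂₃ a₂₄ : MvPolynomial (Fin 5) k,
      a₁₃ ∈ MvPolynomial.weightedHomogeneousSubmodule k (W4c2invhilbsl2.wt5 p q m) 0 ∧ a₁₄ ∈ MvPolynomial.weightedHomogeneousSubmodule k (W4c2invhilbsl2.wt5 p q m) 0 ∧ a₂₃ ∈ MvPolynomial.weightedHomogeneousSubmodule k (W4c2invhilbsl2.wt5 p q m) 0 ∧ a₂₄ ∈ MvPolynomial.weightedHomogeneousSubmodule k (W4c2invhilbsl2.wt5 p q m) 0 ∧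
      f - (a₁₃ * (MvPolynomial.X (1 : Fin 5) * MvPolynomial.X 3) + a₁₄ * (MvPolynomial.X (1 : Fin 5) * MvPolynomial.X 4) +
          a₂₃ * (MvPolynomial.X (2 : Fin 5) * MvPolynomial.X 3) + a₂₄ * (MvPolynomial.X (2 : Fin 5) * MvPolynomial.X 4)) ∈
        Ideal.span {MvPolynomial.X (0 : Fin 5) ^ (q - p) - MvPolynomial.X 1 * MvPolynomial.X 4 + MvPolynomial.X 2 * MvPolynomial.X 3} := by
  refine Groth.Agent.W4Hilb.induction_weighted (P := fun f => ∃ a₁₃ a₁₄ a₂₃ a₂₄ : MvPolynomial (Fin 5) k,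
      a₁₃ ∈ MvPolynomial.weightedHomogeneousSubmodule k (W4c2invhilbsl2.wt5 p q m) 0 ∧ a₁₄ ∈ MvPolynomial.weightedHomogeneousSubmodule k (W4c2invhilbsl2.wt5 p q m) 0 ∧ a₂₃ ∈ MvPolynomial.weightedHomogeneousSubmodule k (W4c2invhilbsl2.wt5 p q m) 0 ∧ a₂₄ ∈ MvPolynomial.weightedHomogeneousSubmodule k (W4c2invhilbsl2.wt5 p q m) 0 ∧
      f - (a₁₃ * (MvPolynomial.X (1 : Fin 5) * MvPolynomial.X 3) + a₁₄ * (MvPolynomial.X (1 : Fin 5) * MvPolynomial.X 4) +
          a₂₃ * (MvPolynomial.X (2 : Fin 5) * MvPolynomial.X 3) + a₂₄ * (MvPolynomial.X (2 : Fin 5) * MvPolynomial.X 4)) ∈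
        Ideal.span {MvPolynomial.X (0 : Fin 5) ^ (q - p) - MvPolynomial.X 1 * MvPolynomial.X 4 + MvPolynomial.X 2 * MvPolynomial.X 3})
    ⟨0, 0, 0, 0, zero_mem _, zero_mem _, zero_mem _, zero_mem _, by simp⟩ ?_ ?_ f hf
  · rintro x y ⟨a, b, e, r, ha, hb, he, hr, h⟩ ⟨a', b', e', r', ha', hb', he', hr', h'⟩
    refine ⟨a + a', b + b', e + e', r + r', add_mem ha ha', add_mem hb hb', add_mem he he', add_mem hr hr', ?_⟩
    convert add_mem h h' using 1
    ring
  · intro d c hd
    have hmono : ∀ a b e u v : ℕ, (MvPolynomial.monomial (Groth.Agent.W4Hilb.v5 a b e u v) c : MvPolynomial (Fin 5) k) =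
        MvPolynomial.C c * (MvPolynomial.X 0 ^ a * MvPolynomial.X 1 ^ b * MvPolynomial.X 2 ^ e * MvPolynomial.X 3 ^ u *
          MvPolynomial.X 4 ^ v) := fun a b e u v => by
      rw [← Groth.Agent.W4Hilb.mono5, MvPolynomial.C_mul_monomial, mul_one]
    have hw : ∀ a b e u v : ℕ, (a : ℤ) - p * ((b + e : ℕ) : ℤ) + q * ((u + v : ℕ) : ℤ) = 0 →
        ((((u + v : ℕ) : ℤ) - ((b + e : ℕ) : ℤ) : ℤ) : ZMod m) = 0 →
        MvPolynomial.monomial (Groth.Agent.W4Hilb.v5 a b e u v) c ∈
          MvPolynomial.weightedHomogeneousSubmodule k (W4c2invhilbsl2.wt5 p q m) 0 := fun a b e u v h1 h2 =>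
      Groth.Agent.W4Hilb.monomial_mem _ _ _ ((Groth.Agent.W4Hilb.weight5 p q m _ _ _ _ _ _ _).mpr ⟨h1, h2⟩)
    rw [Groth.Agent.W4Hilb.eq_v5 d] at hd ⊢
    obtain ⟨hn, hz⟩ := (Groth.Agent.W4Hilb.weight5 p q m _ _ _ _ _ _ _).mp hd
    generalize d 0 = a, d 1 = b₁, d 2 = b₂, d 3 = e₁, d 4 = e₂ at hn hz hd ⊢
    by_cases hq : q - p ≤ a
    · obtain ⟨a, rfl⟩ := Nat.exists_eq_add_of_le hq
      refine ⟨0, MvPolynomial.monomial (Groth.Agent.W4Hilb.v5 a b₁ b₂ e₁ e₂) c,
        -MvPolynomial.monomial (Groth.Agent.W4Hilb.v5 a b₁ b₂ e₁ e₂) c, 0, zero_mem _, hw _ _ _ _ _ ?_ ?_,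
        neg_mem (hw _ _ _ _ _ ?_ ?_), zero_mem _, ?_⟩
      · push_cast [Nat.cast_sub hpq.le] at hn ⊢; linear_combination hn
      · push_cast at hz ⊢; linear_combination hz
      · push_cast [Nat.cast_sub hpq.le] at hn ⊢; linear_combination hn
      · push_cast at hz ⊢; linear_combination hz
      · refine Ideal.mem_span_singleton'.mpr ⟨MvPolynomial.monomial (Groth.Agent.W4Hilb.v5 a b₁ b₂ e₁ e₂) c, ?_⟩
        simp only [hmono, pow_add]; ring
    · have hb : 0 < b₁ + b₂ := by
        by_contra h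
        rw [show b₁ + b₂ = 0 by omega] at hn
        rcases Nat.eq_zero_or_pos (e₁ + e₂) with he | he
        · rw [he] at hn; simp at hn; omega
        · have : (q : ℤ) ≤ q * (e₁ + e₂ : ℕ) := le_mul_of_one_le_right (by positivity) (by exact_mod_cast he)
          simp only [Nat.cast_zero, mul_zero, sub_zero] at hn
          omega
      have he : 0 < e₁ + e₂ := by
        by_contra h
        rw [show e₁ + e₂ = 0 by omega] at hn
        have : (0 : ℤ) ≤ p * (b₁ + b₂ : ℕ) := by positivity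
        simp only [Nat.cast_zero, mul_zero, add_zero] at hn
        omega
      rcases Nat.eq_zero_or_pos b₁ with h1 | h1
      · obtain ⟨b₂, rfl⟩ := Nat.exists_eq_succ_of_ne_zero (show b₂ ≠ 0 by omega)
        rcases Nat.eq_zero_or_pos e₁ with h3 | h3
        · obtain ⟨e₂, rfl⟩ := Nat.exists_eq_succ_of_ne_zero (show e₂ ≠ 0 by omega)
          refine ⟨0, 0, 0, _, zero_mem _, zero_mem _, zero_mem _, hw a b₁ b₂ e₁ e₂ ?_ ?_, ?_⟩
          · push_cast at hn ⊢; linear_combination hn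
          · push_cast at hz ⊢; linear_combination hz
          · convert Ideal.zero_mem _ using 1
            simp only [hmono, Nat.succ_eq_add_one, pow_add]; ring
        · obtain ⟨e₁, rfl⟩ := Nat.exists_eq_succ_of_ne_zero h3.ne'
          refine ⟨0, 0, _, 0, zero_mem _, zero_mem _, hw a b₁ b₂ e₁ e₂ ?_ ?_, zero_mem _, ?_⟩
          · push_cast at hn ⊢; linear_combination hn
          · push_cast at hz ⊢; linear_combination hz
          · convert Ideal.zero_mem _ using 1
            simp only [hmono, Nat.succ_eq_add_one, pow_add]; ring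
      · obtain ⟨b₁, rfl⟩ := Nat.exists_eq_succ_of_ne_zero h1.ne'
        rcases Nat.eq_zero_or_pos e₁ with h3 | h3
        · obtain ⟨e₂, rfl⟩ := Nat.exists_eq_succ_of_ne_zero (show e₂ ≠ 0 by omega)
          refine ⟨0, _, 0, 0, zero_mem _, hw a b₁ b₂ e₁ e₂ ?_ ?_, zero_mem _, zero_mem _, ?_⟩
          · push_cast at hn ⊢; linear_combination hn
          · push_cast at hz ⊢; linear_combination hz
          · convert Ideal.zero_mem _ using 1
            simp only [hmono, Nat.succ_eq_add_one, pow_add]; ring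
        · obtain ⟨e₁, rfl⟩ := Nat.exists_eq_succ_of_ne_zero h3.ne'
          refine ⟨_, 0, 0, 0, hw a b₁ b₂ e₁ e₂ ?_ ?_, zero_mem _, zero_mem _, zero_mem _, ?_⟩
          · push_cast at hn ⊢; linear_combination hn
          · push_cast at hz ⊢; linear_combination hz
          · convert Ideal.zero_mem _ using 1
            simp only [hmono, Nat.succ_eq_add_one, pow_add]; ring

end Groth.Agent.S15726
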