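import Groth.Statements.S15727
import Groth.Agent.W4Hilb.Three
-- import your own Groth.Agent.* helpers here

set_option autoImplicit false
universe u
open W4c2invhilbsl2

namespace Groth.Agent.S15727

/-- Let k be an algebraically closed field, 0 < p < q coprime integers and m ≥ 1, and grade k[X₀,…,X₄]
by ℤ × ℤ/m, giving X₀ weight (1,0), X₁ and X₂ weight (−p,−1), and X₃ and X₄ weight (q,1). For s ∈ k
let I_s be the ideal (X₀^(q−p) − X₁X₄, X₂, X₃, s − X₀^(mp)X₁^m), whose generators are homogeneous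
(the last one of weight zero). Then for every weight ν the image in k[X₀,…,X₄]/I_s of the
homogeneous polynomials of weight ν is a k-vector space of dimension at most 1. (The published
statement asserts that this dimension equals 1 for every ν and every s, namely that the quotient has
the Hilbert function of the regular representation of the grading group; this row states the upper
bound, the half obtained from the monomial analysis of the weight pieces, while the lower bound
there is drawn from the moduli interpretation of these ideals. The published statement is over the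
complex numbers; this row takes any algebraically closed field, which is what the reduction to s =
0, 1 by rescaling the variables uses.) -/
theorem result (k : Type u) [Field k] [IsAlgClosed k] (p q m : ℕ) (hp : 0 < p) (hpq : p < q) (hcop : Nat.Coprime p q) (hm : 0 < m) (s : k) (ν : ℤ × ZMod m) :
    Module.rank k (W4c2invhilbsl2.piece k (W4c2invhilbsl2.wt5 p q m) (W4c2invhilbsl2.idealI k p q m s) ν) ≤ 1 := by
  classical
  let π := Ideal.Quotient.mk (W4c2invhilbsl2.idealI k p q m s)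
  let x : Fin 5 → MvPolynomial (Fin 5) k ⧸ W4c2invhilbsl2.idealI k p q m s := fun i => π (MvPolynomial.X i)
  have hg : ∀ f ∈ ({MvPolynomial.X 0 ^ (q - p) - MvPolynomial.X 1 * MvPolynomial.X 4, MvPolynomial.X 2, MvPolynomial.X 3,
      MvPolynomial.C s - MvPolynomial.X 0 ^ (m * p) * MvPolynomial.X 1 ^ m} : Set (MvPolynomial (Fin 5) k)), π f = 0 :=
    fun f hf => Ideal.Quotient.eq_zero_iff_mem.mpr (Ideal.subset_span hf)
  have hr : x 0 ^ (q - p) = x 1 * x 4 := by
    have := hg _ (Or.inl rfl)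
    rwa [map_sub, map_pow, map_mul, sub_eq_zero] at this
  have h2 : x 2 = 0 := hg _ (Or.inr (Or.inl rfl))
  have h3 : x 3 = 0 := hg _ (Or.inr (Or.inr (Or.inl rfl)))
  have hs : π (MvPolynomial.C s) = x 0 ^ (m * p) * x 1 ^ m := by
    have := hg _ (Or.inr (Or.inr (Or.inr rfl)))
    rwa [map_sub, map_mul, map_pow, map_pow, sub_eq_zero] at this
  refine Groth.Agent.W4Hilb.rank_piece_le_one fun d d' hd hd' => ?_
  rw [Groth.Agent.W4Hilb.eq_v5 d] at hd ⊢
  rw [Groth.Agent.W4Hilb.eq_v5 d'] at hd' ⊢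
  obtain ⟨n, z⟩ := ν
  obtain ⟨hn, hz⟩ := (Groth.Agent.W4Hilb.weight5 p q m _ _ _ _ _ _ _).mp hd
  obtain ⟨hn', hz'⟩ := (Groth.Agent.W4Hilb.weight5 p q m _ _ _ _ _ _ _).mp hd'
  generalize d 0 = a, d 1 = b, d 2 = u, d 3 = v, d 4 = e at hn hz hd ⊢
  generalize d' 0 = a', d' 1 = b', d' 2 = u', d' 3 = v', d' 4 = e' at hn' hz' hd' ⊢
  simp only [← Ideal.Quotient.eq_zero_iff_mem, Groth.Agent.W4Hilb.mono5, map_sub, map_mul, map_pow, sub_eq_zero]
  change (∃ c : k, x 0 ^ a * x 1 ^ b * x 2 ^ u * x 3 ^ v * x 4 ^ e = π (MvPolynomial.C c) * (x 0 ^ a' * x 1 ^ b' * x 2 ^ u' * x 3 ^ v' * x 4 ^ e')) ∨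
    (∃ c : k, x 0 ^ a' * x 1 ^ b' * x 2 ^ u' * x 3 ^ v' * x 4 ^ e' = π (MvPolynomial.C c) * (x 0 ^ a * x 1 ^ b * x 2 ^ u * x 3 ^ v * x 4 ^ e))
  have hzero : ∀ c : MvPolynomial (Fin 5) k ⧸ W4c2invhilbsl2.idealI k p q m s, π (MvPolynomial.C (0 : k)) * c = 0 :=
    fun c => by simp
  by_cases h0 : u ≠ 0 ∨ v ≠ 0
  · exact Or.inl ⟨0, by rcases h0 with h | h <;> simp [h2, h3, zero_pow h]⟩
  by_cases h0' : u' ≠ 0 ∨ v' ≠ 0
  · exact Or.inr ⟨0, by rcases h0' with h | h <;> simp [h2, h3, zero_pow h]⟩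
  push Not at h0 h0'
  obtain ⟨rfl, rfl⟩ := h0
  obtain ⟨rfl, rfl⟩ := h0'
  simp only [pow_zero, mul_one]
  have key : ∀ a b e a' b' e' z : ℕ, (a : ℤ) - p * b + q * e = a' - p * b' + q * e' →
      (b' : ℤ) - e' = b - e + m * z → x 0 ^ a' * x 1 ^ b' * x 4 ^ e' =
        π (MvPolynomial.C (s ^ z)) * (x 0 ^ a * x 1 ^ b * x 4 ^ e) := by
    intro a b e a' b' e' z h1 h2'
    rw [map_pow, map_pow, hs, mul_pow, ← pow_mul, ← pow_mul,
      Groth.Agent.W4Hilb.rel3 (x 0) (x 1) (x 4) (q - p) hr a' b' e' (a + m * p * z) (b + m * z) e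
        (by push_cast; linear_combination h2') (by
          push_cast [Nat.cast_sub hpq.le]
          linear_combination -h1 + (q : ℤ) * h2')]
    ring
  simp only [zero_add, add_zero] at hn hn' hz hz'
  obtain ⟨z₀, hz₀⟩ := Groth.Agent.W4Hilb.cast_eq_cast.mp (hz.trans hz'.symm)
  rcases Int.eq_nat_or_neg z₀ with ⟨z, rfl | rfl⟩
  · exact Or.inl ⟨s ^ z, key a' b' e' a b e z (hn'.trans hn.symm) (by linear_combination hz₀)⟩
  · exact Or.inr ⟨s ^ z, key a b e a' b' e' z (hn.trans hn'.symm) (by linear_combination -hz₀)⟩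

end Groth.Agent.S15727
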