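import Groth.Statements.S15728
import Groth.Agent.W4Hilb.Three
-- import your own Groth.Agent.* helpers here

set_option autoImplicit false
universe u
open W4c2invhilbsl2

namespace Groth.Agent.S15728

/-- Let k be an algebraically closed field, 0 < p < q coprime integers and m ≥ 1; put g = gcd(m, q−p)
and a = m/g, and grade k[X₀,…,X₄] by ℤ × ℤ/m, giving X₀ weight (1,0), X₁ and X₂ weight (−p,−1), and
X₃ and X₄ weight (q,1). For s ∈ k let J_s be the ideal (X₀^g, X₂, X₄, s − X₁^(aq)X₃^(ap)), whose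
generators are homogeneous (the last one of weight zero). Then for every weight ν the image in
k[X₀,…,X₄]/J_s of the homogeneous polynomials of weight ν is a k-vector space of dimension at most
1. (The published statement asserts that this dimension equals 1 for every ν and every s; this row
states the upper bound, the half obtained from the monomial analysis of the weight pieces, while the
lower bound there is drawn from the moduli interpretation of these ideals. The published statement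
is over the complex numbers; this row takes any algebraically closed field, which is what the
reduction to s = 0, 1 by rescaling the variables uses.) -/
theorem result (k : Type u) [Field k] [IsAlgClosed k] (p q m : ℕ) (hp : 0 < p) (hpq : p < q) (hcop : Nat.Coprime p q) (hm : 0 < m) (s : k) (ν : ℤ × ZMod m) :
    Module.rank k (W4c2invhilbsl2.piece k (W4c2invhilbsl2.wt5 p q m) (W4c2invhilbsl2.idealJ k p q m s) ν) ≤ 1 := by
  classical
  set g := Nat.gcd m (q - p) with hgdef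
  set r := m / g with hrdef
  let π := Ideal.Quotient.mk (W4c2invhilbsl2.idealJ k p q m s)
  let x : Fin 5 → MvPolynomial (Fin 5) k ⧸ W4c2invhilbsl2.idealJ k p q m s := fun i => π (MvPolynomial.X i)
  have hg : ∀ f ∈ ({MvPolynomial.X 0 ^ g, MvPolynomial.X 2, MvPolynomial.X 4,
      MvPolynomial.C s - MvPolynomial.X 1 ^ (r * q) * MvPolynomial.X 3 ^ (r * p)} : Set (MvPolynomial (Fin 5) k)), π f = 0 :=
    fun f hf => Ideal.Quotient.eq_zero_iff_mem.mpr (Ideal.subset_span hf)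
  have h0x : x 0 ^ g = 0 := (map_pow π (MvPolynomial.X 0) g).symm.trans (hg _ (Or.inl rfl))
  have h2 : x 2 = 0 := hg _ (Or.inr (Or.inl rfl))
  have h4 : x 4 = 0 := hg _ (Or.inr (Or.inr (Or.inl rfl)))
  have hs : π (MvPolynomial.C s) = x 1 ^ (r * q) * x 3 ^ (r * p) := by
    have := hg _ (Or.inr (Or.inr (Or.inr rfl)))
    rwa [map_sub, map_mul, map_pow, map_pow, sub_eq_zero] at this
  have hD : 0 < q - p := Nat.sub_pos_of_lt hpq
  have gpos : 0 < g := Nat.gcd_pos_of_pos_right _ hD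
  obtain ⟨r', hr'⟩ : g ∣ m := Nat.gcd_dvd_left _ _
  obtain ⟨b, hb⟩ : g ∣ q - p := Nat.gcd_dvd_right _ _
  have hrr : r = r' := by rw [hrdef, hr', Nat.mul_div_cancel_left _ gpos]
  subst hrr
  have hcop : Nat.Coprime r b := by
    have h1 : Nat.gcd (g * r) (g * b) = g := by rw [← hr', ← hb]
    rw [Nat.gcd_mul_left] at h1
    exact Nat.eq_of_mul_eq_mul_left gpos (h1.trans (mul_one g).symm)
  have hpqc : IsCoprime (p : ℤ) (q : ℤ) := Nat.isCoprime_iff_coprime.mpr ‹Nat.Coprime p q›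
  refine Groth.Agent.W4Hilb.rank_piece_le_one fun d d' hd hd' => ?_
  rw [Groth.Agent.W4Hilb.eq_v5 d] at hd ⊢
  rw [Groth.Agent.W4Hilb.eq_v5 d'] at hd' ⊢
  obtain ⟨n, z⟩ := ν
  obtain ⟨hn, hz⟩ := (Groth.Agent.W4Hilb.weight5 p q m _ _ _ _ _ _ _).mp hd
  obtain ⟨hn', hz'⟩ := (Groth.Agent.W4Hilb.weight5 p q m _ _ _ _ _ _ _).mp hd'
  generalize d 0 = a, d 1 = u, d 2 = u₂, d 3 = v, d 4 = e at hn hz hd ⊢
  generalize d' 0 = a', d' 1 = u', d' 2 = u₂', d' 3 = v', d' 4 = e' at hn' hz' hd' ⊢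
  simp only [← Ideal.Quotient.eq_zero_iff_mem, Groth.Agent.W4Hilb.mono5, map_sub, map_mul, map_pow, sub_eq_zero]
  change (∃ c : k, x 0 ^ a * x 1 ^ u * x 2 ^ u₂ * x 3 ^ v * x 4 ^ e = π (MvPolynomial.C c) * (x 0 ^ a' * x 1 ^ u' * x 2 ^ u₂' * x 3 ^ v' * x 4 ^ e')) ∨
    (∃ c : k, x 0 ^ a' * x 1 ^ u' * x 2 ^ u₂' * x 3 ^ v' * x 4 ^ e' = π (MvPolynomial.C c) * (x 0 ^ a * x 1 ^ u * x 2 ^ u₂ * x 3 ^ v * x 4 ^ e))
  by_cases hbad : u₂ ≠ 0 ∨ e ≠ 0 ∨ g ≤ a
  · exact Or.inl ⟨0, by rcases hbad with h | h | h <;> simp [h2, h4, zero_pow, h, pow_eq_zero_of_le _ h0x]⟩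
  by_cases hbad' : u₂' ≠ 0 ∨ e' ≠ 0 ∨ g ≤ a'
  · exact Or.inr ⟨0, by rcases hbad' with h | h | h <;> simp [h2, h4, zero_pow, h, pow_eq_zero_of_le _ h0x]⟩
  push Not at hbad hbad'
  obtain ⟨rfl, rfl, hag⟩ := hbad
  obtain ⟨rfl, rfl, hag'⟩ := hbad'
  simp only [pow_zero, mul_one]
  simp only [zero_add, add_zero] at hn hn' hz hz'
  obtain ⟨z₀, hz₀⟩ := Groth.Agent.W4Hilb.cast_eq_cast.mp (hz.trans hz'.symm)
  have hbZ : (q : ℤ) - p = g * b := by rw [← Nat.cast_sub hpq.le, hb, Nat.cast_mul]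
  have hmZ : (m : ℤ) = g * r := by rw [hr', Nat.cast_mul]
  obtain rfl : a = a' := by
    have hdiv : (g : ℤ) ∣ ((a : ℤ) - a') := ⟨(p : ℤ) * r * z₀ + b * ((v' : ℤ) - v), by
      linear_combination hn - hn' + ((v' : ℤ) - v) * hbZ + (p : ℤ) * z₀ * hmZ + (p : ℤ) * hz₀⟩
    have := Int.eq_zero_of_abs_lt_dvd hdiv (by rw [abs_lt]; omega)
    omega
  have hpq' : (p : ℤ) * ((u : ℤ) - u') = q * ((v : ℤ) - v') := by linear_combination hn' - hn
  obtain ⟨j, hj⟩ : (q : ℤ) ∣ (u : ℤ) - u' :=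
    (hpqc.symm).dvd_of_dvd_mul_left ⟨_, hpq'⟩
  have hv : (v : ℤ) - v' = p * j := by
    have hq0 : (q : ℤ) ≠ 0 := by omega
    refine mul_left_cancel₀ hq0 ?_
    linear_combination -hpq' + (p : ℤ) * hj
  obtain ⟨i, hi⟩ : (r : ℤ) ∣ j := by
    refine (Nat.isCoprime_iff_coprime.mpr hcop).dvd_of_dvd_mul_left ⟨z₀, ?_⟩
    refine mul_left_cancel₀ (show (g : ℤ) ≠ 0 by omega) ?_
    linear_combination -(j * hbZ) + z₀ * hmZ + hz₀ - hj + hv
  have key : ∀ u v u' v' z : ℕ, u' = u + r * q * z → v' = v + r * p * z →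
      x 0 ^ a * x 1 ^ u' * x 3 ^ v' = π (MvPolynomial.C (s ^ z)) * (x 0 ^ a * x 1 ^ u * x 3 ^ v) := by
    intro u v u' v' z e1 e2
    rw [e1, e2, map_pow, map_pow, hs, mul_pow, ← pow_mul, ← pow_mul]
    ring
  rcases Int.eq_nat_or_neg i with ⟨z, rfl | rfl⟩
  · refine Or.inl ⟨s ^ z, key u' v' u v z ?_ ?_⟩ <;> zify
    · linear_combination hj + (q : ℤ) * hi
    · linear_combination hv + (p : ℤ) * hi
  · refine Or.inr ⟨s ^ z, key u v u' v' z ?_ ?_⟩ <;> zify
    · linear_combination -hj - (q : ℤ) * hi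
    · linear_combination -hv - (p : ℤ) * hi

end Groth.Agent.S15728
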