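import Groth.Statements.S15729
import Groth.Agent.W4Hilb.Three
-- import your own Groth.Agent.* helpers here

set_option autoImplicit false
universe u
open W4c2invhilbsl2

namespace Groth.Agent.S15729

/-- Let 0 < p < q be coprime integers and m ≥ 1 such that q − p does not divide m; put g = gcd(m, q−p),
b = (q−p)/g, α = ⌊mp/(q−p)⌋, β = the remainder of mp modulo q−p and t = (q−p−β)/g, so that 1 ≤ t <
b, and let b/t = c₁ − 1/(c₂ − 1/(⋯ − 1/c_r)) be the negative-regular (Hirzebruch–Jung) continued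
fraction expansion with every cᵢ ≥ 2; set P₀ = 0, P₁ = 1, Q₀ = −1, Q₁ = 0, Pᵢ = cᵢ₋₁Pᵢ₋₁ − Pᵢ₋₂, Qᵢ
= cᵢ₋₁Qᵢ₋₁ − Qᵢ₋₂ for 2 ≤ i ≤ r+1, and eᵢ = (α+1+m)Pᵢ − Qᵢ, lᵢ = (α+1)Pᵢ − Qᵢ, nᵢ = q·lᵢ − p·eᵢ,
which are non-negative integers for 0 ≤ i ≤ r+1. Grade the polynomial ring k[X₀,X₁,X₂] over a field
k by ℤ × ℤ/m with weights (1,0), (−p,−1), (q,1) (it stands for k[X₀,X₁,Xⱼ], j = 3 or 4, inside the
five-variable ring). Then for every 1 ≤ i ≤ r, every polynomial homogeneous of weight (nᵢ, 0) can be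
written a·X₀^(nᵢ) + b·X₁^(eᵢ)X₂^(lᵢ) with a and b homogeneous of weight zero; that is, the
weight-(nᵢ,0) piece is generated over the weight-zero subring by X₀^(nᵢ) and X₁^(eᵢ)X₂^(lᵢ). -/
theorem result (k : Type u) [Field k] (p q m : ℕ) (hp : 0 < p) (hpq : p < q) (hcop : Nat.Coprime p q) (hm : 0 < m) (hnt : ¬ (q - p ∣ m)) (c : List ℤ) (hc : W4c2invhilbsl2.IsHJDigits p q m c) (i : ℕ) (hi : 1 ≤ i) (hir : i ≤ c.length)
    (f : MvPolynomial (Fin 3) k) (hf : f ∈ MvPolynomial.weightedHomogeneousSubmodule k (W4c2invhilbsl2.wt3 p q m) (W4c2invhilbsl2.nN p q m c i, (0 : ZMod m))) :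
    ∃ a b : MvPolynomial (Fin 3) k, a ∈ MvPolynomial.weightedHomogeneousSubmodule k (W4c2invhilbsl2.wt3 p q m) 0 ∧ b ∈ MvPolynomial.weightedHomogeneousSubmodule k (W4c2invhilbsl2.wt3 p q m) 0 ∧
      f = a * MvPolynomial.X (0 : Fin 3) ^ (W4c2invhilbsl2.nN p q m c i).toNat +
        b * (MvPolynomial.X (1 : Fin 3) ^ (W4c2invhilbsl2.eE p q m c i).toNat * MvPolynomial.X (2 : Fin 3) ^ (W4c2invhilbsl2.lL p q m c i).toNat) := by
  have F := Groth.Agent.W4Hilb.facts p q m hp hpq hcop hnt c hc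
  obtain ⟨he0, hl0⟩ := F.exp_nonneg hpq hi hir
  obtain ⟨hn0, -⟩ := F.nN_lt hpq hi hir
  refine Groth.Agent.W4Hilb.induction_weighted (P := fun f => ∃ a b : MvPolynomial (Fin 3) k, a ∈ MvPolynomial.weightedHomogeneousSubmodule k (W4c2invhilbsl2.wt3 p q m) 0 ∧ b ∈ MvPolynomial.weightedHomogeneousSubmodule k (W4c2invhilbsl2.wt3 p q m) 0 ∧
      f = a * MvPolynomial.X (0 : Fin 3) ^ (W4c2invhilbsl2.nN p q m c i).toNat +
        b * (MvPolynomial.X (1 : Fin 3) ^ (W4c2invhilbsl2.eE p q m c i).toNat * MvPolynomial.X (2 : Fin 3) ^ (W4c2invhilbsl2.lL p q m c i).toNat))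
    ⟨0, 0, zero_mem _, zero_mem _, by simp⟩ ?_ ?_ f hf
  · rintro _ _ ⟨a, b, ha, hb, rfl⟩ ⟨a', b', ha', hb', rfl⟩
    exact ⟨a + a', b + b', add_mem ha ha', add_mem hb hb', by ring⟩
  · intro d co hd
    rw [Groth.Agent.W4Hilb.eq_v3 d] at hd ⊢
    obtain ⟨hn, hz⟩ := (Groth.Agent.W4Hilb.weight3 p q m _ _ _ _ _).mp hd
    have hmono : ∀ a b e : ℕ, (MvPolynomial.monomial (Groth.Agent.W4Hilb.v3 a b e) co : MvPolynomial (Fin 3) k) =
        MvPolynomial.C co * (MvPolynomial.X 0 ^ a * MvPolynomial.X 1 ^ b * MvPolynomial.X 2 ^ e) := fun a b e => by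
      rw [← Groth.Agent.W4Hilb.mono3, MvPolynomial.C_mul_monomial, mul_one]
    generalize d 0 = a, d 1 = u, d 2 = v at hn hz hd ⊢
    obtain ⟨N, hN⟩ := Int.eq_ofNat_of_zero_le hn0.le
    obtain ⟨E, hE⟩ := Int.eq_ofNat_of_zero_le he0
    obtain ⟨L, hL⟩ := Int.eq_ofNat_of_zero_le hl0
    obtain ⟨x, hx⟩ := Groth.Agent.W4Hilb.cast_eq_cast.mp
      (hz.trans (Int.cast_zero (R := ZMod m)).symm)
    rw [hN, hE, hL]
    simp only [Int.toNat_natCast]
    by_cases ha : N ≤ a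
    · obtain ⟨a, rfl⟩ := Nat.exists_eq_add_of_le ha
      refine ⟨MvPolynomial.monomial (Groth.Agent.W4Hilb.v3 a u v) co, 0,
        Groth.Agent.W4Hilb.monomial_mem _ _ _ ((Groth.Agent.W4Hilb.weight3 p q m _ _ _ _ _).mpr ⟨?_, hz⟩), zero_mem _, ?_⟩
      · push_cast at hn; linear_combination hn + hN
      · simp only [hmono, pow_add]; ring
    · obtain ⟨hu, hv⟩ := F.exp_le hpq hi hir a u v x hn (by linear_combination hx) (by omega)
      obtain ⟨u, rfl⟩ : ∃ j, u = E + j := Nat.exists_eq_add_of_le (by omega)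
      obtain ⟨v, rfl⟩ : ∃ j, v = L + j := Nat.exists_eq_add_of_le (by omega)
      have hdef : -(p : ℤ) * E + q * L = N := by rw [← hN, ← hE, ← hL]; rfl
      refine ⟨0, MvPolynomial.monomial (Groth.Agent.W4Hilb.v3 a u v) co, zero_mem _,
        Groth.Agent.W4Hilb.monomial_mem _ _ _ ((Groth.Agent.W4Hilb.weight3 p q m _ _ _ _ _).mpr ⟨?_, ?_⟩), ?_⟩
      · push_cast at hn ⊢; linear_combination hn + hN - hdef
      · have hEL : (E : ℤ) = L + m * W4c2invhilbsl2.hjP c i := by rw [← hE, ← hL]; exact Groth.Agent.W4Hilb.eE_eq p q m c i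
        rw [← Int.cast_zero]
        refine Groth.Agent.W4Hilb.cast_eq_cast.mpr ⟨x - W4c2invhilbsl2.hjP c i, ?_⟩
        push_cast at hx
        linear_combination hx - hEL
      · simp only [hmono, pow_add]; ring

end Groth.Agent.S15729
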