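import Groth.Statements.S15732
import Groth.Agent.W4Hilb.Three
-- import your own Groth.Agent.* helpers here

set_option autoImplicit false
universe u
open W4c2invhilbsl2

namespace Groth.Agent.S15732

/-- Let 0 < p < q be coprime integers and m ≥ 1 such that q − p does not divide m; put g = gcd(m, q−p),
b = (q−p)/g, α = ⌊mp/(q−p)⌋, β = the remainder of mp modulo q−p and t = (q−p−β)/g, so that 1 ≤ t <
b, and let b/t = c₁ − 1/(c₂ − 1/(⋯ − 1/c_r)) be the negative-regular (Hirzebruch–Jung) continued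
fraction expansion with every cᵢ ≥ 2; set P₀ = 0, P₁ = 1, Q₀ = −1, Q₁ = 0, Pᵢ = cᵢ₋₁Pᵢ₋₁ − Pᵢ₋₂, Qᵢ
= cᵢ₋₁Qᵢ₋₁ − Qᵢ₋₂ for 2 ≤ i ≤ r+1, and eᵢ = (α+1+m)Pᵢ − Qᵢ, lᵢ = (α+1)Pᵢ − Qᵢ, nᵢ = q·lᵢ − p·eᵢ,
which are non-negative integers for 0 ≤ i ≤ r+1. Grade the polynomial ring k[X₀,…,X₄] over a field k
by ℤ × ℤ/m, giving X₀ weight (1,0), X₁ and X₂ weight (−p,−1), and X₃ and X₄ weight (q,1). Then for
every 1 ≤ i ≤ r, modulo the principal ideal generated by the weight-zero element X₀^(q−p) − X₁X₄ +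
X₂X₃, every polynomial homogeneous of weight (nᵢ, 0) is congruent to a combination a₀·X₀^(nᵢ) + Σ
a_{e,l}·X₁^(eᵢ−e)X₂^e X₃^(lᵢ−l)X₄^l (sum over 0 ≤ e ≤ eᵢ, 0 ≤ l ≤ lᵢ) whose coefficients a₀, a_{e,l}
are homogeneous of weight zero. Equivalently, in the coordinate ring of the hypersurface the
weight-(nᵢ,0) piece is generated over the weight-zero subring (the invariant ring) by X₀^(nᵢ)
together with the products of a degree-eᵢ monomial in X₁, X₂ and a degree-lᵢ monomial in X₃, X₄.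
(The published statement is over the complex numbers; this row takes any field.) -/
theorem result (k : Type u) [Field k] (p q m : ℕ) (hp : 0 < p) (hpq : p < q) (hcop : Nat.Coprime p q) (hm : 0 < m) (hnt : ¬ (q - p ∣ m)) (c : List ℤ) (hc : W4c2invhilbsl2.IsHJDigits p q m c) (i : ℕ) (hi : 1 ≤ i) (hir : i ≤ c.length)
    (f : MvPolynomial (Fin 5) k) (hf : f ∈ MvPolynomial.weightedHomogeneousSubmodule k (W4c2invhilbsl2.wt5 p q m) (W4c2invhilbsl2.nN p q m c i, (0 : ZMod m))) :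
    ∃ (a₀ : MvPolynomial (Fin 5) k) (a : ℕ → ℕ → MvPolynomial (Fin 5) k),
      a₀ ∈ MvPolynomial.weightedHomogeneousSubmodule k (W4c2invhilbsl2.wt5 p q m) 0 ∧ (∀ e l : ℕ, a e l ∈ MvPolynomial.weightedHomogeneousSubmodule k (W4c2invhilbsl2.wt5 p q m) 0) ∧
      f - (a₀ * MvPolynomial.X (0 : Fin 5) ^ (W4c2invhilbsl2.nN p q m c i).toNat +
          ∑ e ∈ Finset.range ((W4c2invhilbsl2.eE p q m c i).toNat + 1), ∑ l ∈ Finset.range ((W4c2invhilbsl2.lL p q m c i).toNat + 1),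
            a e l * (MvPolynomial.X (1 : Fin 5) ^ ((W4c2invhilbsl2.eE p q m c i).toNat - e) * MvPolynomial.X (2 : Fin 5) ^ e *
              MvPolynomial.X (3 : Fin 5) ^ ((W4c2invhilbsl2.lL p q m c i).toNat - l) * MvPolynomial.X (4 : Fin 5) ^ l)) ∈
        Ideal.span {MvPolynomial.X (0 : Fin 5) ^ (q - p) - MvPolynomial.X 1 * MvPolynomial.X 4 + MvPolynomial.X 2 * MvPolynomial.X 3} := by
  classical
  have F := Groth.Agent.W4Hilb.facts p q m hp hpq hcop hnt c hc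
  obtain ⟨he0, hl0⟩ := F.exp_nonneg hpq hi hir
  obtain ⟨hn0, -⟩ := F.nN_lt hpq hi hir
  obtain ⟨N, hN⟩ := Int.eq_ofNat_of_zero_le hn0.le
  obtain ⟨E, hE⟩ := Int.eq_ofNat_of_zero_le he0
  obtain ⟨L, hL⟩ := Int.eq_ofNat_of_zero_le hl0
  rw [hN, hE, hL]
  simp only [Int.toNat_natCast]
  let W := MvPolynomial.weightedHomogeneousSubmodule k (W4c2invhilbsl2.wt5 p q m) 0
  refine Groth.Agent.W4Hilb.induction_weighted (P := fun f => ∃ (a₀ : MvPolynomial (Fin 5) k) (a : ℕ → ℕ → MvPolynomial (Fin 5) k),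
      a₀ ∈ W ∧ (∀ e l : ℕ, a e l ∈ W) ∧
      f - (a₀ * MvPolynomial.X (0 : Fin 5) ^ N +
          ∑ e ∈ Finset.range (E + 1), ∑ l ∈ Finset.range (L + 1),
            a e l * (MvPolynomial.X (1 : Fin 5) ^ (E - e) * MvPolynomial.X (2 : Fin 5) ^ e *
              MvPolynomial.X (3 : Fin 5) ^ (L - l) * MvPolynomial.X (4 : Fin 5) ^ l)) ∈
        Ideal.span {MvPolynomial.X (0 : Fin 5) ^ (q - p) - MvPolynomial.X 1 * MvPolynomial.X 4 + MvPolynomial.X 2 * MvPolynomial.X 3})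
    ⟨0, 0, zero_mem _, fun _ _ => zero_mem _, by simp⟩ ?_ ?_ f hf
  · rintro x y ⟨a₀, a, ha₀, ha, h⟩ ⟨b₀, b, hb₀, hb, h'⟩
    refine ⟨a₀ + b₀, a + b, add_mem ha₀ hb₀, fun e l => add_mem (ha e l) (hb e l), ?_⟩
    convert add_mem h h' using 1
    simp only [Pi.add_apply, add_mul, Finset.sum_add_distrib]
    ring
  · intro d c' hd
    have hmono : ∀ a b e u v : ℕ, (MvPolynomial.monomial (Groth.Agent.W4Hilb.v5 a b e u v) c' : MvPolynomial (Fin 5) k) =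
        MvPolynomial.C c' * (MvPolynomial.X 0 ^ a * MvPolynomial.X 1 ^ b * MvPolynomial.X 2 ^ e * MvPolynomial.X 3 ^ u *
          MvPolynomial.X 4 ^ v) := fun a b e u v => by
      rw [← Groth.Agent.W4Hilb.mono5, MvPolynomial.C_mul_monomial, mul_one]
    have hw : ∀ a b e u v : ℕ, (a : ℤ) - p * ((b + e : ℕ) : ℤ) + q * ((u + v : ℕ) : ℤ) = 0 →
        ((((u + v : ℕ) : ℤ) - ((b + e : ℕ) : ℤ) : ℤ) : ZMod m) = 0 →
        MvPolynomial.monomial (Groth.Agent.W4Hilb.v5 a b e u v) c' ∈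
          MvPolynomial.weightedHomogeneousSubmodule k (W4c2invhilbsl2.wt5 p q m) 0 := fun a b e u v h1 h2 =>
      Groth.Agent.W4Hilb.monomial_mem _ _ _ ((Groth.Agent.W4Hilb.weight5 p q m _ _ _ _ _ _ _).mpr ⟨h1, h2⟩)
    rw [Groth.Agent.W4Hilb.eq_v5 d] at hd ⊢
    obtain ⟨hn, hz⟩ := (Groth.Agent.W4Hilb.weight5 p q m _ _ _ _ _ _ _).mp hd
    generalize d 0 = a, d 1 = b₁, d 2 = b₂, d 3 = e₁, d 4 = e₂ at hn hz hd ⊢
    obtain ⟨x, hx⟩ := Groth.Agent.W4Hilb.cast_eq_cast.mp (hz.trans (Int.cast_zero (R := ZMod m)).symm)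
    by_cases ha : N ≤ a
    · obtain ⟨a, rfl⟩ := Nat.exists_eq_add_of_le ha
      refine ⟨_, 0, hw a b₁ b₂ e₁ e₂ ?_ hz, fun _ _ => zero_mem _, ?_⟩
      · push_cast at hn ⊢; linear_combination hn + hN
      · convert Ideal.zero_mem _ using 1
        simp only [hmono, pow_add, Pi.zero_apply, zero_mul, Finset.sum_const_zero]; ring
    · obtain ⟨hu, hv⟩ := F.exp_le hpq hi hir a (b₁ + b₂) (e₁ + e₂) x hn (by linear_combination hx) (by omega)
      obtain ⟨e, he, u₁, u₂, hu₁, hu₂⟩ : ∃ e ≤ E, ∃ u₁ u₂, b₁ = E - e + u₁ ∧ b₂ = e + u₂ :=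
        ⟨min b₂ E, min_le_right _ _, b₁ - (E - min b₂ E), b₂ - min b₂ E, by omega, by omega⟩
      obtain ⟨l, hl, v₁, v₂, hv₁, hv₂⟩ : ∃ l ≤ L, ∃ v₁ v₂, e₁ = L - l + v₁ ∧ e₂ = l + v₂ :=
        ⟨min e₂ L, min_le_right _ _, e₁ - (L - min e₂ L), e₂ - min e₂ L, by omega, by omega⟩
      have hdef : -(p : ℤ) * E + q * L = N := by rw [← hN, ← hE, ← hL]; rfl
      have hEL : (E : ℤ) = L + m * W4c2invhilbsl2.hjP c i := by rw [← hE, ← hL]; exact Groth.Agent.W4Hilb.eE_eq p q m c i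
      have hsu : ((b₁ + b₂ : ℕ) : ℤ) = E + ((u₁ + u₂ : ℕ) : ℤ) := by omega
      have hsv : ((e₁ + e₂ : ℕ) : ℤ) = L + ((v₁ + v₂ : ℕ) : ℤ) := by omega
      have hM := hw a u₁ u₂ v₁ v₂ (by linear_combination hn + hN - hdef + (p : ℤ) * hsu - (q : ℤ) * hsv) (by
        rw [← Int.cast_zero]
        exact Groth.Agent.W4Hilb.cast_eq_cast.mpr ⟨x - W4c2invhilbsl2.hjP c i,
          by linear_combination hx + hsv - hsu - hEL⟩)
      refine ⟨0, fun e' l' => if e' = e ∧ l' = l then MvPolynomial.monomial (Groth.Agent.W4Hilb.v5 a u₁ u₂ v₁ v₂) c' else 0,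
        zero_mem _, fun e' l' => by dsimp only; split_ifs; exacts [hM, zero_mem _], ?_⟩
      convert Ideal.zero_mem _ using 1
      rw [Finset.sum_eq_single_of_mem e (Finset.mem_range.mpr (by omega)) (fun e' _ hne => by simp [hne]),
        Finset.sum_eq_single_of_mem l (Finset.mem_range.mpr (by omega)) (fun l' _ hne => by simp [hne])]
      simp only [and_self, if_true]
      simp only [hmono, hu₁, hu₂, hv₁, hv₂, pow_add]; ring

end Groth.Agent.S15732
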