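import Groth.Statements.S15733
import Groth.Agent.W4Hilb.Three
-- import your own Groth.Agent.* helpers here

set_option autoImplicit false
open W4c2invhilbsl2

namespace Groth.Agent.S15733

/-- Let 0 < p < q be coprime integers and m ≥ 1 such that q − p does not divide m; put g = gcd(m, q−p),
b = (q−p)/g, α = ⌊mp/(q−p)⌋, β = the remainder of mp modulo q−p and t = (q−p−β)/g, so that 1 ≤ t <
b, and let b/t = c₁ − 1/(c₂ − 1/(⋯ − 1/c_r)) be the negative-regular (Hirzebruch–Jung) continued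
fraction expansion with every cᵢ ≥ 2; set P₀ = 0, P₁ = 1, Q₀ = −1, Q₁ = 0, Pᵢ = cᵢ₋₁Pᵢ₋₁ − Pᵢ₋₂, Qᵢ
= cᵢ₋₁Qᵢ₋₁ − Qᵢ₋₂ for 2 ≤ i ≤ r+1, and eᵢ = (α+1+m)Pᵢ − Qᵢ, lᵢ = (α+1)Pᵢ − Qᵢ, nᵢ = q·lᵢ − p·eᵢ,
which are non-negative integers for 0 ≤ i ≤ r+1. Then for every 1 < i ≤ r and every integer x with 0
< x < Pᵢ, the remainder of pmx + nᵢ on division by q − p equals nᵢ plus the remainder of pmx on
division by q − p (in particular nᵢ + (pmx mod (q−p)) < q − p). -/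
theorem result (p q m : ℕ) (hp : 0 < p) (hpq : p < q) (hcop : Nat.Coprime p q) (hm : 0 < m) (hnt : ¬ (q - p ∣ m)) (c : List ℤ) (hc : W4c2invhilbsl2.IsHJDigits p q m c) (i : ℕ) (hi : 1 < i) (hir : i ≤ c.length)
    (x : ℤ) (hx0 : 0 < x) (hx : x < W4c2invhilbsl2.hjP c i) :
    Int.emod ((p : ℤ) * m * x + W4c2invhilbsl2.nN p q m c i) ((q : ℤ) - p) = W4c2invhilbsl2.nN p q m c i + Int.emod ((p : ℤ) * m * x) ((q : ℤ) - p) := by
  have F := Groth.Agent.W4Hilb.facts p q m hp hpq hcop hnt c hc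
  obtain ⟨j, rfl⟩ := Nat.exists_eq_add_of_le hi.le
  rw [add_comm 1 j] at hx hir ⊢
  obtain ⟨h1, h2⟩ := F.bounds j (by omega) x hx0 hx
  have hlt := F.lt_succ j (by omega)
  have hVpos := F.pos (j + 1) hir
  rw [F.nN_eq]
  set g := (W4c2invhilbsl2.gcdK p q m : ℤ)
  set t := (W4c2invhilbsl2.tT p q m : ℤ)
  set b := (W4c2invhilbsl2.bB p q m : ℤ)
  set r := t * x % b
  set V := Groth.Agent.W4Hilb.NN (W4c2invhilbsl2.tT p q m) (W4c2invhilbsl2.bB p q m) c (j + 1)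
  have hb : 0 < b := by simp only [b]; exact_mod_cast F.tpos.trans F.tlt
  have hg : 0 < g := by simp only [g]; exact_mod_cast F.gpos
  have hgb : (q : ℤ) - p = g * b := F.gb
  have hgt := F.gt
  have hr : r < b := Int.emod_lt_of_pos _ hb
  have hQ : b * (t * x / b) + r = t * x := Int.mul_ediv_add_emod _ _
  have e1 : (p : ℤ) * m * x = g * (b - r) + (g * b) * (((W4c2invhilbsl2.alpha p q m + 1 : ℕ) : ℤ) * x - t * x / b - 1) := by
    linear_combination -(x * hgt) + ((W4c2invhilbsl2.alpha p q m + 1 : ℕ) : ℤ) * x * hgb + g * hQ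
  show ((p : ℤ) * m * x + g * V) % ((q : ℤ) - p) = g * V + ((p : ℤ) * m * x) % ((q : ℤ) - p)
  rw [hgb, e1, show g * (b - r) + g * b * (((W4c2invhilbsl2.alpha p q m + 1 : ℕ) : ℤ) * x - t * x / b - 1) + g * V =
      g * (b - r + V) + g * b * (((W4c2invhilbsl2.alpha p q m + 1 : ℕ) : ℤ) * x - t * x / b - 1) by ring,
    Int.add_mul_emod_self_left, Int.add_mul_emod_self_left,
    Int.emod_eq_of_lt (mul_nonneg hg.le (by omega)) (mul_lt_mul_of_pos_left (by omega) hg),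
    Int.emod_eq_of_lt (mul_nonneg hg.le (by omega)) (mul_lt_mul_of_pos_left (by omega) hg)]
  ring

end Groth.Agent.S15733
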