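import Groth.Statements.S15738
import Groth.Agent.W4Hilb.Three
-- import your own Groth.Agent.* helpers here

set_option autoImplicit false
universe u
open W4c2invhilbsl2

namespace Groth.Agent.S15738

/-- Let k be a field and m ≥ 1; for a monomial X₀^d₀X₁^d₁X₂^d₂ of the polynomial ring in X₀, X₁, X₂ (X₂
standing for Xⱼ, j = 3 or 4, of the five-variable ring) put n = d₀ − p·d₁ + q·d₂ (its weight for the
torus diag(t, t^(−p), t^q)), c = d₁ − d₂ and ω = p·d₁ − q·d₂, so that d₀ = n + ω; here 0 < p < q are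
coprime integers. Take two monomials X₀^d₀X₁^d₁X₂^d₂ and X₀^e₀X₁^e₁X₂^e₂ with the same n and with
values c, c' of c congruent modulo m (so both lie in the same ℤ × ℤ/m-weight piece for the weights
(1,0), (−p,−1), (q,1)). Then: (i) if c = c', the difference of the two monomials lies in the
principal ideal (X₀^(q−p) − X₁X₂); (ii) if c' < c, the monomial X₀^d₀X₁^d₁X₂^d₂ lies in the ideal
(X₀^(q−p) − X₁X₂, X₀^(mp)X₁^m); (iii) in all cases the difference lies in the ideal (X₀^(q−p) −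
X₁X₂, 1 − X₀^(mp)X₁^m). -/
theorem result (k : Type u) [Field k] (p q m : ℕ) (hp : 0 < p) (hpq : p < q) (hcop : Nat.Coprime p q) (hm : 0 < m)
    (d0 d1 d2 e0 e1 e2 : ℕ) (hn : (e0 : ℤ) - (p : ℤ) * e1 + (q : ℤ) * e2 = (d0 : ℤ) - (p : ℤ) * d1 + (q : ℤ) * d2)
    (hc : (m : ℤ) ∣ ((d1 : ℤ) - d2) - ((e1 : ℤ) - e2)) :
    ((d1 : ℤ) - d2 = (e1 : ℤ) - e2 →
      (MvPolynomial.X (0 : Fin 3) ^ d0 * MvPolynomial.X (1 : Fin 3) ^ d1 * MvPolynomial.X (2 : Fin 3) ^ d2 - MvPolynomial.X (0 : Fin 3) ^ e0 * MvPolynomial.X (1 : Fin 3) ^ e1 * MvPolynomial.X (2 : Fin 3) ^ e2 : MvPolynomial (Fin 3) k) ∈ Ideal.span {MvPolynomial.X (0 : Fin 3) ^ (q - p) - MvPolynomial.X (1 : Fin 3) * MvPolynomial.X (2 : Fin 3)}) ∧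
    ((e1 : ℤ) - e2 < (d1 : ℤ) - d2 →
      (MvPolynomial.X (0 : Fin 3) ^ d0 * MvPolynomial.X (1 : Fin 3) ^ d1 * MvPolynomial.X (2 : Fin 3) ^ d2 : MvPolynomial (Fin 3) k) ∈ Ideal.span {MvPolynomial.X (0 : Fin 3) ^ (q - p) - MvPolynomial.X (1 : Fin 3) * MvPolynomial.X (2 : Fin 3), MvPolynomial.X (0 : Fin 3) ^ (m * p) * MvPolynomial.X (1 : Fin 3) ^ m}) ∧
    ((MvPolynomial.X (0 : Fin 3) ^ d0 * MvPolynomial.X (1 : Fin 3) ^ d1 * MvPolynomial.X (2 : Fin 3) ^ d2 - MvPolynomial.X (0 : Fin 3) ^ e0 * MvPolynomial.X (1 : Fin 3) ^ e1 * MvPolynomial.X (2 : Fin 3) ^ e2 : MvPolynomial (Fin 3) k) ∈ Ideal.span {MvPolynomial.X (0 : Fin 3) ^ (q - p) - MvPolynomial.X (1 : Fin 3) * MvPolynomial.X (2 : Fin 3), 1 - MvPolynomial.X (0 : Fin 3) ^ (m * p) * MvPolynomial.X (1 : Fin 3) ^ m}) := by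
  classical
  let x : Fin 3 → MvPolynomial (Fin 3) k := MvPolynomial.X
  have key : ∀ (I : Ideal (MvPolynomial (Fin 3) k)), x 0 ^ (q - p) - x 1 * x 2 ∈ I →
      ∀ a b e a' b' e' : ℕ, (b : ℤ) - e = b' - e' → (a : ℤ) - p * b + q * e = a' - p * b' + q * e' →
      Ideal.Quotient.mk I (x 0 ^ a * x 1 ^ b * x 2 ^ e) = Ideal.Quotient.mk I (x 0 ^ a' * x 1 ^ b' * x 2 ^ e') := by
    intro I hI a b e a' b' e' h1 h2
    have hr : (Ideal.Quotient.mk I (x 0)) ^ (q - p) = Ideal.Quotient.mk I (x 1) * Ideal.Quotient.mk I (x 2) := by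
      rw [← map_pow, ← map_mul]; exact (Ideal.Quotient.mk_eq_mk_iff_sub_mem _ _).mpr hI
    simp only [map_mul, map_pow]
    refine Groth.Agent.W4Hilb.rel3 _ _ _ (q - p) hr a b e a' b' e' h1 ?_
    push_cast [Nat.cast_sub hpq.le]
    linear_combination h2 + (q : ℤ) * h1
  have big : ∀ (I : Ideal (MvPolynomial (Fin 3) k)), x 0 ^ (q - p) - x 1 * x 2 ∈ I →
      ∀ a b e a' b' e' z : ℕ, (b : ℤ) - e = b' - e' + m * z → (a : ℤ) - p * b + q * e = a' - p * b' + q * e' →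
      Ideal.Quotient.mk I (x 0 ^ a * x 1 ^ b * x 2 ^ e) =
        Ideal.Quotient.mk I (x 0 ^ (m * p) * x 1 ^ m) ^ z * Ideal.Quotient.mk I (x 0 ^ a' * x 1 ^ b' * x 2 ^ e') := by
    intro I hI a b e a' b' e' z h1 h2
    rw [key I hI a b e (a' + m * p * z) (b' + m * z) e' (by push_cast; linear_combination h1)
      (by push_cast; linear_combination h2), ← map_pow, ← map_mul]
    congr 1
    ring
  have hmem : ∀ {f g : MvPolynomial (Fin 3) k}, f ∈ Ideal.span {f, g} ∧ g ∈ Ideal.span {f, g} :=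
    fun {f g} => ⟨Ideal.subset_span (Or.inl rfl), Ideal.subset_span (Or.inr rfl)⟩
  refine ⟨fun h => ?_, fun h => ?_, ?_⟩
  · exact (Ideal.Quotient.mk_eq_mk_iff_sub_mem _ _).mp
      (key _ (Ideal.mem_span_singleton_self _) d0 d1 d2 e0 e1 e2 h hn.symm)
  · obtain ⟨z₀, hz₀⟩ := hc
    have hz : 0 < z₀ := by
      by_contra hh
      have : (m : ℤ) * z₀ ≤ 0 := mul_nonpos_of_nonneg_of_nonpos (Int.natCast_nonneg m) (by omega)
      omega
    obtain ⟨z, rfl⟩ := Int.eq_ofNat_of_zero_le hz.le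
    rw [← Ideal.Quotient.eq_zero_iff_mem]
    refine (big _ hmem.1 d0 d1 d2 e0 e1 e2 z (by linear_combination hz₀) hn.symm).trans ?_
    rw [Ideal.Quotient.eq_zero_iff_mem.mpr hmem.2, zero_pow (by omega), zero_mul]
  · obtain ⟨z₀, hz₀⟩ := hc
    rw [← Ideal.Quotient.mk_eq_mk_iff_sub_mem]
    set I := Ideal.span {MvPolynomial.X (0 : Fin 3) ^ (q - p) - MvPolynomial.X (1 : Fin 3) * MvPolynomial.X (2 : Fin 3),
      (1 : MvPolynomial (Fin 3) k) - MvPolynomial.X (0 : Fin 3) ^ (m * p) * MvPolynomial.X (1 : Fin 3) ^ m}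
    have h1 : Ideal.Quotient.mk I (x 0 ^ (m * p) * x 1 ^ m) = 1 :=
      (map_one (Ideal.Quotient.mk I)) ▸ ((Ideal.Quotient.mk_eq_mk_iff_sub_mem _ _).mpr hmem.2).symm
    rcases Int.eq_nat_or_neg z₀ with ⟨z, rfl | rfl⟩
    · refine (big I hmem.1 d0 d1 d2 e0 e1 e2 z (by linear_combination hz₀) hn.symm).trans ?_
      rw [h1, one_pow, one_mul]
    · refine ((big I hmem.1 e0 e1 e2 d0 d1 d2 z (by linear_combination -hz₀) hn).trans ?_).symm
      rw [h1, one_pow, one_mul]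

end Groth.Agent.S15738
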