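import Groth.Statements.S15739
import Groth.Agent.W4Hilb.Three
-- import your own Groth.Agent.* helpers here

set_option autoImplicit false
universe u
open W4c2invhilbsl2

namespace Groth.Agent.S15739

/-- Let k be a field and m ≥ 1, put g = gcd(m, q−p), a = m/g and b = (q−p)/g; for a monomial
X₀^d₀X₁^d₁X₂^d₂ of the polynomial ring in X₀, X₁, X₂ (X₂ standing for Xⱼ, j = 3 or 4, of the
five-variable ring) put n = d₀ − p·d₁ + q·d₂ (its weight for the torus diag(t, t^(−p), t^q)), c = d₁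
− d₂ and ω = p·d₁ − q·d₂, so that d₀ = n + ω; here 0 < p < q are coprime integers. Take two
monomials X₀^d₀X₁^d₁X₂^d₂ and X₀^e₀X₁^e₁X₂^e₂ with the same n, where 0 ≤ n < q − p, whose values c
and c' of c are both divisible by m, and with d₀ < g and e₀ < g (so each has the least ω for its
pair (n, c), as g ≤ q − p). Then: (i) d₀ = e₀, i.e. the two values of ω agree, and m·b divides c −
c'; (ii) if c < c', then X₀^e₀X₁^e₁X₂^e₂ is a multiple of X₀^d₀X₁^d₁X₂^d₂ · X₁^(aq)X₂^(ap); (iii)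
the difference of the two monomials lies in the principal ideal (1 − X₁^(aq)X₂^(ap)). -/
theorem result (k : Type u) [Field k] (p q m : ℕ) (hp : 0 < p) (hpq : p < q) (hcop : Nat.Coprime p q) (hm : 0 < m)
    (d0 d1 d2 e0 e1 e2 : ℕ) (hn : (e0 : ℤ) - (p : ℤ) * e1 + (q : ℤ) * e2 = (d0 : ℤ) - (p : ℤ) * d1 + (q : ℤ) * d2)
    (hn0 : 0 ≤ (d0 : ℤ) - (p : ℤ) * d1 + (q : ℤ) * d2) (hnq : (d0 : ℤ) - (p : ℤ) * d1 + (q : ℤ) * d2 < (q : ℤ) - p)
    (hcd : (m : ℤ) ∣ (d1 : ℤ) - d2) (hce : (m : ℤ) ∣ (e1 : ℤ) - e2)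
    (hd0 : d0 < Nat.gcd m (q - p)) (he0 : e0 < Nat.gcd m (q - p)) :
    (d0 = e0 ∧ ((m : ℤ) * ((q - p) / Nat.gcd m (q - p) : ℕ)) ∣ ((d1 : ℤ) - d2) - ((e1 : ℤ) - e2)) ∧
    ((d1 : ℤ) - d2 < (e1 : ℤ) - e2 →
      (MvPolynomial.X (0 : Fin 3) ^ d0 * MvPolynomial.X (1 : Fin 3) ^ d1 * MvPolynomial.X (2 : Fin 3) ^ d2 * (MvPolynomial.X (1 : Fin 3) ^ (m / Nat.gcd m (q - p) * q) * MvPolynomial.X (2 : Fin 3) ^ (m / Nat.gcd m (q - p) * p)) : MvPolynomial (Fin 3) k) ∣ MvPolynomial.X (0 : Fin 3) ^ e0 * MvPolynomial.X (1 : Fin 3) ^ e1 * MvPolynomial.X (2 : Fin 3) ^ e2) ∧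
    ((MvPolynomial.X (0 : Fin 3) ^ e0 * MvPolynomial.X (1 : Fin 3) ^ e1 * MvPolynomial.X (2 : Fin 3) ^ e2 - MvPolynomial.X (0 : Fin 3) ^ d0 * MvPolynomial.X (1 : Fin 3) ^ d1 * MvPolynomial.X (2 : Fin 3) ^ d2 : MvPolynomial (Fin 3) k) ∈
      Ideal.span {(1 : MvPolynomial (Fin 3) k) - MvPolynomial.X (1 : Fin 3) ^ (m / Nat.gcd m (q - p) * q) * MvPolynomial.X (2 : Fin 3) ^ (m / Nat.gcd m (q - p) * p)}) := by
  classical
  set g := Nat.gcd m (q - p) with hgdef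
  have hD : 0 < q - p := Nat.sub_pos_of_lt hpq
  have gpos : 0 < g := Nat.gcd_pos_of_pos_right _ hD
  obtain ⟨r, hr⟩ : g ∣ m := Nat.gcd_dvd_left _ _
  obtain ⟨b, hb⟩ : g ∣ q - p := Nat.gcd_dvd_right _ _
  have hcop' : Nat.Coprime r b := by
    have h1 : Nat.gcd (g * r) (g * b) = g := by rw [← hr, ← hb]
    rw [Nat.gcd_mul_left] at h1
    exact Nat.eq_of_mul_eq_mul_left gpos (h1.trans (mul_one g).symm)
  have hpqc : IsCoprime (p : ℤ) (q : ℤ) := Nat.isCoprime_iff_coprime.mpr hcop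
  have hbZ : (q : ℤ) - p = g * b := by rw [← Nat.cast_sub hpq.le, hb, Nat.cast_mul]
  have hmZ : (m : ℤ) = g * r := by rw [hr, Nat.cast_mul]
  have hrdiv : m / g = r := by rw [hr, Nat.mul_div_cancel_left _ gpos]
  have hbdiv : (q - p) / g = b := by rw [hb, Nat.mul_div_cancel_left _ gpos]
  obtain ⟨zd, hzd⟩ := hcd
  obtain ⟨ze, hze⟩ := hce
  obtain rfl : d0 = e0 := by
    have hdiv : (g : ℤ) ∣ ((d0 : ℤ) - e0) := ⟨(p : ℤ) * r * (zd - ze) + b * ((e2 : ℤ) - d2), by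
      linear_combination -hn + ((e2 : ℤ) - d2) * hbZ + (p : ℤ) * hzd - (p : ℤ) * hze + (p : ℤ) * (zd - ze) * hmZ⟩
    have := Int.eq_zero_of_abs_lt_dvd hdiv (by rw [abs_lt]; omega)
    omega
  have hpq' : (p : ℤ) * ((e1 : ℤ) - d1) = q * ((e2 : ℤ) - d2) := by linear_combination -hn
  obtain ⟨j, hj⟩ : (q : ℤ) ∣ (e1 : ℤ) - d1 := hpqc.symm.dvd_of_dvd_mul_left ⟨_, hpq'⟩
  have hv : (e2 : ℤ) - d2 = p * j := by
    refine mul_left_cancel₀ (show (q : ℤ) ≠ 0 by omega) ?_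
    linear_combination -hpq' + (p : ℤ) * hj
  obtain ⟨i, hi⟩ : (r : ℤ) ∣ j := by
    refine (Nat.isCoprime_iff_coprime.mpr hcop').dvd_of_dvd_mul_left ⟨ze - zd, ?_⟩
    refine mul_left_cancel₀ (show (g : ℤ) ≠ 0 by omega) ?_
    linear_combination -(j * hbZ) + (ze - zd) * hmZ + hze - hzd - hj + hv
  rw [hrdiv, hbdiv]
  refine ⟨⟨rfl, -i, ?_⟩, fun hlt => ?_, ?_⟩
  · linear_combination -hj + hv - ((q : ℤ) - p) * hi - (r : ℤ) * i * hbZ + (b : ℤ) * i * hmZ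
  · have hjp : 0 < j := by
      by_contra hh
      have h1 : ((q : ℤ) - p) * j ≤ 0 := mul_nonpos_of_nonneg_of_nonpos (by omega) (by omega)
      linarith
    have hip : 0 < i := by
      by_contra hh
      have h1 : (r : ℤ) * i ≤ 0 := mul_nonpos_of_nonneg_of_nonpos (Int.natCast_nonneg r) (by omega)
      omega
    obtain ⟨z, rfl⟩ := Int.eq_ofNat_of_zero_le hip.le
    obtain ⟨z, rfl⟩ : ∃ z', z = z' + 1 := ⟨z - 1, by omega⟩
    push_cast at hi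
    have e1' : e1 = d1 + r * q * (z + 1) := by zify; linear_combination hj + (q : ℤ) * hi
    have e2' : e2 = d2 + r * p * (z + 1) := by zify; linear_combination hv + (p : ℤ) * hi
    refine ⟨(MvPolynomial.X (1 : Fin 3) ^ (r * q) * MvPolynomial.X (2 : Fin 3) ^ (r * p)) ^ z, ?_⟩
    rw [e1', e2']; ring
  · rw [← Ideal.Quotient.mk_eq_mk_iff_sub_mem]
    set I := Ideal.span {(1 : MvPolynomial (Fin 3) k) - MvPolynomial.X (1 : Fin 3) ^ (r * q) * MvPolynomial.X (2 : Fin 3) ^ (r * p)}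
    set G : MvPolynomial (Fin 3) k := MvPolynomial.X (1 : Fin 3) ^ (r * q) * MvPolynomial.X (2 : Fin 3) ^ (r * p) with hG
    have h1 : Ideal.Quotient.mk I G = 1 :=
      ((Ideal.Quotient.mk_eq_mk_iff_sub_mem _ _).mpr (Ideal.mem_span_singleton_self _)).symm.trans (map_one _)
    have key : ∀ a b a' b' z : ℕ, a = a' + r * q * z → b = b' + r * p * z →
        Ideal.Quotient.mk I (MvPolynomial.X (0 : Fin 3) ^ d0 * MvPolynomial.X (1 : Fin 3) ^ a * MvPolynomial.X (2 : Fin 3) ^ b) =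
        Ideal.Quotient.mk I (MvPolynomial.X (0 : Fin 3) ^ d0 * MvPolynomial.X (1 : Fin 3) ^ a' * MvPolynomial.X (2 : Fin 3) ^ b') := by
      intro a b a' b' z ha hb
      rw [show MvPolynomial.X (0 : Fin 3) ^ d0 * MvPolynomial.X (1 : Fin 3) ^ a * MvPolynomial.X (2 : Fin 3) ^ b =
        G ^ z * (MvPolynomial.X (0 : Fin 3) ^ d0 * MvPolynomial.X (1 : Fin 3) ^ a' * MvPolynomial.X (2 : Fin 3) ^ b') by
          rw [hG, ha, hb]; ring, map_mul, map_pow, h1, one_pow, one_mul]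
    rcases Int.eq_nat_or_neg i with ⟨z, rfl | rfl⟩
    · refine key e1 e2 d1 d2 z ?_ ?_ <;> zify
      · linear_combination hj + (q : ℤ) * hi
      · linear_combination hv + (p : ℤ) * hi
    · refine (key d1 d2 e1 e2 z ?_ ?_).symm <;> zify
      · linear_combination -hj - (q : ℤ) * hi
      · linear_combination -hv - (p : ℤ) * hi

end Groth.Agent.S15739
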