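import Groth.Statements.S1607
-- import your own Groth.Agent.* helpers here

set_option autoImplicit false
set_option linter.style.haveILetI false
universe u
open CategoryTheory CategoryTheory.Limits AlgebraicGeometry
open Variety

namespace Groth.Agent.S1607

theorem exists_away_eq {A : Type u} [CommRing A] (s : Finset A) (p : Ideal A) [p.IsPrime]
    (L : Type u) [CommRing L] [Algebra A L] [IsLocalization.AtPrime L p] [IsNoetherianRing L]
    [Ring.KrullDimLE 1 L] :
    ∃ (t f : A), t ∉ p ∧ f ∈ Ideal.span (s : Set A) ∧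
      ∀ z : PrimeSpectrum A, t ∉ z.asIdeal → (∃ a ∈ s, a ∉ z.asIdeal) → f ∉ z.asIdeal := by
  classical
  by_cases hsp : ∀ a ∈ s, a ∈ p
  swap
  · push Not at hsp
    obtain ⟨a, ha, hap⟩ := hsp
    exact ⟨a, a, hap, Ideal.subset_span ha, fun z hz _ => hz⟩
  haveI : IsLocalRing L := IsLocalization.AtPrime.isLocalRing L p
  let J := (Ideal.span (s : Set A)).map (algebraMap A L)
  let T := (minimalPrimes.finite_of_isNoetherianRing L).toFinset.filter (fun Q => ¬ J ≤ Q)
  have hJ : ¬ (J : Set L) ⊆ ⋃ Q ∈ (↑T : Set (Ideal L)), (Q : Set L) := by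
    intro h
    obtain ⟨Q, hQ, hle⟩ := (Ideal.subset_union_prime (s := T) (f := id) ⊥ ⊥ (fun Q hQ _ _ => by
      simp only [T, Finset.mem_filter, Set.Finite.mem_toFinset] at hQ
      exact hQ.1.1.1)).mp h
    simp only [T, Finset.mem_filter] at hQ
    exact hQ.2 hle
  obtain ⟨y, hyJ, hy⟩ := Set.not_subset.mp hJ
  obtain ⟨⟨⟨f, hf⟩, u⟩, hyf⟩ := (IsLocalization.mem_map_algebraMap_iff p.primeCompl L).mp hyJ
  have hrad : ∀ a ∈ s, ∃ (t : A) (N : ℕ) (b : A), t ∉ p ∧ t * a ^ N = b * f := by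
    intro a ha
    have h1 : algebraMap A L a ∈ (Ideal.span {algebraMap A L f}).radical := by
      rw [Ideal.radical_eq_sInf, Submodule.mem_sInf]
      rintro (Q : Ideal L) ⟨hfQ, hQ⟩
      rw [Ideal.span_singleton_le_iff_mem] at hfQ
      rcases (Ring.krullDimLE_one_iff.mp ‹_› Q hQ) with hmin | hmax
      · by_contra hcon
        have hQT : Q ∈ T := by
          simp only [T, Finset.mem_filter, Set.Finite.mem_toFinset]
          exact ⟨hmin, fun hle => hcon (hle (Ideal.mem_map_of_mem _ (Ideal.subset_span ha)))⟩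
        refine hy (Set.mem_biUnion (Finset.mem_coe.mpr hQT) ?_)
        change y ∈ Q
        have h2 : y * algebraMap A L u ∈ Q := hyf ▸ hfQ
        exact (hQ.mem_or_mem h2).resolve_right fun h =>
          hQ.ne_top (Ideal.eq_top_of_isUnit_mem _ h (IsLocalization.map_units L u))
      · rw [IsLocalRing.eq_maximalIdeal hmax, IsLocalization.AtPrime.to_map_mem_maximal_iff L p]
        exact hsp a ha
    obtain ⟨N, hN⟩ := h1
    obtain ⟨w, hw⟩ := Ideal.mem_span_singleton'.mp hN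
    obtain ⟨b, v, rfl⟩ := IsLocalization.exists_mk'_eq p.primeCompl w
    have h3 : algebraMap A L ((v : A) * a ^ N) = algebraMap A L (b * f) := by
      rw [map_mul, map_pow, ← hw, ← mul_assoc, IsLocalization.mk'_spec'_mk, map_mul]
    obtain ⟨c, hc⟩ := (IsLocalization.eq_iff_exists p.primeCompl L).mp h3
    exact ⟨c * v, N, c * b, p.primeCompl.mul_mem c.2 v.2, by rw [mul_assoc, hc, mul_assoc]⟩
  choose! t N b ht htb using hrad
  refine ⟨∏ a ∈ s, t a, f, fun h => ?_, hf, fun z hz ⟨a, ha, haz⟩ hfz => ?_⟩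
  · obtain ⟨a, ha, h'⟩ := (Ideal.IsPrime.prod_mem_iff (p := p)).mp h
    exact ht a ha h'
  · have h4 : t a ∉ z.asIdeal := fun h =>
      hz ((Ideal.IsPrime.prod_mem_iff).mpr ⟨a, ha, h⟩)
    have h5 : t a * a ^ N a ∈ z.asIdeal := htb a ha ▸ z.asIdeal.mul_mem_left _ hfz
    exact z.asIdeal.primeCompl.mul_mem h4 (z.asIdeal.primeCompl.pow_mem haz _) h5

/-- If X is affine and each of its local rings is Noetherian of dimension at most one, then every
quasi-compact open subscheme of X is affine. -/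
theorem result (X : Scheme.{u}) [IsAffine X]
    (hX : ∀ x : X, IsNoetherianRing (X.presheaf.stalk x) ∧ ringKrullDim (X.presheaf.stalk x) ≤ 1)
    (U : X.Opens) (hU : IsCompact (U : Set X)) : IsAffineOpen U := by
  classical
  have hT : IsAffineOpen (⊤ : X.Opens) := isAffineOpen_top X
  have hmem : ∀ (g : Γ(X, ⊤)) (z : X), z ∈ X.basicOpen g ↔ g ∉ (hT.primeIdealOf ⟨z, trivial⟩).asIdeal := by
    intro g z
    letI := X.presheaf.algebra_section_stalk (⟨z, trivial⟩ : (⊤ : X.Opens))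
    haveI := hT.isLocalization_stalk ⟨z, trivial⟩
    rw [X.mem_basicOpen g z trivial]
    exact IsLocalization.AtPrime.isUnit_to_map_iff (X.presheaf.stalk z) _ g
  -- `U` is a finite union of basic opens
  obtain ⟨s, hs⟩ : ∃ s : Finset Γ(X, ⊤), ∀ z : X, z ∈ U ↔ ∃ a ∈ s, z ∈ X.basicOpen a := by
    choose g hgU hg using fun z : ↥U => hT.exists_basicOpen_le z (trivial : (z : X) ∈ (⊤ : X.Opens))
    obtain ⟨t, ht⟩ := hU.elim_finite_subcover (fun z : ↥U => (X.basicOpen (g z) : Set X))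
      (fun z => (X.basicOpen (g z)).isOpen) (fun z hz => Set.mem_iUnion.mpr ⟨⟨z, hz⟩, hg ⟨z, hz⟩⟩)
    refine ⟨t.image g, fun z => ⟨fun hz => ?_, ?_⟩⟩
    · obtain ⟨w, hw, hzw⟩ := Set.mem_iUnion₂.mp (ht hz)
      exact ⟨_, Finset.mem_image_of_mem g hw, hzw⟩
    · rintro ⟨a, ha, hza⟩
      obtain ⟨w, -, rfl⟩ := Finset.mem_image.mp ha
      exact hgU w hza
  have hloc : ∀ x : X, ∃ t : Γ(X, ⊤), x ∈ X.basicOpen t ∧ IsAffineOpen (U ⊓ X.basicOpen t) := by
    intro x
    letI := X.presheaf.algebra_section_stalk (⟨x, trivial⟩ : (⊤ : X.Opens))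
    haveI := hT.isLocalization_stalk ⟨x, trivial⟩
    haveI : IsNoetherianRing (X.presheaf.stalk x) := (hX x).1
    haveI : Ring.KrullDimLE 1 (X.presheaf.stalk x) := Ring.krullDimLE_iff.mpr (hX x).2
    obtain ⟨t, f, ht, hf, hsep⟩ := exists_away_eq s (hT.primeIdealOf ⟨x, trivial⟩).asIdeal (X.presheaf.stalk x)
    refine ⟨t, (hmem t x).mpr ht, ?_⟩
    convert hT.basicOpen (f * t) using 1
    ext z
    rw [X.basicOpen_mul]
    simp only [TopologicalSpace.Opens.coe_inf, Set.mem_inter_iff, SetLike.mem_coe, hs, hmem]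
    constructor
    · rintro ⟨ha, hzt⟩
      exact ⟨hsep _ hzt ha, hzt⟩
    · rintro ⟨hzf, hzt⟩
      refine ⟨?_, hzt⟩
      by_contra hcon
      push Not at hcon
      exact hzf (Ideal.span_le.mpr hcon hf)
  choose t htx htaff using hloc
  let res := (X.presheaf.map (homOfLE (le_top : U ≤ ⊤)).op).hom
  refine isAffineOpen_of_isAffineOpen_basicOpen U (res '' Set.range t) ?_ ?_
  · rw [← Ideal.map_span, show Ideal.span (Set.range t) = ⊤ from ?_, Ideal.map_top]
    rw [← hT.iSup_basicOpen_eq_self_iff, eq_top_iff]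
    intro x _
    exact TopologicalSpace.Opens.mem_iSup.mpr ⟨⟨t x, x, rfl⟩, htx x⟩
  · rintro _ ⟨_, ⟨x, rfl⟩, rfl⟩
    show IsAffineOpen (X.basicOpen ((X.presheaf.map (homOfLE (le_top : U ≤ ⊤)).op) (t x)))
    rw [X.basicOpen_res]
    exact htaff x

end Groth.Agent.S1607
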