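import Groth.Statements.S1574
import Groth.Agent.PunctAffine.Basic
import Groth.Agent.S1607
-- import your own Groth.Agent.* helpers here

set_option autoImplicit false
universe u
open CategoryTheory CategoryTheory.Limits AlgebraicGeometry
open Divisors

namespace Groth.Agent.S1574

/-- For a Noetherian local ring A, the punctured spectrum (Spec A minus the closed point, as an open
subscheme) is affine if and only if dim A ≤ 1. -/
theorem result (A : Type u) [CommRing A] [IsLocalRing A] [IsNoetherianRing A] :
    IsAffine (FEt.puncturedSpec A : Scheme.{u}) ↔ ringKrullDim A ≤ 1 := by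
  refine ⟨fun h => Groth.Agent.PunctAffine.dim_le_one A h, fun h => ?_⟩
  refine Groth.Agent.S1607.result (Spec (CommRingCat.of A)) (fun x => ⟨?_, ?_⟩) _ ?_
  · infer_instance
  · refine (ringKrullDim_eq_of_ringEquiv (AlgebraicGeometry.StructureSheaf.stalkIso A x).toRingEquiv).symm.trans_le ?_
    refine le_trans ?_ h
    rw [IsLocalization.AtPrime.ringKrullDim_eq_height x.asIdeal (Localization.AtPrime x.asIdeal)]
    exact Ideal.height_le_ringKrullDim_of_ne_top x.isPrime.ne_top
  · haveI : TopologicalSpace.NoetherianSpace (Spec (CommRingCat.of A)) := inferInstanceAs (TopologicalSpace.NoetherianSpace (PrimeSpectrum A))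
    exact TopologicalSpace.NoetherianSpace.isCompact _


end Groth.Agent.S1574
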