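import Groth.Statements.S15742
import Groth.Agent.OmegaLib.Affine

set_option autoImplicit false
universe u
open CategoryTheory AlgebraicGeometry
open Mor

namespace Groth.Agent.S15742

/-- For a commutative ring `A` and a commutative `A`-algebra `B`, the canonical map from the module of
Kähler differentials `Ω[B⁄A]` to the global sections of the sheaf of relative differentials of `Spec
B ⟶ Spec A`, semilinear along the identification of `B` with the ring of global functions on `Spec
B` and sending `D b` to `d_{X/Y}` of the global function `b`, is bijective. -/
theorem result (A B : Type u) [CommRing A] [CommRing B] [Algebra A B] :
    Function.Bijective (OmAff.toSpec A B) := by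
  exact OmegaLib.toSpec_bijective A B

end Groth.Agent.S15742
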