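import Groth.Statements.S15745
import Groth.Agent.InvX.Tensor

set_option autoImplicit false
universe u
open QCohSup

namespace Groth.Agent.S15745
open AlgebraicGeometry CategoryTheory TopologicalSpace
open Groth.Agent

theorem hom_ext_one {X : Scheme.{u}} {L : X.Modules} (s t : Coh.structureModule X ⟶ L)
    (h : InvX.one s = InvX.one t) : s = t := by
  refine Scheme.Modules.hom_ext _ _ fun W => ?_
  ext r
  exact (InvX.app_eq_smul s r).trans ((congrArg (fun v => (show Γ(X, W) from r) • AModX.res L (le_top : W ≤ ⊤) v) h).trans
    (InvX.app_eq_smul t r).symm)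

open AlgebraicGeometry in
open CategoryTheory in
/-- Let `X` be a scheme, `L` and `L'` invertible `O_X`-modules, `f` a global section of `L` and `g` a
global section of `L'`. Then the open `X_{f ⊗ g}` where `f ⊗ g` generates `L ⊗ L'` is the
intersection of the open `X_f` where `f` generates `L` and the open `X_g` where `g` generates `L'`.
(The published statement is for a locally ringed space; this row is its case of a scheme.) -/
theorem result
    (X : Scheme.{u}) (L L' : X.Modules) (hL : PicF.IsInvertible L) (hL' : PicF.IsInvertible L')
    (f : Coh.structureModule X ⟶ L) (g : Coh.structureModule X ⟶ L') :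
    CohB1.genLocus (CohB1.tensorMod L L') (SecTwist.tmulHom f g) =
      CohB1.genLocus L f ⊓ CohB1.genLocus L' g := by
  rw [hom_ext_one (SecTwist.tmulHom f g) (InvX.mulHom f g) ?_]
  · exact InvX.genLocus_mulHom hL hL' f g
  · rw [InvX.mulHom, InvX.one_ofSect]
    exact SecTwist.val_tmulHom f g ⊤

end Groth.Agent.S15745
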