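import Groth.Statements.S15749
import Mathlib

set_option autoImplicit false
universe u
open CAlg

namespace Groth.Agent.S15749

/-- For an arbitrary commutative ring R, every idempotent of the ring of formal Laurent series R((t)) is
the constant series attached to a unique idempotent of R. Equivalently, the structure map R → R((t))
induces a bijection on idempotents, so that the spectrum of R((t)) is connected if and only if the
spectrum of R is. No reducedness is assumed. -/
theorem result (R : Type u) [CommRing R]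
    (e : LaurentSeries R) (he : IsIdempotentElem e) :
    ∃! r : R, IsIdempotentElem r ∧ HahnSeries.C r = e := by
  classical
  have hmul : ∀ (J J' : Ideal R) (x y : LaurentSeries R), (∀ i, x.coeff i ∈ J) → (∀ i, y.coeff i ∈ J') →
      ∀ i, (x * y).coeff i ∈ J * J' := by
    intro J J' x y hx hy i
    rw [HahnSeries.coeff_mul]
    exact Ideal.sum_mem _ fun ij _ => Ideal.mul_mem_mul (hx _) (hy _)
  have hred : ∀ (S : Type u) [CommRing S] (q : LaurentSeries S), IsIdempotentElem q →
      (∀ i ≤ 0, q.coeff i = 0) → q = 0 := by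
    intro S _ q hq h0
    by_contra hne
    have ho : 0 < q.order := by
      by_contra h
      exact hne (HahnSeries.leadingCoeff_eq_zero.1
        (by rw [HahnSeries.leadingCoeff_eq]; exact h0 _ (not_lt.1 h)))
    apply HahnSeries.coeff_order_eq_zero.not.2 hne
    conv_lhs => arg 1; rw [← hq.eq]
    rw [HahnSeries.coeff_mul]
    refine Finset.sum_eq_zero fun ij hij => ?_
    rw [Finset.mem_antidiagonal] at hij
    obtain ⟨h1, h2, h3⟩ := hij
    have h1' := HahnSeries.order_le_of_coeff_ne_zero h1
    have h2' := HahnSeries.order_le_of_coeff_ne_zero h2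
    omega
  have hmap : ∀ (J : Ideal R) (x y : LaurentSeries R), (x * y).map (Ideal.Quotient.mk J) =
      (x.map (Ideal.Quotient.mk J) : LaurentSeries (R ⧸ J)) * y.map (Ideal.Quotient.mk J) := by
    intro J x y
    ext i
    simp only [HahnSeries.map_coeff, HahnSeries.coeff_mul, map_sum, map_mul]
    refine (Finset.sum_subset ?_ ?_).symm
    · intro ij hij
      rw [Finset.mem_antidiagonal] at hij ⊢
      exact ⟨fun h => hij.1 (by simp [h]), fun h => hij.2.1 (by simp [h]), hij.2.2⟩
    · intro ij hij hn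
      rw [Finset.mem_antidiagonal] at hij hn
      by_contra h
      exact hn ⟨fun h0 => h (by simp only [HahnSeries.map_coeff] at h0; rw [h0, zero_mul]),
        fun h0 => h (by simp only [HahnSeries.map_coeff] at h0; rw [h0, mul_zero]), hij.2.2⟩
  have hprime : ∀ (P : Ideal R), P.IsPrime → ∀ i,
      (i ≠ 0 → e.coeff i ∈ P) ∧ e.coeff 0 * e.coeff 0 - e.coeff 0 ∈ P := by
    intro P hP i
    have hF : ∀ j, (e.map (Ideal.Quotient.mk P)).coeff j = Ideal.Quotient.mk P (e.coeff j) := fun j => rfl
    have hid : e.map (Ideal.Quotient.mk P) * e.map (Ideal.Quotient.mk P) =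
        e.map (Ideal.Quotient.mk P) := by
      rw [← hmap, he.eq]
    rcases IsIdempotentElem.iff_eq_zero_or_one.1 hid with h | h
    · have h' : ∀ j, Ideal.Quotient.mk P (e.coeff j) = 0 := fun j => by rw [← hF, h]; rfl
      refine ⟨fun _ => Ideal.Quotient.eq_zero_iff_mem.1 (h' i), ?_⟩
      rw [← Ideal.Quotient.eq, map_mul, h' 0, mul_zero]
    · have h' : ∀ j, Ideal.Quotient.mk P (e.coeff j) = if j = 0 then 1 else 0 := fun j => by
        rw [← hF, h, HahnSeries.coeff_one]; split_ifs <;> rfl
      refine ⟨fun hi => Ideal.Quotient.eq_zero_iff_mem.1 (by rw [h', if_neg hi]), ?_⟩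
      rw [← Ideal.Quotient.eq, map_mul, h' 0, if_pos rfl, mul_one]
  have hnil : ∀ i, (i ≠ 0 → IsNilpotent (e.coeff i)) ∧
      IsNilpotent (e.coeff 0 * e.coeff 0 - e.coeff 0) := fun i =>
    ⟨fun hi => nilpotent_iff_mem_prime.2 fun P hP => (hprime P hP i).1 hi,
      nilpotent_iff_mem_prime.2 fun P hP => (hprime P hP i).2⟩
  obtain ⟨r, hr, hre⟩ := exists_isIdempotentElem_eq_of_ker_isNilpotent
    (Ideal.Quotient.mk (nilradical R))
    (fun x hx => mem_nilradical.1 (Ideal.Quotient.eq_zero_iff_mem.1 hx))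
    (Ideal.Quotient.mk (nilradical R) (e.coeff 0)) ⟨_, rfl⟩
    (by rw [IsIdempotentElem, ← map_mul, Ideal.Quotient.eq]; exact mem_nilradical.2 (hnil 0).2)
  have hCr : IsIdempotentElem (HahnSeries.C r : LaurentSeries R) := hr.map _
  let d : LaurentSeries R := e - HahnSeries.C r
  have hd : ∀ i, d.coeff i ∈ nilradical R := by
    intro i
    simp only [d, HahnSeries.coeff_sub, HahnSeries.C_apply, HahnSeries.coeff_single]
    split_ifs with hi
    · subst hi; exact Ideal.Quotient.eq.1 hre.symm
    · rw [sub_zero]; exact mem_nilradical.2 ((hnil i).1 hi)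
  have hd3 : d * d * d = d := by
    simp only [d]
    linear_combination (e + 1 - 3 * HahnSeries.C r) * he.eq
      + (-HahnSeries.C r - 1 + 3 * e) * hCr.eq
  have hq : IsIdempotentElem (d * d) := by
    rw [IsIdempotentElem, ← mul_assoc, hd3]
  let S₀ : Set R := (fun i => (d * d).coeff i) '' {i | i ∈ (d * d).support ∧ i ≤ 0}
  have hfin : S₀.Finite := by
    refine Set.Finite.image _ ((Set.finite_Icc (d * d).order 0).subset ?_)
    intro i hi
    exact ⟨HahnSeries.order_le_of_coeff_ne_zero hi.1, hi.2⟩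
  let K : Ideal R := Ideal.span S₀
  have hKfg : K.FG := ⟨hfin.toFinset, by simp [K]⟩
  have hKle : K ≤ nilradical R := by
    rw [Ideal.span_le]
    rintro _ ⟨i, -, rfl⟩
    exact Ideal.mul_le_left (hmul _ _ _ _ hd hd i)
  obtain ⟨N, hN⟩ : ∃ N, K ^ N = ⊥ := by
    obtain ⟨N, hN⟩ := (Ideal.FG.isNilpotent_iff_le_nilradical hKfg).2 hKle
    exact ⟨N, hN⟩
  have hqK : ∀ i, (d * d).coeff i ∈ K := by
    have h0 := hred (R ⧸ K) ((d * d).map (Ideal.Quotient.mk K)) ?_ ?_
    · intro i
      rw [← Ideal.Quotient.eq_zero_iff_mem]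
      exact congrArg (fun x => x.coeff i) h0
    · rw [IsIdempotentElem, ← hmap, hq.eq]
    · intro i hi
      rw [HahnSeries.map_coeff, Ideal.Quotient.eq_zero_iff_mem]
      by_cases h : (d * d).coeff i = 0
      · rw [h]; exact zero_mem _
      · exact Ideal.subset_span ⟨i, ⟨h, hi⟩, rfl⟩
  have hqN : ∀ n : ℕ, ∀ i, (d * d).coeff i ∈ K ^ (n + 1) := by
    intro n
    induction n with
    | zero => simpa using hqK
    | succ n ih =>
      intro i
      rw [pow_succ, ← hq.eq]
      exact hmul _ _ _ _ ih hqK i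
  have hd0 : d = 0 := by
    have : d * d = 0 := by
      ext i
      have := Ideal.pow_le_pow_right (Nat.le_succ N) (hqN N i)
      rw [hN, Ideal.mem_bot] at this
      simpa using this
    rw [← hd3, this, zero_mul]
  refine ⟨r, ⟨hr, (sub_eq_zero.1 hd0).symm⟩, fun r' h => ?_⟩
  exact HahnSeries.C_injective (h.2.trans (sub_eq_zero.1 hd0))

end Groth.Agent.S15749
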