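import Groth.Statements.S15750
import Mathlib.RingTheory.LaurentSeries
import Mathlib.RingTheory.PowerSeries.Inverse
import Mathlib.RingTheory.PowerSeries.NoZeroDivisors
import Mathlib.RingTheory.Spectrum.Prime.Basic

set_option autoImplicit false
universe u
open CAlg

namespace Groth.Agent.S15750
open PowerSeries

theorem isUnit_coeff_zero {R : Type u} [CommRing R] [IsReduced R]
    (hconn : ∀ e : R, IsIdempotentElem e → e = 0 ∨ e = 1) (F G : PowerSeries R) (k : ℕ)
    (hFG : F * G = PowerSeries.X ^ k) (hF : coeff 0 F ≠ 0) : IsUnit (coeff 0 F) := by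
  have hp : ∀ p : Ideal R, p.IsPrime → coeff 0 F ∈ p ∨ coeff 0 F * coeff k G - 1 ∈ p := by
    intro p hp
    refine or_iff_not_imp_left.2 fun hnot => ?_
    let φ := PowerSeries.map (Ideal.Quotient.mk p)
    have h1 : φ F * φ G = PowerSeries.X ^ k := by rw [← map_mul, hFG, map_pow, PowerSeries.map_X]
    have hnX : ¬ PowerSeries.X ∣ φ F := by
      rw [PowerSeries.X_dvd_iff, ← PowerSeries.coeff_zero_eq_constantCoeff, PowerSeries.coeff_map,
        Ideal.Quotient.eq_zero_iff_mem]
      exact hnot
    haveI := (Ideal.Quotient.isDomain_iff_prime p).2 hp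
    obtain ⟨H, hH⟩ := PowerSeries.X_prime.pow_dvd_of_dvd_mul_left k hnX (Dvd.intro 1 (by rw [h1, mul_one]))
    rw [hH, mul_left_comm] at h1
    have h2 : φ F * H = 1 := (mul_left_cancel₀ (pow_ne_zero k PowerSeries.X_ne_zero)
      (h1.trans (mul_one _).symm))
    rw [← Ideal.Quotient.eq_zero_iff_mem, map_sub, map_mul, map_one, sub_eq_zero,
      ← PowerSeries.coeff_map, ← PowerSeries.coeff_map]
    change coeff 0 (φ F) * coeff k (φ G) = 1
    rw [hH, show coeff k (PowerSeries.X ^ k * H) = coeff (0 + k) (PowerSeries.X ^ k * H) by rw [zero_add],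
      PowerSeries.coeff_X_pow_mul, PowerSeries.coeff_zero_eq_constantCoeff, ← map_mul, h2, map_one]
  have hmem : ∀ x : R, (∀ p : Ideal R, p.IsPrime → x ∈ p) → x = 0 := fun x hx =>
    (mem_nilradical.1 (nilradical_eq_sInf R ▸ Ideal.mem_sInf.2 fun {p} hp => hx p hp)).eq_zero
  set e := coeff 0 F * coeff k G
  rcases hconn e (sub_eq_zero.1 (hmem (e * e - e) fun p hp' => by
      rw [show e * e - e = e * (e - 1) by ring]
      rcases hp p hp' with h | h
      · exact Ideal.mul_mem_right _ _ (Ideal.mul_mem_right _ _ h)
      · exact Ideal.mul_mem_left _ _ h)) with h | h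
  · refine absurd (hmem _ fun p hp' => ?_) hF
    rcases hp p hp' with h' | h'
    · exact h'
    · exfalso
      rw [h, zero_sub, neg_mem_iff] at h'
      exact hp'.ne_top ((Ideal.eq_top_iff_one p).2 h')
  · exact IsUnit.of_mul_eq_one _ h

theorem eq_shift {R : Type u} [CommRing R] [Nontrivial R] {n n' : ℤ} {u u' : (PowerSeries R)ˣ}
    (h : HahnSeries.single n (1 : R) * HahnSeries.ofPowerSeries ℤ R (u : PowerSeries R) =
      HahnSeries.single n' (1 : R) * HahnSeries.ofPowerSeries ℤ R (u' : PowerSeries R))
    (hle : n ≤ n') : n = n' ∧ u = u' := by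
  obtain ⟨d, hd⟩ := Int.le.dest hle
  have h1 : HahnSeries.ofPowerSeries ℤ R (u : PowerSeries R) =
      HahnSeries.ofPowerSeries ℤ R (PowerSeries.X ^ d * (u' : PowerSeries R)) := by
    have := congrArg (HahnSeries.single (-n) (1 : R) * ·) h
    simp only [← mul_assoc, HahnSeries.single_mul_single, neg_add_cancel, one_mul,
      show -n + n' = (d : ℤ) by omega] at this
    rw [show HahnSeries.single (0 : ℤ) (1 : R) = 1 from rfl, one_mul] at this
    rw [this, map_mul, HahnSeries.ofPowerSeries_X_pow]
  have h2 := HahnSeries.ofPowerSeries_injective h1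
  rcases Nat.eq_zero_or_pos d with rfl | hd0
  · exact ⟨by omega, Units.ext (by simpa using h2)⟩
  · exfalso
    have h3 := (PowerSeries.isUnit_iff_constantCoeff.1 u.isUnit)
    rw [h2, map_mul, map_pow, PowerSeries.constantCoeff_X, zero_pow (by omega), zero_mul] at h3
    exact not_isUnit_zero h3

/-- Let R be a nonzero reduced commutative ring with no idempotents other than 0 and 1. Then every unit
of the Laurent series ring R((t)) is t^n · u for a unique integer n and a unique unit u of the power
series ring R[[t]]. (The published statement is for an arbitrary torus T over a reduced ring R, with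
n replaced by a locally constant integer-valued function on Spec R, i.e. a point of the cocharacter
lattice; this row is the case where T is the multiplicative group and Spec R is connected, to which
the published proof reduces.) -/
theorem result (R : Type u) [CommRing R]
    [IsReduced R] [Nontrivial R] (hconn : ∀ e : R, IsIdempotentElem e → e = 0 ∨ e = 1)
    (f : (LaurentSeries R)ˣ) :
    ∃! p : ℤ × (PowerSeries R)ˣ,
      (f : LaurentSeries R) = HahnSeries.single p.1 (1 : R) * HahnSeries.ofPowerSeries ℤ R (p.2 : PowerSeries R) := by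
  set x : LaurentSeries R := (f : LaurentSeries R) with hx
  set y : LaurentSeries R := ((f⁻¹ : (LaurentSeries R)ˣ) : LaurentSeries R) with hy
  have hxy : x * y = 1 := f.mul_inv
  have hx0 : x ≠ 0 := f.ne_zero
  let F := x.powerSeriesPart
  have hxF : x = HahnSeries.single x.order (1 : R) * HahnSeries.ofPowerSeries ℤ R F := by
    rw [LaurentSeries.ofPowerSeries_powerSeriesPart, ← mul_assoc, HahnSeries.single_mul_single,
      add_neg_cancel, one_mul]
    exact (one_mul x).symm
  let G := y.powerSeriesPart
  have hyG : y = HahnSeries.single y.order (1 : R) * HahnSeries.ofPowerSeries ℤ R G := by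
    rw [LaurentSeries.ofPowerSeries_powerSeriesPart, ← mul_assoc, HahnSeries.single_mul_single,
      add_neg_cancel, one_mul]
    exact (one_mul y).symm
  have hF0 : PowerSeries.coeff 0 F ≠ 0 := by
    rw [LaurentSeries.powerSeriesPart_coeff]
    simpa using HahnSeries.coeff_order_eq_zero.not.2 hx0
  have hFG : HahnSeries.single (x.order + y.order) (1 : R) * HahnSeries.ofPowerSeries ℤ R (F * G) = 1 := by
    rw [← hxy]
    conv_rhs => rw [hxF, hyG]
    rw [map_mul, mul_mul_mul_comm, HahnSeries.single_mul_single, one_mul]
  have hsum : x.order + y.order ≤ 0 := by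
    by_contra hpos
    have := congrArg (fun z : LaurentSeries R => z.coeff 0) hFG
    simp only [HahnSeries.coeff_one, if_true] at this
    rw [show (0 : ℤ) = (0 - (x.order + y.order)) + (x.order + y.order) by ring,
      HahnSeries.coeff_single_mul_add, one_mul] at this
    rw [HahnSeries.ofPowerSeries_apply, HahnSeries.embDomain_of_notMem_range] at this
    · simp at this
    · rintro ⟨n, hn⟩
      simp at hn
      omega
  obtain ⟨k, hk⟩ := Int.le.dest hsum
  have hXk : F * G = PowerSeries.X ^ k := by
    apply HahnSeries.ofPowerSeries_injective (Γ := ℤ)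
    have := congrArg (HahnSeries.single (k : ℤ) (1 : R) * ·) hFG
    simp only [← mul_assoc, HahnSeries.single_mul_single, one_mul, mul_one,
      show (k : ℤ) + (x.order + y.order) = 0 by omega] at this
    rw [show HahnSeries.single (0 : ℤ) (1 : R) = 1 from rfl, one_mul] at this
    rw [this, HahnSeries.ofPowerSeries_X_pow]
  have hu : IsUnit F := PowerSeries.isUnit_iff_constantCoeff.2
    (PowerSeries.coeff_zero_eq_constantCoeff_apply F ▸ isUnit_coeff_zero hconn F G k hXk hF0)
  refine ⟨(x.order, hu.unit), by simpa using hxF, fun q hq => ?_⟩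
  have he : HahnSeries.single q.1 (1 : R) * HahnSeries.ofPowerSeries ℤ R (q.2 : PowerSeries R) =
      HahnSeries.single x.order (1 : R) * HahnSeries.ofPowerSeries ℤ R (hu.unit : PowerSeries R) := by
    rw [IsUnit.unit_spec, ← hxF]; exact hq.symm
  rcases le_total q.1 x.order with h | h
  · obtain ⟨h1, h2⟩ := eq_shift he h
    exact Prod.ext h1 h2
  · obtain ⟨h1, h2⟩ := eq_shift he.symm h
    exact Prod.ext h1.symm h2.symm

end Groth.Agent.S15750
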