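import Groth.Statements.S15773
import Groth.Agent.Weierstrass7.Basic

set_option autoImplicit false
universe u
open Polynomial
open CAlg

namespace Groth.Agent.S15773
open IsLocalRing

variable {R : Type u} [CommRing R] [HenselianLocalRing R] {B : Type u} [CommRing B] [Algebra R B] [Algebra R[X] B]
  [IsScalarTower R R[X] B]

/-- The reversed distinguished polynomial. -/
theorem exists_reversed {Q : R[X]} (h0 : IsUnit (Q.coeff 0)) (hm : ∀ i, i ≠ 0 → Q.coeff i ∈ maximalIdeal R) :
    ∃ (n : ℕ) (f : R[X]) (a : R), IsUnit a ∧ (C a * f).Monic ∧ (C a * f).natDegree = n ∧ f.natDegree ≤ n ∧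
      reflect n f = Q ∧ ∀ i, i < n → (C a * f).coeff i ∈ maximalIdeal R := by
  refine ⟨Q.natDegree, reflect Q.natDegree Q, ↑h0.unit⁻¹, Units.isUnit _, ?_⟩
  have hdeg : (reflect Q.natDegree Q).natDegree ≤ Q.natDegree :=
    natDegree_reflect_le.trans (le_of_eq (max_self _))
  have htop : (C (↑h0.unit⁻¹ : R) * reflect Q.natDegree Q).coeff Q.natDegree = 1 := by
    rw [coeff_C_mul, coeff_reflect, revAt_le le_rfl, Nat.sub_self, IsUnit.val_inv_mul]
  have hle : (C (↑h0.unit⁻¹ : R) * reflect Q.natDegree Q).natDegree ≤ Q.natDegree :=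
    (natDegree_C_mul_le _ _).trans hdeg
  refine ⟨monic_of_natDegree_le_of_coeff_eq_one _ hle htop, ?_, hdeg, ?_, fun i hi => ?_⟩
  · exact le_antisymm hle (le_natDegree_of_ne_zero (by rw [htop]; exact one_ne_zero))
  · ext i
    rw [coeff_reflect, coeff_reflect, revAt_invol]
  · rw [coeff_C_mul, coeff_reflect, revAt_le hi.le]
    exact Ideal.mul_mem_left _ _ (hm _ (by omega))

/-- Coefficients of an element congruent to `1` modulo `m`. -/
theorem coeff_of_sub_mem {M : R[X]} (hM : M ∈ (maximalIdeal R).map (algebraMap R R[X])) :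
    IsUnit ((1 - M).coeff 0) ∧ ∀ i, i ≠ 0 → (1 - M).coeff i ∈ maximalIdeal R := by
  have h : ∀ i, M.coeff i ∈ maximalIdeal R := Ideal.mem_map_C_iff.1 hM
  refine ⟨?_, fun i hi => ?_⟩
  · rw [coeff_sub, coeff_one_zero]
    exact (isUnit_or_isUnit_one_sub_self _).resolve_left ((mem_maximalIdeal _).1 (h 0))
  · rw [coeff_sub, coeff_one, if_neg hi, zero_sub]
    exact neg_mem (h i)

variable (hB : Hens2.IsPairHenselization R[X] (Ideal.span {(X : R[X])}) B)
  (ψ : R[X] →ₐ[R] Localization.Away (algebraMap R[X] B X))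
  (hψ : ψ X * algebraMap B (Localization.Away (algebraMap R[X] B X)) (algebraMap R[X] B X) = 1)

local notation "L" => Localization.Away (algebraMap R[X] B X)

theorem eval_tt (p : R[X]) : algebraMap B L (algebraMap R[X] B p) =
    eval₂ (algebraMap R L) (algebraMap B L (algebraMap R[X] B X)) p := by
  have h : ((IsScalarTower.toAlgHom R B L).comp (IsScalarTower.toAlgHom R R[X] B)) =
      aeval (algebraMap B L (algebraMap R[X] B X)) := Polynomial.algHom_ext (by simp)
  exact congr($h p)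

theorem eval_psi (p : R[X]) : ψ p = eval₂ (algebraMap R L) (ψ X) p := by
  have h : ψ = aeval (ψ X) := Polynomial.algHom_ext (by simp)
  exact congr($h p)

include hψ in
theorem psi_mul_pow {n : ℕ} {f : R[X]} (hf : f.natDegree ≤ n) :
    ψ (reflect n f) * algebraMap B L (algebraMap R[X] B X) ^ n = algebraMap B L (algebraMap R[X] B f) := by
  letI : Invertible (algebraMap B L (algebraMap R[X] B X)) := ⟨ψ X, hψ, by rw [mul_comm]; exact hψ⟩
  rw [eval_psi ψ, eval_tt f]
  exact eval₂_reflect_mul_pow (algebraMap R L) (algebraMap B L (algebraMap R[X] B X)) n f hf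

include hB hψ in
/-- The basic bijection. -/
theorem basic {Q : R[X]} (h0 : IsUnit (Q.coeff 0)) (hm : ∀ i, i ≠ 0 → Q.coeff i ∈ maximalIdeal R) :
    (∀ q, ψ q ∈ Ideal.span {ψ Q} → q ∈ Ideal.span {Q}) ∧ ∀ x : L, ∃ q, x - ψ q ∈ Ideal.span {ψ Q} := by
  classical
  obtain ⟨n, f, a, ha, hP, hPn, hfn, hfQ, hlow⟩ := exists_reversed h0 hm
  obtain ⟨P, hPdef⟩ : ∃ P, P = C a * f := ⟨_, rfl⟩
  rw [← hPdef] at hP hPn hlow
  -- the inverse of `s` modulo `Q`
  obtain ⟨g, hg⟩ : ∃ g, X * g - 1 ∈ Ideal.span {Q} := by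
    refine ⟨- (C (↑h0.unit⁻¹ : R) * Q.divX), Ideal.mem_span_singleton'.2 ⟨- C (↑h0.unit⁻¹ : R), ?_⟩⟩
    have e := Q.X_mul_divX_add
    have e2 : C (↑h0.unit⁻¹ : R) * C (Q.coeff 0) = 1 := by rw [← map_mul, IsUnit.val_inv_mul, map_one]
    linear_combination (C (↑h0.unit⁻¹ : R)) * e - e2
  let mk : R[X] →+* R[X] ⧸ Ideal.span {Q} := Ideal.Quotient.mk _
  have hsg : mk X * mk g = 1 := by
    rw [← map_mul, ← map_one mk]; exact Ideal.Quotient.eq.2 hg
  let χ : R[X] →ₐ[R] R[X] ⧸ Ideal.span {Q} := aeval (mk g)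
  have hχP : χ P = 0 := by
    letI : Invertible (mk g) := ⟨mk X, hsg, by rw [mul_comm]; exact hsg⟩
    have e := eval₂_reflect_mul_pow (algebraMap R (R[X] ⧸ Ideal.span {Q})) (mk g) n f hfn
    rw [hfQ] at e
    have e2 : eval₂ (algebraMap R (R[X] ⧸ Ideal.span {Q})) (mk X) Q = mk Q := by
      have h : aeval (mk X) = Ideal.Quotient.mkₐ R (Ideal.span {Q}) := Polynomial.algHom_ext (by simp [mk])
      exact congr($h Q)
    have e3 : eval₂ (algebraMap R (R[X] ⧸ Ideal.span {Q})) (mk g) f = 0 := by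
      rw [← e]
      show eval₂ _ (mk X) Q * _ = 0
      rw [e2, show mk Q = 0 from Ideal.Quotient.eq_zero_iff_mem.2 (Ideal.mem_span_singleton_self Q), zero_mul]
    show aeval (mk g) P = 0
    rw [hPdef, map_mul, aeval_def (p := f), e3, mul_zero]
  -- the inverse map
  let q₀ : R[X] →+* B ⧸ Ideal.span {algebraMap R[X] B P} := (Ideal.Quotient.mk _).comp (algebraMap R[X] B)
  have hPz : ∀ p ∈ Ideal.span {P}, q₀ p = 0 := fun p hp => by
    obtain ⟨z, rfl⟩ := Ideal.mem_span_singleton'.1 hp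
    rw [map_mul, show q₀ P = 0 from Ideal.Quotient.eq_zero_iff_mem.2 (Ideal.mem_span_singleton_self _), mul_zero]
  have hlow' : ∀ i, i < P.natDegree → P.coeff i ∈ maximalIdeal R := fun i hi => hlow i (hPn ▸ hi)
  have hbij : Function.Bijective (Ideal.Quotient.lift (Ideal.span {P}) q₀ hPz) := by
    refine ⟨(injective_iff_map_eq_zero _).2 fun z hz => ?_, fun z => ?_⟩
    · obtain ⟨p, rfl⟩ := Ideal.Quotient.mk_surjective z
      rw [Ideal.Quotient.lift_mk] at hz
      exact Ideal.Quotient.eq_zero_iff_mem.2 (Ideal.mem_span_singleton.2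
        (Weierstrass7.dvd_of_mem_span hB hP hlow' (Ideal.Quotient.eq_zero_iff_mem.1 hz)))
    · obtain ⟨b, rfl⟩ := Ideal.Quotient.mk_surjective z
      obtain ⟨p, -, hp⟩ := Weierstrass7.surjective_mod_distinguished hB hP hlow' b
      exact ⟨Ideal.Quotient.mk _ p, by rw [Ideal.Quotient.lift_mk]; exact (Ideal.Quotient.eq.2 hp).symm⟩
  let e := RingEquiv.ofBijective _ hbij
  let ΦB : B →+* R[X] ⧸ Ideal.span {Q} := (Ideal.Quotient.lift (Ideal.span {P}) χ.toRingHom fun p hp => by
    obtain ⟨z, rfl⟩ := Ideal.mem_span_singleton'.1 hp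
    rw [map_mul, show χ.toRingHom P = 0 from hχP, mul_zero]).comp (e.symm.toRingHom.comp (Ideal.Quotient.mk _))
  have hΦB : ∀ p, ΦB (algebraMap R[X] B p) = χ p := fun p => by
    have : e.symm (Ideal.Quotient.mk _ (algebraMap R[X] B p)) = Ideal.Quotient.mk _ p := by
      rw [RingEquiv.symm_apply_eq]; rfl
    simp only [ΦB, RingHom.comp_apply, RingEquiv.toRingHom_eq_coe, RingEquiv.coe_toRingHom, this,
      Ideal.Quotient.lift_mk]
    rfl
  have hu : IsUnit (ΦB (algebraMap R[X] B X)) := by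
    rw [hΦB]
    show IsUnit (aeval (mk g) X)
    rw [aeval_X]
    exact IsUnit.of_mul_eq_one (mk X) (by rw [mul_comm]; exact hsg)
  let Φ : L →+* R[X] ⧸ Ideal.span {Q} := IsLocalization.Away.lift (algebraMap R[X] B X) hu
  have hΦ : ∀ b, Φ (algebraMap B L b) = ΦB b := fun b => IsLocalization.Away.lift_eq _ hu b
  have hΦψ : Φ.comp ψ.toRingHom = mk := by
    refine Polynomial.ringHom_ext (fun r => ?_) ?_
    · show Φ (ψ (C r)) = mk (C r)
      rw [← Polynomial.algebraMap_eq, AlgHom.commutes, IsScalarTower.algebraMap_apply R B L, hΦ,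
        IsScalarTower.algebraMap_apply R R[X] B, hΦB, AlgHom.commutes]
      rfl
    · have h := congrArg Φ hψ
      rw [map_mul, map_one, hΦ, hΦB, show χ X = mk g from aeval_X _] at h
      show Φ (ψ X) = mk X
      calc Φ (ψ X) = Φ (ψ X) * (mk X * mk g) := by rw [hsg, mul_one]
        _ = mk X * (Φ (ψ X) * mk g) := by ring
        _ = _ := by rw [h, mul_one]
  refine ⟨fun q hq => ?_, fun x => ?_⟩
  · obtain ⟨z, hz⟩ := Ideal.mem_span_singleton'.1 hq
    refine Ideal.Quotient.eq_zero_iff_mem.1 ?_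
    show mk q = 0
    rw [← RingHom.congr_fun hΦψ q, RingHom.comp_apply, show ψ.toRingHom q = z * ψ Q from hz.symm, map_mul,
      show Φ (ψ Q) = mk Q from RingHom.congr_fun hΦψ Q,
      show mk Q = 0 from Ideal.Quotient.eq_zero_iff_mem.2 (Ideal.mem_span_singleton_self Q), mul_zero]
  · let π : L →+* L ⧸ Ideal.span {ψ Q} := Ideal.Quotient.mk _
    let Ψ : R[X] →ₐ[R] L ⧸ Ideal.span {ψ Q} := (Ideal.Quotient.mkₐ R _).comp ψ
    have hπP : π (algebraMap B L (algebraMap R[X] B P)) = 0 := by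
      have hQ0 : π (ψ (reflect n f)) = 0 := by
        rw [hfQ]; exact Ideal.Quotient.eq_zero_iff_mem.2 (Ideal.mem_span_singleton_self _)
      rw [hPdef, map_mul, map_mul, map_mul, ← psi_mul_pow ψ hψ hfn, map_mul, hQ0, zero_mul, mul_zero]
    have htt : π (algebraMap B L (algebraMap R[X] B X)) = Ψ g := by
      have h1 := congrArg π hψ
      rw [map_mul, map_one] at h1
      have h2 : Ψ X * Ψ g = 1 := by
        obtain ⟨z, hz⟩ := Ideal.mem_span_singleton'.1 hg
        have h3 := congrArg Ψ hz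
        rw [map_mul, show Ψ Q = 0 from Ideal.Quotient.eq_zero_iff_mem.2 (Ideal.mem_span_singleton_self _),
          mul_zero, map_sub, map_mul, map_one] at h3
        exact (sub_eq_zero.1 h3.symm)
      calc π (algebraMap B L (algebraMap R[X] B X))
          = π (algebraMap B L (algebraMap R[X] B X)) * (Ψ X * Ψ g) := by rw [h2, mul_one]
        _ = (π (ψ X) * π (algebraMap B L (algebraMap R[X] B X))) * Ψ g := by
          show _ * (π (ψ X) * _) = _
          ring
        _ = _ := by rw [h1, one_mul]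
    have hb : ∀ b : B, ∃ q, π (algebraMap B L b) = Ψ q := fun b => by
      obtain ⟨p, -, hp⟩ := Weierstrass7.surjective_mod_distinguished hB hP hlow' b
      obtain ⟨z, hz⟩ := Ideal.mem_span_singleton'.1 hp
      refine ⟨aeval g p, ?_⟩
      rw [show b = z * algebraMap R[X] B P + algebraMap R[X] B p by rw [hz, sub_add_cancel], map_add, map_mul,
        map_add, map_mul, hπP, mul_zero, zero_add, eval_tt, hom_eval₂, htt, ← aeval_algHom_apply]
      rfl
    obtain ⟨⟨b, ⟨_, N, rfl⟩⟩, hx⟩ := IsLocalization.surj (Submonoid.powers (algebraMap R[X] B X)) x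
    obtain ⟨q, hq⟩ := hb b
    refine ⟨q * X ^ N, Ideal.Quotient.eq.1 ?_⟩
    show π x = Ψ (q * X ^ N)
    have hx' : x = algebraMap B L b * ψ X ^ N := by
      rw [← hx, map_pow, mul_assoc, ← mul_pow, mul_comm _ (ψ X), hψ, one_pow, mul_one]
    rw [hx', map_mul, map_mul, hq, map_pow, map_pow]
    rfl

include hB in
/-- Ideals of `L` comaximal with `m` contain a unit times a distinguished polynomial. -/
theorem exists_mem_reversed (hψ : ψ X * algebraMap B L (algebraMap R[X] B X) = 1) (J : Ideal L)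
    (hJ : J ⊔ (maximalIdeal R).map (algebraMap R L) = ⊤) :
    ∃ M ∈ (maximalIdeal R).map (algebraMap R R[X]), ψ (1 - M) ∈ J := by
  obtain ⟨j, hj, μ, hμ, hjμ⟩ := Submodule.mem_sup.1 (hJ ▸ Submodule.mem_top : (1 : L) ∈ J ⊔ _)
  rw [IsScalarTower.algebraMap_eq R B L, ← Ideal.map_map,
    IsLocalization.mem_map_algebraMap_iff (Submonoid.powers (algebraMap R[X] B X))] at hμ
  obtain ⟨⟨⟨b, hb⟩, ⟨_, N, rfl⟩⟩, hbN⟩ := hμ
  let tt := algebraMap B L (algebraMap R[X] B X)
  obtain ⟨f, hf⟩ : ∃ f, f = algebraMap R[X] B X ^ N - b := ⟨_, rfl⟩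
  have hfJ : algebraMap B L f ∈ J := by
    have e : algebraMap B L f = tt ^ N * j := by
      rw [hf, map_sub, map_pow, ← hbN, map_pow]
      linear_combination (-(tt ^ N)) * hjμ
    rw [e]; exact J.mul_mem_left _ hj
  have hfm : f ∉ (maximalIdeal R).map (algebraMap R B) := fun h => Weierstrass7.pow_notMem hB N (by
    have := add_mem h hb
    rwa [hf, sub_add_cancel] at this)
  obtain ⟨P, u, hP, hlow, he⟩ := Weierstrass7.exists_prep hB hfm
  have hPJ : algebraMap B L (algebraMap R[X] B P) ∈ J := by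
    rw [he, map_mul] at hfJ
    exact (Ideal.mul_unit_mem_iff_mem _ (u.isUnit.map _)).1 hfJ
  refine ⟨1 - reflect P.natDegree P, Ideal.mem_map_C_iff.2 fun i => ?_, ?_⟩
  · rw [coeff_sub, coeff_reflect, coeff_one]
    by_cases hi : i = 0
    · rw [if_pos hi, hi, revAt_le (Nat.zero_le _), Nat.sub_zero, hP.coeff_natDegree, sub_self]
      exact zero_mem _
    rw [if_neg hi, zero_sub]
    refine neg_mem ?_
    by_cases hin : i ≤ P.natDegree
    · rw [revAt_le hin]; exact hlow _ (by omega)
    · rw [← revAtFun_eq, revAtFun, if_neg hin, coeff_eq_zero_of_natDegree_lt (by omega)]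
      exact zero_mem _
  · rw [sub_sub_cancel]
    refine (Ideal.mul_unit_mem_iff_mem _ ((IsLocalization.Away.algebraMap_isUnit (S := L)
      (algebraMap R[X] B X)).pow P.natDegree)).1 ?_
    rw [psi_mul_pow ψ hψ le_rfl]
    exact hPJ

/-- For a Henselian local ring (R, m), a henselization B of R[t] along (t), L = B[1/t] and the R-algebra
map ψ : R[s] → L sending s to t⁻¹, extension and contraction along ψ are mutually inverse bijections
between the ideals of R[s] comaximal with mR[s] and the ideals of L comaximal with mL, and R[s]/I →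
L/IL is bijective for every such I. (The published statement is phrased with closed subschemes of
Spec R[t⁻¹] and of Spec L not meeting the residue fibre, matched by base change and schematic image,
and treats the localisation (R[t]_{1+tR[t]})[1/t] alongside R{t}[1/t]; this row states it with
ideals and includes the bijection of the corresponding quotient rings.) -/
theorem result (R : Type u) [CommRing R]
    [HenselianLocalRing R] (B : Type u) [CommRing B] [Algebra R B] [Algebra R[X] B] [IsScalarTower R R[X] B]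
    (hB : Hens2.IsPairHenselization R[X] (Ideal.span {(X : R[X])}) B)
    (ψ : R[X] →ₐ[R] Localization.Away (algebraMap R[X] B X))
    (hψ : ψ X * algebraMap B (Localization.Away (algebraMap R[X] B X)) (algebraMap R[X] B X) = 1) :
    (∀ I : Ideal R[X], I ⊔ (IsLocalRing.maximalIdeal R).map (algebraMap R R[X]) = ⊤ →
        (I.map ψ.toRingHom).comap ψ.toRingHom = I ∧
        I.map ψ.toRingHom ⊔ (IsLocalRing.maximalIdeal R).map
          (algebraMap R (Localization.Away (algebraMap R[X] B X))) = ⊤ ∧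
        Function.Bijective (Ideal.quotientMap (I.map ψ.toRingHom) ψ.toRingHom Ideal.le_comap_map)) ∧
    (∀ J : Ideal (Localization.Away (algebraMap R[X] B X)),
        J ⊔ (IsLocalRing.maximalIdeal R).map (algebraMap R (Localization.Away (algebraMap R[X] B X))) = ⊤ →
        (J.comap ψ.toRingHom).map ψ.toRingHom = J ∧
        J.comap ψ.toRingHom ⊔ (IsLocalRing.maximalIdeal R).map (algebraMap R R[X]) = ⊤) := by
  classical
  have hmapm : ∀ M ∈ (IsLocalRing.maximalIdeal R).map (algebraMap R R[X]),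
      ψ M ∈ (IsLocalRing.maximalIdeal R).map (algebraMap R (Localization.Away (algebraMap R[X] B X))) :=
    fun M hM => by
      have := Ideal.mem_map_of_mem ψ.toRingHom hM
      rwa [Ideal.map_map, show ψ.toRingHom.comp (algebraMap R R[X]) = algebraMap R _ from ψ.comp_algebraMap] at this
  refine ⟨fun I hI => ?_, fun J hJ => ?_⟩
  · obtain ⟨Q, hQI, M, hM, hQM⟩ := Submodule.mem_sup.1 (hI ▸ Submodule.mem_top : (1 : R[X]) ∈ I ⊔ _)
    obtain rfl : Q = 1 - M := by rw [← hQM, add_sub_cancel_right]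
    obtain ⟨h0, hm⟩ := coeff_of_sub_mem hM
    obtain ⟨hinj, hsurj⟩ := basic hB ψ hψ h0 hm
    have hle : Ideal.span {ψ (1 - M)} ≤ I.map ψ.toRingHom :=
      (Ideal.span_singleton_le_iff_mem _).2 (Ideal.mem_map_of_mem ψ.toRingHom hQI)
    have hcm : (I.map ψ.toRingHom).comap ψ.toRingHom = I := by
      refine le_antisymm (fun q hq => ?_) Ideal.le_comap_map
      let Ψ : R[X] →+* _ := (Ideal.Quotient.mk (Ideal.span {ψ (1 - M)})).comp ψ.toRingHom
      have hs : Function.Surjective Ψ := fun z => by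
        obtain ⟨x, rfl⟩ := Ideal.Quotient.mk_surjective z
        obtain ⟨p, hp⟩ := hsurj x
        exact ⟨p, (Ideal.Quotient.eq.2 hp).symm⟩
      have h1 : q ∈ (I.map Ψ).comap Ψ := by
        rw [Ideal.mem_comap, ← Ideal.map_map]
        exact Ideal.mem_map_of_mem _ hq
      rw [Ideal.comap_map_of_surjective' _ hs] at h1
      refine (sup_le le_rfl ?_ : I ⊔ RingHom.ker Ψ ≤ I) h1
      intro p hp
      exact (Ideal.span_singleton_le_iff_mem I).2 hQI (hinj p (Ideal.Quotient.eq_zero_iff_mem.1 hp))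
    refine ⟨hcm, ?_, Ideal.quotientMap_injective' hcm.le, fun z => ?_⟩
    · refine (Ideal.eq_top_iff_one _).2 ?_
      rw [← map_one ψ.toRingHom, ← hQM, map_add]
      exact Submodule.add_mem_sup (Ideal.mem_map_of_mem _ hQI) (hmapm M hM)
    · obtain ⟨x, rfl⟩ := Ideal.Quotient.mk_surjective z
      obtain ⟨q, hq⟩ := hsurj x
      exact ⟨Ideal.Quotient.mk _ q, (Ideal.Quotient.eq.2 (hle hq)).symm⟩
  · obtain ⟨M, hM, hMJ⟩ := exists_mem_reversed hB ψ hψ J hJ
    obtain ⟨h0, hm⟩ := coeff_of_sub_mem hM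
    obtain ⟨-, hsurj⟩ := basic hB ψ hψ h0 hm
    refine ⟨le_antisymm Ideal.map_comap_le fun x hx => ?_, (Ideal.eq_top_iff_one _).2 ?_⟩
    · obtain ⟨q, hq⟩ := hsurj x
      have hQ : Ideal.span {ψ (1 - M)} ≤ (J.comap ψ.toRingHom).map ψ.toRingHom :=
        (Ideal.span_singleton_le_iff_mem _).2 (Ideal.mem_map_of_mem ψ.toRingHom hMJ)
      have hqJ : q ∈ J.comap ψ.toRingHom := by
        have := sub_mem hx ((hQ.trans Ideal.map_comap_le) hq)
        rwa [sub_sub_cancel] at this
      have := add_mem (hQ hq) (Ideal.mem_map_of_mem ψ.toRingHom hqJ)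
      rwa [show ψ.toRingHom q = ψ q from rfl, sub_add_cancel] at this
    · have : (1 : R[X]) = (1 - M) + M := (sub_add_cancel 1 M).symm
      rw [this]
      exact Submodule.add_mem_sup hMJ hM

end Groth.Agent.S15773
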