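import Groth.Statements.S19779
import Groth.Agent.ApproxMod.Instances
-- import your own Groth.Agent.* helpers here

set_option autoImplicit false
universe u
open Polynomial TensorProduct
open CAlg

namespace Groth.Agent.S19779

/-- For general linear groups, in the case R{t}[1/t] → R((t)), let R be a commutative ring, B = R{t} a
henselization of R[t] along (t), ψ : B → R[[t]] the R[t]-algebra map, L = B[1/t], and L' an
L-algebra identified with R((t)) compatibly with ψ. Then base change along L → L' is a bijection on
isomorphism classes of finitely generated projective modules: two finitely generated projective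
L-modules isomorphic over L' are isomorphic, and every finitely generated projective L'-module is
extended from one over L. (The published statement is the bijection H¹(R{t}[1/t], G) ≅ H¹(R((t)), G)
for every quasi-affine smooth group G; this row is the case of the general linear groups, stated for
finitely generated projective modules of arbitrary rank.) -/
theorem result (R : Type u) [CommRing R]
    (B : Type u) [CommRing B] [Algebra R[X] B] (hB : Hens2.IsPairHenselization R[X] (Ideal.span {(X : R[X])}) B)
    (ψ : B →ₐ[R[X]] PowerSeries R)
    (L' : Type u) [CommRing L'] [Algebra (Localization.Away (algebraMap R[X] B X)) L'] (e : L' ≃+* LaurentSeries R)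
    (he : ∀ b : B, e (algebraMap (Localization.Away (algebraMap R[X] B X)) L' (algebraMap B (Localization.Away (algebraMap R[X] B X)) b)) =
      HahnSeries.ofPowerSeries ℤ R (ψ b)) :
    (∀ (M N : Type u) [AddCommGroup M] [Module (Localization.Away (algebraMap R[X] B X)) M] [Module.Finite (Localization.Away (algebraMap R[X] B X)) M] [Module.Projective (Localization.Away (algebraMap R[X] B X)) M]
        [AddCommGroup N] [Module (Localization.Away (algebraMap R[X] B X)) N] [Module.Finite (Localization.Away (algebraMap R[X] B X)) N] [Module.Projective (Localization.Away (algebraMap R[X] B X)) N],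
        Nonempty (L' ⊗[Localization.Away (algebraMap R[X] B X)] M ≃ₗ[L'] L' ⊗[Localization.Away (algebraMap R[X] B X)] N) → Nonempty (M ≃ₗ[Localization.Away (algebraMap R[X] B X)] N)) ∧
    (∀ (M' : Type u) [AddCommGroup M'] [Module L' M'] [Module.Finite L' M'] [Module.Projective L' M'],
        ∃ (M : Type u) (_ : AddCommGroup M) (_ : Module (Localization.Away (algebraMap R[X] B X)) M),
          Module.Finite (Localization.Away (algebraMap R[X] B X)) M ∧ Module.Projective (Localization.Away (algebraMap R[X] B X)) M ∧
          Nonempty (L' ⊗[Localization.Away (algebraMap R[X] B X)] M ≃ₗ[L'] M')) := by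
  letI : Algebra (PowerSeries R) L' := (e.symm.toRingHom.comp (HahnSeries.ofPowerSeries ℤ R)).toAlgebra
  haveI : IsLocalization.Away (PowerSeries.X : PowerSeries R) L' :=
    Groth.Agent.ApproxMod.isLocalization_laurent e fun s => e.apply_symm_apply _
  have hψ : ∀ p : R[X], ψ (algebraMap R[X] B p) = (p : PowerSeries R) := fun p => by
    rw [ψ.commutes]
    rfl
  haveI : IsLocalization.Away (ψ.toRingHom (algebraMap R[X] B X)) L' := by
    rw [show ψ.toRingHom (algebraMap R[X] B X) = PowerSeries.X from (hψ X).trans Polynomial.coe_X]
    infer_instance
  haveI : HenselianRing B (Ideal.span {algebraMap R[X] B X}) := by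
    have h := hB.1
    rwa [Ideal.map_span, Set.image_singleton] at h
  have D : Groth.Agent.ApproxMod.Data (A' := Localization.Away (algebraMap R[X] B X)) (S' := L') ψ.toRingHom
      (algebraMap R[X] B X) :=
    Groth.Agent.ApproxMod.data_powerSeries
      (HenselianRing.jac (I := Ideal.span {algebraMap R[X] B X}) (Ideal.mem_span_singleton_self _))
      (Groth.Agent.ApproxMod.exists_sub_mem_polynomial hB) ψ.toRingHom hψ
      fun b => e.injective ((he b).trans (e.apply_symm_apply _).symm)
  exact ⟨fun M N _ _ _ _ _ _ _ _ h => Groth.Agent.ApproxMod.iso_descends D M N h,
    fun M' _ _ _ _ => Groth.Agent.ApproxMod.projective_extends D M'⟩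

end Groth.Agent.S19779
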