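import Groth.Statements.S15753
import Groth.Agent.S15773
import Groth.Agent.S19779
import Groth.Agent.Hensel.HenselizationProps

set_option autoImplicit false
universe u
open Polynomial TensorProduct
open CAlg

namespace Groth.Agent.S15753
open IsLocalRing nonZeroDivisors

/-- An ideal with a "complement" up to a non-zero-divisor is invertible. -/
theorem invertible_of_mul_eq_span {A : Type u} [CommRing A] {I I' : Ideal A} {q : A} (hq : q ∈ A⁰)
    (h : I * I' = Ideal.span {q}) : Module.Invertible A I := by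
  have hdiv : ∀ (a : I) (b : I'), ∃ c : A, c * q = (a : A) * b := fun a b =>
    Ideal.mem_span_singleton'.1 (h ▸ Ideal.mul_mem_mul a.2 b.2)
  choose c hc using hdiv
  have hc' : ∀ (a : I) (b : I') (x : A), x * q = (a : A) * b → c a b = x := fun a b x hx =>
    (mul_cancel_right_mem_nonZeroDivisors hq).1 ((hc a b).trans hx.symm)
  let β : I →ₗ[A] I' →ₗ[A] A := LinearMap.mk₂ A c
    (fun a a' b => hc' (a + a') b _ (by rw [add_mul, hc, hc, Submodule.coe_add, add_mul]))
    (fun r a b => hc' (r • a) b _ (by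
      rw [smul_eq_mul, mul_assoc, hc, Submodule.coe_smul, smul_eq_mul, mul_assoc]))
    (fun a b b' => hc' a (b + b') _ (by rw [add_mul, hc, hc, Submodule.coe_add, mul_add]))
    (fun r a b => hc' a (r • b) _ (by rw [smul_eq_mul, mul_assoc, hc, Submodule.coe_smul, smul_eq_mul]; ring))
  obtain ⟨y, hy⟩ : ∃ y, TensorProduct.lift β y = 1 := by
    obtain ⟨y, hy⟩ : q ∈ Submodule.map (LinearMap.lsmul A A q) (LinearMap.range (TensorProduct.lift β)) := by
      have hle : I * I' ≤ Submodule.map (LinearMap.lsmul A A q) (LinearMap.range (TensorProduct.lift β)) := by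
        refine Submodule.mul_le.2 fun a ha b hb => ?_
        refine ⟨c ⟨a, ha⟩ ⟨b, hb⟩, ⟨(⟨a, ha⟩ : I) ⊗ₜ[A] (⟨b, hb⟩ : I'), ?_⟩, ?_⟩
        · rw [TensorProduct.lift.tmul]; rfl
        · show q * c ⟨a, ha⟩ ⟨b, hb⟩ = a * b
          rw [mul_comm, hc]
      exact hle (h.ge (Ideal.mem_span_singleton_self q))
    obtain ⟨⟨z, rfl⟩, hz⟩ := hy
    exact ⟨z, (mul_cancel_left_mem_nonZeroDivisors hq).1 (hz.trans (mul_one q).symm)⟩
  have key : ∀ (w : I ⊗[A] I') (v : I ⊗[A] I'), TensorProduct.lift β v • w = TensorProduct.lift β w • v := by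
    intro w
    induction w using TensorProduct.induction_on with
    | zero => intro v; simp
    | tmul a b =>
      intro v
      induction v using TensorProduct.induction_on with
      | zero => simp
      | tmul a' b' =>
        rw [TensorProduct.lift.tmul, TensorProduct.lift.tmul]
        show c a' b' • a ⊗ₜ[A] b = c a b • a' ⊗ₜ[A] b'
        have e1 : c a' b' • a = c a b' • a' := by
          refine Subtype.ext ((mul_cancel_right_mem_nonZeroDivisors hq).1 ?_)
          show c a' b' * (a : A) * q = c a b' * (a' : A) * q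
          calc c a' b' * (a : A) * q = (c a' b' * q) * a := by ring
            _ = (c a b' * q) * a' := by rw [hc, hc]; ring
            _ = _ := by ring
        have e2 : c a b' • b = c a b • b' := by
          refine Subtype.ext ((mul_cancel_right_mem_nonZeroDivisors hq).1 ?_)
          show c a b' * (b : A) * q = c a b * (b' : A) * q
          calc c a b' * (b : A) * q = (c a b' * q) * b := by ring
            _ = (c a b * q) * b' := by rw [hc, hc]; ring
            _ = _ := by ring
        rw [TensorProduct.smul_tmul', e1, TensorProduct.smul_tmul, e2, TensorProduct.tmul_smul]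
      | add x y hx hy => rw [map_add, add_smul, hx, hy, smul_add]
    | add x y hx hy => intro v; rw [smul_add, hx v, hy v, map_add, add_smul]
  refine Module.Invertible.left (LinearEquiv.ofBijective (TensorProduct.lift β) ⟨?_, fun a => ⟨a • y, by
    rw [map_smul, hy, smul_eq_mul, mul_one]⟩⟩)
  refine (injective_iff_map_eq_zero _).2 fun w hw => ?_
  have := key w y
  rwa [hy, one_smul, hw, zero_smul] at this

/-- Base change of an invertible ideal is its extension. -/
theorem exists_tensor_equiv_map {A : Type u} [CommRing A] (A' : Type u) [CommRing A'] [Algebra A A']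
    {I I' : Ideal A} {q : A} (hq : q ∈ A⁰) (hq' : algebraMap A A' q ∈ A'⁰)
    (h : I * I' = Ideal.span {q}) : Nonempty (A' ⊗[A] I ≃ₗ[A'] I.map (algebraMap A A')) := by
  haveI := invertible_of_mul_eq_span hq h
  haveI : Module.Invertible A' (I.map (algebraMap A A')) := invertible_of_mul_eq_span hq'
    (by rw [← Ideal.map_mul, h, Ideal.map_span, Set.image_singleton])
  let f : I →ₗ[A] I.map (algebraMap A A') :=
    { toFun := fun x => ⟨algebraMap A A' x, Ideal.mem_map_of_mem _ x.2⟩
      map_add' := fun x y => Subtype.ext (map_add _ _ _)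
      map_smul' := fun r x => Subtype.ext (by simp [Algebra.smul_def]) }
  refine ⟨LinearEquiv.ofBijective (f.liftBaseChange A') (Module.Invertible.bijective_of_surjective ?_)⟩
  rw [← LinearMap.range_eq_top, eq_top_iff]
  intro x _
  have : (x : A') ∈ Submodule.map (I.map (algebraMap A A')).subtype (LinearMap.range (f.liftBaseChange A')) := by
    refine (show I.map (algebraMap A A') ≤ _ from Ideal.span_le.2 ?_) x.2
    rintro _ ⟨a, ha, rfl⟩
    exact ⟨f ⟨a, ha⟩, ⟨(1 : A') ⊗ₜ[A] (⟨a, ha⟩ : I), by simp⟩, rfl⟩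
  obtain ⟨z, hz, hzx⟩ := this
  rwa [Subtype.ext hzx] at hz

/-- A functional which is nonzero modulo an ideal with trivial Picard group of the quotient. -/
theorem exists_hom {A : Type u} [CommRing A] (𝔪 : Ideal A)
    [Subsingleton (CommRing.Pic (A ⧸ 𝔪))] (M : Type u) [AddCommGroup M] [Module A M] [Module.Invertible A M] :
    ∃ φ : M →ₗ[A] A, LinearMap.range φ ⊔ 𝔪 = ⊤ := by
  obtain ⟨e⟩ := (Module.Invertible.free_iff_linearEquiv (R := A ⧸ 𝔪) (M := (A ⧸ 𝔪) ⊗[A] M)).1 inferInstance
  let θ : M →ₗ[A] A ⧸ 𝔪 := (e.toLinearMap.restrictScalars A).comp (TensorProduct.mk A (A ⧸ 𝔪) M 1)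
  have hθ : LinearMap.range θ = ⊤ := by
    rw [LinearMap.range_eq_top]
    intro z
    obtain ⟨m, hm⟩ := TensorProduct.mk_surjective A M (A ⧸ 𝔪) Ideal.Quotient.mk_surjective (e.symm z)
    exact ⟨m, (congrArg e hm).trans (e.apply_symm_apply z)⟩
  obtain ⟨φ, hφ⟩ := Module.projective_lifting_property (Submodule.mkQ 𝔪) θ (Submodule.mkQ_surjective 𝔪)
  refine ⟨φ, (Ideal.eq_top_iff_one _).2 ?_⟩
  obtain ⟨m, hm⟩ := LinearMap.range_eq_top.1 hθ (Submodule.mkQ 𝔪 1)
  have h1 : Submodule.mkQ 𝔪 (φ m) = Submodule.mkQ 𝔪 1 := by rw [← hm, ← hφ]; rfl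
  exact Submodule.mem_sup.2 ⟨φ m, LinearMap.mem_range_self φ m, 1 - φ m,
    (Submodule.Quotient.eq 𝔪).1 h1.symm, by ring⟩

/-- A functional on an invertible module hitting a non-zero-divisor is injective. -/
theorem injective_of_mem_range {A : Type u} [CommRing A] {M : Type u} [AddCommGroup M] [Module A M]
    [Module.Invertible A M] {φ : M →ₗ[A] A} {q : A} (hq : q ∈ A⁰) (h : q ∈ LinearMap.range φ) :
    Function.Injective φ := by
  obtain ⟨b, hb⟩ := h
  refine (injective_iff_map_eq_zero _).2 fun a ha => ?_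
  have e : q • a = 0 := by
    have := congrArg ((TensorProduct.lid A M).toLinearMap ∘ₗ φ.rTensor M)
      (Module.Invertible.tmul_comm (R := A) (M := M) (m₁ := a) (m₂ := b))
    simpa [hb, ha] using this.symm
  obtain ⟨s, hs⟩ := ((Module.Invertible.linearEquiv A M).symm 1).exists_finset
  have hsum : (1 : A) = ∑ i ∈ s, i.1 i.2 := by
    simpa [LinearEquiv.symm_apply_eq, Module.Invertible.linearEquiv] using hs
  have h0 : ∀ g : Module.Dual A M, g a = 0 := fun g => by
    have := congrArg g e
    rw [map_smul, map_zero, smul_eq_mul] at this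
    exact mem_nonZeroDivisors_iff.1 hq |>.1 _ this
  have key : ∀ g : Module.Dual A M, ∀ m : M, g m • a = g a • m := fun g m => by
    have := congrArg ((TensorProduct.lid A M).toLinearMap ∘ₗ g.rTensor M)
      (Module.Invertible.tmul_comm (R := A) (M := M) (m₁ := m) (m₂ := a))
    simpa using this
  calc a = (∑ i ∈ s, i.1 i.2) • a := by rw [← hsum, one_smul]
    _ = 0 := by
      rw [Finset.sum_smul]
      exact Finset.sum_eq_zero fun i _ => by rw [key, h0, zero_smul]

/-- An ideal which is invertible as a module times its colon. -/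
theorem mul_colon_eq {A : Type u} [CommRing A] {J : Ideal A} [Module.Invertible A J] {q : A} (hq : q ∈ J) :
    J * Submodule.colon (Ideal.span {q}) (J : Set A) = Ideal.span {q} := by
  refine le_antisymm (Ideal.mul_le.2 fun a ha b hb => ?_) ((Ideal.span_singleton_le_iff_mem _).2 ?_)
  · rw [mul_comm]; exact Submodule.mem_colon.1 hb a ha
  obtain ⟨s, hs⟩ := ((Module.Invertible.linearEquiv A J).symm 1).exists_finset
  have hsum : (1 : A) = ∑ i ∈ s, i.1 i.2 := by
    simpa [LinearEquiv.symm_apply_eq, Module.Invertible.linearEquiv] using hs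
  have key : ∀ (g : Module.Dual A J) (y : J), q * g y = (y : A) * g ⟨q, hq⟩ := fun g y => by
    have := congrArg g (show q • y = (y : A) • (⟨q, hq⟩ : J) from Subtype.ext (mul_comm _ _))
    rwa [map_smul, map_smul, smul_eq_mul, smul_eq_mul] at this
  suffices h : q * ∑ i ∈ s, i.1 i.2 ∈ J * Submodule.colon (Ideal.span {q}) (J : Set A) by
    rwa [← hsum, mul_one] at h
  rw [Finset.mul_sum]
  refine Ideal.sum_mem _ fun i _ => ?_
  rw [key]
  refine Ideal.mul_mem_mul i.2.2 (Submodule.mem_colon.2 fun y hy => Ideal.mem_span_singleton'.2 ⟨i.1 ⟨y, hy⟩, ?_⟩)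
  show i.1 ⟨y, hy⟩ * q = i.1 ⟨q, hq⟩ * y
  linear_combination key i.1 ⟨y, hy⟩

/-- Pullback of the class of an invertible ideal. -/
theorem mapRingHom_mk_ideal {A A' : Type u} [CommRing A] [CommRing A'] (f : A →+* A')
    {I I' : Ideal A} {q : A} (hq : q ∈ A⁰) (hq' : f q ∈ A'⁰) (h : I * I' = Ideal.span {q})
    [Module.Invertible A I] [Module.Invertible A' (I.map f)] :
    CommRing.Pic.mapRingHom f (CommRing.Pic.mk A I) = CommRing.Pic.mk A' (I.map f) := by
  letI := f.toAlgebra
  show CommRing.Pic.mapAlgebra A A' (CommRing.Pic.mk A I) = _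
  rw [CommRing.Pic.mapAlgebra_apply, CommRing.Pic.mk_eq_mk_iff]
  obtain ⟨e⟩ := exists_tensor_equiv_map A' hq hq' h
  exact ⟨(LinearEquiv.baseChange A A' _ _ (CommRing.Pic.mk.linearEquiv A I)).trans e⟩

theorem mapAlgebra_mk {A A' : Type u} [CommRing A] [CommRing A'] [Algebra A A'] (M : Type u) [AddCommGroup M]
    [Module A M] [Module.Invertible A M] :
    CommRing.Pic.mapAlgebra A A' (CommRing.Pic.mk A M) = CommRing.Pic.mk A' (A' ⊗[A] M) := by
  rw [CommRing.Pic.mapAlgebra_apply, CommRing.Pic.mk_eq_mk_iff]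
  exact ⟨LinearEquiv.baseChange A A' _ _ (CommRing.Pic.mk.linearEquiv A M)⟩

section

variable {R : Type u} [CommRing R] [HenselianLocalRing R] {B : Type u} [CommRing B] [Algebra R B] [Algebra R[X] B]
  [IsScalarTower R R[X] B] (hB : Hens2.IsPairHenselization R[X] (Ideal.span {(X : R[X])}) B)
  (ψ : R[X] →ₐ[R] Localization.Away (algebraMap R[X] B X))
  (hψ : ψ X * algebraMap B (Localization.Away (algebraMap R[X] B X)) (algebraMap R[X] B X) = 1)

local notation "L" => Localization.Away (algebraMap R[X] B X)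
local notation "𝔪L" => Ideal.map (algebraMap R L) (maximalIdeal R)
local notation "𝔪X" => Ideal.map (algebraMap R R[X]) (maximalIdeal R)

include hψ in
theorem isUnit_psi_X : IsUnit (ψ X) := IsUnit.of_mul_eq_one _ hψ

include hB in
theorem isMaximal_mL : Ideal.IsMaximal 𝔪L := by
  have hmap : 𝔪L = ((maximalIdeal R).map (algebraMap R B)).map (algebraMap B L) := by
    rw [Ideal.map_map, ← IsScalarTower.algebraMap_eq]
  refine Ideal.isMaximal_iff.2 ⟨fun h => ?_, fun J x hJ hx hxJ => ?_⟩
  · rw [hmap, ← map_one (algebraMap B L),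
      IsLocalization.algebraMap_mem_map_algebraMap_iff (Submonoid.powers (algebraMap R[X] B X))] at h
    obtain ⟨_, ⟨N, rfl⟩, hN⟩ := h
    exact Weierstrass7.pow_notMem hB N (by simpa using hN)
  · obtain ⟨⟨b, ⟨_, N, rfl⟩⟩, hb⟩ := IsLocalization.surj (Submonoid.powers (algebraMap R[X] B X)) x
    have hbm : b ∉ (maximalIdeal R).map (algebraMap R B) := fun h => hx <| by
      have h' := Ideal.mem_map_of_mem (algebraMap B L) h
      rw [← hmap, ← hb] at h'
      exact (Ideal.mul_unit_mem_iff_mem _ (by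
        rw [map_pow]; exact (IsLocalization.Away.algebraMap_isUnit (S := L) (algebraMap R[X] B X)).pow N)).1 h'
    obtain ⟨P, u, hP, hlow, he⟩ := Weierstrass7.exists_prep hB hbm
    have hd : P - X ^ P.natDegree ∈ 𝔪X := Ideal.mem_map_C_iff.2 fun i => by
      rw [coeff_sub, coeff_X_pow]
      rcases lt_trichotomy i P.natDegree with h | h | h
      · rw [if_neg h.ne, sub_zero]; exact hlow i h
      · rw [if_pos h, h, hP.coeff_natDegree, sub_self]; exact zero_mem _
      · rw [if_neg h.ne', coeff_eq_zero_of_natDegree_lt h, sub_self]; exact zero_mem _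
    have hd' : algebraMap B L (algebraMap R[X] B (P - X ^ P.natDegree)) ∈ J := hJ (by
      have h' := Ideal.mem_map_of_mem ((algebraMap B L).comp (algebraMap R[X] B)) hd
      rw [Ideal.map_map] at h'
      rwa [RingHom.comp_assoc, ← IsScalarTower.algebraMap_eq R R[X] B, ← IsScalarTower.algebraMap_eq] at h')
    have hPJ : algebraMap B L (algebraMap R[X] B P) ∈ J := by
      have h' : algebraMap B L b ∈ J := hb ▸ J.mul_mem_right _ hxJ
      rw [he, map_mul] at h'
      exact (Ideal.mul_unit_mem_iff_mem _ (u.isUnit.map _)).1 h'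
    have hu : IsUnit (algebraMap B L (algebraMap R[X] B (X ^ P.natDegree))) := by
      rw [map_pow, map_pow]
      exact (IsLocalization.Away.algebraMap_isUnit (S := L) (algebraMap R[X] B X)).pow _
    rw [← Ideal.eq_top_iff_one]
    refine Ideal.eq_top_of_isUnit_mem _ ?_ hu
    have := sub_mem hPJ hd'
    rwa [← map_sub, ← map_sub, sub_sub_cancel] at this

include hB hψ in
theorem psi_mem_nonZeroDivisors {Q : R[X]} (h0 : IsUnit (Q.coeff 0))
    (hm : ∀ i, i ≠ 0 → Q.coeff i ∈ maximalIdeal R) : ψ Q ∈ L⁰ := by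
  obtain ⟨n, f, a, ha, hP, -, hfn, hfQ, -⟩ := S15773.exists_reversed h0 hm
  have hf : f ∈ (R[X])⁰ := (mul_mem_nonZeroDivisors.1 (hP.mem_nonZeroDivisors)).2
  have hfB : algebraMap R[X] B f ∈ B⁰ := by
    haveI := Hensel.flat_of_isPairHenselization _ hB
    have h : IsSMulRegular B (algebraMap R[X] B f) := IsSMulRegular.of_flat fun x y hxy =>
      (mul_cancel_left_mem_nonZeroDivisors hf).1 hxy
    refine mem_nonZeroDivisors_iff_left.2 fun x hx => h ?_
    show algebraMap R[X] B f * x = algebraMap R[X] B f * 0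
    rw [hx, mul_zero]
  have hfL : algebraMap B L (algebraMap R[X] B f) ∈ L⁰ :=
    IsLocalization.nonZeroDivisors_le_comap (Submonoid.powers (algebraMap R[X] B X)) L hfB
  have e := S15773.psi_mul_pow ψ hψ hfn
  rw [hfQ] at e
  rw [← e] at hfL
  exact (mul_mem_nonZeroDivisors.1 hfL).1

theorem sub_one_facts {M : R[X]} (hM : M ∈ 𝔪X) :
    Ideal.span {1 - M} ⊔ 𝔪X = ⊤ ∧ (1 - M) ∈ (R[X])⁰ :=
  ⟨(Ideal.eq_top_iff_one _).2 (Submodule.mem_sup.2
      ⟨1 - M, Ideal.mem_span_singleton_self _, M, hM, sub_add_cancel 1 M⟩),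
    mem_nonzeroDivisors_of_coeff_mem 0 (S15773.coeff_of_sub_mem hM).1.mem_nonZeroDivisors⟩

include hB hψ in
/-- An ideal of `L` comaximal with `m` having invertible module structure contracts to an invertible ideal. -/
theorem exists_contracted (J : Ideal L) (hJ : J ⊔ 𝔪L = ⊤) [Module.Invertible L J] :
    ∃ (I I' : Ideal R[X]) (M : R[X]), M ∈ 𝔪X ∧ I.map ψ.toRingHom = J ∧ I * I' = Ideal.span {1 - M} := by
  obtain ⟨-, h2⟩ := S15773.result R B hB ψ hψ
  obtain ⟨h1, -⟩ := S15773.result R B hB ψ hψ
  obtain ⟨M, hM, hMJ⟩ := S15773.exists_mem_reversed hB ψ hψ J hJ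
  let J' : Ideal L := Submodule.colon (Ideal.span {ψ (1 - M)}) (J : Set L)
  have hJ'mem : ∀ x, x ∈ J' ↔ ∀ y ∈ J, x * y ∈ Ideal.span {ψ (1 - M)} := fun x => Submodule.mem_colon
  have hprod : J * J' = Ideal.span {ψ (1 - M)} := mul_colon_eq hMJ
  have hMJ' : ψ (1 - M) ∈ J' := (hJ'mem _).2 fun y _ => Ideal.mul_mem_right _ _ (Ideal.mem_span_singleton_self _)
  have hψm : ψ M ∈ 𝔪L := by
    have := Ideal.mem_map_of_mem ψ.toRingHom hM
    rwa [Ideal.map_map, show ψ.toRingHom.comp (algebraMap R R[X]) = algebraMap R _ from ψ.comp_algebraMap] at this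
  have hJ' : J' ⊔ 𝔪L = ⊤ := (Ideal.eq_top_iff_one _).2 (Submodule.mem_sup.2
    ⟨ψ (1 - M), hMJ', ψ M, hψm, by rw [← map_add, sub_add_cancel, map_one]⟩)
  refine ⟨J.comap ψ.toRingHom, J'.comap ψ.toRingHom, M, hM, (h2 J hJ).1, ?_⟩
  have hcm : (J.comap ψ.toRingHom * J'.comap ψ.toRingHom) ⊔ 𝔪X = ⊤ := by
    rw [Ideal.mul_sup_eq_of_coprime_left (h2 J hJ).2]
    exact (h2 J' hJ').2
  rw [← (h1 _ hcm).1, Ideal.map_mul, (h2 J hJ).1, (h2 J' hJ').1, hprod,
    ← (h1 _ (sub_one_facts hM).1).1, Ideal.map_span, Set.image_singleton]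
  rfl

end


/-- Let R be a Henselian local ring and regard R((t)) as an R[s]-algebra through s ↦ t⁻¹. Then the
pullback map Pic(R[t⁻¹]) → Pic(R((t))) is bijective: an invertible R[s]-module that becomes free
over R((t)) is free, and every invertible R((t))-module is extended from an invertible R[s]-module.
(The published statement is the chain of three bijections Pic(R[t⁻¹]) ≅ Pic((R[t]_{1+tR[t]})[1/t]) ≅
Pic(R{t}[1/t]) ≅ Pic(R((t))), each induced by pullback; this row states the composite.) -/
theorem result (R : Type u) [CommRing R]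
    [HenselianLocalRing R] [Algebra R[X] (LaurentSeries R)]
    (halg : algebraMap R[X] (LaurentSeries R) =
      Polynomial.eval₂RingHom (HahnSeries.C) (HahnSeries.single (-1 : ℤ) (1 : R))) :
    (∀ (M : Type u) [AddCommGroup M] [Module R[X] M] [Module.Invertible R[X] M],
        Module.Free (LaurentSeries R) (LaurentSeries R ⊗[R[X]] M) → Module.Free R[X] M) ∧
    (∀ (L : Type u) [AddCommGroup L] [Module (LaurentSeries R) L] [Module.Invertible (LaurentSeries R) L],
        ∃ (M : Type u) (_ : AddCommGroup M) (_ : Module R[X] M), Module.Invertible R[X] M ∧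
          Nonempty (L ≃ₗ[LaurentSeries R] LaurentSeries R ⊗[R[X]] M)) := by
  classical
  obtain ⟨B, _, _, hB⟩ : ∃ (B : Type u) (_ : CommRing B) (_ : Algebra R[X] B),
      Hens2.IsPairHenselization R[X] (Ideal.span {(X : R[X])}) B :=
    ⟨_, _, _, Hensel.isPairHenselization_pairHenz R[X] (Ideal.span {(X : R[X])})⟩
  letI : Algebra R B := ((algebraMap R[X] B).comp (algebraMap R R[X])).toAlgebra
  haveI : IsScalarTower R R[X] B := IsScalarTower.of_algebraMap_eq fun _ => rfl
  obtain ⟨g, hg, -⟩ := hB.2 (PowerSeries R) (Ideal.span {PowerSeries.X}) (Polynomial.coeToPowerSeries.ringHom (R := R))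
    inferInstance (by rw [Ideal.map_span, Set.image_singleton]; simp)
  have hgp : ∀ p : R[X], g (algebraMap R[X] B p) = (p : PowerSeries R) := fun p => RingHom.congr_fun hg p
  let gA : B →ₐ[R[X]] PowerSeries R := { g with commutes' := fun p => (hgp p).trans rfl }
  have hunit : IsUnit (((HahnSeries.ofPowerSeries ℤ R).comp g) (algebraMap R[X] B X)) := by
    rw [RingHom.comp_apply, hgp, Polynomial.coe_X, HahnSeries.ofPowerSeries_X]
    exact IsUnit.of_mul_eq_one (HahnSeries.single (-1 : ℤ) (1 : R)) (by simp [HahnSeries.single_mul_single])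
  letI : Algebra (Localization.Away (algebraMap R[X] B X)) (LaurentSeries R) :=
    (IsLocalization.Away.lift (algebraMap R[X] B X) hunit).toAlgebra
  have he : ∀ b : B, algebraMap (Localization.Away (algebraMap R[X] B X)) (LaurentSeries R)
      (algebraMap B _ b) = HahnSeries.ofPowerSeries ℤ R (g b) :=
    fun b => IsLocalization.Away.lift_eq _ hunit b
  obtain ⟨hinj, hext⟩ := S19779.result R B hB gA (LaurentSeries R) (RingEquiv.refl _) he
  let ψ : R[X] →ₐ[R] Localization.Away (algebraMap R[X] B X) :=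
    aeval (IsLocalization.Away.invSelf (algebraMap R[X] B X))
  have hψ : ψ X * algebraMap B (Localization.Away (algebraMap R[X] B X)) (algebraMap R[X] B X) = 1 := by
    rw [show ψ X = IsLocalization.Away.invSelf (algebraMap R[X] B X) from aeval_X _, mul_comm,
      IsLocalization.Away.mul_invSelf]
  have hcomp : (algebraMap (Localization.Away (algebraMap R[X] B X)) (LaurentSeries R)).comp ψ.toRingHom =
      algebraMap R[X] (LaurentSeries R) := by
    rw [halg]
    refine Polynomial.ringHom_ext (fun r => ?_) ?_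
    · show algebraMap _ (LaurentSeries R) (ψ (C r)) = eval₂RingHom HahnSeries.C _ (C r)
      rw [coe_eval₂RingHom, eval₂_C, ← Polynomial.algebraMap_eq, AlgHom.commutes,
        IsScalarTower.algebraMap_apply R B (Localization.Away (algebraMap R[X] B X)), he,
        IsScalarTower.algebraMap_apply R R[X] B, hgp, Polynomial.algebraMap_eq, Polynomial.coe_C,
        HahnSeries.ofPowerSeries_C]
    · show algebraMap _ (LaurentSeries R) (ψ X) = eval₂RingHom HahnSeries.C _ X
      have h := congrArg (algebraMap (Localization.Away (algebraMap R[X] B X)) (LaurentSeries R)) hψ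
      rw [map_mul, map_one, he, hgp, Polynomial.coe_X, HahnSeries.ofPowerSeries_X] at h
      rw [coe_eval₂RingHom, eval₂_X]
      calc algebraMap _ (LaurentSeries R) (ψ X)
          = algebraMap _ (LaurentSeries R) (ψ X) * (HahnSeries.single (1 : ℤ) (1 : R) * HahnSeries.single (-1 : ℤ) 1) := by
            simp [HahnSeries.single_mul_single]
        _ = _ := by rw [← mul_assoc, h, one_mul]
  obtain ⟨h1, -⟩ := S15773.result R B hB ψ hψ
  haveI := isMaximal_mL (R := R) hB
  letI := Ideal.Quotient.field ((IsLocalRing.maximalIdeal R).map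
    (algebraMap R (Localization.Away (algebraMap R[X] B X))))
  haveI : Subsingleton (CommRing.Pic (R[X] ⧸ (IsLocalRing.maximalIdeal R).map (algebraMap R R[X]))) := by
    letI := Ideal.Quotient.field (IsLocalRing.maximalIdeal R)
    let e := Ideal.polynomialQuotientEquivQuotientPolynomial (IsLocalRing.maximalIdeal R)
    rw [Polynomial.algebraMap_eq]
    haveI : IsDomain (R[X] ⧸ Ideal.map (C : R →+* R[X]) (IsLocalRing.maximalIdeal R)) := e.symm.toMulEquiv.isDomain _
    haveI : IsPrincipalIdealRing (R[X] ⧸ Ideal.map (C : R →+* R[X]) (IsLocalRing.maximalIdeal R)) :=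
      IsPrincipalIdealRing.of_surjective e.toRingHom e.surjective
    infer_instance
  have hpb : ∀ c, CommRing.Pic.mapAlgebra (Localization.Away (algebraMap R[X] B X)) (LaurentSeries R)
      (CommRing.Pic.mapRingHom ψ.toRingHom c) = CommRing.Pic.mapAlgebra R[X] (LaurentSeries R) c := fun c => by
    rw [← CommRing.Pic.mapRingHom_algebraMap, CommRing.Pic.mapRingHom_mapRingHom, hcomp,
      CommRing.Pic.mapRingHom_algebraMap]
  refine ⟨fun M _ _ _ hfree => ?_, fun N _ _ _ => ?_⟩
  · obtain ⟨φ, hφ⟩ := exists_hom ((IsLocalRing.maximalIdeal R).map (algebraMap R R[X])) M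
    obtain ⟨Q, hQ, M₀, hM₀, hQM⟩ := Submodule.mem_sup.1 (hφ ▸ Submodule.mem_top : (1 : R[X]) ∈ LinearMap.range φ ⊔ _)
    obtain rfl : Q = 1 - M₀ := by rw [← hQM, add_sub_cancel_right]
    have hQ0 := (sub_one_facts hM₀).2
    let eM : M ≃ₗ[R[X]] LinearMap.range φ := LinearEquiv.ofInjective φ (injective_of_mem_range hQ0 hQ)
    let I : Ideal R[X] := LinearMap.range φ
    haveI : Module.Invertible R[X] I := .congr eM
    let J : Ideal (Localization.Away (algebraMap R[X] B X)) := I.map ψ.toRingHom
    have hprod : I * Submodule.colon (Ideal.span {1 - M₀}) (I : Set R[X]) = Ideal.span {1 - M₀} := mul_colon_eq hQ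
    have hψQ := psi_mem_nonZeroDivisors hB ψ hψ (S15773.coeff_of_sub_mem hM₀).1 (S15773.coeff_of_sub_mem hM₀).2
    have hprodJ : J * (Submodule.colon (Ideal.span {1 - M₀}) (I : Set R[X])).map ψ.toRingHom =
        Ideal.span {ψ (1 - M₀)} := by
      rw [← Ideal.map_mul, hprod, Ideal.map_span, Set.image_singleton]; rfl
    haveI : Module.Invertible _ J := invertible_of_mul_eq_span hψQ hprodJ
    haveI : Module.Invertible (Localization.Away (algebraMap R[X] B X)) (I.map ψ.toRingHom) := ‹_›
    have hIM : CommRing.Pic.mk R[X] I = CommRing.Pic.mk R[X] M := CommRing.Pic.mk_eq_mk_iff.2 ⟨eM.symm⟩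
    have h0 : CommRing.Pic.mk (LaurentSeries R) (LaurentSeries R ⊗[Localization.Away (algebraMap R[X] B X)] J) =
        CommRing.Pic.mk (LaurentSeries R)
          (LaurentSeries R ⊗[Localization.Away (algebraMap R[X] B X)] Localization.Away (algebraMap R[X] B X)) := by
      rw [← mapAlgebra_mk, ← mapAlgebra_mk, CommRing.Pic.mk_self, map_one,
        ← mapRingHom_mk_ideal ψ.toRingHom hQ0 hψQ hprod, hpb, hIM, mapAlgebra_mk,
        CommRing.Pic.mk_eq_one_iff_free]
      exact hfree
    obtain ⟨eJL⟩ := hinj J (Localization.Away (algebraMap R[X] B X)) (CommRing.Pic.mk_eq_mk_iff.1 h0)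
    obtain ⟨f, hf⟩ : ∃ f, J = Ideal.span {f} := by
      refine ⟨(eJL.symm 1 : J), le_antisymm (fun x hx => Ideal.mem_span_singleton'.2 ⟨eJL ⟨x, hx⟩, ?_⟩)
        ((Ideal.span_singleton_le_iff_mem _).2 (eJL.symm 1).2)⟩
      have h := eJL.symm.map_smul (eJL ⟨x, hx⟩) 1
      rw [smul_eq_mul, mul_one, eJL.symm_apply_apply] at h
      exact (congrArg Subtype.val h).symm
    obtain ⟨hcm, hJm, -⟩ := h1 I hφ
    have hJm' : J ⊔ _ = ⊤ := hJm
    obtain ⟨⟨b, ⟨_, N, rfl⟩⟩, hb⟩ := IsLocalization.surj (Submonoid.powers (algebraMap R[X] B X)) f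
    have hu : IsUnit (algebraMap B (Localization.Away (algebraMap R[X] B X)) (algebraMap R[X] B X ^ N)) := by
      rw [map_pow]; exact (IsLocalization.Away.algebraMap_isUnit _).pow N
    have hbJ : J = Ideal.span {algebraMap B (Localization.Away (algebraMap R[X] B X)) b} := by
      rw [hf, ← hb, Ideal.span_singleton_mul_right_unit hu]
    have hbm : b ∉ (IsLocalRing.maximalIdeal R).map (algebraMap R B) := fun h => by
      refine (isMaximal_mL (R := R) hB).ne_top ?_
      rw [← hJm']
      refine (sup_eq_right.2 ?_).symm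
      rw [hbJ, Ideal.span_singleton_le_iff_mem, IsScalarTower.algebraMap_eq R B, ← Ideal.map_map]
      exact Ideal.mem_map_of_mem _ h
    obtain ⟨P, u, hP, hlow, hbP⟩ := Weierstrass7.exists_prep hB hbm
    have hJP : J = (Ideal.span {reflect P.natDegree P}).map ψ.toRingHom := by
      rw [hbJ, hbP, map_mul, Ideal.span_singleton_mul_right_unit (u.isUnit.map _),
        ← S15773.psi_mul_pow ψ hψ le_rfl,
        Ideal.span_singleton_mul_right_unit ((IsLocalization.Away.algebraMap_isUnit _).pow _),
        Ideal.map_span, Set.image_singleton]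
      rfl
    have hd : 1 - reflect P.natDegree P ∈ (IsLocalRing.maximalIdeal R).map (algebraMap R R[X]) := by
      refine Ideal.mem_map_C_iff.2 fun i => ?_
      rw [coeff_sub, coeff_reflect, coeff_one]
      by_cases hi : i = 0
      · rw [if_pos hi, hi, revAt_le (Nat.zero_le _), Nat.sub_zero, hP.coeff_natDegree, sub_self]
        exact zero_mem _
      rw [if_neg hi, zero_sub]
      refine neg_mem ?_
      by_cases hin : i ≤ P.natDegree
      · rw [revAt_le hin]; exact hlow _ (by omega)
      · rw [← revAtFun_eq, revAtFun, if_neg hin, coeff_eq_zero_of_natDegree_lt (by omega)]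
        exact zero_mem _
    obtain ⟨hsup, hr0⟩ := sub_one_facts hd
    rw [sub_sub_cancel] at hsup hr0
    have hI : I = Ideal.span {reflect P.natDegree P} := by
      rw [← hcm, show Ideal.map ψ.toRingHom I = _ from hJP, (h1 _ hsup).1]
    refine Module.Free.of_equiv ((eM.trans (LinearEquiv.ofEq _ _ hI)).trans
      (LinearEquiv.ofInjective (LinearMap.toSpanSingleton R[X] R[X] (reflect P.natDegree P))
        (fun a b h => (mul_cancel_right_mem_nonZeroDivisors hr0).1 h) |>.trans (LinearEquiv.ofEq _ _ (by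
          exact LinearMap.range_toSpanSingleton _ |>.trans rfl))).symm).symm
  · obtain ⟨M, _, _, _, _, ⟨eN⟩⟩ := hext N
    obtain ⟨M', _, _, _, _, ⟨eN'⟩⟩ := hext (Module.Dual (LaurentSeries R) N)
    obtain ⟨e⟩ := hinj (M ⊗[Localization.Away (algebraMap R[X] B X)] M') (Localization.Away (algebraMap R[X] B X))
      ⟨(AlgebraTensorModule.distribBaseChange (Localization.Away (algebraMap R[X] B X)) (LaurentSeries R) M M').trans
        ((TensorProduct.congr eN eN').trans ((TensorProduct.comm _ N _).trans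
          ((Module.Invertible.linearEquiv (LaurentSeries R) N).trans (AlgebraTensorModule.rid _ _ _).symm)))⟩
    haveI : Module.Invertible (Localization.Away (algebraMap R[X] B X)) M := Module.Invertible.left e
    obtain ⟨φ, hφ⟩ := exists_hom ((IsLocalRing.maximalIdeal R).map
      (algebraMap R (Localization.Away (algebraMap R[X] B X)))) M
    obtain ⟨M₁, hM₁, hQ₁⟩ := S15773.exists_mem_reversed hB ψ hψ (LinearMap.range φ) hφ
    let eMJ : M ≃ₗ[Localization.Away (algebraMap R[X] B X)] LinearMap.range φ := LinearEquiv.ofInjective φ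
      (injective_of_mem_range (psi_mem_nonZeroDivisors hB ψ hψ (S15773.coeff_of_sub_mem hM₁).1
        (S15773.coeff_of_sub_mem hM₁).2) hQ₁)
    haveI : Module.Invertible (Localization.Away (algebraMap R[X] B X)) (LinearMap.range φ) := .congr eMJ
    obtain ⟨I, I', M₀, hM₀, hIJ, hprod⟩ := exists_contracted hB ψ hψ (LinearMap.range φ) hφ
    have hQ0 := (sub_one_facts hM₀).2
    have hψQ := psi_mem_nonZeroDivisors hB ψ hψ (S15773.coeff_of_sub_mem hM₀).1 (S15773.coeff_of_sub_mem hM₀).2
    haveI : Module.Invertible R[X] I := invertible_of_mul_eq_span hQ0 hprod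
    haveI : Module.Invertible (Localization.Away (algebraMap R[X] B X)) (I.map ψ.toRingHom) :=
      .congr (LinearEquiv.ofEq _ _ hIJ.symm)
    refine ⟨I, inferInstance, inferInstance, inferInstance, CommRing.Pic.mk_eq_mk_iff.1 ?_⟩
    rw [← mapAlgebra_mk (A := R[X]), ← hpb, mapRingHom_mk_ideal ψ.toRingHom hQ0 hψQ hprod, mapAlgebra_mk,
      CommRing.Pic.mk_eq_mk_iff]
    exact ⟨eN.symm.trans (LinearEquiv.baseChange _ _ _ _ (eMJ.trans (LinearEquiv.ofEq _ _ hIJ.symm)))⟩

end Groth.Agent.S15753
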