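import Groth.Statements.S15752
import Groth.Agent.Weierstrass7.Basic

set_option autoImplicit false
universe u
open Polynomial
open CAlg

namespace Groth.Agent.S15752
theorem associated_of_dvd_dvd_monic {R : Type u} [CommRing R] {P Q : R[X]} (hP : P.Monic) (hQ : Q.Monic)
    (h1 : P ∣ Q) (h2 : Q ∣ P) : Associated P Q := by
  obtain ⟨c, rfl⟩ := h1
  obtain ⟨d, hd⟩ := h2
  refine ⟨(IsUnit.of_mul_eq_one d (?_ : c * d = 1)).unit, by rw [IsUnit.unit_spec]⟩
  exact hP.isRegular.left (show P * (c * d) = P * 1 by rw [← mul_assoc, ← hd, mul_one])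

/-- Let R be a Henselian local ring with maximal ideal m and let B be a henselization of R[t] along (t).
Every f ∈ B outside mB factors as f = P · u for a unique pair (P, u) with P ∈ R[t] monic whose
non-leading coefficients lie in m and u a unit of B; moreover the natural map R[t]/(P) → B/(f) is
bijective, stated as: every element of B is congruent to (the image of) a polynomial modulo f, and a
polynomial whose image lies in fB lies in P·R[t]. -/
theorem result (R : Type u) [CommRing R]
    [HenselianLocalRing R] (B : Type u) [CommRing B] [Algebra R B] [Algebra R[X] B]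
    [IsScalarTower R R[X] B] (hB : Hens2.IsPairHenselization R[X] (Ideal.span {(X : R[X])}) B)
    (f : B) (hf : f ∉ (IsLocalRing.maximalIdeal R).map (algebraMap R B)) :
    (∃! Pu : R[X] × Bˣ, Pu.1.Monic ∧ (∀ i : ℕ, i < Pu.1.natDegree → Pu.1.coeff i ∈ IsLocalRing.maximalIdeal R) ∧
        f = algebraMap R[X] B Pu.1 * (Pu.2 : B)) ∧
    (∀ (P : R[X]) (u : Bˣ), P.Monic → (∀ i : ℕ, i < P.natDegree → P.coeff i ∈ IsLocalRing.maximalIdeal R) →
        f = algebraMap R[X] B P * (u : B) →
      (∀ b : B, ∃ q : R[X], algebraMap R[X] B q - b ∈ Ideal.span {f}) ∧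
      (∀ q : R[X], algebraMap R[X] B q ∈ Ideal.span {f} → q ∈ Ideal.span {P})) := by
  classical
  haveI : Module.Flat R[X] B := Hensel.flat_of_isPairHenselization _ hB
  have key : ∀ (P : R[X]) (u : Bˣ), f = algebraMap R[X] B P * (u : B) →
      Ideal.span {f} = Ideal.span {algebraMap R[X] B P} := fun P u h => by
    rw [h]; exact Ideal.span_singleton_mul_right_unit u.isUnit _
  refine ⟨?_, fun P u hP hlow h => ⟨fun b => ?_, fun q hq => ?_⟩⟩
  · obtain ⟨P, u, hP, hlow, h⟩ := Weierstrass7.exists_prep hB hf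
    refine ⟨(P, u), ⟨hP, hlow, h⟩, ?_⟩
    rintro ⟨P', u'⟩ ⟨hP', hlow', h'⟩
    have e : Ideal.span {algebraMap R[X] B P} = Ideal.span {algebraMap R[X] B P'} :=
      (key P u h).symm.trans (key P' u' h')
    have d1 : P ∣ P' := Weierstrass7.dvd_of_mem_span hB hP hlow (e ▸ Ideal.mem_span_singleton_self _)
    have d2 : P' ∣ P := Weierstrass7.dvd_of_mem_span hB hP' hlow' (e ▸ Ideal.mem_span_singleton_self _)
    obtain rfl : P' = P := Polynomial.eq_of_monic_of_associated hP' hP (associated_of_dvd_dvd_monic hP' hP d2 d1)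
    have hreg : IsSMulRegular B (algebraMap R[X] B P') := IsSMulRegular.of_flat hP'.isRegular.left
    have : (u' : B) = (u : B) := hreg (by
      show algebraMap R[X] B P' * (u' : B) = algebraMap R[X] B P' * (u : B)
      rw [← h, ← h'])
    exact Prod.ext rfl (Units.ext this)
  · obtain ⟨q, -, hq⟩ := Weierstrass7.surjective_mod_distinguished hB hP hlow b
    refine ⟨q, ?_⟩
    rw [key P u h, ← neg_sub]
    exact neg_mem hq
  · rw [key P u h] at hq
    exact Ideal.mem_span_singleton.2 (Weierstrass7.dvd_of_mem_span hB hP hlow hq)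

end Groth.Agent.S15752
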