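import Groth.Statements.S15754
import Groth.Agent.Horrocks.Core
import Groth.Agent.Horrocks.Modules
import Mathlib.RingTheory.PowerSeries.Trunc

set_option autoImplicit false
universe u
open TensorProduct
open CAlg

namespace Groth.Agent.S15754

open Groth.Agent.Horrocks Matrix

variable {R : Type u} [CommRing R]

theorem exists_powerSeries (x : LaurentSeries R) :
    ∃ k : ℕ, ∀ m ≥ k, ∃ p : PowerSeries R,
      HahnSeries.ofPowerSeries ℤ R p = HahnSeries.single (m : ℤ) 1 * x := by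
  refine ⟨x.order.natAbs, fun m hm => ⟨PowerSeries.X ^ ((m : ℤ) + x.order).toNat * x.powerSeriesPart, ?_⟩⟩
  rw [map_mul, HahnSeries.ofPowerSeries_X_pow, LaurentSeries.ofPowerSeries_powerSeriesPart, ← mul_assoc,
    HahnSeries.single_mul_single, one_mul]
  rw [show ((((m : ℤ) + x.order).toNat : ℕ) : ℤ) + -x.order = (m : ℤ) by omega]

theorem coe_dvd {c : ℕ} {p : Polynomial R} {g : PowerSeries R} (h : (p : PowerSeries R) = PowerSeries.X ^ c * g) :
    Polynomial.X ^ c ∣ p := by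
  refine Polynomial.X_pow_dvd_iff.2 fun d hd => ?_
  rw [← Polynomial.coeff_coe, h, PowerSeries.coeff_X_pow_mul', if_neg (not_le.2 hd)]

open Polynomial in
theorem mvn_of_powerSeries {ι : Type} [Fintype ι] [DecidableEq ι] (p q : Matrix ι ι R) (hp : p * p = p)
    (hq : q * q = q) (c : ℕ) (φ ψ : Matrix ι ι (PowerSeries R)) (hpφ : p.map PowerSeries.C * φ * q.map PowerSeries.C = φ)
    (hqψ : q.map PowerSeries.C * ψ * p.map PowerSeries.C = ψ)
    (h₁ : φ * ψ = (PowerSeries.X ^ c : PowerSeries R) • p.map PowerSeries.C)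
    (h₂ : ψ * φ = (PowerSeries.X ^ c : PowerSeries R) • q.map PowerSeries.C) : MvN p q := by
  obtain ⟨P, hP⟩ : ∃ P, P = p.map (Polynomial.C : R →+* R[X]) := ⟨_, rfl⟩
  obtain ⟨Q, hQ⟩ : ∃ Q, Q = q.map (Polynomial.C : R →+* R[X]) := ⟨_, rfl⟩
  have hPP : P * P = P := by rw [hP, ← Matrix.map_mul, hp]
  have hQQ : Q * Q = Q := by rw [hQ, ← Matrix.map_mul, hq]
  obtain ⟨π, hπ⟩ : ∃ π, π = Ideal.Quotient.mk (Ideal.span {(PowerSeries.X : PowerSeries R) ^ (c + 1)}) := ⟨_, rfl⟩
  obtain ⟨κ, hκ⟩ : ∃ κ, κ = π.comp (Polynomial.coeToPowerSeries.ringHom (R := R)) := ⟨_, rfl⟩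
  have hκC : ∀ M : Matrix ι ι R, (M.map (Polynomial.C : R →+* R[X])).map κ = (M.map PowerSeries.C).map π :=
    fun M => Matrix.ext fun i j => by simp [hκ, Polynomial.coe_C]
  have htr : ∀ M : Matrix ι ι (PowerSeries R), (M.map (PowerSeries.trunc (c + 1))).map κ = M.map π := fun M =>
    Matrix.ext fun i j => by
      show κ (PowerSeries.trunc (c + 1) (M i j)) = π (M i j)
      rw [hκ, hπ, RingHom.comp_apply, Ideal.Quotient.mk_eq_mk_iff_sub_mem, Ideal.mem_span_singleton,
        PowerSeries.X_pow_dvd_iff]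
      intro d hd
      simp [PowerSeries.coeff_trunc, hd]
  obtain ⟨φ', hφ'⟩ : ∃ φ', φ' = P * φ.map (PowerSeries.trunc (c + 1)) * Q := ⟨_, rfl⟩
  obtain ⟨ψ', hψ'⟩ : ∃ ψ', ψ' = Q * ψ.map (PowerSeries.trunc (c + 1)) * P := ⟨_, rfl⟩
  have eφ : φ'.map κ = φ.map π := by
    rw [hφ', Matrix.map_mul, Matrix.map_mul, hP, hQ, hκC, hκC, htr, ← Matrix.map_mul, ← Matrix.map_mul, hpφ]
  have eψ : ψ'.map κ = ψ.map π := by
    rw [hψ', Matrix.map_mul, Matrix.map_mul, hP, hQ, hκC, hκC, htr, ← Matrix.map_mul, ← Matrix.map_mul, hqψ]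
  have hker : ∀ (a b : Matrix ι ι R[X]) (r : Matrix ι ι R[X]), r * r = r → r * (a * b) * r = a * b →
      (a * b).map κ = ((X ^ c : R[X]) • r).map κ →
      ∃ H, r * H * r = H ∧ a * b = (X ^ c : R[X]) • (r + (X : R[X]) • H) := by
    intro a b r hr hr' h
    have hdvd : ∀ i j, (X : R[X]) ^ (c + 1) ∣ (a * b - (X ^ c : R[X]) • r) i j := fun i j => by
      have h' := congrFun (congrFun h i) j
      simp only [Matrix.map_apply, hκ, hπ, RingHom.comp_apply, Ideal.Quotient.mk_eq_mk_iff_sub_mem,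
        Ideal.mem_span_singleton, ← map_sub] at h'
      obtain ⟨g, hg⟩ := h'
      exact coe_dvd hg
    choose H hH using hdvd
    have hH' : a * b - (X ^ c : R[X]) • r = (X ^ (c + 1) : R[X]) • Matrix.of H := Matrix.ext fun i j => hH i j
    refine ⟨r * Matrix.of H * r, ?_, ?_⟩
    · simp only [Matrix.mul_assoc, hr]; rw [← Matrix.mul_assoc r r, hr]
    · have := congrArg (fun M => r * M * r) hH'
      simp only [Matrix.mul_sub, Matrix.sub_mul, hr', Matrix.mul_smul, Matrix.smul_mul, hr] at this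
      rw [smul_add, smul_smul, ← pow_succ, ← this, add_sub_cancel]
  have hpφ' : P * φ' = φ' := by rw [hφ', ← Matrix.mul_assoc, ← Matrix.mul_assoc, hPP]
  have hφq' : φ' * Q = φ' := by rw [hφ', Matrix.mul_assoc, hQQ]
  have hqψ' : Q * ψ' = ψ' := by rw [hψ', ← Matrix.mul_assoc, ← Matrix.mul_assoc, hQQ]
  have hψp' : ψ' * P = ψ' := by rw [hψ', Matrix.mul_assoc, hPP]
  have hXc : κ (X ^ c) = π (PowerSeries.X ^ c) := by simp [hκ]
  obtain ⟨H, hH, hab⟩ := hker φ' ψ' P hPP (by rw [← Matrix.mul_assoc, hpφ', Matrix.mul_assoc, hψp'])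
    (by rw [Matrix.map_mul, eφ, eψ, ← Matrix.map_mul, h₁, map_smul_matrix, map_smul_matrix, hP, hκC, hXc])
  obtain ⟨H', hH', hba⟩ := hker ψ' φ' Q hQQ (by rw [← Matrix.mul_assoc, hqψ', Matrix.mul_assoc, hφq'])
    (by rw [Matrix.map_mul, eφ, eψ, ← Matrix.map_mul, h₂, map_smul_matrix, map_smul_matrix, hQ, hκC, hXc])
  have key : ∀ (r H : Matrix ι ι R[X]), r * r = r → r * H * r = H →
      ∃ g : R[X], g.coeff 0 = 1 ∧ ∃ B, (r + (X : R[X]) • H) * B = g • r ∧ B * (r + (X : R[X]) • H) = g • r ∧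
        r * B = B ∧ B * r = B := by
    intro r H hr hH
    have hrH : r * H = H := by rw [← hH, ← Matrix.mul_assoc, ← Matrix.mul_assoc, hr]
    have hHr : H * r = H := by rw [← hH, Matrix.mul_assoc, hr]
    obtain ⟨W, hW⟩ : ∃ W, W = 1 + (X : R[X]) • H := ⟨_, rfl⟩
    have hrW : r * W = r + (X : R[X]) • H := by rw [hW, Matrix.mul_add, Matrix.mul_one, Matrix.mul_smul, hrH]
    have hWr : W * r = r + (X : R[X]) • H := by rw [hW, Matrix.add_mul, Matrix.one_mul, Matrix.smul_mul, hHr]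
    have hg : W.det.coeff 0 = 1 := by
      rw [Polynomial.coeff_zero_eq_eval_zero, ← Polynomial.coe_evalRingHom, RingHom.map_det, hW, RingHom.mapMatrix_apply, Matrix.map_add _ (map_add _),
        Matrix.map_one _ (map_zero _) (map_one _), map_smul_matrix]
      simp
    have hreg : W.det ∈ nonZeroDivisors R[X] := Polynomial.mem_nonZeroDivisors_iff.2 fun a ha => by
      simpa [hg] using congrArg (fun p => Polynomial.coeff p 0) ha
    have hcomm : W.adjugate * r = r * W.adjugate := by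
      refine Matrix.ext fun i j => ?_
      have h : W.det • (W.adjugate * r) = W.det • (r * W.adjugate) := by
        calc W.det • (W.adjugate * r) = W.adjugate * r * (W * W.adjugate) := by
              rw [Matrix.mul_adjugate, Matrix.mul_smul, Matrix.mul_one]
          _ = W.adjugate * (r * W) * W.adjugate := by simp only [Matrix.mul_assoc]
          _ = W.adjugate * W * r * W.adjugate := by rw [hrW, ← hWr]; simp only [Matrix.mul_assoc]
          _ = _ := by rw [Matrix.adjugate_mul, Matrix.smul_mul, Matrix.one_mul, Matrix.smul_mul]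
      have h' := congrFun (congrFun h i) j
      simp only [Matrix.smul_apply, smul_eq_mul] at h'
      exact (mul_cancel_left_mem_nonZeroDivisors hreg).1 h'
    refine ⟨W.det, hg, W.adjugate * r, ?_, ?_, ?_, ?_⟩
    · rw [← hrW, Matrix.mul_assoc r W, ← Matrix.mul_assoc W, Matrix.mul_adjugate, Matrix.smul_mul, Matrix.one_mul,
        Matrix.mul_smul, hr]
    · rw [← hWr, Matrix.mul_assoc W.adjugate r, ← Matrix.mul_assoc r W, hrW, ← hWr, Matrix.mul_assoc W r r, hr,
        ← Matrix.mul_assoc, Matrix.adjugate_mul, Matrix.smul_mul, Matrix.one_mul]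
    · rw [hcomm, ← Matrix.mul_assoc, hr]
    · rw [Matrix.mul_assoc, hr]
  obtain ⟨g, hg, B, hB, -, -, hBP⟩ := key P H hPP hH
  obtain ⟨g', hg', B', -, hB', hQB', -⟩ := key Q H' hQQ hH'
  have e1 : φ' * (ψ' * B) = (X ^ c * g : R[X]) • P := by
    rw [← Matrix.mul_assoc, hab, Matrix.smul_mul, hB, smul_smul]
  have e2 : B' * ψ' * φ' = (X ^ c * g' : R[X]) • Q := by
    rw [Matrix.mul_assoc, hba, Matrix.mul_smul, hB', smul_smul]
  have e3 : g' • (ψ' * B) = g • (B' * ψ') := by
    refine Matrix.ext fun i j => ?_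
    have h : (X ^ c : R[X]) • (g' • (ψ' * B)) = (X ^ c : R[X]) • (g • (B' * ψ')) := by
      calc _ = ((X ^ c * g' : R[X]) • Q) * (ψ' * B) := by
            rw [smul_smul, Matrix.smul_mul, ← Matrix.mul_assoc Q, hqψ']
        _ = B' * ψ' * (φ' * (ψ' * B)) := by rw [← e2, Matrix.mul_assoc]
        _ = _ := by rw [e1, Matrix.mul_smul, Matrix.mul_assoc B', hψp', smul_smul]
    have h' := congrFun (congrFun h i) j
    simp only [Matrix.smul_apply, smul_eq_mul] at h' ⊢
    exact (Polynomial.monic_X_pow c).isRegular.left h'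
  subst hP hQ
  refine mvn_core p q hp hq φ' (g' • (ψ' * B)) (g * g') (by rw [Polynomial.mul_coeff_zero, hg, hg', one_mul]) c
    hpφ' hφq' ?_ ?_ ?_ ?_
  · rw [Matrix.mul_smul, ← Matrix.mul_assoc, hqψ']
  · rw [Matrix.smul_mul, Matrix.mul_assoc, hBP]
  · rw [Matrix.mul_smul, e1, smul_smul]; congr 1; ring
  · rw [e3, Matrix.smul_mul, e2, smul_smul]; congr 1; ring

/-- For an arbitrary commutative ring R, non-isomorphic finitely generated projective R-modules cannot
become isomorphic over the Laurent series ring R((t)): for an R-algebra L that is R-isomorphic to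
R((t)), if L ⊗_R M ≅ L ⊗_R N as L-modules then M ≅ N. (L is R((t)) up to an R-algebra isomorphism;
it is kept abstract only so that the L-module structure on L ⊗_R M elaborates.) -/
theorem result (R : Type u) [CommRing R]
    (L : Type u) [CommRing L] [Algebra R L] (eL : L ≃ₐ[R] LaurentSeries R)
    (M N : Type u) [AddCommGroup M] [Module R M] [Module.Finite R M] [Module.Projective R M]
    [AddCommGroup N] [Module R N] [Module.Finite R N] [Module.Projective R N]
    (e : L ⊗[R] M ≃ₗ[L] L ⊗[R] N) :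
    Nonempty (M ≃ₗ[R] N) := by
  obtain ⟨n, p, q, hM, hN⟩ := exists_pair_retract (R := R) M N
  refine hM.equiv hN ?_
  have h0 := ((hM.baseChange L).mvn (hN.baseChange L) e).map eL.toAlgHom.toRingHom
  have hC : ∀ M₀ : Matrix (Fin n) (Fin n) R,
      (M₀.map (algebraMap R L)).map eL.toAlgHom.toRingHom = (M₀.map PowerSeries.C).map (HahnSeries.ofPowerSeries ℤ R) :=
    fun M₀ => Matrix.ext fun i j => by
      show eL (algebraMap R L (M₀ i j)) = HahnSeries.ofPowerSeries ℤ R (PowerSeries.C (M₀ i j))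
      rw [eL.commutes, HahnSeries.ofPowerSeries_C]
      simp [HahnSeries.algebraMap_apply', HahnSeries.C_apply, PowerSeries.algebraMap_apply]
  rw [hC, hC] at h0
  obtain ⟨ρ, hρ⟩ : ∃ ρ, ρ = HahnSeries.ofPowerSeries ℤ R := ⟨_, rfl⟩
  rw [← hρ] at h0
  have hidem : ∀ M₀ : Matrix (Fin n) (Fin n) R, M₀ * M₀ = M₀ →
      (M₀.map PowerSeries.C).map ρ * (M₀.map PowerSeries.C).map ρ = (M₀.map PowerSeries.C).map ρ := fun M₀ h => by
    rw [← Matrix.map_mul, ← Matrix.map_mul, h]
  obtain ⟨Φ, Ψ, h₁, h₂, h₃, h₄⟩ := h0.normalized (hidem p hM.idem) (hidem q hN.idem)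
  obtain ⟨K, hK⟩ := exists_nat_forall_mem (α := (Fin n × Fin n) ⊕ (Fin n × Fin n))
    (P := fun x m => ∃ s : PowerSeries R, HahnSeries.ofPowerSeries ℤ R s =
      HahnSeries.single (m : ℤ) 1 * Sum.elim (fun y => Φ y.1 y.2) (fun y => Ψ y.1 y.2) x)
    (fun x => exists_powerSeries _)
  choose s hs using hK K le_rfl
  let φ : Matrix (Fin n) (Fin n) (PowerSeries R) := Matrix.of fun i j => s (Sum.inl (i, j))
  let ψ : Matrix (Fin n) (Fin n) (PowerSeries R) := Matrix.of fun i j => s (Sum.inr (i, j))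
  have eφ : φ.map ρ = (HahnSeries.single (K : ℤ) 1 : LaurentSeries R) • Φ :=
    Matrix.ext fun i j => hρ ▸ hs (Sum.inl (i, j))
  have eψ : ψ.map ρ = (HahnSeries.single (K : ℤ) 1 : LaurentSeries R) • Ψ :=
    Matrix.ext fun i j => hρ ▸ hs (Sum.inr (i, j))
  have cancel := Matrix.map_injective (m := Fin n) (n := Fin n) (f := ρ) (hρ ▸ HahnSeries.ofPowerSeries_injective)
  have hK2 : ρ (PowerSeries.X ^ (K + K)) = HahnSeries.single (K : ℤ) 1 * HahnSeries.single (K : ℤ) 1 := by
    rw [hρ, HahnSeries.ofPowerSeries_X_pow, HahnSeries.single_mul_single, one_mul]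
    simp
  refine mvn_of_powerSeries p q hM.idem hN.idem (K + K) φ ψ (cancel ?_) (cancel ?_) (cancel ?_) (cancel ?_)
  · simp only [Matrix.map_mul, eφ]; rw [Matrix.mul_smul, Matrix.smul_mul, h₃]
  · simp only [Matrix.map_mul, eψ]; rw [Matrix.mul_smul, Matrix.smul_mul, h₄]
  · dsimp only; rw [Matrix.map_mul, eφ, eψ, Matrix.smul_mul, Matrix.mul_smul, smul_smul, h₁, map_smul_matrix, hK2]
  · dsimp only; rw [Matrix.map_mul, eφ, eψ, Matrix.smul_mul, Matrix.mul_smul, smul_smul, h₂, map_smul_matrix, hK2]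

end Groth.Agent.S15754
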