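import Groth.Statements.S15755
import Groth.Agent.PopescuLib.CommAlg
import Groth.Agent.PopescuLib.Approx
import Groth.Agent.PopescuLib.Noetherian

set_option autoImplicit false
universe u
open CategoryTheory CategoryTheory.Limits
open CAlg

namespace Groth.Agent.S15755

/-- Let (A, I) be a Henselian pair with A Noetherian whose map to the I-adic completion Â is a regular
ring homomorphism, and let F be a set-valued functor on commutative A-algebras preserving filtered
colimits. Then F(A) → F(Â) is injective, and an element of F(A/I) is in the image of F(A) if and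
only if it is in the image of F(Â) under the canonical A-algebra map Â → A/I. -/
theorem result (A : Type u) [CommRing A]
    [IsNoetherianRing A] (I : Ideal A) [HenselianRing A I]
    (hreg : CAlg.IsRegularHom A (AdicCompletion I A))
    (F : CommAlgCat.{u} A ⥤ Type u) [PreservesFilteredColimitsOfSize.{u, u} F] :
    Function.Injective (F.map (CommAlgCat.ofHom (Algebra.ofId A (AdicCompletion I A)))) ∧
    ∀ xbar : F.obj (CommAlgCat.of A (A ⧸ I)),
      (∃ x : F.obj (CommAlgCat.of A A), F.map (CommAlgCat.ofHom (Ideal.Quotient.mkₐ A I)) x = xbar) ↔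
      (∃ y : F.obj (CommAlgCat.of A (AdicCompletion I A)),
        F.map (CommAlgCat.ofHom (AdicCompletion.evalOneₐ I)) y = xbar) := by
  haveI := Groth.Agent.PopescuLib.noetherian_completion I
  let T := AdicCompletion I A
  let ι : CommAlgCat.of A A ⟶ CommAlgCat.of A T := CommAlgCat.ofHom (Algebra.ofId A T)
  have point : ∀ (Q : Type u) [CommRing Q] [Algebra A Q] [Algebra.FinitePresentation A Q] (f : Q →ₐ[A] T),
      ∃ τ : Q →ₐ[A] A, ∀ q, AdicCompletion.evalOneₐ I (f q) = Ideal.Quotient.mk I (τ q) := by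
    intro Q _ _ hQ f
    obtain ⟨S, _, _, hS, g, h, hgh⟩ := Groth.Agent.PopescuLib.indSmooth_of_isRegularHom hreg Q inferInstance f
    haveI := hS
    haveI := hS.1
    obtain ⟨τ, hτ⟩ := Groth.Agent.S0536.result A S A I ((AdicCompletion.evalOneₐ I).comp h)
    refine ⟨τ.comp g, fun q => ?_⟩
    rw [← hgh]
    exact (AlgHom.congr_fun hτ (g q)).symm
  refine ⟨fun a b hab => ?_, fun xbar => ⟨?_, ?_⟩⟩
  · haveI := PreservesFilteredColimitsOfSize.preserves_filtered_colimits (F := F) (Groth.Agent.PopescuLib.FPModel A T)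
    obtain ⟨X₀, α₀, hα₀⟩ := Groth.Agent.PopescuLib.FPModel.exists_model A (Algebra.ofId A T)
    have hfac : ∀ x, F.map ((Groth.Agent.PopescuLib.fpCocone' A T).ι.app X₀) (F.map (CommAlgCat.ofHom α₀) x) =
        F.map ι x := fun x => by
      refine (Functor.map_comp_apply F _ _ x).symm.trans ?_
      exact congrArg (fun (k : CommAlgCat.of A A ⟶ CommAlgCat.of A T) => F.map k x) (CommAlgCat.hom_ext hα₀)
    have h2 : F.map ((Groth.Agent.PopescuLib.fpCocone' A T).ι.app X₀) (F.map (CommAlgCat.ofHom α₀) a) =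
        F.map ((Groth.Agent.PopescuLib.fpCocone' A T).ι.app X₀) (F.map (CommAlgCat.ofHom α₀) b) := by
      rw [hfac, hfac]; exact hab
    obtain ⟨Y, u, v, huv⟩ := (Types.FilteredColimit.isColimit_eq_iff _
      (isColimitOfPreserves F (Groth.Agent.PopescuLib.fpIsColimit' A T))).1 h2
    obtain ⟨τ, -⟩ := point Y.Alg Y.toB
    let t : CommAlgCat.of A Y.Alg ⟶ CommAlgCat.of A A := CommAlgCat.ofHom τ
    have hid : ∀ (w : (Groth.Agent.PopescuLib.fpDiagram' A T).obj X₀ ⟶ (Groth.Agent.PopescuLib.fpDiagram' A T).obj Y) (x),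
        F.map t (F.map w (F.map (CommAlgCat.ofHom α₀) x)) = x := fun w x => by
      have hk : (CommAlgCat.ofHom α₀ ≫ w) ≫ t = 𝟙 (CommAlgCat.of A A) := CommAlgCat.hom_ext (Subsingleton.elim _ _)
      refine ((congrArg (F.map t) (Functor.map_comp_apply F _ _ x).symm).trans (Functor.map_comp_apply F _ t x).symm).trans ?_
      exact (congrArg (fun (k : CommAlgCat.of A A ⟶ CommAlgCat.of A A) => F.map k x) hk).trans (by simp)
    rw [← hid ((Groth.Agent.PopescuLib.fpDiagram' A T).map u) a, ← hid ((Groth.Agent.PopescuLib.fpDiagram' A T).map v) b]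
    exact congrArg (F.map t) huv
  · rintro ⟨x, hx⟩
    refine ⟨F.map ι x, ?_⟩
    rw [← hx, ← Functor.map_comp_apply]
    congr 3
  · rintro ⟨y, hy⟩
    obtain ⟨P, _, _, hP, f, ξ₀, hξ⟩ := Groth.Agent.PopescuLib.exists_fp_preimage' A T F y
    haveI := hP
    obtain ⟨τ, hτ⟩ := point P f
    refine ⟨F.map (CommAlgCat.ofHom τ) ξ₀, ?_⟩
    rw [← hy, ← hξ, ← FunctorToTypes.map_comp_apply, ← FunctorToTypes.map_comp_apply]
    refine congrArg (fun (k : CommAlgCat.of A P ⟶ CommAlgCat.of A (A ⧸ I)) => F.map k ξ₀) ?_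
    exact CommAlgCat.hom_ext (AlgHom.ext fun q => (hτ q).symm)

end Groth.Agent.S15755
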