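import Groth.Statements.S15756
import Groth.Agent.SmoothApprox7.Main
import Groth.Agent.Hensel.PairBasic
import Mathlib.RingTheory.AdicCompletion.Algebra
-- import your own Groth.Agent.* helpers here

set_option autoImplicit false
universe u
open CAlg

namespace Groth.Agent.S15756

open MvPolynomial in
/-- An algebra map congruent to given approximations, from a point over `A[1/t]` near them. -/
theorem exists_algHom_near {A : Type u} [CommRing A] (t : A) [HenselianRing A (Ideal.span {t})]
    {N : ℕ} (hN : ∀ a : A, (∃ m : ℕ, t ^ m * a = 0) → t ^ N * a = 0)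
    (K : Type u) [CommRing K] [Algebra A K] [IsLocalization.Away t K]
    (B : Type u) [CommRing B] [Algebra A B]
    (C' : Type u) [CommRing C'] [Algebra B C'] [Algebra A C'] [IsScalarTower A B C'] [Algebra K C'] [IsScalarTower A K C']
    [IsLocalization (Algebra.algebraMapSubmonoid B (Submonoid.powers t)) C'] [Algebra.Smooth K C']
    {p : ℕ} (b : Fin p → B) (hb : Function.Surjective (aeval b : MvPolynomial (Fin p) A →ₐ[A] B))
    (a : ℕ → Fin p → A) (ha : ∀ (M : ℕ) (P : MvPolynomial (Fin p) A), aeval b P = 0 → t ^ M ∣ aeval (a M) P)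
    (n : ℕ) : ∃ M, n ≤ M ∧ ∃ τ : B →ₐ[A] A, ∀ j, t ^ n ∣ τ (b j) - a M j := by
  classical
  let T : Ideal A := RingHom.ker (algebraMap A K)
  have hT : ∀ x : A, x ∈ T ↔ ∃ m : ℕ, t ^ m * x = 0 := fun x => by
    rw [RingHom.mem_ker, ← map_zero (algebraMap A K), IsLocalization.eq_iff_exists (Submonoid.powers t) K]
    constructor
    · rintro ⟨⟨_, m, rfl⟩, h⟩
      exact ⟨m, by simpa using h⟩
    · rintro ⟨m, h⟩
      exact ⟨⟨_, m, rfl⟩, by simpa using h⟩
  let R := A ⧸ T
  letI : Algebra R K := (Ideal.Quotient.lift T (algebraMap A K) fun x hx => hx).toAlgebra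
  haveI : IsScalarTower A R K := IsScalarTower.of_algebraMap_eq fun x => rfl
  have hinj : Function.Injective (algebraMap R K) := by
    rw [injective_iff_map_eq_zero]
    intro x hx
    obtain ⟨x, rfl⟩ := Ideal.Quotient.mk_surjective x
    exact Ideal.Quotient.eq_zero_iff_mem.2 hx
  haveI : IsLocalization.Away (algebraMap A R t) K := by
    constructor
    constructor
    · rintro ⟨_, m, rfl⟩
      rw [map_pow, ← IsScalarTower.algebraMap_apply]
      exact (IsLocalization.Away.algebraMap_isUnit t).pow m
    · intro z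
      obtain ⟨⟨x, _, m, rfl⟩, hx⟩ := IsLocalization.surj (Submonoid.powers t) z
      refine ⟨⟨algebraMap A R x, algebraMap A R t ^ m, m, rfl⟩, ?_⟩
      show z * algebraMap R K (algebraMap A R t ^ m) = algebraMap R K (algebraMap A R x)
      rw [map_pow, ← IsScalarTower.algebraMap_apply, ← IsScalarTower.algebraMap_apply, ← map_pow]
      exact hx
    · intro x y h
      exact ⟨1, by rw [hinj h]⟩
  haveI : HenselianRing R (Ideal.span {algebraMap A R t}) := by
    have h1 := Groth.Agent.Hensel.henselianRing_quotient T (Ideal.span {t})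
    rwa [Ideal.map_span, Set.image_singleton] at h1
  have hnzd : ∀ r : R, algebraMap A R t * r = 0 → r = 0 := fun r hr => hinj (by
    have := congrArg (algebraMap R K) hr
    rw [map_mul, map_zero, ← IsScalarTower.algebraMap_apply, (IsLocalization.Away.algebraMap_isUnit t).mul_right_eq_zero] at this
    rw [this, map_zero])
  let y : Fin p → C' := fun j => algebraMap B C' (b j)
  have hyP : ∀ P : MvPolynomial (Fin p) A, aeval y P = algebraMap B C' (aeval b P) := fun P =>
    (comp_aeval_apply _ (IsScalarTower.toAlgHom A B C') P).symm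
  have hy : Function.Surjective (aeval y : MvPolynomial (Fin p) K →ₐ[K] C') := fun c => by
    obtain ⟨⟨x, _, _, ⟨m, rfl⟩, rfl⟩, hx⟩ := IsLocalization.surj (Algebra.algebraMapSubmonoid B (Submonoid.powers t)) c
    obtain ⟨P, rfl⟩ := hb x
    obtain ⟨s, hs⟩ := (IsLocalization.Away.algebraMap_isUnit (S := K) t).pow m
    refine ⟨MvPolynomial.C (↑s⁻¹ : K) * MvPolynomial.map (algebraMap A K) P, ?_⟩
    have e : algebraMap B C' (algebraMap A B (t ^ m)) = algebraMap K C' s := by
      rw [hs, ← IsScalarTower.algebraMap_apply A B C', IsScalarTower.algebraMap_apply A K C', map_pow]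
    rw [map_mul, aeval_C, aeval_map_algebraMap, hyP, ← hx, e, mul_left_comm, ← map_mul, Units.inv_mul, map_one,
      mul_one]
  let ā : ℕ → Fin p → R := fun M j => algebraMap A R (a M j)
  have hāP : ∀ M (P : MvPolynomial (Fin p) A), aeval (ā M) P = algebraMap A R (aeval (a M) P) := fun M P =>
    (comp_aeval_apply _ (Algebra.ofId A R) P).symm
  have hrel : ∀ Q : MvPolynomial (Fin p) A, aeval y Q = 0 →
      ∃ D : ℕ, ∀ M : ℕ, algebraMap A R t ^ (M - D) ∣ aeval (ā M) Q := by
    intro Q hQ
    rw [hyP, ← map_zero (algebraMap B C'),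
      IsLocalization.eq_iff_exists (Algebra.algebraMapSubmonoid B (Submonoid.powers t)) C'] at hQ
    obtain ⟨⟨_, _, ⟨k, rfl⟩, rfl⟩, hk⟩ := hQ
    rw [mul_zero] at hk
    refine ⟨k, fun M => ?_⟩
    obtain ⟨q, hq⟩ := ha M (MvPolynomial.C (t ^ k) * Q) (by rw [map_mul, aeval_C]; exact hk)
    rw [map_mul, aeval_C, Algebra.algebraMap_self_apply] at hq
    have hq' := congrArg (algebraMap A R) hq
    rw [map_mul, map_mul, map_pow, map_pow, ← hāP] at hq'
    rcases Nat.le_total k M with hkM | hkM
    · refine ⟨algebraMap A R q, ?_⟩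
      have hc : ∀ (i : ℕ) (r : R), algebraMap A R t ^ i * r = 0 → r = 0 := fun i => by
        induction i with
        | zero => intro r hr; simpa using hr
        | succ i ih => intro r hr; exact hnzd r (ih _ (by rw [← mul_assoc, ← pow_succ]; exact hr))
      refine sub_eq_zero.1 (hc k _ ?_)
      rw [mul_sub, ← mul_assoc, ← pow_add, Nat.add_sub_cancel' hkM, hq', sub_self]
    · rw [Nat.sub_eq_zero_of_le hkM, pow_zero]
      exact one_dvd _
  obtain ⟨M, hM, τ, b', hb'⟩ := Groth.Agent.SmoothApprox7.exists_approx t hnzd K C' y hy ā hrel (n + N)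
  refine ⟨M, by omega, ?_⟩
  have hq : ∀ j, ∃ q : A, b' j = algebraMap A R (a M j + t ^ (n + N) * q) := fun j => by
    obtain ⟨q, hq⟩ := (hb' j).2
    obtain ⟨q, rfl⟩ := Ideal.Quotient.mk_surjective q
    refine ⟨q, ?_⟩
    rw [map_add, map_mul, map_pow]
    exact eq_add_of_sub_eq' hq
  choose q hq using hq
  let a' : Fin p → A := fun j => a M j + t ^ (n + N) * q j
  have hzero : ∀ P : MvPolynomial (Fin p) A, aeval b P = 0 → aeval a' P = 0 := by
    intro P hP
    have h1 : aeval a' P ∈ T := by
      have h2 : algebraMap R K (algebraMap A R (aeval a' P)) = 0 := by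
        rw [← IsScalarTower.algebraMap_apply]
        calc algebraMap A K (aeval a' P) = aeval (fun j => algebraMap A K (a' j)) P :=
              comp_aeval_apply _ (Algebra.ofId A K) P
          _ = aeval (fun j => τ (y j)) P := by
              refine congrArg (fun f => aeval f P) (funext fun j => ?_)
              rw [(hb' j).1, hq, ← IsScalarTower.algebraMap_apply]
          _ = τ (aeval y P) := (comp_aeval_apply _ (τ.restrictScalars A) P).symm
          _ = 0 := by rw [hyP, hP, map_zero, map_zero]
      rw [RingHom.mem_ker, IsScalarTower.algebraMap_apply A R K]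
      exact h2
    obtain ⟨w, hw⟩ : t ^ N ∣ aeval a' P := by
      have e1 : t ^ (n + N) ∣ aeval a' P - aeval (a M) P :=
        Groth.Agent.SmoothApprox7.dvd_aeval_sub (A := A) (fun j => ⟨q j, by simp [a']⟩) P
      have e2 : t ^ (n + N) ∣ aeval (a M) P := (pow_dvd_pow t hM).trans (ha M P hP)
      have e3 := dvd_add e1 e2
      rw [sub_add_cancel] at e3
      exact (pow_dvd_pow t (by omega)).trans e3
    obtain ⟨m, hm⟩ := (hT _).1 h1
    rw [hw]
    refine hN w ⟨m + N, ?_⟩
    rw [pow_add, mul_assoc, ← hw, hm]
  refine ⟨AlgHom.liftOfSurjective (aeval b) hb (aeval a') (fun P hP => hzero P hP), fun j => ?_⟩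
  have h3 : AlgHom.liftOfSurjective (aeval b) hb (aeval a') (fun P hP => hzero P hP) (b j) = a' j := by
    have := AlgHom.liftOfSurjective_apply (aeval b) hb (aeval a') (fun P hP => hzero P hP) (MvPolynomial.X j)
    rwa [aeval_X, aeval_X] at this
  rw [h3]
  exact ⟨t ^ N * q j, by simp only [a']; rw [pow_add]; ring⟩

/-- Case of the whole affine base U = Spec A, the unit ideal I = A and an affine scheme X: let A be a
ring with an element t such that (A, tA) is a Henselian pair and the t-power torsion of A is
bounded, let Â be the t-adic completion, and let B be an A-algebra of finite type with B[1/t] smooth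
over A[1/t]. Then every A-algebra homomorphism B → Â is congruent modulo t^n, for any prescribed n,
to an A-algebra homomorphism B → A. (The published statement allows any quasi-compact open U of Spec
A containing Spec A[1/t], any bounded Zariski Gabber–Ramero triple (A, t, I) that is Henselian (or,
instead, satisfies a lifting condition for Zariski pairs over A[1/t]), and U-schemes locally of
finite type that are ind-quasi-affine or subprojective and smooth over A[1/t], and it asserts
density of X(U) in X(U_Â) for the (t, I)-adic topology; this row is the case U = Spec A, I = A, X =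
Spec B affine, under the Henselian alternative.) -/
theorem result (A : Type u) [CommRing A] (t : A)
    [HenselianRing A (Ideal.span {t})]
    (hbd : ∃ N : ℕ, ∀ a : A, (∃ m : ℕ, t ^ m * a = 0) → t ^ N * a = 0)
    (B : Type u) [CommRing B] [Algebra A B] [Algebra.FiniteType A B]
    (hsm : Algebra.Smooth (Localization.Away t)
      (Localization (Algebra.algebraMapSubmonoid B (Submonoid.powers t))))
    (n : ℕ) (σ : B →ₐ[A] AdicCompletion (Ideal.span {t}) A) :
    ∃ τ : B →ₐ[A] A,
      (Ideal.Quotient.mkₐ A (Ideal.span {t} ^ n)).comp τ =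
        (AdicCompletion.evalₐ (Ideal.span {t}) n).comp σ := by
  classical
  obtain ⟨N, hN⟩ := hbd
  obtain ⟨p, f, hf⟩ := Algebra.FiniteType.iff_quotient_mvPolynomial''.1 (inferInstance : Algebra.FiniteType A B)
  let b : Fin p → B := fun j => f (MvPolynomial.X j)
  have hfb : MvPolynomial.aeval b = f := MvPolynomial.algHom_ext fun j => MvPolynomial.aeval_X _ _
  choose cs hcs using fun j => AdicCompletion.mk_surjective (Ideal.span {t}) A (σ (b j))
  let a : ℕ → Fin p → A := fun M j => (cs j).val M
  have hev : ∀ (M : ℕ) j, AdicCompletion.evalₐ (Ideal.span {t}) M (σ (b j)) = Ideal.Quotient.mk _ (a M j) := fun M j => by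
    rw [← hcs j]
    exact AdicCompletion.evalₐ_mk _ _ _
  obtain ⟨M, hM, τ, hτ⟩ := exists_algHom_near t hN (Localization.Away t) B
    (Localization (Algebra.algebraMapSubmonoid B (Submonoid.powers t))) b (hfb ▸ hf) a (fun M P hP => by
      rw [← Ideal.mem_span_singleton, ← Ideal.span_singleton_pow, ← Ideal.Quotient.eq_zero_iff_mem,
        ← Ideal.Quotient.mkₐ_eq_mk A, MvPolynomial.comp_aeval_apply]
      have : (fun i => (Ideal.Quotient.mkₐ A (Ideal.span {t} ^ M)) (a M i)) =
          fun i => ((AdicCompletion.evalₐ (Ideal.span {t}) M).comp σ) (b i) := funext fun i => (hev M i).symm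
      rw [this, ← MvPolynomial.comp_aeval_apply, hP, map_zero]) n
  refine ⟨τ, AlgHom.cancel_right hf |>.1 (MvPolynomial.algHom_ext fun j => ?_)⟩
  show Ideal.Quotient.mk _ (τ (b j)) = AdicCompletion.evalₐ (Ideal.span {t}) n (σ (b j))
  rw [hev, Ideal.Quotient.eq, Ideal.span_singleton_pow, Ideal.mem_span_singleton]
  have h1 : t ^ n ∣ a M j - a n j := by
    rw [← Ideal.mem_span_singleton, ← Ideal.span_singleton_pow]
    have h := (cs j).2 hM
    rw [SModEq.sub_mem, smul_eq_mul, Ideal.mul_top] at h
    rw [← neg_sub]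
    exact neg_mem h
  have := dvd_add (hτ j) h1
  rwa [sub_add_sub_cancel] at this

end Groth.Agent.S15756
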