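import Groth.Statements.S15758
import Groth.Agent.SmoothApprox7.Torsor
import Mathlib.RingTheory.LaurentSeries
import Mathlib.RingTheory.PowerSeries.Trunc
-- import your own Groth.Agent.* helpers here

set_option autoImplicit false
universe u
open CategoryTheory MonoidalCategory CartesianMonoidalCategory MonObj GrpObj AlgebraicGeometry Polynomial
open NonAbH1

namespace Groth.Agent.S15758

open Polynomial in
theorem mk_eq_mk_of_coeff {R : Type u} [CommRing R] (M : ℕ) {p q : R[X]} (h : ∀ d < M, p.coeff d = q.coeff d) :
    Ideal.Quotient.mk (Ideal.span {(X : R[X]) ^ M}) p = Ideal.Quotient.mk _ q := by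
  rw [Ideal.Quotient.eq, Ideal.mem_span_singleton, X_pow_dvd_iff]
  exact fun d hd => by rw [coeff_sub, h d hd, sub_self]

open Polynomial in
/-- Truncation as a ring map to `R[X] ⧸ (X ^ M)`. -/
noncomputable def truncHom (R : Type u) [CommRing R] (M : ℕ) : PowerSeries R →+* R[X] ⧸ Ideal.span {(X : R[X]) ^ M} where
  toFun f := Ideal.Quotient.mk _ (PowerSeries.trunc M f)
  map_one' := (mk_eq_mk_of_coeff M fun d hd => by
    rw [PowerSeries.coeff_trunc, if_pos hd, PowerSeries.coeff_one, Polynomial.coeff_one]).trans (map_one _)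
  map_mul' f g := by
    rw [← map_mul]
    refine mk_eq_mk_of_coeff M fun d hd => ?_
    rw [← PowerSeries.trunc_trunc_mul_trunc, PowerSeries.coeff_trunc, if_pos hd, ← Polynomial.coe_mul,
      Polynomial.coeff_coe]
  map_zero' := by simp
  map_add' f g := by simp

open Polynomial in
theorem exists_ev {R : Type u} [CommRing R] {B : Type u} [CommRing B] [Algebra R[X] B]
    (hB : Hens2.IsPairHenselization R[X] (Ideal.span {(X : R[X])}) B) (ψ : B →ₐ[R[X]] PowerSeries R) (M : ℕ) :
    ∃ e : PowerSeries R →+* B ⧸ Ideal.span {algebraMap R[X] B X ^ M},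
      ∀ b, e (ψ b) = Ideal.Quotient.mk _ b := by
  let J := Ideal.span {algebraMap R[X] B X ^ M}
  have hM : Ideal.span {(X : R[X]) ^ M} ≤ RingHom.ker ((Ideal.Quotient.mk J).comp (algebraMap R[X] B)) := by
    rw [Ideal.span_singleton_le_iff_mem, RingHom.mem_ker, RingHom.comp_apply, map_pow,
      Ideal.Quotient.eq_zero_iff_mem]
    exact Ideal.mem_span_singleton_self _
  let g : R[X] ⧸ Ideal.span {(X : R[X]) ^ M} →+* B ⧸ J := Ideal.Quotient.lift _ _ fun x hx => hM hx
  let e : PowerSeries R →+* B ⧸ J := g.comp (truncHom R M)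
  let I' : Ideal (B ⧸ J) := (Ideal.span {(X : R[X])}).map ((Ideal.Quotient.mk J).comp (algebraMap R[X] B))
  haveI : HenselianRing (B ⧸ J) I' := Groth.Agent.Hensel.henselianRing_of_forall_isNilpotent _ fun x hx => by
    simp only [I', Ideal.map_span, Set.image_singleton, Ideal.mem_span_singleton'] at hx
    obtain ⟨r, rfl⟩ := hx
    exact ⟨M, by rw [mul_pow, RingHom.comp_apply, ← map_pow,
      Ideal.Quotient.eq_zero_iff_mem.2 (Ideal.mem_span_singleton_self _), mul_zero]⟩
  obtain ⟨u, -, hu⟩ := hB.2 (B ⧸ J) I' ((Ideal.Quotient.mk J).comp (algebraMap R[X] B)) inferInstance le_rfl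
  have h1 : e.comp ψ.toRingHom = u := hu _ (RingHom.ext fun p => by
    show g (truncHom R M (ψ (algebraMap R[X] B p))) = _
    rw [AlgHom.commutes, show truncHom R M (algebraMap R[X] (PowerSeries R) p) = Ideal.Quotient.mk _ p from
      mk_eq_mk_of_coeff M fun d hd => by
        rw [PowerSeries.coeff_trunc, if_pos hd, PowerSeries.algebraMap_apply', Algebra.algebraMap_self,
          PowerSeries.map_id, id_eq, Polynomial.coeff_coe]]
    rfl)
  have h2 : Ideal.Quotient.mk J = u := hu _ rfl
  exact ⟨e, fun b => RingHom.congr_fun (h1.trans h2.symm) b⟩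

/-- The Laurent-series instance, kernel form, for an affine smooth group: let R be a ring, B = R{t} a
henselization of R[t] along (t), ψ : B → R[[t]] the canonical R[t]-algebra map, and χ : B[1/t] →
R((t)) the induced map. For an affine smooth B[1/t]-group scheme G, an fppf G-torsor over Spec
B[1/t] which acquires a section over Spec R((t)) has a section. (The published statement is a
bijection H¹(R{t}[1/t], G) ≅ H¹(R((t)), G) for quasi-affine smooth G and an injection for smooth
quasi-separated G; this row is the triviality of the kernel for affine smooth G.) -/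
theorem result (R : Type u) [CommRing R]
    (B : Type u) [CommRing B] [Algebra R[X] B] (hB : Hens2.IsPairHenselization R[X] (Ideal.span {(X : R[X])}) B)
    (ψ : B →ₐ[R[X]] PowerSeries R)
    (χ : Localization.Away (algebraMap R[X] B X) →+* LaurentSeries R)
    (hχ : χ.comp (algebraMap B (Localization.Away (algebraMap R[X] B X))) =
      (HahnSeries.ofPowerSeries ℤ R).comp ψ.toRingHom)
    (G : Over (Spec (CommRingCat.of (Localization.Away (algebraMap R[X] B X))))) [GrpObj G]
    [IsAffine G.left] [Smooth G.hom]
    (P : Over (Spec (CommRingCat.of (Localization.Away (algebraMap R[X] B X))))) (a : AlgGrp.Action G P)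
    (hP : NonAbH1.IsTorsorFor Scheme.fppfPrecoverage a)
    (hsec : NonAbH1.HasSectionOver P (Spec.map (CommRingCat.ofHom χ))) :
    NonAbH1.HasSectionOver P (𝟙 (Spec (CommRingCat.of (Localization.Away (algebraMap R[X] B X))))) := by
  letI : Algebra B (PowerSeries R) := ψ.toRingHom.toAlgebra
  haveI : HenselianRing B (Ideal.span {algebraMap R[X] B X}) := by
    have h := hB.1
    rwa [Ideal.map_span, Set.image_singleton] at h
  choose e he using exists_ev hB ψ
  have hX : algebraMap B (PowerSeries R) (algebraMap R[X] B X) = PowerSeries.X := by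
    show ψ (algebraMap R[X] B X) = _
    rw [AlgHom.commutes, PowerSeries.algebraMap_apply', Algebra.algebraMap_self, PowerSeries.map_id,
      id_eq, Polynomial.coe_X]
  haveI : IsLocalization.Away (algebraMap B (PowerSeries R) (algebraMap R[X] B X)) (LaurentSeries R) := by
    rw [hX]
    exact LaurentSeries.of_powerSeries_localization
  exact Groth.Agent.SmoothApprox7.hasSectionOver_id (algebraMap R[X] B X) (PowerSeries R)
    (fun M => { toRingHom := e M, commutes' := fun b => he M b }) (LaurentSeries R) χ hχ G P a hP hsec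

end Groth.Agent.S15758
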