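import Groth.Statements.S15759
import Groth.Agent.ApproxMod.Instances
-- import your own Groth.Agent.* helpers here

set_option autoImplicit false
universe u
open Polynomial TensorProduct
open CAlg

namespace Groth.Agent.S15759

/-- Let R be a ring, L = R(t) the localisation of R[t] at the monoid generated by t and the polynomials
with constant term 1 (that is, (R[t]_{1+tR[t]})[1/t]), and L' an L-algebra identified with R((t))
compatibly with R[t] → R((t)). Then (b) finitely generated projective L-modules that become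
isomorphic over L' are isomorphic, and (c) every stably free L'-module is the base change of a
stably free L-module. -/
theorem result (R : Type u) [CommRing R]
    (L : Type u) [CommRing L] [Algebra R[X] L]
    [IsLocalization (Submonoid.closure ({f : R[X] | f.coeff 0 = 1} ∪ {X})) L]
    (L' : Type u) [CommRing L'] [Algebra L L'] (e : L' ≃+* LaurentSeries R)
    (he : ∀ p : R[X], e (algebraMap L L' (algebraMap R[X] L p)) =
      HahnSeries.ofPowerSeries ℤ R (Polynomial.coeToPowerSeries.ringHom p)) :
    (∀ (M N : Type u) [AddCommGroup M] [Module L M] [Module.Finite L M] [Module.Projective L M]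
        [AddCommGroup N] [Module L N] [Module.Finite L N] [Module.Projective L N],
        Nonempty (L' ⊗[L] M ≃ₗ[L'] L' ⊗[L] N) → Nonempty (M ≃ₗ[L] N)) ∧
    (∀ (M' : Type u) [AddCommGroup M'] [Module L' M'] [Module.Finite L' M'],
        (∃ n m : ℕ, Nonempty ((M' × (Fin n → L')) ≃ₗ[L'] (Fin m → L'))) →
        ∃ (M : Type u) (_ : AddCommGroup M) (_ : Module L M), Module.Finite L M ∧
          (∃ n m : ℕ, Nonempty ((M × (Fin n → L)) ≃ₗ[L] (Fin m → L))) ∧
          Nonempty (L' ⊗[L] M ≃ₗ[L'] M')) := by
  classical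
  let L₀ := Localization (Groth.Agent.ApproxMod.oneMonoid R)
  let f : L₀ →+* PowerSeries R :=
    IsLocalization.lift (M := Groth.Agent.ApproxMod.oneMonoid R) (g := Polynomial.coeToPowerSeries.ringHom)
      Groth.Agent.ApproxMod.isUnit_coe
  have hf : ∀ p : R[X], f (algebraMap R[X] L₀ p) = (p : PowerSeries R) := fun p => IsLocalization.lift_eq _ p
  have hcl : ∀ g ∈ Groth.Agent.ApproxMod.oneMonoid R, g ∈ Submonoid.closure ({f : R[X] | f.coeff 0 = 1} ∪ {X}) :=
    fun g hg => Submonoid.subset_closure (Or.inl (Groth.Agent.ApproxMod.mem_oneMonoid.1 hg))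
  have hu : ∀ g : Groth.Agent.ApproxMod.oneMonoid R, IsUnit (algebraMap R[X] L (g : R[X])) := fun g =>
    IsLocalization.map_units L (⟨g, hcl g g.2⟩ : Submonoid.closure ({f : R[X] | f.coeff 0 = 1} ∪ {X}))
  letI : Algebra L₀ L := (IsLocalization.lift hu).toAlgebra
  haveI : IsScalarTower R[X] L₀ L :=
    IsScalarTower.of_algebraMap_eq (R := R[X]) (S := L₀) (A := L) fun p => (IsLocalization.lift_eq hu p).symm
  haveI : IsLocalization.Away (algebraMap R[X] L₀ X) L := by
    have hM : ∀ m ∈ Submonoid.closure ({f : R[X] | f.coeff 0 = 1} ∪ {X}),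
        ∃ g ∈ Groth.Agent.ApproxMod.oneMonoid R, ∃ n : ℕ, m = g * X ^ n := by
      intro m hm
      induction hm using Submonoid.closure_induction with
      | mem x hx =>
        rcases hx with hx | hx
        · exact ⟨x, hx, 0, by simp⟩
        · exact ⟨1, one_mem _, 1, by simp [Set.mem_singleton_iff.1 hx]⟩
      | one => exact ⟨1, one_mem _, 0, by simp⟩
      | mul x y _ _ hx hy =>
        obtain ⟨g, hg, n, rfl⟩ := hx; obtain ⟨g', hg', n', rfl⟩ := hy
        exact ⟨g * g', mul_mem hg hg', n + n', by ring⟩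
    refine IsLocalization.Away.mk _ ?_ (fun z => ?_) fun a b hab => ?_
    · rw [← IsScalarTower.algebraMap_apply]
      exact IsLocalization.map_units L
        (⟨X, Submonoid.subset_closure (Or.inr rfl)⟩ : Submonoid.closure ({f : R[X] | f.coeff 0 = 1} ∪ {X}))
    · obtain ⟨p, m, rfl⟩ :=
        IsLocalization.exists_mk'_eq (Submonoid.closure ({f : R[X] | f.coeff 0 = 1} ∪ {X})) z
      obtain ⟨g, hg, n, hgn⟩ := hM m m.2
      refine ⟨n, IsLocalization.mk' L₀ p ⟨g, hg⟩, (hu ⟨g, hg⟩).mul_left_cancel ?_⟩
      rw [← IsScalarTower.algebraMap_apply R[X] L₀ L, IsScalarTower.algebraMap_apply R[X] L₀ L g,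
        ← map_mul, IsLocalization.mk'_spec' L₀ p ⟨g, hg⟩, ← IsScalarTower.algebraMap_apply,
        ← IsScalarTower.algebraMap_apply, ← map_pow]
      rw [mul_comm, mul_assoc, ← map_mul, mul_comm (X ^ n) g, ← hgn, IsLocalization.mk'_spec]
    · obtain ⟨pa, ga, rfl⟩ := IsLocalization.exists_mk'_eq (Groth.Agent.ApproxMod.oneMonoid R) a
      obtain ⟨pb, gb, rfl⟩ := IsLocalization.exists_mk'_eq (Groth.Agent.ApproxMod.oneMonoid R) b
      have h1 : algebraMap R[X] L (pa * gb) = algebraMap R[X] L (pb * ga) := by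
        have e1 := congrArg (algebraMap L₀ L) (IsLocalization.mk'_spec L₀ pa ga)
        have e2 := congrArg (algebraMap L₀ L) (IsLocalization.mk'_spec L₀ pb gb)
        simp only [map_mul, ← IsScalarTower.algebraMap_apply] at e1 e2 ⊢
        rw [← e1, ← e2, hab]
        ring
      obtain ⟨c, hc⟩ := (IsLocalization.eq_iff_exists (Submonoid.closure ({f : R[X] | f.coeff 0 = 1} ∪ {X})) L).1 h1
      obtain ⟨g, hg, n, hgn⟩ := hM c c.2
      refine ⟨n, ?_⟩
      rw [← map_pow, ← IsLocalization.mk'_one (M := Groth.Agent.ApproxMod.oneMonoid R) L₀ (X ^ n : R[X]),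
        ← IsLocalization.mk'_mul, ← IsLocalization.mk'_mul, IsLocalization.mk'_eq_iff_eq,
        IsLocalization.eq_iff_exists (Groth.Agent.ApproxMod.oneMonoid R)]
      refine ⟨⟨g, hg⟩, ?_⟩
      rw [hgn] at hc
      simp only [Submonoid.coe_mul, Submonoid.coe_one, one_mul]
      linear_combination hc
  letI : Algebra (PowerSeries R) L' := (e.symm.toRingHom.comp (HahnSeries.ofPowerSeries ℤ R)).toAlgebra
  haveI : IsLocalization.Away (PowerSeries.X : PowerSeries R) L' :=
    Groth.Agent.ApproxMod.isLocalization_laurent e fun s => e.apply_symm_apply _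
  haveI : IsLocalization.Away (f (algebraMap R[X] L₀ X)) L' := by
    rw [show f (algebraMap R[X] L₀ X) = PowerSeries.X from (hf X).trans Polynomial.coe_X]
    infer_instance
  have hc : ∀ b, algebraMap L L' (algebraMap L₀ L b) = algebraMap (PowerSeries R) L' (f b) := by
    have : (algebraMap L L').comp (algebraMap L₀ L) = (algebraMap (PowerSeries R) L').comp f := by
      refine IsLocalization.ringHom_ext (Groth.Agent.ApproxMod.oneMonoid R) (RingHom.ext fun p => e.injective ?_)
      simp only [RingHom.comp_apply, ← IsScalarTower.algebraMap_apply, hf]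
      rw [he]
      exact (e.apply_symm_apply _).symm
    exact fun b => RingHom.congr_fun this b
  have D : Groth.Agent.ApproxMod.Data (A' := L) (S' := L') f (algebraMap R[X] L₀ X) :=
    Groth.Agent.ApproxMod.data_powerSeries (Groth.Agent.ApproxMod.jac_oneMonoid R)
      (Groth.Agent.ApproxMod.exists_sub_mem_oneMonoid R) f hf hc
  exact ⟨fun M N _ _ _ _ _ _ _ _ h => Groth.Agent.ApproxMod.iso_descends D M N h,
    fun M' _ _ _ h => Groth.Agent.ApproxMod.stablyFree_extends D M' h⟩

end Groth.Agent.S15759
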