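import Groth.Statements.S15763
import Groth.Agent.RigFEt7.Main
import Groth.Agent.Hensel.HenselizationProps
-- import your own Groth.Agent.* helpers here

set_option autoImplicit false
universe u
open CategoryTheory AlgebraicGeometry Polynomial
open FEt

namespace Groth.Agent.S15763

/-- The instance R{t}[1/t] → R((t)): for any ring R, base change along the canonical map from the
Henselian Laurent series ring R{t}[1/t] (R{t} a henselization of R[t] along (t), ψ its map to
R[[t]], χ the induced map to R((t))) to R((t)) is an equivalence between finite étale schemes over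
Spec R{t}[1/t] and over Spec R((t)). (The published statement is for any topological ring with a
Henselian open nonunital subring whose induced topology has a neighbourhood base of zero consisting
of ideals, and its completion; this row is the case R{t}[1/t] → R((t)), which the published
statement singles out.) -/
theorem result (R : Type u) [CommRing R]
    (B : Type u) [CommRing B] [Algebra R[X] B] (hB : Hens2.IsPairHenselization R[X] (Ideal.span {(X : R[X])}) B)
    (ψ : B →ₐ[R[X]] PowerSeries R)
    (χ : Localization.Away (algebraMap R[X] B X) →+* LaurentSeries R)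
    (hχ : χ.comp (algebraMap B (Localization.Away (algebraMap R[X] B X))) =
      (HahnSeries.ofPowerSeries ℤ R).comp ψ.toRingHom) :
    (FEt.restrict (Spec.map (CommRingCat.ofHom χ))).IsEquivalence := by
  let t : B := algebraMap R[X] B X
  letI : Algebra B (PowerSeries R) := ψ.toRingHom.toAlgebra
  have hψt : algebraMap B (PowerSeries R) t = PowerSeries.X := by
    show ψ (algebraMap R[X] B X) = _
    rw [ψ.commutes, PowerSeries.algebraMap_apply']
    simp
  have hψp : ∀ p : R[X], algebraMap B (PowerSeries R) (algebraMap R[X] B p) = (p : PowerSeries R) := fun p => by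
    show ψ (algebraMap R[X] B p) = _
    rw [ψ.commutes, PowerSeries.algebraMap_apply']
    simp
  haveI hB1 : HenselianRing B (Ideal.span {t}) := by
    have h := hB.1
    rwa [Ideal.map_span, Set.image_singleton] at h
  have hR : RigFEt7.RigidPair B (PowerSeries R) t := by
    refine ⟨hB1, by rw [hψt]; infer_instance, fun n b hb => ?_, fun n z => ?_⟩
    · obtain ⟨a, ha⟩ := (Hensel.bijective_quotientMap_pow_of_isPairHenselization _ hB n).2 (Ideal.Quotient.mk _ b)
      obtain ⟨p, rfl⟩ := Ideal.Quotient.mk_surjective a
      rw [Ideal.quotientMap_mk, Ideal.Quotient.eq, Ideal.span_singleton_pow, Ideal.map_span, Set.image_singleton,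
        map_pow] at ha
      obtain ⟨w, hw⟩ := Ideal.mem_span_singleton'.1 ha
      have h1 := congrArg (algebraMap B (PowerSeries R)) hw
      rw [map_mul, map_pow, hψt, map_sub, hψp] at h1
      have h2 : (p : PowerSeries R) ∈ Ideal.span {PowerSeries.X ^ n} := by
        rw [hψt] at hb
        have h := add_mem hb (Ideal.mem_span_singleton'.2 ⟨_, h1⟩)
        rwa [add_sub_cancel] at h
      rw [Ideal.mem_span_singleton, PowerSeries.X_pow_dvd_iff] at h2
      have h3 : (Polynomial.X : R[X]) ^ n ∣ p := Polynomial.X_pow_dvd_iff.2 fun d hd => by
        have := h2 d hd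
        rwa [Polynomial.coeff_coe] at this
      obtain ⟨q, rfl⟩ := h3
      have h4 : algebraMap R[X] B (X ^ n * q) ∈ Ideal.span {t ^ n} := by
        rw [map_mul, map_pow]
        exact Ideal.mul_mem_right _ _ (Ideal.mem_span_singleton_self _)
      have h := sub_mem h4 ha
      rwa [sub_sub_cancel] at h
    · refine ⟨algebraMap R[X] B (PowerSeries.trunc n z), ?_⟩
      rw [hψt, hψp, Ideal.mem_span_singleton, PowerSeries.X_pow_dvd_iff]
      intro d hd
      rw [map_sub, Polynomial.coeff_coe, PowerSeries.coeff_trunc, if_pos hd, sub_self]
  letI : Algebra B (LaurentSeries R) := ((HahnSeries.ofPowerSeries ℤ R).comp ψ.toRingHom).toAlgebra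
  haveI : IsScalarTower B (PowerSeries R) (LaurentSeries R) := .of_algebraMap_eq' rfl
  haveI : IsLocalization.Away (algebraMap B (PowerSeries R) t) (LaurentSeries R) := by
    rw [hψt]
    exact LaurentSeries.of_powerSeries_localization
  let K := Localization.Away t
  letI : Algebra K (LaurentSeries R) := χ.toAlgebra
  haveI : IsScalarTower B K (LaurentSeries R) := .of_algebraMap_eq' hχ.symm
  exact hR.restrict_isEquivalence (K' := LaurentSeries R) K

end Groth.Agent.S15763
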