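import Groth.Statements.S15765
import Mathlib.AlgebraicGeometry.QuasiAffine

set_option autoImplicit false
universe u
open CategoryTheory AlgebraicGeometry
open CAlg

namespace Groth.Agent.S15765
open CategoryTheory

/-- Some element of an ideal generating the unit ideal becomes a unit after approximating the coefficients. -/
theorem exists_isUnit_of_dense {B : Type u} [CommRing B] [TopologicalSpace B] [IsTopologicalRing B]
    (hB : IsOpen {b : B | IsUnit b}) {C B₀ : Type u} [CommRing C] [CommRing B₀] (η : B₀ →+* C) (ξ : C →+* B)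
    (hd : DenseRange (ξ.comp η)) (J : Ideal C) (hJ : J.map ξ = ⊤) : ∃ x ∈ J, IsUnit (ξ x) := by
  let S : AddSubgroup B := (J.toAddSubgroup).map ξ.toAddMonoidHom
  have hmul : ∀ (b : B), ∀ y ∈ S.topologicalClosure, b * y ∈ S.topologicalClosure := by
    intro b y hy
    refine map_mem_closure₂ (f := fun b y => b * y) continuous_mul (hd b) hy ?_
    rintro _ ⟨c, rfl⟩ _ ⟨j, hj, rfl⟩
    exact ⟨η c * j, J.mul_mem_left _ hj, map_mul ξ _ _⟩
  let I : Ideal B :=
    { S.topologicalClosure with smul_mem' := hmul }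
  have hle : J.map ξ ≤ I := Ideal.map_le_iff_le_comap.2 fun j hj =>
    S.le_topologicalClosure ⟨j, hj, rfl⟩
  have h1 : (1 : B) ∈ closure (S : Set B) := (hle (hJ ▸ Submodule.mem_top) : (1 : B) ∈ I)
  obtain ⟨_, hu, x, hx, rfl⟩ := mem_closure_iff.1 h1 _ hB isUnit_one
  exact ⟨x, hx, hu⟩

/-- Let B be a topological ring in which the units form an open subset, B₀ → B a ring map with dense
image and X a quasi-affine scheme over B₀. Then the image of any B-point Spec B → X over B₀ is
contained in an affine open of X. (The published statement allows X ind-quasi-affine, i.e. with all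
quasi-compact opens quasi-affine; since a B-point lands in a quasi-compact open, this row's
quasi-affine case carries the content.) -/
theorem result (B : Type u) [CommRing B] [TopologicalSpace B]
    [IsTopologicalRing B] (hB : IsOpen {b : B | IsUnit b})
    (B₀ : Type u) [CommRing B₀] (φ : B₀ →+* B) (hφ : DenseRange φ)
    (X : Scheme.{u}) [X.IsQuasiAffine] (p : X ⟶ Spec (CommRingCat.of B₀))
    (f : Spec (CommRingCat.of B) ⟶ X) (hf : f ≫ p = Spec.map (CommRingCat.ofHom φ)) :
    ∃ U : X.Opens, IsAffineOpen U ∧ Set.range f.base ⊆ (U : Set X) := by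
  obtain ⟨ξ, hξ⟩ := Spec.map_surjective (f ≫ X.toSpecΓ)
  let η : CommRingCat.of B₀ ⟶ Γ(X, ⊤) := (Scheme.ΓSpecIso (CommRingCat.of B₀)).inv ≫ p.appTop
  have hη : X.toSpecΓ ≫ Spec.map η = p := by
    rw [Spec.map_comp, ← Scheme.toSpecΓ_naturality_assoc, toSpecΓ_SpecMap_ΓSpecIso_inv, Category.comp_id]
  have hcomp : η ≫ ξ = CommRingCat.ofHom φ := Spec.map_injective (by
    rw [Spec.map_comp, hξ, Category.assoc, hη, hf])
  obtain ⟨s, hs⟩ := (PrimeSpectrum.isOpen_iff _).1 X.toSpecΓ.opensRange.2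
  let J : Ideal Γ(X, ⊤) := Ideal.span s
  have hd : DenseRange (ξ.hom.comp η.hom) := by
    have e : ξ.hom.comp η.hom = φ := congrArg CommRingCat.Hom.hom hcomp
    rw [e]; exact hφ
  have hJ : J.map ξ.hom = ⊤ := by
    by_contra hne
    obtain ⟨M, hM, hle⟩ := Ideal.exists_le_maximal _ hne
    let z : Spec (CommRingCat.of B) := ⟨M, hM.isPrime⟩
    have h1 : (f ≫ X.toSpecΓ) z ∈ X.toSpecΓ.opensRange := ⟨f z, by rw [Scheme.Hom.comp_apply]⟩
    rw [← hξ] at h1
    have h2 : Spec.map ξ z ∈ PrimeSpectrum.zeroLocus s := by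
      intro c hc
      exact hle (Ideal.mem_map_of_mem _ (Ideal.subset_span hc))
    rw [← hs] at h2
    exact h2 h1
  obtain ⟨x, hx, hu⟩ := exists_isUnit_of_dense hB η.hom ξ.hom hd J hJ
  have hsub : (PrimeSpectrum.basicOpen x : Set (PrimeSpectrum Γ(X, ⊤))) ⊆ Set.range X.toSpecΓ := by
    intro q hq
    by_contra hn
    have : q ∈ PrimeSpectrum.zeroLocus s := by rw [← hs]; exact hn
    exact hq ((Ideal.span_le.2 this) hx)
  refine ⟨X.basicOpen x, ?_, ?_⟩
  · rw [← Scheme.toSpecΓ_preimage_basicOpen, ← Scheme.Hom.isAffineOpen_iff_of_isOpenImmersion X.toSpecΓ]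
    have e : X.toSpecΓ ''ᵁ (X.toSpecΓ ⁻¹ᵁ PrimeSpectrum.basicOpen x) = PrimeSpectrum.basicOpen x :=
      TopologicalSpace.Opens.ext (Set.image_preimage_eq_of_subset hsub)
    rw [e]
    exact IsAffineOpen.Spec_basicOpen x
  · rintro _ ⟨z, rfl⟩
    have : (f ≫ X.toSpecΓ) z ∈ PrimeSpectrum.basicOpen x := by
      rw [← hξ]
      exact fun hz => z.2.ne_top (Ideal.eq_top_of_isUnit_mem _ hz hu)
    rw [Scheme.Hom.comp_apply] at this
    rw [← Scheme.toSpecΓ_preimage_basicOpen]
    exact this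

end Groth.Agent.S15765
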