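import Groth.Statements.S15766
import Groth.Agent.LaurentRoot7.Series
import Mathlib.AlgebraicGeometry.Limits
import Mathlib.AlgebraicGeometry.AffineScheme
-- import your own Groth.Agent.* helpers here

set_option autoImplicit false
universe u
open CategoryTheory CategoryTheory.Limits AlgebraicGeometry
open FEt

namespace Groth.Agent.S15766

open AlgebraicGeometry CategoryTheory Limits

theorem preconnectedSpace_spec {R : CommRingCat.{u}} (h : ∀ e : R, IsIdempotentElem e → e = 0 ∨ e = 1) :
    PreconnectedSpace (Spec R) := by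
  refine preconnectedSpace_iff_clopen.2 fun s hs => ?_
  obtain ⟨e, he, rfl⟩ := (PrimeSpectrum.isClopen_iff (s := s)).1 hs
  rcases h e he with rfl | rfl
  · left
    show ((PrimeSpectrum.basicOpen (0 : R)) : Set (PrimeSpectrum R)) = ∅
    rw [PrimeSpectrum.basicOpen_zero]; rfl
  · right
    show ((PrimeSpectrum.basicOpen (1 : R)) : Set (PrimeSpectrum R)) = Set.univ
    rw [PrimeSpectrum.basicOpen_one]; rfl

section split

variable {X S T : Scheme.{u}} (p : X ⟶ S) (q : T ⟶ S) {n : ℕ} (e : pullback p q ≅ ∐ fun _ : Fin n => T)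
  (he : e.hom ≫ Sigma.desc (fun _ : Fin n => 𝟙 T) = pullback.snd p q)

/-- The sheets of a split cover. -/
noncomputable def sheet (j : Fin n) : T ⟶ X := Sigma.ι (fun _ : Fin n => T) j ≫ e.inv ≫ pullback.fst p q

include he in
theorem sheet_comp (j : Fin n) : sheet p q e j ≫ p = q := by
  have h1 : e.inv ≫ pullback.snd p q = Sigma.desc (fun _ : Fin n => 𝟙 T) := by rw [← he, Iso.inv_hom_id_assoc]
  rw [sheet, Category.assoc, Category.assoc, pullback.condition, reassoc_of% h1, Sigma.ι_desc_assoc, Category.id_comp]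

include he in
theorem existsUnique_sheet {W : Scheme.{u}} [PreconnectedSpace W] [Nonempty W] (h : W ⟶ T) (a : W ⟶ X)
    (ha : a ≫ p = h ≫ q) : ∃! j, h ≫ sheet p q e j = a := by
  obtain ⟨w₀⟩ := ‹Nonempty W›
  have huniq : ∀ i j, h ≫ sheet p q e i = h ≫ sheet p q e j → i = j := by
    intro i j hij
    have h1 : e.inv ≫ pullback.snd p q = Sigma.desc (fun _ : Fin n => 𝟙 T) := by rw [← he, Iso.inv_hom_id_assoc]
    have h2 : h ≫ Sigma.ι (fun _ : Fin n => T) i = h ≫ Sigma.ι (fun _ : Fin n => T) j := by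
      rw [← cancel_mono e.inv]
      refine pullback.hom_ext ?_ ?_
      · simpa [sheet] using hij
      · simp [h1]
    by_contra hne
    exact (isEmpty_of_commSq_sigmaι_of_ne (g := fun _ : Fin n => T) ⟨h2⟩ hne).false w₀
  let v : W ⟶ ∐ fun _ : Fin n => T := pullback.lift a h ha ≫ e.hom
  obtain ⟨j, x, hx⟩ : ∃ j x, Sigma.ι (fun _ : Fin n => T) j x = v w₀ := (sigmaOpenCover (fun _ : Fin n => T)).exists_eq (v w₀)
  let O : ∀ k, Set W := fun k => v.base ⁻¹' Set.range (Sigma.ι (fun _ : Fin n => T) k).base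
  have hO : ∀ k, IsOpen (O k) := fun k =>
    ((Sigma.ι (fun _ : Fin n => T) k).opensRange.isOpen).preimage v.continuous
  have hcover : ∀ w, ∃ k, w ∈ O k := fun w => by
    obtain ⟨k, y, hy⟩ : ∃ j x, Sigma.ι (fun _ : Fin n => T) j x = v w := (sigmaOpenCover (fun _ : Fin n => T)).exists_eq (v w)
    exact ⟨k, y, hy⟩
  have hdis : ∀ k l, ∀ w, w ∈ O k → w ∈ O l → k = l := fun k l w hk hl => by
    by_contra hne
    exact (disjoint_opensRange_sigmaι (fun _ : Fin n => T) k l hne).le_bot (x := v w) ⟨hk, hl⟩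
  have hclosed : IsClosed (O j) := by
    rw [← isOpen_compl_iff, show (O j)ᶜ = ⋃ k : {k // k ≠ j}, O k.1 from ?_]
    · exact isOpen_iUnion fun k => hO k.1
    ext w
    constructor
    · intro hw
      obtain ⟨k, hk⟩ := hcover w
      exact Set.mem_iUnion.2 ⟨⟨k, fun hkj => hw (hkj ▸ hk)⟩, hk⟩
    · intro hw hwj
      obtain ⟨⟨k, hk⟩, hwk⟩ := Set.mem_iUnion.1 hw
      exact hk (hdis k j w hwk hwj)
  have huniv : O j = Set.univ :=
    (isClopen_iff.1 ⟨hclosed, hO j⟩).resolve_left (Set.nonempty_iff_ne_empty.1 ⟨w₀, x, hx⟩)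
  let v' : W ⟶ T := IsOpenImmersion.lift (Sigma.ι (fun _ : Fin n => T) j) v
    (by rintro _ ⟨w, rfl⟩; exact (huniv ▸ Set.mem_univ w : w ∈ O j))
  have hv' : v' ≫ Sigma.ι (fun _ : Fin n => T) j = v := IsOpenImmersion.lift_fac _ _ _
  have hv'h : v' = h := by
    have := congrArg (· ≫ Sigma.desc (fun _ : Fin n => 𝟙 T)) hv'
    simp only [v, Category.assoc, he, Sigma.ι_desc, Category.comp_id] at this
    exact this.trans (pullback.lift_snd a h ha)
  have key : h ≫ sheet p q e j = a := by
    rw [sheet, ← hv'h, reassoc_of% hv']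
    simp only [v, Category.assoc, Iso.hom_inv_id_assoc]
    exact pullback.lift_fst a h ha
  exact ⟨j, key, fun k hk => huniq k j (hk.trans key.symm)⟩

end split

theorem hom_ext_of_injective {X : Scheme.{u}} [IsAffine X] {R S : CommRingCat.{u}} (φ : R ⟶ S)
    (hφ : Function.Injective φ.hom) {a b : Spec R ⟶ X} (h : Spec.map φ ≫ a = Spec.map φ ≫ b) : a = b := by
  rw [← cancel_mono X.isoSpec.hom] at h ⊢
  simp only [Category.assoc] at h
  rw [← Spec.map_preimage (a ≫ X.isoSpec.hom), ← Spec.map_preimage (b ≫ X.isoSpec.hom), ← Spec.map_comp,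
    ← Spec.map_comp] at h
  rw [← Spec.map_preimage (a ≫ X.isoSpec.hom), ← Spec.map_preimage (b ≫ X.isoSpec.hom)]
  exact congrArg Spec.map (CommRingCat.hom_ext (RingHom.ext fun x => hφ (ConcreteCategory.congr_hom (Spec.map_injective h) x)))

theorem exists_factor_of_mem_range {X : Scheme.{u}} [IsAffine X] {R S : CommRingCat.{u}} (φ : R ⟶ S)
    (hφ : Function.Injective φ.hom) (a : Spec S ⟶ X)
    (h : ∀ x, (Spec.preimage (a ≫ X.isoSpec.hom)).hom x ∈ Set.range φ.hom) :
    ∃ s : Spec R ⟶ X, Spec.map φ ≫ s = a := by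
  let E := RingEquiv.ofBijective φ.hom.rangeRestrict
    ⟨fun x y hxy => hφ (congrArg Subtype.val hxy), φ.hom.rangeRestrict_surjective⟩
  let α := Spec.preimage (a ≫ X.isoSpec.hom)
  let β : Γ(X, ⊤) ⟶ R := CommRingCat.ofHom (E.symm.toRingHom.comp (α.hom.codRestrict φ.hom.range h))
  refine ⟨Spec.map β ≫ X.isoSpec.inv, ?_⟩
  rw [← Category.assoc, ← Spec.map_comp, show β ≫ φ = α from CommRingCat.hom_ext (RingHom.ext fun x =>
    congrArg Subtype.val (E.apply_symm_apply ⟨α.hom x, h x⟩)), Spec.map_preimage, Category.assoc,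
    Iso.hom_inv_id, Category.comp_id]

/-- Let R be a strictly Henselian local ring with residue field k, let d > 0 be invertible in R, and let
X → Spec R((t)) be finite étale and split (a trivial finite cover) after base change along the
substitution t ↦ t^d. Then every k((t))-point of X over R((t)) comes from a unique R((t))-section of
X; here ρ : R((t)) → k((t)) is the coefficientwise residue map, pinned on power series. (The
published statement is for a finite étale group scheme G of order invertible in R that becomes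
constant over a finite étale cover of R((t)) tamely ramified relative to R, in the form H⁰(R((t)),
G) ≅ H⁰(k((t)), G); the covers t ↦ t^d with d invertible in R are cofinal among such tame covers,
and the group structure plays no role in the H⁰ statement, so this row states it for any finite
étale X split by such a cover.) -/
theorem result (R : Type u) [CommRing R]
    [HenselianLocalRing R] [IsSepClosed (IsLocalRing.ResidueField R)]
    (d : ℕ) (hd : 0 < d) (hdu : IsUnit (d : R))
    (hinj : Function.Injective (AddMonoidHom.mulLeft (d : ℤ)))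
    (hmono : ∀ g g' : ℤ, AddMonoidHom.mulLeft (d : ℤ) g ≤ AddMonoidHom.mulLeft (d : ℤ) g' ↔ g ≤ g')
    (ρ : LaurentSeries R →+* LaurentSeries (IsLocalRing.ResidueField R))
    (hρ : ρ.comp (HahnSeries.ofPowerSeries ℤ R) =
      (HahnSeries.ofPowerSeries ℤ (IsLocalRing.ResidueField R)).comp (PowerSeries.map (IsLocalRing.residue R)))
    (X : Scheme.{u}) (p : X ⟶ Spec (CommRingCat.of (LaurentSeries R))) [IsFinite p] [Etale p]
    (hsplit : ∃ (n : ℕ) (e : pullback p (Spec.map (CommRingCat.ofHom
        (HahnSeries.embDomainRingHom (R := R) (AddMonoidHom.mulLeft (d : ℤ)) hinj hmono))) ≅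
        (∐ fun _ : Fin n => Spec (CommRingCat.of (LaurentSeries R)))),
      e.hom ≫ Sigma.desc (fun _ : Fin n => 𝟙 (Spec (CommRingCat.of (LaurentSeries R)))) =
        pullback.snd p (Spec.map (CommRingCat.ofHom
          (HahnSeries.embDomainRingHom (R := R) (AddMonoidHom.mulLeft (d : ℤ)) hinj hmono)))) :
    (∀ s₁ s₂ : Spec (CommRingCat.of (LaurentSeries R)) ⟶ X,
        s₁ ≫ p = 𝟙 _ → s₂ ≫ p = 𝟙 _ →
        Spec.map (CommRingCat.ofHom ρ) ≫ s₁ = Spec.map (CommRingCat.ofHom ρ) ≫ s₂ → s₁ = s₂) ∧
    (∀ s' : Spec (CommRingCat.of (LaurentSeries (IsLocalRing.ResidueField R))) ⟶ X,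
        s' ≫ p = Spec.map (CommRingCat.ofHom ρ) →
        ∃ s : Spec (CommRingCat.of (LaurentSeries R)) ⟶ X, s ≫ p = 𝟙 _ ∧ Spec.map (CommRingCat.ofHom ρ) ≫ s = s') := by
  classical
  let k := IsLocalRing.ResidueField R
  let π := IsLocalRing.residue R
  obtain ⟨n, e, he⟩ := hsplit
  let em := HahnSeries.embDomainRingHom (R := R) (AddMonoidHom.mulLeft (d : ℤ)) hinj hmono
  let emk := HahnSeries.embDomainRingHom (R := k) (AddMonoidHom.mulLeft (d : ℤ)) hinj hmono
  have hem : Function.Injective em := Groth.Agent.LaurentRoot7.emb_injective hinj hmono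
  have hemk : Function.Injective emk := Groth.Agent.LaurentRoot7.emb_injective hinj hmono
  have hsq : ρ.comp em = emk.comp ρ := Groth.Agent.LaurentRoot7.map_emb hinj hmono π ρ hρ
  let q := Spec.map (CommRingCat.ofHom em)
  let qk := Spec.map (CommRingCat.ofHom emk)
  let h := Spec.map (CommRingCat.ofHom ρ)
  have hhq : h ≫ q = qk ≫ h := by
    rw [← Spec.map_comp, ← Spec.map_comp, ← CommRingCat.ofHom_comp, ← CommRingCat.ofHom_comp, hsq]
  haveI : IsAffine X := isAffine_of_isAffineHom p
  haveI : PreconnectedSpace (Spec (CommRingCat.of (LaurentSeries R))) :=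
    preconnectedSpace_spec fun e he => Groth.Agent.LaurentRoot7.eq_zero_or_one_of_isIdempotentElem he
  haveI : PreconnectedSpace (Spec (CommRingCat.of (LaurentSeries k))) :=
    preconnectedSpace_spec fun e he => Groth.Agent.LaurentRoot7.eq_zero_or_one_of_isIdempotentElem he
  haveI : Nonempty (Spec (CommRingCat.of (LaurentSeries R))) :=
    (inferInstance : Nonempty (PrimeSpectrum (LaurentSeries R)))
  haveI : Nonempty (Spec (CommRingCat.of (LaurentSeries k))) :=
    (inferInstance : Nonempty (PrimeSpectrum (LaurentSeries k)))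
  refine ⟨fun s₁ s₂ hs₁ hs₂ heq => ?_, fun s' hs' => ?_⟩
  · obtain ⟨i, hi, -⟩ := existsUnique_sheet p q e he (𝟙 _) (q ≫ s₁) (by rw [Category.assoc, hs₁, Category.comp_id, Category.id_comp])
    obtain ⟨j, hj, -⟩ := existsUnique_sheet p q e he (𝟙 _) (q ≫ s₂) (by rw [Category.assoc, hs₂, Category.comp_id, Category.id_comp])
    simp only [Category.id_comp] at hi hj
    have h1 : h ≫ sheet p q e i = h ≫ sheet p q e j := by rw [hi, hj, reassoc_of% hhq, heq, ← reassoc_of% hhq]
    have hij : i = j := (existsUnique_sheet p q e he h (h ≫ sheet p q e j)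
      (by rw [Category.assoc, sheet_comp p q e he])).unique h1 rfl
    exact hom_ext_of_injective _ hem (show q ≫ s₁ = q ≫ s₂ by rw [← hi, ← hj, hij])
  · obtain ⟨j, hj, hjuniq⟩ := existsUnique_sheet p q e he h (qk ≫ s') (by rw [Category.assoc, hs', hhq])
    obtain ⟨z, hz, hz'⟩ := Groth.Agent.LaurentRoot7.exists_root (R := R) d hd hdu
    let g := Spec.map (CommRingCat.ofHom (Groth.Agent.LaurentRoot7.scale z))
    let gk := Spec.map (CommRingCat.ofHom (Groth.Agent.LaurentRoot7.scale (Units.map (π : R →* k) z)))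
    have hgq : g ≫ q = q := by
      rw [← Spec.map_comp, ← CommRingCat.ofHom_comp, Groth.Agent.LaurentRoot7.scale_emb hinj hmono hz]
    have hgqk : gk ≫ qk = qk := by
      rw [← Spec.map_comp, ← CommRingCat.ofHom_comp,
        Groth.Agent.LaurentRoot7.scale_emb hinj hmono (by rw [← map_pow, hz, map_one])]
    have hhg : h ≫ g = gk ≫ h := by
      rw [← Spec.map_comp, ← Spec.map_comp, ← CommRingCat.ofHom_comp, ← CommRingCat.ofHom_comp,
        Groth.Agent.LaurentRoot7.map_scale π ρ hρ]
    replace hj : h ≫ sheet p q e j = qk ≫ s' := hj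
    obtain ⟨i, hi, -⟩ := existsUnique_sheet p q e he (𝟙 _) (g ≫ sheet p q e j)
      (by rw [Category.assoc, sheet_comp p q e he, Category.id_comp, hgq])
    simp only [Category.id_comp] at hi
    have hij : i = j := hjuniq i (show h ≫ sheet p q e i = qk ≫ s' by rw [hi, reassoc_of% hhg, hj, reassoc_of% hgqk])
    subst hij
    let α := Spec.preimage (sheet p q e i ≫ X.isoSpec.hom)
    have hα : α ≫ CommRingCat.ofHom (Groth.Agent.LaurentRoot7.scale z) = α := Spec.map_injective (by
      rw [Spec.map_comp, Spec.map_preimage, ← Category.assoc]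
      exact congrArg (· ≫ X.isoSpec.hom) hi.symm)
    obtain ⟨s, hs⟩ := exists_factor_of_mem_range (CommRingCat.ofHom em) hem (sheet p q e i) fun x =>
      Groth.Agent.LaurentRoot7.mem_range_of_scale_eq hinj hmono hd hz' (ConcreteCategory.congr_hom hα x)
    refine ⟨s, ?_, hom_ext_of_injective (CommRingCat.ofHom emk) hemk ?_⟩
    · haveI : IsAffine (Spec (CommRingCat.of (LaurentSeries R))) := inferInstance
      exact hom_ext_of_injective (CommRingCat.ofHom em) hem
        (by rw [← Category.assoc, hs, sheet_comp p q e he, Category.comp_id])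
    · show qk ≫ h ≫ s = qk ≫ s'
      rw [← reassoc_of% hhq, hs, hj]

end Groth.Agent.S15766
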