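import Groth.Statements.S15768
import Groth.Agent.IdemAway.Basic
import Groth.Agent.Hensel.NoethPair
import Mathlib.RingTheory.PowerSeries.Trunc
import Mathlib.RingTheory.PowerSeries.Inverse
import Mathlib.RingTheory.AdicCompletion.Completeness

set_option autoImplicit false
universe u
open Polynomial
open CAlg

namespace Groth.Agent.S15768

theorem idem_const {R : Type u} [CommRing R] {t : PowerSeries R} (ht : t = PowerSeries.X) {L : Type u} [CommRing L]
    [Algebra (PowerSeries R) L] [IsLocalization.Away t L] {e : L} (he : IsIdempotentElem e) :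
    ∃ r : R, IsIdempotentElem r ∧ algebraMap (PowerSeries R) L (PowerSeries.C r) = e := by
  subst ht
  obtain ⟨m, s, hs⟩ := IsLocalization.Away.surj (S := L) (PowerSeries.X : PowerSeries R) e
  have hle : Submonoid.powers (PowerSeries.X : PowerSeries R) ≤ nonZeroDivisors (PowerSeries R) :=
    Submonoid.powers_le.2 (mem_nonZeroDivisors_iff_right.2 fun p hp => PowerSeries.ext fun n => by
      have := congrArg (PowerSeries.coeff (n + 1)) hp
      simpa using this)
  have hinj : Function.Injective (algebraMap (PowerSeries R) L) := IsLocalization.injective L hle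
  have hss : s * s = PowerSeries.X ^ m * s := hinj (by
    rw [map_mul, map_mul, map_pow, ← hs]
    linear_combination (algebraMap (PowerSeries R) L PowerSeries.X ^ (2 * m)) * he.eq)
  have hco : ∀ (p : Ideal R), p.IsPrime → ∀ n, (n < m → PowerSeries.coeff n s ∈ p) ∧
      (n = m → PowerSeries.coeff n s * PowerSeries.coeff n s - PowerSeries.coeff n s ∈ p) := by
    intro p hp n
    obtain ⟨π, hπ⟩ : ∃ π, π = Ideal.Quotient.mk p := ⟨_, rfl⟩
    have h := congrArg (PowerSeries.map π) hss
    rw [map_mul, map_mul, map_pow, PowerSeries.map_X] at h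
    have h' : PowerSeries.map π s * (PowerSeries.map π s - PowerSeries.X ^ m) = 0 := by linear_combination h
    have key : ∀ n, π (PowerSeries.coeff n s) = PowerSeries.coeff n (PowerSeries.map π s) := fun n =>
      (PowerSeries.coeff_map π n s).symm
    constructor
    · intro hn
      rw [← Ideal.Quotient.eq_zero_iff_mem, ← hπ, key]
      rcases mul_eq_zero.1 h' with h0 | h0
      · rw [h0, map_zero]
      · rw [sub_eq_zero.1 h0, PowerSeries.coeff_X_pow, if_neg hn.ne]
    · rintro rfl
      rw [← Ideal.Quotient.eq_zero_iff_mem, ← hπ, map_sub, map_mul, key]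
      rcases mul_eq_zero.1 h' with h0 | h0
      · rw [h0, map_zero]; simp
      · rw [sub_eq_zero.1 h0, PowerSeries.coeff_X_pow, if_pos rfl]; simp
  have hnil : ∀ n < m, IsNilpotent (PowerSeries.coeff n s) := fun n hn => by
    rw [← mem_nilradical, nilradical_eq_sInf]
    exact Submodule.mem_sInf.2 fun p hp => (hco p hp n).1 hn
  obtain ⟨P, hP⟩ : ∃ P, P = ((PowerSeries.trunc m s : Polynomial R) : PowerSeries R) := ⟨_, rfl⟩
  have hPn : IsNilpotent P := by
    have h : IsNilpotent (PowerSeries.trunc m s) := Polynomial.isNilpotent_iff.2 fun i => by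
      rw [PowerSeries.coeff_trunc]
      split
      · next h => exact hnil i h
      · exact IsNilpotent.zero
    rw [hP]; exact h.map (Polynomial.coeToPowerSeries.ringHom (R := R))
  obtain ⟨q, hq⟩ : PowerSeries.X ^ m ∣ s - P := PowerSeries.X_pow_dvd_iff.2 fun n hn => by
    rw [map_sub, hP, Polynomial.coeff_coe, PowerSeries.coeff_trunc, if_pos hn, sub_self]
  have hqc : PowerSeries.coeff m s = PowerSeries.constantCoeff q := by
    have := congrArg (PowerSeries.coeff m) hq
    rwa [map_sub, hP, Polynomial.coeff_coe, PowerSeries.coeff_trunc, if_neg (lt_irrefl m), sub_zero,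
      PowerSeries.coeff_X_pow_mul', if_pos le_rfl, Nat.sub_self, PowerSeries.coeff_zero_eq_constantCoeff_apply] at this
  have hc : IsNilpotent (PowerSeries.constantCoeff q * PowerSeries.constantCoeff q - PowerSeries.constantCoeff q) := by
    rw [← hqc, ← mem_nilradical, nilradical_eq_sInf]
    exact Submodule.mem_sInf.2 fun p hp => (hco p hp m).2 rfl
  obtain ⟨r, ⟨hr, hrc⟩, -⟩ := existsUnique_isIdempotentElem_eq_of_ker_isNilpotent (Ideal.Quotient.mk (nilradical R))
    (fun x hx => by rw [Ideal.mk_ker] at hx; exact mem_nilradical.1 hx) (Ideal.Quotient.mk _ (PowerSeries.constantCoeff q))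
    (Ideal.Quotient.mk_surjective _) (by
      show _ * _ = _
      rw [← map_mul, Ideal.Quotient.eq]
      exact mem_nilradical.2 hc)
  refine ⟨r, hr, sub_eq_zero.1 ?_⟩
  have hd := Groth.Agent.IdemAway.idem_sub_cube ((hr.map PowerSeries.C).map (algebraMap (PowerSeries R) L)) he
  obtain ⟨d₀, hd₀⟩ : ∃ d₀, d₀ = algebraMap (PowerSeries R) L (PowerSeries.C r - q) := ⟨_, rfl⟩
  obtain ⟨N, hN⟩ : ∃ N, N = algebraMap (PowerSeries R) L (PowerSeries.C r) - e - d₀ := ⟨_, rfl⟩
  have hu0 : IsUnit (algebraMap (PowerSeries R) L PowerSeries.X) := IsLocalization.Away.algebraMap_isUnit _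
  have hNn : IsNilpotent N := by
    have h1 : N * algebraMap (PowerSeries R) L PowerSeries.X ^ m = algebraMap (PowerSeries R) L (-P) := by
      have h2 := congrArg (algebraMap (PowerSeries R) L) hq
      rw [map_sub, map_mul, map_pow] at h2
      rw [hN, hd₀, map_sub, map_neg]
      linear_combination -hs - h2
    obtain ⟨k, hk⟩ := (hPn.neg.map (algebraMap (PowerSeries R) L))
    refine ⟨k, ?_⟩
    rw [← h1, mul_pow] at hk
    exact ((hu0.pow m).pow k).mul_left_eq_zero.1 hk
  have hu : IsUnit (1 - (algebraMap (PowerSeries R) L (PowerSeries.C r) - e) ^ 2) := by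
    have h1 : IsUnit (1 - d₀ ^ 2) := by
      have hz : IsNilpotent (r - PowerSeries.constantCoeff q) := mem_nilradical.1 (Ideal.Quotient.eq.1 hrc)
      have h2 : IsUnit (1 - (PowerSeries.C r - q) ^ 2 : PowerSeries R) := by
        rw [PowerSeries.isUnit_iff_constantCoeff, map_sub, map_one, map_pow, map_sub, PowerSeries.constantCoeff_C]
        exact (hz.pow_of_pos two_ne_zero).isUnit_one_sub
      rw [hd₀, ← map_pow, ← map_one (algebraMap (PowerSeries R) L), ← map_sub]
      exact h2.map _
    have h3 : 1 - (algebraMap (PowerSeries R) L (PowerSeries.C r) - e) ^ 2 = (1 - d₀ ^ 2) + -(N * (N + 2 * d₀)) := by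
      rw [hN]; ring
    rw [h3, add_comm]
    exact IsNilpotent.isUnit_add_right_of_commute (IsNilpotent.neg ((Commute.all _ _).isNilpotent_mul_right hNn)) h1 (Commute.all _ _)
  refine hu.mul_left_eq_zero.1 ?_
  linear_combination -hd

/-- For any ring R and a henselization B of R[t] along (t), every idempotent of B[1/t] comes from a
unique idempotent of R under R → R[t] → B → B[1/t]. -/
theorem result (R : Type u) [CommRing R]
    (B : Type u) [CommRing B] [Algebra R[X] B] (hB : Hens2.IsPairHenselization R[X] (Ideal.span {(X : R[X])}) B)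
    (e : Localization.Away (algebraMap R[X] B X)) (he : IsIdempotentElem e) :
    ∃! r : R, IsIdempotentElem r ∧
      algebraMap B (Localization.Away (algebraMap R[X] B X)) (algebraMap R[X] B (Polynomial.C r)) = e := by
  obtain ⟨t₀, ht₀⟩ : ∃ t₀, t₀ = algebraMap R[X] B Polynomial.X := ⟨_, rfl⟩
  haveI hhen : HenselianRing B (Ideal.span {algebraMap R[X] B Polynomial.X}) := by
    have := hB.1
    rwa [Ideal.map_span, Set.image_singleton] at this
  haveI : HenselianRing (PowerSeries R) (Ideal.span {PowerSeries.X}) := inferInstance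
  obtain ⟨g, hg, -⟩ := hB.2 (PowerSeries R) (Ideal.span {PowerSeries.X}) (Polynomial.coeToPowerSeries.ringHom (R := R))
    inferInstance (by rw [Ideal.map_span, Set.image_singleton]; simp)
  have hgX : g (algebraMap R[X] B Polynomial.X) = PowerSeries.X := by
    have := RingHom.congr_fun hg Polynomial.X
    simpa using this
  have hgp : ∀ p : R[X], g (algebraMap R[X] B p) = (p : PowerSeries R) := fun p => RingHom.congr_fun hg p
  have hinj : ∀ (M : ℕ) x, g x ∈ Ideal.span {g (algebraMap R[X] B Polynomial.X) ^ M} →
      x ∈ Ideal.span {algebraMap R[X] B Polynomial.X ^ M} := by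
    intro M x hx
    obtain ⟨p, hp⟩ := Groth.Agent.Hensel.exists_sub_mem_pow _
      (Groth.Agent.Hensel.exists_sub_mem_of_isPairHenselization _ hB) M x
    rw [Ideal.span_singleton_pow, Ideal.map_span, Set.image_singleton, map_pow] at hp
    have h1 : (p : PowerSeries R) ∈ Ideal.span {(PowerSeries.X : PowerSeries R) ^ M} := by
      have h2 := Ideal.mem_map_of_mem g hp
      rw [Ideal.map_span, Set.image_singleton, map_pow, hgX, map_sub, hgp] at h2
      rw [hgX] at hx
      simpa using Ideal.sub_mem _ hx h2
    rw [Ideal.mem_span_singleton, PowerSeries.X_pow_dvd_iff] at h1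
    obtain ⟨c, hc⟩ : (Polynomial.X : R[X]) ^ M ∣ p :=
      Polynomial.X_pow_dvd_iff.2 fun d hd => by simpa using h1 d hd
    rw [← sub_add_cancel x (algebraMap R[X] B p)]
    exact Ideal.add_mem _ hp (Ideal.mem_span_singleton.2 ⟨algebraMap R[X] B c, by rw [hc, map_mul, map_pow]⟩)
  let ψ := Localization.awayMap g (algebraMap R[X] B Polynomial.X)
  have hψ : ∀ a, ψ (algebraMap B _ a) = algebraMap _ _ (g a) := fun a => IsLocalization.map_eq _ a
  obtain ⟨r, hr, hre⟩ := idem_const hgX (he.map ψ)
  have hjac := HenselianRing.jac (I := Ideal.span {algebraMap R[X] B Polynomial.X})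
  have hidem : ∀ r : R, IsIdempotentElem r →
      IsIdempotentElem (algebraMap B (Localization.Away (algebraMap R[X] B Polynomial.X)) (algebraMap R[X] B (Polynomial.C r))) :=
    fun r hr => ((hr.map Polynomial.C).map _).map _
  refine ⟨r, ⟨hr, Groth.Agent.IdemAway.eq_of_map_eq hψ hjac hinj (hidem r hr) he ?_⟩, fun r₁ h₁ => ?_⟩
  · rw [hψ, show g (algebraMap R[X] B (Polynomial.C r)) = PowerSeries.C r from (hgp _).trans (Polynomial.coe_C _), hre]
  · have h2 : algebraMap (PowerSeries R) (Localization.Away (g (algebraMap R[X] B Polynomial.X))) (PowerSeries.C r₁) =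
        algebraMap (PowerSeries R) _ (PowerSeries.C r) := by
      rw [hre, ← h₁.2, hψ, show g (algebraMap R[X] B (Polynomial.C r₁)) = PowerSeries.C r₁ from (hgp _).trans (Polynomial.coe_C _)]
    have hle : Submonoid.powers (g (algebraMap R[X] B Polynomial.X)) ≤ nonZeroDivisors (PowerSeries R) :=
      Submonoid.powers_le.2 (mem_nonZeroDivisors_iff_right.2 fun p hp => PowerSeries.ext fun n => by
        rw [hgX] at hp
        have := congrArg (PowerSeries.coeff (n + 1)) hp
        simpa using this)
    exact PowerSeries.C_injective (IsLocalization.injective _ hle h2)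

end Groth.Agent.S15768
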