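import Groth.Statements.S15769
import Mathlib.AlgebraicGeometry.QuasiAffine

set_option autoImplicit false
universe u
open CategoryTheory AlgebraicGeometry
open CAlg

namespace Groth.Agent.S15769
open CategoryTheory

section Glue

variable {A A' : Type u} [CommRing A] [CommRing A'] (φ : A →+* A') (t : A)

/-- Elements are glued from `A'` and `A[1/t]`. -/
theorem exists_glue
    (hq : ∀ m : ℕ, Function.Bijective (Ideal.quotientMap (Ideal.map φ (Ideal.span {t} ^ m)) φ Ideal.le_comap_map))
    (htor : ∀ a' : A', (∃ m : ℕ, φ t ^ m * a' = 0) → ∃! a : A, (∃ m : ℕ, t ^ m * a = 0) ∧ φ a = a')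
    (a' : A') (z : Localization.Away t)
    (h : algebraMap A' (Localization.Away (φ t)) a' = Localization.awayMap φ t z) :
    ∃ a, φ a = a' ∧ algebraMap A (Localization.Away t) a = z := by
  obtain ⟨⟨a, ⟨_, k, rfl⟩⟩, hz⟩ := IsLocalization.surj (Submonoid.powers t) z
  have hz' := congrArg (Localization.awayMap φ t) hz
  rw [map_mul, ← h] at hz'
  simp only [Localization.awayMap, IsLocalization.Away.map, IsLocalization.map_eq, ← map_mul] at hz'
  obtain ⟨⟨_, M, rfl⟩, hM⟩ := (IsLocalization.eq_iff_exists (Submonoid.powers (φ t)) _).1 hz'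
  simp only [map_pow] at hM
  -- divide `t ^ M * a` by `t ^ (k + M)`
  obtain ⟨c, hc⟩ : ∃ c, c * t ^ (k + M) = t ^ M * a := by
    rw [← Ideal.mem_span_singleton', ← Ideal.span_singleton_pow, ← Ideal.Quotient.eq_zero_iff_mem]
    refine (hq (k + M)).1 ?_
    rw [map_zero, Ideal.quotientMap_mk, Ideal.Quotient.eq_zero_iff_mem, Ideal.map_pow, Ideal.map_span,
      Set.image_singleton, Ideal.span_singleton_pow, Ideal.mem_span_singleton']
    exact ⟨a', by rw [map_mul, map_pow, ← hM]; ring⟩
  obtain ⟨d, ⟨⟨j, hj⟩, hd⟩, -⟩ := htor (a' - φ c) ⟨k + M, by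
    have e := congrArg φ hc
    rw [map_mul, map_mul, map_pow, map_pow, ← hM] at e
    linear_combination -e⟩
  have hd0 : algebraMap A (Localization.Away t) d = 0 :=
    (IsLocalization.map_eq_zero_iff (Submonoid.powers t) _ _).2 ⟨⟨_, j, rfl⟩, hj⟩
  refine ⟨c + d, by rw [map_add, hd, add_sub_cancel], ?_⟩
  have hu := IsLocalization.Away.algebraMap_isUnit (S := Localization.Away t) t
  refine (hu.pow (k + M)).mul_left_injective ?_
  dsimp only
  rw [map_add, hd0, add_zero, ← map_pow, ← map_mul, hc, map_mul, ← hz, pow_add, map_mul]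
  ring

theorem glue_unique
    (htor : ∀ a' : A', (∃ m : ℕ, φ t ^ m * a' = 0) → ∃! a : A, (∃ m : ℕ, t ^ m * a = 0) ∧ φ a = a')
    {a b : A} (h1 : φ a = φ b) (h2 : algebraMap A (Localization.Away t) a = algebraMap A (Localization.Away t) b) :
    a = b := by
  obtain ⟨⟨_, m, rfl⟩, hm⟩ := (IsLocalization.eq_iff_exists (Submonoid.powers t) _).1 h2
  refine sub_eq_zero.1 ((htor 0 ⟨0, mul_zero _⟩).unique ⟨⟨m, ?_⟩, ?_⟩ ⟨⟨0, mul_zero _⟩, map_zero φ⟩)
  · rw [mul_sub]; exact sub_eq_zero.2 hm
  · rw [map_sub, h1, sub_self]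

end Glue

/-- Case of a quasi-affine X over U = Spec A: let φ : A → A' and t ∈ A be such that A/t^m → A'/t^m is
bijective for every m and φ restricts to a bijection between the t-power-torsion submodules; let X
be a quasi-affine scheme over Spec A. Then sections of X over Spec A correspond bijectively to pairs
of an A'-point and an A[1/t]-point of X over A that agree over A'[1/t]. (The published statement
allows a flat A-scheme U as base and X either ind-quasi-affine or subprojective over U; this row is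
U = Spec A with X quasi-affine.) -/
theorem result (A A' : Type u) [CommRing A] [CommRing A']
    (φ : A →+* A') (t : A)
    (hq : ∀ m : ℕ, Function.Bijective (Ideal.quotientMap (Ideal.map φ (Ideal.span {t} ^ m)) φ Ideal.le_comap_map))
    (htor : ∀ a' : A', (∃ m : ℕ, φ t ^ m * a' = 0) → ∃! a : A, (∃ m : ℕ, t ^ m * a = 0) ∧ φ a = a')
    (X : Scheme.{u}) [X.IsQuasiAffine] (p : X ⟶ Spec (CommRingCat.of A)) :
    (∀ s₁ s₂ : Spec (CommRingCat.of A) ⟶ X, s₁ ≫ p = 𝟙 _ → s₂ ≫ p = 𝟙 _ →
        Spec.map (CommRingCat.ofHom φ) ≫ s₁ = Spec.map (CommRingCat.ofHom φ) ≫ s₂ →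
        Spec.map (CommRingCat.ofHom (algebraMap A (Localization.Away t))) ≫ s₁ =
          Spec.map (CommRingCat.ofHom (algebraMap A (Localization.Away t))) ≫ s₂ →
        s₁ = s₂) ∧
    (∀ (x' : Spec (CommRingCat.of A') ⟶ X) (xt : Spec (CommRingCat.of (Localization.Away t)) ⟶ X),
        x' ≫ p = Spec.map (CommRingCat.ofHom φ) →
        xt ≫ p = Spec.map (CommRingCat.ofHom (algebraMap A (Localization.Away t))) →
        Spec.map (CommRingCat.ofHom (algebraMap A' (Localization.Away (φ t)))) ≫ x' =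
          Spec.map (CommRingCat.ofHom (Localization.awayMap φ t)) ≫ xt →
        ∃ s : Spec (CommRingCat.of A) ⟶ X, s ≫ p = 𝟙 _ ∧
          Spec.map (CommRingCat.ofHom φ) ≫ s = x' ∧
          Spec.map (CommRingCat.ofHom (algebraMap A (Localization.Away t))) ≫ s = xt) := by
  have key : ∀ {R : CommRingCat.{u}} (σ₁ σ₂ : R ⟶ CommRingCat.of A),
      σ₁ ≫ CommRingCat.ofHom φ = σ₂ ≫ CommRingCat.ofHom φ →
      σ₁ ≫ CommRingCat.ofHom (algebraMap A (Localization.Away t)) =
        σ₂ ≫ CommRingCat.ofHom (algebraMap A (Localization.Away t)) → σ₁ = σ₂ := fun σ₁ σ₂ h1 h2 =>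
    CommRingCat.hom_ext (RingHom.ext fun r => glue_unique φ t htor
      (congrArg (fun g => g.hom r) h1) (congrArg (fun g => g.hom r) h2))
  refine ⟨fun s₁ s₂ _ _ h1 h2 => ?_, fun x' xt hx' hxt hcompat => ?_⟩
  · rw [← cancel_mono X.toSpecΓ]
    obtain ⟨σ₁, hσ₁⟩ := Spec.map_surjective (s₁ ≫ X.toSpecΓ)
    obtain ⟨σ₂, hσ₂⟩ := Spec.map_surjective (s₂ ≫ X.toSpecΓ)
    rw [← hσ₁, ← hσ₂, key σ₁ σ₂]
    · exact Spec.map_injective (by rw [Spec.map_comp, Spec.map_comp, hσ₁, hσ₂, reassoc_of% h1])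
    · exact Spec.map_injective (by rw [Spec.map_comp, Spec.map_comp, hσ₁, hσ₂, reassoc_of% h2])
  obtain ⟨ξ', hξ'⟩ := Spec.map_surjective (x' ≫ X.toSpecΓ)
  obtain ⟨ξt, hξt⟩ := Spec.map_surjective (xt ≫ X.toSpecΓ)
  let η : CommRingCat.of A ⟶ Γ(X, ⊤) := (Scheme.ΓSpecIso (CommRingCat.of A)).inv ≫ p.appTop
  have hη : X.toSpecΓ ≫ Spec.map η = p := by
    rw [Spec.map_comp, ← Scheme.toSpecΓ_naturality_assoc, toSpecΓ_SpecMap_ΓSpecIso_inv, Category.comp_id]
  have hagree : ξ' ≫ CommRingCat.ofHom (algebraMap A' (Localization.Away (φ t))) =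
      ξt ≫ CommRingCat.ofHom (Localization.awayMap φ t) := Spec.map_injective (by
    rw [Spec.map_comp, Spec.map_comp, hξ', hξt, reassoc_of% hcompat])
  have hex : ∀ r : Γ(X, ⊤), ∃ a, φ a = ξ'.hom r ∧ algebraMap A (Localization.Away t) a = ξt.hom r := fun r =>
    exists_glue φ t hq htor _ _ (congrArg (fun g => g.hom r) hagree)
  choose σf h1 h2 using hex
  let σ : Γ(X, ⊤) ⟶ CommRingCat.of A := CommRingCat.ofHom
    { toFun := σf
      map_one' := glue_unique φ t htor (by rw [h1, map_one, map_one]) (by rw [h2, map_one, map_one])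
      map_mul' := fun a b => glue_unique φ t htor (by rw [h1, map_mul, map_mul, h1, h1])
        (by rw [h2, map_mul, map_mul, h2, h2])
      map_zero' := glue_unique φ t htor (by rw [h1, map_zero, map_zero]) (by rw [h2, map_zero, map_zero])
      map_add' := fun a b => glue_unique φ t htor (by rw [h1, map_add, map_add, h1, h1])
        (by rw [h2, map_add, map_add, h2, h2]) }
  have hσ' : σ ≫ CommRingCat.ofHom φ = ξ' := CommRingCat.hom_ext (RingHom.ext h1)
  have hσt : σ ≫ CommRingCat.ofHom (algebraMap A (Localization.Away t)) = ξt :=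
    CommRingCat.hom_ext (RingHom.ext h2)
  have hσid : η ≫ σ = 𝟙 _ := by
    refine key _ _ ?_ ?_
    · rw [Category.assoc, hσ', Category.id_comp]
      exact Spec.map_injective (by rw [Spec.map_comp, hξ', Category.assoc, hη, hx'])
    · rw [Category.assoc, hσt, Category.id_comp]
      exact Spec.map_injective (by rw [Spec.map_comp, hξt, Category.assoc, hη, hxt])
  have hrange : Set.range (Spec.map σ) ⊆ Set.range X.toSpecΓ := by
    rintro _ ⟨q, rfl⟩
    by_cases ht : t ∈ q.asIdeal
    · let κ : A ⧸ Ideal.span {t} ^ 1 →+* A' ⧸ Ideal.map φ (Ideal.span {t} ^ 1) :=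
        Ideal.quotientMap _ φ Ideal.le_comap_map
      let e := RingEquiv.ofBijective κ (hq 1)
      let β : A' →+* A ⧸ Ideal.span {t} ^ 1 := e.symm.toRingHom.comp (Ideal.Quotient.mk _)
      have hβ : β.comp φ = Ideal.Quotient.mk _ := RingHom.ext fun a => by
        show e.symm (Ideal.Quotient.mk _ (φ a)) = _
        rw [RingEquiv.symm_apply_eq]; rfl
      have hker : RingHom.ker (Ideal.Quotient.mk (Ideal.span {t} ^ 1)) ≤ q.asIdeal := by
        rw [Ideal.mk_ker, pow_one, Ideal.span_singleton_le_iff_mem]; exact ht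
      haveI : q.asIdeal.IsPrime := q.2
      haveI := Ideal.map_isPrime_of_surjective Ideal.Quotient.mk_surjective hker
      let qb : Ideal (A ⧸ Ideal.span {t} ^ 1) := q.asIdeal.map (Ideal.Quotient.mk _)
      have hqb : qb.comap (Ideal.Quotient.mk _) = q.asIdeal := by
        rw [Ideal.comap_map_of_surjective' _ Ideal.Quotient.mk_surjective, sup_eq_left.2 hker]
      haveI : (qb.comap β).IsPrime := Ideal.comap_isPrime _ _
      let w : Spec (CommRingCat.of A') := ⟨qb.comap β, inferInstance⟩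
      have hw : Spec.map (CommRingCat.ofHom φ) w = q := PrimeSpectrum.ext (by
        show (qb.comap β).comap φ = _
        rw [Ideal.comap_comap, hβ, hqb])
      refine ⟨x' w, ?_⟩
      rw [← Scheme.Hom.comp_apply, ← hξ', ← hσ', Spec.map_comp, Scheme.Hom.comp_apply, hw]
    · obtain ⟨w, hw⟩ : q ∈ Set.range (Spec.map (CommRingCat.ofHom (algebraMap A (Localization.Away t)))) := by
        show q ∈ Set.range (PrimeSpectrum.comap (algebraMap A (Localization.Away t)))
        rw [PrimeSpectrum.localization_away_comap_range _ t]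
        exact ht
      refine ⟨xt w, ?_⟩
      rw [← Scheme.Hom.comp_apply, ← hξt, ← hσt, Spec.map_comp, Scheme.Hom.comp_apply, hw]
  refine ⟨IsOpenImmersion.lift X.toSpecΓ (Spec.map σ) hrange, ?_, ?_, ?_⟩
  · rw [← hη, IsOpenImmersion.lift_fac_assoc, ← Spec.map_comp, hσid, Spec.map_id]
  · rw [← cancel_mono X.toSpecΓ, Category.assoc, IsOpenImmersion.lift_fac, ← hξ', ← Spec.map_comp, hσ']
  · rw [← cancel_mono X.toSpecΓ, Category.assoc, IsOpenImmersion.lift_fac, ← hξt, ← Spec.map_comp, hσt]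

end Groth.Agent.S15769
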