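import Groth.Statements.S15770
import Mathlib.RingTheory.Finiteness.Projective
import Mathlib.Topology.Instances.Matrix
import Mathlib.LinearAlgebra.Matrix.ToLin

set_option autoImplicit false
universe u
open CAlg

namespace Groth.Agent.S15770
open Matrix in
/-- An endomorphism of a retract extended by the complementary projection detects surjectivity. -/
theorem surjective_of_isUnit {B M : Type u} [CommRing B] [AddCommGroup M] [Module B M] {n : ℕ}
    (f : (Fin n → B) →ₗ[B] M) (g : M →ₗ[B] Fin n → B) (hfg : f ∘ₗ g = LinearMap.id) (h : M →ₗ[B] M)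
    (hu : IsUnit (LinearMap.toMatrix' (g ∘ₗ h ∘ₗ f) + (1 - LinearMap.toMatrix' (g ∘ₗ f))).det) :
    Function.Surjective h := by
  intro m
  have hu' := (Matrix.isUnit_iff_isUnit_det _).2 hu
  obtain ⟨U, hU⟩ := hu'
  let v : Fin n → B := (U⁻¹ : (Matrix (Fin n) (Fin n) B)ˣ).1 *ᵥ g m
  have hv : g (h (f v)) + (v - g (f v)) = g m := by
    have e : (LinearMap.toMatrix' (g ∘ₗ h ∘ₗ f) + (1 - LinearMap.toMatrix' (g ∘ₗ f))) *ᵥ v = g m := by
      rw [← hU, Matrix.mulVec_mulVec, Units.mul_inv, Matrix.one_mulVec]
    rw [Matrix.add_mulVec, Matrix.sub_mulVec, Matrix.one_mulVec, LinearMap.toMatrix'_mulVec,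
      LinearMap.toMatrix'_mulVec] at e
    exact e
  have hfg' : ∀ x, f (g x) = x := fun x => LinearMap.congr_fun hfg x
  refine ⟨f v, ?_⟩
  have := congrArg f hv
  rw [map_add, map_sub, hfg', hfg', hfg', sub_self, add_zero] at this
  exact this

/-- Let B be a topological ring with Bˣ ⊂ B open and M, M' finitely generated projective B-modules, and
endow Hom_B(M, M') with the module topology (the canonical topology of a finite module). Then the
set of surjective B-linear maps M → M' is open. -/
theorem result (B : Type u) [CommRing B] [TopologicalSpace B]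
    [IsTopologicalRing B] (hB : IsOpen {b : B | IsUnit b})
    (M M' : Type u) [AddCommGroup M] [Module B M] [Module.Finite B M] [Module.Projective B M]
    [AddCommGroup M'] [Module B M'] [Module.Finite B M'] [Module.Projective B M']
    [TopologicalSpace (M →ₗ[B] M')] [IsModuleTopology B (M →ₗ[B] M')] :
    IsOpen {f : M →ₗ[B] M' | Function.Surjective f} := by
  classical
  rw [isOpen_iff_forall_mem_open]
  intro f₀ hf₀
  obtain ⟨s, hs⟩ := Module.projective_lifting_property f₀ LinearMap.id hf₀
  obtain ⟨n, f, g, -, -, hfg⟩ := Module.Finite.exists_comp_eq_id_of_projective B M'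
  let L : (M →ₗ[B] M') →ₗ[B] Matrix (Fin n) (Fin n) B :=
    { toFun := fun φ => LinearMap.toMatrix' (g ∘ₗ (φ ∘ₗ s) ∘ₗ f)
      map_add' := fun a b => by simp [LinearMap.comp_add, LinearMap.add_comp, map_add]
      map_smul' := fun c a => by simp [LinearMap.comp_smul, LinearMap.smul_comp, map_smul] }
  haveI : ContinuousAdd (Matrix (Fin n) (Fin n) B) := inferInstanceAs (ContinuousAdd (Fin n → Fin n → B))
  haveI : ContinuousSMul B (Matrix (Fin n) (Fin n) B) :=
    inferInstanceAs (ContinuousSMul B (Fin n → Fin n → B))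
  have hL : Continuous L := IsModuleTopology.continuous_of_linearMap L
  have hc : Continuous fun φ : M →ₗ[B] M' => (L φ + (1 - LinearMap.toMatrix' (g ∘ₗ f))).det :=
    (hL.add continuous_const).matrix_det
  refine ⟨{φ | IsUnit (L φ + (1 - LinearMap.toMatrix' (g ∘ₗ f))).det}, fun φ hφ => ?_, hB.preimage hc, ?_⟩
  · exact Function.Surjective.of_comp (g := s) (surjective_of_isUnit f g hfg (φ ∘ₗ s) hφ)
  · show IsUnit _
    have e : L f₀ = LinearMap.toMatrix' (g ∘ₗ f) := by
      show LinearMap.toMatrix' (g ∘ₗ (f₀ ∘ₗ s) ∘ₗ f) = _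
      rw [hs, LinearMap.id_comp]
    rw [e, add_sub_cancel, Matrix.det_one]
    exact isUnit_one

end Groth.Agent.S15770
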