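import Groth.Statements.S15771
import Mathlib

set_option autoImplicit false
universe u
open TensorProduct
open CAlg

namespace Groth.Agent.S15771

/-- For a ring map B₀ → B with dense image into a topological ring B, a finitely generated B₀-module M₀
and any topological B-module structure on M = B ⊗_{B₀} M₀, the natural map M₀ → M has dense image. -/
theorem result (B₀ B : Type u) [CommRing B₀] [CommRing B] [Algebra B₀ B]
    [TopologicalSpace B] [IsTopologicalRing B] (hφ : DenseRange (algebraMap B₀ B))
    (M₀ : Type u) [AddCommGroup M₀] [Module B₀ M₀] [Module.Finite B₀ M₀]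
    [TopologicalSpace (B ⊗[B₀] M₀)] [IsTopologicalAddGroup (B ⊗[B₀] M₀)] [ContinuousSMul B (B ⊗[B₀] M₀)] :
    DenseRange (fun m : M₀ => (1 : B) ⊗ₜ[B₀] m) := by
  have hmem : ∀ t : B ⊗[B₀] M₀, t ∈ closure (Set.range fun m : M₀ => (1 : B) ⊗ₜ[B₀] m) := by
    let S : AddSubgroup (B ⊗[B₀] M₀) := ((TensorProduct.mk B₀ B M₀) 1).toAddMonoidHom.range.topologicalClosure
    have hS : (S : Set (B ⊗[B₀] M₀)) = closure (Set.range fun m : M₀ => (1 : B) ⊗ₜ[B₀] m) := by
      rw [AddSubgroup.topologicalClosure_coe]; rfl
    intro t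
    rw [← hS]
    induction t using TensorProduct.induction_on with
    | zero => exact zero_mem S
    | add a b ha hb => exact add_mem (s := S) ha hb
    | tmul b m =>
      rw [hS]
      have hc : Continuous fun c : B => c • ((1 : B) ⊗ₜ[B₀] m : B ⊗[B₀] M₀) :=
        ContinuousSMul.continuous_smul.comp (continuous_id.prodMk continuous_const)
      have h := hc.range_subset_closure_image_dense hφ ⟨b, rfl⟩
      simp only [TensorProduct.smul_tmul', smul_eq_mul, mul_one] at h
      refine closure_mono ?_ h
      rintro _ ⟨_, ⟨r, rfl⟩, rfl⟩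
      refine ⟨r • m, ?_⟩
      simp only [TensorProduct.smul_tmul, Algebra.algebraMap_eq_smul_one]
  exact hmem

end Groth.Agent.S15771
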