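import Groth.Statements.S15774
import Groth.Agent.IdemAway.Basic
import Mathlib.RingTheory.AdicCompletion.Completeness
import Mathlib.RingTheory.AdicCompletion.Algebra

set_option autoImplicit false
universe u
open CAlg

namespace Groth.Agent.S15774

/-- The instance A[1/t] → Â[1/t]: if (A, tA) is a Henselian pair and the t-power torsion of A is
bounded, then every idempotent of Â[1/t] (Â the t-adic completion) comes from a unique idempotent of
A[1/t]. -/
theorem result (A : Type u) [CommRing A] (t : A) [HenselianRing A (Ideal.span {t})]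
    (hbd : ∃ N : ℕ, ∀ a : A, (∃ m : ℕ, t ^ m * a = 0) → t ^ N * a = 0)
    (e : Localization.Away (algebraMap A (AdicCompletion (Ideal.span {t}) A) t)) (he : IsIdempotentElem e) :
    ∃! e₀ : Localization.Away t, IsIdempotentElem e₀ ∧ Localization.awayMap (algebraMap A (AdicCompletion (Ideal.span {t}) A)) t e₀ = e := by
  obtain ⟨φ, hφ⟩ : ∃ φ, φ = algebraMap A (AdicCompletion (Ideal.span {t}) A) := ⟨_, rfl⟩
  have hfg : (Ideal.span {t}).FG := ⟨{t}, by simp⟩
  have hjac : Ideal.span {φ t} ≤ Ideal.jacobson ⊥ := by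
    haveI : IsAdicComplete ((Ideal.span {t}).map (algebraMap A (AdicCompletion (Ideal.span {t}) A)))
        (AdicCompletion (Ideal.span {t}) A) :=
      (IsAdicComplete.map_algebraMap_iff _ _).mpr (AdicCompletion.isAdicComplete hfg)
    have := IsAdicComplete.le_jacobson_bot ((Ideal.span {t}).map (algebraMap A (AdicCompletion (Ideal.span {t}) A)))
    rwa [Ideal.map_span, Set.image_singleton, ← hφ] at this
  have hinj : ∀ (M : ℕ) x, φ x ∈ Ideal.span {φ t ^ M} → x ∈ Ideal.span {t ^ M} := by
    intro M x hx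
    obtain ⟨c, hc⟩ := Ideal.mem_span_singleton'.1 hx
    have h := congrArg (AdicCompletion.evalₐ (Ideal.span {t}) M) hc
    simp only [map_mul, map_pow, hφ, AlgHom.commutes] at h
    rw [Ideal.Quotient.algebraMap_eq] at h
    rw [← map_pow (Ideal.Quotient.mk _), show Ideal.Quotient.mk (Ideal.span {t} ^ M) (t ^ M) = 0 from
      Ideal.Quotient.eq_zero_iff_mem.2 (Ideal.pow_mem_pow (Ideal.mem_span_singleton_self t) M), mul_zero] at h
    rw [← Ideal.span_singleton_pow]
    exact Ideal.Quotient.eq_zero_iff_mem.1 h.symm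
  have hsurj : ∀ (M : ℕ) s, ∃ a, s - φ a ∈ Ideal.span {φ t ^ M} := by
    intro M s
    obtain ⟨f, rfl⟩ := AdicCompletion.mk_surjective (Ideal.span {t}) A s
    refine ⟨f M, ?_⟩
    have h : AdicCompletion.mk (Ideal.span {t}) A f - φ (f M) ∈
        (Ideal.span {t} ^ M • ⊤ : Submodule A (AdicCompletion (Ideal.span {t}) A)) := by
      rw [AdicCompletion.pow_smul_top_eq_ker_eval hfg, LinearMap.mem_ker, map_sub, sub_eq_zero, hφ,
        AdicCompletion.algebraMap_apply]
      rfl
    rw [Ideal.smul_top_eq_map, Submodule.restrictScalars_mem, Ideal.map_pow, Ideal.map_span, Set.image_singleton,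
      Ideal.span_singleton_pow, ← hφ] at h
    exact h
  subst hφ
  have hψ : ∀ a, Localization.awayMap (algebraMap A (AdicCompletion (Ideal.span {t}) A)) t (algebraMap A _ a) =
      algebraMap _ _ (algebraMap A (AdicCompletion (Ideal.span {t}) A) a) :=
    fun a => IsLocalization.map_eq _ a
  obtain ⟨e₀, he₀, h₀⟩ := Groth.Agent.IdemAway.exists_map_eq (A' := Localization.Away t) hψ hjac hinj hsurj he
  exact ⟨e₀, ⟨he₀, h₀⟩, fun e₁ h₁ =>
    Groth.Agent.IdemAway.eq_of_map_eq hψ (HenselianRing.jac (I := Ideal.span {t})) hinj h₁.1 he₀ (h₁.2.trans h₀.symm)⟩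

end Groth.Agent.S15774
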