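import Groth.Statements.S15775
import Groth.Agent.RigFEt7.Main
-- import your own Groth.Agent.* helpers here

set_option autoImplicit false
universe u
open CategoryTheory AlgebraicGeometry
open FEt

namespace Groth.Agent.S15775

/-- The instance A[1/t] → Â[1/t]: for (A, tA) a Henselian pair with bounded t-power torsion and Â the
t-adic completion, base change along Spec Â[1/t] → Spec A[1/t] is an equivalence of categories of
finite étale schemes. -/
theorem result (A : Type u) [CommRing A] (t : A) [HenselianRing A (Ideal.span {t})]
    (hbd : ∃ N : ℕ, ∀ a : A, (∃ m : ℕ, t ^ m * a = 0) → t ^ N * a = 0) :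
    (FEt.restrict (Spec.map (CommRingCat.ofHom (Localization.awayMap (algebraMap A (AdicCompletion (Ideal.span {t}) A)) t)))).IsEquivalence := by
  let Ah := AdicCompletion (Ideal.span {t}) A
  have hfg : (Ideal.span {t}).FG := Submodule.fg_span_singleton t
  have hpow : ∀ n : ℕ, (Ideal.span {t} ^ n).map (algebraMap A Ah) = Ideal.span {algebraMap A Ah t ^ n} := fun n => by
    rw [Ideal.span_singleton_pow, Ideal.map_span, Set.image_singleton, map_pow]
  haveI : IsAdicComplete (Ideal.span {algebraMap A Ah t}) Ah := by
    have h := AdicCompletion.isAdicComplete_self (Ideal.span {t}) hfg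
    rwa [Ideal.map_span, Set.image_singleton] at h
  have hR : RigFEt7.RigidPair A Ah t := by
    refine ⟨inferInstance, inferInstance, fun n a ha => ?_, fun n z => ?_⟩
    · obtain ⟨w, hw⟩ := Ideal.mem_span_singleton'.1 ha
      have h1 := congrArg (AdicCompletion.evalₐ (Ideal.span {t}) n) hw
      rw [map_mul, map_pow, Rig7.eval_algebraMap, Rig7.eval_algebraMap, ← map_pow,
        Ideal.Quotient.eq_zero_iff_mem.2 (Ideal.pow_mem_pow (Ideal.mem_span_singleton_self t) n), mul_zero] at h1
      have h2 := Ideal.Quotient.eq_zero_iff_mem.1 h1.symm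
      rwa [Ideal.span_singleton_pow] at h2
    · obtain ⟨a, ha⟩ := Ideal.Quotient.mk_surjective (AdicCompletion.evalₐ (Ideal.span {t}) n z)
      refine ⟨a, ?_⟩
      rw [← hpow]
      exact Rig7.mem_map_pow_of_eval_eq_zero _ hfg n (by rw [map_sub, Rig7.eval_algebraMap, ha, sub_self])
  let K := Localization.Away t
  let K' := Localization.Away (algebraMap A Ah t)
  letI : Algebra K K' := (Localization.awayMap (algebraMap A Ah) t).toAlgebra
  haveI : IsScalarTower A K K' := .of_algebraMap_eq fun a => by
    rw [RingHom.algebraMap_toAlgebra, Localization.awayMap, IsLocalization.Away.map, IsLocalization.map_eq,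
      ← IsScalarTower.algebraMap_apply]
  exact hR.restrict_isEquivalence (K' := K') K

end Groth.Agent.S15775
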