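import Groth.Statements.S15779
import Groth.Agent.S0503
import Mathlib.RingTheory.LocalRing.ResidueField.Polynomial
import Mathlib.RingTheory.QuasiFinite.Basic
import Mathlib.RingTheory.Localization.FractionRing
import Mathlib.Algebra.Polynomial.Reverse
import Mathlib.RingTheory.Finiteness.Nakayama
import Mathlib.RingTheory.AdjoinRoot

set_option autoImplicit false
universe u
open Polynomial
open CAlg

namespace Groth.Agent.S15779

open Polynomial

section inverse

variable {R L : Type u} [CommRing R] [CommRing L] [Algebra R[X] L] [Algebra R L]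
  [IsScalarTower R R[X] L] (ψ : R[X] →ₐ[R] L) (hψ : ψ X * algebraMap R[X] L X = 1)

include hψ in
/-- `f(t) uᴺ` is the value at `u` of the reflected polynomial. -/
theorem algebraMap_mul_pow (p : R[X]) {N : ℕ} (hN : p.natDegree ≤ N) :
    algebraMap R[X] L p * ψ X ^ N = ψ (reflect N p) := by
  letI : Invertible (ψ X) :=
    ⟨algebraMap R[X] L X, by rw [mul_comm]; exact hψ, hψ⟩
  have h := eval₂_reflect_mul_pow (algebraMap R L) (ψ X) N (reflect N p)
    (natDegree_reflect_le.trans (max_le le_rfl hN))
  rw [reflect_reflect] at h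
  have h1 : eval₂ (algebraMap R L) (⅟(ψ X)) p = algebraMap R[X] L p := by
    rw [← aeval_def, show (⅟(ψ X) : L) = algebraMap R[X] L X from rfl, aeval_algebraMap_apply,
      aeval_X_left_apply]
  have h2 : eval₂ (algebraMap R L) (ψ X) (reflect N p) = ψ (reflect N p) := by
    rw [← aeval_def, aeval_algHom_apply, aeval_X_left_apply]
  rw [h1, h2] at h
  exact h

variable [IsLocalization (Submonoid.closure ({f : R[X] | f.coeff 0 = 1} ∪ {X})) L]

include hψ in
theorem denominator {s : R[X]}
    (hs : s ∈ Submonoid.closure ({f : R[X] | f.coeff 0 = 1} ∪ {X})) :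
    ∃ (g : R[X]) (N : ℕ), g.Monic ∧ algebraMap R[X] L s * ψ X ^ N = ψ g := by
  induction hs using Submonoid.closure_induction with
  | mem s hs =>
    rcases hs with hs | hs
    · refine ⟨reflect s.natDegree s, s.natDegree, ?_, algebraMap_mul_pow ψ hψ s le_rfl⟩
      refine monic_of_natDegree_le_of_coeff_eq_one s.natDegree
        (natDegree_reflect_le.trans (max_le le_rfl le_rfl)) ?_
      rw [coeff_reflect, revAt_le le_rfl, Nat.sub_self]
      exact hs
    · rw [Set.mem_singleton_iff] at hs
      exact ⟨1, 1, monic_one, by rw [hs, pow_one, mul_comm, hψ, map_one]⟩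
  | one => exact ⟨1, 0, monic_one, by simp⟩
  | mul s t _ _ hs ht =>
    obtain ⟨g, N, hg, hsg⟩ := hs
    obtain ⟨g', N', hg', htg⟩ := ht
    exact ⟨g * g', N + N', hg.mul hg', by rw [map_mul, map_mul, ← hsg, ← htg, pow_add]; ring⟩

include hψ in
theorem isUnit_monic {g : R[X]} (hg : g.Monic) : IsUnit (ψ g) := by
  have h := algebraMap_mul_pow ψ hψ g.reverse (N := g.natDegree) g.reverse_natDegree_le
  rw [reverse, reflect_reflect] at h
  rw [← h]
  refine IsUnit.mul (IsLocalization.map_units L (M := Submonoid.closure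
    ({f : R[X] | f.coeff 0 = 1} ∪ {X})) ⟨_, Submonoid.subset_closure (Or.inl ?_)⟩)
    ((IsUnit.of_mul_eq_one _ hψ).pow _)
  change (reflect g.natDegree g).coeff 0 = 1
  rw [coeff_reflect, revAt_le (Nat.zero_le _), Nat.sub_zero]
  exact hg

include hψ in
theorem exists_eq_fraction (x : L) : ∃ (f g : R[X]), g.Monic ∧ x * ψ g = ψ f := by
  obtain ⟨⟨p, s, hs⟩, hx⟩ := IsLocalization.surj
    (Submonoid.closure ({f : R[X] | f.coeff 0 = 1} ∪ {X})) x
  obtain ⟨g, N, hg, hsg⟩ := denominator ψ hψ hs
  refine ⟨reflect p.natDegree p * X ^ N, g * X ^ p.natDegree, hg.mul (monic_X_pow _), ?_⟩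
  simp only at hx
  rw [map_mul, map_mul, ← hsg, map_pow, map_pow, ← algebraMap_mul_pow ψ hψ p le_rfl, ← hx]
  ring

include hψ in
/-- A map out of `R[s]` making the monic polynomials invertible extends to `L`. -/
theorem exists_lift {T : Type u} [CommRing T] (θ : R[X] →+* T)
    (hθ : ∀ g : R[X], g.Monic → IsUnit (θ g)) : ∃ φ : L →+* T, φ.comp ψ.toRingHom = θ := by
  obtain ⟨v, hv⟩ := isUnit_iff_exists_inv.1 (hθ X monic_X)
  let θ' : R[X] →+* T := eval₂RingHom (θ.comp C) v
  have hθ' : ∀ p : R[X], θ' p * θ X ^ p.natDegree = θ (reflect p.natDegree p) := by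
    intro p
    letI : Invertible (θ X) := ⟨v, by rw [mul_comm]; exact hv, hv⟩
    have h := eval₂_reflect_mul_pow (θ.comp C) (θ X) p.natDegree (reflect p.natDegree p)
      (natDegree_reflect_le.trans (max_le le_rfl le_rfl))
    rw [reflect_reflect] at h
    refine h.trans ?_
    rw [← hom_eval₂, eval₂_C_X]
  have hM : ∀ y : (Submonoid.closure ({f : R[X] | f.coeff 0 = 1} ∪ {X})), IsUnit (θ' y) := by
    rintro ⟨s, hs⟩
    induction hs using Submonoid.closure_induction with
    | mem s hs =>
      rcases hs with hs | hs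
      · have h := hθ (reflect s.natDegree s) (monic_of_natDegree_le_of_coeff_eq_one s.natDegree
          (natDegree_reflect_le.trans (max_le le_rfl le_rfl)) (by
            rw [coeff_reflect, revAt_le le_rfl, Nat.sub_self]
            exact hs))
        rw [← hθ' s] at h
        exact isUnit_of_mul_isUnit_left h
      · rw [Set.mem_singleton_iff] at hs
        simp only [hs, θ', coe_eval₂RingHom, eval₂_X]
        exact IsUnit.of_mul_eq_one _ (by rw [mul_comm]; exact hv)
    | one => simp
    | mul s t _ _ hs ht => simpa using hs.mul ht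
  refine ⟨IsLocalization.lift hM, ?_⟩
  have hφ : ∀ p : R[X], IsLocalization.lift hM (algebraMap R[X] L p) = θ' p :=
    fun p => IsLocalization.lift_eq hM p
  refine Polynomial.ringHom_ext (fun r => ?_) ?_
  · have : ψ (C r) = algebraMap R[X] L (C r) := by
      rw [← Polynomial.algebraMap_eq, ψ.commutes, ← IsScalarTower.algebraMap_apply]
    simp [this, hφ, θ']
  · have h1 : IsLocalization.lift hM (ψ X) * v = (1 : T) := by
      have := congrArg (IsLocalization.lift hM) hψ
      rw [map_mul, map_one, hφ] at this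
      simpa [θ'] using this
    calc IsLocalization.lift hM (ψ X) = IsLocalization.lift hM (ψ X) * (θ X * v) := by
          rw [hv, mul_one]
      _ = θ X := by rw [mul_left_comm, h1, mul_one]

end inverse

theorem isUnit_mk_monic {R : Type u} [CommRing R] [IsLocalRing R] (I : Ideal R[X])
    (hI : I ⊔ (IsLocalRing.maximalIdeal R).map (algebraMap R R[X]) = ⊤) {g : R[X]} (hg : g.Monic) :
    IsUnit (Ideal.Quotient.mk I g) := by
  let K : Ideal R[X] := I ⊔ Ideal.span {g}
  haveI : Module.Finite R (R[X] ⧸ Ideal.span {g}) := hg.finite_quotient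
  haveI : Module.Finite R (R[X] ⧸ K) :=
    Module.Finite.of_surjective (Ideal.Quotient.factorₐ R (le_sup_right : Ideal.span {g} ≤ K)).toLinearMap
      (Ideal.Quotient.factor_surjective (le_sup_right : Ideal.span {g} ≤ K))
  have htop : (⊤ : Submodule R (R[X] ⧸ K)) = ⊥ := by
    refine Submodule.eq_bot_of_le_smul_of_le_jacobson_bot (IsLocalRing.maximalIdeal R) ⊤
      Module.Finite.fg_top ?_ (IsLocalRing.maximalIdeal_le_jacobson _)
    have h1 : (⊤ : Ideal (R[X] ⧸ K)) ≤
        (IsLocalRing.maximalIdeal R).map (algebraMap R (R[X] ⧸ K)) := by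
      have := congrArg (Ideal.map (Ideal.Quotient.mk K)) hI
      rw [Ideal.map_sup, Ideal.map_top, Ideal.map_map, (Ideal.map_eq_bot_iff_le_ker _).2 (by
        rw [Ideal.mk_ker]; exact le_sup_left), bot_sup_eq] at this
      rw [← this]
      exact le_rfl
    rw [Ideal.smul_top_eq_map]
    intro x _
    exact h1 Submodule.mem_top
  have h1 : (1 : R[X] ⧸ K) = 0 := (Submodule.mem_bot R).1 (htop ▸ Submodule.mem_top)
  rw [← map_one (Ideal.Quotient.mk K), Ideal.Quotient.eq_zero_iff_mem] at h1
  obtain ⟨a, ha, b, hb, hab⟩ := Submodule.mem_sup.1 h1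
  obtain ⟨c, rfl⟩ := Ideal.mem_span_singleton'.1 hb
  refine IsUnit.of_mul_eq_one (Ideal.Quotient.mk I c) ?_
  rw [← map_mul, ← map_one (Ideal.Quotient.mk I), Ideal.Quotient.eq, mul_comm,
    show c * g - 1 = -a by rw [← hab]; ring]
  exact neg_mem ha

theorem quasiFinite_quotient {R : Type u} [CommRing R] (J : Ideal R[X]) {F : R[X]} (hF : F ∈ J)
    {i : ℕ} (hi : IsUnit (F.coeff i)) : Algebra.QuasiFinite R (R[X] ⧸ J) := by
  refine ⟨fun P _ => ?_⟩
  let e := Polynomial.fiberEquivQuotient (Ideal.Quotient.mkₐ R J) Ideal.Quotient.mk_surjective P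
  suffices Module.Finite P.ResidueField (P.ResidueField[X] ⧸
      ((RingHom.ker ((Ideal.Quotient.mkₐ R J : R[X] →ₐ[R] R[X] ⧸ J) : R[X] →+* R[X] ⧸ J)).map
        (mapRingHom (algebraMap R P.ResidueField)))) from Module.Finite.equiv e.symm.toLinearEquiv
  set F' := F.map (algebraMap R P.ResidueField)
  have hF' : F' ≠ 0 := fun h => by
    have := congrArg (coeff · i) h
    simp only [F', coeff_map, coeff_zero] at this
    exact (hi.map (algebraMap R P.ResidueField)).ne_zero this
  haveI := (monic_mul_leadingCoeff_inv hF').finite_quotient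
  have hle : Ideal.span {F' * C F'.leadingCoeff⁻¹} ≤
      (RingHom.ker ((Ideal.Quotient.mkₐ R J : R[X] →ₐ[R] R[X] ⧸ J) : R[X] →+* R[X] ⧸ J)).map
        (mapRingHom (algebraMap R P.ResidueField)) := by
    rw [Ideal.span_singleton_le_iff_mem]
    refine Ideal.mul_mem_right _ _ (Ideal.mem_map_of_mem _ ?_)
    simpa [RingHom.mem_ker, Ideal.Quotient.eq_zero_iff_mem] using hF
  exact Module.Finite.of_surjective (Ideal.Quotient.factorₐ P.ResidueField hle).toLinearMap
    (Ideal.Quotient.factor_surjective hle)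


/-- For a Henselian local ring (R, m), L the localisation of R[t] at the monoid generated by t and the
polynomials with constant term 1, and ψ : R[s] → L the R-algebra map with s ↦ t⁻¹, extension and
contraction along ψ are mutually inverse bijections between the ideals of R[s] comaximal with mR[s]
and the ideals of L comaximal with mL, and R[s]/I → L/IL is bijective for every such I. -/
theorem result (R : Type u) [CommRing R]
    [HenselianLocalRing R] (L : Type u) [CommRing L] [Algebra R[X] L]
    [IsLocalization (Submonoid.closure ({f : R[X] | f.coeff 0 = 1} ∪ {X})) L]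
    [Algebra R L] [IsScalarTower R R[X] L]
    (ψ : R[X] →ₐ[R] L) (hψ : ψ X * algebraMap R[X] L X = 1) :
    (∀ I : Ideal R[X], I ⊔ (IsLocalRing.maximalIdeal R).map (algebraMap R R[X]) = ⊤ →
        (I.map ψ.toRingHom).comap ψ.toRingHom = I ∧
        I.map ψ.toRingHom ⊔ (IsLocalRing.maximalIdeal R).map (algebraMap R L) = ⊤ ∧
        Function.Bijective (Ideal.quotientMap (I.map ψ.toRingHom) ψ.toRingHom Ideal.le_comap_map)) ∧
    (∀ J : Ideal L, J ⊔ (IsLocalRing.maximalIdeal R).map (algebraMap R L) = ⊤ →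
        (J.comap ψ.toRingHom).map ψ.toRingHom = J ∧
        J.comap ψ.toRingHom ⊔ (IsLocalRing.maximalIdeal R).map (algebraMap R R[X]) = ⊤) := by
  refine ⟨fun I hI => ?_, fun J hJ => ?_⟩
  · obtain ⟨φ, hφ⟩ := exists_lift ψ hψ (Ideal.Quotient.mk I) fun g hg => isUnit_mk_monic I hI hg
    have hle : I.map ψ.toRingHom ≤ RingHom.ker φ := by
      rw [Ideal.map_le_iff_le_comap]
      intro a ha
      rw [Ideal.mem_comap, RingHom.mem_ker, ← RingHom.comp_apply, hφ,
        Ideal.Quotient.eq_zero_iff_mem]
      exact ha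
    have hcomap : (I.map ψ.toRingHom).comap ψ.toRingHom = I := by
      refine le_antisymm (fun a ha => ?_) Ideal.le_comap_map
      have := hle ha
      rw [RingHom.mem_ker, ← RingHom.comp_apply, hφ, Ideal.Quotient.eq_zero_iff_mem] at this
      exact this
    refine ⟨hcomap, ?_, ⟨?_, ?_⟩⟩
    · have := congrArg (Ideal.map ψ.toRingHom) hI
      rw [Ideal.map_sup, Ideal.map_top, Ideal.map_map] at this
      have hc : ψ.toRingHom.comp (algebraMap R R[X]) = algebraMap R L := ψ.comp_algebraMap
      rwa [hc] at this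
    · exact Ideal.quotientMap_injective' hcomap.le
    · intro z
      obtain ⟨x, rfl⟩ := Ideal.Quotient.mk_surjective z
      obtain ⟨f, g, hg, hx⟩ := exists_eq_fraction ψ hψ x
      obtain ⟨c, hc⟩ := isUnit_iff_exists_inv.1 (isUnit_mk_monic I hI hg)
      obtain ⟨h, rfl⟩ := Ideal.Quotient.mk_surjective c
      rw [← map_mul, ← map_one (Ideal.Quotient.mk I), Ideal.Quotient.eq] at hc
      refine ⟨Ideal.Quotient.mk I (f * h), ?_⟩
      rw [Ideal.quotientMap_mk, Ideal.Quotient.eq]
      have : ψ.toRingHom (f * h) - x = x * ψ.toRingHom (g * h - 1) := by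
        change ψ (f * h) - x = x * ψ (g * h - 1)
        rw [map_sub, map_mul, map_mul, map_one, ← hx]
        ring
      rw [this]
      exact Ideal.mul_mem_left _ _ (Ideal.mem_map_of_mem _ hc)
  · set J0 := J.comap ψ.toRingHom with hJ0
    have hmap : J0.map ψ.toRingHom = J := by
      refine le_antisymm Ideal.map_comap_le fun x hx => ?_
      obtain ⟨f, g, hg, hxg⟩ := exists_eq_fraction ψ hψ x
      obtain ⟨c, hc⟩ := isUnit_iff_exists_inv.1 (isUnit_monic ψ hψ hg)
      have hf : f ∈ J0 := by
        rw [hJ0, Ideal.mem_comap]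
        change ψ f ∈ J
        rw [← hxg]
        exact J.mul_mem_right _ hx
      rw [show x = ψ.toRingHom f * c by
        change x = ψ f * c
        rw [← hxg, mul_assoc, hc, mul_one]]
      exact Ideal.mul_mem_right _ _ (Ideal.mem_map_of_mem _ hf)
    refine ⟨hmap, ?_⟩
    have hne : ¬ J0 ≤ (IsLocalRing.maximalIdeal R).map (algebraMap R R[X]) := by
      intro hle
      let θ : R[X] →+* FractionRing (IsLocalRing.ResidueField R)[X] :=
        (algebraMap _ _).comp (mapRingHom (IsLocalRing.residue R))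
      obtain ⟨φ, hφ⟩ := exists_lift ψ hψ θ fun g hg => by
        refine isUnit_iff_ne_zero.2 ?_
        simpa [θ] using (hg.map (IsLocalRing.residue R)).ne_zero
      have hm : (IsLocalRing.maximalIdeal R).map (algebraMap R L) ≤ RingHom.ker φ := by
        rw [Ideal.map_le_iff_le_comap]
        intro r hr
        rw [Ideal.mem_comap, RingHom.mem_ker, ← ψ.commutes,
          show φ (ψ (algebraMap R R[X] r)) = θ (algebraMap R R[X] r) from RingHom.congr_fun hφ _]
        simp [θ, IsLocalRing.residue_eq_zero_iff _ |>.2 hr]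
      have hJle : J ≤ (IsLocalRing.maximalIdeal R).map (algebraMap R L) := by
        rw [← hmap, ← ψ.comp_algebraMap]
        exact (Ideal.map_mono hle).trans (Ideal.map_map _ _).le
      have := hm ((sup_le hJle le_rfl) (hJ.symm ▸ Submodule.mem_top (x := (1 : L))))
      rw [RingHom.mem_ker, map_one] at this
      exact one_ne_zero this
    obtain ⟨F, hF, hFm⟩ := SetLike.not_le_iff_exists.1 hne
    rw [Polynomial.algebraMap_eq, Ideal.mem_map_C_iff, not_forall] at hFm
    obtain ⟨i, hi⟩ := hFm
    haveI := quasiFinite_quotient J0 hF (IsLocalRing.notMem_maximalIdeal.1 hi)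
    obtain ⟨e, hidem, hfin, htop⟩ := Groth.Agent.S0503.result R (R[X] ⧸ J0)
    obtain ⟨h, hh, hh0⟩ := IsIntegral.of_finite R
      (Ideal.Quotient.mk (Ideal.span {1 - e}) (Ideal.Quotient.mk J0 X))
    have he : e = 0 := by
      obtain ⟨e', rfl⟩ := Ideal.Quotient.mk_surjective e
      have h1 : aeval (Ideal.Quotient.mk (Ideal.span {1 - Ideal.Quotient.mk J0 e'})
          (Ideal.Quotient.mk J0 X)) h = 0 := by rw [aeval_def]; exact hh0
      have hc : aeval (Ideal.Quotient.mk (Ideal.span {1 - Ideal.Quotient.mk J0 e'})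
          (Ideal.Quotient.mk J0 X)) h =
          Ideal.Quotient.mk (Ideal.span {1 - Ideal.Quotient.mk J0 e'}) (Ideal.Quotient.mk J0 h) := by
        have := aeval_algHom_apply ((Ideal.Quotient.mkₐ R
          (Ideal.span {1 - Ideal.Quotient.mk J0 e'})).comp (Ideal.Quotient.mkₐ R J0)) X h
        rw [aeval_X_left_apply] at this
        exact this
      rw [hc, Ideal.Quotient.eq_zero_iff_mem, Ideal.mem_span_singleton'] at h1
      obtain ⟨c, hcc⟩ := h1
      rw [Ideal.Quotient.eq_zero_iff_mem]
      have hmem : h * e' ∈ J0 := by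
        rw [← Ideal.Quotient.eq_zero_iff_mem, map_mul, ← hcc, mul_assoc]
        rw [sub_mul, one_mul, hidem.eq, sub_self, mul_zero]
      obtain ⟨d, hd⟩ := isUnit_iff_exists_inv.1 (isUnit_monic ψ hψ hh)
      rw [hJ0, Ideal.mem_comap] at hmem ⊢
      change ψ (h * e') ∈ J at hmem
      change ψ e' ∈ J
      have := J.mul_mem_left d hmem
      rwa [map_mul, ← mul_assoc, mul_comm d, hd, one_mul] at this
    subst he
    rw [Ideal.span_singleton_zero] at htop
    have h2 := congrArg (Ideal.comap (Ideal.Quotient.mk (⊥ : Ideal (R[X] ⧸ J0)))) htop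
    rw [Ideal.comap_top, IsScalarTower.algebraMap_eq R (R[X] ⧸ J0), ← Ideal.map_map,
      Ideal.Quotient.algebraMap_eq, Ideal.comap_map_of_surjective _ Ideal.Quotient.mk_surjective,
      ← RingHom.ker_eq_comap_bot, Ideal.mk_ker, sup_bot_eq] at h2
    have h3 := congrArg (Ideal.comap (Ideal.Quotient.mk J0)) h2
    rw [Ideal.comap_top, IsScalarTower.algebraMap_eq R R[X], ← Ideal.map_map,
      Ideal.Quotient.algebraMap_eq, Ideal.comap_map_of_surjective _ Ideal.Quotient.mk_surjective,
      ← RingHom.ker_eq_comap_bot, Ideal.mk_ker] at h3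
    rw [sup_comm]
    exact h3

end Groth.Agent.S15779
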