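import Groth.Statements.S1578
import Groth.Agent.AssPtX.Noeth

set_option autoImplicit false
universe u
open CategoryTheory CategoryTheory.Limits AlgebraicGeometry
open Divisors

namespace Groth.Agent.S1578

/-- Let M be a module over a ring A, F the associated quasi-coherent module on Spec A, and p a prime of
A. If p is an associated prime of M then p is an associated point of F; the converse holds when p is
finitely generated. -/
theorem result (A : CommRingCat.{u}) (M : ModuleCat.{u} A)
    (p : Spec A) :
    (p.asIdeal ∈ associatedPrimes A M → Curv2.IsAssPoint (tilde M) p) ∧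
    (p.asIdeal.FG → Curv2.IsAssPoint (tilde M) p → p.asIdeal ∈ associatedPrimes A M) := by
  rw [AssPtX.isAssPoint_iff, AssPtX.isWeakAssPoint_tilde_iff]
  constructor
  · rintro ⟨hpr, m, hm⟩
    rw [AssPtX.colon_bot_singleton] at hm
    refine WeakAss.mem_weakAss_iff.2 ⟨m, ⟨hpr, hm.symm ▸ Ideal.le_radical⟩, fun q hq hqp => ?_⟩
    rw [hm]
    exact hq.1.radical_le_iff.2 hq.2
  · intro hfg h
    obtain ⟨hpr, m, hm⟩ := WeakAss.mem_ass_of_mem_weakAss_of_fg hfg h
    refine ⟨hpr, m, ?_⟩
    rw [AssPtX.colon_bot_singleton]
    rw [show WeakAss.annEl A m = p.asIdeal from hm.symm]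
    exact hpr.radical.symm

end Groth.Agent.S1578
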