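import Groth.Statements.S15784
-- import your own Groth.Agent.* helpers here

set_option autoImplicit false
universe u
open Neron

namespace Groth.Agent.S15784

/-- Let O be a discrete valuation ring with fraction field L and uniformizer ϖ', let ϖ be an element of
the maximal ideal of O, let q = u·ϖ'^n with u a unit of O and n ≥ 1, and let m ≥ 1 be a divisor of
n. Then the following are equivalent: (i) there is a nonzero element z = w·ϖ'^a of L, with w a unit
of O and a an integer congruent to n/m modulo n, and an integer j such that z^m·q^j lies in 1 + ϖO;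
(ii) ϖ'^n/q is an m-th power in the group of units of O/ϖO, that is, u·(y^m + ϖ·r) = 1 for some y, r
∈ O. (The published statement phrases (i) geometrically, as the existence of a point of order m in
the special fibre of the Néron model of the Weil restriction of the Tate curve with parameter q from
L down to a subfield over which L is totally ramified with ϖ a uniformizer of the subfield, whose
image in the component group also has order m; this row states the equivalence between (i) and (ii)
that the printed argument establishes.) -/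
theorem result
    (O : Type u) [CommRing O] [IsDomain O] [IsDiscreteValuationRing O]
    (L : Type u) [Field L] [Algebra O L] [IsFractionRing O L]
    (ϖ' : O) (hϖ' : Irreducible ϖ') (ϖ : O) (hϖ : ϖ ∈ IsLocalRing.maximalIdeal O)
    (n : ℕ) (hn : 1 ≤ n) (u : Oˣ) (q : O) (hq : q = u * ϖ' ^ n)
    (m : ℕ) (hm : 1 ≤ m) (hmn : m ∣ n) :
    (∃ (w : Oˣ) (a j t : ℤ) (r : O), a = (n / m : ℕ) + t * n ∧
        (algebraMap O L w * algebraMap O L ϖ' ^ a) ^ m * algebraMap O L q ^ j = algebraMap O L (1 + ϖ * r)) ↔
      ∃ y r : O, (u : O) * (y ^ m + ϖ * r) = 1 := by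
    classical
    obtain ⟨d, rfl⟩ := hmn
    have hd : (m * d / m : ℕ) = d := Nat.mul_div_cancel_left d (by omega)
    rw [hd]
    let φ : Oˣ →* Lˣ := Units.map (algebraMap O L : O →* L)
    have hinj : Function.Injective (algebraMap O L) := IsFractionRing.injective O L
    have hP0 : algebraMap O L ϖ' ≠ 0 := (map_ne_zero_iff _ hinj).2 hϖ'.ne_zero
    have hU : ∀ (x : Oˣ) (e : ℤ), algebraMap O L ((x ^ e : Oˣ) : O) = algebraMap O L (x : O) ^ e := by
      intro x e
      have := congrArg Units.val (map_zpow φ x e)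
      rwa [Units.val_zpow_eq_zpow_val] at this
    have hnu : ∀ r : O, IsUnit (1 + ϖ * r) := fun r => by
      have h1 : -(ϖ * r) ∈ nonunits O := neg_mem (Ideal.mul_mem_right r _ hϖ)
      simpa using IsLocalRing.isUnit_one_sub_self_of_mem_nonunits _ h1
    have hexp : ∀ (e : ℤ) (x : Oˣ), algebraMap O L ϖ' ^ e = algebraMap O L (x : O) → e = 0 := by
      intro e x hx
      obtain ⟨k, rfl | rfl⟩ := e.eq_nat_or_neg
      · rw [zpow_natCast, ← map_pow] at hx
        by_contra hk
        exact hϖ'.not_isUnit ((isUnit_pow_iff (by omega : k ≠ 0)).mp (hinj hx ▸ x.isUnit))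
      · rw [zpow_neg, zpow_natCast, inv_eq_iff_eq_inv, ← map_pow] at hx
        have hx' : algebraMap O L (ϖ' ^ k) = algebraMap O L ((x⁻¹ : Oˣ) : O) := by
          rw [hx, ← zpow_neg_one (algebraMap O L (x : O)), ← hU, zpow_neg_one]
        by_contra hk
        exact hϖ'.not_isUnit ((isUnit_pow_iff (by omega : k ≠ 0)).mp (hinj hx' ▸ (x⁻¹).isUnit))
    have key : ∀ (w : Oˣ) (a j : ℤ),
        (algebraMap O L w * algebraMap O L ϖ' ^ a) ^ m * algebraMap O L q ^ j =
          algebraMap O L ((w ^ (m : ℤ) * u ^ j : Oˣ) : O) * algebraMap O L ϖ' ^ (a * m + ((m * d : ℕ) : ℤ) * j) := by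
      intro w a j
      rw [Units.val_mul, map_mul, hU, hU, hq, map_mul, map_pow, ← zpow_natCast, mul_zpow, mul_zpow,
        ← zpow_natCast (algebraMap O L ϖ'), ← zpow_mul, ← zpow_mul, zpow_add₀ hP0]
      ring
    constructor
    · rintro ⟨w, a, j, t, r, rfl, h⟩
      rw [key] at h
      obtain ⟨s, hs⟩ := hnu r
      rw [← hs] at h
      have he := hexp ((↑d + t * ↑(m * d)) * ↑m + ↑(m * d) * j) ((w ^ (m : ℤ) * u ^ j)⁻¹ * s) (by
        rw [Units.val_mul, map_mul, ← h, ← mul_assoc, ← map_mul, ← Units.val_mul, inv_mul_cancel, Units.val_one, map_one, one_mul])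
      rw [he, zpow_zero, mul_one] at h
      have hnd : ((m * d : ℕ) : ℤ) ≠ 0 := by exact_mod_cast (by omega : m * d ≠ 0)
      have hj : j = -(1 + t * m) := by
        apply mul_left_cancel₀ hnd
        push_cast at he ⊢
        linear_combination he
      have h2 : w ^ (m : ℤ) * u ^ j = s := Units.ext (hinj h)
      let y : Oˣ := w⁻¹ * u ^ t
      refine ⟨y, (y : O) ^ m * r, ?_⟩
      have h3 : u * y ^ m * s = 1 := by
        have e1 : y ^ m = w ^ (-(m : ℤ)) * u ^ (t * m) := by
          rw [← zpow_natCast y, mul_zpow, inv_zpow', ← zpow_mul]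
        have e2 : ∀ A B C D : Oˣ, u * (A * B) * (C * D) = (A * C) * (u * B * D) := fun A B C D => by ac_rfl
        rw [← h2, hj, e1, e2, ← zpow_add, neg_add_cancel, zpow_zero, one_mul, ← zpow_one_add, ← zpow_add,
          add_neg_cancel, zpow_zero]
      have h4 := congrArg Units.val h3
      rw [Units.val_mul, Units.val_mul, Units.val_pow_eq_pow_val, Units.val_one, hs] at h4
      linear_combination h4
    · rintro ⟨y, r, h⟩
      have hy : IsUnit y := by
        by_contra hn
        have hmem : y ^ m + ϖ * r ∈ IsLocalRing.maximalIdeal O :=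
          add_mem (Ideal.pow_mem_of_mem _ hn m hm) (Ideal.mul_mem_right _ _ hϖ)
        exact (IsLocalRing.maximalIdeal.isMaximal O).ne_top (Ideal.eq_top_of_isUnit_mem _ hmem
          (isUnit_of_dvd_one ⟨(u : O), by rw [mul_comm]; exact h.symm⟩))
      obtain ⟨y, rfl⟩ := hy
      refine ⟨y⁻¹, d, -1, 0, r * ((y⁻¹ : Oˣ) : O) ^ m, by simp, ?_⟩
      rw [key]
      have he : (d : ℤ) * m + ((m * d : ℕ) : ℤ) * (-1) = 0 := by push_cast; ring
      rw [he, zpow_zero, mul_one, Units.val_mul, zpow_natCast, Units.val_pow_eq_pow_val, zpow_neg_one]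
      congr 1
      have h5 : ((u⁻¹ : Oˣ) : O) = (y : O) ^ m + ϖ * r := by
        rw [Units.inv_eq_of_mul_eq_one_right h]
      have h6 : (((y⁻¹ : Oˣ) : O)) ^ m * (y : O) ^ m = 1 := by rw [← mul_pow, Units.inv_mul, one_pow]
      rw [h5]
      linear_combination h6

end Groth.Agent.S15784
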