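import Groth.Statements.S15789
import Groth.Agent.AS7.Galois

set_option autoImplicit false
universe u
open WildQuot

namespace Groth.Agent.S15789

open MvPolynomial in
/-- Let `k` be a field of characteristic `p > 0`, `n ≥ 2`, `R = k[[x_1, …, x_n]]`, `a_1, …, a_n ∈ R`
nonzero with zero constant term, and `A = R[u_1, …, u_n] / (u_i ^ p - a_i ^ (p-1) u_i - x_i : i =
1..n)`. Then the group of `R`-algebra automorphisms of `A` has exactly `p ^ n` elements, is
commutative and every element has `p`-th power the identity (it is the elementary abelian group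
generated by the substitutions `u_i ↦ u_i + a_i`), and an element of `A` is fixed by every
`R`-algebra automorphism if and only if it comes from `R`. (The published statement says that
`Frac(A)/Frac(R)` is Galois with group `(ℤ/pℤ)^n` and `R = A^H`; this row states it through the
`R`-algebra automorphisms of `A`.) -/
theorem result
    (p : ℕ) [Fact p.Prime] (k : Type u) [Field k] [CharP k p] (n : ℕ) (hn : 2 ≤ n)
    (a : Fin n → MvPowerSeries (Fin n) k)
    (ha0 : ∀ i, a i ≠ 0) (ham : ∀ i, MvPowerSeries.constantCoeff (a i) = 0) :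
    let R := MvPowerSeries (Fin n) k
    let I : Ideal (MvPolynomial (Fin n) R) :=
      Ideal.span (Set.range fun i : Fin n =>
        X i ^ p - C (a i ^ (p - 1)) * X i - C (MvPowerSeries.X i))
    Nat.card ((MvPolynomial (Fin n) R ⧸ I) ≃ₐ[R] (MvPolynomial (Fin n) R ⧸ I)) = p ^ n ∧
      (∀ σ τ : (MvPolynomial (Fin n) R ⧸ I) ≃ₐ[R] (MvPolynomial (Fin n) R ⧸ I), σ * τ = τ * σ) ∧
      (∀ σ : (MvPolynomial (Fin n) R ⧸ I) ≃ₐ[R] (MvPolynomial (Fin n) R ⧸ I), σ ^ p = 1) ∧
      (∀ b : MvPolynomial (Fin n) R ⧸ I,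
        (∀ σ : (MvPolynomial (Fin n) R ⧸ I) ≃ₐ[R] (MvPolynomial (Fin n) R ⧸ I), σ b = b) ↔
          b ∈ Set.range (algebraMap R (MvPolynomial (Fin n) R ⧸ I))) := by
  intro R I
  refine ⟨AS7.card_aut (p := p) ha0 ham, fun σ τ => ?_, fun σ => ?_, fun b => ⟨fun hb => ?_, ?_⟩⟩
  · obtain ⟨s, rfl⟩ := AS7.exists_eq_trans ha0 ham σ
    obtain ⟨t, rfl⟩ := AS7.exists_eq_trans ha0 ham τ
    exact (AS7.trans_mul s t).trans ((congrArg _ (add_comm s t)).trans (AS7.trans_mul t s).symm)
  · obtain ⟨s, rfl⟩ := AS7.exists_eq_trans ha0 ham σ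
    refine (AS7.trans_pow s p).trans ?_
    rw [show p • s = 0 from funext fun i => by simp]
    exact AS7.trans_zero
  · exact AS7.mem_range_of_fixed ha0 ham b fun s => hb (AS7.trans a s)
  · rintro ⟨r, rfl⟩ σ
    exact σ.commutes r
end Groth.Agent.S15789
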