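import Groth.Statements.S15791
import Mathlib
-- import your own Groth.Agent.* helpers here

set_option autoImplicit false
universe u v
open WildQuot

namespace Groth.Agent.S15791

/-- Let `A` be a regular local ring of Krull dimension `n` with maximal ideal `m`, let a finite group
`G` of order `g` act on `A` by ring automorphisms, and let `u_1, …, u_n` be an admissible regular
system of parameters: for every choice `σ_1, …, σ_n ∈ G`, the elements `σ_1 u_1, …, σ_n u_n`
generate `m`. With `x_i = ∏_{σ ∈ G} σ u_i` the norms, the length of `A / (x_1, …, x_n)` is at most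
`g ^ n`. (The published statement is for a complete regular local ring containing a `G`-fixed field
of representatives and asserts that the length equals `g ^ n`; this row states the upper bound for
any regular local ring.) -/
theorem result
    (A : Type u) [CommRing A] [IsRegularLocalRing A]
    (G : Type v) [Group G] [Fintype G] [MulSemiringAction G A]
    (n : ℕ) (hn : ringKrullDim A = n) (u : Fin n → A)
    (hu : ∀ τ : Fin n → G,
      Ideal.span (Set.range fun i => τ i • u i) = IsLocalRing.maximalIdeal A) :
    Module.length A (A ⧸ Ideal.span (Set.range fun i => ∏ σ : G, σ • u i)) ≤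
      (Fintype.card G ^ n : ℕ) := by
  classical
  -- subadditivity
  have two : ∀ (J : Ideal A) (a b : A), Module.length A (A ⧸ (J ⊔ Ideal.span {a * b})) ≤
      Module.length A (A ⧸ (J ⊔ Ideal.span {b})) + Module.length A (A ⧸ (J ⊔ Ideal.span {a})) := by
    intro J a b
    have hle : J ⊔ Ideal.span {a * b} ≤ J ⊔ Ideal.span {a} := sup_le le_sup_left
      ((Ideal.span_singleton_le_iff_mem _).mpr (Submodule.mem_sup_right
        (Ideal.mul_mem_right b _ (Ideal.mem_span_singleton_self a))))
    have hb : J ⊔ Ideal.span {b} ≤ Submodule.comap (LinearMap.mulLeft A a) (J ⊔ Ideal.span {a * b}) := by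
      refine sup_le (fun x hx => Submodule.mem_sup_left (J.mul_mem_left a hx)) ?_
      exact (Ideal.span_singleton_le_iff_mem _).mpr (Submodule.mem_sup_right (Ideal.mem_span_singleton_self _))
    let g := Submodule.factor hle
    let f := Submodule.mapQ (J ⊔ Ideal.span {b}) (J ⊔ Ideal.span {a * b}) (LinearMap.mulLeft A a) hb
    have hker : LinearMap.ker g ≤ LinearMap.range f := by
      intro x hx
      obtain ⟨x, rfl⟩ := Submodule.Quotient.mk_surjective _ x
      have hx' : x ∈ J ⊔ Ideal.span {a} := (Submodule.Quotient.mk_eq_zero _).mp hx
      obtain ⟨j, hj, z, hz, rfl⟩ := Submodule.mem_sup.mp hx'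
      obtain ⟨c, rfl⟩ := Ideal.mem_span_singleton.mp hz
      refine ⟨Submodule.Quotient.mk c, ?_⟩
      rw [Submodule.mapQ_apply, LinearMap.mulLeft_apply, Submodule.Quotient.eq]
      rw [show a * c - (j + a * c) = -j by ring]
      exact neg_mem (Submodule.mem_sup_left hj)
    have hgsurj : Function.Surjective g := Submodule.factor_surjective hle
    rw [Module.length_eq_add_of_exact (LinearMap.ker g).subtype g (Submodule.injective_subtype _) hgsurj
      (LinearMap.exact_subtype_ker_map g)]
    gcongr
    exact (Module.length_le_of_injective (Submodule.inclusion hker) (Submodule.inclusion_injective hker)).trans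
      (Module.length_le_of_surjective f.rangeRestrict f.surjective_rangeRestrict)
  have many : ∀ (J : Ideal A) (s : Finset G) (w : G → A), Module.length A (A ⧸ (J ⊔ Ideal.span {∏ σ ∈ s, w σ})) ≤
      ∑ σ ∈ s, Module.length A (A ⧸ (J ⊔ Ideal.span {w σ})) := by
    intro J s w
    induction s using Finset.induction with
    | empty =>
      rw [Finset.prod_empty, Finset.sum_empty, Ideal.span_singleton_one, sup_top_eq]
      haveI : Subsingleton (A ⧸ (⊤ : Ideal A)) := Submodule.Quotient.subsingleton_iff.mpr rfl
      simp
    | insert σ s hσ ih =>
      rw [Finset.prod_insert hσ, Finset.sum_insert hσ]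
      exact (two J _ _).trans (by rw [add_comm]; gcongr)
  -- replace the coordinates one at a time
  let P : Fin n → A := fun i => ∏ σ : G, σ • u i
  have key : ∀ k : ℕ, k ≤ n → ∀ τ : Fin n → G,
      Module.length A (A ⧸ Ideal.span (Set.range fun i : Fin n => if (i : ℕ) < k then P i else τ i • u i)) ≤
        (Fintype.card G ^ k : ℕ) := by
    intro k
    induction k with
    | zero =>
      intro _ τ
      rw [show (fun i : Fin n => if (i : ℕ) < 0 then P i else τ i • u i) = fun i => τ i • u i from
        funext fun i => if_neg (Nat.not_lt_zero _), pow_zero, Nat.cast_one]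
      rw [hu τ]
      haveI : IsSimpleModule A (A ⧸ IsLocalRing.maximalIdeal A) :=
        isSimpleModule_iff_isCoatom.mpr (IsLocalRing.maximalIdeal.isMaximal A).out
      exact (Module.length_eq_one A _).le
    | succ k ih =>
      intro hk τ
      let j : Fin n := ⟨k, hk⟩
      let J : Ideal A := Ideal.span ((fun i : Fin n => if (i : ℕ) < k then P i else τ i • u i) '' {i | i ≠ j})
      have hrange : ∀ (v : Fin n → A), Ideal.span (Set.range v) = Ideal.span (v '' {i | i ≠ j}) ⊔ Ideal.span {v j} := by
        intro v
        rw [← Ideal.span_union]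
        congr 1
        ext x
        constructor
        · rintro ⟨i, rfl⟩
          by_cases h : i = j
          · exact Or.inr (h ▸ rfl)
          · exact Or.inl ⟨i, h, rfl⟩
        · rintro (⟨i, -, rfl⟩ | rfl)
          · exact ⟨i, rfl⟩
          · exact ⟨j, rfl⟩
      have hJ : ∀ (v : Fin n → A), (∀ i, i ≠ j → v i = if (i : ℕ) < k then P i else τ i • u i) →
          Ideal.span (Set.range v) = J ⊔ Ideal.span {v j} := fun v hv => by
        rw [hrange v]
        exact congrArg (fun t => Ideal.span t ⊔ Ideal.span {v j}) (Set.image_congr fun i hi => hv i hi)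
      rw [hJ (fun i : Fin n => if (i : ℕ) < k + 1 then P i else τ i • u i) (fun i hi => by
        have : (i : ℕ) ≠ k := fun h => hi (Fin.ext h)
        by_cases h : (i : ℕ) < k
        · rw [if_pos h, if_pos (by omega)]
        · rw [if_neg h, if_neg (by omega)]), if_pos (show (j : ℕ) < k + 1 from Nat.lt_succ_self k)]
      refine (many J Finset.univ fun σ => σ • u j).trans ?_
      refine (Finset.sum_le_sum (g := fun _ => ((Fintype.card G ^ k : ℕ) : ℕ∞)) fun σ _ => ?_).trans ?_
      · have h := ih (by omega) (Function.update τ j σ)
        rw [hJ (fun i : Fin n => if (i : ℕ) < k then P i else (Function.update τ j σ) i • u i)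
          (fun i hi => by rw [Function.update_of_ne hi]), if_neg (lt_irrefl k), Function.update_self] at h
        exact h
      · rw [Finset.sum_const, Finset.card_univ, nsmul_eq_mul, pow_succ, mul_comm (Fintype.card G ^ k)]
        push_cast
        exact le_rfl
  have h := key n le_rfl (fun _ => 1)
  rwa [show (fun i : Fin n => if (i : ℕ) < n then P i else (fun _ => (1 : G)) i • u i) = P from
    funext fun i => if_pos i.is_lt] at h

end Groth.Agent.S15791
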