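import Groth.Statements.S15792
import Mathlib
-- import your own Groth.Agent.* helpers here

set_option autoImplicit false
universe u v
open WildQuot

namespace Groth.Agent.S15792

/-- Let `A` be a regular local ring of Krull dimension `n` and prime characteristic `p`, and let a
finite `p`-group `G` act on `A` by ring automorphisms inducing the identity on the residue field.
Then there is an admissible regular system of parameters: `u_1, …, u_n ∈ A` such that for every
choice `σ_1, …, σ_n ∈ G` the elements `σ_1 u_1, …, σ_n u_n` generate the maximal ideal. (The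
published statement is for a complete regular local ring containing a field of representatives fixed
by `G`; this row drops completeness and asks only that `G` act trivially on the residue field.) -/
theorem result
    (p : ℕ) [Fact p.Prime] (A : Type u) [CommRing A] [IsRegularLocalRing A] [CharP A p]
    (G : Type v) [Group G] [Finite G] [MulSemiringAction G A] (hG : IsPGroup p G)
    (hres : ∀ (σ : G) (a : A), σ • a - a ∈ IsLocalRing.maximalIdeal A)
    (n : ℕ) (hn : ringKrullDim A = n) :
    ∃ u : Fin n → A, ∀ τ : Fin n → G,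
      Ideal.span (Set.range fun i => τ i • u i) = IsLocalRing.maximalIdeal A := by
  classical
  haveI := Fintype.ofFinite G
  let m := IsLocalRing.maximalIdeal A
  have hm : ∀ (σ : G) {a : A}, a ∈ m → σ • a ∈ m := fun σ a ha => by
    have := add_mem (hres σ a) ha
    rwa [sub_add_cancel] at this
  have hm2 : ∀ (σ : G) {a : A}, a ∈ m ^ 2 → σ • a ∈ m ^ 2 := fun σ a ha => by
    rw [pow_two] at ha ⊢
    induction ha using Submodule.mul_induction_on' with
    | mem_mul_mem x hx y hy => rw [smul_mul']; exact Ideal.mul_mem_mul (hm σ hx) (hm σ hy)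
    | add x _ y _ hx hy => rw [smul_add]; exact add_mem hx hy
  letI : Algebra (ZMod p) A := ZMod.algebra A p
  -- a stable ideal properly inside `m` admits a fixed class
  have fixed : ∀ J : Ideal A, (∀ (σ : G) a, a ∈ J → σ • a ∈ J) → ∀ x ∈ m, x ∉ J →
      ∃ y ∈ m, y ∉ J ∧ ∀ σ : G, σ • y - y ∈ J := by
    intro J hJ x hx hxJ
    letI : MulAction G (A ⧸ J) :=
      { smul := fun σ => Quotient.map (fun a => σ • a) fun a b hab => by
          have h := hJ σ _ ((Submodule.quotientRel_def J).mp hab)
          rw [smul_sub] at h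
          exact (Submodule.quotientRel_def J).mpr h
        one_smul := fun q => Quotient.inductionOn q fun a => congrArg _ (one_smul G a)
        mul_smul := fun σ τ q => Quotient.inductionOn q fun a => congrArg _ (mul_smul σ τ a) }
    have hsm : ∀ (σ : G) (a : A), σ • Ideal.Quotient.mk J a = Ideal.Quotient.mk J (σ • a) := fun _ _ => rfl
    let F : (G → ZMod p) →+ A :=
      { toFun := fun f => ∑ σ : G, f σ • (σ • x)
        map_zero' := by simp
        map_add' := fun f g => by simp [add_smul, Finset.sum_add_distrib] }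
    let Ψ : (G → ZMod p) →+ A ⧸ J := (Ideal.Quotient.mk J).toAddMonoidHom.comp F
    have hF : ∀ (τ : G) f, τ • F f = F (fun σ => f (τ⁻¹ * σ)) := by
      intro τ f
      show τ • (∑ σ : G, f σ • (σ • x)) = ∑ σ : G, f (τ⁻¹ * σ) • (σ • x)
      rw [Finset.smul_sum]
      refine Fintype.sum_equiv (Equiv.mulLeft τ) _ _ fun σ => ?_
      rw [Equiv.coe_mulLeft, inv_mul_cancel_left, mul_smul]
      have : f σ • (σ • x) = (f σ).val • (σ • x) := by
        conv_lhs => rw [← ZMod.natCast_zmod_val (f σ), Nat.cast_smul_eq_nsmul]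
      have h2 : f σ • (τ • (σ • x)) = (f σ).val • (τ • (σ • x)) := by
        conv_lhs => rw [← ZMod.natCast_zmod_val (f σ), Nat.cast_smul_eq_nsmul]
      rw [this, h2]
      exact map_nsmul (MulSemiringAction.toRingHom G A τ) _ _
    letI : MulAction G Ψ.range :=
      { smul := fun τ z => ⟨τ • z.1, by
          obtain ⟨f, hf⟩ := z.2
          refine ⟨fun σ => f (τ⁻¹ * σ), ?_⟩
          rw [← hf]
          exact (congrArg (Ideal.Quotient.mk J) (hF τ f)).symm⟩
        one_smul := fun z => Subtype.ext (one_smul G z.1)
        mul_smul := fun σ τ z => Subtype.ext (mul_smul σ τ z.1) }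
    haveI : Finite Ψ.range := Finite.of_surjective Ψ.rangeRestrict Ψ.rangeRestrict_surjective
    have hx1 : Ideal.Quotient.mk J x ∈ Ψ.range := ⟨Pi.single 1 1, congrArg (Ideal.Quotient.mk J) (by
      show ∑ σ : G, (Pi.single 1 1 : G → ZMod p) σ • (σ • x) = x
      rw [Finset.sum_eq_single 1]
      · rw [Pi.single_eq_same, one_smul, one_smul]
      · intro σ _ h; rw [Pi.single_eq_of_ne h, zero_smul]
      · simp)⟩
    haveI : Nontrivial Ψ.range := ⟨⟨0, ⟨_, hx1⟩, fun h => hxJ (Ideal.Quotient.eq_zero_iff_mem.mp (congrArg Subtype.val h).symm)⟩⟩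
    have hp : p ∣ Nat.card Ψ.range := by
      have h1 : Nat.card Ψ.range ∣ Nat.card (G → ZMod p) :=
        AddSubgroup.card_dvd_of_surjective Ψ.rangeRestrict Ψ.rangeRestrict_surjective
      rw [Nat.card_fun, Nat.card_zmod] at h1
      obtain ⟨i, -, hi⟩ := (Nat.dvd_prime_pow (Fact.out : p.Prime)).mp h1
      rw [hi]
      refine dvd_pow_self p fun h0 => ?_
      rw [h0, pow_zero] at hi
      exact (Finite.one_lt_card (α := Ψ.range)).ne' hi
    obtain ⟨b, hb, hb0⟩ := hG.exists_fixed_point_of_prime_dvd_card_of_fixed_point Ψ.range hp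
      (a := (0 : Ψ.range)) (fun σ => Subtype.ext ((hsm σ 0).trans (by rw [smul_zero]; rfl)))
    obtain ⟨f, hf⟩ := b.2
    refine ⟨F f, ?_, ?_, ?_⟩
    · refine sum_mem fun σ _ => ?_
      rw [Algebra.smul_def]
      exact Ideal.mul_mem_left _ _ (hm σ hx)
    · intro h
      exact hb0 (Subtype.ext ((Ideal.Quotient.eq_zero_iff_mem.mpr h).symm.trans hf))
    · intro σ
      rw [← Ideal.Quotient.eq_zero_iff_mem, map_sub, sub_eq_zero, ← hsm,
        show Ideal.Quotient.mk J (F f) = b.1 from hf]
      exact congrArg Subtype.val (hb σ)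
  -- the dimension of the cotangent space
  let V := IsLocalRing.CotangentSpace A
  have hV : Module.finrank (IsLocalRing.ResidueField A) V = n := by
    have h := (IsRegularLocalRing.iff_finrank_cotangentSpace (R := A)).mp inferInstance
    rw [hn] at h
    exact_mod_cast h
  let W : ∀ {k : ℕ}, (Fin k → m) → Submodule (IsLocalRing.ResidueField A) V := fun u =>
    Submodule.span _ (Set.range fun i => m.toCotangent (u i))
  let J : ∀ {k : ℕ}, (Fin k → m) → Ideal A := fun u => m ^ 2 ⊔ Ideal.span (Set.range fun i => (u i : A))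
  have hJW : ∀ {k : ℕ} (u : Fin k → m) (x : m), m.toCotangent x ∈ W u → (x : A) ∈ J u := by
    intro k u x hx
    have hx' : m.toCotangent x ∈ Submodule.span A (Set.range fun i => m.toCotangent (u i)) :=
      (SetLike.ext_iff.mp (Submodule.restrictScalars_span A (IsLocalRing.ResidueField A)
        IsLocalRing.residue_surjective (Set.range fun i => m.toCotangent (u i))) _).mp hx
    rw [Set.range_comp' (g := m.toCotangent) (f := u), ← Submodule.map_span, Submodule.mem_map] at hx'
    obtain ⟨y, hy, hyx⟩ := hx'
    have h1 : (y : A) ∈ Ideal.span (Set.range fun i => (u i : A)) := by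
      have h := Submodule.mem_map_of_mem (f := m.subtype) hy
      rw [Submodule.map_span, ← Set.range_comp] at h
      exact h
    have h2 := (Ideal.toCotangent_eq m).mp hyx
    have h3 : (x : A) = (y : A) - ((y : A) - x) := (sub_sub_cancel _ _).symm
    rw [h3]
    exact sub_mem (Submodule.mem_sup_right h1) (Submodule.mem_sup_left h2)
  have supm : ∀ {X Y : Ideal A}, X ≤ Y → m ^ 2 ⊔ X ≤ m ^ 2 ⊔ Y := fun h => sup_le le_sup_left (h.trans le_sup_right)
  -- build the flag
  have build : ∀ k : ℕ, k ≤ n → ∃ u : Fin k → m,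
      Module.finrank (IsLocalRing.ResidueField A) (W u) = k ∧
      ∀ (i : Fin k) (σ : G), σ • (u i : A) - u i ∈ m ^ 2 ⊔ Ideal.span ((fun j => (u j : A)) '' {j | j < i}) := by
    intro k
    induction k with
    | zero =>
      intro _
      refine ⟨Fin.elim0, ?_, fun i => i.elim0⟩
      have : W (Fin.elim0 : Fin 0 → m) = ⊥ := by simp [W, Set.range_eq_empty]
      rw [this, finrank_bot]
    | succ k ih =>
      intro hk
      obtain ⟨u, hu, hflag⟩ := ih (by omega)
      have hne : W u ≠ ⊤ := fun h => by
        rw [h, finrank_top, hV] at hu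
        omega
      obtain ⟨v, hv⟩ : ∃ v : V, v ∉ W u := by
        by_contra h
        push_neg at h
        exact hne (eq_top_iff.mpr fun v _ => h v)
      have hJ2 : ∀ (σ : G) a, a ∈ J u → σ • a ∈ J u := by
        intro σ a ha
        have hle : J u ≤ Ideal.comap (MulSemiringAction.toRingHom G A σ) (J u) := by
          refine sup_le (fun b hb => Submodule.mem_sup_left (hm2 σ hb)) (Ideal.span_le.mpr ?_)
          rintro _ ⟨i, rfl⟩
          have h1 : σ • (u i : A) - u i ∈ J u :=
            supm (Ideal.span_mono (Set.image_subset_range _ _)) (hflag i σ)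
          have h2 : (u i : A) ∈ J u := Submodule.mem_sup_right (Ideal.subset_span ⟨i, rfl⟩)
          have := add_mem h1 h2
          rwa [sub_add_cancel] at this
        exact hle ha
      have hWJ : ∀ x : m, (x : A) ∈ J u → m.toCotangent x ∈ W u := by
        intro x hx
        obtain ⟨q, hq, r, hr, hqr⟩ := Submodule.mem_sup.mp hx
        have hr' : r ∈ Submodule.map m.subtype (Submodule.span A (Set.range u)) := by
          rw [Submodule.map_span, ← Set.range_comp]
          exact hr
        obtain ⟨y, hy, rfl⟩ := hr'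
        have e : m.toCotangent x = m.toCotangent y := (Ideal.toCotangent_eq m).mpr (by
          rw [← hqr]; simpa using hq)
        rw [e]
        have h := Submodule.mem_map_of_mem (f := m.toCotangent) hy
        rw [Submodule.map_span, ← Set.range_comp] at h
        exact Submodule.span_le_restrictScalars A (IsLocalRing.ResidueField A) _ h
      obtain ⟨x, rfl⟩ := m.toCotangent_surjective v
      obtain ⟨y, hy, hyJ, hyσ⟩ := fixed (J u) hJ2 x x.2 (fun h => hv (hWJ x h))
      refine ⟨Fin.snoc u ⟨y, hy⟩, ?_, ?_⟩
      · have hyW : m.toCotangent ⟨y, hy⟩ ∉ W u := fun h => hyJ (hJW u _ h)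
        have hW : W (Fin.snoc u ⟨y, hy⟩) = W u ⊔ Submodule.span _ {m.toCotangent ⟨y, hy⟩} := by
          simp only [W]
          rw [← Submodule.span_union]
          congr 1
          rw [show (fun i => m.toCotangent ((Fin.snoc u ⟨y, hy⟩ : Fin (k + 1) → m) i)) =
            Fin.snoc (fun i => m.toCotangent (u i)) (m.toCotangent ⟨y, hy⟩) from
              Fin.comp_snoc (fun z : m => m.toCotangent z) u ⟨y, hy⟩, Fin.range_snoc, Set.union_singleton]
        have h0 : m.toCotangent ⟨y, hy⟩ ≠ 0 := fun h => hyW (h ▸ zero_mem _)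
        have hsum := Submodule.finrank_sup_add_finrank_inf_eq (W u) (Submodule.span (IsLocalRing.ResidueField A) {m.toCotangent ⟨y, hy⟩})
        have hinf : W u ⊓ Submodule.span (IsLocalRing.ResidueField A) {m.toCotangent ⟨y, hy⟩} = ⊥ :=
          ((Submodule.disjoint_span_singleton' h0).mpr hyW).eq_bot
        rw [hinf, finrank_bot, add_zero, hu, finrank_span_singleton h0] at hsum
        rw [hW, hsum]
      · intro i σ
        refine Fin.lastCases ?_ (fun i => ?_) i
        · rw [Fin.snoc_last]
          refine supm (Ideal.span_mono ?_) (hyσ σ)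
          rintro _ ⟨j, rfl⟩
          exact ⟨j.castSucc, Fin.castSucc_lt_last j, by simp⟩
        · rw [Fin.snoc_castSucc]
          refine supm (Ideal.span_mono ?_) (hflag i σ)
          rintro _ ⟨j, hj, rfl⟩
          exact ⟨j.castSucc, Fin.castSucc_lt_castSucc_iff.mpr hj, by simp⟩
  obtain ⟨u, hu, hflag⟩ := build n le_rfl
  have htop : W u = ⊤ := Submodule.eq_top_of_finrank_eq (by rw [hu, hV])
  refine ⟨fun i => u i, fun τ => ?_⟩
  refine le_antisymm (Ideal.span_le.mpr ?_) ?_
  · rintro _ ⟨i, rfl⟩
    exact hm _ (u i).2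
  · have hui : ∀ i, (u i : A) ∈ m ^ 2 ⊔ Ideal.span (Set.range fun i => τ i • (u i : A)) := by
      intro i
      induction i using WellFoundedLT.induction with
      | _ i ih =>
        have h1 : τ i • (u i : A) - u i ∈ m ^ 2 ⊔ Ideal.span (Set.range fun i => τ i • (u i : A)) := by
          have hle : m ^ 2 ⊔ Ideal.span ((fun j => (u j : A)) '' {j | j < i}) ≤
              m ^ 2 ⊔ Ideal.span (Set.range fun i => τ i • (u i : A)) := by
            refine sup_le le_sup_left (Ideal.span_le.mpr ?_)
            rintro _ ⟨j, hj, rfl⟩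
            exact ih j hj
          exact hle (hflag i (τ i))
        have h2 : τ i • (u i : A) ∈ m ^ 2 ⊔ Ideal.span (Set.range fun i => τ i • (u i : A)) :=
          Submodule.mem_sup_right (Ideal.subset_span ⟨i, rfl⟩)
        have := sub_mem h2 h1
        rwa [sub_sub_cancel] at this
    refine Submodule.le_of_le_smul_of_le_jacobson_bot (IsNoetherian.noetherian m)
      (IsLocalRing.maximalIdeal_le_jacobson _) ?_
    intro x hx
    have hxJ : x ∈ J u := hJW u ⟨x, hx⟩ (htop ▸ Submodule.mem_top)
    rw [smul_eq_mul, ← pow_two, sup_comm]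
    exact (sup_le le_sup_left (Ideal.span_le.mpr (Set.range_subset_iff.mpr hui))) hxJ

end Groth.Agent.S15792
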