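import Groth.Statements.S15793
import Groth.Agent.WQ7.Invariants

set_option autoImplicit false
universe u v w
open WildQuot

namespace Groth.Agent.S15793

/-- Let `A` be a complete regular local ring of Krull dimension at least `2` and prime characteristic
`p`, with maximal ideal `m`; let `k` be a field with a ring map `k → A` whose composite with `A →
A/m` is onto (a field of representatives); let `G` be a group of order `p` acting on `A` by ring
automorphisms that fix the image of `k`, ramified precisely at the origin: for every prime `P ≠ m`,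
the inertia subgroup of `P` (the elements of `G` fixing every element of `A` modulo `P`) is trivial.
Then no element of `m` outside `m ^ 2` is fixed by every element of `G`; in particular the action is
not linear in any regular system of parameters. -/
theorem result
    (p : ℕ) [Fact p.Prime] (A : Type u) [CommRing A] [IsRegularLocalRing A] [CharP A p]
    [IsAdicComplete (IsLocalRing.maximalIdeal A) A] (hdim : 2 ≤ ringKrullDim A)
    (k : Type v) [Field k] [Algebra k A]
    (hk : Function.Surjective (IsLocalRing.residue A ∘ algebraMap k A))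
    (G : Type w) [Group G] [Finite G] [MulSemiringAction G A] (hcard : Nat.card G = p)
    (hGk : ∀ (σ : G) (c : k), σ • algebraMap k A c = algebraMap k A c)
    (hram : ∀ P : Ideal A, P.IsPrime → P ≠ IsLocalRing.maximalIdeal A → P.inertia G = ⊥)
    (v : A) (hv : v ∈ IsLocalRing.maximalIdeal A) (hv2 : v ∉ IsLocalRing.maximalIdeal A ^ 2) :
    ∃ σ : G, σ • v ≠ v := by
  classical
  by_contra! hfixv
  have : Nontrivial G := Finite.one_lt_card_iff_nontrivial.mp (hcard ▸ (Fact.out : p.Prime).one_lt)
  obtain ⟨σ, hσ⟩ := exists_ne (1 : G)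
  obtain ⟨t, ht, hcardt⟩ := RegLoc6.exists_generators_insert hv hv2
  let m := IsLocalRing.maximalIdeal A
  let J : Ideal A := Ideal.span ↑(t.image fun u => σ • u - u)
  let θ : A →+* A ⧸ J := (Ideal.Quotient.mk J).comp (MulSemiringAction.toRingHom G A σ)
  let S : Subring A := θ.eqLocus (Ideal.Quotient.mk J)
  have hS : ∀ a : A, a ∈ S ↔ σ • a - a ∈ J := fun a => Ideal.Quotient.eq
  have hbase : ∀ a : A, ∃ s ∈ S, a - s ∈ m := fun a => by
    obtain ⟨c, hc⟩ := hk (IsLocalRing.residue A a)
    refine ⟨algebraMap k A c, (hS _).mpr (by rw [hGk, sub_self]; exact J.zero_mem), ?_⟩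
    rw [← IsLocalRing.residue_eq_zero_iff, map_sub]
    exact sub_eq_zero.mpr hc.symm
  have hone : ∀ x ∈ m, ∃ s ∈ S, s ∈ m ∧ x - s ∈ m ^ 2 := by
    intro x hx
    have hx' : x ∈ Submodule.span A (insert v (t : Set A)) := by
      have : x ∈ Ideal.span (insert v (t : Set A)) := ht ▸ hx
      exact this
    induction hx' using Submodule.span_induction with
    | mem u hu =>
      refine ⟨u, (hS _).mpr ?_, ?_, by simp⟩
      · rcases hu with rfl | hu
        · rw [hfixv, sub_self]; exact J.zero_mem
        · exact Ideal.subset_span (by simpa using ⟨u, hu, rfl⟩)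
      · exact hx
    | zero => exact ⟨0, S.zero_mem, m.zero_mem, by simp⟩
    | add a b ha hb iha ihb =>
      have ham : a ∈ m := show a ∈ IsLocalRing.maximalIdeal A by rw [ht]; exact ha
      have hbm : b ∈ m := show b ∈ IsLocalRing.maximalIdeal A by rw [ht]; exact hb
      obtain ⟨s, hs, hsm, hd⟩ := iha ham
      obtain ⟨s', hs', hsm', hd'⟩ := ihb hbm
      exact ⟨s + s', add_mem hs hs', add_mem hsm hsm', by rw [add_sub_add_comm]; exact add_mem hd hd'⟩
    | smul c a ha iha =>
      have ham : a ∈ m := show a ∈ IsLocalRing.maximalIdeal A by rw [ht]; exact ha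
      obtain ⟨s, hs, hsm, hd⟩ := iha ham
      obtain ⟨c', hc', hcd⟩ := hbase c
      refine ⟨c' * s, mul_mem hc' hs, m.mul_mem_left _ hsm, ?_⟩
      rw [smul_eq_mul, show c * a - c' * s = (c - c') * a + c' * (a - s) by ring]
      exact add_mem (by rw [pow_two]; exact Ideal.mul_mem_mul hcd ham) (Ideal.mul_mem_left _ _ hd)
  have hpow : ∀ N, ∀ x ∈ m ^ N, ∃ s ∈ S, s ∈ m ^ N ∧ x - s ∈ m ^ (N + 1) := by
    intro N
    induction N with
    | zero =>
      intro x _
      obtain ⟨s, hs, hd⟩ := hbase x
      exact ⟨s, hs, by simp, by simpa using hd⟩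
    | succ N ih =>
      intro x hx
      rw [pow_succ'] at hx
      induction hx using Submodule.mul_induction_on' with
      | mem_mul_mem a ha b hb =>
        obtain ⟨s, hs, hsm, hd⟩ := hone a ha
        obtain ⟨s', hs', hsm', hd'⟩ := ih b hb
        refine ⟨s * s', mul_mem hs hs', by rw [pow_succ']; exact Ideal.mul_mem_mul hsm hsm', ?_⟩
        rw [show a * b - s * s' = (a - s) * b + s * (b - s') by ring]
        refine add_mem ?_ ?_
        · rw [show N + 1 + 1 = 2 + N by omega, pow_add]; exact Ideal.mul_mem_mul hd hb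
        · rw [pow_succ' m (N + 1)]; exact Ideal.mul_mem_mul hsm hd'
      | add a ha b hb iha ihb =>
        obtain ⟨s, hs, hsm, hd⟩ := iha
        obtain ⟨s', hs', hsm', hd'⟩ := ihb
        exact ⟨s + s', add_mem hs hs', add_mem hsm hsm', by rw [add_sub_add_comm]; exact add_mem hd hd'⟩
  have happ : ∀ N, ∀ a : A, ∃ s ∈ S, a - s ∈ m ^ N := by
    intro N a
    induction N with
    | zero => exact ⟨0, S.zero_mem, by simp⟩
    | succ N ih =>
      obtain ⟨s, hs, hd⟩ := ih
      obtain ⟨s', hs', -, hd'⟩ := hpow N _ hd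
      exact ⟨s + s', add_mem hs hs', by rwa [← sub_sub]⟩
  have hJm : J ≤ m := Ideal.span_le.mpr fun x hx => by
    obtain ⟨u, -, rfl⟩ := Finset.mem_image.mp hx
    exact WQ7.smul_sub_self_mem hk hGk σ u
  have hall : ∀ a : A, σ • a - a ∈ J := fun a => by
    have : Nontrivial (A ⧸ J) :=
      Ideal.Quotient.nontrivial_iff.mpr (ne_top_of_le_ne_top (IsLocalRing.maximalIdeal.isMaximal A).ne_top hJm)
    have : IsLocalRing (A ⧸ J) := .of_surjective' _ Ideal.Quotient.mk_surjective
    rw [← Ideal.Quotient.eq_zero_iff_mem, ← Ideal.mem_bot,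
      ← Ideal.iInf_pow_eq_bot_of_isLocalRing (m.map (Ideal.Quotient.mk J))
        (fun e => (IsLocalRing.maximalIdeal.isMaximal A).ne_top (by
          have := congrArg (Ideal.comap (Ideal.Quotient.mk J)) e
          rwa [Ideal.comap_top, Ideal.comap_map_of_surjective _ Ideal.Quotient.mk_surjective,
            ← RingHom.ker_eq_comap_bot, Ideal.mk_ker, sup_eq_left.mpr hJm] at this)), Ideal.mem_iInf]
    intro N
    obtain ⟨s, hs, hd⟩ := happ N a
    rw [← Ideal.map_pow]
    have h1 : σ • (a - s) ∈ m ^ N := by
      have h2 : (m ^ N).map (MulSemiringAction.toRingHom G A σ) ≤ m ^ N := by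
        rw [Ideal.map_pow]
        refine Ideal.pow_right_mono (Ideal.map_le_iff_le_comap.mpr fun x hx => ?_) N
        have := add_mem (WQ7.smul_sub_self_mem hk hGk σ x) hx
        rwa [sub_add_cancel] at this
      exact h2 (Ideal.mem_map_of_mem _ hd)
    have h3 : Ideal.Quotient.mk J (σ • a - a) =
        Ideal.Quotient.mk J (σ • (a - s) - (a - s)) := by
      rw [Ideal.Quotient.eq, smul_sub, show σ • a - a - (σ • a - σ • s - (a - s)) = σ • s - s by ring]
      exact (hS s).mp hs
    rw [h3]
    exact Ideal.mem_map_of_mem _ (sub_mem h1 hd)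
  obtain ⟨P, hP, -⟩ := Ideal.exists_minimalPrimes_le hJm
  have hPh := Ideal.height_le_card_of_mem_minimalPrimes_span_finset hP
  have := hP.1.1
  refine hσ ((Subgroup.eq_bot_iff_forall _).mp (hram P this fun e => ?_) σ fun a => hP.1.2 (hall a))
  subst e
  have h3 := IsLocalRing.maximalIdeal_height_eq_ringKrullDim (R := A)
  rw [← (isRegularLocalRing_iff A).mp inferInstance] at h3
  have h4 : (IsLocalRing.maximalIdeal A).height = ((IsLocalRing.maximalIdeal A).spanFinrank : ℕ∞) :=
    WithBot.coe_inj.mp h3
  rw [h4, Nat.cast_le] at hPh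
  have := (Finset.card_image_le (s := t) (f := fun u => σ • u - u))
  omega
end Groth.Agent.S15793
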