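import Groth.Statements.S15795
import Mathlib.RingTheory.Nakayama
import Mathlib.RingTheory.RegularLocalRing.Defs

set_option autoImplicit false
universe u v
open WildQuot

namespace Groth.Agent.S15795

/-- Let `A` be a regular local ring of Krull dimension `n` with maximal ideal `m`, let a finite group
`G` act on `A` by ring automorphisms inducing the identity on the residue field, and let `u_1, …,
u_n` generate `m`. Suppose that for every `σ ∈ G` and every `i`, `σ u_i ∈ (u_1, …, u_i) + m ^ 2`,
i.e. the induced linear maps of `m / m ^ 2` are upper triangular in the basis given by the `u_i`.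
Then the system `u` is admissible: for every choice `σ_1, …, σ_n ∈ G` the elements `σ_1 u_1, …, σ_n
u_n` generate `m`. (The published statement is for a complete regular local ring containing a
`G`-fixed field of representatives; this row drops completeness and asks only that `G` act trivially
on the residue field.) -/
theorem result
    (A : Type u) [CommRing A] [IsRegularLocalRing A]
    (G : Type v) [Group G] [Finite G] [MulSemiringAction G A]
    (hres : ∀ (σ : G) (a : A), σ • a - a ∈ IsLocalRing.maximalIdeal A)
    (n : ℕ) (hn : ringKrullDim A = n) (u : Fin n → A)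
    (hu : Ideal.span (Set.range u) = IsLocalRing.maximalIdeal A)
    (htri : ∀ (σ : G) (i : Fin n),
      σ • u i ∈ Ideal.span (u '' {j | j ≤ i}) ⊔ IsLocalRing.maximalIdeal A ^ 2) :
    ∀ τ : Fin n → G,
      Ideal.span (Set.range fun i => τ i • u i) = IsLocalRing.maximalIdeal A := by
  classical
  intro τ
  let m := IsLocalRing.maximalIdeal A
  let M := Ideal.span (Set.range fun i => τ i • u i)
  have hmem : ∀ i, u i ∈ m := fun i => hu.le (Ideal.subset_span ⟨i, rfl⟩)
  have hstab : ∀ (σ : G) (x : A), x ∈ m → σ • x ∈ m := fun σ x hx => by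
    have := add_mem (hres σ x) hx
    rwa [sub_add_cancel] at this
  have key : ∀ i, u i ∈ M ⊔ m ^ 2 := by
    intro i
    induction hk : (i : ℕ) using Nat.strong_induction_on generalizing i with
    | _ k ih => ?_
    let V : Ideal A := Ideal.span (u '' {j | j ≤ i}) ⊔ m ^ 2
    let σ := τ i
    let f : A →+* A := MulSemiringAction.toRingHom G A σ
    have hV : V.map f ≤ M ⊔ m ^ 2 := by
      rw [Ideal.map_sup, Ideal.map_span, Ideal.map_pow]
      refine sup_le (Ideal.span_le.mpr ?_) ((Ideal.pow_right_mono (Ideal.map_le_iff_le_comap.mpr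
        fun x hx => (Ideal.mem_comap (K := m)).mpr (show f x ∈ m from hstab σ x hx)) 2).trans le_sup_right)
      rintro _ ⟨_, ⟨j, hj, rfl⟩, rfl⟩
      rcases eq_or_lt_of_le (show j ≤ i from hj) with rfl | hlt
      · exact Ideal.mem_sup_left (Ideal.subset_span ⟨_, rfl⟩)
      · have hVj : Ideal.span (u '' {l | l ≤ j}) ⊔ m ^ 2 ≤ M ⊔ m ^ 2 := by
          refine sup_le (Ideal.span_le.mpr ?_) le_sup_right
          rintro _ ⟨l, hl, rfl⟩
          exact ih l (by rw [← hk]; exact lt_of_le_of_lt hl hlt) l rfl
        exact hVj (htri σ j)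
    have h2 := hV (Ideal.mem_map_of_mem f (htri σ⁻¹ i))
    rwa [MulSemiringAction.toRingHom_apply, smul_inv_smul] at h2
  refine le_antisymm (Ideal.span_le.mpr ?_) ?_
  · rintro _ ⟨i, rfl⟩
    exact hstab _ _ (hmem i)
  · refine Submodule.le_of_le_smul_of_le_jacobson_bot (IsNoetherian.noetherian m)
      (IsLocalRing.maximalIdeal_le_jacobson ⊥) ?_
    rw [smul_eq_mul, ← pow_two]
    refine hu.ge.trans ?_
    refine Ideal.span_le.mpr ?_
    rintro _ ⟨i, rfl⟩
    exact key i


end Groth.Agent.S15795
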