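import Groth.Statements.S15796
import Mathlib.RingTheory.Ideal.KrullsHeightTheorem

set_option autoImplicit false
universe u v
open WildQuot

namespace Groth.Agent.S15796

/-- Let `A` be a Noetherian local ring of Krull dimension `n` whose maximal ideal `m` is generated by
`u_1, …, u_n`, and let a finite group `G` act on `A` by ring automorphisms. If some `σ ∈ G` maps
some `u_i` into the ideal generated by the `u_j` with `j ≠ i`, then the system `u` is not weakly
admissible: for some choice `σ_1, …, σ_n ∈ G` the radical of `(σ_1 u_1, …, σ_n u_n)` does not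
contain `m`. (The published statement is for a linear action on `k[[u_1, …, u_n]]` whose matrix has
a zero diagonal entry; this row assumes instead that some `σ u_i` lies in the ideal generated by the
other `u_j`.) -/
theorem result
    (A : Type u) [CommRing A] [IsLocalRing A] [IsNoetherianRing A]
    (G : Type v) [Group G] [Finite G] [MulSemiringAction G A]
    (n : ℕ) (hn : ringKrullDim A = n) (u : Fin n → A)
    (hu : Ideal.span (Set.range u) = IsLocalRing.maximalIdeal A)
    (σ : G) (i : Fin n) (hσ : σ • u i ∈ Ideal.span (u '' {j | j ≠ i})) :
    ∃ τ : Fin n → G,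
      ¬ IsLocalRing.maximalIdeal A ≤ (Ideal.span (Set.range fun j => τ j • u j)).radical := by
  classical
  refine ⟨Function.update (fun _ => 1) i σ, fun h => ?_⟩
  let K : Ideal A := Ideal.span (u '' {j | j ≠ i})
  have hle : IsLocalRing.maximalIdeal A ≤ K.radical := by
    refine h.trans (Ideal.radical_mono (Ideal.span_le.mpr ?_))
    rintro _ ⟨j, rfl⟩
    by_cases hj : j = i
    · subst hj
      simp only [Function.update_self]
      exact hσ
    · simp only [Function.update_of_ne hj, one_smul]
      exact Ideal.subset_span ⟨j, hj, rfl⟩
  have hmin : IsLocalRing.maximalIdeal A ∈ K.minimalPrimes := by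
    have hKm : K ≤ IsLocalRing.maximalIdeal A := hu ▸ Ideal.span_mono (Set.image_subset_range _ _)
    refine ⟨⟨inferInstance, hKm⟩, fun q hq _ => ?_⟩
    exact hle.trans (hq.1.radical_le_iff.mpr hq.2)
  let s : Finset A := (Finset.univ.erase i).image u
  have hs : Ideal.span (s : Set A) = K := by
    simp only [s, Finset.coe_image, Finset.coe_erase, Finset.coe_univ, K]
    congr 2
    ext x; simp
  have h1 : (IsLocalRing.maximalIdeal A).height ≤ s.card := by
    refine (Ideal.height_le_spanRank_toENat_of_mem_minimal_primes _ _ hmin).trans ?_
    rw [← hs]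
    exact (Cardinal.toENat.monotone' (Submodule.spanRank_span_le_card _)).trans (by simp)
  have h2 : s.card ≤ n - 1 := Finset.card_image_le.trans (by simp)
  rw [← IsLocalRing.maximalIdeal_height_eq_ringKrullDim] at hn
  have h3 : (IsLocalRing.maximalIdeal A).height = (n : ℕ∞) := by exact_mod_cast hn
  rw [h3, Nat.cast_le] at h1
  have := i.2
  omega


end Groth.Agent.S15796
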