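import Groth.Statements.S15797
import Groth.Agent.CotTLib.CI
import Groth.Agent.LC.Sop
import Mathlib
-- import your own Groth.Agent.* helpers here

set_option autoImplicit false
universe u v
open WildQuot

namespace Groth.Agent.S15797

/-- Let `A` be a regular local ring of Krull dimension `n` with maximal ideal `m` generated by `u_1, …,
u_n`, let a finite group `G` of order `g` act on `A` by ring automorphisms, and suppose `u` is
weakly admissible: for every choice `σ_1, …, σ_n ∈ G` the radical of `(σ_1 u_1, …, σ_n u_n)`
contains `m`. With `x_i = ∏_{σ ∈ G} σ u_i` the norms, the length of `A / (x_1, …, x_n)` is at least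
`g ^ n` (so the finite flat map from `k[[x_1, …, x_n]]` has degree at least `g ^ n`). (The published
statement is for a complete regular local ring containing a `G`-fixed field of representatives; this
row does not assume those.) -/
theorem result
    (A : Type u) [CommRing A] [IsRegularLocalRing A]
    (G : Type v) [Group G] [Fintype G] [MulSemiringAction G A]
    (n : ℕ) (hn : ringKrullDim A = n) (u : Fin n → A)
    (hu : Ideal.span (Set.range u) = IsLocalRing.maximalIdeal A)
    (hwa : ∀ τ : Fin n → G,
      IsLocalRing.maximalIdeal A ≤ (Ideal.span (Set.range fun i => τ i • u i)).radical) :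
    ((Fintype.card G ^ n : ℕ) : ℕ∞) ≤
      Module.length A (A ⧸ Ideal.span (Set.range fun i => ∏ σ : G, σ • u i)) := by
  classical
  have hCM := Groth.Agent.CotTLib.isCM_of_isRegularLocalRing A
  have hmm : ∀ i (σ : G), σ • u i ∈ IsLocalRing.maximalIdeal A := by
    intro i σ
    rw [IsLocalRing.mem_maximalIdeal, mem_nonunits_iff]
    intro hunit
    have h1 := hunit.map (MulSemiringAction.toRingHom G A σ⁻¹)
    rw [MulSemiringAction.toRingHom_apply, inv_smul_smul] at h1
    exact (IsLocalRing.mem_maximalIdeal _).mp (hu ▸ Ideal.subset_span ⟨i, rfl⟩ : u i ∈ IsLocalRing.maximalIdeal A) h1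
  let P : Fin n → A := fun i => ∏ σ : G, σ • u i
  let v : ℕ → (Fin n → G) → Fin n → A := fun k τ i => if (i : ℕ) < k then P i else τ i • u i
  have hvm : ∀ k τ i, v k τ i ∈ IsLocalRing.maximalIdeal A := fun k τ i => by
    simp only [v]
    split_ifs
    · exact Ideal.mem_of_dvd _ (Finset.dvd_prod_of_mem (fun σ : G => σ • u i) (Finset.mem_univ 1)) (hmm i 1)
    · exact hmm i _
  have hrad : ∀ k τ, (Ideal.span (Set.range (v k τ))).radical = IsLocalRing.maximalIdeal A := by
    intro k τ
    refine le_antisymm ((IsLocalRing.maximalIdeal.isMaximal A).isPrime.radical_le_iff.mpr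
      (Ideal.span_le.mpr (by rintro _ ⟨i, rfl⟩; exact hvm k τ i))) ?_
    rw [Ideal.radical_eq_sInf]
    refine le_sInf fun Q hQ => ?_
    obtain ⟨hle, hp⟩ := hQ
    have : ∀ i, ∃ σ : G, σ • u i ∈ Q := fun i => by
      have h1 := hle (Ideal.subset_span ⟨i, rfl⟩)
      simp only [v] at h1
      split_ifs at h1
      · exact ((hp.prod_mem_iff (s := Finset.univ) (x := fun σ : G => σ • u i)).mp h1).imp fun σ h => h.2
      · exact ⟨_, h1⟩
    choose σ hσ using this
    refine (hwa σ).trans (hp.radical_le_iff.mpr (Ideal.span_le.mpr ?_))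
    rintro _ ⟨i, rfl⟩
    exact hσ i
  -- the last element of a system of parameters is regular modulo the others
  have hreg : ∀ (j : Fin n) (w : Fin n → A), (Ideal.span (Set.range w)).radical = IsLocalRing.maximalIdeal A →
      ∀ c, w j * c ∈ Ideal.span (w '' {i | i ≠ j}) → c ∈ Ideal.span (w '' {i | i ≠ j}) := by
    intro j w hw c hc
    let l : List A := (Finset.univ.erase j).toList.map w
    have hl : Ideal.ofList l = Ideal.span (w '' {i | i ≠ j}) := by
      rw [Ideal.ofList]
      congr 1
      ext x
      simp [l]
    have hrange : Ideal.ofList (l ++ [w j]) = Ideal.span (Set.range w) := by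
      rw [Ideal.ofList]
      congr 1
      ext x
      simp only [l, List.mem_append, List.mem_map, Finset.mem_toList, Finset.mem_erase, Finset.mem_univ,
        and_true, List.mem_singleton, Set.mem_setOf_eq, Set.mem_range]
      constructor
      · rintro (⟨i, -, rfl⟩ | rfl)
        exacts [⟨i, rfl⟩, ⟨j, rfl⟩]
      · rintro ⟨i, rfl⟩
        by_cases h : i = j
        · exact Or.inr (by rw [h])
        · exact Or.inl ⟨i, h, rfl⟩
    have h1 := Groth.Agent.LC.isWeaklyRegular_of_sop hCM n hn (l ++ [w j])
      (by have := j.pos; simp [l, Finset.card_erase_of_mem]; omega) (by rw [hrange]; exact hw)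
    rw [RingTheory.Sequence.isWeaklyRegular_append_iff, RingTheory.Sequence.isWeaklyRegular_singleton_iff] at h1
    have h2 := h1.2.right_eq_zero_of_smul (x := Submodule.Quotient.mk c) (by
      rw [← Submodule.Quotient.mk_smul, Submodule.Quotient.mk_eq_zero, smul_eq_mul, smul_eq_mul, Ideal.mul_top, hl]
      exact hc)
    rwa [Submodule.Quotient.mk_eq_zero, smul_eq_mul, Ideal.mul_top, hl] at h2
  have two : ∀ (J : Ideal A) (a b : A), (∀ c, a * c ∈ J → c ∈ J) →
      Module.length A (A ⧸ (J ⊔ Ideal.span {b})) + Module.length A (A ⧸ (J ⊔ Ideal.span {a})) ≤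
        Module.length A (A ⧸ (J ⊔ Ideal.span {a * b})) := by
    intro J a b ha
    have hle : J ⊔ Ideal.span {a * b} ≤ J ⊔ Ideal.span {a} := sup_le le_sup_left
      ((Ideal.span_singleton_le_iff_mem _).mpr (Submodule.mem_sup_right
        (Ideal.mul_mem_right b _ (Ideal.mem_span_singleton_self a))))
    have hb : J ⊔ Ideal.span {b} ≤ Submodule.comap (LinearMap.mulLeft A a) (J ⊔ Ideal.span {a * b}) := by
      refine sup_le (fun x hx => Submodule.mem_sup_left (J.mul_mem_left a hx)) ?_
      exact (Ideal.span_singleton_le_iff_mem _).mpr (Submodule.mem_sup_right (Ideal.mem_span_singleton_self _))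
    let g := Submodule.factor hle
    let f := Submodule.mapQ (J ⊔ Ideal.span {b}) (J ⊔ Ideal.span {a * b}) (LinearMap.mulLeft A a) hb
    have hf : Function.Injective f := by
      rw [← LinearMap.ker_eq_bot, eq_bot_iff]
      intro x hx
      obtain ⟨x, rfl⟩ := Submodule.Quotient.mk_surjective _ x
      rw [LinearMap.mem_ker, Submodule.mapQ_apply, LinearMap.mulLeft_apply, Submodule.Quotient.mk_eq_zero] at hx
      obtain ⟨j, hj, z, hz, e⟩ := Submodule.mem_sup.mp hx
      obtain ⟨d, rfl⟩ := Ideal.mem_span_singleton.mp hz
      have h1 : a * (x - b * d) ∈ J := by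
        rw [show a * (x - b * d) = j by linear_combination -e]; exact hj
      rw [Submodule.mem_bot, Submodule.Quotient.mk_eq_zero]
      exact Submodule.mem_sup.mpr ⟨_, ha _ h1, b * d, Ideal.mem_span_singleton.mpr ⟨d, rfl⟩, sub_add_cancel _ _⟩
    have hker : LinearMap.range f ≤ LinearMap.ker g := by
      rintro _ ⟨x, rfl⟩
      obtain ⟨x, rfl⟩ := Submodule.Quotient.mk_surjective _ x
      rw [LinearMap.mem_ker, Submodule.mapQ_apply, LinearMap.mulLeft_apply]
      exact (Submodule.Quotient.mk_eq_zero _).mpr (Submodule.mem_sup_right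
        (Ideal.mul_mem_right _ _ (Ideal.mem_span_singleton_self a)))
    have hgsurj : Function.Surjective g := Submodule.factor_surjective hle
    rw [Module.length_eq_add_of_exact (LinearMap.ker g).subtype g (Submodule.injective_subtype _) hgsurj
      (LinearMap.exact_subtype_ker_map g)]
    gcongr
    exact Module.length_le_of_injective (f.codRestrict _ fun x => hker ⟨x, rfl⟩)
      fun x y h => hf (congrArg Subtype.val h :)
  have many : ∀ (J : Ideal A) (s : Finset G) (w : G → A), (∀ σ, ∀ c, w σ * c ∈ J → c ∈ J) →
      ∑ σ ∈ s, Module.length A (A ⧸ (J ⊔ Ideal.span {w σ})) ≤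
        Module.length A (A ⧸ (J ⊔ Ideal.span {∏ σ ∈ s, w σ})) := by
    intro J s w hw
    induction s using Finset.induction with
    | empty => simp
    | insert σ s hσ ih =>
      rw [Finset.prod_insert hσ, Finset.sum_insert hσ]
      refine le_trans ?_ (two J _ _ (hw σ))
      rw [add_comm]; gcongr
  have key : ∀ k : ℕ, k ≤ n → ∀ τ : Fin n → G, ((Fintype.card G ^ k : ℕ) : ℕ∞) ≤
      Module.length A (A ⧸ Ideal.span (Set.range (v k τ))) := by
    intro k
    induction k with
    | zero =>
      intro _ τ
      rw [pow_zero, Nat.cast_one]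
      haveI : Nontrivial (A ⧸ Ideal.span (Set.range (v 0 τ))) := Ideal.Quotient.nontrivial_iff.mpr fun h => by
        have := Ideal.le_radical (I := Ideal.span (Set.range (v 0 τ)))
        rw [hrad, h] at this
        exact (IsLocalRing.maximalIdeal.isMaximal A).ne_top (top_le_iff.mp this)
      exact Order.one_le_iff_pos.mpr Module.length_pos
    | succ k ih =>
      intro hk τ
      let j : Fin n := ⟨k, hk⟩
      let J : Ideal A := Ideal.span (v k τ '' {i | i ≠ j})
      have hrange : ∀ (w : Fin n → A), Ideal.span (Set.range w) = Ideal.span (w '' {i | i ≠ j}) ⊔ Ideal.span {w j} := by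
        intro w
        rw [← Ideal.span_union]
        congr 1
        ext x
        constructor
        · rintro ⟨i, rfl⟩
          by_cases h : i = j
          · exact Or.inr (h ▸ rfl)
          · exact Or.inl ⟨i, h, rfl⟩
        · rintro (⟨i, -, rfl⟩ | rfl)
          · exact ⟨i, rfl⟩
          · exact ⟨j, rfl⟩
      have hupd : ∀ σ : G, ∀ i, i ≠ j → v k (Function.update τ j σ) i = v k τ i := fun σ i hi => by
        simp only [v, Function.update_of_ne hi]
      have hJσ : ∀ σ : G, v k (Function.update τ j σ) '' {i | i ≠ j} = v k τ '' {i | i ≠ j} :=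
        fun σ => Set.image_congr fun i hi => hupd σ i hi
      have hjσ : ∀ σ : G, v k (Function.update τ j σ) j = σ • u j := fun σ => by
        simp only [v, show ¬ (j : ℕ) < k from lt_irrefl k, if_false, Function.update_self]
      have hsucc : v (k + 1) τ '' {i | i ≠ j} = v k τ '' {i | i ≠ j} := Set.image_congr fun i hi => by
        have : (i : ℕ) ≠ k := fun h => hi (Fin.ext h)
        simp only [v]
        by_cases h : (i : ℕ) < k
        · rw [if_pos h, if_pos (by omega)]
        · rw [if_neg h, if_neg (by omega)]
      rw [hrange (v (k + 1) τ), hsucc, show v (k + 1) τ j = ∏ σ : G, σ • u j from if_pos (Nat.lt_succ_self k)]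
      refine le_trans ?_ (many J Finset.univ (fun σ => σ • u j) fun σ c hc => ?_)
      · rw [pow_succ, mul_comm, Nat.cast_mul, ← nsmul_eq_mul, ← Finset.card_univ, ← Finset.sum_const]
        refine Finset.sum_le_sum fun σ _ => ?_
        have h := ih (by omega) (Function.update τ j σ)
        rw [hrange (v k (Function.update τ j σ)), hJσ, hjσ] at h
        exact h
      · have h := hreg j (v k (Function.update τ j σ)) (hrad k _) c
        rw [hJσ, hjσ] at h
        exact h hc
  have h := key n le_rfl fun _ => 1
  rwa [show v n (fun _ => 1) = P from funext fun i => if_pos i.is_lt] at h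

end Groth.Agent.S15797
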