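import Groth.Statements.S1580
import Groth.Agent.QCoh16.SerreRel
import Groth.Agent.AssPtX.Basic
import Groth.Agent.InvX.Tensor

set_option autoImplicit false
universe u
open CategoryTheory CategoryTheory.Limits AlgebraicGeometry
open Divisors TopologicalSpace

namespace Groth.Agent.S1580

/-- Let f : X → S be quasi-compact and quasi-separated and F quasi-coherent on X. A point of S not in
the image of f is not weakly associated to f_* F. -/
theorem result {X S : Scheme.{u}} (f : X ⟶ S) [QuasiCompact f] [QuasiSeparated f]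
    (F : X.Modules) (hF : Coh.IsQCoh F) (s : S) (hs : s ∉ Set.range f.base) :
    ¬ Curv2.IsWeakAssPoint ((Coh.push f).obj F) s := by
  rintro ⟨m, hm⟩
  obtain ⟨_, ⟨V, hV, rfl⟩, hsV, -⟩ :=
    S.isBasis_affineOpens.exists_subset_of_mem_open (Set.mem_univ s) isOpen_univ
  obtain ⟨V₁, hsV₁, a₁, rfl⟩ := TopCat.Presheaf.exists_germ_eq ((Coh.push f).obj F).presheaf (x := s) m
  obtain ⟨g₀, hg₀, hsg₀⟩ := IsAffineOpen.exists_basicOpen_le hV (V := V₁) ⟨s, hsV₁⟩ hsV
  let V₂ := S.basicOpen g₀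
  have hV₂ : IsAffineOpen V₂ := IsAffineOpen.basicOpen hV g₀
  let a : Γ(F, f ⁻¹ᵁ V₂) := F.presheaf.map (homOfLE (f.preimage_mono hg₀)).op a₁
  have hgerm : ((Coh.push f).obj F).presheaf.germ V₁ s hsV₁ a₁ =
      ((Coh.push f).obj F).presheaf.germ V₂ s hsg₀ (show Γ((Coh.push f).obj F, V₂) from a) :=
    (((Coh.push f).obj F).presheaf.germ_res_apply (homOfLE hg₀) s hsg₀ a₁).symm
  rw [hgerm] at hm
  let O : X.Opens := sSup {W : X.Opens | ∃ h : W ≤ f ⁻¹ᵁ V₂, F.presheaf.map (homOfLE h).op a = 0}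
  have hO : ∀ x : X, f x ⤳ s → x ∈ O := by
    intro x hx
    have hxV : f x ∈ V₂ := hx.mem_open V₂.isOpen hsg₀
    have hns : ¬ s ⤳ f x := fun h => hs ⟨x, (hx.antisymm h).eq⟩
    obtain ⟨W, hWo, hxW, hsW⟩ := not_specializes_iff_exists_open.1 hns
    obtain ⟨g, hg, hxg⟩ := IsAffineOpen.exists_basicOpen_le hV₂ (V := ⟨W, hWo⟩) ⟨f x, hxW⟩ hxV
    have hgm : S.presheaf.germ V₂ s hsg₀ g ∈ IsLocalRing.maximalIdeal (S.presheaf.stalk s) := by
      rw [IsLocalRing.mem_maximalIdeal, mem_nonunits_iff, ← S.mem_basicOpen g s hsg₀]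
      exact fun h => hsW (hg h)
    rw [← hm] at hgm
    obtain ⟨k, hk⟩ := hgm
    have hk' : ((Coh.push f).obj F).presheaf.germ V₂ s hsg₀
        ((g ^ k) • (show Γ((Coh.push f).obj F, V₂) from a)) =
        ((Coh.push f).obj F).presheaf.germ V₂ s hsg₀ 0 := by
      rw [map_zero, QCoh.germ_smul', map_pow]
      exact hk
    obtain ⟨V₃, hsV₃, i₁, i₂, heq⟩ := TopCat.Presheaf.germ_eq (C := AddCommGrpCat.{u})
      ((Coh.push f).obj F).presheaf s hsg₀ hsg₀ _ _ hk'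
    rw [map_zero] at heq
    let W' : X.Opens := f ⁻¹ᵁ V₃ ⊓ f ⁻¹ᵁ S.basicOpen g
    have hW' : W' ≤ f ⁻¹ᵁ V₂ := inf_le_left.trans (f.preimage_mono i₁.le)
    refine Opens.mem_sSup.2 ⟨W', ⟨hW', ?_⟩, hx.mem_open V₃.isOpen hsV₃, hxg⟩
    change F.presheaf.map (homOfLE (f.preimage_mono i₁.le)).op ((f.app V₂ (g ^ k)) • a) = 0 at heq
    replace heq := congrArg (F.presheaf.map (homOfLE (inf_le_left : W' ≤ f ⁻¹ᵁ V₃)).op) heq
    rw [map_zero] at heq
    change AModX.res F (inf_le_left : W' ≤ f ⁻¹ᵁ V₃) (AModX.res F _ ((f.app V₂ (g ^ k)) • a)) = 0 at heq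
    rw [AModX.res_res, AModX.res_smul, map_pow] at heq
    have hu : IsUnit (AModX.resR hW' (f.app V₂ g ^ k)) := by
      rw [map_pow]
      refine (AModX.isUnit_resR _ _ ?_).pow k
      rw [← Scheme.preimage_basicOpen]
      exact inf_le_right
    show AModX.res F hW' a = 0
    exact hu.smul_eq_zero.1 heq
  obtain ⟨g, hsg, hgO⟩ := QCoh16.exists_nhd_preimage_le f hV₂ hsg₀ O hO
  have hzero : AModX.res F (f.preimage_mono (S.basicOpen_le g)) a = 0 := by
    refine AModX.eq_of_locally _ _ fun z hz => ?_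
    obtain ⟨W, ⟨hW, hW0⟩, hzW⟩ := Opens.mem_sSup.1 (hgO hz)
    refine ⟨W ⊓ f ⁻¹ᵁ S.basicOpen g, inf_le_right, ⟨hzW, hz⟩, ?_⟩
    rw [map_zero, AModX.res_res,
      ← AModX.res_res hW (inf_le_left : W ⊓ f ⁻¹ᵁ S.basicOpen g ≤ W) a]
    exact (congrArg _ hW0).trans (map_zero _)
  have hm0 : ((Coh.push f).obj F).presheaf.germ V₂ s hsg₀ (show Γ((Coh.push f).obj F, V₂) from a) = 0 := by
    rw [← ((Coh.push f).obj F).presheaf.germ_res_apply (homOfLE (S.basicOpen_le g)) s hsg]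
    exact (congrArg _ hzero).trans (map_zero _)
  rw [hm0, LinearMap.toSpanSingleton_zero, LinearMap.ker_zero, Ideal.radical_top] at hm
  exact (IsLocalRing.maximalIdeal.isMaximal (S.presheaf.stalk s)).ne_top hm.symm

end Groth.Agent.S1580
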