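import Groth.Statements.S15801
import Groth.Agent.WQ7.Params
-- import your own Groth.Agent.* helpers here

set_option autoImplicit false
universe u v
open WildQuot

namespace Groth.Agent.S15801

/-- Let `A` be a complete regular local ring of Krull dimension `n`, `k` a field with `k → A` mapping
onto the residue field, `x_1, …, x_n ∈ A` a system of parameters (the radical of `(x_1, …, x_n)` is
the maximal ideal), and `φ : k[[X_1, …, X_n]] → A` the `k`-algebra map with `φ X_i = x_i`. Then `A`
is a finite free module over `k[[X_1, …, X_n]]` through `φ`, of rank the length `d` of `A / (x_1, …,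
x_n)`: there are `b_1, …, b_d ∈ A` such that `(r_1, …, r_d) ↦ Σ φ(r_i) b_i` is a bijection from
`d`-tuples of power series onto `A`. -/
theorem result
    (A : Type u) [CommRing A] [IsRegularLocalRing A]
    [IsAdicComplete (IsLocalRing.maximalIdeal A) A] (n : ℕ) (hn : ringKrullDim A = n)
    (k : Type v) [Field k] [Algebra k A]
    (hk : Function.Surjective (IsLocalRing.residue A ∘ algebraMap k A))
    (x : Fin n → A) (hx : (Ideal.span (Set.range x)).radical = IsLocalRing.maximalIdeal A)
    (φ : MvPowerSeries (Fin n) k →ₐ[k] A) (hφ : ∀ i, φ (MvPowerSeries.X i) = x i) :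
    ∃ (d : ℕ) (b : Fin d → A), (d : ℕ∞) = Module.length A (A ⧸ Ideal.span (Set.range x)) ∧
      Function.Bijective (fun r : Fin d → MvPowerSeries (Fin n) k => ∑ i, φ (r i) * b i) := by
  exact Groth.Agent.WQ7.params_basis hk hn x hx φ hφ

end Groth.Agent.S15801
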