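import Groth.Statements.S15802
import Groth.Agent.WQ7.PurityFull
import Groth.Agent.RegLoc6.Normal
import Mathlib
-- import your own Groth.Agent.* helpers here

set_option autoImplicit false
universe u v w
open WildQuot

namespace Groth.Agent.S15802

open scoped Pointwise

theorem height_le_under {B A : Type*} [CommRing B] [CommRing A] [Algebra B A] [Algebra.IsIntegral B A]
    (P : Ideal A) [P.IsPrime] : P.height ≤ (P.under B).height := by
  refine (PrimeSpectrum.height_eq_orderHeight (⟨P, ‹_›⟩ : PrimeSpectrum A)).trans_le (le_of_le_of_eq ?_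
    (PrimeSpectrum.height_eq_orderHeight (PrimeSpectrum.comap (algebraMap B A) ⟨P, ‹_›⟩)).symm)
  refine Order.height_le_height_apply_of_strictMono (PrimeSpectrum.comap (algebraMap B A)) (fun a b hab => ?_) _
  have := Ideal.IsPrime.ne_top a.2
  exact Ideal.comap_lt_comap_of_integral_mem_sdiff hab.le (Set.exists_of_ssubset hab).choose_spec
    (Algebra.IsIntegral.isIntegral _)

section

variable {R : Type*} [CommRing R] {A : Type*} [CommRing A] [Algebra R A] {H : Type*} [Group H]
  [MulSemiringAction H A] [SMulCommClass H R A] (N : Subgroup H)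

/-- Invariants of a subgroup as a subalgebra. -/
def fixedAlg : Subalgebra R A where
  carrier := {a | ∀ g ∈ N, g • a = a}
  mul_mem' ha hb g hg := by rw [smul_mul', ha g hg, hb g hg]
  add_mem' ha hb g hg := by rw [smul_add, ha g hg, hb g hg]
  algebraMap_mem' r g _ := smul_algebraMap g r

/-- The action of the group on the invariants of a normal subgroup. -/
def actFixed [N.Normal] : H →* (fixedAlg (R := R) (A := A) N ≃ₐ[R] fixedAlg (R := R) (A := A) N) where
  toFun h :=
    { toFun := fun x => ⟨h • x.1, fun g hg => by
        have e := x.2 (h⁻¹ * g * h) (by simpa using (‹N.Normal›.conj_mem g hg h⁻¹))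
        calc g • (h • x.1) = h • ((h⁻¹ * g * h) • x.1) := by simp [← mul_smul, mul_assoc]
          _ = h • x.1 := by rw [e]⟩
      invFun := fun x => ⟨h⁻¹ • x.1, fun g hg => by
        have e := x.2 (h * g * h⁻¹) (‹N.Normal›.conj_mem g hg h)
        calc g • (h⁻¹ • x.1) = h⁻¹ • ((h * g * h⁻¹) • x.1) := by simp [← mul_smul, mul_assoc]
          _ = h⁻¹ • x.1 := by rw [e]⟩
      left_inv := fun x => Subtype.ext (inv_smul_smul h x.1)
      right_inv := fun x => Subtype.ext (smul_inv_smul h x.1)
      map_mul' := fun x y => Subtype.ext (smul_mul' h x.1 y.1)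
      map_add' := fun x y => Subtype.ext (smul_add h x.1 y.1)
      commutes' := fun r => Subtype.ext (smul_algebraMap h r) }
  map_one' := AlgEquiv.ext fun x => Subtype.ext (one_smul H x.1)
  map_mul' g h := AlgEquiv.ext fun x => Subtype.ext (mul_smul g h x.1)

theorem le_ker_actFixed [N.Normal] : N ≤ (actFixed (R := R) (A := A) N).ker :=
  fun g hg => AlgEquiv.ext fun x => Subtype.ext (x.2 g hg)

end

universe u₁ v₁ w₁ in
theorem eq_top {R : Type u₁} [CommRing R] [IsRegularLocalRing R]
    {A : Type v₁} [CommRing A] [IsDomain A] [IsIntegrallyClosed A] [IsLocalRing A]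
    [Algebra R A] [Module.Finite R A] (hinj : Function.Injective (algebraMap R A))
    (hres : Function.Surjective (IsLocalRing.residue A ∘ algebraMap R A))
    {H : Type w₁} [Group H] [Finite H] [MulSemiringAction H A] [SMulCommClass H R A] [FaithfulSMul H A]
    (hfix : ∀ a : A, (∀ h : H, h • a = a) → a ∈ Set.range (algebraMap R A))
    (N : Subgroup H) [N.Normal] (hN : ∀ P : Ideal A, P.IsPrime → P.height = 1 → P.inertia H ≤ N) : N = ⊤ := by
  classical
  haveI : IsNoetherianRing A := IsNoetherianRing.of_finite R A
  haveI : Algebra.IsIntegral R A := Algebra.IsIntegral.of_finite R A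
  haveI : Algebra.IsInvariant R A H := ⟨fun a ha => hfix a ha⟩
  haveI : FaithfulSMul R A := (faithfulSMul_iff_algebraMap_injective R A).mpr hinj
  have hbot : (⊥ : Ideal A).inertia H = ⊥ := (Subgroup.eq_bot_iff_forall _).2 fun g hg =>
    FaithfulSMul.eq_of_smul_eq_smul (α := A) fun a => by rw [one_smul]; exact sub_eq_zero.mp (hg a)
  let B := fixedAlg (R := R) (A := A) N
  haveI : Module.Finite R B := Module.Finite.of_fg (IsNoetherian.noetherian B.toSubmodule)
  haveI : Small.{u₁} B := Module.Finite.small R B
  let S := Shrink.{u₁} B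
  let e : S ≃ₐ[R] B := Shrink.algEquiv R B
  let ψ : (H ⧸ N) →* (S ≃ₐ[R] S) :=
    (AlgEquiv.autCongr e.symm).toMonoidHom.comp (QuotientGroup.lift N (actFixed N) (le_ker_actFixed N))
  letI : MulSemiringAction (H ⧸ N) S := MulSemiringAction.compHom S ψ
  haveI : SMulCommClass (H ⧸ N) R S := ⟨fun g r s => map_smul (ψ g) r s⟩
  have hact : ∀ (h : H) (s : S), ((e ((h : H ⧸ N) • s) : B) : A) = h • ((e s : B) : A) := fun h s => by
    show ((e (e.symm (actFixed N h (e s))) : B) : A) = _
    rw [AlgEquiv.apply_symm_apply]
    rfl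
  let ι : S →ₐ[R] A := B.val.comp e.toAlgHom
  have hιinj : Function.Injective ι := Subtype.val_injective.comp e.injective
  haveI : IsDomain S := hιinj.isDomain ι.toRingHom
  haveI : Module.Finite R S := Module.Finite.equiv e.symm.toLinearEquiv
  letI : Algebra S A := ι.toRingHom.toAlgebra
  haveI : IsScalarTower R S A := IsScalarTower.of_algebraMap_eq fun r => (ι.commutes r).symm
  haveI : Algebra.IsIntegral S A := Algebra.IsIntegral.tower_top R
  haveI : Algebra.IsInvariant R S (H ⧸ N) := ⟨fun s hs => by
    obtain ⟨r, hr⟩ := hfix (ι s) fun h => by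
      show h • ((e s : B) : A) = _
      rw [← hact, hs]; rfl
    exact ⟨r, hιinj (by rw [ι.commutes, hr])⟩⟩
  haveI : IsLocalRing S := by
    haveI : IsLocalHom ι.toRingHom := by
      exact (algebraMap_isIntegral_iff.2 (inferInstance : Algebra.IsIntegral S A)).isLocalHom hιinj
    exact RingHom.domain_isLocalRing ι.toRingHom
  have hrange : ∀ a : A, (∀ g ∈ N, g • a = a) → ∃ s : S, ι s = a := fun a ha =>
    ⟨e.symm ⟨a, ha⟩, congrArg Subtype.val (e.apply_symm_apply _)⟩
  haveI : IsIntegrallyClosed S := by
    refine (isIntegrallyClosed_iff (FractionRing S)).2 fun {x} hx => ?_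
    obtain ⟨a, b, hb, rfl⟩ := IsFractionRing.div_surjective (A := S) x
    have hb' : ι b ≠ 0 := fun h => nonZeroDivisors.ne_zero hb (hιinj (h.trans (map_zero ι).symm))
    let j : FractionRing S →+* FractionRing A :=
      IsFractionRing.lift (g := (algebraMap A (FractionRing A)).comp ι.toRingHom)
        ((IsFractionRing.injective A (FractionRing A)).comp hιinj)
    have hj : ∀ s : S, j (algebraMap S _ s) = algebraMap A _ (ι s) := fun s => IsFractionRing.lift_algebraMap _ s
    obtain ⟨P, hP, hP0⟩ := hx
    have hint : IsIntegral A (j (algebraMap S _ a / algebraMap S _ b)) := by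
      refine ⟨P.map ι.toRingHom, hP.map _, ?_⟩
      rw [Polynomial.eval₂_map, show (algebraMap A (FractionRing A)).comp ι.toRingHom = j.comp (algebraMap S _) from
        RingHom.ext fun s => (hj s).symm, ← Polynomial.hom_eval₂, hP0, map_zero]
    obtain ⟨c, hc⟩ := IsIntegrallyClosed.isIntegral_iff.1 hint
    rw [map_div₀, hj, hj, eq_div_iff (IsFractionRing.to_map_ne_zero_of_mem_nonZeroDivisors
      (mem_nonZeroDivisors_of_ne_zero hb'))] at hc
    have hc' : c * ι b = ι a := IsFractionRing.injective A (FractionRing A) (by rw [map_mul, hc])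
    obtain ⟨s, hs⟩ := hrange c fun g hg => mul_right_cancel₀ hb' (by
      have h1 : ι b = g • ι b := ((e b : B).2 g hg).symm
      conv_lhs => rw [h1, ← smul_mul', hc']
      rw [hc']
      exact (e a : B).2 g hg)
    refine ⟨s, (eq_div_iff (IsFractionRing.to_map_ne_zero_of_mem_nonZeroDivisors hb)).2 ?_⟩
    rw [← map_mul]
    exact congrArg _ (hιinj (by rw [map_mul, hs, hc']))
  have hinjS : Function.Injective (algebraMap R S) := fun r r' h => hinj (by
    rw [IsScalarTower.algebraMap_apply R S A, IsScalarTower.algebraMap_apply R S A, h])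
  have hresS : Function.Surjective (IsLocalRing.residue S ∘ algebraMap R S) := fun x => by
    obtain ⟨s, rfl⟩ := IsLocalRing.residue_surjective x
    obtain ⟨r, hr⟩ := hres (IsLocalRing.residue A (ι s))
    refine ⟨r, sub_eq_zero.1 ?_⟩
    simp only [Function.comp_apply] at hr ⊢
    rw [← map_sub, IsLocalRing.residue_eq_zero_iff]
    rw [← sub_eq_zero, ← map_sub, IsLocalRing.residue_eq_zero_iff] at hr
    intro hu
    refine hr ?_
    rw [← ι.commutes, ← map_sub]
    exact hu.map ι
  have hsurj := Groth.Agent.WQ7.surjective_of_unramified_codimOne hinjS hresS (fun t ht h1 => by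
    obtain ⟨P₀, -, hP₀, hP₀t⟩ := Ideal.exists_ideal_over_prime_of_isIntegral t (⊥ : Ideal A) (by
      rw [← RingHom.ker_eq_comap_bot, (RingHom.injective_iff_ker_eq_bot (algebraMap S A)).mp hιinj]; exact bot_le)
    let p := t.comap (algebraMap R S)
    haveI : Algebra.IsIntegral R S := Algebra.IsIntegral.of_finite R S
    obtain ⟨r, hr, hδ⟩ := Groth.Agent.WQ7.exists_delta (A := S) (G := H ⧸ N) p fun Q hQ hQp => by
      refine (Subgroup.eq_bot_iff_forall _).2 fun γ hγ => ?_
      induction γ using QuotientGroup.induction_on with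
      | _ h =>
        obtain ⟨P, -, hP, hPQ⟩ := Ideal.exists_ideal_over_prime_of_isIntegral Q (⊥ : Ideal A) (by
          rw [← RingHom.ker_eq_comap_bot, (RingHom.injective_iff_ker_eq_bot (algebraMap S A)).mp hιinj]; exact bot_le)
        have hu : P₀.under R = P.under R := by
          show P₀.comap (algebraMap R A) = P.comap (algebraMap R A)
          rw [IsScalarTower.algebraMap_eq R S A, ← Ideal.comap_comap, ← Ideal.comap_comap, hP₀t, hPQ, hQp]
        obtain ⟨g, hg⟩ := Algebra.IsInvariant.exists_smul_of_under_eq R A H P₀ P hu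
        have hh : P.height ≤ 1 := by
          have h0 : P₀.height ≤ 1 := by
            refine (height_le_under (B := S) P₀).trans ?_
            rw [show P₀.under S = t from hP₀t, h1]
          rw [hg, show g • P₀ = P₀.comap (MulSemiringAction.toRingEquiv H A g⁻¹) from
            Ideal.ext fun a => Ideal.mem_pointwise_smul_iff_inv_smul_mem, RingEquiv.height_comap]
          exact h0
        have hI : P.inertia H ≤ N := by
          rcases eq_or_ne P.height 1 with h1 | h1
          · exact hN P hP h1
          · have : P.height = 0 := ENat.lt_one_iff_eq_zero.mp (lt_of_le_of_ne hh h1)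
            rw [Ideal.height_eq_zero_iff_eq_bot.mp this, hbot]
            exact bot_le
        refine (QuotientGroup.eq_one_iff h).2 ?_
        refine sup_le hI le_rfl (Groth.Agent.WQ7.mem_inertia_sup N P h fun x hx => ?_)
        obtain ⟨s, rfl⟩ := hrange x hx
        have h2 := hγ s
        rw [← hPQ] at h2
        have h3 : ι ((h : H ⧸ N) • s - s) ∈ P := h2
        rw [map_sub] at h3
        rwa [show ι ((h : H ⧸ N) • s) = h • ι s from hact h s] at h3
    exact Groth.Agent.WQ7.isUnramifiedAt_of_delta t (fun hm => hr hm) hδ)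
  refine eq_top_iff.2 fun h _ => ?_
  have := Groth.Agent.WQ7.mem_inertia_sup N (⊥ : Ideal A) h fun x hx => by
    obtain ⟨s, rfl⟩ := hrange x hx
    obtain ⟨r, rfl⟩ := hsurj s
    rw [ι.commutes, smul_algebraMap, sub_self]
    exact zero_mem _
  rwa [hbot, bot_sup_eq] at this


/-- Let `R` be a regular local ring and `A` a normal local domain, finite over `R` (with `R → A`
injective) and with the same residue field; let a finite group `H` act faithfully on `A` by
`R`-algebra automorphisms with ring of invariants exactly `R` (so `Frac(A)/Frac(R)` is Galois with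
group `H`). Then `H` is generated by the inertia subgroups of the height-one prime ideals `P` of `A`
(the elements acting trivially on `A/P`). (The published statement is for `A` a complete regular
local ring with an action ramified precisely at the origin, `R = k[[x_1, …, x_n]]` a norm subring
and `H` the Galois group of `Frac(A)/Frac(R)`, when that extension is Galois; this row assumes only
the hypotheses listed above.) -/
theorem result
    (R : Type u) [CommRing R] [IsRegularLocalRing R]
    (A : Type v) [CommRing A] [IsDomain A] [IsIntegrallyClosed A] [IsLocalRing A]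
    [Algebra R A] [Module.Finite R A] (hinj : Function.Injective (algebraMap R A))
    (hres : Function.Surjective (IsLocalRing.residue A ∘ algebraMap R A))
    (H : Type w) [Group H] [Finite H] [MulSemiringAction H A] [SMulCommClass H R A] [FaithfulSMul H A]
    (hfix : ∀ a : A, (∀ h : H, h • a = a) → a ∈ Set.range (algebraMap R A)) :
    (⨆ P : {P : Ideal A // P.IsPrime ∧ P.height = 1}, P.1.inertia H) = ⊤ := by
  let N : Subgroup H := ⨆ P : {P : Ideal A // P.IsPrime ∧ P.height = 1}, P.1.inertia H
  haveI : N.Normal := ⟨fun n hn g => by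
    have hle : N ≤ N.comap (MulAut.conj g).toMonoidHom := iSup_le fun P h hh => by
      obtain ⟨P, hP, h1⟩ := P
      have hp' : (g • P).IsPrime := hP.smul g
      have h1' : (g • P).height = 1 := by
        rw [show g • P = P.comap (MulSemiringAction.toRingEquiv H A g⁻¹) from
          Ideal.ext fun a => Ideal.mem_pointwise_smul_iff_inv_smul_mem, RingEquiv.height_comap, h1]
      refine le_iSup (fun P : {P : Ideal A // P.IsPrime ∧ P.height = 1} => P.1.inertia H) ⟨g • P, hp', h1'⟩ ?_
      intro a
      show (g * h * g⁻¹) • a - a ∈ g • P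
      rw [Ideal.mem_pointwise_smul_iff_inv_smul_mem, smul_sub, ← mul_smul,
        show g⁻¹ * (g * h * g⁻¹) = h * g⁻¹ by group, mul_smul]
      exact hh (g⁻¹ • a)
    exact hle hn⟩
  exact eq_top hinj hres hfix N fun P hP h1 =>
    le_iSup (fun P : {P : Ideal A // P.IsPrime ∧ P.height = 1} => P.1.inertia H) ⟨P, hP, h1⟩

end Groth.Agent.S15802
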