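import Groth.Statements.S15803
import Groth.Agent.S15802
import Mathlib
-- import your own Groth.Agent.* helpers here

set_option autoImplicit false
universe u v w
open WildQuot

namespace Groth.Agent.S15803

/-- Let `R` be a regular local ring and `A` a normal local domain, finite over `R` (with `R → A`
injective) and with the same residue field; let a finite group `H` act faithfully on `A` by
`R`-algebra automorphisms with ring of invariants exactly `R` (so `Frac(A)/Frac(R)` is Galois with
group `H`); let `p` be a prime and suppose that every nontrivial inertia subgroup of a height-one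
prime of `A` has order `p` and is normal in `H`. Then `H` is commutative and every element satisfies
`h ^ p = 1`: `H` is an elementary abelian `p`-group (of order the degree of `Frac(A)` over
`Frac(R)`). (The published statement is for `A` a complete regular local ring with an action
ramified precisely at the origin, `R = k[[x_1, …, x_n]]` a norm subring and `H` the Galois group of
`Frac(A)/Frac(R)`, when that extension is Galois; this row assumes only the hypotheses listed
above.) -/
theorem result
    (p : ℕ) [Fact p.Prime] (R : Type u) [CommRing R] [IsRegularLocalRing R]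
    (A : Type v) [CommRing A] [IsDomain A] [IsIntegrallyClosed A] [IsLocalRing A]
    [Algebra R A] [Module.Finite R A] (hinj : Function.Injective (algebraMap R A))
    (hres : Function.Surjective (IsLocalRing.residue A ∘ algebraMap R A))
    (H : Type w) [Group H] [Finite H] [MulSemiringAction H A] [SMulCommClass H R A] [FaithfulSMul H A]
    (hfix : ∀ a : A, (∀ h : H, h • a = a) → a ∈ Set.range (algebraMap R A))
    (hMR2 : ∀ P : Ideal A, P.IsPrime → P.height = 1 → P.inertia H ≠ ⊥ →
      Nat.card (P.inertia H) = p ∧ (P.inertia H).Normal) :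
    (∀ g h : H, g * h = h * g) ∧ ∀ h : H, h ^ p = 1 := by
  have htop := S15802.result R A hinj hres H hfix
  have hp : p.Prime := Fact.out
  let S : Set H := ⋃ P : {P : Ideal A // P.IsPrime ∧ P.height = 1}, ((P.1.inertia H : Subgroup H) : Set H)
  have hS : Subgroup.closure S = ⊤ := by
    rw [← htop, Subgroup.iSup_eq_closure]
  have hcomm : ∀ g ∈ S, ∀ h ∈ S, g * h = h * g := by
    intro g hg h hh
    obtain ⟨⟨P, hP, hP1⟩, hgP⟩ := Set.mem_iUnion.1 hg
    obtain ⟨⟨Q, hQ, hQ1⟩, hhQ⟩ := Set.mem_iUnion.1 hh
    rcases eq_or_ne g 1 with rfl | hg1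
    · simp
    rcases eq_or_ne h 1 with rfl | hh1
    · simp
    have hPne : P.inertia H ≠ ⊥ := fun e => hg1 (Subgroup.mem_bot.1 (e ▸ hgP))
    have hQne : Q.inertia H ≠ ⊥ := fun e => hh1 (Subgroup.mem_bot.1 (e ▸ hhQ))
    obtain ⟨hcP, hnP⟩ := hMR2 P hP hP1 hPne
    obtain ⟨hcQ, hnQ⟩ := hMR2 Q hQ hQ1 hQne
    by_cases hPQ : P.inertia H = Q.inertia H
    · haveI : IsCyclic (P.inertia H) := isCyclic_of_prime_card hcP
      have := (IsCyclic.commGroup (α := P.inertia H)).mul_comm ⟨g, hgP⟩ ⟨h, hPQ ▸ hhQ⟩
      exact congrArg Subtype.val this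
    · have hinf : P.inertia H ⊓ Q.inertia H = ⊥ := by
        haveI := Fact.mk hp
        haveI : Finite (P.inertia H) := inferInstance
        rcases ((P.inertia H ⊓ Q.inertia H).subgroupOf (P.inertia H)).eq_bot_or_eq_top_of_prime_card
          (hp := by rw [hcP]; exact ⟨hp⟩) with e | e
        · rw [Subgroup.subgroupOf_eq_bot, disjoint_iff] at e
          rwa [inf_eq_left.2 inf_le_left] at e
        · rw [Subgroup.subgroupOf_eq_top] at e
          refine absurd (Subgroup.eq_of_le_of_card_ge (e.trans inf_le_right) ?_) hPQ
          rw [hcP, hcQ]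
      exact Subgroup.commute_of_normal_of_disjoint _ _ hnP hnQ (disjoint_iff.2 hinf) g h hgP hhQ
  have hab : ∀ g h : H, g * h = h * g := by
    intro g h
    have hg : g ∈ Subgroup.closure S := hS ▸ trivial
    have hh : h ∈ Subgroup.closure S := hS ▸ trivial
    letI := Subgroup.closureCommGroupOfComm hcomm
    exact congrArg Subtype.val (mul_comm (⟨g, hg⟩ : Subgroup.closure S) ⟨h, hh⟩)
  refine ⟨hab, fun h => ?_⟩
  have hh : h ∈ Subgroup.closure S := hS ▸ trivial
  induction hh using Subgroup.closure_induction with
  | mem x hx =>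
    obtain ⟨⟨P, hP, hP1⟩, hxP⟩ := Set.mem_iUnion.1 hx
    rcases eq_or_ne x 1 with rfl | hx1
    · exact one_pow p
    have hPne : P.inertia H ≠ ⊥ := fun e => hx1 (Subgroup.mem_bot.1 (e ▸ hxP))
    rw [← (hMR2 P hP hP1 hPne).1]
    exact congrArg Subtype.val (pow_card_eq_one' (x := (⟨x, hxP⟩ : P.inertia H)))
  | one => exact one_pow p
  | mul x y _ _ hx hy => rw [Commute.mul_pow (hab x y), hx, hy, one_mul]
  | inv x _ hx => rw [inv_pow, hx, inv_one]

end Groth.Agent.S15803
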