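import Groth.Statements.S15804
import Groth.Agent.EGA41Lib.IntDim
import Groth.Agent.WQ7.Free
import Groth.Agent.WQ7.Purity
import Mathlib
-- import your own Groth.Agent.* helpers here

set_option autoImplicit false
universe u v w
open WildQuot

namespace Groth.Agent.S15804

/-- Let `R` be a regular local ring and `A` a normal local domain, finite over `R` (with `R → A`
injective) and with the same residue field; let a finite group `H` act faithfully on `A` by
`R`-algebra automorphisms with ring of invariants exactly `R` (so `Frac(A)/Frac(R)` is Galois with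
group `H`); assume `A` has Krull dimension `2`, `H` has order `p ^ 2` for a prime `p`, and `Γ ≤ H`
is a subgroup of order `p` whose intersection with the inertia subgroup of every non-maximal prime
of `A` is trivial (the action of `Γ` is ramified precisely at the origin). Then every nontrivial
inertia subgroup of a height-one prime of `A` has order `p`, and `H` is commutative with every
element satisfying `h ^ p = 1`, i.e. elementary abelian of order `p ^ 2`. (The published statement
is for `A` a complete regular local ring with an action ramified precisely at the origin, `R =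
k[[x_1, …, x_n]]` a norm subring and `H` the Galois group of `Frac(A)/Frac(R)`, when that extension
is Galois; this row assumes only the hypotheses listed above.) -/
theorem result
    (p : ℕ) [Fact p.Prime] (R : Type u) [CommRing R] [IsRegularLocalRing R]
    (A : Type v) [CommRing A] [IsDomain A] [IsIntegrallyClosed A] [IsLocalRing A]
    [Algebra R A] [Module.Finite R A] (hinj : Function.Injective (algebraMap R A))
    (hres : Function.Surjective (IsLocalRing.residue A ∘ algebraMap R A))
    (H : Type w) [Group H] [Finite H] [MulSemiringAction H A] [SMulCommClass H R A] [FaithfulSMul H A]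
    (hfix : ∀ a : A, (∀ h : H, h • a = a) → a ∈ Set.range (algebraMap R A))
    (hdim : ringKrullDim A = 2) (hcard : Nat.card H = p ^ 2)
    (Γ : Subgroup H) (hΓ : Nat.card Γ = p)
    (hram : ∀ P : Ideal A, P.IsPrime → P ≠ IsLocalRing.maximalIdeal A → P.inertia H ⊓ Γ = ⊥) :
    (∀ P : Ideal A, P.IsPrime → P.height = 1 → P.inertia H ≠ ⊥ → Nat.card (P.inertia H) = p) ∧
      (∀ g h : H, g * h = h * g) ∧ ∀ h : H, h ^ p = 1 := by
  classical
  letI := Fintype.ofFinite H
  have hp : p.Prime := Fact.out
  haveI : Algebra.IsIntegral R A := Algebra.IsIntegral.of_finite R A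
  haveI : FaithfulSMul R A := (faithfulSMul_iff_algebraMap_injective R A).mpr hinj
  haveI : IsNoetherianRing A := IsNoetherianRing.of_finite R A
  haveI : IsDomain R := Function.Injective.isDomain _ hinj
  haveI : Algebra.IsInvariant R A H := ⟨fun a ha => hfix a ha⟩
  haveI : IsIntegrallyClosed R := Groth.Agent.RegLoc6.isIntegrallyClosed_of_isRegularLocalRing R
  have hdimR : ringKrullDim R = 2 := (Groth.Agent.EGA41Lib.ringKrullDim_eq_of_integral hinj).symm.trans hdim
  have hmA : (IsLocalRing.maximalIdeal A).height = 2 := by
    have := IsLocalRing.maximalIdeal_height_eq_ringKrullDim (R := A)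
    rw [hdim] at this
    exact WithBot.coe_inj.mp (this.trans rfl)
  have hne : ∀ P : Ideal A, P.height ≤ 1 → P ≠ IsLocalRing.maximalIdeal A := fun P hP h => by
    rw [h, hmA] at hP
    norm_num at hP
  have hΓ0 : Γ ≠ ⊥ := fun h => by
    rw [h, Subgroup.card_bot] at hΓ
    exact hp.one_lt.ne hΓ
  have hcardI : ∀ P : Ideal A, P.IsPrime → P.height = 1 → P.inertia H ≠ ⊥ → Nat.card (P.inertia H) = p := by
    intro P hP h1 hI
    obtain ⟨i, hi, hci⟩ := (Nat.dvd_prime_pow hp).mp (hcard ▸ Subgroup.card_subgroup_dvd_card (P.inertia H))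
    interval_cases i
    · exact absurd (Subgroup.card_eq_one.mp (hci.trans (pow_zero p))) hI
    · rw [hci, pow_one]
    · have := hram P hP (hne P h1.le)
      rw [Subgroup.eq_top_of_card_eq _ (hci.trans hcard.symm), top_inf_eq] at this
      exact absurd this hΓ0
  refine ⟨hcardI, IsPGroup.commutative_of_card_eq_prime_sq hcard, ?_⟩
  obtain ⟨P, hP, h1, hI⟩ : ∃ P : Ideal A, P.IsPrime ∧ P.height = 1 ∧ P.inertia H ≠ ⊥ := by
    by_contra! hcon
    haveI := Groth.Agent.WQ7.free_of_dim_two (R := R) (A := A) (G := H) hinj hdimR
    have hδ := Groth.Agent.WQ7.delta_of_free (R := R) (A := A) (G := H) hfix fun Q hQ hQ1 => by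
      have hQm : Q ≠ IsLocalRing.maximalIdeal A := fun h => by
        subst h
        haveI : ((IsLocalRing.maximalIdeal A).comap (algebraMap R A)).IsMaximal :=
          Ideal.isMaximal_comap_of_isIntegral_of_isMaximal _
        rw [IsLocalRing.eq_maximalIdeal this] at hQ1
        have h2 := IsLocalRing.maximalIdeal_height_eq_ringKrullDim (R := R)
        rw [hdimR] at h2
        have h3 : (IsLocalRing.maximalIdeal R).height = 2 := WithBot.coe_inj.mp (h2.trans rfl)
        rw [h3] at hQ1
        norm_num at hQ1
      have hlt : Q < IsLocalRing.maximalIdeal A := lt_of_le_of_ne (IsLocalRing.le_maximalIdeal hQ.ne_top) hQm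
      have hQ2 : Q.height < 2 := hmA ▸ Ideal.height_strict_mono_of_isPrime hlt
      have hQ3 : Q.height ≤ 1 := by
        rw [show (2 : ℕ∞) = 1 + 1 from rfl] at hQ2
        exact Order.le_of_lt_add_one hQ2
      rcases lt_or_eq_of_le hQ3 with h0 | h0
      · have : Q = ⊥ := by
          by_contra hne0
          have := Ideal.height_strict_mono_of_isPrime (J := Q) (I := (⊥ : Ideal A)) (bot_lt_iff_ne_bot.mpr hne0)
          rw [ENat.lt_one_iff_eq_zero.mp h0] at this
          exact not_lt_bot this
        subst this
        rw [Subgroup.eq_bot_iff_forall]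
        intro g hg
        refine FaithfulSMul.eq_of_smul_eq_smul (α := A) fun a => ?_
        rw [one_smul]
        exact sub_eq_zero.mp (hg a)
      · exact hcon Q hQ h0
    have hbot := Groth.Agent.WQ7.inertia_eq_bot_of_delta (R := R) hδ (IsLocalRing.maximalIdeal A) (IsLocalRing.maximalIdeal.isMaximal A).ne_top
    refine hΓ0 (eq_bot_iff.mpr fun g _ => ?_)
    rw [← hbot]
    intro a
    obtain ⟨r, hr⟩ := hres (IsLocalRing.residue A a)
    have hr' : algebraMap R A r - a ∈ IsLocalRing.maximalIdeal A := Ideal.Quotient.eq.mp hr
    have hga : g • (algebraMap R A r - a) ∈ IsLocalRing.maximalIdeal A := by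
      rw [IsLocalRing.mem_maximalIdeal, mem_nonunits_iff]
      intro hu
      have := hu.map (MulSemiringAction.toRingHom H A g⁻¹)
      rw [MulSemiringAction.toRingHom_apply, inv_smul_smul] at this
      exact (IsLocalRing.mem_maximalIdeal _).mp hr' this
    have := sub_mem hr' hga
    rw [smul_sub, smul_algebraMap] at this
    simpa using this
  intro h
  have hord : orderOf h ∣ p ^ 2 := hcard ▸ orderOf_dvd_natCard h
  obtain ⟨i, hi, hoi⟩ := (Nat.dvd_prime_pow hp).mp hord
  interval_cases i
  · rw [orderOf_eq_one_iff.mp (hoi.trans (pow_zero p)), one_pow]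
  · rw [← orderOf_dvd_iff_pow_eq_one, hoi, pow_one]
  · exfalso
    haveI : IsCyclic H := isCyclic_of_orderOf_eq_card h (hoi.trans hcard.symm)
    have hcI := hcardI P hP h1 hI
    have hIΓ := hram P hP (hne P h1.le)
    let S := (Finset.univ.filter fun a : H => a ^ p = 1)
    have hsub : ∀ K : Subgroup H, Nat.card K = p → (Finset.univ.filter fun a : H => a ∈ K) ⊆ S := fun K hK a ha => by
      simp only [S, Finset.mem_filter, Finset.mem_univ, true_and] at ha ⊢
      rw [← hK]
      exact congrArg Subtype.val (pow_card_eq_one' (x := (⟨a, ha⟩ : K)))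
    have hle : S.card ≤ p := IsCyclic.card_pow_eq_one_le hp.pos
    have hcardK : ∀ K : Subgroup H, Nat.card K = p → (Finset.univ.filter fun a : H => a ∈ K).card = p := fun K hK => by
      rw [← hK, Nat.card_eq_fintype_card, Fintype.card_subtype]
    have e1 := Finset.eq_of_subset_of_card_le (hsub _ hcI) (by rw [hcardK _ hcI]; exact hle)
    have e2 := Finset.eq_of_subset_of_card_le (hsub _ hΓ) (by rw [hcardK _ hΓ]; exact hle)
    refine hΓ0 (eq_bot_iff.mpr fun a ha => ?_)
    rw [← hIΓ]
    refine ⟨?_, ha⟩
    have : a ∈ (Finset.univ.filter fun a : H => a ∈ P.inertia H) := by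
      rw [e1, ← e2]; simp [ha]
    simpa using this

end Groth.Agent.S15804
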