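import Groth.Statements.S15807
import Groth.Agent.WildQuot7.Apply
-- import your own Groth.Agent.* helpers here

set_option autoImplicit false
universe u
open WildQuot

namespace Groth.Agent.S15807

open MvPolynomial in
/-- Let `k` be a field of characteristic `p > 0`, `n ≥ 3`, `R = k[[x_1, …, x_n]]`, `a_1, …, a_n ∈ R`
with zero constant term and pairwise coprime, `μ ∈ R` nonzero and coprime to each `a_i`, and `A =
R[u_1, …, u_n] / (u_i ^ p - (μ a_i) ^ (p-1) u_i - x_i : i = 1..n)`. Fix an index `i₀`. Then the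
`R`-algebra map `R[Z_j : j ≠ i₀] → A` sending `Z_j` to the minor element `z_j = a_{i₀} u_j - a_j
u_{i₀}` has kernel generated by the polynomials `Z_j ^ p - (μ a_{i₀} a_j) ^ (p-1) Z_j - (a_{i₀} ^ p
x_j - a_j ^ p x_{i₀})`; i.e. the complete intersection `R[Z_j] /` (these relations) maps
isomorphically onto the subring of `A` generated over `R` by the minor elements through `u_{i₀}`.
(The published statement uses the first index for `i₀` and allows `n ≥ 2`; this row allows any index
`i₀` and takes `n ≥ 3`.) -/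
theorem result
    (p : ℕ) [Fact p.Prime] (k : Type u) [Field k] [CharP k p] (n : ℕ) (hn : 3 ≤ n)
    (a : Fin n → MvPowerSeries (Fin n) k) (μ : MvPowerSeries (Fin n) k)
    (ham : ∀ i, MvPowerSeries.constantCoeff (a i) = 0) (hcop : ∀ i j, i ≠ j → IsRelPrime (a i) (a j))
    (hμ : μ ≠ 0) (hμa : ∀ i, IsRelPrime μ (a i)) (i₀ : Fin n) :
    let R := MvPowerSeries (Fin n) k
    let I : Ideal (MvPolynomial (Fin n) R) :=
      Ideal.span (Set.range fun i : Fin n =>
        X i ^ p - C ((μ * a i) ^ (p - 1)) * X i - C (MvPowerSeries.X i))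
    let A := MvPolynomial (Fin n) R ⧸ I
    let u : Fin n → A := fun i => Ideal.Quotient.mk I (X i)
    let z : {j : Fin n // j ≠ i₀} → A := fun j =>
      algebraMap R A (a i₀) * u j.1 - algebraMap R A (a j.1) * u i₀
    let r : {j : Fin n // j ≠ i₀} → MvPolynomial {j : Fin n // j ≠ i₀} R := fun j =>
      X j ^ p - C ((μ * a i₀ * a j.1) ^ (p - 1)) * X j
        - C (a i₀ ^ p * MvPowerSeries.X j.1 - a j.1 ^ p * MvPowerSeries.X i₀)
    RingHom.ker (MvPolynomial.aeval z : MvPolynomial {j : Fin n // j ≠ i₀} R →ₐ[R] A) =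
      Ideal.span (Set.range r) := by
  intro R I A u z r
  exact ((Groth.Agent.WildQuot7.minors p k a μ i₀ (le_trans (by norm_num) hn) ham hcop).1).trans
    (Groth.Agent.WildQuot7.relM_eq p k a μ i₀)

end Groth.Agent.S15807
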