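import Groth.Statements.S1581
import Groth.Agent.EtFound.Descent
import Groth.Agent.GrpSchLib.GeomIrr

set_option autoImplicit false
universe u
open CategoryTheory CategoryTheory.Limits AlgebraicGeometry
open Variety

namespace Groth.Agent.S1581


set_option backward.isDefEq.respectTransparency.types false

/-- Let X be a scheme over a field k and K a field extension of k. If X_K is proper over K then X is
proper over k. -/
theorem result (k : Type u) [Field k] (X : Scheme.{u}) [X.Over (Spec (CommRingCat.of k))] (K : Type u) [Field K] [Algebra k K]
    [IsProper (Curv2.bcSnd k X K)] : IsProper (X ↘ (Spec (CommRingCat.of k))) := by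
  haveI := EtFound.fpqc_isProper.{u}
  haveI := GrpSchLib.flat_spec_map_field (algebraMap k K)
  haveI := GrpSchLib.surjective_spec_map_field (algebraMap k K)
  exact MorphismProperty.of_pullback_snd_of_descendsAlong (P := @IsProper)
    (Q := @Surjective ⊓ @Flat ⊓ @QuasiCompact) (f := X ↘ Spec (CommRingCat.of k))
    (g := Spec.map (CommRingCat.ofHom (algebraMap k K))) ⟨⟨inferInstance, inferInstance⟩, inferInstance⟩ inferInstance

end Groth.Agent.S1581
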