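import Groth.Statements.S15811
import Mathlib.RingTheory.IntegralClosure.IntegrallyClosed
import Mathlib.FieldTheory.Finite.Basic
import Mathlib.Algebra.Algebra.ZMod
import Mathlib.Algebra.CharP.Algebra
import Mathlib.RingTheory.Localization.FractionRing
import Mathlib.RingTheory.Polynomial.Vieta

set_option autoImplicit false
universe u
open WildQuot

namespace Groth.Agent.S15811

/-- Let `R` be an integrally closed domain of prime characteristic `p` with fraction field `K`, and `α ∈
R`. Then `α ≠ 0` and the polynomial `T ^ p - α T` splits into linear factors over `K` — which says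
that the finite flat group scheme `Spec R[T]/(T ^ p - α T)` of order `p` has constant generic fibre
(its `p` roots are then distinct) — if and only if `α = a ^ (p-1)` for some nonzero `a ∈ R`. (The
published statement is that the generic fibre of the finite flat group scheme of order `p` with
parameters `α, β` satisfying `α β = 0`, whose underlying scheme is `Spec R[T]/(T ^ p - α T)`, is
constant if and only if `β = 0` and `α` is the `(p-1)`-th power of a nonzero element of `R`; this
row states the polynomial condition, in which `α ≠ 0` already forces `β = 0` over a domain.) -/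
theorem result
    (p : ℕ) [Fact p.Prime] (R : Type u) [CommRing R] [IsDomain R] [IsIntegrallyClosed R]
    [CharP R p] (α : R) :
    (α ≠ 0 ∧ (Polynomial.map (algebraMap R (FractionRing R))
        (Polynomial.X ^ p - Polynomial.C α * Polynomial.X)).Splits) ↔
      ∃ a : R, a ≠ 0 ∧ α = a ^ (p - 1) := by
  classical
  open Polynomial in
  have hp : p.Prime := Fact.out
  let F := FractionRing R
  let f : F[X] := Polynomial.X ^ p - Polynomial.C (algebraMap R F α) * Polynomial.X
  have hf : (Polynomial.X ^ p - Polynomial.C α * Polynomial.X : R[X]).map (algebraMap R F) = f := by simp [f]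
  have hdeg : (Polynomial.C (algebraMap R F α) * Polynomial.X).degree < (Polynomial.X ^ p : F[X]).degree := by
    rw [Polynomial.degree_X_pow]
    exact lt_of_le_of_lt (Polynomial.degree_C_mul_X_le _) (by exact_mod_cast hp.one_lt)
  have hnat : f.natDegree = p := by
    refine Polynomial.natDegree_eq_of_degree_eq_some ?_
    rw [Polynomial.degree_sub_eq_left_of_degree_lt hdeg, Polynomial.degree_X_pow]
  have hmon : f.Monic := (Polynomial.monic_X_pow p).sub_of_left hdeg
  rw [show (Polynomial.X ^ p - Polynomial.C α * Polynomial.X : R[X]).map (algebraMap R (FractionRing R)) = f from hf]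
  constructor
  · rintro ⟨hα, hs⟩
    have hex : ∃ r : F, r ≠ 0 ∧ f.IsRoot r := by
      by_contra hne
      push Not at hne
      have hroots : f.roots = Multiset.replicate f.roots.card 0 := Multiset.eq_replicate.mpr
        ⟨rfl, fun r hr => by_contra fun h0 => hne r h0 ((Polynomial.mem_roots hmon.ne_zero).mp hr)⟩
      have h1 := hs.eq_prod_roots_of_monic hmon
      rw [hroots, Multiset.map_replicate, Multiset.prod_replicate, map_zero, sub_zero,
        ← hs.natDegree_eq_card_roots, hnat] at h1
      have h2 := congrArg (fun q => Polynomial.coeff q 1) h1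
      simp [f, Polynomial.coeff_X_pow, Ne.symm hp.ne_one] at h2
      exact hα h2
    obtain ⟨r, hr0, hr⟩ := hex
    have hr' : r ^ (p - 1) = algebraMap R F α := by
      simp only [f, Polynomial.IsRoot.def, Polynomial.eval_sub, Polynomial.eval_pow, Polynomial.eval_X,
        Polynomial.eval_mul, Polynomial.eval_C, sub_eq_zero] at hr
      refine mul_right_cancel₀ hr0 ?_
      rw [← pow_succ, Nat.sub_add_cancel hp.one_le, hr]
    have hint : IsIntegral R r := IsIntegral.of_pow (Nat.sub_pos_of_lt hp.one_lt) (hr' ▸ isIntegral_algebraMap)
    obtain ⟨a, rfl⟩ := IsIntegrallyClosed.isIntegral_iff.mp hint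
    refine ⟨a, fun h => hr0 (by rw [h, map_zero]), IsFractionRing.injective R F ?_⟩
    rw [map_pow, hr']
  · rintro ⟨a, ha, rfl⟩
    refine ⟨pow_ne_zero _ ha, ?_⟩
    let : Algebra (ZMod p) F := ZMod.algebra F p
    let e : ZMod p → F := fun i => algebraMap (ZMod p) F i * algebraMap R F a
    have ha' : algebraMap R F a ≠ 0 := (map_ne_zero_iff _ (IsFractionRing.injective R F)).mpr ha
    have he : Function.Injective e := fun i j h => (algebraMap (ZMod p) F).injective (mul_right_cancel₀ ha' h)
    have hroot : ∀ i, e i ∈ f.roots := fun i => by
      rw [Polynomial.mem_roots hmon.ne_zero]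
      simp only [f, e, Polynomial.IsRoot.def, Polynomial.eval_sub, Polynomial.eval_pow, Polynomial.eval_X,
        Polynomial.eval_mul, Polynomial.eval_C, map_pow, mul_pow, ← map_pow (algebraMap (ZMod p) F), ZMod.pow_card]
      rw [mul_left_comm, ← pow_succ, Nat.sub_add_cancel hp.one_le, sub_self]
    refine Polynomial.splits_iff_card_roots.mpr (le_antisymm (Polynomial.card_roots' f) ?_)
    rw [hnat]
    have h : (Finset.univ.map ⟨e, he⟩).val ≤ f.roots := Finset.val_le_iff_val_subset.mpr fun x hx => by
      obtain ⟨i, -, rfl⟩ := Finset.mem_map.mp hx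
      exact hroot i
    simpa using Multiset.card_le_card h


end Groth.Agent.S15811
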