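import Groth.Statements.S15812
import Groth.Agent.WQ7.Galois
import Groth.Agent.RegLoc6.Normal
import Groth.Agent.RegLoc6.Basic

set_option autoImplicit false
universe u v w
open WildQuot

namespace Groth.Agent.S15812

/-- Let `R` be a regular local ring and `A` a normal local domain, finite over `R` (with `R → A`
injective) and with the same residue field; let a finite group `H` act faithfully on `A` by
`R`-algebra automorphisms with ring of invariants exactly `R` (so `Frac(A)/Frac(R)` is Galois with
group `H`); assume `H` is commutative of order `p ^ n` (`p` prime) and let `G_1, …, G_n ≤ H` be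
subgroups of order `p` generating `H`, each the inertia subgroup of some height-one prime of `A`,
such that every nontrivial inertia subgroup of a height-one prime of `A` is one of the `G_i`. Put
`G_i^⊥ =` the subgroup generated by the `G_j` with `j ≠ i`, and assume each invariant ring
`A^{G_i^⊥}` is a free `R`-module (the published statement asks them to be Cohen–Macaulay, which for
a finite algebra over the regular local ring `R` is the same). Then the subalgebras `A^{G_1^⊥}, …,
A^{G_n^⊥}` generate `A` over `R`. (The published conclusion is that the product map `A^{G_1^⊥} ⊗_R ⋯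
⊗_R A^{G_n^⊥} → A` is an isomorphism; as each factor is then free of rank `p` and `A` has rank `p ^
n` over `R`, that is equivalent to the generation statement given here. The published statement is
for `A` a complete regular local ring with an action ramified precisely at the origin, `R = k[[x_1,
…, x_n]]` a norm subring and `H` the Galois group of `Frac(A)/Frac(R)`, when that extension is
Galois; this row assumes only the hypotheses listed above.) -/
theorem result
    (p : ℕ) [Fact p.Prime] (R : Type u) [CommRing R] [IsRegularLocalRing R]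
    (A : Type v) [CommRing A] [IsDomain A] [IsIntegrallyClosed A] [IsLocalRing A]
    [Algebra R A] [Module.Finite R A] (hinj : Function.Injective (algebraMap R A))
    (hres : Function.Surjective (IsLocalRing.residue A ∘ algebraMap R A))
    (H : Type w) [Group H] [Finite H] [MulSemiringAction H A] [SMulCommClass H R A] [FaithfulSMul H A]
    (hfix : ∀ a : A, (∀ h : H, h • a = a) → a ∈ Set.range (algebraMap R A))
    (hcomm : ∀ g h : H, g * h = h * g)
    (n : ℕ) (hcard : Nat.card H = p ^ n) (Gi : Fin n → Subgroup H)
    (hGi : ∀ i, Nat.card (Gi i) = p) (hsup : (⨆ i, Gi i) = ⊤)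
    (hinert : ∀ i, ∃ P : Ideal A, P.IsPrime ∧ P.height = 1 ∧ P.inertia H = Gi i)
    (hMR3 : ∀ P : Ideal A, P.IsPrime → P.height = 1 → P.inertia H ≠ ⊥ → ∃ i, P.inertia H = Gi i)
    (hMR4 : ∀ i, Module.Free R
      (FixedPoints.subalgebra R A ↥(⨆ j ∈ (Finset.univ.erase i : Finset (Fin n)), Gi j : Subgroup H))) :
    (⨆ i, FixedPoints.subalgebra R A ↥(⨆ j ∈ (Finset.univ.erase i : Finset (Fin n)), Gi j : Subgroup H)) = ⊤ := by
  classical
  let : CommGroup H := { ‹Group H› with mul_comm := hcomm }
  let := Fintype.ofFinite H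
  have hp : p.Prime := Fact.out
  have : IsDomain R := hinj.isDomain
  have : IsIntegrallyClosed R := RegLoc6.isIntegrallyClosed_of_isRegularLocalRing R
  have : Algebra.IsIntegral R A := Algebra.IsIntegral.of_finite R A
  have : Algebra.IsInvariant R A H := ⟨fun a ha => hfix a ha⟩
  -- `H` is the product of the `Gi`
  let E : (∀ i, Gi i) →* H :=
    { toFun := fun x => ∏ i, (x i : H)
      map_one' := by simp
      map_mul' := fun x y => by simp [Finset.prod_mul_distrib] }
  have hE : Function.Bijective E := by
    have hs : Function.Surjective E := by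
      rw [← MonoidHom.range_eq_top, eq_top_iff, ← hsup, iSup_le_iff]
      intro i x hx
      refine ⟨Pi.mulSingle i ⟨x, hx⟩, ?_⟩
      show ∏ j, ((Pi.mulSingle i (⟨x, hx⟩ : Gi i) : ∀ j, Gi j) j : H) = x
      rw [Finset.prod_eq_single i (fun j _ hj => by simp [Pi.mulSingle_eq_of_ne hj]) (by simp)]
      simp
    exact hs.bijective_of_nat_card_le (by
      rw [Nat.card_pi, hcard, Finset.prod_congr rfl fun i _ => hGi i]; simp)
  let comp : ∀ i, H →* Gi i := fun i =>
    (Pi.evalMonoidHom (fun j => ↥(Gi j)) i).comp (MulEquiv.ofBijective E hE).symm.toMonoidHom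
  let N : Fin n → Subgroup H := fun i => ⨆ j ∈ (Finset.univ.erase i : Finset (Fin n)), Gi j
  have hN : ∀ i, N i = (comp i).ker := fun i => by
    refine le_antisymm (iSup₂_le fun j hj x hx => ?_) fun h hh => ?_
    · have : (MulEquiv.ofBijective E hE).symm x = Pi.mulSingle j ⟨x, hx⟩ := by
        rw [MulEquiv.symm_apply_eq]
        show x = ∏ l, ((Pi.mulSingle j (⟨x, hx⟩ : Gi j) : ∀ l, Gi l) l : H)
        rw [Finset.prod_eq_single j (fun l _ hl => by simp [Pi.mulSingle_eq_of_ne hl]) (by simp)]
        simp
      show (MulEquiv.ofBijective E hE).symm x i = 1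
      rw [this, Pi.mulSingle_eq_of_ne (Finset.ne_of_mem_erase hj).symm]
    · rw [← (MulEquiv.ofBijective E hE).apply_symm_apply h]
      show ∏ l, ((MulEquiv.ofBijective E hE).symm h l : H) ∈ N i
      refine prod_mem fun l _ => ?_
      by_cases hl : l = i
      · subst hl
        rw [show (MulEquiv.ofBijective E hE).symm h l = 1 from hh]
        exact one_mem _
      · exact (le_iSup₂ (f := fun j (_ : j ∈ (Finset.univ.erase i : Finset (Fin n))) => Gi j) l
          (Finset.mem_erase.mpr ⟨hl, Finset.mem_univ l⟩)) ((MulEquiv.ofBijective E hE).symm h l).2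
  have hle : ∀ i j, j ≠ i → Gi j ≤ N i := fun i j hj =>
    le_iSup₂ (f := fun j (_ : j ∈ (Finset.univ.erase i : Finset (Fin n))) => Gi j) j
      (Finset.mem_erase.mpr ⟨hj, Finset.mem_univ j⟩)
  have hbot : ∀ h : H, (∀ i, h ∈ N i) → h = 1 := fun h hh =>
    (MulEquiv.ofBijective E hE).symm.injective (by
      rw [map_one]
      exact funext fun i => (show h ∈ (comp i).ker from hN i ▸ hh i))
  have hidx : ∀ i, (N i).index = p := fun i => by
    rw [hN, Subgroup.index_ker]
    have : Function.Surjective (comp i) := fun x =>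
      ⟨E (Pi.mulSingle i x), by
        show (MulEquiv.ofBijective E hE).symm (E _) i = x
        rw [show E (Pi.mulSingle i x) = MulEquiv.ofBijective E hE (Pi.mulSingle i x) from rfl,
          MulEquiv.symm_apply_apply, Pi.mulSingle_eq_same]⟩
    rw [MonoidHom.range_eq_top.mpr this, Subgroup.card_top, hGi]
  -- bases of the rings of invariants
  let F : Fin n → Subalgebra R A := fun i => FixedPoints.subalgebra R A (N i)
  have hFmem : ∀ i, ∀ a : A, (∀ h ∈ N i, h • a = a) → a ∈ F i := fun i a ha h => ha h.1 h.2
  let S : Subalgebra R A := ⨆ i, F i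
  show S = ⊤
  have : IsNoetherian R A := isNoetherian_of_isNoetherianRing_of_finite R A
  have hfree : ∀ i, Module.Free R (F i) := hMR4
  have hfin : ∀ i, Module.Finite R (F i) := fun i =>
    Module.Finite.of_injective (F i).val.toLinearMap Subtype.val_injective
  let b := fun i => Module.finBasis R (F i)
  let d : Fin n → ℕ := fun i => Module.finrank R (F i)
  let s : ∀ i, Fin (d i) → A := fun i j => (b i j : A)
  have hspan : ∀ i, Submodule.span R (Set.range (s i)) = (F i).toSubmodule := fun i => by
    have := congrArg (Submodule.map (F i).val.toLinearMap) (b i).span_eq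
    rw [Submodule.map_span, Submodule.map_top, ← Set.range_comp] at this
    refine this.trans ?_
    ext a
    exact ⟨fun ⟨x, hx⟩ => hx ▸ x.2, fun ha => ⟨⟨a, ha⟩, rfl⟩⟩
  have hd : ∀ i, d i = p := fun i => by
    have hli : LinearIndependent R (s i) :=
      (b i).linearIndependent.map' (F i).val.toLinearMap (LinearMap.ker_eq_bot.mpr Subtype.val_injective)
    refine le_antisymm ?_ ?_
    · have := WQ7.card_le_index hinj hfix (N i) (s i) hli fun j h hh => (b i j).2 ⟨h, hh⟩
      simpa [hidx] using this
    · have := (WQ7.index_le_card hinj hfix (N i) (s i) fun a ha => by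
        rw [hspan i]; exact hFmem i a ha).1
      simpa [hidx] using this
  let m : (∀ i, Fin (d i)) → A := fun c => ∏ i, s i (c i)
  have hmS : ∀ c, m c ∈ S := fun c => prod_mem fun i _ => le_iSup F i (b i (c i)).2
  have hspanS : ∀ a ∈ S, a ∈ Submodule.span R (Set.range m) := by
    let P := ∏ i, (F i).toSubmodule
    have hone : ∀ i, 1 ≤ (F i).toSubmodule := fun i => Submodule.one_le.mpr (F i).one_mem
    have hmul : P * P ≤ P := by
      simp only [P, ← Finset.prod_mul_distrib]
      exact Finset.prod_le_prod' fun i _ => (Subalgebra.isIdempotentElem_toSubmodule (F i)).eq.le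
    let T : Subalgebra R A := P.toSubalgebra
      (Submodule.one_le.mp (Finset.one_le_prod' fun i _ => hone i))
      fun x y hx hy => hmul (Submodule.mul_mem_mul hx hy)
    have hT : S ≤ T := iSup_le fun i a ha => by
      show a ∈ P
      exact Finset.single_le_prod' (fun j _ => hone j) (Finset.mem_univ i) ha
    intro a ha
    have ha : a ∈ P := hT ha
    rw [show P = ∏ i, Submodule.span R (Set.range (s i)) from
      Finset.prod_congr rfl fun i _ => (hspan i).symm, Submodule.prod_span] at ha
    refine Submodule.span_mono ?_ ha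
    intro x hx
    obtain ⟨g, hg, rfl⟩ := Set.mem_fintype_prod _ _ |>.mp hx
    choose c hc using hg
    exact ⟨c, Finset.prod_congr rfl fun i _ => hc i⟩
  -- the key local statement
  have key : ∀ q : Ideal R, q.IsPrime → q.height ≤ 1 → ∃ r ∉ q, ∀ a : A, algebraMap R A r * a ∈ S := by
    intro q hq hq1
    obtain ⟨P, -, hP, hPq⟩ := Ideal.exists_ideal_over_prime_of_isIntegral q (⊥ : Ideal A) (by
      rw [← RingHom.ker_eq_comap_bot, (RingHom.injective_iff_ker_eq_bot _).mp hinj]; exact bot_le)
    have hI : ∀ P' : Ideal A, P'.IsPrime → P'.under R = q → P'.inertia H = P.inertia H := by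
      intro P' hP' h
      obtain ⟨g, rfl⟩ := Algebra.IsInvariant.exists_smul_of_under_eq R A H P P' (hPq.trans h.symm)
      ext x
      refine ⟨fun hx a => ?_, fun hx a => ?_⟩
      · have := Ideal.mem_pointwise_smul_iff_inv_smul_mem.mp (hx (g • a))
        rwa [smul_sub, inv_smul_smul, ← mul_smul, ← mul_smul, hcomm g⁻¹, mul_assoc,
          inv_mul_cancel, mul_one] at this
      · refine Ideal.mem_pointwise_smul_iff_inv_smul_mem.mpr ?_
        have := hx (g⁻¹ • a)
        rwa [← mul_smul, hcomm x, mul_smul, ← smul_sub] at this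
    -- the complement of the inertia group
    obtain ⟨N', hN'fix, hN'⟩ : ∃ N' : Subgroup H, (∀ a : A, (∀ g ∈ N', g • a = a) → a ∈ S) ∧
        ∀ h ∈ N', (∀ j, h ∈ P.inertia H ⊔ N j) → h = 1 := by
      by_cases h0 : P.inertia H = ⊥
      · refine ⟨⊤, fun a ha => ?_, fun h _ hh => hbot h fun j => by simpa [h0] using hh j⟩
        obtain ⟨r, rfl⟩ := hfix a fun g => ha g trivial
        exact S.algebraMap_mem r
      · have hPne : P ≠ ⊥ := fun e => h0 (by
          rw [Subgroup.eq_bot_iff_forall]
          intro h hh
          refine FaithfulSMul.eq_of_smul_eq_smul (α := A) fun a => ?_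
          have := hh a
          simp only [e, Ideal.mem_bot, Submodule.mem_toAddSubgroup, sub_eq_zero] at this
          rw [one_smul]; exact this)
        have hP1 : P.height = 1 := by
          refine le_antisymm ?_ (Order.one_le_iff_pos.mpr (pos_iff_ne_zero.mpr fun h => hPne ?_))
          · refine le_trans ?_ hq1
            rw [PrimeSpectrum.height_eq_orderHeight ⟨P, hP⟩, PrimeSpectrum.height_eq_orderHeight ⟨q, hq⟩]
            have := Order.height_le_height_apply_of_strictMono _
              (EGA41Lib.strictMono_comap_of_integral (A := R) (B := A)) (⟨P, hP⟩ : PrimeSpectrum A)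
            have e : PrimeSpectrum.comap (algebraMap R A) ⟨P, hP⟩ = ⟨q, hq⟩ := PrimeSpectrum.ext hPq
            rw [e] at this
            exact this
          · exact Ideal.height_eq_zero_iff_eq_bot.mp h
        obtain ⟨i, hi⟩ := hMR3 P hP hP1 h0
        refine ⟨N i, fun a ha => le_iSup F i (hFmem i a ha), fun h hh hall => hbot h fun j => ?_⟩
        by_cases hj : j = i
        · exact hj ▸ hh
        · have := hall j
          rwa [hi, sup_eq_right.mpr (hle j i (Ne.symm hj))] at this
    let T : Set A := ⋃ j, (F j : Set A)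
    have hsep : ∀ h ∈ N', h ≠ 1 → ∃ r : R, r ∉ q ∧
        algebraMap R A r ∈ Ideal.span ((fun y => y - h • y) '' T) := by
      intro h hh hne
      by_contra! hcon
      obtain ⟨P', hP'le, hP', hP'q⟩ := Ideal.exists_ideal_over_prime_of_isIntegral q
        (Ideal.span ((fun y => y - h • y) '' T)) fun r hr => by_contra fun hrq => hcon r hrq hr
      refine hne (hN' h hh fun j => ?_)
      rw [← hI P' hP' hP'q]
      have : (N j).Normal := Subgroup.normal_of_comm _
      refine WQ7.mem_inertia_sup (N j) P' h fun x hx => ?_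
      have := hP'le (Ideal.subset_span ⟨x, Set.mem_iUnion.mpr ⟨j, hFmem j x hx⟩, rfl⟩)
      simpa using neg_mem this
    have hdelta : ∀ t : Finset H, (∀ h ∈ t, h ∈ N' ∧ h ≠ 1) → ∃ r ∉ q, ∃ f ∈ WQ7.orbitSpan (H := H) S,
        f 1 = algebraMap R A r ∧ ∀ h ∈ t, f h = 0 := by
      intro t ht
      induction t using Finset.induction with
      | empty => exact ⟨1, fun h => hq.ne_top ((Ideal.eq_top_iff_one q).mpr h), 1,
          WQ7.one_mem_orbitSpan S, by simp, by simp⟩
      | insert h t _ ih =>
        obtain ⟨r, hr, f, hf, hf1, hf0⟩ := ih fun x hx => ht x (Finset.mem_insert_of_mem hx)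
        obtain ⟨hh, hne⟩ := ht h (Finset.mem_insert_self h t)
        obtain ⟨r', hr', hmem⟩ := hsep h hh hne
        obtain ⟨f', hf', hf1', hf0'⟩ := WQ7.exists_separating S h T
          (Set.iUnion_subset fun j => le_iSup F j) _ hmem
        refine ⟨r * r', fun hm => (hq.mem_or_mem hm).elim hr hr', f * f',
          WQ7.mul_mem_orbitSpan S hf hf', by simp [hf1, hf1'], fun x hx => ?_⟩
        rcases Finset.mem_insert.mp hx with rfl | hx
        · simp [hf0']
        · simp [hf0 x hx]
    obtain ⟨r, hr, f, hf, hf1, hf0⟩ := hdelta (Finset.univ.filter fun h => h ∈ N' ∧ h ≠ 1)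
      (fun h hh => (Finset.mem_filter.mp hh).2)
    exact ⟨r, hr, fun a => WQ7.mul_mem_of_delta S N' hN'fix _ hf hf1
      (fun g hg hne => hf0 g (Finset.mem_filter.mpr ⟨Finset.mem_univ g, hg, hne⟩)) a⟩
  -- conclusion
  obtain ⟨r₀, hr₀, hgen⟩ := key ⊥ Ideal.isPrime_bot (by simp)
  have hr0 : r₀ ≠ 0 := fun h => hr₀ (by simp [h])
  have hm : LinearIndependent R m := by
    have hcardm : Fintype.card (∀ i, Fin (d i)) = p ^ n := by simp [Fintype.card_pi, hd]
    exact (WQ7.index_le_card_of_torsion hinj hfix ⊥ m fun a _ =>
      ⟨r₀, fun h => hr0 (hinj (h.trans (map_zero _).symm)), hspanS _ (hgen a)⟩).2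
      (by rw [hcardm, Subgroup.index_bot, hcard])
  refine eq_top_iff.mpr fun a _ => ?_
  obtain ⟨c, hc⟩ := (Submodule.mem_span_range_iff_exists_fun R).mp (hspanS _ (hgen a))
  have hdvd : ∀ x, r₀ ∣ c x := fun x => WQ7.dvd_of_height_le_one hr0 fun q hq hq1 => by
    obtain ⟨r, hr, hra⟩ := key q hq hq1
    refine ⟨r, hr, ?_⟩
    obtain ⟨e, he⟩ := (Submodule.mem_span_range_iff_exists_fun R).mp (hspanS _ (hra a))
    have h0 := Fintype.linearIndependent_iff.mp hm (fun y => r * c y - r₀ * e y) (by
      simp only [sub_smul, Finset.sum_sub_distrib, mul_smul, ← Finset.smul_sum]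
      rw [hc, he, Algebra.smul_def, Algebra.smul_def]
      ring) x
    exact ⟨e x, sub_eq_zero.mp h0⟩
  choose g hg using hdvd
  have : a = ∑ x, g x • m x := by
    refine mul_left_cancel₀ (fun h => hr0 (hinj (h.trans (map_zero _).symm)) :
      algebraMap R A r₀ ≠ 0) ?_
    rw [← hc, Finset.mul_sum]
    exact Finset.sum_congr rfl fun x _ => by rw [hg x, Algebra.smul_def, Algebra.smul_def, map_mul, mul_assoc]
  rw [this]
  exact sum_mem fun x _ => S.smul_mem (hmS x) _

end Groth.Agent.S15812
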