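import Groth.Statements.S15814
import Groth.Agent.WQ7.Basic
import Groth.Agent.RegLoc6.Descent
import Groth.Agent.RegLoc6.Basic
import Mathlib.RingTheory.PiTensorProduct
import Mathlib.LinearAlgebra.PiTensorProduct.Basis

set_option autoImplicit false
set_option synthInstance.maxHeartbeats 200000
set_option maxHeartbeats 1000000
universe u v w
open WildQuot

namespace Groth.Agent.S15814

/-- Let `R` be a regular local ring and `A` a regular local ring, finite over `R` (with `R → A`
injective) and with the same residue field; let a finite commutative group `H` of order `p ^ n` (`p`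
prime) act faithfully on `A` by `R`-algebra automorphisms with ring of invariants exactly `R`, and
let `G_1, …, G_n ≤ H` be subgroups of order `p` generating `H`, each the inertia subgroup of some
height-one prime of `A`. Put `G_i^⊥ =` the subgroup generated by the `G_j` with `j ≠ i` and `B_i =
A^{G_i^⊥}`. Suppose `A` is the coproduct of the `R`-algebras `B_1, …, B_n`: every family of
`R`-algebra maps `B_i → C` into a commutative `R`-algebra `C` is the restriction of a unique
`R`-algebra map `A → C` (that is, the product map `B_1 ⊗_R ⋯ ⊗_R B_n → A` is an isomorphism). Then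
every `B_i` is a free `R`-module and a regular local ring. (The published statement is for `A`
complete regular with an action ramified precisely at the origin, `R` a norm subring and `H` the
Galois group of `Frac(A)/Frac(R)`, when that extension is Galois, and adds that the branch-locus
equations `a_1, …, a_n` of the `B_i` over `R` form a system of parameters of `R`; that last clause
is not included, and the test algebras `C` are taken in one universe large enough to contain the
tensor product.) -/
theorem result
    (p : ℕ) [Fact p.Prime] (R : Type u) [CommRing R] [IsRegularLocalRing R]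
    (A : Type v) [CommRing A] [IsRegularLocalRing A]
    [Algebra R A] [Module.Finite R A] (hinj : Function.Injective (algebraMap R A))
    (hres : Function.Surjective (IsLocalRing.residue A ∘ algebraMap R A))
    (H : Type w) [Group H] [Finite H] [MulSemiringAction H A] [SMulCommClass H R A] [FaithfulSMul H A]
    (hfix : ∀ a : A, (∀ h : H, h • a = a) → a ∈ Set.range (algebraMap R A))
    (hcomm : ∀ g h : H, g * h = h * g)
    (n : ℕ) (hcard : Nat.card H = p ^ n) (Gi : Fin n → Subgroup H)
    (hGi : ∀ i, Nat.card (Gi i) = p) (hsup : (⨆ i, Gi i) = ⊤)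
    (hinert : ∀ i, ∃ P : Ideal A, P.IsPrime ∧ P.height = 1 ∧ P.inertia H = Gi i)
    (hcoprod : ∀ (C : Type (max u v)) [CommRing C] [Algebra R C]
      (φ : ∀ i : Fin n,
        FixedPoints.subalgebra R A ↥(⨆ j ∈ (Finset.univ.erase i : Finset (Fin n)), Gi j : Subgroup H) →ₐ[R] C),
      ∃! ψ : A →ₐ[R] C, ∀ i
        (x : FixedPoints.subalgebra R A ↥(⨆ j ∈ (Finset.univ.erase i : Finset (Fin n)), Gi j : Subgroup H)),
        ψ x = φ i x) :
    ∀ i, Module.Free R
        (FixedPoints.subalgebra R A ↥(⨆ j ∈ (Finset.univ.erase i : Finset (Fin n)), Gi j : Subgroup H)) ∧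
      IsRegularLocalRing
        (FixedPoints.subalgebra R A ↥(⨆ j ∈ (Finset.univ.erase i : Finset (Fin n)), Gi j : Subgroup H)) := by
  classical
  have : IsDomain A := RegLoc6.isDomain_of_isRegularLocalRing A
  have : IsDomain R := hinj.isDomain
  have hp : p.Prime := Fact.out
  let N : Fin n → Subgroup H := fun i => ⨆ j ∈ (Finset.univ.erase i : Finset (Fin n)), Gi j
  let F : Fin n → Subalgebra R A := fun i => FixedPoints.subalgebra R A (N i)
  have hFmem : ∀ i, ∀ a : A, (∀ h ∈ N i, h • a = a) → a ∈ F i := fun i a ha h => ha h.1 h.2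
  -- minimal generators of the rings of invariants
  let k := IsLocalRing.ResidueField R
  let V : Fin n → Type (max u v) := fun i => TensorProduct R k (F i)
  let d : Fin n → ℕ := fun i => Module.finrank k (V i)
  have : IsNoetherian R A := isNoetherian_of_isNoetherianRing_of_finite R A
  have hfinF : ∀ i, Module.Finite R (F i) := fun i =>
    Module.Finite.of_injective (F i).val.toLinearMap Subtype.val_injective
  have : ∀ i, Module.Finite k (V i) := fun i => Module.Finite.base_change R k (F i)
  let bV : ∀ i, Module.Basis (Fin (d i)) k (V i) := fun i => Module.finBasis k (V i)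
  have hk : Function.Surjective (algebraMap R k) := IsLocalRing.residue_surjective
  choose s hs using fun i j => TensorProduct.mk_surjective R (F i) k hk (bV i j)
  have hspanF : ∀ i, Submodule.span R (Set.range (s i)) = ⊤ := fun i =>
    IsLocalRing.span_eq_top_of_tmul_eq_basis (R := R) (f := s i) (bV i) (hs i)
  have hspan : ∀ i, Submodule.span R (Set.range fun j => (s i j : A)) = (F i).toSubmodule := by
    intro i
    have := congrArg (Submodule.map (F i).val.toLinearMap) (hspanF i)
    rw [Submodule.map_span, Submodule.map_top, ← Set.range_comp] at this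
    refine this.trans ?_
    ext a
    exact ⟨fun ⟨x, hx⟩ => hx ▸ x.2, fun ha => ⟨⟨a, ha⟩, rfl⟩⟩
  have hidx : ∀ i, (N i).index ≤ d i ∧ (d i = (N i).index → LinearIndependent R fun j => (s i j : A)) := by
    intro i
    have := WQ7.index_le_card hinj hfix (N i) (fun j => (s i j : A)) fun a ha => by
      rw [hspan i]; exact hFmem i a ha
    simpa using this
  have hNcard : ∀ i, p ≤ (N i).index ∧ ((N i).index = p → Nat.card (N i) * p = p ^ n) := by
    intro i
    have h1 := WQ7.card_biSup_le hcomm p Gi hGi (Finset.univ.erase i)
    rw [Finset.card_erase_of_mem (Finset.mem_univ i), Finset.card_univ, Fintype.card_fin] at h1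
    have h2 := (N i).index_mul_card
    rw [hcard] at h2
    refine ⟨?_, fun h => by rw [← h2, h, mul_comm]⟩
    have hn : 1 ≤ n := i.pos
    have h3 : p * p ^ (n - 1) ≤ (N i).index * p ^ (n - 1) := by
      rw [← pow_succ', Nat.sub_add_cancel hn]
      exact h2 ▸ Nat.mul_le_mul_left _ h1
    exact Nat.le_of_mul_le_mul_right h3 (pow_pos hp.pos _)
  -- `A` is generated by the invariants
  have hgen : Algebra.adjoin R (⋃ i, (F i : Set A)) = ⊤ := by
    let S := Algebra.adjoin R (⋃ i, (F i : Set A))
    let φ : ∀ i, F i →ₐ[R] ULift.{u} S := fun i =>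
      ULift.algEquiv.symm.toAlgHom.comp ((F i).val.codRestrict S fun x =>
        Algebra.subset_adjoin (Set.mem_iUnion.mpr ⟨i, x.2⟩))
    obtain ⟨ψ, hψ, -⟩ := hcoprod (ULift.{u} S) φ
    let ι : ULift.{u} S →ₐ[R] A := S.val.comp ULift.algEquiv.toAlgHom
    obtain ⟨ψ₀, hψ₀, huniq⟩ := hcoprod (ULift.{u} A)
      fun i => ULift.algEquiv.symm.toAlgHom.comp (F i).val
    have h1 := huniq (ULift.algEquiv.symm.toAlgHom.comp (ι.comp ψ)) fun i x => by
      show ULift.up ((ψ x).down : A) = ULift.up (x : A)
      rw [hψ i x]
      rfl
    have h2 := huniq ULift.algEquiv.symm.toAlgHom fun i x => rfl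
    refine eq_top_iff.mpr fun a _ => ?_
    have h3 : ι (ψ a) = a := congrArg ULift.down (DFunLike.congr_fun (h1.trans h2.symm) a)
    exact h3 ▸ (ψ a).down.2
  -- the product of the fibre dimensions
  have : Module.Free R A := WQ7.free_of_regular R A hinj
  let b := Module.Free.chooseBasis R A
  let := Fintype.ofFinite (Module.Free.ChooseBasisIndex R A)
  have hrank : Fintype.card (Module.Free.ChooseBasisIndex R A) ≤ p ^ n :=
    hcard ▸ WQ7.card_le_of_linearIndependent hinj hfix b b.linearIndependent
  have hprod : ∏ i, d i ≤ Fintype.card (Module.Free.ChooseBasisIndex R A) := by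
    let C := PiTensorProduct k V
    let φ : ∀ i, F i →ₐ[R] C := fun i =>
      ((PiTensorProduct.singleAlgHom (R := k) (A := V) i).restrictScalars R).comp
        Algebra.TensorProduct.includeRight
    obtain ⟨ψ, hψ, -⟩ := hcoprod C φ
    have hV : ∀ i (v : V i), ∃ a, ψ a = PiTensorProduct.tprod k (Pi.mulSingle i v) := fun i v => by
      obtain ⟨x, rfl⟩ := TensorProduct.mk_surjective R (F i) k hk v
      exact ⟨x, hψ i x⟩
    have hsurj : Function.Surjective ψ := fun c => by
      induction c using PiTensorProduct.induction_on with
      | smul_tprod r f =>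
        obtain ⟨r, rfl⟩ := hk r
        choose a ha using fun i => hV i (f i)
        have hmem : PiTensorProduct.tprod k f ∈ ψ.range := by
          rw [← Finset.univ_prod_mulSingle f, PiTensorProduct.tprod_prod]
          refine Finset.prod_induction _ (fun z => z ∈ ψ.range) (fun _ _ h h' => ψ.range.mul_mem h h')
            ψ.range.one_mem fun i _ => ?_
          exact (AlgHom.mem_range ψ).mpr ⟨a i, ha i⟩
        obtain ⟨y, hy⟩ := hmem
        refine ⟨r • y, ?_⟩
        rw [map_smul, ← IsScalarTower.algebraMap_smul k r (ψ y)]
        exact congrArg _ hy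
      | add x y hx hy =>
        obtain ⟨a, rfl⟩ := hx; obtain ⟨c, rfl⟩ := hy
        exact ⟨a + c, map_add _ _ _⟩
    have htop : (⊤ : Submodule k C) ≤ Submodule.span k (Set.range fun j => ψ (b j)) := fun c _ => by
      obtain ⟨a, rfl⟩ := hsurj c
      rw [← b.sum_repr a, map_sum]
      refine sum_mem fun j _ => ?_
      rw [map_smul, ← IsScalarTower.algebraMap_smul k]
      exact Submodule.smul_mem _ _ (Submodule.subset_span ⟨j, rfl⟩)
    have hC : Module.finrank k C = ∏ i, d i := by
      rw [Module.finrank_eq_card_basis (Basis.piTensorProduct bV), Fintype.card_pi]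
      simp
    rw [← hC]
    exact finrank_le_of_span_eq_top (top_le_iff.mp htop)
  have hd : ∀ i, d i = p := by
    by_contra! h
    obtain ⟨i, hi⟩ := h
    have := Finset.prod_lt_prod (s := Finset.univ) (f := fun _ => p) (g := d) (fun _ _ => hp.pos)
      (fun j _ => (hNcard j).1.trans (hidx j).1)
      ⟨i, Finset.mem_univ i, lt_of_le_of_ne ((hNcard i).1.trans (hidx i).1) (Ne.symm hi)⟩
    rw [Finset.prod_const, Finset.card_univ, Fintype.card_fin] at this
    exact absurd (hprod.trans hrank) (not_le.mpr this)
  have hI : ∀ i, (N i).index = p := fun i =>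
    le_antisymm (hd i ▸ (hidx i).1) (hNcard i).1
  have hli : ∀ i, LinearIndependent R fun j => (s i j : A) := fun i =>
    (hidx i).2 (by rw [hI, hd])
  have hbF : ∀ i, ∃ bi : Module.Basis (Fin (d i)) R (F i), ⇑bi = s i := fun i =>
    ⟨Module.Basis.mk ((hli i).of_comp (F i).val.toLinearMap) (hspanF i).ge, Module.Basis.coe_mk _ _⟩
  -- products of the generators form a basis of `A`
  let m : (∀ i, Fin (d i)) → A := fun c => ∏ i, (s i (c i) : A)
  have hspanA : Submodule.span R (Set.range m) = ⊤ := by
    let P := ∏ i, (F i).toSubmodule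
    have hone : ∀ i, 1 ≤ (F i).toSubmodule := fun i => Submodule.one_le.mpr (F i).one_mem
    have hmul : P * P ≤ P := by
      simp only [P, ← Finset.prod_mul_distrib]
      exact Finset.prod_le_prod' fun i _ => (Subalgebra.isIdempotentElem_toSubmodule (F i)).eq.le
    let S : Subalgebra R A := P.toSubalgebra
      (Submodule.one_le.mp (Finset.one_le_prod' fun i _ => hone i))
      fun x y hx hy => hmul (Submodule.mul_mem_mul hx hy)
    have hS : ⊤ ≤ S := hgen ▸ Algebra.adjoin_le (Set.iUnion_subset fun i a ha => by
      show a ∈ P
      exact Finset.single_le_prod' (fun j _ => hone j) (Finset.mem_univ i) ha)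
    refine eq_top_iff.mpr fun a _ => ?_
    have ha : a ∈ P := hS Algebra.mem_top
    rw [show P = ∏ i, Submodule.span R (Set.range fun j => (s i j : A)) from
      Finset.prod_congr rfl fun i _ => (hspan i).symm, Submodule.prod_span] at ha
    refine Submodule.span_mono ?_ ha
    intro x hx
    obtain ⟨g, hg, rfl⟩ := Set.mem_fintype_prod _ _ |>.mp hx
    choose c hc using hg
    exact ⟨c, Finset.prod_congr rfl fun i _ => hc i⟩
  have hcardm : Fintype.card (∀ i, Fin (d i)) = p ^ n := by
    simp [Fintype.card_pi, hd]
  have hm : LinearIndependent R m := by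
    rw [linearIndependent_iff_injective_finsuppLinearCombination]
    let e : ((∀ i, Fin (d i)) →₀ R) →ₗ[R] A := Finsupp.linearCombination R m
    have he : Function.Surjective e := by
      rw [← LinearMap.range_eq_top, Finsupp.range_linearCombination, hspanA]
    have hc : Fintype.card (Module.Free.ChooseBasisIndex R A) = Fintype.card (∀ i, Fin (d i)) := by
      rw [hcardm]
      refine le_antisymm hrank (le_trans ?_ hprod)
      simp [hd]
    let σ := Fintype.equivOfCardEq hc
    let E : A ≃ₗ[R] ((∀ i, Fin (d i)) →₀ R) := b.repr.trans (Finsupp.domLCongr σ)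
    have := OrzechProperty.injective_of_surjective_endomorphism (E.toLinearMap.comp e)
      (E.surjective.comp he)
    exact Function.Injective.of_comp (f := E) this
  intro i
  refine ⟨?_, ?_⟩
  · obtain ⟨bi, -⟩ := hbF i
    exact Module.Free.of_basis bi
  have hlocal : IsLocalHom (algebraMap (F i) A) := ⟨fun x hx => by
    obtain ⟨y, hy⟩ := hx.exists_right_inv
    refine IsUnit.of_mul_eq_one ⟨y, fun h => ?_⟩ (Subtype.ext hy)
    have h2 := congrArg (fun a => (h : H) • a) hy
    simp only [smul_mul', smul_one] at h2
    rw [show (h : H) • algebraMap (F i) A x = algebraMap (F i) A x from x.2 h] at h2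
    exact (hx.mul_left_cancel) (h2.trans hy.symm)⟩
  have : IsLocalRing (F i) := RingHom.domain_isLocalRing (algebraMap (F i) A)
  have : IsNoetherianRing (F i) := isNoetherian_of_tower R
    (isNoetherian_of_isNoetherianRing_of_finite R (F i))
  have : Module.Flat (F i) A := by
    obtain ⟨bi, hbi⟩ := hbF i
    let e := Equiv.piSplitAt i (fun j => Fin (d j))
    let m' : (∀ j : {j // j ≠ i}, Fin (d j.1)) → A := fun c => ∏ j : {j // j ≠ i}, (s j.1 (c j) : A)
    have hm' : ∀ c, m (e.symm c) = (s i c.1 : A) * m' c.2 := fun c => by
      simp only [m, m']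
      rw [← Finset.mul_prod_erase _ _ (Finset.mem_univ i),
        Finset.prod_subtype (Finset.univ.erase i) (p := (· ≠ i)) (by simp)]
      congr 1
      · simp [e]
      · exact Finset.prod_congr rfl fun j _ => by simp [e, j.2]
    have hli' : LinearIndependent (F i) m' := by
      rw [Fintype.linearIndependent_iff]
      intro a ha
      have h0 := Fintype.linearIndependent_iff.mp hm (fun c => bi.repr (a (e c).2) (e c).1) (by
        rw [← e.symm.sum_comp, Fintype.sum_prod_type, Finset.sum_comm]
        refine Eq.trans (Finset.sum_congr rfl fun c _ => ?_) ha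
        simp only [Equiv.apply_symm_apply, hm']
        conv_rhs => rw [Subalgebra.smul_def, smul_eq_mul, ← bi.sum_repr (a c)]
        rw [AddSubmonoidClass.coe_finsetSum, Finset.sum_mul]
        simp [hbi])
      intro c
      refine bi.repr.injective (Finsupp.ext fun l => ?_)
      simpa using h0 (e.symm (l, c))
    have hsp' : ⊤ ≤ Submodule.span (F i) (Set.range m') := fun x _ => by
      have : Submodule.span R (Set.range m) ≤
          (Submodule.span (F i) (Set.range m')).restrictScalars R := by
        refine Submodule.span_le.mpr ?_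
        rintro _ ⟨c, rfl⟩
        rw [← e.symm_apply_apply c, hm']
        exact Submodule.smul_mem _ (s i (e c).1) (Submodule.subset_span ⟨(e c).2, rfl⟩)
      exact this (hspanA ▸ Submodule.mem_top)
    have : Module.Free (F i) A := Module.Free.of_basis (Module.Basis.mk hli' hsp')
    infer_instance
  exact RegLoc6.isRegularLocalRing_of_flat (A := F i) (B := A)

end Groth.Agent.S15814
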