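import Groth.Statements.S15817
-- imports

set_option autoImplicit false
universe u v
open CategoryTheory
open CAlg

namespace Groth.Agent.S15817

/-- Let A be a commutative ring, M an A-module and P, Q submodules of M. Then the commuting square of
quotient projections with corners M/(P ∩ Q), M/P, M/Q and M/(P + Q) is cartesian in the category of
A-modules: M/(P ∩ Q) is the fibre product of M/P and M/Q over M/(P + Q). -/
theorem result (A : Type u) [CommRing A] (M : Type v) [AddCommGroup M] [Module A M]
    (P Q : Submodule A M) :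
    IsPullback (ModuleCat.ofHom (Submodule.factor (inf_le_left : P ⊓ Q ≤ P)))
      (ModuleCat.ofHom (Submodule.factor (inf_le_right : P ⊓ Q ≤ Q)))
      (ModuleCat.ofHom (Submodule.factor (le_sup_left : P ≤ P ⊔ Q)))
      (ModuleCat.ofHom (Submodule.factor (le_sup_right : Q ≤ P ⊔ Q))) := by
  let D : ((M ⧸ P) × (M ⧸ Q)) →ₗ[A] M ⧸ (P ⊔ Q) :=
    (Submodule.factor (le_sup_left : P ≤ P ⊔ Q)).comp (LinearMap.fst A _ _) -
      (Submodule.factor (le_sup_right : Q ≤ P ⊔ Q)).comp (LinearMap.snd A _ _)
  let F : (M ⧸ (P ⊓ Q)) →ₗ[A] LinearMap.ker D := LinearMap.codRestrict _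
    ((Submodule.factor (inf_le_left : P ⊓ Q ≤ P)).prod (Submodule.factor (inf_le_right : P ⊓ Q ≤ Q)))
    fun x => by
      induction x using Submodule.Quotient.induction_on with
      | H m => simp [D]
  have hF : Function.Bijective F := by
    constructor
    · rw [injective_iff_map_eq_zero]
      intro x hx
      induction x using Submodule.Quotient.induction_on with
      | H m =>
        have h : _ = (0 : (M ⧸ P) × (M ⧸ Q)) := congrArg Subtype.val hx
        simp [F, Prod.ext_iff, Submodule.Quotient.mk_eq_zero] at h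
        simpa [Submodule.Quotient.mk_eq_zero] using h
    · rintro ⟨⟨x, y⟩, h⟩
      obtain ⟨m, rfl⟩ := Submodule.Quotient.mk_surjective _ x
      obtain ⟨m', rfl⟩ := Submodule.Quotient.mk_surjective _ y
      simp [D, sub_eq_zero, Submodule.Quotient.eq, Submodule.mem_sup] at h
      obtain ⟨p, hp, q, hq, hpq⟩ := h
      refine ⟨Submodule.Quotient.mk (m - p), ?_⟩
      have : m - p - m' = q := by rw [sub_right_comm, ← hpq, add_sub_cancel_left]
      apply Subtype.ext
      show ((Submodule.Quotient.mk (m - p) : M ⧸ P), (Submodule.Quotient.mk (m - p) : M ⧸ Q)) = _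
      exact Prod.ext ((Submodule.Quotient.eq P).2 (by simpa using hp)) ((Submodule.Quotient.eq Q).2 (by rw [this]; exact hq))
  let E := LinearEquiv.ofBijective F hF
  refine IsPullback.of_isLimit' ⟨by ext x; rfl⟩ ?_
  refine CategoryTheory.Limits.PullbackCone.IsLimit.mk _ (fun s => ModuleCat.ofHom (E.symm.toLinearMap.comp
    (LinearMap.codRestrict (LinearMap.ker D) (s.fst.hom.prod s.snd.hom) fun x => ?_))) ?_ ?_ ?_
  · have := LinearMap.congr_fun (congrArg ModuleCat.Hom.hom s.condition) x
    simpa [D, sub_eq_zero] using this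
  · intro s; ext x
    exact congrArg (fun z : LinearMap.ker D => z.1.1) (E.apply_symm_apply ⟨(s.fst.hom x, s.snd.hom x), _⟩)
  · intro s; ext x
    exact congrArg (fun z : LinearMap.ker D => z.1.2) (E.apply_symm_apply ⟨(s.fst.hom x, s.snd.hom x), _⟩)
  · intro s m h1 h2; ext x
    apply E.injective
    apply Subtype.ext
    refine Eq.trans ?_ (congrArg Subtype.val (E.apply_symm_apply _)).symm
    exact Prod.ext (LinearMap.congr_fun (congrArg ModuleCat.Hom.hom h1) x)
      (LinearMap.congr_fun (congrArg ModuleCat.Hom.hom h2) x)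

end Groth.Agent.S15817
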