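import Groth.Statements.S15818
import Mathlib
-- import your own Groth.Agent.* helpers here

set_option autoImplicit false
universe u
open CategoryTheory
open Koszul

namespace Groth.Agent.S15818

/-- Let A be a commutative ring, f = (f_1, …, f_n) a finite sequence in A with Koszul complex K = K(f)
(mapping-cone model) and differentials ∂, q an integer, Z = Ker(∂^q) and B = Im(∂^{q-1}), so B ⊆ Z
inside K^q (this inclusion is carried as the hypothesis hBZ). Let x be a non-zero-divisor of A which
moreover acts injectively on the cohomology module Z/B (for Noetherian A this says that x lies in no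
associated prime of Z/B, which is how the published statement phrases it; the published argument
uses exactly the injectivity). Then the commuting square of quotient projections with corners Z/xB
(top left; it is isomorphic to the q-th cohomology of the Koszul complex of (x f_1, …, x f_n)), Z/xZ
= Z ⊗ A/(x) (top right), Z/B (bottom left) and Z/(B + xZ) = (Z/B) ⊗ A/(x) (bottom right) is
cartesian in the category of A-modules. All four corners are written as quotients of Z by the
preimages of the submodules xB, xZ, B, B + xZ of K^q. -/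
theorem result (A : Type u) [CommRing A] (l : List A) (q : ℤ)
    (K : CochainComplex (ModuleCat.{u} A) ℤ) (hK : K = Koszul.koszul A l)
    (hBZ : LinearMap.range (K.d (q - 1) q).hom ≤ LinearMap.ker (K.d q (q + 1)).hom)
    (x : A) (hx : x ∈ nonZeroDivisors A)
    (hxH : IsSMulRegular (↥(LinearMap.ker (K.d q (q + 1)).hom) ⧸ Submodule.comap (LinearMap.ker (K.d q (q + 1)).hom).subtype (LinearMap.range (K.d (q - 1) q).hom)) x) :
    IsPullback
      (ModuleCat.ofHom (Submodule.factor (Submodule.comap_mono (Submodule.smul_mono le_rfl hBZ) :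
        Submodule.comap (LinearMap.ker (K.d q (q + 1)).hom).subtype (Ideal.span {x} • LinearMap.range (K.d (q - 1) q).hom) ≤
          Submodule.comap (LinearMap.ker (K.d q (q + 1)).hom).subtype (Ideal.span {x} • LinearMap.ker (K.d q (q + 1)).hom))))
      (ModuleCat.ofHom (Submodule.factor (Submodule.comap_mono (Submodule.smul_le_right) :
        Submodule.comap (LinearMap.ker (K.d q (q + 1)).hom).subtype (Ideal.span {x} • LinearMap.range (K.d (q - 1) q).hom) ≤
          Submodule.comap (LinearMap.ker (K.d q (q + 1)).hom).subtype (LinearMap.range (K.d (q - 1) q).hom))))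
      (ModuleCat.ofHom (Submodule.factor (Submodule.comap_mono le_sup_right :
        Submodule.comap (LinearMap.ker (K.d q (q + 1)).hom).subtype (Ideal.span {x} • LinearMap.ker (K.d q (q + 1)).hom) ≤
          Submodule.comap (LinearMap.ker (K.d q (q + 1)).hom).subtype (LinearMap.range (K.d (q - 1) q).hom ⊔ Ideal.span {x} • LinearMap.ker (K.d q (q + 1)).hom))))
      (ModuleCat.ofHom (Submodule.factor (Submodule.comap_mono le_sup_left :
        Submodule.comap (LinearMap.ker (K.d q (q + 1)).hom).subtype (LinearMap.range (K.d (q - 1) q).hom) ≤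
          Submodule.comap (LinearMap.ker (K.d q (q + 1)).hom).subtype (LinearMap.range (K.d (q - 1) q).hom ⊔ Ideal.span {x} • LinearMap.ker (K.d q (q + 1)).hom)))) := by
  open CategoryTheory CategoryTheory.Limits in
  subst hK
  set B := LinearMap.range ((Koszul.koszul A l).d (q - 1) q).hom
  set Z := LinearMap.ker ((Koszul.koszul A l).d q (q + 1)).hom
  have hxm : ∀ (S : Submodule A ((Koszul.koszul A l).X q)) (w : (Koszul.koszul A l).X q),
      w ∈ Ideal.span {x} • S ↔ ∃ y ∈ S, x • y = w := fun S w => by
    rw [Submodule.ideal_span_singleton_smul, Submodule.mem_smul_pointwise_iff_exists]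
  let X1 := Submodule.comap Z.subtype (Ideal.span {x} • B)
  let X2 := Submodule.comap Z.subtype (Ideal.span {x} • Z)
  let X3 := Submodule.comap Z.subtype B
  let X4 := Submodule.comap Z.subtype (B ⊔ Ideal.span {x} • Z)
  let f2 : (Z ⧸ X1) →ₗ[A] Z ⧸ X2 := Submodule.factor (Submodule.comap_mono (Submodule.smul_mono le_rfl hBZ))
  let f3 : (Z ⧸ X1) →ₗ[A] Z ⧸ X3 := Submodule.factor (Submodule.comap_mono Submodule.smul_le_right)
  let g2 : (Z ⧸ X2) →ₗ[A] Z ⧸ X4 := Submodule.factor (Submodule.comap_mono le_sup_right)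
  let g3 : (Z ⧸ X3) →ₗ[A] Z ⧸ X4 := Submodule.factor (Submodule.comap_mono le_sup_left)
  let F := f2.prod f3
  have hinj : Function.Injective F := by
    refine (injective_iff_map_eq_zero F).2 fun z hz => ?_
    obtain ⟨z, rfl⟩ := Submodule.Quotient.mk_surjective _ z
    have h2 : (z : (Koszul.koszul A l).X q) ∈ Ideal.span {x} • Z :=
      (Submodule.Quotient.mk_eq_zero X2).1 (congrArg Prod.fst hz)
    have h3 : (z : (Koszul.koszul A l).X q) ∈ B := (Submodule.Quotient.mk_eq_zero X3).1 (congrArg Prod.snd hz)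
    obtain ⟨y, hy, hyz⟩ := (hxm Z _).1 h2
    refine (Submodule.Quotient.mk_eq_zero X1).2 ((hxm B _).2 ⟨y, ?_, hyz⟩)
    exact (Submodule.Quotient.mk_eq_zero X3).1 (isSMulRegular_iff_right_eq_zero_of_smul.1 hxH
      (Submodule.Quotient.mk (⟨y, hy⟩ : Z)) ((Submodule.Quotient.mk_eq_zero X3).2 (show x • y ∈ B by rw [hyz]; exact h3)))
  have hsur : ∀ a b, g2 a = g3 b → ∃ z, F z = (a, b) := by
    intro a b hab
    obtain ⟨a, rfl⟩ := Submodule.Quotient.mk_surjective _ a
    obtain ⟨b, rfl⟩ := Submodule.Quotient.mk_surjective _ b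
    have h : ((a - b : Z) : (Koszul.koszul A l).X q) ∈ B ⊔ Ideal.span {x} • Z :=
      (Submodule.Quotient.eq X4).1 hab
    obtain ⟨β, hβ, γ, hγ, hsum⟩ := Submodule.mem_sup.1 h
    have hγZ : γ ∈ Z := Submodule.smul_le_right hγ
    refine ⟨Submodule.Quotient.mk (a - ⟨γ, hγZ⟩), Prod.ext ?_ ?_⟩
    · refine (Submodule.Quotient.eq X2).2 ?_
      show ((a : (Koszul.koszul A l).X q) - γ) - a ∈ Ideal.span {x} • Z
      rw [sub_sub_cancel_left]
      exact Submodule.neg_mem _ hγ
    · refine (Submodule.Quotient.eq X3).2 ?_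
      show ((a : (Koszul.koszul A l).X q) - γ) - b ∈ B
      have : (β + γ : (Koszul.koszul A l).X q) = (a : (Koszul.koszul A l).X q) - b := hsum
      rw [show ((a : (Koszul.koszul A l).X q) - γ) - b = β by rw [sub_right_comm, ← this, add_sub_cancel_right]]
      exact hβ
  let T := (LinearEquiv.ofInjective F hinj).symm.toLinearMap
  have hw : (ModuleCat.ofHom f2) ≫ ModuleCat.ofHom g2 = ModuleCat.ofHom f3 ≫ ModuleCat.ofHom g3 := by
    refine ModuleCat.hom_ext (LinearMap.ext fun z => ?_)
    obtain ⟨z, rfl⟩ := Submodule.Quotient.mk_surjective _ z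
    rfl
  have hmem : ∀ (s : PullbackCone (ModuleCat.ofHom g2) (ModuleCat.ofHom g3)) (p : s.pt),
      ((s.fst p, s.snd p) : (Z ⧸ X2) × (Z ⧸ X3)) ∈ LinearMap.range F := fun s p =>
    hsur _ _ (ConcreteCategory.congr_hom s.condition p)
  let lift : ∀ s : PullbackCone (ModuleCat.ofHom g2) (ModuleCat.ofHom g3), s.pt ⟶ ModuleCat.of A (Z ⧸ X1) :=
    fun s => ModuleCat.ofHom (T ∘ₗ ((s.fst.hom.prod s.snd.hom).codRestrict (LinearMap.range F) (hmem s)))
  have hlift : ∀ s p, F (lift s p) = (s.fst p, s.snd p) := fun s p =>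
    congrArg Subtype.val ((LinearEquiv.ofInjective F hinj).apply_symm_apply ⟨_, hmem s p⟩)
  refine ⟨⟨hw⟩, ⟨PullbackCone.IsLimit.mk hw lift (fun s => ?_) (fun s => ?_) (fun s m h1 h2 => ?_)⟩⟩
  · exact ConcreteCategory.hom_ext _ _ fun p => congrArg Prod.fst (hlift s p)
  · exact ConcreteCategory.hom_ext _ _ fun p => congrArg Prod.snd (hlift s p)
  · exact ConcreteCategory.hom_ext _ _ fun p => hinj
      ((Prod.ext (ConcreteCategory.congr_hom h1 p) (ConcreteCategory.congr_hom h2 p)).trans (hlift s p).symm)

end Groth.Agent.S15818
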