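import Groth.Statements.S15823
import Groth.Agent.KFlatLib.Scheme.ProjAffineFlat
import Groth.Agent.KFlatLib.Scheme.FlatBCDerived
import Groth.Agent.KFlatLib.Scheme.TorAmpPush
import Groth.Agent.KFlatLib.Scheme.PullTensorCx
import Groth.Agent.MorLib.BddFib

set_option autoImplicit false
universe u
open CategoryTheory CategoryTheory.Limits AlgebraicGeometry
attribute [local instance] HasDerivedCategory.standard
open RegImm

namespace Groth.Agent.S15823
set_option linter.style.haveILetI false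
set_option linter.unusedSectionVars false
set_option backward.isDefEq.respectTransparency false
set_option backward.isDefEq.respectTransparency.types false

section
open Groth.Agent.KFlatLib

/-- Derived base change of the structure sheaf of a closed subscheme along a flat map. -/
theorem nonempty_bc_structure {A B C D : Scheme.{u}} {g' : A ⟶ B} {f' : A ⟶ C} {f : B ⟶ D} {g : C ⟶ D}
    (h : IsPullback g' f' f g) [IsAffineHom f] [Flat g] [DCoh.HasLpull g] :
    Nonempty ((DCoh.Lpull g).obj (DCoh.inD D ((Scheme.Modules.pushforward f).obj (Coh.structureModule B))) ≅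
      DCoh.inD C ((Scheme.Modules.pushforward f').obj (Coh.structureModule A))) := by
  haveI : IsAffineHom f' := MorphismProperty.of_isPullback (P := @IsAffineHom) h inferInstance
  haveI : Flat g' := MorphismProperty.of_isPullback (P := @Flat) h.flip inferInstance
  haveI := hasLpull g'
  haveI := hasRpush_scheme g
  haveI := hasRpush_scheme g'
  haveI := hasRpush_scheme f
  haveI := hasRpush_scheme f'
  obtain ⟨adjg⟩ := nonempty_lpull_rpush_adj g
  obtain ⟨adjg'⟩ := nonempty_lpull_rpush_adj g'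
  obtain ⟨e, he⟩ := FlatBC.exists_isIso_baseChangeApp h adjg adjg'
  haveI := he (DCoh.inD B (Coh.structureModule B)) (isQCohD_inD_of_isQCoh QCoh.isQCoh_structureModule)
  obtain ⟨a⟩ := AffineRpush.nonempty_rpush_inD f (Coh.structureModule B) QCoh.isQCoh_structureModule
  obtain ⟨b⟩ := nonempty_lpull_inD_of_flat g' (Coh.structureModule B)
  haveI : IsIso (SheafOfModules.pullbackObjUnitToUnit g'.toRingCatSheafHom) := inferInstance
  let u : (Scheme.Modules.pullback g').obj (Coh.structureModule B) ≅ Coh.structureModule A :=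
    asIso (SheafOfModules.pullbackObjUnitToUnit g'.toRingCatSheafHom)
  obtain ⟨c⟩ := AffineRpush.nonempty_rpush_inD f' (Coh.structureModule A) QCoh.isQCoh_structureModule
  exact ⟨(DCoh.Lpull g).mapIso a.symm ≪≫
    asIso (DCoh.baseChangeApp adjg adjg' e (DCoh.inD B (Coh.structureModule B))) ≪≫
    (DCoh.Rpush f').mapIso (b ≪≫ (DerivedCategory.singleFunctor A.Modules 0).mapIso u) ≪≫ c⟩

/-- The structure sheaf pushed forward along equal maps out of isomorphic schemes. -/
theorem nonempty_push_structure_iso {A A' D : Scheme.{u}} (θ : A ≅ A') (v : A ⟶ D) (v' : A' ⟶ D)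
    (hv : θ.hom ≫ v' = v) :
    Nonempty ((Scheme.Modules.pushforward v').obj (Coh.structureModule A') ≅
      (Scheme.Modules.pushforward v).obj (Coh.structureModule A)) := by
  subst hv
  let w : Coh.structureModule A' ⟶ (Scheme.Modules.pushforward θ.hom).obj (Coh.structureModule A) :=
    SheafOfModules.unitToPushforwardObjUnit θ.hom.toRingCatSheafHom
  haveI : IsIso w := Scheme.Modules.Hom.isIso_iff_isIso_app.mpr fun W =>
    (ConcreteCategory.isIso_iff_bijective _).mpr
      ((ConcreteCategory.isIso_iff_bijective (θ.hom.app W)).mp inferInstance)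
  exact ⟨(Scheme.Modules.pushforward v').mapIso (asIso w) ≪≫
    (Scheme.Modules.pushforwardComp θ.hom v').app _⟩

theorem nonempty_lpull_comp_id {A B : Scheme.{u}} (s : A ⟶ B) (p : B ⟶ A) (h : s ≫ p = 𝟙 A) (M : A.Modules)
    [DCoh.HasLpull s] [DCoh.HasLpull p] :
    Nonempty ((DCoh.Lpull s).obj ((DCoh.Lpull p).obj (DCoh.inD A M)) ≅ DCoh.inD A M) := by
  haveI := hasLpull (s ≫ p)
  obtain ⟨c⟩ := nonempty_lpull_comp s p
  haveI : Flat (s ≫ p) := by rw [h]; infer_instance
  obtain ⟨a⟩ := nonempty_lpull_inD_of_flat (s ≫ p) M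
  have e : Nonempty ((Scheme.Modules.pullback (s ≫ p)).obj M ≅ M) := by
    generalize hq : s ≫ p = q
    rw [hq] at h
    subst h
    exact ⟨(Scheme.Modules.pullbackId A).app M⟩
  exact ⟨c.app _ ≪≫ a ≪≫ (DerivedCategory.singleFunctor A.Modules 0).mapIso e.some⟩

end


/-- Let k be a field and X a scheme with a smooth morphism f : X → Spec k, and let i₁ : Y₁ → X and i₂ :
Y₂ → X be closed immersions which are regular (ideals locally generated by regular sequences). Write
X ×_k X for the fibre product of f with itself, Δ : X → X ×_k X for the diagonal, Y₁ ×_k Y₂ for the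
fibre product of the structure morphisms i₁ ≫ f and i₂ ≫ f, and i₁ × i₂ : Y₁ ×_k Y₂ → X ×_k X for
the induced closed immersion. Assume that the total left derived functors − ⊗^L i₂_*O_{Y₂} on D(O_X)
and LΔ^* : D(O_{X ×_k X}) → D(O_X) exist. Then the objects i₁_*O_{Y₁} ⊗^L i₂_*O_{Y₂} and LΔ^*((i₁ ×
i₂)_* O_{Y₁ ×_k Y₂}) of D(O_X) are isomorphic (existence of an isomorphism; the direct image along
the closed immersion i₁ × i₂ is the underived one, which is exact). (The published statement allows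
n subschemes and the n-fold product; this row is the case n = 2.) -/
theorem result (k : Type u) [Field k]
    {X Y₁ Y₂ : Scheme.{u}} (f : X ⟶ Spec (CommRingCat.of k)) [Smooth f]
    (i₁ : Y₁ ⟶ X) (i₂ : Y₂ ⟶ X) [IsClosedImmersion i₁] [IsClosedImmersion i₂]
    (h₁ : RegImm.IsRegularImmersion RegImm.Kind.regular i₁) (h₂ : RegImm.IsRegularImmersion RegImm.Kind.regular i₂)
    [DCoh.HasLTensorMod ((Scheme.Modules.pushforward i₂).obj (Coh.structureModule Y₂))]
    [DCoh.HasLpull (pullback.diagonal f)] :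
    Nonempty ((DCoh.LTensorMod ((Scheme.Modules.pushforward i₂).obj (Coh.structureModule Y₂))).obj
        (DCoh.inD X ((Scheme.Modules.pushforward i₁).obj (Coh.structureModule Y₁))) ≅
      (DCoh.Lpull (pullback.diagonal f)).obj (DCoh.inD (pullback f f)
        ((Scheme.Modules.pushforward (pullback.map (i₁ ≫ f) (i₂ ≫ f) f f i₁ i₂ (𝟙 (Spec (CommRingCat.of k))) (Category.comp_id _) (Category.comp_id _))).obj
          (Coh.structureModule (pullback (i₁ ≫ f) (i₂ ≫ f)))))) := by
  let p₁ := pullback.fst f f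
  let p₂ := pullback.snd f f
  let P := pullback f f
  haveI : Flat p₁ := inferInstanceAs (Flat (pullback.fst f f))
  haveI : Flat p₂ := inferInstanceAs (Flat (pullback.snd f f))
  let W₁ := pullback i₁ p₁
  let b : W₁ ⟶ Y₁ := pullback.fst i₁ p₁
  let a : W₁ ⟶ P := pullback.snd i₁ p₁
  haveI : IsClosedImmersion a := inferInstanceAs (IsClosedImmersion (pullback.snd i₁ p₁))
  have sq₁ : IsPullback b a i₁ p₁ := IsPullback.of_hasPullback i₁ p₁
  have sqg : IsPullback b (a ≫ p₂) (i₁ ≫ f) f := sq₁.paste_vert (IsPullback.of_hasPullback f f)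
  haveI : Flat (i₁ ≫ f) := Groth.Agent.MorLib.BF.flat_to_field (Field.toIsField k) _
  haveI : Flat (a ≫ p₂) := MorphismProperty.of_isPullback (P := @Flat) sqg inferInstance
  let W₂ := pullback i₂ (a ≫ p₂)
  let d : W₂ ⟶ Y₂ := pullback.fst i₂ (a ≫ p₂)
  let c : W₂ ⟶ W₁ := pullback.snd i₂ (a ≫ p₂)
  haveI : IsClosedImmersion c := inferInstanceAs (IsClosedImmersion (pullback.snd i₂ (a ≫ p₂)))
  have sq₂ : IsPullback d c i₂ (a ≫ p₂) := IsPullback.of_hasPullback i₂ (a ≫ p₂)
  have sqW : IsPullback (c ≫ b) d (i₁ ≫ f) (i₂ ≫ f) := sq₂.flip.paste_horiz sqg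
  let θ := sqW.isoPullback
  let M := pullback.map (i₁ ≫ f) (i₂ ≫ f) f f i₁ i₂ (𝟙 (Spec (CommRingCat.of k))) (Category.comp_id _)
    (Category.comp_id _)
  have hθ : θ.hom ≫ M = c ≫ a := by
    apply pullback.hom_ext
    · simp only [M, θ, pullback.lift_fst, Category.assoc, IsPullback.isoPullback_hom_fst_assoc]
      exact congrArg (c ≫ ·) sq₁.w
    · simp only [M, θ, pullback.lift_snd, Category.assoc, IsPullback.isoPullback_hom_snd_assoc]
      exact sq₂.w
  obtain ⟨eT⟩ := nonempty_push_structure_iso θ (c ≫ a) M hθ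
  haveI := Groth.Agent.KFlatLib.hasLpull p₁
  haveI := Groth.Agent.KFlatLib.hasLpull p₂
  haveI := Groth.Agent.KFlatLib.hasLpull a
  haveI := Groth.Agent.KFlatLib.hasLpull (a ≫ p₂)
  haveI := Groth.Agent.KFlatLib.hasRpush_scheme a
  let O₁ := (Scheme.Modules.pushforward i₁).obj (Coh.structureModule Y₁)
  let O₂ := (Scheme.Modules.pushforward i₂).obj (Coh.structureModule Y₂)
  let N := (Scheme.Modules.pushforward c).obj (Coh.structureModule W₂)
  have hN : Coh.IsQCoh N := Groth.Agent.QCoh.isQCoh_pushforward c Groth.Agent.QCoh.isQCoh_structureModule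
  obtain ⟨e₁⟩ := nonempty_bc_structure sq₁
  obtain ⟨e₂⟩ := nonempty_bc_structure sq₂
  obtain ⟨cp⟩ := Groth.Agent.KFlatLib.nonempty_lpull_comp a p₂
  obtain ⟨l₂⟩ := Groth.Agent.KFlatLib.nonempty_lpull_inD_of_flat p₂ O₂
  let S := (HomologicalComplex.single P.Modules (ComplexShape.up ℤ) 0).obj ((Scheme.Modules.pullback p₂).obj O₂)
  let K := (Groth.Agent.KFlatLib.kRes P).obj S
  have hKf : DCoh.IsKFlat K := Groth.Agent.KFlatLib.isKFlat_kRes S
  let eK : DerivedCategory.Q.obj K ≅ (DCoh.Lpull p₂).obj (DCoh.inD X O₂) :=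
    (Groth.Agent.KFlatLib.resQIso P).app S ≪≫
      ((DerivedCategory.singleFunctorIsoCompQ P.Modules 0).app _).symm ≪≫ l₂.symm
  have hKq : DCoh.IsQCohD (DCoh.toD P K) := Groth.Agent.KFlatLib.isQCohD_of_iso (eK ≪≫ l₂).symm
    (Groth.Agent.KFlatLib.isQCohD_inD_of_isQCoh (Groth.Agent.QCoh.isQCoh_pullback p₂
      (Groth.Agent.QCoh.isQCoh_pushforward i₂ Groth.Agent.QCoh.isQCoh_structureModule)))
  let N' := (HomologicalComplex.single W₁.Modules (ComplexShape.up ℤ) 0).obj N
  haveI := Groth.Agent.KFlatLib.hasLTensorCx K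
  haveI := Groth.Agent.KFlatLib.hasLTensorCx N'
  obtain ⟨pf⟩ := Groth.Agent.KFlatLib.nonempty_projection_DQCoh a (DCoh.inD W₁ (Coh.structureModule W₁))
    (Groth.Agent.KFlatLib.isQCohD_inD_of_isQCoh Groth.Agent.QCoh.isQCoh_structureModule) K hKq N'
    ⟨((DerivedCategory.singleFunctorIsoCompQ W₁.Modules 0).app N).symm ≪≫ e₂.symm ≪≫ (cp.app _).symm ≪≫
      (DCoh.Lpull a).mapIso eK.symm⟩
  obtain ⟨ra⟩ := Groth.Agent.KFlatLib.AffineRpush.nonempty_rpush_inD a (Coh.structureModule W₁)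
    Groth.Agent.QCoh.isQCoh_structureModule
  obtain ⟨tN⟩ := Groth.Agent.KFlatLib.nonempty_ltensor_inD (Groth.Agent.KFlatLib.isFlat_structureModule (X := W₁)) N
  obtain ⟨rN⟩ := Groth.Agent.KFlatLib.AffineRpush.nonempty_rpush_inD a N hN
  let eT' : DCoh.inD P ((Scheme.Modules.pushforward M).obj (Coh.structureModule _)) ≅
      (DCoh.LTensorCx K).obj ((DCoh.Lpull p₁).obj (DCoh.inD X O₁)) :=
    (DerivedCategory.singleFunctor P.Modules 0).mapIso
      (eT ≪≫ ((Scheme.Modules.pushforwardComp c a).app _).symm) ≪≫ rN.symm ≪≫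
      (DCoh.Rpush a).mapIso (tN ≪≫ (DerivedCategory.singleFunctor W₁.Modules 0).mapIso
        (Groth.Agent.SheafHomX.tenUnitIso N)).symm ≪≫
      pf.symm ≪≫ (DCoh.LTensorCx K).mapIso (ra ≪≫ e₁.symm)
  let Δ := pullback.diagonal f
  let K' := (Groth.Agent.KFlatLib.pullCx Δ).obj K
  haveI := Groth.Agent.KFlatLib.hasLTensorCx K'
  haveI := Groth.Agent.KFlatLib.hasLTensorCx ((HomologicalComplex.single X.Modules (ComplexShape.up ℤ) 0).obj O₂)
  obtain ⟨lt⟩ := Groth.Agent.KFlatLib.nonempty_lpull_ltensor Δ K hKf ((DCoh.Lpull p₁).obj (DCoh.inD X O₁))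
  obtain ⟨d₁⟩ := nonempty_lpull_comp_id Δ p₁ (pullback.diagonal_fst f) O₁
  obtain ⟨d₂⟩ := nonempty_lpull_comp_id Δ p₂ (pullback.diagonal_snd f) O₂
  obtain ⟨cc⟩ := Groth.Agent.KFlatLib.nonempty_LTensorCx_congr_D (P := K')
    (E := (HomologicalComplex.single X.Modules (ComplexShape.up ℤ) 0).obj O₂)
    ((Groth.Agent.KFlatLib.lpullIso Δ hKf).symm ≪≫ (DCoh.Lpull Δ).mapIso eK ≪≫ d₂ ≪≫
      (DerivedCategory.singleFunctorIsoCompQ X.Modules 0).app O₂)
  obtain ⟨fin⟩ := Groth.Agent.KFlatLib.nonempty_ltensorMod_ltensorCx O₂ (DCoh.inD X O₁)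
  exact ⟨fin ≪≫ cc.symm.app _ ≪≫ (DCoh.LTensorCx K').mapIso d₁.symm ≪≫ lt.symm ≪≫
    (DCoh.Lpull Δ).mapIso eT'.symm⟩


end Groth.Agent.S15823
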