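import Groth.Statements.S15824
import Groth.Agent.H23.DiagReg
import Groth.Agent.LC.ExtDim

set_option autoImplicit false
universe u
open CategoryTheory AlgebraicGeometry
open RegImm

namespace Groth.Agent.S15824
theorem dim_zero_aux {A B : Type u} [CommRing A] [CommRing B] [LocCoh.IsCohenMacaulayLocalRing A] [IsLocalRing B]
    (ψ : A →+* B) (hψ : Function.Surjective ψ) (rs : List A) (hreg : RingTheory.Sequence.IsRegular A rs)
    (hker : RingHom.ker ψ = Ideal.ofList rs) (hz : IsAssociatedPrime (IsLocalRing.maximalIdeal B) B) :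
    ringKrullDim B = 0 := by
  let I := Ideal.ofList rs
  have hkI : RingHom.ker ψ = I := hker
  have hI : I ≠ ⊤ := hkI ▸ RingHom.ker_ne_top ψ
  have hmem : ∀ r ∈ rs, r ∈ IsLocalRing.maximalIdeal A := fun r hr =>
    IsLocalRing.le_maximalIdeal hI (Ideal.subset_span hr)
  have hCM : LocCoh.IsCohenMacaulayModule A A := LocCoh.IsCohenMacaulayLocalRing.supportDim_eq_depth
  have hM := Groth.Agent.LC.isCM_quot_ofList A hCM hreg.toIsWeaklyRegular hmem
  rw [smul_eq_mul, Ideal.mul_top] at hM
  haveI : IsNoetherianRing B := isNoetherianRing_of_surjective _ _ ψ hψ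
  obtain ⟨-, b, hb⟩ := Groth.Agent.Alg6.mem_ass_iff.1 (show IsLocalRing.maximalIdeal B ∈ associatedPrimes B B from hz)
  obtain ⟨a, rfl⟩ := hψ b
  haveI : IsLocalHom ψ := Function.Surjective.isLocalHom ψ hψ
  have hass : IsLocalRing.maximalIdeal A ∈ associatedPrimes A (A ⧸ I) := by
    refine Groth.Agent.Alg6.mem_ass_iff.2 ⟨inferInstance, Ideal.Quotient.mk I a, fun c => ?_⟩
    rw [show c • Ideal.Quotient.mk I a = Ideal.Quotient.mk I (c * a) from rfl, Ideal.Quotient.eq_zero_iff_mem,
      show c * a ∈ I ↔ ψ (c * a) = 0 from hkI ▸ RingHom.mem_ker, map_mul, ← smul_eq_mul, ← hb]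
    simp only [IsLocalRing.mem_maximalIdeal, mem_nonunits_iff, isUnit_map_iff]
  have h0 := Groth.Agent.LC.coheight_eq_of_ass_of_isCM (A ⧸ I) hM (p := IsLocalRing.closedPoint A) hass
  rw [show Order.coheight (IsLocalRing.closedPoint A) = 0 from Order.coheight_eq_zero.2 (fun q hq =>
    le_of_eq_of_le rfl (IsLocalRing.le_maximalIdeal q.isPrime.ne_top))] at h0
  rw [Module.supportDim_quotient_eq_ringKrullDim] at h0
  rw [← ringKrullDim_eq_of_ringEquiv ((Ideal.quotEquivOfEq hker).symm.trans (RingHom.quotientKerEquivOfSurjective hψ)),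
    ← h0]
  rfl



/-- Let X be a locally Noetherian scheme all of whose local rings are Cohen–Macaulay, and i : Z → X a
closed immersion which is regular (around every point, on some affine open of X the ideal of Z is
generated by a regular sequence). Then Z has no embedded points (each associated point of Z is
generic in an irreducible component): for every point z of Z, if the maximal ideal of O_{Z,z} is an
associated prime of O_{Z,z} (as a module over itself), then O_{Z,z} has Krull dimension 0. (The
published statement takes X Noetherian and Z a local complete intersection subscheme; the assertion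
is local on X and uses only that the ideal of Z is locally generated by a regular sequence.) -/
theorem result {X Z : Scheme.{u}}
    [IsLocallyNoetherian X] (hCM : ∀ x : X, LocCoh.IsCohenMacaulayLocalRing (X.presheaf.stalk x))
    (i : Z ⟶ X) [IsClosedImmersion i] (hi : RegImm.IsRegularImmersion RegImm.Kind.regular i) (z : Z)
    (hz : IsAssociatedPrime (IsLocalRing.maximalIdeal (Z.presheaf.stalk z)) (Z.presheaf.stalk z)) :
    ringKrullDim (Z.presheaf.stalk z) = 0 := by
  obtain ⟨U, hzU, hcl, rs, hrs, hker⟩ := hi.2 z
  obtain ⟨rs', -, hreg, hker'⟩ := Groth.Agent.H23.DiagReg.exists_stalk_seq i U z hzU rs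
    (RingTheory.Sequence.IsRegular.toIsWeaklyRegular hrs) hker
  haveI := hCM (i z)
  exact dim_zero_aux (i.stalkMap z).hom (i.stalkMap_surjective z) rs' hreg hker' hz


end Groth.Agent.S15824
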