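import Groth.Statements.S15825
import Groth.Agent.CMInter.Scheme
import Groth.Agent.CMInter.Away

set_option autoImplicit false
universe u
open CategoryTheory CategoryTheory.Limits AlgebraicGeometry
open RegImm

namespace Groth.Agent.S15825

/-- Let X be a locally Noetherian scheme all of whose local rings are Cohen–Macaulay, and let iY : Y → X
and iZ : Z → X be closed immersions which are regular of constant codimension a and b respectively
(around every point, on some affine open of X the ideal is generated by a regular sequence of length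
a, resp. b). Let W = Y ×_X Z be the scheme-theoretic intersection, with closed immersion w = pr_1 ≫
iY : W → X, and suppose W has the expected codimension: at every point of W the local ring of X has
Krull dimension at least a + b. Then w is a regular immersion of codimension a + b (so W is again a
local complete intersection in X), and the fibre square formed by W, Y, Z, X is Tor-independent: for
every affine open U of X and every i > 0 the module Tor_i over Γ(X, U) of Γ(Y, iY⁻¹U) and Γ(Z,
iZ⁻¹U) (module structures through iY and iZ; Tor computed by resolving the second argument) is zero.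
(The published statement is phrased with local complete intersections in a Cohen–Macaulay scheme and
the global codimension of Y ∩ Z; regular sequences of the stated lengths and the pointwise dimension
bound express the same hypotheses, and the vanishing of these Tor modules on affine opens is
equivalent to the vanishing of the stalkwise Tor groups at the points of W.) -/
theorem result {X Y Z : Scheme.{u}}
    [IsLocallyNoetherian X] (hCM : ∀ x : X, LocCoh.IsCohenMacaulayLocalRing (X.presheaf.stalk x))
    (iY : Y ⟶ X) (iZ : Z ⟶ X) [IsClosedImmersion iY] [IsClosedImmersion iZ] (a b : ℕ)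
    (hY : RegImm.IsRegularImmersionOfCodim RegImm.Kind.regular a iY)
    (hZ : RegImm.IsRegularImmersionOfCodim RegImm.Kind.regular b iZ)
    (hcodim : ∀ w : ↥(pullback iY iZ), ((a + b : ℕ) : WithBot ℕ∞) ≤
      ringKrullDim (X.presheaf.stalk ((pullback.fst iY iZ ≫ iY).base w))) :
    RegImm.IsRegularImmersionOfCodim RegImm.Kind.regular (a + b) (pullback.fst iY iZ ≫ iY) ∧
      ∀ (U : X.Opens), IsAffineOpen U → ∀ (i : ℕ), 0 < i →
        Subsingleton (@DRing.Tor Γ(X, U) _ i Γ(Y, iY ⁻¹ᵁ U) Γ(Z, iZ ⁻¹ᵁ U) _ (iY.app U).hom.toModule _ (iZ.app U).hom.toModule) := by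
  refine ⟨⟨inferInstance, fun w => ?_⟩, fun U hU i hi => ?_⟩
  · obtain ⟨U, hU, hx, -⟩ := exists_isAffineOpen_mem_and_subset (X := X)
      (x := (pullback.fst iY iZ ≫ iY) w) (U := ⊤) trivial
    haveI : IsNoetherianRing Γ(X, U) := IsLocallyNoetherian.component_noetherian ⟨U, hU⟩
    let P := hU.primeIdealOf ⟨_, hx⟩
    have hP : hU.fromSpec P = (pullback.fst iY iZ ≫ iY) w := hU.fromSpec_primeIdealOf ⟨_, hx⟩
    have hI : RingHom.ker (iY.app U).hom ≤ P.asIdeal :=
      (CMInter.mem_range_iff iY hU P).1 (hP ▸ ⟨pullback.fst iY iZ w, rfl⟩)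
    have hJ : RingHom.ker (iZ.app U).hom ≤ P.asIdeal :=
      (CMInter.mem_range_iff iZ hU P).1 (hP ▸ ⟨pullback.snd iY iZ w, by
        rw [pullback.condition]; rfl⟩)
    obtain ⟨ys, zs, hyl, hzl, hys, hzs, -, hreg⟩ := CMInter.exists_seqs hCM iY iZ hY hZ hcodim hU P.asIdeal hI hJ
    obtain ⟨g, hg, rs, hrl, hrs, hrsI⟩ := CMInter.exists_away_isRegular_of_atPrime
      (RingHom.ker (iY.app U).hom ⊔ RingHom.ker (iZ.app U).hom) P.asIdeal (sup_le hI hJ)
      (fun j : Fin (zs ++ ys).length => (zs ++ ys)[j]) (by rwa [show List.ofFn (fun j : Fin (zs ++ ys).length => (zs ++ ys)[j]) = zs ++ ys from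
        List.ext_getElem (by simp) fun n h1 h2 => by simp])
      (by
        rw [Ideal.map_sup, hys, hzs, sup_comm, ← Ideal.ofList_append, Ideal.ofList]
        exact congrArg Ideal.span (Set.ext fun r => by simp [List.mem_iff_getElem, Fin.exists_iff, eq_comm]))
    have hV : IsAffineOpen (X.basicOpen g) := hU.basicOpen g
    haveI := hU.isLocalization_basicOpen g
    let e := IsLocalization.algEquiv (Submonoid.powers g) (Localization.Away g) Γ(X, X.basicOpen g)
    refine ⟨⟨X.basicOpen g, hV⟩, ?_, inferInstance, rs.map e.toRingEquiv, ?_, ?_, ?_⟩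
    · rw [← hP]
      exact (hU.fromSpec_preimage_basicOpen g).ge ((PrimeSpectrum.mem_basicOpen g P).2 hg)
    · rw [List.length_map, hrl]
      simp [hyl, hzl, add_comm]
    · exact (e.toRingEquiv.toAddEquiv.isRegular_congr
        (List.forall₂_map_right_iff.2 (List.forall₂_same.2 fun r _ x => map_mul e r x))).1 hrs
    · rw [← CMInter.ideal_ker_inter iY iZ U hU, ← Scheme.Hom.ker_apply _ ⟨U, hU⟩] at hrsI
      rw [← Scheme.Hom.ker_apply _ ⟨X.basicOpen g, hV⟩,
        show (pullback.fst iY iZ ≫ iY).ker.ideal ⟨X.basicOpen g, hV⟩ = _ from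
          ((pullback.fst iY iZ ≫ iY).ker.map_ideal_basicOpen ⟨U, hU⟩ g).symm,
        show Ideal.ofList (rs.map e.toRingEquiv) = (Ideal.ofList rs).map e.toRingEquiv.toRingHom from
        (Ideal.map_ofList e.toRingEquiv.toRingHom rs).symm, hrsI, Ideal.map_map]
      refine congrArg (fun φ => Ideal.map φ _) (RingHom.ext fun r => (e.commutes r).symm)
  · let φ := (iY.app U).hom
    let ψ := (iZ.app U).hom
    letI := φ.toModule
    letI := ψ.toModule
    let f : Γ(X, U) →ₗ[Γ(X, U)] Γ(Y, iY ⁻¹ᵁ U) :=
      { toFun := φ, map_add' := map_add φ, map_smul' := fun r x => map_mul φ r x }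
    let f' : Γ(X, U) →ₗ[Γ(X, U)] Γ(Z, iZ ⁻¹ᵁ U) :=
      { toFun := ψ, map_add' := map_add ψ, map_smul' := fun r x => map_mul ψ r x }
    let eY : (Γ(X, U) ⧸ RingHom.ker φ) ≃ₗ[Γ(X, U)] Γ(Y, iY ⁻¹ᵁ U) :=
      (Submodule.quotEquivOfEq _ (LinearMap.ker f) rfl).trans (f.quotKerEquivOfSurjective (iY.app_surjective U hU))
    let eZ : (Γ(X, U) ⧸ RingHom.ker ψ) ≃ₗ[Γ(X, U)] Γ(Z, iZ ⁻¹ᵁ U) :=
      (Submodule.quotEquivOfEq _ (LinearMap.ker f') rfl).trans (f'.quotKerEquivOfSurjective (iZ.app_surjective U hU))
    haveI := CMInter.subsingleton_tor (RingHom.ker φ) (RingHom.ker ψ) i hi fun p hp hIp hJp => by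
      obtain ⟨ys, zs, -, -, h1, h2, h3, h4⟩ := CMInter.exists_seqs hCM iY iZ hY hZ hcodim hU p hIp hJp
      exact ⟨ys, zs, h1, h2, h3, h4⟩
    exact ((((Tor (ModuleCat.{u} Γ(X, U)) i).mapIso eY.toModuleIso).app _) ≪≫
      (((Tor (ModuleCat.{u} Γ(X, U)) i).obj _).mapIso eZ.toModuleIso)).toLinearEquiv.symm.toEquiv.subsingleton


end Groth.Agent.S15825
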