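import Groth.Statements.S15832
import Mathlib


set_option autoImplicit false
universe u
open TopGrp

namespace Groth.Agent.S15832

/-- For a group T with a topology, let B be the family of two-sided translates x Γ y, where Γ runs over
the subgroups of T open in the given topology and x, y over T; the topology generated by B makes T a
topological group in which every neighbourhood of the identity contains a subgroup open for that
topology. (The published statement is for the free topological product of two Noohi groups whose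
open subgroups form a basis of neighbourhoods of the identity; the argument uses only the group
structure and the chosen family of subgroups, so the row is stated for an arbitrary group with a
topology. The published conventions include Hausdorffness in the word topological group; this row
does not assert it, and the published argument does not prove it.) -/
theorem result (T : Type u) [Group T]
    [TopologicalSpace T] :
    @NonarchimedeanGroup T _ (TopologicalSpace.generateFrom
      {S : Set T | ∃ (Γ : OpenSubgroup T) (x y : T), S = (fun g : T => x * g * y) '' (Γ : Set T)}) := by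
  set B : Set (Set T) := {S : Set T | ∃ (Γ : OpenSubgroup T) (x y : T), S = (fun g : T => x * g * y) '' (Γ : Set T)} with hB
  have hopen : ∀ (Γ : OpenSubgroup T) (x y : T),
      @IsOpen T (TopologicalSpace.generateFrom B) ((fun g : T => x * g * y) '' (Γ : Set T)) :=
    fun Γ x y => TopologicalSpace.GenerateOpen.basic _ ⟨Γ, x, y, rfl⟩
  have key : ∀ U : Set T, @IsOpen T (TopologicalSpace.generateFrom B) U → (1 : T) ∈ U →
      ∃ H : Subgroup T, @IsOpen T (TopologicalSpace.generateFrom B) (H : Set T) ∧ (H : Set T) ⊆ U := by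
    intro U hU
    induction hU with
    | basic S hS =>
      obtain ⟨Γ, x, y, rfl⟩ := hS
      rintro ⟨g, hg, hgy⟩
      refine ⟨Γ.toSubgroup.map (MulAut.conj x).toMonoidHom, ?_, ?_⟩
      · have : ((Γ.toSubgroup.map (MulAut.conj x).toMonoidHom : Subgroup T) : Set T) =
            (fun g : T => x * g * x⁻¹) '' (Γ : Set T) := by
          rw [Subgroup.coe_map]; rfl
        rw [this]; exact hopen Γ x x⁻¹
      · rintro _ ⟨h, hh, rfl⟩
        refine ⟨h * g, Γ.mul_mem hh hg, ?_⟩
        have hy : y = (x * g)⁻¹ := eq_inv_of_mul_eq_one_right hgy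
        simp only [MulEquiv.coe_toMonoidHom, MulAut.conj_apply]
        rw [hy]; group
    | univ => exact fun _ => ⟨⊤, by simp, by simp⟩
    | inter U V _ _ ihU ihV =>
      rintro ⟨h1, h2⟩
      obtain ⟨H, hH, hHU⟩ := ihU h1
      obtain ⟨K, hK, hKV⟩ := ihV h2
      exact ⟨H ⊓ K, by rw [Subgroup.coe_inf]; exact @IsOpen.inter T (TopologicalSpace.generateFrom B) _ _ hH hK,
        fun z hz => ⟨hHU hz.1, hKV hz.2⟩⟩
    | sUnion S _ ih =>
      rintro ⟨U, hUS, h1⟩
      obtain ⟨H, hH, hHU⟩ := ih U hUS h1
      exact ⟨H, hH, hHU.trans (Set.subset_sUnion_of_mem hUS)⟩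
  letI t : TopologicalSpace T := TopologicalSpace.generateFrom B
  haveI : ContinuousMul T := ⟨by
    refine continuous_generateFrom_iff.mpr ?_
    rintro S ⟨Γ, x, y, rfl⟩
    rw [isOpen_iff_forall_mem_open]
    rintro ⟨a, b⟩ ⟨g, hg, hab⟩
    simp only at hab
    refine ⟨((fun h : T => x * h * (x⁻¹ * a)) '' (SetLike.coe Γ)) ×ˢ ((fun h : T => (x⁻¹ * a)⁻¹ * h * y) '' (SetLike.coe Γ)),
      ?_, (hopen Γ x (x⁻¹ * a)).prod (hopen Γ (x⁻¹ * a)⁻¹ y), ⟨⟨1, Γ.one_mem, by group⟩, ⟨g, hg, ?_⟩⟩⟩
    · rintro ⟨a', b'⟩ ⟨⟨h₁, hh₁, rfl⟩, ⟨h₂, hh₂, rfl⟩⟩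
      exact ⟨h₁ * h₂, Γ.mul_mem hh₁ hh₂, by group⟩
    · simp only
      have hb : b = a⁻¹ * (x * g * y) := by rw [hab]; group
      rw [hb]; group⟩
  haveI : ContinuousInv T := ⟨by
    refine continuous_generateFrom_iff.mpr ?_
    rintro S ⟨Γ, x, y, rfl⟩
    have : (fun a : T => a⁻¹) ⁻¹' ((fun g : T => x * g * y) '' (SetLike.coe Γ)) =
        (fun g : T => y⁻¹ * g * x⁻¹) '' (SetLike.coe Γ) := by
      ext a
      constructor
      · rintro ⟨g, hg, hga⟩
        refine ⟨g⁻¹, Γ.inv_mem hg, ?_⟩
        simp only at hga ⊢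
        rw [← inv_inv a, ← hga]; group
      · rintro ⟨g, hg, rfl⟩
        exact ⟨g⁻¹, Γ.inv_mem hg, by group⟩
    rw [this]; exact hopen Γ y⁻¹ x⁻¹⟩
  haveI : IsTopologicalGroup T := { }
  refine ⟨fun U hU => ?_⟩
  obtain ⟨V, hVU, hV, h1⟩ := mem_nhds_iff.mp hU
  obtain ⟨H, hH, hHV⟩ := key V hV h1
  exact ⟨⟨H, hH⟩, hHV.trans hVU⟩


end Groth.Agent.S15832
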