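import Groth.Statements.S15833
import Mathlib.AlgebraicGeometry.ValuativeCriterion

set_option autoImplicit false
universe u
open EtBase

namespace Groth.Agent.S15833

open CategoryTheory CategoryTheory.Limits AlgebraicGeometry

private theorem exists_factor {X X₀ T : Scheme.{u}} (i : X₀ ⟶ X) [IsClosedImmersion i] [Surjective i]
    [IsReduced T] (g : T ⟶ X) : ∃ j : T ⟶ X₀, j ≫ i = g := by
  have : IsIso (pullback.fst g i) := isIso_of_isClosedImmersion_of_surjective _
  exact ⟨inv (pullback.fst g i) ≫ pullback.snd g i, by
    rw [Category.assoc, ← pullback.condition, IsIso.inv_hom_id_assoc]⟩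

/-- Lifts through a pullback projection along a monomorphism are lifts downstairs. -/
private noncomputable def liftEquiv {X X₀ Y A B : Scheme.{u}} (i : X₀ ⟶ X) [Mono i] (f : Y ⟶ X)
    {ι : A ⟶ B} {a : A ⟶ pullback f i} {b : B ⟶ X₀} {a' : A ⟶ Y} {b' : B ⟶ X}
    (h : CommSq a ι (pullback.snd f i) b) (h' : CommSq a' ι f b')
    (ha : a ≫ pullback.fst f i = a') (hb : b ≫ i = b') : h.LiftStruct ≃ h'.LiftStruct where
  toFun l := ⟨l.l ≫ pullback.fst f i, by rw [← Category.assoc, l.fac_left, ha], by
    rw [Category.assoc, pullback.condition, ← Category.assoc, l.fac_right, hb]⟩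
  invFun l := ⟨pullback.lift l.l b (by rw [l.fac_right, hb]), by
    ext
    · rw [Category.assoc, pullback.lift_fst, l.fac_left, ha]
    · rw [Category.assoc, pullback.lift_snd, h.w], pullback.lift_snd _ _ _⟩
  left_inv l := by
    ext1
    dsimp
    ext
    · rw [pullback.lift_fst]
    · rw [pullback.lift_snd, l.fac_right]
  right_inv l := by
    ext1
    exact pullback.lift_fst _ _ _

open CategoryTheory CategoryTheory.Limits AlgebraicGeometry in
/-- Let i : X₀ ⟶ X be a surjective closed immersion of schemes and f : Y ⟶ X a morphism. Then f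
satisfies the valuative criterion (existence and uniqueness of a lift in every valuative square,
over arbitrary valuation rings) if and only if its base change Y ×_X X₀ ⟶ X₀ does. (The published
statement takes X locally Noetherian and connected, X₀ the reduced closed subscheme with the same
underlying space and f étale, and combines this step with the equivalence between étale schemes over
X and over X₀ to identify the geometric coverings, i.e. the étale morphisms satisfying the valuative
criterion, of X and of X₀; the argument for this step uses only that X₀ ⟶ X is a surjective closed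
immersion and that valuation rings are reduced.) -/
theorem result {X X₀ Y : Scheme.{u}} (i : X₀ ⟶ X)
    [IsClosedImmersion i] [Surjective i] (f : Y ⟶ X) :
    ValuativeCriterion f ↔ ValuativeCriterion (pullback.snd f i) := by
  constructor
  · intro H S
    have h' : CommSq (S.i₁ ≫ pullback.fst f i)
        (Spec.map (CommRingCat.ofHom (algebraMap S.R S.K))) f (S.i₂ ≫ i) :=
      ⟨by rw [Category.assoc, pullback.condition, ← Category.assoc, S.commSq.w, Category.assoc]⟩
    obtain ⟨hu⟩ := H ⟨S.R, S.K, S.i₁ ≫ pullback.fst f i, S.i₂ ≫ i, h'⟩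
    exact ⟨@Equiv.unique _ _ hu (liftEquiv i f S.commSq h' rfl rfl)⟩
  · intro H S
    obtain ⟨j, hj⟩ := exists_factor i S.i₂
    have w : S.i₁ ≫ f = (Spec.map (CommRingCat.ofHom (algebraMap S.R S.K)) ≫ j) ≫ i := by
      rw [Category.assoc, hj, S.commSq.w]
    have h : CommSq (pullback.lift S.i₁ (Spec.map (CommRingCat.ofHom (algebraMap S.R S.K)) ≫ j) w)
        (Spec.map (CommRingCat.ofHom (algebraMap S.R S.K))) (pullback.snd f i) j :=
      ⟨pullback.lift_snd _ _ _⟩
    obtain ⟨hu⟩ := H ⟨S.R, S.K, _, j, h⟩
    exact ⟨@Equiv.unique _ _ hu (liftEquiv i f h S.commSq (pullback.lift_fst _ _ _) hj).symm⟩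

end Groth.Agent.S15833
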