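import Groth.Statements.S15835
import Mathlib
-- import your own Groth.Agent.* helpers here

set_option autoImplicit false
universe u
open SprIso

namespace Groth.Agent.S15835

/-- Over a commutative ring R of prime characteristic p, let n ≥ 1 and let p^m be the largest power of p
dividing n. The locus of n × n matrices with characteristic polynomial t^n is stable under adding a
scalar matrix a·1 with n·a = 0 exactly when a^(p^m) = 0: for X with characteristic polynomial t^n
and such an a, the matrix X + a·1 has characteristic polynomial t^n if and only if a^(p^m) = 0.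
(Stated on points with values in an arbitrary ring of characteristic p; the scheme-theoretic
assertion about the nilpotent scheme of SL_n is this statement for all such rings.) -/
theorem result (p : ℕ) [Fact p.Prime] (R : Type u) [CommRing R]
    [CharP R p] (n : ℕ) (hn : 0 < n) (X : Matrix (Fin n) (Fin n) R) (hX : X.charpoly = Polynomial.X ^ n)
    (a : R) (ha : (n : R) * a = 0) :
    (X + Matrix.scalar (Fin n) a).charpoly = Polynomial.X ^ n ↔ a ^ (p ^ padicValNat p n) = 0 := by
  set q := p ^ padicValNat p n with hq
  obtain ⟨r, hr⟩ : q ∣ n := pow_padicValNat_dvd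
  have hrp : ¬ p ∣ r := fun ⟨s, hs⟩ => pow_succ_padicValNat_not_dvd (p := p) hn.ne'
    ⟨s, by rw [pow_succ, ← hq, mul_assoc, ← hs, ← hr]⟩
  have hq0 : 0 < q := pow_pos (Fact.out : p.Prime).pos _
  have h1 : (X + Matrix.scalar (Fin n) a).charpoly = Polynomial.expand R q ((Polynomial.X - Polynomial.C (a ^ q)) ^ r) := by
    have := Matrix.charpoly_sub_scalar X (-a)
    rw [map_neg, sub_neg_eq_add] at this
    rw [this, hX, map_pow, map_sub, Polynomial.expand_X, Polynomial.expand_C, map_pow,
      ← sub_pow_char_pow, ← pow_mul, ← hr]
    simp [sub_eq_add_neg]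
  have h2 : (Polynomial.X : Polynomial R) ^ n = Polynomial.expand R q (Polynomial.X ^ r) := by
    rw [map_pow, Polynomial.expand_X, ← pow_mul, ← hr]
  rw [h1, h2, (Polynomial.expand_injective hq0).eq_iff]
  constructor
  · intro h
    have hr0 : r ≠ 0 := fun h0 => hrp (h0 ▸ dvd_zero p)
    have := congrArg (fun f => Polynomial.coeff f (r - 1)) h
    simp only [sub_eq_add_neg, ← Polynomial.C_neg, Polynomial.coeff_X_add_C_pow,
      Polynomial.coeff_X_pow] at this
    rw [if_neg (by omega), show r - (r - 1) = 1 by omega, pow_one,
      show r.choose (r - 1) = r by rw [Nat.choose_symm (by omega), Nat.choose_one_right],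
      neg_mul, neg_eq_zero] at this
    exact (((CharP.isUnit_natCast_iff Fact.out).mpr hrp).mul_left_eq_zero).mp this
  · intro h
    simp [h]

end Groth.Agent.S15835
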