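import Groth.Statements.S15836
import Mathlib.RingTheory.PicardGroup
import Mathlib.RingTheory.Valuation.LocalSubring
import Mathlib.RingTheory.MvPolynomial.Homogeneous
import Mathlib.RingTheory.MvPolynomial.Ideal
-- import your own Groth.Agent.* helpers here

set_option autoImplicit false
universe u
open SprIso

namespace Groth.Agent.S15836

open Polynomial

/-- Gauss' lemma for a valuation: if `f * g` has integral coefficients, so has every product of a
coefficient of `f` and a coefficient of `g`. -/
lemma valuation_coeff_mul_coeff_le_one {K Γ : Type*} [Field K] [LinearOrderedCommGroupWithZero Γ]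
    (v : Valuation K Γ) (f g : K[X]) (h : ∀ n, v ((f * g).coeff n) ≤ 1) (i j : ℕ) :
    v (f.coeff i * g.coeff j) ≤ 1 := by
  classical
  have key : ∀ f : K[X], ∃ a, (∀ k, v (f.coeff k) ≤ v (f.coeff a)) ∧
      ∀ k < a, v (f.coeff k) < v (f.coeff a) := by
    intro f
    have hex : ∃ a, ∀ k, v (f.coeff k) ≤ v (f.coeff a) := by
      obtain ⟨a, -, ha⟩ := (Finset.range (f.natDegree + 1)).exists_max_image (fun k => v (f.coeff k))
        ⟨0, by simp⟩
      refine ⟨a, fun k => ?_⟩
      by_cases hk : k ∈ Finset.range (f.natDegree + 1)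
      · exact ha k hk
      · rw [f.coeff_eq_zero_of_natDegree_lt (by simp at hk; omega), map_zero]
        exact zero_le'
    refine ⟨Nat.find hex, Nat.find_spec hex, fun k hk => ?_⟩
    obtain ⟨l, hl⟩ := not_forall.mp (Nat.find_min hex hk)
    exact lt_of_lt_of_le (lt_of_not_ge hl) (Nat.find_spec hex l)
  obtain ⟨a, ha, ha'⟩ := key f
  obtain ⟨b, hb, hb'⟩ := key g
  rw [map_mul]
  refine le_trans (mul_le_mul' (ha i) (hb j)) ?_
  by_cases hm : v (f.coeff a) = 0
  · simp [hm]
  by_cases hn : v (g.coeff b) = 0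
  · simp [hn]
  have hlt : ∀ p ∈ Finset.antidiagonal (a + b), p ≠ (a, b) →
      v (f.coeff p.1 * g.coeff p.2) < v (f.coeff a * g.coeff b) := by
    intro p hp hne
    rw [Finset.mem_antidiagonal] at hp
    rw [map_mul, map_mul]
    rcases lt_or_ge p.1 a with h1 | h1
    · calc v (f.coeff p.1) * v (g.coeff p.2) ≤ v (f.coeff p.1) * v (g.coeff b) :=
            mul_le_mul' le_rfl (hb p.2)
        _ < v (f.coeff a) * v (g.coeff b) := mul_lt_mul_of_pos_right (ha' _ h1) (zero_lt_iff.mpr hn)
    · have h2 : p.2 < b := by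
        rcases lt_or_ge p.2 b with h2 | h2
        · exact h2
        · exact absurd (Prod.ext (by omega) (by omega)) hne
      calc v (f.coeff p.1) * v (g.coeff p.2) ≤ v (f.coeff a) * v (g.coeff p.2) :=
            mul_le_mul' (ha p.1) le_rfl
        _ < v (f.coeff a) * v (g.coeff b) := mul_lt_mul_of_pos_left (hb' _ h2) (zero_lt_iff.mpr hm)
  have := h (a + b)
  rw [coeff_mul, Valuation.map_sum_eq_of_lt v (j := (a, b)) (by simp)
    (fun p hp => hlt p (Finset.mem_sdiff.mp hp).1 (by simpa using (Finset.mem_sdiff.mp hp).2))] at this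
  rwa [map_mul] at this

/-- Over an integrally closed domain, if `f * g` has coefficients in `A`, so has every product of a
coefficient of `f` and a coefficient of `g`. -/
lemma coeff_mul_coeff_mem {A K : Type*} [CommRing A] [IsDomain A] [IsIntegrallyClosed A] [Field K]
    [Algebra A K] [IsFractionRing A K] (f g : K[X])
    (h : ∀ n, (f * g).coeff n ∈ (algebraMap A K).range) (i j : ℕ) :
    f.coeff i * g.coeff j ∈ (algebraMap A K).range := by
  haveI : IsIntegrallyClosedIn (algebraMap A K).range K := by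
    rw [Subring.isIntegrallyClosedIn_iff]
    intro x hx
    letI : Algebra A (algebraMap A K).range := (algebraMap A K).rangeRestrict.toAlgebra
    haveI : IsScalarTower A (algebraMap A K).range K := IsScalarTower.of_algebraMap_eq fun _ => rfl
    haveI : Algebra.IsIntegral A (algebraMap A K).range :=
      ⟨fun y => by
        obtain ⟨a, rfl⟩ := (algebraMap A K).rangeRestrict_surjective y
        exact isIntegral_algebraMap⟩
    exact IsIntegrallyClosed.isIntegral_iff.mp (isIntegral_trans (R := A) x hx)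
  by_contra hx
  obtain ⟨V, hV, hxV⟩ := Subring.exists_le_valuationSubring_of_isIntegrallyClosedIn hx
  refine hxV ((V.valuation_le_one_iff _).mp ?_)
  exact valuation_coeff_mul_coeff_le_one V.valuation f g
    (fun n => (V.valuation_le_one_iff _).mpr (hV (h n))) i j

open Polynomial in
lemma aeval_C_mul_X_of_isHomogeneous {k A : Type*} [CommRing k] [CommRing A] [Algebra k A] {σ : Type*}
    (x : σ → A) (p : MvPolynomial σ k) (e : ℕ) (hp : p.IsHomogeneous e) :
    MvPolynomial.aeval (fun i => C (x i) * X) p = C (MvPolynomial.aeval x p) * (X : A[X]) ^ e := by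
  conv_lhs => rw [p.as_sum]
  conv_rhs => rw [p.as_sum]
  rw [map_sum, map_sum, map_sum, Finset.sum_mul]
  refine Finset.sum_congr rfl fun m hm => ?_
  have he : Finsupp.degree m = e := by
    rw [Finsupp.degree_eq_weight_one]; exact hp (MvPolynomial.mem_support_iff.mp hm)
  rw [MvPolynomial.aeval_monomial, MvPolynomial.aeval_monomial, ← he, Finsupp.degree_apply]
  simp only [Finsupp.prod, mul_pow, Finset.prod_mul_distrib, Finset.prod_pow_eq_pow_sum, map_mul,
    map_prod, map_pow, Polynomial.algebraMap_apply, mul_assoc]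

/-- An invertible ideal is principal as soon as there is a homotopy `φ : A → A[t]` contracting `A`
to a field `k`. -/
lemma isPrincipal_of_contraction (k A : Type u) [Field k] [CommRing A] [IsDomain A]
    [IsIntegrallyClosed A] [Algebra k A] (φ : A →+* A[X]) (h1 : ∀ a, (φ a).eval 1 = a)
    (h0 : ∀ a, ∃ r : k, (φ a).coeff 0 = algebraMap k A r)
    (I : Ideal A) {n : ℕ} (f u : Fin n → A) (a : Fin n → Fin n → A) (d : A) (hd : d ≠ 0)
    (hspan : I = Ideal.span (Set.range f)) (hsum : ∑ i, f i * u i = d)
    (ha : ∀ i j, u i * f j = d * a i j) :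
    ∃ z : A, z ≠ 0 ∧ I = Ideal.span {z} := by
  classical
  let K := FractionRing A
  let ι := algebraMap A K
  have hι : Function.Injective ι := IsFractionRing.injective A K
  let Φ : A →+* K[X] := (Polynomial.mapRingHom ι).comp φ
  have hΦ1 : ∀ x, (Φ x).eval 1 = ι x := fun x => by
    simp only [Φ, RingHom.comp_apply, coe_mapRingHom]
    rw [Polynomial.eval_one_map, h1]
  have hΦc : ∀ x m, (Φ x).coeff m = ι ((φ x).coeff m) := fun x m => by
    simp [Φ, coeff_map]
  have hD : Φ d ≠ 0 := fun h => hd (hι (by rw [← hΦ1, h, eval_zero, map_zero]))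
  obtain ⟨g, hg⟩ := (IsPrincipalIdealRing.principal (Ideal.span (Set.range fun i => Φ (f i)))).principal
  have hgf : ∀ i, ∃ q, Φ (f i) = g * q := fun i => by
    have : Φ (f i) ∈ Ideal.span (Set.range fun i => Φ (f i)) := Ideal.subset_span ⟨i, rfl⟩
    rw [hg] at this
    obtain ⟨q, hq⟩ := Submodule.mem_span_singleton.mp this
    exact ⟨q, by rw [← hq, smul_eq_mul, mul_comm]⟩
  choose F hF using hgf
  have hgmem : g ∈ Ideal.span (Set.range fun i => Φ (f i)) := by
    rw [hg]; exact Submodule.mem_span_singleton_self g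
  obtain ⟨c, hc⟩ := Ideal.mem_span_range_iff_exists_fun.mp hgmem
  have hg0 : g ≠ 0 := by
    intro h
    apply hD
    rw [← hsum, map_sum]
    exact Finset.sum_eq_zero fun i _ => by rw [map_mul, hF, h, zero_mul, zero_mul]
  let G : Fin n → K[X] := fun i => ∑ j, c j * Φ (a i j)
  have hDG : ∀ i, Φ (u i) * g = Φ d * G i := fun i => by
    rw [← hc, Finset.mul_sum, Finset.mul_sum]
    refine Finset.sum_congr rfl fun j _ => ?_
    rw [mul_left_comm, ← map_mul, ha, map_mul]; ring
  have hGF : ∀ i j, G i * F j = Φ (a i j) := fun i j => mul_left_cancel₀ hD (by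
    rw [← mul_assoc, ← hDG, mul_assoc, ← hF, ← map_mul, ha, map_mul])
  have hone : ∑ i, a i i = 1 := mul_left_cancel₀ hd (by
    rw [Finset.mul_sum, _root_.mul_one]
    conv_rhs => rw [← hsum]
    exact Finset.sum_congr rfl fun i _ => by rw [← ha, mul_comm])
  have hcoef : ∀ i j p q, (G i).coeff p * (F j).coeff q ∈ ι.range := fun i j p q =>
    coeff_mul_coeff_mem _ _ (fun m => by rw [hGF, hΦc]; exact ⟨_, rfl⟩) p q
  -- the lowest coefficient
  let e := g.natTrailingDegree
  have hge : g.coeff e ≠ 0 := coeff_natTrailingDegree_ne_zero.mpr hg0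
  have hlow : ∀ l x, (x * Φ (f l)).coeff e = x.coeff 0 * (g.coeff e * (F l).coeff 0) := by
    intro l x
    have hz : ∀ m < e, g.coeff m = 0 := fun m hm => coeff_eq_zero_of_lt_natTrailingDegree hm
    have hxg : ∀ y : K[X], (g * y).coeff e = g.coeff e * y.coeff 0 := fun y => by
      rw [coeff_mul, Finset.sum_eq_single (e, 0)]
      · intro p hp hne
        rw [Finset.mem_antidiagonal] at hp
        rw [hz p.1, zero_mul]
        rcases lt_or_ge p.1 e with h | h
        · exact h
        · exact absurd (Prod.ext (by omega) (by omega)) hne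
      · simp
    rw [hF, mul_left_comm, hxg, mul_coeff_zero]
    ring
  choose ε hε using h0
  have hε' : ∀ x, (Φ x).coeff 0 = ι (algebraMap k A (ε x)) := fun x => by rw [hΦc, hε]
  obtain ⟨i, hi⟩ : ∃ i, ε (a i i) ≠ 0 := by
    by_contra hne
    push_neg at hne
    have : ∑ i, (Φ (a i i)).coeff 0 = 1 := by
      rw [← finset_sum_coeff, ← map_sum, hone, map_one, coeff_one_zero]
    rw [Finset.sum_eq_zero fun i _ => by rw [hε', hne, map_zero, map_zero]] at this
    exact zero_ne_one this
  let lam : Fin n → A := fun j => algebraMap k A (ε (a i j) / ε (a i i))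
  let b := (F i).coeff 0
  have hFb : ∀ j, (F j).coeff 0 = ι (lam j) * b := by
    intro j
    have hsym : a i i * f j = a i j * f i := mul_left_cancel₀ hd (by
      rw [← mul_assoc, ← ha, ← mul_assoc, ← ha]; ring)
    have h := congrArg (fun x => (Φ x).coeff e) hsym
    simp only [map_mul, hlow, hε'] at h
    have hc0 : ι (algebraMap k A (ε (a i i))) ≠ 0 :=
      (map_ne_zero_iff ι hι).mpr ((map_ne_zero_iff _ (algebraMap k A).injective).mpr hi)
    refine mul_left_cancel₀ (mul_ne_zero hge hc0) ?_
    have hlam : ι (algebraMap k A (ε (a i i))) * ι (lam j) = ι (algebraMap k A (ε (a i j))) := by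
      rw [← map_mul, ← map_mul, mul_div_cancel₀ _ hi]
    linear_combination h + g.coeff e * b * hlam.symm
  have hbw : ∑ l, (G l).coeff 0 * (ι (lam l) * b) = 1 := by
    simp only [← hFb, ← mul_coeff_zero, hGF, ← finset_sum_coeff, ← map_sum, hone, map_one, coeff_one_zero]
  have hr : ∀ j q, ∃ r : A, (F j).coeff q = b * ι r := by
    intro j q
    have : ∀ l, ∃ r : A, ι r = (G l).coeff 0 * (F j).coeff q := fun l => hcoef l j 0 q
    choose r hr using this
    refine ⟨∑ l, lam l * r l, ?_⟩
    calc (F j).coeff q = (∑ l, (G l).coeff 0 * (ι (lam l) * b)) * (F j).coeff q := by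
          rw [hbw, _root_.one_mul]
      _ = b * ι (∑ l, lam l * r l) := by
          rw [map_sum, Finset.mul_sum, Finset.sum_mul]
          exact Finset.sum_congr rfl fun l _ => by rw [map_mul, hr]; ring
  have hF1 : ∀ j, ∃ r : A, (F j).eval 1 = b * ι r := fun j => by
    choose r hr using hr j
    refine ⟨∑ q ∈ Finset.range ((F j).natDegree + 1), r q, ?_⟩
    rw [eval_eq_sum_range, map_sum, Finset.mul_sum]
    exact Finset.sum_congr rfl fun q _ => by rw [one_pow, _root_.mul_one, hr]
  choose r hr1 using hF1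
  have hG1 : ∀ l, ∃ s : A, b * (G l).eval 1 = ι s := fun l => by
    have : ∀ q, ∃ s : A, ι s = (G l).coeff q * b := fun q => hcoef l i q 0
    choose s hs using this
    refine ⟨∑ q ∈ Finset.range ((G l).natDegree + 1), s q, ?_⟩
    rw [eval_eq_sum_range, map_sum, Finset.mul_sum]
    exact Finset.sum_congr rfl fun q _ => by rw [one_pow, _root_.mul_one, hs, mul_comm]
  choose s hs using hG1
  have hsr : ∑ l, ι (s l) * ι (r l) = 1 := by
    have : ∑ l, ((G l) * (F l)).eval 1 = 1 := by
      simp only [hGF, hΦ1, ← map_sum, hone, map_one]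
    rw [← this]
    exact Finset.sum_congr rfl fun l _ => by rw [eval_mul, ← hs, hr1]; ring
  let z := ∑ l, s l * f l
  have hz : ι z = g.eval 1 * b := by
    rw [map_sum]
    calc ∑ l, ι (s l * f l) = ∑ l, g.eval 1 * b * (ι (s l) * ι (r l)) :=
          Finset.sum_congr rfl fun l _ => by rw [map_mul, ← hΦ1 (f l), hF, eval_mul, hr1]; ring
      _ = g.eval 1 * b := by rw [← Finset.mul_sum, hsr, _root_.mul_one]
  have hfz : ∀ j, f j = z * r j := fun j => hι (by
    rw [map_mul, hz, ← hΦ1 (f j), hF, eval_mul, hr1, mul_assoc])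
  refine ⟨z, fun h => hd ?_, le_antisymm ?_ ?_⟩
  · rw [← hsum]
    exact Finset.sum_eq_zero fun j _ => by rw [hfz, h, zero_mul, zero_mul]
  · rw [hspan, Ideal.span_le]
    rintro _ ⟨j, rfl⟩
    exact Ideal.mem_span_singleton'.mpr ⟨r j, by rw [hfz, mul_comm]⟩
  · rw [Ideal.span_le, Set.singleton_subset_iff, hspan]
    exact sum_mem fun l _ => Ideal.mul_mem_left _ _ (Ideal.subset_span ⟨l, rfl⟩)


/-- Let k be a field and C a closed subscheme of affine n-space over k which is stable under the scaling
action of the affine line, i.e. C = Spec A with A = k[x_1, …, x_n]/I for an ideal I generated by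
homogeneous polynomials, and assume C is normal (A is an integrally closed domain). Then Pic(C) = 0:
every invertible A-module is free. -/
theorem result (k : Type u) [Field k] (n : ℕ)
    (I : Ideal (MvPolynomial (Fin n) k))
    (hI : ∃ s : Set (MvPolynomial (Fin n) k), (∀ f ∈ s, ∃ d : ℕ, f.IsHomogeneous d) ∧ I = Ideal.span s)
    [IsDomain (MvPolynomial (Fin n) k ⧸ I)] [IsIntegrallyClosed (MvPolynomial (Fin n) k ⧸ I)]
    (M : Type u) [AddCommGroup M] [Module (MvPolynomial (Fin n) k ⧸ I) M]
    [Module.Invertible (MvPolynomial (Fin n) k ⧸ I) M] :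
    Module.Free (MvPolynomial (Fin n) k ⧸ I) M := by
  classical
  obtain ⟨S, hS, rfl⟩ := hI
  let A := MvPolynomial (Fin n) k ⧸ Ideal.span S
  obtain ⟨J, ⟨eJ⟩⟩ := Module.Invertible.exists_linearEquiv_ideal A M
  haveI : Module.Invertible A J := Module.Invertible.congr eJ
  -- the contraction
  let φ₀ : MvPolynomial (Fin n) k →ₐ[k] Polynomial A :=
    MvPolynomial.aeval fun i => Polynomial.C (Ideal.Quotient.mk (Ideal.span S) (MvPolynomial.X i) : A) * (Polynomial.X : Polynomial A)
  have hhom : ∀ p : MvPolynomial (Fin n) k, ∀ e, p.IsHomogeneous e →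
      φ₀ p = Polynomial.C (Ideal.Quotient.mk (Ideal.span S) p : A) * (Polynomial.X : Polynomial A) ^ e := by
    intro p e hp
    show φ₀ p = Polynomial.C (Ideal.Quotient.mkₐ k (Ideal.span S) p : A) * _
    rw [MvPolynomial.mkₐ_eq_aeval]
    exact aeval_C_mul_X_of_isHomogeneous _ p e hp
  have hker : ∀ x ∈ Ideal.span S, φ₀.toRingHom x = 0 := by
    intro x hx
    refine (Ideal.span_le.mpr ?_ : Ideal.span S ≤ RingHom.ker φ₀.toRingHom) hx
    intro f hf
    obtain ⟨e, he⟩ := hS f hf
    show φ₀ f = 0
    rw [hhom f e he, Ideal.Quotient.eq_zero_iff_mem.mpr (Ideal.subset_span hf), map_zero, zero_mul]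
  let φ : A →+* Polynomial A := Ideal.Quotient.lift _ φ₀.toRingHom hker
  have h1 : ∀ x, (φ x).eval 1 = x := by
    suffices (Polynomial.evalRingHom 1).comp φ = RingHom.id A from fun x => RingHom.congr_fun this x
    refine Ideal.Quotient.ringHom_ext ?_
    refine MvPolynomial.ringHom_ext (fun r => ?_) (fun i => ?_)
    · show (φ₀ (MvPolynomial.C r)).eval 1 = _
      rw [MvPolynomial.algHom_C, Polynomial.algebraMap_apply, Polynomial.eval_C]
      rfl
    · show (φ₀ (MvPolynomial.X i)).eval 1 = _
      rw [MvPolynomial.aeval_X, Polynomial.eval_mul, Polynomial.eval_C, Polynomial.eval_X,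
        _root_.mul_one]
      rfl
  have h0 : ∀ x, ∃ r : k, (φ x).coeff 0 = algebraMap k A r := by
    intro x
    obtain ⟨p, rfl⟩ := Ideal.Quotient.mk_surjective x
    refine ⟨MvPolynomial.constantCoeff p, ?_⟩
    show (φ₀ p).coeff 0 = _
    induction p using MvPolynomial.induction_on with
    | C r => rw [MvPolynomial.algHom_C, Polynomial.algebraMap_apply, Polynomial.coeff_C_zero,
        MvPolynomial.constantCoeff_C]
    | add p q hp hq => rw [map_add, Polynomial.coeff_add, hp, hq, map_add, map_add]
    | mul_X p i hp =>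
      rw [map_mul, Polynomial.mul_coeff_zero, MvPolynomial.aeval_X, map_mul,
        MvPolynomial.constantCoeff_X]
      simp
  -- generators of the ideal
  obtain ⟨τ, hτ⟩ := (Module.Invertible.linearEquiv A J).surjective 1
  obtain ⟨T, rfl⟩ := TensorProduct.exists_finset τ
  let m := T.card
  let x : Fin m → J := fun l => (T.equivFin.symm l).1.2
  let ψ : Fin m → Module.Dual A J := fun l => (T.equivFin.symm l).1.1
  have hψ : ∑ l, ψ l (x l) = 1 := by
    have : ∑ p ∈ T, p.1 p.2 = (1 : A) := by
      rw [← hτ, map_sum]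
      rfl
    rw [← this, ← Finset.sum_coe_sort T, ← T.equivFin.symm.sum_comp]
  have hcomm : ∀ (θ : Module.Dual A J) (p q : J), θ p * (q : A) = θ q * (p : A) := fun θ p q => by
    have : (q : A) • p = (p : A) • q := Subtype.ext (mul_comm _ _)
    have := congrArg θ this
    simp only [map_smul, smul_eq_mul] at this
    rw [mul_comm, this, mul_comm]
  obtain ⟨i, hi⟩ : ∃ l, (x l : A) ≠ 0 := by
    by_contra hne
    push_neg at hne
    refine zero_ne_one (α := A) ?_
    rw [← hψ]
    exact (Finset.sum_eq_zero fun l _ => by rw [show x l = 0 from Subtype.ext (hne l), map_zero]).symm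
  obtain ⟨z, hz0, hz⟩ := isPrincipal_of_contraction k A φ h1 h0 J
    (fun l => (x l : A)) (fun l => ψ l (x i)) (fun p q => ψ p (x q)) (x i : A) hi
    (le_antisymm (fun y hy => by
        have : y = ∑ l, ψ l ⟨y, hy⟩ * (x l : A) := by
          rw [← Finset.sum_congr rfl fun l _ => hcomm (ψ l) (x l) ⟨y, hy⟩, ← Finset.sum_mul, hψ,
            _root_.one_mul]
        rw [this]
        exact sum_mem fun l _ => Ideal.mul_mem_left _ _ (Ideal.subset_span ⟨l, rfl⟩))
      (Ideal.span_le.mpr (by rintro _ ⟨l, rfl⟩; exact (x l).2)))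
    (by
      rw [Finset.sum_congr rfl fun l _ => show (x l : A) * ψ l (x i) = ψ l (x l) * (x i : A) by
        rw [mul_comm, hcomm], ← Finset.sum_mul, hψ, _root_.one_mul])
    (fun p q => by rw [hcomm, mul_comm])
  subst hz
  exact Module.Free.of_equiv ((LinearEquiv.toSpanNonzeroSingleton A A z hz0).trans eJ.symm)

end Groth.Agent.S15836
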