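import Groth.Statements.S15837
import Groth.Agent.GrpSchLib.CoincidenceFP
import Groth.Agent.S12442
-- import your own Groth.Agent.* helpers here

set_option autoImplicit false
universe u
open CategoryTheory MonoidalCategory CartesianMonoidalCategory MonObj GrpObj AlgebraicGeometry
open SprIso

namespace Groth.Agent.S15837

/-- Let S be a scheme, G an S-group scheme of finite presentation acting on an S-scheme X which is
affine and of finite presentation over S, and Y a closed subscheme of X which is finite, flat and of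
finite presentation over S. Then the functorial stabilizer of Y in G — whose points with values in
an S-scheme T are the points g of G such that g acts as the identity on every point of Y with values
in a scheme over T — is represented by a closed subscheme of G whose inclusion is of finite
presentation. -/
theorem result (S : Scheme.{u}) (G X Y : Over S) [GrpObj G]
    [LocallyOfFinitePresentation G.hom] [QuasiCompact G.hom] [QuasiSeparated G.hom]
    [IsAffineHom X.hom] [LocallyOfFinitePresentation X.hom] (a : AlgGrp.Action G X)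
    (i : Y ⟶ X) [IsClosedImmersion i.left] [IsFinite Y.hom] [Flat Y.hom] [LocallyOfFinitePresentation Y.hom] :
    ∃ (Z : Over S) (j : Z ⟶ G), IsClosedImmersion j.left ∧ LocallyOfFinitePresentation j.left ∧
      ∀ (T : Over S) (g : T ⟶ G), (∃ z : T ⟶ Z, z ≫ j = g) ↔
        ∀ (T' : Over S) (t : T' ⟶ T) (y : T' ⟶ Y), lift (t ≫ g) (y ≫ i) ≫ a.act = y ≫ i := by
  let f₁ : Y ⊗ G ⟶ X := lift (CartesianMonoidalCategory.snd Y G)
    (CartesianMonoidalCategory.fst Y G ≫ i) ≫ a.act
  let f₂ : Y ⊗ G ⟶ X := CartesianMonoidalCategory.fst Y G ≫ i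
  have hab : f₁.left ≫ X.hom = f₂.left ≫ X.hom := (Over.w f₁).trans (Over.w f₂).symm
  let e := Limits.pullback.fst (Limits.pullback.lift f₁.left f₂.left hab) (Limits.pullback.diagonal X.hom)
  have he : IsClosedImmersion e := GrpSchLib.exists_closed_equalizer _ _ _ hab
  have hE : GrpSchLib.IsEqualizerOf e f₁ f₂ := fun Q q => GrpSchLib.factors_equalizer_iff _ _ _ hab q
  have hefp : LocallyOfFinitePresentation e := by
    have h1 : LocallyOfFinitePresentation
        (Limits.pullback.diagonal X.hom ≫ Limits.pullback.fst X.hom X.hom) := by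
      rw [Limits.pullback.diagonal_fst]; infer_instance
    have h2 : LocallyOfFinitePresentation (Limits.pullback.diagonal X.hom) :=
      Groth.Agent.S12442.result _ (Limits.pullback.fst X.hom X.hom)
    exact inferInstanceAs (LocallyOfFinitePresentation (Limits.pullback.fst _ _))
  obtain ⟨Z, j, hj, h⟩ := GrpSchLib.exists_coincidence e hE (GrpSchLib.hasIdeals_of_finite_flat e)
  have hgood : ∀ (T : Scheme.{u}) (g : T ⟶ G.left), (∃ w : T ⟶ Z.left, w ≫ j.left = g) ↔
      GrpSchLib.Good (CartesianMonoidalCategory.snd Y G).left e g := by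
    intro T g
    let x : Over.mk (g ≫ G.hom) ⟶ G := Over.homMk g rfl
    show _ ↔ GrpSchLib.Good (CartesianMonoidalCategory.snd Y G).left e x.left
    rw [GrpSchLib.good_iff_whiskerLeft, hE, ← Over.comp_left, ← Over.comp_left]
    refine Iff.trans ?_ ((h _ x).trans ⟨fun h => congrArg CommaMorphism.left h, fun h => Over.OverMorphism.ext h⟩)
    exact ⟨fun ⟨w, hw⟩ => ⟨Over.homMk w (by show w ≫ Z.hom = g ≫ G.hom; rw [← Over.w j, ← Category.assoc, hw]),
      Over.OverMorphism.ext hw⟩, fun ⟨w, hw⟩ => ⟨w.left, congrArg CommaMorphism.left hw⟩⟩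
  have hlfp : LocallyOfFinitePresentation j.left := by
    refine GrpSchLib.locallyOfFinitePresentation_of_hasIdeal hgood fun x => ?_
    obtain ⟨V, hV, hxV, -⟩ := exists_isAffineOpen_mem_and_subset
      (show G.hom x ∈ (⊤ : S.Opens) from trivial)
    obtain ⟨U, hU, hxU, hUV⟩ := exists_isAffineOpen_mem_and_subset (show x ∈ G.hom ⁻¹ᵁ V from hxV)
    let : Algebra Γ(S, V) Γ(G.left, U) := (G.hom.appLE V U hUV).hom.toAlgebra
    let : Algebra Γ(S, V) Γ(Y.left, Y.hom ⁻¹ᵁ V) := (Y.hom.app V).hom.toAlgebra
    have hflat : Module.Flat Γ(S, V) Γ(Y.left, Y.hom ⁻¹ᵁ V) := by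
      show (Y.hom.app V).hom.Flat
      rw [Scheme.Hom.app_eq_appLE]
      exact HasRingHomProperty.appLE @AlgebraicGeometry.Flat Y.hom inferInstance ⟨V, hV⟩ ⟨_, hV.preimage Y.hom⟩ _
    have hfp : Algebra.FinitePresentation Γ(S, V) Γ(Y.left, Y.hom ⁻¹ᵁ V) := by
      show (Y.hom.app V).hom.FinitePresentation
      rw [Scheme.Hom.app_eq_appLE]
      exact HasRingHomProperty.appLE @LocallyOfFinitePresentation Y.hom inferInstance ⟨V, hV⟩
        ⟨_, hV.preimage Y.hom⟩ _
    have hfin : Module.Finite Γ(S, V) Γ(Y.left, Y.hom ⁻¹ᵁ V) := Y.hom.finite_app V hV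
    have : Module.FinitePresentation Γ(S, V) Γ(Y.left, Y.hom ⁻¹ᵁ V) :=
      Module.FinitePresentation.of_finite_of_finitePresentation _ _
    have : Module.Projective Γ(S, V) Γ(Y.left, Y.hom ⁻¹ᵁ V) := Module.Flat.projective_of_finitePresentation
    obtain ⟨I, hI, hfg⟩ := GrpSchLib.hasIdeal_of_isPullback_content e
      (fun J => GrpSchLib.exists_contentIdeal_of_projective J) hU.fromSpec hV.fromSpec
      (by rw [RingHom.algebraMap_toAlgebra, CommRingCat.ofHom_hom]; exact IsAffineOpen.SpecMap_appLE_fromSpec G.hom hV hU hUV)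
      (hV.preimage Y.hom).fromSpec
      (IsOpenImmersion.isPullback _ _ _ _ (by
          rw [RingHom.algebraMap_toAlgebra, CommRingCat.ofHom_hom, Scheme.Hom.app_eq_appLE,
            IsAffineOpen.SpecMap_appLE_fromSpec])
        (by rw [IsAffineOpen.opensRange_fromSpec, IsAffineOpen.opensRange_fromSpec])).flip
    exact ⟨_, inferInstance, hU.fromSpec, inferInstance, by rwa [IsAffineOpen.range_fromSpec],
      I, hI, hfg hefp⟩
  refine ⟨Z, j, hj, hlfp, fun T g => (h T g).trans ⟨fun e T' t y => ?_, fun hg => ?_⟩⟩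
  · have key := congrArg (fun f => lift y t ≫ f) e
    have e1 : lift y t ≫ (Y ◁ g) = lift y (t ≫ g) := by simp
    simp only [f₁, f₂, reassoc_of% e1, comp_lift_assoc, lift_snd, lift_fst_assoc] at key
    exact key
  · have e1 : (Y ◁ g) ≫ f₁ = lift (CartesianMonoidalCategory.snd Y T ≫ g)
        (CartesianMonoidalCategory.fst Y T ≫ i) ≫ a.act := by
      simp only [f₁, comp_lift_assoc, whiskerLeft_snd, whiskerLeft_fst_assoc]
    have e2 : (Y ◁ g) ≫ f₂ = CartesianMonoidalCategory.fst Y T ≫ i := by
      simp only [f₂, whiskerLeft_fst_assoc]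
    rw [e1, e2]
    exact hg _ (CartesianMonoidalCategory.snd Y T) (CartesianMonoidalCategory.fst Y T)

end Groth.Agent.S15837
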