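import Groth.Statements.S15838
import Mathlib
-- import your own Groth.Agent.* helpers here

set_option autoImplicit false
universe u
open scoped TensorProduct
open SprIso

namespace Groth.Agent.S15838

/-- General linear group case: this is the case G = GL(V), to which the general case reduces along a
closed embedding. Let k be a perfect field and V a finite-dimensional k-vector space. If an
invertible endomorphism g of V has multiplicative Jordan decomposition g = t u (t semisimple, u
unipotent, t and u commuting), then the scheme-theoretic centralizer of g in GL(V) is the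
centralizer of u inside the centralizer of t: for every commutative k-algebra R, an R-linear
endomorphism h of R ⊗ V commutes with g_R if and only if it commutes with both t_R and u_R.
Likewise, if an endomorphism X of V has additive Jordan decomposition X = Y + N (Y semisimple, N
nilpotent, commuting), then h commutes with X_R if and only if it commutes with both Y_R and N_R. -/
theorem result (k : Type u) [Field k] [PerfectField k]
    (V : Type u) [AddCommGroup V] [Module k V] [FiniteDimensional k V]
    (R : Type u) [CommRing R] [Algebra k R] (h : Module.End R (R ⊗[k] V)) :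
    (∀ (g t u : Module.End k V), IsUnit g → t.IsSemisimple → IsNilpotent (u - 1) → Commute t u → g = t * u →
      (Commute h (g.baseChange R) ↔ Commute h (t.baseChange R) ∧ Commute h (u.baseChange R))) ∧
    (∀ (X Y N : Module.End k V), Y.IsSemisimple → IsNilpotent N → Commute Y N → X = Y + N →
      (Commute h (X.baseChange R) ↔ Commute h (Y.baseChange R) ∧ Commute h (N.baseChange R))) := by
  let B := Module.End.baseChangeHom k R V
  have key : ∀ (X Y N : Module.End k V), Y.IsSemisimple → IsNilpotent N → Commute Y N → X = Y + N →
      Commute h (X.baseChange R) → Commute h (Y.baseChange R) := by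
    intro X Y N hY hN hYN hX hc
    obtain ⟨n₀, hn₀, s₀, hs₀, hn₀n, hs₀s, h₀⟩ := X.exists_isNilpotent_isSemisimple
    have hns : Commute n₀ s₀ := Algebra.commute_of_mem_adjoin_singleton_of_commute hs₀
      (Algebra.commute_of_mem_adjoin_self hn₀).symm
    obtain ⟨-, rfl⟩ := Module.End.isNilpotent_isSemisimple_unique hN hY hn₀n hs₀s hYN.symm hns
      (by rw [add_comm, ← hX, h₀])
    change Commute h (B Y)
    clear hY hs₀s h₀ hns hX hYN
    induction hs₀ using Algebra.adjoin_induction with
    | mem x hx => rw [Set.mem_singleton_iff.mp hx]; exact hc
    | algebraMap r => exact AlgHom.commutes B r ▸ (Algebra.commutes r h).symm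
    | add x y _ _ hx hy => rw [map_add]; exact hx.add_right hy
    | mul x y _ _ hx hy => rw [map_mul]; exact hx.mul_right hy
  refine ⟨fun g t u hg ht hu htu hgt => ⟨fun hc => ?_, fun ⟨h1, h2⟩ => ?_⟩,
    fun X Y N hY hN hYN hX => ⟨fun hc => ?_, fun ⟨h1, h2⟩ => ?_⟩⟩
  · have hcomm : Commute t (u - 1) := htu.sub_right (Commute.one_right t)
    have ht' := key g t (t * (u - 1)) ht (hcomm.isNilpotent_mul_left hu)
      ((Commute.refl t).mul_right hcomm) (by rw [hgt, mul_sub, mul_one, add_sub_cancel]) hc
    refine ⟨ht', ?_⟩
    have hut : IsUnit (t.baseChange R) := (htu.isUnit_mul_iff.mp (hgt ▸ hg)).1.map B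
    apply hut.mul_left_cancel
    show B t * (h * B u) = B t * (B u * h)
    rw [← mul_assoc, ← (show Commute h (B t) from ht').eq, mul_assoc, ← mul_assoc (B t), ← map_mul, ← hgt]
    exact (show Commute h (B g) from hc).eq
  · show Commute h (B g)
    rw [hgt, map_mul]
    exact Commute.mul_right h1 h2
  · have hY' := key X Y N hY hN hYN hX hc
    refine ⟨hY', ?_⟩
    show Commute h (B N)
    rw [show N = X - Y from eq_sub_of_add_eq' hX.symm, map_sub]
    refine LinearMap.ext fun v => ?_
    have e1 := LinearMap.congr_fun (show h * B X = B X * h from hc) v
    have e2 := LinearMap.congr_fun (show h * B Y = B Y * h from hY') v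
    simp only [Module.End.mul_apply, LinearMap.sub_apply, map_sub] at e1 e2 ⊢
    rw [e1, e2]
  · show Commute h (B X)
    rw [hX, map_add]
    exact Commute.add_right h1 h2

end Groth.Agent.S15838
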