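import Groth.Statements.S15839
import Groth.Agent.GrpSchLib.CoincidenceBase
import Groth.Agent.S12442
-- import your own Groth.Agent.* helpers here

set_option autoImplicit false
universe u
open CategoryTheory MonoidalCategory CartesianMonoidalCategory MonObj GrpObj AlgebraicGeometry
open SprIso

namespace Groth.Agent.S15839

/-- Let S be a scheme, G an S-group scheme which is affine and of finite presentation over S, and g a
section of G over S. Then the centralizer of g — the subfunctor of G whose points with values in an
S-scheme T are the points x of G with x g_T = g_T x — is represented by a closed subscheme of G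
whose inclusion is of finite presentation. -/
theorem result (S : Scheme.{u}) (G : Over S) [GrpObj G]
    [IsAffineHom G.hom] [LocallyOfFinitePresentation G.hom] (g : 𝟙_ (Over S) ⟶ G) :
    ∃ (Z : Over S) (j : Z ⟶ G), IsClosedImmersion j.left ∧ LocallyOfFinitePresentation j.left ∧
      ∀ (T : Over S) (x : T ⟶ G), (∃ z : T ⟶ Z, z ≫ j = x) ↔
        x * (toUnit T ≫ g) = (toUnit T ≫ g) * x := by
  let a : G ⟶ G := 𝟙 G * (toUnit G ≫ g)
  let b : G ⟶ G := (toUnit G ≫ g) * 𝟙 G
  have hab : a.left ≫ G.hom = b.left ≫ G.hom := (Over.w a).trans (Over.w b).symm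
  let i := Limits.pullback.fst (Limits.pullback.lift a.left b.left hab) (Limits.pullback.diagonal G.hom)
  have hi : IsClosedImmersion i := GrpSchLib.exists_closed_equalizer _ _ _ hab
  have hfp : LocallyOfFinitePresentation i := by
    have h1 : LocallyOfFinitePresentation
        (Limits.pullback.diagonal G.hom ≫ Limits.pullback.fst G.hom G.hom) := by
      rw [Limits.pullback.diagonal_fst]; infer_instance
    have h2 : LocallyOfFinitePresentation (Limits.pullback.diagonal G.hom) :=
      Groth.Agent.S12442.result _ (Limits.pullback.fst G.hom G.hom)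
    exact inferInstanceAs (LocallyOfFinitePresentation (Limits.pullback.fst _ _))
  refine ⟨Over.mk (i ≫ G.hom), Over.homMk i rfl, hi, hfp, fun T x => ?_⟩
  have hx : x * (toUnit T ≫ g) = (toUnit T ≫ g) * x ↔ x.left ≫ a.left = x.left ≫ b.left := by
    rw [← Over.comp_left, ← Over.comp_left]
    have h1 : x ≫ a = x * (toUnit T ≫ g) := by simp [a, MonObj.comp_mul]
    have h2 : x ≫ b = (toUnit T ≫ g) * x := by simp [b, MonObj.comp_mul]
    rw [h1, h2]
    exact ⟨fun h => congrArg CommaMorphism.left h, fun h => Over.OverMorphism.ext h⟩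
  rw [hx, ← GrpSchLib.factors_equalizer_iff G.hom a.left b.left hab]
  exact ⟨fun ⟨z, hz⟩ => ⟨z.left, congrArg CommaMorphism.left hz⟩,
    fun ⟨z, hz⟩ => ⟨Over.homMk z (by show z ≫ i ≫ G.hom = T.hom; rw [← Category.assoc, hz, Over.w x]),
      Over.OverMorphism.ext hz⟩⟩

end Groth.Agent.S15839
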