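import Groth.Statements.S15841
import Mathlib.LinearAlgebra.RootSystem.Base
import Mathlib.LinearAlgebra.TensorProduct.Tower
import Mathlib.RingTheory.TensorProduct.Basic


set_option autoImplicit false
universe u
open scoped TensorProduct
open SprIso

namespace Groth.Agent.S15841

/-- For a connected reductive group G with maximal torus T whose derived group is simply connected, and
a Coxeter element w (the product of the simple reflections, each once, in any order), an element of
Lie T = k ⊗ X_*(T) fixed by Ad(w) is killed by the differential of every simple root, i.e. lies in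
the centre of Lie G. In root-datum form: let P be a root pairing over ℤ with character lattice M and
cocharacter lattice N, b a base, and suppose each simple coroot has a dual character ω_i in M with
⟨ω_i, α_i^∨⟩ = 1 and ⟨ω_i, α_j^∨⟩ = 0 for every other simple j (the simply connected derived group
hypothesis). If l lists the simple roots without repetition, w^∨ is the composite of the
coreflections along l acting on N, k is a field and H in k ⊗ N satisfies w^∨_k H = H, then (α_i)_k H
= 0 for every simple root α_i, where (α_i)_k is the base change to k of the functional ⟨α_i, −⟩ on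
N. (Stated for an arbitrary field k; the published setting is an algebraically closed field, and the
argument does not depend on k.) -/
theorem result {ι M N : Type u} [AddCommGroup M] [AddCommGroup N]
    (P : RootPairing ι ℤ M N) (b : P.Base)
    (hsc : ∀ i ∈ b.support, ∃ ω : M, P.coroot' i ω = 1 ∧ ∀ j ∈ b.support, j ≠ i → P.coroot' j ω = 0)
    (l : List ι) (hl : l.Nodup) (hlb : ∀ i : ι, i ∈ l ↔ i ∈ b.support)
    (k : Type u) [Field k] (H : k ⊗[ℤ] N)
    (hH : ((l.map (fun i => ((P.coreflection i : N ≃ₗ[ℤ] N) : N →ₗ[ℤ] N))).prod).baseChange k H = H) :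
    ∀ i ∈ b.support, (P.root' i).baseChange k H = 0 := by
  classical
  choose ω hω using hsc
  let W : (i : ι) → i ∈ b.support → (k ⊗[ℤ] N →ₗ[k] k ⊗[ℤ] ℤ) := fun i hi => (P.toLinearMap (ω i hi)).baseChange k
  let s : ι → N →ₗ[ℤ] N := fun i => ((P.coreflection i : N ≃ₗ[ℤ] N) : N →ₗ[ℤ] N)
  have hs : ∀ (i : ι) (x : k ⊗[ℤ] N), (s i).baseChange k x =
      x - (TensorProduct.AlgebraTensorModule.rid ℤ k k ((P.root' i).baseChange k x)) • ((1 : k) ⊗ₜ[ℤ] P.coroot i) := by
    intro i x
    induction x using TensorProduct.induction_on with
    | zero => simp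
    | tmul c n =>
      simp only [s, LinearMap.baseChange_tmul, LinearEquiv.coe_coe, RootPairing.coreflection_apply,
        TensorProduct.tmul_sub, TensorProduct.AlgebraTensorModule.rid_tmul]
      rw [TensorProduct.smul_tmul', smul_eq_mul, _root_.mul_one, TensorProduct.smul_tmul]
    | add x y hx hy =>
      rw [map_add, hx, hy, map_add, map_add, add_smul]
      abel
  have hW : ∀ (i : ι) (hi : i ∈ b.support) (j : ι) (x : k ⊗[ℤ] N), j ∈ b.support →
      (W i hi ((s j).baseChange k x)) = W i hi x -
        (if j = i then (P.root' i).baseChange k x else 0) := by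
    intro i hi j x hj
    rw [hs, map_sub, map_smul]
    congr 1
    have : W i hi ((1 : k) ⊗ₜ[ℤ] P.coroot j) = (1 : k) ⊗ₜ[ℤ] (if j = i then (1 : ℤ) else 0) := by
      show (1 : k) ⊗ₜ[ℤ] (P.coroot' j (ω i hi)) = _
      split_ifs with h
      · subst h; rw [(hω j hi).1]
      · rw [(hω i hi).2 j hj h]
    rw [this]
    split_ifs with h
    · subst h
      conv_rhs => rw [← (TensorProduct.AlgebraTensorModule.rid ℤ k k).symm_apply_apply ((P.root' j).baseChange k x)]
      rw [TensorProduct.AlgebraTensorModule.rid_symm_apply, TensorProduct.smul_tmul', smul_eq_mul, _root_.mul_one]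
    · rw [TensorProduct.tmul_zero, smul_zero]
  have hpres : ∀ (l' : List ι), (∀ j ∈ l', j ∈ b.support) → ∀ (i : ι) (hi : i ∈ b.support), i ∉ l' →
      ∀ x, W i hi (((l'.map s).prod).baseChange k x) = W i hi x := by
    intro l'
    induction l' with
    | nil => intro _ i hi _ x; simp [Module.End.one_eq_id, LinearMap.baseChange_id]
    | cons a l' ih =>
      intro hsub i hi hnot x
      rw [List.map_cons, List.prod_cons, Module.End.mul_eq_comp, LinearMap.baseChange_comp, LinearMap.comp_apply,
        hW i hi a _ (hsub a (by simp)), if_neg (fun h => hnot (by simp [h])), sub_zero]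
      exact ih (fun j hj => hsub j (by simp [hj])) i hi (fun h => hnot (by simp [h])) x
  have main : ∀ (l' : List ι), l'.Nodup → (∀ j ∈ l', j ∈ b.support) →
      ((l'.map s).prod).baseChange k H = H → ∀ i ∈ l', (P.root' i).baseChange k H = 0 := by
    intro l'
    induction l' with
    | nil => simp
    | cons a l' ih =>
      intro hnd hsub hfix
      obtain ⟨ha, hnd'⟩ := List.nodup_cons.1 hnd
      have haS := hsub a (by simp)
      have hsub' : ∀ j ∈ l', j ∈ b.support := fun j hj => hsub j (by simp [hj])
      rw [List.map_cons, List.prod_cons, Module.End.mul_eq_comp, LinearMap.baseChange_comp, LinearMap.comp_apply] at hfix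
      set y := ((l'.map s).prod).baseChange k H
      have h1 : (P.root' a).baseChange k y = 0 := by
        have h2 := congrArg (W a haS) hfix
        rw [hW a haS a y haS, if_pos rfl, hpres l' hsub' a haS ha H] at h2
        exact sub_eq_self.1 h2
      have hy : y = H := by
        rw [← hfix, hs, h1, map_zero, zero_smul, sub_zero]
      intro i hi
      rcases List.mem_cons.1 hi with rfl | hi
      · exact hy ▸ h1
      · exact ih hnd' hsub' hy i hi
  intro i hi
  exact main l hl (fun j hj => (hlb j).1 hj) hH i ((hlb i).2 hi)

end Groth.Agent.S15841
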