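import Groth.Statements.S15845
import Mathlib
-- import your own Groth.Agent.* helpers here

set_option autoImplicit false
universe u
open SprIso

namespace Groth.Agent.S15845

/-- General linear group case: this is the case G = GL_n with its upper-triangular Borel subgroup B
(derived group SL_n simply connected, all primes good, so the hypotheses on the characteristic
hold), together with the companion statement for a regular nilpotent element of Lie B. Let k be a
field and u an n × n upper-triangular matrix over k whose diagonal entries are all equal and whose
superdiagonal entries u_{i,i+1} are all non-zero — for diagonal 1 this is a regular unipotent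
element of B(k), for diagonal 0 a regular nilpotent element of Lie B. Then the centralizer of u in
GL_n is contained in B and is the product of the centre with the centralizer in the unipotent
radical: for every commutative k-algebra R and every invertible x ∈ M_n(R) commuting with u_R, x is
upper triangular and its diagonal entries are all equal. (The smoothness of the centralizer in the
unipotent radical, also part of the published statement, is not stated here.) -/
theorem result (k : Type u) [Field k] (n : ℕ)
    (u : Matrix (Fin n) (Fin n) k) (htri : ∀ i j : Fin n, j < i → u i j = 0) (hdiag : ∀ i j : Fin n, u i i = u j j)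
    (hreg : ∀ (i j : Fin n), j.val = i.val + 1 → u i j ≠ 0)
    (R : Type u) [CommRing R] [Algebra k R] (x : Matrix (Fin n) (Fin n) R) (hx : IsUnit x)
    (hxu : x * u.map (algebraMap k R) = u.map (algebraMap k R) * x) :
    (∀ i j : Fin n, j < i → x i j = 0) ∧ (∀ i j : Fin n, x i i = x j j) := by
  classical
  set N : Matrix (Fin n) (Fin n) R := fun i j => if i < j then algebraMap k R (u i j) else 0 with hN
  have hu0 : ∀ i j : Fin n, u.map (algebraMap k R) i j = N i j + if i = j then algebraMap k R (u i i) else 0 := by
    intro i j
    rcases lt_trichotomy i j with h | h | h
    · simp [hN, h, h.ne]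
    · simp [hN, h]
    · simp [hN, h.not_gt, h.ne', htri i j h]
  have hxN : ∀ i j, ∑ l, x i l * N l j = ∑ l, N i l * x l j := by
    intro i j
    have := congrFun (congrFun hxu i) j
    simp only [Matrix.mul_apply, hu0, mul_add, add_mul, Finset.sum_add_distrib, mul_ite, ite_mul,
      mul_zero, zero_mul, Finset.sum_ite_eq, Finset.sum_ite_eq', Finset.mem_univ, if_true] at this
    rw [hdiag j i, mul_comm (x i j) (algebraMap k R (u i i))] at this
    exact add_right_cancel this
  have hunit : ∀ i j : Fin n, j.val = i.val + 1 → IsUnit (N i j) := fun i j h => by
    rw [hN]; simp only
    rw [if_pos (show i < j by omega)]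
    exact (IsUnit.mk0 _ (hreg i j h)).map _
  have upper : ∀ m : ℕ, ∀ j : Fin n, j.val = m → ∀ i, j < i → x i j = 0 := by
    intro m
    induction m using Nat.strong_induction_on with
    | _ m ihj =>
    intro j hj i hi
    suffices ∀ d : ℕ, ∀ i : Fin n, j < i → n - i.val ≤ d → x i j = 0 from this n i hi (by omega)
    intro d
    induction d with
    | zero => intro i _ h; omega
    | succ d ih =>
      intro i hi _
      let i' : Fin n := ⟨i.val - 1, by omega⟩
      have := hxN i' j
      rw [Finset.sum_eq_zero, Finset.sum_eq_single i] at this
      · exact ((hunit i' i (show i.val = i.val - 1 + 1 by omega)).mul_right_eq_zero).mp this.symm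
      · intro l _ hl
        by_cases h : i' < l
        · have : i.val - 1 < l.val := h
          have : l.val ≠ i.val := fun h => hl (Fin.ext h)
          rw [ih l (show j < l by omega) (by omega), mul_zero]
        · simp [hN, h]
      · simp
      · intro l _
        by_cases h : l < j
        · rw [ihj l.val (by omega) l rfl i' (show l < i' by simp only [i', Fin.lt_def]; omega), zero_mul]
        · simp [hN, h]
  have upper' : ∀ i j : Fin n, j < i → x i j = 0 := fun i j h => upper _ j rfl i h
  refine ⟨upper', ?_⟩
  have step : ∀ i j : Fin n, j.val = i.val + 1 → x i i = x j j := by
    intro i j h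
    have := hxN i j
    rw [Finset.sum_eq_single i, Finset.sum_eq_single j] at this
    · rw [mul_comm (N i j)] at this
      exact (hunit i j h).mul_left_injective this
    · intro l _ hl
      by_cases h' : i < l
      · have : l.val ≠ j.val := fun h => hl (Fin.ext h)
        rw [upper' l j (show j < l by omega), mul_zero]
      · simp [hN, h']
    · simp
    · intro l _ hl
      by_cases h' : l < j
      · have : l.val ≠ i.val := fun h => hl (Fin.ext h)
        rw [upper' i l (show l < i by omega), zero_mul]
      · simp [hN, h']
    · simp
  have all : ∀ m : ℕ, ∀ i j : Fin n, i.val = j.val + m → x i i = x j j := by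
    intro m
    induction m with
    | zero => intro i j h; rw [Fin.ext (show i.val = j.val by omega)]
    | succ m ih =>
      intro i j h
      rw [← step ⟨i.val - 1, by omega⟩ i (by simp only; omega)]
      exact ih _ j (by simp only; omega)
  intro i j
  rcases le_total j.val i.val with h | h
  · exact all (i.val - j.val) i j (by omega)
  · exact (all (j.val - i.val) j i (by omega)).symm

end Groth.Agent.S15845
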