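import Groth.Statements.S15848
import Groth.Agent.Synt29.LMCurve
import Groth.Agent.S1689
open Groth.Agent Groth.Agent.Synt29


set_option autoImplicit false
set_option linter.style.haveILetI false
set_option backward.isDefEq.respectTransparency false
set_option backward.isDefEq.respectTransparency.types false
set_option maxHeartbeats 1000000
universe u
open CategoryTheory CategoryTheory.Limits AlgebraicGeometry
open Surf

namespace Groth.Agent.S15848

/-- Let k be an algebraically closed field of characteristic zero and S a smooth surface over k (an
integral k-scheme, smooth over k, of dimension two). Let j : C → S be a closed immersion with C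
integral of dimension one, M a coherent O_C-module whose stalks are torsion-free modules over the
local rings of C, F a finite locally free O_S-module and f : F → j_*M an epimorphism of O_S-modules.
Then the kernel of f, the elementary transformation of F along f, is a finite locally free
O_S-module. (The published setting takes S projective; the argument is local on S and projectivity
is not assumed here.) -/
theorem result
    (k : Type u) [Field k] [IsAlgClosed k] [CharZero k]
    (S : Scheme.{u}) [S.Over (Spec (CommRingCat.of k))] [IsIntegral S]
    [Smooth (S ↘ Spec (CommRingCat.of k))] (hdim : topologicalKrullDim S = 2)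
    (C : Scheme.{u}) (j : C ⟶ S) [IsClosedImmersion j] [IsIntegral C]
    (hC : topologicalKrullDim C = 1)
    (M : C.Modules) (hM : Coh.IsCoh M) (hMtf : TorSh.IsTorsionFree M)
    (F : S.Modules) (hF : FlatMod.IsFinLocFree F)
    (f : F ⟶ (Coh.push j).obj M) [Epi f] :
    FlatMod.IsFinLocFree (kernel f) := by
  haveI : IsLocallyNoetherian S := LocallyOfFiniteType.isLocallyNoetherian (S ↘ Spec (CommRingCat.of k))
  haveI : IsLocallyNoetherian C := LocallyOfFiniteType.isLocallyNoetherian j
  have hreg : ∀ x : S, IsRegularLocalRing (S.presheaf.stalk x) := fun x =>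
    GrpSchLib.isRegularLocalRing_stalk_of_smooth (S ↘ Spec (CommRingCat.of k)) x
  have hnorm := SurfRankOne.normal_of_regular hreg
  have hFc : Coh.IsCoh F := CurveDeg.isCoh_of_isFinLocFree hF
  have hPc : Coh.IsCoh ((Coh.push j).obj M) := QCoh.isCoh_pushforward_finite j hM
  let K := kernel f
  have hKc : Coh.IsCoh K := QCoh.isCoh_kernel hFc hPc f
  have htK : TorSh.IsTorsionFree K :=
    SurfRankOne.tf_of_mono (kernel.ι f) (GenDiff29.isTorsionFree_of_isFinLocFree hF)
  -- the generic point of the curve has codimension one
  have hxC : Order.coheight (j (genericPoint C)) ≤ 1 := by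
    obtain ⟨y, hy⟩ : ∃ y : C, y ≠ genericPoint C := by
      by_contra! hall
      haveI : Subsingleton C := ⟨fun a b => (hall a).trans (hall b).symm⟩
      have : topologicalKrullDim C ≤ 0 := by
        haveI : DiscreteTopology C := inferInstance
        exact Order.krullDim_nonpos_iff_forall_isMax.2 fun a b hab => by
          refine le_of_eq (TopologicalSpace.IrreducibleCloseds.ext ?_)
          obtain ⟨x, hx⟩ := a.2.nonempty
          obtain ⟨z, hz⟩ := b.2.nonempty
          refine Set.ext fun w => ?_
          constructor
          · exact fun _ => Subsingleton.elim x w ▸ hx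
          · exact fun _ => Subsingleton.elim z w ▸ hz
      rw [hC] at this
      exact absurd this (by decide)
    have hlt : j y < j (genericPoint C) :=
      lt_of_le_not_ge ((genericPoint_specializes y).map j.continuous) fun h' =>
        hy (j.isClosedEmbedding.injective (Specializes.antisymm h' ((genericPoint_specializes y).map j.continuous)).eq)
    have h1 : (1 : ℕ∞) ≤ Order.height (j (genericPoint C)) :=
      le_trans le_add_self (Order.height_add_one_le hlt)
    have h2 : Order.height (j (genericPoint C)) + Order.coheight (j (genericPoint C)) ≤ 2 := by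
      haveI : Nonempty S := ⟨j (genericPoint C)⟩
      have h3 : topologicalKrullDim S = ((⨆ z : S, Order.height z + Order.coheight z : ℕ∞) : WithBot ℕ∞) := by
        rw [topologicalKrullDim, Order.krullDim_eq_of_orderIso (irreducibleSetEquivPoints (α := S))]
        exact Order.krullDim_eq_iSup_height_add_coheight_of_nonempty
      rw [hdim] at h3
      have h4 : (⨆ z : S, Order.height z + Order.coheight z : ℕ∞) = 2 := WithBot.coe_injective h3.symm
      exact h4 ▸ le_iSup (fun z : S => Order.height z + Order.coheight z) _
    by_contra h
    have h5 : (2 : ℕ∞) ≤ Order.coheight (j (genericPoint C)) := Order.add_one_le_of_lt (not_le.1 h)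
    exact absurd ((add_le_add h1 h5).trans h2) (by decide)
  -- reflexivity
  let β : K ⟶ RefHull.ddual K := RefHull.bidualMap K
  have hDc : Coh.IsCoh (RefHull.ddual K) := RefX.isCoh_dual (RefX.isCoh_dual hKc)
  have hbij : ∀ x : S, Order.coheight x ≤ 1 → Function.Bijective ((DerSch.stalkFunctor S x).map β).hom := by
    intro x hx
    have hr : RefHull.IsReflexiveAt K x := by
      haveI := (hnorm x).1
      haveI := (hnorm x).2
      haveI := QCoh.finite_stalk_of_isFT hKc.1 hKc.2 x
      haveI : Module.IsTorsionFree (S.presheaf.stalk x) (K.presheaf.stalk x) := htK x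
      rcases lt_or_eq_of_le hx with h | h
      · have hxη : x = genericPoint S := by
          rw [ENat.lt_one_iff_eq_zero, Order.coheight_eq_zero] at h
          exact (Specializes.antisymm (h (RefX.specializes_genericPoint x)) (RefX.specializes_genericPoint x)).eq
        subst hxη
        letI : Field (S.presheaf.stalk (genericPoint S)) := inferInstanceAs (Field S.functionField)
        show Module.IsReflexive (S.presheaf.stalk (genericPoint S)) (K.presheaf.stalk (genericPoint S))
        infer_instance
      · have hd : ringKrullDim (S.presheaf.stalk x) = 1 := by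
          rw [ringKrullDim_stalk_eq_coheight, h]
          rfl
        haveI := CDiv6.isDVR_of_dim_eq_one (S.presheaf.stalk x) hd
        haveI : Module.Free (S.presheaf.stalk x) (K.presheaf.stalk x) := Module.free_of_finite_type_torsion_free'
        show Module.IsReflexive (S.presheaf.stalk x) (K.presheaf.stalk x)
        infer_instance
    have h := (RefX.stalkMap_bidual_bijective_iff hKc x).2 hr
    exact ⟨fun a b hab => h.1 (((LMStab.stalkMap_eq β x a).trans hab).trans (LMStab.stalkMap_eq β x b).symm), fun y => by
      obtain ⟨a, ha⟩ := h.2 y
      exact ⟨a, (LMStab.stalkMap_eq β x a).symm.trans ha⟩⟩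
  have hη : Order.coheight (genericPoint S) ≤ 1 := by rw [RefX.coheight_genericPoint]; exact zero_le
  obtain ⟨ψ, hψ⟩ := LMStab.exists_factor hnorm hFc (LMStab.reflexive_of_lf hFc hF) β (kernel.ι f)
    (hbij _ hη).1 fun x hx => (hbij x hx).2
  have hψf : ψ ≫ f = 0 :=
    LMCurve.eq_zero_of_comp j hM.1 hMtf hxC hKc hDc β (fun x hx => (hbij x hx).2) (ψ ≫ f)
      (by rw [← Category.assoc, hψ, kernel.condition])
  let r : RefHull.ddual K ⟶ K := kernel.lift f ψ hψf
  have hr : β ≫ r = 𝟙 K := by
    rw [← cancel_mono (kernel.ι f), Category.assoc, kernel.lift_ι, hψ, Category.id_comp]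
  have hrβ : r ≫ β = 𝟙 _ := by
    refine RefX.hom_ext_generic hDc
      (fun x => RefX.torsionFree_of_reflexive (RefX.isReflexiveAt_dual (RefX.isCoh_dual hKc) x)) fun v => ?_
    obtain ⟨a, rfl⟩ := (hbij _ hη).2 v
    rw [← LMStab.stalkMap_eq, ← RefX.stalkMap_comp_apply, ← RefX.stalkMap_comp_apply, ← Category.assoc, hr,
      Category.id_comp, Category.comp_id]
  have href : RefHull.IsReflexive K := ⟨r, hr, hrβ⟩
  exact (S1689.result S hreg hdim.le K hKc).1 fun x => (RefX.isReflexive_iff hKc).1 href x

end Groth.Agent.S15848
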