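import Groth.Statements.S15851
import Groth.Agent.Synt29.SurfBidual
import Groth.Agent.Synt29.LMEuler
import Groth.Agent.Nakai.SurfProj
import Groth.Agent.S1108
import Groth.Agent.S15848

set_option autoImplicit false
set_option linter.style.haveILetI false
set_option backward.isDefEq.respectTransparency false
set_option backward.isDefEq.respectTransparency.types false
set_option maxHeartbeats 1000000
universe u
open CategoryTheory CategoryTheory.Limits AlgebraicGeometry
attribute [local instance] HasDerivedCategory.standard
open Surf

namespace Groth.Agent.S15851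

/-- Let k be an algebraically closed field of characteristic zero, S a smooth projective surface over k
(integral, smooth over k, of dimension two, with a closed immersion over k into some projective
space) and ω an O_S-module which is a second exterior power of the sheaf of differentials of S over
k (the canonical sheaf). Let j : C → S be a closed immersion with C integral of dimension one and A
a coherent O_C-module with torsion-free stalks and one-dimensional generic stalk (a rank-one
torsion-free sheaf on C). Put A^* = Ext^1_{O_S}(j_*A, ω), the value at ω of the first right derived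
functor of the sheaf Hom functor Hom_{O_S}(j_*A, -) (taken as the right adjoint of j_*A ⊗ -). Then
Ext^1_{O_S}(A^*, ω) is isomorphic to j_*A: the operation A ↦ A^* is an involution up to isomorphism
(existence of an isomorphism only). (The instance binders on sheaf Hom functors and injective
resolutions always hold.) -/
theorem result
    (k : Type u) [Field k] [IsAlgClosed k] [CharZero k]
    (S : Scheme.{u}) [S.Over (Spec (CommRingCat.of k))] [IsIntegral S]
    [Smooth (S ↘ Spec (CommRingCat.of k))] (hdim : topologicalKrullDim S = 2)
    [IsProper (S ↘ Spec (CommRingCat.of k))]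
    (hproj : ∃ (n : ℕ) (ι : S ⟶ CohB1.ProjSpace n k), IsClosedImmersion ι ∧
      ι ≫ CohB1.ProjSpace.toSpec n k = S ↘ Spec (CommRingCat.of k))
    [HasInjectiveResolutions S.Modules]
    (ω : S.Modules) (hω : Canon.IsTopDiff (S ↘ Spec (CommRingCat.of k)) 2 ω)
    (C : Scheme.{u}) (j : C ⟶ S) [IsClosedImmersion j] [IsIntegral C]
    (hC : topologicalKrullDim C = 1)
    (M : C.Modules) (hM : Coh.IsCoh M) (hMtf : TorSh.IsTorsionFree M)
    (hrk : Module.finrank (C.presheaf.stalk (genericPoint C)) (M.presheaf.stalk (genericPoint C)) = 1)
    [DCoh.HasSheafHom ((Coh.push j).obj M)] [(DCoh.sheafHom ((Coh.push j).obj M)).Additive]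
    [DCoh.HasSheafHom (((DCoh.sheafHom ((Coh.push j).obj M)).rightDerived 1).obj ω)]
    [(DCoh.sheafHom (((DCoh.sheafHom ((Coh.push j).obj M)).rightDerived 1).obj ω)).Additive] :
    Nonempty (((DCoh.sheafHom (((DCoh.sheafHom ((Coh.push j).obj M)).rightDerived 1).obj ω)).rightDerived 1).obj ω ≅ (Coh.push j).obj M) := by
  open Groth.Agent Groth.Agent.Synt29 in
  haveI : IsNoetherian S := Groth.Agent.CurveCohLib.isNoetherian_of_proper (k := k)
  haveI : IsLocallyNoetherian C := LocallyOfFiniteType.isLocallyNoetherian j
  haveI := CurveFin.smoothOfRelativeDimension_of_dim (f := S ↘ Spec (CommRingCat.of k)) (d := 2) hdim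
  obtain ⟨H, hH⟩ := Nakai.exists_isAmple_of_regular (k := k) hdim (SurfHodge.regular k)
  have hJc : Coh.IsCoh ((Coh.push j).obj M) := QCoh.isCoh_push j hM
  obtain ⟨E₀, p, hE₀, hp⟩ := S1108.result S H hH _ hJc.1 hJc.2
  haveI := hp
  haveI : Subsingleton (((Coh.push j).obj M).presheaf.stalk (genericPoint S)) := not_not.1 fun h =>
    LMCurve.generic_notMem_range hdim j hC (QCoh.support_push_subset j hM.1 h)
  exact SurfBidual.nonempty_bidual_iso (kernel.ι p) p (kernel.condition p)
    { exact := ShortComplex.exact_kernel p } (S15848.result k S hdim C j hC M hM hMtf E₀ hE₀ p) hE₀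
    (SmoothTop.isInvertible_top (S ↘ Spec (CommRingCat.of k)) 2 hω)

end Groth.Agent.S15851
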