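import Groth.Statements.S15852
import Groth.Agent.SurfRows.ExtGlobalLow
import Groth.Agent.S19675
import Groth.Agent.Lib.SmoothTop
import Groth.Agent.H23.HartogsLine
import Groth.Agent.SheafHomY.Ext
import Groth.Agent.CurveFin.RelDim
import Groth.Agent.QCoh.DevissageP

set_option autoImplicit false
set_option linter.style.haveILetI false
set_option linter.unusedSectionVars false
set_option backward.isDefEq.respectTransparency false
set_option backward.isDefEq.respectTransparency.types false
set_option maxHeartbeats 1000000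
universe u
open CategoryTheory CategoryTheory.Limits AlgebraicGeometry
open Surf

namespace Groth.Agent.S15852

open Groth.Agent Groth.Agent.SheafHomX Groth.Agent.AModX

/-- On an integral scheme the restrictions of an invertible module to nonempty opens are injective. -/
theorem res_injective_dense {X : Scheme.{u}} [IsIntegral X] {L : X.Modules} (hL : PicF.IsInvertible L)
    (U : X.Opens) (hU : (U : Set X).Nonempty) (W : X.Opens) :
    Function.Injective (res L (inf_le_left : W ⊓ U ≤ W)) := by
  refine (injective_iff_map_eq_zero _).2 fun s hs => eq_of_locally _ _ fun p hp => ?_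
  obtain ⟨V, hpV, e, he⟩ := InvX.exists_frame hL p
  refine ⟨W ⊓ V, inf_le_left, ⟨hp, hpV⟩, ?_⟩
  obtain ⟨c, hc⟩ := he.exists_coord inf_le_right (res L (inf_le_left : W ⊓ V ≤ W) s)
  rw [map_zero, hc]
  haveI : Nonempty (W ⊓ V ⊓ U : X.Opens) := by
    obtain ⟨z, hz⟩ := nonempty_preirreducible_inter (W ⊓ V).2 U.2 ⟨p, hp, hpV⟩ hU
    exact ⟨⟨z, hz⟩⟩
  have h0 : c = 0 := by
    refine map_injective_of_isIntegral X (homOfLE (inf_le_left : W ⊓ V ⊓ U ≤ W ⊓ V)) ?_
    show resR inf_le_left c = resR inf_le_left 0
    rw [map_zero]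
    refine he.coord_unique (inf_le_left.trans inf_le_right) ?_
    rw [zero_smul]
    have h := congrArg (res L (inf_le_left : W ⊓ V ⊓ U ≤ W ⊓ V)) hc
    rw [res_res, res_smul, res_res] at h
    rw [← h]
    have h2 := congrArg (res L (inf_le_inf_right U inf_le_left : W ⊓ V ⊓ U ≤ W ⊓ U)) hs
    rw [res_res, map_zero] at h2
    exact h2
  rw [h0, zero_smul]

/-- No homomorphisms from a module carried by a proper closed subset to an invertible module. -/
theorem isZero_hom_push {X C : Scheme.{u}} [IsIntegral X] (j : C ⟶ X) (hclosed : IsClosed (Set.range j))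
    (hne : (Set.range j)ᶜ.Nonempty) (M : C.Modules) {L : X.Modules} (hL : PicF.IsInvertible L) :
    IsZero ((hom ((Coh.push j).obj M)).obj L) := by
  let F := (Coh.push j).obj M
  let U : X.Opens := ⟨(Set.range j)ᶜ, hclosed.isOpen_compl⟩
  have key : ∀ (Z : X.Modules) (φ : (ten F).obj Z ⟶ L), φ = 0 := fun Z φ => by
    refine tensor_hom_ext (M := Z) (N := F) fun W s t => ?_
    refine res_injective_dense hL U hne W ?_
    show L.presheaf.map (homOfLE (inf_le_left : W ⊓ U ≤ W)).op (φ.app W (QCoh.tmS Z F s t)) =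
      L.presheaf.map (homOfLE (inf_le_left : W ⊓ U ≤ W)).op 0
    have h1 := congr($(φ.mapPresheaf.naturality (homOfLE (inf_le_left : W ⊓ U ≤ W)).op) (QCoh.tmS Z F s t))
    refine h1.symm.trans ?_
    have h2 : F.presheaf.map (homOfLE (inf_le_left : W ⊓ U ≤ W)).op t = 0 :=
      eq_of_locally (M := M) _ _ fun p hp => absurd ⟨p, rfl⟩ hp.2
    show φ.app (W ⊓ U) (((DCoh.tensorBi.obj Z).obj F).presheaf.map _ (QCoh.tmS Z F s t)) = _
    rw [QCoh.map_tmS, h2, map_zero]
    refine Eq.trans (congrArg _ ?_) (map_zero _)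
    have h3 := QCoh.tmS_smul_right Z F (0 : Γ(X, W ⊓ U))
      (Z.presheaf.map (homOfLE (inf_le_left : W ⊓ U ≤ W)).op s) (0 : Γ(F, W ⊓ U))
    simpa using h3
  exact (IsZero.iff_id_eq_zero _).2 (((adj F).homEquiv _ _).symm.injective ((key _ _).trans (key _ _).symm))


/-- Let k be an algebraically closed field of characteristic zero, S a smooth projective surface over k
(integral, smooth over k, of dimension two, with a closed immersion over k into some projective
space) and ω an O_S-module which is a second exterior power of the sheaf of differentials of S over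
k. Let j : C → S be a closed immersion with C integral of dimension one and A a coherent O_C-module
with torsion-free stalks and one-dimensional generic stalk, and put A^* = Ext^1_{O_S}(j_*A, ω), the
first right derived functor of the sheaf Hom functor Hom_{O_S}(j_*A, -) (the right adjoint of j_*A ⊗
-) evaluated at ω. Then the group Ext^1_{O_S}(j_*A, ω), computed in the category of all O_S-modules
with its k-linear structure (the Ext instance is the stated hypothesis; it holds), is k-linearly
isomorphic to H^0(S, A^*), and also to the k-dual of H^1(S, j_*A) = H^1(C, A). (Existence of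
k-linear isomorphisms only.) -/
theorem result
    (k : Type u) [Field k] [IsAlgClosed k] [CharZero k]
    (S : Scheme.{u}) [S.Over (Spec (CommRingCat.of k))] [IsIntegral S]
    [Smooth (S ↘ Spec (CommRingCat.of k))] (hdim : topologicalKrullDim S = 2)
    [IsProper (S ↘ Spec (CommRingCat.of k))]
    (hproj : ∃ (n : ℕ) (ι : S ⟶ CohB1.ProjSpace n k), IsClosedImmersion ι ∧
      ι ≫ CohB1.ProjSpace.toSpec n k = S ↘ Spec (CommRingCat.of k))
    [HasInjectiveResolutions S.Modules] [HasExt.{u} S.Modules]
    (ω : S.Modules) (hω : Canon.IsTopDiff (S ↘ Spec (CommRingCat.of k)) 2 ω)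
    (C : Scheme.{u}) (j : C ⟶ S) [IsClosedImmersion j] [IsIntegral C]
    (hC : topologicalKrullDim C = 1)
    (M : C.Modules) (hM : Coh.IsCoh M) (hMtf : TorSh.IsTorsionFree M)
    (hrk : Module.finrank (C.presheaf.stalk (genericPoint C)) (M.presheaf.stalk (genericPoint C)) = 1)
    [DCoh.HasSheafHom ((Coh.push j).obj M)] [(DCoh.sheafHom ((Coh.push j).obj M)).Additive] :
    Nonempty (Abelian.Ext ((Coh.push j).obj M) ω 1 ≃ₗ[k]
        Coh.HH S (((DCoh.sheafHom ((Coh.push j).obj M)).rightDerived 1).obj ω) 0) ∧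
      Nonempty (Abelian.Ext ((Coh.push j).obj M) ω 1 ≃ₗ[k]
        Module.Dual k (Coh.HH S ((Coh.push j).obj M) 1)) := by
  haveI : IsNoetherian S := CurveCohLib.isNoetherian_of_proper (k := k) (X := S)
  haveI hsd := CurveFin.smoothOfRelativeDimension_of_dim (f := S ↘ Spec (CommRingCat.of k)) (d := 2) hdim
  let F := (Coh.push j).obj M
  have hωi : PicF.IsInvertible ω := SmoothTop.isInvertible_top (S ↘ Spec (CommRingCat.of k)) 2 hω
  have hne : (Set.range j)ᶜ.Nonempty := by
    refine Set.nonempty_compl.2 fun h => ?_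
    have e := ((Topology.IsClosedEmbedding.isEmbedding j.isClosedEmbedding).toHomeomorphOfSurjective
      (Set.range_eq_univ.1 h)).isHomeomorph
    rw [IsHomeomorph.topologicalKrullDim_eq _ e, hdim] at hC
    exact absurd hC (by decide)
  haveI : ModSite.HasSheafHom (O := S.sheaf) F := SheafHomX.isLeftAdjoint_ten F
  haveI : HasInjectiveResolutions (ModSite.Mod S.sheaf) := ‹HasInjectiveResolutions S.Modules›
  let σ : ModSite.sheafHom (O := S.sheaf) F ≅ hom F := SheafHomY.sheafHomIso F
  haveI : (ModSite.sheafHom (O := S.sheaf) F).Additive := ModSite.sheafHom_additive S.sheaf F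
  have hz : ∀ q < 1, ExtGlobal.Acyclic ((ModSite.extSh (O := S.sheaf) F q).obj ω) := by
    intro q hq
    obtain rfl : q = 0 := by omega
    let I : InjectiveResolution ω := InjectiveResolution.of _
    obtain ⟨a⟩ := ExtShShift.nonempty_extSh_iso I F 0
    refine ExtGlobal.acyclic_of_isZero (IsZero.of_iso ?_ ((ModSite.sheafHom (O := S.sheaf) F).rightDerivedZeroIsoSelf.app ω))
    exact (isZero_hom_push j j.isClosedEmbedding.isClosed_range hne M hωi).of_iso (σ.app ω)
  obtain ⟨e⟩ := ExtGlobal.nonempty_ext_equiv_lt (A := k) F ω 1 hz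
  let ρ : DCoh.sheafHom F ≅ ModSite.sheafHom (O := S.sheaf) F := SheafHomY.sheafHomLeftIso F ≪≫ σ.symm
  let a := (SiteBase.rightDerivedCongr ρ 1).app ω
  let l : Coh.HH S ((ModSite.extSh (O := S.sheaf) F 1).obj ω) 0 ≃ₗ[k]
      Coh.HH S (((DCoh.sheafHom F).rightDerived 1).obj ω) 0 :=
    LinearEquiv.ofLinear (Canon.HHlin k a.inv 0) (Canon.HHlin k a.hom 0)
      (by
        ext x
        show Sheaf.H.map _ 0 (Sheaf.H.map _ 0 x) = x
        rw [← Sheaf.H.map_comp_apply, ← Functor.map_comp, Iso.hom_inv_id, CategoryTheory.Functor.map_id, Sheaf.H.map_id_apply])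
      (by
        ext x
        show Sheaf.H.map _ 0 (Sheaf.H.map _ 0 x) = x
        rw [← Sheaf.H.map_comp_apply, ← Functor.map_comp, Iso.inv_hom_id, CategoryTheory.Functor.map_id, Sheaf.H.map_id_apply])
  refine ⟨⟨e.trans l⟩, ?_⟩
  obtain ⟨n, ι, hι, hfac⟩ := hproj
  haveI := hι
  exact S19675.result k 2 n S ι hfac ω hω F (QCoh.isCoh_push j hM) 1 (by norm_num)

end Groth.Agent.S15852
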