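import Groth.Statements.S18631
import Groth.Agent.HilbPoly.Misc
import Groth.Agent.Synt29.Rank2
import Groth.Agent.Synt29.LineSimple
import Groth.Agent.RefX.Reflexive
import Groth.Agent.RefX.Extension
import Groth.Agent.RefX.Iso
import Groth.Agent.Pic13Lib.HypSeq
import Groth.Agent.GrpSchLib.SmoothRegular
import Groth.Agent.S2821
import Groth.Agent.AffCompl.InterFinite

set_option autoImplicit false
set_option linter.style.haveILetI false
set_option linter.unusedSectionVars false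
set_option backward.isDefEq.respectTransparency false
set_option backward.isDefEq.respectTransparency.types false
set_option maxHeartbeats 1200000
set_option synthInstance.maxHeartbeats 400000
universe u
open VBPn

namespace Groth.Agent.S18631

section Aux

open CategoryTheory CategoryTheory.Limits AlgebraicGeometry TopologicalSpace Polynomial StabCat
open Groth.Agent Groth.Agent.H23.PicMul Groth.Agent.HilbPoly
open scoped Groth.Agent.H23.PicMul

section Integral

variable {X : Scheme.{u}} [IsIntegral X] [IsLocallyNoetherian X]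

theorem eq_zero_of_stalk_zero {F G : X.Modules} (hG : Coh.IsQCoh G) (htG : TorSh.IsTorsionFree G) (ψ : F ⟶ G)
    (h : ∀ v, ((DerSch.stalkFunctor X (genericPoint X)).map ψ).hom v = 0) : ψ = 0 := by
  refine Scheme.Modules.hom_ext _ _ fun U => AddCommGrpCat.hom_ext (AddMonoidHom.ext fun s => ?_)
  show ψ.app U s = 0
  by_cases hU : Nonempty U
  · obtain ⟨⟨x, hx⟩⟩ := hU
    have hη : genericPoint X ∈ U := ((genericPoint_spec X).mem_open_set_iff U.2).2 (by simpa using ⟨x, hx⟩)
    refine TorLib.eq_zero_of_germ_genericPoint hG htG hη _ ?_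
    exact (DerSch.stalkFunctor_map_germ (genericPoint X) ψ U hη s).symm.trans (h _)
  · refine TopCat.Presheaf.section_ext ⟨G.presheaf, G.isSheaf⟩ U _ _ fun z hz => ?_
    exact absurd ⟨⟨z, hz⟩⟩ hU

theorem rank_kernel_tf [hUFD : ∀ x : X, UniqueFactorizationMonoid (X.presheaf.stalk x)] {E W : X.Modules}
    (hE : FlatMod.IsFinLocFreeOfRank 2 E) (hW : Coh.IsCoh W) (htW : TorSh.IsTorsionFree W)
    (ψ : E ⟶ W) (h0 : ψ ≠ 0) (hk : ¬ Mono ψ) : FlatMod.IsFinLocFreeOfRank 1 (kernel ψ) := by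
  have hEl : FlatMod.IsFinLocFree E := H28.KvbModel.lf_of_rank hE
  have hEc : Coh.IsCoh E := QCoh.isCoh_iff_isFP.2 (QCoh.isFP_of_isFinLocFree hEl)
  have hKc : Coh.IsCoh (kernel ψ) := QCoh.isCoh_kernel hEc hW ψ
  let S : ShortComplex X.Modules := ShortComplex.mk (kernel.ι ψ) ψ (kernel.condition ψ)
  have hex : S.Exact := ShortComplex.exact_kernel ψ
  have hrange : ∀ x, LinearMap.range ((DerSch.stalkFunctor X x).map (kernel.ι ψ)).hom =
      LinearMap.ker ((DerSch.stalkFunctor X x).map ψ).hom := fun x =>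
    ((KFlatLib.exact_iff_stalk S).1 hex x).moduleCat_range_eq_ker
  have hinj : ∀ x, Function.Injective ((DerSch.stalkFunctor X x).map (kernel.ι ψ)).hom :=
    fun x => CurveCohLib.stalk_injective _ x
  have hfree : ∀ x, Module.Free (X.presheaf.stalk x) ((kernel ψ).presheaf.stalk x) := fun x => by
    haveI := QCoh.free_stalk_of_isFinLocFree hEl x
    haveI : Module.IsTorsionFree (X.presheaf.stalk x) (W.presheaf.stalk x) := htW x
    haveI : Module.Finite (X.presheaf.stalk x) (E.presheaf.stalk x) :=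
      QCoh.finite_stalk_of_isFT hEc.1 (QCoh.isFT_of_isFP (QCoh.isCoh_iff_isFP.1 hEc)) x
    have h2 : Module.finrank (X.presheaf.stalk x) (E.presheaf.stalk x) = 2 :=
      TwistSum.finrank_stalk_of_rank hE x
    let f : E.presheaf.stalk x →ₗ[X.presheaf.stalk x] W.presheaf.stalk x := ((DerSch.stalkFunctor X x).map ψ).hom
    haveI := Synt29.Rank2.free_ker (Module.finBasisOfFinrankEq _ _ h2) f
    let g : (kernel ψ).presheaf.stalk x →ₗ[X.presheaf.stalk x] E.presheaf.stalk x :=
      ((DerSch.stalkFunctor X x).map (kernel.ι ψ)).hom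
    exact Module.Free.of_equiv (((LinearEquiv.ofInjective g (hinj x)).trans
      (LinearEquiv.ofEq _ (LinearMap.ker f) (hrange x))).symm)
  have hKl : FlatMod.IsFinLocFree (kernel ψ) := QCoh.isFinLocFree_iff.2 ⟨QCoh.isCoh_iff_isFP.1 hKc, hfree⟩
  have hr := CurveCohLib.isFinLocFreeOfRank_genRank hKl
  suffices h : CurveCohLib.genRank (kernel ψ) = 1 by rwa [h] at hr
  let η := genericPoint X
  letI : Field (X.presheaf.stalk η) := inferInstanceAs (Field X.functionField)
  let g : (kernel ψ).presheaf.stalk η →ₗ[X.presheaf.stalk η] E.presheaf.stalk η :=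
    ((DerSch.stalkFunctor X η).map (kernel.ι ψ)).hom
  have h2 : Module.finrank (X.presheaf.stalk η) (E.presheaf.stalk η) = 2 := CurveCohLib.genRank_eq hE
  haveI : FiniteDimensional (X.presheaf.stalk η) (E.presheaf.stalk η) := Module.finite_of_finrank_eq_succ h2
  have hle : Module.finrank (X.presheaf.stalk η) ((kernel ψ).presheaf.stalk η) ≤ 2 :=
    h2 ▸ LinearMap.finrank_le_finrank_of_injective (f := g) (hinj η)
  have hne2 : Module.finrank (X.presheaf.stalk η) ((kernel ψ).presheaf.stalk η) ≠ 2 := fun h => by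
    have htop : LinearMap.range g = ⊤ := Submodule.eq_top_of_finrank_eq (by
      rw [LinearMap.finrank_range_of_inj (f := g) (hinj η), h, h2])
    refine h0 (eq_zero_of_stalk_zero hW.1 htW ψ fun y => ?_)
    have hy : y ∈ LinearMap.range g := htop ▸ Submodule.mem_top
    exact LinearMap.mem_ker.1 ((hrange η) ▸ hy)
  have hne0 : Module.finrank (X.presheaf.stalk η) ((kernel ψ).presheaf.stalk η) ≠ 0 := fun h => by
    have hr0 : CurveCohLib.genRank (kernel ψ) = 0 := h
    rw [hr0] at hr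
    exact hk (Preadditive.mono_of_isZero_kernel ψ
      (H28.PBAtlas.isZero_of_frames fun x => H28.KvbModel.frameAt_of_rank hr x))
  show Module.finrank (X.presheaf.stalk η) ((kernel ψ).presheaf.stalk η) = 1
  omega

/-- A subsheaf with nonzero generic quotient lies in a sub line bundle. -/
theorem exists_line [hUFD : ∀ x : X, UniqueFactorizationMonoid (X.presheaf.stalk x)] {E F : X.Modules}
    (hE : FlatMod.IsFinLocFreeOfRank 2 E) (hF : Coh.IsCoh F) (ι : F ⟶ E) [Mono ι] (hF0 : ¬ IsZero F)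
    (hQ : genericPoint X ∈ CohB1.support (cokernel ι)) :
    ∃ (M : X.Modules) (l : F ⟶ M) (j : M ⟶ E), Mono j ∧ Mono l ∧ FlatMod.IsFinLocFreeOfRank 1 M := by
  have hEc : Coh.IsCoh E := QCoh.isCoh_iff_isFP.2 (QCoh.isFP_of_isFinLocFree (H28.KvbModel.lf_of_rank hE))
  let Q := cokernel ι
  have hQc : Coh.IsCoh Q := QCoh.isCoh_cokernel hF.1 hEc ι
  have hd1 := RefX.isCoh_dual hQc
  have hd2 : Coh.IsCoh (RefHull.dual (RefHull.dual Q)) := RefX.isCoh_dual hd1
  let ψ : E ⟶ RefHull.dual (RefHull.dual Q) := cokernel.π ι ≫ RefHull.bidualMap Q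
  have hψ : ψ ≠ 0 := fun h => by
    have hb : RefHull.bidualMap Q = 0 := (cancel_epi (cokernel.π ι)).1 (h.trans Limits.comp_zero.symm)
    let η := genericPoint X
    letI : Field (X.presheaf.stalk η) := inferInstanceAs (Field X.functionField)
    haveI : Module.Finite (X.presheaf.stalk η) (Q.presheaf.stalk η) := QCoh.finite_stalk_of_isFT hQc.1 hQc.2 η
    have hr : RefHull.IsReflexiveAt Q η := by
      show Module.IsReflexive (X.presheaf.stalk η) (Q.presheaf.stalk η)
      infer_instance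
    have hbij := (RefX.stalkMap_bidual_bijective_iff hQc η).2 hr
    rw [hb] at hbij
    refine hQ ⟨fun a b => hbij.1 ?_⟩
    have hz : ∀ c, RefHull.stalkMapₗ (0 : Q ⟶ RefHull.ddual Q) η c = 0 := fun c => by
      obtain ⟨U, hx, m, rfl⟩ := TopCat.Presheaf.exists_germ_eq Q.presheaf c
      rw [RefHull.stalkMapₗ_germ]
      exact map_zero _
    rw [hz, hz]
  have hk : ¬ Mono ψ := fun hm => hF0 (by
    haveI := hm
    have h0 : ι = 0 := (cancel_mono ψ).1 (by simp [ψ])
    exact (IsZero.iff_id_eq_zero F).2 ((cancel_mono ι).1 (by rw [h0]; simp)))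
  refine ⟨kernel ψ, kernel.lift ψ ι (by simp [ψ]), kernel.ι ψ, inferInstance, ?_,
    rank_kernel_tf hE hd2 (fun x => RefX.torsionFree_of_reflexive (RefX.isReflexiveAt_dual hd1 x)) ψ hψ hk⟩
  exact mono_of_mono_fac (kernel.lift_ι ψ ι _)

theorem not_mem_support_of_mono {F M : X.Modules} (hF0 : ¬ IsZero F) (hM : FlatMod.IsFinLocFreeOfRank 1 M)
    (l : F ⟶ M) [Mono l] : genericPoint X ∉ CohB1.support (cokernel l) := by
  let η := genericPoint X
  letI : Field (X.presheaf.stalk η) := inferInstanceAs (Field X.functionField)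
  have hMl := H28.KvbModel.lf_of_rank hM
  let Φ := DerSch.stalkFunctor X η
  let f : F.presheaf.stalk η →ₗ[X.presheaf.stalk η] M.presheaf.stalk η := (Φ.map l).hom
  have h1 : Module.finrank (X.presheaf.stalk η) (M.presheaf.stalk η) = 1 := CurveCohLib.genRank_eq hM
  have hne : ∃ v, f v ≠ 0 := by
    by_contra hc
    push Not at hc
    have h0 : l = 0 := eq_zero_of_stalk_zero (QCoh.isQCoh_of_isFinLocFree hMl)
      (GenDiff29.isTorsionFree_of_isFinLocFree hMl) l hc
    exact hF0 ((IsZero.iff_id_eq_zero F).2 ((cancel_mono l).1 (by rw [h0]; simp)))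
  obtain ⟨v, hv⟩ := hne
  have hsurj : Function.Surjective f := fun y => by
    obtain ⟨a, ha⟩ := exists_smul_eq_of_finrank_eq_one h1 hv y
    exact ⟨a • v, by rw [map_smul, ha]⟩
  have hπ : Function.Surjective (Φ.map (cokernel.π l)) := (ModuleCat.epi_iff_surjective _).1 inferInstance
  intro hmem
  refine hmem (subsingleton_of_forall_eq 0 fun z => ?_)
  obtain ⟨w, rfl⟩ := hπ z
  obtain ⟨u, rfl⟩ := hsurj w
  show (Φ.map l ≫ Φ.map (cokernel.π l)).hom u = 0
  haveI : Φ.Additive := DerSch.additive_stalkFunctor η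
  rw [← Functor.map_comp, cokernel.condition, Functor.map_zero]
  rfl

theorem dim_lt_two (hdim : topologicalKrullDim X = 2) {Q : X.Modules} (hQ : Coh.IsCoh Q)
    (h : genericPoint X ∉ CohB1.support Q) : topologicalKrullDim ↥(CohB1.support Q) < ((2 : ℕ) : WithBot ℕ∞) :=
  HilbPoly.dim_lt_closure (x := genericPoint X) (n := 2)
    (by rw [(genericPoint_spec X).def, IsHomeomorph.topologicalKrullDim_eq _ (Homeomorph.Set.univ X).isHomeomorph, hdim]; rfl)
    (QCoh.isClosed_support_of_isFT hQ.1 hQ.2) (by rw [(genericPoint_spec X).def]; exact Set.subset_univ _) h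

theorem support_eq_univ {M : X.Modules} (hM : Coh.IsCoh M) (h : genericPoint X ∈ CohB1.support M) :
    CohB1.support M = Set.univ := by
  refine Set.univ_subset_iff.1 ?_
  rw [← (genericPoint_spec X).def]
  exact closure_minimal (Set.singleton_subset_iff.2 h) (QCoh.isClosed_support_of_isFT hM.1 hM.2)

theorem mem_support_of_rank {r : ℕ} (hr : 1 ≤ r) {M : X.Modules} (hM : FlatMod.IsFinLocFreeOfRank r M) :
    genericPoint X ∈ CohB1.support M := fun h => by
  have h2 : Module.finrank (X.presheaf.stalk (genericPoint X)) (M.presheaf.stalk (genericPoint X)) = r :=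
    CurveCohLib.genRank_eq hM
  haveI : Subsingleton (M.presheaf.stalk (genericPoint X)) := h
  rw [Module.finrank_zero_of_subsingleton] at h2
  omega

end Integral

theorem coeff_comp (P : ℚ[X]) (hP : P.natDegree ≤ 2) (a : ℚ) :
    (P.comp (X + C a)).coeff 2 = P.coeff 2 ∧ (P.comp (X + C a)).coeff 1 = P.coeff 1 + 2 * a * P.coeff 2 := by
  have hsum : P = C (P.coeff 0) + C (P.coeff 1) * X + C (P.coeff 2) * X ^ 2 := by
    conv_lhs => rw [P.as_sum_range' 3 (by omega)]
    simp [Finset.sum_range_succ, ← C_mul_X_pow_eq_monomial]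
  have he : P.comp (X + C a) = C (P.coeff 0 + a * P.coeff 1 + a ^ 2 * P.coeff 2) +
      C (P.coeff 1 + 2 * a * P.coeff 2) * X + C (P.coeff 2) * X ^ 2 := by
    conv_lhs => rw [hsum]
    simp [map_ofNat]
    ring
  rw [he]
  constructor <;> simp [coeff_X, coeff_C, coeff_X_pow, ← map_pow]

theorem alpha_one (P : ℚ[X]) : alpha 1 P = P.coeff 1 := by simp [alpha]

theorem alpha_two (P : ℚ[X]) : alpha 2 P = 2 * P.coeff 2 := by simp [alpha]

/-- A finite closed set has dimension zero. -/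
theorem dim_le_zero {T : Type u} [TopologicalSpace T] [JacobsonSpace T] {Z : Set T} (hc : IsClosed Z)
    (hf : Z.Finite) : topologicalKrullDim ↥Z ≤ 0 := by
  haveI : Finite ↥Z := hf.to_subtype
  haveI : T1Space ↥Z := ⟨fun x => by
    have h := (InterFinite.isClosed_singleton_of_finite hc hf x.2).preimage
      (continuous_subtype_val (p := (· ∈ Z)))
    convert h using 1
    ext y
    simp [Subtype.ext_iff]⟩
  refine Order.krullDim_nonpos_iff_forall_isMax.2 fun a b hab => le_of_eq ?_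
  have key : ∀ c : IrreducibleCloseds ↥Z, ∃ x, (c : Set ↥Z) = {x} := fun c =>
    ⟨_, (isIrreducible_iff_singleton.1 c.2).choose_spec⟩
  obtain ⟨x, hx⟩ := key a
  obtain ⟨y, hy⟩ := key b
  refine IrreducibleCloseds.ext ?_
  have h1 : (a : Set ↥Z) ⊆ b := hab
  rw [hx, hy, Set.singleton_subset_singleton] at h1
  rw [hx, hy, h1]

variable {k : Type u} [Field k] {X : Scheme.{u}} [X.Over (Spec (CommRingCat.of k))]
  [IsProper (X ↘ Spec (CommRingCat.of k))] (ι₀ : X ⟶ CohB1.ProjSpace 3 k)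

/-- `O_X(a)`. -/
noncomputable abbrev Ob (a : ℤ) : X.Modules :=
  (Scheme.Modules.pullback ι₀).obj (Twist.twistProjSpace 3 k a)

local notation "tw" => Pic13Lib.tw ι₀

theorem tw_pow (m : ℕ) : tw 1 ^ m = tw (m : ℤ) := by
  induction m with
  | zero => rw [pow_zero, Nat.cast_zero, Pic13Lib.tw_zero]
  | succ m ih => rw [pow_succ, ih, ← Pic13Lib.tw_add, Nat.cast_succ]

theorem hilb_twist {F G : X.Modules} (a : ℤ) (h : PicF.cl G = PicF.cl F * tw a) {pF pG : ℚ[X]}
    (hF : ShStab.IsHilbPoly k X (Ob ι₀ 1) F pF) (hG : ShStab.IsHilbPoly k X (Ob ι₀ 1) G pG) :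
    pG = pF.comp (Polynomial.X + C (a : ℚ)) := by
  refine HilbPoly.poly_ext (-a).toNat fun m hm => ?_
  have e := (HilbPoly.additive_euler k).iso (ShStab.twist X (Ob ι₀ 1) G m) (ShStab.twist X (Ob ι₀ 1) F (m + a).toNat)
    (cl_eq_iff.1 (by
      show PicF.cl (CohB1.tensorMod G (CohB1.tensorPow (Ob ι₀ 1) m)) =
        PicF.cl (CohB1.tensorMod F (CohB1.tensorPow (Ob ι₀ 1) (m + a).toNat))
      rw [cl_tensor, cl_tensor, cl_tensorPow, cl_tensorPow, h, ← Pic13Lib.tw_eq, tw_pow, tw_pow, mul_assoc,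
        ← Pic13Lib.tw_add, show a + (m : ℤ) = ((m + a).toNat : ℤ) by omega]))
  rw [← hG m, e, hF, eval_comp, eval_add, eval_X, eval_C]
  congr 1
  rw [← Int.cast_natCast, show ((m + a).toNat : ℤ) = (m : ℤ) + a by omega, Int.cast_add, Int.cast_natCast]

variable {ι₀}

/-- The Hilbert polynomial of a subsheaf with the same leading term has smaller subleading term. -/
theorem coeff_one_le (hL : CohB1.IsAmple (Ob ι₀ 1)) {A B : X.Modules} (hA : Coh.IsCoh A) (hB : Coh.IsCoh B)
    (hd : topologicalKrullDim ↥(CohB1.support B) ≤ ((2 : ℕ) : WithBot ℕ∞)) (f : A ⟶ B) [Mono f] {pA pB : ℚ[X]}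
    (hpA : ShStab.IsHilbPoly k X (Ob ι₀ 1) A pA) (hpB : ShStab.IsHilbPoly k X (Ob ι₀ 1) B pB)
    (h2 : pA.coeff 2 = pB.coeff 2) : pA.coeff 1 ≤ pB.coeff 1 := by
  obtain ⟨hQ, hdQ, hpQ⟩ := HilbPoly.cokernel_data hL hA hB hd f hpA hpB
  by_contra hlt
  push Not at hlt
  have hdeg : (pA - pB).natDegree ≤ 1 := natDegree_le_iff_coeff_eq_zero.2 fun N hN => by
    rcases Nat.lt_or_ge 2 N with h | h
    · rw [coeff_sub, coeff_eq_zero_of_natDegree_lt
        (lt_of_le_of_lt (HilbPoly.hilb_props hL.1 hA (HilbPoly.dim_mono hA hB f hd) hpA).1 h),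
        coeff_eq_zero_of_natDegree_lt (lt_of_le_of_lt (HilbPoly.hilb_props hL.1 hB hd hpB).1 h), sub_zero]
    · obtain rfl : N = 2 := by omega
      rw [coeff_sub, h2, sub_self]
  obtain ⟨N, hN⟩ := HilbPoly.eventually_pos hdeg (by rw [coeff_sub]; linarith)
  obtain ⟨N', hN'⟩ := HilbPoly.hilb_nonneg hL hQ hdQ hpQ
  have h3 := hN (max N N') (le_max_left _ _)
  have h4 := hN' (max N N') (le_max_right _ _)
  rw [eval_sub] at h3
  rw [eval_zero, eval_sub] at h4
  linarith

theorem dim_le (hdim : topologicalKrullDim X = 2) (T : Set X) :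
    topologicalKrullDim ↥T ≤ ((2 : ℕ) : WithBot ℕ∞) := by
  refine (H23.TopDim.dim_le_dim_of_subset (Set.subset_univ T)).trans ?_
  rw [IsHomeomorph.topologicalKrullDim_eq _ (Homeomorph.Set.univ X).isHomeomorph, hdim]
  rfl

variable [IsIntegral X] [IsClosedImmersion ι₀]

theorem isCoh_line (a : ℤ) : Coh.IsCoh (Ob ι₀ a) := by
  haveI : IsNoetherian X := CurveCohLib.isNoetherian_of_proper (k := k)
  exact CurveDeg.isCoh_of_isInvertible (Pic13Lib.isInvertible_tw ι₀ a)

theorem lf_line (a : ℤ) : FlatMod.IsFinLocFree (Ob ι₀ a) :=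
  H28.KvbModel.lf_of_rank (InvEnd.isFinLocFreeOfRank_one (Pic13Lib.isInvertible_tw ι₀ a))

variable (ι₀) in
noncomputable def line (a : ℤ) : Synt29.LineSimple.Line X where
  L := Ob ι₀ a
  inv := Ob ι₀ (-a)
  lf := lf_line a
  lfInv := lf_line (-a)
  iso := cl_eq_iff.1 (by
    rw [cl_tensor, ← Pic13Lib.tw_eq, ← Pic13Lib.tw_eq, ← Pic13Lib.tw_add, neg_add_cancel, Pic13Lib.tw_zero]
    rfl)

variable [Infinite k]

variable (ι₀) in
theorem exists_section : ∃ t : Coh.structureModule X ⟶ Ob ι₀ 1, Mono t := by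
  haveI : IsNoetherian X := CurveCohLib.isNoetherian_of_proper (k := k)
  obtain ⟨s, hs⟩ := Pic13Lib.exists_hyperplane_avoid k 3 (S := {ι₀ (genericPoint X)}) (Set.finite_singleton _)
  obtain ⟨t, ht⟩ := Pic13Lib.exists_frame_pullback ι₀ s
  obtain ⟨U, hU, hfr⟩ := ht _ (hs _ rfl)
  refine ⟨t, Synt29.Rank2.mono_of_ne_zero (InvEnd.isFinLocFreeOfRank_one (InvX.isInvertible_structureModule (X := X))) (lf_line 1) t
    fun h0 => ?_⟩
  subst h0
  have hz : ZeroSchX.sv (0 : Coh.structureModule X ⟶ Ob ι₀ 1) U = 0 := rfl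
  rw [hz] at hfr
  have hb := hfr.germ_bijective (x := genericPoint X) hU
  have h2 := @hb.1 (0 : X.presheaf.stalk (genericPoint X)) 1 (by simp)
  exact zero_ne_one h2

theorem exists_mono_up (j : ℕ) : ∃ g : Ob ι₀ 1 ⟶ Ob ι₀ (1 + j), Mono g := by
  induction j with
  | zero => exact ⟨eqToHom (congrArg (Ob ι₀) (by simp)), inferInstance⟩
  | succ j ih =>
    obtain ⟨g, hg⟩ := ih
    haveI := hg
    obtain ⟨t, ht⟩ := exists_section ι₀
    haveI := ht
    let G := Synt29.LineSimple.tens (Ob ι₀ (1 + j))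
    have hS : (ShortComplex.mk t (cokernel.π t) (cokernel.condition t)).ShortExact :=
      { exact := ShortComplex.exact_cokernel t }
    have hS' := H28.PBPush.shortExact_tens (lf_line (ι₀ := ι₀) (1 + j)) hS
    haveI : Mono (G.map t) := hS'.mono_f
    obtain ⟨e₁⟩ := cl_eq_iff.1 (show PicF.cl (Ob ι₀ (1 + (j : ℤ))) = PicF.cl (G.obj (Coh.structureModule X)) by
      show _ = PicF.cl (CohB1.tensorMod _ _)
      rw [cl_tensor, show PicF.cl (Coh.structureModule X) = 1 from rfl, mul_one])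
    obtain ⟨e₂⟩ := cl_eq_iff.1 (show PicF.cl (G.obj (Ob ι₀ 1)) = PicF.cl (Ob ι₀ (1 + ((j + 1 : ℕ) : ℤ))) by
      show PicF.cl (CohB1.tensorMod _ _) = _
      rw [cl_tensor, ← Pic13Lib.tw_eq, ← Pic13Lib.tw_eq, ← Pic13Lib.tw_eq, ← Pic13Lib.tw_add]
      congr 1)
    exact ⟨g ≫ e₁.hom ≫ G.map t ≫ e₂.hom, inferInstance⟩

omit [Infinite k] in
theorem exists_hilb_O (hL : CohB1.IsAmple (Ob ι₀ 1)) (hdim : topologicalKrullDim X = 2) :
    ∃ pO : ℚ[X], ShStab.IsHilbPoly k X (Ob ι₀ 1) (Coh.structureModule X) pO ∧ pO.natDegree ≤ 2 ∧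
      0 < pO.coeff 2 := by
  haveI : IsNoetherian X := CurveCohLib.isNoetherian_of_proper (k := k)
  have hc : Coh.IsCoh (Coh.structureModule X) := QCoh.isCoh_structureModule'
  obtain ⟨p, hp, hdeg, -⟩ := HilbPoly.exists_hilb (k := k) hL.1 hc (dim_le hdim _)
  have hd : topologicalKrullDim ↥(CohB1.support (Coh.structureModule X)) = ((2 : ℕ) : WithBot ℕ∞) := by
    rw [support_eq_univ hc (mem_support_of_rank (r := 1) le_rfl
      (InvEnd.isFinLocFreeOfRank_one (InvX.isInvertible_structureModule (X := X)))),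
      IsHomeomorph.topologicalKrullDim_eq _ (Homeomorph.Set.univ X).isHomeomorph, hdim]
    rfl
  have h := HilbPoly.alpha_pos hL hc hd hp
  rw [alpha_two] at h
  exact ⟨p, hp, hdeg, by linarith⟩

theorem hom_unit_eq_zero (hL : CohB1.IsAmple (Ob ι₀ 1)) (hdim : topologicalKrullDim X = 2)
    (f : Ob ι₀ 1 ⟶ Coh.structureModule X) : f = 0 := by
  haveI : IsNoetherian X := CurveCohLib.isNoetherian_of_proper (k := k)
  by_contra hf
  haveI : Mono f := Synt29.Rank2.mono_of_ne_zero (InvEnd.isFinLocFreeOfRank_one (Pic13Lib.isInvertible_tw ι₀ 1))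
    (H28.KvbModel.lf_of_rank (InvEnd.isFinLocFreeOfRank_one (InvX.isInvertible_structureModule (X := X)))) f hf
  obtain ⟨pO, hpO, hdeg, hpos⟩ := exists_hilb_O hL hdim
  have hc := isCoh_line (ι₀ := ι₀) (1 : ℤ)
  obtain ⟨p1, hp1, -, -⟩ := HilbPoly.exists_hilb (k := k) hL.1 hc (dim_le hdim _)
  have he := hilb_twist ι₀ (F := Coh.structureModule X) (G := Ob ι₀ 1) 1
    (by rw [← Pic13Lib.tw_eq]; exact (one_mul _).symm) hpO hp1
  obtain ⟨h2, h1⟩ := coeff_comp pO hdeg ((1 : ℤ) : ℚ)
  have := coeff_one_le hL hc QCoh.isCoh_structureModule' (dim_le hdim _) f hp1 hpO (by rw [he, h2])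
  rw [he, h1] at this
  push_cast at this
  linarith

theorem main (hL : CohB1.IsAmple (Ob ι₀ 1)) (hdim : topologicalKrullDim X = 2)
    (hUFD : ∀ x : X, UniqueFactorizationMonoid (X.presheaf.stalk x)) (d : ℕ) (hd : 2 ≤ d)
    (hPic : ∀ M : X.Modules, PicF.IsInvertible M → ∃ n : ℤ, Nonempty (M ≅ Ob ι₀ n))
    (Z : X.IdealSheafData) (hZfin : (Z.support : Set X).Finite)
    (hZ : Subsingleton (Coh.HH X (CohB1.tensorMod (ClSub.idealMod Z) (Ob ι₀ ((d : ℤ) - 2))) 0))
    (S : ShortComplex X.Modules) (hS : S.ShortExact)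
    (h₁ : Nonempty (S.X₁ ≅ Coh.structureModule X))
    (h₃ : Nonempty (S.X₃ ≅ CohB1.tensorMod (ClSub.idealMod Z) (Ob ι₀ ((d : ℤ) - 1))))
    (hE : FlatMod.IsFinLocFreeOfRank 2 S.X₂) :
    ShStab.IsMuStable k X (Ob ι₀ 1) S.X₂ 2 := by
  haveI : IsNoetherian X := CurveCohLib.isNoetherian_of_proper (k := k)
  haveI := hUFD
  haveI : IsLocallyNoetherian Z.subscheme := LocallyOfFiniteType.isLocallyNoetherian Z.subschemeι
  haveI : JacobsonSpace X := LocallyOfFiniteType.jacobsonSpace (X ↘ Spec (CommRingCat.of k))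
  obtain ⟨e₁⟩ := h₁
  obtain ⟨e₃⟩ := h₃
  have hOc : Coh.IsCoh (Coh.structureModule X) := QCoh.isCoh_structureModule'
  have hEc : Coh.IsCoh S.X₂ := QCoh.isCoh_iff_isFP.2 (QCoh.isFP_of_isFinLocFree (H28.KvbModel.lf_of_rank hE))
  have hEη := mem_support_of_rank (X := X) (r := 2) (by norm_num) hE
  have hdE : topologicalKrullDim ↥(CohB1.support S.X₂) = ((2 : ℕ) : WithBot ℕ∞) := by
    rw [support_eq_univ hEc hEη, IsHomeomorph.topologicalKrullDim_eq _ (Homeomorph.Set.univ X).isHomeomorph, hdim]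
    rfl
  have htE := GenDiff29.isTorsionFree_of_isFinLocFree (H28.KvbModel.lf_of_rank hE)
  obtain ⟨pO, hpO, hdO, hc2⟩ := exists_hilb_O hL hdim
  -- the ideal sheaf
  haveI : Mono (ClSub.idealModι Z) := inferInstanceAs (Mono (kernel.ι _))
  have hQm : Coh.IsCoh (ClSub.quotMod Z) :=
    QCoh.isCoh_pushforward_finite Z.subschemeι QCoh.isCoh_structureModule'
  have hIc : Coh.IsCoh (ClSub.idealMod Z) := QCoh.isCoh_kernel hOc hQm _
  obtain ⟨pI, hpI, hdI, -⟩ := HilbPoly.exists_hilb (k := k) hL.1 hIc (dim_le hdim _)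
  obtain ⟨hTc, hdT, hpT⟩ := HilbPoly.cokernel_data hL hIc hOc (dim_le hdim _) (ClSub.idealModι Z) hpI hpO
  have hT0 : topologicalKrullDim ↥(CohB1.support (cokernel (ClSub.idealModι Z))) ≤ ((0 : ℕ) : WithBot ℕ∞) := by
    let c : cokernel (ClSub.idealModι Z) ⟶ ClSub.quotMod Z :=
      cokernel.desc _ (ClSub.toSubscheme Z) (kernel.condition _)
    haveI : Mono c := inferInstanceAs (Mono (Abelian.factorThruCoimage (ClSub.toSubscheme Z)))
    have hsub : CohB1.support (cokernel (ClSub.idealModι Z)) ⊆ (Z.support : Set X) := fun x hx => by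
      have h1 := QCoh.support_push_subset Z.subschemeι (QCoh.isCoh_structureModule' (X := Z.subscheme)).1
        (QCoh.mem_support_of_mono hTc.1 hQm.1 c hx)
      rwa [Scheme.IdealSheafData.range_subschemeι] at h1
    exact (H23.TopDim.dim_le_dim_of_subset hsub).trans ((dim_le_zero Z.support.isClosed hZfin).trans (by simp))
  have hT := (HilbPoly.hilb_props hL.1 hTc hT0 hpT).1
  have hI1 : pI.coeff 1 = pO.coeff 1 := by
    have := coeff_eq_zero_of_natDegree_lt (p := pO - pI) (n := 1) (by omega)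
    rw [coeff_sub] at this
    linarith
  have hI2 : pI.coeff 2 = pO.coeff 2 := by
    have := coeff_eq_zero_of_natDegree_lt (p := pO - pI) (n := 2) (by omega)
    rw [coeff_sub] at this
    linarith
  -- the twisted ideal sheaf
  let G₃ := CohB1.tensorMod (ClSub.idealMod Z) (Ob ι₀ ((d : ℤ) - 1))
  have hG₃c : Coh.IsCoh G₃ := AmpleVan.isCoh_tensor hIc (isCoh_line _)
  obtain ⟨pG, hpG, -, -⟩ := HilbPoly.exists_hilb (k := k) hL.1 hG₃c (dim_le hdim _)
  have hG := hilb_twist ι₀ (F := ClSub.idealMod Z) (G := G₃) ((d : ℤ) - 1)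
    (by rw [cl_tensor, ← Pic13Lib.tw_eq]) hpI hpG
  obtain ⟨hG2, hG1⟩ := coeff_comp pI hdI (((d : ℤ) - 1 : ℤ) : ℚ)
  rw [← hG] at hG2 hG1
  have hpE : ShStab.IsHilbPoly k X (Ob ι₀ 1) S.X₂ (pO + pG) :=
    HilbPoly.hilb_add hL.1 hS (SheafHomX.isCoh_of_iso e₁.symm hOc) hEc (SheafHomX.isCoh_of_iso e₃.symm hG₃c)
      (HilbPoly.hilb_iso e₁.symm hpO) (HilbPoly.hilb_iso e₃.symm hpG)
  -- no maps from O(1)
  have hno : ∀ h : Ob ι₀ 1 ⟶ S.X₂, h = 0 := fun h => by
    have h3 : h ≫ S.g = 0 := by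
      have := Synt29.LineSimple.hom_eq_zero k (line ι₀ 1) G₃ (QCoh.subsingleton_HH_of_iso
        (cl_eq_iff.1 (show PicF.cl (CohB1.tensorMod (ClSub.idealMod Z) (Ob ι₀ ((d : ℤ) - 2))) =
          PicF.cl (CohB1.tensorMod (Ob ι₀ (-1)) G₃) by
          rw [cl_tensor, cl_tensor, cl_tensor, ← Pic13Lib.tw_eq, ← Pic13Lib.tw_eq, ← Pic13Lib.tw_eq,
            mul_left_comm, ← Pic13Lib.tw_add]
          congr 2
          ring)).some 0 hZ) (h ≫ S.g ≫ e₃.hom)
      exact (cancel_mono e₃.hom).1 (by rw [Category.assoc, Limits.zero_comp]; exact this)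
    haveI := hS.mono_f
    obtain ⟨h', hh'⟩ := KernelFork.IsLimit.lift' hS.fIsKernel h h3
    have h4 : h' ≫ e₁.hom = 0 := hom_unit_eq_zero hL hdim _
    have h5 : h' = 0 := (cancel_mono e₁.hom).1 (h4.trans Limits.zero_comp.symm)
    rw [← hh', h5]
    exact Limits.zero_comp
  refine ⟨hEc, fun hz => Set.eq_empty_iff_forall_notMem.1 (QCoh.support_eq_empty_of_isZero hz hEc.1) _ hEη, hdE, fun F ι hι hF => ?_, ?_⟩
  · haveI := hι
    intro hcon
    by_cases hFη : genericPoint X ∈ CohB1.support F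
    · rw [support_eq_univ hF hFη, IsHomeomorph.topologicalKrullDim_eq _ (Homeomorph.Set.univ X).isHomeomorph,
        hdim] at hcon
      exact absurd hcon (by decide)
    · have h0 : ι = 0 := eq_zero_of_stalk_zero hEc.1 htE ι fun v => by
        rw [show v = 0 from (not_not.1 hFη : Subsingleton (F.presheaf.stalk (genericPoint X))).elim _ _, map_zero]
      have hz : IsZero F := (IsZero.iff_id_eq_zero F).2 ((cancel_mono ι).1 (by rw [h0]; simp))
      rw [QCoh.support_eq_empty_of_isZero hz hF.1] at hcon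
      haveI : IsEmpty (IrreducibleCloseds ↥(∅ : Set X)) :=
        ⟨fun s => s.2.1.ne_empty (Set.eq_empty_of_isEmpty s.1)⟩
      rw [topologicalKrullDim, Order.krullDim_eq_bot_iff.2 inferInstance, WithBot.bot_add] at hcon
      exact absurd hcon (by simp)
  · intro F ι hι hF pF pE hpF hpE' hpos hlt
    haveI := hι
    obtain rfl := HilbPoly.isHilbPoly_unique hpE' hpE
    rw [alpha_two] at hpos hlt
    rw [alpha_two, coeff_add, hG2, hI2] at hlt
    have hF0 : ¬ IsZero F := fun hz => by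
      rw [HilbPoly.isHilbPoly_unique hpF (HilbPoly.hilb_isZero hz)] at hpos
      simp at hpos
    have hQ : genericPoint X ∈ CohB1.support (cokernel ι) := by
      by_contra hn
      obtain ⟨hQc, hdQ, hpQ⟩ := HilbPoly.cokernel_data hL hF hEc (dim_le hdim _) ι hpF hpE
      have hdeg := (HilbPoly.hilb_props hL.1 hQc
        (HilbPoly.pred_cast (n := 2) (by norm_num) (dim_lt_two hdim hQc hn)) hpQ).1
      have h0 := coeff_eq_zero_of_natDegree_lt (p := pO + pG - pF) (n := 2) (lt_of_le_of_lt hdeg (by norm_num))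
      rw [coeff_sub, coeff_add, hG2, hI2] at h0
      linarith
    obtain ⟨M, l, j, hj, hl, hM⟩ := exists_line hE hF ι hF0 hQ
    haveI := hl
    haveI := hj
    obtain ⟨a, ⟨ea⟩⟩ := hPic M (H28.PBCores.isInvertible_iff_rank.2 hM)
    have hMc : Coh.IsCoh M := SheafHomX.isCoh_of_iso ea.symm (isCoh_line a)
    obtain ⟨pM, hpM, hdM, -⟩ := HilbPoly.exists_hilb (k := k) hL.1 hMc (dim_le hdim _)
    have hMe := hilb_twist ι₀ (F := Coh.structureModule X) (G := M) a
      (by rw [cl_eq_iff.2 ⟨ea⟩, ← Pic13Lib.tw_eq]; exact (one_mul _).symm) hpO hpM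
    obtain ⟨hM2, hM1⟩ := coeff_comp pO hdO (a : ℚ)
    rw [← hMe] at hM2 hM1
    obtain ⟨hQc, -, hpQ⟩ := HilbPoly.cokernel_data hL hF hMc (dim_le hdim _) l hpF hpM
    have hdeg := (HilbPoly.hilb_props hL.1 hQc
      (HilbPoly.pred_cast (n := 2) (by norm_num) (dim_lt_two hdim hQc (not_mem_support_of_mono hF0 hM l))) hpQ).1
    have h2 := coeff_eq_zero_of_natDegree_lt (p := pM - pF) (n := 2) (lt_of_le_of_lt hdeg (by norm_num))
    rw [coeff_sub] at h2
    have h1 := coeff_one_le hL hF hMc (dim_le hdim _) l hpF hpM (by linarith)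
    have ha : a ≤ 0 := by
      by_contra ha
      obtain ⟨g, hg⟩ := exists_mono_up (ι₀ := ι₀) (a - 1).toNat
      haveI := hg
      obtain ⟨w⟩ := cl_eq_iff.1 (show PicF.cl (Ob ι₀ (1 + ((a - 1).toNat : ℤ))) = PicF.cl M by
        rw [cl_eq_iff.2 ⟨ea⟩, show 1 + ((a - 1).toNat : ℤ) = a by omega])
      have hm : Mono (g ≫ w.hom ≫ j) := inferInstance
      rw [hno (g ≫ w.hom ≫ j)] at hm
      have hz : IsZero (Ob ι₀ 1) := (IsZero.iff_id_eq_zero _).2 (Preadditive.mono_iff_cancel_zero _ |>.1 hm _ _ (by simp))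
      exact Set.eq_empty_iff_forall_notMem.1 (QCoh.support_eq_empty_of_isZero hz (isCoh_line (ι₀ := ι₀) 1).1) _
        (mem_support_of_rank (r := 1) le_rfl (InvEnd.isFinLocFreeOfRank_one (Pic13Lib.isInvertible_tw ι₀ 1)))
    show alpha (2 - 1) pF / alpha 2 pF < alpha (2 - 1) (pO + pG) / alpha 2 (pO + pG)
    rw [show (2 : ℕ) - 1 = 1 from rfl, alpha_one, alpha_one, alpha_two, alpha_two, coeff_add, coeff_add, hG2, hG1,
      hI1, hI2, show pF.coeff 2 = pO.coeff 2 by linarith, div_lt_div_iff₀ (by linarith) (by linarith)]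
    push_cast
    have hac : (a : ℚ) * pO.coeff 2 ≤ 0 := mul_nonpos_of_nonpos_of_nonneg (by exact_mod_cast ha) hc2.le
    have hdd : (2 : ℚ) ≤ (d : ℚ) := by exact_mod_cast hd
    nlinarith [mul_pos hc2 hc2]

end Aux

open CategoryTheory CategoryTheory.Limits AlgebraicGeometry TopologicalSpace in
/-- Let k be an algebraically closed field of characteristic zero and X ⊆ P³_k a smooth integral surface
of degree d ≥ 4: ι : X → P³_k a closed immersion over k whose ideal is that of one form F of degree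
d, X proper and smooth over k of dimension 2, polarised by the ample L = ι^*O(1); assume Pic X is
generated by O_X(1), i.e. every invertible O_X-module is isomorphic to ι^*O(n) for some integer n.
Let Z ⊆ X be a closed subscheme with finite support such that H⁰(X, I_Z ⊗ ι^*O(d−2)) = 0, and let 0
→ O_X → E → I_Z ⊗ ι^*O(d−1) → 0 be a short exact sequence of O_X-modules with E finite locally free
of rank 2. Then E is slope-stable (of dimension 2, with respect to L). (The published statement is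
for the rank-2 Ulrich bundles on a general degree-d surface, 4 ≤ d ≤ 15, which come with such a
presentation and vanishing; its argument uses about generality only that Pic X is generated by
O_X(1), and about E only the displayed data; it concludes through the quoted criterion that a rank-2
bundle on such an X is slope-stable once its normalised twist has no sections.) -/
theorem result (k : Type u) [Field k] [IsAlgClosed k] [CharZero k]
    (X : Scheme.{u}) [X.Over (Spec (CommRingCat.of k))] [AlgebraicGeometry.IsIntegral X]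
    [IsProper (X ↘ (Spec (CommRingCat.of k)))] [Smooth (X ↘ (Spec (CommRingCat.of k)))]
    (hdim : topologicalKrullDim X = 2)
    (ι : X ⟶ CohB1.ProjSpace 3 k) [IsClosedImmersion ι] (hιk : ι ≫ CohB1.ProjSpace.toSpec 3 k = X ↘ (Spec (CommRingCat.of k)))
    (hL : CohB1.IsAmple ((Scheme.Modules.pullback ι).obj (Twist.twistProjSpace 3 k (1))))
    (d : ℕ) (hd : 4 ≤ d) (F : LefPen.Form 3 k d) (hF : ι.ker = LefPen.hypIdeal F)
    (hPic : ∀ M : X.Modules, PicF.IsInvertible M → ∃ n : ℤ, Nonempty (M ≅ ((Scheme.Modules.pullback ι).obj (Twist.twistProjSpace 3 k (n)))))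
    (Z : X.IdealSheafData) (hZfin : (Z.support : Set X).Finite)
    (hZ : Subsingleton (Coh.HH X (CohB1.tensorMod (ClSub.idealMod Z) ((Scheme.Modules.pullback ι).obj (Twist.twistProjSpace 3 k ((d : ℤ) - 2)))) 0))
    (S : ShortComplex X.Modules) (hS : S.ShortExact)
    (h₁ : Nonempty (S.X₁ ≅ Coh.structureModule X))
    (h₃ : Nonempty (S.X₃ ≅ CohB1.tensorMod (ClSub.idealMod Z) ((Scheme.Modules.pullback ι).obj (Twist.twistProjSpace 3 k ((d : ℤ) - 1)))))
    (hE : FlatMod.IsFinLocFreeOfRank 2 S.X₂) :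
    ShStab.IsMuStable k X ((Scheme.Modules.pullback ι).obj (Twist.twistProjSpace 3 k (1))) S.X₂ 2 := by
  haveI : Infinite k := inferInstance
  refine main (ι₀ := ι) hL hdim (fun x => ?_) d (by omega) hPic Z hZfin hZ S hS h₁ h₃ hE
  haveI := GrpSchLib.isRegularLocalRing_stalk_of_smooth (X ↘ Spec (CommRingCat.of k)) x
  exact (S2821.result (X.presheaf.stalk x)).2

end Groth.Agent.S18631
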