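import Groth.Statements.S15853
import Groth.Agent.Synt29.K3ExtMain

set_option autoImplicit false
set_option linter.style.haveILetI false
set_option backward.isDefEq.respectTransparency false
set_option backward.isDefEq.respectTransparency.types false
set_option maxHeartbeats 1000000
universe u
open CategoryTheory CategoryTheory.Limits AlgebraicGeometry Polynomial
open ShStab

namespace Groth.Agent.S15853

/-- Let k be an algebraically closed field of characteristic zero and S a K3 surface over k — a smooth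
projective surface (integral, smooth over k, of dimension two, with a closed immersion over k into
some projective space) whose structure sheaf is a second exterior power of its sheaf of
differentials and with H^1(S, O_S) = 0 — whose Picard group is infinite cyclic, generated by the
class of an ample invertible sheaf L. Let V be a coherent O_S-module with torsion-free stalks,
stable of dimension two with respect to L, and let P be its Hilbert polynomial with respect to L,
P(m) = χ(V ⊗ L^m). Assume: the leading coefficient of P is twice that of the Hilbert polynomial of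
O_S (V has rank two); the coefficients of m and of m^2 in P agree (on such a surface this says
c_1(V)·L = L^2, i.e. the first Chern class of V is the class of L); and P(0) = χ(V) ≥ 1
(equivalently c_2(V) ≤ L^2/2 + 3). Then V is an extension of L ⊗ I_Z by O_S for some finite
subscheme Z: there are a coherent subsheaf N ⊆ L with L/N supported in dimension at most zero and a
short exact sequence 0 → O_S → V → N → 0, which moreover does not split. -/
theorem result
    (k : Type u) [Field k] [IsAlgClosed k] [CharZero k]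
    (S : Scheme.{u}) [S.Over (Spec (CommRingCat.of k))] [IsIntegral S]
    [Smooth (S ↘ Spec (CommRingCat.of k))] (hdim : topologicalKrullDim S = 2)
    [IsProper (S ↘ Spec (CommRingCat.of k))]
    (hproj : ∃ (n : ℕ) (ι : S ⟶ CohB1.ProjSpace n k), IsClosedImmersion ι ∧
      ι ≫ CohB1.ProjSpace.toSpec n k = S ↘ Spec (CommRingCat.of k))
    (hK : Canon.IsTopDiff (S ↘ Spec (CommRingCat.of k)) 2 (Coh.structureModule S))
    (hq : Module.finrank k (Coh.HH S (Coh.structureModule S) 1) = 0)
    (L : S.Modules) (hLi : PicF.IsInvertible L) (hLa : CohB1.IsAmple L)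
    [PicGrp.Law S] (hgen : ∀ c : PicLoc.PicSet S, ∃ n : ℤ, c = PicGrp.cls L hLi ^ n)
    (hfree : ∀ n : ℤ, PicGrp.cls L hLi ^ n = 1 → n = 0)
    (V : S.Modules) (hV : Coh.IsCoh V) (hVtf : TorSh.IsTorsionFree V)
    (hst : ShStab.IsStable k S L V 2)
    (P PO : ℚ[X]) (hP : ShStab.IsHilbPoly k S L V P)
    (hPO : ShStab.IsHilbPoly k S L (Coh.structureModule S) PO)
    (hrk : P.coeff 2 = 2 * PO.coeff 2) (hc1 : P.coeff 1 = P.coeff 2) (hchi : 1 ≤ P.coeff 0) :
    ∃ (N : S.Modules) (ι : N ⟶ L) (_ : Mono ι) (_ : Coh.IsCoh N)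
      (_ : topologicalKrullDim (CohB1.support (cokernel ι)) ≤ 0)
      (a : Coh.structureModule S ⟶ V) (b : V ⟶ N) (w : a ≫ b = 0),
      (ShortComplex.mk a b w).ShortExact ∧
        ∀ r : V ⟶ Coh.structureModule S, a ≫ r ≠ 𝟙 (Coh.structureModule S) := by
  open Groth.Agent Groth.Agent.H23.PicMul Groth.Agent.Synt29 in
  classical
  letI := Groth.Agent.H23.PicMul.clMonoid (X := S)
  haveI : IsNoetherian S := Groth.Agent.CurveCohLib.isNoetherian_of_proper (k := k)
  have hreg : ∀ x : S, IsRegularLocalRing (S.presheaf.stalk x) := fun x =>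
    GrpSchLib.isRegularLocalRing_stalk_of_smooth (S ↘ Spec (CommRingCat.of k)) x
  have hp1 := K3Ext.coeff_one_eq_zero hdim hLa hPO hK
  have hc := K3Ext.coeff_two_pos hdim hLa hPO
  obtain ⟨M, hM, hcl, t₀, ht₀⟩ := K3Ext.exists_hom_of_euler hdim hLa hPO hst hP hrk hc1 hproj hK (n := 0)
    (by simpa [Polynomial.coeff_zero_eq_eval_zero] using hchi)
  obtain ⟨eM⟩ := cl_eq_iff.1 (show PicF.cl M = PicF.cl (Coh.structureModule S) by
    rw [← one_def, ← hcl, pow_zero, mul_one])
  have ht : eM.inv ≫ t₀ ≠ 0 := fun h => ht₀ ((cancel_epi eM.inv).1 (h.trans Limits.comp_zero.symm))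
  have hOi : PicF.IsInvertible (Coh.structureModule S) := InvX.isInvertible_structureModule
  have hOc : Coh.IsCoh (Coh.structureModule S) := CurveDeg.isCoh_of_isInvertible hOi
  have hclO : PicF.cl (Coh.structureModule S) * PicF.cl L ^ 0 = 1 := by rw [pow_zero, mul_one, one_def]
  obtain ⟨W, ψ, l, hWc, htW, hlm, pK, pN, hKc, hNc, -, -, hlt, hpK, hpN, htN, hK2, hN2, hN1⟩ :=
    K3Ext.exists_saturated_line hdim hLa hPO hV hVtf hP hOi hclO (eM.inv ≫ t₀) ht
  haveI := hlm
  rw [show P.coeff 2 - PO.coeff 2 = PO.coeff 2 by linarith] at hN2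
  have hle := K3Ext.slope_le hdim hLa hPO hst hP hrk hc1 (kernel.ι ψ) hKc hpK hK2
  have hge := SurfRankOne.coeff_one_le hdim hLa hOc hKc l hPO hpK hK2.symm
  obtain ⟨R, hR, β, hβ, -, i, j, hij, hK1⟩ :=
    K3Ext.exists_hull hdim hLa hPO hreg hgen hKc (SurfRankOne.tf_of_mono (kernel.ι ψ) hVtf) hpK hK2
  haveI := hβ
  rw [hp1] at hK1 hge
  have hij' : j = i := by
    have h1 : (0 : ℚ) ≤ (i : ℚ) - j := by
      rw [hK1] at hge
      nlinarith
    have h2 : (i : ℚ) - j ≤ 1 / 2 := by
      rw [hK1] at hle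
      nlinarith
    have h3 : j ≤ i := by exact_mod_cast (by linarith : (j : ℚ) ≤ i)
    have h4 : i < j + 1 := by exact_mod_cast (by linarith : (i : ℚ) < j + 1)
    omega
  obtain ⟨eR⟩ := cl_eq_iff.1 (show PicF.cl R = PicF.cl (Coh.structureModule S) by
    rw [← one_def, ← K3Ext.pow_mul_eq_one hLi hij (m := 0) (by omega), pow_zero, mul_one])
  let θ : End (Coh.structureModule S) := l ≫ β ≫ eR.hom
  haveI : IsIso θ := by
    letI := CurveEnd.kAlgebra (k := k) (Coh.structureModule S)
    obtain ⟨c, hc'⟩ := (InvEnd.exists_scalar (k := k) hOi).2 θ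
    have hθm : Mono θ := inferInstanceAs (Mono (l ≫ β ≫ eR.hom))
    have hc0 : c ≠ 0 := fun h0 => by
      rw [← hc', h0, map_zero] at hθm
      have hz : IsZero (Coh.structureModule S) :=
        (IsZero.iff_id_eq_zero _).2 (Preadditive.mono_iff_cancel_zero _ |>.1 hθm _ _ (by simp))
      rw [HilbPoly.isHilbPoly_unique hPO (HilbPoly.hilb_isZero hz)] at hc
      simp at hc
    rw [← hc']
    exact (isUnit_iff_isIso _).1 ((Ne.isUnit hc0).map _)
  haveI : IsIso (l ≫ β ≫ eR.hom) := ‹IsIso θ›
  haveI : IsSplitEpi (β ≫ eR.hom) :=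
    ⟨⟨⟨inv (l ≫ β ≫ eR.hom) ≫ l, by rw [Category.assoc]; exact IsIso.inv_hom_id _⟩⟩⟩
  haveI : IsIso (β ≫ eR.hom) := isIso_of_mono_of_epi _
  haveI : IsIso l := IsIso.of_isIso_comp_right l (β ≫ eR.hom)
  have hK0 : pK = PO := HilbPoly.isHilbPoly_unique hpK (HilbPoly.hilb_iso (asIso l) hPO)
  rw [hK0, hp1, sub_zero] at hN1
  obtain ⟨R', hR', γ, hγ, hγs, i', j', hij₂, hN1'⟩ :=
    K3Ext.exists_hull hdim hLa hPO hreg hgen hNc htN hpN hN2
  haveI := hγ
  rw [hp1, hN1, hc1, hrk] at hN1'
  have hij3 : i' = j' + 1 := by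
    have h1 : ((i' : ℚ) - j' - 1) * PO.coeff 2 = 0 := by linarith
    have h2 := (mul_eq_zero.1 h1).resolve_right hc.ne'
    exact_mod_cast (by linarith : (i' : ℚ) = (j' : ℚ) + 1)
  obtain ⟨eR'⟩ := cl_eq_iff.1 (show PicF.cl R' = PicF.cl L by
    rw [K3Ext.eq_pow_of_mul_pow hLi hij₂ hij3, pow_one])
  have hsc : (ShortComplex.mk (kernel.ι ψ) (cokernel.π (kernel.ι ψ)) (cokernel.condition _)).ShortExact :=
    { exact := ShortComplex.exact_cokernel _ }
  have hsc' : (ShortComplex.mk (l ≫ kernel.ι ψ) (cokernel.π (kernel.ι ψ))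
      (by rw [Category.assoc, cokernel.condition, Limits.comp_zero])).ShortExact := by
    refine ShortComplex.shortExact_of_iso ?_ hsc
    exact ShortComplex.isoMk (asIso l).symm (Iso.refl _) (Iso.refl _) (by simp) (by simp)
  refine ⟨cokernel (kernel.ι ψ), γ ≫ eR'.hom, mono_comp _ _, hNc,
    K3Ext.dim_cokernel_comp γ eR'.hom (by simpa using hγs), l ≫ kernel.ι ψ, cokernel.π (kernel.ι ψ),
    (by rw [Category.assoc, cokernel.condition, Limits.comp_zero]), hsc', fun r hr => ?_⟩
  let spl := ShortComplex.Splitting.ofExactOfRetraction _ hsc'.exact r hr hsc'.epi_g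
  haveI : Mono spl.s := mono_of_mono_fac spl.s_g
  have h := K3Ext.slope_le hdim hLa hPO hst hP hrk hc1 spl.s hNc hpN hN2
  rw [hN1, hc1, hrk] at h
  linarith

end Groth.Agent.S15853
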