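import Groth.Statements.S15854
import Groth.Agent.Synt29.K3ExtMain
import Groth.Agent.SeesawX.Crit

set_option autoImplicit false
set_option linter.style.haveILetI false
set_option backward.isDefEq.respectTransparency false
set_option backward.isDefEq.respectTransparency.types false
set_option maxHeartbeats 1000000
universe u
open CategoryTheory CategoryTheory.Limits AlgebraicGeometry Polynomial
open ShStab

namespace Groth.Agent.S15854

/-- Let k be an algebraically closed field of characteristic zero and S a K3 surface over k — a smooth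
projective surface (integral, smooth over k, of dimension two, with a closed immersion over k into
some projective space) whose structure sheaf is a second exterior power of its sheaf of
differentials and with H^1(S, O_S) = 0 — whose Picard group is infinite cyclic, generated by the
class of an ample invertible sheaf L. Let V be a locally free O_S-module of rank two, stable of
dimension two with respect to L, with Hilbert polynomial P, P(m) = χ(V ⊗ L^m), such that the
coefficients of m and m^2 in P agree (c_1(V)·L = L^2, i.e. the first Chern class of V is the class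
of L), and let n be a natural number with P(n) = χ(V ⊗ L^n) ≥ 1 (by Riemann–Roch this is the bound
c_2(V) ≤ (n^2 + n + 1/2) L^2 + 3). Then V is an extension of type m for some m ≤ n: there are a
natural number m ≤ n, an invertible O_S-module M whose class is the inverse of the class of L^{⊗m},
a coherent subsheaf N ⊆ L^{⊗(m+1)} whose quotient is supported in dimension at most zero (N is
L^{⊗(m+1)} twisted by the ideal of a finite subscheme Z_m), and a short exact sequence 0 → M → V → N
→ 0. (The published statement also records the length of Z_m as c_2 + m(m+1)L^2; that Chern-class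
bookkeeping is not restated here. The published statement also assumes the lower bound c_2 >
((n-1)^2 + (n-1) + 1/2) L^2 + 3 with n ≥ 1; the argument uses only the upper bound, and neither the
lower bound nor n ≥ 1 is assumed here.) -/
theorem result
    (k : Type u) [Field k] [IsAlgClosed k] [CharZero k]
    (S : Scheme.{u}) [S.Over (Spec (CommRingCat.of k))] [IsIntegral S]
    [Smooth (S ↘ Spec (CommRingCat.of k))] (hdim : topologicalKrullDim S = 2)
    [IsProper (S ↘ Spec (CommRingCat.of k))]
    (hproj : ∃ (n : ℕ) (ι : S ⟶ CohB1.ProjSpace n k), IsClosedImmersion ι ∧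
      ι ≫ CohB1.ProjSpace.toSpec n k = S ↘ Spec (CommRingCat.of k))
    (hK : Canon.IsTopDiff (S ↘ Spec (CommRingCat.of k)) 2 (Coh.structureModule S))
    (hq : Module.finrank k (Coh.HH S (Coh.structureModule S) 1) = 0)
    (L : S.Modules) (hLi : PicF.IsInvertible L) (hLa : CohB1.IsAmple L)
    [PicGrp.Law S] (hgen : ∀ c : PicLoc.PicSet S, ∃ n : ℤ, c = PicGrp.cls L hLi ^ n)
    (hfree : ∀ n : ℤ, PicGrp.cls L hLi ^ n = 1 → n = 0)
    (V : S.Modules) (hV : FlatMod.IsFinLocFreeOfRank 2 V)
    (hst : ShStab.IsStable k S L V 2)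
    (P : ℚ[X]) (hP : ShStab.IsHilbPoly k S L V P) (hc1 : P.coeff 1 = P.coeff 2)
    (n : ℕ) (hn : 1 ≤ P.eval (n : ℚ)) :
    ∃ (m : ℕ) (_ : m ≤ n) (M : S.Modules) (hM : PicF.IsInvertible M)
      (_ : PicGrp.cls M hM * PicGrp.cls L hLi ^ m = 1)
      (N : S.Modules) (ι : N ⟶ CohB1.tensorPow L (m + 1)) (_ : Mono ι) (_ : Coh.IsCoh N)
      (_ : topologicalKrullDim (CohB1.support (cokernel ι)) ≤ 0)
      (a : M ⟶ V) (b : V ⟶ N) (w : a ≫ b = 0),
      (ShortComplex.mk a b w).ShortExact := by
  open Groth.Agent Groth.Agent.H23.PicMul Groth.Agent.Synt29 in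
  classical
  letI := Groth.Agent.H23.PicMul.clMonoid (X := S)
  haveI : IsNoetherian S := Groth.Agent.CurveCohLib.isNoetherian_of_proper (k := k)
  have hreg : ∀ x : S, IsRegularLocalRing (S.presheaf.stalk x) := fun x =>
    GrpSchLib.isRegularLocalRing_stalk_of_smooth (S ↘ Spec (CommRingCat.of k)) x
  haveI : ∀ x : S, UniqueFactorizationMonoid (S.presheaf.stalk x) := fun x => by
    haveI := hreg x
    exact (S2821.result (S.presheaf.stalk x)).2
  obtain ⟨pO, hpO, -, -⟩ := SurfRankOne.exists_hilb_O (k := k) hdim hLa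
  have hp1 := K3Ext.coeff_one_eq_zero hdim hLa hpO hK
  have hc := K3Ext.coeff_two_pos hdim hLa hpO
  have hrk : P.coeff 2 = 2 * pO.coeff 2 := K3Ext.coeff_two_rank_two hdim hLa hpO hst.1 hP hV
  have hVc : Coh.IsCoh V := hst.1
  have htV : TorSh.IsTorsionFree V := GenDiff29.isTorsionFree_of_isFinLocFree (H28.KvbModel.lf_of_rank hV)
  obtain ⟨M, hM, hcl, t, ht⟩ := K3Ext.exists_hom_of_euler hdim hLa hpO hst hP hrk hc1 hproj hK hn
  obtain ⟨W, ψ, l, hWc, htW, hlm, pK, pN, hKc, hNc, -, hψm, -, hpK, hpN, htN, hK2, hN2, hN1⟩ :=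
    K3Ext.exists_saturated_line hdim hLa hpO hVc htV hP hM hcl t ht
  haveI := hlm
  rw [show P.coeff 2 - pO.coeff 2 = pO.coeff 2 by linarith] at hN2
  have hψ0 : ψ ≠ 0 := K3Ext.ne_zero_of_coeff ψ hpK hP (by linarith)
  have hKi : PicF.IsInvertible (kernel ψ) :=
    SeesawX.isInvertible_of_rank_one (S18631.rank_kernel_tf hV hWc htW ψ hψ0 hψm)
  obtain ⟨pM, hpM, -, -⟩ := HilbPoly.exists_hilb (k := k) hLa.1 (CurveDeg.isCoh_of_isInvertible hM)
    (SurfRankOne.dim_le hdim _)
  obtain ⟨hM2, hM1⟩ := K3Ext.coeff_inv hdim hLa hpO hM hcl hpM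
  have hle := K3Ext.slope_le hdim hLa hpO hst hP hrk hc1 (kernel.ι ψ) hKc hpK hK2
  have hge := SurfRankOne.coeff_one_le hdim hLa (CurveDeg.isCoh_of_isInvertible hM) hKc l hpM hpK
    (hM2.trans hK2.symm)
  obtain ⟨i, j, hij, -, hK1⟩ := SurfRankOne.exists_deg hdim hLa hgen hKi hpK hpO
  rw [hp1] at hK1 hM1
  rw [hM1] at hge
  rw [hK1] at hge hle
  have h1 : i ≤ j := by
    have : (i : ℚ) < (j : ℚ) + 1 := by nlinarith
    have h4 : i < j + 1 := by exact_mod_cast this
    omega
  have h2 : j ≤ i + n := by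
    have : (j : ℚ) ≤ (i : ℚ) + n := by nlinarith
    exact_mod_cast this
  obtain ⟨m, rfl⟩ : ∃ m, j = i + m := ⟨j - i, by omega⟩
  have hm : PicGrp.cls (kernel ψ) hKi * PicGrp.cls L hLi ^ m = 1 := Subtype.ext (by
    have hv : (PicGrp.cls L hLi ^ m).1 = PicF.cl (CohB1.tensorPow L m) := PicGrp.cls_pow_val _ _
    rw [PicGrp.mul_val, PicGrp.cls_val, hv, PicGrp.mulCl_cl, cl_tensor, cl_tensorPow, PicGrp.one_val]
    exact K3Ext.pow_mul_eq_one hLi hij rfl)
  obtain ⟨R, hR, γ, hγ, hγs, i', j', hij₂, hN1'⟩ := K3Ext.exists_hull hdim hLa hpO hreg hgen hNc htN hpN hN2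
  haveI := hγ
  rw [hp1, hN1, hc1, hrk, hK1] at hN1'
  push_cast at hN1'
  have hij3 : i' = j' + (m + 1) := by
    have h3 : ((i' : ℚ) - j' - (m + 1)) * pO.coeff 2 = 0 := by linarith
    have h4 := (mul_eq_zero.1 h3).resolve_right hc.ne'
    exact_mod_cast (by linarith : (i' : ℚ) = (j' : ℚ) + ((m : ℚ) + 1))
  obtain ⟨eR⟩ := cl_eq_iff.1 (show PicF.cl R = PicF.cl (CohB1.tensorPow L (m + 1)) by
    rw [cl_tensorPow, K3Ext.eq_pow_of_mul_pow hLi hij₂ hij3])
  exact ⟨m, by omega, kernel ψ, hKi, hm, cokernel (kernel.ι ψ), γ ≫ eR.hom, mono_comp _ _, hNc,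
    K3Ext.dim_cokernel_comp γ eR.hom (by simpa using hγs), kernel.ι ψ, cokernel.π (kernel.ι ψ),
    cokernel.condition _, { exact := ShortComplex.exact_cokernel _ }⟩

end Groth.Agent.S15854
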