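import Groth.Statements.S15855
import Groth.Agent.Synt29.GenDual
import Groth.Agent.Nakai.SurfProj

set_option autoImplicit false
set_option linter.style.haveILetI false
set_option backward.isDefEq.respectTransparency false
set_option backward.isDefEq.respectTransparency.types false
set_option maxHeartbeats 1000000
universe u
open CategoryTheory CategoryTheory.Limits AlgebraicGeometry
attribute [local instance] HasDerivedCategory.standard
open Surf

namespace Groth.Agent.S15855

/-- Let k be an algebraically closed field of characteristic zero, S a smooth projective surface over k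
(integral, smooth over k, of dimension two, with a closed immersion over k into some projective
space), ω an O_S-module which is a second exterior power of the sheaf of differentials of S over k,
j : C → S a closed immersion with C integral of dimension one, and A a coherent O_C-module with
torsion-free stalks and one-dimensional generic stalk, with H^0(S, j_*A) ≠ 0 and H^1(S, j_*A) ≠ 0.
For a coherent O_S-module F write F^* = Ext^1_{O_S}(F, ω) (first right derived functor of the sheaf
Hom functor Hom_{O_S}(F, -), the right adjoint of F ⊗ -, at ω). Let A' ⊆ j_*A be the base-point-free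
part of A: a globally generated coherent subsheaf such that H^0(S, A') → H^0(S, j_*A) is surjective
(the image of the evaluation map). Let B ⊆ A'^* be, likewise, a globally generated coherent subsheaf
with H^0(S, B) → H^0(S, A'^*) surjective, and put A'' = B^*. Then both A'' and A''^* are globally
generated (quotients of free O_S-modules). -/
theorem result
    (k : Type u) [Field k] [IsAlgClosed k] [CharZero k]
    (S : Scheme.{u}) [S.Over (Spec (CommRingCat.of k))] [IsIntegral S]
    [Smooth (S ↘ Spec (CommRingCat.of k))] (hdim : topologicalKrullDim S = 2)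
    [IsProper (S ↘ Spec (CommRingCat.of k))]
    (hproj : ∃ (n : ℕ) (ι : S ⟶ CohB1.ProjSpace n k), IsClosedImmersion ι ∧
      ι ≫ CohB1.ProjSpace.toSpec n k = S ↘ Spec (CommRingCat.of k))
    [HasInjectiveResolutions S.Modules]
    (ω : S.Modules) (hω : Canon.IsTopDiff (S ↘ Spec (CommRingCat.of k)) 2 ω)
    (C : Scheme.{u}) (j : C ⟶ S) [IsClosedImmersion j] [IsIntegral C]
    (hC : topologicalKrullDim C = 1)
    (M : C.Modules) (hM : Coh.IsCoh M) (hMtf : TorSh.IsTorsionFree M)
    (hrk : Module.finrank (C.presheaf.stalk (genericPoint C)) (M.presheaf.stalk (genericPoint C)) = 1)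
    (h0 : 0 < Module.finrank k (Coh.HH S ((Coh.push j).obj M) 0)) (h1 : 0 < Module.finrank k (Coh.HH S ((Coh.push j).obj M) 1))
    (A' : S.Modules) (ι₁ : A' ⟶ ((Coh.push j).obj M)) [Mono ι₁] (hA'c : Coh.IsCoh A')
    (hA'g : Curv2.IsGloballyGenerated A') (hA'0 : Function.Surjective (Canon.HHlin k ι₁ 0))
    [DCoh.HasSheafHom A'] [(DCoh.sheafHom A').Additive]
    (B : S.Modules) (ι₂ : B ⟶ ((DCoh.sheafHom A').rightDerived 1).obj ω) [Mono ι₂] (hBc : Coh.IsCoh B)
    (hBg : Curv2.IsGloballyGenerated B) (hB0 : Function.Surjective (Canon.HHlin k ι₂ 0))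
    [DCoh.HasSheafHom B] [(DCoh.sheafHom B).Additive]
    [DCoh.HasSheafHom (((DCoh.sheafHom B).rightDerived 1).obj ω)] [(DCoh.sheafHom (((DCoh.sheafHom B).rightDerived 1).obj ω)).Additive] :
    Curv2.IsGloballyGenerated (((DCoh.sheafHom B).rightDerived 1).obj ω) ∧
      Curv2.IsGloballyGenerated (((DCoh.sheafHom (((DCoh.sheafHom B).rightDerived 1).obj ω)).rightDerived 1).obj ω) := by
  open Groth.Agent Groth.Agent.Synt29 in
  haveI : IsNoetherian S := Groth.Agent.CurveCohLib.isNoetherian_of_proper (k := k)
  obtain ⟨H, hH⟩ := Nakai.exists_isAmple_of_regular (k := k) hdim (SurfHodge.regular k)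
  let I : InjectiveResolution ω := InjectiveResolution.of _
  obtain ⟨eA⟩ := ExtOne.nonempty_derived_iso I A'
  obtain ⟨eB⟩ := ExtOne.nonempty_derived_iso I B
  obtain ⟨eD⟩ := ExtOne.nonempty_derived_iso I (((DCoh.sheafHom B).rightDerived 1).obj ω)
  have hB' : Function.Surjective (PnCoh.Finite.mapLin k (ι₂ ≫ eA.hom) 0) := fun y => by
    obtain ⟨x, hx⟩ := hB0 ((CurveCohLib.hhEquiv (k := k) eA 0).symm y)
    refine ⟨x, ?_⟩
    rw [← FFun.mapLin_comp]
    exact (congrArg (PnCoh.Finite.mapLin k eA.hom 0) hx).trans ((CurveCohLib.hhEquiv (k := k) eA 0).apply_symm_apply y)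
  obtain ⟨g₁, g₂⟩ := GenDual.gg_duals (k := k) hdim j hC hH hω I hM hMtf hrk ι₁ hA'c hA'0 h0 hA'g h1 (ι₂ ≫ eA.hom) hBc hBg hB'
  refine ⟨AmpleX.isGloballyGenerated_of_iso eB.symm g₁, AmpleX.isGloballyGenerated_of_iso ?_ g₂⟩
  haveI : ∀ n, IsIso ((ExtShShift.cxMap I eB.hom).f n) := fun n => ⟨(SheafHomX.homMap eB.inv).app _,
    by show (SheafHomX.homMap eB.hom).app _ ≫ _ = 𝟙 _
       rw [← SheafHomX.homMap_comp, eB.inv_hom_id, SheafHomX.homMap_id],
    by show _ ≫ (SheafHomX.homMap eB.hom).app _ = 𝟙 _
       rw [← SheafHomX.homMap_comp, eB.hom_inv_id, SheafHomX.homMap_id]⟩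
  haveI : IsIso (ExtShShift.cxMap I eB.hom) := HomologicalComplex.Hom.isIso_of_components _
  exact asIso (ExtOne.E1map I eB.hom) ≪≫ eD.symm

end Groth.Agent.S15855
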