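import Groth.Statements.S15856
import Groth.Agent.Synt29.SerreBad

set_option autoImplicit false
set_option linter.style.haveILetI false
set_option backward.isDefEq.respectTransparency false
set_option backward.isDefEq.respectTransparency.types false
set_option maxHeartbeats 1000000
universe u
open CategoryTheory CategoryTheory.Limits AlgebraicGeometry
open ShStab

namespace Groth.Agent.S15856

/-- Let k be an algebraically closed field of characteristic zero and S a K3 surface over k — a smooth
projective surface (integral, smooth over k, of dimension two, with a closed immersion over k into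
some projective space) whose structure sheaf is a second exterior power of its sheaf of
differentials and with H^1(S, O_S) = 0 — whose Picard group is infinite cyclic, generated by the
class of an ample invertible sheaf G. Let L and L' be invertible O_S-modules and N ⊆ L' a coherent
subsheaf whose quotient L'/N is supported in dimension at most zero (N is L' twisted by the ideal
sheaf of a finite subscheme Z). If the group Ext^1_{O_S}(N, L), computed in the category of all
O_S-modules with its k-linear structure (the Ext instance is the stated hypothesis; it holds), has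
k-dimension at least 2, then there is a short exact sequence 0 → L → V → N → 0 which does not split
and whose middle term V is not a finite locally free O_S-module. -/
theorem result
    (k : Type u) [Field k] [IsAlgClosed k] [CharZero k]
    (S : Scheme.{u}) [S.Over (Spec (CommRingCat.of k))] [IsIntegral S]
    [Smooth (S ↘ Spec (CommRingCat.of k))] (hdim : topologicalKrullDim S = 2)
    [IsProper (S ↘ Spec (CommRingCat.of k))]
    (hproj : ∃ (n : ℕ) (ι : S ⟶ CohB1.ProjSpace n k), IsClosedImmersion ι ∧
      ι ≫ CohB1.ProjSpace.toSpec n k = S ↘ Spec (CommRingCat.of k))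
    (hK : Canon.IsTopDiff (S ↘ Spec (CommRingCat.of k)) 2 (Coh.structureModule S))
    (hq : Module.finrank k (Coh.HH S (Coh.structureModule S) 1) = 0)
    (G : S.Modules) (hGi : PicF.IsInvertible G) (hGa : CohB1.IsAmple G)
    [PicGrp.Law S] (hgen : ∀ c : PicLoc.PicSet S, ∃ n : ℤ, c = PicGrp.cls G hGi ^ n)
    (hfree : ∀ n : ℤ, PicGrp.cls G hGi ^ n = 1 → n = 0)
    [HasExt.{u} S.Modules]
    (L L' : S.Modules) (hL : PicF.IsInvertible L) (hL' : PicF.IsInvertible L')
    (N : S.Modules) (ι : N ⟶ L') [Mono ι] (hN : Coh.IsCoh N)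
    (hZ : topologicalKrullDim (CohB1.support (cokernel ι)) ≤ 0)
    (h2 : 2 ≤ Module.finrank k (Abelian.Ext N L 1)) :
    ∃ (V : S.Modules) (a : L ⟶ V) (b : V ⟶ N) (w : a ≫ b = 0),
      (ShortComplex.mk a b w).ShortExact ∧ (∀ r : V ⟶ L, a ≫ r ≠ 𝟙 L) ∧
        ¬ FlatMod.IsFinLocFree V := by
  open Groth.Agent Groth.Agent.Synt29 Groth.Agent.H23.PicMul in
  haveI : IsNoetherian S := CurveCohLib.isNoetherian_of_proper (k := k)
  letI := H23.PicMul.clMonoid (X := S)
  obtain ⟨R, hR, eR⟩ := H23.PicInv.exists_inverse hL
  have hLR : PicF.cl L * PicF.cl R = 1 := cl_eq_iff.2 eR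
  haveI : ((DCoh.tensorBi (X := S)).obj R).IsEquivalence := H26.IdealCl.isEquivalence_tensor hR
  let T := SheafHomX.ten R
  haveI : T.IsEquivalence := Functor.isEquivalence_of_iso ((KFlatLib.tensorBiFlipIso S).app R).symm
  obtain ⟨J, hJ⟩ := SerreIdeal.exists_isTwist hN.1 hL' ι
  have hfin : (J.support : Set S).Finite := by
    have hc : Coh.IsCoh (cokernel ι) := QCoh.isCoh_cokernel hN.1 (CurveDeg.isCoh_of_isInvertible hL') ι
    have hsc := QCoh.isClosed_support_of_isFT hc.1 hc.2
    haveI : JacobsonSpace S := LocallyOfFiniteType.jacobsonSpace (S ↘ Spec (CommRingCat.of k))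
    refine (CurveCohLib.finite_of_closedPoints hsc fun x hx => SurfRankOne.isClosed_of_one_lt_coheight hdim
      (SurfRankOne.one_lt_coheight_of_dim_le_zero (k := k) hdim hsc hZ hx)).subset fun x hx => ?_
    by_contra hns
    refine (SerreCover.mem_support_iff.1 hx) (top_le_iff.1 ((SerreIdeal.smul_top_le_iff hL').1 ?_))
    rw [Submodule.top_smul, ← hJ x]
    exact top_le_iff.2 (LinearMap.range_eq_top.2 (SurfRankOne.surjective_of_notMem ι hns)) |>.trans le_rfl
  obtain ⟨n, e, he, hfac⟩ := hproj
  have hh : Module.finrank k (Abelian.Ext N L 1) = Module.finrank k (Coh.HH S (CohB1.tensorMod N R) (2 - 1)) :=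
    ExtTwist.finrank_ext_line (H := G) hdim hGa hK hR (by rw [hLR]; exact H23.PicMul.one_def) hN one_le_two
  haveI : Mono (T.map ι) := inferInstance
  have hbad := SerreBad.existsBad (Λ := CohB1.tensorMod L' R) (N := CohB1.tensorMod N R) (ι := T.map ι) hdim hGa hK
    (InvX.isInvertible_tensorMod hL' hR)
    (SerreK3.h1_line hdim hGa hK hq hgen hfree (InvX.isInvertible_tensorMod hL' hR))
    (ParShLib.isCoh_tensorMod hN (CurveDeg.isCoh_of_isInvertible hR)) (SerreBad.isTwist_ten hJ R) hfin (hh ▸ h2)
  obtain ⟨eM⟩ := cl_eq_iff.1 (show PicF.cl (CohB1.tensorMod (Coh.structureModule S) L) = PicF.cl L by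
    rw [cl_tensor, ← H23.PicMul.one_def, one_mul])
  obtain ⟨eN⟩ := cl_eq_iff.1 (show PicF.cl (CohB1.tensorMod (CohB1.tensorMod N R) L) = PicF.cl N by
    rw [cl_tensor, cl_tensor, mul_assoc, mul_comm (PicF.cl R), hLR, mul_one])
  exact SerreBad.existsBad_iso eM eN (SerreBad.existsBad_twist hL hR hLR hbad)

end Groth.Agent.S15856
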