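import Groth.Statements.S1586
import Groth.Agent.NodeFam.BaseField

-- import your own Groth.Agent.* helpers here

set_option autoImplicit false
set_option backward.isDefEq.respectTransparency false
set_option backward.isDefEq.respectTransparency.types false
universe u
open CategoryTheory CategoryTheory.Limits AlgebraicGeometry
open Curves

namespace Groth.Agent.S1586

/-- Let X be of finite type over k of dimension one and x a node of X. Then every point of the base
change of X to an algebraic closure of k lying over x is an ordinary double point (its complete
local ring is the quotient of the power series ring in two variables by their product). -/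
theorem result (k : Type u) [Field k] (X : Scheme.{u}) [X.Over (Spec (CommRingCat.of k))]
    [LocallyOfFiniteType (X ↘ (Spec (CommRingCat.of k)))] [QuasiCompact (X ↘ (Spec (CommRingCat.of k)))] (hdim : topologicalKrullDim X = 1)
    (x : X) (hx : Curv2.IsNode k X x) (xb : Curv2.bc k X (AlgebraicClosure k)) (hxb : Curv2.bcFst k X (AlgebraicClosure k) xb = x) :
    @Curv2.IsOrdDoublePt (AlgebraicClosure k) _ ((Curv2.bc k X (AlgebraicClosure k)).presheaf.stalk xb) _
      (@Curv2.stalkAlgebra (AlgebraicClosure k) _ (Curv2.bc k X (AlgebraicClosure k)) ⟨Curv2.bcSnd k X (AlgebraicClosure k)⟩ xb) _ := by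
  have h := (NodeFam.isNode_iff x).1 hx
  exact h.odpAt xb hxb


end Groth.Agent.S1586
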