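import Groth.Statements.S15860
import Groth.Agent.Synt29.PlaneBlowEuler
import Mathlib.Analysis.Complex.Polynomial.Basic

set_option autoImplicit false
open CategoryTheory CategoryTheory.Limits AlgebraicGeometry
open BlowUp

namespace Groth.Agent.S15860

/-- Case of a non-positive coefficient of the exceptional divisor. Let σ : X ⟶ P² be the blow-up of the
complex projective plane at a closed point (universal property), I_E the ideal of the exceptional
curve and H = σ^*O(1). For an integer p and a natural number b write M = σ^*O(p) ⊗ I_E ^ b (the line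
bundle pH − bE) and C(n,2) for the binomial coefficient, taken to be 0 when n < 2. Then the
dimensions h^i = dim H^i(X, M) are: if b ≤ p, h^0 = C(p+2,2) − C(b+1,2) and h^1 = h^2 = 0; if p = b
− 1, h^0 = h^1 = h^2 = 0; if p ≤ b − 2, h^0 = 0, h^1 = C(b+1,2) − C(p+2,2) and h^2 = C(−p−1,2). (The
structure of scheme over C on X is the composite through σ.) -/
theorem result
    (x : ↥(CohB1.ProjSpace 2 ℂ)) (hx : IsClosed ({x} : Set ↥(CohB1.ProjSpace 2 ℂ)))
    {X : Scheme.{0}} [X.Over (Spec (CommRingCat.of ℂ))] (σ : X ⟶ CohB1.ProjSpace 2 ℂ)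
    (hσk : σ ≫ CohB1.ProjSpace.toSpec 2 ℂ = X ↘ Spec (CommRingCat.of ℂ))
    (hσ : BlowUp.IsBlowUp σ (Scheme.IdealSheafData.vanishingIdeal ⟨{x}, hx⟩)) (p : ℤ) (b : ℕ) :
    ((b : ℤ) ≤ p →
      (Module.finrank ℂ (Coh.HH X (CohB1.tensorMod ((Scheme.Modules.pullback σ).obj (Twist.twistProjSpace 2 ℂ p))
        (ClSub.idealMod ((BlowUp.exceptional σ (Scheme.IdealSheafData.vanishingIdeal ⟨{x}, hx⟩)) ^ b))) 0) : ℤ) = ((p + 2).toNat.choose 2 : ℤ) - ((b + 1).choose 2 : ℤ) ∧
      Module.finrank ℂ (Coh.HH X (CohB1.tensorMod ((Scheme.Modules.pullback σ).obj (Twist.twistProjSpace 2 ℂ p))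
        (ClSub.idealMod ((BlowUp.exceptional σ (Scheme.IdealSheafData.vanishingIdeal ⟨{x}, hx⟩)) ^ b))) 1) = 0 ∧
      Module.finrank ℂ (Coh.HH X (CohB1.tensorMod ((Scheme.Modules.pullback σ).obj (Twist.twistProjSpace 2 ℂ p))
        (ClSub.idealMod ((BlowUp.exceptional σ (Scheme.IdealSheafData.vanishingIdeal ⟨{x}, hx⟩)) ^ b))) 2) = 0) ∧
    (p = (b : ℤ) - 1 →
      Module.finrank ℂ (Coh.HH X (CohB1.tensorMod ((Scheme.Modules.pullback σ).obj (Twist.twistProjSpace 2 ℂ p))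
        (ClSub.idealMod ((BlowUp.exceptional σ (Scheme.IdealSheafData.vanishingIdeal ⟨{x}, hx⟩)) ^ b))) 0) = 0 ∧
      Module.finrank ℂ (Coh.HH X (CohB1.tensorMod ((Scheme.Modules.pullback σ).obj (Twist.twistProjSpace 2 ℂ p))
        (ClSub.idealMod ((BlowUp.exceptional σ (Scheme.IdealSheafData.vanishingIdeal ⟨{x}, hx⟩)) ^ b))) 1) = 0 ∧
      Module.finrank ℂ (Coh.HH X (CohB1.tensorMod ((Scheme.Modules.pullback σ).obj (Twist.twistProjSpace 2 ℂ p))
        (ClSub.idealMod ((BlowUp.exceptional σ (Scheme.IdealSheafData.vanishingIdeal ⟨{x}, hx⟩)) ^ b))) 2) = 0) ∧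
    (p ≤ (b : ℤ) - 2 →
      Module.finrank ℂ (Coh.HH X (CohB1.tensorMod ((Scheme.Modules.pullback σ).obj (Twist.twistProjSpace 2 ℂ p))
        (ClSub.idealMod ((BlowUp.exceptional σ (Scheme.IdealSheafData.vanishingIdeal ⟨{x}, hx⟩)) ^ b))) 0) = 0 ∧
      (Module.finrank ℂ (Coh.HH X (CohB1.tensorMod ((Scheme.Modules.pullback σ).obj (Twist.twistProjSpace 2 ℂ p))
        (ClSub.idealMod ((BlowUp.exceptional σ (Scheme.IdealSheafData.vanishingIdeal ⟨{x}, hx⟩)) ^ b))) 1) : ℤ) = ((b + 1).choose 2 : ℤ) - ((p + 2).toNat.choose 2 : ℤ) ∧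
      Module.finrank ℂ (Coh.HH X (CohB1.tensorMod ((Scheme.Modules.pullback σ).obj (Twist.twistProjSpace 2 ℂ p))
        (ClSub.idealMod ((BlowUp.exceptional σ (Scheme.IdealSheafData.vanishingIdeal ⟨{x}, hx⟩)) ^ b))) 2) = (-p - 1).toNat.choose 2) := by
  haveI := Synt29.PlaneBlow.isProper_over hx hσ hσk
  haveI := (Synt29.BlowPts.geom _ hx hσ).1
  have hpt : ∀ y ∈ ({x} : Set ↥(CohB1.ProjSpace 2 ℂ)), IsClosed ({y} : Set ↥(CohB1.ProjSpace 2 ℂ)) :=
    fun y hy => hy ▸ hx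
  have hfin : ∀ q, Module.Finite ℂ (Coh.HH X (Synt29.PlaneBlow.Lb hx σ p b) q) := fun q => CurveCohLib.finite_HH
    (AmpleVan.isCoh_invertible (Synt29.PlaneBlow.isInvertible_Lb hx hσ p b)) q
  have hP : ∀ q, ¬ (q = 0 ∧ 0 ≤ p) → ¬ (q = 2 ∧ p ≤ -3) → Module.finrank ℂ (Coh.HH X (Synt29.BlowPts.pO σ p) q) = 0 :=
    fun q h0 h2 => by
    haveI := Synt29.BlowPts.hh_vanish _ (Set.finite_singleton x) hpt hx (by norm_num) hσ p q h0
      (fun h => h2 ⟨h.1, by simpa using h.2⟩)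
    exact Module.finrank_zero_of_subsingleton
  have hhigh := Synt29.PlaneBlow.finrank_high hx hσ hσk p b
  have hge : ∀ q, 3 ≤ q → Subsingleton (Coh.HH X (Synt29.PlaneBlow.Lb hx σ p b) q) := fun q hq => by
    haveI := hfin q
    exact (Module.finrank_zero_iff (R := ℂ)).1
      ((hhigh q (by omega)).trans (hP q (fun h => by omega) (fun h => by omega)))
  have he := Synt29.PlaneBlow.euler_eq hx hσ hσk p b
  rw [Euler.euler_eq_sum ℂ (Synt29.PlaneBlow.Lb hx σ p b) 3 hge] at he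
  simp [Finset.sum_range_succ] at he
  have hePdef := Synt29.PlaneBlow.euler_pO hx hσ hσk p
  rw [Euler.euler_eq_sum ℂ (Synt29.BlowPts.pO σ p) 3 fun q hq =>
    Synt29.BlowPts.hh_vanish _ (Set.finite_singleton x) hpt hx (by norm_num) hσ p q (fun h => by omega)
      (fun h => by omega)] at hePdef
  simp [Finset.sum_range_succ] at hePdef
  have h0 : p < b → Module.finrank ℂ (Coh.HH X (Synt29.PlaneBlow.Lb hx σ p b) 0) = 0 := fun h => by
    haveI := Synt29.PlaneBlow.hh_zero_of_lt hx hσ hσk p b h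
    exact Module.finrank_zero_of_subsingleton
  have h2 := hhigh 2 le_rfl
  have hP1 : Module.finrank ℂ (Coh.HH X (Synt29.BlowPts.pO σ p) 1) = 0 := hP 1 (fun h => by omega) (fun h => by omega)
  refine ⟨fun h => ?_, fun h => ?_, fun h => ?_⟩
  · obtain ⟨c, rfl⟩ : ∃ c : ℕ, p = c := ⟨p.toNat, by omega⟩
    haveI := Synt29.PlaneBlow.hh_pos hx hσ c b (by omega) 1 le_rfl
    have h1 : Module.finrank ℂ (Coh.HH X (Synt29.PlaneBlow.Lb hx σ (c : ℤ) b) 1) = 0 := Module.finrank_zero_of_subsingleton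
    have h22 : Module.finrank ℂ (Coh.HH X (Synt29.PlaneBlow.Lb hx σ (c : ℤ) b) 2) = 0 := h2.trans (hP 2 (fun h => by omega) (fun h => by omega))
    rw [show ((c : ℤ) + 2) = ((c + 2 : ℕ) : ℤ) by push_cast; ring, Ring.choose_natCast] at he
    refine ⟨?_, h1, h22⟩
    show (Module.finrank ℂ (Coh.HH X (Synt29.PlaneBlow.Lb hx σ (c : ℤ) b) 0) : ℤ) = _
    rw [show ((c : ℤ) + 2).toNat = c + 2 by omega]
    omega
  · have h00 := h0 (by omega)
    have h22 : Module.finrank ℂ (Coh.HH X (Synt29.PlaneBlow.Lb hx σ p b) 2) = 0 := h2.trans (hP 2 (fun h => by omega) (fun h => by omega))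
    refine ⟨h00, ?_, h22⟩
    show Module.finrank ℂ (Coh.HH X (Synt29.PlaneBlow.Lb hx σ p b) 1) = 0
    rcases Nat.eq_zero_or_pos b with rfl | hb
    · have e1 := Synt29.PlaneBlow.finrank_iso (k := ℂ) (Synt29.PlaneBlow.nonempty_Lb_zero hx hσ p).some 1
      exact e1.trans hP1
    · obtain ⟨c, rfl⟩ : ∃ c, b = c + 1 := ⟨b - 1, by omega⟩
      obtain rfl : p = (c : ℤ) := by push_cast at h; omega
      haveI := Synt29.PlaneBlow.hh_pos hx hσ c (c + 1) le_rfl 1 le_rfl
      exact Module.finrank_zero_of_subsingleton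
  · have h00 := h0 (by omega)
    refine ⟨h00, ?_, ?_⟩
    · show (Module.finrank ℂ (Coh.HH X (Synt29.PlaneBlow.Lb hx σ p b) 1) : ℤ) = _
      rcases le_or_gt 0 p with hp0 | hp0
      · have hP2 : Module.finrank ℂ (Coh.HH X (Synt29.BlowPts.pO σ p) 2) = 0 := hP 2 (fun h => by omega) (fun h => by omega)
        rw [show (p + 2) = (((p + 2).toNat : ℕ) : ℤ) by omega, Ring.choose_natCast] at he
        omega
      · have hP0 : Module.finrank ℂ (Coh.HH X (Synt29.BlowPts.pO σ p) 0) = 0 := hP 0 (fun h => by omega) (fun h => by omega)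
        rw [Nat.choose_eq_zero_of_lt (show (p + 2).toNat < 2 by omega)]
        omega
    · show Module.finrank ℂ (Coh.HH X (Synt29.PlaneBlow.Lb hx σ p b) 2) = _
      rw [h2]
      rcases le_or_gt 0 p with hp0 | hp0
      · rw [Nat.choose_eq_zero_of_lt (show (-p - 1).toNat < 2 by omega)]
        exact hP 2 (fun h => by omega) (fun h => by omega)
      · have hP0 : Module.finrank ℂ (Coh.HH X (Synt29.BlowPts.pO σ p) 0) = 0 := hP 0 (fun h => by omega) (fun h => by omega)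
        have h1 := Synt29.PlaneBlow.two_mul_choose_two (p + 2)
        have h3 := Synt29.PlaneBlow.two_mul_choose_two (((-p - 1).toNat : ℕ) : ℤ)
        rw [Ring.choose_natCast] at h3
        have h4 : (((-p - 1).toNat : ℕ) : ℤ) = -p - 1 := by omega
        rw [h4] at h3
        have h5 : (((-p - 1).toNat.choose 2 : ℕ) : ℤ) = Ring.choose (p + 2) 2 := by
          nlinarith
        omega
end Groth.Agent.S15860
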