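import Groth.Statements.S15863
import Groth.Agent.BlowPush22.Surf
-- import your own Groth.Agent.* helpers here

set_option autoImplicit false
open CategoryTheory CategoryTheory.Limits AlgebraicGeometry
open SurfBl

namespace Groth.Agent.S15863

/-- Let S be a smooth projective surface over the complex numbers (integral, smooth of relative
dimension 2 over C, admitting a closed immersion over C into some P^n), P_1, …, P_s distinct closed
points, σ : S' ⟶ S the blow-up of S at the reduced finite set {P_1, …, P_s} (universal property) and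
E ⊆ S' the exceptional divisor, the closed subscheme of the inverse image ideal I_E of the ideal of
{P_1, …, P_s} (the disjoint union of the exceptional curves E_i). Let F be a finite locally free
O_{S'}-module whose restriction F|_E to E is trivial, F|_E ≅ O_E^r. Then the counit σ^*σ_*F ⟶ F of
the pull-back / direct-image adjunction is an isomorphism (F ≅ σ^*σ_*F canonically). -/
theorem result
    (S : Scheme.{0}) [S.Over (Spec (CommRingCat.of ℂ))] [IsIntegral S]
    [SmoothOfRelativeDimension 2 (S ↘ Spec (CommRingCat.of ℂ))]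
    (hproj : ∃ (n : ℕ) (ι : S ⟶ CohB1.ProjSpace n ℂ), IsClosedImmersion ι ∧
      ι ≫ CohB1.ProjSpace.toSpec n ℂ = S ↘ Spec (CommRingCat.of ℂ))
    (s : ℕ) (P : Fin s → ↥S) (hP : Function.Injective P) (hPc : ∀ i, IsClosed ({P i} : Set ↥S))
    (hZ : IsClosed (Set.range P))
    {S' : Scheme.{0}} (σ : S' ⟶ S) (hσ : BlowUp.IsBlowUp σ (Scheme.IdealSheafData.vanishingIdeal ⟨Set.range P, hZ⟩))
    (F : S'.Modules) (hF : FlatMod.IsFinLocFree F) (r : ℕ)
    (hE : Nonempty ((Scheme.Modules.pullback (BlowUp.exceptional σ (Scheme.IdealSheafData.vanishingIdeal ⟨Set.range P, hZ⟩)).subschemeι).obj F ≅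
      FlatMod.freeMod (BlowUp.exceptional σ (Scheme.IdealSheafData.vanishingIdeal ⟨Set.range P, hZ⟩)).subscheme r)) :
    IsIso ((Scheme.Modules.pullbackPushforwardAdjunction σ).counit.app F) := by
  exact Groth.Agent.BlowPush22.isIso_counit_of_free (S ↘ Spec (CommRingCat.of ℂ)) σ ⟨Set.range P, hZ⟩
    (Set.finite_range P) (fun z hz => by obtain ⟨i, rfl⟩ := hz; exact hPc i) hσ hF hE

end Groth.Agent.S15863
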