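import Groth.Statements.S15864
import Groth.Agent.BlowPush22.Surf
-- import your own Groth.Agent.* helpers here

set_option autoImplicit false
open CategoryTheory CategoryTheory.Limits AlgebraicGeometry
open SurfBl

namespace Groth.Agent.S15864

/-- Let S be a smooth projective surface over the complex numbers (integral, smooth of relative
dimension 2 over C, admitting a closed immersion over C into some P^n), P_1, …, P_s distinct closed
points, σ : S' ⟶ S the blow-up of S at the reduced finite set {P_1, …, P_s} (universal property) and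
E ⊆ S' the exceptional divisor, the closed subscheme of the inverse image ideal I_E of the ideal of
{P_1, …, P_s} (the disjoint union of the exceptional curves E_i); for an index i let E_i ⊆ S' be the
exceptional curve over P_i, the closed subscheme of the inverse image ideal I_{E_i} of the ideal of
P_i. If F is a finite locally free O_{S'}-module with F|_{E_i} ≅ O_{E_i}^r, then there is an open
subset V ⊆ S' containing E_i over which F is trivial: F|_V ≅ O_V^r. -/
theorem result
    (S : Scheme.{0}) [S.Over (Spec (CommRingCat.of ℂ))] [IsIntegral S]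
    [SmoothOfRelativeDimension 2 (S ↘ Spec (CommRingCat.of ℂ))]
    (hproj : ∃ (n : ℕ) (ι : S ⟶ CohB1.ProjSpace n ℂ), IsClosedImmersion ι ∧
      ι ≫ CohB1.ProjSpace.toSpec n ℂ = S ↘ Spec (CommRingCat.of ℂ))
    (s : ℕ) (P : Fin s → ↥S) (hP : Function.Injective P) (hPc : ∀ i, IsClosed ({P i} : Set ↥S))
    (hZ : IsClosed (Set.range P))
    {S' : Scheme.{0}} (σ : S' ⟶ S) (hσ : BlowUp.IsBlowUp σ (Scheme.IdealSheafData.vanishingIdeal ⟨Set.range P, hZ⟩))
    (F : S'.Modules) (hF : FlatMod.IsFinLocFree F) (r : ℕ) (i : Fin s)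
    (hE : Nonempty ((Scheme.Modules.pullback ((Scheme.IdealSheafData.vanishingIdeal ⟨{P i}, hPc i⟩).comap σ).subschemeι).obj F ≅
      FlatMod.freeMod ((Scheme.IdealSheafData.vanishingIdeal ⟨{P i}, hPc i⟩).comap σ).subscheme r)) :
    ∃ V : S'.Opens, (((Scheme.IdealSheafData.vanishingIdeal ⟨{P i}, hPc i⟩).comap σ).support : Set ↥S') ⊆ (V : Set ↥S') ∧
      Nonempty (F.restrict V.ι ≅ FlatMod.freeMod (↑V) r) := by
  obtain ⟨W, V, hW, hV, -, e⟩ := Groth.Agent.BlowPush22.exists_free_chart (S ↘ Spec (CommRingCat.of ℂ)) σ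
    ⟨Set.range P, hZ⟩ (Set.finite_range P) (fun z hz => by obtain ⟨j, rfl⟩ := hz; exact hPc j) hσ hF (P i)
    ((Scheme.IdealSheafData.vanishingIdeal ⟨{P i}, hPc i⟩).comap σ) (fun O hO => by
      rw [← Scheme.IdealSheafData.comap_comp, ← Scheme.IdealSheafData.comap_comp, ← morphismRestrict_ι,
        Scheme.IdealSheafData.comap_comp, Scheme.IdealSheafData.comap_comp]
      refine congrArg (fun I => Scheme.IdealSheafData.comap I (σ ∣_ O))
        (Groth.Agent.BlowPush22.comap_vanishingIdeal_congr O.ι ⟨{P i}, hPc i⟩ ⟨Set.range P, hZ⟩ ?_)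
      ext y
      exact ⟨fun h => ⟨i, h.symm⟩, fun h => hO ⟨h, y.2⟩⟩) hE
  refine ⟨V, fun x hx => ?_, e⟩
  rw [Scheme.IdealSheafData.support_comap] at hx
  have h1 : σ x = P i := hx
  exact hV x (h1 ▸ hW) (h1 ▸ ⟨i, rfl⟩)

end Groth.Agent.S15864
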