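import Groth.Statements.S15865
import Groth.Agent.BlowPush22.SurfCoh
-- import your own Groth.Agent.* helpers here

set_option autoImplicit false
open CategoryTheory CategoryTheory.Limits AlgebraicGeometry
open SurfBl

namespace Groth.Agent.S15865

/-- Let S be a smooth projective surface over the complex numbers (integral, smooth of relative
dimension 2 over C, admitting a closed immersion over C into some P^n), P_1, …, P_s distinct closed
points, σ : S' ⟶ S the blow-up of S at the reduced finite set {P_1, …, P_s} (universal property) and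
E ⊆ S' the exceptional divisor, the closed subscheme of the inverse image ideal I_E of the ideal of
{P_1, …, P_s} (a disjoint union of projective lines E_i). Let F be a finite locally free
O_{S'}-module of rank r all of whose splitting types (a_{i,1}, …, a_{i,r}) on the E_i lie in {−2,
−1, 0}, stated cohomologically: H^1(E, (F ⊗ I_E)|_E) = 0 (this is F|_E(1), so a_{i,j} ≥ −2) and
H^0(E, (F ⊗ L)|_E) = 0 for every O_{S'}-module L with L ⊗ I_E ≅ O_{S'} (this is F|_E(−1), so a_{i,j}
≤ 0). Then σ_*F is finite locally free of rank r. If moreover H^1(E, F|_E) = 0 (all a_{i,j} in {−1,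
0}), then F and σ_*F have the same cohomology: R^p σ_*F = 0 for all p ≥ 1, and H^p(S', F) ≅ H^p(S,
σ_*F) for every p as vector spaces over C (existence of C-linear isomorphisms only, i.e. equality of
dimensions; the structure of scheme over C on S' is the composite through σ). -/
theorem result
    (S : Scheme.{0}) [S.Over (Spec (CommRingCat.of ℂ))] [IsIntegral S]
    [SmoothOfRelativeDimension 2 (S ↘ Spec (CommRingCat.of ℂ))]
    (hproj : ∃ (n : ℕ) (ι : S ⟶ CohB1.ProjSpace n ℂ), IsClosedImmersion ι ∧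
      ι ≫ CohB1.ProjSpace.toSpec n ℂ = S ↘ Spec (CommRingCat.of ℂ))
    (s : ℕ) (P : Fin s → ↥S) (hP : Function.Injective P) (hPc : ∀ i, IsClosed ({P i} : Set ↥S))
    (hZ : IsClosed (Set.range P))
    {S' : Scheme.{0}} [S'.Over (Spec (CommRingCat.of ℂ))] (σ : S' ⟶ S)
    (hσk : σ ≫ (S ↘ Spec (CommRingCat.of ℂ)) = S' ↘ Spec (CommRingCat.of ℂ))
    (hσ : BlowUp.IsBlowUp σ (Scheme.IdealSheafData.vanishingIdeal ⟨Set.range P, hZ⟩))
    (F : S'.Modules) (r : ℕ) (hF : FlatMod.IsFinLocFreeOfRank r F)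
    (h1 : Subsingleton (Coh.HH (BlowUp.exceptional σ (Scheme.IdealSheafData.vanishingIdeal ⟨Set.range P, hZ⟩)).subscheme ((Scheme.Modules.pullback (BlowUp.exceptional σ (Scheme.IdealSheafData.vanishingIdeal ⟨Set.range P, hZ⟩)).subschemeι).obj (CohB1.tensorMod F (ClSub.idealMod (BlowUp.exceptional σ (Scheme.IdealSheafData.vanishingIdeal ⟨Set.range P, hZ⟩))))) 1))
    (h0 : ∀ L : S'.Modules, ClSub.IsInverseOf L (ClSub.idealMod (BlowUp.exceptional σ (Scheme.IdealSheafData.vanishingIdeal ⟨Set.range P, hZ⟩))) →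
      Subsingleton (Coh.HH (BlowUp.exceptional σ (Scheme.IdealSheafData.vanishingIdeal ⟨Set.range P, hZ⟩)).subscheme ((Scheme.Modules.pullback (BlowUp.exceptional σ (Scheme.IdealSheafData.vanishingIdeal ⟨Set.range P, hZ⟩)).subschemeι).obj (CohB1.tensorMod F L)) 0))
    [HasInjectiveResolutions S'.Modules] :
    FlatMod.IsFinLocFreeOfRank r ((Scheme.Modules.pushforward σ).obj F) ∧
    (Subsingleton (Coh.HH (BlowUp.exceptional σ (Scheme.IdealSheafData.vanishingIdeal ⟨Set.range P, hZ⟩)).subscheme ((Scheme.Modules.pullback (BlowUp.exceptional σ (Scheme.IdealSheafData.vanishingIdeal ⟨Set.range P, hZ⟩)).subschemeι).obj F) 1) →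
      (∀ p : ℕ, 1 ≤ p → IsZero ((Coh.Rpush σ p).obj F)) ∧
      ∀ p : ℕ, Nonempty (Coh.HH S' F p ≃ₗ[ℂ] Coh.HH S ((Scheme.Modules.pushforward σ).obj F) p)) := by
  have hfin : (Set.range P).Finite := Set.finite_range P
  have hpts : ∀ z ∈ Set.range P, IsClosed ({z} : Set ↥S) := fun z hz => by obtain ⟨j, rfl⟩ := hz; exact hPc j
  have hlf : FlatMod.IsFinLocFree F := fun x => (hF x).elim fun U h => ⟨U, r, h⟩
  obtain ⟨L, hL⟩ := Groth.Agent.BlowPush22.exists_isInverseOf hσ.1
  have hp := Groth.Agent.BlowPush22.isFinLocFree_push (S ↘ Spec (CommRingCat.of ℂ)) σ ⟨Set.range P, hZ⟩ hfin hpts hσ hlf hL (h0 L hL)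
  refine ⟨Groth.Agent.BlowPush22.rank_push (S ↘ Spec (CommRingCat.of ℂ)) σ ⟨Set.range P, hZ⟩ hpts hσ hF hp, fun hE => ?_⟩
  have hR : ∀ p : ℕ, 1 ≤ p → IsZero ((Coh.Rpush σ p).obj F) := fun p hp => by
    obtain ⟨q, rfl⟩ : ∃ q, p = q + 1 := ⟨p - 1, by omega⟩
    exact Groth.Agent.H9Misc.RelExtTwistVanish.isZero_Rpush_of_RpushAb σ F q
      (Groth.Agent.BlowPush22.isZero_RpushAb_of_h1 (S ↘ Spec (CommRingCat.of ℂ)) σ ⟨Set.range P, hZ⟩ hfin hpts hσ hlf hE
        (q + 1) (by omega))
  exact ⟨hR, fun p => Groth.Agent.BlowPush22.leray_linear σ hσk (fun p hp => hR p hp) p⟩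

end Groth.Agent.S15865
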