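import Groth.Statements.S15866
import Groth.Agent.DegMult16.Section
import Groth.Agent.DegMult16.Stalk
import Groth.Agent.SegreX.Basic
import Groth.Agent.PnCoh.Chow.Proper
import Groth.Agent.Lib.CurveRR
import Groth.Agent.PicClLib.Basic
-- import your own Groth.Agent.* helpers here

set_option autoImplicit false
set_option backward.isDefEq.respectTransparency false
set_option backward.isDefEq.respectTransparency.types false
open CategoryTheory CategoryTheory.Limits AlgebraicGeometry
open SurfBl

namespace Groth.Agent.S15866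
open Groth.Agent

/-- Let S be a smooth projective surface over the complex numbers (integral, smooth of relative
dimension 2 over C) with a closed immersion ι over C into some projective space P^n, H = ι^*O(1) the
very ample invertible module, C ⊆ S an integral curve (an integral closed subscheme of dimension
one, closed immersion j over C), P a closed point of S with ideal m_P, and m a natural number such
that the ideal of C is contained in m_P^m, i.e. C has multiplicity at least m at P. Then H·C ≥ m,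
where H·C is the degree of H|_C on C, written χ(C, j^*H) − χ(C, O_C). (The published statement is
for a curve C ⊆ S; this row takes C integral.) -/
theorem result
    (S : Scheme.{0}) [S.Over (Spec (CommRingCat.of ℂ))] [IsIntegral S]
    [SmoothOfRelativeDimension 2 (S ↘ Spec (CommRingCat.of ℂ))]
    (n : ℕ) (ι : S ⟶ CohB1.ProjSpace n ℂ) [IsClosedImmersion ι]
    (hι : ι ≫ CohB1.ProjSpace.toSpec n ℂ = S ↘ Spec (CommRingCat.of ℂ))
    (C : Scheme.{0}) [C.Over (Spec (CommRingCat.of ℂ))] [IsIntegral C] (hdimC : topologicalKrullDim ↥C = 1)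
    (j : C ⟶ S) [IsClosedImmersion j] (hj : j ≫ (S ↘ Spec (CommRingCat.of ℂ)) = C ↘ Spec (CommRingCat.of ℂ))
    (P : ↥S) (hP : IsClosed ({P} : Set ↥S)) (m : ℕ)
    (hm : j.ker ≤ Scheme.IdealSheafData.vanishingIdeal ⟨{P}, hP⟩ ^ m) :
    (m : ℤ) ≤ Curv2.deg ℂ C ((Scheme.Modules.pullback j).obj
      ((Scheme.Modules.pullback ι).obj (Twist.twistProjSpace n ℂ 1))) 1 := by
  classical
  haveI := PnCoh.Chow.isProper_toSpec n ℂ
  haveI : IsProper (C ↘ Spec (CommRingCat.of ℂ)) := by
    rw [← hj, ← hι, ← Category.assoc]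
    infer_instance
  haveI := CurveCohLib.isNoetherian_of_proper (k := ℂ) (X := C)
  have e : (Scheme.Modules.pullback j).obj ((Scheme.Modules.pullback ι).obj (Twist.twistProjSpace n ℂ 1)) ≅
      (Scheme.Modules.pullback (j ≫ ι)).obj (Twist.twistProjSpace n ℂ 1) :=
    (Scheme.Modules.pullbackComp j ι).app _
  rw [CurveRR.deg_congr ℂ e]
  obtain ⟨x, hxc, hxm⟩ : ∃ x : C, IsClosed ({x} : Set C) ∧ (m ≠ 0 → j x = P) := by
    rcases eq_or_ne m 0 with h0 | h0
    · obtain ⟨F, hFc, hF⟩ := CurveSection.exists_closed_finset ℂ hdimC 1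
      obtain ⟨x, hx⟩ := Finset.card_pos.1 (hFc ▸ Nat.one_pos : 0 < F.card)
      exact ⟨x, hF x hx, fun h => absurd h0 h⟩
    · obtain ⟨x, hx⟩ := DegMult16.exists_preimage j hP h0 hm
      refine ⟨x, ?_, fun _ => hx⟩
      have : ({x} : Set C) = j ⁻¹' {P} := Set.eq_of_subset_of_subset (fun y hy => by
          rw [Set.mem_singleton_iff] at hy
          subst hy
          exact hx)
        fun y hy => j.isClosedEmbedding.injective ((show j y = P from hy).trans hx.symm)
      rw [this]
      exact hP.preimage j.continuous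
  obtain ⟨s, U, hxU, ε, a, hs, hε, ha, hga⟩ := DegMult16.exists_section_vanishing_at
    (𝒜 := CohB1.polyGrading n ℂ) ℂ (j ≫ ι) hdimC (fun i => MvPolynomial.X i)
    (fun i => MvPolynomial.isHomogeneous_X ℂ i)
    (Proj.iSup_basicOpen_eq_top _ _ (SegreX.irrelevant_le_span n ℂ)) hxc
  refine DegMult16.le_deg s x hε hxU hga hdimC ?_ hs m ?_
  · exact PicClLib.isInvertible_pullback _ (PnCoh.Finite.isInvertible_twist
      (fun i => (MvPolynomial.X i : MvPolynomial (Fin (n + 1)) ℂ)) (fun i => MvPolynomial.isHomogeneous_X ℂ i)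
      (Proj.iSup_basicOpen_eq_top _ _ (SegreX.irrelevant_le_span n ℂ)) 1)
  rcases eq_or_ne m 0 with h0 | h0
  · exact Or.inl h0
  right
  have hxP := hxm h0
  have hker := DegMult16.ker_stalkMap_le_pow j hP hm x hxP
  have hPc : IsClosed ({j x} : Set S) := by rw [hxP]; exact hP
  have hd := DegMult16.two_le_dim ℂ (S ↘ Spec (CommRingCat.of ℂ)) (j x) hPc
  haveI : Smooth (S ↘ Spec (CommRingCat.of ℂ)) := SmoothOfRelativeDimension.smooth 2 _
  haveI : IsLocallyNoetherian S := LocallyOfFiniteType.isLocallyNoetherian (S ↘ Spec (CommRingCat.of ℂ))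
  obtain ⟨b, rfl⟩ := j.stalkMap_surjective x a
  have hb : b ∈ IsLocalRing.maximalIdeal (S.presheaf.stalk (j x)) := by
    by_contra h
    exact (IsLocalRing.mem_maximalIdeal _).1 ha
      ((not_not.1 fun hu => h ((IsLocalRing.mem_maximalIdeal _).2 hu)).map (j.stalkMap x).hom)
  obtain ⟨r, hr, hrn⟩ := DegMult16.exists_mem_pow_notMem hd hb (m - 1)
  refine ⟨j.stalkMap x r, ?_, fun hdvd => hrn ?_⟩
  · have h1 : Ideal.map (j.stalkMap x).hom (IsLocalRing.maximalIdeal (S.presheaf.stalk (j x))) ≤
        IsLocalRing.maximalIdeal (C.presheaf.stalk x) :=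
      Ideal.map_le_iff_le_comap.2 fun c hc => (IsLocalRing.mem_maximalIdeal _).2 fun hu =>
        (IsLocalRing.mem_maximalIdeal c).1 hc ((isUnit_map_iff (j.stalkMap x).hom c).1 hu)
    refine Ideal.pow_right_mono h1 (m - 1) ?_
    rw [← Ideal.map_pow]
    exact Ideal.mem_map_of_mem _ hr
  · obtain ⟨q, hq⟩ := hdvd
    obtain ⟨q', rfl⟩ := j.stalkMap_surjective x q
    have h1 : r - b * q' ∈ RingHom.ker (j.stalkMap x).hom := by
      rw [RingHom.mem_ker, map_sub, map_mul, sub_eq_zero]
      exact hq
    rw [show m - 1 + 1 = m by omega]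
    exact Submodule.mem_sup.2 ⟨b * q', Ideal.mem_span_singleton.2 (dvd_mul_right b q'), r - b * q', hker h1,
      add_sub_cancel _ _⟩

end Groth.Agent.S15866
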