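import Groth.Statements.S15867
import Groth.Agent.BlowPush22.End
import Groth.Agent.Lib.RegDescentBase
-- import your own Groth.Agent.* helpers here

set_option autoImplicit false
open CategoryTheory CategoryTheory.Limits AlgebraicGeometry
open SurfBl

namespace Groth.Agent.S15867

/-- Let S be a smooth projective surface over the complex numbers (integral, smooth of relative
dimension 2 over C, admitting a closed immersion over C into some P^n), P_1, …, P_s distinct closed
points, σ : S' ⟶ S the blow-up of S at the reduced finite set {P_1, …, P_s} (universal property) and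
E ⊆ S' the exceptional divisor, the closed subscheme of the inverse image ideal of the ideal of
{P_1, …, P_s}. Let F be a finite locally free O_{S'}-module with F|_E ≅ O_E^r. Then H^i(S', End(F))
≅ H^i(S, End(σ_*F)) for every i, where End denotes the sheaf of endomorphisms (the internal Hom of
O-modules applied to the module itself; the instance hypotheses say that these internal Hom functors
exist, which is always the case). The isomorphism is one of vector spaces over C, the structure of
scheme over C on S' being the composite through σ; existence of C-linear isomorphisms only (i.e.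
equality of dimensions). -/
theorem result
    (S : Scheme.{0}) [S.Over (Spec (CommRingCat.of ℂ))] [IsIntegral S]
    [SmoothOfRelativeDimension 2 (S ↘ Spec (CommRingCat.of ℂ))]
    (hproj : ∃ (n : ℕ) (ι : S ⟶ CohB1.ProjSpace n ℂ), IsClosedImmersion ι ∧
      ι ≫ CohB1.ProjSpace.toSpec n ℂ = S ↘ Spec (CommRingCat.of ℂ))
    (s : ℕ) (P : Fin s → ↥S) (hP : Function.Injective P) (hPc : ∀ i, IsClosed ({P i} : Set ↥S))
    (hZ : IsClosed (Set.range P))
    {S' : Scheme.{0}} [S'.Over (Spec (CommRingCat.of ℂ))] (σ : S' ⟶ S)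
    (hσk : σ ≫ (S ↘ Spec (CommRingCat.of ℂ)) = S' ↘ Spec (CommRingCat.of ℂ))
    (hσ : BlowUp.IsBlowUp σ (Scheme.IdealSheafData.vanishingIdeal ⟨Set.range P, hZ⟩))
    (F : S'.Modules) (hF : FlatMod.IsFinLocFree F) (r : ℕ)
    (hE : Nonempty ((Scheme.Modules.pullback (BlowUp.exceptional σ (Scheme.IdealSheafData.vanishingIdeal ⟨Set.range P, hZ⟩)).subschemeι).obj F ≅
      FlatMod.freeMod (BlowUp.exceptional σ (Scheme.IdealSheafData.vanishingIdeal ⟨Set.range P, hZ⟩)).subscheme r))
    [ModSite.HasSheafHom (O := S'.sheaf) F]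
    [ModSite.HasSheafHom (O := S.sheaf) ((Scheme.Modules.pushforward σ).obj F)] (i : ℕ) :
    Nonempty (Coh.HH S' ((ModSite.sheafHom (O := S'.sheaf) F).obj F) i ≃ₗ[ℂ]
      Coh.HH S ((ModSite.sheafHom (O := S.sheaf) ((Scheme.Modules.pushforward σ).obj F)).obj
        ((Scheme.Modules.pushforward σ).obj F)) i) := by
  haveI : HasInjectiveResolutions S'.Modules := Groth.Agent.KFlatLib.hasInjectiveResolutions_modules
  have hfin : (Set.range P).Finite := Set.finite_range P
  have hpts : ∀ z ∈ Set.range P, IsClosed ({z} : Set ↥S) := fun z hz => by obtain ⟨j, rfl⟩ := hz; exact hPc j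
  let f := S ↘ Spec (CommRingCat.of ℂ)
  let Z : TopologicalSpace.Closeds ↥S := ⟨Set.range P, hZ⟩
  have hl : Groth.Agent.BlowPush22.LocallyPulled σ Z F :=
    Groth.Agent.BlowPush22.locallyPulled_of_free f σ Z hfin hpts hσ hF hE
  haveI := Groth.Agent.BlowPush22.isIso_counit_of_pulled f σ Z hpts hσ hF hl
  let G := (Scheme.Modules.pushforward σ).obj F
  let c : (Scheme.Modules.pullback σ).obj G ≅ F :=
    asIso ((Scheme.Modules.pullbackPushforwardAdjunction σ).counit.app F)
  let E := (Groth.Agent.SheafHomX.hom F).obj F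
  have hEf : FlatMod.IsFinLocFree E := Groth.Agent.SheafHomX.isFinLocFree_hom hF hF
  have hEl := Groth.Agent.BlowPush22.locallyPulled_hom σ Z hl
  haveI := Groth.Agent.BlowPush22.isIso_counit_of_pulled f σ Z hpts hσ hEf hEl
  have hH := Groth.Agent.BlowPush22.lf_push_of_pulled f σ Z hpts hσ hEf hEl
  let cE : (Scheme.Modules.pullback σ).obj ((Scheme.Modules.pushforward σ).obj E) ≅ E :=
    asIso ((Scheme.Modules.pullbackPushforwardAdjunction σ).counit.app E)
  have hR : ∀ p : ℕ, 0 < p → IsZero ((Coh.Rpush σ p).obj E) := fun p hp => by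
    obtain ⟨q, rfl⟩ : ∃ q, p = q + 1 := ⟨p - 1, by omega⟩
    refine IsZero.of_iso ?_ ((Coh.Rpush σ (q + 1)).mapIso cE.symm)
    exact Groth.Agent.H9Misc.RelExtTwistVanish.isZero_Rpush_of_RpushAb σ _ q
      (Groth.Agent.BlowPush22.isZero_RpushAb_pullback f σ Z hfin hpts hσ hH (q + 1) (by omega))
  obtain ⟨eL⟩ := Groth.Agent.BlowPush22.leray_linear σ hσk hR i
  obtain ⟨eP⟩ := Groth.Agent.BlowPush22.nonempty_push_hom σ G F
  let eA : (ModSite.sheafHom (O := S'.sheaf) F).obj F ≅ E :=
    ((ModSite.sheafHomAdj (O := S'.sheaf) F).rightAdjointUniq (Groth.Agent.SheafHomX.adj (X := S') F)).app F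
  let eB : (Scheme.Modules.pushforward σ).obj E ≅ (ModSite.sheafHom (O := S.sheaf) G).obj G :=
    (Scheme.Modules.pushforward σ).mapIso ((Groth.Agent.BlowPush22.homCongr c).app F).symm ≪≫ eP ≪≫
      (((ModSite.sheafHomAdj (O := S.sheaf) G).rightAdjointUniq (Groth.Agent.SheafHomX.adj (X := S) G)).app G).symm
  exact ⟨((Groth.Agent.RegDescent.HHequiv eA i).trans eL).trans (Groth.Agent.RegDescent.HHequiv eB i)⟩

end Groth.Agent.S15867
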