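import Groth.Statements.S1587
import Groth.Agent.NodeFam.QuadPoint

set_option autoImplicit false
universe u
open CategoryTheory CategoryTheory.Limits AlgebraicGeometry
attribute [local instance] Curv2.resAlgebra Curv2.stalkAlgebra
open Curves

namespace Groth.Agent.S1587

/-- Let X be a scheme of finite type over a field k of dimension one and x a closed point of X with
residue field κ. Then x is a node if and only if κ is separable over k and the completion of the
local ring O_{X,x} is isomorphic, compatibly with the maps from k, to κ[[u, v]]/(a u² + b uv + c v²)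
for some a, b, c ∈ κ with 4ac − b² ≠ 0 (a nondegenerate quadratic form). -/
theorem result (k : Type u) [Field k] (X : Scheme.{u}) [X.Over (Spec (CommRingCat.of k))]
    [LocallyOfFiniteType (X ↘ (Spec (CommRingCat.of k)))] [QuasiCompact (X ↘ (Spec (CommRingCat.of k)))] (hdim : topologicalKrullDim X = 1)
    (x : X) (hx : IsClosed ({x} : Set X)) :
    Curv2.IsNode k X x ↔
      (Algebra.IsSeparable k (X.residueField x) ∧
        ∃ a b c : X.residueField x, 4 * a * c - b ^ 2 ≠ 0 ∧
          ∃ e : AdicCompletion (IsLocalRing.maximalIdeal (X.presheaf.stalk x)) (X.presheaf.stalk x) ≃+*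
              (MvPowerSeries (Fin 2) (X.residueField x) ⧸ Ideal.span
                {(MvPowerSeries.C a * MvPowerSeries.X 0 ^ 2 + MvPowerSeries.C b * MvPowerSeries.X 0 * MvPowerSeries.X 1 +
                  MvPowerSeries.C c * MvPowerSeries.X 1 ^ 2 : MvPowerSeries (Fin 2) (X.residueField x))}),
            ∀ t : k, e (algebraMap (X.presheaf.stalk x) _ (algebraMap k (X.presheaf.stalk x) t)) =
              Ideal.Quotient.mk _ (MvPowerSeries.C (algebraMap k (X.residueField x) t))) := by
  set f := X ↘ (Spec (CommRingCat.of k)) with hf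
  have hdeg : ∀ x : X, VarDim.deg f x ≤ 1 :=
    (NodeFam.deg_le_iff_topologicalKrullDim_le f 1).2 (le_of_eq hdim)
  have hcomp : ∀ c : k, algebraMap k (X.residueField x) c =
      IsLocalRing.residue (X.presheaf.stalk x) (NodeFam.cst f x c) := fun c => rfl
  have main : ∀ [Algebra.IsSeparable k (X.residueField x)],
      Curv2.IsNode k X x ↔ ∃ a b c : X.residueField x, 4 * a * c - b ^ 2 ≠ 0 ∧
        ∃ e : AdicCompletion (IsLocalRing.maximalIdeal (X.presheaf.stalk x)) (X.presheaf.stalk x) ≃+*
            NodeFam.QuadQuot a b c,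
          ∀ t : k, e (algebraMap (X.presheaf.stalk x) _ (NodeFam.cst f x t)) =
            Ideal.Quotient.mk _ (MvPowerSeries.C (algebraMap k (X.residueField x) t)) := by
    intro _
    haveI := NodeFam.finite_residueField_of_isClosed f hx hcomp
    obtain ⟨y, hxy, hres, hrat⟩ := NodeFam.exists_rational_point f x (GeomConn5.spec_resMap (k := k) x)
    have key : ∀ x' : X, pullback.fst f (NodeFam.extMap k (X.residueField x)) y = x' → IsClosed ({x'} : Set X) →
        (NodeFam.NodeVia (AlgebraicClosure k) f x' ↔ ∃ a b c : X.residueField x, 4 * a * c - b ^ 2 ≠ 0 ∧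
          ∃ e : AdicCompletion (IsLocalRing.maximalIdeal (X.presheaf.stalk x')) (X.presheaf.stalk x') ≃+*
              NodeFam.QuadQuot a b c,
            ∀ t : k, e (algebraMap (X.presheaf.stalk x') _ (NodeFam.cst f x' t)) =
              Ideal.Quotient.mk _ (MvPowerSeries.C (algebraMap k (X.residueField x) t))) := by
      rintro _ rfl hc
      exact NodeFam.nodeVia_iff_exists_quadEquiv f hdeg y hc hres hrat
    exact (NodeFam.isNode_iff x).trans (key x hxy hx)
  constructor
  · intro h
    haveI := NodeFam.isSeparable_residueField_of_nodeVia f ((NodeFam.isNode_iff x).1 h) hcomp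
    obtain ⟨a, b, c, hD, e, he⟩ := main.1 h
    refine ⟨inferInstance, a, b, c, hD,
      e.trans (Ideal.quotEquivOfEq (congrArg (fun q => Ideal.span {q}) (NodeFam.qForm_eq a b c))), fun t => ?_⟩
    exact (congrArg _ (he t)).trans rfl
  · rintro ⟨hsep, a, b, c, hD, e, he⟩
    haveI := hsep
    refine main.2 ⟨a, b, c, hD,
      e.trans (Ideal.quotEquivOfEq (congrArg (fun q => Ideal.span {q}) (NodeFam.qForm_eq a b c).symm)), fun t => ?_⟩
    exact (congrArg _ (he t)).trans rfl
end Groth.Agent.S1587
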