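import Groth.Statements.S15870
import Groth.Agent.SmoothSecLib.Basic
import Groth.Agent.EtFound.IntegralProps
import Groth.Agent.SchTorsor.Props
-- import your own Groth.Agent.* helpers here

set_option autoImplicit false
set_option backward.isDefEq.respectTransparency false
set_option backward.isDefEq.respectTransparency.types false
universe u
open CategoryTheory MonoidalCategory CartesianMonoidalCategory MonObj GrpObj AlgebraicGeometry
open NonAbH1

namespace Groth.Agent.S15870

/-- Let π : S' → S be finite locally free (finite, flat, locally of finite presentation), G a smooth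
S'-group scheme and E an fppf G-torsor over S'. Then E trivializes fppf locally on S: some fppf
covering family of S consists of morphisms U → S such that E has a section over U ×_S S' → S'. (The
published statement is for a variable S-scheme T, torsors over S' ×_S T and G a group algebraic
space; this row is the case T = S with G a scheme, to which the general case reduces by base change
of π.) -/
theorem result
    {S S' : Scheme.{u}} (π : S' ⟶ S) [IsFinite π] [Flat π] [LocallyOfFinitePresentation π]
    (G : Over S') [GrpObj G] [Smooth G.hom]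
    (E : NonAbH1.TorsorSch G Scheme.fppfPrecoverage) :
    ∃ R ∈ Scheme.fppfPrecoverage S, ∀ ⦃U : Scheme.{u}⦄ (g : U ⟶ S), R g →
      NonAbH1.HasSectionOver E.X (Limits.pullback.snd g π) := by
  have hE : NonAbH1.IsTorsorFor Scheme.fpqcPrecoverage E.act :=
    ⟨E.isTorsor.1, E.isTorsor.2.imp fun _ hR => ⟨Scheme.fppfPrecoverage_le_fpqcPrecoverage _ hR.1, hR.2⟩⟩
  haveI : Smooth E.X.hom := Groth.Agent.SchTorsor.torsor_property @Smooth hE inferInstance
  haveI := Groth.Agent.SchTorsor.surjective_hom hE
  have hsurj : Function.Surjective E.X.hom.base := Surjective.surj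
  -- etale local sections of the torsor over `S'`
  choose U g u _ hg hu σ hσ using fun e : E.X.left =>
    Groth.Agent.SmoothSecLib.exists_etale_section_scheme E.X.hom e
  haveI : ∀ e, Etale (g e) := hg
  haveI := Groth.Agent.EtFound.etale_sigmaDesc g
  have hcov : ∀ x : S', ∃ w, (Limits.Sigma.desc g).base w = x := fun x => by
    obtain ⟨e, rfl⟩ := hsurj x
    exact ⟨(Limits.Sigma.ι U e).base (u e), by rw [← Scheme.Hom.comp_apply, Limits.Sigma.ι_desc]; exact hu e⟩
  choose V v hv hy h hh using fun s : S =>
    Groth.Agent.EtFound.exists_split' π (Limits.Sigma.desc g) s (fun x _ => hcov x)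
  refine ⟨Presieve.ofArrows V v, ?_, ?_⟩
  · rw [Scheme.fppfPrecoverage, Scheme.ofArrows_mem_precoverage_iff]
    exact ⟨fun s => ⟨s, hy s⟩, fun s => haveI := hv s; ⟨inferInstance, inferInstance⟩⟩
  · rintro W w ⟨s⟩
    refine ⟨(Limits.pullbackSymmetry (v s) π).hom ≫ h s ≫ Limits.Sigma.desc σ, ?_⟩
    have hσg : Limits.Sigma.desc σ ≫ E.X.hom = Limits.Sigma.desc g := by
      refine Limits.Sigma.hom_ext _ _ fun e => ?_
      rw [Limits.Sigma.ι_desc_assoc, Limits.Sigma.ι_desc, hσ]
    rw [Category.assoc, Category.assoc, hσg, hh, Limits.pullbackSymmetry_hom_comp_fst]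

end Groth.Agent.S15870
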