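import Groth.Statements.S15873
import Groth.Agent.CechTorsorX.EtaleTorsor
import Groth.Agent.CechTorsorX.H1One
-- import your own Groth.Agent.* helpers here

set_option autoImplicit false
universe u
open CategoryTheory MonoidalCategory CartesianMonoidalCategory MonObj GrpObj AlgebraicGeometry
open NonAbH1

namespace Groth.Agent.S15873

/-- Let G be an étale k-group scheme, S a normal integral k-scheme with generic point η and E an fppf
torsor over S under G. Then every point of E over S with values in Spec κ(η) extends to a unique
section of E over S: E(S) → E(κ(η)) is bijective. (The published statement takes S merely integral;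
for the nodal cubic over an algebraically closed field and the connected étale double cover, a
torsor under the constant group of order 2, the generic fibre has rational points while there is no
section, and the published proof extends generic points of finite étale schemes, which requires
normality, so S is taken normal here.) -/
theorem result (k : Type u) [Field k]
    (G : Over (Spec (CommRingCat.of k))) [GrpObj G] [Etale G.hom]
    (S : Scheme.{u}) [IsIntegral S] (hS : Pi1.IsNormalScheme S) (s : S ⟶ Spec (CommRingCat.of k))
    (E : NonAbH1.TorsorSch (Red.bc s G) Scheme.fppfPrecoverage) :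
    (∀ σ₁ σ₂ : S ⟶ E.X.left, σ₁ ≫ E.X.hom = 𝟙 S → σ₂ ≫ E.X.hom = 𝟙 S →
        S.fromSpecResidueField (genericPoint S) ≫ σ₁ = S.fromSpecResidueField (genericPoint S) ≫ σ₂ → σ₁ = σ₂) ∧
    (∀ x : Spec (S.residueField (genericPoint S)) ⟶ E.X.left,
        x ≫ E.X.hom = S.fromSpecResidueField (genericPoint S) →
        ∃ σ : S ⟶ E.X.left, σ ≫ E.X.hom = 𝟙 S ∧ S.fromSpecResidueField (genericPoint S) ≫ σ = x) := by
  have hE : NonAbH1.IsTorsorFor Scheme.fpqcPrecoverage E.act :=
    ⟨E.isTorsor.1, E.isTorsor.2.imp fun R hR => ⟨Scheme.fppfPrecoverage_le_fpqcPrecoverage _ hR.1, hR.2⟩⟩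
  haveI := Groth.Agent.CechTorsorX.EtaleTorsor.etale G s hE
  haveI := Groth.Agent.CechTorsorX.EtaleTorsor.isSeparated G s hE
  refine ⟨fun σ₁ σ₂ h₁ h₂ h => ?_, fun x hx =>
    Groth.Agent.CechTorsorX.EtaleNormal.exists_section E.X.hom hS
      (Groth.Agent.CechTorsorX.EtaleTorsor.specializing G s hE) x hx⟩
  haveI : IsDominant (S.fromSpecResidueField (genericPoint S)) := ⟨by
    rw [DenseRange, Scheme.range_fromSpecResidueField]
    exact ((genericPoint_spec S).def.trans rfl : closure _ = Set.univ) |> dense_iff_closure_eq.2⟩
  exact ext_of_isDominant_of_isSeparated E.X.hom (h₁.trans h₂.symm) _ h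

end Groth.Agent.S15873
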