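import Groth.Statements.S15874
import Groth.Agent.CechTorsorX.EtaleTorsor
import Groth.Agent.CechTorsorX.H1One
-- import your own Groth.Agent.* helpers here

set_option autoImplicit false
universe u
open CategoryTheory MonoidalCategory CartesianMonoidalCategory MonObj GrpObj AlgebraicGeometry
open NonAbH1

namespace Groth.Agent.S15874

/-- Let G be an étale k-group scheme and S a normal integral k-scheme with generic point η. Then an fppf
torsor over S under G whose base change to Spec κ(η) is trivial is itself trivial: the kernel of
H¹(S, G) → H¹(κ(η), G) on classes of torsors that are schemes is the base point. (The published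
statement takes S merely integral; the connected étale double cover of a nodal cubic over an
algebraically closed field is a non-trivial torsor under the constant group of order 2 that is
trivial at the generic point, so S is taken normal here, which is what the published proof uses.) -/
theorem result (k : Type u) [Field k]
    (G : Over (Spec (CommRingCat.of k))) [GrpObj G] [Etale G.hom]
    (S : Scheme.{u}) [IsIntegral S] (hS : Pi1.IsNormalScheme S) (s : S ⟶ Spec (CommRingCat.of k))
    (c : NonAbH1.H1Sch (Red.bc s G) Scheme.fppfPrecoverage)
    (hc : NonAbH1.H1Sch.bcMap (S.fromSpecResidueField (genericPoint S)) (Red.bc s G) Scheme.fppfPrecoverage c = 1) :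
    c = 1 := by
  induction c using Quot.ind with | _ P => ?_
  obtain ⟨y, hy⟩ := Groth.Agent.CechTorsorX.H1One.hasSection_of_cl_eq_one
    (P := P.bc (S.fromSpecResidueField (genericPoint S))) hc
  have hE : NonAbH1.IsTorsorFor Scheme.fpqcPrecoverage P.act :=
    ⟨P.isTorsor.1, P.isTorsor.2.imp fun R hR => ⟨Scheme.fppfPrecoverage_le_fpqcPrecoverage _ hR.1, hR.2⟩⟩
  haveI := Groth.Agent.CechTorsorX.EtaleTorsor.etale G s hE
  haveI := Groth.Agent.CechTorsorX.EtaleTorsor.isSeparated G s hE
  obtain ⟨σ, hσ, -⟩ := Groth.Agent.CechTorsorX.EtaleNormal.exists_section P.X.hom hS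
    (Groth.Agent.CechTorsorX.EtaleTorsor.specializing G s hE)
    (y ≫ Limits.pullback.fst P.X.hom (S.fromSpecResidueField (genericPoint S)))
    ((Category.assoc _ _ _).trans ((congrArg (y ≫ ·) Limits.pullback.condition).trans
      ((Category.assoc _ _ _).symm.trans
        ((congrArg (· ≫ S.fromSpecResidueField (genericPoint S)) hy).trans (Category.id_comp _)))))
  exact Quot.sound (Groth.Agent.CechTorsorX.H1One.equivIso_trivial hE ⟨σ, hσ⟩)

end Groth.Agent.S15874
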