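import Groth.Statements.S15875
import Groth.Agent.WeilCmp.QC

set_option autoImplicit false
universe u
open CategoryTheory MonoidalCategory CartesianMonoidalCategory MonObj GrpObj AlgebraicGeometry
open AGF

namespace Groth.Agent.S15875

set_option backward.isDefEq.respectTransparency false
set_option backward.isDefEq.respectTransparency.types false

/-- Let k'/k be a finite purely inseparable field extension, G a k-group locally of finite type, q :
G_{k'} → Ḡ a faithfully flat homomorphism onto a k'-group Ḡ locally of finite type with
quasi-compact kernel N, and (R, q_R) a Weil restriction of Ḡ to k carrying a group structure for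
which q_R is a homomorphism. Then the comparison morphism i : G → R corresponding to q is
quasi-compact. (The published statement allows any finite extension k'/k and adds that the kernel of
i is quasi-compact as well; the published proof goes through the purely inseparable case of the
kernel of the counit of Weil restriction, so k'/k is taken purely inseparable here.) -/
theorem result (k k' : Type u) [Field k] [Field k'] [Algebra k k']
    [Module.Finite k k'] [IsPurelyInseparable k k']
    (G : Over (Spec (CommRingCat.of k))) [GrpObj G] [LocallyOfFiniteType G.hom]
    (Gbar : Over (Spec (CommRingCat.of k'))) [GrpObj Gbar] [LocallyOfFiniteType Gbar.hom]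
    (q : Red.bc (Spec.map (CommRingCat.ofHom (algebraMap k k'))) G ⟶ Gbar) [IsMonHom q] [Surjective q.left] [Flat q.left]
    (N : Over (Spec (CommRingCat.of k'))) (iN : N ⟶ Red.bc (Spec.map (CommRingCat.ofHom (algebraMap k k'))) G) (hN : AlgGrp.IsKernel iN q) [CompactSpace N.left]
    (R : Over (Spec (CommRingCat.of k))) [GrpObj R] (qR : Red.bc (Spec.map (CommRingCat.ofHom (algebraMap k k'))) R ⟶ Gbar) [IsMonHom qR]
    (hR : WeilRes.IsWeilRes (Spec.map (CommRingCat.ofHom (algebraMap k k'))) Gbar R qR) :
    QuasiCompact (hR.lift G q).left := by
  let f := Spec.map (CommRingCat.ofHom (algebraMap k k'))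
  haveI : LocallyOfFiniteType (Red.bc f G).hom :=
    inferInstanceAs (LocallyOfFiniteType (Limits.pullback.snd G.hom f))
  haveI : QuasiCompact q.left := Groth.Agent.WeilCmp.quasiCompact_of_kernel q iN hN
  haveI := Groth.Agent.GrpSchLib.AntiAffine.isSeparated_grp (Red.bc f R)
  haveI : IsSeparated (qR.left ≫ Gbar.hom) := by rw [Over.w qR]; infer_instance
  haveI : IsSeparated qR.left := IsSeparated.of_comp qR.left Gbar.hom
  haveI : QuasiCompact (((Over.pullback f).map (hR.lift G q)).left ≫ qR.left) := by
    rw [show ((Over.pullback f).map (hR.lift G q)).left ≫ qR.left = q.left from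
      congrArg (fun m => m.left) (hR.restr_lift G q)]
    infer_instance
  haveI : QuasiCompact ((Over.pullback f).map (hR.lift G q)).left := QuasiCompact.of_comp _ qR.left
  haveI : Surjective f := inferInstance
  exact Groth.Agent.WeilCmp.quasiCompact_of_bc f (hR.lift G q)

end Groth.Agent.S15875
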