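import Groth.Statements.S19965
import Groth.Agent.BalLib.Descent
import Groth.Prelude.Def_AlgSt5
-- import your own Groth.Agent.* helpers here

set_option autoImplicit false
universe u
open CategoryTheory MonoidalCategory CartesianMonoidalCategory MonObj AlgebraicGeometry
open ChGrp

namespace Groth.Agent.S19965

/-- In the case of group schemes with the quotient given as a scheme, let S be a scheme, G a group
scheme over S, i : H → G a homomorphism from a group scheme H, and let the S-scheme Q with its
G-action and base point q₀ be the quotient G/H for the fppf topology: i is a homomorphism, the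
square exhibiting G ×_S H as G ×_Q G through (g, h) ↦ (g, g·i(h)) and the orbit map of q₀ is
cartesian, and the orbit map G → Q acquires sections on the members of an fppf covering family of Q.
Let P be a property of morphisms of schemes which is stable under base change and local on the
target for the fppf topology. If H → S has P, then the orbit map G → Q has P. (In the source G and H
are group algebraic spaces, H is flat and locally of finite presentation over S so that G/H exists
as an algebraic space, and P is a property of morphisms of algebraic spaces; here all three are
schemes, the quotient is part of the data, and flatness of H plays no part.) -/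
theorem result (S : Scheme.{u})
    (G H : Over S) [GrpObj G] [GrpObj H] (i : H ⟶ G)
    (Q : Over S) (aQ : AlgGrp.Action G Q) (q₀ : 𝟙_ (Over S) ⟶ Q)
    (hQ : ChGrp.IsHomog Scheme.fppfPrecoverage i aQ q₀)
    (P : MorphismProperty Scheme.{u}) [P.IsStableUnderBaseChange]
    [P.IsLocalAtTarget Scheme.fppfPrecoverage]
    (hP : P H.hom) : P (aQ.orbitMap q₀).left := by
  obtain ⟨-, hpb, R, hR, hsec⟩ := hQ
  have hfst : P (fst G H).left := by
    have h := (AlgSt.isPullback_fst_snd G H).map (Over.forget S)
    exact P.of_isPullback h.flip hP
  have key : ∀ ⦃T : Scheme.{u}⦄ (f : T ⟶ Q.left), R f → P (Limits.pullback.snd (aQ.orbitMap q₀).left f) := by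
    intro T f hf
    obtain ⟨s, hs⟩ := hsec f hf
    have h1 := (hpb.map (Over.forget S)).flip
    have h2 := IsPullback.of_hasPullback (fst G H).left s
    have h3 := h2.paste_horiz h1
    have hs' : s ≫ (aQ.orbitMap q₀).left = f := hs
    rw [show s ≫ (Over.forget S).map (aQ.orbitMap q₀) = f from hs'] at h3
    refine (P.cancel_left_of_respectsIso h3.isoPullback.hom _).mp ?_
    have e : h3.isoPullback.hom ≫ Limits.pullback.snd (aQ.orbitMap q₀).left f =
        Limits.pullback.snd (fst G H).left s := h3.isoPullback_hom_snd
    have h := P.pullback_snd (fst G H).left s hfst
    exact e.symm ▸ h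
  exact MorphismProperty.IsLocalAtTarget.of_forall_pullbackSnd (P := P) (K := Scheme.fppfPrecoverage) hR fun {T f} _ hf => key f hf

end Groth.Agent.S19965
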