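import Groth.Statements.S15877
import Groth.Agent.WeilCmp.Homog


set_option autoImplicit false
universe u
open CategoryTheory MonoidalCategory CartesianMonoidalCategory MonObj GrpObj AlgebraicGeometry
open AGF

namespace Groth.Agent.S15877

set_option backward.isDefEq.respectTransparency false
set_option backward.isDefEq.respectTransparency.types false

/-- Let k'/k be finite purely inseparable, G a k-group locally of finite type, q : G_{k'} → Ḡ a
faithfully flat homomorphism onto a k'-group locally of finite type with quasi-compact kernel, (R,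
q_R) a Weil restriction of Ḡ to k with a group structure making q_R a homomorphism, i : G → R the
comparison homomorphism corresponding to q, H the closed subgroup of R through which i factors by a
faithfully flat homomorphism, and (Q, q₀) the fppf homogeneous space R/H. Then Q is an affine
scheme. -/
theorem result (k k' : Type u) [Field k] [Field k']
    [Algebra k k'] [Module.Finite k k'] [IsPurelyInseparable k k']
    (G : Over (Spec (CommRingCat.of k))) [GrpObj G] [LocallyOfFiniteType G.hom]
    (Gbar : Over (Spec (CommRingCat.of k'))) [GrpObj Gbar] [LocallyOfFiniteType Gbar.hom]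
    (q : Red.bc (Spec.map (CommRingCat.ofHom (algebraMap k k'))) G ⟶ Gbar) [IsMonHom q] [Surjective q.left] [Flat q.left]
    (N : Over (Spec (CommRingCat.of k'))) (iN : N ⟶ Red.bc (Spec.map (CommRingCat.ofHom (algebraMap k k'))) G) (hN : AlgGrp.IsKernel iN q) [CompactSpace N.left]
    (R : Over (Spec (CommRingCat.of k))) [GrpObj R] (qR : Red.bc (Spec.map (CommRingCat.ofHom (algebraMap k k'))) R ⟶ Gbar) [IsMonHom qR]
    (hR : WeilRes.IsWeilRes (Spec.map (CommRingCat.ofHom (algebraMap k k'))) Gbar R qR)
    (H : Over (Spec (CommRingCat.of k))) [GrpObj H] (j : H ⟶ R) [IsMonHom j] [IsClosedImmersion j.left]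
    (p : G ⟶ H) [IsMonHom p] [Surjective p.left] [Flat p.left] (hfac : p ≫ j = hR.lift G q)
    (Q : Over (Spec (CommRingCat.of k))) (aQ : AlgGrp.Action R Q) (q₀ : 𝟙_ (Over (Spec (CommRingCat.of k))) ⟶ Q)
    (hQ : ChGrp.IsHomog Scheme.fppfPrecoverage j aQ q₀) :
    IsAffine Q.left := by
  exact Groth.Agent.WeilCmp.homog_isAffine q hR hfac aQ q₀ hQ

end Groth.Agent.S15877
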