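import Groth.Statements.S1588
import Groth.Agent.NodeFam.BaseField

-- import your own Groth.Agent.* helpers here

set_option autoImplicit false
set_option backward.isDefEq.respectTransparency false
set_option backward.isDefEq.respectTransparency.types false
universe u
open CategoryTheory CategoryTheory.Limits AlgebraicGeometry
open Curves

namespace Groth.Agent.S1588

/-- Let K be a field extension of k, X locally of finite type over k of dimension one, and y a point of
X_K with image x in X. Then x is a node of X (in particular closed) if and only if y is a node of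
X_K. -/
theorem result (k : Type u) [Field k] (X : Scheme.{u}) [X.Over (Spec (CommRingCat.of k))] [LocallyOfFiniteType (X ↘ (Spec (CommRingCat.of k)))]
    (hdim : topologicalKrullDim X = 1) (K : Type u) [Field K] [Algebra k K] (y : Curv2.bc k X K) :
    Curv2.IsNode k X (Curv2.bcFst k X K y) ↔ @Curv2.IsNode K _ (Curv2.bc k X K) ⟨Curv2.bcSnd k X K⟩ y := by
  have hd : ∀ x : X, VarDim.deg (X ↘ Spec (CommRingCat.of k)) x ≤ 1 :=
    (NodeFam.deg_le_iff_topologicalKrullDim_le _ 1).2 hdim.le
  exact NodeFam.nodeVia_bc_iff (AlgebraicClosure K) (X ↘ Spec (CommRingCat.of k)) hd y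


end Groth.Agent.S1588
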