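import Groth.Statements.S15880
import Groth.Agent.PnFreePush.Main

set_option autoImplicit false
set_option linter.style.haveILetI false
set_option backward.isDefEq.respectTransparency false
set_option backward.isDefEq.respectTransparency.types false
universe u
open CategoryTheory CategoryTheory.Limits AlgebraicGeometry
open CohB1

namespace Groth.Agent.S15880

/-- Let k be a field, s a k-point of P^n_k and f : F → P^n_k a finite morphism whose direct image of the
structure sheaf is isomorphic to the free module O^{⊕d} on P^n_k. Then F is, over P^n_k, isomorphic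
to the base change F_s ×_k P^n_k of its fibre at s (existence of an isomorphism over P^n_k). (The
published statement is the equivalence of categories between finite k-schemes and finite flat
P^n_k-schemes with free direct image of the structure sheaf, with inverse F ↦ s^*F; this row states
its essential surjectivity in the pinned form F ≅ (s^*F) ×_k P^n_k.) -/
theorem result (k : Type u) [Field k] (n d : ℕ)
    (s : Spec (CommRingCat.of k) ⟶ CohB1.ProjSpace n k) (hs : s ≫ CohB1.ProjSpace.toSpec n k = 𝟙 _)
    (F : Scheme.{u}) (f : F ⟶ CohB1.ProjSpace n k) [IsFinite f]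
    (e : (Scheme.Modules.pushforward f).obj (SheafOfModules.unit F.ringCatSheaf) ≅
      ∐ fun _ : ULift.{u} (Fin d) => (SheafOfModules.unit (CohB1.ProjSpace n k).ringCatSheaf :
        (CohB1.ProjSpace n k).Modules)) :
    Nonempty (Over.mk f ≅ Over.mk (pullback.snd (pullback.snd f s) (CohB1.ProjSpace.toSpec n k))) := by
  let π := CohB1.ProjSpace.toSpec n k
  obtain ⟨b, hb⟩ := PnFreePush.exists_basis f e
  have hΓ : Function.Bijective (PnFreePush.str π) := by
    letI := MvPolynomial.gradedAlgebra (σ := Fin (n + 1)) (R := k)
    exact (PnCoh.bijective_toSpecR_appTop (ι := Fin (n + 1)) (R := k)).comp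
      (ConcreteCategory.bijective_of_isIso (Scheme.ΓSpecIso (CommRingCat.of k)).inv)
  have H := PnFreePush.isPullback_const f π b hb hΓ
  have hout : IsPullback (pullback.fst f s ≫ F.toSpecΓ) (pullback.snd f s)
      (Spec.map (PnFreePush.str π ≫ f.appTop)) (𝟙 _) :=
    hs ▸ (IsPullback.of_hasPullback f s).paste_horiz H
  haveI : IsIso (pullback.fst f s ≫ F.toSpecΓ) := hout.isIso_fst_of_isIso
  let q := pullback.fst f s ≫ F.toSpecΓ
  let z := Spec.map (PnFreePush.str π ≫ f.appTop)
  have hqw : q ≫ z = pullback.snd f s := hout.w.trans (Category.comp_id _)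
  let e2 : pullback (pullback.snd f s) π ≅ pullback z π :=
    asIso (pullback.map (pullback.snd f s) π z π q (𝟙 _) (𝟙 _) (by rw [hqw, Category.comp_id]) (by simp))
  refine ⟨Over.isoMk (H.isoPullback ≪≫ e2.symm) ?_⟩
  show (H.isoPullback.hom ≫ e2.inv) ≫ pullback.snd (pullback.snd f s) π = f
  have h2 : e2.hom ≫ pullback.snd z π = pullback.snd (pullback.snd f s) π := by simp [e2]
  rw [← h2]
  simp only [Category.assoc, Iso.inv_hom_id_assoc]
  exact H.isoPullback_hom_snd

end Groth.Agent.S15880
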