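import Groth.Statements.S15881
import Groth.Agent.BLTorsor.Hom
import Groth.Agent.BLTorsor.Torsor
-- import your own Groth.Agent.* helpers here

set_option autoImplicit false
set_option backward.isDefEq.respectTransparency false
set_option backward.isDefEq.respectTransparency.types false
universe u
open CategoryTheory MonoidalCategory CartesianMonoidalCategory MonObj GrpObj AlgebraicGeometry
open NonAbH1

open CategoryTheory.Limits MonoidalCategory CartesianMonoidalCategory

namespace Groth.Agent.S15881

/-- With φ : A → A' and t as in the glueing set-up (A/t^m → A'/t^m bijective for all m, φ bijective on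
t-power torsion), G a flat A-group scheme with quasi-affine underlying scheme, and P, P' fppf
G-torsors over A: an equivariant isomorphism of the base changes to A[1/t] and one of the base
changes to A', which agree over A'[1/t] under the canonical identifications of iterated base
changes, are the base changes of a unique equivariant isomorphism P ≅ P' over A. (The hypothesis h
is the evident commutativity of the square of base rings.) -/
theorem result (A A' : Type u) [CommRing A] [CommRing A']
    (φ : A →+* A') (t : A)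
    (hq : ∀ m : ℕ, Function.Bijective (Ideal.quotientMap (Ideal.map φ (Ideal.span {t} ^ m)) φ Ideal.le_comap_map))
    (htor : ∀ a' : A', (∃ m : ℕ, φ t ^ m * a' = 0) → ∃! a : A, (∃ m : ℕ, t ^ m * a = 0) ∧ φ a = a')
    (h : Spec.map (CommRingCat.ofHom (Localization.awayMap φ t)) ≫
        Spec.map (CommRingCat.ofHom (algebraMap A (Localization.Away t))) =
      Spec.map (CommRingCat.ofHom (algebraMap A' (Localization.Away (φ t)))) ≫ Spec.map (CommRingCat.ofHom φ))
    (G : Over (Spec (CommRingCat.of A))) [GrpObj G] [Flat G.hom] [G.left.IsQuasiAffine]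
    (P P' : NonAbH1.TorsorSch G Scheme.fppfPrecoverage)
    (αU : NonAbH1.EquivIso (P.act.bc (Spec.map (CommRingCat.ofHom (algebraMap A (Localization.Away t))))) (P'.act.bc (Spec.map (CommRingCat.ofHom (algebraMap A (Localization.Away t))))))
    (α' : NonAbH1.EquivIso (P.act.bc (Spec.map (CommRingCat.ofHom φ))) (P'.act.bc (Spec.map (CommRingCat.ofHom φ))))
    (hagree : (NonAbH1.EquivIso.bc (Spec.map (CommRingCat.ofHom (Localization.awayMap φ t))) αU).iso.hom ≫ (ActBC.bcCompIso (Spec.map (CommRingCat.ofHom (Localization.awayMap φ t))) (Spec.map (CommRingCat.ofHom (algebraMap A (Localization.Away t)))) P'.X h).hom =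
      (ActBC.bcCompIso (Spec.map (CommRingCat.ofHom (Localization.awayMap φ t))) (Spec.map (CommRingCat.ofHom (algebraMap A (Localization.Away t)))) P.X h).hom ≫ (ActBC.bcCompIso (Spec.map (CommRingCat.ofHom (algebraMap A' (Localization.Away (φ t))))) (Spec.map (CommRingCat.ofHom φ)) P.X rfl).inv ≫
        (NonAbH1.EquivIso.bc (Spec.map (CommRingCat.ofHom (algebraMap A' (Localization.Away (φ t))))) α').iso.hom ≫ (ActBC.bcCompIso (Spec.map (CommRingCat.ofHom (algebraMap A' (Localization.Away (φ t))))) (Spec.map (CommRingCat.ofHom φ)) P'.X rfl).hom) :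
    ∃! α : NonAbH1.EquivIso P.act P'.act,
      (NonAbH1.EquivIso.bc (Spec.map (CommRingCat.ofHom (algebraMap A (Localization.Away t)))) α).iso = αU.iso ∧ (NonAbH1.EquivIso.bc (Spec.map (CommRingCat.ofHom φ)) α).iso = α'.iso := by
  letI := φ.toAlgebra
  have hp : EtGlue.IsGlueingPair A A' t := Groth.Agent.BLTorsor.isGlueingPair_of_hyps t hq htor
  have htri := Groth.Agent.BLTorsor.isTriple_of_isGlueingPair (A' := A') t hp
  haveI : Flat P.X.hom := Groth.Agent.BLTorsor.flat_torsor P
  haveI : P'.X.left.IsQuasiAffine := Groth.Agent.BLTorsor.quasiAffine_torsor P'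
  -- the two morphisms to glue
  let ε₁ := Groth.Agent.BLTorsor.awayHom (A' := A') t
  let ε₂ := IsScalarTower.toAlgHom A A' (Localization.Away (algebraMap A A' t))
  have hd : Groth.Agent.BLTorsor.sp A (Localization.Away (algebraMap A A' t)) = (Spec.map (CommRingCat.ofHom (algebraMap A' (Localization.Away (φ t))))) ≫ (Spec.map (CommRingCat.ofHom φ)) := by
    rw [← Spec.map_comp, ← CommRingCat.ofHom_comp]
    exact congrArg (fun r => Spec.map (CommRingCat.ofHom r))
      (IsScalarTower.algebraMap_eq A A' (Localization.Away (algebraMap A A' t)))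
  let a : pullback P.X.hom (Spec.map (CommRingCat.ofHom (algebraMap A (Localization.Away t)))) ⟶ P'.X.left := αU.iso.hom.left ≫ pullback.fst P'.X.hom (Spec.map (CommRingCat.ofHom (algebraMap A (Localization.Away t))))
  let b : pullback P.X.hom (Spec.map (CommRingCat.ofHom φ)) ⟶ P'.X.left := α'.iso.hom.left ≫ pullback.fst P'.X.hom (Spec.map (CommRingCat.ofHom φ))
  have hab : Groth.Agent.BLTorsor.bcMap P.X.hom ε₁ ≫ a = Groth.Agent.BLTorsor.bcMap P.X.hom ε₂ ≫ b := by
    let k : pullback P.X.hom (Groth.Agent.BLTorsor.sp A (Localization.Away (algebraMap A A' t))) ⟶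
        (Red.bc (Spec.map (CommRingCat.ofHom (Localization.awayMap φ t))) (Red.bc (Spec.map (CommRingCat.ofHom (algebraMap A (Localization.Away t)))) P.X)).left :=
      pullback.lift (Groth.Agent.BLTorsor.bcMap P.X.hom ε₁) (pullback.snd _ _)
        (Groth.Agent.BLTorsor.bcMap_snd P.X.hom ε₁)
    have hk : k ≫ pullback.fst _ (Spec.map (CommRingCat.ofHom (Localization.awayMap φ t))) = Groth.Agent.BLTorsor.bcMap P.X.hom ε₁ := pullback.lift_fst _ _ _
    have hk' : k ≫ pullback.snd _ (Spec.map (CommRingCat.ofHom (Localization.awayMap φ t))) = pullback.snd _ _ := pullback.lift_snd _ _ _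
    have he := congrArg (fun m => k ≫ CommaMorphism.left m ≫ pullback.fst P'.X.hom ((Spec.map (CommRingCat.ofHom (algebraMap A' (Localization.Away (φ t))))) ≫ (Spec.map (CommRingCat.ofHom φ)))) hagree
    simp only [Over.comp_left, Category.assoc, ActBC.bcCompIso_hom_left_fst, NonAbH1.EquivIso.bc,
      Functor.mapIso_hom] at he
    rw [ActBC.pullback_map_left_fst_assoc, ActBC.pullback_map_left_fst_assoc, reassoc_of% hk] at he
    have hfst : k ≫ pullback.fst _ (Spec.map (CommRingCat.ofHom (Localization.awayMap φ t))) ≫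
        pullback.fst P.X.hom (Spec.map (CommRingCat.ofHom (algebraMap A (Localization.Away t)))) =
        pullback.fst P.X.hom (Groth.Agent.BLTorsor.sp A (Localization.Away (algebraMap A A' t))) :=
      ((reassoc_of% hk) _).trans (Groth.Agent.BLTorsor.bcMap_fst P.X.hom ε₁)
    suffices key : k ≫ (ActBC.bcCompIso (Spec.map (CommRingCat.ofHom (Localization.awayMap φ t)))
          (Spec.map (CommRingCat.ofHom (algebraMap A (Localization.Away t)))) P.X h).hom.left ≫
        (ActBC.bcCompIso (Spec.map (CommRingCat.ofHom (algebraMap A' (Localization.Away (φ t)))))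
          (Spec.map (CommRingCat.ofHom φ)) P.X rfl).inv.left ≫
        pullback.fst _ (Spec.map (CommRingCat.ofHom (algebraMap A' (Localization.Away (φ t))))) =
        Groth.Agent.BLTorsor.bcMap P.X.hom ε₂ from he.trans ((reassoc_of% key) _)
    apply pullback.hom_ext
    · simp only [Category.assoc, Groth.Agent.BLTorsor.bcCompIso_inv_fst_fst, ActBC.bcCompIso_hom_left_fst]
      exact hfst.trans (Groth.Agent.BLTorsor.bcMap_fst P.X.hom ε₂).symm
    · simp only [Category.assoc, Groth.Agent.BLTorsor.bcCompIso_inv_fst_snd, ActBC.bcCompIso_hom_left_snd_assoc]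
      rw [reassoc_of% hk']
      exact (Groth.Agent.BLTorsor.bcMap_snd P.X.hom ε₂).symm
  obtain ⟨w, ⟨hw₁, hw₂⟩, hwu⟩ := Groth.Agent.BLTorsor.existsUnique_glue htri P.X.hom a b hab
  have hover : w ≫ P'.X.hom = P.X.hom := by
    refine (Groth.Agent.BLTorsor.existsUnique_glue htri P.X.hom
      (pullback.fst P.X.hom (Spec.map (CommRingCat.ofHom (algebraMap A (Localization.Away t)))) ≫ P.X.hom) (pullback.fst P.X.hom (Spec.map (CommRingCat.ofHom φ)) ≫ P.X.hom) ?_).unique ⟨?_, ?_⟩ ⟨rfl, rfl⟩
    · rw [← Category.assoc, ← Category.assoc]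
      congr 1
      exact (Groth.Agent.BLTorsor.bcMap_fst P.X.hom ε₁).trans (Groth.Agent.BLTorsor.bcMap_fst P.X.hom ε₂).symm
    · rw [← Category.assoc, hw₁, pullback.condition]
      show (αU.iso.hom.left ≫ pullback.fst P'.X.hom (Spec.map (CommRingCat.ofHom (algebraMap A (Localization.Away t))))) ≫ P'.X.hom = _
      rw [Category.assoc, pullback.condition, ← Category.assoc]
      exact congrArg (fun m => m ≫ (Spec.map (CommRingCat.ofHom (algebraMap A (Localization.Away t))))) (Over.w αU.iso.hom)
    · rw [← Category.assoc, hw₂, pullback.condition]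
      show (α'.iso.hom.left ≫ pullback.fst P'.X.hom (Spec.map (CommRingCat.ofHom φ))) ≫ P'.X.hom = _
      rw [Category.assoc, pullback.condition, ← Category.assoc]
      exact congrArg (fun m => m ≫ (Spec.map (CommRingCat.ofHom φ))) (Over.w α'.iso.hom)
  let f : P.X ⟶ P'.X := Over.homMk w hover
  have hf₁ : (Over.pullback (Spec.map (CommRingCat.ofHom (algebraMap A (Localization.Away t))))).map f = αU.iso.hom := Groth.Agent.BLTorsor.map_eq_of_fst (Spec.map (CommRingCat.ofHom (algebraMap A (Localization.Away t)))) f αU.iso.hom hw₁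
  have hf₂ : (Over.pullback (Spec.map (CommRingCat.ofHom φ))).map f = α'.iso.hom := Groth.Agent.BLTorsor.map_eq_of_fst (Spec.map (CommRingCat.ofHom φ)) f α'.iso.hom hw₂
  have hcomm : P.act.act ≫ f = (G ◁ f) ≫ P'.act.act := by
    haveI : Flat (G ⊗ P.X).hom :=
      (inferInstance : Flat (pullback.fst G.hom P.X.hom ≫ G.hom))
    apply Over.OverMorphism.ext
    refine (Groth.Agent.BLTorsor.existsUnique_glue htri (G ⊗ P.X).hom
      (pullback.fst (G ⊗ P.X).hom (Spec.map (CommRingCat.ofHom (algebraMap A (Localization.Away t)))) ≫ ((G ◁ f) ≫ P'.act.act).left)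
      (pullback.fst (G ⊗ P.X).hom (Spec.map (CommRingCat.ofHom φ)) ≫ ((G ◁ f) ≫ P'.act.act).left) ?_).unique ⟨?_, ?_⟩ ⟨rfl, rfl⟩
    · rw [← Category.assoc, ← Category.assoc]
      congr 1
      exact (Groth.Agent.BLTorsor.bcMap_fst (G ⊗ P.X).hom ε₁).trans
        (Groth.Agent.BLTorsor.bcMap_fst (G ⊗ P.X).hom ε₂).symm
    · exact Groth.Agent.BLTorsor.equiv_side (Spec.map (CommRingCat.ofHom (algebraMap A (Localization.Away t)))) f αU hf₁
    · exact Groth.Agent.BLTorsor.equiv_side (Spec.map (CommRingCat.ofHom φ)) f α' hf₂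
  haveI : IsIso f := Groth.Agent.SchTorsor.isIso_of_equivariant (Groth.Agent.BLTorsor.fpqc_of_fppf P.isTorsor)
    P'.isTorsor.1 f hcomm
  refine ⟨⟨asIso f, hcomm⟩, ⟨Iso.ext hf₁, Iso.ext hf₂⟩, ?_⟩
  rintro ⟨β, hβ⟩ ⟨h₁, h₂⟩
  have e₁ := congrArg (fun i => CommaMorphism.left i.hom ≫ pullback.fst P'.X.hom (Spec.map (CommRingCat.ofHom (algebraMap A (Localization.Away t))))) h₁
  have e₂ := congrArg (fun i => CommaMorphism.left i.hom ≫ pullback.fst P'.X.hom (Spec.map (CommRingCat.ofHom φ))) h₂
  simp only [NonAbH1.EquivIso.bc, Functor.mapIso_hom, ActBC.pullback_map_left_fst] at e₁ e₂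
  have hb : β = asIso f := Iso.ext (Over.OverMorphism.ext (hwu β.hom.left ⟨e₁, e₂⟩))
  subst hb
  rfl

end Groth.Agent.S15881
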