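import Groth.Statements.S15886
import Groth.Agent.BMLib.Cor

set_option autoImplicit false
universe u
open CategoryTheory AlgebraicGeometry Opposite
open BMCoh

namespace Groth.Agent.S15886

/-- Let T be a twisted Borel–Moore cohomology theory with coefficients in A on a constructible class V
of Noetherian schemes, X an object of V, M a coefficient module, j a natural number and i, n
integers. If for every point x of X of codimension j + 1 (that is, dim X − dim closure(x) = j + 1)
the groups H^{i−2(j+1)}(x, M(n−j−1)) and H^{i+1−2(j+1)}(x, M(n−j−1)) of the point x are zero, then
the restriction map H^i(F_{j+1}X, M(n)) → H^i(F_jX, M(n)) is bijective. (The published lemma is the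
exact sequence, obtained from the Gysin sequences by passage to the colimit, whose terms around
these two are the direct sums of those groups of points over the points of codimension j + 1; its
residue and push-forward maps on the colimits are not part of the definitions used here, and this
row records the resulting bijectivity criterion.) -/
theorem result (V : ObjectProperty Scheme.{u}) [BMCoh.IsConstructible V] (R : Type u) [CommRing R] (A : BMCoh.Coefs R) (T : BMCoh.TheoryOn V R A) (X : BMCoh.Obj V) (M : A.Cat) (j : ℕ) (i n : ℤ) (h0 : ∀ x : X.scheme, WeilCoh.codim X.scheme x = j + 1 → Limits.IsZero (T.ptGp X x M (i - 2 * ((j : ℤ) + 1)) (n - ((j : ℤ) + 1)))) (h1 : ∀ x : X.scheme, WeilCoh.codim X.scheme x = j + 1 → Limits.IsZero (T.ptGp X x M (i + 1 - 2 * ((j : ℤ) + 1)) (n - ((j : ℤ) + 1)))) : Function.Bijective ((T.fjRes X (Nat.le_succ j) i n).app M).hom := by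
  exact Groth.Agent.BMLib.fjRes_bijective T.toPreTheory h0 h1

end Groth.Agent.S15886
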