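import Groth.Statements.S15888
import Groth.Agent.BMLib.Cor

set_option autoImplicit false
universe u
open CategoryTheory AlgebraicGeometry Opposite
open BMCoh

namespace Groth.Agent.S15888

/-- Let T be a twisted Borel–Moore cohomology theory with coefficients in A on a constructible class V
of Noetherian schemes, X an object of V whose underlying scheme is integral, and f : U → X a
morphism of V (an open immersion with dim U = dim X) whose image is a big open subset: every point
of X outside the image has codimension at least 2 in X, that is, its closure has dimension less than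
dim X − 1. Then for every coefficient module M and every integer n the restriction map H^2(X, M(n))
→ H^2(U, M(n)) along f is bijective. (The published remark is made for the rank-one Tate-twisted
coefficients of an ℓ-adic theory; the exactness-and-vanishing argument it indicates involves neither
the coefficient module nor the twist, and the statement is made here for all of them.) -/
theorem result (V : ObjectProperty Scheme.{u}) [BMCoh.IsConstructible V] (R : Type u) [CommRing R] (A : BMCoh.Coefs R) (T : BMCoh.TheoryOn V R A) {U X : BMCoh.Obj V} [IsIntegral X.scheme] (f : U ⟶ X) (hbig : ∀ x : X.scheme, x ∉ Set.range f.hom → 2 ≤ WeilCoh.codim X.scheme x) (M : A.Cat) (n : ℤ) : Function.Bijective (T.pull f M 2 n).hom := by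
  let U₀ : X.scheme.Opens := f.hom.opensRange
  have hd₀ : WeilCoh.dim (U₀ : Scheme.{u}) = WeilCoh.dim X.scheme :=
    (BMCoh.dim_eq_of_iso f.hom.isoOpensRange).symm.trans f.dim_eq
  let e : U ⟶ X.res U₀ := ⟨f.hom.isoOpensRange.hom, inferInstance, f.dim_eq.trans hd₀.symm⟩
  have : IsIso e.hom := inferInstanceAs (IsIso f.hom.isoOpensRange.hom)
  have h := (Groth.Agent.BMLib.pl_bijective_of_isIso T.toPreTheory e (M := M) (i := 2) (n := n)).comp
    (Groth.Agent.BMLib.pl_resι_bijective T.toPreTheory U₀ hd₀ (M := M) (i := 2) (n := n)
      (fun x hx => T.pt_vanish X x M _ _ (by have := hbig x hx; omega))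
      (fun x hx => T.pt_vanish X x M _ _ (by have := hbig x hx; omega)))
  convert h using 1
  funext a
  exact (Groth.Agent.BMLib.pl_pl T.toPreTheory e (X.resι U₀ hd₀) f
    (AlgebraicGeometry.Scheme.Hom.isoOpensRange_hom_ι f.hom) a).symm

end Groth.Agent.S15888
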