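import Groth.Statements.S15889
import Mathlib.Algebra.Module.Projective
import Mathlib.Algebra.CharP.Lemmas
-- import your own Groth.Agent.* helpers here

set_option autoImplicit false
universe u
open Versch

namespace Groth.Agent.S15889

open TensorProduct

section
variable {R : Type u} [CommRing R] {A : Type u} [CommRing A] [HopfAlgebra R A] [Coalgebra.IsCocomm R A]

theorem smulRight_mul (x y : CartDual.D R A) (e f : A) :
    WithConv.toConv (x.ofConv.smulRight e) * WithConv.toConv (y.ofConv.smulRight f) =
      WithConv.toConv ((x * y).ofConv.smulRight (e * f)) := by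
  ext a
  rw [LinearMap.convMul_apply]
  simp only [LinearMap.smulRight_apply]
  rw [LinearMap.convMul_apply]
  induction CoalgebraStruct.comul (R := R) a using TensorProduct.induction_on with
  | zero => simp
  | add u w hu hw => simp only [map_add, hu, hw, add_smul]
  | tmul u w =>
    simp [smul_smul]
    rw [mul_comm (y.ofConv w)]

theorem powConv_eq (p : ℕ) [Fact p.Prime] [CharP R p] {n : ℕ} (x : Fin n → CartDual.D R A) (e : Fin n → A)
    (hdual : ∀ a : A, a = ∑ i, x i a • e i) (a : A) :
    SGA3b.powConv R A p a = ∑ i, (x i ^ p) a • e i ^ p := by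
  classical
  have hinj : Function.Injective (algebraMap R (WithConv (A →ₗ[R] A))) := by
    intro r r' h
    have h1 := congrArg (fun y : WithConv (A →ₗ[R] A) => Bialgebra.counitAlgHom R A (y.ofConv 1)) h
    simpa [LinearMap.convAlgebraMap_apply] using h1
  haveI : CharP (WithConv (A →ₗ[R] A)) p := charP_of_injective_algebraMap hinj p
  have hlin : ∀ m : ℕ, (((WithConv.toConv (AlgHom.id R A)) ^ m).ofConv.toLinearMap) =
      ((WithConv.toConv (LinearMap.id : A →ₗ[R] A)) ^ m).ofConv := by
    intro m
    induction m with
    | zero => rfl
    | succ m ih =>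
      ext b
      rw [pow_succ, pow_succ]
      show ((WithConv.toConv (AlgHom.id R A)) ^ m * WithConv.toConv (AlgHom.id R A)).ofConv b = _
      rw [AlgHom.convMul_apply, LinearMap.convMul_apply, ← ih]
      induction CoalgebraStruct.comul (R := R) b using TensorProduct.induction_on with
      | zero => simp
      | add u w hu hw => simp only [map_add, hu, hw]
      | tmul u w => simp
  have hid : WithConv.toConv (LinearMap.id : A →ₗ[R] A) = ∑ i, WithConv.toConv ((x i).ofConv.smulRight (e i)) := by
    ext b
    simp only [WithConv.ofConv_sum, LinearMap.coe_sum, Finset.sum_apply, LinearMap.smulRight_apply]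
    exact hdual b
  have hpow : ∀ i (m : ℕ), (WithConv.toConv ((x i).ofConv.smulRight (e i))) ^ (m + 1) =
      WithConv.toConv ((x i ^ (m + 1)).ofConv.smulRight (e i ^ (m + 1))) := by
    intro i m
    induction m with
    | zero => simp
    | succ m ih => rw [pow_succ, ih, smulRight_mul, ← pow_succ, ← pow_succ]
  obtain ⟨m, hm⟩ : ∃ m, p = m + 1 := ⟨p - 1, by have := Nat.Prime.pos (Fact.out : p.Prime); omega⟩
  show ((WithConv.toConv (AlgHom.id R A)) ^ p).ofConv.toLinearMap a = _
  rw [hlin, hid, sum_pow_char]
  simp only [WithConv.ofConv_sum, LinearMap.coe_sum, Finset.sum_apply]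
  exact Finset.sum_congr rfl fun i _ => by rw [hm, hpow]; rfl

end

/-- Let p be a prime, R a commutative ring of characteristic p and A a commutative and cocommutative
Hopf algebra over R which is finitely generated and projective as an R-module, of characteristic p
(a finite locally free commutative group scheme G = Spec A over S = Spec R). Let v : A → A ⊗_R
R^(Frob) be the comorphism of the Verschiebung V : G^(p) → G, i.e. the ring map whose transpose
under the canonical pairing is the relative Frobenius of the dual Hopf algebra. Then the composite
of the relative Frobenius comorphism A^(p) → A with v is the p-th convolution power of the identity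
of A: V ∘ F = [p] is multiplication by p on G. (The published notes work over a Noetherian base
ring; the row allows any commutative base ring of characteristic p.) -/
theorem result (p : ℕ) [Fact p.Prime] (R : Type u) [CommRing R] [CharP R p]
    (A : Type u) [CommRing A] [HopfAlgebra R A] [Coalgebra.IsCocomm R A] [Module.Finite R A] [Module.Projective R A]
    [CharP A p] (v : A →+* FrobAlg.BaseChange p R A) (hv : Versch.IsVerschiebung p R A v) :
    (FrobAlg.relFrob p R A).comp v = (SGA3b.powConv R A p).toRingHom := by
  obtain ⟨n, f, hf⟩ := Module.Finite.exists_fin' R A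
  obtain ⟨s, hs⟩ := Module.projective_lifting_property f LinearMap.id hf
  classical
  let x : Fin n → CartDual.D R A := fun i => WithConv.toConv (LinearMap.proj i ∘ₗ s)
  let e : Fin n → A := fun i => f (Pi.single i 1)
  have hdual : ∀ a : A, a = ∑ i, x i a • e i := by
    intro a
    conv_lhs => rw [← show f (s a) = a from LinearMap.congr_fun hs a, pi_eq_sum_univ' (s a), map_sum]
    exact Finset.sum_congr rfl fun i _ => by rw [map_smul]; rfl
  refine RingHom.ext fun a => ?_
  have hz : ∀ z : FrobAlg.BaseChange p R A, z = ∑ i, e i ⊗ₜ[R] Versch.evTw p R A (x i) z := by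
    intro z
    induction z using TensorProduct.induction_on with
    | zero => simp
    | add z z' h h' => simp only [map_add, TensorProduct.tmul_add, Finset.sum_add_distrib, ← h, ← h']
    | tmul b t =>
      conv_lhs => rw [hdual b, TensorProduct.sum_tmul]
      refine Finset.sum_congr rfl fun i _ => ?_
      rw [Versch.evTw_tmul, TensorProduct.smul_tmul, Algebra.smul_def]
  show FrobAlg.relFrob p R A (v a) = SGA3b.powConv R A p a
  rw [hz (v a), map_sum]
  have hR : ∀ i, FrobAlg.relFrob p R A (e i ⊗ₜ[R] Versch.evTw p R A (x i) (v a)) = (x i ^ p) a • e i ^ p := by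
    intro i
    rw [(Versch.isVerschiebung_iff p R A v).mp hv, Algebra.smul_def, mul_comm]
    rfl
  rw [Finset.sum_congr rfl fun i _ => hR i]
  exact (powConv_eq p x e hdual a).symm

end Groth.Agent.S15889
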