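import Groth.Statements.S15890
import Groth.Agent.S3176
import Groth.Agent.PerfLib.RelFrob
import Mathlib.RingTheory.Etale.Field
-- import your own Groth.Agent.* helpers here

set_option autoImplicit false
universe u v
open Versch

namespace Groth.Agent.S15890

open TensorProduct

theorem relFrob_tmul_gen (p : ℕ) [Fact p.Prime] {k : Type u} [CommRing k] [CharP k p] {B : Type*} [CommRing B]
    [Algebra k B] [CharP B p] (b : B) (t : FrobAlg.Twist p k) :
    FrobAlg.relFrob p k B (b ⊗ₜ[k] t) = b ^ p * algebraMap k B ((FrobAlg.toTwist p k).symm t) := by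
  simp [FrobAlg.relFrob, FrobAlg.frobHom, FrobAlg.inclHom, Algebra.TensorProduct.lift_tmul]
  rfl

theorem etale_iff_surjective (p : ℕ) [Fact p.Prime] {k : Type u} [Field k] [CharP k p] {D : Type*} [CommRing D]
    [Algebra k D] [CharP D p] [Module.Finite k D] :
    Algebra.Etale k D ↔ Function.Surjective (FrobAlg.relFrob p k D) := by
  obtain ⟨m, f, hf⟩ := Algebra.FiniteType.iff_quotient_mvPolynomial''.mp (inferInstance : Algebra.FiniteType k D)
  let B := MvPolynomial (Fin m) k ⧸ RingHom.ker f
  let e : B ≃ₐ[k] D := Ideal.quotientKerAlgEquivOfSurjective hf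
  haveI : CharP B p := charP_of_injective_ringHom (f := (e.symm : D →+* B)) e.symm.injective p
  haveI : Module.Finite k B := Module.Finite.equiv e.symm.toLinearEquiv
  haveI : Algebra.FinitePresentation k B := Algebra.FinitePresentation.of_finiteType.mp inferInstance
  have hnat : ∀ z, e (FrobAlg.relFrob p k B z) =
      FrobAlg.relFrob p k D (Algebra.TensorProduct.map e.toAlgHom (AlgHom.id k _) z) := by
    intro z
    induction z using TensorProduct.induction_on with
    | zero => simp
    | add z z' h h' => simp only [map_add, h, h']
    | tmul b t => simp [relFrob_tmul_gen]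
  have hsurj : Function.Surjective (FrobAlg.relFrob p k B) ↔ Function.Surjective (FrobAlg.relFrob p k D) := by
    constructor
    · intro h d
      obtain ⟨z, hz⟩ := h (e.symm d)
      exact ⟨_, (hnat z).symm.trans (by rw [hz, AlgEquiv.apply_symm_apply])⟩
    · intro h b
      obtain ⟨z, hz⟩ := h (e b)
      refine ⟨Algebra.TensorProduct.map e.symm.toAlgHom (AlgHom.id k _) z, e.injective ?_⟩
      rw [hnat, ← hz]
      congr 1
      clear hz
      induction z using TensorProduct.induction_on with
      | zero => simp
      | add z z' h h' => simp only [map_add, h, h']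
      | tmul d t => simp
  rw [← hsurj]
  constructor
  · intro h
    haveI : Algebra.Etale k B := Algebra.Etale.of_equiv e.symm
    exact ((Groth.Agent.S3176.result p k B).mp inferInstance).2
  · intro h
    haveI : Algebra.FormallyUnramified k B := by
      rw [Groth.Agent.PerfLib.formallyUnramified_iff (p := p)]
      letI : Algebra (FrobAlg.BaseChange p k B) B := (FrobAlg.relFrob p k B).toAlgebra
      exact Algebra.FormallyUnramified.of_surjective (Algebra.ofId (FrobAlg.BaseChange p k B) B) h
    haveI : Algebra.FormallyEtale k B := Algebra.FormallyEtale.iff_formallyUnramified_of_field.mpr inferInstance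
    haveI : Algebra.Etale k B := ⟨inferInstance, inferInstance⟩
    exact Algebra.Etale.of_equiv e

/-- Let p be a prime, k a field of characteristic p and A a finite-dimensional commutative and
cocommutative Hopf algebra over k (a finite commutative k-group scheme G = Spec A), and let v : A →
A ⊗_k k^(Frob) be the comorphism of the Verschiebung V : G^(p) → G (the ring map whose transpose
under the canonical pairing is the relative Frobenius of the dual Hopf algebra). Then G is
multiplicative, i.e. the dual Hopf algebra Hom_k(A, k) of the Cartier dual G^D is étale over k, if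
and only if v is bijective, i.e. V is an isomorphism. -/
theorem result (p : ℕ) [Fact p.Prime] (k : Type u) [Field k] [CharP k p]
    (A : Type v) [CommRing A] [HopfAlgebra k A] [Coalgebra.IsCocomm k A] [FiniteDimensional k A]
    (v : A →+* FrobAlg.BaseChange p k A) (hv : Versch.IsVerschiebung p k A v) :
    Algebra.Etale k (CartDual.D k A) ↔ Function.Bijective v := by
  classical
  let b := Module.finBasis k A
  let x : Fin (Module.finrank k A) → CartDual.D k A := fun i => WithConv.toConv (b.coord i)
  have hx : ∀ d : CartDual.D k A, d = ∑ i, d (b i) • x i := by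
    intro d
    refine WithConv.ofConv_injective (b.ext fun j => ?_)
    simp only [WithConv.ofConv_sum, WithConv.ofConv_smul, LinearMap.sum_apply, LinearMap.smul_apply]
    rw [Finset.sum_eq_single j (fun i _ hij => by simp [x, hij.symm]) (by simp)]
    simp [x, CartDual.coe_apply]
  let Λ : A →ₗ[k] (Fin (Module.finrank k A) → k) := LinearMap.pi fun i => (x i ^ p).ofConv
  let φ : FrobAlg.BaseChange p k A → (Fin (Module.finrank k A) → k) := fun z i =>
    (FrobAlg.toTwist p k).symm (Versch.evTw p k A (x i) z)
  have hφ : Function.Bijective φ := by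
    refine ⟨fun z z' h => Versch.evTw_injective p k A fun d => ?_, fun c => ?_⟩
    · have hd : ∀ w, Versch.evTw p k A d w = ∑ i, algebraMap k (FrobAlg.Twist p k) (d (b i)) *
          Versch.evTw p k A (x i) w := by
        intro w
        induction w using TensorProduct.induction_on with
        | zero => simp
        | add w w' h h' => simp only [map_add, h, h', mul_add, Finset.sum_add_distrib]
        | tmul a t =>
          simp only [Versch.evTw_tmul, ← mul_assoc, ← map_mul, ← Finset.sum_mul, ← map_sum]
          congr 2
          conv_lhs => rw [hx d]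
          simp [CartDual.coe_apply, WithConv.ofConv_sum, WithConv.ofConv_smul]
      rw [hd, hd]
      refine Finset.sum_congr rfl fun i _ => ?_
      rw [(FrobAlg.toTwist p k).symm.injective (congrFun h i)]
    · refine ⟨∑ i, b i ⊗ₜ[k] FrobAlg.toTwist p k (c i), funext fun j => ?_⟩
      simp only [φ, map_sum, Versch.evTw_tmul]
      rw [Finset.sum_eq_single j (fun i _ hij => by simp [x, CartDual.coe_apply, hij]) (by simp)]
      simp [x, CartDual.coe_apply]
  have hΛ : φ ∘ v = Λ := by
    funext a i
    show (FrobAlg.toTwist p k).symm (Versch.evTw p k A (x i) (v a)) = _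
    rw [(Versch.isVerschiebung_iff p k A v).mp hv, RingEquiv.symm_apply_apply]
    rfl
  have hrange : Function.Surjective (FrobAlg.relFrob p k (CartDual.D k A)) ↔
      ∀ d : CartDual.D k A, ∃ c : Fin (Module.finrank k A) → k, d = ∑ i, c i • (x i ^ p) := by
    constructor
    · intro h d
      obtain ⟨z, rfl⟩ := h d
      induction z using TensorProduct.induction_on with
      | zero => exact ⟨0, by simp⟩
      | add z z' h h' =>
        obtain ⟨c, hc⟩ := h
        obtain ⟨c', hc'⟩ := h'
        exact ⟨c + c', by simp [map_add, hc, hc', add_smul, Finset.sum_add_distrib]⟩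
      | tmul y t =>
        refine ⟨fun i => (y (b i)) ^ p * (FrobAlg.toTwist p k).symm t, ?_⟩
        rw [relFrob_tmul_gen, mul_comm, ← Algebra.smul_def]
        conv_lhs => rw [hx y, sum_pow_char]
        rw [Finset.smul_sum]
        refine Finset.sum_congr rfl fun i _ => ?_
        rw [smul_pow, smul_smul, mul_comm]
    · intro h d
      obtain ⟨c, hc⟩ := h d
      refine ⟨∑ i, x i ⊗ₜ[k] FrobAlg.toTwist p k (c i), ?_⟩
      rw [hc, map_sum]
      refine Finset.sum_congr rfl fun i _ => ?_
      rw [relFrob_tmul_gen, RingEquiv.symm_apply_apply, mul_comm, ← Algebra.smul_def]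
  have hspan : Function.Bijective Λ ↔
      ∀ d : CartDual.D k A, ∃ c : Fin (Module.finrank k A) → k, d = ∑ i, c i • (x i ^ p) := by
    constructor
    · intro h d
      let E := LinearEquiv.ofBijective Λ h
      refine ⟨fun i => d (E.symm (Pi.single i 1)), WithConv.ofConv_injective (LinearMap.ext fun a => ?_)⟩
      have ha : a = ∑ i, Λ a i • E.symm (Pi.single i 1) := by
        conv_lhs => rw [← E.symm_apply_apply a, pi_eq_sum_univ' (E a)]
        rw [map_sum]
        exact Finset.sum_congr rfl fun i _ => by rw [map_smul]; rfl
      simp only [WithConv.ofConv_sum, WithConv.ofConv_smul, LinearMap.sum_apply, LinearMap.smul_apply]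
      conv_lhs => rw [ha, map_sum]
      refine Finset.sum_congr rfl fun i _ => ?_
      rw [map_smul, smul_eq_mul, smul_eq_mul, mul_comm]
      rfl
    · intro h
      have hinj : Function.Injective Λ := by
        rw [← LinearMap.ker_eq_bot, eq_bot_iff]
        intro a ha
        refine (Submodule.mem_bot k).mpr (b.forall_coord_eq_zero_iff.mp fun j => ?_)
        obtain ⟨c, hc⟩ := h (x j)
        have := congrArg (fun d : CartDual.D k A => d.ofConv a) hc
        simp only [WithConv.ofConv_sum, WithConv.ofConv_smul, LinearMap.sum_apply, LinearMap.smul_apply] at this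
        refine this.trans (Finset.sum_eq_zero fun i _ => ?_)
        rw [show (x i ^ p).ofConv a = Λ a i from rfl, LinearMap.mem_ker.mp ha]
        simp
      exact ⟨hinj, (LinearMap.injective_iff_surjective_of_finrank_eq_finrank (by simp)).mp hinj⟩
  rw [etale_iff_surjective p, hrange, ← hspan, ← hΛ]
  exact ⟨fun h => (Function.Bijective.of_comp_iff' hφ v).mp h, fun h => hφ.comp h⟩

end Groth.Agent.S15890
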