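import Groth.Statements.S15891
import Groth.Agent.S15889
import Mathlib.RingTheory.Bialgebra.TensorProduct
-- import your own Groth.Agent.* helpers here

set_option autoImplicit false
universe u
open scoped TensorProduct
open Versch

namespace Groth.Agent.S15891

open TensorProduct

section
variable {R : Type u} [CommRing R] {T : Type u} [CommRing T] [Algebra R T] {A : Type u} [CommRing A] [HopfAlgebra R A]

theorem powConv_baseChange (m : ℕ) (a : A) :
    SGA3b.powConv T (T ⊗[R] A) m ((1 : T) ⊗ₜ[R] a) = (1 : T) ⊗ₜ[R] SGA3b.powConv R A m a := by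
  induction m generalizing a with
  | zero =>
    simp [SGA3b.powConv, AlgHom.convOne_apply, Algebra.algebraMap_eq_smul_one, TensorProduct.tmul_smul, Algebra.TensorProduct.one_def]
  | succ m ih =>
    simp only [SGA3b.powConv] at ih ⊢
    rw [pow_succ, pow_succ, AlgHom.convMul_apply, AlgHom.convMul_apply, TensorProduct.comul_tmul]
    rw [show CoalgebraStruct.comul (R := T) (1 : T) = (1 : T) ⊗ₜ[T] (1 : T) from Bialgebra.comul_one]
    induction CoalgebraStruct.comul (R := R) a using TensorProduct.induction_on with
    | zero => simp
    | add u w hu hw => simp only [TensorProduct.tmul_add, map_add, hu, hw]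
    | tmul u w => simp [ih]

end

/-- Let p be a prime, R a commutative ring of characteristic p and A a commutative and cocommutative
Hopf algebra over R which is finitely generated and projective as an R-module, of characteristic p
(a finite locally free commutative group scheme G = Spec A over S = Spec R), and let v : A → A^(p) =
A ⊗_R R^(Frob) be the comorphism of the Verschiebung V : G^(p) → G (the ring map whose transpose
under the canonical pairing is the relative Frobenius of the dual Hopf algebra). Then F ∘ V = [p] is
multiplication by p on the S-group G^(p): the ring endomorphism v ∘ F* of A^(p), where F* : A^(p) →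
A is the relative Frobenius comorphism, transported along the symmetry A ⊗_R R^(Frob) ≅ R^(Frob) ⊗_R
A, is the p-th convolution power of the identity of the Hopf algebra R^(Frob) ⊗_R A over R^(Frob)
(the base change of A along the Frobenius of R). (The published notes work over a Noetherian base
ring; the row allows any commutative base ring of characteristic p.) -/
theorem result (p : ℕ) [Fact p.Prime] (R : Type u) [CommRing R] [CharP R p]
    (A : Type u) [CommRing A] [HopfAlgebra R A] [Coalgebra.IsCocomm R A] [Module.Finite R A] [Module.Projective R A]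
    [CharP A p] (v : A →+* FrobAlg.BaseChange p R A) (hv : Versch.IsVerschiebung p R A v) :
    ((Algebra.TensorProduct.comm R A (FrobAlg.Twist p R)).toRingEquiv.toRingHom.comp
        ((v.comp (FrobAlg.relFrob p R A)).comp
          (Algebra.TensorProduct.comm R A (FrobAlg.Twist p R)).symm.toRingEquiv.toRingHom)) =
      (SGA3b.powConv (FrobAlg.Twist p R) (FrobAlg.Twist p R ⊗[R] A) p).toRingHom := by
  obtain ⟨n, f, hf⟩ := Module.Finite.exists_fin' R A
  obtain ⟨s, hs⟩ := Module.projective_lifting_property f LinearMap.id hf
  classical
  let x : Fin n → CartDual.D R A := fun i => WithConv.toConv (LinearMap.proj i ∘ₗ s)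
  let e : Fin n → A := fun i => f (Pi.single i 1)
  have hdual : ∀ a : A, a = ∑ i, x i a • e i := by
    intro a
    conv_lhs => rw [← show f (s a) = a from LinearMap.congr_fun hs a, pi_eq_sum_univ' (s a), map_sum]
    exact Finset.sum_congr rfl fun i _ => by rw [map_smul]; rfl
  haveI hch : CharP (FrobAlg.BaseChange p R A) p := by
    refine charP_of_injective_ringHom (f := (Algebra.TensorProduct.includeRight (R := R) (A := A) (B := FrobAlg.Twist p R)).toRingHom) (fun r r' h => ?_) p
    have h1 := congrArg (Algebra.TensorProduct.lift (Algebra.ofId R (FrobAlg.Twist p R) |>.comp (Bialgebra.counitAlgHom R A)) (AlgHom.id R (FrobAlg.Twist p R)) (fun _ _ => Commute.all _ _)) h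
    simpa using h1
  have hz : ∀ z : FrobAlg.BaseChange p R A, z = ∑ i, e i ⊗ₜ[R] Versch.evTw p R A (x i) z := by
    intro z
    induction z using TensorProduct.induction_on with
    | zero => simp
    | add z z' h h' => simp only [map_add, TensorProduct.tmul_add, Finset.sum_add_distrib, ← h, ← h']
    | tmul b t =>
      conv_lhs => rw [hdual b, TensorProduct.sum_tmul]
      refine Finset.sum_congr rfl fun i _ => ?_
      rw [Versch.evTw_tmul, TensorProduct.smul_tmul, Algebra.smul_def]
  have hvp : ∀ a : A, (v a) ^ p = SGA3b.powConv R A p a ⊗ₜ[R] (1 : FrobAlg.Twist p R) := by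
    intro a
    rw [hz (v a), sum_pow_char, Groth.Agent.S15889.powConv_eq p x e hdual a, TensorProduct.sum_tmul]
    refine Finset.sum_congr rfl fun i _ => ?_
    rw [Algebra.TensorProduct.tmul_pow, (Versch.isVerschiebung_iff p R A v).mp hv, ← map_pow (FrobAlg.toTwist p R),
      TensorProduct.smul_tmul, Algebra.smul_def, mul_one]
    rfl
  have hvalg : ∀ r : R, v (algebraMap R A r) = (1 : A) ⊗ₜ[R] FrobAlg.toTwist p R r := by
    intro r
    refine Versch.evTw_injective p R A fun y => ?_
    rw [(Versch.isVerschiebung_iff p R A v).mp hv, Versch.evTw_tmul', ← map_mul]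
    congr 1
    have hp : ∀ m : ℕ, (y ^ m) (1 : A) = (y 1) ^ m := by
      intro m
      induction m with
      | zero => simp [LinearMap.convOne_apply]
      | succ m ih =>
        rw [pow_succ, pow_succ, LinearMap.convMul_apply]
        simp [Algebra.TensorProduct.one_def]
        try exact Or.inl ih
        try rw [show (y ^ m).ofConv 1 = _ from ih]
    rw [Algebra.algebraMap_eq_smul_one, map_smul, hp, smul_eq_mul, mul_comm]
  refine RingHom.ext fun z => ?_
  induction z using TensorProduct.induction_on with
  | zero => simp
  | add z z' h h' => simp only [map_add, h, h']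
  | tmul t a =>
    show Algebra.TensorProduct.comm R A (FrobAlg.Twist p R) (v (FrobAlg.relFrob p R A (a ⊗ₜ[R] t))) =
      SGA3b.powConv (FrobAlg.Twist p R) (FrobAlg.Twist p R ⊗[R] A) p (t ⊗ₜ[R] a)
    rw [show FrobAlg.relFrob p R A (a ⊗ₜ[R] t) = a ^ p * algebraMap R A ((FrobAlg.toTwist p R).symm t) by
      simp [FrobAlg.relFrob, FrobAlg.frobHom, FrobAlg.inclHom, Algebra.TensorProduct.lift_tmul]
      rfl]
    rw [map_mul, map_pow, hvalg, hvp, Algebra.TensorProduct.tmul_mul_tmul, mul_one, one_mul,
      RingEquiv.apply_symm_apply, Algebra.TensorProduct.comm_tmul]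
    rw [show t ⊗ₜ[R] a = t • ((1 : FrobAlg.Twist p R) ⊗ₜ[R] a) by rw [TensorProduct.smul_tmul', smul_eq_mul, mul_one],
      map_smul, powConv_baseChange, TensorProduct.smul_tmul', smul_eq_mul, mul_one]

end Groth.Agent.S15891
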