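import Groth.Statements.S15892
import Groth.Agent.GrpSchLib.HopfQuotEtale


set_option autoImplicit false
universe u
open CartDual

namespace Groth.Agent.S15892

open scoped TensorProduct


set_option maxHeartbeats 1000000 in
/-- Let R be a Noetherian ring and A', A, A'' commutative and cocommutative Hopf algebras over R, each
finitely generated and projective as an R-module (finite flat commutative R-groups G' = Spec A', G =
Spec A, G'' = Spec A''). Let f : A'' → A be a bialgebra homomorphism which is faithfully flat as a
ring map (the comorphism of a faithfully flat homomorphism π : G → G'') and g : A → A' a surjective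
bialgebra homomorphism whose kernel is the ideal of A generated by the image under f of the
augmentation ideal of A'' (the comorphism of a closed immersion ι : G' → G identifying G' with the
kernel of π), so that 1 → G' → G → G'' → 1 is a short exact sequence of finite flat R-groups. Then
the Cartier dual sequence 1 → G''^D → G^D → G'^D → 1 is again short exact: the transpose Hom_R(A',
R) → Hom_R(A, R) of g is a faithfully flat ring map between the dual Hopf algebras, and the
transpose Hom_R(A, R) → Hom_R(A'', R) of f is surjective with kernel the ideal generated by the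
image, under the transpose of g, of the augmentation ideal of Hom_R(A', R). -/
theorem result (R : Type u) [CommRing R] [IsNoetherianRing R]
    (A' A A'' : Type u) [CommRing A'] [HopfAlgebra R A'] [Coalgebra.IsCocomm R A'] [Module.Finite R A']
    [Module.Projective R A'] [CommRing A] [HopfAlgebra R A] [Coalgebra.IsCocomm R A] [Module.Finite R A]
    [Module.Projective R A] [CommRing A''] [HopfAlgebra R A''] [Coalgebra.IsCocomm R A''] [Module.Finite R A'']
    [Module.Projective R A''] (f : A'' →ₐc[R] A) (hf : (f : A'' →ₐ[R] A).toRingHom.FaithfullyFlat)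
    (g : A →ₐc[R] A') (hg : Function.Surjective g)
    (hker : RingHom.ker (g : A →ₐ[R] A') = Ideal.map (f : A'' →ₐ[R] A) (RingHom.ker (Bialgebra.counitAlgHom R A''))) :
    (CartDual.transpose R g : CartDual.D R A' →ₐ[R] CartDual.D R A).toRingHom.FaithfullyFlat ∧
      Function.Surjective (CartDual.transpose R f) ∧
      RingHom.ker (CartDual.transpose R f : CartDual.D R A →ₐ[R] CartDual.D R A'') =
        Ideal.map (CartDual.transpose R g : CartDual.D R A' →ₐ[R] CartDual.D R A)
          (RingHom.ker (Bialgebra.counitAlgHom R (CartDual.D R A'))) := by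
  let π : CartDual.D R A →ₐc[R] CartDual.D R A'' := CartDual.transpose R f
  let j : CartDual.D R A' →ₐc[R] CartDual.D R A := CartDual.transpose R g
  have hπ : Function.Surjective π := by
    letI : Algebra A'' A := (f : A'' →ₐ[R] A).toRingHom.toAlgebra
    haveI : IsScalarTower R A'' A := IsScalarTower.of_algebraMap_eq fun r => ((f : A'' →ₐ[R] A).commutes r).symm
    haveI : Module.FaithfullyFlat A'' A := hf
    haveI : Module.Finite A'' A := Module.Finite.of_restrictScalars_finite R A'' A
    haveI : IsNoetherianRing A'' := IsNoetherianRing.of_finite R A''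
    haveI : Module.FinitePresentation A'' A := Module.finitePresentation_of_finite A'' A
    haveI : Module.Projective A'' A := Module.Flat.projective_of_finitePresentation
    let E : Ideal A'' := LinearMap.range (LinearMap.applyₗ (1 : A) : (A →ₗ[A''] A'') →ₗ[A''] A'')
    have hE : E = ⊤ := by
      by_contra hne
      obtain ⟨m, hm, hle⟩ := Ideal.exists_le_maximal _ hne
      refine Module.FaithfullyFlat.submodule_ne_top (R := A'') (M := A) hm (eq_top_iff.2 fun a _ => ?_)
      obtain ⟨s, hs⟩ := Module.Projective.out (R := A'') (P := A)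
      have h1 : (1 : A) ∈ m • (⊤ : Submodule A'' A) := by
        rw [← hs 1, Finsupp.linearCombination_apply]
        refine Submodule.sum_mem _ fun i _ => Submodule.smul_mem_smul (hle ?_) Submodule.mem_top
        exact ⟨(Finsupp.lapply i).comp s, rfl⟩
      have h2 : a • (1 : A) ∈ m • (⊤ : Submodule A'' A) := by
        refine Submodule.smul_induction_on h1 (fun b hb x _ => ?_) (fun x y hx hy => ?_)
        · rw [smul_comm]; exact Submodule.smul_mem_smul hb Submodule.mem_top
        · rw [smul_add]; exact add_mem hx hy
      simpa using h2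
    obtain ⟨r, hr⟩ := (LinearMap.range_eq_top.1 hE) 1
    intro y
    refine ⟨WithConv.toConv (y.ofConv ∘ₗ r.restrictScalars R), ?_⟩
    apply WithConv.ext
    apply LinearMap.ext
    intro c
    show y.ofConv (r (f c)) = y.ofConv c
    have : r (f c) = c := by
      rw [show f c = c • (1 : A) from (_root_.mul_one _).symm.trans (Algebra.smul_def c (1 : A)).symm, map_smul,
        show r 1 = 1 from hr, smul_eq_mul, _root_.mul_one]
    rw [this]
  let Q := GrpSchLib.HopfQuot.inv π
  -- the invariants are the forms factoring through `g`
  have hinv : ∀ x : CartDual.D R A, x ∈ Q ↔ ∀ a c, x (a * f c) = x a * Bialgebra.counitAlgHom R A'' c := by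
    intro x
    let e := TensorProduct.congr (CartDual.toDual R A) (CartDual.toDual R A'') ≪≫ₗ CartDual.dualTensorEquiv R A A''
    have h1 : ∀ w : CartDual.D R A ⊗[R] CartDual.D R A, ∀ a c,
        e (Algebra.TensorProduct.map (AlgHom.id R _) (π : CartDual.D R A →ₐ[R] CartDual.D R A'') w) (a ⊗ₜ[R] c) =
          CartDual.ev₂ R A w (a ⊗ₜ[R] f c) := by
      intro w a c
      induction w using TensorProduct.induction_on with
      | zero => simp
      | add u v hu hv => simp only [map_add, LinearMap.add_apply, hu, hv]
      | tmul u v =>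
        rw [Algebra.TensorProduct.map_tmul, CartDual.ev₂_tmul]
        show CartDual.dualTensorEquiv R A A'' (u.ofConv ⊗ₜ[R] (π v).ofConv) (a ⊗ₜ[R] c) = _
        rw [CartDual.dualTensorEquiv_tmul]
        rfl
    have h2 : ∀ a c, e (x ⊗ₜ[R] (1 : CartDual.D R A'')) (a ⊗ₜ[R] c) = x a * Bialgebra.counitAlgHom R A'' c := by
      intro a c
      show CartDual.dualTensorEquiv R A A'' (x.ofConv ⊗ₜ[R] (1 : CartDual.D R A'').ofConv) (a ⊗ₜ[R] c) = _
      rw [CartDual.dualTensorEquiv_tmul]
      simp [CartDual.coe_apply, LinearMap.convOne_def]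
    rw [GrpSchLib.HopfQuot.mem_inv, ← e.injective.eq_iff]
    constructor
    · intro h a c
      have h3 := LinearMap.congr_fun h (a ⊗ₜ[R] c)
      rw [h2] at h3
      rw [h3]
      exact ((h1 _ a c).trans (CartDual.ev₂_coalgebra_comul_tmul R A x a (f c))).symm
    · intro h
      refine TensorProduct.ext' fun a c => ?_
      rw [h2, ← h a c]
      exact ((h1 _ a c).trans (CartDual.ev₂_coalgebra_comul_tmul R A x a (f c))).symm
  have hI'' : ∀ c, c - algebraMap R A'' (Bialgebra.counitAlgHom R A'' c) ∈
      RingHom.ker (Bialgebra.counitAlgHom R A'') := fun c => by simp [RingHom.mem_ker]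
  have hrange : ∀ x : CartDual.D R A, x ∈ Q ↔ ∃ y, j y = x := by
    intro x
    rw [hinv]
    constructor
    · intro h
      have key : ∀ z ∈ Ideal.span ((f : A'' →ₐ[R] A) '' (RingHom.ker (Bialgebra.counitAlgHom R A'') : Set A'')),
          ∀ b, x (b * z) = 0 := by
        intro z hz
        induction hz using Submodule.span_induction with
        | mem v hv =>
          intro b
          obtain ⟨c, hc, rfl⟩ := hv
          have := h b c
          rwa [show Bialgebra.counitAlgHom R A'' c = 0 from hc, mul_zero] at this
        | zero => intro b; rw [mul_zero]; exact map_zero x.ofConv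
        | add u v _ _ hu hv =>
          intro b
          rw [mul_add]
          exact (map_add x.ofConv _ _).trans (by rw [show x.ofConv (b * u) = 0 from hu b, show x.ofConv (b * v) = 0 from hv b, add_zero])
        | smul a' v _ hv => intro b; rw [smul_eq_mul, ← _root_.mul_assoc]; exact hv (b * a')
      obtain ⟨s, hs⟩ := Module.projective_lifting_property (g : A →ₗ[R] A') LinearMap.id hg
      refine ⟨WithConv.toConv (x.ofConv ∘ₗ s), ?_⟩
      apply WithConv.ext
      apply LinearMap.ext
      intro a
      show x.ofConv (s (g a)) = x.ofConv a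
      have hz : s (g a) - a ∈ Ideal.map (f : A'' →ₐ[R] A) (RingHom.ker (Bialgebra.counitAlgHom R A'')) := by
        rw [← hker, RingHom.mem_ker, map_sub, sub_eq_zero]
        exact LinearMap.congr_fun hs (g a)
      have h0 := key _ hz 1
      rw [_root_.one_mul] at h0
      exact sub_eq_zero.1 ((map_sub x.ofConv _ _).symm.trans h0)
    · rintro ⟨y, rfl⟩ a c
      have hgf : g (f c) = algebraMap R A' (Bialgebra.counitAlgHom R A'' c) := by
        have hmem : f (c - algebraMap R A'' (Bialgebra.counitAlgHom R A'' c)) ∈ RingHom.ker (g : A →ₐ[R] A') :=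
          hker ▸ Ideal.mem_map_of_mem (f : A'' →ₐ[R] A) (hI'' c)
        rw [RingHom.mem_ker, map_sub, map_sub, sub_eq_zero] at hmem
        exact hmem.trans ((congrArg g ((f : A'' →ₐ[R] A).commutes _)).trans ((g : A →ₐ[R] A').commutes _))
      show y.ofConv (g (a * f c)) = y.ofConv (g a) * _
      rw [map_mul, hgf, mul_comm (g a), ← Algebra.smul_def, map_smul, smul_eq_mul, mul_comm]
  have hjinj : Function.Injective j := fun y y' h => by
    apply WithConv.ext
    apply LinearMap.ext
    intro b
    obtain ⟨a, rfl⟩ := hg b
    exact LinearMap.congr_fun (congrArg WithConv.ofConv h) a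
  let jQ : CartDual.D R A' →ₐ[R] Q := (j : CartDual.D R A' →ₐ[R] CartDual.D R A).codRestrict Q fun y => (hrange _).2 ⟨y, rfl⟩
  have hbij : Function.Bijective jQ := ⟨fun y y' h => hjinj (congrArg Subtype.val h),
    fun q => by obtain ⟨y, hy⟩ := (hrange q).1 q.2; exact ⟨y, Subtype.ext hy⟩⟩
  refine ⟨?_, hπ, ?_⟩
  · have e : (j : CartDual.D R A' →ₐ[R] CartDual.D R A).toRingHom = (algebraMap Q (CartDual.D R A)).comp jQ.toRingHom :=
      RingHom.ext fun y => rfl
    show (j : CartDual.D R A' →ₐ[R] CartDual.D R A).toRingHom.FaithfullyFlat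
    rw [e]
    exact RingHom.FaithfullyFlat.stableUnderComposition _ _ (RingHom.FaithfullyFlat.of_bijective hbij)
      (RingHom.faithfullyFlat_algebraMap_iff.2 (GrpSchLib.HopfQuot.faithfullyFlat π hπ))
  · refine (GrpSchLib.HopfQuot.augIdeal_eq π hπ).symm.trans ?_
    rw [Ideal.map]
    refine congrArg Ideal.span (Set.ext fun x => ?_)
    constructor
    · rintro ⟨hx, hx0⟩
      obtain ⟨y, rfl⟩ := (hrange x).1 hx
      refine ⟨y, ?_, rfl⟩
      show Coalgebra.counit (R := R) y = 0
      rw [← CoalgHomClass.counit_comp_apply j y]
      exact hx0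
    · rintro ⟨y, hy, rfl⟩
      exact ⟨(hrange _).2 ⟨y, rfl⟩, (CoalgHomClass.counit_comp_apply j y).trans hy⟩

end Groth.Agent.S15892
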