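import Groth.Statements.S15893
-- import your own Groth.Agent.* helpers here

set_option autoImplicit false
universe u v w
open CartDual

namespace Groth.Agent.S15893

/-- Let R be a commutative ring and A, B commutative and cocommutative Hopf algebras over R, each
finitely generated and projective as an R-module (finite locally free commutative group schemes G =
Spec A, H = Spec B over Spec R). Then Cartier duality is a fully faithful contravariant functor: the
map sending a bialgebra homomorphism f : A → B (a homomorphism of group schemes H → G) to its
transpose between the dual Hopf algebras, Hom_R(B, R) → Hom_R(A, R) (the dual homomorphism G^D →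
H^D), is a bijection between bialgebra homomorphisms A → B and bialgebra homomorphisms Hom_R(B, R) →
Hom_R(A, R). (The published statement also asserts that the canonical map to the double dual is an
isomorphism, which makes duality an involutory anti-equivalence; that part is not restated here. The
published notes work over a Noetherian base ring; the row allows any commutative base ring.) -/
theorem result (R : Type u) [CommRing R] (A : Type v) (B : Type w)
    [CommRing A] [HopfAlgebra R A] [Coalgebra.IsCocomm R A] [Module.Finite R A] [Module.Projective R A]
    [CommRing B] [HopfAlgebra R B] [Coalgebra.IsCocomm R B] [Module.Finite R B] [Module.Projective R B] :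
    Function.Bijective (fun f : A →ₐc[R] B => CartDual.transpose R f) := by
  refine ⟨fun f f' h => ?_, fun g => ?_⟩
  · apply DFunLike.ext
    intro a
    rw [← sub_eq_zero, ← Module.forall_dual_apply_eq_zero_iff R]
    intro φ
    have e := congrArg (fun F : CartDual.D R B →ₐc[R] CartDual.D R A => F (WithConv.toConv φ) a) h
    simp only [CartDual.transpose_apply] at e
    rw [map_sub, sub_eq_zero]
    exact e
  · have hb : Function.Bijective (CartDual.eval R B) := by
      have h1 : Function.Bijective ((CartDual.toDual R (CartDual.D R B)).symm.toLinearMap ∘ₗ
          (CartDual.toDual R B).toLinearMap.dualMap ∘ₗ Module.Dual.eval R B) := by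
        simp only [LinearMap.coe_comp]
        exact ((CartDual.toDual R (CartDual.D R B)).symm.bijective.comp
          ((CartDual.toDual R B).dualMap.bijective.comp (Module.bijective_dual_eval R B)))
      exact h1
    let F := CartDual.eval R B
    let eB := BialgEquiv.ofBijective (R := R) (A := B) (B := CartDual.D R (CartDual.D R B)) F hb
    refine ⟨((eB.symm : CartDual.D R (CartDual.D R B) →ₐc[R] B).comp
      ((CartDual.transpose R g).comp (CartDual.eval R A))), ?_⟩
    apply DFunLike.ext
    intro x
    apply WithConv.ext
    apply LinearMap.ext
    intro a
    show x (eB.symm (CartDual.transpose R g (CartDual.eval R A a))) = g x a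
    rw [← CartDual.eval_apply R B, show CartDual.eval R B (eB.symm (CartDual.transpose R g (CartDual.eval R A a))) =
      CartDual.transpose R g (CartDual.eval R A a) from eB.apply_symm_apply _, CartDual.transpose_apply,
      CartDual.eval_apply]

end Groth.Agent.S15893
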