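import Groth.Statements.S15895
import Mathlib.Algebra.CharP.Lemmas
-- import your own Groth.Agent.* helpers here

set_option autoImplicit false
universe u
open scoped TensorProduct
open Versch

namespace Groth.Agent.S15895

open TensorProduct

section
variable {R : Type u} [CommRing R] {G : Type} [CommGroup G] [Fintype G]

/-- Evaluation at a group element, as a form on functions. -/
noncomputable def evPt (g : G) : CartDual.D R (CartDual.D R (MonoidAlgebra R G)) :=
  WithConv.toConv
    { toFun := fun b => b.ofConv (MonoidAlgebra.single g (1 : R))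
      map_add' := fun _ _ => rfl
      map_smul' := fun _ _ => rfl }

theorem evPt_mul (g h : G) : evPt (R := R) g * evPt h = evPt (g * h) := by
  ext b
  rw [LinearMap.convMul_apply]
  have e : ∀ y : CartDual.D R (MonoidAlgebra R G) ⊗[R] CartDual.D R (MonoidAlgebra R G),
      LinearMap.mul' R R (TensorProduct.map (evPt (R := R) g).ofConv (evPt (R := R) h).ofConv y) =
        CartDual.ev₂ R (MonoidAlgebra R G) y (MonoidAlgebra.single g (1 : R) ⊗ₜ[R] MonoidAlgebra.single h (1 : R)) := by
    intro y
    induction y using TensorProduct.induction_on with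
    | zero => simp
    | add u w hu hw => simp only [map_add, LinearMap.add_apply, hu, hw]
    | tmul u w =>
      simp [evPt, CartDual.ev₂_tmul]
      try rfl
  rw [e, CartDual.ev₂_coalgebra_comul_tmul, MonoidAlgebra.single_mul_single, one_mul]
  rfl

theorem evPt_one : evPt (R := R) (1 : G) = 1 := by
  ext b
  rw [LinearMap.convOne_apply, Algebra.algebraMap_self_apply]
  rfl

theorem dual_pow (p : ℕ) [Fact p.Prime] [CharP R p]
    (x : CartDual.D R (CartDual.D R (MonoidAlgebra R (Multiplicative (ZMod p)))))
    (a : CartDual.D R (MonoidAlgebra R (Multiplicative (ZMod p)))) :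
    (x ^ p) a = x 1 ^ p * Bialgebra.counitAlgHom R (CartDual.D R (MonoidAlgebra R (Multiplicative (ZMod p)))) a := by
  classical
  let δ : Multiplicative (ZMod p) → CartDual.D R (MonoidAlgebra R (Multiplicative (ZMod p))) :=
    fun g => WithConv.toConv ((MonoidAlgebra.basis (Multiplicative (ZMod p)) R).coord g)
  have hexp : ∀ b : CartDual.D R (MonoidAlgebra R (Multiplicative (ZMod p))),
      b = ∑ g, b.ofConv (MonoidAlgebra.single g (1 : R)) • δ g := by
    intro b
    refine WithConv.ext ((MonoidAlgebra.basis (Multiplicative (ZMod p)) R).ext fun h => ?_)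
    rw [WithConv.ofConv_sum, LinearMap.coe_sum, Finset.sum_apply, Finset.sum_eq_single h]
    · simp [δ, ← MonoidAlgebra.basis_apply]
    · intro g _ hg
      simp [δ, ← MonoidAlgebra.basis_apply, Ne.symm hg]
    · intro hh; exact absurd (Finset.mem_univ h) hh
  have hx : x = ∑ g, x.ofConv (δ g) • evPt (R := R) g := by
    ext b
    conv_lhs => rw [hexp b, map_sum]
    simp only [WithConv.ofConv_sum, LinearMap.coe_sum, Finset.sum_apply]
    refine Finset.sum_congr rfl fun g _ => ?_
    rw [map_smul, smul_eq_mul, mul_comm]
    rfl
  have hone : x 1 = ∑ g, x.ofConv (δ g) := by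
    show x.ofConv 1 = _
    conv_lhs => rw [hexp 1, map_sum]
    refine Finset.sum_congr rfl fun g _ => ?_
    rw [map_smul, LinearMap.convOne_apply]
    simp [MonoidAlgebra.counit_single]
  have hpow : ∀ g : Multiplicative (ZMod p), ∀ m : ℕ, evPt (R := R) g ^ m = evPt (g ^ m) := by
    intro g m
    induction m with
    | zero => rw [pow_zero, pow_zero, evPt_one]
    | succ m ih => rw [pow_succ, pow_succ, ih, evPt_mul]
  have hg1 : ∀ g : Multiplicative (ZMod p), g ^ p = 1 := fun g => by
    rw [← ofAdd_toAdd g, ← ofAdd_nsmul, nsmul_eq_mul, ZMod.natCast_self, zero_mul, ofAdd_zero]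
  have hmain : x ^ p = (x 1 ^ p) • (1 : CartDual.D R (CartDual.D R (MonoidAlgebra R (Multiplicative (ZMod p))))) := by
    conv_lhs => rw [hx, sum_pow_char]
    rw [Finset.sum_congr rfl fun g _ => by rw [smul_pow, hpow, hg1, evPt_one], ← Finset.sum_smul, ← sum_pow_char, ← hone]
  rw [hmain]
  show (x 1 ^ p • (1 : CartDual.D R (CartDual.D R (MonoidAlgebra R (Multiplicative (ZMod p)))))).ofConv a = _
  rw [WithConv.ofConv_smul, LinearMap.smul_apply, LinearMap.convOne_apply, smul_eq_mul, Algebra.algebraMap_self_apply]
  rfl

end

/-- Let p be a prime, R a commutative ring of characteristic p and B = Hom_R(R[ℤ/p], R) the dual Hopf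
algebra of the group algebra of the cyclic group of order p: the Hopf algebra of the constant group
scheme ℤ/p over Spec R (the Cartier dual of μ_p). Let v : B → B ⊗_R R^(Frob) be the comorphism of
the Verschiebung V : (ℤ/p)^(p) → ℤ/p (the ring map whose transpose under the canonical pairing is
the relative Frobenius of the dual Hopf algebra of B). Then V is the trivial homomorphism: v is the
composite of the counit ε : B → R, the identity of underlying rings R → R^(Frob) and the inclusion
of the twisted factor R^(Frob) → B ⊗_R R^(Frob), i.e. v(b) = 1 ⊗ ε(b). -/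
theorem result (p : ℕ) [Fact p.Prime] (R : Type u) [CommRing R]
    [CharP R p] (v : CartDual.D R (MonoidAlgebra R (Multiplicative (ZMod p))) →+* FrobAlg.BaseChange p R (CartDual.D R (MonoidAlgebra R (Multiplicative (ZMod p)))))
    (hv : Versch.IsVerschiebung p R (CartDual.D R (MonoidAlgebra R (Multiplicative (ZMod p)))) v) :
    v = ((Algebra.TensorProduct.includeRight (R := R) (A := CartDual.D R (MonoidAlgebra R (Multiplicative (ZMod p))))
            (B := FrobAlg.Twist p R)).toRingHom.comp (FrobAlg.toTwist p R).toRingHom).comp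
          (Bialgebra.counitAlgHom R (CartDual.D R (MonoidAlgebra R (Multiplicative (ZMod p))))).toRingHom := by
  refine RingHom.ext fun a => ?_
  apply Versch.evTw_injective p R (CartDual.D R (MonoidAlgebra R (Multiplicative (ZMod p))))
  intro x
  refine ((Versch.isVerschiebung_iff p R _ v).mp hv a x).trans ?_
  show _ = Versch.evTw p R _ x ((1 : CartDual.D R (MonoidAlgebra R (Multiplicative (ZMod p)))) ⊗ₜ[R]
    FrobAlg.toTwist p R (Bialgebra.counitAlgHom R (CartDual.D R (MonoidAlgebra R (Multiplicative (ZMod p)))) a))
  rw [Versch.evTw_tmul', ← map_mul]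
  congr 1
  exact dual_pow p x a

end Groth.Agent.S15895
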