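import Groth.Statements.S15896
import Groth.Agent.GrpSchLib.DualInvariant
import Mathlib.RingTheory.Unramified.Basic
import Mathlib.RingTheory.Filtration
-- import your own Groth.Agent.* helpers here

set_option autoImplicit false
universe u
open scoped TensorProduct
open Hopf

namespace Groth.Agent.S15896

/-- Two maps from an unramified algebra into a Noetherian local ring which agree modulo the maximal ideal agree. -/
theorem eq_of_unramified {R D L : Type u} [CommRing R] [CommRing D] [CommRing L] [Algebra R D] [Algebra R L]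
    [Algebra.FormallyUnramified R D] [IsNoetherianRing L] [IsLocalRing L] (u v : D →ₐ[R] L)
    (h : ∀ y, u y - v y ∈ IsLocalRing.maximalIdeal L) : u = v := by
  refine AlgHom.ext fun y => sub_eq_zero.mp ?_
  have h0 : ∀ n, u y - v y ∈ IsLocalRing.maximalIdeal L ^ n := by
    intro n
    set m := IsLocalRing.maximalIdeal L
    rcases n with _ | n
    · simp
    let I : Ideal (L ⧸ m ^ (n + 1)) := m.map (Ideal.Quotient.mk (m ^ (n + 1)))
    have hI : IsNilpotent I := ⟨n + 1, by rw [← Ideal.map_pow, Ideal.map_quotient_self, Ideal.zero_eq_bot]⟩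
    have e : (Ideal.Quotient.mkₐ R (m ^ (n + 1))).comp u = (Ideal.Quotient.mkₐ R (m ^ (n + 1))).comp v := by
      refine Algebra.FormallyUnramified.ext I hI fun z => ?_
      refine Ideal.Quotient.eq.mpr ?_
      show Ideal.Quotient.mk _ (u z) - Ideal.Quotient.mk _ (v z) ∈ I
      rw [← map_sub]
      exact Ideal.mem_map_of_mem _ (h z)
    exact Ideal.Quotient.eq.mp (AlgHom.congr_fun e y)
  rw [← Submodule.mem_bot L, ← Ideal.iInf_pow_eq_bot_of_isLocalRing _ (IsLocalRing.maximalIdeal.isMaximal L).ne_top,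
    Ideal.mem_iInf]
  exact h0


/-- Let R be a henselian Noetherian local ring and A a commutative and cocommutative Hopf algebra over R
which is finitely generated and projective as an R-module (a finite flat commutative R-group G =
Spec A). Let e ∈ A be an idempotent with ε(e) = 1 such that the ideal (1 − e) is a Hopf ideal and A⁰
= A/(1 − e) is a local ring, projective over R, with cocommutative quotient structure (G⁰ = Spec A⁰
is the connected component of the unit section). Let B = Hom_R(A⁰, R) be the dual Hopf algebra (the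
Cartier dual (G⁰)^D) and e' ∈ B an idempotent with ε(e') = 1 and B/(1 − e') local (the unit
component of (G⁰)^D). Say that x ∈ B is invariant when (id ⊗ (multiplication by e'))(Δ x) = x ⊗ e',
i.e. x is invariant under translation by the unit component of (G⁰)^D, so that the invariant
elements form the Hopf algebra of the maximal étale quotient of (G⁰)^D; the ideal in A⁰ of the
closed subgroup G_μ ⊆ G⁰ ⊆ G consists of the elements annihilated by every invariant x (G_μ is the
Cartier dual of the étale quotient of (G⁰)^D, a connected multiplicative subgroup of G). Then G_μ is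
the largest connected multiplicative closed subgroup of G: for every Hopf ideal J of A such that A/J
is a local ring, projective over R, cocommutative, and has étale dual Hopf algebra Hom_R(A/J, R) (H
= Spec A/J a connected closed subgroup with étale Cartier dual), every a ∈ A whose image in A⁰ is
annihilated by all invariant x lies in J, i.e. H ⊆ G_μ. -/
theorem result (R : Type u) [CommRing R]
    [HenselianLocalRing R] [IsNoetherianRing R] (A : Type u) [CommRing A] [HopfAlgebra R A] [Coalgebra.IsCocomm R A]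
    [Module.Finite R A] [Module.Projective R A] (e : A) (he : IsIdempotentElem e)
    (hε : Bialgebra.counitAlgHom R A e = 1) [(Ideal.span ({1 - e} : Set A)).IsHopfIdeal R] [IsLocalRing (A ⧸ Ideal.span ({1 - e} : Set A))]
    [Module.Projective R (A ⧸ Ideal.span ({1 - e} : Set A))] [Coalgebra.IsCocomm R (A ⧸ Ideal.span ({1 - e} : Set A))]
    (e' : CartDual.D R (A ⧸ Ideal.span ({1 - e} : Set A))) (he' : IsIdempotentElem e')
    (hε' : Bialgebra.counitAlgHom R (CartDual.D R (A ⧸ Ideal.span ({1 - e} : Set A))) e' = 1)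
    [IsLocalRing (CartDual.D R (A ⧸ Ideal.span ({1 - e} : Set A)) ⧸ Ideal.span ({1 - e'} : Set (CartDual.D R (A ⧸ Ideal.span ({1 - e} : Set A)))))]
    (J : Ideal A) [J.IsHopfIdeal R] [IsLocalRing (A ⧸ J)] [Module.Projective R (A ⧸ J)]
    [Coalgebra.IsCocomm R (A ⧸ J)] [Algebra.Etale R (CartDual.D R (A ⧸ J))]
    (a : A) (ha : ∀ x : CartDual.D R (A ⧸ Ideal.span ({1 - e} : Set A)), LinearMap.lTensor (CartDual.D R (A ⧸ Ideal.span ({1 - e} : Set A))) (LinearMap.mulLeft R e') (Coalgebra.comul (R := R) x) = x ⊗ₜ[R] e' → x (Ideal.Quotient.mk (Ideal.span ({1 - e} : Set A)) a) = 0) :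
    a ∈ J := by
  open Groth.Agent.GrpSchLib in
  haveI : Nontrivial R := IsLocalRing.toNontrivial
  haveI : Module.Finite R (A ⧸ (Ideal.span ({1 - e} : Set A))) := Module.Finite.of_surjective (Ideal.Quotient.mkₐ R (Ideal.span ({1 - e} : Set A))).toLinearMap Ideal.Quotient.mk_surjective
  haveI : Module.Finite R (A ⧸ J) := Module.Finite.of_surjective (Ideal.Quotient.mkₐ R J).toLinearMap Ideal.Quotient.mk_surjective
  let q : A →ₐc[R] A ⧸ J := Bialgebra.Quotient.mkBialgHom (R := R) J
  have hq : q e = 1 := QuotDescend.eq_one_of_isIdempotentElem (Bialgebra.counitAlgHom R (A ⧸ J)) (he.map q) (by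
    show Coalgebra.counit (R := R) (q e) = 1
    rw [CoalgHomClass.counit_comp_apply]
    exact hε)
  obtain ⟨q₀, hq₀⟩ := QuotDescend.exists_desc (Ideal.span ({1 - e} : Set A)) q (fun b hb => by
    obtain ⟨c, rfl⟩ := Ideal.mem_span_singleton'.1 hb
    rw [map_mul, map_sub, map_one, hq, sub_self, mul_zero])
  let T := CartDual.transpose R q₀
  let εK : (CartDual.D R (A ⧸ (Ideal.span ({1 - e} : Set A)))) ⧸ (Ideal.span ({1 - e'} : Set (CartDual.D R (A ⧸ (Ideal.span ({1 - e} : Set A)))))) →ₐ[R] R := Ideal.Quotient.liftₐ (Ideal.span ({1 - e'} : Set (CartDual.D R (A ⧸ (Ideal.span ({1 - e} : Set A)))))) (Bialgebra.counitAlgHom R (CartDual.D R (A ⧸ (Ideal.span ({1 - e} : Set A))))) (by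
    show (Ideal.span ({1 - e'} : Set (CartDual.D R (A ⧸ (Ideal.span ({1 - e} : Set A)))))) ≤ RingHom.ker (Bialgebra.counitAlgHom R (CartDual.D R (A ⧸ (Ideal.span ({1 - e} : Set A)))))
    rw [Ideal.span_le, Set.singleton_subset_iff]
    show Bialgebra.counitAlgHom R _ (1 - e') = 0
    rw [map_sub, map_one, sub_eq_zero]
    exact hε'.symm)
  haveI : Module.Finite R ((CartDual.D R (A ⧸ (Ideal.span ({1 - e} : Set A)))) ⧸ (Ideal.span ({1 - e'} : Set (CartDual.D R (A ⧸ (Ideal.span ({1 - e} : Set A))))))) := Module.Finite.of_surjective (Ideal.Quotient.mkₐ R (Ideal.span ({1 - e'} : Set (CartDual.D R (A ⧸ (Ideal.span ({1 - e} : Set A))))))).toLinearMap Ideal.Quotient.mk_surjective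
  haveI : IsNoetherianRing ((CartDual.D R (A ⧸ (Ideal.span ({1 - e} : Set A)))) ⧸ (Ideal.span ({1 - e'} : Set (CartDual.D R (A ⧸ (Ideal.span ({1 - e} : Set A))))))) := IsNoetherianRing.of_finite R _
  have huv := eq_of_unramified (R := R) (D := CartDual.D R (A ⧸ J)) (L := (CartDual.D R (A ⧸ (Ideal.span ({1 - e} : Set A)))) ⧸ (Ideal.span ({1 - e'} : Set (CartDual.D R (A ⧸ (Ideal.span ({1 - e} : Set A))))))) ((Ideal.Quotient.mkₐ R (Ideal.span ({1 - e'} : Set (CartDual.D R (A ⧸ (Ideal.span ({1 - e} : Set A))))))).comp (T : CartDual.D R (A ⧸ J) →ₐ[R] (CartDual.D R (A ⧸ (Ideal.span ({1 - e} : Set A))))))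
    ((Algebra.ofId R ((CartDual.D R (A ⧸ (Ideal.span ({1 - e} : Set A)))) ⧸ (Ideal.span ({1 - e'} : Set (CartDual.D R (A ⧸ (Ideal.span ({1 - e} : Set A)))))))).comp (Bialgebra.counitAlgHom R (CartDual.D R (A ⧸ J)))) (fun y => by
      refine (IsLocalRing.mem_maximalIdeal _).mpr fun hu => (hu.map εK).ne_zero ?_
      rw [map_sub, AlgHom.comp_apply (Algebra.ofId R _), Algebra.ofId_apply, AlgHom.commutes]
      show Coalgebra.counit (R := R) (T y) - algebraMap R R (Coalgebra.counit (R := R) y) = 0
      rw [CoalgHomClass.counit_comp_apply, Algebra.algebraMap_self, RingHom.id_apply, sub_self])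
  have hmul : ∀ y, e' * T y = Coalgebra.counit (R := R) y • e' := by
    intro y
    have h1 : Ideal.Quotient.mk (Ideal.span ({1 - e'} : Set (CartDual.D R (A ⧸ (Ideal.span ({1 - e} : Set A)))))) (T y) = Ideal.Quotient.mk (Ideal.span ({1 - e'} : Set (CartDual.D R (A ⧸ (Ideal.span ({1 - e} : Set A)))))) (algebraMap R (CartDual.D R (A ⧸ (Ideal.span ({1 - e} : Set A)))) (Coalgebra.counit (R := R) y)) :=
      (AlgHom.congr_fun huv y).trans rfl
    obtain ⟨c, hc⟩ := Ideal.mem_span_singleton'.1 (Ideal.Quotient.eq.mp h1)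
    rw [Algebra.smul_def, mul_comm (algebraMap R (CartDual.D R (A ⧸ (Ideal.span ({1 - e} : Set A)))) _) e', ← sub_eq_zero, ← mul_sub, ← hc, mul_comm c, ← mul_assoc,
      he'.mul_one_sub_self, zero_mul]
  have h : ∀ y : CartDual.D R (A ⧸ J), y (q a) = 0 := fun y => by
    have := ha (T y) (DualInvariant.invariant_of_mul_eq T hmul y)
    rw [← hq₀]
    exact this
  refine Ideal.Quotient.eq_zero_iff_mem.mp ((Module.forall_dual_apply_eq_zero_iff R _).mp fun φ => ?_)
  exact h (WithConv.toConv φ)

end Groth.Agent.S15896
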