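import Groth.Statements.S15899
import Groth.Agent.KoszSh16.Sheaf
-- import your own Groth.Agent.* helpers here

set_option autoImplicit false
set_option backward.isDefEq.respectTransparency false
set_option backward.isDefEq.respectTransparency.types false
universe u
open CategoryTheory AlgebraicGeometry Opposite
open KoszSh

namespace Groth.Agent.S15899
open Groth.Agent

/-- Let X be a scheme, E a finite locally free O_X-module of rank n and s : E → O_X a regular section,
meaning that around every point of X there is an affine open U and a basis e_1, …, e_n of E(U) over
Γ(X, U) such that s(e_1), …, s(e_n) is a weakly regular sequence in Γ(X, U) (each a non-zero-divisor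
modulo the previous ones). Then for every Koszul complex K(E, s) of the cosection s (terms the
exterior powers of E, differential contracting with s) and every q ≥ 1, the q-th homology sheaf of
K(E, s) vanishes. Since the homology sheaf in degree 0 is O_X / s(E) for every such complex, this
says that K(E, s) resolves the structure sheaf of the zero scheme of s by finite locally free
modules. (The published definition asks that the image ideal of s be locally generated by a regular
sequence and by rank-many sections; the local bases mapping to regular sequences used here are how
the published argument reads that condition.) -/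
theorem result {X : Scheme.{u}} (n : ℕ) (E : X.Modules)
    (hE : FlatMod.IsFinLocFreeOfRank n E) (s : E ⟶ Coh.structureModule X)
    (hs : ∀ x : X, ∃ U : X.affineOpens, x ∈ U.1 ∧
      ∃ b : Module.Basis (Fin n) Γ(X, U.1) Γ(E, U.1),
        RingTheory.Sequence.IsWeaklyRegular Γ(X, U.1) (List.ofFn fun k => KoszSh.secForm s U.1 (b k)))
    (C : KoszSh.Cx E s) (q : ℕ) (hq : 1 ≤ q) :
    Limits.IsZero (C.K.homology q) := by
  obtain ⟨q, rfl⟩ : ∃ p, q = p + 1 := ⟨q - 1, by omega⟩
  refine (HomologicalComplex.exactAt_iff_isZero_homology _ _).1 (KoszSh16.exactAt (n := n)
    (QCoh.isQCoh_of_isFinLocFree fun x => let ⟨U, hx, he⟩ := hE x; ⟨U, n, hx, he⟩) (fun x => ?_) C q)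
  obtain ⟨U, hxU, b, hb⟩ := hs x
  exact ⟨U.1, hxU, U.2, b, hb⟩

end Groth.Agent.S15899
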