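import Groth.Statements.S1590
import Groth.Agent.CurveGor.SubNodal

set_option autoImplicit false
universe u
open CategoryTheory CategoryTheory.Limits AlgebraicGeometry
open Curves

namespace Groth.Agent.S1590

set_option backward.isDefEq.respectTransparency false
set_option backward.isDefEq.respectTransparency.types false


/-- Let X be locally of finite type over k, with all irreducible components of dimension one and
at-worst-nodal singularities. A reduced closed subscheme Y of X all of whose irreducible components
have dimension one again has at-worst-nodal singularities. -/
theorem result (k : Type u) [Field k] (X : Scheme.{u}) [X.Over (Spec (CommRingCat.of k))] [LocallyOfFiniteType (X ↘ (Spec (CommRingCat.of k)))]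
    (hequi : ∀ Z ∈ irreducibleComponents (X : Type u), topologicalKrullDim Z = 1) (hX : Curv2.AtWorstNodal k X)
    (I : X.IdealSheafData) [IsReduced I.subscheme]
    (hY : ∀ Z ∈ irreducibleComponents (I.subscheme : Type u), topologicalKrullDim Z = 1) :
    @Curv2.AtWorstNodal k _ I.subscheme ⟨I.subschemeι ≫ (X ↘ (Spec (CommRingCat.of k)))⟩ := by
  exact (Groth.Agent.CurveGor.SubNodal.nodalCurve_of_reduced (X ↘ Spec (CommRingCat.of k)) I.subschemeι
    ⟨hequi, hX⟩ hY).2


end Groth.Agent.S1590
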