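import Groth.Statements.S15902
import Groth.Agent.KoszSh16.Sheaf
import Groth.Agent.CMInter.Scheme
import Groth.Agent.CMInter.Away
import Groth.Agent.RelQR16.Scheme
import Groth.Agent.ASB24.TautMod
import Groth.Agent.CohPullX.FpExchange
-- import your own Groth.Agent.* helpers here

set_option autoImplicit false
set_option backward.isDefEq.respectTransparency false
set_option backward.isDefEq.respectTransparency.types false
universe u
open CategoryTheory AlgebraicGeometry Opposite
open KoszSh

namespace Groth.Agent.S15902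
open Groth.Agent

/-- Let X be a locally Noetherian scheme all of whose local rings are Cohen–Macaulay, i : Y → X a closed
immersion and c a natural number such that Y is a local complete intersection of codimension c in
the following sense: around every point of Y there is an affine open of X on which c sections
generate the ideal sheaf of Y, and for every point y of Y the ideal of Y in the local ring O_{X,y}
(the kernel of O_{X,y} → O_{Y,y}) has height at least c. Then around every point of Y there is an
affine open U of X and sections f_1, …, f_c ∈ Γ(X, U) which generate the ideal of Y on U and form a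
weakly regular sequence in Γ(X, U); consequently, on the open subscheme U, for every cosection s :
O_U^c → O_U sending the k-th standard basis section to f_k and every Koszul complex K(O_U^c, s) of
s, the homology sheaves of K(O_U^c, s) vanish in every degree q ≥ 1, so that K(O_U^c, s) is a finite
free resolution of the restriction of i_*O_Y to U. (The published statement takes Y a local complete
intersection in a smooth variety X over a field, the ideal being generated near each closed point by
codim(Y, X) elements, and asserts the existence of such a neighbourhood with a free Koszul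
resolution; the hypotheses here are what that gives at every point of Y over a Cohen–Macaulay base,
the existence of the Koszul complex is not asserted, and the resolution property is stated for every
Koszul complex of the local free pair.) -/
theorem result {X Y : Scheme.{u}}
    [IsLocallyNoetherian X] (hCM : ∀ x : X, LocCoh.IsCohenMacaulayLocalRing (X.presheaf.stalk x))
    (i : Y ⟶ X) [IsClosedImmersion i] (c : ℕ)
    (hgen : ∀ y : Y, ∃ U : X.affineOpens, i.base y ∈ U.1 ∧ ∃ g : Fin c → Γ(X, U.1), i.ker.ideal U = Ideal.span (Set.range g))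
    (hht : ∀ y : Y, (c : ℕ∞) ≤ (RingHom.ker (i.stalkMap y).hom).height) :
    ∀ y : Y, ∃ U : X.affineOpens, i.base y ∈ U.1 ∧ ∃ f : Fin c → Γ(X, U.1),
      i.ker.ideal U = Ideal.span (Set.range f) ∧ RingTheory.Sequence.IsWeaklyRegular Γ(X, U.1) (List.ofFn f) ∧
      ∀ (s : FlatMod.freeMod (↑U.1) c ⟶ Coh.structureModule (↑U.1)),
        (∀ k : Fin c, KoszSh.secForm s ⊤ ((Limits.Sigma.ι (fun _ : Fin c => Coh.structureModule (↑U.1)) k).app ⊤
            (OmegaSh.strSect (↑U.1) ⊤ 1)) = U.1.topIso.inv (f k)) →
        ∀ (C : KoszSh.Cx (FlatMod.freeMod (↑U.1) c) s) (q : ℕ), 1 ≤ q → Limits.IsZero (C.K.homology q) := by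
  intro y
  obtain ⟨⟨U, hU⟩, hyU, g, hg⟩ := hgen y
  have : IsNoetherianRing Γ(X, U) := IsLocallyNoetherian.component_noetherian ⟨U, hU⟩
  have hI : RingHom.ker (i.app U).hom = Ideal.span (Set.range g) := by
    rw [← hg, Scheme.Hom.ker_apply]
  let p := hU.primeIdealOf ⟨i.base y, hyU⟩
  have hIp : RingHom.ker (i.app U).hom ≤ p.asIdeal :=
    (CMInter.mem_range_iff i hU p).1 ⟨y, (hU.fromSpec_primeIdealOf ⟨i.base y, hyU⟩).symm⟩
  have hstalk : ∀ (P : PrimeSpectrum Γ(X, U)),
      Nonempty (X.presheaf.stalk (hU.fromSpec P) ≃+* Localization.AtPrime P.asIdeal) := fun P => by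
    have hmem : hU.fromSpec P ∈ U := hU.range_fromSpec.le ⟨P, rfl⟩
    let _ := TopCat.Presheaf.algebra_section_stalk X.presheaf (⟨hU.fromSpec P, hmem⟩ : U)
    have : IsLocalization.AtPrime (X.presheaf.stalk (hU.fromSpec P)) P.asIdeal := hU.isLocalization_stalk' P hmem
    exact ⟨(IsLocalization.algEquiv P.asIdeal.primeCompl (X.presheaf.stalk (hU.fromSpec P))
      (Localization.AtPrime P.asIdeal)).toRingEquiv⟩
  let A := Localization.AtPrime p.asIdeal
  obtain ⟨ep⟩ := hstalk p
  have := hCM (hU.fromSpec p)
  have : LocCoh.IsCohenMacaulayLocalRing A := CMClosed.of_ringEquiv ep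
  let gA : Fin c → A := fun k => algebraMap Γ(X, U) A (g k)
  have hgA : Ideal.span (Set.range gA) = (RingHom.ker (i.app U).hom).map (algebraMap Γ(X, U) A) := by
    rw [hI, Ideal.map_span, ← Set.range_comp]
    rfl
  have hmapmax : (RingHom.ker (i.app U).hom).map (algebraMap Γ(X, U) A) ≤ IsLocalRing.maximalIdeal A :=
    (Ideal.map_mono hIp).trans Localization.AtPrime.map_eq_maximalIdeal.le
  have hreg : RingTheory.Sequence.IsWeaklyRegular A (List.ofFn gA) := by
    refine CMInter.isWeaklyRegular_of_le_height _ (fun r hr => ?_) fun q hq hlq => ?_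
    · obtain ⟨k, rfl⟩ := List.mem_ofFn.1 hr
      exact hmapmax (hgA.le (Ideal.subset_span ⟨k, rfl⟩))
    · rw [List.length_ofFn]
      let Q : PrimeSpectrum Γ(X, U) := ⟨q.comap (algebraMap Γ(X, U) A), inferInstance⟩
      have hQ : RingHom.ker (i.app U).hom ≤ Q.asIdeal := by
        rw [hI, Ideal.span_le]
        rintro _ ⟨k, rfl⟩
        exact hlq (Ideal.subset_span (List.mem_ofFn.2 ⟨k, rfl⟩))
      obtain ⟨z, hz⟩ := (CMInter.mem_range_iff i hU Q).2 hQ
      obtain ⟨eQ⟩ := hstalk Q
      have h1 : ((c : ℕ∞) : WithBot ℕ∞) ≤ ringKrullDim (X.presheaf.stalk (i.base z)) :=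
        (WithBot.coe_le_coe.2 (hht z)).trans
          (Ideal.height_le_ringKrullDim_of_ne_top (RingHom.ker_ne_top (i.stalkMap z).hom))
      rw [show i.base z = hU.fromSpec Q from hz, ringKrullDim_eq_of_ringEquiv eQ,
        IsLocalization.AtPrime.ringKrullDim_eq_height Q.asIdeal (Localization.AtPrime Q.asIdeal),
        IsLocalization.height_under p.asIdeal.primeCompl q] at h1
      exact_mod_cast h1
  obtain ⟨a, ha, rs, hlen, hrs, hrsI⟩ :=
    CMInter.exists_away_isRegular_of_atPrime _ p.asIdeal hIp gA hreg hgA
  let U' := X.basicOpen a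
  let _ : Algebra Γ(X, U) Γ(X, U') := (X.presheaf.map (homOfLE (X.basicOpen_le a)).op).hom.toAlgebra
  have : IsLocalization.Away a Γ(X, U') := hU.isLocalization_basicOpen a
  let e := (IsLocalization.algEquiv (Submonoid.powers a) (Localization.Away a) Γ(X, U'))
  subst hlen
  have hyU' : i.base y ∈ U' := (QCoh.mem_basicOpen_iff_notMem hU hyU a).2 ha
  let f : Fin rs.length → Γ(X, U') := fun k => e (rs.get k)
  have hflist : List.ofFn f = rs.map e.toRingEquiv.toRingHom := by
    rw [show f = ⇑e ∘ rs.get from rfl, ← List.map_ofFn, List.ofFn_get]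
    rfl
  have hfreg : RingTheory.Sequence.IsWeaklyRegular Γ(X, U') (List.ofFn f) := by
    rw [hflist]
    refine (e.toRingEquiv.toAddEquiv.isWeaklyRegular_congr
      (List.forall₂_map_right_iff.mpr (List.forall₂_same.mpr fun r _ z => ?_))).1 hrs.toIsWeaklyRegular
    exact map_mul e.toRingEquiv r z
  have : IsClosedImmersion (i ∣_ U) := IsZariskiLocalAtTarget.restrict ‹IsClosedImmersion i› U
  have hfI : i.ker.ideal ⟨U', hU.basicOpen a⟩ = Ideal.span (Set.range f) := by
    rw [Scheme.Hom.ker_apply, RelQR16.ker_basicOpen i hU a,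
      show Ideal.span (Set.range f) = Ideal.ofList (List.ofFn f) from
        congrArg Ideal.span (Set.ext fun v => List.mem_ofFn.symm), hflist, ← Ideal.map_ofList, hrsI,
      Ideal.map_map]
    congr 1
    exact RingHom.ext fun r => (e.commutes r).symm
  refine ⟨⟨U', hU.basicOpen a⟩, hyU', f, hfI, hfreg, fun s hs C q hq => ?_⟩
  obtain ⟨q, rfl⟩ : ∃ p, q = p + 1 := ⟨q - 1, by omega⟩
  have : IsAffine (U' : Scheme.{u}) := hU.basicOpen a
  let L : Γ(FlatMod.freeMod (U' : Scheme.{u}) rs.length, ⊤) ≃ₗ[Γ((U' : Scheme.{u}), ⊤)]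
      (Fin rs.length → Γ((U' : Scheme.{u}), ⊤)) :=
    { toFun := ASB24.Taut.co ⊤
      map_add' := ASB24.Taut.co_add ⊤
      map_smul' := fun r t => ASB24.Taut.co_smul ⊤ r t
      invFun := ASB24.Taut.mk ⊤
      left_inv := fun t => ASB24.Taut.co_injective ⊤ (ASB24.Taut.co_mk ⊤ _)
      right_inv := ASB24.Taut.co_mk ⊤ }
  refine (HomologicalComplex.exactAt_iff_isZero_homology _ _).1 (KoszSh16.exactAt (n := rs.length)
    (QCoh.isQCoh_of_isFinLocFree (CohPullX.isFinLocFree_freeMod _))
    (fun x => ⟨⊤, trivial, isAffineOpen_top _, Module.Basis.ofEquivFun L, ?_⟩) C q)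
  have hb : ∀ k, KoszSh.secForm s ⊤ (Module.Basis.ofEquivFun L k) = U'.topIso.inv (f k) := fun k => by
    rw [← hs k]
    congr 1
    rw [Module.Basis.coe_ofEquivFun]
    show ASB24.Taut.mk ⊤ (Pi.single k 1) = _
    unfold ASB24.Taut.mk
    rw [Finset.sum_eq_single k (fun j _ hj => by rw [Pi.single_eq_of_ne hj, zero_smul])
      (fun h => absurd (Finset.mem_univ k) h), Pi.single_eq_same, one_smul]
    rfl
  simp only [hb]
  rw [show (List.ofFn fun k => U'.topIso.inv (f k)) = (List.ofFn f).map U'.topIso.inv.hom by
    rw [List.map_ofFn]; rfl]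
  refine (AddEquiv.isWeaklyRegular_congr (e := U'.topIso.commRingCatIsoToRingEquiv.symm.toAddEquiv)
    (as := List.ofFn f) (bs := (List.ofFn f).map U'.topIso.inv.hom) ?_).1 hfreg
  exact List.forall₂_map_right_iff.mpr (List.forall₂_same.mpr fun r _ z => map_mul U'.topIso.inv.hom r z)

end Groth.Agent.S15902
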