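import Groth.Statements.S15906
import Groth.Agent.SevDP.Basic

set_option autoImplicit false
set_option linter.style.haveILetI false
open Surf

namespace Groth.Agent.S15906

open W4c3severiratdp in
theorem isConic_perm {δ : ℕ} {v w : DP δ} (σ : Equiv.Perm (Fin δ)) (h0 : v 0 = w 0)
    (h : ∀ i : Fin δ, v (σ i).succ = w i.succ) (hw : IsConic w) : IsConic v := by
  have h1 : ∑ i : Fin δ, v i.succ * v i.succ = ∑ i : Fin δ, w i.succ * w i.succ := by
    rw [← Equiv.sum_comp σ]; simp only [h]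
  have h2 : ∑ i : Fin δ, v i.succ = ∑ i : Fin δ, w i.succ := by
    rw [← Equiv.sum_comp σ]; simp only [h]
  refine ⟨?_, ?_⟩
  · rw [SevDP.form_self_eq, h0, h1]; exact hw.1
  · rw [SevDP.form_canon, h0, h2, ← SevDP.form_canon]; exact hw.2

open W4c3severiratdp in
theorem sorted_conics : ∀ l ∈ SevDP.cls 8 0 (-2),
    (∀ i : Fin 7, SevDP.ofL 8 l i.succ.succ ≤ SevDP.ofL 8 l i.castSucc.succ) →
      SevDP.ofL 8 l ∈ ([![1, 1, 0, 0, 0, 0, 0, 0, 0],
        ![2, 1, 1, 1, 1, 0, 0, 0, 0],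
        ![3, 2, 1, 1, 1, 1, 1, 0, 0],
        ![4, 2, 2, 2, 1, 1, 1, 1, 0],
        ![4, 3, 1, 1, 1, 1, 1, 1, 1],
        ![5, 2, 2, 2, 2, 2, 2, 1, 0],
        ![5, 3, 2, 2, 2, 1, 1, 1, 1],
        ![6, 3, 3, 2, 2, 2, 2, 1, 1],
        ![7, 3, 3, 3, 3, 2, 2, 2, 1],
        ![7, 4, 3, 2, 2, 2, 2, 2, 2],
        ![8, 4, 3, 3, 3, 3, 2, 2, 2],
        ![8, 3, 3, 3, 3, 3, 3, 3, 1],
        ![9, 4, 4, 3, 3, 3, 3, 3, 2],
        ![10, 4, 4, 4, 4, 3, 3, 3, 3],
        ![11, 4, 4, 4, 4, 4, 4, 4, 3]] : List (DP 8)) := by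
  decide +kernel

open W4c3severiratdp in
/-- Work in the lattice of vectors (a; b_1, …, b_δ), standing for divisor classes a ℓ − Σ b_i e_i on the
blow-up of the projective plane at δ points written in a standard basis, with intersection form a a'
− Σ b_i b_i' and canonical class K = (−3; −1, …, −1); a conic class is a class Q with Q·Q = 0 and
K·Q = −2, an exceptional class (the class of a (−1)-curve) is a class E with E·E = −1 and K·E = −1,
and the Weyl group W_δ is the group of additive automorphisms of the lattice preserving the form and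
fixing K. For δ = 8, a class (a; b_1, …, b_8) is a conic class if and only if, up to a permutation
of b_1, …, b_8, it is one of the fifteen vectors (1; 1, 0, 0, 0, 0, 0, 0, 0), (2; 1, 1, 1, 1, 0, 0,
0, 0), (3; 2, 1, 1, 1, 1, 1, 0, 0), (4; 2, 2, 2, 1, 1, 1, 1, 0), (4; 3, 1, 1, 1, 1, 1, 1, 1), (5; 2,
2, 2, 2, 2, 2, 1, 0), (5; 3, 2, 2, 2, 1, 1, 1, 1), (6; 3, 3, 2, 2, 2, 2, 1, 1), (7; 3, 3, 3, 3, 2,
2, 2, 1), (7; 4, 3, 2, 2, 2, 2, 2, 2), (8; 4, 3, 3, 3, 3, 2, 2, 2), (8; 3, 3, 3, 3, 3, 3, 3, 1), (9;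
4, 4, 3, 3, 3, 3, 3, 2), (10; 4, 4, 4, 4, 3, 3, 3, 3), (11; 4, 4, 4, 4, 4, 4, 4, 3). (One line of
the published table is illegible in the available copy; the fifteen vectors here are the complete
solution set of the two defining equations a² = Σ b_i², 3a − Σ b_i = 2.) -/
theorem result (v : DP 8) :
    IsConic v ↔
      ∃ t ∈ ({![1, 1, 0, 0, 0, 0, 0, 0, 0],
        ![2, 1, 1, 1, 1, 0, 0, 0, 0],
        ![3, 2, 1, 1, 1, 1, 1, 0, 0],
        ![4, 2, 2, 2, 1, 1, 1, 1, 0],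
        ![4, 3, 1, 1, 1, 1, 1, 1, 1],
        ![5, 2, 2, 2, 2, 2, 2, 1, 0],
        ![5, 3, 2, 2, 2, 1, 1, 1, 1],
        ![6, 3, 3, 2, 2, 2, 2, 1, 1],
        ![7, 3, 3, 3, 3, 2, 2, 2, 1],
        ![7, 4, 3, 2, 2, 2, 2, 2, 2],
        ![8, 4, 3, 3, 3, 3, 2, 2, 2],
        ![8, 3, 3, 3, 3, 3, 3, 3, 1],
        ![9, 4, 4, 3, 3, 3, 3, 3, 2],
        ![10, 4, 4, 4, 4, 3, 3, 3, 3],
        ![11, 4, 4, 4, 4, 4, 4, 4, 3]} : Set (DP 8)),
        ∃ σ : Equiv.Perm (Fin 8), v 0 = t 0 ∧ ∀ i : Fin 8, v (σ i).succ = t i.succ := by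
  constructor
  · intro hv
    let σ := Tuple.sort (fun i : Fin 8 => -v i.succ)
    have hmono := Tuple.monotone_sort (fun i : Fin 8 => -v i.succ)
    let w : DP 8 := Fin.cases (v 0) (fun i => v (σ i).succ)
    have hw : IsConic w := isConic_perm (v := w) (w := v) σ.symm rfl (fun i => by simp [w]) hv
    have h := sorted_conics _ (SevDP.ofFn_mem_cls (Or.inl ⟨rfl, rfl⟩) le_rfl hw) (fun i => by
      rw [SevDP.ofL_ofFn]
      have := hmono (Fin.castSucc_le_succ i)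
      simp only [w, Fin.cases_succ]
      simpa [σ] using this)
    rw [SevDP.ofL_ofFn] at h
    refine ⟨w, ?_, σ, rfl, fun i => by simp [w]⟩
    simpa only [List.mem_cons, List.not_mem_nil, or_false, Set.mem_insert_iff, Set.mem_singleton_iff] using h
  · rintro ⟨t, ht, σ, h0, hσ⟩
    refine isConic_perm σ h0 hσ ?_
    simp only [Set.mem_insert_iff, Set.mem_singleton_iff] at ht
    rcases ht with rfl | rfl | rfl | rfl | rfl | rfl | rfl | rfl | rfl | rfl | rfl | rfl | rfl | rfl | rfl <;>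
      decide

end Groth.Agent.S15906
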