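import Groth.Statements.S15907
import Groth.Agent.SevDP.Basic

set_option autoImplicit false
set_option linter.style.haveILetI false
open Surf

namespace Groth.Agent.S15907

open W4c3severiratdp in
theorem pair_orbit {δ : ℕ} (h8 : δ ≤ 8) (Q : DP δ)
    (hR : ∀ α ∈ SevDP.simpleRoots δ, SevDP.IsRoot α ∧ 0 < SevDP.hgt α)
    (hdom : ∀ u ∈ SevDP.domList δ (SevDP.simpleRoots δ) 0 (-2), u = Q)
    (hsep : ∀ u ∈ SevDP.domList δ (SevDP.orth (SevDP.simpleRoots δ) Q) 0 (-2),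
      ∀ u' ∈ SevDP.domList δ (SevDP.orth (SevDP.simpleRoots δ) Q) 0 (-2),
        form Q u = form Q u' → ¬ (δ = 8 ∧ form Q u = 4) → u = u')
    (v₁ v₂ w₁ w₂ : DP δ) (hv₁ : IsConic v₁) (hv₂ : IsConic v₂) (hw₁ : IsConic w₁) (hw₂ : IsConic w₂)
    (heq : form v₁ v₂ = form w₁ w₂) (hexc : ¬ (δ = 8 ∧ form v₁ v₂ = 4)) :
    ∃ g : DP δ ≃ₗ[ℤ] DP δ, IsWeyl g ∧ g v₁ = w₁ ∧ g v₂ = w₂ := by
  have hsm : SevDP.Small 0 (-2) := Or.inl ⟨rfl, rfl⟩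
  have key : ∀ x y : DP δ, IsConic x → IsConic y → ∃ g : DP δ ≃ₗ[ℤ] DP δ, IsWeyl g ∧ g x = Q ∧
      g y ∈ SevDP.domList δ (SevDP.orth (SevDP.simpleRoots δ) Q) 0 (-2) := fun x y hx hy => by
    obtain ⟨g₀, hg₀, -, hx₀⟩ := SevDP.exists_mem_domList hR hsm h8 (v := x) hx
    obtain ⟨g, hg, hfix, hgy⟩ := SevDP.exists_mem_domList (SevDP.roots_orth hR Q) hsm h8
      (v := g₀ y) (SevDP.IsCls.map (c := 0) (d := -2) hy hg₀)
    refine ⟨g₀.trans g, SevDP.isWeyl_trans hg₀ hg, ?_, hgy⟩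
    rw [LinearEquiv.trans_apply, hdom _ hx₀]
    exact hfix Q fun α hα => SevDP.form_eq_zero_of_mem_orth hα
  obtain ⟨g, hg, hg1, hg2⟩ := key v₁ v₂ hv₁ hv₂
  obtain ⟨g', hg', hg1', hg2'⟩ := key w₁ w₂ hw₁ hw₂
  have h1 : form Q (g v₂) = form v₁ v₂ := by rw [← hg1, hg.1]
  have h2 : form Q (g' w₂) = form w₁ w₂ := by rw [← hg1', hg'.1]
  have := hsep _ hg2 _ hg2' (by rw [h1, h2, heq]) (by rw [h1]; exact hexc)
  refine ⟨g.trans g'.symm, SevDP.isWeyl_trans hg (SevDP.isWeyl_symm hg'), ?_, ?_⟩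
  · rw [LinearEquiv.trans_apply, hg1, LinearEquiv.symm_apply_eq, hg1']
  · rw [LinearEquiv.trans_apply, this, g'.symm_apply_apply]


open W4c3severiratdp in
theorem key2 : (∀ α ∈ SevDP.simpleRoots 2, SevDP.IsRoot α ∧ 0 < SevDP.hgt α) ∧
    (∀ u ∈ SevDP.domList 2 (SevDP.simpleRoots 2) 0 (-2), u = SevDP.ofL 2 [1, 1]) ∧
    (∀ u ∈ SevDP.domList 2 (SevDP.orth (SevDP.simpleRoots 2) (SevDP.ofL 2 [1, 1])) 0 (-2),
      ∀ u' ∈ SevDP.domList 2 (SevDP.orth (SevDP.simpleRoots 2) (SevDP.ofL 2 [1, 1])) 0 (-2),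
        form (SevDP.ofL 2 [1, 1]) u = form (SevDP.ofL 2 [1, 1]) u' →
          ¬ ((2 : ℕ) = 8 ∧ form (SevDP.ofL 2 [1, 1]) u = 4) → u = u') :=
  ⟨by decide +kernel, by decide +kernel, by decide +kernel⟩

open W4c3severiratdp in
theorem key3 : (∀ α ∈ SevDP.simpleRoots 3, SevDP.IsRoot α ∧ 0 < SevDP.hgt α) ∧
    (∀ u ∈ SevDP.domList 3 (SevDP.simpleRoots 3) 0 (-2), u = SevDP.ofL 3 [1, 1]) ∧
    (∀ u ∈ SevDP.domList 3 (SevDP.orth (SevDP.simpleRoots 3) (SevDP.ofL 3 [1, 1])) 0 (-2),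
      ∀ u' ∈ SevDP.domList 3 (SevDP.orth (SevDP.simpleRoots 3) (SevDP.ofL 3 [1, 1])) 0 (-2),
        form (SevDP.ofL 3 [1, 1]) u = form (SevDP.ofL 3 [1, 1]) u' →
          ¬ ((3 : ℕ) = 8 ∧ form (SevDP.ofL 3 [1, 1]) u = 4) → u = u') :=
  ⟨by decide +kernel, by decide +kernel, by decide +kernel⟩

open W4c3severiratdp in
theorem key4 : (∀ α ∈ SevDP.simpleRoots 4, SevDP.IsRoot α ∧ 0 < SevDP.hgt α) ∧
    (∀ u ∈ SevDP.domList 4 (SevDP.simpleRoots 4) 0 (-2), u = SevDP.ofL 4 [1, 1]) ∧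
    (∀ u ∈ SevDP.domList 4 (SevDP.orth (SevDP.simpleRoots 4) (SevDP.ofL 4 [1, 1])) 0 (-2),
      ∀ u' ∈ SevDP.domList 4 (SevDP.orth (SevDP.simpleRoots 4) (SevDP.ofL 4 [1, 1])) 0 (-2),
        form (SevDP.ofL 4 [1, 1]) u = form (SevDP.ofL 4 [1, 1]) u' →
          ¬ ((4 : ℕ) = 8 ∧ form (SevDP.ofL 4 [1, 1]) u = 4) → u = u') :=
  ⟨by decide +kernel, by decide +kernel, by decide +kernel⟩

open W4c3severiratdp in
theorem key5 : (∀ α ∈ SevDP.simpleRoots 5, SevDP.IsRoot α ∧ 0 < SevDP.hgt α) ∧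
    (∀ u ∈ SevDP.domList 5 (SevDP.simpleRoots 5) 0 (-2), u = SevDP.ofL 5 [1, 1]) ∧
    (∀ u ∈ SevDP.domList 5 (SevDP.orth (SevDP.simpleRoots 5) (SevDP.ofL 5 [1, 1])) 0 (-2),
      ∀ u' ∈ SevDP.domList 5 (SevDP.orth (SevDP.simpleRoots 5) (SevDP.ofL 5 [1, 1])) 0 (-2),
        form (SevDP.ofL 5 [1, 1]) u = form (SevDP.ofL 5 [1, 1]) u' →
          ¬ ((5 : ℕ) = 8 ∧ form (SevDP.ofL 5 [1, 1]) u = 4) → u = u') :=
  ⟨by decide +kernel, by decide +kernel, by decide +kernel⟩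

open W4c3severiratdp in
theorem key6 : (∀ α ∈ SevDP.simpleRoots 6, SevDP.IsRoot α ∧ 0 < SevDP.hgt α) ∧
    (∀ u ∈ SevDP.domList 6 (SevDP.simpleRoots 6) 0 (-2), u = SevDP.ofL 6 [1, 1]) ∧
    (∀ u ∈ SevDP.domList 6 (SevDP.orth (SevDP.simpleRoots 6) (SevDP.ofL 6 [1, 1])) 0 (-2),
      ∀ u' ∈ SevDP.domList 6 (SevDP.orth (SevDP.simpleRoots 6) (SevDP.ofL 6 [1, 1])) 0 (-2),
        form (SevDP.ofL 6 [1, 1]) u = form (SevDP.ofL 6 [1, 1]) u' →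
          ¬ ((6 : ℕ) = 8 ∧ form (SevDP.ofL 6 [1, 1]) u = 4) → u = u') :=
  ⟨by decide +kernel, by decide +kernel, by decide +kernel⟩

set_option maxHeartbeats 2000000 in
open W4c3severiratdp in
theorem key7 : (∀ α ∈ SevDP.simpleRoots 7, SevDP.IsRoot α ∧ 0 < SevDP.hgt α) ∧
    (∀ u ∈ SevDP.domList 7 (SevDP.simpleRoots 7) 0 (-2), u = SevDP.ofL 7 [1, 1]) ∧
    (∀ u ∈ SevDP.domList 7 (SevDP.orth (SevDP.simpleRoots 7) (SevDP.ofL 7 [1, 1])) 0 (-2),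
      ∀ u' ∈ SevDP.domList 7 (SevDP.orth (SevDP.simpleRoots 7) (SevDP.ofL 7 [1, 1])) 0 (-2),
        form (SevDP.ofL 7 [1, 1]) u = form (SevDP.ofL 7 [1, 1]) u' →
          ¬ ((7 : ℕ) = 8 ∧ form (SevDP.ofL 7 [1, 1]) u = 4) → u = u') :=
  ⟨by decide +kernel, by decide +kernel, by decide +kernel⟩

set_option maxHeartbeats 2000000 in
open W4c3severiratdp in
theorem key8 : (∀ α ∈ SevDP.simpleRoots 8, SevDP.IsRoot α ∧ 0 < SevDP.hgt α) ∧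
    (∀ u ∈ SevDP.domList 8 (SevDP.simpleRoots 8) 0 (-2), u = SevDP.ofL 8 [1, 1]) ∧
    (∀ u ∈ SevDP.domList 8 (SevDP.orth (SevDP.simpleRoots 8) (SevDP.ofL 8 [1, 1])) 0 (-2),
      ∀ u' ∈ SevDP.domList 8 (SevDP.orth (SevDP.simpleRoots 8) (SevDP.ofL 8 [1, 1])) 0 (-2),
        form (SevDP.ofL 8 [1, 1]) u = form (SevDP.ofL 8 [1, 1]) u' →
          ¬ ((8 : ℕ) = 8 ∧ form (SevDP.ofL 8 [1, 1]) u = 4) → u = u') :=
  ⟨by decide +kernel, by decide +kernel, by decide +kernel⟩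

open W4c3severiratdp in
/-- Work in the lattice of vectors (a; b_1, …, b_δ), standing for divisor classes a ℓ − Σ b_i e_i on the
blow-up of the projective plane at δ points written in a standard basis, with intersection form a a'
− Σ b_i b_i' and canonical class K = (−3; −1, …, −1); a conic class is a class Q with Q·Q = 0 and
K·Q = −2, an exceptional class (the class of a (−1)-curve) is a class E with E·E = −1 and K·E = −1,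
and the Weyl group W_δ is the group of additive automorphisms of the lattice preserving the form and
fixing K. For 2 ≤ δ ≤ 8 the intersection product Q_1·Q_2 determines the W_δ-orbit of an ordered pair
(Q_1, Q_2) of conic classes, the only exception being δ = 8 with Q_1·Q_2 = 4: if (Q_1, Q_2) and
(Q_1', Q_2') are ordered pairs of conic classes with Q_1·Q_2 = Q_1'·Q_2', and not both δ = 8 and
Q_1·Q_2 = 4, then some element of W_δ carries Q_1 to Q_1' and Q_2 to Q_2'. -/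
theorem result (δ : ℕ) (h2 : 2 ≤ δ) (h8 : δ ≤ 8)
    (v₁ v₂ w₁ w₂ : DP δ) (hv₁ : IsConic v₁) (hv₂ : IsConic v₂) (hw₁ : IsConic w₁) (hw₂ : IsConic w₂)
    (heq : form v₁ v₂ = form w₁ w₂) (hexc : ¬ (δ = 8 ∧ form v₁ v₂ = 4)) :
    ∃ g : DP δ ≃ₗ[ℤ] DP δ, IsWeyl g ∧ g v₁ = w₁ ∧ g v₂ = w₂ := by
  obtain rfl | rfl | rfl | rfl | rfl | rfl | rfl : δ = 2 ∨ δ = 3 ∨ δ = 4 ∨ δ = 5 ∨ δ = 6 ∨ δ = 7 ∨ δ = 8 := by
    omega
  · exact pair_orbit h8 _ key2.1 key2.2.1 key2.2.2 v₁ v₂ w₁ w₂ hv₁ hv₂ hw₁ hw₂ heq hexc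
  · exact pair_orbit h8 _ key3.1 key3.2.1 key3.2.2 v₁ v₂ w₁ w₂ hv₁ hv₂ hw₁ hw₂ heq hexc
  · exact pair_orbit h8 _ key4.1 key4.2.1 key4.2.2 v₁ v₂ w₁ w₂ hv₁ hv₂ hw₁ hw₂ heq hexc
  · exact pair_orbit h8 _ key5.1 key5.2.1 key5.2.2 v₁ v₂ w₁ w₂ hv₁ hv₂ hw₁ hw₂ heq hexc
  · exact pair_orbit h8 _ key6.1 key6.2.1 key6.2.2 v₁ v₂ w₁ w₂ hv₁ hv₂ hw₁ hw₂ heq hexc
  · exact pair_orbit h8 _ key7.1 key7.2.1 key7.2.2 v₁ v₂ w₁ w₂ hv₁ hv₂ hw₁ hw₂ heq hexc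
  · exact pair_orbit h8 _ key8.1 key8.2.1 key8.2.2 v₁ v₂ w₁ w₂ hv₁ hv₂ hw₁ hw₂ heq hexc

end Groth.Agent.S15907
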