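import Groth.Statements.S15908
import Groth.Agent.SevDP.Basic

set_option autoImplicit false
set_option linter.style.haveILetI false
open Surf

namespace Groth.Agent.S15908

open W4c3severiratdp in
theorem roots_ok : ∀ α ∈ SevDP.simpleRoots 8, SevDP.IsRoot α ∧ 0 < SevDP.hgt α := by decide +kernel

open W4c3severiratdp in
theorem dom_conic : ∀ u ∈ SevDP.domList 8 (SevDP.simpleRoots 8) 0 (-2), u = SevDP.ofL 8 [1, 1] := by
  decide +kernel

open W4c3severiratdp in
theorem dom_stab : ∀ u ∈ SevDP.domList 8 (SevDP.orth (SevDP.simpleRoots 8) (SevDP.ofL 8 [1, 1])) 0 (-2),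
    form (SevDP.ofL 8 [1, 1]) u = 4 →
      u = SevDP.ofL 8 [4, 0, 2, 2, 2, 1, 1, 1, 1] ∨ u = SevDP.ofL 8 [5, 1, 2, 2, 2, 2, 2, 2, 0] := by
  decide +kernel


open W4c3severiratdp in
/-- Work in the lattice of vectors (a; b_1, …, b_δ), standing for divisor classes a ℓ − Σ b_i e_i on the
blow-up of the projective plane at δ points written in a standard basis, with intersection form a a'
− Σ b_i b_i' and canonical class K = (−3; −1, …, −1); a conic class is a class Q with Q·Q = 0 and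
K·Q = −2, an exceptional class (the class of a (−1)-curve) is a class E with E·E = −1 and K·E = −1,
and the Weyl group W_δ is the group of additive automorphisms of the lattice preserving the form and
fixing K. For δ = 8 the ordered pairs (Q_1, Q_2) of conic classes with Q_1·Q_2 = 4 form exactly two
W_8-orbits: there are two such pairs that no element of W_8 carries one to the other, and every such
pair is carried by an element of W_8 to one of these two. -/
theorem result :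
    ∃ p₁ p₂ q₁ q₂ : DP 8, IsConic p₁ ∧ IsConic p₂ ∧ IsConic q₁ ∧ IsConic q₂ ∧ form p₁ p₂ = 4 ∧ form q₁ q₂ = 4 ∧
      (¬ ∃ g : DP 8 ≃ₗ[ℤ] DP 8, IsWeyl g ∧ g p₁ = q₁ ∧ g p₂ = q₂) ∧
      ∀ v₁ v₂ : DP 8, IsConic v₁ → IsConic v₂ → form v₁ v₂ = 4 →
        ∃ g : DP 8 ≃ₗ[ℤ] DP 8, IsWeyl g ∧ ((g v₁ = p₁ ∧ g v₂ = p₂) ∨ (g v₁ = q₁ ∧ g v₂ = q₂)) := by
  have hsm : SevDP.Small 0 (-2) := Or.inl ⟨rfl, rfl⟩
  set Q : DP 8 := SevDP.ofL 8 [1, 1]
  refine ⟨Q, SevDP.ofL 8 [4, 0, 2, 2, 2, 1, 1, 1, 1], Q, SevDP.ofL 8 [5, 1, 2, 2, 2, 2, 2, 2, 0],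
    by decide +kernel, by decide +kernel, by decide +kernel, by decide +kernel, by decide +kernel,
    by decide +kernel, ?_, fun v₁ v₂ h₁ h₂ h4 => ?_⟩
  · rintro ⟨g, -, hg1, hg2⟩
    have hx : SevDP.ofL 8 [5, 1, 2, 2, 2, 2, 2, 2, 0] - Q =
        (2 : ℤ) • SevDP.ofL 8 [2, 0, 1, 1, 1, 1, 1, 1, 0] := by decide +kernel
    have h := congrArg g.symm hx
    rw [map_sub, map_smul, ← hg2, g.symm_apply_apply,
      show g.symm Q = Q from (LinearEquiv.symm_apply_eq g).mpr hg1.symm] at h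
    have h0 := congrFun h 0
    simp [Q, SevDP.ofL] at h0
    omega
  · obtain ⟨g₀, hg₀, -, hx₀⟩ := SevDP.exists_mem_domList roots_ok hsm le_rfl (v := v₁) h₁
    obtain ⟨g, hg, hfix, hgy⟩ := SevDP.exists_mem_domList (SevDP.roots_orth roots_ok Q) hsm le_rfl
      (v := g₀ v₂) (SevDP.IsCls.map (c := 0) (d := -2) h₂ hg₀)
    have h1 : g (g₀ v₁) = Q := by
      rw [dom_conic _ hx₀]
      exact hfix Q fun α hα => SevDP.form_eq_zero_of_mem_orth hα
    refine ⟨g₀.trans g, SevDP.isWeyl_trans hg₀ hg, ?_⟩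
    rcases dom_stab _ hgy (by change form Q (g (g₀ v₂)) = 4; rw [← h1, hg.1, hg₀.1, h4]) with h | h
    · exact Or.inl ⟨h1, h⟩
    · exact Or.inr ⟨h1, h⟩

end Groth.Agent.S15908
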