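import Groth.Statements.S15909
import Groth.Agent.SevDP.Basic

set_option autoImplicit false
set_option linter.style.haveILetI false
open Surf

namespace Groth.Agent.S15909

open W4c3severiratdp in
theorem roots_ok : ∀ α ∈ SevDP.simpleRoots 8, SevDP.IsRoot α ∧ 0 < SevDP.hgt α := by decide +kernel

open W4c3severiratdp in
theorem dom_exc : ∀ u ∈ SevDP.domList 8 (SevDP.simpleRoots 8) (-1) (-1),
    u = SevDP.ofL 8 [0, 0, 0, 0, 0, 0, 0, 0, -1] := by decide +kernel

open W4c3severiratdp in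
theorem dom_stab : ∀ u ∈ SevDP.domList 8 (SevDP.orth (SevDP.simpleRoots 8)
      (SevDP.ofL 8 [0, 0, 0, 0, 0, 0, 0, 0, -1])) (-1) (-1),
    ∀ u' ∈ SevDP.domList 8 (SevDP.orth (SevDP.simpleRoots 8)
      (SevDP.ofL 8 [0, 0, 0, 0, 0, 0, 0, 0, -1])) (-1) (-1),
      form u (SevDP.ofL 8 [0, 0, 0, 0, 0, 0, 0, 0, -1]) = form u' (SevDP.ofL 8 [0, 0, 0, 0, 0, 0, 0, 0, -1]) →
        u = u' := by decide +kernel

open W4c3severiratdp in
/-- Work in the lattice of vectors (a; b_1, …, b_δ), standing for divisor classes a ℓ − Σ b_i e_i on the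
blow-up of the projective plane at δ points written in a standard basis, with intersection form a a'
− Σ b_i b_i' and canonical class K = (−3; −1, …, −1); a conic class is a class Q with Q·Q = 0 and
K·Q = −2, an exceptional class (the class of a (−1)-curve) is a class E with E·E = −1 and K·E = −1,
and the Weyl group W_δ is the group of additive automorphisms of the lattice preserving the form and
fixing K. Let δ = 8 (a del Pezzo surface of degree one) and let L be an exceptional class. If L_1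
and L_2 are exceptional classes with L_1·L = L_2·L, then L_1 and L_2 lie in the same orbit of the
stabilizer of L in W_8. -/
theorem result (L L₁ L₂ : DP 8) (hL : IsExc L) (hL₁ : IsExc L₁)
    (hL₂ : IsExc L₂) (h : form L₁ L = form L₂ L) :
    ∃ g : DP 8 ≃ₗ[ℤ] DP 8, IsWeyl g ∧ g L = L ∧ g L₁ = L₂ := by
  set L₀ : DP 8 := SevDP.ofL 8 [0, 0, 0, 0, 0, 0, 0, 0, -1]
  have hsm : SevDP.Small (-1) (-1) := Or.inr ⟨rfl, rfl⟩
  obtain ⟨g₀, hg₀, -, hg₀L⟩ := SevDP.exists_mem_domList roots_ok hsm le_rfl (v := L) hL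
  have e₀ : g₀ L = L₀ := dom_exc _ hg₀L
  have key : ∀ x : DP 8, IsExc x → ∃ g : DP 8 ≃ₗ[ℤ] DP 8, IsWeyl g ∧ g L = L₀ ∧
      g x ∈ SevDP.domList 8 (SevDP.orth (SevDP.simpleRoots 8) L₀) (-1) (-1) := fun x hx => by
    obtain ⟨g, hg, hfix, hgx⟩ := SevDP.exists_mem_domList (SevDP.roots_orth roots_ok L₀) hsm le_rfl
      (v := g₀ x) (SevDP.IsCls.map (c := -1) (d := -1) hx hg₀)
    refine ⟨g₀.trans g, SevDP.isWeyl_trans hg₀ hg, ?_, hgx⟩
    rw [LinearEquiv.trans_apply, e₀]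
    exact hfix L₀ fun α hα => SevDP.form_eq_zero_of_mem_orth hα
  obtain ⟨g₁, hg₁, hL₁', h₁⟩ := key L₁ hL₁
  obtain ⟨g₂, hg₂, hL₂', h₂⟩ := key L₂ hL₂
  refine ⟨g₁.trans g₂.symm, SevDP.isWeyl_trans hg₁ (SevDP.isWeyl_symm hg₂), ?_, ?_⟩
  · rw [LinearEquiv.trans_apply, hL₁', LinearEquiv.symm_apply_eq, hL₂']
  · have := dom_stab _ h₁ _ h₂ (by
      change form (g₁ L₁) L₀ = form (g₂ L₂) L₀
      conv_lhs => rw [← hL₁', hg₁.1, h, ← hg₂.1, hL₂'])
    rw [LinearEquiv.trans_apply, this, g₂.symm_apply_apply]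

end Groth.Agent.S15909
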