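import Groth.Statements.S1591
import Groth.Agent.NodeFam.NodeLocus

set_option autoImplicit false
universe u
open CategoryTheory CategoryTheory.Limits AlgebraicGeometry
open Curves

namespace Groth.Agent.S1591

/-- Let f : X → S be flat and locally of finite presentation. There is a largest open subscheme U of X
on which f is at-worst-nodal of relative dimension one, and its formation commutes with base change:
for every g : S' → S the preimage of U in X ×_S S' is the largest open on which the base change of f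
is at-worst-nodal of relative dimension one. -/
theorem result {X S : Scheme.{u}} (f : X ⟶ S) [Flat f] [LocallyOfFinitePresentation f] :
    ∃ U : X.Opens, (Curv2.IsNodalFamily (U.ι ≫ f) ∧ ∀ V : X.Opens, Curv2.IsNodalFamily (V.ι ≫ f) → V ≤ U) ∧
      ∀ (S' : Scheme.{u}) (g : S' ⟶ S),
        Curv2.IsNodalFamily ((pullback.fst f g ⁻¹ᵁ U).ι ≫ pullback.snd f g) ∧
        ∀ V : (pullback f g).Opens, Curv2.IsNodalFamily (V.ι ≫ pullback.snd f g) → V ≤ pullback.fst f g ⁻¹ᵁ U := by
  refine ⟨⟨{x | NodeFam.FamGood f x}, NodeFam.isOpen_famGood f⟩, ⟨?_, fun V hV x hx => ?_⟩, fun S' g => ⟨?_, fun V hV x hx => ?_⟩⟩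
  · exact (NodeFam.isNodalFamily_iff_forall _).2 fun u => (NodeFam.famGood_restrict_iff f _ u).2 u.2
  · exact (NodeFam.famGood_restrict_iff f V ⟨x, hx⟩).1 ((NodeFam.isNodalFamily_iff_forall (V.ι ≫ f)).1 hV _)
  · exact (NodeFam.isNodalFamily_iff_forall _).2 fun u =>
      (NodeFam.famGood_restrict_iff (pullback.snd f g) _ u).2 ((NodeFam.famGood_bc_iff f g _).2 u.2)
  · exact (NodeFam.famGood_bc_iff f g x).1 ((NodeFam.famGood_restrict_iff (pullback.snd f g) V ⟨x, hx⟩).1
      ((NodeFam.isNodalFamily_iff_forall (V.ι ≫ pullback.snd f g)).1 hV _))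

end Groth.Agent.S1591
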