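import Groth.Statements.S15910
import Groth.Agent.SevDP.Basic

set_option autoImplicit false
set_option linter.style.haveILetI false
open Surf

namespace Groth.Agent.S15910

open W4c3severiratdp in
theorem roots_ok : ∀ α ∈ SevDP.simpleRoots 8, SevDP.IsRoot α ∧ 0 < SevDP.hgt α := by decide +kernel

/-- The exceptional class `e_8`. -/
def L₀ : W4c3severiratdp.DP 8 := SevDP.ofL 8 [0, 0, 0, 0, 0, 0, 0, 0, -1]

/-- The four normalised triples. -/
def r₀ : Fin 4 → Fin 3 → W4c3severiratdp.DP 8 :=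
  ![![SevDP.ofL 8 [0, 0, 0, 0, 0, 0, 0, -1, 0], SevDP.ofL 8 [1, 1, 0, 0, 0, 0, 0, 1, 0],
      SevDP.ofL 8 [5, 1, 2, 2, 2, 2, 2, 2, 1]],
    ![SevDP.ofL 8 [0, 0, 0, 0, 0, 0, 0, 0, -1], SevDP.ofL 8 [0, 0, 0, 0, 0, 0, 0, -1, 0],
      SevDP.ofL 8 [6, 2, 2, 2, 2, 2, 2, 3, 2]],
    ![SevDP.ofL 8 [0, 0, 0, 0, 0, 0, 0, 0, -1], SevDP.ofL 8 [0, 0, 0, 0, 0, 0, 0, 0, -1],
      SevDP.ofL 8 [6, 2, 2, 2, 2, 2, 2, 2, 3]],
    ![SevDP.ofL 8 [0, 0, 0, 0, 0, 0, 0, 0, -1], SevDP.ofL 8 [1, 1, 0, 0, 0, 0, 0, 0, 1],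
      SevDP.ofL 8 [5, 1, 2, 2, 2, 2, 2, 2, 1]]]

open W4c3severiratdp in
theorem dom_exc : ∀ u ∈ SevDP.domList 8 (SevDP.simpleRoots 8) (-1) (-1), u = L₀ := by decide +kernel

open W4c3severiratdp in
theorem dom_triple : ∀ a ∈ SevDP.domList 8 (SevDP.orth (SevDP.simpleRoots 8) L₀) (-1) (-1),
    ∀ b ∈ SevDP.domList 8 (SevDP.orth (SevDP.orth (SevDP.simpleRoots 8) L₀) a) (-1) (-1),
      IsExc (L₀ - 2 • canon 8 - a - b) → form L₀ a ≤ form L₀ b →
        form L₀ b ≤ form L₀ (L₀ - 2 • canon 8 - a - b) →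
          ∃ j : Fin 4, a = r₀ j 0 ∧ b = r₀ j 1 ∧ L₀ - 2 • canon 8 - a - b = r₀ j 2 := by
  decide +kernel

open W4c3severiratdp in
theorem r₀_ok : ∀ j : Fin 4, (∀ i : Fin 3, IsExc (r₀ j i)) ∧ r₀ j 0 + r₀ j 1 + r₀ j 2 = L₀ - 2 • canon 8 := by
  decide +kernel

open W4c3severiratdp in
theorem r₀_sep : ∀ j j' : Fin 4, ∀ σ : Equiv.Perm (Fin 3),
    (∀ i : Fin 3, form L₀ (r₀ j (σ i)) = form L₀ (r₀ j' i)) → j = j' := by
  decide +kernel


open W4c3severiratdp in
/-- Work in the lattice of vectors (a; b_1, …, b_δ), standing for divisor classes a ℓ − Σ b_i e_i on the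
blow-up of the projective plane at δ points written in a standard basis, with intersection form a a'
− Σ b_i b_i' and canonical class K = (−3; −1, …, −1); a conic class is a class Q with Q·Q = 0 and
K·Q = −2, an exceptional class (the class of a (−1)-curve) is a class E with E·E = −1 and K·E = −1,
and the Weyl group W_δ is the group of additive automorphisms of the lattice preserving the form and
fixing K. Let δ = 8 and let L be an exceptional class. Let B be the set of unordered triples {λ_1,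
λ_2, λ_3} of exceptional classes (repetitions allowed) with λ_1 + λ_2 + λ_3 = −2K + L. Then the
stabilizer of L in W_8 has exactly four orbits on B. Triples are written as maps Fin 3 → lattice and
compared up to reordering: there are four members of B, no two of which are identified by an element
of the stabilizer followed by a reordering, and every member of B is so identified with one of the
four. -/
theorem result (L : DP 8) (hL : IsExc L) :
    ∃ r : Fin 4 → (Fin 3 → DP 8),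
      (∀ j, (∀ i, IsExc (r j i)) ∧ r j 0 + r j 1 + r j 2 = L - 2 • canon 8) ∧
      (∀ j j', (∃ g : DP 8 ≃ₗ[ℤ] DP 8, IsWeyl g ∧ g L = L ∧ ∃ σ : Equiv.Perm (Fin 3), ∀ i, g (r j (σ i)) = r j' i) → j = j') ∧
      ∀ t : Fin 3 → DP 8, (∀ i, IsExc (t i)) → t 0 + t 1 + t 2 = L - 2 • canon 8 →
        ∃ j, ∃ g : DP 8 ≃ₗ[ℤ] DP 8, IsWeyl g ∧ g L = L ∧ ∃ σ : Equiv.Perm (Fin 3), ∀ i, g (t (σ i)) = r j i := by
  have hsm : SevDP.Small (-1) (-1) := Or.inr ⟨rfl, rfl⟩
  obtain ⟨g₀, hg₀, -, hx₀⟩ := SevDP.exists_mem_domList roots_ok hsm le_rfl (v := L) hL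
  have e₀ : g₀ L = L₀ := dom_exc _ hx₀
  have e₀' : g₀.symm L₀ = L := by rw [← e₀, g₀.symm_apply_apply]
  have hg₀' := SevDP.isWeyl_symm hg₀
  refine ⟨fun j i => g₀.symm (r₀ j i), fun j => ⟨fun i => ?_, ?_⟩, ?_, fun t ht hsum => ?_⟩
  · exact SevDP.IsCls.map (c := -1) (d := -1) ((r₀_ok j).1 i) hg₀'
  · rw [← map_add, ← map_add, (r₀_ok j).2, map_sub, map_nsmul, e₀', hg₀'.2]
  · rintro j j' ⟨g, hg, hgL, σ, hσ⟩
    refine r₀_sep j j' σ fun i => ?_
    have h := hg.1 L (g₀.symm (r₀ j (σ i)))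
    rw [hgL, hσ i] at h
    rw [← e₀', hg₀'.1, hg₀'.1] at h
    exact h.symm
  · let σ := Tuple.sort (fun i => form L (t i))
    have hmono := Tuple.monotone_sort (fun i => form L (t i))
    have hsum' : t (σ 0) + t (σ 1) + t (σ 2) = L - 2 • canon 8 := by
      have h := Equiv.sum_comp σ t
      rw [Fin.sum_univ_three, Fin.sum_univ_three] at h
      rw [← hsum]
      exact h
    have ht₀ : ∀ i, SevDP.IsCls (-1) (-1) (g₀ (t i)) := fun i => SevDP.IsCls.map (ht i) hg₀
    obtain ⟨g₁, hg₁, hfix₁, ha⟩ := SevDP.exists_mem_domList (SevDP.roots_orth roots_ok L₀) hsm le_rfl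
      (ht₀ (σ 0))
    obtain ⟨g₂, hg₂, hfix₂, hb⟩ := SevDP.exists_mem_domList
      (SevDP.roots_orth (SevDP.roots_orth roots_ok L₀) (g₁ (g₀ (t (σ 0))))) hsm le_rfl
      ((ht₀ (σ 1)).map hg₁)
    let g := g₀.trans (g₁.trans g₂)
    have hg : IsWeyl g := SevDP.isWeyl_trans hg₀ (SevDP.isWeyl_trans hg₁ hg₂)
    have hgL : g L = L₀ := by
      show g₂ (g₁ (g₀ L)) = L₀
      rw [e₀, hfix₁ L₀ fun α hα => SevDP.form_eq_zero_of_mem_orth hα]
      exact hfix₂ L₀ fun α hα => SevDP.form_eq_zero_of_mem_orth (List.mem_of_mem_filter hα)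
    have hga : g (t (σ 0)) = g₁ (g₀ (t (σ 0))) :=
      hfix₂ _ fun α hα => SevDP.form_eq_zero_of_mem_orth hα
    have hc : g (t (σ 2)) = L₀ - 2 • canon 8 - g₁ (g₀ (t (σ 0))) - g (t (σ 1)) := by
      have h := congrArg g hsum'
      rw [map_add, map_add, map_sub, map_nsmul, hgL, hg.2, hga] at h
      rw [← h]; abel
    obtain ⟨j, h0, h1, h2⟩ := dom_triple _ ha _ hb
      (by
        have := SevDP.IsCls.map (c := -1) (d := -1) (ht (σ 2)) hg
        rw [hc] at this
        exact this)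
      (by
        have := hmono (Fin.zero_le (1 : Fin 3))
        simp only [Function.comp_apply] at this
        rw [← hga]
        show form L₀ (g (t (σ 0))) ≤ form L₀ (g (t (σ 1)))
        rwa [← hgL, hg.1, hg.1])
      (by
        have := hmono (show (1 : Fin 3) ≤ 2 by decide)
        simp only [Function.comp_apply] at this
        show form L₀ (g (t (σ 1))) ≤ form L₀ (L₀ - 2 • canon 8 - g₁ (g₀ (t (σ 0))) - g (t (σ 1)))
        rw [← hc]
        rwa [← hgL, hg.1, hg.1])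
    refine ⟨j, g.trans g₀.symm, SevDP.isWeyl_trans hg hg₀', ?_, σ, fun i => ?_⟩
    · rw [LinearEquiv.trans_apply, hgL, e₀']
    · rw [LinearEquiv.trans_apply]
      refine congrArg g₀.symm ?_
      fin_cases i
      · exact hga.trans h0
      · exact h1
      · exact hc.trans h2

end Groth.Agent.S15910
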