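import Groth.Statements.S15914
import Groth.Agent.Lib.SurfAdj

set_option autoImplicit false
set_option backward.isDefEq.respectTransparency false
set_option backward.isDefEq.respectTransparency.types false
set_option linter.style.haveILetI false
set_option linter.unusedSectionVars false
set_option maxHeartbeats 400000
universe u
open CategoryTheory CategoryTheory.Limits AlgebraicGeometry TopologicalSpace
open Surf

namespace Groth.Agent.S15914

open Groth.Agent.H23

/-- Let k be an algebraically closed field of characteristic zero and X a smooth surface over k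
(integral, proper and smooth over k of dimension 2) with canonical module W, a second exterior power
of Ω_{X/k}; intersection numbers of invertible modules are (L·M) = χ(O_X) − χ(L) − χ(M) + χ(L ⊗ M),
so that for a closed subscheme C with ideal I_C one has C·C = (I_C·I_C) and K·C = −(I_C·W). If C ⊆ X
is an integral closed one-dimensional subscheme with K·C = −1, that is (I_C·W) = 1, then C·C is odd
and C·C ≥ −1. -/
theorem result (k : Type u) [Field k] [IsAlgClosed k]
    [CharZero k] (X : Scheme.{u}) [X.Over (Spec (CommRingCat.of k))] [IsIntegral X] [IsProper (X ↘ (Spec (CommRingCat.of k)))] [Smooth (X ↘ (Spec (CommRingCat.of k)))]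
    (hdim : topologicalKrullDim X = 2)
    (W : X.Modules) (hW : ExtPow.IsExtPow 2 (Omega.sheaf (X ↘ (Spec (CommRingCat.of k)))) W)
    (C : X.IdealSheafData) (hC : IsIntegral C.subscheme) (hC1 : topologicalKrullDim (C.support : Set X) = 1)
    (hdeg : FGA.intNum k X 2 ![ClSub.idealMod C, W] (Coh.structureModule X) = 1) :
    Odd (FGA.intNum k X 2 ![ClSub.idealMod C, ClSub.idealMod C] (Coh.structureModule X)) ∧
      -1 ≤ FGA.intNum k X 2 ![ClSub.idealMod C, ClSub.idealMod C] (Coh.structureModule X) := by
  haveI := hC
  let i := C.subschemeι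
  letI : C.subscheme.Over (Spec (CommRingCat.of k)) := ⟨i ≫ (X ↘ (Spec (CommRingCat.of k)))⟩
  haveI : IsProper (C.subscheme ↘ Spec (CommRingCat.of k)) :=
    inferInstanceAs (IsProper (i ≫ (X ↘ Spec (CommRingCat.of k))))
  obtain ⟨hI, h⟩ := SurfAdj.adjunction k hdim hW hC1 (C := C)
  have hd : topologicalKrullDim C.subscheme ≤ 1 := by
    rw [IsHomeomorph.topologicalKrullDim_eq _
      ((i.isEmbedding.toHomeomorph).trans (Homeomorph.setCongr C.range_subschemeι)).isHomeomorph, hC1]
  have h2 := SurfAdj.euler_curve_eq k C.subscheme hd
  rw [SurfPairing.intNum_eq_pair k hdim.le hI (SurfAdj.isInvertible_W k hdim hW)] at hdeg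
  rw [SurfPairing.intNum_eq_pair k hdim.le hI hI]
  set p := (Module.finrank k (Coh.HH C.subscheme (Coh.structureModule C.subscheme) 1) : ℤ) with hp
  have hp0 : 0 ≤ p := Int.natCast_nonneg _
  refine ⟨⟨p - 1, by linarith⟩, by linarith⟩

end Groth.Agent.S15914
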