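import Groth.Statements.S15916
import Groth.Agent.Lib.SurfNef

set_option autoImplicit false
set_option backward.isDefEq.respectTransparency false
set_option backward.isDefEq.respectTransparency.types false
set_option linter.style.haveILetI false
set_option linter.unusedSectionVars false
set_option maxHeartbeats 400000
universe u
open CategoryTheory CategoryTheory.Limits AlgebraicGeometry TopologicalSpace
open Surf

namespace Groth.Agent.S15916

open Groth.Agent.H23 Groth.Agent.H23.TrivBasic
attribute [local instance] PicMul.clMonoid

/-- Let k be an algebraically closed field of characteristic zero and X a smooth projective surface over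
k (integral, proper and smooth over k of dimension 2, with a closed immersion over k into some
projective space); intersection numbers of invertible modules are (L·M) = χ(O_X) − χ(L) − χ(M) + χ(L
⊗ M), and for an integral closed one-dimensional subscheme C ⊆ X write (L·C) = χ(O_C ⊗ L) − χ(O_C);
an invertible module is nef when (L·C) ≥ 0 for all such C. Let D be an invertible module generated
by its global sections, nef, with (D·D) > 0, and let N be a nef invertible module with (D·N) = 0.
Then N is numerically trivial: (N·C) = 0 for every integral curve C ⊆ X. (The published statement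
concludes that N is zero in Pic X; on the product of an elliptic curve with the projective line, the
pull-back N of a non-trivial degree-zero class of the elliptic curve is nef, orthogonal to an ample
base-point-free D, and non-zero, while the printed proof establishes numerical triviality, which is
what this row states.) -/
theorem result (k : Type u) [Field k] [IsAlgClosed k]
    [CharZero k] (X : Scheme.{u}) [X.Over (Spec (CommRingCat.of k))] [IsIntegral X] [IsProper (X ↘ (Spec (CommRingCat.of k)))] [Smooth (X ↘ (Spec (CommRingCat.of k)))]
    (hdim : topologicalKrullDim X = 2)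
    (hproj : ∃ (n : ℕ) (ι : X ⟶ CohB1.ProjSpace n k), IsClosedImmersion ι ∧ ι ≫ CohB1.ProjSpace.toSpec n k = (X ↘ (Spec (CommRingCat.of k))))
    (D N : X.Modules) (hDi : PicF.IsInvertible D) (hNi : PicF.IsInvertible N)
    (hDgg : Curv2.IsGloballyGenerated D)
    (hDnef : ∀ C : X.IdealSheafData, IsIntegral C.subscheme → topologicalKrullDim (C.support : Set X) = 1 → 0 ≤ (Curv2.euler k X (CohB1.tensorMod (ClSub.quotMod C) D) - Curv2.euler k X (ClSub.quotMod C)))
    (hD2 : 0 < FGA.intNum k X 2 ![D, D] (Coh.structureModule X))
    (hNnef : ∀ C : X.IdealSheafData, IsIntegral C.subscheme → topologicalKrullDim (C.support : Set X) = 1 → 0 ≤ (Curv2.euler k X (CohB1.tensorMod (ClSub.quotMod C) N) - Curv2.euler k X (ClSub.quotMod C)))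
    (hDN : FGA.intNum k X 2 ![D, N] (Coh.structureModule X) = 0) :
    ∀ C : X.IdealSheafData, IsIntegral C.subscheme → topologicalKrullDim (C.support : Set X) = 1 → (Curv2.euler k X (CohB1.tensorMod (ClSub.quotMod C) N) - Curv2.euler k X (ClSub.quotMod C)) = 0 := by
  intro C hC hd
  rw [SurfPairing.intNum_eq_pair k hdim.le hDi hNi] at hDN
  rw [SurfPairing.intNum_eq_pair k hdim.le hDi hDi] at hD2
  obtain ⟨H, hH⟩ := SurfAdj.exists_ample k hdim
  have hnef := (SurfNef.nef_iff k hdim hNi).2 hNnef
  have hNN : SurfPairing.pair k (PicF.cl N) (PicF.cl N) = 0 :=
    le_antisymm (SurfHodge.hodge_index' (k := k) hdim hH hDi hNi hD2 hDN) (SurfNef.self_nonneg k hdim hNi hnef)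
  have hNH := SurfAdj.pair_ample_eq_zero k hdim hH hDi hNi hD2 hDN hNN
  rw [SurfNegDef.euler_quot_tensor (k := k) C (SurfNef.invertible_ideal k hdim hC hd) hNi,
    SurfNef.pair_curve_eq_zero k hdim hNi hnef hH hNH hC hd, neg_zero]

end Groth.Agent.S15916
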