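import Groth.Statements.S15918
import Groth.Agent.CurveTree.H1

set_option autoImplicit false
universe u
open CategoryTheory CategoryTheory.Limits AlgebraicGeometry TopologicalSpace
open Curves

namespace Groth.Agent.S15918
set_option backward.isDefEq.respectTransparency false
set_option backward.isDefEq.respectTransparency.types false
set_option maxHeartbeats 1000000


/-- Let k be an algebraically closed field of characteristic zero and C a rational tree over k: a
connected, reduced scheme, proper over k of dimension one, with at-worst-nodal singularities and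
H¹(C, O_C) = 0. Let F be a finite locally free O_C-module. Suppose C = C_1 ∪ C_2 with C_1, C_2
reduced closed subschemes whose supports are unions of irreducible components of C having no
irreducible component in common, and let P = C_1 ∩ C_2 be the finite set of nodes where they meet,
taken as a reduced closed subscheme of C_1 with ideal I_P. If H¹(C_1, F|_{C_1} ⊗ I_P) = 0 then h¹(C,
F) = h¹(C_2, F|_{C_2}). -/
theorem result (k : Type u) [Field k] [IsAlgClosed k] [CharZero k]
    (C : Scheme.{u}) [C.Over (Spec (CommRingCat.of k))] [IsProper (C ↘ (Spec (CommRingCat.of k)))] [IsReduced C] [ConnectedSpace C]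
    (hdim : topologicalKrullDim C = 1) (hnodal : Curv2.AtWorstNodal k C)
    (hg : Subsingleton (Coh.HH C (Coh.structureModule C) 1))
    (F : C.Modules) (hF : FlatMod.IsFinLocFree F)
    (C₁ C₂ : C.IdealSheafData) [IsReduced C₁.subscheme] [IsReduced C₂.subscheme]
    (hunion₁ : ∀ x ∈ (C₁.support : Set C), ∃ Z : C.IdealSheafData, IsIntegral Z.subscheme ∧
      topologicalKrullDim (Z.support : Set C) = 1 ∧ (Z.support : Set C) ⊆ C₁.support ∧ x ∈ (Z.support : Set C))
    (hunion₂ : ∀ x ∈ (C₂.support : Set C), ∃ Z : C.IdealSheafData, IsIntegral Z.subscheme ∧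
      topologicalKrullDim (Z.support : Set C) = 1 ∧ (Z.support : Set C) ⊆ C₂.support ∧ x ∈ (Z.support : Set C))
    (hcover : (C₁.support : Set C) ∪ C₂.support = Set.univ)
    (hnocommon : ∀ Z : C.IdealSheafData, IsIntegral Z.subscheme → topologicalKrullDim (Z.support : Set C) = 1 →
      ¬ ((Z.support : Set C) ⊆ C₁.support ∧ (Z.support : Set C) ⊆ C₂.support))
    (P : C₁.subscheme.IdealSheafData) [IsReduced P.subscheme]
    (hP : ∀ x : C₁.subscheme, x ∈ (P.support : Set C₁.subscheme) ↔ C₁.subschemeι x ∈ (C₂.support : Set C))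
    (hvan : Subsingleton (Coh.HH C₁.subscheme
        (CohB1.tensorMod ((Scheme.Modules.pullback C₁.subschemeι).obj F) (ClSub.idealMod P)) 1)) :
    letI : C₂.subscheme.Over (Spec (CommRingCat.of k)) := ⟨C₂.subschemeι ≫ (C ↘ (Spec (CommRingCat.of k)))⟩
    Module.finrank k (Coh.HH C F 1) =
      Module.finrank k (Coh.HH C₂.subscheme ((Scheme.Modules.pullback C₂.subschemeι).obj F) 1) := by
  haveI := Groth.Agent.CurveCohLib.isNoetherian_of_proper (k := k) (X := C)
  have hc : Groth.Agent.CurveGor.IsCompUnion (C₁.support : Set C) := fun x hx => by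
    obtain ⟨Z, hZi, hZd, hZs, hxZ⟩ := hunion₁ x hx
    obtain ⟨η, hη, he⟩ := Groth.Agent.CurveTree.exists_generic_of_component k hdim.le Z hZi hZd
    exact ⟨η, hη, hZs (he.ge (subset_closure (Set.mem_singleton η))), specializes_iff_mem_closure.2 (he.le hxZ)⟩
  have h2 : (C₂.support : Set C) = closure (C₁.support : Set C)ᶜ := by
    refine Set.Subset.antisymm (fun x hx => ?_) (closure_minimal (fun x hx => ?_) C₂.support.isClosed)
    · obtain ⟨Z, hZi, hZd, hZs, hxZ⟩ := hunion₂ x hx
      obtain ⟨η, hη, he⟩ := Groth.Agent.CurveTree.exists_generic_of_component k hdim.le Z hZi hZd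
      refine closure_mono (Set.singleton_subset_iff.2 (show η ∈ (C₁.support : Set C)ᶜ from fun hηY => hnocommon Z hZi hZd ⟨?_, hZs⟩)) (he.le hxZ)
      exact he.le.trans (closure_minimal (Set.singleton_subset_iff.2 hηY) C₁.support.isClosed)
    · exact ((Set.ext_iff.1 hcover x).2 trivial).resolve_left hx
  have e1 : C₁ = Groth.Agent.CurveGor.vI (C₁.support : Set C) C₁.support.isClosed := Groth.Agent.RedComap5.eq_vanishingIdeal C₁
  have e2 : C₂ = Groth.Agent.CurveGor.cI (C₁.support : Set C) :=
    (Groth.Agent.RedComap5.eq_vanishingIdeal C₂).trans (congrArg _ (TopologicalSpace.Closeds.ext h2))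
  have hsup : C₁ ⊔ C₂ = Groth.Agent.CurveGor.vI ((C₁.support : Set C) ∩ closure (C₁.support : Set C)ᶜ)
      (C₁.support.isClosed.inter isClosed_closure) :=
    (congrArg₂ (· ⊔ ·) e1 e2).trans (Groth.Agent.CurveTree.sup_eq_vI_meet (k := k) hdim.le hnodal C₁.support.isClosed hc)
  have hinf : C₁ ⊓ C₂ = ⊥ := (congrArg₂ (· ⊓ ·) e1 e2).trans (Groth.Agent.CurveGor.inf_eq_bot C₁.support.isClosed)
  have hPk : (P.subschemeι ≫ C₁.subschemeι).ker = C₁ ⊔ C₂ := by
    refine (Groth.Agent.CurveTree.ker_eq_vI (P.subschemeι ≫ C₁.subschemeι)).trans (Eq.trans ?_ hsup.symm)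
    refine congrArg (Scheme.IdealSheafData.vanishingIdeal (X := C)) (TopologicalSpace.Closeds.ext ?_)
    show Set.range (P.subschemeι ≫ C₁.subschemeι) = _
    rw [Scheme.Hom.comp_base, TopCat.coe_comp, Set.range_comp, P.range_subschemeι]
    ext x
    simp only [Set.mem_image, hP, h2, Set.mem_inter_iff]
    constructor
    · rintro ⟨z, hz, rfl⟩
      exact ⟨C₁.range_subschemeι.le (Set.mem_range_self z), hz⟩
    · rintro ⟨hx1, hx2⟩
      obtain ⟨z, rfl⟩ := C₁.range_subschemeι.ge hx1
      exact ⟨z, hx2, rfl⟩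
  exact Groth.Agent.CurveTree.finrank_h1 k hdim.le hF C₁ C₂ hinf P hPk hvan


end Groth.Agent.S15918
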