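import Groth.Statements.S15921
import Groth.Agent.CurveGor.Meet
import Groth.Agent.CurveGor.Num

set_option autoImplicit false
universe u
open CategoryTheory CategoryTheory.Limits AlgebraicGeometry
attribute [local instance] HasDerivedCategory.standard
open Curves

namespace Groth.Agent.S15921
set_option backward.isDefEq.respectTransparency false
set_option backward.isDefEq.respectTransparency.types false
set_option synthInstance.maxHeartbeats 200000
set_option maxHeartbeats 2000000
attribute [local instance] HasDerivedCategory.standard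
open Groth.Agent.CurveGor in


/-- Let k be an algebraically closed field and X a nodal curve over k (proper over k, of dimension one,
with H^0(X, O_X) = k and at-worst-nodal singularities), ω_X its dualizing module (the degree -1
cohomology sheaf of f^! O for f : X → Spec k, assuming Rf_* on D_QCoh and its right adjoint exist),
and Y ⊊ X a connected reduced closed subscheme of dimension one (a connected proper subcurve). Let
δ_Y be the number of points of Y lying in the closure of X ∖ Y. Then deg(ω_X|_Y) = -2χ(Y, O_Y) +
δ_Y, that is, 2g_Y - 2 + δ_Y where g_Y = 1 - χ(Y, O_Y). -/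
theorem result (k : Type u) [Field k] [IsAlgClosed k] (X : Scheme.{u}) [X.Over (Spec (CommRingCat.of k))] [IsProper (X ↘ (Spec (CommRingCat.of k)))] (hdim : topologicalKrullDim X = 1)
    (h0 : Module.finrank k (Coh.HH X (Coh.structureModule X) 0) = 1) (hX : Curv2.AtWorstNodal k X)
    [DCoh.HasRpush (X ↘ (Spec (CommRingCat.of k)))] (h : DCoh.RpushPreservesQCoh (X ↘ (Spec (CommRingCat.of k)))) [DCoh.HasShriek (X ↘ (Spec (CommRingCat.of k))) h]
    (OY : DCoh.DQCoh (Spec (CommRingCat.of k))) (hOY : Nonempty (OY.obj ≅ DCoh.inD (Spec (CommRingCat.of k)) (Coh.structureModule (Spec (CommRingCat.of k)))))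
    (J : X.IdealSheafData) [IsReduced J.subscheme] [ConnectedSpace J.subscheme]
    (hJ1 : topologicalKrullDim J.subscheme = 1) (hJne : J ≠ ⊥) :
    @Curv2.deg k _ J.subscheme ⟨J.subschemeι ≫ (X ↘ (Spec (CommRingCat.of k)))⟩ ((Scheme.Modules.pullback J.subschemeι).obj (DCoh.dualizingMod (X ↘ (Spec (CommRingCat.of k))) h OY 1)) 1 =
      -2 * @Curv2.euler k _ J.subscheme ⟨J.subschemeι ≫ (X ↘ (Spec (CommRingCat.of k)))⟩ (Coh.structureModule J.subscheme) +
        (Nat.card ((J.support : Set X) ∩ closure ((J.support : Set X)ᶜ) : Set X) : ℤ) := by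
  classical
  haveI := Groth.Agent.CurveCohLib.isNoetherian_of_proper (k := k) (X := X)
  haveI := Groth.Agent.CurveBC.connectedSpace_of_h0 k X h0
  haveI := isReduced_of_nodal (k := k) hdim hX
  obtain ⟨t, ht, -⟩ := Groth.Agent.CurveDual.exists_dual hdim.le h OY hOY
  have hi := isInvertible_dualizing_of_nodal hdim hX h OY hOY
  have hgen := notClosed_of_generic (k := k) hdim
  generalize DCoh.dualizingMod (X ↘ (Spec (CommRingCat.of k))) h OY 1 = ω at t ht hi ⊢
  obtain ⟨Y, hY, rfl, hc, -⟩ := exists_of_subcurve (k := k) hdim J hJ1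
  have e := degOn_dualizing hdim.le hgen ht hi hY hc
  rw [kY_eq_card hdim.le hX hY hc] at e
  rw [euler_subscheme, Scheme.IdealSheafData.coe_support_vanishingIdeal]
  exact e


end Groth.Agent.S15921
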