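import Groth.Statements.S15922
import Groth.Agent.CurveVA.Sky
-- import your own Groth.Agent.* helpers here

set_option autoImplicit false
universe u
open CategoryTheory CategoryTheory.Limits AlgebraicGeometry
open Curves

namespace Groth.Agent.S15922

/-- Let k be an algebraically closed field, X a curve over k (proper over k, reduced, connected, every
irreducible component of dimension one) and P a closed point of X, with m_P the ideal sheaf of the
reduced point P viewed as an O_X-module. Then m_P is a torsion-free sheaf of rank one and degree -1: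
regular elements of each local ring O_{X,x} act injectively on the stalk of m_P at x, the stalk at
every generic point of an irreducible component has dimension one over the local ring there, and
χ(X, m_P) - χ(X, O_X) = -1. -/
theorem result (k : Type u) [Field k] [IsAlgClosed k] (X : Scheme.{u}) [X.Over (Spec (CommRingCat.of k))] [IsProper (X ↘ (Spec (CommRingCat.of k)))] [IsReduced X] [ConnectedSpace X]
    (hequi : ∀ Z ∈ irreducibleComponents (X : Type u), topologicalKrullDim Z = 1)
    (P : X) (hP : IsClosed ({P} : Set X)) :
    TorSh.IsTorsionFree (ClSub.idealMod (Scheme.IdealSheafData.vanishingIdeal ⟨{P}, hP⟩)) ∧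
    (∀ η : X, closure ({η} : Set X) ∈ irreducibleComponents (X : Type u) →
      Module.finrank (X.presheaf.stalk η) ((ClSub.idealMod (Scheme.IdealSheafData.vanishingIdeal ⟨{P}, hP⟩)).presheaf.stalk η) = 1) ∧
    Curv2.deg k X (ClSub.idealMod (Scheme.IdealSheafData.vanishingIdeal ⟨{P}, hP⟩)) 1 = -1 := by
  haveI := Groth.Agent.CurveCohLib.isNoetherian_of_proper (k := k) (X := X)
  have hS := (haveI := Groth.Agent.CurvePoint.epi_toSubscheme (Groth.Agent.CurvePoint.ptIdeal P hP); Groth.Agent.CurveSlope.shortExact_kernel_of_epi (ClSub.toSubscheme (Groth.Agent.CurvePoint.ptIdeal P hP)))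
  haveI := hS.mono_f
  have hinj : ∀ x : X, Function.Injective
      ((DerSch.stalkFunctor X x).map (ClSub.idealModι (Groth.Agent.CurvePoint.ptIdeal P hP))).hom :=
    fun x => (ModuleCat.mono_iff_injective _).1 (hS.map_of_exact (DerSch.stalkFunctor X x)).mono_f
  have hb := fun x : X => (Groth.Agent.CurveTensor.exists_basis_stalk
    (Groth.Agent.InvEnd.isFinLocFreeOfRank_one (Groth.Agent.CurveDeg.isInvertible_structureModule (X := X))) x)
  refine ⟨fun x => ?_, fun η hη => ?_, ?_⟩
  · obtain ⟨b⟩ := hb x
    let f : (ClSub.idealMod (Groth.Agent.CurvePoint.ptIdeal P hP)).presheaf.stalk x →ₗ[X.presheaf.stalk x]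
        (Coh.structureModule X).presheaf.stalk x :=
      ((DerSch.stalkFunctor X x).map (ClSub.idealModι (Groth.Agent.CurvePoint.ptIdeal P hP))).hom
    exact Function.Injective.moduleIsTorsionFree (b.equivFun.toLinearMap.comp f)
      (b.equivFun.injective.comp (hinj x)) (fun a m => map_smul _ a m)
  · have hne : η ≠ P := fun h => by
      have h1 := hequi _ hη
      rw [h, hP.closure_eq] at h1
      have h2 : topologicalKrullDim ({P} : Set X) ≤ 0 := by
        haveI : Subsingleton ↥({P} : Set X) := Set.subsingleton_singleton.coe_sort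
        haveI : Subsingleton (TopologicalSpace.IrreducibleCloseds ↥({P} : Set X)) := ⟨fun A B =>
          TopologicalSpace.IrreducibleCloseds.ext ((Subsingleton.eq_univ_of_nonempty A.isIrreducible'.nonempty).trans
            (Subsingleton.eq_univ_of_nonempty B.isIrreducible'.nonempty).symm)⟩
        exact Order.krullDim_nonpos_of_subsingleton
      rw [h1] at h2
      exact absurd h2 (by norm_num)
    have hsurj : Function.Surjective
        ((DerSch.stalkFunctor X η).map (ClSub.idealModι (Groth.Agent.CurvePoint.ptIdeal P hP))).hom := fun y => by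
      haveI := Groth.Agent.CurvePoint.subsingleton_stalk_of_ne P hP hne
      obtain ⟨w, hw⟩ := (CategoryTheory.ShortComplex.moduleCat_exact_iff _).1
        (hS.map_of_exact (DerSch.stalkFunctor X η)).exact y
        (Subsingleton.elim (α := (ClSub.quotMod (Groth.Agent.CurvePoint.ptIdeal P hP)).presheaf.stalk η) _ _)
      exact ⟨w, hw⟩
    obtain ⟨b⟩ := hb η
    exact ((LinearEquiv.ofBijective _ ⟨hinj η, hsurj⟩).finrank_eq.trans b.equivFun.finrank_eq).trans (Module.finrank_fin_fun _)
  · have hQ := Groth.Agent.ParShLib.isCoh_quotMod (Groth.Agent.CurvePoint.ptIdeal P hP)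
    have h := Groth.Agent.CurveCohLib.euler_additive (k := k) hS
      (Groth.Agent.QCoh.isCoh_kernel Groth.Agent.QCoh.isCoh_structureModule' hQ _) Groth.Agent.QCoh.isCoh_structureModule' hQ
    rw [Groth.Agent.CurveVA.euler_quot_pt k hP] at h
    unfold Curv2.deg
    simp only [Nat.cast_one, one_mul]
    have h' : Curv2.euler k X (Coh.structureModule X) =
      Curv2.euler k X (ClSub.idealMod (Scheme.IdealSheafData.vanishingIdeal ⟨{P}, hP⟩)) + 1 := h
    omega

end Groth.Agent.S15922
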