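import Groth.Statements.S15923
import Groth.Agent.S8914
import Groth.Agent.SmoothReg.Scheme
import Groth.Agent.FlatPtDesc.Basic
import Groth.Agent.RegLoc6.Basic
import Mathlib

set_option autoImplicit false
universe u
open CategoryTheory CategoryTheory.Limits AlgebraicGeometry
open Curves

namespace Groth.Agent.S15923

set_option backward.isDefEq.respectTransparency false
set_option backward.isDefEq.respectTransparency.types false
set_option linter.style.haveILetI false

open IsLocalRing

/-- A regular generator of the maximal ideal of a noetherian local ring makes it regular. -/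
theorem isRegularLocalRing_of_span (O : Type u) [CommRing O] [IsLocalRing O] [IsNoetherianRing O] (t : O)
    (ht : t ∈ nonZeroDivisors O) (h : maximalIdeal O = Ideal.span {t}) : IsRegularLocalRing O := by
  refine IsRegularLocalRing.of_spanFinrank_maximalIdeal_le O ?_
  have h1 : (maximalIdeal O).spanFinrank ≤ 1 := by
    rw [h, Ideal.span]
    exact (Submodule.spanFinrank_span_le_ncard_of_finite (Set.finite_singleton t)).trans (Set.ncard_singleton t).le
  have htu : ¬ IsUnit t := fun hu => (maximalIdeal.isMaximal O).ne_top (Ideal.eq_top_of_isUnit_mem _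
    (h ▸ Ideal.mem_span_singleton_self t) hu)
  haveI : Nontrivial (O ⧸ Ideal.span {t}) := Ideal.Quotient.nontrivial_iff.2 fun e => htu
    (Ideal.span_singleton_eq_top.1 e)
  have h2 : ringKrullDim (O ⧸ Ideal.span {t}) + 1 ≤ ringKrullDim O :=
    ringKrullDim_quotient_succ_le_of_nonZeroDivisor ht
  refine le_trans ?_ h2
  refine le_trans ?_ (add_le_add_left ringKrullDim_nonneg_of_nontrivial _)
  rw [zero_add]
  exact_mod_cast h1

/-- A regular generator of the maximal ideal of a point spreads to a neighbourhood. -/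
theorem exists_away (A : Type u) [CommRing A] [IsNoetherianRing A] (p : Ideal A) [p.IsPrime] (O : Type u)
    [CommRing O] [IsLocalRing O] [Algebra A O] [IsLocalization.AtPrime O p] (t : O) (ht : t ∈ nonZeroDivisors O)
    (h : maximalIdeal O = Ideal.span {t}) :
    ∃ s : A, s ∉ p ∧ ∀ (As : Type u) [CommRing As] [Algebra A As] [IsLocalization.Away s As],
      ∃ f : As, f ∈ nonZeroDivisors As ∧ p.map (algebraMap A As) = Ideal.span {f} := by
  classical
  obtain ⟨⟨f, d⟩, hf⟩ := IsLocalization.surj p.primeCompl t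
  have hd := IsLocalization.map_units O d
  have hfspan : Ideal.span {algebraMap A O f} = maximalIdeal O := by
    rw [h, show algebraMap A O f = t * algebraMap A O d from hf.symm]
    exact Ideal.span_singleton_mul_right_unit hd t
  have hfreg : algebraMap A O f ∈ nonZeroDivisors O := by
    rw [show algebraMap A O f = t * algebraMap A O d from hf.symm]
    exact mul_mem ht hd.mem_nonZeroDivisors
  have hfp : f ∈ p := (IsLocalization.AtPrime.to_map_mem_maximal_iff O p f).1
    (hfspan ▸ Ideal.mem_span_singleton_self _)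
  obtain ⟨G, hG⟩ := (inferInstance : IsNoetherian A A).noetherian p
  have hgen : ∀ g : G, ∃ s : A, s ∉ p ∧ s * g.1 ∈ Ideal.span {f} := fun g => by
    have h1 : algebraMap A O g.1 ∈ Ideal.span {algebraMap A O f} := by
      rw [hfspan, IsLocalization.AtPrime.to_map_mem_maximal_iff O p]
      exact hG ▸ Submodule.subset_span g.2
    rw [← Set.image_singleton, ← Ideal.map_span,
      IsLocalization.algebraMap_mem_map_algebraMap_iff p.primeCompl] at h1
    obtain ⟨s, hs, h2⟩ := h1
    exact ⟨s, hs, h2⟩
  choose sg hsg hsg2 using hgen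
  obtain ⟨Z, hZ⟩ := (inferInstance : IsNoetherian A A).noetherian (LinearMap.ker (LinearMap.mulRight A f))
  have hker : ∀ z : Z, ∃ s : A, s ∉ p ∧ s * z.1 = 0 := fun z => by
    have h1 : z.1 * f = 0 := LinearMap.mem_ker.1 (hZ ▸ Submodule.subset_span z.2)
    have h2 : algebraMap A O z.1 = 0 := by
      refine (mem_nonZeroDivisors_iff_right.1 hfreg) _ ?_
      rw [← map_mul, h1, map_zero]
    obtain ⟨s, hs⟩ := (IsLocalization.map_eq_zero_iff p.primeCompl O z.1).1 h2
    exact ⟨s, s.2, hs⟩
  choose sz hsz hsz2 using hker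
  let s := (∏ g : G, sg g) * ∏ z : Z, sz z
  have hs : s ∉ p := fun hs => by
    rcases Ideal.IsPrime.mem_or_mem ‹p.IsPrime› hs with h1 | h1
    · obtain ⟨g, -, hg⟩ := (‹p.IsPrime›).prod_mem_iff.1 h1
      exact hsg g hg
    · obtain ⟨z, -, hz⟩ := (‹p.IsPrime›).prod_mem_iff.1 h1
      exact hsz z hz
  refine ⟨s, hs, fun As _ _ _ => ⟨algebraMap A As f, ?_, le_antisymm ?_ ?_⟩⟩
  · refine mem_nonZeroDivisors_iff_right.2 fun a ha => ?_
    obtain ⟨⟨b, m⟩, hb⟩ := IsLocalization.surj (Submonoid.powers s) a
    have h1 : algebraMap A As (b * f) = 0 := by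
      rw [map_mul, ← show a * algebraMap A As m = algebraMap A As b from hb, mul_right_comm, ha, zero_mul]
    obtain ⟨m', hm'⟩ := (IsLocalization.map_eq_zero_iff (Submonoid.powers s) As _).1 h1
    have h2 : (m' : A) * b ∈ LinearMap.ker (LinearMap.mulRight A f) := by
      rw [LinearMap.mem_ker, LinearMap.mulRight_apply, mul_assoc, hm']
    rw [← hZ] at h2
    have h3 : s * ((m' : A) * b) = 0 := by
      generalize (m' : A) * b = w at h2
      induction h2 using Submodule.span_induction with
      | mem z hz =>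
        obtain ⟨r, hr⟩ : sz ⟨z, hz⟩ ∣ s := (Finset.dvd_prod_of_mem _ (Finset.mem_univ _)).mul_left _
        rw [hr, mul_right_comm, hsz2 ⟨z, hz⟩, zero_mul]
      | zero => rw [mul_zero]
      | add x y _ _ hx hy => rw [mul_add, hx, hy, add_zero]
      | smul c x _ hx => rw [smul_eq_mul, mul_left_comm, hx, mul_zero]
    have h4 : algebraMap A As b = 0 := by
      refine (IsLocalization.map_eq_zero_iff (Submonoid.powers s) As b).2
        ⟨⟨s, Submonoid.mem_powers s⟩ * m', ?_⟩
      rw [Submonoid.coe_mul, mul_assoc]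
      exact h3
    rw [h4] at hb
    exact (IsLocalization.map_units As m).mul_left_eq_zero.1 hb
  · rw [← hG, Ideal.span, Ideal.map, Ideal.span_le]
    rintro _ ⟨x, hx, rfl⟩
    have hu : IsUnit (algebraMap A As s) := IsLocalization.map_units As (⟨s, Submonoid.mem_powers s⟩ : Submonoid.powers s)
    have h1 : s * x ∈ Ideal.span {f} := by
      induction hx using Submodule.span_induction with
      | mem g hg =>
        obtain ⟨r, hr⟩ : sg ⟨g, hg⟩ ∣ s := (Finset.dvd_prod_of_mem _ (Finset.mem_univ _)).mul_right _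
        rw [hr, mul_right_comm]
        exact Ideal.mul_mem_right _ _ (hsg2 ⟨g, hg⟩)
      | zero => rw [mul_zero]; exact zero_mem _
      | add x y _ _ hx hy => rw [mul_add]; exact add_mem hx hy
      | smul c x _ hx => rw [smul_eq_mul, mul_left_comm]; exact Ideal.mul_mem_left _ _ hx
    have h2 := Ideal.mem_map_of_mem (algebraMap A As) h1
    rw [Ideal.map_span, Set.image_singleton, map_mul] at h2
    exact (Ideal.unit_mul_mem_iff_mem _ hu).1 h2
  · rw [Ideal.span_singleton_le_iff_mem]
    exact Ideal.mem_map_of_mem _ hfp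

open AlgebraicGeometry in
/-- The local ring of a curve at a closed point is no field and has dimension at most one. -/
theorem dim_stalk (X : Scheme.{u}) (hequi : ∀ Z ∈ irreducibleComponents (X : Type u), topologicalKrullDim Z = 1)
    (P : X) (hP : IsClosed ({P} : Set X)) [IsDomain (X.presheaf.stalk P)] :
    ¬ IsField (X.presheaf.stalk P) ∧ ringKrullDim (X.presheaf.stalk P) ≤ 1 := by
  refine ⟨fun h => ?_, ?_⟩
  · letI := h.toField
    have h2 := irreducibleComponent_mem_irreducibleComponents P
    have hg := h2.1.isGenericPoint_genericPoint_closure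
    rw [(isClosed_of_mem_irreducibleComponents _ h2).closure_eq] at hg
    have h1 : h2.1.genericPoint ∈ Set.range (X.fromSpecStalk P) := by
      rw [Scheme.range_fromSpecStalk]
      exact hg.specializes mem_irreducibleComponent
    obtain ⟨z, hz⟩ := h1
    rw [show z = IsLocalRing.closedPoint _ from Subsingleton.elim (α := PrimeSpectrum _) _ _,
      Scheme.fromSpecStalk_closedPoint] at hz
    have hZ : irreducibleComponent P = {P} := by rw [← hg, ← hz, hP.closure_eq]
    have h3 := hequi _ h2
    rw [hZ] at h3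
    haveI : Subsingleton (TopologicalSpace.IrreducibleCloseds ({P} : Set X)) := ⟨fun A B => SetLike.coe_injective
      ((Subsingleton.eq_univ_of_nonempty A.isIrreducible.nonempty).trans
        (Subsingleton.eq_univ_of_nonempty B.isIrreducible.nonempty).symm)⟩
    have h4 : topologicalKrullDim ({P} : Set X) ≤ 0 := Order.krullDim_nonpos_of_subsingleton
    rw [h3] at h4
    exact absurd h4 (by norm_num)
  · let f := X.fromSpecStalk P
    have hir : IsIrreducible (Set.range f) := by
      rw [← Set.image_univ]
      exact (IrreducibleSpace.isIrreducible_univ (PrimeSpectrum (X.presheaf.stalk P))).image f f.continuous.continuousOn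
    obtain ⟨Z, hZ, hle⟩ := exists_mem_irreducibleComponents_subset_of_isIrreducible _ hir
    have hemb : Topology.IsInducing (Set.codRestrict f Z fun y => hle ⟨y, rfl⟩) :=
      f.isEmbedding.isInducing.codRestrict _
    rw [← PrimeSpectrum.topologicalKrullDim_eq_ringKrullDim]
    exact (hemb.topologicalKrullDim_le).trans (hequi Z hZ).le

open AlgebraicGeometry in
/-- The reduced ideal of a closed point on an affine open. -/
theorem ideal_point {X : Scheme.{u}} {P : X} (hP : IsClosed ({P} : Set X)) (U : X.affineOpens) :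
    (∀ h : P ∈ U.1, (Scheme.IdealSheafData.vanishingIdeal ⟨{P}, hP⟩).ideal U = (U.2.primeIdealOf ⟨P, h⟩).asIdeal) ∧
      (P ∉ U.1 → (Scheme.IdealSheafData.vanishingIdeal ⟨{P}, hP⟩).ideal U = ⊤) := by
  rw [Scheme.IdealSheafData.vanishingIdeal_ideal]
  refine ⟨fun h => ?_, fun h => ?_⟩
  · rw [← PrimeSpectrum.vanishingIdeal_singleton]
    congr 1
    ext q
    refine ⟨fun hq => U.2.fromSpec.isOpenEmbedding.injective ((Set.mem_singleton_iff.1 hq).trans
      (U.2.fromSpec_primeIdealOf ⟨P, h⟩).symm), fun hq => ?_⟩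
    rw [Set.mem_singleton_iff.1 hq]
    exact U.2.fromSpec_primeIdealOf ⟨P, h⟩
  · show PrimeSpectrum.vanishingIdeal (U.2.fromSpec ⁻¹' ({P} : Set X)) = ⊤
    rw [show U.2.fromSpec ⁻¹' (({P} : Set X)) = ∅ from Set.eq_empty_of_forall_notMem fun q hq => h (by
      rw [← (Set.mem_singleton_iff.1 hq : U.2.fromSpec q = P)]
      exact U.2.range_fromSpec.le ⟨q, rfl⟩)]
    exact PrimeSpectrum.vanishingIdeal_empty

/-- Let k be an algebraically closed field, X a curve over k (proper over k, reduced, connected, every
irreducible component of dimension one) and P a closed point of X, with m_P the ideal sheaf of the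
reduced point P as an O_X-module. Then m_P is invertible (locally on X isomorphic to the structure
sheaf) exactly when some open neighbourhood of P is smooth over k. -/
theorem result (k : Type u) [Field k] [IsAlgClosed k] (X : Scheme.{u}) [X.Over (Spec (CommRingCat.of k))] [IsProper (X ↘ (Spec (CommRingCat.of k)))] [IsReduced X] [ConnectedSpace X]
    (hequi : ∀ Z ∈ irreducibleComponents (X : Type u), topologicalKrullDim Z = 1)
    (P : X) (hP : IsClosed ({P} : Set X)) :
    PicF.IsInvertible (ClSub.idealMod (Scheme.IdealSheafData.vanishingIdeal ⟨{P}, hP⟩)) ↔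
      ∃ U : X.Opens, P ∈ U ∧ Smooth (U.ι ≫ (X ↘ (Spec (CommRingCat.of k)))) := by
  haveI : IsLocallyNoetherian X := LocallyOfFiniteType.isLocallyNoetherian (X ↘ Spec (CommRingCat.of k))
  rw [Groth.Agent.S8914.result, Groth.Agent.FlatPtDesc.exists_smooth_nhd_iff,
    Groth.Agent.SmoothReg.mem_smoothLocus_iff_isRegularLocalRing]
  constructor
  · intro h
    obtain ⟨U, hPU, f, hf, hI⟩ := h P
    rw [(ideal_point hP U).1 hPU] at hI
    letI : Algebra Γ(X, U.1) (X.presheaf.stalk P) := (X.presheaf.germ U.1 P hPU).hom.toAlgebra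
    haveI : IsLocalization.AtPrime (X.presheaf.stalk P) (U.2.primeIdealOf ⟨P, hPU⟩).asIdeal :=
      U.2.isLocalization_stalk ⟨P, hPU⟩
    haveI : Module.Flat Γ(X, U.1) (X.presheaf.stalk P) :=
      IsLocalization.flat (X.presheaf.stalk P) (U.2.primeIdealOf ⟨P, hPU⟩).asIdeal.primeCompl
    refine isRegularLocalRing_of_span _ (algebraMap _ _ f) ?_ ?_
    · refine mem_nonZeroDivisors_iff_right.2 fun a ha => ?_
      have hinj : IsSMulRegular (X.presheaf.stalk P) f := Module.Flat.isSMulRegular_of_nonZeroDivisors hf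
      exact hinj (show f • a = f • (0 : X.presheaf.stalk P) by
        rw [Algebra.smul_def, smul_zero, mul_comm]; exact ha)
    · rw [← IsLocalization.AtPrime.map_eq_maximalIdeal (U.2.primeIdealOf ⟨P, hPU⟩).asIdeal (X.presheaf.stalk P),
        hI, Ideal.map_span, Set.image_singleton]
  · intro hreg x
    by_cases hx : x = P
    · subst hx
      obtain ⟨_, ⟨U, hU, rfl⟩, hxU, -⟩ :=
        X.isBasis_affineOpens.exists_subset_of_mem_open (Set.mem_univ x) isOpen_univ
      haveI : IsNoetherianRing Γ(X, U) := IsLocallyNoetherian.component_noetherian ⟨U, hU⟩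
      letI : Algebra Γ(X, U) (X.presheaf.stalk x) := (X.presheaf.germ U x hxU).hom.toAlgebra
      haveI : IsLocalization.AtPrime (X.presheaf.stalk x) (hU.primeIdealOf ⟨x, hxU⟩).asIdeal :=
        hU.isLocalization_stalk ⟨x, hxU⟩
      obtain ⟨t, ht, hspan⟩ : ∃ t : X.presheaf.stalk x, t ∈ nonZeroDivisors _ ∧
          maximalIdeal (X.presheaf.stalk x) = Ideal.span {t} := by
        haveI : IsDomain (X.presheaf.stalk x) := Groth.Agent.RegLoc6.isDomain_of_isRegularLocalRing _
        obtain ⟨hnf, hdim⟩ := dim_stalk X hequi x hP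
        have hs : (maximalIdeal (X.presheaf.stalk x)).spanFinrank ≤ 1 := by
          have h1 := hreg.spanFinrank_maximalIdeal
          rw [← h1] at hdim
          exact_mod_cast hdim
        have hfg : (maximalIdeal (X.presheaf.stalk x)).FG := IsNoetherian.noetherian _
        have hne : maximalIdeal (X.presheaf.stalk x) ≠ ⊥ := fun e => hnf (IsLocalRing.isField_iff_maximalIdeal_eq.2 e)
        rcases (Set.ncard_le_one (Submodule.FG.finite_generators hfg)).1 ((Submodule.FG.generators_ncard hfg).trans_le hs) |> fun hh =>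
            (Set.eq_empty_or_nonempty (Submodule.generators (maximalIdeal (X.presheaf.stalk x)))).imp id fun ⟨t, ht⟩ =>
              (⟨t, Set.eq_singleton_iff_unique_mem.2 ⟨ht, fun y hy => hh y hy t ht⟩⟩ : ∃ t, _ = {t}) with h0 | ⟨t, h1⟩
        · exact absurd (by rw [← Submodule.span_generators (maximalIdeal (X.presheaf.stalk x)), h0, Submodule.span_empty]) hne
        · refine ⟨t, mem_nonZeroDivisors_of_ne_zero fun e => hne ?_, ?_⟩
          · rw [← Submodule.span_generators (maximalIdeal (X.presheaf.stalk x)), h1, e]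
            exact Submodule.span_zero_singleton _
          · rw [← Submodule.span_generators (maximalIdeal (X.presheaf.stalk x)), h1]
      obtain ⟨s, hs, hA⟩ := exists_away Γ(X, U) (hU.primeIdealOf ⟨x, hxU⟩).asIdeal (X.presheaf.stalk x) t ht hspan
      let U' := X.affineBasicOpen (U := ⟨U, hU⟩) s
      letI : Algebra Γ(X, U) Γ(X, U'.1) := (X.presheaf.map (homOfLE (X.basicOpen_le s)).op).hom.toAlgebra
      haveI : IsLocalization.Away s Γ(X, U'.1) := hU.isLocalization_of_eq_basicOpen _ _ rfl
      obtain ⟨f, hf, hI⟩ := hA Γ(X, U'.1)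
      refine ⟨U', ?_, f, hf, ?_⟩
      · show x ∈ X.basicOpen s
        rw [X.mem_basicOpen (hx := hxU)]
        exact (IsLocalization.AtPrime.isUnit_to_map_iff (X.presheaf.stalk x) (hU.primeIdealOf ⟨x, hxU⟩).asIdeal s).2 hs
      · rw [← Scheme.IdealSheafData.map_ideal_basicOpen _ ⟨U, hU⟩ s, (ideal_point hP ⟨U, hU⟩).1 hxU]
        exact hI
    · obtain ⟨_, ⟨U, hU, rfl⟩, hxU, hle⟩ := X.isBasis_affineOpens.exists_subset_of_mem_open
        (show x ∈ ({P} : Set X)ᶜ from hx) hP.isOpen_compl
      refine ⟨⟨U, hU⟩, hxU, 1, one_mem _, ?_⟩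
      rw [(ideal_point hP ⟨U, hU⟩).2 fun h => hle h rfl, Ideal.span_singleton_one]

end Groth.Agent.S15923
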