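import Groth.Statements.S15924
import Groth.Agent.CurveGor.MeetNode
import Groth.Agent.CurveGor.Subcurve
import Groth.Agent.S19606

set_option autoImplicit false
universe u
open CategoryTheory CategoryTheory.Limits AlgebraicGeometry
open Curves

namespace Groth.Agent.S15924
set_option backward.isDefEq.respectTransparency false
set_option backward.isDefEq.respectTransparency.types false
set_option synthInstance.maxHeartbeats 200000
set_option maxHeartbeats 2000000
attribute [local instance] HasDerivedCategory.standard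
open Groth.Agent Groth.Agent.CurveGor TFOneX in


/-- Let k be an algebraically closed field, X a curve over k (proper over k, reduced, connected, every
irreducible component of dimension one) and P a separating node of X, i.e. a closed point which is a
node and whose complement X ∖ {P} is not connected. Then the ideal sheaf m_P of the reduced point P,
as an O_X-module, is not simple: it admits an idempotent endomorphism other than 0 and the identity.
(The converse, simplicity of m_P when P is not a separating node, also holds but is not part of this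
statement.) -/
theorem result (k : Type u) [Field k] [IsAlgClosed k] (X : Scheme.{u}) [X.Over (Spec (CommRingCat.of k))] [IsProper (X ↘ (Spec (CommRingCat.of k)))] [IsReduced X] [ConnectedSpace X]
    (hequi : ∀ Z ∈ irreducibleComponents (X : Type u), topologicalKrullDim Z = 1)
    (P : X) (hP : IsClosed ({P} : Set X)) (hnode : Curv2.IsNode k X P) (hsep : ¬ IsPreconnected (({P} : Set X)ᶜ)) :
    ∃ e : ClSub.idealMod (Scheme.IdealSheafData.vanishingIdeal ⟨{P}, hP⟩) ⟶ ClSub.idealMod (Scheme.IdealSheafData.vanishingIdeal ⟨{P}, hP⟩),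
      e ≫ e = e ∧ e ≠ 0 ∧ e ≠ 𝟙 _ := by
  classical
  haveI := CurveCohLib.isNoetherian_of_proper (k := k) (X := X)
  have hnp : P ∉ genericPoints (X : Type u) := fun hg => by
    have h1 := hequi (closure {P}) hg
    rw [hP.closure_eq] at h1
    have hsub : topologicalKrullDim ({P} : Set X) ≤ 0 := by
      haveI : Subsingleton (TopologicalSpace.IrreducibleCloseds ({P} : Set X)) := ⟨fun Z W =>
        TopologicalSpace.IrreducibleCloseds.ext (Set.ext fun z => ⟨fun _ => by
          obtain ⟨w, hw⟩ := W.isIrreducible'.nonempty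
          exact Subsingleton.elim w z ▸ hw, fun _ => by
          obtain ⟨w, hw⟩ := Z.isIrreducible'.nonempty
          exact Subsingleton.elim w z ▸ hw⟩)⟩
      exact Order.krullDim_nonpos_of_subsingleton
    rw [h1] at hsub
    exact absurd hsub (by norm_num)
  simp only [_root_.IsPreconnected, not_forall] at hsep
  obtain ⟨u, v, hu, hv, hcov, ⟨a, haP, hau⟩, ⟨b, hbP, hbv⟩, hemp⟩ := hsep
  have hdisj : ∀ x, x ≠ P → x ∈ u → x ∈ v → False := fun x h1 h2 h3 => hemp ⟨x, h1, h2, h3⟩
  let S : Set X := {η | η ∈ genericPoints (X : Type u) ∧ η ∈ u}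
  let Y : Set X := ⋃ η ∈ S, closure ({η} : Set X)
  have hY : IsClosed Y :=
    (finite_genericPoints.subset fun η hη => hη.1).isClosed_biUnion fun _ _ => isClosed_closure
  have hc : IsCompUnion Y := fun x hx => by
    obtain ⟨η, hη, hxη⟩ := Set.mem_iUnion₂.1 hx
    exact ⟨η, hη.1, Set.mem_iUnion₂.2 ⟨η, hη, subset_closure rfl⟩, specializes_iff_mem_closure.2 hxη⟩
  have hAY : ∀ x ∈ u, x ∈ Y := fun x hx => by
    obtain ⟨η, hη, hsp⟩ := NormAmpleX.exists_generic_specializes x
    exact Set.mem_iUnion₂.2 ⟨η, ⟨hη, hsp.mem_open hu hx⟩, specializes_iff_mem_closure.1 hsp⟩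
  have hBY : ∀ x, x ≠ P → x ∈ v → x ∉ Y := fun x hxP hxv hxY => by
    obtain ⟨η, hη, hxη⟩ := Set.mem_iUnion₂.1 hxY
    exact hdisj η (fun h => hnp (h ▸ hη.1)) hη.2 ((specializes_iff_mem_closure.2 hxη).mem_open hv hxv)
  have hmeet : Y ∩ closure Yᶜ ⊆ {P} := fun x hx => by_contra fun hxP => by
    rcases hcov hxP with h | h
    · exact (mem_closure_iff.1 hx.2 u hu h).elim fun z hz => hz.2 (hAY z hz.1)
    · exact hBY x hxP h hx.1
  obtain ⟨ηA, hηA, hηAu⟩ : ∃ η ∈ genericPoints (X : Type u), η ∈ u :=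
    let ⟨η, hη, hsp⟩ := NormAmpleX.exists_generic_specializes a; ⟨η, hη, hsp.mem_open hu hau⟩
  obtain ⟨ηB, hηB, hηBv⟩ : ∃ η ∈ genericPoints (X : Type u), η ∈ v :=
    let ⟨η, hη, hsp⟩ := NormAmpleX.exists_generic_specializes b; ⟨η, hη, hsp.mem_open hv hbv⟩
  let J := vI Y hY
  let K := cI Y
  let M := J ⊔ K
  let mP := vI ({P} : Set X) hP
  let ι := ClSub.idealModι mP
  have hι : ι ≫ ClSub.toSubscheme mP = 0 := kernel.condition _
  haveI : Mono ι := inferInstanceAs (Mono (kernel.ι _))
  -- the meet is killed by the ideal of the node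
  have hιM : ι ≫ ClSub.toSubscheme M = 0 := by
    refine Scheme.Modules.hom_ext _ _ fun W => ?_
    ext s
    refine TopCat.Presheaf.section_ext (show TopCat.Sheaf AddCommGrpCat.{u} X.toPresheafedSpace.carrier
      from ⟨(ClSub.quotMod M).presheaf, (ClSub.quotMod M).isSheaf⟩) W _ _ fun x hx => ?_
    show (ClSub.quotMod M).presheaf.germ W x hx ((ι ≫ ClSub.toSubscheme M).app W s) =
      (ClSub.quotMod M).presheaf.germ W x hx 0
    rw [map_zero, ← DerSch.stalkFunctor_map_germ x (ι ≫ ClSub.toSubscheme M) W hx s]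
    show sm (ι ≫ ClSub.toSubscheme M) x _ = 0
    generalize (ClSub.idealMod mP).presheaf.germ W x hx s = w
    by_cases hxm : x ∈ Y ∩ closure Yᶜ
    · obtain rfl : x = P := Set.mem_singleton_iff.1 (hmeet hxm)
      obtain ⟨e⟩ := exists_stalk_structure (X := X) x
      have hw : sm ι x w = e (sm ι x w) • e.symm 1 := e.injective (by
        rw [LinearEquiv.map_smul, LinearEquiv.apply_symm_apply, smul_eq_mul, mul_one])
      rw [sm_comp, hw, LinearMap.map_smul]
      refine smul_meet_eq_zero_of_odp hY hc x hxm hP (odp_of_isNode hnode) ?_ _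
      by_contra hu'
      obtain ⟨c, hc'⟩ := IsLocalRing.notMem_maximalIdeal.1 hu'
      haveI := CurvePoint.epi_toSubscheme mP
      refine CurvePoint.not_subsingleton_stalk x hP (subsingleton_of_forall_eq 0 fun q => ?_)
      obtain ⟨o, rfl⟩ := surjective_sm (ClSub.toSubscheme mP) x q
      have ho : o = (e o * (↑c⁻¹ : X.presheaf.stalk x)) • sm ι x w := e.injective (by
        rw [LinearEquiv.map_smul, smul_eq_mul, mul_assoc, ← hc', Units.inv_mul, mul_one])
      rw [ho, LinearMap.map_smul, ← sm_comp, hι, sm_zero, smul_zero]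
    · refine eq_zero_of_notMem (fun hxs => hxm ?_) _
      have h := IntCoeff.support_quotMod _ hxs
      rw [Scheme.IdealSheafData.support_sup, TopologicalSpace.Closeds.coe_inf,
        Scheme.IdealSheafData.coe_support_vanishingIdeal, Scheme.IdealSheafData.coe_support_vanishingIdeal] at h
      exact h
  obtain ⟨q₁, h₁⟩ := exists_quot (le_sup_left : J ≤ M)
  obtain ⟨q₂, h₂⟩ := exists_quot (le_sup_right : K ≤ M)
  obtain ⟨-, w, ⟨hlim⟩⟩ := S19606.result X _ _ (inf_eq_bot hY) q₁ q₂ h₁ h₂
  let β : ClSub.idealMod mP ⟶ ClSub.quotMod J ⊞ ClSub.quotMod K := biprod.lift (ι ≫ ClSub.toSubscheme J) 0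
  have hβ : β ≫ biprod.desc q₁ (-q₂) = 0 := by
    rw [biprod.lift_desc, zero_comp, add_zero, Category.assoc, h₁]
    exact hιM
  obtain ⟨σ, hσ⟩ : ∃ σ, σ ≫ biprod.lift (ClSub.toSubscheme J) (ClSub.toSubscheme K) = β :=
    ⟨(KernelFork.IsLimit.lift' hlim β hβ).1, (KernelFork.IsLimit.lift' hlim β hβ).2⟩
  have hσJ : σ ≫ ClSub.toSubscheme J = ι ≫ ClSub.toSubscheme J := by
    simpa [β, Category.assoc] using congrArg (fun z => z ≫ biprod.fst) hσ
  have hσK : σ ≫ ClSub.toSubscheme K = 0 := by
    simpa [β, Category.assoc] using congrArg (fun z => z ≫ biprod.snd) hσ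
  have hσP : σ ≫ ClSub.toSubscheme mP = 0 := by
    by_cases hPY : P ∈ Y
    · obtain ⟨r, hr⟩ := exists_quot (I := J) (J := mP)
        (Scheme.IdealSheafData.vanishingIdeal_antimono (Set.singleton_subset_iff.2 hPY))
      rw [← hr, ← Category.assoc, hσJ, Category.assoc, hr, hι]
    · obtain ⟨r, hr⟩ := exists_quot (I := K) (J := mP)
        (Scheme.IdealSheafData.vanishingIdeal_antimono (Set.singleton_subset_iff.2 (subset_closure hPY)))
      rw [← hr, ← Category.assoc, hσK, zero_comp]
  let e : ClSub.idealMod mP ⟶ ClSub.idealMod mP := kernel.lift (ClSub.toSubscheme mP) σ hσP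
  have he : e ≫ ι = σ := kernel.lift_ι _ _ _
  have hext : ∀ {T : X.Modules} (f g : T ⟶ Coh.structureModule X),
      f ≫ ClSub.toSubscheme J = g ≫ ClSub.toSubscheme J → f ≫ ClSub.toSubscheme K = g ≫ ClSub.toSubscheme K →
      f = g := fun f g h1 h2 => Fork.IsLimit.hom_ext hlim (biprod.hom_ext _ _ (by simpa using h1) (by simpa using h2))
  have hne : ∀ {η : X}, η ∈ genericPoints (X : Type u) → ∀ {Z : Set X} (hZ : IsClosed Z), IsCompUnion Z → η ∈ Z →
      ι ≫ ClSub.toSubscheme (vI Z hZ) ≠ 0 := fun {η} hη {Z} hZ hcZ hηZ h0 => by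
    obtain ⟨hp, -, -, hs⟩ := isQuotOn_quot hZ hcZ
    haveI := hp
    have hη' : η ∈ CohB1.support (ClSub.quotMod (vI Z hZ)) := hs.symm ▸ hηZ
    refine hη' (subsingleton_of_forall_eq 0 fun q => ?_)
    obtain ⟨o, rfl⟩ := surjective_sm (ClSub.toSubscheme (vI Z hZ)) η q
    haveI := CurvePoint.epi_toSubscheme mP
    have hS := CurveSlope.shortExact_kernel_of_epi (ClSub.toSubscheme mP)
    obtain ⟨o', rfl⟩ := (ShortComplex.moduleCat_exact_iff _).1
      ((hS.map_of_exact (DerSch.stalkFunctor X η)).exact) o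
        (@Subsingleton.elim _ (CurvePoint.subsingleton_stalk_of_ne P hP fun h => hnp (h ▸ hη)) _ _)
    show sm (ClSub.toSubscheme (vI Z hZ)) η (sm ι η o') = 0
    rw [← sm_comp, h0, sm_zero]
  refine ⟨e, (cancel_mono ι).1 (hext _ _ ?_ ?_), fun h => ?_, fun h => ?_⟩
  · rw [Category.assoc e e ι, he, Category.assoc e σ, hσJ, ← Category.assoc, he, hσJ]
  · rw [Category.assoc e e ι, he, Category.assoc e σ, hσK, comp_zero]
  · have h' := hne hηA hY hc (hAY _ hηAu)
    rw [h, zero_comp] at he
    exact h' (by rw [← hσJ, ← he, zero_comp])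
  · have hηP : ηB ≠ P := fun h => hnp (h ▸ hηB)
    have h' := hne hηB isClosed_closure (isCompUnion_compl hY) (subset_closure (hBY _ hηP hηBv))
    rw [h, Category.id_comp] at he
    exact h' (by rw [← hσK, ← he])


end Groth.Agent.S15924
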