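import Groth.Statements.S15926
import Groth.Agent.CurveGor.DegTensor

set_option autoImplicit false
universe u
open CategoryTheory CategoryTheory.Limits AlgebraicGeometry
open Curves

namespace Groth.Agent.S15926

set_option backward.isDefEq.respectTransparency false
set_option backward.isDefEq.respectTransparency.types false


/-- Let k be an algebraically closed field, X a nodal curve over k (proper over k, connected, every
irreducible component of dimension one, at-worst-nodal singularities), and L, M coherent
torsion-free O_X-modules of rank one (regular elements of each local ring act injectively on the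
stalk; the stalk at each generic point of an irreducible component has dimension one) such that
every point of X has an open neighbourhood on which L or M is isomorphic to the structure sheaf (M
is invertible wherever L is not). Then deg(L ⊗ M) = deg(L) + deg(M), degrees of rank-one sheaves
being χ(X, −) − χ(X, O_X). (L ⊗ M is again torsion-free of rank one; that clause is not part of this
statement.) -/
theorem result (k : Type u) [Field k] [IsAlgClosed k] (X : Scheme.{u}) [X.Over (Spec (CommRingCat.of k))] [IsProper (X ↘ (Spec (CommRingCat.of k)))] [ConnectedSpace X]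
    (hequi : ∀ Z ∈ irreducibleComponents (X : Type u), topologicalKrullDim Z = 1) (hX : Curv2.AtWorstNodal k X)
    (L M : X.Modules) (hLc : Coh.IsCoh L) (hMc : Coh.IsCoh M) (hLt : TorSh.IsTorsionFree L) (hMt : TorSh.IsTorsionFree M)
    (hLr : ∀ η : X, closure ({η} : Set X) ∈ irreducibleComponents (X : Type u) → Module.finrank (X.presheaf.stalk η) (L.presheaf.stalk η) = 1)
    (hMr : ∀ η : X, closure ({η} : Set X) ∈ irreducibleComponents (X : Type u) → Module.finrank (X.presheaf.stalk η) (M.presheaf.stalk η) = 1)
    (hLM : ∀ P : X, (∃ U : X.Opens, P ∈ U ∧ Nonempty (L.restrict U.ι ≅ Coh.structureModule (↑U : Scheme.{u}))) ∨ (∃ U : X.Opens, P ∈ U ∧ Nonempty (M.restrict U.ι ≅ Coh.structureModule (↑U : Scheme.{u})))) :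
    Curv2.deg k X (CohB1.tensorMod L M) 1 = Curv2.deg k X L 1 + Curv2.deg k X M 1 := by
  haveI := Groth.Agent.CurveCohLib.isNoetherian_of_proper (k := k) (X := X)
  have hdim1 : topologicalKrullDim X ≤ 1 := Groth.Agent.TFOneX.dim_le_one hequi
  have hdim : topologicalKrullDim X = 1 := le_antisymm hdim1 (by
    obtain ⟨x⟩ := (inferInstance : Nonempty X)
    have hC := irreducibleComponent_mem_irreducibleComponents x
    rw [← hequi _ hC]
    exact topologicalKrullDim_subspace_le _ _)
  haveI := Groth.Agent.CurveGor.isReduced_of_nodal (k := k) hdim hX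
  haveI : X.IsSeparated := ⟨by
    rw [← terminal.comp_from (X ↘ Spec (CommRingCat.of k))]
    infer_instance⟩
  have h := Groth.Agent.CurveGor.DegTensor.euler_tensor_eq (k := k) hdim1 hLc hMc
    (fun η hη => hLr η hη) (fun η hη => hMr η hη) fun y => by
      rcases hLM y with ⟨U, hU, ⟨e⟩⟩ | ⟨U, hU, ⟨e⟩⟩
      · exact Or.inl (Groth.Agent.CurveGor.DegTensor.stalk_equiv_of_restrict e hLc.1 hU)
      · exact Or.inr (Groth.Agent.CurveGor.DegTensor.stalk_equiv_of_restrict e hMc.1 hU)
  simp only [Curv2.deg, Nat.cast_one, one_mul]
  linarith


end Groth.Agent.S15926
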