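import Groth.Statements.S15930
import Groth.Agent.BMLib.Multi

set_option autoImplicit false
universe u
open CategoryTheory AlgebraicGeometry Opposite
open BMCoh

namespace Groth.Agent.S15930

/-- Let T be a twisted Borel–Moore cohomology theory with coefficients in A (a full subcategory of
R-modules containing R) on a constructible class V of Noetherian schemes, X an object of V, M a
coefficient module and i, n, i', n' integers with i' = i + 2·0 and n' = n + 0 (the shift of
push-forward data at level 0, carried as hypotheses); H^i(F_kX, M(n)) denotes the colimit of H^i(U,
M(n)) over the open subschemes U of X containing every point of codimension at most k (codimension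
of a point = dim X minus the dimension of its closure), and H^i(x, M(n)) the group of a point x
(colimit over the nonempty opens of its reduced closure). Assume X is reduced, and let P be
push-forward data for X at level 0: for every point x of codimension 0 (a generic point of an
irreducible component of dimension dim X) a map ι_x : H^i(x, M(n)) → H^{i'}(F_0X, M(n')), agreeing
with proper push-forward along every piece of the closure of x that is closed in an open containing
the points of codimension 0. Then the total push-forward ι_* : ⊕_x H^i(x, M(n)) → H^{i'}(F_0X,
M(n')) over the points of codimension 0 is bijective. (The published sequence at codimension 0 has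
the zero group H(F_{−1}X) on both sides of these two terms; it carries no reducedness hypothesis,
while here the groups of a point are formed on its reduced closure and those of F_0X on opens of X
itself, and insensitivity of the theory to nilpotents is not among the conditions imposed on a
theory, so X is taken reduced.) -/
theorem result (V : ObjectProperty Scheme.{u}) [BMCoh.IsConstructible V] (R : Type u) [CommRing R] (A : BMCoh.Coefs R) (T : BMCoh.TheoryOn V R A) (X : BMCoh.Obj V) [IsReduced X.scheme] (P : T.PushData X 0) (M : A.Cat) (i n i' n' : ℤ) (hi : i' = i + 2 * ((0 : ℕ) : ℤ)) (hn : n' = n + ((0 : ℕ) : ℤ)) : Function.Bijective (P.tot M i n i' n' hi hn).hom := by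
  exact Groth.Agent.BMLib.pushTot_bijective_zero P hi hn

end Groth.Agent.S15930
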