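import Groth.Statements.S15934
import Groth.Agent.H28.DefRel.OverLine
-- import your own Groth.Agent.* helpers here

set_option autoImplicit false
set_option backward.isDefEq.respectTransparency false
set_option backward.isDefEq.respectTransparency.types false
universe u
open CategoryTheory CategoryTheory.Limits AlgebraicGeometry
open IntTh

namespace Groth.Agent.S15934

/-- Let f : X ⟶ S be locally projective, flat, surjective and locally of finite presentation, with every
fibre of local dimension n at each of its points, and let i : Y ⟶ X be a closed immersion that is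
regular of constant codimension c ≤ n (locally cut out by a regular sequence of length c) such that
Y ⟶ S is again locally projective, flat, surjective and locally of finite presentation with fibres
of local dimension n − c everywhere. Let b : M ⟶ P¹_X be a blowing-up of P¹_X in the closed
subscheme Y × {∞} (the image of Y under the section at infinity), given through its universal
property. Then the composite M ⟶ P¹_X ⟶ P¹_S (the deformation to the normal cone, viewed over the
projective line of the base) is locally projective, flat, surjective and locally of finite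
presentation, and every one of its fibres has local dimension n at each point. -/
theorem result
    {S X Y M : Scheme.{u}} (f : X ⟶ S) (n c : ℕ) (hc : c ≤ n)
    (hfproj : RedSub.IsLocallyProjective (Over.mk f))
    [Flat f] [Surjective f] [LocallyOfFinitePresentation f]
    (hfdim : ∀ x : ↥X, FlatMor.fibreDimAt f x = n)
    (i : Y ⟶ X) [IsClosedImmersion i]
    (hi : RegImm.IsRegularImmersionOfCodim RegImm.Kind.regular c i)
    (hgproj : RedSub.IsLocallyProjective (Over.mk (i ≫ f)))
    [Flat (i ≫ f)] [Surjective (i ≫ f)] [LocallyOfFinitePresentation (i ≫ f)]
    (hgdim : ∀ y : ↥Y, FlatMor.fibreDimAt (i ≫ f) y = ((n - c : ℕ) : WithBot ℕ∞))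
    (b : M ⟶ CohB1.ProjSpaceOver 1 X)
    (hb : BlowUp.IsBlowUp b (i ≫ P1.sect X 1).ker) :
    RedSub.IsLocallyProjective (Over.mk (b ≫ P1.toP1 f)) ∧ Flat (b ≫ P1.toP1 f) ∧
      Surjective (b ≫ P1.toP1 f) ∧ LocallyOfFinitePresentation (b ≫ P1.toP1 f) ∧
      ∀ m : ↥M, FlatMor.fibreDimAt (b ≫ P1.toP1 f) m = n := by
  open Groth.Agent.H28.DefRel in
  haveI := lfp_def f i hi hb
  haveI : LocallyOfFinitePresentation (P1.toP1 f) :=
    MorphismProperty.of_isPullback (P := @LocallyOfFinitePresentation)
      (Groth.Agent.H23.P1Conn.isPullback_toP1 f).flip inferInstance
  exact ⟨Groth.Agent.H28.DefRel.projective_overLine f i hb hfproj, Groth.Agent.H28.DefRel.flat_overLine f i hi hb hfdim,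
    Groth.Agent.H28.DefRel.surjective_overLine f i hi hb, inferInstance,
    Groth.Agent.H28.DefRel.fibreDimAt_overLine f i hi hb hfdim⟩

end Groth.Agent.S15934
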