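import Groth.Statements.S15935
import Groth.Agent.H28.DefRel.Strict
-- import your own Groth.Agent.* helpers here

set_option autoImplicit false
set_option backward.isDefEq.respectTransparency false
set_option backward.isDefEq.respectTransparency.types false
universe u
open CategoryTheory CategoryTheory.Limits AlgebraicGeometry
open IntTh

namespace Groth.Agent.S15935

/-- Let f : X ⟶ S be locally projective, flat, surjective and locally of finite presentation with every
fibre of local dimension n at each point, i : Y ⟶ X a closed immersion regular of constant
codimension c ≤ n (locally cut out by a regular sequence of length c) with Y ⟶ S locally projective,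
flat, surjective, locally of finite presentation and with fibres of local dimension n − c
everywhere, and b : M ⟶ P¹_X a blowing-up of P¹_X in Y × {∞}, given through its universal property.
Then every morphism j : P¹_Y ⟶ M whose composite with b is the morphism P¹_Y ⟶ P¹_X induced by i
(there is exactly one such j, the strict transform of P¹_Y, since the inverse image of the centre in
P¹_Y is the effective Cartier divisor Y × {∞}) is a closed immersion which is regular of constant
codimension c. -/
theorem result
    {S X Y M : Scheme.{u}} (f : X ⟶ S) (n c : ℕ) (hc : c ≤ n)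
    (hfproj : RedSub.IsLocallyProjective (Over.mk f))
    [Flat f] [Surjective f] [LocallyOfFinitePresentation f]
    (hfdim : ∀ x : ↥X, FlatMor.fibreDimAt f x = n)
    (i : Y ⟶ X) [IsClosedImmersion i]
    (hi : RegImm.IsRegularImmersionOfCodim RegImm.Kind.regular c i)
    (hgproj : RedSub.IsLocallyProjective (Over.mk (i ≫ f)))
    [Flat (i ≫ f)] [Surjective (i ≫ f)] [LocallyOfFinitePresentation (i ≫ f)]
    (hgdim : ∀ y : ↥Y, FlatMor.fibreDimAt (i ≫ f) y = ((n - c : ℕ) : WithBot ℕ∞))
    (b : M ⟶ CohB1.ProjSpaceOver 1 X)
    (hb : BlowUp.IsBlowUp b (i ≫ P1.sect X 1).ker)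
    (j : CohB1.ProjSpaceOver 1 Y ⟶ M) (hj : j ≫ b = P1.toP1 i) :
    IsClosedImmersion j ∧ RegImm.IsRegularImmersionOfCodim RegImm.Kind.regular c j := by
  exact Groth.Agent.H28.DefRel.strict_line f i hi hb j hj

end Groth.Agent.S15935
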