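import Mathlib
import Groth.Statements.S15939
-- import your own Groth.Agent.* helpers here

set_option autoImplicit false
universe u
open CAlg

namespace Groth.Agent.S15939

open Polynomial in
lemma algebraic_of_simple {κ A : Type u} [Field κ] [CommRing A] [Algebra κ A]
    (htop : ∀ a : A, a ∉ (⊥ : Subalgebra κ A) → Algebra.adjoin κ {a} = ⊤)
    (a : A) (ha : a ∉ (⊥ : Subalgebra κ A)) : IsAlgebraic κ a := by
  by_contra htr
  have htr' : ∀ P : κ[X], aeval a P = 0 → P = 0 := fun P hP => by
    by_contra h0; exact htr ⟨P, h0, hP⟩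
  have hsq : a ^ 2 ∉ (⊥ : Subalgebra κ A) := by
    intro h
    obtain ⟨c, hc⟩ := Algebra.mem_bot.1 h
    have h0 := htr' (X ^ 2 - C c) (by simp [hc])
    exact absurd h0 (monic_X_pow_sub_C c two_ne_zero).ne_zero
  have hmem : a ∈ Algebra.adjoin κ {a ^ 2} := by rw [htop _ hsq]; trivial
  rw [Algebra.adjoin_singleton_eq_range_aeval] at hmem
  obtain ⟨P, hP⟩ := hmem
  have h0 := htr' (expand κ 2 P - X) (by rw [map_sub, expand_aeval, aeval_X, sub_eq_zero]; exact hP)
  rw [sub_eq_zero] at h0
  have := congrArg natDegree h0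
  rw [natDegree_expand, natDegree_X] at this
  omega

open Polynomial in
/-- Let κ be a field and A a commutative κ-algebra whose only κ-subalgebras are the image of κ and A
itself, these two being different. Then A is finite-dimensional over κ, and A is isomorphic as a
κ-algebra to the dual numbers over κ, or to κ × κ, or A is a field which is either separable over κ
or isomorphic to κ[X]/(X^p - a) with p the (positive) characteristic of κ and a an element of κ that
is not a p-th power. (The published statement also records that these four cases exclude one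
another; that part is not restated.) -/
theorem result (κ A : Type u) [Field κ] [CommRing A] [Algebra κ A]
    (h : IsSimpleOrder (Subalgebra κ A)) :
    FiniteDimensional κ A ∧
    (Nonempty (A ≃ₐ[κ] DualNumber κ) ∨ Nonempty (A ≃ₐ[κ] (κ × κ)) ∨
      (IsField A ∧ (Algebra.IsSeparable κ A ∨
        ∃ (p : ℕ) (a : κ), p.Prime ∧ CharP κ p ∧ (∀ b : κ, b ^ p ≠ a) ∧
          Nonempty (A ≃ₐ[κ] AdjoinRoot (X ^ p - C a))))) := by
  classical
  haveI := h
  have hbt : (⊥ : Subalgebra κ A) ≠ ⊤ := bot_ne_top
  have htop : ∀ a : A, a ∉ (⊥ : Subalgebra κ A) → Algebra.adjoin κ {a} = ⊤ := fun a ha => by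
    rcases eq_bot_or_eq_top (Algebra.adjoin κ {a}) with hb | ht
    · exact absurd (hb ▸ Algebra.self_mem_adjoin_singleton κ a) ha
    · exact ht
  haveI : Nontrivial A := by
    by_contra hnt
    rw [not_nontrivial_iff_subsingleton] at hnt
    refine hbt (eq_top_iff.2 fun x _ => ?_)
    rw [Subsingleton.elim x 0]
    exact zero_mem _
  have hκ : Function.Injective (algebraMap κ A) := (algebraMap κ A).injective
  haveI : Algebra.IsAlgebraic κ A := ⟨fun a => by
    by_cases ha : a ∈ (⊥ : Subalgebra κ A)
    · obtain ⟨c, rfl⟩ := Algebra.mem_bot.1 ha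
      exact isAlgebraic_algebraMap c
    · exact algebraic_of_simple htop a ha⟩
  obtain ⟨a, -, ha⟩ := SetLike.exists_of_lt (bot_lt_iff_ne_bot.2 (show (⊤ : Subalgebra κ A) ≠ ⊥ from hbt.symm))
  haveI hfd : FiniteDimensional κ A := by
    have h1 := (Algebra.IsAlgebraic.isAlgebraic (R := κ) a).isIntegral.fg_adjoin_singleton
    rw [htop a ha] at h1
    exact Module.finite_def.2 (by simpa using h1)
  refine ⟨hfd, ?_⟩
  by_cases hred : ∃ x : A, x ≠ 0 ∧ x * x = 0
  · left
    obtain ⟨x, hx0, hxx⟩ := hred
    have hxb : x ∉ (⊥ : Subalgebra κ A) := by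
      intro hx
      obtain ⟨c, rfl⟩ := Algebra.mem_bot.1 hx
      rw [← map_mul, map_eq_zero_iff _ hκ, mul_self_eq_zero] at hxx
      exact hx0 (by rw [hxx, map_zero])
    let φ : DualNumber κ →ₐ[κ] A := DualNumber.lift ⟨(Algebra.ofId κ A, x), hxx, fun c => Commute.all _ _⟩
    refine ⟨(AlgEquiv.ofBijective φ ⟨?_, ?_⟩).symm⟩
    · rw [injective_iff_map_eq_zero]
      intro z hz
      have hz' : algebraMap κ A z.fst + algebraMap κ A z.snd * x = 0 := by
        rw [← hz]; simp [φ, DualNumber.lift_apply_apply]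
      have h1 : algebraMap κ A z.fst * x = 0 := by
        have := congrArg (· * x) hz'
        simp only [add_mul, mul_assoc, hxx, mul_zero, add_zero, zero_mul] at this
        exact this
      have hfst : z.fst = 0 := by
        by_contra hne
        exact hx0 ((IsUnit.mul_right_eq_zero ((isUnit_iff_ne_zero.2 hne).map _)).1 h1)
      rw [hfst, map_zero, zero_add] at hz'
      have hsnd : z.snd = 0 := by
        by_contra hne
        exact hx0 ((IsUnit.mul_right_eq_zero ((isUnit_iff_ne_zero.2 hne).map _)).1 hz')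
      exact TrivSqZeroExt.ext hfst hsnd
    · rw [← AlgHom.range_eq_top, eq_top_iff, ← htop x hxb, Algebra.adjoin_le_iff, Set.singleton_subset_iff]
      exact ⟨DualNumber.eps, DualNumber.lift_apply_eps _⟩
  right
  push Not at hred
  by_cases hid : ∃ e : A, e * e = e ∧ e ≠ 0 ∧ e ≠ 1
  · left
    obtain ⟨e, hee, he0, he1⟩ := hid
    have heb : e ∉ (⊥ : Subalgebra κ A) := by
      intro he
      obtain ⟨c, rfl⟩ := Algebra.mem_bot.1 he
      rw [← map_mul] at hee
      have hc := hκ hee
      rcases mul_eq_right₀ (a := c) (b := c) (fun h => he0 (by rw [h, map_zero])) |>.1 hc with rfl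
      exact he1 (map_one _)
    let φ : κ × κ →ₐ[κ] A :=
      AlgHom.ofLinearMap ((LinearMap.toSpanSingleton κ A e).coprod (LinearMap.toSpanSingleton κ A (1 - e)))
        (by simp) (fun p q => by
          simp only [LinearMap.coprod_apply, LinearMap.toSpanSingleton_apply, Prod.fst_mul, Prod.snd_mul,
            Algebra.smul_def, map_mul]
          linear_combination (-(algebraMap κ A p.1 * algebraMap κ A q.1) - algebraMap κ A p.2 * algebraMap κ A q.2 +
            algebraMap κ A p.1 * algebraMap κ A q.2 + algebraMap κ A p.2 * algebraMap κ A q.1) * hee)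
    refine ⟨(AlgEquiv.ofBijective φ ⟨?_, ?_⟩).symm⟩
    · rw [injective_iff_map_eq_zero]
      intro z hz
      have hz' : algebraMap κ A z.1 * e + algebraMap κ A z.2 * (1 - e) = 0 := by
        rw [← hz]; simp [φ, Algebra.smul_def]
      have h1 : algebraMap κ A z.1 * e = 0 := by
        linear_combination e * hz' + (-(algebraMap κ A z.1) + algebraMap κ A z.2) * hee
      have h2 : algebraMap κ A z.2 * (1 - e) = 0 := by linear_combination hz' - h1
      refine Prod.ext ?_ ?_
      · by_contra hne
        exact he0 ((IsUnit.mul_right_eq_zero ((isUnit_iff_ne_zero.2 hne).map _)).1 h1)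
      · by_contra hne
        exact he1 (sub_eq_zero.1 ((IsUnit.mul_right_eq_zero ((isUnit_iff_ne_zero.2 hne).map _)).1 h2)).symm
    · rw [← AlgHom.range_eq_top, eq_top_iff, ← htop e heb, Algebra.adjoin_le_iff, Set.singleton_subset_iff]
      exact ⟨(1, 0), by simp [φ]⟩
  right
  push Not at hid
  haveI : IsArtinianRing A := IsArtinianRing.of_finite κ A
  have hfield : IsField A := by
    refine ⟨⟨0, 1, zero_ne_one⟩, mul_comm, fun {x} hx => ?_⟩
    obtain ⟨N, y, hy⟩ := IsArtinian.exists_pow_succ_smul_dvd (M := A) x 1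
    rw [smul_eq_mul, smul_eq_mul, mul_one] at hy
    have hxy : ∀ j, x ^ N * (x * y) ^ j = x ^ N := fun j => by
      induction j with
      | zero => simp
      | succ j ih => rw [pow_succ, ← mul_assoc, ih, ← mul_assoc, ← pow_succ]; exact hy
    have hidem : (x * y) ^ N * (x * y) ^ N = (x * y) ^ N := by
      rw [mul_pow x y, mul_mul_mul_comm, ← mul_assoc, mul_assoc (x ^ N) (x ^ N)]
      calc x ^ N * (x ^ N * y ^ N) * y ^ N = x ^ N * (x * y) ^ N * y ^ N := by rw [mul_pow]
        _ = x ^ N * y ^ N := by rw [hxy]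
    haveI : IsReduced A := isReduced_iff_pow_one_lt 2 one_lt_two |>.2 fun z hz => by
      by_contra hne
      exact hred z hne (by rwa [pow_two] at hz)
    rcases eq_or_ne ((x * y) ^ N) 0 with h0 | h0
    · exact absurd (IsReduced.eq_zero x ⟨N, by rw [← hxy N, h0, mul_zero]⟩) hx
    · have h1 := hid _ hidem h0
      rcases Nat.eq_zero_or_pos N with rfl | hN
      · exact ⟨y, by simpa using hy⟩
      · refine ⟨y * (x * y) ^ (N - 1), ?_⟩
        rw [← mul_assoc, ← pow_succ', Nat.sub_add_cancel hN]
        exact h1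
  refine ⟨hfield, ?_⟩
  letI := hfield.toField
  rcases eq_bot_or_eq_top (separableClosure κ A).toSubalgebra with hs | hs
  swap
  · left
    rw [← separableClosure.eq_top_iff]
    exact IntermediateField.toSubalgebra_injective (hs.trans IntermediateField.top_toSubalgebra.symm)
  right
  have hsb : separableClosure κ A = ⊥ :=
    IntermediateField.toSubalgebra_injective (hs.trans IntermediateField.bot_toSubalgebra.symm)
  haveI : IsPurelyInseparable κ A := separableClosure.eq_bot_iff.1 hsb
  obtain ⟨q, hq⟩ := ExpChar.exists κ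
  haveI := hq
  obtain ⟨N, hN⟩ := IsPurelyInseparable.pow_mem κ q a
  have hmem : ∀ x : A, x ∈ (algebraMap κ A).range → x ∈ (⊥ : Subalgebra κ A) := fun x ⟨c, hc⟩ =>
    Algebra.mem_bot.2 ⟨c, hc⟩
  cases hq with
  | zero =>
    rw [one_pow, pow_one] at hN
    exact absurd (hmem _ hN) ha
  | prime hp =>
    haveI : Fact q.Prime := ⟨hp⟩
    have hex : ∃ n, a ^ q ^ n ∈ (⊥ : Subalgebra κ A) := ⟨N, hmem _ hN⟩
    obtain ⟨n, hn⟩ : ∃ n, Nat.find hex = n + 1 := by
      rcases Nat.eq_zero_or_pos (Nat.find hex) with h0 | h0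
      · exfalso
        have := Nat.find_spec hex
        rw [h0, pow_zero, pow_one] at this
        exact ha this
      · exact ⟨Nat.find hex - 1, by omega⟩
    set b := a ^ q ^ n with hbdef
    have hb : b ∉ (⊥ : Subalgebra κ A) := Nat.find_min hex (by omega)
    obtain ⟨c, hc⟩ := Algebra.mem_bot.1 (show b ^ q ∈ (⊥ : Subalgebra κ A) by
      rw [hbdef, ← pow_mul, ← pow_succ, ← hn]; exact Nat.find_spec hex)
    haveI : CharP A q := charP_of_injective_algebraMap hκ q
    have hnp : ∀ d : κ, d ^ q ≠ c := by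
      intro d hd
      have : (b - algebraMap κ A d) ^ q = 0 := by
        rw [sub_pow_char, ← map_pow, hd, hc, sub_self]
      exact hb (hmem _ ⟨d, (sub_eq_zero.1 (eq_zero_of_pow_eq_zero this)).symm⟩)
    haveI hirr : Fact (Irreducible (Polynomial.X ^ q - Polynomial.C c : Polynomial κ)) :=
      ⟨X_pow_sub_C_irreducible_of_prime hp hnp⟩
    let φ : AdjoinRoot (Polynomial.X ^ q - Polynomial.C c) →ₐ[κ] A :=
      AdjoinRoot.liftAlgHom _ (Algebra.ofId κ A) b (by simp [Algebra.ofId_apply, hc])
    refine ⟨q, c, hp, inferInstance, hnp, ⟨(AlgEquiv.ofBijective φ ⟨φ.toRingHom.injective, ?_⟩).symm⟩⟩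
    rw [← AlgHom.range_eq_top, eq_top_iff, ← htop b hb, Algebra.adjoin_le_iff, Set.singleton_subset_iff]
    exact ⟨AdjoinRoot.root _, by simp [φ]⟩

end Groth.Agent.S15939
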