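import Groth.Statements.S15949
import Groth.Agent.P1Rigid.Translate

set_option autoImplicit false
universe u
open AlgGrp

namespace Groth.Agent.S15949

open CategoryTheory AlgebraicGeometry in
/-- Auxiliary step: let κ be an arbitrary field, G a group scheme over κ which is smooth over κ, and φ :
P¹_κ → G a morphism over κ. Then φ is constant: there is a κ-rational point g of G such that φ is
the structure morphism P¹_κ → Spec κ followed by g. (The published proof states this step for any
smooth group scheme over a field in the course of proving the main proposition.) -/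
theorem result (κ : Type u) [Field κ]
    (G : Over (Spec (CommRingCat.of κ))) [GrpObj G] [Smooth G.hom]
    (φ : CohB1.ProjSpaceOver 1 (Spec (CommRingCat.of κ)) ⟶ G.left)
    (hφ : φ ≫ G.hom = CohB1.ProjSpaceOver.toBase 1 (Spec (CommRingCat.of κ))) :
    ∃ g : Spec (CommRingCat.of κ) ⟶ G.left, g ≫ G.hom = 𝟙 _ ∧
      φ = CohB1.ProjSpaceOver.toBase 1 (Spec (CommRingCat.of κ)) ≫ g := by
  refine ⟨P1.sect _ 0 ≫ φ, ?_, ?_⟩
  · rw [Category.assoc, hφ, H23.P1Conn.sect_toBase]
  · exact P1Rigid.eq_const G (Over.homMk φ hφ)

end Groth.Agent.S15949
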