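import Groth.Statements.S15950
import Groth.Agent.H26.DedMin.Closure
import Groth.Agent.SurfRes.Projective
import Groth.Agent.H23.PiecesProper
import Groth.Agent.AlgSpDec.BirationalIso
import Groth.Agent.S9799
import Groth.Agent.S2626

set_option autoImplicit false
universe u
open Models
open CategoryTheory CategoryTheory.Limits AlgebraicGeometry TopologicalSpace

namespace Groth.Agent.S15950

open CategoryTheory AlgebraicGeometry in
/-- Let S be an excellent Dedekind scheme (integral, Noetherian, separated, of dimension one, with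
regular local rings, every affine open having an excellent coordinate ring), K its function field
with generic point η : Spec K → S, and C a proper scheme over K all of whose irreducible components
have dimension one and all of whose local rings are regular. Then there are a proper flat morphism f
: 𝒞 → S with 𝒞 regular (all local rings regular) and a morphism i : C → 𝒞 exhibiting C as the fibre
product of 𝒞 and Spec K over S, that is, a proper flat regular model of C over S. -/
theorem result
    {S : Scheme.{u}} [IsIntegral S] [IsNoetherian S] [S.IsSeparated]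
    (hreg : ∀ s : S, IsRegularLocalRing (S.presheaf.stalk s)) (hdimS : topologicalKrullDim S = 1)
    (hexc : ∀ U : S.affineOpens, EGA4.IsExcellent Γ(S, U))
    {C : Scheme.{u}} (g : C ⟶ Spec S.functionField) [IsProper g]
    (hC : ∀ x : C, IsRegularLocalRing (C.presheaf.stalk x))
    (hdimC : ∀ W ∈ irreducibleComponents (C : Type u), topologicalKrullDim W = 1) :
    ∃ (M : Scheme.{u}) (f : M ⟶ S) (i : C ⟶ M), IsProper f ∧ Flat f ∧
      (∀ m : M, IsRegularLocalRing (M.presheaf.stalk m)) ∧
      IsPullback i g f (S.fromSpecStalk (genericPoint S)) := by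
  classical
  let η := genericPoint S
  let K : Type u := S.functionField
  let j : Spec (CommRingCat.of K) ⟶ S := S.fromSpecStalk η
  haveI : Flat j := Groth.Agent.AlgSpDec.Birational.flat_fromSpecStalk η
  haveI : IsPreimmersion j := inferInstanceAs (IsPreimmersion (S.fromSpecStalk η))
  have hj : ∀ a, j a = η := fun a =>
    (((Scheme.range_fromSpecStalk (X := S) (x := η)).le ⟨a, rfl⟩ : j a ⤳ η).antisymm
      (genericPoint_specializes _)).eq
  let g' : C ⟶ Spec (CommRingCat.of K) := g
  haveI : IsProper g' := ‹IsProper g›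
  haveI : IsLocallyNoetherian C := LocallyOfFiniteType.isLocallyNoetherian g'
  haveI : CompactSpace C := QuasiCompact.compactSpace_of_compactSpace g'
  haveI : IsNoetherian C := ⟨⟩
  have hnor : Pi1.IsNormalScheme C := fun c =>
    haveI := hC c
    ⟨Groth.Agent.RegLoc6.isDomain_of_isRegularLocalRing _, Groth.Agent.RegLoc6.isIntegrallyClosed_of_isRegularLocalRing _⟩
  obtain ⟨hopen, hdisj⟩ := Groth.Agent.S9799.result C (fun U _ =>
    haveI : NoetherianSpace ↥U := Topology.IsEmbedding.subtypeVal.isInducing.noetherianSpace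
    TopologicalSpace.NoetherianSpace.finite_irreducibleComponents) hnor
  let J : Type u := {W : Set C // W ∈ irreducibleComponents (C : Type u)}
  haveI : Finite J := (TopologicalSpace.NoetherianSpace.finite_irreducibleComponents (α := C)).to_subtype
  let O : J → C.Opens := fun a => ⟨a.1, hopen a.1 a.2⟩
  haveI : AlgebraicGeometry.IsReduced C := by
    haveI : ∀ c : C, _root_.IsReduced (C.presheaf.stalk c) := fun c => by
      haveI := (hnor c).1
      infer_instance
    exact isReduced_of_isReduced_stalk _
  haveI hint : ∀ a, IsIntegral (O a : Scheme.{u}) := fun a => by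
    haveI : IrreducibleSpace (O a : Scheme.{u}) := Subtype.irreducibleSpace a.2.1
    exact isIntegral_of_irreducibleSpace_of_isReduced _
  haveI hcl : ∀ a, IsClosedImmersion (O a).ι := fun a => IsClosedImmersion.of_isPreimmersion _ (by
    rw [Scheme.Opens.range_ι]
    exact isClosed_of_mem_irreducibleComponents a.1 a.2)
  have hCreg : ∀ a, ∀ c : (O a : Scheme.{u}), IsRegularLocalRing ((O a : Scheme.{u}).presheaf.stalk c) ∧
      ringKrullDim ((O a : Scheme.{u}).presheaf.stalk c) ≤ 1 := fun a c => by
    haveI := hC ((O a).ι c)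
    refine ⟨IsRegularLocalRing.of_ringEquiv (asIso ((O a).ι.stalkMap c)).commRingCatIsoToRingEquiv, ?_⟩
    exact (Groth.Agent.SchTop.ringKrullDim_stalk_le c).trans (hdimC a.1 a.2).le
  have hres : ∀ a : J, ∃ (X : Scheme.{u}) (_ : IsIntegral X) (f : X ⟶ S) (i : (O a : Scheme.{u}) ⟶ X),
      IsProper f ∧ Flat f ∧ (∀ x : X, IsRegularLocalRing (X.presheaf.stalk x)) ∧
      IsPullback i ((O a).ι ≫ g') f j := by
    intro a
    haveI : IsProper ((O a).ι ≫ g') := inferInstance
    have hd : topologicalKrullDim (O a : Scheme.{u}) = 1 := hdimC a.1 a.2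
    obtain ⟨Y, hY, p, i, hp, sq, hgen⟩ := Groth.Agent.H26.DedMin.exists_closure j ((O a).ι ≫ g') hd.le
    haveI := hp
    haveI : IsLocallyNoetherian Y := LocallyOfFiniteType.isLocallyNoetherian p
    haveI : CompactSpace Y := QuasiCompact.compactSpace_of_compactSpace p
    haveI : IsNoetherian Y := ⟨⟩
    haveI : Y.IsSeparated := ⟨by
      rw [← Limits.terminal.comp_from p]
      infer_instance⟩
    obtain ⟨X, φ, hX, hreg', -, hφ, V, hV, hiso⟩ := Groth.Agent.SurfRes.exists_projective_resolution p hexc
      (Groth.Agent.H26.DedMin.dim_le_two j hj ((O a).ι ≫ g') p i sq hgen hdimS.le hd)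
    haveI := hX
    haveI := hφ
    haveI := hiso
    have hbir := Groth.Agent.RegRes.isIso_generic_of_restrict φ V hV
    obtain ⟨i', sq', hi'⟩ := Groth.Agent.H26.DedMin.isPullback_of_modification j hj (hCreg a) ((O a).ι ≫ g') p i sq hgen φ hbir
    have hgenS : (φ ≫ p) (genericPoint X) = η := by
      rw [Scheme.Hom.comp_apply, Groth.Agent.SurfSeq.map_generic φ hbir, ← hgen, ← Scheme.Hom.comp_apply, sq.w,
        Scheme.Hom.comp_apply]
      exact hj _
    haveI : Flat (φ ≫ p) := Groth.Agent.DimFormula.flat_of_regular_dim_le_one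
      (fun s => ⟨hreg s, (Groth.Agent.SchTop.ringKrullDim_stalk_le s).trans hdimS.le⟩) (φ ≫ p)
      fun z hz => by rw [← hz (genericPoint X) (genericPoint_specializes z)]; exact hgenS
    exact ⟨X, hX, φ ≫ p, i', inferInstance, inferInstance, hreg', sq'⟩
  choose X hXint f i hfP hfF hXreg hsq using hres
  haveI := hfP
  haveI : IsProper (Limits.Sigma.desc f) := Groth.Agent.H23.PiecesProper.isProper_desc f (locallyFinite_of_finite _)
  haveI : Flat (Limits.Sigma.desc f) := IsZariskiLocalAtSource.sigmaDesc (P := @Flat) hfF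
  let fM := Limits.Sigma.desc f
  -- the components as a coproduct
  have hcov : ∀ c : C, ∃ a : J, c ∈ O a := fun c => by
    obtain ⟨W, hW, hc⟩ := Set.mem_sUnion.1 ((sUnion_irreducibleComponents (X := C)).ge (Set.mem_univ c))
    exact ⟨⟨W, hW⟩, hc⟩
  have hCcol := nonempty_isColimit_cofanMk_of (fun a => (O a).ι) (top_unique fun c _ => by
      obtain ⟨a, ha⟩ := hcov c
      exact TopologicalSpace.Opens.mem_iSup.2 ⟨a, by rwa [Scheme.Opens.opensRange_ι]⟩)
    (fun a b hab => by
      show Disjoint (O a).ι.opensRange (O b).ι.opensRange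
      rw [Scheme.Opens.opensRange_ι, Scheme.Opens.opensRange_ι, ← TopologicalSpace.Opens.coe_disjoint]
      exact hdisj a.1 a.2 b.1 b.2 fun h => hab (Subtype.ext h))
  let T := pullback fM j
  let ψ : ∀ a, (O a : Scheme.{u}) ⟶ T := fun a => pullback.lift (i a ≫ Sigma.ι X a) ((O a).ι ≫ g')
    (by rw [Category.assoc, Limits.Sigma.ι_desc]; exact (hsq a).w)
  have hψ : ∀ a, IsPullback (ψ a) (i a) (pullback.fst fM j) (Sigma.ι X a) := fun a => by
    refine IsPullback.of_right ?_ (pullback.lift_fst _ _ _) (IsPullback.of_hasPullback fM j).flip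
    rw [pullback.lift_snd, Limits.Sigma.ι_desc]
    exact (hsq a).flip
  haveI hψo : ∀ a, IsOpenImmersion (ψ a) := fun a =>
    MorphismProperty.of_isPullback (P := @IsOpenImmersion) (hψ a).flip inferInstance
  have hψr : ∀ a, Set.range (ψ a) = pullback.fst fM j ⁻¹' Set.range (Sigma.ι X a) := fun a => by
    have h1 : ψ a = (hψ a).isoPullback.hom ≫ pullback.fst _ _ := (hψ a).isoPullback_hom_fst.symm
    rw [h1, Scheme.Hom.comp_base, TopCat.coe_comp, Set.range_comp,
      Set.range_eq_univ.mpr (hψ a).isoPullback.hom.surjective, Set.image_univ, Scheme.Pullback.range_fst]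
  have hTcol := nonempty_isColimit_cofanMk_of ψ (top_unique fun t _ => by
      obtain ⟨a, x, hx⟩ := Groth.Agent.H23.PiecesProper.exists_eq (W := X) (pullback.fst fM j t)
      exact TopologicalSpace.Opens.mem_iSup.2 ⟨a, (hψr a).ge ⟨x, hx⟩⟩)
    (fun a b hab => by
      show Disjoint (ψ a).opensRange (ψ b).opensRange
      rw [← TopologicalSpace.Opens.coe_disjoint]
      show Disjoint (Set.range (ψ a)) (Set.range (ψ b))
      rw [hψr a, hψr b]
      exact (TopologicalSpace.Opens.coe_disjoint.mpr (disjoint_opensRange_sigmaι X a b hab)).preimage _)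
  obtain ⟨hCc⟩ := hCcol
  obtain ⟨hTc⟩ := hTcol
  let e : C ≅ T := hCc.coconePointUniqueUpToIso hTc
  have he : ∀ a, (O a).ι ≫ e.hom = ψ a := fun a => hCc.comp_coconePointUniqueUpToIso_hom hTc ⟨a⟩
  refine ⟨∐ X, fM, e.hom ≫ pullback.fst fM j, inferInstance, inferInstance, fun z => ?_, ?_⟩
  · obtain ⟨a, x, rfl⟩ := Groth.Agent.H23.PiecesProper.exists_eq z
    haveI := hXreg a x
    exact IsRegularLocalRing.of_ringEquiv (asIso ((Sigma.ι X a).stalkMap x)).commRingCatIsoToRingEquiv.symm
  · refine IsPullback.of_iso (IsPullback.of_hasPullback fM j) e.symm (Iso.refl _) (Iso.refl _) (Iso.refl _)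
      (by simp) ?_ (by simp) (by simp [j, η, fM])
    rw [Iso.refl_hom, Category.comp_id, Iso.symm_hom, Iso.eq_inv_comp]
    refine hCc.hom_ext fun ⟨a⟩ => ?_
    show (O a).ι ≫ e.hom ≫ pullback.snd fM j = (O a).ι ≫ g
    rw [← Category.assoc, he]
    exact pullback.lift_snd _ _ _

end Groth.Agent.S15950
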