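import Groth.Statements.S15957
import Groth.Agent.NLft.Extend

set_option autoImplicit false
universe u
open Neron

namespace Groth.Agent.S15957

open CategoryTheory AlgebraicGeometry in
/-- (ii) ⇒ (i): let R be a discrete valuation ring with field of fractions K and G a smooth separated
group scheme over Spec R. Suppose that for every local extension R ⊆ R' of discrete valuation rings
of ramification index one (the maximal ideal of R generates that of R' and the residue field
extension is separable, i.e. geometrically reduced) with R' strictly Henselian, and K' the fraction
field of R', every K'-valued point of G over R extends to an R'-valued point. Then G is a Néron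
lft-model of its generic fibre: for every smooth scheme Y over Spec R, restriction to generic fibres
is a bijection from morphisms Y → G over R onto morphisms Y_K → G_K over K. (The published statement
is the equivalence of this criterion, of the Néron lft property, and of a third intermediate
criterion; only this implication is stated.) -/
theorem result
    (R : Type u) [CommRing R] [IsDomain R] [IsDiscreteValuationRing R]
    (G : Over (Spec (CommRingCat.of R))) [GrpObj G] [Smooth G.hom] [IsSeparated G.hom]
    (h : ∀ (R' : Type u) [CommRing R'] [IsDomain R'] [IsDiscreteValuationRing R'] [Algebra R R']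
        [IsLocalHom (algebraMap R R')] [HenselianLocalRing R'] [IsSepClosed (IsLocalRing.ResidueField R')],
      (IsLocalRing.maximalIdeal R).map (algebraMap R R') = IsLocalRing.maximalIdeal R' →
      Algebra.IsGeometricallyReduced (IsLocalRing.ResidueField R) (IsLocalRing.ResidueField R') →
      ∀ x : Spec (CommRingCat.of (FractionRing R')) ⟶ G.left,
        x ≫ G.hom = Spec.map (CommRingCat.ofHom ((algebraMap R' (FractionRing R')).comp (algebraMap R R'))) →
        ∃ y : Spec (CommRingCat.of R') ⟶ G.left, y ≫ G.hom = Spec.map (CommRingCat.ofHom (algebraMap R R')) ∧
          Spec.map (CommRingCat.ofHom (algebraMap R' (FractionRing R'))) ≫ y = x) :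
    ∀ Y : Over (Spec (CommRingCat.of R)), Smooth Y.hom →
      Function.Bijective (fun g : Y ⟶ G => (Neron.genericFibre R).map g) := by
  intro Y hY
  haveI : Smooth Y.hom := hY
  let j := Spec.map (CommRingCat.ofHom (algebraMap R (FractionRing R)))
  constructor
  · intro g₁ g₂ hg
    have h' := congrArg (fun k => Over.Hom.left k ≫ CategoryTheory.Limits.pullback.fst G.hom j) hg
    replace h' : CategoryTheory.Limits.pullback.fst Y.hom j ≫ g₁.left =
        CategoryTheory.Limits.pullback.fst Y.hom j ≫ g₂.left :=
      (CategoryTheory.Limits.pullback.lift_fst _ _ _).symm.trans
        (h'.trans (CategoryTheory.Limits.pullback.lift_fst _ _ _))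
    obtain ⟨g, -, hu⟩ := Groth.Agent.NLft.existsUnique_extension_points (X := Y) (G := G) h
      (CategoryTheory.Limits.pullback.fst Y.hom j ≫ g₁.left) (by rw [Category.assoc, Over.w])
    exact Over.OverMorphism.ext ((hu _ ⟨Over.w g₁, rfl⟩).trans (hu _ ⟨Over.w g₂, h'.symm⟩).symm)
  · intro k
    obtain ⟨g, ⟨hg, hg0⟩, -⟩ := Groth.Agent.NLft.existsUnique_extension_points (X := Y) (G := G) h
      (Over.Hom.left k ≫ CategoryTheory.Limits.pullback.fst G.hom j) (by
        rw [Category.assoc, CategoryTheory.Limits.pullback.condition, ← Category.assoc,
          CategoryTheory.Limits.pullback.condition]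
        exact congrArg (· ≫ j) (Over.w k))
    refine ⟨Over.homMk g hg, ?_⟩
    apply Over.OverMorphism.ext
    apply CategoryTheory.Limits.pullback.hom_ext
    · exact (CategoryTheory.Limits.pullback.lift_fst _ _ _).trans hg0
    · exact (CategoryTheory.Limits.pullback.lift_snd _ _ _).trans (Over.w k).symm

end Groth.Agent.S15957
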