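import Groth.Statements.S1596
import Groth.Agent.CurveCover.FamilyH0
import Groth.Agent.S10831

set_option autoImplicit false
set_option backward.isDefEq.respectTransparency false
set_option backward.isDefEq.respectTransparency.types false
universe u
open CategoryTheory CategoryTheory.Limits AlgebraicGeometry
open Curves

namespace Groth.Agent.S1596

/-- Let f : X → S be a proper morphism of schemes that is at-worst-nodal of relative dimension one with
geometrically connected fibres. Then R¹f_*O_X is a finite locally free O_S-module and R^q f_*O_X = 0
for every q ≥ 2. The published statement also includes the compatibility of these direct images with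
base change, which is not asserted here. (Existence of injective resolutions in the category of
O_X-modules is carried as an instance binder.) -/
theorem result {X S : Scheme.{u}} (f : X ⟶ S) [IsProper f] (hf : Curv2.IsNodalFamily f)
    [GeometricallyConnected f] [HasInjectiveResolutions X.Modules] :
    FlatMod.IsFinLocFree ((Coh.Rpush f 1).obj (Coh.structureModule X)) ∧
      ∀ q : ℕ, 2 ≤ q → IsZero ((Coh.Rpush f q).obj (Coh.structureModule X)) := by
  obtain ⟨hfl, hlfp, hfib⟩ := hf
  haveI := hfl
  haveI := hlfp
  have hdim : ∀ s : S, topologicalKrullDim ↥(f.fiber s) ≤ ((1 : ℕ) : WithBot ℕ∞) := fun s => by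
    rw [Groth.Agent.S10831.result ↥(f.fiber s)]
    exact iSup₂_le fun Z hZ => ((hfib s).1 Z hZ).le
  have h0 : ∀ s : S, Models.hRank ↥(S.residueField s) (f.fiber s) (f.fiberToSpecResidueField s)
      (Coh.structureModule (f.fiber s)) 0 = 1 := fun s => by
    haveI : IsProper (f.fiberToSpecResidueField s) := MorphismProperty.pullback_snd _ _ inferInstance
    haveI := Groth.Agent.CurveCover.geometricallyReduced_of_nodalCurve (k := S.residueField s)
      (f.fiberToSpecResidueField s) (hfib s)
    exact Groth.Agent.CurveCover.hRank_zero_eq_one_fiber f s
  exact ⟨Groth.Agent.H26.FibModel.isFinLocFree_Rpush_one f (fun s => by exact_mod_cast hdim s) h0,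
    fun q hq => Groth.Agent.CurveCover.isZero_Rpush_of_fibre_dim f hdim (by omega)⟩

end Groth.Agent.S1596
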