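import Groth.Statements.S15963
import Groth.Agent.HTopAwn.Normal
-- import your own Groth.Agent.* helpers here

set_option autoImplicit false
universe u
open HTop

namespace Groth.Agent.S15963

open CategoryTheory AlgebraicGeometry in
/-- Let S be a reduced Noetherian scheme, π : S̃ → S its normalisation (S̃ has integrally closed local
domains, π is integral and an isomorphism over a dense open subset of S with dense preimage), ν : X'
→ S a seminormalization of S (X' seminormal, ν a universal homeomorphism with residue-field
isomorphisms, initial among such) and g : S̃ → X' a morphism with g followed by ν equal to π. Then ν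
and g are scheme-theoretically dominant (the structure sheaf maps injectively into the direct
image), and if π is finite then so are ν and g. -/
theorem result {S Sn X' : Scheme.{u}}
    [IsNoetherian S] [IsReduced S]
    (π : Sn ⟶ S) [IsIntegralHom π] (hn : Pi1.IsNormalScheme Sn)
    (hbir : ∃ U : S.Opens, Dense (U : Set S) ∧ Dense ((π ⁻¹ᵁ U : Sn.Opens) : Set Sn) ∧ IsIso (π ∣_ U))
    (ν : X' ⟶ S) (hν : HTop.IsSeminormalization ν) (hX' : HTop.IsSeminormal X')
    (g : Sn ⟶ X') (hg : g ≫ ν = π) :
    (IsSchemeTheoreticallyDominant ν ∧ IsSchemeTheoreticallyDominant g) ∧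
      (IsFinite π → IsFinite ν ∧ IsFinite g) := Groth.Agent.HTopAwn.dominant_and_finite π hbir ν hν.1.1 hX' g hg

end Groth.Agent.S15963
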