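import Groth.Statements.S1597
import Mathlib
import Groth.Agent.CplRegular.Regular

set_option autoImplicit false
universe u
open CategoryTheory CategoryTheory.Limits AlgebraicGeometry
open Resolve

namespace Groth.Agent.S1597

/-- Let A be a Noetherian local ring with completion A^, X a scheme proper over Spec A and Y its base
change to Spec A^. Then all local rings of X are regular if and only if all local rings of Y are
regular. -/
theorem result (A : Type u) [CommRing A] [IsLocalRing A] [IsNoetherianRing A]
    (X : Scheme.{u}) (f : X ⟶ Spec (CommRingCat.of A)) [IsProper f] :
    (∀ x : X, IsRegularLocalRing (X.presheaf.stalk x)) ↔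
      ∀ y : Curv2.bcCpl A f, IsRegularLocalRing ((Curv2.bcCpl A f).presheaf.stalk y) := by
  exact Groth.Agent.CplRegular.regular_all_iff A f

end Groth.Agent.S1597
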