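import Groth.Statements.S9704
import Groth.Agent.ProjCl17.HProj
-- import your own Groth.Agent.* helpers here

set_option autoImplicit false
universe u
open CategoryTheory CategoryTheory.Limits AlgebraicGeometry
open Mor

set_option backward.isDefEq.respectTransparency false
set_option backward.isDefEq.respectTransparency.types false
set_option linter.style.haveILetI false
open AlgebraicGeometry CategoryTheory CategoryTheory.Limits
open Groth.Agent

namespace Groth.Agent.S9704

/-- A morphism f : X ⟶ S is locally projective if and only if S has an open covering by opens U such
that each restriction f⁻¹(U) ⟶ U is H-projective (a closed immersion into some P^n_U followed by the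
projection). Here f⁻¹(U) ⟶ U projective means isomorphic over U to the relative Proj of a
quasi-coherent graded algebra generated by its finite-type degree-one part; the published definition
uses closed subschemes of P(E) with E of finite type, an equivalent condition. -/
theorem result {X S : Scheme.{u}} (f : X ⟶ S) :
    RelProj.IsLocallyProjective f ↔ ∀ s : S, ∃ U : S.Opens, s ∈ U ∧ RelProj.IsHProjective (f ∣_ U) := by
  constructor
  · intro h s
    obtain ⟨U, hs, hU⟩ := h s
    obtain ⟨V, hV, hsV, hle⟩ := exists_isAffineOpen_mem_and_subset (U := U) hs
    haveI : IsAffine V.toScheme := hV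
    refine ⟨V, hsV, ProjCl17.isHProjective_of_isProjective_of_isAffine ?_⟩
    have hsq : IsPullback (X.homOfLE (f.preimage_mono hle)) (f ∣_ V) (f ∣_ U) (S.homOfLE hle) := by
      refine IsPullback.of_right ?_ ?_ (isPullback_morphismRestrict f U).flip
      · rw [Scheme.homOfLE_ι, Scheme.homOfLE_ι]
        exact (isPullback_morphismRestrict f V).flip
      · rw [← cancel_mono U.ι]
        simp only [Category.assoc, morphismRestrict_ι, Scheme.homOfLE_ι, Scheme.homOfLE_ι_assoc]
    exact ProjCl17.isProjective_baseChange hsq hU
  · intro h s
    obtain ⟨U, hs, hU⟩ := h s
    exact ⟨U, hs, ProjCl17.isProjective_of_isHProjective hU⟩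

end Groth.Agent.S9704
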