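import Groth.Statements.S15979
import Groth.Agent.H23.AmpleCut
import Groth.Agent.H23.CycFamily
import Groth.Agent.H23.SymbolicDivisor
import Groth.Agent.CanonEval.Thick
import Groth.Agent.ProjCl17.HProj
import Groth.Agent.S9704
import Groth.Agent.AmpleVan.Pull
import Groth.Agent.H28.RegTwist
import Groth.Agent.H28.PnFlat
import Groth.Agent.ModPairLib.Quot
import Groth.Agent.BlowUpLib.Glue
import Groth.Agent.S8862
import Groth.Agent.CycLib.DivPush
import Groth.Agent.FibDim.RelDim
-- import your own Groth.Agent.* helpers here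

set_option autoImplicit false
universe u
open IntSh

namespace Groth.Agent.S15979

open CategoryTheory CategoryTheory.Limits AlgebraicGeometry TopologicalSpace in
theorem exists_ample_hproj {S Y : Scheme.{u}} [IsAffine S] [CompactSpace Y] (q : Y ⟶ S)
    (hq : RelProj.IsHProjective q) : ∃ L : Y.Modules, CohB1.IsAmple L := by
  obtain ⟨N, ι, hι, -⟩ := hq
  haveI := H28.PnFlat.isProper_pr N S
  haveI : CompactSpace ↥(KRR.PY N S) := QuasiCompact.compactSpace_of_compactSpace (KRR.pr N S)
  haveI : IsAffineHom (pullback.fst (CohB1.ProjSpace.toSpec N (ULift.{u} ℤ)) (specULiftZIsTerminal.from S)) :=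
    MorphismProperty.pullback_fst (P := @IsAffineHom) _ _ inferInstance
  have hL : CohB1.IsAmple (Twist.twistOver N S 1) :=
    H28.RegTwist.isAmple_pull (pullback.fst (CohB1.ProjSpace.toSpec N (ULift.{u} ℤ)) (specULiftZIsTerminal.from S))
      (H28.RegTwist.isAmple_O1 N)
  exact ⟨_, AmpleVan.isAmple_pullback_of_isEmbedding ι ι.isClosedEmbedding.isEmbedding hL⟩

open CategoryTheory CategoryTheory.Limits AlgebraicGeometry TopologicalSpace in
/-- A finite union of effective Cartier supports is one. -/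
theorem exists_cartier_union {X : Scheme.{u}} (M : Finset X)
    (h : ∀ ξ ∈ M, ∃ I : X.IdealSheafData, FGA.IsEffCartier I ∧ (I.support : Set X) = closure {ξ}) :
    ∃ I : X.IdealSheafData, FGA.IsEffCartier I ∧ (I.support : Set X) = ⋃ ξ ∈ M, closure {ξ} := by
  classical
  induction M using Finset.induction with
  | empty => exact ⟨⊤, BlowUpLib.isEffCartier_top X, by simp⟩
  | insert ξ M _ ih =>
    obtain ⟨I, hI, hIs⟩ := h ξ (Finset.mem_insert_self _ _)
    obtain ⟨J, hJ, hJs⟩ := ih fun z hz => h z (Finset.mem_insert_of_mem hz)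
    refine ⟨I * J, ModPairLib.isEffCartier_mul hI hJ, ?_⟩
    rw [Scheme.IdealSheafData.support_mul, Closeds.coe_sup, hIs, hJs, Finset.set_biUnion_insert]

open CategoryTheory CategoryTheory.Limits AlgebraicGeometry in
/-- Let π : X → Y be a surjective locally projective morphism between normal separated Noetherian
integral schemes which is equidimensional in the sense that all fibres π⁻¹(y), y ∈ Y, have the same
Krull dimension d. If X is ℚ-factorial, so is Y. Here a normal Noetherian integral scheme is called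
ℚ-factorial when for every point ξ whose local ring has dimension one the prime divisor given by the
closure of ξ is, as a set, the support of some effective Cartier divisor (equivalently: some
positive multiple of every Weil divisor is Cartier). -/
theorem result
    {X Y : Scheme.{u}} [IsNoetherian X] [IsNoetherian Y] [IsIntegral X] [IsIntegral Y]
    [X.IsSeparated] [Y.IsSeparated]
    (hXn : Pi1.IsNormalScheme X) (hYn : Pi1.IsNormalScheme Y)
    (π : X ⟶ Y) (hπ : RelProj.IsLocallyProjective π) [Surjective π]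
    (d : ℕ) (hd : ∀ y : Y, topologicalKrullDim (↥(π.fiber y) : Type u) = d)
    (hX : ∀ ξ : X, ringKrullDim (X.presheaf.stalk ξ) = 1 →
      ∃ I : X.IdealSheafData, FGA.IsEffCartier I ∧ (I.support : Set X) = closure {ξ}) :
    ∀ η : Y, ringKrullDim (Y.presheaf.stalk η) = 1 →
      ∃ J : Y.IdealSheafData, FGA.IsEffCartier J ∧ (J.support : Set Y) = closure {η} := by
  intro η hη
  classical
  haveI : IsProper π := by
    choose U hU hUp using (S9704.result π).1 hπ
    refine IsZariskiLocalAtTarget.of_iSup_eq_top (P := @IsProper) (fun y : Y => U y)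
      (top_le_iff.1 fun y _ => TopologicalSpace.Opens.mem_iSup.2 ⟨y, hU y⟩) fun y => ?_
    obtain ⟨m, i, hi, he⟩ := hUp y
    haveI : IsProper (CohB1.ProjSpaceOver.toBase m (U y).toScheme) := Groth.Agent.H28.PnFlat.isProper_pr m _
    rw [← he]
    infer_instance
  -- the projection is open, with fibres of dimension at most `d`
  have hd' : ∀ y : Y, topologicalKrullDim ↥((Set.univ : Set X) ∩ π ⁻¹' {y}) = d := fun y => by
    rw [Set.univ_inter, ← (π.fiberHomeo y).isHomeomorph.topologicalKrullDim_eq]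
    exact hd y
  obtain ⟨hopen, -⟩ := H23.CycFamily.component π d hYn isClosed_univ
    (IrreducibleSpace.isIrreducible_univ X) (by rw [Set.image_univ, π.surjective.range_eq]) hd'
  have hopen' : IsOpenMap π := fun U hU => by
    have := hopen U hU
    rwa [Set.univ_inter] at this
  have hrd : ∀ a : X, FibDim.rd π a ≤ d := fun a => by
    have h1 : ((FibDim.rd π a : ℕ∞) : WithBot ℕ∞) ≤ topologicalKrullDim ↥(π.fiber (π a)) := by
      rw [← FibDim.dim_closure_inter_fibre π a, (π.fiberHomeo _).isHomeomorph.topologicalKrullDim_eq]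
      exact H23.TopDim.dim_le_dim_of_subset Set.inter_subset_right
    rw [hd] at h1
    exact_mod_cast h1
  have hgen : π (genericPoint X) = genericPoint Y :=
    ((genericPoint_spec X).image π.continuous).eq (by
      rw [Set.image_univ, π.surjective.range_eq, closure_univ]
      exact genericPoint_spec Y)
  have hηgen : genericPoint Y ∉ closure ({η} : Set Y) := fun h => by
    have he := ((specializes_iff_mem_closure.2 h).antisymm ((genericPoint_spec Y).specializes (Set.mem_univ η))).eq
    have h0 : Order.coheight η = 0 := Order.coheight_eq_zero.2 fun b _ => by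
      show η ⤳ b
      rw [he]
      exact (genericPoint_spec Y).specializes (Set.mem_univ b)
    rw [ringKrullDim_stalk_eq_coheight, h0] at hη
    exact zero_ne_one hη
  -- the maximal points of the preimage
  let E : Set X := π ⁻¹' closure {η}
  have hE : IsClosed E := isClosed_closure.preimage π.continuous
  haveI : QuasiSober ↥E := hE.isClosedEmbedding_subtypeVal.quasiSober
  let M : Set X := {ξ ∈ E | ∀ t ∈ E, t ⤳ ξ → t = ξ}
  have hMfin : M.Finite := by
    obtain ⟨𝒮, h𝒮f, h𝒮c, h𝒮i, hU⟩ := TopologicalSpace.NoetherianSpace.exists_finite_set_isClosed_irreducible hE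
    haveI := h𝒮f.to_subtype
    refine (Set.finite_range fun C : 𝒮 => (h𝒮i C C.2).genericPoint).subset fun ξ hξ => ?_
    obtain ⟨C, hC, hξC⟩ : ξ ∈ ⋃₀ 𝒮 := hU ▸ hξ.1
    have hg := (h𝒮i C hC).isGenericPoint_genericPoint_closure
    rw [(h𝒮c C hC).closure_eq] at hg
    exact ⟨⟨C, hC⟩, hξ.2 _ (hU.symm ▸ ⟨C, hC, hg.mem⟩) (hg.specializes hξC)⟩
  have hMcodim : ∀ ξ ∈ hMfin.toFinset, ∃ I : X.IdealSheafData, FGA.IsEffCartier I ∧
      (I.support : Set X) = closure {ξ} := by
    intro ξ hξ
    obtain ⟨hξE, hξmax⟩ := hMfin.mem_toFinset.1 hξ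
    refine hX ξ ?_
    -- it lies over the generic point of the divisor
    obtain ⟨ζ, hζ, hζη⟩ := FibDim.exists_generization_of_isOpenAt π
      (show EGA43.IsOpenAt π.base ξ from fun U hU => hopen'.image_mem_nhds hU) (specializes_iff_mem_closure.2 hξE)
    · have hζξ : ζ = ξ := hξmax ζ (show π ζ ∈ closure {η} from hζη.symm ▸ subset_closure rfl) hζ
      subst hζξ
      have hfm : FibDim.FibMax π ζ := fun z hz hzf => hξmax z (show π z ∈ closure {η} from
        hzf.trans hζη ▸ subset_closure rfl) hz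
      have h1 := DimFormula.codim_le_add π ζ
      rw [(DimFormula.fb_eq_zero_iff π ζ).2 hfm, add_zero, hζη] at h1
      have h2 : DimFormula.codim η = 1 := by
        have := DimFormula.ringKrullDim_stalk η
        rw [hη] at this
        exact_mod_cast this.symm
      have h3 : DimFormula.codim ζ ≠ 0 := fun h0 => by
        have := (DimFormula.codim_eq_zero_iff.1 h0) (genericPoint X)
          ((genericPoint_spec X).specializes (Set.mem_univ ζ))
        rw [← this, hgen] at hζη
        exact hηgen (hζη ▸ subset_closure rfl)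
      rw [DimFormula.ringKrullDim_stalk, show DimFormula.codim ζ = 1 by omega, Nat.cast_one]
  obtain ⟨I, hI, hIs'⟩ := exists_cartier_union hMfin.toFinset hMcodim
  have hIs : (I.support : Set X) = E := by
    rw [hIs']
    refine Set.Subset.antisymm (Set.iUnion₂_subset fun ξ hξ =>
      closure_minimal (Set.singleton_subset_iff.2 (hMfin.mem_toFinset.1 hξ).1) hE) fun a ha => ?_
    obtain ⟨⟨ξ, hξE⟩, hξa, hmax⟩ := FibDim.exists_maximal_generization (⟨a, ha⟩ : ↥E)
    exact Set.mem_iUnion₂.2 ⟨ξ, hMfin.mem_toFinset.2 ⟨hξE, fun t ht htξ =>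
      congrArg Subtype.val (hmax ⟨t, ht⟩ (subtype_specializes_iff _ _ |>.2 htξ))⟩,
      specializes_iff_mem_closure.1 (hξa.map continuous_subtype_val)⟩
  refine H23.SymbolicDivisor.exists_cartier hYn hη fun y hy => ?_
  -- a finite multisection near `y`
  obtain ⟨U₀, hyU₀, hU₀⟩ := ((S9704.result π).1 hπ) y
  obtain ⟨V, hV, hyV, hle⟩ := exists_isAffineOpen_mem_and_subset (U := U₀) hyU₀
  haveI : IsAffine V.toScheme := hV
  have hVp : RelProj.IsHProjective (π ∣_ V) := by
    refine ProjCl17.isHProjective_of_isProjective_of_isAffine ?_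
    have hsq : IsPullback (X.homOfLE (π.preimage_mono hle)) (π ∣_ V) (π ∣_ U₀) (Y.homOfLE hle) := by
      refine IsPullback.of_right ?_ ?_ (isPullback_morphismRestrict π U₀).flip
      · rw [Scheme.homOfLE_ι, Scheme.homOfLE_ι]
        exact (isPullback_morphismRestrict π V).flip
      · rw [← cancel_mono U₀.ι]
        simp only [Category.assoc, morphismRestrict_ι, Scheme.homOfLE_ι, Scheme.homOfLE_ι_assoc]
    exact ProjCl17.isProjective_baseChange hsq (ProjCl17.isProjective_of_isHProjective hU₀)
  haveI : Nonempty V := ⟨⟨y, hyV⟩⟩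
  haveI : IsIntegral V.toScheme := isIntegral_of_isOpenImmersion V.ι
  haveI : IsLocallyNoetherian V.toScheme := inferInstance
  let X' : X.Opens := π ⁻¹ᵁ V
  haveI : CompactSpace X'.toScheme := isCompact_iff_compactSpace.1 (π.isCompact_preimage hV.isCompact)
  obtain ⟨L, hL⟩ := exists_ample_hproj (π ∣_ V) hVp
  have hgV : genericPoint Y ∈ V := ((genericPoint_spec Y).mem_open_set_iff V.isOpen).2 ⟨y, trivial, hyV⟩
  have hgX : genericPoint X ∈ X' := show π (genericPoint X) ∈ V from hgen.symm ▸ hgV
  have hres : ∀ a : X', V.ι ((π ∣_ V) a) = π (X'.ι a) := fun a => by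
    rw [← Scheme.Hom.comp_apply, morphismRestrict_ι, Scheme.Hom.comp_apply]
  have hw : (π ∣_ V) ⟨genericPoint X, hgX⟩ = genericPoint V.toScheme := by
    refine V.ι.isOpenEmbedding.injective ?_
    rw [hres, genericPoint_eq_of_isOpenImmersion V.ι]
    exact hgen
  have hrdV : ∀ a : X', FibDim.rd (π ∣_ V) a = FibDim.rd π (X'.ι a) := fun a => by
    have h1 : ((FibDim.rd (π ∣_ V) a : ℕ∞) : WithBot ℕ∞) = topologicalKrullDim ↥(closure {a} ∩ (π ∣_ V) ⁻¹' {(π ∣_ V) a}) :=
      (FibDim.dim_closure_inter_fibre (π ∣_ V) a).symm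
    have h2 := FibDim.dim_closure_inter_fibre π (X'.ι a)
    have himg : X'.ι '' (closure {a} ∩ (π ∣_ V) ⁻¹' {(π ∣_ V) a}) = closure {X'.ι a} ∩ π ⁻¹' {π (X'.ι a)} := by
      ext z
      constructor
      · rintro ⟨b, ⟨hb1, hb2⟩, rfl⟩
        exact ⟨specializes_iff_mem_closure.1 ((specializes_iff_mem_closure.2 hb1).map X'.ι.continuous),
          show π (X'.ι b) = π (X'.ι a) by rw [← hres, ← hres, show (π ∣_ V) b = _ from hb2]⟩
      · rintro ⟨hz1, hz2⟩
        have hzX : z ∈ Set.range X'.ι := by
          rw [Scheme.Opens.range_ι]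
          show π z ∈ V
          rw [show π z = π (X'.ι a) from hz2, ← hres]
          exact ((π ∣_ V) a).2
        obtain ⟨b, rfl⟩ := hzX
        refine ⟨b, ⟨specializes_iff_mem_closure.1
          (X'.ι.isOpenEmbedding.isInducing.specializes_iff.1 (specializes_iff_mem_closure.2 hz1)),
          V.ι.isOpenEmbedding.injective ?_⟩, rfl⟩
        rw [hres, hres]
        exact hz2
    have h3 := ((X'.ι.isOpenEmbedding.isEmbedding.homeomorphImage _).trans
      (Homeomorph.setCongr himg)).isHomeomorph.topologicalKrullDim_eq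
    have h4 := h1.trans (h3.trans h2)
    exact_mod_cast h4
  have hwd : d ≤ FibDim.rd (π ∣_ V) ⟨genericPoint X, hgX⟩ := by
    rw [hrdV]
    have h := FibDim.dim_closure_inter_fibre π (genericPoint X)
    rw [(genericPoint_spec X).def, hd'] at h
    exact le_of_eq (by exact_mod_cast h)
  obtain ⟨T, _, j, _, V₁, hyV₁, hfin, hsurj⟩ := H23.AmpleCut.exists_multisection (π ∣_ V) hL
    ⟨genericPoint X, hgX⟩ hw ⟨y, hyV⟩ fun a _ _ => (hrdV a).le.trans ((hrd _).trans hwd)
  let φ := j ≫ (π ∣_ V)
  obtain ⟨U, hU, hyU, hUV₁⟩ := exists_isAffineOpen_mem_and_subset (U := V₁) hyV₁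
  have hUfin : IsFinite (φ ∣_ U) := by
    have hsq : IsPullback (T.homOfLE (φ.preimage_mono hUV₁)) (φ ∣_ U) (φ ∣_ V₁)
        (V.toScheme.homOfLE hUV₁) := by
      refine IsPullback.of_right ?_ ?_ (isPullback_morphismRestrict φ V₁).flip
      · rw [Scheme.homOfLE_ι, Scheme.homOfLE_ι]
        exact (isPullback_morphismRestrict φ U).flip
      · rw [← cancel_mono V₁.ι]
        simp only [Category.assoc, morphismRestrict_ι, Scheme.homOfLE_ι, Scheme.homOfLE_ι_assoc]
    exact MorphismProperty.of_isPullback hsq hfin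
  haveI : IsAffine U.toScheme := hU
  haveI := hUfin
  obtain ⟨hU', hUfin'⟩ := CycLib.finite_app_of_restrict φ hU
  have hDgen : genericPoint V.toScheme ∉ V.ι ⁻¹' closure ({η} : Set Y) := fun h => hηgen (by
    rw [← genericPoint_eq_of_isOpenImmersion V.ι]; exact h)
  have hsupp : ((I.comap (j ≫ X'.ι)).support : Set T) = φ ⁻¹' (V.ι ⁻¹' closure ({η} : Set Y)) := by
    rw [Scheme.IdealSheafData.support_comap]
    ext a
    simp only [TopologicalSpace.Closeds.coe_preimage, Set.mem_preimage]
    rw [hIs]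
    refine (Iff.rfl : _ ↔ π ((j ≫ X'.ι) a) ∈ closure {η}).trans ?_
    rw [Scheme.Hom.comp_apply, ← hres, ← Scheme.Hom.comp_apply]
    rfl
  have hVn : Pi1.IsNormalScheme V.toScheme := fun z => by
    obtain ⟨h1, h2⟩ := hYn (V.ι z)
    let e := (asIso (V.ι.stalkMap z)).commRingCatIsoToRingEquiv
    haveI := MulEquiv.isDomain _ e.symm.toMulEquiv
    exact ⟨inferInstance, IsIntegrallyClosed.of_equiv e⟩
  haveI : Surjective φ := hsurj
  have hIT : FGA.IsEffCartier (I.comap (j ≫ X'.ι)) := by
    refine S8862.result (j ≫ X'.ι) _ hI fun ξ hξ h' => ?_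
    have hξg : ξ = genericPoint T :=
      (hξ _ ((genericPoint_spec T).specializes (Set.mem_univ ξ))).symm
    subst hξg
    have h : genericPoint T ∈ φ ⁻¹' (V.ι ⁻¹' closure ({η} : Set Y)) := by
      rw [← hsupp, Scheme.IdealSheafData.support_comap]
      exact h'
    have hg : φ (genericPoint T) = genericPoint V.toScheme :=
      ((genericPoint_spec T).image φ.continuous).eq (by
        rw [Set.image_univ, φ.surjective.range_eq, closure_univ]
        exact genericPoint_spec _)
    exact hDgen (hg ▸ h)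
  obtain ⟨g, -, hg⟩ := H23.FinitePushEq.exists_local_eq hVn φ hU hU' hUfin' _ hDgen _ hIT hsupp ⟨⟨y, hyV⟩, hyU⟩
  refine ⟨V.ι ''ᵁ U, (V.ι.appIso U).inv g, ⟨⟨y, hyV⟩, hyU, rfl⟩, fun z hz => ?_⟩
  have hzV : z ∈ V := hz.mem_open V.isOpen hyV
  rw [← Scheme.image_basicOpen V.ι g]
  constructor
  · rintro ⟨z', hz', rfl⟩
    exact (hg z' (V.ι.isOpenEmbedding.isInducing.specializes_iff.1 hz)).1 hz'
  · intro hzD
    exact ⟨⟨z, hzV⟩, (hg ⟨z, hzV⟩ (V.ι.isOpenEmbedding.isInducing.specializes_iff.1 hz)).2 hzD, rfl⟩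

end Groth.Agent.S15979
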