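import Groth.Statements.S9705
import Groth.Agent.PnCoh.Chow.Proper

set_option autoImplicit false
set_option backward.isDefEq.respectTransparency false
set_option backward.isDefEq.respectTransparency.types false
set_option linter.style.haveILetI false
universe u
open CategoryTheory CategoryTheory.Limits AlgebraicGeometry
open Mor

namespace Groth.Agent.S9705

/-- Over a quasi-compact quasi-separated scheme S, a morphism f : X ⟶ S is H-projective if and only if
it is H-quasi-projective and proper. -/
theorem result {X S : Scheme.{u}} [CompactSpace ↥S]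
    [QuasiSeparatedSpace ↥S] (f : X ⟶ S) :
    RelProj.IsHProjective f ↔ RelProj.IsHQuasiProjective f ∧ IsProper f := by
  have hP : ∀ n : ℕ, IsProper (CohB1.ProjSpaceOver.toBase n S) := fun n =>
    MorphismProperty.pullback_snd _ _ (PnCoh.Chow.isProper_toSpec n _)
  constructor
  · rintro ⟨n, i, hi, rfl⟩
    haveI := hP n
    exact ⟨⟨n, i, inferInstance, inferInstance, rfl⟩, inferInstance⟩
  · rintro ⟨⟨n, i, hi, hq, rfl⟩, hp⟩
    haveI := hP n
    haveI : UniversallyClosed i := UniversallyClosed.of_comp_of_isSeparated i (CohB1.ProjSpaceOver.toBase n S)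
    exact ⟨n, i, IsClosedImmersion.of_isPreimmersion i i.isClosedMap.isClosed_range, rfl⟩

end Groth.Agent.S9705
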