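import Groth.Statements.S15975
import Groth.Agent.H23.GenericCut
import Groth.Agent.S15979
import Groth.Agent.ProjAmple17.Basic
import Groth.Agent.S9705
-- import your own Groth.Agent.* helpers here

set_option autoImplicit false
set_option backward.isDefEq.respectTransparency false
set_option backward.isDefEq.respectTransparency.types false
set_option linter.style.haveILetI false
universe u
open IntSh

namespace Groth.Agent.S15975

open CategoryTheory CategoryTheory.Limits AlgebraicGeometry in
/-- Let k be a field, X a scheme over k admitting a closed immersion into a projective space over k, Y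
an integral normal scheme separated and of finite type over k, and π : X → Y a proper surjective
k-morphism which is equidimensional in the sense that all fibres π⁻¹(y), y ∈ Y, have the same Krull
dimension d. Then Y admits a closed immersion into a projective space over k. -/
theorem result
    {k : Type u} [Field k] {X Y : Scheme.{u}}
    (sX : X ⟶ Spec (CommRingCat.of k)) (sY : Y ⟶ Spec (CommRingCat.of k))
    (π : X ⟶ Y) (hπ : π ≫ sY = sX)
    (hX : RelProj.IsHProjective sX)
    [IsIntegral Y] [IsSeparated sY] [LocallyOfFiniteType sY] [QuasiCompact sY]
    (hN : Pi1.IsNormalScheme Y)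
    [IsProper π] [Surjective π]
    (d : ℕ) (hd : ∀ y : Y, topologicalKrullDim (↥(π.fiber y) : Type u) = d) :
    RelProj.IsHProjective sY := by
  haveI hXp : IsProper sX := ((S9705.result sX).1 hX).2
  haveI : UniversallyClosed (π ≫ sY) := by rw [hπ]; infer_instance
  haveI : UniversallyClosed sY := UniversallyClosed.of_comp_surjective π sY
  haveI : IsProper sY := {}
  haveI : CompactSpace ↥Y := QuasiCompact.compactSpace_of_compactSpace sY
  have hXa : ∃ L : X.Modules, CohB1.IsAmple L := haveI : CompactSpace X := QuasiCompact.compactSpace_of_compactSpace sX; S15979.exists_ample_hproj sX hX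
  have hle : ∀ x : X, FibDim.rd π x ≤ d := fun x => by
    by_contra h
    have := (FibDim.le_topologicalKrullDim_fiber_iff π (π x) (d + 1)).2 ⟨x, rfl, by omega⟩
    rw [hd] at this
    have : d + 1 ≤ d := by exact_mod_cast this
    omega
  obtain ⟨x, hx, hxd⟩ := (FibDim.le_topologicalKrullDim_fiber_iff π (genericPoint Y) d).1 (hd _).ge
  obtain ⟨M, hM⟩ := H23.GenericCut.exists_ample sY hN d π hXa hle ⟨x, hx, le_antisymm (hle x) hxd⟩
  exact (S9705.result sY).2 ⟨ProjAmple17.exists_immersion_of_isAmple sY hM, inferInstance⟩

end Groth.Agent.S15975
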