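import Groth.Statements.S15976
import Groth.Agent.H23.GenAvoid
-- import your own Groth.Agent.* helpers here

set_option autoImplicit false
universe u
open IntSh

namespace Groth.Agent.S15976

open CategoryTheory CategoryTheory.Limits AlgebraicGeometry Opposite in
/-- Let A be a Noetherian local ring with infinite residue field, V a Noetherian scheme over Spec A, L
an invertible O_V-module generated by finitely many global sections σ_0, …, σ_N (at every point some
σ_i generates L), and F_1, …, F_m coherent O_V-modules. Then some A-linear combination σ of the σ_i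
is F_j-regular for every j, regularity of a global section σ of L with respect to F meaning that the
map F ⊗ O_V → F ⊗ L induced by σ is injective. The combination is expressed through the global
sections σ(1), σ_i(1) ∈ Γ(V, L) and the images in Γ(V, O_V) of the coefficients from A. -/
theorem result
    {A : Type u} [CommRing A] [IsNoetherianRing A] [IsLocalRing A]
    (hA : Infinite (IsLocalRing.ResidueField A))
    {V : Scheme.{u}} [IsNoetherian V] (f : V ⟶ Spec (CommRingCat.of A))
    (L : V.Modules) (hL : PicF.IsInvertible L)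
    {N : ℕ} (σ : Fin (N + 1) → (Coh.structureModule V ⟶ L))
    (hgen : ∀ x : V, ∃ i, x ∈ CohB1.genLocus L (σ i))
    {m : ℕ} (F : Fin m → V.Modules) (hF : ∀ j, Coh.IsCoh (F j)) :
    ∃ (τ : Coh.structureModule V ⟶ L) (a : Fin (N + 1) → A),
      τ.val.app (op ⊤) (1 : V.ringCatSheaf.obj.obj (op ⊤)) =
        ∑ i, f.appTop ((Scheme.ΓSpecIso (CommRingCat.of A)).inv (a i)) •
          (σ i).val.app (op ⊤) (1 : V.ringCatSheaf.obj.obj (op ⊤)) ∧
      ∀ j, Mono (((DCoh.tensorBi (X := V)).obj (F j)).map τ) := by
  haveI := hA
  obtain ⟨τ, a, hτ, hgenτ⟩ := Groth.Agent.H23.GenAvoid.exists_combination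
    ((Scheme.ΓSpecIso (CommRingCat.of A)).inv ≫ f.appTop).hom hL σ hgen (⋃ j, AssSch.Ass (F j))
    (Set.finite_iUnion fun j => ((Groth.Agent.AssPtX.finite_assPoints (hF j) (U := ⊤) isCompact_univ).subset
      fun x hx => ⟨trivial, hx⟩))
  exact ⟨τ, a, hτ, fun j => Groth.Agent.H23.GenAvoid.mono_tensor_of_ass hL (hF j).1 τ
    fun y hy => hgenτ y (Set.mem_iUnion.2 ⟨j, hy⟩)⟩

end Groth.Agent.S15976
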