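import Groth.Statements.S15977
import Groth.Agent.H23.AcyclicRes.Main
-- import your own Groth.Agent.* helpers here

set_option autoImplicit false
universe u
open IntSh

namespace Groth.Agent.S15977

open CategoryTheory CategoryTheory.Limits AlgebraicGeometry in
/-- Let π : X → Y be a projective morphism of Noetherian schemes, F a coherent O_X-module flat over Y
whose support meets every fibre of π in a set of Krull dimension at most d, and assume that π is
flat or that Y carries an ample invertible module. Then every finite locally free O_X-module E has a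
resolution 0 → E → E_0 → ⋯ → E_d → 0 by finite locally free modules E_i with R^p π_*(F ⊗ E_i) = 0
for all p > 0 and all i. (The published statement takes Y connected and d equal to the constant
relative dimension of the support of F; this row asks only that the fibres of the support have
dimension at most d.) The resolution is written as an exact cochain complex C with C^0 ≅ E, C^{i+1}
= E_i and C^i = 0 for i > d + 1. -/
theorem result
    {X Y : Scheme.{u}} [IsNoetherian X] [IsNoetherian Y] (π : X ⟶ Y)
    (hπ : RelProj.IsProjective π)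
    [HasInjectiveResolutions X.Modules]
    (F : X.Modules) (hF : Coh.IsCoh F) (hFf : FlatMod.IsFlatOver π F)
    (d : ℕ) (hd : ∀ y : Y, topologicalKrullDim ↥{x : X | x ∈ CohB1.support F ∧ π.base x = y} ≤ d)
    (hAB : Flat π ∨ ∃ H : Y.Modules, CohB1.IsAmple H)
    (E : X.Modules) (hE : FlatMod.IsFinLocFree E) :
    ∃ (C : CochainComplex X.Modules ℕ) (e : C.X 0 ≅ E),
      C.Acyclic ∧ (∀ i, d + 1 < i → IsZero (C.X i)) ∧ (∀ i, FlatMod.IsFinLocFree (C.X i)) ∧
      ∀ i, 1 ≤ i → ∀ p, 0 < p →
        IsZero ((Coh.Rpush π p).obj (((DCoh.tensorBi (X := X)).obj F).obj (C.X i))) := by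
  obtain ⟨hq, hp⟩ := Groth.Agent.ProjCl17.isQuasiProjective_and_isProper hπ
  haveI := hp
  obtain ⟨C, e, hA, hz, hlf, hC⟩ := Groth.Agent.H23.AcyclicRes.exists_res π hq hAB hF d E hE fun p hpd =>
    Groth.Agent.H23.AcyclicRes.rz_of_dim π (Groth.Agent.CurveTensor.isCoh_tensor hE hF)
      Groth.Agent.CurveTensor.support_tensor_subset d hd p hpd
  refine ⟨C, e, hA, hz, hlf, fun i hi p hp' => ?_⟩
  obtain ⟨p, rfl⟩ : ∃ k, p = k + 1 := ⟨p - 1, by omega⟩
  obtain ⟨ec⟩ := Groth.Agent.H23.PicMul.comm (C.X i) F
  exact Groth.Agent.H28.BlowExact.isZero_Rpush_of_rz π p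
    (Groth.Agent.H28.RKoszul.rz_of_iso π ec _ (hC i hi (p + 1) p.succ_pos))

end Groth.Agent.S15977
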