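import Groth.Statements.S15978
import Groth.Agent.H23.CycFamily
import Groth.Agent.PnCoh.Chow.Proper
import Groth.Agent.H28.PnFlat
-- import your own Groth.Agent.* helpers here

set_option autoImplicit false
universe u
open IntSh

namespace Groth.Agent.S15978

open CategoryTheory CategoryTheory.Limits AlgebraicGeometry in
/-- Let k be an algebraically closed field, X an integral scheme admitting a closed immersion into a
projective space over k, Y an integral normal scheme proper over k, and Z_1, …, Z_n closed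
irreducible subsets of X ×_k Y each mapping onto Y under the second projection with all fibres of
the same Krull dimension d (a family of effective d-cycles of X parametrised by Y). Let B ⊆ Y be a
connected closed subset and F ⊆ X the image under the first projection of S ∩ p_2⁻¹(B), where S = ⋃
Z_i. If F has Krull dimension d, then S ∩ p_2⁻¹(B) = p_1⁻¹(F) ∩ p_2⁻¹(B). (The published statement
is over an arbitrary field with Y a normal variety; for k = ℝ and X = Y = Spec ℂ one point of X ×_k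
Y is such a family with d = 0 and B = Y, while p_1⁻¹(F) ∩ p_2⁻¹(B) has two points, and the published
proof uses irreducibility of products of irreducible closed subsets and a proper birational
flattening of Y; so k is taken algebraically closed and Y proper over k here.) -/
theorem result
    {k : Type u} [Field k] [IsAlgClosed k] {X Y : Scheme.{u}}
    (sX : X ⟶ Spec (CommRingCat.of k)) (sY : Y ⟶ Spec (CommRingCat.of k))
    [IsIntegral X] (hX : RelProj.IsHProjective sX)
    [IsIntegral Y] [IsProper sY] (hN : Pi1.IsNormalScheme Y)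
    (d : ℕ) {n : ℕ} (Z : Fin n → Set ↥(pullback sX sY))
    (hZc : ∀ i, IsClosed (Z i)) (hZi : ∀ i, IsIrreducible (Z i))
    (hZs : ∀ i, (pullback.snd sX sY).base '' Z i = Set.univ)
    (hZd : ∀ i (y : Y), topologicalKrullDim ↥(Z i ∩ (pullback.snd sX sY).base ⁻¹' {y}) = d)
    (B : Set Y) (hB : IsClosed B) (hBc : _root_.IsPreconnected B)
    (hFd : topologicalKrullDim
        ↥((pullback.fst sX sY).base '' ((⋃ i, Z i) ∩ (pullback.snd sX sY).base ⁻¹' B)) = d) :
    (⋃ i, Z i) ∩ (pullback.snd sX sY).base ⁻¹' B =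
      (pullback.fst sX sY).base ⁻¹'
          ((pullback.fst sX sY).base '' ((⋃ i, Z i) ∩ (pullback.snd sX sY).base ⁻¹' B)) ∩
        (pullback.snd sX sY).base ⁻¹' B := by
  haveI : IsProper sX := by
    obtain ⟨m, i, hi, rfl⟩ := hX
    haveI : IsProper (CohB1.ProjSpaceOver.toBase m (Spec (CommRingCat.of k))) := Groth.Agent.H28.PnFlat.isProper_pr m _
    infer_instance
  haveI : IsLocallyNoetherian X := LocallyOfFiniteType.isLocallyNoetherian sX
  haveI : JacobsonSpace ↥(pullback sX sY) :=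
    LocallyOfFiniteType.jacobsonSpace (pullback.fst sX sY ≫ sX)
  haveI : JacobsonSpace ↥X := LocallyOfFiniteType.jacobsonSpace sX
  haveI : JacobsonSpace ↥Y := LocallyOfFiniteType.jacobsonSpace sY
  haveI : IsNoetherian X := by
    haveI : CompactSpace X := QuasiCompact.compactSpace_of_compactSpace sX
    exact {}
  let p := pullback.fst sX sY
  let q := pullback.snd sX sY
  let S : Set ↥(pullback sX sY) := ⋃ i, Z i
  have hS : IsClosed S := isClosed_iUnion_of_finite hZc
  let T := S ∩ q ⁻¹' B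
  have hT : IsClosed T := hS.inter (hB.preimage q.continuous)
  let F : Set X := p '' T
  have hF : IsClosed F := p.isClosedMap _ hT
  have hFd' : topologicalKrullDim ↥F = d := hFd
  have hopen : ∀ U, IsOpen U → IsOpen (q '' (S ∩ U)) := by
    intro U hU
    rw [Set.iUnion_inter, Set.image_iUnion]
    exact isOpen_iUnion fun i =>
      (H23.CycFamily.component q d hN (hZc i) (hZi i) (hZs i) (hZd i)).1 U hU
  have hclp : ∀ {a}, IsClosed {a} → IsClosed {p a} := fun {a} ha => by
    simpa using p.isClosedMap _ ha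
  have hclq : ∀ {a}, IsClosed {a} → IsClosed {q a} := fun {a} ha => by
    simpa using q.closePoints_subset_preimage_closedPoints ha
  -- the image of the `d`-dimensional piece through a closed point of `S` over `B`
  have key : ∀ t, IsClosed {t} → t ∈ T → ∃ C : Set X, IsClosed C ∧ IsIrreducible C ∧ C ⊆ F ∧ p t ∈ C ∧
      (∀ E, IsIrreducible E → E ⊆ F → C ⊆ E → E ⊆ C) ∧
      ∀ w, p w ∈ C → q w = q t → w ∈ S := by
    intro t ht htT
    obtain ⟨i, hti⟩ := Set.mem_iUnion.1 htT.1
    obtain ⟨D, hDi, htD, hDZ, hDq, hDd⟩ :=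
      (H23.CycFamily.component q d hN (hZc i) (hZi i) (hZs i) (hZd i)).2 t hti
    rw [(hclq ht).closure_eq] at hDq
    rw [Set.inter_eq_left.2 hDq] at hDd
    obtain ⟨s, hs, hrs⟩ := H23.CycFamily.exists_slice sX sY (hclq ht)
    have hps : ∀ x, p (s x) = x := fun x => by
      rw [← Scheme.Hom.comp_apply]
      exact congr($(hs) x)
    have hsp : ∀ a, q a = q t → s (p a) = a := fun a ha => by
      obtain ⟨x, rfl⟩ : a ∈ Set.range s := hrs.symm ▸ ha
      rw [hps]
    have himg : s '' (p '' closure D) = closure D := by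
      rw [Set.image_image]
      refine (Set.image_congr fun a ha => ?_).trans (Set.image_id _)
      exact hsp a (hDq ha)
    have hCcl : IsClosed (p '' closure D) := p.isClosedMap _ isClosed_closure
    have hCi : IsIrreducible (p '' closure D) := hDi.closure.image p p.continuous.continuousOn
    have hCF : p '' closure D ⊆ F := Set.image_mono fun a ha =>
      ⟨Set.mem_iUnion.2 ⟨i, hDZ ha⟩, show q a ∈ B by
        rw [show q a = q t from hDq ha]; exact htT.2⟩
    refine ⟨p '' closure D, hCcl, hCi, hCF, ⟨t, htD, rfl⟩, ?_, fun w hw hqw => ?_⟩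
    · intro E hE hEF hCE
      refine H23.CycFamily.mem_irreducibleComponents_of_dim hFd' hCcl hCi hCF ?_ hE hEF hCE
      refine hDd.trans (le_of_eq ?_)
      have hemb : Topology.IsEmbedding s :=
        Function.LeftInverse.isEmbedding hps p.continuous s.continuous
      exact (((hemb.homeomorphImage _).trans (Homeomorph.setCongr himg)).isHomeomorph.topologicalKrullDim_eq).symm
    · obtain ⟨a, ha, hpa⟩ := hw
      rw [← hsp w hqw, ← hpa, hsp a (hDq ha)]
      exact Set.mem_iUnion.2 ⟨i, hDZ ha⟩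
  refine le_antisymm (fun a ha => ⟨⟨a, ha, rfl⟩, ha.2⟩) ?_
  -- it suffices to look at closed points
  suffices H : ∀ w, IsClosed {w} → p w ∈ F → q w ∈ B → w ∈ S by
    intro a ha
    by_contra hcon
    obtain ⟨w, ⟨⟨hw1, hw2⟩, hwS⟩, hw⟩ := nonempty_inter_closedPoints
      (Z := (p ⁻¹' F ∩ q ⁻¹' B) \ S) ⟨a, ha, fun h => hcon ⟨h, ha.2⟩⟩
      (((hF.preimage p.continuous).inter (hB.preimage q.continuous)).isLocallyClosed.inter
        hS.isOpen_compl.isLocallyClosed)
    exact hwS (H w hw hw1 hw2)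
  intro w hw hwF hwB
  obtain ⟨t, ⟨htT, htp⟩, ht⟩ := nonempty_inter_closedPoints (Z := T ∩ p ⁻¹' {p w})
    (by obtain ⟨a, ha, hpa⟩ := hwF; exact ⟨a, ha, hpa⟩)
    (hT.inter ((hclp hw).preimage p.continuous)).isLocallyClosed
  obtain ⟨C, hCc, hCi, hCF, htC, hCmax, -⟩ := key t ht htT
  have hwC : p w ∈ C := (show p t = p w from htp) ▸ htC
  -- the open part of `X` meeting `F` only inside `C`
  obtain ⟨R, hR, hRF, hRC⟩ : ∃ R : Set X, IsClosed R ∧ F ⊆ C ∪ R ∧ ¬C ⊆ R := by
    obtain ⟨𝒮, h𝒮f, h𝒮c, h𝒮i, hU⟩ := TopologicalSpace.NoetherianSpace.exists_finite_set_isClosed_irreducible hF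
    refine ⟨⋃ E ∈ {E ∈ 𝒮 | ¬C ⊆ E}, E, ?_, ?_, ?_⟩
    · exact (h𝒮f.subset fun E hE => hE.1).isClosed_biUnion fun E hE => h𝒮c E hE.1
    · intro x hx
      rw [hU] at hx
      obtain ⟨E, hE, hxE⟩ := hx
      by_cases hCE : C ⊆ E
      · exact Or.inl (hCmax E (h𝒮i E hE) (hU ▸ Set.subset_sUnion_of_mem hE) hCE hxE)
      · exact Or.inr (Set.mem_iUnion₂.2 ⟨E, ⟨hE, hCE⟩, hxE⟩)
    · intro hsub
      have hsub' : C ⊆ ⋃₀ ↑((h𝒮f.subset (fun E hE => hE.1 : {E ∈ 𝒮 | ¬C ⊆ E} ⊆ 𝒮)).toFinset) := by
        rw [Set.Finite.coe_toFinset, Set.sUnion_eq_biUnion]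
        exact hsub
      obtain ⟨E, hE, hCE⟩ := isIrreducible_iff_sUnion_isClosed.1 hCi _
        (fun E hE => h𝒮c E ((Set.Finite.mem_toFinset _).1 hE).1) hsub'
      exact ((Set.Finite.mem_toFinset _).1 hE).2 hCE
  let A1 : Set Y := q '' (S ∩ p ⁻¹' Rᶜ)
  let A0 : Set Y := q '' (p ⁻¹' C \ S)
  have hA1 : IsOpen A1 := hopen _ (hR.isOpen_compl.preimage p.continuous)
  have hA0 : IsOpen A0 := by
    let W : TopologicalSpace.Closeds X := ⟨C, hCc⟩
    let j := (Scheme.IdealSheafData.vanishingIdeal W).subschemeι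
    have hrange : Set.range j = C := Groth.Agent.DimFormula.range_vanishingIdeal W
    have sq : IsPullback (pullback.snd p j) (pullback.fst p j ≫ q) (j ≫ sX) sY :=
      (IsPullback.of_hasPullback p j).flip.paste_vert (IsPullback.of_hasPullback sX sY)
    haveI : UniversallyOpen (j ≫ sX) := UniversallyOpen.of_flat _
    haveI : UniversallyOpen (pullback.fst p j ≫ q) :=
      MorphismProperty.of_isPullback (P := @UniversallyOpen) sq inferInstance
    have hr : Set.range (pullback.fst p j) = p ⁻¹' C := by rw [Scheme.Pullback.range_fst, hrange]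
    have := (pullback.fst p j ≫ q).isOpenMap _ (hS.isOpen_compl.preimage (pullback.fst p j).continuous)
    rwa [Scheme.Hom.comp_base, TopCat.coe_comp, Set.image_comp, Set.image_preimage_eq_inter_range, hr,
      Set.inter_comm] at this
  -- at a closed parameter the two sets are exclusive
  have hdisj : ∀ y ∈ B, IsClosed {y} → y ∈ A1 → y ∉ A0 := by
    rintro y hyB hy hy1 ⟨b, ⟨hbC, hbS⟩, hby⟩
    obtain ⟨t', ⟨⟨htS', htR'⟩, htq'⟩, ht'⟩ := nonempty_inter_closedPoints (Z := S ∩ p ⁻¹' Rᶜ ∩ q ⁻¹' {y})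
      (by obtain ⟨a, ha, hqa⟩ := hy1; exact ⟨a, ha, hqa⟩)
      ((hS.isLocallyClosed.inter (hR.isOpen_compl.preimage p.continuous).isLocallyClosed).inter
        (hy.preimage q.continuous).isLocallyClosed)
    obtain ⟨C', hC'c, hC'i, hC'F, htC', hC'max, hC'S⟩ :=
      key t' ht' ⟨htS', show q t' ∈ B from (show q t' = y from htq').symm ▸ hyB⟩
    have hC'C : C' ⊆ C := by
      rcases (isPreirreducible_iff_isClosed_union_isClosed.1 hC'i.isPreirreducible) C R hCc hR
        (hC'F.trans hRF) with h | h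
      · exact h
      · exact absurd (h htC') htR'
    exact hbS (hC'S b (hC'max C hCi hCF hC'C hbC) (hby.trans (show q t' = y from htq').symm))
  -- every closed parameter is in one of them
  have hcov : B ⊆ A1 ∪ A0 := by
    intro y hyB
    by_contra hcon
    obtain ⟨y', ⟨hy'B, hy'n⟩, hy'⟩ := nonempty_inter_closedPoints (Z := B \ (A1 ∪ A0)) ⟨y, hyB, hcon⟩
      (hB.isLocallyClosed.inter (hA1.union hA0).isClosed_compl.isLocallyClosed)
    obtain ⟨s, hs, hrs⟩ := H23.CycFamily.exists_slice sX sY hy'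
    obtain ⟨c, hcC, hcR⟩ := Set.not_subset.1 hRC
    have hps : p (s c) = c := by
      rw [← Scheme.Hom.comp_apply]
      exact congr($(hs) c)
    have hqs : q (s c) = y' := hrs.le ⟨c, rfl⟩
    by_cases hcS : s c ∈ S
    · exact hy'n (Or.inl ⟨s c, ⟨hcS, show p (s c) ∈ Rᶜ from hps.symm ▸ hcR⟩, hqs⟩)
    · exact hy'n (Or.inr ⟨s c, ⟨show p (s c) ∈ C from hps.symm ▸ hcC, hcS⟩, hqs⟩)
  -- one parameter in the first set
  have hne : (B ∩ A1).Nonempty := by
    obtain ⟨c, hcC, hcR⟩ := Set.not_subset.1 hRC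
    obtain ⟨a, ha, hpa⟩ := hCF hcC
    exact ⟨q a, ha.2, a, ⟨ha.1, show p a ∈ Rᶜ from hpa.symm ▸ hcR⟩, rfl⟩
  have hnot : ¬(B ∩ A0).Nonempty := by
    intro h0
    obtain ⟨z, hzB, hz1, hz0⟩ := hBc A1 A0 hA1 hA0 hcov hne h0
    obtain ⟨y, ⟨hyB, hy1, hy0⟩, hy⟩ := nonempty_inter_closedPoints (Z := B ∩ (A1 ∩ A0)) ⟨z, hzB, hz1, hz0⟩
      (hB.isLocallyClosed.inter (hA1.inter hA0).isLocallyClosed)
    exact hdisj y hyB hy hy1 hy0
  by_contra hcon
  exact hnot ⟨q w, hwB, w, ⟨hwC, hcon⟩, rfl⟩

end Groth.Agent.S15978
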