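import Groth.Statements.S15983
import Mathlib.Algebra.BigOperators.Group.Finset.Basic
import Mathlib.Algebra.BigOperators.Fin
import Mathlib.LinearAlgebra.Matrix.Permutation
import Mathlib.LinearAlgebra.Matrix.Swap
import Mathlib.LinearAlgebra.Matrix.Transvection
import Mathlib.Tactic
-- import your own Groth.Agent.* helpers here

set_option autoImplicit false
universe u v
open W4c3dlvarstrsh

namespace Groth.Agent.S15983

namespace Aux

open Matrix W4c3dlvarstrsh

set_option linter.unusedSectionVars false

/-! ### Signs -/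

section Sign

variable {r : ℕ}

lemma sgn_mul_self (T : Finset (Fin r)) (a : Fin r) : sgn T a * sgn T a = 1 := by
  rw [sgn, ← pow_add, ← two_mul, pow_mul]; simp

lemma sgn_insert (T : Finset (Fin r)) {a b : Fin r} (ha : a ∉ T) :
    sgn (insert a T) b = if a < b then -sgn T b else sgn T b := by
  simp only [sgn, Finset.filter_insert]
  split_ifs with h
  · rw [Finset.card_insert_of_notMem (by simp [ha]), pow_succ, mul_neg_one]
  · rfl

lemma sgn_antisymm (T : Finset (Fin r)) {a b : Fin r} (ha : a ∉ T) (hb : b ∉ T) (hab : a ≠ b) :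
    sgn T a * sgn (insert a T) b = -(sgn T b * sgn (insert b T) a) := by
  rw [sgn_insert T ha, sgn_insert T hb]
  rcases lt_or_gt_of_ne hab with h | h
  · rw [if_pos h, if_neg (lt_asymm h)]; ring
  · rw [if_neg (lt_asymm h), if_pos h]; ring

end Sign

variable {F : Type u} [Field F] {m : ℕ}

section Complex

variable {R : Type v} [CommRing R] {r : ℕ}

lemma delta_sub (c : ℕ) (f g : Cochain F R (m := m) r (c + 1)) :
    delta c (f - g) = delta c f - delta c g := by
  funext T x
  simp only [delta, Pi.sub_apply, ← Finset.sum_sub_distrib]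
  refine Finset.sum_congr rfl fun a _ => ?_
  split_ifs <;> simp [mul_sub]

lemma delta_delta (c : ℕ) (g : Cochain F R (m := m) r (c + 2)) : delta c (delta (c + 1) g) = 0 := by
  funext T x
  show delta c (delta (c + 1) g) T x = 0
  let V : Finset (Fin r) → R := fun U => if h : U.card = c + 2 then g ⟨U, h⟩ x else 0
  let τ : Fin r → Fin r → R := fun a b =>
    if a ∉ T.1 ∧ b ∉ T.1 ∧ a ≠ b then ((sgn T.1 a * sgn (insert a T.1) b : ℤ) : R) * V (insert b (insert a T.1)) else 0
  have e : delta c (delta (c + 1) g) T x = ∑ a : Fin r, ∑ b : Fin r, τ a b := by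
    simp only [delta]
    refine Finset.sum_congr rfl fun a _ => ?_
    by_cases ha : a ∈ T.1
    · rw [dif_neg (by simp [ha])]
      exact (Finset.sum_eq_zero fun b _ => if_neg (by simp [ha])).symm
    · rw [dif_pos ha, Finset.mul_sum]
      refine Finset.sum_congr rfl fun b _ => ?_
      by_cases hb : b ∈ insert a T.1
      · rw [dif_neg (fun h => h hb), mul_zero]
        refine (if_neg ?_).symm
        rintro ⟨-, hb1, hb2⟩
        exact (Finset.mem_insert.mp hb).elim (fun h => hb2 h.symm) hb1
      · rw [dif_pos hb]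
        have hb' : b ≠ a ∧ b ∉ T.1 := by simpa using hb
        simp only [τ, if_pos (show a ∉ T.1 ∧ b ∉ T.1 ∧ a ≠ b from ⟨ha, hb'.2, hb'.1.symm⟩), V,
          dif_pos (show (insert b (insert a T.1)).card = c + 2 by
            rw [Finset.card_insert_of_notMem hb, Finset.card_insert_of_notMem ha, T.2])]
        push_cast
        ring
  rw [e, ← Finset.sum_product']
  refine Finset.sum_involution (fun q _ => (q.2, q.1)) (fun q _ => ?_) (fun q _ hq h => hq ?_)
    (fun _ _ => Finset.mem_univ _) (fun _ _ => rfl)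
  · obtain ⟨a, b⟩ := q
    simp only [τ]
    by_cases h : a ∉ T.1 ∧ b ∉ T.1 ∧ a ≠ b
    · rw [if_pos h, if_pos ⟨h.2.1, h.1, h.2.2.symm⟩, Finset.insert_comm a b,
        sgn_antisymm T.1 h.1 h.2.1 h.2.2]
      push_cast
      ring
    · rw [if_neg h, if_neg fun h' => h ⟨h'.2.1, h'.1, h'.2.2.symm⟩, add_zero]
  · obtain ⟨a, b⟩ := q
    obtain rfl : b = a := congrArg Prod.fst h
    exact if_neg (by simp)

end Complex

/-! ### Pivots -/

section Pivot

open scoped Classical

lemma col_ne (g : GL (Fin (m + 1)) F) (j : Fin (m + 1)) :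
    (Finset.univ.filter fun i => (g : Matrix (Fin (m + 1)) (Fin (m + 1)) F) i j ≠ 0).Nonempty := by
  classical
  by_contra h
  rw [Finset.not_nonempty_iff_eq_empty, Finset.filter_eq_empty_iff] at h
  have := Matrix.det_eq_zero_of_column_eq_zero (A := (g : Matrix (Fin (m + 1)) (Fin (m + 1)) F)) j
    fun i => not_not.mp (h (Finset.mem_univ i))
  exact ((Matrix.isUnit_iff_isUnit_det _).mp g.isUnit).ne_zero this

/-- The pivot of a column. -/
noncomputable def piv (g : GL (Fin (m + 1)) F) (j : Fin (m + 1)) : Fin (m + 1) := by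
  classical exact (Finset.univ.filter fun i => (g : Matrix (Fin (m + 1)) (Fin (m + 1)) F) i j ≠ 0).max' (col_ne g j)

lemma piv_ne (g : GL (Fin (m + 1)) F) (j : Fin (m + 1)) :
    (g : Matrix (Fin (m + 1)) (Fin (m + 1)) F) (piv g j) j ≠ 0 := by
  classical
  have := Finset.max'_mem
    (Finset.univ.filter fun i => (g : Matrix (Fin (m + 1)) (Fin (m + 1)) F) i j ≠ 0) (col_ne g j)
  exact (Finset.mem_filter.mp this).2

lemma le_piv (g : GL (Fin (m + 1)) F) {i j : Fin (m + 1)}
    (h : (g : Matrix (Fin (m + 1)) (Fin (m + 1)) F) i j ≠ 0) : i ≤ piv g j := by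
  classical
  exact Finset.le_max' _ _ (Finset.mem_filter.mpr ⟨Finset.mem_univ i, h⟩)

lemma piv_eq_of (g : GL (Fin (m + 1)) F) {i j : Fin (m + 1)}
    (h : (g : Matrix (Fin (m + 1)) (Fin (m + 1)) F) i j ≠ 0)
    (h' : ∀ k, i < k → (g : Matrix (Fin (m + 1)) (Fin (m + 1)) F) k j = 0) : piv g j = i :=
  le_antisymm (le_of_not_gt fun hlt => piv_ne g j (h' _ hlt)) (le_piv g h)

/-- The weight to be minimised. -/
noncomputable def mu (g : GL (Fin (m + 1)) F) : ℕ :=
  ∑ j : Fin (m + 1), (m + 1 - j.val) * (piv g j).val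

lemma blockOf_mono (J : Finset (Fin m)) : Monotone (blockOf J) := fun i j h =>
  Finset.card_le_card fun k hk => by
    simp only [Finset.mem_filter] at hk ⊢
    exact ⟨hk.1, lt_of_lt_of_le hk.2.1 h, hk.2.2⟩

lemma mem_of_blockOf_eq {J : Finset (Fin m)} {i j : Fin (m + 1)} (h : blockOf J i = blockOf J j)
    {k : Fin m} (h1 : i.val ≤ k.val) (h2 : k.val < j.val) : k ∈ J := by
  by_contra hk
  have hlt : blockOf J i < blockOf J j := by
    refine Finset.card_lt_card ((Finset.ssubset_iff_of_subset ?_).mpr ⟨k, ?_, ?_⟩)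
    · intro l hl
      simp only [Finset.mem_filter] at hl ⊢
      exact ⟨hl.1, lt_trans (lt_of_lt_of_le hl.2.1 h1) h2, hl.2.2⟩
    · simp [h2, hk]
    · simp only [Finset.mem_filter, not_and]
      intro _ hh
      omega
  omega

lemma blockOf_succ_of_mem {J : Finset (Fin m)} {t : Fin m} (ht : t ∈ J) :
    blockOf J t.succ = blockOf J t.castSucc := by
  refine congrArg Finset.card (Finset.filter_congr fun k _ => ?_)
  constructor
  · rintro ⟨hk, hkJ⟩
    refine ⟨?_, hkJ⟩
    have : k.val ≠ t.val := fun h => hkJ (Fin.ext h ▸ ht)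
    simp only [Fin.val_succ, Fin.val_castSucc] at hk ⊢
    omega
  · rintro ⟨hk, hkJ⟩
    refine ⟨?_, hkJ⟩
    simp only [Fin.val_succ, Fin.val_castSucc] at hk ⊢
    omega

/-- Distinct pivots, increasing inside the blocks. -/
def Good (J : Finset (Fin m)) (g : GL (Fin (m + 1)) F) : Prop :=
  Function.Injective (piv g) ∧ ∀ i j, i < j → blockOf J i = blockOf J j → piv g i < piv g j

lemma mem_parabolic_mono {J J' : Finset (Fin m)} (h : J ⊆ J') {p : GL (Fin (m + 1)) F}
    (hp : p ∈ parabolic F J) : p ∈ parabolic F J' := by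
  intro i j hij
  by_contra hne
  have h1 : ¬ blockOf J j < blockOf J i := fun hlt => hne (hp hlt)
  rcases le_or_gt i j with hle | hlt
  · exact absurd (blockOf_mono J' hle) (not_le.mpr hij)
  · have heq : blockOf J i = blockOf J j := le_antisymm (not_lt.mp h1) (blockOf_mono J hlt.le)
    have : blockOf J' i = blockOf J' j := by
      refine le_antisymm ?_ (blockOf_mono J' hlt.le)
      refine Finset.card_le_card fun k hk => ?_
      simp only [Finset.mem_filter] at hk ⊢
      refine ⟨hk.1, ?_, hk.2.2⟩
      by_contra hk'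
      exact hk.2.2 (h (mem_of_blockOf_eq heq.symm (not_lt.mp hk') hk.2.1))
    omega

/-- Two reduced representatives of one coset differ by the Borel subgroup and have the same pivots. -/
theorem unique {J : Finset (Fin m)} {g q : GL (Fin (m + 1)) F} (hq : q ∈ parabolic F J)
    (h : Good J g) (h' : Good J (g * q)) :
    piv (g * q) = piv g ∧ q ∈ parabolic F (∅ : Finset (Fin m)) := by
  classical
  let G := (g : Matrix (Fin (m + 1)) (Fin (m + 1)) F)
  let Q := (q : Matrix (Fin (m + 1)) (Fin (m + 1)) F)
  have hex : ∀ i, ∃ j, Q j i ≠ 0 ∧ piv (g * q) i = piv g j ∧ ∀ l, Q l i ≠ 0 → piv g l ≤ piv g j := by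
    intro i
    obtain ⟨j, hj, hmax⟩ := Finset.exists_max_image (Finset.univ.filter fun l => Q l i ≠ 0)
      (piv g) (col_ne q i)
    have hj' : Q j i ≠ 0 := (Finset.mem_filter.mp hj).2
    have hle : ∀ l, Q l i ≠ 0 → piv g l ≤ piv g j := fun l hl => hmax l (by simp [hl])
    refine ⟨j, hj', piv_eq_of _ ?_ ?_, hle⟩
    · show (G * Q) (piv g j) i ≠ 0
      rw [Matrix.mul_apply, Finset.sum_eq_single j (fun l _ hl => ?_) (by simp)]
      · exact mul_ne_zero (piv_ne g j) hj'
      · by_cases hQ : Q l i = 0
        · rw [hQ, mul_zero]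
        · have : G (piv g j) l = 0 := by
            by_contra hG
            exact hl (h.1 (le_antisymm (hle l hQ) (le_piv g hG)))
          rw [this, zero_mul]
    · intro k hk
      show (G * Q) k i = 0
      rw [Matrix.mul_apply]
      refine Finset.sum_eq_zero fun l _ => ?_
      by_cases hQ : Q l i = 0
      · rw [hQ, mul_zero]
      · have : G k l = 0 := by
          by_contra hG
          exact absurd (le_piv g hG) (not_le.mpr (lt_of_le_of_lt (hle l hQ) hk))
        rw [this, zero_mul]
  choose σ hσQ hσp hσmax using hex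
  have hσinj : Function.Injective σ := fun i i' e => h'.1 (by rw [hσp, hσp, e])
  have hσbij : Function.Bijective σ := Finite.injective_iff_bijective.mp hσinj
  have hσle : ∀ i, blockOf J (σ i) ≤ blockOf J i := fun i => le_of_not_gt fun hlt => hσQ i (hq hlt)
  have hσeq : ∀ i, blockOf J (σ i) = blockOf J i := fun i =>
    (Finset.sum_eq_sum_iff_of_le (fun j _ => hσle j)).mp
      (Equiv.sum_comp (Equiv.ofBijective σ hσbij) (blockOf J)) i (Finset.mem_univ i)
  have hmono : StrictMono σ := by
    intro i i' hii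
    by_contra hcon
    have hle : σ i' ≤ σ i := not_lt.mp hcon
    have heq : blockOf J i = blockOf J i' := le_antisymm (blockOf_mono J hii.le)
      (by rw [← hσeq i', ← hσeq i]; exact blockOf_mono J hle)
    have h1 := h'.2 i i' hii heq
    rw [hσp, hσp] at h1
    rcases hle.lt_or_eq with hlt | hE
    · exact absurd (h.2 _ _ hlt (by rw [hσeq, hσeq, heq])) (lt_asymm h1)
    · rw [hE] at h1
      exact lt_irrefl _ h1
  have hid : ∀ i, σ i = i := fun i => congrFun hmono.eq_id i
  refine ⟨funext fun i => by rw [hσp, hid], ?_⟩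
  intro j i hij
  have hlt : i < j := lt_of_not_ge fun hle => absurd (blockOf_mono (∅ : Finset (Fin m)) hle) (not_le.mpr hij)
  by_contra hne
  have hb : blockOf J j ≤ blockOf J i := le_of_not_gt fun h2 => hne (hq h2)
  have h1 := hσmax i j hne
  rw [hid] at h1
  exact absurd (h.2 i j hlt (le_antisymm (blockOf_mono J hlt.le) hb)) (not_lt.mpr h1)

/-- A weight-minimal element of a coset is reduced. -/
theorem good_of_minimal {J : Finset (Fin m)} {g : GL (Fin (m + 1)) F}
    (h : ∀ p ∈ parabolic F J, mu g ≤ mu (g * p)) : Good J g := by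
  classical
  let G := (g : Matrix (Fin (m + 1)) (Fin (m + 1)) F)
  have hinj : ∀ i j, i < j → piv g i ≠ piv g j := by
    intro i j hij he
    let c : F := -(G (piv g j) j / G (piv g j) i)
    let T := Matrix.transvection i j c
    have hdet : T.det = 1 := Matrix.det_transvection_of_ne i j hij.ne c
    have hu : IsUnit T := (Matrix.isUnit_iff_isUnit_det T).mpr (by rw [hdet]; exact isUnit_one)
    have hmem : hu.unit ∈ parabolic F J := by
      intro a b hab
      show T a b = 0
      have hab' : b < a := lt_of_not_ge fun hle => absurd (blockOf_mono J hle) (not_le.mpr hab)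
      have hne : ¬ (i = a ∧ j = b) := by rintro ⟨rfl, rfl⟩; exact lt_asymm hij hab'
      simp [T, Matrix.transvection, Matrix.one_apply, hab'.ne', hne]
    have hkey : ∀ a b, (↑(g * hu.unit) : Matrix (Fin (m + 1)) (Fin (m + 1)) F) a b =
        if b = j then G a j + c * G a i else G a b := by
      intro a b
      show (G * T) a b = _
      split_ifs with hb
      · subst hb; exact Matrix.mul_transvection_apply_same i b a c G
      · exact Matrix.mul_transvection_apply_of_ne i j a b hb c G
    have hsame : ∀ b, b ≠ j → piv (g * hu.unit) b = piv g b := fun b hb => piv_eq_of _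
      (by rw [hkey, if_neg hb]; exact piv_ne g b)
      (fun k hk => by rw [hkey, if_neg hb]; exact not_not.mp fun hne => absurd (le_piv g hne) (not_le.mpr hk))
    have hlt : piv (g * hu.unit) j < piv g j := by
      have h0 := piv_ne (g * hu.unit) j
      rw [hkey, if_pos rfl] at h0
      refine lt_of_le_of_ne ?_ fun hE => h0 ?_
      · by_contra hgt
        refine h0 ?_
        have h1 : G (piv (g * hu.unit) j) j = 0 := not_not.mp fun hne => hgt (le_piv g hne)
        have h2 : G (piv (g * hu.unit) j) i = 0 := not_not.mp fun hne => hgt (he ▸ le_piv g hne)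
        rw [h1, h2, mul_zero, add_zero]
      · rw [hE]
        have hne : G (piv g j) i ≠ 0 := he ▸ piv_ne g i
        show G (piv g j) j + -(G (piv g j) j / G (piv g j) i) * G (piv g j) i = 0
        field_simp
        ring
    refine absurd (h _ hmem) (not_le.mpr (Finset.sum_lt_sum (fun b _ => ?_) ⟨j, Finset.mem_univ _, ?_⟩))
    · rcases eq_or_ne b j with rfl | hb
      · exact Nat.mul_le_mul_left _ hlt.le
      · rw [hsame b hb]
    · exact Nat.mul_lt_mul_of_pos_left hlt (by omega)
  have hI : Function.Injective (piv g) := fun i j e => by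
    rcases lt_trichotomy i j with hlt | rfl | hlt
    · exact absurd e (hinj i j hlt)
    · rfl
    · exact absurd e.symm (hinj j i hlt)
  have hadj : ∀ t ∈ J, piv g t.castSucc < piv g t.succ := by
    intro t ht
    by_contra hnlt
    have hne : piv g t.succ < piv g t.castSucc := lt_of_le_of_ne (not_lt.mp hnlt)
      fun e => (Fin.castSucc_lt_succ (i := t)).ne (hI e.symm)
    let τ := Equiv.swap t.castSucc t.succ
    let p : GL (Fin (m + 1)) F := Matrix.GeneralLinearGroup.swap F t.castSucc t.succ
    have hp : ∀ a b, (↑(g * p) : Matrix (Fin (m + 1)) (Fin (m + 1)) F) a b = G a (τ b) := by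
      intro a b
      show (G * Matrix.swap F t.castSucc t.succ) a b = _
      rcases eq_or_ne b t.castSucc with rfl | h1
      · simp [τ]
      rcases eq_or_ne b t.succ with rfl | h2
      · simp [τ]
      · rw [Matrix.mul_swap_of_ne h1 h2, Equiv.swap_apply_of_ne_of_ne h1 h2]
    have hmem : p ∈ parabolic F J := by
      intro a b hab
      have hb := blockOf_succ_of_mem ht
      show Matrix.swap F t.castSucc t.succ a b = 0
      have hab' : a ≠ b := by rintro rfl; exact lt_irrefl _ hab
      rw [Matrix.swap, show Equiv.Perm.permMatrix F (Equiv.swap t.castSucc t.succ) a b =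
        (if Equiv.swap t.castSucc t.succ a = b then (1 : F) else 0) by simp [Equiv.Perm.permMatrix, PEquiv.toMatrix_apply]]
      refine if_neg fun e => ?_
      rw [Equiv.swap_apply_def] at e
      split_ifs at e with h1 h2
      · subst h1; subst e; omega
      · subst h2; subst e; omega
      · exact hab' e
    have hpiv : ∀ b, piv (g * p) b = piv g (τ b) := fun b => piv_eq_of _ (by rw [hp]; exact piv_ne g _)
      (fun k hk => by rw [hp]; exact not_not.mp fun hne => absurd (le_piv g hne) (not_le.mpr hk))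
    have hlt : mu (g * p) < mu g := by
      unfold mu
      simp only [hpiv]
      rw [← Finset.sum_erase_add _ _ (Finset.mem_univ t.castSucc),
        ← Finset.sum_erase_add (Finset.univ : Finset (Fin (m + 1))) (fun j => (m + 1 - j.val) * (piv g j).val)
          (Finset.mem_univ t.castSucc)]
      have hmemS : t.succ ∈ Finset.univ.erase t.castSucc :=
        Finset.mem_erase.mpr ⟨(Fin.castSucc_lt_succ (i := t)).ne', Finset.mem_univ _⟩
      rw [← Finset.sum_erase_add _ _ hmemS,
        ← Finset.sum_erase_add (Finset.univ.erase t.castSucc) (fun j => (m + 1 - j.val) * (piv g j).val) hmemS]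
      have hrest : ∑ j ∈ (Finset.univ.erase t.castSucc).erase t.succ, (m + 1 - j.val) * (piv g (τ j)).val =
          ∑ j ∈ (Finset.univ.erase t.castSucc).erase t.succ, (m + 1 - j.val) * (piv g j).val := by
        refine Finset.sum_congr rfl fun j hj => ?_
        simp only [Finset.mem_erase] at hj
        rw [Equiv.swap_apply_of_ne_of_ne hj.2.1 hj.1]
      rw [hrest]
      simp only [τ, Equiv.swap_apply_left, Equiv.swap_apply_right, Fin.val_succ, Fin.val_castSucc]
      have ht' := t.isLt
      obtain ⟨d, hd⟩ : ∃ d, m + 1 - t.val = d + 1 := ⟨m - t.val, by omega⟩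
      have hd' : m + 1 - (t.val + 1) = d := by omega
      rw [hd, hd']
      have := hne
      rw [Fin.lt_def] at this
      nlinarith
    exact absurd (h p hmem) (not_le.mpr hlt)
  refine ⟨hI, ?_⟩
  intro i j hij heq
  suffices h : ∀ n : ℕ, ∀ (hn : n < m + 1), i.val < n → n ≤ j.val → piv g i < piv g ⟨n, hn⟩ from
    h j.val j.isLt hij le_rfl
  intro n
  induction n with
  | zero => intro _ h; omega
  | succ n ih =>
    intro hn hin hnj
    let t : Fin m := ⟨n, by omega⟩
    have hstep := hadj t (mem_of_blockOf_eq heq (show i.val ≤ t.val by show i.val ≤ n; omega)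
      (show t.val < j.val by show n < j.val; omega))
    rcases Nat.lt_or_ge i.val n with hlt | hge
    · exact lt_trans (ih (by omega) hlt (by omega)) hstep
    · have : i = t.castSucc := Fin.ext (by show i.val = n; omega)
      rw [this]
      exact hstep

variable [Fintype F]

lemma exists_min (J : Finset (Fin m)) (g : GL (Fin (m + 1)) F) :
    ∃ p ∈ parabolic F J, ∀ q ∈ parabolic F J, mu (g * p) ≤ mu (g * q) := by
  classical
  exact Set.exists_min_image ↑(parabolic F J) (fun p => mu (g * p)) (Set.toFinite _) ⟨1, one_mem _⟩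

/-- The minimal element of the coset. -/
noncomputable def rep (J : Finset (Fin m)) (g : GL (Fin (m + 1)) F) : GL (Fin (m + 1)) F :=
  g * (exists_min J g).choose

lemma rep_spec (J : Finset (Fin m)) (g : GL (Fin (m + 1)) F) :
    ∃ p ∈ parabolic F J, rep J g = g * p :=
  ⟨_, (exists_min J g).choose_spec.1, rfl⟩

lemma good_rep (J : Finset (Fin m)) (g : GL (Fin (m + 1)) F) : Good J (rep J g) := by
  obtain ⟨h1, h2⟩ := (exists_min J g).choose_spec
  refine good_of_minimal fun p hp => ?_
  rw [rep, mul_assoc]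
  exact h2 _ (mul_mem h1 hp)

/-- The `B`-invariant weight. -/
noncomputable def nu (g : GL (Fin (m + 1)) F) : ℕ := mu (rep (∅ : Finset (Fin m)) g)

/-- `g` is minimal in its coset. -/
def IsMin (J : Finset (Fin m)) (g : GL (Fin (m + 1)) F) : Prop :=
  ∃ b ∈ parabolic F (∅ : Finset (Fin m)), Good J (g * b)

lemma Good.empty {J : Finset (Fin m)} {g : GL (Fin (m + 1)) F} (h : Good J g) : Good (∅ : Finset (Fin m)) g := by
  refine ⟨h.1, fun i j hij he => ?_⟩
  have := mem_of_blockOf_eq he (k := ⟨i.val, by omega⟩) le_rfl hij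
  simp at this

lemma mu_eq {J : Finset (Fin m)} {g q : GL (Fin (m + 1)) F} (hq : q ∈ parabolic F J)
    (h : Good J g) (h' : Good J (g * q)) : mu (g * q) = mu g := by
  simp only [mu, (unique hq h h').1]

lemma nu_mul {g b : GL (Fin (m + 1)) F} (hb : b ∈ parabolic F (∅ : Finset (Fin m))) : nu (g * b) = nu g := by
  obtain ⟨p, hp, e⟩ := rep_spec (∅ : Finset (Fin m)) g
  obtain ⟨p', hp', e'⟩ := rep_spec (∅ : Finset (Fin m)) (g * b)
  have e2 : rep ∅ (g * b) = rep ∅ g * (p⁻¹ * b * p') := by rw [e', e]; group
  rw [nu, nu, e2]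
  exact mu_eq (mul_mem (mul_mem (inv_mem hp) hb) hp') (good_rep _ _) (e2 ▸ good_rep _ _)

lemma nu_eq_of_good {J : Finset (Fin m)} {g : GL (Fin (m + 1)) F} (h : Good J g) : nu g = mu g := by
  obtain ⟨p, hp, e⟩ := rep_spec (∅ : Finset (Fin m)) g
  rw [nu, e]
  exact mu_eq hp h.empty (e ▸ good_rep _ _)

lemma nu_rep_le (J : Finset (Fin m)) (g : GL (Fin (m + 1)) F) : nu (rep J g) ≤ nu g := by
  obtain ⟨p, hp, e⟩ := rep_spec (∅ : Finset (Fin m)) g
  rw [nu_eq_of_good (good_rep J g), nu, e]
  exact (exists_min J g).choose_spec.2 p (mem_parabolic_mono (Finset.empty_subset J) hp)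

lemma isMin_of_nu_le {J : Finset (Fin m)} {g : GL (Fin (m + 1)) F} (h : nu g ≤ nu (rep J g)) : IsMin J g := by
  obtain ⟨p, hp, e⟩ := rep_spec (∅ : Finset (Fin m)) g
  refine ⟨p, hp, good_of_minimal fun q hq => ?_⟩
  have h1 : nu (rep J g) ≤ mu (g * (p * q)) := by
    rw [nu_eq_of_good (good_rep J g)]
    exact (exists_min J g).choose_spec.2 _ (mul_mem (mem_parabolic_mono (Finset.empty_subset J) hp) hq)
  have h2 : mu (g * p) = nu g := by rw [nu, e]
  rw [h2, mul_assoc]
  exact h.trans h1

lemma rep_of_isMin {J : Finset (Fin m)} {g : GL (Fin (m + 1)) F} (h : IsMin J g) :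
    ∃ b ∈ parabolic F (∅ : Finset (Fin m)), rep J g = g * b := by
  obtain ⟨b, hb, hg⟩ := h
  obtain ⟨p, hp, e⟩ := rep_spec J g
  have e2 : rep J g = g * b * (b⁻¹ * p) := by rw [e]; group
  have := (unique (mul_mem (inv_mem (mem_parabolic_mono (Finset.empty_subset J) hb)) hp) hg
    (e2 ▸ good_rep _ _)).2
  exact ⟨b * (b⁻¹ * p), mul_mem hb this, by rw [e2, mul_assoc]⟩

lemma rep_mul {J : Finset (Fin m)} {g p : GL (Fin (m + 1)) F} (hp : p ∈ parabolic F J) :
    ∃ b ∈ parabolic F (∅ : Finset (Fin m)), rep J (g * p) = rep J g * b := by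
  obtain ⟨q, hq, e⟩ := rep_spec J g
  obtain ⟨q', hq', e'⟩ := rep_spec J (g * p)
  have e2 : rep J (g * p) = rep J g * (q⁻¹ * p * q') := by rw [e, e']; group
  exact ⟨_, (unique (mul_mem (mul_mem (inv_mem hq) hp) hq') (good_rep _ _) (e2 ▸ good_rep _ _)).2, e2⟩

lemma isMin_mul {J : Finset (Fin m)} {g b : GL (Fin (m + 1)) F}
    (hb : b ∈ parabolic F (∅ : Finset (Fin m))) : IsMin J (g * b) ↔ IsMin J g := by
  constructor
  · rintro ⟨c, hc, h⟩
    exact ⟨b * c, mul_mem hb hc, by rwa [← mul_assoc]⟩
  · rintro ⟨c, hc, h⟩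
    exact ⟨b⁻¹ * c, mul_mem (inv_mem hb) hc, by rwa [show g * b * (b⁻¹ * c) = g * c by group]⟩

lemma isMin_iff (J : Finset (Fin m)) (g : GL (Fin (m + 1)) F) :
    IsMin J g ↔ ∀ t ∈ J, IsMin {t} g := by
  constructor
  · rintro ⟨b, hb, hI, hinc⟩ t ht
    refine ⟨b, hb, hI, fun i j hij he => hinc i j hij (le_antisymm (blockOf_mono J hij.le) ?_)⟩
    refine Finset.card_le_card fun k hk => ?_
    simp only [Finset.mem_filter] at hk ⊢
    refine ⟨hk.1, ?_, hk.2.2⟩
    by_contra hk'
    have := mem_of_blockOf_eq he (not_lt.mp hk') hk.2.1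
    rw [Finset.mem_singleton] at this
    exact hk.2.2 (this ▸ ht)
  · intro h
    obtain ⟨p, hp, e⟩ := rep_spec (∅ : Finset (Fin m)) g
    have hG : Good (∅ : Finset (Fin m)) (g * p) := e ▸ good_rep _ _
    refine ⟨p, hp, hG.1, ?_⟩
    have hadj : ∀ t ∈ J, piv (g * p) t.castSucc < piv (g * p) t.succ := by
      intro t ht
      obtain ⟨b, hb, hgb⟩ := h t ht
      have e2 : g * b = g * p * (p⁻¹ * b) := by group
      have := (unique (mul_mem (inv_mem hp) hb) hG (e2 ▸ hgb.empty)).1
      rw [← this, ← e2]
      exact hgb.2 _ _ Fin.castSucc_lt_succ (blockOf_succ_of_mem (Finset.mem_singleton_self t)).symm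
    intro i j hij heq
    suffices h : ∀ n : ℕ, ∀ (hn : n < m + 1), i.val < n → n ≤ j.val → piv (g * p) i < piv (g * p) ⟨n, hn⟩ from
      h j.val j.isLt hij le_rfl
    intro n
    induction n with
    | zero => intro _ h; omega
    | succ n ih =>
      intro hn hin hnj
      let t : Fin m := ⟨n, by omega⟩
      have hstep := hadj t (mem_of_blockOf_eq heq (show i.val ≤ t.val by show i.val ≤ n; omega)
        (show t.val < j.val by show n < j.val; omega))
      rcases Nat.lt_or_ge i.val n with hlt | hge
      · exact lt_trans (ih (by omega) hlt (by omega)) hstep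
      · have : i = t.castSucc := Fin.ext (by show i.val = n; omega)
        rw [this]
        exact hstep

end Pivot

/-! ### The triangular induction -/

section Induction

variable [Fintype F] {R : Type v} [CommRing R] {r : ℕ} (ω : Fin r ↪ Fin m)

lemma isInduced_delta {c : ℕ} {g : Cochain F R (m := m) r (c + 1)} (hg : IsInduced ω g) :
    IsInduced ω (delta c g) := by
  intro T x p hp
  refine Finset.sum_congr rfl fun a _ => ?_
  by_cases h : a ∈ T.1
  · rw [dif_neg (by simp [h]), dif_neg (by simp [h])]
  · rw [dif_pos h, dif_pos h]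
    exact congrArg (_ * ·) (hg _ x p (mem_parabolic_mono (Finset.map_subset_map.mpr (Finset.subset_insert _ _)) hp))

open scoped Classical in
theorem step {c : ℕ} (k : ℕ) (f : Cochain F R (m := m) r (c + 1)) (hf : IsInduced ω f) (hd : delta c f = 0)
    (hk : ∀ T x, nu x < k → f T x = 0) :
    ∃ g : Cochain F R (m := m) r (c + 2), IsInduced ω g ∧
      ∀ T x, nu x ≤ k → delta (c + 1) g T x = f T x := by
  let S : GL (Fin (m + 1)) F → Finset (Fin r) := fun x => Finset.univ.filter fun a => IsMin {ω a} x
  let fF : Finset (Fin r) → GL (Fin (m + 1)) F → R := fun U x =>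
    if h : U.card = c + 1 then f ⟨U, h⟩ x else 0
  let val : GL (Fin (m + 1)) F → Finset (Fin r) → R := fun x U =>
    if h : nu x = k ∧ ∃ a, a ∈ U ∧ a ∈ S x ∧ ∀ b ∈ S x, a ≤ b then
      (sgn (U.erase h.2.choose) h.2.choose : R) * fF (U.erase h.2.choose) x else 0
  have hS : ∀ x b, b ∈ parabolic F (∅ : Finset (Fin m)) → S (x * b) = S x := fun x b hb =>
    Finset.filter_congr fun a _ => isMin_mul hb
  have hfF : ∀ U x b, b ∈ parabolic F (∅ : Finset (Fin m)) → fF U (x * b) = fF U x := by
    intro U x b hb
    simp only [fF]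
    split_ifs with h
    · exact hf _ x b (mem_parabolic_mono (Finset.empty_subset _) hb)
    · rfl
  have hvalchoice : ∀ x U a, nu x = k → a ∈ U → a ∈ S x → (∀ b ∈ S x, a ≤ b) →
      val x U = (sgn (U.erase a) a : R) * fF (U.erase a) x := by
    intro x U a h1 h2 h3 h4
    have h : nu x = k ∧ ∃ a, a ∈ U ∧ a ∈ S x ∧ ∀ b ∈ S x, a ≤ b := ⟨h1, a, h2, h3, h4⟩
    have e : h.2.choose = a := le_antisymm (h.2.choose_spec.2.2 a h3) (h4 _ h.2.choose_spec.2.1)
    simp only [val, dif_pos h, e]
  have hval : ∀ x b U, b ∈ parabolic F (∅ : Finset (Fin m)) → val (x * b) U = val x U := by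
    intro x b U hb
    by_cases h : nu x = k ∧ ∃ a, a ∈ U ∧ a ∈ S x ∧ ∀ b ∈ S x, a ≤ b
    · obtain ⟨h1, a, h2, h3, h4⟩ := h
      rw [hvalchoice x U a h1 h2 h3 h4, hvalchoice (x * b) U a (by rw [nu_mul hb, h1]) h2
        (by rw [hS x b hb]; exact h3) (by rw [hS x b hb]; exact h4), hfF _ x b hb]
    · simp only [val]
      rw [dif_neg h, dif_neg (by rw [nu_mul hb, hS x b hb]; exact h)]
  refine ⟨fun T y => val (rep (T.1.map ω) y) T.1, fun T y p hp => ?_, fun T x hx => ?_⟩
  · obtain ⟨b, hb, e⟩ := rep_mul (g := y) hp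
    show val (rep (T.1.map ω) (y * p)) T.1 = val (rep (T.1.map ω) y) T.1
    rw [e, hval _ b _ hb]
  have hminT : ∀ (U : Finset (Fin r)) (y : GL (Fin (m + 1)) F), IsMin (U.map ω) y ↔ U ⊆ S y := by
    intro U y
    rw [isMin_iff]
    simp [S, Finset.subset_iff]
  -- the value of the new cochain at `x`
  have hgval : ∀ U : Finset (Fin r),
      val (rep (U.map ω) x) U = if U ⊆ S x ∧ nu x = k then val x U else 0 := by
    intro U
    by_cases hU : U ⊆ S x
    · obtain ⟨b, hb, e⟩ := rep_of_isMin ((hminT U x).mpr hU)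
      rw [e, hval x b U hb]
      split_ifs with h
      · rfl
      · simp only [val]
        rw [dif_neg]
        exact fun hc => h ⟨hU, hc.1⟩
    · rw [if_neg fun h => hU h.1]
      simp only [val]
      rw [dif_neg]
      rintro ⟨hk', -⟩
      refine hU ((hminT U x).mp (isMin_of_nu_le (by omega)))
  simp only [delta, hgval]
  rcases hx.lt_or_eq with hlt | hxk
  · rw [hk T x hlt]
    refine Finset.sum_eq_zero fun a _ => ?_
    by_cases ha : a ∈ T.1
    · rw [dif_neg (fun h => h ha)]
    · rw [dif_pos ha, if_neg (fun h => by omega), mul_zero]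
  by_cases hTS : T.1 ⊆ S x
  swap
  · have h0 : f T x = 0 := by
      obtain ⟨p, hp, e⟩ := rep_spec (T.1.map ω) x
      have hlt : nu (rep (T.1.map ω) x) < k := by
        by_contra hge
        exact hTS ((hminT T.1 x).mp (isMin_of_nu_le (by omega)))
      have := hk T _ hlt
      rwa [e, hf T x p hp] at this
    rw [h0]
    refine Finset.sum_eq_zero fun a _ => ?_
    by_cases ha : a ∈ T.1
    · rw [dif_neg (fun h => h ha)]
    · rw [dif_pos ha, if_neg (fun h => hTS ((Finset.subset_insert a T.1).trans h.1)), mul_zero]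
  have hne : (S x).Nonempty := by
    obtain ⟨a, ha⟩ := Finset.card_pos.mp (show 0 < T.1.card by rw [T.2]; omega)
    exact ⟨a, hTS ha⟩
  let a0 := (S x).min' hne
  have ha0 : a0 ∈ S x := Finset.min'_mem _ _
  have hmin : ∀ b ∈ S x, a0 ≤ b := fun b hb => Finset.min'_le _ _ hb
  by_cases ha0T : a0 ∈ T.1
  swap
  · rw [Finset.sum_eq_single a0 (fun a _ ha => ?_) (by simp)]
    · rw [dif_pos ha0T, if_pos ⟨Finset.insert_subset ha0 hTS, hxk⟩,
        hvalchoice x _ a0 hxk (Finset.mem_insert_self _ _) ha0 hmin, Finset.erase_insert ha0T, ← mul_assoc,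
        ← Int.cast_mul, sgn_mul_self, Int.cast_one, one_mul]
      simp only [fF, dif_pos T.2]
    · by_cases h1 : a ∈ T.1
      · rw [dif_neg (fun h => h h1)]
      rw [dif_pos h1]
      by_cases h2 : insert a T.1 ⊆ S x ∧ nu x = k
      · rw [if_pos h2]
        simp only [val]
        rw [dif_neg, mul_zero]
        rintro ⟨-, b, hb, hbS, hbmin⟩
        obtain rfl : b = a0 := le_antisymm (hbmin _ ha0) (hmin b hbS)
        rcases Finset.mem_insert.mp hb with h | h
        · exact ha h.symm
        · exact ha0T h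
      · rw [if_neg h2, mul_zero]
  -- the main case
  let T' : {U : Finset (Fin r) // U.card = c} := ⟨T.1.erase a0, by rw [Finset.card_erase_of_mem ha0T, T.2]; omega⟩
  have hcyc := congrFun (congrFun hd T') x
  simp only [delta, Pi.zero_apply] at hcyc
  rw [← Finset.sum_erase_add _ _ (Finset.mem_univ a0)] at hcyc
  rw [dif_pos (Finset.notMem_erase a0 T.1)] at hcyc
  have hTe : insert a0 T'.1 = T.1 := Finset.insert_erase ha0T
  have hfe : f ⟨insert a0 T'.1, by rw [hTe, T.2]⟩ x = f T x :=
    congrArg (fun U => f U x) (Subtype.ext hTe)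
  erw [hfe] at hcyc
  rw [← Finset.sum_erase_add _ _ (Finset.mem_univ a0), dif_neg (by simp [ha0T]), add_zero]
  have hterm : ∀ a ∈ (Finset.univ : Finset (Fin r)).erase a0,
      (if h : a ∉ T.1 then (sgn T.1 a : R) * (if insert a T.1 ⊆ S x ∧ nu x = k then val x (insert a T.1) else 0)
        else 0) =
      -(sgn T'.1 a0 : R) * (if h : a ∉ T'.1 then (sgn T'.1 a : R) *
        f ⟨insert a T'.1, by rw [Finset.card_insert_of_notMem h, T'.2]⟩ x else 0) := by
    intro a ha
    have haa : a ≠ a0 := Finset.ne_of_mem_erase ha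
    by_cases haT : a ∈ T.1
    · rw [dif_neg (by simp [haT]), dif_neg (by simp [T', haT, haa]), mul_zero]
    have haT' : a ∉ T'.1 := fun h => haT (Finset.mem_of_mem_erase h)
    rw [dif_pos haT, dif_pos haT']
    by_cases haS : a ∈ S x
    · rw [if_pos ⟨Finset.insert_subset haS hTS, hxk⟩,
        hvalchoice x _ a0 hxk (Finset.mem_insert_of_mem ha0T) ha0 hmin,
        Finset.erase_insert_of_ne haa]
      simp only [fF, T', dif_pos (show (insert a (T.1.erase a0)).card = c + 1 by
        rw [Finset.card_insert_of_notMem haT', T'.2])]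
      have key := sgn_antisymm (T.1.erase a0) haT' (Finset.notMem_erase a0 T.1) haa
      rw [Finset.insert_erase ha0T] at key
      have e : sgn T.1 a * sgn (insert a (T.1.erase a0)) a0 =
          -(sgn (T.1.erase a0) a0 * sgn (T.1.erase a0) a) := by
        linear_combination (sgn T.1 a * sgn (T.1.erase a0) a) * key -
          (sgn T.1 a * sgn (insert a (T.1.erase a0)) a0) * (sgn_mul_self (T.1.erase a0) a) -
          (sgn (T.1.erase a0) a0 * sgn (T.1.erase a0) a) * sgn_mul_self T.1 a
      rw [← mul_assoc, ← Int.cast_mul, e, ← mul_assoc]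
      push_cast
      ring
    · rw [if_neg fun h => haS (h.1 (Finset.mem_insert_self _ _)), mul_zero]
      obtain ⟨p, hp, e⟩ := rep_spec ((insert a T'.1).map ω) x
      have hlt : nu (rep ((insert a T'.1).map ω) x) < k := by
        by_contra hge
        exact haS ((hminT (insert a T'.1) x).mp (isMin_of_nu_le (by omega)) (Finset.mem_insert_self _ _))
      have hU : (insert a T'.1).card = c + 1 := by rw [Finset.card_insert_of_notMem haT', T'.2]
      have h0 : f ⟨insert a T'.1, hU⟩ (rep ((insert a T'.1).map ω) x) = 0 := hk ⟨insert a T'.1, hU⟩ _ hlt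
      have h1 : f ⟨insert a T'.1, hU⟩ (x * p) = f ⟨insert a T'.1, hU⟩ x := hf ⟨insert a T'.1, hU⟩ x p hp
      rw [e, h1] at h0
      rw [h0, mul_zero, mul_zero]
  rw [Finset.sum_congr rfl hterm, ← Finset.mul_sum]
  have hs : ((sgn T'.1 a0 : ℤ) : R) * (sgn T'.1 a0 : R) = 1 := by
    rw [← Int.cast_mul, sgn_mul_self, Int.cast_one]
  linear_combination (-(sgn T'.1 a0 : R)) * hcyc + f T x * hs

theorem exists_primitive {c : ℕ} (f : Cochain F R (m := m) r (c + 1)) (hf : IsInduced ω f)
    (hd : delta c f = 0) : ∃ g : Cochain F R (m := m) r (c + 2), IsInduced ω g ∧ delta (c + 1) g = f := by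
  classical
  let N := (Finset.univ : Finset (GL (Fin (m + 1)) F)).sup nu
  suffices h : ∀ k, ∃ g : Cochain F R (m := m) r (c + 2), IsInduced ω g ∧
      ∀ T x, nu x < k → delta (c + 1) g T x = f T x by
    obtain ⟨g, hg, hgf⟩ := h (N + 1)
    exact ⟨g, hg, funext fun T => funext fun x =>
      hgf T x (Nat.lt_succ_of_le (Finset.le_sup (Finset.mem_univ x)))⟩
  intro k
  induction k with
  | zero => exact ⟨0, fun _ _ _ _ => rfl, fun T x h => absurd h (Nat.not_lt_zero _)⟩
  | succ k ih =>
    obtain ⟨g, hg, hgf⟩ := ih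
    have hd' : delta c (f - delta (c + 1) g) = 0 := by rw [delta_sub, hd, delta_delta, sub_zero]
    obtain ⟨g', hg', hgf'⟩ := step ω k (f - delta (c + 1) g)
      (fun T x p hp => by
        simp only [Pi.sub_apply]
        rw [hf T x p hp, isInduced_delta ω hg T x p hp])
      hd' (fun T x hx => by simp only [Pi.sub_apply]; rw [hgf T x hx, sub_self])
    refine ⟨g + g', fun T x p hp => by simp only [Pi.add_apply]; rw [hg T x p hp, hg' T x p hp], fun T x hx => ?_⟩
    have e : delta (c + 1) (g + g') T x = delta (c + 1) g T x + delta (c + 1) g' T x := by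
      simp only [delta, Pi.add_apply, ← Finset.sum_add_distrib]
      refine Finset.sum_congr rfl fun a _ => ?_
      split_ifs <;> simp [mul_add]
    rw [e, hgf' T x (Nat.le_of_lt_succ hx)]
    simp

end Induction

end Aux

/-- Let F be a finite field, R a commutative ring, and ω a word of r pairwise distinct simple
reflections of GL_{m+1}. For each level ℓ, consider the families, indexed by the subwords of ω with
ℓ letters, of R-valued functions on GL_{m+1}(F), each invariant under right translation by the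
standard parabolic subgroup of its subword (the permutation module of that parabolic over R), and
the differential lowering the level by one given by the alternating sum of the inclusions (a letter
is deleted with the sign of its position). Then for every c with c + 1 ≤ r, every such invariant
family at level c + 1 killed by the differential is the differential of an invariant family at level
c + 2; when c + 1 = r this is injectivity of the first differential, and when c + 1 < r it is
exactness of the complex at its middle terms. (The published statement has coefficients the integers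
modulo a prime power; the same argument gives any commutative coefficient ring, as stated here. Its
description of the cokernel at the last term is definitional in this formulation and is not
restated.) -/
theorem result
    (F : Type u) [Field F] [Fintype F] (R : Type v) [CommRing R]
    (m r : ℕ) (ω : Fin r ↪ Fin m) (c : ℕ) (hc : c + 1 ≤ r)
    (f : W4c3dlvarstrsh.Cochain F R (m := m) r (c + 1))
    (hf : W4c3dlvarstrsh.IsInduced ω f) (hd : W4c3dlvarstrsh.delta c f = 0) :
    ∃ g : W4c3dlvarstrsh.Cochain F R (m := m) r (c + 2),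
      W4c3dlvarstrsh.IsInduced ω g ∧ W4c3dlvarstrsh.delta (c + 1) g = f := by
  exact Aux.exists_primitive ω f hf hd

end Groth.Agent.S15983
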