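import Groth.Statements.S19466
import Groth.Agent.CohPullX.EpiFibre
import Groth.Agent.KFlatLib.Scheme.RpushQCoh

set_option autoImplicit false
universe u
open Coherent

namespace Groth.Agent.S19466
namespace Aux
open CategoryTheory CategoryTheory.Limits AlgebraicGeometry TopologicalSpace
open Groth.Agent
set_option backward.isDefEq.respectTransparency false
set_option backward.isDefEq.respectTransparency.types false

theorem main {X S : Scheme.{u}} (f : X ⟶ S) [IsProper f] [LocallyOfFinitePresentation f] (F : X.Modules)
    (hF : CohB1.IsFP F) (hfl : FlatMod.IsFlatOver f F) (s : S)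
    (hs : Epi (CohBC.bc0 f (S.fromSpecResidueField s) (f.fiberToSpecResidueField s) (f.fiberι s)
      (f.fiber_fac s) F)) :
    ∃ U : S.Opens, s ∈ U ∧ FlatMod.IsFinLocFree (((Coh.push f).obj F).restrict U.ι) ∧
      ∀ (T X' : Scheme.{u}) (g : T ⟶ S) (f' : X' ⟶ T) (g' : X' ⟶ X) (hsq : IsPullback g' f' f g),
        Set.range g.base ⊆ (U : Set S) → IsIso (CohBC.bc0 f g f' g' hsq.w F) := by
  haveI : HasInjectiveResolutions X.Modules := KFlatLib.hasInjectiveResolutions_modules
  haveI := SpObjSS.enoughInjectives_of_hasInjectiveResolutions (C := X.Modules)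
  haveI := QCoh.preservesFiniteLimits_push f
  obtain ⟨W, n, hW, hk, ⟨e⟩⟩ := CohPullX.exists_kerBC_nhd_of_epi hF hfl s hs
  refine ⟨W, hW, ?_, fun T X' g f' g' hsq hg =>
    CohPullX.isIso_bc0_of_hasKerBC hsq (QCoh.isQCoh_of_isFP hF) fun x => ⟨W, hg ⟨x, rfl⟩, hk⟩⟩
  exact fun x => ⟨⊤, n, trivial, ⟨(Scheme.Modules.restrictFunctor _).mapIso
    ((Scheme.Modules.restrictFunctor W.ι).mapIso
      ((Scheme.Modules.pushforward f).rightDerivedZeroIsoSelf.app F).symm ≪≫ e) ≪≫ QCoh.freeModRestrict _ n⟩⟩

end Aux


open AlgebraicGeometry CategoryTheory CategoryTheory.Limits in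
/-- Let f : X → S be proper and of finite presentation, F an O_X-module of finite presentation which is
flat over S, and s a point of S such that the degree-0 base change map of the fibre square at s,
from the pullback of f_* F to Spec κ(s) to the direct image of the restriction of F to the fibre X_s
(on global sections: f_* F ⊗ κ(s) → H^0(X_s, F_s)), is an epimorphism. Then there is an open
neighbourhood U of s such that f_* F restricted to U is finite locally free and, for every cartesian
square on a morphism g : T → S whose image lies in U, with projections f' : X' → T and g' : X' → X,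
the base change map g^* f_* F → f'_* g'^* F is an isomorphism. (In degree 0 the surjectivity
condition on the comparison map one degree lower is empty, so both conclusions of the published
statement hold; the statement for higher degrees is not part of this row.) -/
theorem result {X S : Scheme.{u}} (f : X ⟶ S)
    [IsProper f] [LocallyOfFinitePresentation f]
    (F : X.Modules) (hF : CohB1.IsFP F) (hfl : FlatMod.IsFlatOver f F) (s : S)
    (hs : Epi (CohBC.bc0 f (S.fromSpecResidueField s) (f.fiberToSpecResidueField s) (f.fiberι s)
      (f.fiber_fac s) F)) :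
    ∃ U : S.Opens, s ∈ U ∧ FlatMod.IsFinLocFree (((Coh.push f).obj F).restrict U.ι) ∧
      ∀ (T X' : Scheme.{u}) (g : T ⟶ S) (f' : X' ⟶ T) (g' : X' ⟶ X) (hsq : IsPullback g' f' f g),
        Set.range g.base ⊆ (U : Set S) → IsIso (CohBC.bc0 f g f' g' hsq.w F) := by
  exact Aux.main f F hF hfl s hs

end Groth.Agent.S19466
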