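import Groth.Statements.S15987
import Mathlib


set_option autoImplicit false
universe u v
open Deform

namespace Groth.Agent.S15987

open TrivSqZeroExt in
/-- Let k be a field, A a commutative k-algebra and q_i : A → k (i ∈ ι) k-algebra maps (marked k-points
of Spec A). The k-algebra automorphisms φ of the ring of dual numbers A[ε] that fix ε (so are
k[ε]-linear), are the identity modulo ε, and satisfy q_i((φ x)_ε) = q_i(x_ε) for all i and x
(compatibility with the trivial lifts A[ε] → k[ε] of the marked points) are in bijection with the
k-derivations D : A → A such that q_i ∘ D = 0 for every i, the bijection sending φ to a ↦ (φ(a))_ε.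
(The source identifies the right-hand side with the global vector fields vanishing at the marked
points; the condition the computation yields is q_i ∘ D = 0, which is the same for Spec A smooth
over k but is weaker in general, e.g. for A = k[x]/(x^2) with 2 invertible in k.) -/
theorem result
    (k : Type u) [Field k] (A : Type u) [CommRing A] [Algebra k A] {ι : Type v} (q : ι → (A →ₐ[k] k)) :
    ∃ e : {φ : DualNumber A ≃ₐ[k] DualNumber A //
            φ DualNumber.eps = DualNumber.eps ∧ (∀ x, (φ x).fst = x.fst) ∧
              ∀ i x, q i (φ x).snd = q i x.snd} ≃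
          {D : Derivation k A A // ∀ i a, q i (D a) = 0},
      ∀ φ (a : A), (e φ).1 a = (φ.1 (inl a : DualNumber A)).snd := by
  
  classical
  have hinl : ∀ φ : DualNumber A ≃ₐ[k] DualNumber A, φ DualNumber.eps = DualNumber.eps →
      (∀ x, (φ x).fst = x.fst) → ∀ x : DualNumber A, φ x = x + inr (φ (inl x.fst)).snd := by
    intro φ h1 h2 x
    have hr : ∀ b : A, φ (inr b) = inr b := by
      intro b
      have e : (inr b : DualNumber A) = DualNumber.eps * inl b := by
        apply TrivSqZeroExt.ext <;> simp [fst_mul, snd_mul]
      rw [e, map_mul, h1]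
      apply TrivSqZeroExt.ext <;> simp [fst_mul, snd_mul, h2]
    conv_lhs => rw [← inl_fst_add_inr_snd_eq x, map_add, hr]
    apply TrivSqZeroExt.ext
    · simp [h2]
    · simp [add_comm]
  let mkD : {φ : DualNumber A ≃ₐ[k] DualNumber A //
      φ DualNumber.eps = DualNumber.eps ∧ (∀ x, (φ x).fst = x.fst) ∧
        ∀ i x, q i (φ x).snd = q i x.snd} → {D : Derivation k A A // ∀ i a, q i (D a) = 0} :=
    fun φ => ⟨Derivation.mk'
      { toFun := fun a => (φ.1 (inl a)).snd
        map_add' := fun a b => by rw [inl_add, map_add, snd_add]
        map_smul' := fun c a => by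
          simp only [RingHom.id_apply]
          rw [inl_smul, map_smul, snd_smul] }
      (fun a b => by
        simp only [LinearMap.coe_mk, AddHom.coe_mk, smul_eq_mul]
        rw [inl_mul, map_mul, snd_mul, φ.2.2.1, φ.2.2.1]
        simp only [fst_inl, smul_eq_mul, op_smul_eq_smul]),
      fun i a => by
        show q i (φ.1 (inl a)).snd = 0
        rw [φ.2.2.2, snd_inl, map_zero]⟩
  let mkF : Derivation k A A → (DualNumber A →ₐ[k] DualNumber A) := fun D =>
    { toFun := fun x => x + inr (D x.fst)
      map_one' := by simp
      map_mul' := fun x y => by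
        apply TrivSqZeroExt.ext
        · simp [fst_mul]
        · simp [fst_mul, snd_mul]
          ring
      map_zero' := by simp
      map_add' := fun x y => by
        apply TrivSqZeroExt.ext
        · simp
        · simp
          ring
      commutes' := fun r => by
        simp [algebraMap_eq_inl'] }
  have hFF : ∀ (D : Derivation k A A), (mkF D).comp (mkF (-D)) = AlgHom.id k _ ∧
      (mkF (-D)).comp (mkF D) = AlgHom.id k _ := by
    intro D
    constructor <;> refine AlgHom.ext fun x => TrivSqZeroExt.ext ?_ ?_ <;> simp [mkF]
  refine ⟨{
    toFun := mkD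
    invFun := fun D => ⟨AlgEquiv.ofAlgHom (mkF D.1) (mkF (-D.1)) (hFF _).1 (hFF _).2,
      by
        show (DualNumber.eps + inr (D.1 DualNumber.eps.fst) : DualNumber A) = _
        simp,
      fun x => by
        show (x + inr (D.1 x.fst) : DualNumber A).fst = _
        simp,
      fun i x => by
        show q i (x + inr (D.1 x.fst) : DualNumber A).snd = _
        simp [D.2]⟩
    left_inv := fun φ => Subtype.ext (AlgEquiv.ext fun x =>
      (hinl φ.1 φ.2.1 φ.2.2.1 x).symm)
    right_inv := fun D => Subtype.ext (Derivation.ext fun a => by
      show ((inl a : DualNumber A) + inr (D.1 (inl a : DualNumber A).fst)).snd = _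
      simp) }, fun φ a => rfl⟩

end Groth.Agent.S15987
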