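import Groth.Statements.S15988
import Mathlib


set_option autoImplicit false
universe u v
open Deform

namespace Groth.Agent.S15988

open TrivSqZeroExt in
/-- Let k be a field, A a smooth commutative k-algebra, q_i : A → k (i ∈ ι, ι finite) pairwise distinct
k-algebra maps, and q'_i : A[ε] → k[ε] k-algebra maps with q'_i(ε) = ε which reduce to q_i modulo ε
(marked points of a first-order deformation with underlying trivial deformation). Then some
k-algebra automorphism φ of A[ε] with φ(ε) = ε and φ = id modulo ε carries every q'_i to the trivial
lift of q_i: q'_i(φ x) = (q_i(x_0), q_i(x_ε)) for all i and x. Together with the triviality of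
first-order deformations of a smooth affine scheme this gives the source's statement that
first-order deformations of a smooth affine scheme with marked points are trivial. (The published
statement does not say that the finitely many marked points are distinct; for two coincident points
with different lifts no such automorphism exists, so the points are taken pairwise distinct here,
and the source's non-singular is read as smooth over k.) -/
theorem result
    (k : Type u) [Field k] (A : Type u) [CommRing A] [Algebra k A] [Algebra.Smooth k A]
    {ι : Type v} [Finite ι] (q : ι → (A →ₐ[k] k)) (hq : Function.Injective q)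
    (q' : ι → (DualNumber A →ₐ[k] DualNumber k))
    (hε : ∀ i, q' i DualNumber.eps = DualNumber.eps) (hq' : ∀ i x, (q' i x).fst = q i x.fst) :
    ∃ φ : DualNumber A ≃ₐ[k] DualNumber A,
      φ DualNumber.eps = DualNumber.eps ∧ (∀ x, (φ x).fst = x.fst) ∧
        ∀ i x, (q' i (φ x)).fst = q i x.fst ∧ (q' i (φ x)).snd = q i x.snd := by
  
  classical
  let Q : A →ₐ[k] (ι → k) := AlgHom.pi q
  have hsurjQ : Function.Surjective Q := by
    have hmax : ∀ i, (RingHom.ker (q i)).IsMaximal := fun i =>
      RingHom.ker_isMaximal_of_surjective _ fun c => ⟨algebraMap k A c, AlgHom.commutes _ c⟩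
    have hne : Pairwise fun i j => IsCoprime (RingHom.ker (q i)) (RingHom.ker (q j)) := by
      intro i j hij
      rw [Ideal.isCoprime_iff_sup_eq]
      refine (hmax i).coprime_of_ne (hmax j) fun h => hij (hq ?_)
      refine AlgHom.ext fun a => ?_
      have : a - algebraMap k A (q i a) ∈ RingHom.ker (q i) := by
        rw [RingHom.mem_ker, map_sub, AlgHom.commutes]; simp
      rw [h, RingHom.mem_ker, map_sub, AlgHom.commutes, sub_eq_zero] at this
      simpa using this.symm
    intro v
    obtain ⟨a, ha⟩ := Ideal.pi_mkQ_surjective hne
      (fun i => Ideal.Quotient.mk _ (algebraMap k A (v i)))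
    refine ⟨a, funext fun i => ?_⟩
    have h := congrFun ha i
    simp only [LinearMap.pi_apply, Submodule.mkQ_apply] at h
    rw [Ideal.Quotient.mk_eq_mk, Ideal.Quotient.eq, RingHom.mem_ker, map_sub, AlgHom.commutes,
      sub_eq_zero] at h
    show q i a = v i
    simpa using h
  let _ : Algebra A (ι → k) := Q.toRingHom.toAlgebra
  have : IsScalarTower k A (ι → k) :=
    IsScalarTower.of_algebraMap_eq fun c => (Q.commutes c).symm
  have hr : ∀ i (b : A), q' i (inr b) = inr (q i b) := by
    intro i b
    have e : (inr b : DualNumber A) = DualNumber.eps * inl b := by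
      apply TrivSqZeroExt.ext <;> simp [fst_mul, snd_mul]
    rw [e, map_mul, hε]
    apply TrivSqZeroExt.ext <;> simp [fst_mul, snd_mul, hq']
  let δ : Derivation k A (ι → k) := Derivation.mk'
    { toFun := fun a i => (q' i (inl a)).snd
      map_add' := fun a b => funext fun i => by
        rw [inl_add, map_add, snd_add]; rfl
      map_smul' := fun c a => funext fun i => by
        simp only [RingHom.id_apply, Pi.smul_apply]
        rw [inl_smul, map_smul, snd_smul] }
    (fun a b => funext fun i => by
      show (q' i (inl (a * b))).snd = q i a * (q' i (inl b)).snd + q i b * (q' i (inl a)).snd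
      rw [inl_mul, map_mul, snd_mul, hq', hq']
      simp only [fst_inl, smul_eq_mul, op_smul_eq_smul])
  obtain ⟨g, hg⟩ := Module.projective_lifting_property (Algebra.linearMap A (ι → k))
    δ.liftKaehlerDifferential hsurjQ
  let D : Derivation k A A := -(g.compDer (KaehlerDifferential.D k A))
  have hD : ∀ i a, q i (D a) = -(q' i (inl a)).snd := by
    intro i a
    have h := LinearMap.congr_fun hg (KaehlerDifferential.D k A a)
    rw [Derivation.liftKaehlerDifferential_comp_D, LinearMap.comp_apply] at h
    show q i (-(g (KaehlerDifferential.D k A a))) = _
    rw [map_neg]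
    exact congrArg Neg.neg (congrFun h i)
  let mkF : Derivation k A A → (DualNumber A →ₐ[k] DualNumber A) := fun D =>
    { toFun := fun x => x + inr (D x.fst)
      map_one' := by simp
      map_mul' := fun x y => by
        apply TrivSqZeroExt.ext
        · simp [fst_mul]
        · simp [fst_mul, snd_mul]
          ring
      map_zero' := by simp
      map_add' := fun x y => by
        apply TrivSqZeroExt.ext
        · simp
        · simp
          ring
      commutes' := fun r => by
        simp [algebraMap_eq_inl'] }
  have hFF : (mkF D).comp (mkF (-D)) = AlgHom.id k _ ∧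
      (mkF (-D)).comp (mkF D) = AlgHom.id k _ := by
    constructor <;> refine AlgHom.ext fun x => TrivSqZeroExt.ext ?_ ?_ <;> simp [mkF]
  refine ⟨AlgEquiv.ofAlgHom (mkF D) (mkF (-D)) hFF.1 hFF.2, ?_, ?_, fun i x => ⟨?_, ?_⟩⟩
  · show (DualNumber.eps + inr (D DualNumber.eps.fst) : DualNumber A) = _
    simp
  · intro x
    show (x + inr (D x.fst) : DualNumber A).fst = _
    simp
  · show (q' i (x + inr (D x.fst))).fst = _
    rw [hq']
    simp
  · show (q' i (x + inr (D x.fst))).snd = _
    conv_lhs => rw [← inl_fst_add_inr_snd_eq x]
    simp only [map_add, hr, snd_add, snd_inr, fst_add, fst_inl, fst_inr, add_zero, hD]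
    abel

end Groth.Agent.S15988
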