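import Groth.Statements.S15989
import Groth.Agent.PlaneCubic.Curve
import Groth.Agent.PlaneCubic.Twisted
import Groth.Agent.GrpSchLib.AntiAffineBC
-- import your own Groth.Agent.* helpers here

set_option autoImplicit false
universe u
open ModFun

namespace Groth.Agent.S15989

open CategoryTheory CategoryTheory.Limits AlgebraicGeometry in
theorem no_twin {k : Type u} [Field k] {K L : Type u} [Field K] [Field L] [Algebra k K] (f : K →+* L)
    (M : Over (Spec (CommRingCat.of k))) (h : ModFun.IsFineModuli ⊤ (ModFun.Mg (Spec (CommRingCat.of k)) 1) M)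
    (G₁ G₂ : LefPen.Form 2 K 3) (hG₁ : G₁ ≠ 0) (hG₂ : G₂ ≠ 0)
    (h₁ : Smooth ((LefPen.hypIdeal G₁).subschemeι ≫ CohB1.ProjSpace.toSpec 2 K))
    (h₂ : Smooth ((LefPen.hypIdeal G₂).subschemeι ≫ CohB1.ProjSpace.toSpec 2 K))
    (l₁ l₂ : Fin (2 + 1) → Lˣ)
    (heq : PlaneCubic.scaleForm f l₁ G₁ = PlaneCubic.scaleForm f l₂ G₂)
    (hne : PlaneCubic.scaleForm f l₁ G₁ ≠ 0)
    (hsm : Smooth ((LefPen.hypIdeal (PlaneCubic.scaleForm f l₁ G₁)).subschemeι ≫ CohB1.ProjSpace.toSpec 2 L)) :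
    Nonempty (Over.mk ((LefPen.hypIdeal G₁).subschemeι ≫ CohB1.ProjSpace.toSpec 2 K) ≅
      Over.mk ((LefPen.hypIdeal G₂).subschemeι ≫ CohB1.ProjSpace.toSpec 2 K)) := by
  obtain ⟨ξ, -, hu⟩ := h
  let T : Over (Spec (CommRingCat.of k)) := Over.mk (Spec.map (CommRingCat.ofHom (algebraMap k K)))
  let q : Spec (CommRingCat.of L) ⟶ T.left := Spec.map (CommRingCat.ofHom f)
  let T' : Over (Spec (CommRingCat.of k)) := Over.mk (q ≫ T.hom)
  let qq : T' ⟶ T := Over.homMk q rfl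
  let p₁ := (LefPen.hypIdeal G₁).subschemeι ≫ CohB1.ProjSpace.toSpec 2 K
  let p₂ := (LefPen.hypIdeal G₂).subschemeι ≫ CohB1.ProjSpace.toSpec 2 K
  obtain ⟨g₁, ⟨e₁⟩, -⟩ := hu T (Over.mk p₁) trivial ⟨trivial, PlaneCubic.isCurveOfGenus_one G₁ hG₁ h₁⟩
  obtain ⟨g₂, ⟨e₂⟩, -⟩ := hu T (Over.mk p₂) trivial ⟨trivial, PlaneCubic.isCurveOfGenus_one G₂ hG₂ h₂⟩
  let pL := (LefPen.hypIdeal (PlaneCubic.scaleForm f l₁ G₁)).subschemeι ≫ CohB1.ProjSpace.toSpec 2 L
  obtain ⟨g₀, -, huniq⟩ := hu T' (Over.mk pL) trivial ⟨trivial, PlaneCubic.isCurveOfGenus_one _ hne hsm⟩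
  have hbc : ∀ (g : T ⟶ M) {C : Scheme.{u}} (p : C ⟶ T.left)
      (_ : (Over.pullback g.left).obj ξ ≅ Over.mk p) (a : _ ⟶ C) (_ : IsPullback a pL p q),
      qq ≫ g = g₀ := by
    intro g C p e a ha
    refine huniq _ ⟨?_⟩
    exact (Over.pullbackComp qq.left g.left).app ξ ≪≫ (Over.pullback qq.left).mapIso e ≪≫
      (Over.isoMk ha.isoPullback ha.isoPullback_hom_snd).symm
  obtain ⟨a₁, ha₁⟩ := PlaneCubic.isPullback_hyp f l₁ G₁
  have hg₁ := hbc g₁ p₁ e₁ a₁ ha₁
  have hg₂ : qq ≫ g₂ = g₀ := by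
    obtain ⟨a₂, ha₂⟩ := PlaneCubic.isPullback_hyp f l₂ G₂
    let pL' := (LefPen.hypIdeal (PlaneCubic.scaleForm f l₂ G₂)).subschemeι ≫ CohB1.ProjSpace.toSpec 2 L
    have key : ∀ (G : LefPen.Form 2 L 3) (_ : G = PlaneCubic.scaleForm f l₂ G₂),
        ∃ a, IsPullback a ((LefPen.hypIdeal G).subschemeι ≫ CohB1.ProjSpace.toSpec 2 L) p₂ q := by
      rintro G rfl
      exact ⟨a₂, ha₂⟩
    obtain ⟨a, ha⟩ := key _ heq
    exact hbc g₂ p₂ e₂ a ha
  haveI : Flat q := GrpSchLib.flat_spec_map_field f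
  haveI : Surjective q := GrpSchLib.surjective_spec_map_field f
  haveI : Epi q := Flat.epi_of_flat_of_surjective q
  have hg : g₁ = g₂ := Over.OverMorphism.ext ((cancel_epi q).1
    (congrArg CommaMorphism.left (hg₁.trans hg₂.symm)))
  subst hg
  exact ⟨e₁.symm ≪≫ e₂⟩

open AlgebraicGeometry CategoryTheory in
/-- Over an algebraically closed field k, the moduli problem of curves of genus 1 (proper smooth
geometrically irreducible C → T with one-dimensional geometric fibres of genus 1, modulo isomorphism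
over T, on all k-schemes T) is not representable: no k-scheme M carries a universal family. (The
published statement asserts non-representability for every genus g and every number n of marked
points, which fails for g = 0 and n = 3: three disjoint sections identify every family with the
projective line over the base marked at 0, 1 and ∞, so that functor is represented by a point; its
argument is carried out in genus 1 with one marked point, and the unpointed genus-1 case stated here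
is what that argument, with the same isotrivial family, proves.) -/
theorem result (k : Type u) [Field k] [IsAlgClosed k]
    (M : Over (Spec (CommRingCat.of k))) :
    ¬ ModFun.IsFineModuli ⊤ (ModFun.Mg (Spec (CommRingCat.of k)) 1) M := by
  intro h
  let K := RatFunc k
  let L := AlgebraicClosure K
  let f : K →+* L := algebraMap K L
  obtain ⟨c, hc⟩ : ∃ c : k, ((3 : k) ≠ 0 ∧ c = 0) ∨ ((3 : k) = 0 ∧ c ≠ 0) := by
    by_cases h3 : (3 : k) = 0
    · exact ⟨1, Or.inr ⟨h3, one_ne_zero⟩⟩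
    · exact ⟨0, Or.inl ⟨h3, rfl⟩⟩
  have hcF : ∀ (F : Type u) [Field F] (g : k →+* F),
      ((3 : F) ≠ 0 ∧ g c = 0) ∨ ((3 : F) = 0 ∧ g c ≠ 0) := fun F _ g => by
    rw [← map_ofNat g 3, map_ne_zero g, map_eq_zero g, map_eq_zero g, map_ne_zero g]
    exact hc
  let t : K := RatFunc.X
  have ht : t ≠ 0 := RatFunc.X_ne_zero
  obtain ⟨s, hs⟩ := IsAlgClosed.exists_pow_nat_eq (f t) (by norm_num : 0 < 3)
  have hs0 : s ≠ 0 := fun e => (map_ne_zero f).2 ht (by rw [← hs, e]; simp)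
  let cK : K := algebraMap k K c
  have e1 : PlaneCubic.scaleForm f ![1, (1 : Lˣ)⁻¹, (1 : Lˣ)⁻¹ * (1 : Lˣ)⁻¹] (PlaneCubic.twForm (1 : K) cK) =
      PlaneCubic.twForm (1 : L) (f cK) :=
    PlaneCubic.scale_twForm f 1 cK 1 (by simp)
  have e2 := PlaneCubic.scale_twForm f t cK (Units.mk0 s hs0) hs
  obtain ⟨e⟩ := no_twin f M h _ _ (PlaneCubic.twForm_ne_zero (1 : K) cK) (PlaneCubic.twForm_ne_zero t cK)
    (PlaneCubic.smooth_twForm one_ne_zero (hcF K (algebraMap k K)))
    (PlaneCubic.smooth_twForm ht (hcF K (algebraMap k K))) _ _ (e1.trans e2.symm)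
    (e1 ▸ PlaneCubic.twForm_ne_zero (1 : L) (f cK))
    (e1 ▸ PlaneCubic.smooth_twForm one_ne_zero (hcF L (f.comp (algebraMap k K))))
  obtain ⟨σ, hσ⟩ := PlaneCubic.exists_section_one cK
  obtain ⟨v, hv, hv0⟩ := PlaneCubic.exists_zero_of_section (PlaneCubic.twForm t cK) (σ ≫ e.hom.left)
    ((Category.assoc _ _ _).trans ((congrArg (σ ≫ ·) (Over.w e.hom)).trans hσ))
  exact hv (PlaneCubic.no_zero c v hv0)

end Groth.Agent.S15989
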