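import Groth.Statements.S15991
import Groth.Agent.Synt29.TrivDef
import Groth.Agent.Synt29.Marked

set_option autoImplicit false
universe u v
open Deform

namespace Groth.Agent.S15991

open AlgebraicGeometry CategoryTheory in
/-- Let k be a field and X an affine scheme smooth over k, with finitely many pairwise distinct
k-rational points p_j (j ∈ ι). Let X' → Spec k[ε] be flat, i : X → X' a morphism making X the fibre
over the closed point Spec k → Spec k[ε] (cartesian square), and p'_j : Spec k[ε] → X' sections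
restricting to the p_j. Then there is an isomorphism φ : X' ≅ X ×_{Spec k} Spec k[ε] over Spec k[ε]
such that i followed by φ is the inclusion of X at the closed point (its first component is the
identity of X) and each p'_j followed by φ is the constant section through p_j: every first-order
deformation of a smooth affine scheme with marked points is trivial. (The source says non-singular;
smooth over k is assumed here, and the marked points are taken pairwise distinct and finite in
number.) -/
theorem result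
    (k : Type u) [Field k] (X : Scheme.{u}) (hX : X ⟶ Spec (CommRingCat.of k)) [IsAffine X] [Smooth hX]
    {ι : Type v} [Finite ι] (p : ι → (Spec (CommRingCat.of k) ⟶ X)) (hp : ∀ j, p j ≫ hX = 𝟙 _)
    (hinj : Function.Injective p)
    (X' : Scheme.{u}) (g : X' ⟶ Spec (CommRingCat.of (DualNumber k))) [Flat g] (i : X ⟶ X')
    (hsq : IsPullback i hX g
      (Spec.map (CommRingCat.ofHom (TrivSqZeroExt.fstHom k k k).toRingHom)))
    (p' : ι → (Spec (CommRingCat.of (DualNumber k)) ⟶ X')) (hp' : ∀ j, p' j ≫ g = 𝟙 _)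
    (hpp' : ∀ j, p j ≫ i = Spec.map (CommRingCat.ofHom (TrivSqZeroExt.fstHom k k k).toRingHom) ≫ p' j) :
    ∃ φ : X' ≅ Limits.pullback hX (Spec.map (CommRingCat.ofHom (algebraMap k (DualNumber k)))),
      φ.hom ≫ Limits.pullback.snd hX (Spec.map (CommRingCat.ofHom (algebraMap k (DualNumber k)))) = g ∧
        i ≫ φ.hom ≫ Limits.pullback.fst hX (Spec.map (CommRingCat.ofHom (algebraMap k (DualNumber k)))) = 𝟙 X ∧
          ∀ j, p' j ≫ φ.hom ≫
              Limits.pullback.fst hX (Spec.map (CommRingCat.ofHom (algebraMap k (DualNumber k)))) =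
            Spec.map (CommRingCat.ofHom (algebraMap k (DualNumber k))) ≫ p j := by
  
  open Groth.Agent.Synt29 AlgebraicGeometry CategoryTheory in
  have : Module.Finite k (DualNumber k) := inferInstanceAs (Module.Finite k (k × k))
  have : IsArtinianRing (DualNumber k) := IsArtinianRing.of_finite k (DualNumber k)
  have := TrivDef.isAffine_total hsq
  obtain ⟨s, hs, hsk⟩ := TrivDef.exists_section_appTop hsq
  obtain ⟨hπ1, -, hπ3⟩ := TrivDef.ring_data hsq
  algebraize [TrivDef.struct hX]
  have : Algebra.Smooth k Γ(X, ⊤) := TrivDef.smooth_struct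
  have : Module.Projective Γ(X, ⊤) Ω[Γ(X, ⊤)⁄k] := inferInstance
  have hsec : ∀ j, (p j).appTop ≫ (Scheme.ΓSpecIso _).hom = (p j).appTop ≫ (Scheme.ΓSpecIso (CommRingCat.of k)).hom := fun j => rfl
  let q : ι → Γ(X, ⊤) →ₐ[k] k := fun j =>
    { ((p j).appTop ≫ (Scheme.ΓSpecIso (CommRingCat.of k)).hom).hom with
      commutes' := fun x => by
        have h := congrArg (fun f => (Scheme.ΓSpecIso (CommRingCat.of k)).inv ≫ f.appTop ≫ (Scheme.ΓSpecIso (CommRingCat.of k)).hom) (hp j)
        simp only [Scheme.Hom.comp_appTop, Scheme.Hom.id_appTop, Category.assoc] at h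
        erw [Category.id_comp, Iso.inv_hom_id] at h
        exact congrArg (fun f => f.hom x) h }
  have hq : Function.Injective q := fun a b h => hinj <| ext_of_isAffine <| by
    rw [← cancel_mono (Scheme.ΓSpecIso (CommRingCat.of k)).hom]
    exact CommRingCat.hom_ext (congrArg AlgHom.toRingHom h)
  let q' : ι → Γ(X', ⊤) →+* DualNumber k := fun j =>
    ((p' j).appTop ≫ (Scheme.ΓSpecIso (CommRingCat.of (DualNumber k))).hom).hom
  have hq' : ∀ j x, q' j (TrivDef.struct g x) = x := fun j x => by
    have h := congrArg (fun f => (Scheme.ΓSpecIso (CommRingCat.of (DualNumber k))).inv ≫ f.appTop ≫ (Scheme.ΓSpecIso (CommRingCat.of (DualNumber k))).hom) (hp' j)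
    simp only [Scheme.Hom.comp_appTop, Scheme.Hom.id_appTop, Category.assoc] at h
    erw [Category.id_comp, Iso.inv_hom_id] at h
    exact congrArg (fun f => f.hom x) h
  have hfst : ∀ j x, (q' j x).fst = q j (i.appTop.hom x) := fun j x => by
    have h := congrArg (fun f => f.appTop ≫ (Scheme.ΓSpecIso (CommRingCat.of k)).hom) (hpp' j)
    simp only [Scheme.Hom.comp_appTop, Category.assoc, Scheme.ΓSpecIso_naturality] at h
    exact (congrArg (fun f => f.hom x) h).symm
  have hπ : ∀ x, i.appTop.hom (TrivDef.struct g x) = algebraMap k Γ(X, ⊤) x.fst := fun x =>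
    RingHom.congr_fun hπ3 x
  obtain ⟨s', h1, h2, h3⟩ := Marked.exists_adapted i.appTop.hom (TrivDef.struct g) hπ q hq q' hq' hfst s hs hsk
  obtain ⟨r1, r2⟩ := TrivDef.retraction hsq s' h1 h2
  have := TrivDef.isIso_lift hsq _ r1 r2
  refine ⟨asIso (Limits.pullback.lift _ g r2), Limits.pullback.lift_snd _ _ _, ?_, fun j => ?_⟩
  · rw [asIso_hom, Limits.pullback.lift_fst]
    exact r1
  · rw [asIso_hom, Limits.pullback.lift_fst]
    refine ext_of_isAffine ?_
    rw [← cancel_mono (Scheme.ΓSpecIso (CommRingCat.of (DualNumber k))).hom]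
    have hr : (X'.isoSpec.hom ≫ Spec.map (CommRingCat.ofHom s') ≫ X.isoSpec.inv).appTop = CommRingCat.ofHom s' := by
      have hinv : X.isoSpec.inv.appTop = (Scheme.ΓSpecIso Γ(X, ⊤)).inv := by
        have h : X.isoSpec.hom.appTop ≫ X.isoSpec.inv.appTop = 𝟙 _ := by
          rw [← Scheme.Hom.comp_appTop, Iso.inv_hom_id, Scheme.Hom.id_appTop]
        rw [show X.isoSpec.hom.appTop = (Scheme.ΓSpecIso Γ(X, ⊤)).hom from Scheme.toSpecΓ_appTop X] at h
        rw [← cancel_epi (Scheme.ΓSpecIso Γ(X, ⊤)).hom, h, Iso.hom_inv_id]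
      rw [Scheme.Hom.comp_appTop, Scheme.Hom.comp_appTop, hinv,
        show X'.isoSpec.hom.appTop = (Scheme.ΓSpecIso Γ(X', ⊤)).hom from Scheme.toSpecΓ_appTop X',
        Category.assoc, Scheme.ΓSpecIso_naturality]
      exact Iso.inv_hom_id_assoc _ _
    rw [Scheme.Hom.comp_appTop (p' j), Scheme.Hom.comp_appTop _ (p j), hr, Category.assoc, Category.assoc, Scheme.ΓSpecIso_naturality]
    exact CommRingCat.hom_ext (RingHom.ext (h3 j))


end Groth.Agent.S15991
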