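import Groth.Statements.S15993
import Groth.Agent.AlgSpDec.SchDenseFacts
import Groth.Agent.SchDenseLib.Hom
import Mathlib.AlgebraicGeometry.Morphisms.FlatDescent

set_option autoImplicit false
open CategoryTheory AlgebraicGeometry
universe u
open EtHull

namespace Groth.Agent.S15993

open CategoryTheory CategoryTheory.Limits AlgebraicGeometry Groth.Agent

/-- Let f : X → S be a morphism of schemes which is faithfully flat (flat and surjective), quasi-compact
and separated, and schematically birational in the following sense: there are schematically dense
opens U of S and V of X, with the inclusion V → X quasi-compact, such that f maps V into U and the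
induced morphism V → U is an isomorphism. Then f is an isomorphism. (The source states this for
algebraic spaces and puts no quasi-compactness condition on the dense opens. Its proof base-changes
along f and uses that the inverse image of V in X ×_S X is again schematically dense, which holds
when V → X is quasi-compact, for instance when X is locally Noetherian, and fails in general: over
the Boolean ring of eventually constant sequences of elements of the field with two elements, the
spectrum of the ring of eventually two-periodic sequences is faithfully flat and affine, and it is
an isomorphism above the open set of principal points, which is schematically dense on both sides,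
yet it is not an isomorphism, the point at infinity being doubled. So V is taken retrocompact in X
here, and X, S are schemes.) -/
theorem result {X S : Scheme.{u}} (f : X ⟶ S)
    [Flat f] [Surjective f] [QuasiCompact f] [IsSeparated f]
    (U : S.Opens) (V : X.Opens) [QuasiCompact V.ι]
    (hU : CInt.IsSchematicallyDense U) (hV : CInt.IsSchematicallyDense V)
    (hle : V ≤ f ⁻¹ᵁ U) (hiso : IsIso (f.resLE U V hle)) : IsIso f := by
    have hV' := fun (W : X.Opens) (hW : IsAffineOpen W) => AlgSpDec.SchDenseFacts.isCompact_inf_of_quasiCompact V W hW
    let p := pullback.fst f f
    let q := pullback.snd f f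
    have hD : CInt.IsSchematicallyDense (p ⁻¹ᵁ V ⊓ q ⁻¹ᵁ V) :=
      AlgSpDec.SchDenseFacts.inf (AlgSpDec.SchDenseFacts.preimage_of_flat_qc p V hV hV')
        (AlgSpDec.SchDenseFacts.preimage_of_flat_qc q V hV hV')
    haveI : Mono (V.ι ≫ f) := by
      rw [← Scheme.Hom.resLE_comp_ι f hle]
      infer_instance
    have hpq : p = q := by
      refine SchDenseLib.hom_ext hD f p q pullback.condition ?_
      let D := p ⁻¹ᵁ V ⊓ q ⁻¹ᵁ V
      have ha : Set.range (D.ι ≫ p) ⊆ Set.range V.ι := by
        rintro _ ⟨y, rfl⟩
        rw [Scheme.Opens.range_ι]
        exact y.2.1
      have hb : Set.range (D.ι ≫ q) ⊆ Set.range V.ι := by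
        rintro _ ⟨y, rfl⟩
        rw [Scheme.Opens.range_ι]
        exact y.2.2
      rw [← IsOpenImmersion.lift_fac V.ι (D.ι ≫ p) ha, ← IsOpenImmersion.lift_fac V.ι (D.ι ≫ q) hb]
      congr 1
      rw [← cancel_mono (V.ι ≫ f), IsOpenImmersion.lift_fac_assoc, IsOpenImmersion.lift_fac_assoc]
      simp only [Category.assoc]
      rw [pullback.condition]
    haveI : Mono f := ⟨fun {Z} a b e => by
      have h1 : pullback.lift a b e ≫ p = pullback.lift a b e ≫ q := by rw [hpq]
      exact ((pullback.lift_fst a b e).symm.trans h1).trans (pullback.lift_snd a b e)⟩
    exact MorphismProperty.of_pullback_fst_of_descendsAlong (P := MorphismProperty.isomorphisms Scheme.{u})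
      (Q := @Surjective ⊓ @Flat ⊓ @QuasiCompact) (f := f) (g := f) ⟨⟨inferInstance, inferInstance⟩, inferInstance⟩
      (inferInstanceAs (IsIso (pullback.fst f f)))

end Groth.Agent.S15993
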