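import Groth.Statements.S15994
import Groth.Agent.EtHull5.Greatest
-- import your own Groth.Agent.* helpers here

set_option autoImplicit false
open CategoryTheory AlgebraicGeometry
universe u
open EtHull

namespace Groth.Agent.S15994

/-- Let S be a Noetherian scheme all of whose local rings are geometrically unibranch and whose
structure sheaf has no embedded associated points, and let f : X → S be flat, surjective and of
finite presentation. Then there is a factorization X → E₀ → S of f with E₀ → S étale and affine and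
X → E₀ schematically dominant (the étale affine hull of X over S), and it is initial among all
factorizations of f through étale affine S-schemes: for every factorization X → E → S of f with E →
S étale and affine there is a unique morphism E₀ → E compatible with the maps from X and to S. In
particular it is the largest factorization with X → E schematically dominant. (The source allows X
to be an algebraic space; X is a scheme here.) -/
theorem result {X S : Scheme.{u}} [IsNoetherian S]
    (hS : ∀ s : S, CAlg2.IsGeomUnibranch (S.presheaf.stalk s))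
    (hemb : AssSch.NoEmbedded (Coh.structureModule S))
    (f : X ⟶ S) [Flat f] [Surjective f] [LocallyOfFinitePresentation f] [QuasiCompact f]
    [QuasiSeparated f] :
    ∃ (E₀ : Scheme.{u}) (g₀ : E₀ ⟶ S) (u₀ : X ⟶ E₀), Etale g₀ ∧ IsAffineHom g₀ ∧
      IsSchemeTheoreticallyDominant u₀ ∧ u₀ ≫ g₀ = f ∧
      ∀ (E : Scheme.{u}) (g : E ⟶ S) (u : X ⟶ E), Etale g → IsAffineHom g → u ≫ g = f →
        ∃! v : E₀ ⟶ E, u₀ ≫ v = u ∧ v ≫ g = g₀ := by
  haveI hfd : IsSchemeTheoreticallyDominant f :=
    EtHull5.dominant_of_flat f fun z _ => f.surjective z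
  let F₁ : EtHull5.Fac f := ⟨S, 𝟙 S, f, inferInstance, inferInstance, hfd, Category.comp_id f⟩
  obtain ⟨F₀, -, hF₀⟩ := EtHull5.exists_greatest f hemb Set.univ ⟨F₁, trivial⟩ fun F _ G _ => by
    obtain ⟨H, vF, vG, e₁, e₂, e₁', e₂', -⟩ := EtHull5.exists_sup f hS hemb F G
    exact ⟨H, trivial, ⟨vF, e₁, e₁'⟩, ⟨vG, e₂, e₂'⟩⟩
  refine ⟨F₀.E, F₀.g, F₀.u, F₀.etale, F₀.affine, F₀.dom, F₀.fac, fun E g u he ha hu => ?_⟩
  obtain ⟨E', j, u', -, he', ha', hd', hfac, -⟩ := EtHull5.exists_image hS hemb f g u hu
  obtain ⟨v, hv, hv'⟩ := hF₀ ⟨E', j ≫ g, u', he', ha', hd', by rw [reassoc_of% hfac, hu]⟩ trivial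
  dsimp only at hv hv'
  refine ⟨v ≫ j, ⟨by rw [reassoc_of% hv, hfac], by rw [Category.assoc]; exact hv'⟩, fun w hw => ?_⟩
  haveI := F₀.dom
  refine (S2299.result F₀.u g (v ≫ j) w ((show (v ≫ j) ≫ g = F₀.g by rw [Category.assoc]; exact hv').trans hw.2.symm) ?_).symm
  rw [reassoc_of% hv, hfac, hw.1]


end Groth.Agent.S15994
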