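import Groth.Statements.S15995
import Mathlib

set_option autoImplicit false
open CategoryTheory AlgebraicGeometry
universe u
open FrobSch

namespace Groth.Agent.S15995

open AlgebraicGeometry CategoryTheory Limits in
/-- Relative perfection as a cartesian square. -/
theorem isIso_relFrob_iff (p : ℕ) [Fact p.Prime] {X S : Scheme.{u}} [FrobSch.IsCharP S p] [FrobSch.IsCharP X p] (f : X ⟶ S) :
    IsIso (FrobSch.relFrob f p) ↔ IsPullback (FrobSch.frob X p) f f (FrobSch.frob S p) := by
  constructor
  · intro h
    exact IsPullback.of_iso_pullback ⟨FrobSch.frob_comp p f⟩ (asIso (FrobSch.relFrob f p)) (FrobSch.relFrob_fst f p)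
      (FrobSch.relFrob_snd f p)
  · intro h
    have : FrobSch.relFrob f p = h.isoPullback.hom := by
      apply pullback.hom_ext <;> simp
    rw [this]
    infer_instance

/-- Coperfection commutes with base restriction. Let S and T be schemes of characteristic p and f : T →
S a relatively perfect morphism (its relative Frobenius T → T^(p/S) is an isomorphism). Let g : X →
T and let c : X → X' be a T-morphism to a relatively perfect T-scheme π : X' → T which is a
coperfection of X over T: for every relatively perfect T-scheme Y, every T-morphism X → Y factors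
uniquely through c. Then X' with structure map π ≫ f is relatively perfect over S and c is a
coperfection of X over S: every S-morphism from X to a relatively perfect S-scheme factors uniquely
through c. (The source works with algebraic spaces; schemes here.) -/
theorem result (p : ℕ) [Fact p.Prime] {X X' T S : Scheme.{u}}
    [FrobSch.IsCharP S p] [FrobSch.IsCharP T p] (f : T ⟶ S) (hf : IsIso (FrobSch.relFrob f p))
    (g : X ⟶ T) (π : X' ⟶ T) (hπ : IsIso (FrobSch.relFrob π p)) (c : X ⟶ X') (hc : c ≫ π = g)
    (huniv : ∀ (Y : Scheme.{u}) (q : Y ⟶ T), IsIso (FrobSch.relFrob q p) →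
      ∀ k : X ⟶ Y, k ≫ q = g → ∃! h : X' ⟶ Y, h ≫ q = π ∧ c ≫ h = k) :
    IsIso (FrobSch.relFrob (π ≫ f) p) ∧
      ∀ (Y : Scheme.{u}) (r : Y ⟶ S), IsIso (FrobSch.relFrob r p) →
        ∀ k : X ⟶ Y, k ≫ r = g ≫ f → ∃! h : X' ⟶ Y, h ≫ r = π ≫ f ∧ c ≫ h = k := by
  
  open AlgebraicGeometry CategoryTheory Limits in
  have : FrobSch.IsCharP X' p := FrobSch.IsCharP.of_hom π p
  have hf' := (isIso_relFrob_iff p f).1 hf
  have hπ' := (isIso_relFrob_iff p π).1 hπ
  refine ⟨(isIso_relFrob_iff p (π ≫ f)).2 (hπ'.paste_vert hf'), fun Y r hr k hk => ?_⟩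
  have : FrobSch.IsCharP Y p := FrobSch.IsCharP.of_hom r p
  let q := pullback.snd r f
  have : FrobSch.IsCharP (pullback r f) p := FrobSch.IsCharP.of_hom q p
  have hd : IsPullback (pullback.fst r f) q r f := IsPullback.of_hasPullback r f
  have hq : IsIso (FrobSch.relFrob q p) := by
    refine (isIso_relFrob_iff p q).2 ?_
    have big := hd.paste_horiz ((isIso_relFrob_iff p r).1 hr)
    rw [← FrobSch.frob_comp p (pullback.fst r f), ← FrobSch.frob_comp p f] at big
    exact IsPullback.of_right big (FrobSch.frob_comp p q) hd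
  obtain ⟨h', ⟨h1, h2⟩, huniq⟩ := huniv _ q hq (pullback.lift k g hk) (pullback.lift_snd _ _ _)
  refine ⟨h' ≫ pullback.fst r f, ⟨?_, ?_⟩, fun h ⟨e1, e2⟩ => ?_⟩
  · rw [Category.assoc, pullback.condition, ← Category.assoc]
    exact congrArg (· ≫ f) h1
  · rw [← Category.assoc, h2, pullback.lift_fst]
  · have : pullback.lift h π e1 = h' := huniq _ ⟨pullback.lift_snd _ _ _, by
      apply pullback.hom_ext
      · rw [Category.assoc, pullback.lift_fst, pullback.lift_fst, e2]
      · rw [Category.assoc, pullback.lift_snd, pullback.lift_snd, hc]⟩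
    rw [← this, pullback.lift_fst]


end Groth.Agent.S15995
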