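import Groth.Statements.S15996
import Groth.Agent.EtHull5.Basic
import Groth.Agent.UnibEtale.Comp
-- import your own Groth.Agent.* helpers here

set_option autoImplicit false
set_option linter.style.haveILetI false
open CategoryTheory AlgebraicGeometry
universe u
open EtHull

namespace Groth.Agent.S15996

/-- Let R be a Noetherian ring whose localizations at all prime ideals are regular local rings, S = Spec
R, and q : U → S an étale, separated and quasi-compact morphism of schemes. The following are
equivalent: (1) there is an open immersion of U into a scheme E which is étale and affine over S,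
compatible with q; (2) the affine hull Spec Γ(U, O_U) → S of U over S is étale. (The source states
this for a locally Noetherian algebraic space S all of whose étale atlases are locally ℚ-factorial;
this row is the case of an affine regular Noetherian base, a regular scheme being locally
ℚ-factorial.) -/
theorem result {R : Type u} [CommRing R]
    [IsNoetherianRing R] (hreg : ∀ (P : Ideal R) [P.IsPrime], IsRegularLocalRing (Localization.AtPrime P))
    {U : Scheme.{u}} (q : U ⟶ Spec (CommRingCat.of R)) [Etale q] [IsSeparated q] [QuasiCompact q] :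
    (∃ (E : Scheme.{u}) (j : U ⟶ E) (g : E ⟶ Spec (CommRingCat.of R)),
        IsOpenImmersion j ∧ Etale g ∧ IsAffineHom g ∧ j ≫ g = q) ↔
      Etale (Spec.map q.appTop ≫ (Spec (CommRingCat.of R)).isoSpec.inv) := by
  constructor
  · rintro ⟨E, j, g, hj, hg, hga, hjg⟩
    haveI : IsAffine E := isAffine_of_isAffineHom g
    let g' : Spec Γ(E, ⊤) ⟶ Spec (CommRingCat.of R) := E.isoSpec.inv ≫ g
    let j' : U ⟶ Spec Γ(E, ⊤) := j ≫ E.isoSpec.hom
    haveI : Etale g' := inferInstanceAs (Etale (E.isoSpec.inv ≫ g))
    haveI : IsOpenImmersion j' := inferInstanceAs (IsOpenImmersion (j ≫ E.isoSpec.hom))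
    haveI : IsLocallyNoetherian (Spec Γ(E, ⊤)) := LocallyOfFiniteType.isLocallyNoetherian g'
    haveI : IsNoetherianRing Γ(E, ⊤) :=
      (isNoetherian_Spec (R := Γ(E, ⊤))).1 { __ := ‹IsLocallyNoetherian (Spec Γ(E, ⊤))› }
    obtain ⟨V, jV, hV, hjV, hiso⟩ := Groth.Agent.EtHull5.exists_affine_hull Γ(E, ⊤) (fun m _ =>
      Groth.Agent.EtHull5.regular_of_etale (A := CommRingCat.of R) hreg g' m) j'
    haveI : IsAffine V.toScheme := hV
    have hq : q = jV ≫ V.ι ≫ g' := by rw [← Category.assoc, hjV]; simp [j', g', hjg]
    subst hq
    rw [Scheme.Hom.comp_appTop, Spec.map_comp, Category.assoc, Scheme.isoSpec_inv_naturality]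
    infer_instance
  · intro h
    haveI : CompactSpace U := QuasiCompact.compactSpace_of_compactSpace q
    haveI := Groth.Agent.UnibEtale.locallyQuasiFinite_of_formallyUnramified q
    haveI : U.IsQuasiAffine := Groth.Agent.MorLib.IQA.qa_of_locallyQuasiFinite q
    refine ⟨Spec Γ(U, ⊤), U.toSpecΓ, _, inferInstance, h, inferInstance, ?_⟩
    rw [← Category.assoc, ← Scheme.toSpecΓ_naturality, Category.assoc, ← Scheme.isoSpec_hom,
      Iso.hom_inv_id, Category.comp_id]

end Groth.Agent.S15996
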