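import Groth.Statements.S15997
import Groth.Agent.EtHull5.Greatest
-- import your own Groth.Agent.* helpers here

set_option autoImplicit false
open CategoryTheory AlgebraicGeometry
universe u
open EtHull

namespace Groth.Agent.S15997

/-- Let S be a Noetherian scheme all of whose local rings are geometrically unibranch and whose
structure sheaf has no embedded associated points, and let f : X → S be flat, surjective and of
finite presentation. Call an admissible factorization a factorization X → E → S of f with E → S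
étale and affine and X → E schematically dominant. Then any two admissible factorizations X → E₁ → S
and X → E₂ → S have a supremum: an admissible factorization X → E → S with compatible S-morphisms E
→ E₁ and E → E₂, such that every admissible factorization X → E' → S with compatible S-morphisms E'
→ E₁ and E' → E₂ admits a compatible morphism E' → E. (The source allows X to be an algebraic space;
X is a scheme here.) -/
theorem result {X S : Scheme.{u}} [IsNoetherian S]
    (hS : ∀ s : S, CAlg2.IsGeomUnibranch (S.presheaf.stalk s))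
    (hemb : AssSch.NoEmbedded (Coh.structureModule S))
    (f : X ⟶ S) [Flat f] [Surjective f] [LocallyOfFinitePresentation f] [QuasiCompact f]
    [QuasiSeparated f]
    (E₁ E₂ : Scheme.{u}) (g₁ : E₁ ⟶ S) (g₂ : E₂ ⟶ S) (u₁ : X ⟶ E₁) (u₂ : X ⟶ E₂)
    [Etale g₁] [Etale g₂] [IsAffineHom g₁] [IsAffineHom g₂]
    [IsSchemeTheoreticallyDominant u₁] [IsSchemeTheoreticallyDominant u₂]
    (h₁ : u₁ ≫ g₁ = f) (h₂ : u₂ ≫ g₂ = f) :
    ∃ (E : Scheme.{u}) (g : E ⟶ S) (u : X ⟶ E) (v₁ : E ⟶ E₁) (v₂ : E ⟶ E₂),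
      Etale g ∧ IsAffineHom g ∧ IsSchemeTheoreticallyDominant u ∧ u ≫ g = f ∧
      u ≫ v₁ = u₁ ∧ u ≫ v₂ = u₂ ∧ v₁ ≫ g₁ = g ∧ v₂ ≫ g₂ = g ∧
      ∀ (E' : Scheme.{u}) (g' : E' ⟶ S) (u' : X ⟶ E') (w₁ : E' ⟶ E₁) (w₂ : E' ⟶ E₂),
        Etale g' → IsAffineHom g' → IsSchemeTheoreticallyDominant u' → u' ≫ g' = f →
        u' ≫ w₁ = u₁ → u' ≫ w₂ = u₂ → w₁ ≫ g₁ = g' → w₂ ≫ g₂ = g' →
        ∃ w : E' ⟶ E, u' ≫ w = u ∧ w ≫ v₁ = w₁ ∧ w ≫ v₂ = w₂ := by
  obtain ⟨H, v₁, v₂, e₁, e₂, e₁', e₂', huniv⟩ := EtHull5.exists_sup f hS hemb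
    ⟨E₁, g₁, u₁, inferInstance, inferInstance, inferInstance, h₁⟩
    ⟨E₂, g₂, u₂, inferInstance, inferInstance, inferInstance, h₂⟩
  exact ⟨H.E, H.g, H.u, v₁, v₂, H.etale, H.affine, H.dom, H.fac, e₁, e₂, e₁', e₂',
    fun E' g' u' w₁ w₂ _ hg' hu' hf h₁' h₂' h₁'' h₂'' => huniv E' g' u' w₁ w₂ hg' hu' hf h₁' h₂' h₁'' h₂''⟩


end Groth.Agent.S15997
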