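import Groth.Statements.S1600
import Mathlib
import Groth.Agent.AltRegular.Basic

set_option autoImplicit false
universe u
open CategoryTheory CategoryTheory.Limits AlgebraicGeometry
open Resolve

namespace Groth.Agent.S1600

/-- Let A be a Noetherian domain such that Spec A admits an alteration f : X → Spec A with X regular.
Then the integral closure of A in its fraction field is a finite A-module (A is N-1), and some
nonempty open subset of Spec A consists of points whose local ring is regular. (The published
statement is for any Noetherian integral scheme; it is stated here for an affine one.) -/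
theorem result (A : Type u) [CommRing A] [IsDomain A] [IsNoetherianRing A]
    (X : Scheme.{u}) (f : X ⟶ Spec (CommRingCat.of A)) (hf : Curv2.IsAlteration f)
    (hreg : ∀ x : X, IsRegularLocalRing (X.presheaf.stalk x)) :
    CAlg.IsN1 A ∧ ∃ U : (Spec (CommRingCat.of A)).Opens, (U : Set (Spec (CommRingCat.of A))).Nonempty ∧
      ∀ y ∈ U, IsRegularLocalRing ((Spec (CommRingCat.of A)).presheaf.stalk y) := by
  obtain ⟨hp, hi, -, hd, -⟩ := hf
  exact ⟨Groth.Agent.AltRegular.isN1 A f hreg, Groth.Agent.AltRegular.exists_regular_open A f hreg⟩

end Groth.Agent.S1600
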