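import Groth.Statements.S16000
import Groth.Agent.H26.PerfPure

set_option autoImplicit false
universe u
open FrobAlg

namespace Groth.Agent.S16000

open TensorProduct in
/-- Let p be a prime, R a commutative ring of characteristic p such that R is a projective R-module
through its absolute Frobenius, and A a commutative R-algebra of characteristic p, with Frobenius
twists A^{p^i/R} = R ⊗_{F^i,R} A, relative Frobenius maps A^{p^{i+1}/R} → A^{p^i/R} and
preperfection A^{p^∞/R} = lim_i A^{p^i/R} ⊆ Π_i A^{p^i/R}. Let R' be the direct-limit perfection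
colim(R → R → ⋯) of R along Frobenius, an R-module through the canonical map R → R'. Then the
natural map R' ⊗_R A^{p^∞/R} → Π_i (R' ⊗_R A^{p^i/R}), r ⊗ x ↦ (r ⊗ x_i)_i, is injective; in
particular the base-change map R' ⊗_R lim_i A^{p^i/R} → lim_i (R' ⊗_R A^{p^i/R}) is injective. (The
published statement identifies the target limit with the preperfection of A ⊗_R R' over R'; that
identification is not part of this row.) -/
theorem result
    (p : ℕ) [Fact p.Prime] (R : Type u) [CommRing R] [CharP R p]
    (A : Type u) [CommRing A] [Algebra R A] [CharP A p]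
    [Module.Projective R (FrobAlg.Twist p R)] :
    letI : Algebra R (PerfectClosure R p) := (PerfectClosure.of R p).toAlgebra
    Function.Injective
      (LinearMap.pi fun i : ℕ =>
        LinearMap.lTensor (PerfectClosure R p)
          (((Pi.evalAlgHom R (fun k => W4c1imperftorsors.Twist p R A k) i).comp
            (W4c1imperftorsors.prePerf p R A).val).toLinearMap) :
        PerfectClosure R p ⊗[R] ↥(W4c1imperftorsors.prePerf p R A) →ₗ[R]
          (Π i : ℕ, PerfectClosure R p ⊗[R] W4c1imperftorsors.Twist p R A i)) := by
  letI : Algebra R (PerfectClosure R p) := (PerfectClosure.of R p).toAlgebra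
  let f : ∀ i : ℕ, ↥(W4c1imperftorsors.prePerf p R A) →ₗ[R] W4c1imperftorsors.Twist p R A i := fun i =>
    ((Pi.evalAlgHom R (fun k => W4c1imperftorsors.Twist p R A k) i).comp
      (W4c1imperftorsors.prePerf p R A).val).toLinearMap
  show Function.Injective (LinearMap.pi fun i : ℕ => LinearMap.lTensor (PerfectClosure R p) (f i))
  refine (injective_iff_map_eq_zero _).2 fun z hz => ?_
  obtain ⟨n, ψ, w, hψ, rfl⟩ := Groth.Agent.H26.PerfPure.exists_rep p R ↥(W4c1imperftorsors.prePerf p R A) z
  haveI := Groth.Agent.H26.PerfPure.projective_fr p R n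
  have hcomp : ∀ i, (f i).lTensor (Groth.Agent.H26.PerfPure.Fr p R n) w = 0 := fun i => by
    apply Groth.Agent.H26.PerfPure.lTensor_injective p R n (W4c1imperftorsors.Twist p R A i) ψ hψ
    rw [map_zero, ← LinearMap.comp_apply, LinearMap.rTensor_comp_lTensor, ← LinearMap.lTensor_comp_rTensor]
    exact congrFun hz i
  let incl : ↥(W4c1imperftorsors.prePerf p R A) →ₗ[R] (Π i, W4c1imperftorsors.Twist p R A i) :=
    (W4c1imperftorsors.prePerf p R A).val.toLinearMap
  have h1 : incl.lTensor (Groth.Agent.H26.PerfPure.Fr p R n) w = 0 := by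
    refine Groth.Agent.H26.PerfPure.pi_injective _ _ _ fun i => ?_
    rw [← LinearMap.comp_apply, ← LinearMap.lTensor_comp]
    exact hcomp i
  have hinj : Function.Injective (incl.lTensor (Groth.Agent.H26.PerfPure.Fr p R n)) :=
    Module.Flat.lTensor_preserves_injective_linearMap incl Subtype.val_injective
  rw [(injective_iff_map_eq_zero _).1 hinj w h1, map_zero]

end Groth.Agent.S16000
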