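import Groth.Statements.S16002
import Groth.Agent.Lib.CurveHiggs

set_option autoImplicit false
set_option linter.style.haveILetI false
set_option backward.isDefEq.respectTransparency false
set_option backward.isDefEq.respectTransparency.types false
open CategoryTheory AlgebraicGeometry CategoryTheory.Limits
open VBCurve

namespace Groth.Agent.S16002

open Groth.Agent.CurveBundle Groth.Agent.CurveSlope Groth.Agent.CurveStable

/-- Let X be a smooth proper integral curve over the complex numbers and (L_i)_{i ∈ ι} a family of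
invertible O_X-modules. A tuple is a finite locally free O_X-module E of rank r ≥ 1 with maps φ_i :
E → E ⊗ L_i; a submodule j : G → E (a monomorphism) is invariant when for every i some χ : G → G ⊗
L_i followed by j ⊗ L_i equals j followed by φ_i; the tuple is semistable when deg G · r ≤ deg E · n
for every invariant finite locally free submodule G of rank n ≥ 1, degrees being χ − rank · χ(O_X).
If (E, φ) and (F, ψ) are semistable tuples of ranks r ≥ 1 and s ≥ 1 over the same family (L_i) and f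
: E → F is a nonzero module map with f followed by ψ_i equal to φ_i followed by f ⊗ L_i for every i,
then the slope of E is at most that of F: deg E · s ≤ deg F · r. (The published lemma has finitely
many pairwise commuting twisting maps and morphisms compatible up to one nonzero scalar; the
commutation is not used, the index set is arbitrary here, and the scalar case reduces to this one by
rescaling the ψ_i.) -/
theorem result
    (X : Scheme.{0}) [X.Over (Spec (CommRingCat.of ℂ))] [IsIntegral X]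
    [IsProper (X ↘ Spec (CommRingCat.of ℂ))] [Smooth (X ↘ Spec (CommRingCat.of ℂ))]
    (hdim : topologicalKrullDim X = 1)
    (ι : Type) (L : ι → X.Modules) (hL : ∀ i, PicF.IsInvertible (L i))
    (r s : ℕ) (hr : 0 < r) (hs : 0 < s)
    (E F : X.Modules) (hE : FlatMod.IsFinLocFreeOfRank r E) (hF : FlatMod.IsFinLocFreeOfRank s F)
    (φ : ∀ i, E ⟶ CohB1.tensorMod E (L i)) (ψ : ∀ i, F ⟶ CohB1.tensorMod F (L i))
    (hEss : (∀ (G : X.Modules) (n : ℕ) (j : G ⟶ E), Mono j → 0 < n → FlatMod.IsFinLocFreeOfRank n G →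
      (∀ i, ∃ χ : G ⟶ CohB1.tensorMod G (L i), χ ≫ (CohB1.sheafifyMod X).map (MonoidalCategoryStruct.whiskerRight (C := CohB1.PMod X) j.val (CohB1.toPMod (L i))) = j ≫ φ i) →
      Curv2.deg ℂ X G n * (r : ℤ) ≤ Curv2.deg ℂ X E r * (n : ℤ)))
    (hFss : (∀ (G : X.Modules) (n : ℕ) (j : G ⟶ F), Mono j → 0 < n → FlatMod.IsFinLocFreeOfRank n G →
      (∀ i, ∃ χ : G ⟶ CohB1.tensorMod G (L i), χ ≫ (CohB1.sheafifyMod X).map (MonoidalCategoryStruct.whiskerRight (C := CohB1.PMod X) j.val (CohB1.toPMod (L i))) = j ≫ ψ i) →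
      Curv2.deg ℂ X G n * (s : ℤ) ≤ Curv2.deg ℂ X F s * (n : ℤ)))
    (f : E ⟶ F) (hf : ∀ i, f ≫ ψ i = φ i ≫ (CohB1.sheafifyMod X).map (MonoidalCategoryStruct.whiskerRight (C := CohB1.PMod X) f.val (CohB1.toPMod (L i)))) (hne : f ≠ 0) :
    Curv2.deg ℂ X E r * (s : ℤ) ≤ Curv2.deg ℂ X F s * (r : ℤ) := by
  obtain ⟨I, π, j, hj, hπ, hfac, hK, hI, hrk, hdg, hpos, -⟩ :=
    exists_decomp ℂ hdim.le (isFinLocFree_of_rank hE) (isFinLocFree_of_rank hF) f
  haveI := hj
  haveI := hπ
  have inv := fun i => Groth.Agent.CurveHiggs.exists_invariant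
    (isFinLocFree_of_rank (Groth.Agent.InvEnd.isFinLocFreeOfRank_one (hL i))) (φ i) (ψ i) f (hf i) π j hfac
  have hK1 := isFinLocFreeOfRank_rk hK
  have hI1 := isFinLocFreeOfRank_rk hI
  have h1 : dg ℂ (kernel f) * (r : ℤ) ≤ dg ℂ E * (rk (kernel f) : ℤ) := by
    rcases Nat.eq_zero_or_pos (rk (kernel f)) with h0 | h0
    · haveI := Groth.Agent.CurveSlope.isLocallyNoetherian' ℂ (X := X)
      rw [h0, dg_eq_zero_of_isZero ℂ (isZero_of_rk_zero hK h0)]
      simp
    · rw [← deg_eq_dg ℂ hK1, ← deg_eq_dg ℂ hE]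
      exact hEss _ _ (kernel.ι f) inferInstance h0 hK1 (fun i => (inv i).1)
  have h2 : dg ℂ I * (s : ℤ) ≤ dg ℂ F * (rk I : ℤ) := by
    rw [← deg_eq_dg ℂ hI1, ← deg_eq_dg ℂ hF]
    exact hFss _ _ j hj (hpos hne) hI1 (fun i => (inv i).2)
  rw [deg_eq_dg ℂ hE, deg_eq_dg ℂ hF]
  have hr' : (r : ℤ) = (rk (kernel f) : ℤ) + (rk I : ℤ) := by
    exact_mod_cast (rk_eq hE).symm.trans hrk
  have hI0 : (0 : ℤ) < rk I := by exact_mod_cast hpos hne
  have hge : dg ℂ E * (rk I : ℤ) ≤ dg ℂ I * (r : ℤ) := by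
    linear_combination h1 + (r : ℤ) * hdg - (dg ℂ E) * hr'
  have h3 := mul_le_mul_of_nonneg_right h2 (Int.natCast_nonneg r)
  have h4 := mul_le_mul_of_nonneg_right hge (Int.natCast_nonneg s)
  refine le_of_mul_le_mul_right ?_ hI0
  linarith

end Groth.Agent.S16002
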