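import Groth.Statements.S16003
import Groth.Agent.Lib.CurveHiggs

set_option autoImplicit false
set_option linter.style.haveILetI false
set_option backward.isDefEq.respectTransparency false
set_option backward.isDefEq.respectTransparency.types false
open CategoryTheory AlgebraicGeometry CategoryTheory.Limits
open VBCurve

namespace Groth.Agent.S16003

open Groth.Agent.CurveBundle Groth.Agent.CurveSlope Groth.Agent.CurveStable

/-- Let X be a smooth proper integral curve over the complex numbers and L an invertible O_X-module; an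
L-valued pair is a finite locally free O_X-module E of rank r ≥ 1 with a map φ : E → E ⊗ L; a
submodule j : G → E (a monomorphism) is φ-invariant when some χ : G → G ⊗ L followed by j ⊗ L equals
j followed by φ; the pair is semistable when deg G · r ≤ deg E · n for every φ-invariant finite
locally free submodule G of rank n ≥ 1, degrees being χ − rank · χ(O_X). If (E, φ) is a semistable
pair and φ is not zero, then L has non-negative degree. (The published statement is for tuples of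
finitely many commuting twisting maps; this is the assertion for the one map φ.) -/
theorem result
    (X : Scheme.{0}) [X.Over (Spec (CommRingCat.of ℂ))] [IsIntegral X]
    [IsProper (X ↘ Spec (CommRingCat.of ℂ))] [Smooth (X ↘ Spec (CommRingCat.of ℂ))]
    (hdim : topologicalKrullDim X = 1)
    (L : X.Modules) (hL : PicF.IsInvertible L)
    (r : ℕ) (hr : 0 < r) (E : X.Modules) (hE : FlatMod.IsFinLocFreeOfRank r E)
    (φ : E ⟶ CohB1.tensorMod E L)
    (hss : (∀ (G : X.Modules) (n : ℕ) (j : G ⟶ E) (χ : G ⟶ CohB1.tensorMod G L), Mono j → 0 < n →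
      FlatMod.IsFinLocFreeOfRank n G →
      χ ≫ (CohB1.sheafifyMod X).map (MonoidalCategoryStruct.whiskerRight (C := CohB1.PMod X) j.val (CohB1.toPMod L)) = j ≫ φ →
      Curv2.deg ℂ X G n * (r : ℤ) ≤ Curv2.deg ℂ X E r * (n : ℤ)))
    (hφ : φ ≠ 0) :
    0 ≤ Curv2.deg ℂ X L 1 := by
  by_contra hneg
  push Not at hneg
  haveI := Groth.Agent.CurveSlope.isLocallyNoetherian' ℂ (X := X)
  have hL1 := Groth.Agent.InvEnd.isFinLocFreeOfRank_one hL
  have hLf := isFinLocFree_of_rank hL1
  obtain ⟨D, hD, ⟨e0⟩⟩ := Groth.Agent.H23.PicInv.exists_inverse hL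
  have e : (DCoh.tensorBi.obj L).obj D ≅ Coh.structureModule X := e0
  have hD1 := Groth.Agent.InvEnd.isFinLocFreeOfRank_one hD
  have hdD : Curv2.deg ℂ X D 1 = -Curv2.deg ℂ X L 1 := by
    have h := Groth.Agent.CurveRR.deg_tensor ℂ hdim hL hD
    rw [Groth.Agent.CurveRR.deg_congr ℂ e, Groth.Agent.CurveDeg.deg_structureModule] at h
    omega
  let T := DCoh.tensorBi.flip.obj L
  haveI : T.IsEquivalence :=
    haveI : (DCoh.tensorBi.obj L).IsEquivalence :=
      (Groth.Agent.CurveHiggs.twistEquiv e).isEquivalence_functor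
    Functor.isEquivalence_of_iso (Groth.Agent.CurveHiggs.flipIso L).symm
  have hEf := isFinLocFree_of_rank hE
  have hEc := coh_of_free ℂ hEf
  -- ranks and degrees in the twisted category
  have htw : ∀ {G G' : X.Modules}, Coh.IsCoh G → (T.obj G' ≅ G) →
      Coh.IsCoh G' ∧ rk G' = rk G ∧ dg ℂ G = dg ℂ G' + (rk G : ℤ) * Curv2.deg ℂ X L 1 := by
    intro G G' hG η
    have e1 : (DCoh.tensorBi.obj L).obj G' ≅ G := ((Groth.Agent.CurveHiggs.flipIso L).app G').symm ≪≫ η
    have e2 : (DCoh.tensorBi.obj D).obj G ≅ G' :=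
      (DCoh.tensorBi.obj D).mapIso e1.symm ≪≫ ((Groth.Agent.CurveHiggs.twistEquiv e).unitIso.app G').symm
    have hG'q : Coh.IsQCoh G' := (Groth.Agent.QCoh.isQCoh_iff_iso e2).1
      (Groth.Agent.CurveTensor.isCoh_tensor (isFinLocFree_of_rank hD1) hG).1
    have hG' : Coh.IsCoh G' :=
      ⟨hG'q, (Groth.Agent.QCoh.isCoh_of_epi e2.hom (Groth.Agent.CurveTensor.isCoh_tensor (isFinLocFree_of_rank hD1) hG) hG'q).2⟩
    have h1 := Groth.Agent.CurveTensor.euler_tensor ℂ hdim hL1 hG'
    rw [Groth.Agent.Euler.euler_congr ℂ e1] at h1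
    have h2 := Groth.Agent.CurveTensor.euler_tensor ℂ hdim hD1 hG
    rw [Groth.Agent.Euler.euler_congr ℂ e2, hdD] at h2
    have h3 : ((rk G' : ℤ) - (rk G : ℤ)) * Curv2.deg ℂ X L 1 = 0 := by
      push_cast at h1 h2
      linear_combination -h1 - h2
    have h4 : rk G' = rk G := by
      have := (mul_eq_zero.1 h3).resolve_right hneg.ne
      omega
    refine ⟨hG', h4, ?_⟩
    rw [h4] at h1
    unfold dg
    rw [h4]
    push_cast at h1
    linarith
  obtain ⟨hF', -, hF2⟩ := htw (Groth.Agent.CurveHiggs.isCoh_twist hLf hEc) (Iso.refl (T.obj E))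
  have hFf : FlatMod.IsFinLocFree ((DCoh.tensorBi.obj E).obj L) := Groth.Agent.CurveHiggs.isFinLocFree_twist hL hEf
  obtain ⟨I, π, j, hj, hπ, hfac, hK, hI, hrk, hdg, hpos, -⟩ :=
    exists_decomp ℂ hdim.le hEf hFf (show E ⟶ (DCoh.tensorBi.obj E).obj L from φ)
  haveI := hj
  haveI := hπ
  obtain ⟨⟨χK, hχK⟩, χI, hχI⟩ := Groth.Agent.CurveHiggs.exists_invariant hLf φ
    (Groth.Agent.CurveHiggs.twist L φ) φ rfl π j hfac
  have hK1 := isFinLocFreeOfRank_rk hK
  have h1 : dg ℂ (kernel (show E ⟶ (DCoh.tensorBi.obj E).obj L from φ)) * (r : ℤ) ≤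
      dg ℂ E * (rk (kernel (show E ⟶ (DCoh.tensorBi.obj E).obj L from φ)) : ℤ) := by
    rcases Nat.eq_zero_or_pos (rk (kernel (show E ⟶ (DCoh.tensorBi.obj E).obj L from φ))) with h0 | h0
    · rw [h0, dg_eq_zero_of_isZero ℂ (isZero_of_rk_zero hK h0)]
      simp
    · rw [← deg_eq_dg ℂ hK1, ← deg_eq_dg ℂ hE]
      exact hss _ _ (kernel.ι _) χK inferInstance h0 hK1 hχK
  -- pull the image back along the twist
  let I' := T.objPreimage I
  let η : T.obj I' ≅ I := T.objObjPreimageIso I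
  let j' : I' ⟶ E := T.preimage (η.hom ≫ j)
  let χ' : I' ⟶ T.obj I' := T.preimage (η.hom ≫ χI ≫ T.map η.inv)
  have hj' : T.map j' = η.hom ≫ j := T.map_preimage _
  haveI : Mono j' := T.mono_of_mono_map (by rw [hj']; infer_instance)
  obtain ⟨hI'c, hI'r, hI'd⟩ := htw (coh_of_free ℂ hI) η
  have hI'1 := isFinLocFreeOfRank_rk (isFinLocFree_of_mono ℂ hdim.le hI'c j' hEf)
  have hI'pos : 0 < rk I' := hI'r ▸ hpos hφ
  have hinv : χ' ≫ T.map j' = j' ≫ φ := by
    apply T.map_injective
    rw [Functor.map_comp, T.map_preimage, Category.assoc, Category.assoc, ← Functor.map_comp, hj',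
      Iso.inv_hom_id_assoc, T.map_comp j' φ, hj', Category.assoc]
    exact congrArg (η.hom ≫ ·) hχI
  have h2 := hss I' _ j' χ' inferInstance hI'pos hI'1 hinv
  rw [deg_eq_dg ℂ hI'1, deg_eq_dg ℂ hE, hI'r] at h2
  have hr' : (r : ℤ) = (rk (kernel (show E ⟶ (DCoh.tensorBi.obj E).obj L from φ)) : ℤ) + (rk I : ℤ) := by
    exact_mod_cast (rk_eq hE).symm.trans hrk
  have hI0 : (0 : ℤ) < rk I := by exact_mod_cast hpos hφ
  have hge : dg ℂ E * (rk I : ℤ) ≤ dg ℂ I * (r : ℤ) := by
    linear_combination h1 + (r : ℤ) * hdg - (dg ℂ E) * hr'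
  have h5 : (rk I : ℤ) * (r : ℤ) * Curv2.deg ℂ X L 1 < 0 :=
    mul_neg_of_pos_of_neg (mul_pos hI0 (by exact_mod_cast hr)) hneg
  rw [hI'd] at hge
  linarith

end Groth.Agent.S16003
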