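import Groth.Statements.S16004
import Groth.Agent.HiggsSlope.Basic

set_option linter.style.haveILetI false
set_option backward.isDefEq.respectTransparency false
set_option backward.isDefEq.respectTransparency.types false
open CategoryTheory AlgebraicGeometry CategoryTheory.Limits
-- import your own Groth.Agent.* helpers here

set_option autoImplicit false
open CategoryTheory AlgebraicGeometry CategoryTheory.Limits
open VBCurve

namespace Groth.Agent.S16004

/-- Let X be a smooth proper integral curve over the complex numbers and L an invertible O_X-module of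
degree 0; an L-valued pair is a finite locally free O_X-module E of rank r ≥ 1 with a map φ : E → E
⊗ L; a submodule j : G → E (a monomorphism) is φ-invariant when some χ : G → G ⊗ L followed by j ⊗ L
equals j followed by φ; the pair is semistable when deg G · r ≤ deg E · n for every φ-invariant
finite locally free submodule G of rank n ≥ 1, degrees being χ − rank · χ(O_X). If (E, φ) is a
semistable pair then E is slope-semistable as a module of rank r: deg G · r ≤ deg E · n for every
finite locally free submodule G of rank n ≥ 1, invariant or not. (The published statement deletes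
one degree-zero twisting map from a tuple of finitely many commuting ones; this is the case of a
single map.) -/
theorem result
    (X : Scheme.{0}) [X.Over (Spec (CommRingCat.of ℂ))] [IsIntegral X]
    [IsProper (X ↘ Spec (CommRingCat.of ℂ))] [Smooth (X ↘ Spec (CommRingCat.of ℂ))]
    (hdim : topologicalKrullDim X = 1)
    (L : X.Modules) (hL : PicF.IsInvertible L) (hL0 : Curv2.deg ℂ X L 1 = 0)
    (r : ℕ) (hr : 0 < r) (E : X.Modules) (hE : FlatMod.IsFinLocFreeOfRank r E)
    (φ : E ⟶ CohB1.tensorMod E L)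
    (hss : (∀ (G : X.Modules) (n : ℕ) (j : G ⟶ E) (χ : G ⟶ CohB1.tensorMod G L), Mono j → 0 < n →
      FlatMod.IsFinLocFreeOfRank n G →
      χ ≫ (CohB1.sheafifyMod X).map (MonoidalCategoryStruct.whiskerRight (C := CohB1.PMod X) j.val (CohB1.toPMod L)) = j ≫ φ →
      Curv2.deg ℂ X G n * (r : ℤ) ≤ Curv2.deg ℂ X E r * (n : ℤ))) :
    ∀ (G : X.Modules) (n : ℕ) (j : G ⟶ E), Mono j → 0 < n → FlatMod.IsFinLocFreeOfRank n G →
      Curv2.deg ℂ X G n * (r : ℤ) ≤ Curv2.deg ℂ X E r * (n : ℤ) := by
  intro G n j hj hn hG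
  haveI := hj
  haveI := Groth.Agent.CurveSlope.isLocallyNoetherian' ℂ (X := X)
  have hL1 := Groth.Agent.InvEnd.isFinLocFreeOfRank_one hL
  have hLf := Groth.Agent.CurveStable.isFinLocFree_of_rank hL1
  obtain ⟨D, hD, ⟨e0⟩⟩ := Groth.Agent.H23.PicInv.exists_inverse hL
  have e : (DCoh.tensorBi.obj L).obj D ≅ Coh.structureModule X := e0
  have hD1 := Groth.Agent.InvEnd.isFinLocFreeOfRank_one hD
  have hdD : Curv2.deg ℂ X D 1 = 0 := by
    have h := Groth.Agent.CurveRR.deg_tensor ℂ hdim hL hD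
    rw [Groth.Agent.CurveRR.deg_congr ℂ e, Groth.Agent.CurveDeg.deg_structureModule, hL0] at h
    omega
  let T := DCoh.tensorBi.flip.obj L
  haveI : T.IsEquivalence :=
    haveI : (DCoh.tensorBi.obj L).IsEquivalence :=
      (Groth.Agent.CurveHiggs.twistEquiv e).isEquivalence_functor
    Functor.isEquivalence_of_iso (Groth.Agent.CurveHiggs.flipIso L).symm
  have hEf := Groth.Agent.CurveStable.isFinLocFree_of_rank hE
  have hEc := Groth.Agent.CurveStable.coh_of_free ℂ hEf
  obtain ⟨F, i, hi, hF0, hF, -, hmax⟩ := Groth.Agent.HiggsSlope.exists_max ℂ hdim.le hEf (fun _ _ => True)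
    ⟨G, j, hj, Groth.Agent.CurveStable.isFinLocFree_of_rank hG, by rw [Groth.Agent.CurveBundle.rk_eq hG]; exact hn,
      trivial⟩
  haveI := hi
  have hFc := Groth.Agent.CurveStable.coh_of_free ℂ hF
  let φ' : E ⟶ (DCoh.tensorBi.obj E).obj L := φ
  let θ : F ⟶ (DCoh.tensorBi.obj (cokernel i)).obj L :=
    i ≫ φ' ≫ Groth.Agent.CurveHiggs.twist L (cokernel.π i)
  have hθ : θ = 0 := by
    have hQ : Coh.IsCoh (cokernel i) := Groth.Agent.QCoh.isCoh_cokernel hFc.1 hEc i
    obtain ⟨I, π, jI, hjI, hfac, hKc, hIc, hπ, w, hS⟩ :=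
      Groth.Agent.CurveSlope.exists_factor hFc (Groth.Agent.CurveHiggs.isCoh_twist hLf hQ) θ
    haveI := hjI
    let I' := T.objPreimage I
    let η : T.obj I' ≅ I := T.objObjPreimageIso I
    let j' : I' ⟶ cokernel i := T.preimage (η.hom ≫ jI)
    haveI : Mono j' := T.mono_of_mono_map (by rw [T.map_preimage]; infer_instance)
    have e1 : (DCoh.tensorBi.obj L).obj I' ≅ I := ((Groth.Agent.CurveHiggs.flipIso L).app I').symm ≪≫ η
    have e2 : (DCoh.tensorBi.obj D).obj I ≅ I' :=
      (DCoh.tensorBi.obj D).mapIso e1.symm ≪≫ ((Groth.Agent.CurveHiggs.twistEquiv e).unitIso.app I').symm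
    have hc := Groth.Agent.CurveTensor.isCoh_tensor (Groth.Agent.CurveStable.isFinLocFree_of_rank hD1) hIc
    have hI'q : Coh.IsQCoh I' := (Groth.Agent.QCoh.isQCoh_iff_iso e2).1 hc.1
    have hI' : Coh.IsCoh I' := ⟨hI'q, (Groth.Agent.QCoh.isCoh_of_epi e2.hom hc hI'q).2⟩
    have hr' : Groth.Agent.CurveBundle.rk I' = Groth.Agent.CurveBundle.rk I := by
      rw [← Groth.Agent.CurveSlope.rk_congr e1]
      exact (Groth.Agent.HiggsSlope.rk_tensor_line ℂ hL1 I').symm
    have hd' : Groth.Agent.CurveSlope.dg ℂ I' = Groth.Agent.CurveSlope.dg ℂ I := by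
      have h1 := Groth.Agent.CurveTensor.euler_tensor ℂ hdim hL1 hI'
      rw [Groth.Agent.Euler.euler_congr ℂ e1, hL0] at h1
      unfold Groth.Agent.CurveSlope.dg
      rw [hr', h1]
      push_cast
      ring
    obtain ⟨hM, hMr, hMd⟩ := Groth.Agent.HiggsSlope.preimage_spec ℂ hdim.le hEf hFc i j' hI'
    exact Groth.Agent.HiggsSlope.eq_zero ℂ hdim.le hEf hF hF0 i (fun _ _ => True) hmax θ π jI hfac hIc hKc
      (Groth.Agent.CurveSlope.rk_add_coh ℂ _ _ w hS hFc) (Groth.Agent.CurveSlope.dg_add ℂ _ _ w hS hKc hFc hIc)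
      trivial (kernel.ι (cokernel.π i ≫ cokernel.π j')) hM trivial (by rw [hMr, hr']) (by rw [hMd, hd'])
  obtain ⟨χ, hχ⟩ := Groth.Agent.CurveHiggs.exists_lift hLf i (cokernel.π i) (cokernel.condition i)
    (Groth.Agent.CurveSlope.shortExact_cokernel_of_mono i) (i ≫ φ')
    (by rw [Category.assoc]; exact hθ)
  have hF1 := Groth.Agent.CurveBundle.isFinLocFreeOfRank_rk hF
  have h1 := hss F _ i χ hi hF0 hF1 hχ
  obtain ⟨h2, -⟩ := hmax G j hj (Groth.Agent.CurveStable.isFinLocFree_of_rank hG)
    (by rw [Groth.Agent.CurveBundle.rk_eq hG]; exact hn) trivial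
  rw [Groth.Agent.CurveBundle.rk_eq hG] at h2
  rw [Groth.Agent.CurveSlope.deg_eq_dg ℂ hG, Groth.Agent.CurveSlope.deg_eq_dg ℂ hE]
  rw [Groth.Agent.CurveSlope.deg_eq_dg ℂ hF1, Groth.Agent.CurveSlope.deg_eq_dg ℂ hE] at h1
  have hrF : (0 : ℤ) < Groth.Agent.CurveBundle.rk F := by exact_mod_cast hF0
  refine le_of_mul_le_mul_right ?_ hrF
  have h3 := mul_le_mul_of_nonneg_right h2 (Int.natCast_nonneg r)
  have h4 := mul_le_mul_of_nonneg_right h1 (Int.natCast_nonneg n)
  linarith

end Groth.Agent.S16004
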