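import Groth.Statements.S16005
import Groth.Agent.HiggsSlope.Basic

set_option linter.style.haveILetI false
set_option backward.isDefEq.respectTransparency false
set_option backward.isDefEq.respectTransparency.types false
open CategoryTheory AlgebraicGeometry CategoryTheory.Limits
-- import your own Groth.Agent.* helpers here

set_option autoImplicit false
open CategoryTheory AlgebraicGeometry CategoryTheory.Limits
open VBCurve

namespace Groth.Agent.S16005

/-- Let X be a smooth proper integral curve over the complex numbers and L an invertible O_X-module; an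
L-valued pair is a finite locally free O_X-module E of rank r ≥ 1 with a map φ : E → E ⊗ L; a
submodule j : G → E (a monomorphism) is φ-invariant when some χ : G → G ⊗ L followed by j ⊗ L equals
j followed by φ; the pair is semistable when deg G · r ≤ deg E · n for every φ-invariant finite
locally free submodule G of rank n ≥ 1, degrees being χ − rank · χ(O_X). Let (E, φ) be a pair and ψ
: E → E an endomorphism commuting with φ (ψ followed by φ equals φ followed by ψ ⊗ L); a submodule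
is ψ-invariant when ψ restricts to an endomorphism of it. Then (E, φ, ψ) is semistable, meaning deg
G · r ≤ deg E · n for every finite locally free submodule G of rank n ≥ 1 that is both φ-invariant
and ψ-invariant, if and only if the pair (E, φ) is semistable. (The published statement takes L to
be the canonical sheaf; the row allows any invertible L.) -/
theorem result
    (X : Scheme.{0}) [X.Over (Spec (CommRingCat.of ℂ))] [IsIntegral X]
    [IsProper (X ↘ Spec (CommRingCat.of ℂ))] [Smooth (X ↘ Spec (CommRingCat.of ℂ))]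
    (hdim : topologicalKrullDim X = 1)
    (L : X.Modules) (hL : PicF.IsInvertible L)
    (r : ℕ) (hr : 0 < r) (E : X.Modules) (hE : FlatMod.IsFinLocFreeOfRank r E)
    (φ : E ⟶ CohB1.tensorMod E L) (ψ : E ⟶ E)
    (hcomm : ψ ≫ φ = φ ≫ (CohB1.sheafifyMod X).map (MonoidalCategoryStruct.whiskerRight (C := CohB1.PMod X) ψ.val (CohB1.toPMod L))) :
    (∀ (G : X.Modules) (n : ℕ) (j : G ⟶ E) (χ : G ⟶ CohB1.tensorMod G L) (ψ' : G ⟶ G), Mono j → 0 < n →
      FlatMod.IsFinLocFreeOfRank n G →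
      χ ≫ (CohB1.sheafifyMod X).map (MonoidalCategoryStruct.whiskerRight (C := CohB1.PMod X) j.val (CohB1.toPMod L)) = j ≫ φ → ψ' ≫ j = j ≫ ψ →
      Curv2.deg ℂ X G n * (r : ℤ) ≤ Curv2.deg ℂ X E r * (n : ℤ)) ↔
    (∀ (G : X.Modules) (n : ℕ) (j : G ⟶ E) (χ : G ⟶ CohB1.tensorMod G L), Mono j → 0 < n →
      FlatMod.IsFinLocFreeOfRank n G →
      χ ≫ (CohB1.sheafifyMod X).map (MonoidalCategoryStruct.whiskerRight (C := CohB1.PMod X) j.val (CohB1.toPMod L)) = j ≫ φ →
      Curv2.deg ℂ X G n * (r : ℤ) ≤ Curv2.deg ℂ X E r * (n : ℤ)) := by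
  refine ⟨fun hss => ?_, fun hss G n j χ ψ' hj hn hG hχ _ => hss G n j χ hj hn hG hχ⟩
  intro G n j χG hj hn hG hχG
  haveI := hj
  haveI := Groth.Agent.CurveSlope.isLocallyNoetherian' ℂ (X := X)
  have hL1 := Groth.Agent.InvEnd.isFinLocFreeOfRank_one hL
  have hLf := Groth.Agent.CurveStable.isFinLocFree_of_rank hL1
  have hEf := Groth.Agent.CurveStable.isFinLocFree_of_rank hE
  have hEc := Groth.Agent.CurveStable.coh_of_free ℂ hEf
  let φ' : E ⟶ (DCoh.tensorBi.obj E).obj L := φ
  let P : ∀ A : X.Modules, (A ⟶ E) → Prop := fun A a => ∃ χ, χ ≫ Groth.Agent.CurveHiggs.twist L a = a ≫ φ'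
  obtain ⟨F, i, hi, hF0, hF, ⟨χ, hχ⟩, hmax⟩ := Groth.Agent.HiggsSlope.exists_max ℂ hdim.le hEf P
    ⟨G, j, hj, Groth.Agent.CurveStable.isFinLocFree_of_rank hG, by rw [Groth.Agent.CurveBundle.rk_eq hG]; exact hn,
      χG, hχG⟩
  haveI := hi
  have hFc := Groth.Agent.CurveStable.coh_of_free ℂ hF
  let φQ : cokernel i ⟶ (DCoh.tensorBi.obj (cokernel i)).obj L :=
    cokernel.desc i (φ' ≫ Groth.Agent.CurveHiggs.twist L (cokernel.π i)) (by
      rw [← Category.assoc, ← hχ, Category.assoc, ← Groth.Agent.CurveHiggs.twist_comp, cokernel.condition,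
        Groth.Agent.CurveHiggs.twist_zero, comp_zero])
  have hQ' : cokernel.π i ≫ φQ = φ' ≫ Groth.Agent.CurveHiggs.twist L (cokernel.π i) := cokernel.π_desc _ _ _
  have hcomm' : ψ ≫ φ' = φ' ≫ Groth.Agent.CurveHiggs.twist L ψ := hcomm
  let θ : F ⟶ cokernel i := i ≫ ψ ≫ cokernel.π i
  have hequiv : θ ≫ φQ = χ ≫ Groth.Agent.CurveHiggs.twist L θ := by
    simp only [θ, Category.assoc, hQ', Groth.Agent.CurveHiggs.twist_comp]
    rw [reassoc_of% hcomm', reassoc_of% hχ]
  have hθ : θ = 0 := by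
    have hQ : Coh.IsCoh (cokernel i) := Groth.Agent.QCoh.isCoh_cokernel hFc.1 hEc i
    obtain ⟨I, π, jI, hjI, hfac, hKc, hIc, hπ, w, hS⟩ := Groth.Agent.CurveSlope.exists_factor hFc hQ θ
    haveI := hjI
    haveI := hπ
    obtain ⟨⟨χK, hχK⟩, χI, hχI⟩ :=
      Groth.Agent.CurveHiggs.exists_invariant hLf χ φQ θ hequiv π jI hfac
    let φC : cokernel jI ⟶ (DCoh.tensorBi.obj (cokernel jI)).obj L :=
      cokernel.desc jI (φQ ≫ Groth.Agent.CurveHiggs.twist L (cokernel.π jI)) (by
        rw [← Category.assoc, ← hχI, Category.assoc, ← Groth.Agent.CurveHiggs.twist_comp, cokernel.condition,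
          Groth.Agent.CurveHiggs.twist_zero, comp_zero])
    let g : E ⟶ cokernel jI := cokernel.π i ≫ cokernel.π jI
    haveI : Epi g := epi_comp _ _
    have hg : g ≫ φC = φ' ≫ Groth.Agent.CurveHiggs.twist L g := by
      simp only [g, φC, Category.assoc, cokernel.π_desc, Groth.Agent.CurveHiggs.twist_comp]
      rw [reassoc_of% hQ']
    obtain ⟨hPM, -⟩ := Groth.Agent.CurveHiggs.exists_invariant hLf φ' φC g hg g (𝟙 _) (Category.comp_id g)
    obtain ⟨hM, hMr, hMd⟩ := Groth.Agent.HiggsSlope.preimage_spec ℂ hdim.le hEf hFc i jI hIc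
    refine Groth.Agent.HiggsSlope.eq_zero ℂ hdim.le hEf hF hF0 i P hmax θ π jI hfac hIc hKc
      (Groth.Agent.CurveSlope.rk_add_coh ℂ _ _ w hS hFc) (Groth.Agent.CurveSlope.dg_add ℂ _ _ w hS hKc hFc hIc)
      ⟨χK, ?_⟩ (kernel.ι g) hM hPM hMr hMd
    rw [Groth.Agent.CurveHiggs.twist_comp, reassoc_of% hχK, Category.assoc, hχ]
  have hS := Groth.Agent.CurveSlope.shortExact_cokernel_of_mono i
  haveI := hS.mono_f
  have hψ := hS.exact.lift_f (i ≫ ψ) (by rw [Category.assoc]; exact hθ)
  have hF1 := Groth.Agent.CurveBundle.isFinLocFreeOfRank_rk hF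
  have h1 := hss F _ i χ _ hi hF0 hF1 hχ hψ
  obtain ⟨h2, -⟩ := hmax G j hj (Groth.Agent.CurveStable.isFinLocFree_of_rank hG)
    (by rw [Groth.Agent.CurveBundle.rk_eq hG]; exact hn) ⟨χG, hχG⟩
  rw [Groth.Agent.CurveBundle.rk_eq hG] at h2
  rw [Groth.Agent.CurveSlope.deg_eq_dg ℂ hG, Groth.Agent.CurveSlope.deg_eq_dg ℂ hE]
  rw [Groth.Agent.CurveSlope.deg_eq_dg ℂ hF1, Groth.Agent.CurveSlope.deg_eq_dg ℂ hE] at h1
  have hrF : (0 : ℤ) < Groth.Agent.CurveBundle.rk F := by exact_mod_cast hF0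
  refine le_of_mul_le_mul_right ?_ hrF
  have h3 := mul_le_mul_of_nonneg_right h2 (Int.natCast_nonneg r)
  have h4 := mul_le_mul_of_nonneg_right h1 (Int.natCast_nonneg n)
  linarith

end Groth.Agent.S16005
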