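import Groth.Statements.S16008
import Groth.Agent.Lib.CurveSSVanish

set_option autoImplicit false
open CategoryTheory AlgebraicGeometry CategoryTheory.Limits
open VBCurve

namespace Groth.Agent.S16008


set_option linter.style.haveILetI false
open Groth.Agent.CurveBundle Groth.Agent.CurveSlope Groth.Agent.CurveStable

/-- Let X be a smooth proper integral curve over the complex numbers, of genus g = dim H¹(O_X), E a
finite locally free O_X-module of rank r ≥ 1 and C an integer such that every finite locally free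
submodule G of E of rank n ≥ 1 satisfies deg G · r ≤ (deg E + r·C) · n, that is, μ(G) ≤ μ(E) + C
(degrees being χ − rank · χ(O_X)). Then H¹(X, E ⊗ N) vanishes for every invertible module N with deg
E + r · deg N > r(r − 1)·C + r(2g − 2), that is, whenever μ(E) + deg N > (r − 1)C + 2g − 2. (Only
the degree of the twisting line bundle enters, so any invertible N replaces the twist O_X(m). The
published argument, written for the twists E(m) by a degree-one polarisation, prints the threshold
as m ≥ μ(E) + (r − 1)C + 2g − 1; for E = O(−1) on the projective line and m = −2 that threshold is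
met while H¹(O(−3)) ≠ 0. The degree count in the argument gives the threshold −μ(E) + (r − 1)C + 2g
− 2 < m stated here.) -/
theorem result
    (X : Scheme.{0}) [X.Over (Spec (CommRingCat.of ℂ))] [IsIntegral X]
    [IsProper (X ↘ Spec (CommRingCat.of ℂ))] [Smooth (X ↘ Spec (CommRingCat.of ℂ))]
    (hdim : topologicalKrullDim X = 1)
    (r : ℕ) (hr : 0 < r) (E : X.Modules) (hE : FlatMod.IsFinLocFreeOfRank r E) (C : ℤ)
    (hC : ∀ (G : X.Modules) (n : ℕ) (j : G ⟶ E), Mono j → 0 < n → FlatMod.IsFinLocFreeOfRank n G →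
      Curv2.deg ℂ X G n * (r : ℤ) ≤ (Curv2.deg ℂ X E r + (r : ℤ) * C) * (n : ℤ))
    (N : X.Modules) (hN : PicF.IsInvertible N)
    (hbig : (r : ℤ) * ((r : ℤ) - 1) * C + (r : ℤ) * (2 * (Curv2.genus ℂ X : ℤ) - 2) <
      Curv2.deg ℂ X E r + (r : ℤ) * Curv2.deg ℂ X N 1) :
    Subsingleton (Coh.HH X (CohB1.tensorMod E N) 1) := by
  have hO := CurveCohLib.finrank_h0_eq_one ℂ X
  have hd := deg_eq_dg ℂ hE
  haveI := CurveCohLib.isNoetherian_of_proper (k := ℂ) (X := X)
  refine CurveDuality.subsingleton_HH_one_twist ℂ hO hdim (isFinLocFree_of_rank hE) hN fun K i hi hK hrk => ?_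
  rw [rk_eq hE] at hrk
  rw [hd] at hbig
  have hr' : (r : ℤ) = (rk K : ℤ) + 1 := by exact_mod_cast hrk
  rcases Nat.eq_zero_or_pos (rk K) with h0 | h0
  · rw [dg_eq_zero_of_isZero ℂ (isZero_of_rk_zero hK h0)]
    rw [h0] at hr'
    simp only [Nat.cast_zero, zero_add] at hr'
    rw [hr'] at hbig
    linarith
  have h := hC K (rk K) i hi h0 (isFinLocFreeOfRank_rk hK)
  rw [deg_eq_dg ℂ (isFinLocFreeOfRank_rk hK), hd] at h
  by_contra hc
  push Not at hc
  rw [hr'] at hbig h
  nlinarith [mul_le_mul_of_nonneg_left hc (show (0 : ℤ) ≤ (rk K : ℤ) + 1 by positivity)]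

end Groth.Agent.S16008
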