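import Groth.Statements.S16015
import Mathlib.RingTheory.Finiteness.Projective
import Mathlib.RingTheory.Ideal.Quotient.Operations
import Mathlib.LinearAlgebra.TensorProduct.Tower

set_option autoImplicit false
universe u v w
open W4c3ghconstell

namespace Groth.Agent.S16015

/-- Let B be a commutative ring, E a B-module, F a finitely generated projective B-module and β : E → F
a B-linear map. Then there is a unique ideal I of B such that for every commutative B-algebra C the
base change β_C : C ⊗ E → C ⊗ F is zero if and only if the structure map B → C kills I. (The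
published statement is for a homomorphism of modules on a scheme T into a locally free module and
produces a closed subscheme T₀ through which a morphism factors exactly when the pulled-back
homomorphism vanishes; this row is the case of an affine T with affine test schemes and F of finite
rank, to which it reduces.) -/
theorem result {B : Type u} [CommRing B]
    {E : Type v} [AddCommGroup E] [Module B E]
    {F : Type w} [AddCommGroup F] [Module B F] [Module.Finite B F] [Module.Projective B F]
    (β : E →ₗ[B] F) :
    ∃! I : Ideal B, ∀ (C : Type u) [CommRing C] [Algebra B C],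
      LinearMap.baseChange C β = 0 ↔ I ≤ RingHom.ker (algebraMap B C) := by
  classical
  obtain ⟨n, s, r, -, -, hsr⟩ := Module.Finite.exists_comp_eq_id_of_projective B F
  let I : Ideal B := Ideal.span (Set.range fun x : E × Fin n => r (β x.1) x.2)
  have key : ∀ (C : Type u) [CommRing C] [Algebra B C],
      LinearMap.baseChange C β = 0 ↔ I ≤ RingHom.ker (algebraMap B C) := by
    intro C _ _
    rw [Ideal.span_le]
    constructor
    · rintro h _ ⟨⟨e, i⟩, rfl⟩
      have h1 : (1 : C) ⊗ₜ[B] β e = 0 := by simpa using LinearMap.congr_fun h (1 ⊗ₜ e)
      have h2 := congrArg (TensorProduct.rid B C ∘ LinearMap.lTensor C ((LinearMap.proj i).comp r)) h1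
      simpa [Algebra.smul_def] using h2
    · intro h
      ext e
      show LinearMap.baseChange C β ((1 : C) ⊗ₜ[B] e) = 0
      rw [LinearMap.baseChange_tmul, show β e = s (r (β e)) from (LinearMap.congr_fun hsr (β e)).symm,
        pi_eq_sum_univ (r (β e)), map_sum, TensorProduct.tmul_sum]
      refine Finset.sum_eq_zero fun i _ => ?_
      rw [map_smul, TensorProduct.tmul_smul, TensorProduct.smul_tmul', Algebra.smul_def,
        show algebraMap B C (r (β e) i) = 0 from h ⟨(e, i), rfl⟩]
      simp
  refine ⟨I, key, fun J hJ => ?_⟩
  have hk : ∀ K : Ideal B, RingHom.ker (algebraMap B (B ⧸ K)) = K := fun K => Ideal.mk_ker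
  apply le_antisymm
  · have := (hJ (B ⧸ I)).1 ((key (B ⧸ I)).2 (hk I).ge)
    rwa [hk] at this
  · have := (key (B ⧸ J)).1 ((hJ (B ⧸ J)).2 (hk J).ge)
    rwa [hk] at this

end Groth.Agent.S16015
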