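import Groth.Statements.S16016
import Mathlib

set_option autoImplicit false
universe u
open W4c3ghconstell

namespace Groth.Agent.S16016

/-- Let k be a field with 2 ≠ 0, index k⁶ by two copies of {0,1,2} (basis vectors p₁, p₂, p₃ in the
first copy and p₄, p₅, p₆ in the second), let Q be the symmetric matrix with blocks ((0, 1), (1,
0)), so that the form it defines pairs pᵢ with pᵢ₊₃, and let W₀ be the span of p₁ and p₂. Then a 6 ×
6 matrix A satisfies AᵀQ + QA = 0 (A lies in the orthogonal Lie algebra of Q) and has the image of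
Aᵀ contained in W₀ if and only if A = a · (E₄₂ − E₅₁) for some scalar a, where Eᵢⱼ is the matrix
unit. (The lemma in the source concludes that the set of such A inside a certain nilpotent orbit
closure of this Lie algebra is one-dimensional; this row is the computation its proof performs,
which determines all such A in the Lie algebra. Characteristic 2 is excluded: there E₁₄ᵀ also
qualifies.) -/
theorem result (k : Type u) [Field k] (h2 : (2 : k) ≠ 0)
    (A : Matrix (Fin 3 ⊕ Fin 3) (Fin 3 ⊕ Fin 3) k) :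
    (A.transpose * Matrix.fromBlocks (0 : Matrix (Fin 3) (Fin 3) k) 1 1 0 +
        Matrix.fromBlocks (0 : Matrix (Fin 3) (Fin 3) k) 1 1 0 * A = 0 ∧
      LinearMap.range (Matrix.mulVecLin A.transpose) ≤
        Submodule.span k {Pi.single (Sum.inl 0 : Fin 3 ⊕ Fin 3) (1 : k), Pi.single (Sum.inl 1 : Fin 3 ⊕ Fin 3) (1 : k)}) ↔
    ∃ a : k, A = a • (Matrix.single (Sum.inr 0) (Sum.inl 1) (1 : k) - Matrix.single (Sum.inr 1) (Sum.inl 0) (1 : k)) := by
  classical
  constructor
  · rintro ⟨h1, hr⟩
    have hcol : ∀ i j, j ≠ Sum.inl 0 → j ≠ Sum.inl 1 → A i j = 0 := by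
      intro i j hj0 hj1
      have hm := hr ⟨Pi.single i 1, rfl⟩
      rw [Submodule.mem_span_pair] at hm
      obtain ⟨c, d, hcd⟩ := hm
      have := congrFun hcd j
      simpa [Matrix.mulVecLin_apply, Matrix.mulVec_single, hj0, hj1] using this.symm
    rw [← Matrix.fromBlocks_toBlocks A, Matrix.fromBlocks_transpose, Matrix.fromBlocks_multiply,
      Matrix.fromBlocks_multiply, Matrix.fromBlocks_add] at h1
    simp only [Matrix.mul_zero, Matrix.zero_mul, Matrix.mul_one, Matrix.one_mul, zero_add, add_zero,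
      ← Matrix.fromBlocks_zero, Matrix.fromBlocks_inj] at h1
    obtain ⟨hc, had, -, -⟩ := h1
    have hA0 : ∀ i j : Fin 3, A (Sum.inl i) (Sum.inl j) = 0 := fun i j => by
      have e1 := congrFun (congrFun had j) i
      simpa [Matrix.toBlocks₁₁, Matrix.toBlocks₂₂, hcol (Sum.inr j) (Sum.inr i) (by simp) (by simp)] using e1
    have hC : ∀ i j : Fin 3, A (Sum.inr i) (Sum.inl j) + A (Sum.inr j) (Sum.inl i) = 0 := fun i j => by
      have e1 := congrFun (congrFun hc i) j
      simpa [Matrix.toBlocks₂₁, add_comm] using e1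
    have hd : ∀ i : Fin 3, A (Sum.inr i) (Sum.inl i) = 0 := fun i => by
      have := hC i i
      rw [← two_mul, mul_eq_zero] at this
      exact this.resolve_left h2
    have hC2 : ∀ i : Fin 3, A (Sum.inr i) (Sum.inl 2) = 0 := fun i => hcol _ _ (by simp) (by simp)
    have hR2 : ∀ j : Fin 3, A (Sum.inr 2) (Sum.inl j) = 0 := fun j => by
      simpa [hC2 j] using hC 2 j
    have h01 : A (Sum.inr 1) (Sum.inl 0) = - A (Sum.inr 0) (Sum.inl 1) :=
      eq_neg_of_add_eq_zero_left (hC 1 0)
    refine ⟨A (Sum.inr 0) (Sum.inl 1), ?_⟩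
    ext (i | i) (j | j)
    · simp [hA0]
    · simp [hcol]
    · fin_cases i <;> fin_cases j <;> simp [hd, hC2, hR2, h01]
    · simp [hcol]
  · rintro ⟨a, rfl⟩
    refine ⟨?_, ?_⟩
    · have hb : a • (Matrix.single (Sum.inr 0 : Fin 3 ⊕ Fin 3) (Sum.inl 1 : Fin 3 ⊕ Fin 3) (1 : k) -
          Matrix.single (Sum.inr 1) (Sum.inl 0) (1 : k)) = Matrix.fromBlocks (0 : Matrix (Fin 3) (Fin 3) k) 0
            (a • (Matrix.single 0 1 (1 : k) - Matrix.single 1 0 (1 : k))) 0 := by
        ext (i | i) (j | j) <;> simp [Matrix.single_apply]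
      rw [hb, Matrix.fromBlocks_transpose, Matrix.fromBlocks_multiply, Matrix.fromBlocks_multiply,
        Matrix.fromBlocks_add, ← Matrix.fromBlocks_zero]
      simp
      rw [← smul_add, Matrix.fromBlocks_zero.symm]
      congr 1
      simp
    · rintro _ ⟨v, rfl⟩
      rw [Submodule.mem_span_pair]
      refine ⟨-(a * v (Sum.inr 1)), a * v (Sum.inr 0), ?_⟩
      ext (i | i) <;> fin_cases i <;>
        simp [Matrix.mulVecLin_apply, Matrix.mulVec, dotProduct, Fintype.sum_sum_type,
          Fin.sum_univ_three]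

end Groth.Agent.S16016
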