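import Groth.Statements.S16017
import Mathlib.Topology.Algebra.InfiniteSum.Real
import Mathlib.Analysis.Normed.Group.InfiniteSum
import Mathlib.Topology.Algebra.InfiniteSum.NatInt

set_option autoImplicit false
universe u
open W4c3ghconstell

namespace Groth.Agent.S16017
open Filter

/-- Let ι index the irreducible representations, θ : ι → ℚ a weight negative at only finitely many
indices (the finite set D₋), h h' : ι → ℕ with h' ≤ h pointwise (the isotypic dimensions of an
object and of a sub-object) and Σ_i θ_i h_i summable. For a finite set D of indices put S_D = Σ_{i ∉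
D} θ_i h_i, d = #(D ∖ D₋), and θ̃_D = Σ_{i ∈ D} θ_i h'_i + (S_D / d) · Σ_{i ∈ D ∖ D₋} h'_i / h_i,
the modified weight attached to the parameters chosen for D (for D ⊇ D₋ the first sum is the
negative part plus the part over D ∖ D₋). Then θ̃_D tends to Σ_i θ_i h'_i as D grows through the
finite subsets of ι. (Here D runs over all finite sets of indices and a quotient by zero is zero;
the source lets D run over the finite subsets of the locus θ ≠ 0 containing D₋, and the same tail
estimate gives both.) -/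
theorem result {ι : Type u} [DecidableEq ι] (θ : ι → ℚ) (h h' : ι → ℕ)
    (hle : ∀ i, h' i ≤ h i) (hfin : {i | θ i < 0}.Finite)
    (hsum : Summable (fun i => (θ i : ℝ) * (h i : ℝ))) :
    Filter.Tendsto
      (fun D : Finset ι =>
        (∑ i ∈ D, (θ i : ℝ) * (h' i : ℝ)) +
          ((∑' i, if i ∈ D then (0 : ℝ) else (θ i : ℝ) * (h i : ℝ)) / ((D \ hfin.toFinset).card : ℝ)) *
            ∑ i ∈ D \ hfin.toFinset, ((h' i : ℝ) / (h i : ℝ)))
      Filter.atTop (nhds (∑' i, (θ i : ℝ) * (h' i : ℝ))) := by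
  have habs : ∀ i, |(θ i : ℝ) * (h' i : ℝ)| ≤ |(θ i : ℝ) * (h i : ℝ)| := fun i => by
    rw [abs_mul, abs_mul, Nat.abs_cast, Nat.abs_cast]
    exact mul_le_mul_of_nonneg_left (Nat.cast_le.2 (hle i)) (abs_nonneg _)
  have hs' : Summable (fun i => (θ i : ℝ) * (h' i : ℝ)) := by
    rw [← summable_abs_iff]
    exact Summable.of_nonneg_of_le (fun i => abs_nonneg _) habs hsum.abs
  let S : Finset ι → ℝ := fun D => ∑' i, if i ∈ D then (0 : ℝ) else (θ i : ℝ) * (h i : ℝ)
  have hS : ∀ D, S D = (∑' i, (θ i : ℝ) * (h i : ℝ)) - ∑ i ∈ D, (θ i : ℝ) * (h i : ℝ) := by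
    intro D
    have h1 : Summable (fun i => if i ∈ D then (θ i : ℝ) * (h i : ℝ) else 0) :=
      summable_of_ne_finset_zero (s := D) fun i hi => if_neg hi
    have h2 : (fun i => if i ∈ D then (0 : ℝ) else (θ i : ℝ) * (h i : ℝ)) =
        fun i => (θ i : ℝ) * (h i : ℝ) - (if i ∈ D then (θ i : ℝ) * (h i : ℝ) else 0) :=
      funext fun i => by split <;> simp
    show tsum (fun i => if i ∈ D then (0 : ℝ) else (θ i : ℝ) * (h i : ℝ)) = _
    rw [h2, hsum.tsum_sub h1, tsum_eq_sum (s := D) fun i hi => if_neg hi]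
    congr 1
    exact Finset.sum_congr rfl fun i hi => if_pos hi
  have hS0 : Tendsto S atTop (nhds 0) := by
    have := (tendsto_const_nhds (x := ∑' i, (θ i : ℝ) * (h i : ℝ))).sub hsum.hasSum
    rw [sub_self] at this
    exact this.congr fun D => (hS D).symm
  have hR : Tendsto (fun D : Finset ι => (S D / ((D \ hfin.toFinset).card : ℝ)) *
      ∑ i ∈ D \ hfin.toFinset, ((h' i : ℝ) / (h i : ℝ))) atTop (nhds 0) := by
    refine squeeze_zero_norm (fun D => ?_) (by simpa using hS0.abs)
    rw [Real.norm_eq_abs]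
    have hr : |∑ i ∈ D \ hfin.toFinset, ((h' i : ℝ) / (h i : ℝ))| ≤ ((D \ hfin.toFinset).card : ℝ) := by
      refine (Finset.abs_sum_le_sum_abs _ _).trans ?_
      refine (Finset.sum_le_card_nsmul _ _ 1 fun i _ => ?_).trans (by simp)
      rw [abs_div, Nat.abs_cast, Nat.abs_cast]
      exact div_le_one_of_le₀ (Nat.cast_le.2 (hle i)) (Nat.cast_nonneg _)
    rcases Nat.eq_zero_or_pos (D \ hfin.toFinset).card with h0 | h0
    · simp [h0]
    rw [abs_mul, abs_div, Nat.abs_cast, div_mul_eq_mul_div, div_le_iff₀ (Nat.cast_pos.2 h0)]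
    exact mul_le_mul_of_nonneg_left hr (abs_nonneg _)
  have h1 := (hs'.hasSum : Tendsto (fun D : Finset ι => ∑ i ∈ D, (θ i : ℝ) * (h' i : ℝ)) atTop _)
  have := Filter.Tendsto.add h1 hR
  rw [add_zero] at this
  exact this

end Groth.Agent.S16017
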