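import Groth.Statements.S16019
import Groth.Agent.SiteBase.Edge

set_option autoImplicit false
universe u
open CategoryTheory CategoryTheory.Limits Opposite
open CechEdge

namespace Groth.Agent.S16019

/-- On a small site with fibre products, for a covering family of an object U there is an edge family,
that is, additive maps from the Cech cohomology of every abelian presheaf with respect to the family
to the cohomology over U of its associated sheaf, given in degree 0 by restriction followed by
sheafification, natural in the presheaf, and commuting with the connecting homomorphisms attached to
every short exact sequence of abelian presheaves and to its sheafification. -/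
theorem result {C : Type u} [SmallCategory C] [HasPullbacks C]
    (J : GrothendieckTopology C) {U : C} {ι : Type u} (Y : ι → Over U)
    (hY : Sieve.ofArrows (fun i => (Y i).left) (fun i => (Y i).hom) ∈ J U) :
    ∃ e : ∀ (P : Cᵒᵖ ⥤ AddCommGrpCat.{u}) (p : ℕ), CohCx.cechH P Y p →+ CohSite.HU (CechEdge.shf J P) p U,
      CechEdge.IsEdge J Y e := by
  exact Groth.Agent.SiteBase.Edge.exists_isEdge Y hY

end Groth.Agent.S16019
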