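import Groth.Statements.S1603
import Groth.Agent.GenusLe.Birat
import Groth.Agent.Lib.Euler
import Mathlib
-- import your own Groth.Agent.* helpers here

set_option autoImplicit false
set_option linter.style.haveILetI false
universe u
open CategoryTheory CategoryTheory.Limits AlgebraicGeometry
open Curves

namespace Groth.Agent.S1603

set_option backward.isDefEq.respectTransparency false
set_option backward.isDefEq.respectTransparency.types false
open Groth.Agent TopologicalSpace Opposite
open Groth.Agent.PnCoh.Finite (mapLin deltaLin)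

theorem isClosed_of_finite_closed_points {X : Type u} [TopologicalSpace X] {S : Set X} (hS : S.Finite)
    (h : ∀ z ∈ S, IsClosed ({z} : Set X)) : IsClosed S := by
  rw [← Set.biUnion_of_singleton S]
  exact hS.isClosed_biUnion h

/-- An abelian sheaf without global sections has zero stalk at a closed point isolated in its support. -/
theorem subsingleton_stalk_isolated {X : TopCat.{u}} (F : TopCat.Sheaf AddCommGrpCat.{u} X) (x : X)
    (hx : IsClosed ({x} : Set X)) (W : Opens X) (hxW : x ∈ W)
    (h : ∀ y ∈ W, y ≠ x → Subsingleton (F.presheaf.stalk y)) (hΓ : Subsingleton (F.presheaf.obj (op ⊤))) :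
    Subsingleton (F.presheaf.stalk x) := by
  suffices hz : ∀ m : F.presheaf.stalk x, m = 0 from ⟨fun a b => (hz a).trans (hz b).symm⟩
  intro m
  obtain ⟨V₀, hxV₀, s₀, rfl⟩ := TopCat.Presheaf.exists_germ_eq F.presheaf m
  let V : Opens X := V₀ ⊓ W
  have hxV : x ∈ V := ⟨hxV₀, hxW⟩
  let c := F.presheaf.map (homOfLE (inf_le_left : V ≤ V₀)).op s₀
  rw [← F.presheaf.germ_res_apply (homOfLE (inf_le_left : V ≤ V₀)) x hxV s₀]
  let U : Bool → Opens X := fun b => if b then V else ⟨{x}ᶜ, hx.isOpen_compl⟩
  let sf : ∀ b, F.presheaf.obj (op (U b)) := fun b => match b with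
    | true => c
    | false => 0
  have hov : ∀ (O : Opens X) (a : O ≤ V), (∀ y ∈ O, y ≠ x) → F.presheaf.map (homOfLE a).op c = 0 := by
    intro O a hO
    refine TopCat.Presheaf.section_ext F O _ _ fun y hy => ?_
    haveI := h y (a hy).2 (hO y hy)
    exact Subsingleton.elim _ _
  have hcompat : TopCat.Presheaf.IsCompatible F.presheaf U sf := by
    intro a b
    cases a <;> cases b
    · rfl
    · exact (map_zero _).trans (hov (U false ⊓ U true) inf_le_right fun y hy => hy.1).symm
    · exact (hov (U true ⊓ U false) inf_le_left fun y hy => hy.2).trans (map_zero _).symm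
    · rfl
  have hcov : (⊤ : Opens X) ≤ iSup U := fun y _ => by
    by_cases hy : y = x
    · exact Opens.mem_iSup.2 ⟨true, hy ▸ hxV⟩
    · exact Opens.mem_iSup.2 ⟨false, hy⟩
  obtain ⟨t, ht, -⟩ := F.existsUnique_gluing' U ⊤ (fun b => homOfLE le_top) hcov sf hcompat
  have hc : c = 0 := (ht true).symm.trans (by rw [Subsingleton.elim t 0]; exact map_zero _)
  exact (congrArg (F.presheaf.germ V x hxV) hc).trans (map_zero _)

/-- Sections of the unit over opens in the isomorphism locus are bijective. -/
theorem bijective_app_le {X Y : Scheme.{u}} (f : Y ⟶ X) (U : X.Opens) [IsIso (f ∣_ U)] (V : X.Opens) (h : V ≤ U) :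
    Function.Bijective (f.app V) := by
  have hV : U.ι ''ᵁ (U.ι ⁻¹ᵁ V) = V := by
    rw [Scheme.Hom.image_preimage_eq_opensRange_inf, Scheme.Opens.opensRange_ι, inf_eq_right.2 h]
  rw [← hV]
  have h1 : IsIso ((f ∣_ U).app (U.ι ⁻¹ᵁ V)) := inferInstance
  rw [morphismRestrict_app] at h1
  haveI := h1
  haveI : IsIso (f.app (U.ι ''ᵁ (U.ι ⁻¹ᵁ V))) := IsIso.of_isIso_comp_right _
    (Y.presheaf.map (eqToHom (image_morphismRestrict_preimage f U (U.ι ⁻¹ᵁ V))).op)
  exact ConcreteCategory.bijective_of_isIso _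

/-- A morphism to a reduced scheme which is an isomorphism over a dense open is injective on sections. -/
theorem injective_app {X Y : Scheme.{u}} [IsReduced X] (f : Y ⟶ X) (U : X.Opens) (hU : Dense (U : Set X))
    [IsIso (f ∣_ U)] (V : X.Opens) : Function.Injective (f.app V) := by
  refine (injective_iff_map_eq_zero _).2 fun s hs => ?_
  rw [← AlgebraicGeometry.basicOpen_eq_bot_iff]
  have h0 : X.presheaf.map (homOfLE (inf_le_left : V ⊓ U ≤ V)).op s = 0 := by
    refine (bijective_app_le f U (V ⊓ U) inf_le_right).1 ?_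
    rw [map_zero, ← CommRingCat.comp_apply, f.naturality, CommRingCat.comp_apply, hs, map_zero]
  have h1 : X.basicOpen s ⊓ U = ⊥ := by
    have h2 := X.basicOpen_res s (homOfLE (inf_le_left : V ⊓ U ≤ V)).op
    rw [h0, Scheme.basicOpen_zero] at h2
    refine le_bot_iff.1 (le_of_le_of_eq (le_inf (le_inf ((inf_le_left).trans (X.basicOpen_le s)) inf_le_right) inf_le_left) h2.symm)
  ext z
  simp only [Opens.coe_bot, Set.mem_empty_iff_false, iff_false]
  intro hz
  obtain ⟨w, hw, hwU⟩ := hU.inter_open_nonempty _ (X.basicOpen s).2 ⟨z, hz⟩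
  exact (h1.le ⟨hw, hwU⟩ : w ∈ (⊥ : X.Opens))

/-- A morphism which is affine with bijective maps on sections is an isomorphism. -/
theorem isIso_of_bijective_app {X Y : Scheme.{u}} (f : Y ⟶ X) [IsAffineHom f]
    (h : ∀ V : X.Opens, IsAffineOpen V → Function.Bijective (f.app V)) : IsIso f := by
  show MorphismProperty.isomorphisms Scheme.{u} f
  rw [HasAffineProperty.eq_targetAffineLocally (P := MorphismProperty.isomorphisms Scheme.{u})]
  intro V
  haveI : IsAffine (f ⁻¹ᵁ V.1).toScheme := V.2.preimage f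
  refine ⟨inferInstance, ?_⟩
  rw [Scheme.Hom.appTop, morphismRestrict_app]
  haveI : IsIso (f.app (V.1.ι ''ᵁ ⊤)) :=
    (ConcreteCategory.isIso_iff_bijective _).2 (h _ (V.1.ι_image_top.symm ▸ V.2))
  infer_instance

attribute [-instance] CategoryTheory.catToReflQuiver CategoryTheory.ReflQuiver.toQuiver

/-- In the situation of the first part assume moreover that X is reduced, that H^0(X, O_X) → H^0(X',
O_{X'}) is surjective and that the two H^1 have the same dimension. Then f is an isomorphism. -/
theorem result (k : Type u) [Field k] (X X' : Scheme.{u}) [X.Over (Spec (CommRingCat.of k))] [X'.Over (Spec (CommRingCat.of k))]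
    [IsProper (X ↘ (Spec (CommRingCat.of k)))] [IsReduced X] (hdim : topologicalKrullDim X ≤ 1) (f : X' ⟶ X) [IsProper f] (hf : f ≫ (X ↘ (Spec (CommRingCat.of k))) = X' ↘ (Spec (CommRingCat.of k)))
    (U : X.Opens) (hU : Dense (U : Set X)) (hU' : Dense ((f ⁻¹ᵁ U : X'.Opens) : Set X')) (hfU : IsIso (f ∣_ U))
    (h0 : Function.Surjective (f.app ⊤).hom) (h1 : Curv2.genus k X' = Curv2.genus k X) : IsIso f := by
  haveI := hfU
  haveI := CurveCohLib.isNoetherian_of_proper (k := k) (X := X)
  haveI : IsFinite f := GenusLe.isFinite_of_dense k hdim f hf U hU hU'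
  haveI : X.IsSeparated := ⟨by
    rw [← terminal.comp_from (X ↘ Spec (CommRingCat.of k))]
    infer_instance⟩
  let O := Coh.structureModule X
  let P := (Scheme.Modules.pushforward f).obj (Coh.structureModule X')
  let φ : O ⟶ P := ClSub.unitToPush f
  have hO : Coh.IsCoh O := QCoh.isCoh_structureModule'
  have hP : Coh.IsQCoh P := QCoh.isQCoh_pushforward f QCoh.isQCoh_structureModule
  have hC := QCoh.isQCoh_cokernel hO.1 hP φ
  haveI : Mono φ := by
    refine ⟨fun {Z} a b hab => ?_⟩
    ext V z
    have := congrArg (fun t => (t.app V).hom z) hab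
    exact injective_app f U hU V this
  have hS : (ShortComplex.mk φ (cokernel.π φ) (cokernel.condition φ)).ShortExact :=
    { exact := ShortComplex.exact_of_g_is_cokernel _ (cokernelIsCokernel φ)
      mono_f := ‹Mono φ›
      epi_g := inferInstance }
  have hsupp : CohB1.support (cokernel φ) ⊆ (U : Set X)ᶜ := fun x hx hxU =>
    Snapper.notMem_support_cokernel φ (GenusLe.epi_stalk_unit f hxU) hx
  have hclosed : ∀ z ∈ (U : Set X)ᶜ, IsClosed ({z} : Set X) := fun z hz =>
    GenusLe.isClosed_of_notMem_dense hdim hU hz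
  have hfinS : ((U : Set X)ᶜ).Finite := GenusLe.finite_of_isClosed_points U.2.isClosed_compl hclosed
  haveI : Subsingleton (Coh.HH X (cokernel φ) 1) := by
    refine Snapper.subsingleton_HH_of_dim_lt 1 ⟨(U : Set X)ᶜ, U.2.isClosed_compl⟩ ?_ _ hC hsupp 1 le_rfl
    haveI : Finite ↥((U : Set X)ᶜ) := hfinS.to_subtype
    haveI : T1Space ↥((U : Set X)ᶜ) := ⟨fun z => by
      rw [show ({z} : Set ↥((U : Set X)ᶜ)) = Subtype.val ⁻¹' {z.1} from Set.ext fun w => Subtype.ext_iff]
      exact (hclosed z.1 z.2).preimage continuous_subtype_val⟩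
    haveI : DiscreteTopology ↥((U : Set X)ᶜ) := inferInstance
    refine lt_of_le_of_lt (?_ : topologicalKrullDim ↥((U : Set X)ᶜ) ≤ (0 : WithBot ℕ∞)) (by norm_num)
    exact iSup_le fun p => by
      by_contra hp
      have hlen : 0 < p.length := Nat.pos_of_ne_zero fun h => hp (by rw [h]; simp)
      have hlt : p.head < p.last := p.strictMono (show (0 : Fin _) < Fin.last _ by simpa [Fin.lt_def] using hlen)
      have hs := fun Z : IrreducibleCloseds ↥((U : Set X)ᶜ) =>
        isPreirreducible_iff_subsingleton.1 Z.isIrreducible.2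
      obtain ⟨a, ha⟩ := p.head.isIrreducible.nonempty
      exact absurd (fun z hz => hs p.last (hlt.le ha) hz ▸ ha) hlt.not_ge
  have hsurj1 : Function.Surjective (mapLin k φ 1) := fun y =>
    LinearMap.mem_range.1 ((Euler.range_mapLin_f k hS 1).ge (LinearMap.mem_ker.2 (Subsingleton.elim _ _)))
  haveI := CurveCohLib.finite_HH (k := k) hO 1
  haveI : Module.Finite k (Coh.HH X P 1) := Module.Finite.of_surjective _ hsurj1
  obtain ⟨e⟩ := QCoh.HH_push_linear f (A := k) (Coh.toGlobal (X ↘ Spec (CommRingCat.of k)))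
    (Coh.toGlobal (X' ↘ Spec (CommRingCat.of k))) (fun a => by rw [← hf]; rfl)
    (QCoh.isQCoh_structureModule (X := X')) 1
  have hdimeq : Module.finrank k (Coh.HH X O 1) = Module.finrank k (Coh.HH X P 1) :=
    h1.symm.trans e.finrank_eq
  have hinj1 : Function.Injective (mapLin k φ 1) :=
    (LinearMap.injective_iff_surjective_of_finrank_eq_finrank hdimeq).2 hsurj1
  have hsurj0 : Function.Surjective (mapLin k φ 0) := fun y => by
    obtain ⟨a, ha⟩ := h0 (Sheaf.H.equiv₀ (Coh.toAb P) isTerminalTop y)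
    refine ⟨(Sheaf.H.equiv₀ (Coh.toAb O) isTerminalTop).symm a, ?_⟩
    apply (Sheaf.H.equiv₀ (Coh.toAb P) isTerminalTop).injective
    have hn := Sheaf.H.equiv₀_naturality isTerminalTop ((QCoh.toAbFunctor X).map φ)
      ((Sheaf.H.equiv₀ (Coh.toAb O) isTerminalTop).symm a)
    exact (hn.symm.trans (congrArg ((ClSub.unitToPush f).app ⊤).hom
      ((Sheaf.H.equiv₀ (Coh.toAb O) isTerminalTop).apply_symm_apply a))).trans ha
  have hC0 : Subsingleton (Coh.HH X (cokernel φ) 0) := by
    suffices hz : ∀ w, w = (0 : Coh.HH X (cokernel φ) 0) from ⟨fun a b => (hz a).trans (hz b).symm⟩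
    intro w
    have hd : deltaLin k hS 0 w = 0 := hinj1 (by
      rw [map_zero]
      exact LinearMap.mem_ker.1 ((Euler.range_deltaLin k hS 0).le (LinearMap.mem_range_self _ w)))
    obtain ⟨v, rfl⟩ := LinearMap.mem_range.1 ((Euler.range_mapLin_g k hS 0).ge (LinearMap.mem_ker.2 hd))
    obtain ⟨u, rfl⟩ := hsurj0 v
    exact LinearMap.mem_ker.1 ((Euler.range_mapLin_f k hS 0).le (LinearMap.mem_range_self _ u))
  have hΓ : Subsingleton ((cokernel φ).presheaf.obj (op ⊤)) :=
    haveI := hC0
    (Sheaf.H.equiv₀ (Coh.toAb (cokernel φ)) isTerminalTop).symm.toEquiv.subsingleton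
  have hstalk : ∀ x : X, Subsingleton ((cokernel φ).presheaf.stalk x) := by
    intro x
    by_contra hx
    have hxU : x ∈ (U : Set X)ᶜ := hsupp hx
    let W : X.Opens := ⟨((U : Set X)ᶜ \ {x})ᶜ, (isClosed_of_finite_closed_points (hfinS.subset Set.diff_subset)
      fun z hz => hclosed z hz.1).isOpen_compl⟩
    refine hx (subsingleton_stalk_isolated (Coh.toAb (cokernel φ)) x (hclosed x hxU) W (fun h => h.2 rfl) ?_ hΓ)
    intro y hy hne
    by_contra hy'
    exact hy ⟨hsupp hy', hne⟩
  have hπ : cokernel.π φ = 0 := by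
    ext V z
    refine TopCat.Presheaf.section_ext (Coh.toAb (cokernel φ)) V _ _ fun x hx => ?_
    haveI := hstalk x
    exact Subsingleton.elim (α := (cokernel φ).presheaf.stalk x) _ _
  haveI : Epi φ := Abelian.epi_of_cokernel_π_eq_zero φ hπ
  haveI : IsIso φ := isIso_of_mono_of_epi φ
  exact isIso_of_bijective_app f fun V _ => ConcreteCategory.bijective_of_isIso ((ClSub.unitToPush f).app V)

end Groth.Agent.S1603
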