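import Groth.Statements.S16030
import Mathlib.RingTheory.Ideal.Operations

set_option autoImplicit false
universe u
open CAlg

namespace Groth.Agent.S16030

/-- For a finite set F of points of the spectrum of a commutative ring A and an open subset U containing
F, some basic open D(a) contains F and is contained in U. -/
theorem result
    (A : Type u) [CommRing A] (F : Set (PrimeSpectrum A)) (hF : F.Finite)
    (U : TopologicalSpace.Opens (PrimeSpectrum A)) (hFU : F ⊆ (U : Set (PrimeSpectrum A))) :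
    ∃ a : A, F ⊆ (PrimeSpectrum.basicOpen a : Set (PrimeSpectrum A)) ∧ PrimeSpectrum.basicOpen a ≤ U := by
  classical
  obtain ⟨s, hs⟩ := (PrimeSpectrum.isOpen_iff _).1 U.isOpen
  let F' := hF.toFinset
  have hnot : ∀ p ∈ F', ¬ (Ideal.span s) ≤ p.asIdeal := by
    intro p hp hle
    have h1 : p ∈ (U : Set (PrimeSpectrum A))ᶜ := by
      show p ∈ _
      rw [hs, PrimeSpectrum.mem_zeroLocus]; exact Ideal.span_le.1 hle
    exact h1 (hFU (hF.mem_toFinset.1 hp))
  obtain ⟨a, ha, han⟩ : ∃ a ∈ Ideal.span s, ∀ p ∈ F', a ∉ p.asIdeal := by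
    by_contra hc
    push Not at hc
    have hsub : (Ideal.span s : Set A) ⊆ ⋃ p ∈ (F' : Set (PrimeSpectrum A)), (p.asIdeal : Set A) := fun a ha => by
      obtain ⟨p, hp, hap⟩ := hc a ha
      exact Set.mem_biUnion hp hap
    by_cases hne : F'.Nonempty
    · obtain ⟨p₀, -⟩ := hne
      obtain ⟨p, hp, hle⟩ := (Ideal.subset_union_prime (f := fun p : PrimeSpectrum A => p.asIdeal) p₀ p₀
        fun p _ _ _ => p.2).1 hsub
      exact hnot p hp hle
    · obtain ⟨p, hp, -⟩ := hc 0 (zero_mem _)
      exact hne ⟨p, hp⟩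
  refine ⟨a, fun p hp => han p (hF.mem_toFinset.2 hp), fun p hp => ?_⟩
  by_contra hpU
  have : p ∈ (U : Set (PrimeSpectrum A))ᶜ := hpU
  rw [hs, PrimeSpectrum.mem_zeroLocus] at this
  exact hp (Ideal.span_le.2 this ha)

end Groth.Agent.S16030
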