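import Groth.Statements.S16031
import Mathlib
import Groth.Agent.RingPO.FiniteSet

set_option autoImplicit false
universe u
open CategoryTheory CategoryTheory.Limits AlgebraicGeometry
open FlatMor

namespace Groth.Agent.S16031

/-- Let θ₁ : Y ⟶ X₁ and θ₂ : Y ⟶ X₂ be closed immersions of schemes and let X, with φ₁ : X₁ ⟶ X and φ₂ :
X₂ ⟶ X, be their pushout in the category of schemes. If a finite set E of points of X has each
preimage φᵢ⁻¹(E) contained in an affine open of Xᵢ, then E is contained in an affine open of X. -/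
theorem result
    {Y X₁ X₂ X : Scheme.{u}} (θ₁ : Y ⟶ X₁) (θ₂ : Y ⟶ X₂) [IsClosedImmersion θ₁] [IsClosedImmersion θ₂]
    (φ₁ : X₁ ⟶ X) (φ₂ : X₂ ⟶ X) (hX : IsPushout θ₁ θ₂ φ₁ φ₂)
    (E : Set ↥X) (hE : E.Finite)
    (h₁ : ∃ U₁ : X₁.Opens, IsAffineOpen U₁ ∧ φ₁ ⁻¹' E ⊆ (U₁ : Set ↥X₁))
    (h₂ : ∃ U₂ : X₂.Opens, IsAffineOpen U₂ ∧ φ₂ ⁻¹' E ⊆ (U₂ : Set ↥X₂)) :
    ∃ U : X.Opens, IsAffineOpen U ∧ E ⊆ (U : Set ↥X) := by
  classical
  obtain ⟨U₁, hU₁, hE₁⟩ := h₁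
  obtain ⟨U₂, hU₂, hE₂⟩ := h₂
  haveI : IsClosedImmersion φ₂ := RingPO.isClosedImmersion_inr hX RingPO.chart_of_closedImmersion
  haveI : IsClosedImmersion φ₁ := RingPO.isClosedImmersion_inr hX.flip RingPO.chart_of_closedImmersion
  let G₁ := (hE.preimage φ₁.isClosedEmbedding.injective.injOn).toFinset
  let G₂ := (hE.preimage φ₂.isClosedEmbedding.injective.injOn).toFinset
  have hG : ∀ z, θ₁ z ∈ G₁ ↔ θ₂ z ∈ G₂ := fun z => by
    simp only [G₁, G₂, Set.Finite.mem_toFinset, Set.mem_preimage, ← Scheme.Hom.comp_apply, hX.w]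
  obtain ⟨c, hc₁, hc₂⟩ := RingPO.exists_chart_finset θ₁ θ₂ hU₁ hU₂ G₁ G₂
    (fun x hx => hE₁ ((Set.Finite.mem_toFinset _).1 hx)) (fun x hx => hE₂ ((Set.Finite.mem_toFinset _).1 hx)) hG
  obtain ⟨φ, hφ, hcov, e₁, e₂, e₃, e₄⟩ := RingPO.exists_fibreProd_chart hX RingPO.chart_of_closedImmersion
  haveI := hφ
  refine ⟨(φ c).opensRange, isAffineOpen_opensRange _, fun x hx => ?_⟩
  obtain ⟨d, y, rfl⟩ := hcov x
  rcases d.isFibreProd.exists_preimage y with ⟨b, rfl⟩ | ⟨b, rfl⟩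
  · have h := congr($(e₂ d) b)
    simp only [Scheme.Hom.comp_apply] at h
    rw [show φ d (PrimeSpectrum.comap d.β b) = φ₂ (d.hV.fromSpec b) from h.symm] at hx ⊢
    exact (e₄ c).ge (hc₂ _ ((Set.Finite.mem_toFinset _).2 hx))
  · have h := congr($(e₁ d) b)
    simp only [Scheme.Hom.comp_apply] at h
    rw [show φ d (PrimeSpectrum.comap d.α b) = φ₁ (d.hU.fromSpec b) from h.symm] at hx ⊢
    exact (e₃ c).ge (hc₁ _ ((Set.Finite.mem_toFinset _).2 hx))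

end Groth.Agent.S16031
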