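import Groth.Statements.S16033
import Groth.Agent.GrpSchLib.AffinizationKer
import Groth.Agent.GrpSchLib.AffineKer
import Groth.Agent.GrpSchLib.KernelGrp
import Groth.Agent.GrpSchLib.HomKer
import Groth.Agent.S18067
-- import your own Groth.Agent.* helpers here

set_option autoImplicit false
set_option backward.isDefEq.respectTransparency false
set_option backward.isDefEq.respectTransparency.types false
set_option linter.style.haveILetI false
universe u
open CategoryTheory CategoryTheory.Limits AlgebraicGeometry MonoidalCategory CartesianMonoidalCategory MonObj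
open GrpSch

namespace Groth.Agent.S16033

/-- For a commutative group scheme G of finite type over a field and an integer n > 0, the n-th power
homomorphism n_G : G ⟶ G is an affine morphism. -/
theorem result
    (k : Type u) [Field k] (G : Over (Spec (CommRingCat.of k))) [GrpObj G] [IsCommMonObj G]
    [LocallyOfFiniteType G.hom] [QuasiCompact G.hom] (n : ℕ) (hn : 0 < n) :
    IsAffineHom ((𝟙 G ^ n : G ⟶ G).left) := by
  haveI := GrpSchLib.AntiAffine.isSeparated_grp G
  let pw : G ⟶ G := (𝟙 G) ^ n
  have hpt : ∀ {T : Over (Spec (CommRingCat.of k))} (b : T ⟶ G), b ≫ pw = b ^ n := fun b => by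
    rw [MonObj.comp_pow, Category.comp_id]
  haveI : IsMonHom pw := by
    refine ⟨?_, ?_⟩
    · rw [hpt, MonObj.one_eq_one, one_pow]
    · rw [hpt, ← CartesianMonoidalCategory.lift_fst_comp_snd_comp, ← Hom.mul_def, hpt, hpt, ← mul_pow,
        ← MonObj.mul_eq_mul]
  obtain ⟨K, _, κ, hκ, hκc, -, hK⟩ := GrpSchLib.exists_kernel pw
  haveI := hκ; haveI := hκc
  haveI : LocallyOfFiniteType K.hom := by rw [← Over.w κ]; infer_instance
  haveI : QuasiCompact K.hom := by rw [← Over.w κ]; infer_instance
  haveI : Mono κ := (Over.forget _).mono_of_mono_map (inferInstanceAs (Mono κ.left))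
  haveI : QuasiCompact pw.left := by
    haveI : QuasiCompact (pw.left ≫ G.hom) := by rw [Over.w pw]; infer_instance
    exact QuasiCompact.of_comp pw.left G.hom
  suffices IsAffine K.left by
    refine GrpSchLib.AffineKer.isAffineHom_of_kernel pw ?_
    haveI : IsAffineHom K.hom := isAffineHom_of_isAffine K.hom
    rw [← (GrpSchLib.HomKer.kernel_square (u := pw) κ hK).isoPullback_inv_snd]
    infer_instance
  -- the affinization of the kernel has trivial kernel
  obtain ⟨I, _, p, hp, hI, hIl, hfl, hsu, hb⟩ := GrpSchLib.Affinization.exists_affinization K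
  haveI := hp; haveI := hI; haveI := hIl; haveI := hfl; haveI := hsu
  haveI := GrpSchLib.AntiAffine.isSeparated_grp I
  haveI : IsIso p.left.appTop := (ConcreteCategory.isIso_iff_bijective _).mpr hb
  obtain ⟨M, _, i, hi, hic, -, hM⟩ := GrpSchLib.exists_kernel p
  haveI := hi; haveI := hic
  haveI : Mono i := (Over.forget _).mono_of_mono_map (inferInstanceAs (Mono i.left))
  haveI : LocallyOfFiniteType M.hom := by rw [← Over.w i]; infer_instance
  haveI : QuasiCompact M.hom := by rw [← Over.w i]; infer_instance
  have sqM := GrpSchLib.HomKer.kernel_square (u := p) i hM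
  have hMb : Function.Bijective M.hom.appTop := by
    let m : I.left ⟶ Spec Γ(K.left, ⊤) := I.left.toSpecΓ ≫ inv (Spec.map p.left.appTop)
    have hm : K.left.toSpecΓ = p.left ≫ m := by
      rw [← Category.assoc, Scheme.toSpecΓ_naturality, Category.assoc, IsIso.hom_inv_id, Category.comp_id]
    have hη : η[K].left ≫ K.left.toSpecΓ = η[I].left ≫ m := by
      rw [hm, ← Category.assoc, ← Over.comp_left, IsMonHom.one_hom p]
    have sq : IsPullback i.left M.hom K.left.toSpecΓ (η[K].left ≫ K.left.toSpecΓ) :=
      ⟨⟨by rw [hη, hm, reassoc_of% sqM.w]⟩, ⟨PullbackCone.IsLimit.mk _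
        (fun s => sqM.lift s.fst s.snd (by
          rw [← cancel_mono m, Category.assoc, Category.assoc, ← hη, ← hm]
          exact s.condition))
        (fun s => sqM.lift_fst _ _ _) (fun s => sqM.lift_snd _ _ _)
        fun s q h1 h2 => sqM.hom_ext (by rw [h1, sqM.lift_fst]) (by rw [h2, sqM.lift_snd])⟩⟩
    obtain ⟨_, -, -, hbij⟩ := GrpSchLib.AffinizationKer.main K
    have e : M.hom = sq.isoPullback.hom ≫ (GrpSchLib.AffinizationKer.ker K).hom := by
      show M.hom = sq.isoPullback.hom ≫ Limits.pullback.snd _ _ ≫ 𝟙 _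
      rw [Category.comp_id, sq.isoPullback_hom_snd]
    rw [e, Scheme.Hom.comp_appTop]
    exact ((ConcreteCategory.isIso_iff_bijective sq.isoPullback.hom.appTop).mp inferInstance).comp hbij
  haveI : Smooth M.hom := GrpSchLib.AntiAffineSmooth.smooth hMb
  obtain ⟨hsurj, -⟩ := S18067.result k M (by
    have h := hMb.comp (Scheme.ΓSpecIso (CommRingCat.of k)).symm.commRingCatIsoToRingEquiv.bijective
    exact h) (n : ℤ) (by omega)
  have hone : (𝟙 M) ^ (n : ℤ) = 1 := by
    rw [zpow_natCast, ← cancel_mono i, ← cancel_mono κ, MonObj.one_comp, MonObj.one_comp, Category.assoc,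
      MonObj.pow_comp, Category.id_comp, ← hpt, Category.assoc, hK.w, ← Category.assoc, comp_toUnit]
    rfl
  haveI : Subsingleton M.left := by
    rw [hone] at hsurj
    constructor
    intro a b
    obtain ⟨a', rfl⟩ := hsurj.surj a
    obtain ⟨b', rfl⟩ := hsurj.surj b
    show η[M].left ((toUnit M).left a') = η[M].left ((toUnit M).left b')
    congr 1
    exact Subsingleton.elim (α := Spec (CommRingCat.of k)) _ _
  haveI : IsClosedImmersion (η[M].left ≫ M.hom) := by
    rw [Over.w η[M]]
    exact inferInstanceAs (IsClosedImmersion (𝟙 _))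
  haveI := GrpSchLib.AntiAffine.isSeparated_grp M
  haveI : IsClosedImmersion η[M].left := IsClosedImmersion.of_comp η[M].left M.hom
  haveI : Surjective η[M].left := ⟨fun y => ⟨IsLocalRing.closedPoint k, Subsingleton.elim _ _⟩⟩
  haveI : IsReduced M.left := GrpSchLib.isReduced_of_smooth_field M.hom
  haveI : IsIso η[M].left := isIso_of_isClosedImmersion_of_surjective _
  haveI : IsAffine (𝟙_ (Over (Spec (CommRingCat.of k)))).left := isAffine_Spec _
  haveI : IsAffine M.left := IsAffine.of_isIso (inv η[M].left)
  haveI : IsAffineHom M.hom := isAffineHom_of_isAffine M.hom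
  haveI : QuasiCompact p.left := by
    haveI : QuasiCompact (p.left ≫ I.hom) := by rw [Over.w p]; infer_instance
    exact QuasiCompact.of_comp p.left I.hom
  haveI : IsAffineHom p.left := GrpSchLib.AffineKer.isAffineHom_of_kernel p (by
    rw [← sqM.isoPullback_inv_snd]; infer_instance)
  exact isAffine_of_isAffineHom p.left

end Groth.Agent.S16033
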