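import Groth.Statements.S16037
import Groth.Agent.GrpSchLib.ImageFactor
import Groth.Agent.S3280
-- import your own Groth.Agent.* helpers here

set_option autoImplicit false
universe u
open CategoryTheory CategoryTheory.Limits AlgebraicGeometry MonoidalCategory MonObj
open GrpSch

open MonoidalCategory CartesianMonoidalCategory MonObj

namespace Groth.Agent.S16037

/-- A family of ideal sheaves on a Noetherian scheme has a maximal member. -/
theorem exists_maximal_idealSheaf {X : Scheme.{u}} [IsLocallyNoetherian X] [CompactSpace X] {J : Type u} [Nonempty J]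
    (I : J → X.IdealSheafData) : ∃ j₀, ∀ j, I j₀ ≤ I j → I j = I j₀ := by
  classical
  let 𝒰 := X.affineCover.finiteSubcover
  have haff : ∀ c, IsAffine (𝒰.X c) := fun c => inferInstanceAs (IsAffine (X.affineCover.X _))
  let U : 𝒰.I₀ → X.affineOpens := fun c => ⟨(𝒰.f c).opensRange, @isAffineOpen_opensRange _ _ (haff c) _ _⟩
  have : ∀ c, IsNoetherianRing Γ(X, (U c).1) := fun c => IsLocallyNoetherian.component_noetherian (U c)
  obtain ⟨_, ⟨j₀, rfl⟩, hmax⟩ := wellFounded_lt.has_min
    (Set.range fun (j : J) (c : 𝒰.I₀) => OrderDual.toDual ((I j).ideal (U c))) (Set.range_nonempty _)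
  refine ⟨j₀, fun j hle => ?_⟩
  refine Scheme.IdealSheafData.ext_of_iSup_eq_top U ?_ fun c => ?_
  · rw [eq_top_iff]
    intro x _
    obtain ⟨y, hy⟩ := 𝒰.covers x
    exact TopologicalSpace.Opens.mem_iSup.mpr ⟨𝒰.idx x, ⟨y, hy⟩⟩
  · by_contra hne
    refine hmax _ ⟨j, rfl⟩ (lt_of_le_of_ne (fun c => hle (U c)) fun heq => hne ?_)
    exact (OrderDual.toDual.injective (congrFun heq c))

/-- Over a field k, let G be a group scheme of finite type, G' a group scheme which is a cofiltered
limit of group schemes of finite type (limit cone of homomorphisms), and u : G ⟶ G' a quasi-compact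
homomorphism which is schematically dominant. Then u is faithfully flat and G' is of finite type. -/
theorem result
    (k : Type u) [Field k] (G : Over (Spec (CommRingCat.of k))) [GrpObj G]
    [LocallyOfFiniteType G.hom] [QuasiCompact G.hom]
    (J : Type u) [SmallCategory J] [IsCofiltered J] (D : J ⥤ Over (Spec (CommRingCat.of k)))
    [∀ j, GrpObj (D.obj j)] [∀ (j j' : J) (φ : j ⟶ j'), IsMonHom (D.map φ)]
    (hD : ∀ j, LocallyOfFiniteType (D.obj j).hom ∧ QuasiCompact (D.obj j).hom)
    (c : Cone D) (hc : IsLimit c) [GrpObj c.pt] [∀ j, IsMonHom (M := c.pt) (N := D.obj j) (c.π.app j)]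
    (u : G ⟶ c.pt) [IsMonHom u] [QuasiCompact u.left] (hdom : u.left.ker = ⊥) :
    Flat u.left ∧ Surjective u.left ∧ LocallyOfFiniteType c.pt.hom ∧ QuasiCompact c.pt.hom := by
  classical
  haveI : IsLocallyNoetherian G.left := LocallyOfFiniteType.isLocallyNoetherian G.hom
  haveI : CompactSpace G.left := (quasiCompact_iff_compactSpace G.hom).mp inferInstance
  haveI : ∀ j, LocallyOfFiniteType (D.obj j).hom := fun j => (hD j).1
  haveI : ∀ j, QuasiCompact (D.obj j).hom := fun j => (hD j).2
  haveI : ∀ j, IsSeparated (D.obj j).hom := fun j => GrpSchLib.AntiAffine.isSeparated_grp _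
  -- the images and the kernels
  choose I hI p i hp hi hpi hic hfl hs hIl hIq using fun j =>
    GrpSchLib.ImageFactor.exists_image (u ≫ c.π.app j)
  haveI : ∀ j, IsSeparated (I j).hom := fun j => GrpSchLib.AntiAffine.isSeparated_grp _
  choose N hNG n hn hnc hnn hker using fun j => GrpSchLib.exists_kernel (p j)
  haveI : Nonempty J := IsCofiltered.nonempty
  obtain ⟨j₀, hj₀⟩ := exists_maximal_idealSheaf fun j => (n j).left.ker
  haveI := hfl; haveI := hs; haveI := hIl; haveI := hIq; haveI := hp; haveI := hi; haveI := hic; haveI := hnc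
  haveI : ∀ j, Mono (i j) := fun j => (Over.forget _).mono_of_mono_map (inferInstanceAs (Mono (i j).left))
  haveI : ∀ j, QuasiCompact (p j).left := fun j => by
    haveI : QuasiCompact ((p j).left ≫ (I j).hom) := by rw [Over.w (p j)]; infer_instance
    exact QuasiCompact.of_comp (p j).left (I j).hom
  haveI : ∀ j, Epi (p j) := fun j => Over.epi_of_epi_left _
  -- points killed downstream are killed upstream
  have hle : ∀ {j j' : J} (φ : j ⟶ j'), ∃ m : N j ⟶ N j', m ≫ n j' = n j := by
    intro j j' φ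
    have h1 : (n j ≫ p j') ≫ i j' = (toUnit (N j) ≫ η[I j']) ≫ i j' := by
      rw [Category.assoc, hpi, ← c.w φ, ← Category.assoc u, ← hpi j, Category.assoc, reassoc_of% (hker j).w]
      simp only [Category.assoc, IsMonHom.one_hom, IsMonHom.one_hom_assoc]
    have h2 : n j ≫ p j' = toUnit (N j) ≫ η[I j'] := (cancel_mono (i j')).mp h1
    exact ⟨(hker j').lift _ _ h2, (hker j').lift_fst _ _ h2⟩
  have hstab : ∀ {j : J} (φ : j ⟶ j₀), ∃ m : N j₀ ⟶ N j, m ≫ n j = n j₀ := by
    intro j φ
    obtain ⟨m, hm⟩ := hle φ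
    have h1 : (n j).left.ker = (n j₀).left.ker := hj₀ j (by
      show (n j₀).left.ker ≤ (n j).left.ker
      rw [← hm, Over.comp_left]
      exact Scheme.Hom.le_ker_comp _ _)
    let l := IsClosedImmersion.lift (n j).left (n j₀).left h1.le
    refine ⟨Over.homMk l ?_, Over.OverMorphism.ext (IsClosedImmersion.lift_fac _ _ _)⟩
    rw [← Over.w (n j), IsClosedImmersion.lift_fac_assoc, Over.w (n j₀)]
  -- the maps from the stable image
  have hdesc : ∀ j, ∃ t : I j₀ ⟶ D.obj j, p j₀ ≫ t = u ≫ c.π.app j := by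
    intro j
    let j₁ := IsCofiltered.min j j₀
    obtain ⟨m, hm⟩ := hstab (IsCofiltered.minToRight j j₀)
    have hkill : n j₀ ≫ p j₁ = toUnit (N j₀) ≫ η[I j₁] := by
      rw [← hm, Category.assoc, (hker j₁).w, ← Category.assoc, comp_toUnit]
    obtain ⟨b, -, hb, -⟩ := S3280.result k G (N j₀) (I j₀) (I j₁) (p j₀) (n j₀) (hker j₀) (p j₁) hkill
    exact ⟨b ≫ i j₁ ≫ D.map (IsCofiltered.minToLeft j j₀), by
      rw [reassoc_of% hb, reassoc_of% hpi j₁, c.w]⟩
  choose t ht using hdesc
  let c' : Cone D := ⟨I j₀, ⟨t, fun j j' φ => by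
    dsimp
    rw [Category.id_comp, ← cancel_epi (p j₀), ht, reassoc_of% ht j, c.w φ]⟩⟩
  let s := hc.lift c'
  have hst : ∀ j, s ≫ c.π.app j = t j := fun j => hc.fac c' j
  have hps : p j₀ ≫ s = u := hc.hom_ext fun j => by rw [Category.assoc, hst, ht]
  have hs0 : s ≫ c.π.app j₀ = i j₀ := by
    rw [← cancel_epi (p j₀), ← Category.assoc, hps, hpi]
  haveI : IsSeparated c.pt.hom := GrpSchLib.AntiAffine.isSeparated_grp _
  haveI : IsSeparated (((Functor.const J).obj c.pt).obj j₀).hom := ‹IsSeparated c.pt.hom›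
  haveI : IsSeparated ((c.π.app j₀).left ≫ (D.obj j₀).hom) := by rw [Over.w (c.π.app j₀)]; infer_instance
  haveI : IsSeparated (c.π.app j₀).left := IsSeparated.of_comp (c.π.app j₀).left (D.obj j₀).hom
  haveI : IsClosedImmersion (s.left ≫ (c.π.app j₀).left) := by rw [← Over.comp_left, hs0]; infer_instance
  haveI : IsClosedImmersion s.left := IsClosedImmersion.of_comp s.left (c.π.app j₀).left
  haveI : IsIso s.left := IsClosedImmersion.isIso_iff_ker_eq_bot.mpr (le_bot_iff.mp (by
    rw [← hdom, ← hps, Over.comp_left]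
    exact Scheme.Hom.le_ker_comp _ _))
  refine ⟨?_, ?_, ?_, ?_⟩
  · rw [← hps, Over.comp_left]; infer_instance
  · rw [← hps, Over.comp_left]; infer_instance
  · haveI : IsIso ((Over.forget _).map s) := ‹IsIso s.left›
    haveI : IsIso s := isIso_of_reflects_iso s (Over.forget _)
    haveI : LocallyOfFiniteType c'.pt.hom := hIl j₀
    haveI : QuasiCompact c'.pt.hom := hIq j₀
    haveI : IsIso (inv s).left := inferInstanceAs (IsIso ((Over.forget _).map (inv s)))
    rw [← Over.w (inv s)]; infer_instance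
  · haveI : IsIso ((Over.forget _).map s) := ‹IsIso s.left›
    haveI : IsIso s := isIso_of_reflects_iso s (Over.forget _)
    haveI : LocallyOfFiniteType c'.pt.hom := hIl j₀
    haveI : QuasiCompact c'.pt.hom := hIq j₀
    haveI : IsIso (inv s).left := inferInstanceAs (IsIso ((Over.forget _).map (inv s)))
    rw [← Over.w (inv s)]; infer_instance

end Groth.Agent.S16037
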