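import Groth.Statements.S16044
import Mathlib.AlgebraicGeometry.Morphisms.SchemeTheoreticallyDominant
import Mathlib.AlgebraicGeometry.Morphisms.ClosedImmersion
import Mathlib.AlgebraicGeometry.ResidueField
import Mathlib.RingTheory.Flat.TorsionFree
-- import your own Groth.Agent.* helpers here

set_option autoImplicit false
universe u
open CategoryTheory CategoryTheory.Limits AlgebraicGeometry
open GrpSch

namespace Groth.Agent.S16044

/-- The structure map on sections over an open. -/
noncomputable abbrev fU {A : Type u} [CommRing A] {X : Scheme.{u}} (f : X ⟶ Spec (CommRingCat.of A)) (U : X.Opens) :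
    Γ(Spec (CommRingCat.of A), ⊤) ⟶ Γ(X, U) :=
  f.appLE ⊤ U (by rw [Scheme.Hom.preimage_top]; exact le_top)

open TopologicalSpace in
/-- A function on a flat scheme over a domain which dies on the zero locus of `p` is a multiple of `p`. -/
theorem exists_eq_mul {A : Type u} [CommRing A] [IsDomain A] {X T : Scheme.{u}} (f : X ⟶ Spec (CommRingCat.of A))
    [Flat f] (t : T ⟶ Spec (CommRingCat.of A)) [IsAffine T] [IsClosedImmersion t]
    (p : Γ(Spec (CommRingCat.of A), ⊤)) (hp : p ≠ 0) (ht : RingHom.ker t.appTop.hom = Ideal.span {p})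
    (x : Γ(X, ⊤)) (hx : (pullback.fst f t).appTop x = 0) :
    ∃ z : Γ(X, ⊤), x = f.appTop p * z := by
  have hS : IsAffineOpen (⊤ : (Spec (CommRingCat.of A)).Opens) := isAffineOpen_top _
  haveI : IsDomain Γ(Spec (CommRingCat.of A), ⊤) :=
    (Scheme.ΓSpecIso (CommRingCat.of A)).commRingCatIsoToRingEquiv.toMulEquiv.isDomain _
  -- regularity on affine opens
  have hreg : ∀ U : X.Opens, IsAffineOpen U → ∀ z : Γ(X, U), fU f U p * z = 0 → z = 0 := by
    intro U hU z hz
    letI := (fU f U).hom.toAlgebra
    haveI : Module.Flat Γ(Spec (CommRingCat.of A), ⊤) Γ(X, U) := f.flat_appLE hS hU (by simp)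
    exact Module.Flat.isSMulRegular_of_isRegular (isRegular_iff_ne_zero.mpr hp)
      (show p • z = p • 0 by rw [smul_zero]; exact hz)
  -- regularity on all opens
  have hreg' : ∀ U : X.Opens, ∀ z : Γ(X, U), fU f U p * z = 0 → z = 0 := by
    intro U z hz
    refine X.IsSheaf.section_ext fun w hw => ?_
    obtain ⟨_, ⟨V, hV, rfl⟩, hwV, hVU : V ≤ U⟩ :=
      X.isBasis_affineOpens.exists_subset_of_mem_open hw U.2
    refine ⟨V, hVU, hwV, ?_⟩
    rw [map_zero]
    refine hreg V hV _ ?_
    have := congrArg (X.presheaf.map (homOfLE hVU).op) hz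
    rw [map_mul, map_zero, fU, ← ConcreteCategory.comp_apply, Scheme.Hom.appLE_map] at this
    exact this
  -- local division
  have hloc : ∀ U : X.affineOpens, ∃ z : Γ(X, U.1),
      X.presheaf.map (homOfLE (show U.1 ≤ ⊤ from le_top)).op x = fU f U.1 p * z := by
    intro U
    have hT : IsAffineOpen (⊤ : T.Opens) := isAffineOpen_top _
    have hiso := isIso_pushoutSection_of_isAffineOpen (IsPullback.of_hasPullback f t) (US := ⊤) (UT := ⊤) (UX := U.1)
      (UY := pullback.fst f t ⁻¹ᵁ U.1) (by simp) (by simp)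
      (by rw [Scheme.Hom.preimage_top, inf_top_eq]) hS hT U.2
    set R := fU f U.1 with hR
    set B := t.appLE ⊤ ⊤ (by rw [Scheme.Hom.preimage_top]) with hB
    have hBs : Function.Surjective B.hom := by
      rw [show B = t.appTop from by rw [hB, Scheme.Hom.appTop, Scheme.Hom.app_eq_appLE]; rfl]
      exact (IsClosedImmersion.isAffine_surjective_of_isAffine t).2
    have hker : RingHom.ker B.hom = Ideal.span {p} := by
      rw [← ht, show B = t.appTop from by rw [hB, Scheme.Hom.appTop, Scheme.Hom.app_eq_appLE]; rfl]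
    let mk : Γ(X, U.1) →+* Γ(X, U.1) ⧸ Ideal.span {R p} := Ideal.Quotient.mk _
    have hle : RingHom.ker B.hom ≤ RingHom.ker (mk.comp R.hom) := by
      rw [hker, Ideal.span_le, Set.singleton_subset_iff, SetLike.mem_coe, RingHom.mem_ker, RingHom.comp_apply,
        Ideal.Quotient.eq_zero_iff_mem]
      exact Ideal.mem_span_singleton_self _
    let d : Γ(T, ⊤) →+* Γ(X, U.1) ⧸ Ideal.span {R p} := B.hom.liftOfSurjective hBs ⟨mk.comp R.hom, hle⟩
    let D : pushout R B ⟶ CommRingCat.of (Γ(X, U.1) ⧸ Ideal.span {R p}) :=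
      pushout.desc (CommRingCat.ofHom mk) (CommRingCat.ofHom d) (by
        ext a
        exact (DFunLike.congr_fun (B.hom.liftOfRightInverse_comp _ (Function.rightInverse_surjInv hBs)
          ⟨mk.comp R.hom, hle⟩) a).symm)
    have h0 : pushout.inl R B (X.presheaf.map (homOfLE (show U.1 ≤ ⊤ from le_top)).op x) = 0 := by
      apply ((ConcreteCategory.isIso_iff_bijective _).mp hiso).1
      rw [map_zero, ← ConcreteCategory.comp_apply, pushout.inl_desc, ← ConcreteCategory.comp_apply,
        Scheme.Hom.map_appLE, Scheme.Hom.appLE, ConcreteCategory.comp_apply]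
      exact (congrArg _ hx).trans (map_zero _)
    have h1 := congrArg D h0
    rw [← ConcreteCategory.comp_apply, pushout.inl_desc, map_zero] at h1
    obtain ⟨z, hz⟩ := Ideal.mem_span_singleton'.mp (Ideal.Quotient.eq_zero_iff_mem.mp h1)
    exact ⟨z, by rw [← hz, mul_comm]⟩
  choose z hz using hloc
  obtain ⟨w, hw, -⟩ := TopCat.Sheaf.existsUnique_gluing' X.sheaf (fun U : X.affineOpens => U.1) ⊤
    (fun U => homOfLE le_top) (by rw [X.isBasis_affineOpens.isOpenCover.iSup_eq_top]) z (by
      intro U V
      refine sub_eq_zero.mp (hreg' _ _ ?_)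
      have hU := congrArg (X.presheaf.map (Opens.infLELeft U.1 V.1).op) (hz U)
      have hV := congrArg (X.presheaf.map (Opens.infLERight U.1 V.1).op) (hz V)
      rw [← ConcreteCategory.comp_apply, ← X.presheaf.map_comp, map_mul, fU, ← ConcreteCategory.comp_apply,
        Scheme.Hom.appLE_map] at hU hV
      show fU f (U.1 ⊓ V.1) p * (X.presheaf.map (Opens.infLELeft U.1 V.1).op (z U) -
        X.presheaf.map (Opens.infLERight U.1 V.1).op (z V)) = 0
      rw [mul_sub]
      exact sub_eq_zero.mpr (hU.symm.trans ((DFunLike.congr_fun (congrArg CommRingCat.Hom.hom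
        (congrArg X.presheaf.map (Subsingleton.elim _ _))) x).trans hV)))
  refine ⟨(show Γ(X, ⊤) from w), ?_⟩
  refine TopCat.Sheaf.eq_of_locally_eq' X.sheaf (fun U : X.affineOpens => U.1) ⊤ (fun U => homOfLE le_top)
    (by rw [X.isBasis_affineOpens.isOpenCover.iSup_eq_top]) _ _ fun U => ?_
  show X.presheaf.map _ x = X.presheaf.map (homOfLE (show U.1 ≤ ⊤ from le_top)).op (f.appTop p * (show Γ(X, ⊤) from w))
  rw [map_mul, hz U]
  exact congrArg₂ (· * ·) rfl (hw U).symm

/-- The pullback square. -/
theorem isPullback_map {A : Type u} [CommRing A] {X Y T : Scheme.{u}} (f : X ⟶ Spec (CommRingCat.of A))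
    (g : Y ⟶ Spec (CommRingCat.of A)) (c : X ⟶ Y) (hg : c ≫ g = f) (t : T ⟶ Spec (CommRingCat.of A)) :
    IsPullback (pullback.fst f t) (pullback.map f t g t c (𝟙 _) (𝟙 _) ((Category.comp_id f).trans hg.symm)
      ((Category.comp_id _).trans (Category.id_comp _).symm)) c (pullback.fst g t) := by
  refine IsPullback.of_bot ?_ (pullback.lift_fst _ _ _).symm (IsPullback.of_hasPullback g t)
  subst hg
  simp only [pullback.map, pullback.lift_snd, Category.comp_id]
  exact IsPullback.of_hasPullback _ t

theorem flat_case {A : Type u} [CommRing A] {X T : Scheme.{u}} (f : X ⟶ Spec (CommRingCat.of A))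
    [QuasiCompact f] (g : Spec Γ(X, ⊤) ⟶ Spec (CommRingCat.of A)) (hg : X.toSpecΓ ≫ g = f)
    (t : T ⟶ Spec (CommRingCat.of A)) [Flat t] :
    (pullback.map f t g t X.toSpecΓ (𝟙 _) (𝟙 _) ((Category.comp_id f).trans hg.symm)
      ((Category.comp_id _).trans (Category.id_comp _).symm)).ker = ⊥ := by
  haveI : CompactSpace ↥X := QuasiCompact.compactSpace_of_compactSpace f
  haveI : IsSchemeTheoreticallyDominant X.toSpecΓ := (isSchemeTheoreticallyDominant_iff _).mpr X.ker_toSpecΓ
  exact (isSchemeTheoreticallyDominant_iff _).mp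
    (IsSchemeTheoreticallyDominant.of_isPullback (isPullback_map f g _ hg t))

theorem closed_case {A : Type u} [CommRing A] [IsDomain A] {X T : Scheme.{u}} (f : X ⟶ Spec (CommRingCat.of A))
    [Flat f] [QuasiCompact f] (g : Spec Γ(X, ⊤) ⟶ Spec (CommRingCat.of A)) (hg : X.toSpecΓ ≫ g = f)
    (t : T ⟶ Spec (CommRingCat.of A)) [IsAffine T] [IsClosedImmersion t]
    (p : Γ(Spec (CommRingCat.of A), ⊤)) (hp0 : p ≠ 0) (hp : RingHom.ker t.appTop.hom = Ideal.span {p}) :
    (pullback.map f t g t X.toSpecΓ (𝟙 _) (𝟙 _) ((Category.comp_id f).trans hg.symm)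
      ((Category.comp_id _).trans (Category.id_comp _).symm)).ker = ⊥ := by
  have hsq := isPullback_map f g _ hg t
  haveI : CompactSpace ↥X := QuasiCompact.compactSpace_of_compactSpace f
  haveI : IsAffine (pullback g t) := inferInstance
  rw [Scheme.ker_of_isAffine]
  suffices h : RingHom.ker (pullback.map f t g t X.toSpecΓ (𝟙 _) (𝟙 _) ((Category.comp_id f).trans hg.symm)
      ((Category.comp_id _).trans (Category.id_comp _).symm)).appTop.hom = ⊥ by
      rw [h]
      ext U
      simp [Scheme.IdealSheafData.ofIdealTop]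
  rw [RingHom.ker_eq_bot_iff_eq_zero]
  intro q hq
  obtain ⟨y, rfl⟩ := (IsClosedImmersion.isAffine_surjective_of_isAffine (pullback.fst g t)).2 q
  have hx : (pullback.fst f t).appTop (X.toSpecΓ.appTop y) = 0 := by
    rw [← ConcreteCategory.comp_apply, ← Scheme.Hom.comp_appTop, hsq.w, Scheme.Hom.comp_appTop,
      ConcreteCategory.comp_apply]
    exact hq
  obtain ⟨z, hz⟩ := exists_eq_mul f t p hp0 hp _ hx
  have hc : Function.Bijective X.toSpecΓ.appTop.hom := by
    rw [X.toSpecΓ_appTop]
    exact (ConcreteCategory.isIso_iff_bijective _).mp inferInstance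
  obtain ⟨y', rfl⟩ := hc.2 z
  have hy : y = g.appTop p * y' := hc.1 (by
    rw [hz, map_mul, ← hg, Scheme.Hom.comp_appTop, ConcreteCategory.comp_apply])
  have hp' : t.appTop p = 0 := by
    have : p ∈ RingHom.ker t.appTop.hom := by rw [hp]; exact Ideal.mem_span_singleton_self p
    exact this
  rw [hy, map_mul]
  convert zero_mul _
  rw [← ConcreteCategory.comp_apply, ← Scheme.Hom.comp_appTop, pullback.condition, Scheme.Hom.comp_appTop,
    ConcreteCategory.comp_apply, hp', map_zero]

/-- Let S be the spectrum of a discrete valuation ring and X a quasi-compact quasi-separated flat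
S-scheme, with canonical morphism c : X ⟶ Spec Γ(X, O_X) over S. Then on each fibre over a point of
S the base change of c is schematically dominant (its kernel ideal sheaf vanishes). -/
theorem result
    (A : Type u) [CommRing A] [IsDomain A] [IsDiscreteValuationRing A]
    (X : Scheme.{u}) (f : X ⟶ Spec (CommRingCat.of A)) [Flat f] [QuasiCompact f] [QuasiSeparated f]
    (g : Spec Γ(X, ⊤) ⟶ Spec (CommRingCat.of A)) (hg : X.toSpecΓ ≫ g = f) (s : ↥(Spec (CommRingCat.of A))) :
    (pullback.map f ((Spec (CommRingCat.of A)).fromSpecResidueField s) g ((Spec (CommRingCat.of A)).fromSpecResidueField s)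
        X.toSpecΓ (𝟙 _) (𝟙 _) ((Category.comp_id f).trans hg.symm)
        ((Category.comp_id _).trans (Category.id_comp _).symm)).ker = ⊥ := by
  haveI : s.asIdeal.IsPrime := s.2
  have ht := Scheme.Spec.map_residueFieldIso_inv_eq_fromSpecResidueField (CommRingCat.of A) s
  by_cases hs : s.asIdeal = ⊥
  · haveI : Module.IsTorsionFree A s.asIdeal.ResidueField := ⟨fun r hr a b hab => by
      have : algebraMap A s.asIdeal.ResidueField r ≠ 0 := fun h => hr.ne_zero (by
        rwa [Ideal.algebraMap_residueField_eq_zero, hs, Ideal.mem_bot] at h)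
      simp only [Algebra.smul_def] at hab
      exact mul_left_cancel₀ this hab⟩
    haveI : Flat (Spec.map (CommRingCat.ofHom (algebraMap A s.asIdeal.ResidueField))) :=
      (HasRingHomProperty.Spec_iff (P := @Flat)).mpr (RingHom.flat_algebraMap_iff.mpr inferInstance)
    haveI : Flat ((Spec (CommRingCat.of A)).fromSpecResidueField s) := by rw [← ht]; infer_instance
    exact flat_case f g hg _
  haveI hmax : s.asIdeal.IsMaximal := Ideal.IsPrime.isMaximal inferInstance hs
  haveI : IsClosedImmersion ((Spec (CommRingCat.of A)).fromSpecResidueField s) := by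
    haveI : IsClosedImmersion (Spec.map (CommRingCat.ofHom (algebraMap A s.asIdeal.ResidueField))) :=
      IsClosedImmersion.spec_of_surjective _ (Ideal.algebraMap_residueField_surjective _)
    rw [← ht]
    infer_instance
  set t := (Spec (CommRingCat.of A)).fromSpecResidueField s with htdef
  haveI : IsPrincipalIdealRing Γ(Spec (CommRingCat.of A), ⊤) :=
    IsPrincipalIdealRing.of_surjective (Scheme.ΓSpecIso (CommRingCat.of A)).inv.hom
      (Scheme.ΓSpecIso (CommRingCat.of A)).commRingCatIsoToRingEquiv.symm.surjective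
  obtain ⟨p, hp⟩ := IsPrincipalIdealRing.principal (RingHom.ker t.appTop.hom)
  refine closed_case f g hg t p ?_ hp
  rintro rfl
  have hb : Function.Bijective t.appTop.hom := ⟨(RingHom.injective_iff_ker_eq_bot _).mpr (by simp [hp]),
    (IsClosedImmersion.isAffine_surjective_of_isAffine t).2⟩
  have e := ((Scheme.ΓSpecIso (CommRingCat.of A)).commRingCatIsoToRingEquiv.symm.trans
    ((RingEquiv.ofBijective _ hb).trans
      (Scheme.ΓSpecIso ((Spec (CommRingCat.of A)).residueField s)).commRingCatIsoToRingEquiv))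
  exact IsDiscreteValuationRing.not_isField A (e.toMulEquiv.isField (Field.toIsField _))

end Groth.Agent.S16044
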