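import Groth.Statements.S16045
import Mathlib
import Groth.Agent.RingPO.BaseChange

set_option autoImplicit false
universe u
open CategoryTheory CategoryTheory.Limits AlgebraicGeometry
open FlatMor

namespace Groth.Agent.S16045

/-- Let θ₁ : Y ⟶ X₁ and θ₂ : Y ⟶ X₂ be closed immersions of schemes over S and X their pushout in
schemes over S. For a flat morphism g : S' ⟶ S, the square obtained by base change along g is a
pushout in schemes over S': pinching along a closed subscheme commutes with flat base change. -/
theorem result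
    {S S' : Scheme.{u}} (g : S' ⟶ S) [Flat g]
    {Y X₁ X₂ X : Over S} (θ₁ : Y ⟶ X₁) (θ₂ : Y ⟶ X₂) [IsClosedImmersion θ₁.left] [IsClosedImmersion θ₂.left]
    (φ₁ : X₁ ⟶ X) (φ₂ : X₂ ⟶ X) (hX : IsPushout θ₁ θ₂ φ₁ φ₂) :
    IsPushout ((Over.pullback g).map θ₁) ((Over.pullback g).map θ₂)
      ((Over.pullback g).map φ₁) ((Over.pullback g).map φ₂) := by
  have hX' : IsPushout θ₁.left θ₂.left φ₁.left φ₂.left := hX.map (Over.forget S)
  refine IsPushout.of_map (Over.forget S') ?_ ?_
  · rw [← Functor.map_comp, ← Functor.map_comp, hX.w]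
  · haveI : IsAffineHom φ₁.left := RingPO.isAffineHom_inl hX' RingPO.chart_of_closedImmersion
    exact RingPO.isPushout_baseChange hX' RingPO.chart_of_closedImmersion X.hom g (Or.inr inferInstance)
      (IsPullback.of_hasPullback X.hom g)
      (RingPO.isPullback_map_square (Over.w φ₁) g (pullback.lift_fst _ _ _) (pullback.lift_snd _ _ _))
      (RingPO.isPullback_map_square (Over.w φ₂) g (pullback.lift_fst _ _ _) (pullback.lift_snd _ _ _))
      (RingPO.isPullback_map_square (Over.w θ₁) g (pullback.lift_fst _ _ _) (pullback.lift_snd _ _ _))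
      (pullback.lift_fst _ _ _)
      (congrArg CommaMorphism.left (((Over.pullback g).map_comp θ₁ φ₁).symm.trans
        ((congrArg (Over.pullback g).map hX.w).trans ((Over.pullback g).map_comp θ₂ φ₂))))

end Groth.Agent.S16045
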