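import Groth.Statements.S16046
import Mathlib

set_option autoImplicit false
universe u
open TensorProduct
open ValRing

namespace Groth.Agent.S16046
open Polynomial TensorProduct
open scoped TensorProduct

theorem approx (A K A' K' : Type u) [CommRing A] [IsDomain A] [Field K] [Algebra A K]
    [CommRing A'] [IsDomain A'] [IsLocalRing A'] [Field K'] [Algebra A' K'] [IsFractionRing A' K']
    [Algebra A A'] [Algebra K K'] [Algebra A K'] [IsScalarTower A A' K'] [IsScalarTower A K K']
    (hdense : ∀ a' b' : A', b' ≠ 0 → ∃ a : A, b' ∣ a' - algebraMap A A' a) (x : K') :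
    ∃ (b : K) (t : A'), x = algebraMap K K' b + algebraMap A' K' t := by
  obtain ⟨p, q, hq, rfl⟩ := IsFractionRing.div_surjective (A := A') x
  have hq0 : q ≠ 0 := nonZeroDivisors.ne_zero hq
  have hinj := IsFractionRing.injective A' K'
  have hq0' : algebraMap A' K' q ≠ 0 := (map_ne_zero_iff _ hinj).2 hq0
  by_cases hqu : IsUnit q
  · obtain ⟨v, hv⟩ := hqu.exists_right_inv
    refine ⟨0, p * v, ?_⟩
    rw [map_zero, zero_add, div_eq_iff hq0', ← map_mul]
    congr 1
    rw [mul_assoc, mul_comm v, hv, mul_one]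
  obtain ⟨a, t, hat⟩ := hdense q (q * q) (mul_ne_zero hq0 hq0)
  have hu : IsUnit (1 - q * t) := by
    rcases IsLocalRing.isUnit_or_isUnit_of_isUnit_add (a := q * t) (b := 1 - q * t)
      (by rw [add_sub_cancel]; exact isUnit_one) with h | h
    · exact absurd (isUnit_of_mul_isUnit_left h) hqu
    · exact h
  have ha : algebraMap A A' a = q * (1 - q * t) := by linear_combination -hat
  have ha0 : algebraMap A A' a ≠ 0 := ha ▸ mul_ne_zero hq0 hu.ne_zero
  have ha0' : algebraMap A' K' (algebraMap A A' a) ≠ 0 := (map_ne_zero_iff _ hinj).2 ha0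
  obtain ⟨b, s, hbs⟩ := hdense (p * (1 - q * t)) (algebraMap A A' a) ha0
  refine ⟨algebraMap A K b / algebraMap A K a, s, ?_⟩
  rw [map_div₀, ← IsScalarTower.algebraMap_apply A K K', ← IsScalarTower.algebraMap_apply A K K',
    IsScalarTower.algebraMap_apply A A' K' b, IsScalarTower.algebraMap_apply A A' K' a,
    div_add' _ _ _ ha0', div_eq_div_iff hq0' ha0', ← map_mul, ← map_mul, ← map_add, ← map_mul]
  congr 1
  linear_combination q * hbs + p * ha

theorem decomp (A K L A' K' : Type u) [CommRing A] [IsDomain A] [Field K] [Algebra A K] [IsFractionRing A K]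
    [Field L] [Algebra K L] [FiniteDimensional K L] [Algebra A L] [IsScalarTower A K L]
    [CommRing A'] [IsDomain A'] [IsLocalRing A'] [Field K'] [Algebra A' K'] [IsFractionRing A' K']
    [Algebra A A'] [Algebra K K'] [Algebra A K'] [IsScalarTower A A' K'] [IsScalarTower A K K']
    (hdense : ∀ a' b' : A', b' ≠ 0 → ∃ a : A, b' ∣ a' - algebraMap A A' a) (z : K' ⊗[K] L) :
    ∃ (y : L) (n : ℕ) (c : Fin n → A') (l : Fin n → L), (∀ i, IsIntegral A (l i)) ∧
      z = (1 : K') ⊗ₜ[K] y + ∑ i, algebraMap A' K' (c i) ⊗ₜ[K] l i := by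
  induction z using TensorProduct.induction_on with
  | zero => exact ⟨0, 0, Fin.elim0, Fin.elim0, fun i => i.elim0, by simp⟩
  | tmul a e =>
    haveI : Algebra.IsAlgebraic A L := IsFractionRing.comap_isAlgebraic_iff (A := A) (K := K) (C := L) |>.2 inferInstance
    obtain ⟨d, hd, hint⟩ := (Algebra.IsAlgebraic.isAlgebraic (R := A) e).exists_integral_multiple
    have hd' : algebraMap A K d ≠ 0 := (map_ne_zero_iff _ (IsFractionRing.injective A K)).2 hd
    obtain ⟨b, t, hbt⟩ := approx A K A' K' hdense (algebraMap K K' (algebraMap A K d)⁻¹ * a)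
    refine ⟨b • d • e, 1, fun _ => t, fun _ => d • e, fun _ => hint, ?_⟩
    rw [Fin.sum_univ_one, ← TensorProduct.smul_tmul, ← TensorProduct.add_tmul,
      Algebra.smul_def b (1 : K'), mul_one, ← hbt, ← Algebra.smul_def, TensorProduct.smul_tmul,
      ← algebraMap_smul K d e, inv_smul_smul₀ hd']
  | add z w hz hw =>
    obtain ⟨y, n, c, l, hl, rfl⟩ := hz
    obtain ⟨y', n', c', l', hl', rfl⟩ := hw
    refine ⟨y + y', n + n', Fin.append c c', Fin.append l l', Fin.addCases (fun i => by simpa using hl i)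
      (fun i => by simpa using hl' i), ?_⟩
    rw [Fin.sum_univ_add, TensorProduct.tmul_add]
    simp only [Fin.append_left, Fin.append_right]
    abel

theorem mem_range_of_dominated (A K A' K' : Type u) [CommRing A] [IsDomain A] [ValuationRing A] [Field K]
    [Algebra A K] [IsFractionRing A K] [CommRing A'] [Field K'] [Algebra A' K'] [IsFractionRing A' K']
    [Algebra A A'] [IsLocalHom (algebraMap A A')]
    [Algebra K K'] [Algebra A K'] [IsScalarTower A A' K'] [IsScalarTower A K K']
    (b : K) (t : A') (h : algebraMap K K' b = algebraMap A' K' t) : b ∈ Set.range (algebraMap A K) := by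
  rcases ValuationRing.isInteger_or_isInteger A b with ⟨a, ha⟩ | ⟨a, ha⟩
  · exact ⟨a, ha⟩
  by_cases hb : b = 0
  · exact ⟨0, by rw [hb, map_zero]⟩
  have h1 : algebraMap A A' a * t = 1 := IsFractionRing.injective A' K' (by
    rw [map_mul, map_one, ← h, ← IsScalarTower.algebraMap_apply, IsScalarTower.algebraMap_apply A K K', ha,
      ← map_mul, inv_mul_cancel₀ hb, map_one])
  obtain ⟨v, hv⟩ := (isUnit_of_map_unit (algebraMap A A') a (IsUnit.of_mul_eq_one _ h1)).exists_right_inv
  refine ⟨v, ?_⟩
  have h2 := congrArg (algebraMap A K) hv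
  rw [map_mul, map_one, ha] at h2
  exact mul_left_cancel₀ (inv_ne_zero hb) (by rw [h2, inv_mul_cancel₀ hb])


/-- Surjectivity assertion: let A ⊆ A' be valuation rings with fraction fields K ⊆ K', A' dominating A
and A dense in A' for the valuation topology, and L a finite extension of K; put L' = K' ⊗_K L. Then
every element of L' modulo its nilradical which is integral over A' is a finite sum Σ a'ᵢ·lᵢ with
a'ᵢ ∈ A' and lᵢ ∈ L integral over A. (The published statement also identifies the kernel of the map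
from the tensor product with the nilradical; that part is not stated here.) -/
theorem result
    (A K L A' K' : Type u) [CommRing A] [IsDomain A] [ValuationRing A] [Field K] [Algebra A K] [IsFractionRing A K]
    [Field L] [Algebra K L] [FiniteDimensional K L] [Algebra A L] [IsScalarTower A K L]
    [CommRing A'] [IsDomain A'] [ValuationRing A'] [Field K'] [Algebra A' K'] [IsFractionRing A' K']
    [Algebra A A'] [IsLocalHom (algebraMap A A')] (hinj : Function.Injective (algebraMap A A'))
    [Algebra K K'] [Algebra A K'] [IsScalarTower A A' K'] [IsScalarTower A K K']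
    (hdense : ∀ a' b' : A', b' ≠ 0 → ∃ a : A, b' ∣ a' - algebraMap A A' a)
    (x : (K' ⊗[K] L) ⧸ nilradical (K' ⊗[K] L))
    (hx : ((Ideal.Quotient.mk (nilradical (K' ⊗[K] L))).comp
            ((Algebra.TensorProduct.includeLeft : K' →ₐ[K] K' ⊗[K] L).toRingHom.comp (algebraMap A' K'))).IsIntegralElem x) :
    ∃ (n : ℕ) (a : Fin n → A') (l : Fin n → L), (∀ i, IsIntegral A (l i)) ∧
      x = Ideal.Quotient.mk (nilradical (K' ⊗[K] L)) (∑ i, algebraMap A' K' (a i) ⊗ₜ[K] l i) := by
  classical
  obtain ⟨z, rfl⟩ := Ideal.Quotient.mk_surjective x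
  obtain ⟨y, n, c, l, hl, rfl⟩ := decomp A K L A' K' hdense z
  let j : A' →+* K' ⊗[K] L :=
    (Algebra.TensorProduct.includeLeft : K' →ₐ[K] K' ⊗[K] L).toRingHom.comp (algebraMap A' K')
  let π := Ideal.Quotient.mk (nilradical (K' ⊗[K] L))
  let f : A' →+* _ := π.comp j
  have hterm : ∀ i, f.IsIntegralElem (π (algebraMap A' K' (c i) ⊗ₜ[K] l i)) := by
    intro i
    have e : algebraMap A' K' (c i) ⊗ₜ[K] l i = j (c i) * ((1 : K') ⊗ₜ[K] l i) := by
      simp [j]
    rw [e, map_mul]
    refine RingHom.IsIntegralElem.mul f (RingHom.isIntegralElem_map f) ?_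
    obtain ⟨P, hP, hP0⟩ := hl i
    refine ⟨P.map (algebraMap A A'), hP.map _, ?_⟩
    let g : L →+* K' ⊗[K] L := (Algebra.TensorProduct.includeRight : L →ₐ[K] K' ⊗[K] L).toRingHom
    rw [show π ((1 : K') ⊗ₜ[K] l i) = (π.comp g) (l i) from rfl, Polynomial.eval₂_map,
      show f.comp (algebraMap A A') = (π.comp g).comp (algebraMap A L) from ?_, ← Polynomial.hom_eval₂, hP0, map_zero]
    ext a
    show π ((algebraMap A' K' (algebraMap A A' a)) ⊗ₜ[K] (1 : L)) = π ((1 : K') ⊗ₜ[K] algebraMap A L a)
    rw [← IsScalarTower.algebraMap_apply, IsScalarTower.algebraMap_apply A K K',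
      IsScalarTower.algebraMap_apply A K L, Algebra.algebraMap_eq_smul_one, TensorProduct.smul_tmul,
      ← Algebra.algebraMap_eq_smul_one]
  have hsum : f.IsIntegralElem (π (∑ i, algebraMap A' K' (c i) ⊗ₜ[K] l i)) := by
    rw [map_sum]
    refine Finset.sum_induction _ f.IsIntegralElem (fun a b => RingHom.IsIntegralElem.add f) ?_ fun i _ => hterm i
    simpa using RingHom.isIntegralElem_map f (x := 0)
  have hy0 : f.IsIntegralElem (π ((1 : K') ⊗ₜ[K] y)) := by
    have := RingHom.IsIntegralElem.sub f hx hsum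
    rwa [map_add, add_sub_cancel_right] at this
  have hy : IsIntegral A y := by
    obtain ⟨P, hP, hP0⟩ := hy0
    rw [← Polynomial.hom_eval₂] at hP0
    obtain ⟨m, hm⟩ := mem_nilradical.1 (Ideal.Quotient.eq_zero_iff_mem.1 hP0)
    let Q : K'[X] := (P ^ m).map (algebraMap A' K')
    have hQ : aeval ((1 : K') ⊗ₜ[K] y) Q = 0 := by
      rw [aeval_def, eval₂_map, eval₂_pow]
      exact hm
    have hK : IsIntegral K y := Algebra.IsIntegral.isIntegral y
    let μ := (minpoly K y).map (algebraMap K K')
    have hμ : μ.Monic := (minpoly.monic hK).map _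
    have hdeg : μ.natDegree = (minpoly K y).natDegree := (minpoly.monic hK).natDegree_map _
    have hμ0 : aeval ((1 : K') ⊗ₜ[K] y) μ = 0 := by
      rw [aeval_map_algebraMap, show (1 : K') ⊗ₜ[K] y = (Algebra.TensorProduct.includeRight : L →ₐ[K] K' ⊗[K] L) y from rfl,
        aeval_algHom_apply, minpoly.aeval, map_zero]
    have hr : aeval ((1 : K') ⊗ₜ[K] y) (Q %ₘ μ) = 0 := by
      rw [Polynomial.aeval_modByMonic_eq_self_of_root hμ0, hQ]
    have hlt : (Q %ₘ μ).natDegree < (minpoly K y).natDegree := by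
      rw [← hdeg]
      refine Polynomial.natDegree_modByMonic_lt Q hμ fun h => ?_
      have := hdeg ▸ minpoly.natDegree_pos hK
      rw [h, natDegree_one] at this
      exact lt_irrefl 0 this
    rw [Polynomial.aeval_eq_sum_range' hlt, Finset.sum_range] at hr
    have hli := Fintype.linearIndependent_iff.1
      (Module.Flat.linearIndependent_one_tmul (S := K') (linearIndependent_pow (K := K) y))
      (fun i => (Q %ₘ μ).coeff i) (by
        simpa only [Algebra.TensorProduct.tmul_pow, one_pow] using hr)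
    have hdvd : μ ∣ Q := (Polynomial.modByMonic_eq_zero_iff_dvd hμ).1 (Polynomial.ext fun i => by
      rw [coeff_zero]
      rcases lt_or_ge i (minpoly K y).natDegree with h | h
      · exact hli ⟨i, h⟩
      · exact coeff_eq_zero_of_natDegree_lt (hlt.trans_le h))
    obtain ⟨G, hG⟩ := IsIntegrallyClosed.eq_map_mul_C_of_dvd K' (hP.pow m) hdvd
    rw [hμ.leadingCoeff, C_1, mul_one] at hG
    have hlifts : minpoly K y ∈ lifts (algebraMap A K) := (lifts_iff_coeff_lifts _).2 fun i =>
      mem_range_of_dominated A K A' K' _ (G.coeff i) (by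
        rw [← coeff_map (algebraMap A' K'), hG, coeff_map])
    obtain ⟨p, hp, -, hpm⟩ := lifts_and_natDegree_eq_and_monic hlifts (minpoly.monic hK)
    refine ⟨p, hpm, ?_⟩
    rw [← aeval_def, ← aeval_map_algebraMap K, hp, minpoly.aeval]
  refine ⟨1 + n, Fin.append (fun _ : Fin 1 => (1 : A')) c, Fin.append (fun _ : Fin 1 => y) l,
    Fin.addCases (fun i => by simpa using hy) (fun i => by simpa using hl i), ?_⟩
  rw [Fin.sum_univ_add]
  simp


end Groth.Agent.S16046
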