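import Groth.Statements.S16050
import Mathlib.RingTheory.MvPowerSeries.Derivative
import Mathlib.RingTheory.MvPowerSeries.Expand
import Mathlib.Algebra.Homology.DerivedCategory.Ext.EnoughProjectives
import Mathlib.RingTheory.Kaehler.Basic
import Mathlib.FieldTheory.Perfect
import Mathlib.Algebra.Homology.ShortComplex.ModuleCat
import Mathlib.Algebra.Category.ModuleCat.Projective
import Mathlib.Tactic

set_option autoImplicit false
universe u
open CategoryTheory
open LCI

namespace Groth.Agent.S16050
section derivations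

variable {k : Type u} [Field k] [IsAlgClosed k] (p : ℕ) [Fact p.Prime] [CharP k p]
variable {σ : Type} [Fintype σ] [DecidableEq σ]

include p in
/-- A derivation of the power series ring is determined by its values on the variables. -/
theorem derivation_eq_zero {M : Type u} [AddCommGroup M] [Module k M] [Module (MvPowerSeries σ k) M]
    (E : Derivation k (MvPowerSeries σ k) M) (hX : ∀ i, E (MvPowerSeries.X i) = 0)
    (g : MvPowerSeries σ k) : E g = 0 := by
  classical
  have hp : p ≠ 0 := (Fact.out : p.Prime).ne_zero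
  haveI : ExpChar k p := ExpChar.prime Fact.out
  let ex : (σ → Fin p) → σ →₀ ℕ := fun e => Finsupp.equivFunOnFinite.symm fun i => (e i : ℕ)
  let h : (σ → Fin p) → MvPowerSeries σ k := fun e => fun d =>
    (frobeniusEquiv k p).symm (MvPowerSeries.coeff (p • d + ex e) g)
  have hex : ∀ e i, ex e i = (e i : ℕ) := fun e i => rfl
  have hdec : g = ∑ e, (h e) ^ p * MvPowerSeries.monomial (ex e) (1 : k) := by
    ext m
    rw [map_sum]
    let e₀ : σ → Fin p := fun i => ⟨m i % p, Nat.mod_lt _ (Nat.pos_of_ne_zero hp)⟩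
    let d₀ : σ →₀ ℕ := Finsupp.equivFunOnFinite.symm fun i => m i / p
    have hm : p • d₀ + ex e₀ = m := Finsupp.ext fun i => by
      simp only [Finsupp.add_apply, Finsupp.smul_apply, smul_eq_mul, hex]
      show p * (m i / p) + m i % p = m i
      exact Nat.div_add_mod (m i) p
    rw [Finset.sum_eq_single e₀]
    · rw [MvPowerSeries.coeff_mul_monomial, if_pos (hm ▸ le_add_self),
        show m - ex e₀ = p • d₀ by conv_lhs => rw [← hm, add_tsub_cancel_right],
        ← MvPowerSeries.map_frobenius_expand p hp, MvPowerSeries.coeff_map,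
        MvPowerSeries.coeff_expand_smul, mul_one]
      show _ = frobenius k p ((frobeniusEquiv k p).symm (MvPowerSeries.coeff (p • d₀ + ex e₀) g))
      rw [frobenius_apply_frobeniusEquiv_symm, hm]
    · intro e _ he
      rw [MvPowerSeries.coeff_mul_monomial]
      split_ifs with hle
      · rw [← MvPowerSeries.map_frobenius_expand p hp, MvPowerSeries.coeff_map, mul_one]
        obtain ⟨i, hi⟩ := Function.ne_iff.1 he
        rw [MvPowerSeries.coeff_expand_of_not_dvd p hp (h e) (i := i) ?_, map_zero]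
        intro hd
        refine hi (Fin.ext ?_)
        show (e i : ℕ) = m i % p
        have hle' : (e i : ℕ) ≤ m i := hle i
        obtain ⟨c, hc⟩ := hd
        rw [Finsupp.tsub_apply, hex] at hc
        rw [show m i = (e i : ℕ) + p * c by omega, Nat.add_mul_mod_self_left, Nat.mod_eq_of_lt (e i).2]
      · rfl
    · exact fun hn => absurd (Finset.mem_univ _) hn
  have hpoly : ∀ q : MvPolynomial σ k, E (q : MvPowerSeries σ k) = 0 := by
    intro q
    induction q using MvPolynomial.induction_on with
    | C a => rw [MvPolynomial.coe_C]; exact E.map_algebraMap a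
    | add a b ha hb => rw [MvPolynomial.coe_add, map_add, ha, hb, add_zero]
    | mul_X a i ha => rw [MvPolynomial.coe_mul, MvPolynomial.coe_X, E.leibniz, ha, hX, smul_zero, smul_zero, add_zero]
  rw [hdec, map_sum]
  refine Finset.sum_eq_zero fun e _ => ?_
  rw [E.leibniz, E.leibniz_pow, ← MvPolynomial.coe_monomial, hpoly, smul_zero, zero_add,
    ← Nat.cast_smul_eq_nsmul (MvPowerSeries σ k), ← map_natCast (MvPowerSeries.C (σ := σ) (R := k)),
    CharP.cast_eq_zero, map_zero, zero_smul, smul_zero]

include p in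
/-- The expansion of a derivation in the partial derivatives. -/
theorem derivation_apply {M : Type u} [AddCommGroup M] [Module k M] [Module (MvPowerSeries σ k) M]
    [IsScalarTower k (MvPowerSeries σ k) M]
    (D : Derivation k (MvPowerSeries σ k) M) (g : MvPowerSeries σ k) :
    D g = ∑ i, MvPowerSeries.pderiv k i g • D (MvPowerSeries.X i) := by
  let D' : Derivation k (MvPowerSeries σ k) M :=
    ∑ i, ((LinearMap.toSpanSingleton (MvPowerSeries σ k) M (D (MvPowerSeries.X i))).compDer
      (MvPowerSeries.pderiv k i))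
  have hD' : ∀ g, D' g = ∑ i, MvPowerSeries.pderiv k i g • D (MvPowerSeries.X i) := fun g => by
    show Derivation.coeFnAddMonoidHom D' g = _
    simp only [D', map_sum, Finset.sum_apply]
    rfl
  have h := derivation_eq_zero p (D - D') (fun j => by
    rw [Derivation.sub_apply, hD', Finset.sum_eq_single j]
    · rw [MvPowerSeries.pderiv_X_self, one_smul, sub_self]
    · intro i _ hi
      rw [MvPowerSeries.pderiv_X_of_ne hi.symm, zero_smul]
    · exact fun hn => absurd (Finset.mem_univ j) hn) g
  rw [Derivation.sub_apply, sub_eq_zero] at h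
  rw [h, hD']

end derivations

section quotient

variable {k : Type u} [Field k] [IsAlgClosed k] (p : ℕ) [Fact p.Prime] [CharP k p]
variable (f : MvPowerSeries (Fin 3) k)

local notation "PS" => MvPowerSeries (Fin 3) k
set_option quotPrecheck false in
local notation "R₀" => MvPowerSeries (Fin 3) k ⧸ Ideal.span {f}

/-- The gradient in the quotient. -/
noncomputable def grad : Fin 3 → R₀ := fun i => Ideal.Quotient.mk _ (MvPowerSeries.pderiv k i f)

/-- `R₀³ → Ω`. -/
noncomputable def toOmega : (Fin 3 → R₀) →ₗ[R₀] KaehlerDifferential k R₀ :=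
  Fintype.linearCombination R₀ fun i => KaehlerDifferential.D k R₀ (Ideal.Quotient.mk _ (MvPowerSeries.X i))

include p in
theorem D_mk (g : PS) : KaehlerDifferential.D k R₀ (Ideal.Quotient.mk _ g) =
    toOmega f fun i => Ideal.Quotient.mk _ (MvPowerSeries.pderiv k i g) := by
  rw [show toOmega f (fun i => Ideal.Quotient.mk _ (MvPowerSeries.pderiv k i g)) =
    ∑ i, (Ideal.Quotient.mk (Ideal.span {f}) (MvPowerSeries.pderiv k i g)) •
      KaehlerDifferential.D k R₀ (Ideal.Quotient.mk _ (MvPowerSeries.X i)) from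
      Fintype.linearCombination_apply _ _ _]
  exact derivation_apply p ((KaehlerDifferential.D k R₀).compAlgebraMap PS) g

include p in
theorem toOmega_surjective : Function.Surjective (toOmega f) := by
  rw [← LinearMap.range_eq_top, ← top_le_iff, ← KaehlerDifferential.span_range_derivation,
    Submodule.span_le]
  rintro _ ⟨x, rfl⟩
  obtain ⟨g, rfl⟩ := Ideal.Quotient.mk_surjective x
  exact ⟨_, (D_mk p f g).symm⟩

theorem ker_toOmega (hgf : ∀ i, Ideal.Quotient.mk (Ideal.span {f}) (MvPowerSeries.pderiv k i f) = grad f i)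
    (c : Fin 3 → R₀) (hc : toOmega f c = 0) : ∃ r : R₀, r • grad f = c := by
  classical
  let Q := (Fin 3 → R₀) ⧸ Submodule.span R₀ {grad f}
  let d₀ : PS →ₗ[k] Q := ((Submodule.span R₀ {grad f}).mkQ.restrictScalars k).comp
    (LinearMap.pi fun i => (Ideal.Quotient.mkₐ k (Ideal.span {f})).toLinearMap.comp
      (MvPowerSeries.pderiv k i).toLinearMap)
  have hd₀ : ∀ g, d₀ g = Submodule.Quotient.mk fun i =>
      Ideal.Quotient.mk _ (MvPowerSeries.pderiv k i g) := fun g => rfl
  have hle : (Ideal.span {f}).restrictScalars k ≤ LinearMap.ker d₀ := by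
    intro g hg
    obtain ⟨a, rfl⟩ := Ideal.mem_span_singleton'.1 hg
    rw [LinearMap.mem_ker, hd₀, Submodule.Quotient.mk_eq_zero, Submodule.mem_span_singleton]
    refine ⟨Ideal.Quotient.mk _ a, funext fun i => ?_⟩
    show Ideal.Quotient.mk _ a * grad f i = _
    rw [← hgf, Derivation.leibniz, smul_eq_mul, smul_eq_mul, map_add, map_mul, map_mul,
      Ideal.Quotient.eq_zero_iff_mem.2 (Ideal.mem_span_singleton_self f), zero_mul, add_zero]
  let d : R₀ →ₗ[k] Q := (Submodule.liftQ _ d₀ hle).comp (Submodule.Quotient.restrictScalarsEquiv k (Ideal.span {f})).symm.toLinearMap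
  have hd : ∀ g, d (Ideal.Quotient.mk _ g) = d₀ g := fun g => rfl
  have hleib : ∀ a b : R₀, d (a * b) = a • d b + b • d a := by
    intro a b
    obtain ⟨a, rfl⟩ := Ideal.Quotient.mk_surjective a
    obtain ⟨b, rfl⟩ := Ideal.Quotient.mk_surjective b
    rw [← map_mul, hd, hd, hd, hd₀, hd₀, hd₀, ← Submodule.Quotient.mk_smul, ← Submodule.Quotient.mk_smul,
      ← Submodule.Quotient.mk_add]
    congr 1
    funext i
    simp only [Derivation.leibniz, Pi.add_apply, Pi.smul_apply, smul_eq_mul, map_add, map_mul]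
  let Dr : Derivation k R₀ Q := Derivation.mk' d hleib
  have hcomp : ∀ c, Dr.liftKaehlerDifferential (toOmega f c) = Submodule.Quotient.mk c := by
    intro c
    rw [show toOmega f c = ∑ i, c i • KaehlerDifferential.D k R₀ (Ideal.Quotient.mk _ (MvPowerSeries.X i))
      from Fintype.linearCombination_apply _ _ _, map_sum]
    simp only [map_smul, Derivation.liftKaehlerDifferential_comp_D]
    have hX : ∀ i, Dr (Ideal.Quotient.mk _ (MvPowerSeries.X i)) =
        Submodule.Quotient.mk (Pi.single i (1 : R₀)) := by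
      intro i
      show d _ = _
      rw [hd, hd₀]
      congr 1
      funext j
      rcases eq_or_ne j i with rfl | hj
      · rw [MvPowerSeries.pderiv_X_self, map_one, Pi.single_eq_same]
      · rw [MvPowerSeries.pderiv_X_of_ne hj.symm, map_zero, Pi.single_eq_of_ne hj]
    simp only [hX, ← Submodule.Quotient.mk_smul]
    conv_rhs => rw [← Submodule.mkQ_apply, pi_eq_sum_univ' c, map_sum]
    rfl
  have h0 := hcomp c
  rw [hc, map_zero, eq_comm, Submodule.Quotient.mk_eq_zero, Submodule.mem_span_singleton] at h0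
  exact h0

/-- The gradient is torsion-free in `R₀` at an isolated singularity. -/
theorem eq_zero_of_smul_grad (hiso : ∃ N : ℕ, IsLocalRing.maximalIdeal PS ^ N ≤
    Ideal.span {f} ⊔ Ideal.span (Set.range fun i => MvPowerSeries.pderiv k i f))
    (r : R₀) (hr : r • grad f = 0) : r = 0 := by
  classical
  obtain ⟨N, hN⟩ := hiso
  obtain ⟨a, rfl⟩ := Ideal.Quotient.mk_surjective r
  have ha : ∀ i, f ∣ a * MvPowerSeries.pderiv k i f := fun i => by
    have h := congrFun hr i
    rw [← Ideal.mem_span_singleton, ← Ideal.Quotient.eq_zero_iff_mem, map_mul]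
    exact h
  have hmax : ∀ i : Fin 3, MvPowerSeries.X (R := k) i ∈ IsLocalRing.maximalIdeal PS := fun i => by
    rw [IsLocalRing.mem_maximalIdeal]
    intro hu
    have := MvPowerSeries.isUnit_constantCoeff _ hu
    simp at this
  have hmem : ∀ i : Fin 3, f ∣ a * MvPowerSeries.X i ^ N := fun i => by
    have h := hN (Ideal.pow_mem_pow (hmax i) N)
    obtain ⟨y, hy, z, hz, e⟩ := Submodule.mem_sup.1 h
    have h2 : f ∣ a * z := by
      clear e
      induction hz using Submodule.span_induction with
      | mem z hz => obtain ⟨j, rfl⟩ := hz; exact ha j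
      | zero => simp
      | add u v _ _ hu hv => rw [mul_add]; exact dvd_add hu hv
      | smul c u _ hu => rw [smul_eq_mul, mul_left_comm]; exact hu.mul_left c
    rw [← e, mul_add]
    exact dvd_add ((Ideal.mem_span_singleton.1 hy).mul_left a) h2
  have hf0 : f ≠ 0 := by
    rintro rfl
    have h := hN (Ideal.pow_mem_pow (hmax 0) N)
    have h0 : (Set.range fun i => MvPowerSeries.pderiv k i (0 : PS)) ⊆ {0} := by
      rintro _ ⟨i, rfl⟩; simp
    have h1 : Ideal.span (Set.range fun i => MvPowerSeries.pderiv k i (0 : PS)) = ⊥ :=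
      le_antisymm ((Ideal.span_mono h0).trans (by simp)) bot_le
    rw [h1, sup_bot_eq, Ideal.mem_span_singleton, zero_dvd_iff] at h
    have := congrArg (MvPowerSeries.coeff (Finsupp.single 0 N)) h
    rw [MvPowerSeries.coeff_X_pow, if_pos rfl, map_zero] at this
    exact one_ne_zero this
  obtain ⟨c, hc⟩ := hmem 0
  obtain ⟨d, hd⟩ := hmem 1
  have hcd : c * MvPowerSeries.X 1 ^ N = d * MvPowerSeries.X 0 ^ N :=
    mul_left_cancel₀ hf0 (by
      rw [← mul_assoc, ← mul_assoc, ← hc, ← hd]; ring)
  have hdvd : (MvPowerSeries.X 0 : PS) ^ N ∣ c := by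
    rw [MvPowerSeries.X_pow_dvd_iff]
    intro m hm
    have h := congrArg (MvPowerSeries.coeff (m + Finsupp.single 1 N)) hcd
    rw [MvPowerSeries.X_pow_eq, MvPowerSeries.coeff_add_mul_monomial, mul_one,
      (MvPowerSeries.X_pow_dvd_iff.1 (Dvd.intro_left d rfl)) (m + Finsupp.single 1 N)
        (by simpa using hm)] at h
    exact h
  obtain ⟨c', rfl⟩ := hdvd
  rw [Ideal.Quotient.eq_zero_iff_mem, Ideal.mem_span_singleton]
  refine ⟨c', mul_right_cancel₀ (pow_ne_zero N (show (MvPowerSeries.X 0 : PS) ≠ 0 from ?_)) ?_⟩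
  · intro h0
    have := congrArg (MvPowerSeries.coeff (Finsupp.single 0 1)) h0
    rw [MvPowerSeries.coeff_X, if_pos rfl, map_zero] at this
    exact one_ne_zero this
  · rw [hc]; ring

end quotient

open CategoryTheory Abelian in
/-- `Ext` of the cokernel of a vector. -/
theorem ext_coker_vector {R : Type u} [CommRing R] {n : ℕ} (v : Fin n → R)
    (M : Type u) [AddCommGroup M] [Module R M] (π : (Fin n → R) →ₗ[R] M) (hπ : Function.Surjective π)
    (hker : ∀ c, π c = 0 ↔ ∃ r : R, r • v = c) (hinj : ∀ r : R, r • v = 0 → r = 0) :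
    Subsingleton (Ext (ModuleCat.of R M) (ModuleCat.of R R) 2) ∧
      Nonempty (Ext (ModuleCat.of R M) (ModuleCat.of R R) 1 ≃ₗ[R] R ⧸ Ideal.span (Set.range v)) := by
  classical
  let ι : R →ₗ[R] (Fin n → R) := LinearMap.toSpanSingleton R _ v
  let S : ShortComplex (ModuleCat.{u} R) := ShortComplex.mk (ModuleCat.ofHom ι) (ModuleCat.ofHom π) (by
    ext
    show π ((1 : R) • v) = 0
    exact (hker _).2 ⟨1, rfl⟩)
  have hS : S.ShortExact :=
    { exact := (ShortComplex.moduleCat_exact_iff _).2 fun c hc => by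
        obtain ⟨r, hr⟩ := (hker c).1 hc
        exact ⟨r, hr⟩
      mono_f := (ModuleCat.mono_iff_injective _).2 ((injective_iff_map_eq_zero ι).2 hinj)
      epi_g := (ModuleCat.epi_iff_surjective _).2 hπ }
  haveI h1 : Projective S.X₁ := (IsProjective.iff_projective R).1 inferInstance
  haveI h2 : Projective S.X₂ := (IsProjective.iff_projective (Fin n → R)).1 inferInstance
  let Y := ModuleCat.of R R
  refine ⟨⟨fun a b => ?_⟩, ?_⟩
  · have hz : ∀ x : Ext S.X₃ Y 2, x = 0 := fun x => by
      obtain ⟨x₁, hx₁⟩ := Ext.contravariant_sequence_exact₃ hS Y x (Ext.eq_zero_of_projective _)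
        (show 1 + 1 = 2 by rfl)
      rw [← hx₁, Ext.eq_zero_of_projective x₁, Ext.comp_zero]
    exact (hz a).trans (hz b).symm
  let Φ : R →ₗ[R] Ext S.X₃ Y 1 := LinearMap.toSpanSingleton R _ hS.extClass
  have hΦ : ∀ φ : S.X₁ ⟶ Y, hS.extClass.comp (Ext.mk₀ φ) (add_zero 1) = Φ (φ.hom (1 : R)) := by
    intro φ
    have hφ : φ = (φ.hom (1 : R)) • 𝟙 S.X₁ := by
      ext
      show φ.hom (1 : R) = φ.hom (1 : R) * 1
      rw [mul_one]
    conv_lhs => rw [hφ, Ext.mk₀_smul, Ext.comp_smul, Ext.comp_mk₀_id]
    rfl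
  have hsurj : Function.Surjective Φ := by
    intro z
    obtain ⟨x₁, hx₁⟩ := Ext.contravariant_sequence_exact₃ hS Y z (Ext.eq_zero_of_projective _)
      (show 1 + 0 = 1 by rfl)
    obtain ⟨φ, rfl⟩ := Ext.addEquiv₀.symm.surjective x₁
    exact ⟨_, (hΦ φ).symm.trans hx₁⟩
  have hkerΦ : LinearMap.ker Φ = Ideal.span (Set.range v) := by
    have hmk : ∀ r : R, Φ r = hS.extClass.comp (Ext.mk₀ ((r • 𝟙 S.X₁ : S.X₁ ⟶ Y))) (add_zero 1) :=
      fun r => by
        rw [hΦ]
        congr 1
        show r = r * 1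
        rw [mul_one]
    refine le_antisymm (fun r hr => ?_) (Ideal.span_le.2 ?_)
    · rw [LinearMap.mem_ker, hmk] at hr
      obtain ⟨x₂, hx₂⟩ := Ext.contravariant_sequence_exact₁ hS Y _ (show 1 + 0 = 1 by rfl) hr
      obtain ⟨ψ, rfl⟩ := Ext.addEquiv₀.symm.surjective x₂
      have he : S.f ≫ ψ = (r • 𝟙 S.X₁ : S.X₁ ⟶ Y) :=
        (Ext.mk₀_bijective _ _).1 ((Ext.mk₀_comp_mk₀ _ _).symm.trans hx₂)
      have h3 : ψ.hom ((1 : R) • v) = r * 1 := congrArg (fun χ : S.X₁ ⟶ Y => χ.hom (1 : R)) he
      rw [one_smul, mul_one, pi_eq_sum_univ' v, map_sum] at h3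
      rw [← h3]
      refine sum_mem fun i _ => ?_
      rw [map_smul, smul_eq_mul]
      exact Ideal.mul_mem_right _ _ (Ideal.subset_span ⟨i, rfl⟩)
    · rintro _ ⟨i, rfl⟩
      show Φ (v i) = 0
      have he : S.f ≫ (ModuleCat.ofHom (LinearMap.proj i) : S.X₂ ⟶ Y) = (v i • 𝟙 S.X₁ : S.X₁ ⟶ Y) := by
        ext
        show ((1 : R) • v) i = v i * 1
        rw [one_smul, mul_one]
      rw [hmk, ← he, ← Ext.mk₀_comp_mk₀, hS.extClass_comp_assoc]
  exact ⟨((Submodule.quotEquivOfEq _ _ hkerΦ.symm).trans (LinearMap.quotKerEquivOfSurjective Φ hsurj)).symm⟩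


/-- Let k be an algebraically closed field of characteristic p > 0, P = k[[x, y, z]] the power series
ring in three variables, f a non-unit of P defining an isolated singularity — some power of the
maximal ideal of P is contained in (f) + J, where J is the ideal generated by the values D(f) of all
k-derivations D of P (the Jacobian ideal (f_x, f_y, f_z)) — and R₀ = P/(f). Then Ext²_{R₀}(Ω_{R₀/k},
R₀) = 0 and Ext¹_{R₀}(Ω_{R₀/k}, R₀) is isomorphic as an R₀-module to R₀/J R₀, the Tjurina algebra
(existence of an R₀-linear isomorphism only; the source obtains it from the boundary map of the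
dualized conormal sequence). The source states this for the normal form of a rational double point;
the hypotheses used are those given here. Here Ω is the module of Kähler differentials of the
k-algebra R₀. (The lemma also identifies first-order deformations of R₀ with this Ext¹ group; that
identification is quoted there from another work and is not part of this row.) -/
theorem result (k : Type u) [Field k] [IsAlgClosed k]
    (p : ℕ) [Fact p.Prime] [CharP k p]
    (f : MvPowerSeries (Fin 3) k) (hf : f ∈ IsLocalRing.maximalIdeal (MvPowerSeries (Fin 3) k))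
    (hiso : ∃ N : ℕ, IsLocalRing.maximalIdeal (MvPowerSeries (Fin 3) k) ^ N ≤
      Ideal.span {f} ⊔ Ideal.span {g | ∃ D : Derivation k (MvPowerSeries (Fin 3) k) (MvPowerSeries (Fin 3) k), g = D f}) :
    Subsingleton (Abelian.Ext
        (ModuleCat.of (MvPowerSeries (Fin 3) k ⧸ Ideal.span {f})
          (KaehlerDifferential k (MvPowerSeries (Fin 3) k ⧸ Ideal.span {f})))
        (ModuleCat.of (MvPowerSeries (Fin 3) k ⧸ Ideal.span {f}) (MvPowerSeries (Fin 3) k ⧸ Ideal.span {f})) 2) ∧
      Nonempty (Abelian.Ext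
        (ModuleCat.of (MvPowerSeries (Fin 3) k ⧸ Ideal.span {f})
          (KaehlerDifferential k (MvPowerSeries (Fin 3) k ⧸ Ideal.span {f})))
        (ModuleCat.of (MvPowerSeries (Fin 3) k ⧸ Ideal.span {f}) (MvPowerSeries (Fin 3) k ⧸ Ideal.span {f})) 1 ≃ₗ[MvPowerSeries (Fin 3) k ⧸ Ideal.span {f}]
        ((MvPowerSeries (Fin 3) k ⧸ Ideal.span {f}) ⧸ Ideal.map (Ideal.Quotient.mk (Ideal.span {f}))
          (Ideal.span {g | ∃ D : Derivation k (MvPowerSeries (Fin 3) k) (MvPowerSeries (Fin 3) k), g = D f}))) := by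
  classical
  set R₀ := MvPowerSeries (Fin 3) k ⧸ Ideal.span {f}
  have hJ : Ideal.span {g | ∃ D : Derivation k (MvPowerSeries (Fin 3) k) (MvPowerSeries (Fin 3) k), g = D f} =
      Ideal.span (Set.range fun i => MvPowerSeries.pderiv k i f) := by
    refine le_antisymm (Ideal.span_le.2 ?_) (Ideal.span_mono ?_)
    · rintro _ ⟨D, rfl⟩
      rw [SetLike.mem_coe, derivation_apply p D f]
      exact sum_mem fun i _ => Ideal.mul_mem_right _ _ (Ideal.subset_span ⟨i, rfl⟩)
    · rintro _ ⟨i, rfl⟩
      exact ⟨_, rfl⟩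
  rw [hJ] at hiso ⊢
  have hker : ∀ c, toOmega f c = 0 ↔ ∃ r : R₀, r • grad f = c := by
    refine fun c => ⟨ker_toOmega f (fun i => rfl) c, ?_⟩
    rintro ⟨r, rfl⟩
    rw [map_smul]
    have h := D_mk p f f
    rw [Ideal.Quotient.eq_zero_iff_mem.2 (Ideal.mem_span_singleton_self f), map_zero] at h
    rw [show toOmega f (grad f) = 0 from h.symm, smul_zero]
  obtain ⟨h2, ⟨e⟩⟩ := ext_coker_vector (grad f) (KaehlerDifferential k R₀) (toOmega f)
    (toOmega_surjective p f) hker (eq_zero_of_smul_grad f hiso)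
  refine ⟨h2, ⟨e.trans (Submodule.quotEquivOfEq _ _ ?_)⟩⟩
  rw [Ideal.map_span, ← Set.range_comp]
  rfl


end Groth.Agent.S16050
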