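import Groth.Statements.S16051
import Groth.Agent.H9Misc.SubregAd

set_option autoImplicit false
universe u
open LieAlg

namespace Groth.Agent.S16051

/-- Let O be a discrete valuation ring of characteristic zero with residue field of characteristic p,
let 1 ≤ n with n + 1 < p (type A_n with p above the Coxeter number), and let x ∈ sl_{n+1}(O) be the
standard subregular nilpotent element, the matrix with entries x_{i,i+1} = 1 for i + 1 < n and 0
elsewhere (one Jordan block of size n and one of size 1; in the source this is the sum of the root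
vectors of the first n − 1 simple roots, completed there to an sl₂-triple). Then the quotient of
sl_{n+1}(O) by the image of ad_x is a free O-module of rank n + 2. (The source works over a complete
such ring with algebraically closed residue field; completeness and algebraic closedness are not
used for this statement.) -/
theorem result (O : Type u) [CommRing O] [IsDomain O] [IsDiscreteValuationRing O]
    [CharZero O] (p : ℕ) [Fact p.Prime] [CharP (IsLocalRing.ResidueField O) p]
    (n : ℕ) (hn : 1 ≤ n) (hp : n + 1 < p)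
    (x : LieAlgebra.SpecialLinear.sl (Fin (n + 1)) O)
    (hx : ∀ i j : Fin (n + 1), (x : Matrix (Fin (n + 1)) (Fin (n + 1)) O) i j =
      if j.val = i.val + 1 ∧ j.val < n then 1 else 0) :
    Module.Free O (LieAlgebra.SpecialLinear.sl (Fin (n + 1)) O ⧸
        LinearMap.range (LieAlgebra.ad O (LieAlgebra.SpecialLinear.sl (Fin (n + 1)) O) x)) ∧
      Module.finrank O (LieAlgebra.SpecialLinear.sl (Fin (n + 1)) O ⧸
        LinearMap.range (LieAlgebra.ad O (LieAlgebra.SpecialLinear.sl (Fin (n + 1)) O) x)) = n + 2 := by
  classical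
  letI : LieRing (Matrix (Fin (n + 1)) (Fin (n + 1)) O) := LieRing.ofAssociativeRing
  let X : Matrix (Fin (n + 1)) (Fin (n + 1)) O := (x : Matrix (Fin (n + 1)) (Fin (n + 1)) O)
  let S := LieAlgebra.SpecialLinear.sl (Fin (n + 1)) O
  let f : S →ₗ[O] (Fin n → O) × O × O := H9Misc.SubregAd.phi.comp S.toSubmodule.subtype
  have hker : LinearMap.range (LieAlgebra.ad O (LieAlgebra.SpecialLinear.sl (Fin (n + 1)) O) x) =
      LinearMap.ker f := by
    refine le_antisymm ?_ fun M hM => ?_
    · rintro _ ⟨Y, rfl⟩
      exact H9Misc.SubregAd.phi_comm X hx hn Y.1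
    · have htr : (M : Matrix (Fin (n + 1)) (Fin (n + 1)) O).trace = 0 := M.2
      have h0 := congrFun (congrArg Prod.fst (show H9Misc.SubregAd.phi M.1 = 0 from hM)) ⟨0, hn⟩
      have hnn : H9Misc.SubregAd.e M.1 n n = 0 := by
        rw [H9Misc.SubregAd.trace_eq] at htr
        have h0' : ∑ i ∈ Finset.range n, H9Misc.SubregAd.e M.1 i i = 0 := by simpa [H9Misc.SubregAd.phi] using h0
        rwa [h0', zero_add] at htr
      have hu : IsUnit ((n + 1 : ℕ) : O) := by
        by_contra hnu
        have : IsLocalRing.residue O ((n + 1 : ℕ) : O) = 0 := (IsLocalRing.residue_eq_zero_iff _).2 hnu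
        rw [map_natCast, CharP.cast_eq_zero_iff (IsLocalRing.ResidueField O) p] at this
        exact absurd (Nat.le_of_dvd (by omega) this) (by omega)
      obtain ⟨r, hr⟩ := hu.exists_left_inv
      let W := H9Misc.SubregAd.prim M.1
      let Y : Matrix (Fin (n + 1)) (Fin (n + 1)) O := W - (r * W.trace) • (1 : Matrix _ _ O)
      have hY : Y.trace = 0 := by
        simp only [Y, Matrix.trace_sub, Matrix.trace_smul, Matrix.trace_one, Fintype.card_fin, smul_eq_mul]
        rw [mul_assoc, mul_comm W.trace, ← mul_assoc, hr, one_mul, sub_self]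
      refine ⟨⟨Y, hY⟩, Subtype.ext ?_⟩
      show X * Y - Y * X = M.1
      simp only [Y, mul_sub, sub_mul, Matrix.mul_smul, Matrix.smul_mul, mul_one, one_mul]
      rw [sub_sub_sub_cancel_right]
      exact H9Misc.SubregAd.comm_prim X hx hn M.1 hM hnn
  have hsurj : Function.Surjective f := fun y => by
    let M : Matrix (Fin (n + 1)) (Fin (n + 1)) O := Matrix.of fun i j =>
      (if h : i.val < n ∧ j.val = 0 then y.1 ⟨i.val, h.1⟩ else 0) +
        (if i.val = n ∧ j.val = 0 then y.2.1 else 0) + (if i.val = n - 1 ∧ j.val = n then y.2.2 else 0) -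
        (if i.val = n ∧ j.val = n then y.1 ⟨0, hn⟩ else 0)
    have he : ∀ a b, a < n + 1 → b < n + 1 → H9Misc.SubregAd.e M a b =
      (if h : a < n ∧ b = 0 then y.1 ⟨a, h.1⟩ else 0) + (if a = n ∧ b = 0 then y.2.1 else 0) +
        (if a = n - 1 ∧ b = n then y.2.2 else 0) - (if a = n ∧ b = n then y.1 ⟨0, hn⟩ else 0) :=
      fun a b ha hb => dif_pos ⟨ha, hb⟩
    have hk : ∀ k : Fin n, ∑ i ∈ Finset.range (n - k.val), H9Misc.SubregAd.e M (i + k.val) i = y.1 k := fun k => by
      rw [Finset.sum_eq_single 0]
      · rw [he _ _ (by omega) (by omega), dif_pos ⟨by omega, rfl⟩, if_neg (by omega), if_neg (by omega),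
          if_neg (by omega), add_zero, add_zero, sub_zero]
        exact congrArg y.1 (Fin.ext (Nat.zero_add _))
      · intro i hi hi0
        have := Finset.mem_range.1 hi
        rw [he _ _ (by omega) (by omega), dif_neg (by omega), if_neg (by omega), if_neg (by omega),
          if_neg (by omega), add_zero, add_zero, sub_zero]
      · intro h; exact absurd (Finset.mem_range.2 (by omega)) h
    have hM : M.trace = 0 := by
      have h0 := hk ⟨0, hn⟩
      simp only [Nat.sub_zero, Nat.add_zero] at h0
      rw [H9Misc.SubregAd.trace_eq, h0, he _ _ (by omega) (by omega), dif_neg (by omega), if_neg (by omega),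
        if_neg (by omega), if_pos ⟨rfl, rfl⟩]
      ring
    refine ⟨⟨M, hM⟩, Prod.ext (funext hk) (Prod.ext ?_ ?_)⟩
    · show H9Misc.SubregAd.e M n 0 = y.2.1
      rw [he _ _ (by omega) (by omega), dif_neg (by omega), if_pos ⟨rfl, rfl⟩, if_neg (by omega),
        if_neg (by omega)]
      ring
    · show H9Misc.SubregAd.e M (n - 1) n = y.2.2
      rw [he _ _ (by omega) (by omega), dif_neg (by omega), if_neg (by omega), if_pos ⟨rfl, rfl⟩,
        if_neg (by omega)]
      ring
  let Q := (Submodule.quotEquivOfEq _ _ hker).trans (f.quotKerEquivOfSurjective hsurj)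
  refine ⟨Module.Free.of_equiv Q.symm, ?_⟩
  rw [Q.finrank_eq]
  simp [Module.finrank_prod]

end Groth.Agent.S16051
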