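import Groth.Statements.S16052
import Groth.Agent.TameKummer.Basic
import Mathlib.FieldTheory.SplittingField.Construction
import Mathlib.Algebra.GCDMonoid.Finset
import Mathlib.Algebra.GCDMonoid.Nat
set_option autoImplicit false
universe u
open Polynomial
open CAlg

namespace Groth.Agent.S16052

/-- Let O be a henselian discrete valuation ring of characteristic zero with algebraically closed
residue field of characteristic p, ϖ a uniformizer and K the fraction field. Let r_1, …, r_m ≥ 1 and
b_1, …, b_m ≥ 1 be integers with gcd(r_i, b_i) = 1 for each i and r_1 + ⋯ + r_m < p, and let v_1, …,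
v_m be units of O. Then the splitting field over K of the polynomial ∏_i (y^{r_i} − v_i ϖ^{b_i}) has
degree lcm(r_1, …, r_m) over K. (In the source O is complete and this polynomial is the y-part of a
deformation y ↦ x² + z² + f(y) of an A_n-singularity with n + 1 = Σ r_i; the proposition goes on to
identify the monodromy element, which is not stated here.) -/
theorem result (O : Type u) [CommRing O] [IsDomain O]
    [IsDiscreteValuationRing O] [HenselianLocalRing O] [CharZero O] [IsAlgClosed (IsLocalRing.ResidueField O)]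
    (p : ℕ) [Fact p.Prime] [CharP (IsLocalRing.ResidueField O) p]
    (ϖ : O) (hϖ : Irreducible ϖ) (m : ℕ) (r b : Fin m → ℕ) (v : Fin m → Oˣ)
    (hr : ∀ i, 1 ≤ r i) (hb : ∀ i, 1 ≤ b i) (hrb : ∀ i, Nat.Coprime (r i) (b i)) (hp : ∑ i, r i < p) :
    Module.finrank (FractionRing O)
        (∏ i, (X ^ (r i) - C (algebraMap O (FractionRing O) ((v i : O) * ϖ ^ (b i))))).SplittingField =
      Finset.univ.lcm r := by
  classical
  let K := FractionRing O
  set n := Finset.univ.lcm r with hn_def
  have hn0 : n ≠ 0 := by
    rw [hn_def, ne_eq, Finset.lcm_eq_zero_iff]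
    rintro ⟨i, -, hi⟩
    have := hr i; omega
  have hrp : ∀ i, r i < p := fun i =>
    lt_of_le_of_lt (Finset.single_le_sum (f := r) (fun j _ => Nat.zero_le _) (Finset.mem_univ i)) hp
  have hpn : ¬ p ∣ n := by
    intro h
    have hprod : n ∣ ∏ i, r i := Finset.lcm_dvd fun i hi => Finset.dvd_prod_of_mem r hi
    obtain ⟨i, -, hi⟩ := (Nat.Prime.prime (Fact.out : p.Prime)).exists_mem_finset_dvd (h.trans hprod)
    exact absurd (Nat.le_of_dvd (hr i) hi) (not_le.2 (hrp i))
  have hnO := TameKummer.isUnit_natCast O (p := p) hpn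
  obtain ⟨ζ, hζ⟩ := TameKummer.exists_primitiveRoot O hnO
  have hw : ∀ i, ∃ w : O, w ^ r i = v i := fun i =>
    TameKummer.exists_root O (TameKummer.isUnit_natCast O (p := p) fun h =>
      absurd (Nat.le_of_dvd (hr i) h) (not_le.2 (hrp i))) (v i)
  choose w hw using hw
  have hw0 : ∀ i, w i ≠ 0 := fun i h => (v i).ne_zero (by rw [← hw i, h, zero_pow]; have := hr i; omega)
  set F : K[X] := X ^ n - C (algebraMap O K ϖ) with hFdef
  haveI hirr : Fact (Irreducible F) :=
    ⟨TameKummer.irreducible_X_pow_sub O K (Nat.one_le_iff_ne_zero.2 hn0) hϖ⟩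
  have hF0 : F ≠ 0 := hirr.out.ne_zero
  let L := AdjoinRoot F
  let α : L := AdjoinRoot.root F
  have hα : α ^ n = algebraMap K L (algebraMap O K ϖ) := by
    have h : aeval α F = 0 := by rw [AdjoinRoot.aeval_eq, AdjoinRoot.mk_self]
    simpa [hFdef, sub_eq_zero] using h
  have hα0 : α ≠ 0 := by
    intro h
    rw [h, zero_pow hn0] at hα
    exact hϖ.ne_zero (IsFractionRing.injective O K ((algebraMap K L).injective (by
      rw [map_zero, map_zero]; exact hα.symm)))
  let φ : O →+* L := (algebraMap K L).comp (algebraMap O K)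
  have hφ : Function.Injective φ := (algebraMap K L).injective.comp (IsFractionRing.injective O K)
  have hdvd : ∀ i, r i ∣ n := fun i => Finset.dvd_lcm (Finset.mem_univ i)
  let a : Fin m → L := fun i => φ (w i) * α ^ (n / r i * b i)
  have ha : ∀ i, a i ^ r i = φ ((v i : O) * ϖ ^ b i) := by
    intro i
    rw [mul_pow, ← map_pow, hw, ← pow_mul, mul_right_comm, Nat.div_mul_cancel (hdvd i), pow_mul,
      map_mul, map_pow]
    exact congrArg (fun z => φ _ * z ^ b i) hα
  set P : K[X] := ∏ i, (X ^ (r i) - C (algebraMap O K ((v i : O) * ϖ ^ b i))) with hPdef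
  have hP0 : P ≠ 0 := Finset.prod_ne_zero_iff.2 fun i _ => X_pow_sub_C_ne_zero (hr i) _
  haveI : IsSplittingField K L P := by
    refine ⟨?_, ?_⟩
    · rw [hPdef, Polynomial.map_prod]
      refine Splits.prod fun i _ => ?_
      rw [Polynomial.map_sub, Polynomial.map_pow, Polynomial.map_X, Polynomial.map_C]
      exact X_pow_sub_C_splits_of_isPrimitiveRoot
        ((hζ.map_of_injective hφ).pow (Nat.pos_of_ne_zero hn0) (Nat.div_mul_cancel (hdvd i)).symm) (ha i)
    · set S := Algebra.adjoin K (P.rootSet L)
      have haS : ∀ i, a i ∈ S := fun i => Algebra.subset_adjoin (by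
        rw [mem_rootSet, hPdef, map_prod]
        exact ⟨hP0, Finset.prod_eq_zero (Finset.mem_univ i) (by simpa [φ, sub_eq_zero] using ha i)⟩)
      haveI : Module.Finite K L := (AdjoinRoot.powerBasis hF0).finite
      haveI : Algebra.IsIntegral K L := Algebra.IsIntegral.of_finite K L
      have hfield : IsField S := Subalgebra.isField_of_algebraic S
      let E : IntermediateField K L := S.toIntermediateField' hfield
      let D : AddSubgroup ℤ :=
        { carrier := {z | α ^ z ∈ E}
          zero_mem' := by simp [one_mem]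
          add_mem' := fun {x y} hx hy => by
            show α ^ (x + y) ∈ E
            rw [zpow_add₀ hα0]; exact mul_mem hx hy
          neg_mem' := fun {x} hx => by
            show α ^ (-x) ∈ E
            rw [zpow_neg]; exact inv_mem hx }
      have hnD : (n : ℤ) ∈ D := by
        show α ^ (n : ℤ) ∈ E
        rw [zpow_natCast, hα]
        exact E.algebraMap_mem _
      have hiD : ∀ i, ((n / r i * b i : ℕ) : ℤ) ∈ D := by
        intro i
        show α ^ ((n / r i * b i : ℕ) : ℤ) ∈ E
        rw [zpow_natCast]
        have hwne : φ (w i) ≠ 0 := (map_ne_zero_iff _ hφ).2 (hw0 i)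
        rw [show α ^ (n / r i * b i) = (φ (w i))⁻¹ * a i by rw [inv_mul_cancel_left₀ hwne]]
        exact mul_mem (inv_mem (E.algebraMap_mem (algebraMap O K (w i)))) (haS i)
      obtain ⟨g, hg⟩ := Int.subgroup_cyclic D
      have hgd : ∀ z ∈ D, g.natAbs ∣ z.natAbs := by
        intro z hz
        rw [hg, ← AddSubgroup.zmultiples_eq_closure, Int.mem_zmultiples_iff] at hz
        exact Int.natAbs_dvd_natAbs.2 hz
      have h1 : g.natAbs = 1 := by
        by_contra hne
        obtain ⟨q, hq, hqg⟩ := Nat.exists_prime_and_dvd hne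
        have hqn : q ∣ n := hqg.trans (by simpa using hgd _ hnD)
        have hqi : ∀ i, q ∣ n / r i * b i := fun i => hqg.trans (by
          have := hgd _ (hiD i); rwa [Int.natAbs_natCast] at this)
        have hall : ∀ i, r i ∣ n / q := by
          intro i
          obtain ⟨c, hc⟩ := hdvd i
          have hdiv : n / r i = c := by rw [hc, Nat.mul_div_cancel_left _ (hr i)]
          rcases hq.dvd_mul.1 (hqi i) with h | h
          · rw [hdiv] at h
            obtain ⟨c', rfl⟩ := h
            exact ⟨c', by rw [hc, show r i * (q * c') = q * (r i * c') by ring,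
              Nat.mul_div_cancel_left _ hq.pos]⟩
          · have hqr : Nat.Coprime (r i) q := Nat.Coprime.coprime_dvd_right h (hrb i)
            have hqc : q ∣ c := hqr.symm.dvd_of_dvd_mul_left (hc ▸ hqn)
            obtain ⟨c', rfl⟩ := hqc
            exact ⟨c', by rw [hc, show r i * (q * c') = q * (r i * c') by ring,
              Nat.mul_div_cancel_left _ hq.pos]⟩
        have hle : n ∣ n / q := Finset.lcm_dvd fun i _ => hall i
        have hlt : n / q < n := Nat.div_lt_self (Nat.pos_of_ne_zero hn0) hq.one_lt
        have hpos : 0 < n / q := Nat.div_pos (Nat.le_of_dvd (Nat.pos_of_ne_zero hn0) hqn) hq.pos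
        exact absurd (Nat.le_of_dvd hpos hle) (not_le.2 hlt)
      have hgD : g ∈ D := by rw [hg]; exact AddSubgroup.subset_closure rfl
      have hαE : α ∈ E := by
        rcases Int.natAbs_eq g with h | h <;> rw [h1] at h <;> subst h
        · simpa [D] using hgD
        · have h' : α ^ (-(1 : ℤ)) ∈ E := hgD
          rw [zpow_neg, zpow_one] at h'
          exact inv_inv α ▸ inv_mem h'
      rw [eq_top_iff, ← AdjoinRoot.adjoinRoot_eq_top]
      exact Algebra.adjoin_le (Set.singleton_subset_iff.2 hαE)
  calc Module.finrank K P.SplittingField = Module.finrank K L :=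
        (IsSplittingField.algEquiv L P).toLinearEquiv.finrank_eq.symm
    _ = n := by
        rw [(AdjoinRoot.powerBasis hF0).finrank, AdjoinRoot.powerBasis_dim, hFdef, natDegree_X_pow_sub_C]

end Groth.Agent.S16052
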