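import Groth.Statements.S16053
import Groth.Agent.TameKummer.Basic
import Groth.Agent.Hensel.Local
import Mathlib.FieldTheory.SplittingField.Construction
import Mathlib.FieldTheory.PolynomialGaloisGroup
import Mathlib.RingTheory.Adjoin.PowerBasis
set_option autoImplicit false
universe u
open Polynomial
open CAlg

namespace Groth.Agent.S16053

/-- Let O be a henselian discrete valuation ring of characteristic zero with algebraically closed
residue field of characteristic p and fraction field K, and let f ∈ O[y] be a monic polynomial of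
degree e with 1 ≤ e < p which is Eisenstein at the maximal ideal of O. Then the splitting field of f
over K has degree e over K and the Galois group of f over K is cyclic. (In the source O is complete,
e = n + 1 and f is the y-part y^{n+1} + u_n ϖ^{a_n} y^{n−1} + ⋯ + u_1 ϖ of an A_n-degeneration
meeting the discriminant transversally; the corollary's conclusion that monodromy acts through a
Coxeter element is not stated here.) -/
theorem result (O : Type u) [CommRing O] [IsDomain O]
    [IsDiscreteValuationRing O] [HenselianLocalRing O] [CharZero O] [IsAlgClosed (IsLocalRing.ResidueField O)]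
    (p : ℕ) [Fact p.Prime] [CharP (IsLocalRing.ResidueField O) p]
    (f : O[X]) (hmon : f.Monic) (e : ℕ) (hdeg : f.natDegree = e) (he : 1 ≤ e) (hep : e < p)
    (hf : f.IsEisensteinAt (IsLocalRing.maximalIdeal O)) :
    Module.finrank (FractionRing O) (f.map (algebraMap O (FractionRing O))).SplittingField = e ∧
      IsCyclic (f.map (algebraMap O (FractionRing O))).Gal := by
  classical
  let K := FractionRing O
  obtain ⟨ϖ, hϖ⟩ := IsDiscreteValuationRing.exists_irreducible O
  have hϖspan : IsLocalRing.maximalIdeal O = Ideal.span {ϖ} :=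
    (IsDiscreteValuationRing.irreducible_iff_uniformizer ϖ).1 hϖ
  set fK : K[X] := f.map (algebraMap O K) with hfK
  have hirrO : Irreducible f := hf.irreducible inferInstance hmon.isPrimitive (by omega)
  haveI hirr : Fact (Irreducible fK) :=
    ⟨(hmon.irreducible_iff_irreducible_map_fraction_map (K := K)).1 hirrO⟩
  have hfK0 : fK ≠ 0 := hirr.out.ne_zero
  haveI : Module.Finite O (AdjoinRoot f) := hmon.finite_adjoinRoot
  haveI : Algebra.IsIntegral O (AdjoinRoot f) := Algebra.IsIntegral.of_finite O _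
  let π : AdjoinRoot f := AdjoinRoot.root f
  have hdvd : ∀ i : Fin e, ∃ d : O, d * ϖ = f.coeff i := fun i => by
    have h := hf.mem (n := (i : ℕ)) (by rw [hdeg]; exact i.2)
    rw [hϖspan] at h
    exact Ideal.mem_span_singleton'.1 h
  choose d hd using hdvd
  set u : AdjoinRoot f := - ∑ i : Fin e, algebraMap O _ (d i) * π ^ (i : ℕ) with hu_def
  have hπe : π ^ e = algebraMap O _ ϖ * u := by
    have h : aeval π f = 0 := by rw [AdjoinRoot.aeval_eq, AdjoinRoot.mk_self]
    have heq : f = X ^ e + ∑ i : Fin e, C (f.coeff i) * X ^ (i : ℕ) := by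
      rw [Fin.sum_univ_eq_sum_range (fun i => C (f.coeff i) * X ^ i) e, ← hdeg]
      exact hmon.as_sum
    replace h := (congrArg (fun q => aeval π q) heq).symm.trans h
    simp only [map_add, map_pow, aeval_X, map_sum, map_mul, aeval_C] at h
    rw [eq_neg_of_add_eq_zero_left h, hu_def, mul_neg, Finset.mul_sum]
    refine congrArg Neg.neg (Finset.sum_congr rfl fun i _ => ?_)
    rw [← hd i, map_mul]; ring
  let i0 : Fin e := ⟨0, he⟩
  have hd0 : IsUnit (d i0) := by
    by_contra h
    apply hf.notMem
    have hd0m : d i0 ∈ IsLocalRing.maximalIdeal O := h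
    rw [hϖspan, Ideal.mem_span_singleton'] at hd0m
    obtain ⟨c, hc⟩ := hd0m
    have h' := hd i0
    rw [← hc] at h'
    rw [hϖspan, Ideal.span_singleton_pow, Ideal.mem_span_singleton']
    exact ⟨c, by rw [← h']; ring⟩
  have hnt : Nontrivial (AdjoinRoot f) := AdjoinRoot.nontrivial f fun h => by
    have h1 := hdeg
    rw [natDegree, h] at h1
    simp at h1
    omega
  have hmax : ∀ M : Ideal (AdjoinRoot f), M.IsMaximal →
      M.comap (algebraMap O (AdjoinRoot f)) = IsLocalRing.maximalIdeal O ∧ π ∈ M := by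
    intro M hM
    haveI := hM
    have h1 : M.comap (algebraMap O (AdjoinRoot f)) = IsLocalRing.maximalIdeal O :=
      IsLocalRing.eq_maximalIdeal (Ideal.isMaximal_comap_of_isIntegral_of_isMaximal M)
    refine ⟨h1, hM.isPrime.mem_of_pow_mem e ?_⟩
    rw [hπe]
    exact Ideal.mul_mem_right _ _ (show ϖ ∈ M.comap (algebraMap O (AdjoinRoot f)) by
      rw [h1, hϖspan]; exact Ideal.mem_span_singleton_self ϖ)
  have hconst : ∀ (M : Ideal (AdjoinRoot f)), M.IsMaximal → ∀ x : AdjoinRoot f,
      ∃ c : O, x - algebraMap O _ c ∈ M := by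
    intro M hM x
    obtain ⟨q, rfl⟩ := AdjoinRoot.mk_surjective x
    refine ⟨q.coeff 0, ?_⟩
    obtain ⟨q', hq'⟩ : X ∣ q - C (q.coeff 0) := X_dvd_iff.2 (by simp)
    rw [AdjoinRoot.algebraMap_eq, ← AdjoinRoot.mk_C, ← map_sub, hq', map_mul, AdjoinRoot.mk_X]
    exact M.mul_mem_right _ (hmax M hM).2
  haveI : IsLocalRing (AdjoinRoot f) := by
    refine IsLocalRing.of_unique_max_ideal ?_
    obtain ⟨M, hM⟩ := Ideal.exists_maximal (AdjoinRoot f)
    refine ⟨M, hM, fun M' hM' => hM'.eq_of_le hM.ne_top fun x hx => ?_⟩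
    obtain ⟨c, hc⟩ := hconst M' hM' x
    obtain ⟨q, rfl⟩ := AdjoinRoot.mk_surjective x
    obtain ⟨q', hq'⟩ : X ∣ q - C (q.coeff 0) := X_dvd_iff.2 (by simp)
    have hx' : AdjoinRoot.mk f q = AdjoinRoot.mk f (C (q.coeff 0)) + π * AdjoinRoot.mk f q' := by
      rw [show π = AdjoinRoot.mk f X from (AdjoinRoot.mk_X).symm, ← map_mul, ← map_add, ← hq',
        add_sub_cancel]
    rw [hx'] at hx ⊢
    have h0 : q.coeff 0 ∈ IsLocalRing.maximalIdeal O := by
      rw [← (hmax M' hM').1, Ideal.mem_comap, AdjoinRoot.algebraMap_eq, ← AdjoinRoot.mk_C]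
      exact (M'.add_mem_iff_left (M'.mul_mem_right _ (hmax M' hM').2)).1 hx
    refine M.add_mem ?_ (M.mul_mem_right _ (hmax M hM).2)
    rw [← (hmax M hM).1, Ideal.mem_comap, AdjoinRoot.algebraMap_eq, ← AdjoinRoot.mk_C] at h0
    exact h0
  have hMmax := hmax _ (IsLocalRing.maximalIdeal.isMaximal (AdjoinRoot f))
  haveI : IsLocalHom (algebraMap O (AdjoinRoot f)) :=
    ((IsLocalRing.local_hom_TFAE _).out 0 4).mpr hMmax.1
  haveI : HenselianLocalRing (AdjoinRoot f) := Hensel.henselianLocalRing_of_finite O _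
  haveI : IsAlgClosed (IsLocalRing.ResidueField (AdjoinRoot f)) := by
    have hb : Function.Bijective (IsLocalRing.ResidueField.map (algebraMap O (AdjoinRoot f))) := by
      refine ⟨RingHom.injective _, fun x => ?_⟩
      obtain ⟨x, rfl⟩ := IsLocalRing.residue_surjective x
      obtain ⟨c, hc⟩ := hconst _ (IsLocalRing.maximalIdeal.isMaximal (AdjoinRoot f)) x
      refine ⟨IsLocalRing.residue O c, ?_⟩
      rw [IsLocalRing.ResidueField.map_residue, eq_comm, ← sub_eq_zero, ← map_sub,
        IsLocalRing.residue_eq_zero_iff]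
      exact hc
    exact IsAlgClosed.of_ringEquiv _ _ (RingEquiv.ofBijective _ hb)
  have huu : IsUnit u := by
    rw [← IsLocalRing.residue_ne_zero_iff_isUnit]
    have hπ0 : IsLocalRing.residue (AdjoinRoot f) π = 0 := (IsLocalRing.residue_eq_zero_iff _).2 hMmax.2
    rw [hu_def, map_neg, neg_ne_zero, map_sum, Finset.sum_eq_single i0]
    · simpa [i0] using (IsLocalRing.residue_ne_zero_iff_isUnit _).2 (hd0.map (algebraMap O (AdjoinRoot f)))
    · intro i _ hi
      rw [map_mul, map_pow, hπ0, zero_pow (fun h => hi (Fin.ext h)), mul_zero]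
    · exact fun h => absurd (Finset.mem_univ _) h
  have hpe : ¬ p ∣ e := fun h => absurd (Nat.le_of_dvd he h) (not_le.2 hep)
  have heO : IsUnit (e : O) := TameKummer.isUnit_natCast O (p := p) hpe
  have heO' : IsUnit (e : AdjoinRoot f) := by
    rw [← map_natCast (algebraMap O (AdjoinRoot f))]
    exact heO.map _
  obtain ⟨w, hw⟩ := TameKummer.exists_root (AdjoinRoot f) heO' huu.unit
  let L := AdjoinRoot fK
  have hroot : eval₂ ((algebraMap K L).comp (algebraMap O K)) (AdjoinRoot.root fK) f = 0 := by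
    rw [← eval₂_map]
    exact AdjoinRoot.eval₂_root fK
  let ψ : AdjoinRoot f →+* L :=
    AdjoinRoot.lift ((algebraMap K L).comp (algebraMap O K)) (AdjoinRoot.root fK) hroot
  have hψ : ∀ c : O, ψ (algebraMap O _ c) = algebraMap K L (algebraMap O K c) := fun c => by
    rw [AdjoinRoot.algebraMap_eq]; exact AdjoinRoot.lift_of hroot
  have hwu : IsUnit w := (isUnit_pow_iff (by omega : e ≠ 0)).1 (hw ▸ huu.unit.isUnit)
  let α : L := ψ π * (ψ w)⁻¹
  have hα : α ^ e = algebraMap K L (algebraMap O K ϖ) := by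
    have hne : ψ (huu.unit : AdjoinRoot f) ≠ 0 := (huu.unit.isUnit.map ψ).ne_zero
    rw [mul_pow, inv_pow, ← map_pow, ← map_pow, hπe, map_mul, hψ, hw,
      show ψ u = ψ (huu.unit : AdjoinRoot f) from rfl, mul_inv_cancel_right₀ hne]
  have hFirr := TameKummer.irreducible_X_pow_sub O K he hϖ
  obtain ⟨ζ, hζ⟩ := TameKummer.exists_primitiveRoot O heO
  have hφ : Function.Injective ((algebraMap K L).comp (algebraMap O K)) :=
    (algebraMap K L).injective.comp (IsFractionRing.injective O K)
  have hdegL : Module.finrank K L = e := by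
    rw [(AdjoinRoot.powerBasis hfK0).finrank, AdjoinRoot.powerBasis_dim, hfK, hmon.natDegree_map, hdeg]
  haveI : FiniteDimensional K L := (AdjoinRoot.powerBasis hfK0).finite
  have hF0 : (X ^ e - C (algebraMap O K ϖ) : K[X]) ≠ 0 := X_pow_sub_C_ne_zero he _
  haveI hsplF : IsSplittingField K L (X ^ e - C (algebraMap O K ϖ)) := by
    refine ⟨?_, ?_⟩
    · rw [Polynomial.map_sub, Polynomial.map_pow, Polynomial.map_X, Polynomial.map_C]
      exact X_pow_sub_C_splits_of_isPrimitiveRoot (hζ.map_of_injective hφ) hα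
    · have hαmem : α ∈ Algebra.adjoin K ((X ^ e - C (algebraMap O K ϖ) : K[X]).rootSet L) :=
        Algebra.subset_adjoin (by rw [mem_rootSet]; exact ⟨hF0, by simp [hα]⟩)
      rw [eq_top_iff]
      refine le_trans (le_of_eq ?_) (Algebra.adjoin_le (Set.singleton_subset_iff.2 hαmem))
      have hint : IsIntegral K α := Algebra.IsIntegral.isIntegral α
      refine (Subalgebra.toSubmodule_injective (Submodule.eq_top_of_finrank_eq ?_)).symm
      rw [Subalgebra.finrank_toSubmodule, (Algebra.adjoin.powerBasis hint).finrank, hdegL,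
        Algebra.adjoin.powerBasis_dim,
        ← minpoly.eq_of_irreducible_of_monic hFirr (by simp [hα]) (monic_X_pow_sub_C _ (by omega)),
        natDegree_X_pow_sub_C]
  haveI : Normal K L := Normal.of_isSplittingField (X ^ e - C (algebraMap O K ϖ))
  have hfroot : aeval (AdjoinRoot.root fK) fK = 0 := by rw [AdjoinRoot.aeval_eq, AdjoinRoot.mk_self]
  haveI hspl : IsSplittingField K L fK := by
    refine ⟨?_, ?_⟩
    · have h := Normal.splits (F := K) inferInstance (AdjoinRoot.root fK)
      rwa [← minpoly.eq_of_irreducible_of_monic hirr.out hfroot (hmon.map _)] at h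
    · rw [eq_top_iff, ← AdjoinRoot.adjoinRoot_eq_top]
      exact Algebra.adjoin_mono (Set.singleton_subset_iff.2 (mem_rootSet.2 ⟨hfK0, hfroot⟩))
  let E : L ≃ₐ[K] fK.SplittingField := IsSplittingField.algEquiv L fK
  refine ⟨E.toLinearEquiv.finrank_eq.symm.trans hdegL, ?_⟩
  haveI : NeZero e := ⟨by omega⟩
  have hprim : (primitiveRoots e K).Nonempty :=
    ⟨_, (mem_primitiveRoots (by omega : 0 < e)).2 (hζ.map_of_injective (IsFractionRing.injective O K))⟩
  haveI := isCyclic_of_isSplittingField_X_pow_sub_C hprim hFirr L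
  exact isCyclic_of_surjective _ (AlgEquiv.autCongr E).surjective

end Groth.Agent.S16053
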