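import Groth.Statements.S1606
import Groth.Agent.TFGG.Main

set_option autoImplicit false
universe u
open CategoryTheory CategoryTheory.Limits AlgebraicGeometry
open Curves

namespace Groth.Agent.S1606
open Groth.Agent in
theorem dim_le_zero_of_isClosed {α : Type*} [TopologicalSpace α] [ConnectedSpace α] [TopologicalSpace.NoetherianSpace α]
    {η : α} (hη : η ∈ genericPoints α) (hc : IsClosed ({η} : Set α)) : topologicalKrullDim α ≤ 0 := by
  have hmem : ({η} : Set α) ∈ irreducibleComponents α := hc.closure_eq ▸ hη
  have hopen : IsOpen ({η} : Set α) := by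
    have hfin := TopologicalSpace.NoetherianSpace.finite_irreducibleComponents (α := α)
    have he : (⋃ C ∈ irreducibleComponents α \ {({η} : Set α)}, C)ᶜ = ({η} : Set α) := by
      ext z
      refine ⟨fun hz => ?_, ?_⟩
      · by_contra hne
        exact hz (Set.mem_iUnion₂.2 ⟨irreducibleComponent z, ⟨irreducibleComponent_mem_irreducibleComponents z,
          fun h => hne (h ▸ mem_irreducibleComponent)⟩, mem_irreducibleComponent⟩)
      · rintro rfl hz
        obtain ⟨C, hC, hzC⟩ := Set.mem_iUnion₂.1 hz
        exact hC.2 (Set.Subset.antisymm (hmem.2 hC.1.1 (Set.singleton_subset_iff.2 hzC))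
          (Set.singleton_subset_iff.2 hzC))
    exact he ▸ ((hfin.subset Set.sdiff_subset).isClosed_biUnion fun C hC =>
      isClosed_of_mem_irreducibleComponents C hC.1).isOpen_compl
  have huniv : ({η} : Set α) = Set.univ :=
    (isClopen_iff.1 ⟨hc, hopen⟩).resolve_left (Set.singleton_ne_empty η)
  haveI : Subsingleton α := ⟨fun a b => by
    have ha : a ∈ ({η} : Set α) := huniv ▸ trivial
    have hb : b ∈ ({η} : Set α) := huniv ▸ trivial
    rw [Set.mem_singleton_iff] at ha hb
    rw [ha, hb]⟩
  exact topologicalKrullDim_zero_of_discreteTopology α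



/-- Let X be proper over k, reduced, connected, of dimension one, and L an invertible module whose
restriction to each reduced connected one-dimensional closed subscheme Y of X has degree at least
twice the k-dimension of H^1(Y, O_Y). Then L is globally generated. -/
theorem result (k : Type u) [Field k] (X : Scheme.{u}) [X.Over (Spec (CommRingCat.of k))] [IsProper (X ↘ (Spec (CommRingCat.of k)))] [IsReduced X] [ConnectedSpace X]
    (hdim : topologicalKrullDim X = 1) (L : X.Modules) (hL : PicF.IsInvertible L)
    (h : ∀ J : X.IdealSheafData, IsReduced J.subscheme → ConnectedSpace J.subscheme → topologicalKrullDim J.subscheme = 1 →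
      2 * (@Curv2.genus k _ J.subscheme ⟨J.subschemeι ≫ (X ↘ (Spec (CommRingCat.of k)))⟩ : ℤ) ≤
        @Curv2.deg k _ J.subscheme ⟨J.subschemeι ≫ (X ↘ (Spec (CommRingCat.of k)))⟩ ((Scheme.Modules.pullback J.subschemeι).obj L) 1) :
    Curv2.IsGloballyGenerated L := by
  haveI := Groth.Agent.CurveCohLib.isNoetherian_of_proper (k := k) (X := X)
  have hngen : ∀ η ∈ Groth.Agent.TFGG.gen X, ¬ IsClosed ({η} : Set X) := fun η hη hc => by
    have := dim_le_zero_of_isClosed hη hc
    rw [hdim] at this
    exact absurd this (by decide)
  refine Groth.Agent.TFGG.isGloballyGenerated k hdim.le hngen hL fun U hU hne hc => ?_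
  let T : Set X := closure U
  have hT : IsClosed T := isClosed_closure
  let J := Scheme.IdealSheafData.vanishingIdeal (⟨T, hT⟩ : TopologicalSpace.Closeds X)
  have hr : Set.range J.subschemeι = T := Groth.Agent.TFOneX.range_subschι T hT
  let e : J.subscheme ≃ₜ ↥T := (J.subschemeι.isEmbedding.toHomeomorph).trans (Homeomorph.setCongr hr)
  haveI hcs : ConnectedSpace J.subscheme := by
    haveI : ConnectedSpace ↥T := Subtype.connectedSpace ⟨hne.closure, hc⟩
    exact e.symm.surjective.connectedSpace e.symm.continuous
  have hd1 : topologicalKrullDim J.subscheme = 1 := by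
    refine le_antisymm (J.subschemeι.isEmbedding.isInducing.topologicalKrullDim_le.trans hdim.le) ?_
    obtain ⟨η, hη⟩ := hne
    by_contra hlt
    have h0 : topologicalKrullDim J.subscheme ≤ 0 := by
      rw [not_le] at hlt
      generalize topologicalKrullDim J.subscheme = d at hlt ⊢
      induction d using WithBot.recBotCoe with
      | bot => exact bot_le
      | coe m =>
        have h1 : m < 1 := by exact_mod_cast hlt
        exact_mod_cast (ENat.lt_one_iff_eq_zero.1 h1).le
    obtain ⟨y, hy⟩ : η ∈ Set.range J.subschemeι := hr.symm ▸ subset_closure hη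
    have hyc : IsClosed ({y} : Set J.subscheme) := by
      rw [← closure_eq_iff_isClosed]
      exact Groth.Agent.Euler.closure_eq_self_of_dim_le_zero isClosed_closure
        ((topologicalKrullDim_subspace_le _ _).trans h0) (subset_closure rfl)
    refine hngen η (hU hη) ?_
    rw [← hy, ← Set.image_singleton]
    exact J.subschemeι.isClosedEmbedding.isClosedMap _ hyc
  have h2 := h J inferInstance hcs hd1
  letI : J.subscheme.Over (Spec (CommRingCat.of k)) := ⟨J.subschemeι ≫ (X ↘ (Spec (CommRingCat.of k)))⟩
  have hg : Groth.Agent.TFGG.gT k U = Curv2.genus k J.subscheme := by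
    obtain ⟨l⟩ := Groth.Agent.PnCoh.exists_linearEquiv_push k J.subschemeι rfl
      (Groth.Agent.QCoh.isQCoh_structureModule (X := J.subscheme)) 1
    exact l.finrank_eq.symm
  have hdg := Groth.Agent.TFOneX.degOn_eq k (Groth.Agent.InvEnd.isFinLocFreeOfRank_one hL) T hT
  rw [hg]
  refine h2.trans (le_of_eq (hdg.trans ?_))
  show Curv2.euler k X _ - ((1 : ℕ) : ℤ) * Curv2.euler k X _ = _
  rw [Nat.cast_one, one_mul]


end Groth.Agent.S1606
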