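import Groth.Statements.S16071
import Groth.Agent.GrpSchLib.AlphaPCoord
import Mathlib.RingTheory.Bialgebra.Equiv


set_option autoImplicit false
universe u
open CartDual

namespace Groth.Agent.S16071

/-- Let p be a prime, R a commutative ring of characteristic p and A = R[X]/(X^p) the Hopf algebra of
α_p over Spec R, with X primitive. Then the Cartier dual of α_p is again α_p: there is a bialgebra
isomorphism e from the dual Hopf algebra Hom_R(A, R), with the transposed structure maps, to A,
whose inverse sends X to the linear form dual to X with respect to the basis 1, X, …, X^{p-1} of A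
(so e⁻¹(X) takes the value 1 on X and 0 on the other powers X^i, i < p). (Any commutative base ring
of characteristic p is allowed.) -/
theorem result (p : ℕ) [Fact p.Prime] (R : Type u) [CommRing R] [CharP R p] :
    ∃ e : CartDual.D R (AlphaP.A p R) ≃ₐc[R] AlphaP.A p R,
      ∀ i : ℕ, i < p → (e.symm (AlphaP.x p R)) (AlphaP.x p R ^ i) = if i = 1 then 1 else 0 := by
  let y : CartDual.D R (AlphaP.A p R) := WithConv.toConv (GrpSchLib.δ₁ p R)
  have hmul : ∀ (z : CartDual.D R (AlphaP.A p R)) (a : AlphaP.A p R),
      (y * z).ofConv a = z.ofConv (GrpSchLib.αDeriv p R a) := by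
    intro z a
    rw [LinearMap.convMul_apply]
    simp only [GrpSchLib.αDeriv, LinearMap.coe_comp, LinearEquiv.coe_coe, Function.comp_apply, y]
    generalize Coalgebra.comul (R := R) a = t
    induction t using TensorProduct.induction_on with
    | zero => simp
    | tmul b d => simp
    | add s t hs ht => simp only [map_add, hs, ht]
  have hpow : ∀ n i : ℕ, i < p →
      (y ^ n).ofConv (AlphaP.x p R ^ i) = if i = n then (n.factorial : R) else 0 := by
    intro n
    induction n with
    | zero =>
      intro i hi
      rw [pow_zero, LinearMap.convOne_apply, Bialgebra.counit_pow, AlphaP.counit_x]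
      rcases i with _ | i <;> simp
    | succ n ih =>
      intro i hi
      rw [pow_succ', hmul, GrpSchLib.αDeriv_pow, map_smul, ih (i - 1) (by omega)]
      rcases i with _ | i
      · simp
      · by_cases h : i = n
        · subst h; simp [Nat.factorial_succ]
        · rw [if_neg (by omega), if_neg (by omega), smul_zero]
  have hp0 : y ^ p = 0 := by
    apply WithConv.ext
    apply GrpSchLib.αLinearMap_ext
    intro i hi
    rw [hpow p i hi, if_neg hi.ne]
    rfl
  let ψ : AlphaP.A p R →ₐ[R] CartDual.D R (AlphaP.A p R) := AlphaP.lift p R y hp0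
  have hψ : ψ (AlphaP.x p R) = y := AlphaP.lift_x _ _
  have hψa : ∀ (a : AlphaP.A p R) (j : Fin p), (ψ a).ofConv (AlphaP.x p R ^ (j : ℕ)) =
      GrpSchLib.αCoord p R j a * ((j : ℕ).factorial : R) := by
    intro a j
    conv_lhs => rw [← GrpSchLib.α_sum_coord p R a]
    simp only [map_sum, map_smul, map_pow, hψ, WithConv.ofConv_sum, WithConv.ofConv_smul,
      LinearMap.sum_apply, LinearMap.smul_apply, hpow _ _ j.2]
    rw [Finset.sum_eq_single j]
    · simp
    · intro i _ hij
      rw [if_neg (fun h => hij (Fin.ext h.symm)), smul_zero]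
    · simp
  have hbij : Function.Bijective ψ := by
    constructor
    · intro a b hab
      apply GrpSchLib.αCoord_ext
      intro j
      have h := congrArg (fun z : CartDual.D R (AlphaP.A p R) => z.ofConv (AlphaP.x p R ^ (j : ℕ))) hab
      simp only [hψa] at h
      exact (GrpSchLib.isUnit_factorial_of_lt p R j.2).mul_left_inj.mp h
    · intro φ
      refine ⟨∑ i : Fin p, (φ.ofConv (AlphaP.x p R ^ (i : ℕ)) *
        (GrpSchLib.isUnit_factorial_of_lt p R i.2).unit⁻¹.val) • AlphaP.x p R ^ (i : ℕ), ?_⟩
      apply WithConv.ext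
      apply GrpSchLib.αLinearMap_ext
      intro j hj
      refine (hψa _ ⟨j, hj⟩).trans ?_
      simp only [map_sum, map_smul, GrpSchLib.αCoord_pow]
      rw [Finset.sum_eq_single ⟨j, hj⟩]
      · simp [mul_assoc]
      · intro i _ hij
        rw [if_neg (fun h => hij (Fin.ext h)), smul_zero]
      · simp
  let Ψ : AlphaP.A p R →ₐc[R] CartDual.D R (AlphaP.A p R) :=
    BialgHom.ofAlgHom ψ (by
      apply AlphaP.algHom_ext
      simp [hψ, y]) (by
      apply AlphaP.algHom_ext
      apply (CartDual.ev₂ R (AlphaP.A p R)).injective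
      haveI := GrpSchLib.nontrivial_base p R
      apply ((AlphaP.basis p R).tensorProduct (AlphaP.basis p R)).ext
      rintro ⟨i, j⟩
      simp only [AlgHom.comp_apply, AlphaP.comulAlgHom_eq, AlphaP.comulAlg_x, map_add,
        Algebra.TensorProduct.map_tmul, map_one, hψ, Module.Basis.tensorProduct_apply, AlphaP.basis_apply,
        LinearMap.add_apply, CartDual.ev₂_tmul, Bialgebra.comulAlgHom_apply, CartDual.ev₂_coalgebra_comul_tmul]
      simp only [CartDual.coe_apply, LinearMap.convOne_apply, Bialgebra.counit_pow, AlphaP.counit_x, y,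
        WithConv.ofConv_toConv, ← pow_add, GrpSchLib.δ₁_pow]
      rcases Nat.eq_zero_or_pos (i : ℕ) with hi | hi <;> rcases Nat.eq_zero_or_pos (j : ℕ) with hj | hj
      · simp [hi, hj]
      · simp [hi, zero_pow hj.ne']
      · simp [hj, zero_pow hi.ne']
      · simp [zero_pow hj.ne', zero_pow hi.ne']
        omega)
  refine ⟨(BialgEquiv.ofBijective (R := R) (A := AlphaP.A p R) (B := CartDual.D R (AlphaP.A p R)) Ψ hbij).symm,
    fun i _ => ?_⟩
  show (ψ (AlphaP.x p R)).ofConv (AlphaP.x p R ^ i) = _
  rw [hψ]
  exact GrpSchLib.δ₁_pow p R i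

end Groth.Agent.S16071
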