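import Groth.Statements.S16072
import Mathlib.Algebra.CharP.Lemmas
import Mathlib.Algebra.CharP.Algebra
-- import your own Groth.Agent.* helpers here

set_option autoImplicit false
universe u
open Hopf

namespace Groth.Agent.S16072

/-- Let p be a prime and R a commutative ring of characteristic p (p = 0 in R, R nonzero). Then the
constant group scheme ℤ/p and the group scheme μ_p of p-th roots of unity over Spec R are not
isomorphic: there is no R-bialgebra isomorphism between the Hopf algebra Maps(ℤ/p, R) of functions
on the cyclic group of order p and the group algebra R[ℤ/p]. (Any nonzero commutative base ring of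
characteristic p is allowed. The published statement allows any ring R with p·R = 0; over the zero
ring both Hopf algebras are the zero ring and hence isomorphic, so R is assumed nonzero here.) -/
theorem result (p : ℕ) [Fact p.Prime] (R : Type u) [CommRing R]
    [CharP R p] :
    IsEmpty (ConstGrp.F R (Multiplicative (ZMod p)) ≃ₐc[R] MonoidAlgebra R (Multiplicative (ZMod p))) := by
  have : CharP (MonoidAlgebra R (Multiplicative (ZMod p))) p :=
    charP_of_injective_algebraMap (R := R) (fun a b h => by
      simpa using congrArg (Bialgebra.counitAlgHom R (MonoidAlgebra R (Multiplicative (ZMod p)))) h) p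
  have hpow : ∀ z : MonoidAlgebra R (Multiplicative (ZMod p)),
      z ^ p = algebraMap R _ (Bialgebra.counitAlgHom R (MonoidAlgebra R (Multiplicative (ZMod p))) z ^ p) := by
    intro z
    induction z using MonoidAlgebra.induction_linear with
    | zero => simp [zero_pow (Fact.out : p.Prime).ne_zero]
    | add a b ha hb => rw [add_pow_char, map_add, add_pow_char, map_add, ha, hb]
    | single g r =>
      have hg : g ^ p = 1 := Multiplicative.toAdd.injective (by simp [toAdd_pow, ZMod.natCast_self])
      simp [MonoidAlgebra.single_pow, hg, MonoidAlgebra.counit_single]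
  refine ⟨fun e => ?_⟩
  let ee := ConstGrp.e R (1 : Multiplicative (ZMod p))
  have hee : IsIdempotentElem (e ee) :=
    (show IsIdempotentElem ee by rw [IsIdempotentElem, ConstGrp.e_mul_e, if_pos rfl]).map e
  have hscal : e ee = algebraMap R _ (Bialgebra.counitAlgHom R _ (e ee) ^ p) := by
    rw [← hpow (e ee)]
    exact (IsIdempotentElem.pow_eq hee (Fact.out : p.Prime).ne_zero).symm
  have h := congrArg (fun z => e.symm z) hscal
  simp only [BialgEquiv.symm_apply_apply] at h
  rw [AlgHomClass.commutes] at h
  have : Nontrivial R := CharP.nontrivial_of_char_ne_one (R := R) (v := p) (Fact.out : p.Prime).ne_one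
  have : Fact (1 < p) := ⟨(Fact.out : p.Prime).one_lt⟩
  have h1 := congrArg (fun f : ConstGrp.F R (Multiplicative (ZMod p)) => f 1) h
  have h2 := congrArg (fun f : ConstGrp.F R (Multiplicative (ZMod p)) => f (Multiplicative.ofAdd 1)) h
  simp only [ee, ConstGrp.algebraMap_apply, ConstGrp.e_apply_self] at h1 h2
  rw [← h1, ConstGrp.e_apply_of_ne (by simp)] at h2
  exact zero_ne_one h2

end Groth.Agent.S16072
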