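import Groth.Statements.S16073
import Mathlib.Algebra.CharP.Lemmas
-- import your own Groth.Agent.* helpers here

set_option autoImplicit false
universe u
open Hopf

namespace Groth.Agent.S16073

/-- Let p be a prime and R a commutative ring of characteristic p (p = 0 in R, R nonzero). Then the
constant group scheme ℤ/p and α_p over Spec R are not isomorphic: there is no R-bialgebra
isomorphism between the Hopf algebra Maps(ℤ/p, R) of functions on the cyclic group of order p and
the Hopf algebra R[X]/(X^p) of α_p (X primitive). (Any nonzero commutative base ring of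
characteristic p is allowed. The published statement allows any ring R with p·R = 0; over the zero
ring both Hopf algebras are the zero ring and hence isomorphic, so R is assumed nonzero here.) -/
theorem result (p : ℕ) [Fact p.Prime] (R : Type u) [CommRing R] [CharP R p] :
    IsEmpty (ConstGrp.F R (Multiplicative (ZMod p)) ≃ₐc[R] AlphaP.A p R) := by
  have hpow : ∀ z : AlphaP.A p R, z ^ p = algebraMap R _ (Bialgebra.counitAlgHom R (AlphaP.A p R) z ^ p) := by
    intro z
    obtain ⟨f, rfl⟩ := AlphaP.mk_surjective p R z
    induction f using Polynomial.induction_on' with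
    | add a b ha hb => rw [map_add, add_pow_char, map_add, add_pow_char, map_add, ha, hb]
    | monomial n r =>
      rw [← Polynomial.C_mul_X_pow_eq_monomial, map_mul, map_pow, AlphaP.mk_X, ← Polynomial.algebraMap_eq, AlgHom.commutes]
      rcases Nat.eq_zero_or_pos n with rfl | hn
      · simp
      · simp [mul_pow, ← pow_mul, AlphaP.x_pow_of_le p R (Nat.le_mul_of_pos_left p hn), zero_pow hn.ne',
          zero_pow (Fact.out : p.Prime).ne_zero]
  refine ⟨fun e => ?_⟩
  let ee := ConstGrp.e R (1 : Multiplicative (ZMod p))
  have hee : IsIdempotentElem (e ee) :=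
    (show IsIdempotentElem ee by rw [IsIdempotentElem, ConstGrp.e_mul_e, if_pos rfl]).map e
  have hscal : e ee = algebraMap R _ (Bialgebra.counitAlgHom R _ (e ee) ^ p) := by
    rw [← hpow (e ee)]
    exact (IsIdempotentElem.pow_eq hee (Fact.out : p.Prime).ne_zero).symm
  have h := congrArg (fun z => e.symm z) hscal
  simp only [BialgEquiv.symm_apply_apply] at h
  rw [AlgHomClass.commutes] at h
  have : Nontrivial R := CharP.nontrivial_of_char_ne_one (R := R) (v := p) (Fact.out : p.Prime).ne_one
  have : Fact (1 < p) := ⟨(Fact.out : p.Prime).one_lt⟩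
  have h1 := congrArg (fun f : ConstGrp.F R (Multiplicative (ZMod p)) => f 1) h
  have h2 := congrArg (fun f : ConstGrp.F R (Multiplicative (ZMod p)) => f (Multiplicative.ofAdd 1)) h
  simp only [ee, ConstGrp.algebraMap_apply, ConstGrp.e_apply_self] at h1 h2
  rw [← h1, ConstGrp.e_apply_of_ne (by simp)] at h2
  exact zero_ne_one h2

end Groth.Agent.S16073
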