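import Groth.Statements.S16074
-- import your own Groth.Agent.* helpers here

set_option autoImplicit false
universe u
open Hopf

namespace Groth.Agent.S16074

/-- Let p be a prime and R a commutative ring of characteristic p (p = 0 in R, R nonzero). Then μ_p and
α_p over Spec R are not isomorphic: there is no R-bialgebra isomorphism between the group algebra
R[ℤ/p] of the cyclic group of order p (group elements group-like) and the Hopf algebra R[X]/(X^p) of
α_p (X primitive), although the underlying R-algebras R[ℤ/p] = R[Y]/(Y^p) and R[X]/(X^p) are
isomorphic. (Any nonzero commutative base ring of characteristic p is allowed. The published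
statement allows any ring R with p·R = 0; over the zero ring both Hopf algebras are the zero ring
and hence isomorphic, so R is assumed nonzero here.) -/
theorem result (p : ℕ) [Fact p.Prime] (R : Type u) [CommRing R] [CharP R p] :
    IsEmpty (MonoidAlgebra R (Multiplicative (ZMod p)) ≃ₐc[R] AlphaP.A p R) := by
  refine ⟨fun e => ?_⟩
  classical
  let z := e.symm (AlphaP.x p R)
  have hz : Coalgebra.comul (R := R) z = TensorProduct.tmul R z 1 + TensorProduct.tmul R 1 z := by
    have h := CoalgHomClass.map_comp_comul_apply e.symm (AlphaP.x p R)
    rw [AlphaP.comul_x] at h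
    simp only [map_add, TensorProduct.map_tmul] at h
    simpa [z] using h.symm
  let co : Multiplicative (ZMod p) → MonoidAlgebra R (Multiplicative (ZMod p)) →ₗ[R] R := fun g =>
    Finsupp.lapply g ∘ₗ (MonoidAlgebra.coeffLinearEquiv R).toLinearMap
  let T : Multiplicative (ZMod p) → TensorProduct R (MonoidAlgebra R (Multiplicative (ZMod p))) (MonoidAlgebra R (Multiplicative (ZMod p))) →ₗ[R] R := fun g =>
    (TensorProduct.lid R R).toLinearMap ∘ₗ TensorProduct.map (co g) (co g)
  have hco : ∀ g w, T g (Coalgebra.comul (R := R) w) = co g w := by
    intro g w
    induction w using MonoidAlgebra.induction_linear with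
    | zero => simp
    | add a b ha hb => simp only [map_add, ha, hb]
    | single h r =>
      simp only [T, co, MonoidAlgebra.comul_single]
      simp [Finsupp.single_apply]
      exact fun a b => absurd b a
  have hzero : z = 0 := by
    apply MonoidAlgebra.ext
    ext g
    have h := hco g z
    rw [hz] at h
    show co g z = 0
    by_cases hg : g = 1
    · subst hg
      simp [T, co, MonoidAlgebra.one_def, Finsupp.single_apply] at h
      simpa [co] using h
    · simp [T, co, MonoidAlgebra.one_def, Finsupp.single_apply, Ne.symm hg] at h
      simpa [co] using h.symm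
  have hx : AlphaP.x p R = 0 := by
    rw [← e.apply_symm_apply (AlphaP.x p R)]
    show e z = 0
    rw [hzero, map_zero]
  have : Nontrivial R := CharP.nontrivial_of_char_ne_one (R := R) (v := p) (Fact.out : p.Prime).ne_one
  exact (AlphaP.basis p R).ne_zero ⟨1, (Fact.out : p.Prime).one_lt⟩ (by rw [AlphaP.basis_apply]; simp [hx])

end Groth.Agent.S16074
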