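import Groth.Statements.S16075
import Groth.Agent.GrpSchLib.AlphaPCoord


set_option autoImplicit false
universe u
open Hopf

namespace Groth.Agent.S16075

/-- Let p be a prime, T a commutative ring of characteristic p (p = 0 in T, T nonzero) and A =
T[X]/(X^p) the Hopf algebra of α_p over Spec T, with X primitive. Then the endomorphisms of the
T-group α_{p,T} are exactly the scalings: every T-bialgebra endomorphism f of A has f(X) = λ·X for a
unique λ ∈ T, and for every λ ∈ T there is a T-bialgebra endomorphism f of A with f(X) = λ·X. So the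
endomorphisms of α_{p,T} correspond bijectively to the elements of T. (Only this bijection is
stated; that it turns addition and composition of endomorphisms into addition and multiplication in
T, and its naturality in T, are not stated here. The zero ring, allowed as T in the published
statement, is excluded by the characteristic hypothesis here.) -/
theorem result (p : ℕ) [Fact p.Prime] (T : Type u) [CommRing T] [CharP T p] :
    (∀ f : AlphaP.A p T →ₐc[T] AlphaP.A p T, ∃! c : T, f (AlphaP.x p T) = c • AlphaP.x p T) ∧
      (∀ c : T, ∃ f : AlphaP.A p T →ₐc[T] AlphaP.A p T, f (AlphaP.x p T) = c • AlphaP.x p T) := by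
  refine ⟨fun f => ?_, fun c => ?_⟩
  · set y := f (AlphaP.x p T) with hy
    have hcom : Coalgebra.comul (R := T) y = y ⊗ₜ[T] 1 + 1 ⊗ₜ[T] y := by
      have h := CoalgHomClass.map_comp_comul_apply f (AlphaP.x p T)
      rw [← h, AlphaP.comul_x, map_add, TensorProduct.map_tmul, TensorProduct.map_tmul]
      simp [hy]
    have hcou : Coalgebra.counit (R := T) y = 0 := by
      rw [hy, CoalgHomClass.counit_comp_apply, AlphaP.counit_x]
    have hD : GrpSchLib.αDeriv p T y = GrpSchLib.δ₁ p T y • (1 : AlphaP.A p T) := by
      simp [GrpSchLib.αDeriv, hcom]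
    have hsum := GrpSchLib.α_sum_coord p T y
    have hhigh : ∀ i : Fin p, 2 ≤ (i : ℕ) → GrpSchLib.αCoord p T i y = 0 := by
      intro i hi
      have h := congrArg (GrpSchLib.αCoord p T ⟨(i : ℕ) - 1, by have := i.2; omega⟩) hD
      rw [← hsum] at h
      simp only [map_sum, map_smul, GrpSchLib.αDeriv_pow, GrpSchLib.αCoord_pow] at h
      rw [Finset.sum_eq_single i] at h
      · have h0 : GrpSchLib.αCoord p T ⟨(i : ℕ) - 1, by have := i.2; omega⟩ (1 : AlphaP.A p T) = 0 := by
          rw [← pow_zero (AlphaP.x p T), GrpSchLib.αCoord_pow, if_neg]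
          simp only; omega
        simp only [h0, if_true, smul_eq_mul, mul_one, mul_zero] at h
        exact (GrpSchLib.isUnit_natCast_of_lt p T (by omega) i.2).mul_left_eq_zero.mp h
      · intro j _ hj
        rw [smul_eq_mul, smul_eq_mul]
        by_cases hj0 : (j : ℕ) = 0
        · simp [hj0]
        · rw [if_neg, mul_zero, mul_zero]
          intro hc; exact hj (Fin.ext (by omega))
      · simp
    have hzero : ∀ i : Fin p, (i : ℕ) = 0 → GrpSchLib.αCoord p T i y = 0 := by
      intro i hi
      rw [← hsum, map_sum] at hcou
      simp only [map_smul, Bialgebra.counit_pow, AlphaP.counit_x] at hcou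
      rw [Finset.sum_eq_single i] at hcou
      · simpa [hi] using hcou
      · intro j _ hj
        rw [zero_pow, smul_zero]
        intro hc; exact hj (Fin.ext (by omega))
      · simp
    refine ⟨GrpSchLib.δ₁ p T y, ?_, fun c hc => ?_⟩
    · apply GrpSchLib.αCoord_ext
      intro i
      rw [map_smul]
      conv_rhs => rw [← pow_one (AlphaP.x p T), GrpSchLib.αCoord_pow]
      rcases Nat.lt_trichotomy (i : ℕ) 1 with h | h | h
      · rw [hzero i (by omega), if_neg (by omega), smul_zero]
      · rw [if_pos h.symm, smul_eq_mul, mul_one]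
        exact congrArg (fun j => GrpSchLib.αCoord p T j y) (Fin.ext h)
      · rw [hhigh i (by omega), if_neg (by omega), smul_zero]
    · simp only at hc
      rw [hc, map_smul, GrpSchLib.δ₁_x, smul_eq_mul, mul_one]
  · let g : AlphaP.A p T →ₐ[T] AlphaP.A p T :=
      AlphaP.lift p T (c • AlphaP.x p T) (by rw [smul_pow, AlphaP.x_pow, smul_zero])
    have hg : g (AlphaP.x p T) = c • AlphaP.x p T := AlphaP.lift_x _ _
    refine ⟨BialgHom.ofAlgHom g ?_ ?_, hg⟩
    · apply AlphaP.algHom_ext
      simp [hg]
    · apply AlphaP.algHom_ext
      simp [hg, TensorProduct.smul_tmul', TensorProduct.tmul_smul]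

end Groth.Agent.S16075
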