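import Groth.Statements.S16076
-- import your own Groth.Agent.* helpers here

set_option autoImplicit false
universe u
open scoped TensorProduct
open Versch

namespace Groth.Agent.S16076

open TensorProduct

theorem pow_apply_eq_zero {p : ℕ} [Fact p.Prime] {R : Type u} [CommRing R] [CharP R p]
    (y : CartDual.D R (AlphaP.A p R)) (hy : y 1 = 0) : ∀ m n : ℕ, n < m → (y ^ m) (AlphaP.x p R ^ n) = 0 := by
  intro m
  induction m with
  | zero => intro n h; exact absurd h (Nat.not_lt_zero n)
  | succ m ih =>
    intro n hn
    rw [pow_succ, LinearMap.convMul_apply,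
      show CoalgebraStruct.comul (R := R) (AlphaP.x p R ^ n) =
        (AlphaP.x p R ⊗ₜ[R] (1 : AlphaP.A p R) + (1 : AlphaP.A p R) ⊗ₜ[R] AlphaP.x p R) ^ n by
        rw [Bialgebra.comul_pow, AlphaP.comul_x],
      (Commute.all _ _).add_pow, map_sum, map_sum]
    refine Finset.sum_eq_zero fun i hi => ?_
    rw [Algebra.TensorProduct.tmul_pow, Algebra.TensorProduct.tmul_pow, Algebra.TensorProduct.tmul_mul_tmul, one_pow,
      one_pow, one_mul, mul_one, ← nsmul_eq_mul', map_nsmul, map_nsmul, TensorProduct.map_tmul, LinearMap.mul'_apply]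
    rcases Nat.lt_or_ge i m with h | h
    · rw [show (y ^ m).ofConv (AlphaP.x p R ^ i) = 0 from ih i h, zero_mul, smul_zero]
    · have hi' := Finset.mem_range.mp hi
      rw [show n - i = 0 by omega, pow_zero, show y.ofConv 1 = 0 from hy, mul_zero, smul_zero]

/-- Let p be a prime, R a commutative ring of characteristic p and A = R[X]/(X^p) the Hopf algebra of
α_p over Spec R, with X primitive. Let v : A → A ⊗_R R^(Frob) be the comorphism of the Verschiebung
V : α_p^(p) → α_p (the ring map whose transpose under the canonical pairing is the relative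
Frobenius of the dual Hopf algebra Hom_R(A, R)). Then V is the trivial homomorphism: v is the
composite of the counit ε : A → R, the identity of underlying rings R → R^(Frob) and the inclusion
of the twisted factor R^(Frob) → A ⊗_R R^(Frob), i.e. v(a) = 1 ⊗ ε(a). (Any commutative base ring of
characteristic p is allowed.) -/
theorem result (p : ℕ) [Fact p.Prime] (R : Type u) [CommRing R] [CharP R p]
    (v : AlphaP.A p R →+* FrobAlg.BaseChange p R (AlphaP.A p R))
    (hv : Versch.IsVerschiebung p R (AlphaP.A p R) v) :
    v = ((Algebra.TensorProduct.includeRight (R := R) (A := AlphaP.A p R) (B := FrobAlg.Twist p R)).toRingHom.comp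
          (FrobAlg.toTwist p R).toRingHom).comp (Bialgebra.counitAlgHom R (AlphaP.A p R)).toRingHom := by
  refine RingHom.ext fun a => Versch.evTw_injective p R _ fun x => ?_
  rw [(Versch.isVerschiebung_iff p R _ v).mp hv]
  show _ = Versch.evTw p R (AlphaP.A p R) x ((1 : AlphaP.A p R) ⊗ₜ[R] FrobAlg.toTwist p R (Bialgebra.counitAlgHom R (AlphaP.A p R) a))
  rw [Versch.evTw_tmul', ← map_mul]
  congr 1
  let one : CartDual.D R (AlphaP.A p R) := 1
  let y : CartDual.D R (AlphaP.A p R) := x - algebraMap R (CartDual.D R (AlphaP.A p R)) (x 1)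
  have hy1 : y 1 = 0 := by
    simp [y, CartDual.coe_apply, LinearMap.convAlgebraMap_apply]
  have hy : y ^ p = 0 := by
    ext b
    obtain ⟨f, rfl⟩ := AlphaP.mk_surjective p R b
    induction f using Polynomial.induction_on' with
    | add q r hq hr => simp [map_add] at hq hr ⊢; rw [hq, hr, add_zero]
    | monomial n c =>
      rw [← Polynomial.C_mul_X_pow_eq_monomial, ← Polynomial.smul_eq_C_mul, map_smul, map_pow, AlphaP.mk_X]
      show ((y ^ p).ofConv) (c • AlphaP.x p R ^ n) = 0
      rw [map_smul]
      rcases Nat.lt_or_ge n p with h | h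
      · rw [show (y ^ p).ofConv (AlphaP.x p R ^ n) = 0 from pow_apply_eq_zero y hy1 p n h, smul_zero]
      · rw [AlphaP.x_pow_of_le p R h, map_zero, smul_zero]
  have hx : x ^ p = (y + algebraMap R (CartDual.D R (AlphaP.A p R)) (x 1)) ^ p := by simp [y]
  rw [hx, add_pow_char, hy, zero_add, ← map_pow]
  show (algebraMap R (CartDual.D R (AlphaP.A p R)) ((x 1) ^ p)).ofConv a = _
  rw [LinearMap.convAlgebraMap_apply, Algebra.algebraMap_self_apply] at *
  rfl

end Groth.Agent.S16076
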