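import Groth.Statements.S16077
import Mathlib

set_option autoImplicit false
universe u
open CAlg

namespace Groth.Agent.S16077

open MvPolynomial in
/-- Dimension of the span of `p ^ j`-th powers in a truncated polynomial algebra. -/
theorem finrank_span_pow (p : ℕ) [Fact p.Prime] (k : Type u) [Field k] [CharP k p] (r : ℕ) (e : Fin r → ℕ) (j : ℕ) :
    Module.finrank k (Submodule.span k (Set.range fun x : (MvPolynomial (Fin r) k ⧸
      Ideal.span (Set.range fun i : Fin r => (X i : MvPolynomial (Fin r) k) ^ p ^ e i)) => x ^ p ^ j)) =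
      p ^ ∑ i, (e i - j) := by
  classical
  have hp : 0 < p := (Fact.out : p.Prime).pos
  set I := Ideal.span (Set.range fun i : Fin r => (X i : MvPolynomial (Fin r) k) ^ p ^ e i) with hI
  let B := ∀ i, Fin (p ^ e i)
  let toF : B → Fin r →₀ ℕ := fun b => Finsupp.equivFunOnFinite.symm fun i => (b i : ℕ)
  let L : MvPolynomial (Fin r) k →ₗ[k] (B → k) := LinearMap.pi fun b => lcoeff k (toF b)
  have hker : LinearMap.ker L = I.restrictScalars k := by
    ext P
    rw [Submodule.restrictScalars_mem, LinearMap.mem_ker, hI,
      show Set.range (fun i : Fin r => (X i : MvPolynomial (Fin r) k) ^ p ^ e i) =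
        (fun s => monomial s (1 : k)) '' Set.range (fun i : Fin r => Finsupp.single i (p ^ e i)) by
        rw [← Set.range_comp]; congr 1; funext i; simp [X_pow_eq_monomial],
      mem_ideal_span_monomial_image]
    constructor
    · intro h d hd
      by_contra hno
      push Not at hno
      have hb : ∀ i, d i < p ^ e i := fun i => lt_of_not_ge fun hle =>
        hno _ ⟨i, rfl⟩ (Finsupp.single_le_iff.2 hle)
      have h1 := congrFun h (fun i => ⟨d i, hb i⟩)
      rw [mem_support_iff] at hd
      refine hd ?_
      have h2 : toF (fun i => ⟨d i, hb i⟩) = d := Finsupp.ext fun i => rfl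
      rw [← h2]
      exact h1
    · intro h
      funext b
      by_contra hne
      obtain ⟨_, ⟨i, rfl⟩, hle⟩ := h (toF b) (mem_support_iff.2 hne)
      rw [Finsupp.single_le_iff] at hle
      exact absurd hle (not_le.2 (b i).2)
  have hL : Function.Surjective L := fun g => by
    refine ⟨∑ b, monomial (toF b) (g b), ?_⟩
    funext c
    show coeff (toF c) (∑ b, monomial (toF b) (g b)) = g c
    rw [coeff_sum, Finset.sum_eq_single c]
    · simp
    · intro b _ hbc
      rw [coeff_monomial, if_neg]
      intro h
      exact hbc (funext fun i => Fin.ext (DFunLike.congr_fun h i))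
    · simp
  let π : MvPolynomial (Fin r) k →ₗ[k] (MvPolynomial (Fin r) k ⧸ I) := (Ideal.Quotient.mkₐ k I).toLinearMap
  have hπ : Function.Surjective π := Ideal.Quotient.mkₐ_surjective k I
  have hπk : LinearMap.ker π = LinearMap.ker L := by
    rw [hker]; ext P; simp [π, Ideal.Quotient.eq_zero_iff_mem]
  let E : (MvPolynomial (Fin r) k ⧸ I) ≃ₗ[k] (B → k) :=
    (π.quotKerEquivOfSurjective hπ).symm ≪≫ₗ Submodule.quotEquivOfEq _ _ hπk ≪≫ₗ L.quotKerEquivOfSurjective hL
  have hE : ∀ P, E (π P) = L P := fun P => by
    show L.quotKerEquivOfSurjective hL (Submodule.quotEquivOfEq _ _ hπk ((π.quotKerEquivOfSurjective hπ).symm (π P))) = L P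
    rw [show (π.quotKerEquivOfSurjective hπ).symm (π P) = Submodule.Quotient.mk P by rw [LinearEquiv.symm_apply_eq]; rfl]
    rfl
  let B' := ∀ i, Fin (p ^ (e i - j))
  have hlt : ∀ i (a : ℕ), a < p ^ (e i - j) → a * p ^ j < p ^ e i := fun i a ha => by
    rcases le_or_gt j (e i) with h | h
    · calc a * p ^ j < p ^ (e i - j) * p ^ j := Nat.mul_lt_mul_of_pos_right ha (pow_pos hp j)
        _ = p ^ e i := by rw [← pow_add, Nat.sub_add_cancel h]
    · rw [Nat.sub_eq_zero_of_le h.le, pow_zero] at ha
      rw [Nat.lt_one_iff.1 ha, zero_mul]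
      exact pow_pos hp _
  let ι : B' → B := fun a i => ⟨(a i : ℕ) * p ^ j, hlt i _ (a i).2⟩
  have hι : Function.Injective ι := fun a b h => funext fun i => Fin.ext
    (Nat.eq_of_mul_eq_mul_right (pow_pos hp j) (congrArg Fin.val (congrFun h i)))
  have hspan : Submodule.map E.toLinearMap (Submodule.span k (Set.range fun x : MvPolynomial (Fin r) k ⧸ I => x ^ p ^ j)) =
      Submodule.span k (Set.range fun a : B' => (Pi.single (ι a) 1 : B → k)) := by
    rw [Submodule.map_span]
    refine le_antisymm (Submodule.span_le.2 ?_) (Submodule.span_le.2 ?_)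
    · rintro _ ⟨_, ⟨x, rfl⟩, rfl⟩
      obtain ⟨P, rfl⟩ := hπ x
      show E (π P ^ p ^ j) ∈ _
      rw [show π P ^ p ^ j = π (P ^ p ^ j) from (map_pow (Ideal.Quotient.mkₐ k I) P _).symm, hE]
      induction P using MvPolynomial.induction_on' with
      | monomial d c =>
        rw [monomial_pow]
        by_cases hb : ∀ i, d i < p ^ (e i - j)
        · have : L (monomial (p ^ j • d) (c ^ p ^ j)) = c ^ p ^ j • (Pi.single (ι fun i => ⟨d i, hb i⟩) 1 : B → k) := by
            funext b
            show coeff (toF b) (monomial (p ^ j • d) (c ^ p ^ j)) = _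
            rw [coeff_monomial, Pi.smul_apply, Pi.single_apply, smul_eq_mul]
            split_ifs with h1 h2 h2
            · rw [mul_one]
            · exact absurd (funext fun i => Fin.ext (by
                have h := DFunLike.congr_fun h1 i
                show (b i : ℕ) = d i * p ^ j
                rw [mul_comm]; exact h.symm)) h2
            · exact absurd (Finsupp.ext fun i => by
                show p ^ j * d i = (b i : ℕ)
                rw [h2]; exact mul_comm _ _) h1
            · rw [mul_zero]
          rw [this]
          exact Submodule.smul_mem _ _ (Submodule.subset_span ⟨_, rfl⟩)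
        · have : L (monomial (p ^ j • d) (c ^ p ^ j)) = 0 := by
            funext b
            show coeff (toF b) (monomial (p ^ j • d) (c ^ p ^ j)) = 0
            rw [coeff_monomial, if_neg]
            intro h
            refine hb fun i => ?_
            have h1 : p ^ j * d i = (b i : ℕ) := DFunLike.congr_fun h i
            by_contra h2
            rw [not_lt] at h2
            have h3 : p ^ e i ≤ p ^ j * d i := calc
              p ^ e i ≤ p ^ (j + (e i - j)) := Nat.pow_le_pow_right hp (by omega)
              _ = p ^ j * p ^ (e i - j) := pow_add _ _ _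
              _ ≤ p ^ j * d i := Nat.mul_le_mul_left _ h2
            exact absurd (h1 ▸ h3) (not_le.2 (b i).2)
          rw [this]
          exact zero_mem _
      | add P Q hP hQ => rw [add_pow_char_pow, map_add]; exact add_mem hP hQ
    · rintro _ ⟨a, rfl⟩
      refine Submodule.subset_span ⟨π (monomial (Finsupp.equivFunOnFinite.symm fun i => (a i : ℕ)) 1) ^ p ^ j, ⟨_, rfl⟩, ?_⟩
      show E (π _ ^ p ^ j) = _
      rw [show ∀ P, π P ^ p ^ j = π (P ^ p ^ j) from fun P => (map_pow (Ideal.Quotient.mkₐ k I) P _).symm, hE, monomial_pow, one_pow]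
      funext b
      show coeff (toF b) (monomial _ (1 : k)) = _
      beta_reduce
      rw [coeff_monomial, Pi.single_apply]
      refine if_congr ⟨fun h => funext fun i => Fin.ext ?_, fun h => Finsupp.ext fun i => ?_⟩ rfl rfl
      · have h1 : p ^ j * (a i : ℕ) = (b i : ℕ) := DFunLike.congr_fun h i
        show (b i : ℕ) = (a i : ℕ) * p ^ j
        rw [← h1, mul_comm]
      · show p ^ j * (a i : ℕ) = (b i : ℕ)
        rw [h]
        exact mul_comm _ _
  rw [← LinearEquiv.finrank_map_eq E]
  erw [hspan]
  rw [finrank_span_eq_card (b := fun a : B' => (Pi.single (ι a) 1 : B → k)) (by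
    have := ((Pi.basisFun k B).linearIndependent).comp ι hι
    convert this using 1
    funext a
    simp), Fintype.card_pi]
  simp [Finset.prod_pow_eq_pow_sum]


/-- Let k be a perfect field of characteristic p > 0 and let e_1, …, e_r ≥ 1 and f_1, …, f_s ≥ 1 be
natural numbers. If the k-algebras k[X_1, …, X_r]/(X_i^{p^{e_i}} : 1 ≤ i ≤ r) and k[X_1, …,
X_s]/(X_j^{p^{f_j}} : 1 ≤ j ≤ s) are isomorphic, then r = s and (f_j) is a permutation of (e_i):
there is a bijection σ between the index sets with f_{σ(i)} = e_i. Such truncated polynomial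
algebras are the coordinate rings of the connected finite k-group schemes, and the row says that the
number of variables and the exponents are invariants of the group, indeed of its algebra. (Only this
invariance is stated here; the existence of such a presentation for every connected finite k-group
is a separate statement.) -/
theorem result (p : ℕ) [Fact p.Prime] (k : Type u) [Field k]
    [CharP k p] [PerfectField k] (r s : ℕ) (e : Fin r → ℕ) (f : Fin s → ℕ) (he : ∀ i, 1 ≤ e i) (hf : ∀ j, 1 ≤ f j)
    (φ : (MvPolynomial (Fin r) k ⧸ Ideal.span (Set.range fun i : Fin r => (MvPolynomial.X i : MvPolynomial (Fin r) k) ^ p ^ e i)) ≃ₐ[k]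
      (MvPolynomial (Fin s) k ⧸ Ideal.span (Set.range fun j : Fin s => (MvPolynomial.X j : MvPolynomial (Fin s) k) ^ p ^ f j))) :
    ∃ σ : Fin r ≃ Fin s, ∀ i : Fin r, f (σ i) = e i := by
  classical
  have key : ∀ j, ∑ i, (e i - j) = ∑ i, (f i - j) := fun j => by
    have h1 := finrank_span_pow p k r e j
    have h2 := finrank_span_pow p k s f j
    rw [← LinearEquiv.finrank_map_eq φ.toLinearEquiv, Submodule.map_span] at h1
    have himg : φ.toLinearEquiv.toLinearMap '' Set.range (fun x => x ^ p ^ j) = Set.range fun x => x ^ p ^ j := by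
      rw [← Set.range_comp]
      refine Set.Subset.antisymm ?_ ?_
      · rintro _ ⟨x, rfl⟩
        exact ⟨φ x, (map_pow φ x _).symm⟩
      · rintro _ ⟨y, rfl⟩
        obtain ⟨x, rfl⟩ := φ.surjective y
        exact ⟨x, map_pow φ x _⟩
    erw [himg] at h1
    have h3 : p ^ ∑ i, (e i - j) = p ^ ∑ i, (f i - j) := h1.symm.trans h2
    exact Nat.pow_right_injective (Fact.out : p.Prime).two_le h3
  have hcount : ∀ {n : ℕ} (g : Fin n → ℕ) c, ∑ i, (g i - c) =
      ∑ i, (g i - (c + 1)) + (Finset.univ.filter fun i => c + 1 ≤ g i).card := fun g c => by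
    rw [Finset.card_filter, ← Finset.sum_add_distrib]
    exact Finset.sum_congr rfl fun i _ => by split_ifs <;> omega
  have hge : ∀ c, (Finset.univ.filter fun i => c + 1 ≤ e i).card = (Finset.univ.filter fun i => c + 1 ≤ f i).card := fun c => by
    have := hcount e c
    have := hcount f c
    have := key c
    have := key (c + 1)
    omega
  have hsplit : ∀ {n : ℕ} (g : Fin n → ℕ) c, (Finset.univ.filter fun i => c + 1 ≤ g i).card =
      Fintype.card {i // g i = c + 1} + (Finset.univ.filter fun i => c + 1 + 1 ≤ g i).card := fun g c => by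
    rw [Fintype.card_subtype, Finset.card_filter, Finset.card_filter, Finset.card_filter, ← Finset.sum_add_distrib]
    exact Finset.sum_congr rfl fun i _ => by split_ifs <;> omega
  have hcard : ∀ c, Fintype.card {i // e i = c} = Fintype.card {i // f i = c} := by
    rintro (_ | c)
    · rw [Fintype.card_eq_zero_iff.2 ⟨fun i => by have := he i.1; have := i.2; omega⟩,
        Fintype.card_eq_zero_iff.2 ⟨fun i => by have := hf i.1; have := i.2; omega⟩]
    · have := hsplit e c
      have := hsplit f c
      have := hge c
      have := hge (c + 1)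
      omega
  exact ⟨Equiv.ofFiberEquiv fun c => Fintype.equivOfCardEq (hcard c), fun i => Equiv.ofFiberEquiv_map _ i⟩

end Groth.Agent.S16077
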