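import Groth.Statements.S16078
import Groth.Agent.GrpSchLib.HopfExt


set_option autoImplicit false
universe u
open scoped TensorProduct
open Hopf

namespace Groth.Agent.S16078

/-- Let R be a henselian Noetherian local ring, A and A'' commutative Hopf algebras over R which are
finite and flat as R-modules, and A'' → A an R-algebra homomorphism compatible with
comultiplications and counits making A faithfully flat over A'' (a faithfully flat homomorphism π :
G → G'' of finite flat R-groups); let J ⊆ A be the ideal generated by the image of the augmentation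
ideal of A'' (G' = Spec A/J = ker π, so that 1 → G' → G → G'' → 1 is exact). Let e ∈ A and e'' ∈ A''
be idempotents with ε(e) = 1, ε(e'') = 1 and A/(1 − e), A''/(1 − e'') local rings (the unit
components G⁰ and G''⁰), and let e' ∈ A be an element whose image in A/J is an idempotent, with
ε(e') = 1 and A/(J + (1 − e')) local (so G'⁰ = Spec (A/J)/(1 − e') is the unit component of G').
Suppose g : A''/(1 − e'') → A/(1 − e) is the ring homomorphism induced by A'' → A (the restriction
π⁰ : G⁰ → G''⁰ of π, which exists because G⁰ is connected). Then g is faithfully flat, and e ≡ e'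
modulo J, i.e. J + (1 − e) = J + (1 − e') and the kernel of π⁰, which is cut out in G⁰ by J, is
exactly G'⁰: the sequence 1 → G'⁰ → G⁰ → G''⁰ → 1 is exact. (The published statement also asserts
exactness of the maximal étale quotient G ↦ G^ét, not stated here.) -/
theorem result (R : Type u) [CommRing R] [HenselianLocalRing R]
    [IsNoetherianRing R] (A A'' : Type u) [CommRing A] [HopfAlgebra R A] [Module.Finite R A] [Module.Flat R A]
    [CommRing A''] [HopfAlgebra R A''] [Module.Finite R A''] [Module.Flat R A'']
    [Algebra A'' A] [IsScalarTower R A'' A] [Module.FaithfullyFlat A'' A]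
    (hΔ : (Bialgebra.comulAlgHom R A).comp (IsScalarTower.toAlgHom R A'' A) =
      (Algebra.TensorProduct.map (IsScalarTower.toAlgHom R A'' A) (IsScalarTower.toAlgHom R A'' A)).comp
        (Bialgebra.comulAlgHom R A''))
    (hε : (Bialgebra.counitAlgHom R A).comp (IsScalarTower.toAlgHom R A'' A) = Bialgebra.counitAlgHom R A'')
    (e : A) (he : IsIdempotentElem e) (heε : Bialgebra.counitAlgHom R A e = 1)
    [IsLocalRing (A ⧸ Ideal.span ({1 - e} : Set A))]
    (e'' : A'') (he'' : IsIdempotentElem e'') (he''ε : Bialgebra.counitAlgHom R A'' e'' = 1)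
    [IsLocalRing (A'' ⧸ Ideal.span ({1 - e''} : Set A''))]
    (e' : A) (he' : IsIdempotentElem (Ideal.Quotient.mk ((RingHom.ker (Bialgebra.counitAlgHom R A'')).map (algebraMap A'' A)) e'))
    (he'ε : Bialgebra.counitAlgHom R A e' = 1)
    [IsLocalRing (A ⧸ (((RingHom.ker (Bialgebra.counitAlgHom R A'')).map (algebraMap A'' A)) ⊔ Ideal.span ({1 - e'} : Set A)))]
    (g : (A'' ⧸ Ideal.span ({1 - e''} : Set A'')) →+* (A ⧸ Ideal.span ({1 - e} : Set A)))
    (hg : g.comp (Ideal.Quotient.mk (Ideal.span ({1 - e''} : Set A''))) =
      (Ideal.Quotient.mk (Ideal.span ({1 - e} : Set A))).comp (algebraMap A'' A)) :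
    g.FaithfullyFlat ∧
      Ideal.Quotient.mk ((RingHom.ker (Bialgebra.counitAlgHom R A'')).map (algebraMap A'' A)) e = Ideal.Quotient.mk ((RingHom.ker (Bialgebra.counitAlgHom R A'')).map (algebraMap A'' A)) e' := by
  let J : Ideal A := (RingHom.ker (Bialgebra.counitAlgHom R A'')).map (algebraMap A'' A)
  refine ⟨?_, ?_⟩
  · let B := A'' ⧸ Ideal.span ({1 - e''} : Set A'')
    let A₀ := A ⧸ Ideal.span ({1 - e} : Set A)
    letI : Algebra B A₀ := g.toAlgebra
    haveI : IsScalarTower A'' B A₀ := IsScalarTower.of_algebraMap_eq fun x => (RingHom.congr_fun hg x).symm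
    haveI : Module.Finite A'' A := Module.Finite.of_restrictScalars_finite R A'' A
    haveI : Module.Finite A'' A₀ := Module.Finite.of_surjective
      (Ideal.Quotient.mkₐ A'' (Ideal.span ({1 - e} : Set A))).toLinearMap Ideal.Quotient.mk_surjective
    haveI : Module.Finite B A₀ := Module.Finite.of_restrictScalars_finite A'' B A₀
    haveI : IsLocalization.Away e'' B := IsLocalization.Away.quotient_of_isIdempotentElem he''
    haveI : Module.Flat B A₀ := (Module.flat_iff_of_isLocalization B (Submonoid.powers e'') A₀).2
      (GrpSchLib.HopfExt.flat_quotient_idempotent A'' he)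
    haveI : IsLocalHom (algebraMap B A₀) := GrpSchLib.HopfExt.isLocalHom_of_isIntegral B A₀
    exact (Module.FaithfullyFlat.of_flat_of_isLocalHom : Module.FaithfullyFlat B A₀)
  · let εJ : A ⧸ J →ₐ[R] R :=
      Ideal.Quotient.liftₐ J (Bialgebra.counitAlgHom R A) fun a ha => GrpSchLib.HopfExt.map_aug_le hε ha
    let q := Ideal.Quotient.mk J
    have he1 : IsIdempotentElem (q e) := he.map q
    have key : ∀ f f' : A, IsIdempotentElem (q f) → IsIdempotentElem (q f') →
        Bialgebra.counitAlgHom R A f = 1 → Bialgebra.counitAlgHom R A f' = 1 →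
        IsLocalRing (A ⧸ (J ⊔ Ideal.span ({1 - f} : Set A))) → q f * q f' = q f := by
      intro f f' hf hf' hf1 hf'1 hloc
      let L := J ⊔ Ideal.span ({1 - f} : Set A)
      let εL : A ⧸ L →+* R := Ideal.Quotient.lift L (Bialgebra.counitAlgHom R A).toRingHom fun a ha => by
        refine (sup_le (GrpSchLib.HopfExt.map_aug_le hε) ?_ : L ≤ RingHom.ker (Bialgebra.counitAlgHom R A)) ha
        rw [Ideal.span_singleton_le_iff_mem, RingHom.mem_ker, map_sub, map_one, hf1, sub_self]
      let fac : A ⧸ J →+* A ⧸ L := Ideal.Quotient.factor le_sup_left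
      have h1 : Ideal.Quotient.mk L f' = 1 := by
        haveI : IsLocalRing (A ⧸ L) := hloc
        rcases IsLocalRing.isUnit_or_isUnit_one_sub_self (Ideal.Quotient.mk L f') with hu | hu
        · exact hu.mul_left_cancel ((hf'.map fac).eq.trans (_root_.mul_one _).symm)
        · have h := hu.map εL
          rw [map_sub, map_one, show εL (Ideal.Quotient.mk L f') = 1 from hf'1, sub_self] at h
          exact absurd h not_isUnit_zero
      obtain ⟨c, hc⟩ : ∃ c : A, q (f' - 1) = q c * (1 - q f) := by
        have : f' - 1 ∈ L := by rw [← Ideal.Quotient.eq]; rw [map_one]; exact h1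
        obtain ⟨a, ha, b, hb, hab⟩ := Submodule.mem_sup.1 this
        obtain ⟨c, rfl⟩ := Ideal.mem_span_singleton'.1 hb
        refine ⟨c, ?_⟩
        rw [← hab, map_add, Ideal.Quotient.eq_zero_iff_mem.2 ha, zero_add, map_mul, map_sub, map_one]
      rw [map_sub, map_one] at hc
      calc q f * q f' = q f + q f * (q f' - 1) := by ring
        _ = q f + q c * (q f - q f * q f) := by rw [hc]; ring
        _ = q f := by rw [hf.eq, sub_self, mul_zero, add_zero]
    have hloc : IsLocalRing (A ⧸ (J ⊔ Ideal.span ({1 - e} : Set A))) := by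
      let L := J ⊔ Ideal.span ({1 - e} : Set A)
      haveI : Nontrivial (A ⧸ L) := Ideal.Quotient.nontrivial_iff.2 fun h => by
        have h2 : L ≤ RingHom.ker (Bialgebra.counitAlgHom R A) := by
          refine sup_le (GrpSchLib.HopfExt.map_aug_le hε) ?_
          rw [Ideal.span_singleton_le_iff_mem, RingHom.mem_ker, map_sub, map_one, heε, sub_self]
        exact RingHom.ker_ne_top _ (top_le_iff.1 (h ▸ h2))
      exact IsLocalRing.of_surjective' (Ideal.Quotient.factor (le_sup_right : Ideal.span ({1 - e} : Set A) ≤ L))
        (Ideal.Quotient.factor_surjective _)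
    show q e = q e'
    rw [← key e e' he1 he' heε he'ε hloc, mul_comm]
    exact key e' e he' he1 he'ε heε ‹_›

end Groth.Agent.S16078
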