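import Groth.Statements.S1608
import Groth.Agent.DimFormula.Scheme
import Groth.Agent.DimFormula.QuasiSection

set_option autoImplicit false
set_option linter.style.haveILetI false
universe u
open CategoryTheory CategoryTheory.Limits AlgebraicGeometry
open Variety

namespace Groth.Agent.S1608

/-- Let f : X → Y be locally of finite type, and let y ∈ Y be a point whose local ring is Noetherian of
dimension at most one. Suppose f is quasi-finite at the generic point of each irreducible component
of X. Then f is quasi-finite at each point x of X with f(x) = y. -/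
theorem result {X Y : Scheme.{u}} (f : X ⟶ Y) [LocallyOfFiniteType f]
    (y : Y) [IsNoetherianRing (Y.presheaf.stalk y)] (hy : ringKrullDim (Y.presheaf.stalk y) ≤ 1)
    (hgen : ∀ Z ∈ irreducibleComponents (X : Type u), ∀ η : X, IsGenericPoint η Z → f.QuasiFiniteAt η)
    (x : X) (hx : f.base x = y) : f.QuasiFiniteAt x := by
  classical
  -- a point which is quasi-finite is closed in its fibre
  have hclosed : ∀ η : X, f.QuasiFiniteAt η → ∀ z, f z = f η → η ⤳ z → z = η := fun η hη z hz hsp => by
    have hc := hη.isClopen_singleton_asFiber.isClosed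
    obtain ⟨z₀, rfl⟩ : z ∈ Set.range (f.fiberι (f η)) := by rw [Scheme.Hom.range_fiberι]; exact hz
    have h1 : f.asFiber η ⤳ z₀ := (f.fiberι (f η)).isEmbedding.isInducing.specializes_iff.mp
      (by rw [Scheme.Hom.fiberι_asFiber]; exact hsp)
    rw [show z₀ = f.asFiber η from h1.mem_closed hc rfl, Scheme.Hom.fiberι_asFiber]
  -- base change to the local scheme at `y`
  let j := Y.fromSpecStalk y
  let i := pullback.fst f j
  let f' := pullback.snd f j
  haveI : IsPreimmersion i := inferInstanceAs (IsPreimmersion (pullback.fst f j))
  haveI : LocallyOfFiniteType f' := inferInstanceAs (LocallyOfFiniteType (pullback.snd f j))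
  haveI : IsLocallyNoetherian (Spec (Y.presheaf.stalk y)) := inferInstance
  haveI : IsLocallyNoetherian (pullback f j) := LocallyOfFiniteType.isLocallyNoetherian f'
  have hcomm : ∀ a, f (i a) = j (f' a) := fun a => by
    show (pullback.fst f j ≫ f) a = (pullback.snd f j ≫ j) a
    rw [pullback.condition]
  have hrange : ∀ z : X, f z ⤳ y → ∃ a, i a = z := fun z hz => by
    show z ∈ Set.range (pullback.fst f j)
    rw [Scheme.Pullback.range_fst, Set.mem_preimage, Scheme.range_fromSpecStalk]
    exact hz
  -- no proper generizations in the fibre over `y`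
  have hmax : ∀ z z' : X, f z = y → f z' = y → z' ⤳ z → z' = z := by
    intro z z' hz hz' hsp
    let η : X := (isIrreducible_irreducibleComponent (x := z')).genericPoint
    have hgp : IsGenericPoint η (irreducibleComponent z') := by
      have h := (isIrreducible_irreducibleComponent (x := z')).isGenericPoint_genericPoint_closure
      rwa [isClosed_irreducibleComponent.closure_eq] at h
    have hη := hgen _ (irreducibleComponent_mem_irreducibleComponents z') η hgp
    have hηz' : η ⤳ z' := hgp.specializes mem_irreducibleComponent
    by_cases he : f η = y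
    · have e1 := hclosed η hη z' (hz'.trans he.symm) hηz'
      have e2 := hclosed η hη z (hz.trans he.symm) (hηz'.trans hsp)
      rw [e1, e2]
    by_contra hne
    obtain ⟨a, ha⟩ := hrange z (hz ▸ specializes_refl _)
    obtain ⟨a', ha'⟩ := hrange z' (hz' ▸ specializes_refl _)
    obtain ⟨b, hb⟩ := hrange η (hz' ▸ hηz'.map f.continuous)
    have hi := i.isEmbedding.isInducing
    have h1 : a' ⤳ a := hi.specializes_iff.mp (by rw [ha, ha']; exact hsp)
    have h2 : b ⤳ a' := hi.specializes_iff.mp (by rw [hb, ha']; exact hηz')
    have hrd : FibDim.rd f' b = 0 := DimFormula.rd_eq_zero_of_closed f' fun b' hb' hsp' =>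
      i.isEmbedding.injective ((hb ▸ hclosed η hη (i b')
        (by rw [hcomm, hb', ← hcomm, hb]) (hb ▸ hsp'.map i.continuous) : _))
    have h3 := (DimFormula.cd_formula f' (h2.trans h1)).1
    have h4 : DimFormula.cd (f' b) (f' a) ≤ 1 := by
      have hfa : f' a = IsLocalRing.closedPoint (Y.presheaf.stalk y) := (Y.fromSpecStalk y).isEmbedding.injective
        (by rw [← hcomm, ha, hz, Scheme.fromSpecStalk_closedPoint])
      refine (DimFormula.cd_le_codim ((h2.trans h1).map f'.continuous)).trans ?_
      have h5 := DimFormula.ringKrullDim_stalk (f' a)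
      have h6 : ringKrullDim ((Spec (Y.presheaf.stalk y)).presheaf.stalk (f' a)) ≤ 1 := by
        refine le_trans ?_ hy
        haveI := (f' a).isPrime
        rw [ringKrullDim_eq_of_ringEquiv
          (Spec.stalkIso (Y.presheaf.stalk y) (f' a)).commRingCatIsoToRingEquiv,
          IsLocalization.AtPrime.ringKrullDim_eq_height (f' a).asIdeal]
        exact Ideal.height_le_ringKrullDim_of_ne_top (f' a).isPrime.ne_top
      rw [h5] at h6
      exact_mod_cast h6
    have h7 : 1 ≤ DimFormula.cd a' a := by
      rcases Nat.eq_zero_or_pos (DimFormula.cd a' a) with h | h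
      · exact absurd ((DimFormula.cd_eq_zero_iff h1).mp h) fun e => hne (by rw [← ha, ← ha', e])
      · exact h
    have h8 : 1 ≤ DimFormula.cd b a' := by
      rcases Nat.eq_zero_or_pos (DimFormula.cd b a') with h | h
      · refine absurd ((DimFormula.cd_eq_zero_iff h2).mp h) fun e => he ?_
        rw [← hb, e, ha', hz']
      · exact h
    have h9 := DimFormula.cd_add_cd_le h1 h2
    omega
  -- so `x` is isolated in its fibre
  subst hx
  rw [Scheme.Hom.quasiFiniteAt_iff_isOpen_singleton_asFiber]
  haveI : IsLocallyNoetherian (f.fiber (f x)) := DimFormula.isLocallyNoetherian_fiber f (f x)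
  have hgenfib : ∀ a b : f.fiber (f x), a ⤳ b → a = b := fun a b h => by
    have hmem : ∀ c : f.fiber (f x), f (f.fiberι (f x) c) = f x := fun c => by
      have : f.fiberι (f x) c ∈ Set.range (f.fiberι (f x)) := ⟨c, rfl⟩
      rw [Scheme.Hom.range_fiberι] at this
      exact this
    exact (f.fiberι (f x)).isEmbedding.injective (hmax _ _ (hmem b) (hmem a) (h.map (f.fiberι (f x)).continuous))
  obtain ⟨W, hW, hxW, -⟩ := exists_isAffineOpen_mem_and_subset (x := f.asFiber x) (U := ⊤) trivial
  haveI := IsLocallyNoetherian.component_noetherian (X := f.fiber (f x)) ⟨W, hW⟩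
  haveI : TopologicalSpace.NoetherianSpace ↥W := noetherianSpace_of_isAffineOpen W hW
  haveI : IsLocallyNoetherian (W : Scheme.{u}) := isLocallyNoetherian_of_isOpenImmersion W.ι
  have hdisc : DiscreteTopology ↥W := by
    haveI : T1Space ↥W := t1Space_iff_specializes_imp_eq.2 fun a b h =>
      Subtype.ext (hgenfib _ _ (h.map continuous_subtype_val))
    haveI : QuasiSober ↥W := inferInstanceAs (QuasiSober (W : Scheme.{u}))
    haveI := (TopologicalSpace.NoetherianSpace.finite_irreducibleComponents (α := ↥W)).to_subtype
    haveI : Finite ↥W := Finite.of_injective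
      (fun w => (⟨irreducibleComponent w, irreducibleComponent_mem_irreducibleComponents w⟩ :
        irreducibleComponents ↥W)) fun a b hab => by
      have hs := (isIrreducible_irreducibleComponent (x := a)).isGenericPoint_genericPoint_closure
      rw [isClosed_irreducibleComponent.closure_eq] at hs
      have hsingle : irreducibleComponent a = {(isIrreducible_irreducibleComponent (x := a)).genericPoint} := by
        exact hs.def.symm.trans closure_singleton
      have ha : a ∈ irreducibleComponent a := mem_irreducibleComponent
      have hb : b ∈ irreducibleComponent a := by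
        rw [show irreducibleComponent a = irreducibleComponent b from congrArg Subtype.val hab]
        exact mem_irreducibleComponent
      rw [hsingle, Set.mem_singleton_iff] at ha hb
      rw [ha, hb]
    infer_instance
  have := (W.isOpen.isOpenEmbedding_subtypeVal.isOpenMap) _ (isOpen_discrete ({⟨_, hxW⟩} : Set ↥W))
  simpa using this

end Groth.Agent.S1608
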