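import Groth.Statements.S16081
import Groth.Agent.RefX.Reflexive
import Groth.Agent.S6875

set_option autoImplicit false
universe u
open CategoryTheory CategoryTheory.Limits AlgebraicGeometry TopologicalSpace
open SDiv

namespace Groth.Agent.S16081

/-- Let X be an integral locally Noetherian scheme and F, G coherent O_X-modules with G reflexive. Then
the sheaf Hom 𝓗om_{O_X}(F, G) is reflexive: its canonical map into its reflexive hull is an
isomorphism. -/
theorem result (X : Scheme.{u}) [IsIntegral X] [IsLocallyNoetherian X] (F G : X.Modules)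
    (hF : Coh.IsCoh F) (hG : Coh.IsCoh G) (hGr : RefHull.IsReflexive G) :
    RefHull.IsReflexive (RefHull.homSh F G) := by
  refine (Groth.Agent.RefX.isReflexive_iff (Groth.Agent.RefX.isCoh_homSh hF hG)).2 fun x => ?_
  haveI : IsDomain (X.presheaf.stalk x) := (IsFractionRing.injective (X.presheaf.stalk x) X.functionField).isDomain
  haveI := Groth.Agent.QCoh.finite_stalk_of_isFT hF.1 hF.2 x
  haveI := Groth.Agent.QCoh.finite_stalk_of_isFT hG.1 hG.2 x
  haveI : Module.IsReflexive (X.presheaf.stalk x) (G.presheaf.stalk x) :=
    (Groth.Agent.RefX.isReflexive_iff hG).1 hGr x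
  haveI := Groth.Agent.S6875.result (X.presheaf.stalk x) (F.presheaf.stalk x) (G.presheaf.stalk x)
  exact Module.equiv (LinearEquiv.ofBijective (RefHull.evalStalk F G x)
    (Groth.Agent.RefX.evalStalk_bijective (Groth.Agent.QCoh.isCoh_iff_isFP.1 hF) x)).symm

end Groth.Agent.S16081
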