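import Groth.Statements.S16084
import Groth.Agent.RefX.RankOne
-- import your own Groth.Agent.* helpers here

set_option autoImplicit false
universe u
open CategoryTheory CategoryTheory.Limits AlgebraicGeometry TopologicalSpace
open SDiv

namespace Groth.Agent.S16084

/-- Let X be an integral locally Noetherian normal scheme, F a rank one coherent reflexive O_X-module
and s a nonzero global section of F. Let Z be the set of points x at which multiplication by the
germ of s, O_{X,x} → F_x, fails to be bijective (the complement of the open where s generates F).
Then every irreducible component of Z has codimension 1 in X: at each point z of Z to which no other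
point of Z specializes, the local ring O_{X,z} has dimension 1. -/
theorem result (X : Scheme.{u}) [IsIntegral X] [IsLocallyNoetherian X]
    (hX : Pi1.IsNormalScheme X) (F : X.Modules) (hF : RefHull.IsRef1 F) (s : Γ(F, ⊤)) (hs : s ≠ 0) (z : ↥X)
    (hz : ¬ Function.Bijective fun a : ↑(X.presheaf.stalk z) => a • F.presheaf.germ ⊤ z trivial s)
    (hmax : ∀ y : ↥X, ¬ Function.Bijective (fun a : ↑(X.presheaf.stalk y) => a • F.presheaf.germ ⊤ y trivial s) →
      y ⤳ z → y = z) :
    ringKrullDim ↑(X.presheaf.stalk z) = 1 := by
  exact Groth.Agent.RefX.dim_eq_one_of_maximal hX hF s hs z hz hmax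

end Groth.Agent.S16084
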