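import Groth.Statements.S16085
import Groth.Agent.RefX.ClassGroup

set_option autoImplicit false
universe u
open CategoryTheory CategoryTheory.Limits AlgebraicGeometry TopologicalSpace
open SDiv

namespace Groth.Agent.S16085

/-- Let X be an integral locally Noetherian normal scheme. Sending (F, G) to the reflexive hull (F
⊗_{O_X} G)^** makes the isomorphism classes of rank one coherent reflexive O_X-modules into an
abelian group: on that set there are a commutative and associative composition law, a neutral
element and inverses, such that the product of the classes of F and G is the class of the reflexive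
hull of F ⊗_{O_X} G, the neutral element is the class of O_X, and the inverse of the class of F is
the class of its dual 𝓗om_{O_X}(F, O_X). -/
theorem result (X : Scheme.{u}) [IsIntegral X] [IsLocallyNoetherian X] (hX : Pi1.IsNormalScheme X) :
    ∃ (mul : {c : PicF.Cl X // ∃ F : X.Modules, PicF.cl F = c ∧ RefHull.IsRef1 F} →
          {c : PicF.Cl X // ∃ F : X.Modules, PicF.cl F = c ∧ RefHull.IsRef1 F} →
            {c : PicF.Cl X // ∃ F : X.Modules, PicF.cl F = c ∧ RefHull.IsRef1 F})
      (one : {c : PicF.Cl X // ∃ F : X.Modules, PicF.cl F = c ∧ RefHull.IsRef1 F})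
      (inv : {c : PicF.Cl X // ∃ F : X.Modules, PicF.cl F = c ∧ RefHull.IsRef1 F} →
          {c : PicF.Cl X // ∃ F : X.Modules, PicF.cl F = c ∧ RefHull.IsRef1 F}),
      (∀ a b, mul a b = mul b a) ∧ (∀ a b c, mul (mul a b) c = mul a (mul b c)) ∧ (∀ a, mul one a = a) ∧
        (∀ a, mul (inv a) a = one) ∧
        (∀ (F G : X.Modules) (hF : RefHull.IsRef1 F) (hG : RefHull.IsRef1 G),
          (mul ⟨PicF.cl F, F, rfl, hF⟩ ⟨PicF.cl G, G, rfl, hG⟩).1 = PicF.cl (RefHull.ddual (CohB1.tensorMod F G))) ∧
        one.1 = PicF.cl (Coh.structureModule X) ∧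
        (∀ (F : X.Modules) (hF : RefHull.IsRef1 F), (inv ⟨PicF.cl F, F, rfl, hF⟩).1 = PicF.cl (RefHull.dual F)) := by
  exact Groth.Agent.RefX.exists_group hX

end Groth.Agent.S16085
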