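import Groth.Statements.S16087
import Groth.Agent.RefX.Divisor

set_option autoImplicit false
universe u
open CategoryTheory CategoryTheory.Limits AlgebraicGeometry TopologicalSpace
open SDiv

namespace Groth.Agent.S16087

/-- The class map takes values in Weil divisor classes and is surjective: suppose X is a normal scheme
that is integral and locally Noetherian, and denote its generic point by η. For a rank one coherent
reflexive O_X-module F and a nonzero rational section s ∈ F_η write ord_{x,F}(s) for the order of s
with respect to a generator of the free rank one O_{X,x}-module F_x at a point x of codimension 1.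
Then (1) the function sending a codimension-1 point x to ord_{x,F}(s) and every other point to 0 has
locally finite support, so it is a Weil divisor; and (2) every Weil divisor D on X (an
integer-valued function with locally finite support vanishing outside the codimension-1 points)
arises this way: D(x) = ord_{x,F}(s) at all codimension-1 points x for some rank one coherent
reflexive F and nonzero s ∈ F_η. -/
theorem result (X : Scheme.{u}) [IsIntegral X] [IsLocallyNoetherian X]
    (hX : Pi1.IsNormalScheme X) :
    (∀ (F : X.Modules) (hF : RefHull.IsRef1 F) (s : Cyc.secFibre F (genericPoint ↥X)), s ≠ 0 →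
        ∃ D : AlgebraicCycle X ℤ, (∀ x : ↥X, Order.coheight x ≠ 1 → D x = 0) ∧
          ∀ (x : ↥X), Order.coheight x = 1 →
            D x = Cyc.secOrdAt F (genericPoint ↥X) x ((genericPoint_spec ↥X).specializes (Set.mem_univ x)) s) ∧
      ∀ D : AlgebraicCycle X ℤ, (∀ x : ↥X, Order.coheight x ≠ 1 → D x = 0) →
        ∃ (F : X.Modules) (_ : RefHull.IsRef1 F) (s : Cyc.secFibre F (genericPoint ↥X)), s ≠ 0 ∧
          ∀ (x : ↥X), Order.coheight x = 1 →
            D x = Cyc.secOrdAt F (genericPoint ↥X) x ((genericPoint_spec ↥X).specializes (Set.mem_univ x)) s := by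
  classical
  refine ⟨fun F hF s hs => ?_, fun D hD => ?_⟩
  · obtain ⟨v, rfl⟩ := Groth.Agent.RefX.clsη_surjective s
    refine ⟨⟨fun x => if Order.coheight x = 1 then Cyc.secOrdAt F (genericPoint ↥X) x
        ((genericPoint_spec ↥X).specializes (Set.mem_univ x)) (Groth.Agent.RefX.clsη F v) else 0,
      fun x _ => Set.mem_univ x, fun z _ => ?_⟩, fun x hx => if_neg hx, fun x hx => if_pos hx⟩
    obtain ⟨_, ⟨V, hV, rfl⟩, hzV, -⟩ := X.isBasis_affineOpens.exists_subset_of_mem_open (Set.mem_univ z) isOpen_univ
    refine ⟨V, V.2.mem_nhds hzV, (Groth.Agent.RefX.finite_secOrd (Groth.Agent.RefX.hasFrames_of_isRef1 hX hF)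
      (fun h => hs (Groth.Agent.RefX.clsη_eq_zero.2 h)) hV).subset fun x hx => ?_⟩
    obtain ⟨hxV, hx⟩ := hx
    rw [Function.mem_support] at hx
    by_cases h1 : Order.coheight x = 1
    · rw [if_pos h1] at hx
      exact ⟨hxV, h1, hx⟩
    · rw [if_neg h1] at hx
      exact absurd rfl hx
  · obtain ⟨F, hF, v, hv, h⟩ := Groth.Agent.RefX.exists_ref1_of_orders hX (fun x => D x) fun V hV => by
      choose t ht hfin using fun z => D.supportLocallyFiniteWithinDomain' z (Set.mem_univ z)
      obtain ⟨S, -, hS⟩ := hV.isCompact.elim_nhds_subcover t fun z _ => ht z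
      refine ((S.finite_toSet.biUnion fun z _ => hfin z).subset fun x hx => ?_)
      obtain ⟨z, hz, hxz⟩ := Set.mem_iUnion₂.1 (hS hx.1)
      exact Set.mem_iUnion₂.2 ⟨z, hz, hxz, hx.2.2⟩
    exact ⟨F, hF, Groth.Agent.RefX.clsη F v, fun h0 => hv (Groth.Agent.RefX.clsη_eq_zero.1 h0),
      fun x hx => (h x hx).symm⟩

end Groth.Agent.S16087
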