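import Groth.Statements.S1609
import Groth.Agent.GeomField.Components

set_option autoImplicit false
universe u
open CategoryTheory CategoryTheory.Limits AlgebraicGeometry
open Variety

namespace Groth.Agent.S1609

/-- Geometric irreducibility of a k-scheme can be checked after an arbitrary extension of the base
field. -/
theorem result (k : Type u) [Field k] (X : Scheme.{u}) [X.Over (Spec (CommRingCat.of k))] (k' : Type u) [Field k'] [Algebra k k']
    [GeometricallyIrreducible (Curv2.bcSnd k X k')] : GeometricallyIrreducible (X ↘ (Spec (CommRingCat.of k))) := by
  exact GeomField.geometricallyIrreducible_of_bc k' inferInstance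

end Groth.Agent.S1609
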