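import Groth.Statements.S16098
import Groth.Agent.FFLib.RR

set_option autoImplicit false
universe u
open AdFn

namespace Groth.Agent.S16098

open Groth.Agent

/-- Let `K/k` be a function field of one variable (every element having finitely many poles, so that the
diagonal `K → A_K` exists), `A_K = ∏'_v (K_v, O_v)` its adele ring over all places, and `S` a
nonempty set of places. (1) For every adele `a` some `f ∈ K` has `a_v - f ∈ O_v` at every place `v ∉
S`: `A_K` is the sum of the principal adeles and the adeles integral outside `S`. (2) An adele `b`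
with `b_v = 0` for `v ∉ S` is a principal adele plus an everywhere-integral adele exactly when some
`S`-integer `f ∈ K` has `b_v - f ∈ O_v` for every `v ∈ S`. (The published statement is for a curve
over an algebraically closed field, possibly singular; here it is stated for the places of a
function field `K/k` of one variable over any field `k` algebraically closed in `K`.) -/
theorem result (k K : Type u) [Field k] [Field K]
    [Algebra k K] (hK : FunFld.IsFunctionField k K) [AdFn.HasFinitePoles k K]
    (S : Set (FunFld.Place k K)) (hS : S.Nonempty) :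
    (∀ a : AdFn.AdeleRing k K, ∃ f : K, ∀ v : FunFld.Place k K, v ∉ S →
        AdFn.AdeleRing.proj v (a - AdFn.AdeleRing.diag f) ∈ AdFn.Ov v) ∧
    (∀ b : AdFn.AdeleRing k K, (∀ v : FunFld.Place k K, v ∉ S → AdFn.AdeleRing.proj v b = 0) →
        ((∃ f : K, ∀ v : FunFld.Place k K, AdFn.AdeleRing.proj v (b - AdFn.AdeleRing.diag f) ∈ AdFn.Ov v) ↔
          ∃ f ∈ AdFn.SInt S, ∀ v ∈ S, AdFn.AdeleRing.proj v b - AdFn.toKv v f ∈ AdFn.Ov v)) := by

  classical
  obtain ⟨P, hP⟩ := hS
  refine ⟨fun a => ?_, fun b hb => ?_⟩
  · have hdense : ∀ (v : FunFld.Place k K) (y : AdFn.Kv v), ∃ x : K, y - AdFn.toKv v x ∈ AdFn.Ov v := by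
      intro v y
      have ho : IsOpen {z : AdFn.Kv v | y - z ∈ AdFn.Ov v} :=
        (AdFn.isOpen_Ov v).preimage (continuous_const.sub continuous_id)
      obtain ⟨w, hw⟩ := (UniformSpace.Completion.denseRange_coe (α := WithVal v.1)).exists_mem_open ho
        ⟨y, by simp [zero_mem]⟩
      refine ⟨w.ofVal, ?_⟩
      rw [AdFn.toKv_apply]
      exact hw
    choose g hg using hdense
    let x : FunFld.Place k K → K := fun v =>
      if AdFn.AdeleRing.proj v a ∈ AdFn.Ov v then 0 else g v (AdFn.AdeleRing.proj v a)
    have hxa : ∀ v, AdFn.AdeleRing.proj v a - AdFn.toKv v (x v) ∈ AdFn.Ov v := by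
      intro v
      simp only [x]
      split_ifs with h
      · simpa using h
      · exact hg _ _
    have hmem : x ∈ FunFld.adele k K := by
      rw [FFLib.mem_adele]
      refine (Filter.eventually_cofinite.mp a.2).subset fun v hv hv' => hv ?_
      simp only [x]
      rw [if_pos (show AdFn.AdeleRing.proj v a ∈ AdFn.Ov v from hv'), map_zero]
      exact zero_le'
    have hdeg : ((FunFld.genus k K : ℤ) * 2 + 1) * P.deg > 2 * (FunFld.genus k K : ℤ) - 2 := by
      have := FFLib.deg_pos hK.1 P
      nlinarith
    have hE := FFLib.SD_eq_adele hK (E := Finsupp.single P ((FunFld.genus k K : ℤ) * 2 + 1)) (by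
      rw [FFLib.ell_of_deg_gt hK (by rw [FFLib.Divisor.deg_single]; linarith)]; ring)
    obtain ⟨b, hb, _, ⟨f, rfl⟩, hsum⟩ := Submodule.mem_sup.mp (hE.ge hmem)
    refine ⟨f, fun v hv => ?_⟩
    have hvP : v ≠ P := fun h => hv (h ▸ hP)
    have hbv : AdFn.toKv v (b v) ∈ AdFn.Ov v := by
      rw [AdFn.toKv_mem_Ov]
      refine (hb v).trans_eq ?_
      rw [Finsupp.single_eq_of_ne hvP, WithZero.exp_zero]
    have hxv : x v = b v + f := by
      have := congrFun hsum v
      rw [Pi.add_apply, FFLib.diag_apply] at this
      exact this.symm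
    have h2 : AdFn.AdeleRing.proj v (a - AdFn.AdeleRing.diag f) =
        (AdFn.AdeleRing.proj v a - AdFn.toKv v (x v)) + AdFn.toKv v (b v) := by
      rw [map_sub, AdFn.AdeleRing.proj_diag, hxv, map_add]; ring
    rw [h2]
    exact add_mem (hxa v) hbv
  · constructor
    · rintro ⟨f, hf⟩
      refine ⟨f, fun v hv => ?_, fun v _ => ?_⟩
      · have h := hf v
        rw [map_sub, AdFn.AdeleRing.proj_diag, hb v hv, zero_sub, neg_mem_iff] at h
        exact (AdFn.toKv_mem_Ov v f).1 h
      · simpa [map_sub, AdFn.AdeleRing.proj_diag] using hf v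
    · rintro ⟨f, hfS, hf⟩
      refine ⟨f, fun v => ?_⟩
      rw [map_sub, AdFn.AdeleRing.proj_diag]
      by_cases hv : v ∈ S
      · exact hf v hv
      · rw [hb v hv, zero_sub, neg_mem_iff]
        exact (AdFn.toKv_mem_Ov v f).2 (hfS v hv)

end Groth.Agent.S16098
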