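import Groth.Statements.S16099
import Groth.Agent.FFLib.RR

set_option autoImplicit false
open Groth.Agent
universe u
open FunFld

namespace Groth.Agent.S16099

/-- For a function field `K/k` of one variable of genus `g` and any place `P`, the `k`-space `K /
(O_{\{P\}} + O_P)` is finite-dimensional of dimension `g` (the number of Weierstrass gaps when `P`
is rational), where `O_{\{P\}}` is the ring of elements of `K` integral at every place other than
`P` and `O_P` is the valuation ring of `P` (written as the elements integral at every place outside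
the complement of `\{P\}`). (The published example is for a curve over an algebraically closed field
and is stated with completions at `P`; this is the equivalent form inside `K`, over any field `k`
algebraically closed in `K`.) -/
theorem result (k K : Type u) [Field k] [Field K]
    [Algebra k K] (hK : FunFld.IsFunctionField k K) (P : FunFld.Place k K) :
    FiniteDimensional k (K ⧸ (Subalgebra.toSubmodule (AdFn.SInt ({P} : Set (FunFld.Place k K))) ⊔
        Subalgebra.toSubmodule (AdFn.SInt (({P} : Set (FunFld.Place k K))ᶜ)))) ∧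
    Module.finrank k (K ⧸ (Subalgebra.toSubmodule (AdFn.SInt ({P} : Set (FunFld.Place k K))) ⊔
        Subalgebra.toSubmodule (AdFn.SInt (({P} : Set (FunFld.Place k K))ᶜ)))) = FunFld.genus k K := by
  classical
  have hF := hK.1
  have hmemA : ∀ x : K, (Pi.single P x : FunFld.Place k K → K) ∈ FunFld.adele k K := fun x => by
    rw [FFLib.mem_adele]
    refine (Set.finite_singleton P).subset fun Q hQ => ?_
    by_contra hne
    simp [Pi.single_eq_of_ne (Set.mem_singleton_iff.not.mp hne)] at hQ
  let s : K →ₗ[k] FunFld.adele k K := (LinearMap.single k (fun _ : FunFld.Place k K => K) P).codRestrict _ hmemA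
  let g := (Submodule.mkQ (FunFld.ADK (0 : FunFld.Divisor k K))).comp s
  have hker : LinearMap.ker g = Subalgebra.toSubmodule (AdFn.SInt ({P} : Set (FunFld.Place k K))) ⊔
      Subalgebra.toSubmodule (AdFn.SInt (({P} : Set (FunFld.Place k K))ᶜ)) := by
    ext x
    rw [LinearMap.mem_ker, LinearMap.comp_apply, Submodule.mkQ_apply, Submodule.Quotient.mk_eq_zero]
    show (Pi.single P x : FunFld.Place k K → K) ∈ FunFld.AD (0 : FunFld.Divisor k K) ⊔ LinearMap.range (FunFld.diag k K) ↔ _
    constructor
    · intro h
      obtain ⟨a, ha, _, ⟨z, rfl⟩, hsum⟩ := Submodule.mem_sup.mp h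
      have hP : a P + z = x := by
        have := congrFun hsum P
        rwa [Pi.add_apply, FFLib.diag_apply, Pi.single_eq_same] at this
      refine Submodule.mem_sup.mpr ⟨z, ?_, x - z, ?_, by ring⟩
      · intro Q hQ
        have h1 := congrFun hsum Q
        rw [Pi.add_apply, FFLib.diag_apply, Pi.single_eq_of_ne (show Q ≠ P from hQ), add_eq_zero_iff_eq_neg'] at h1
        rw [h1, Valuation.map_neg]
        simpa using ha Q
      · intro Q hQ
        obtain rfl : Q = P := not_not.mp hQ
        rw [← hP, add_sub_cancel_right]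
        simpa using ha Q
    · intro h
      obtain ⟨z, hz, w, hw, rfl⟩ := Submodule.mem_sup.mp h
      rw [← sub_add_cancel (Pi.single P (z + w) : FunFld.Place k K → K) (FunFld.diag k K z)]
      refine Submodule.add_mem_sup (fun Q => ?_) ⟨z, rfl⟩
      rw [Finsupp.zero_apply, WithZero.exp_zero, Pi.sub_apply, FFLib.diag_apply]
      rcases eq_or_ne Q P with rfl | hQ
      · rw [Pi.single_eq_same, add_sub_cancel_left]
        exact hw Q (fun h => h rfl)
      · rw [Pi.single_eq_of_ne hQ, zero_sub, Valuation.map_neg]
        exact hz Q hQ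
  have hsurj : Function.Surjective g := by
    intro q
    obtain ⟨⟨a, ha⟩, rfl⟩ := Submodule.mkQ_surjective _ q
    have hdeg : ((FunFld.genus k K : ℤ) * 2 + 1) * P.deg > 2 * (FunFld.genus k K : ℤ) - 2 := by
      have := FFLib.deg_pos hF P
      nlinarith
    have hE := FFLib.SD_eq_adele hK (E := Finsupp.single P ((FunFld.genus k K : ℤ) * 2 + 1)) (by
      rw [FFLib.ell_of_deg_gt hK (by rw [FFLib.Divisor.deg_single]; linarith)]; ring)
    obtain ⟨b, hb, _, ⟨z, rfl⟩, hsum⟩ := Submodule.mem_sup.mp (hE.ge ha)
    refine ⟨b P, (Submodule.Quotient.eq _).mpr ?_⟩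
    show (Pi.single P (b P) : FunFld.Place k K → K) - a ∈ FunFld.AD (0 : FunFld.Divisor k K) ⊔ LinearMap.range (FunFld.diag k K)
    rw [← hsum, show (Pi.single P (b P) : FunFld.Place k K → K) - (b + FunFld.diag k K z) =
      ((Pi.single P (b P) : FunFld.Place k K → K) - b) + FunFld.diag k K (-z) by rw [map_neg]; abel]
    refine Submodule.add_mem_sup (fun Q => ?_) ⟨_, rfl⟩
    rw [Finsupp.zero_apply, WithZero.exp_zero, Pi.sub_apply]
    rcases eq_or_ne Q P with rfl | hQ
    · simp
    · rw [Pi.single_eq_of_ne hQ, zero_sub, Valuation.map_neg]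
      refine (hb Q).trans_eq ?_
      rw [Finsupp.single_eq_of_ne hQ, WithZero.exp_zero]
  haveI := FFLib.ADK_finite hK (0 : FunFld.Divisor k K)
  rw [← hker]
  refine ⟨Module.Finite.equiv (g.quotKerEquivOfSurjective hsurj).symm, ?_⟩
  have h := FFLib.ADK_finrank hK (0 : FunFld.Divisor k K)
  rw [FFLib.ell_zero hK, FFLib.Divisor.deg_zero] at h
  rw [(g.quotKerEquivOfSurjective hsurj).finrank_eq]
  omega

end Groth.Agent.S16099
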