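import Groth.Statements.S16100
import Groth.Agent.S16099

set_option autoImplicit false
universe u
open AdFn

namespace Groth.Agent.S16100

open Groth.Agent

/-- For a function field `K/k` of one variable of genus `g` and any place `P` with completion `K_P` and
valuation ring `O_P ⊆ K_P`, the `k`-space `K_P / (O_{\{P\}} + O_P)`, where `O_{\{P\}} ⊆ K ⊆ K_P` is
the ring of elements of `K` integral at every place other than `P`, is finite-dimensional of
dimension `g` (the number of Weierstrass gaps when `P` is rational). (The published example is for a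
curve over an algebraically closed field; here any field `k` algebraically closed in `K` and any
place `P` are allowed.) -/
theorem result (k K : Type u) [Field k] [Field K]
    [Algebra k K] (hK : FunFld.IsFunctionField k K) (P : FunFld.Place k K) :
    FiniteDimensional k (AdFn.Kv P ⧸
        (Subalgebra.toSubmodule ((AdFn.SInt ({P} : Set (FunFld.Place k K))).map
            (IsScalarTower.toAlgHom k K (AdFn.Kv P))) ⊔
          Submodule.span k (AdFn.Ov P : Set (AdFn.Kv P)))) ∧
    Module.finrank k (AdFn.Kv P ⧸
        (Subalgebra.toSubmodule ((AdFn.SInt ({P} : Set (FunFld.Place k K))).map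
            (IsScalarTower.toAlgHom k K (AdFn.Kv P))) ⊔
          Submodule.span k (AdFn.Ov P : Set (AdFn.Kv P)))) = FunFld.genus k K := by

  classical
  obtain ⟨hfd, hfr⟩ := S16099.result k K hK P
  set A : Submodule k K := Subalgebra.toSubmodule (AdFn.SInt ({P} : Set (FunFld.Place k K))) with hA
  set B : Submodule k K := Subalgebra.toSubmodule (AdFn.SInt (({P} : Set (FunFld.Place k K))ᶜ)) with hB
  set M : Submodule k (AdFn.Kv P) := Subalgebra.toSubmodule ((AdFn.SInt ({P} : Set (FunFld.Place k K))).map
            (IsScalarTower.toAlgHom k K (AdFn.Kv P))) ⊔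
          Submodule.span k (AdFn.Ov P : Set (AdFn.Kv P)) with hM
  -- k maps into O_P
  have hk : ∀ c : k, algebraMap k (AdFn.Kv P) c ∈ AdFn.Ov P := fun c => by
    rw [IsScalarTower.algebraMap_apply k K (AdFn.Kv P)]
    exact (AdFn.toKv_mem_Ov P _).2 (P.2.1 c)
  have hspan : ∀ o : AdFn.Kv P, o ∈ Submodule.span k (AdFn.Ov P : Set (AdFn.Kv P)) → o ∈ AdFn.Ov P := by
    intro o ho
    induction ho using Submodule.span_induction with
    | mem x hx => exact hx
    | zero => exact zero_mem _
    | add x y _ _ hx hy => exact add_mem hx hy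
    | smul c x _ hx =>
      rw [Algebra.smul_def]
      exact mul_mem (hk c) hx
  -- density
  have hdense : ∀ a : AdFn.Kv P, ∃ x : K, a - AdFn.toKv P x ∈ AdFn.Ov P := by
    intro a
    have ho : IsOpen {y : AdFn.Kv P | a - y ∈ AdFn.Ov P} :=
      (AdFn.isOpen_Ov P).preimage (continuous_const.sub continuous_id)
    obtain ⟨w, hw⟩ := (UniformSpace.Completion.denseRange_coe (α := WithVal P.1)).exists_mem_open ho
      ⟨a, by simp [zero_mem]⟩
    refine ⟨w.ofVal, ?_⟩
    rw [AdFn.toKv_apply]
    exact hw
  let f : K →ₗ[k] (AdFn.Kv P ⧸ M) :=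
    M.mkQ.comp (IsScalarTower.toAlgHom k K (AdFn.Kv P)).toLinearMap
  have hsurj : Function.Surjective f := by
    intro q
    obtain ⟨a, rfl⟩ := Submodule.mkQ_surjective _ q
    obtain ⟨x, hx⟩ := hdense a
    refine ⟨x, (Submodule.Quotient.eq _).mpr ?_⟩
    refine Submodule.mem_sup_right ?_
    have : IsScalarTower.toAlgHom k K (AdFn.Kv P) x - a = -(a - AdFn.toKv P x) := by
      rw [neg_sub]; rfl
    show IsScalarTower.toAlgHom k K (AdFn.Kv P) x - a ∈ _
    rw [this]
    exact Submodule.subset_span (neg_mem hx)
  have hker : LinearMap.ker f = A ⊔ B := by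
    ext x
    rw [LinearMap.mem_ker, LinearMap.comp_apply, Submodule.mkQ_apply, Submodule.Quotient.mk_eq_zero]
    show IsScalarTower.toAlgHom k K (AdFn.Kv P) x ∈ M ↔ _
    constructor
    · intro h
      obtain ⟨u, hu, o, ho, hsum⟩ := Submodule.mem_sup.mp h
      obtain ⟨z, hz, rfl⟩ := hu
      refine Submodule.mem_sup.mpr ⟨z, hz, x - z, ?_, by ring⟩
      have hxz : AdFn.toKv P (x - z) ∈ AdFn.Ov P := by
        have : AdFn.toKv P (x - z) = o := by
          rw [map_sub]
          show IsScalarTower.toAlgHom k K (AdFn.Kv P) x - IsScalarTower.toAlgHom k K (AdFn.Kv P) z = o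
          rw [← hsum]
          simp
        rw [this]; exact hspan o ho
      intro Q hQ
      obtain rfl : Q = P := not_not.mp hQ
      exact (AdFn.toKv_mem_Ov Q _).1 hxz
    · intro h
      obtain ⟨z, hz, w, hw, rfl⟩ := Submodule.mem_sup.mp h
      rw [map_add]
      refine Submodule.add_mem_sup ⟨z, hz, rfl⟩ (Submodule.subset_span ?_)
      exact (AdFn.toKv_mem_Ov P w).2 (hw P (fun h => h rfl))
  haveI := hfd
  let e := (Submodule.quotEquivOfEq _ _ hker.symm).trans (f.quotKerEquivOfSurjective hsurj)
  exact ⟨Module.Finite.equiv e, e.finrank_eq.symm.trans hfr⟩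

end Groth.Agent.S16100
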