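import Groth.Statements.S16102
import Groth.Agent.CohPullX.EpiFibre

set_option autoImplicit false
universe u
open Coherent

namespace Groth.Agent.S16102
namespace Aux
open CategoryTheory CategoryTheory.Limits AlgebraicGeometry TopologicalSpace
open Groth.Agent
set_option backward.isDefEq.respectTransparency false
set_option backward.isDefEq.respectTransparency.types false

theorem free_nhd {X Y : Scheme.{u}} (π : X ⟶ Y) [IsProper π] [LocallyOfFinitePresentation π]
    [HasInjectiveResolutions X.Modules] (F : X.Modules) (hfp : CohB1.IsFP F) (hfl : FlatMod.IsFlatOver π F) (y : Y)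
    (h2 : Subsingleton (CohIII.fiberH π F y 2))
    (h0 : Epi (CohBC.bc0 π (Y.fromSpecResidueField y) (π.fiberToSpecResidueField y) (π.fiberι y) (π.fiber_fac y) F)) :
    ∃ (W : Y.Opens) (n : ℕ), y ∈ W ∧ Nonempty (((Coh.Rpush π 1).obj F).restrict W.ι ≅ FlatMod.freeMod (W : Scheme.{u}) n) := by
  obtain ⟨_, ⟨V, hV, rfl⟩, hy, -⟩ :=
    Y.isBasis_affineOpens.exists_subset_of_mem_open (Set.mem_univ y) isOpen_univ
  have hV' : IsAffineOpen V := hV
  obtain ⟨A₀, _, hA, φ, P, hP, X₀, _, F₀, gm, hp₀, hF₀, hP₀, hsq, ⟨em⟩⟩ := CohPullX.exists_isFpModel_data hfp hfl hV'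
  haveI := hp₀
  haveI := hA
  let PA := CohIII.bcCx φ P
  let xy : PrimeSpectrum Γ(Y, V) := hV'.primeIdealOf ⟨y, hy⟩
  have hfin : ∀ n, Module.Finite Γ(Y, V) (PA.X n) := QCoh.finite_bcCx_X_aux P φ hP.1
  have hfree : ∀ n, Module.Free Γ(Y, V) (PA.X n) := fun n =>
    (CohPullX.free_fp_bcCx_X P φ n (hP.1 n) (hP.2.1 n)).1
  have hflat : ∀ n, Module.Flat Γ(Y, V) (PA.X n) := fun n => @Module.Flat.of_free _ _ _ _ _ (hfree n)
  have h₁ := CohPullX.preservesEpi_locCx_of_epi hfp hfl hV' hP hF₀ hP₀ hsq em hy h0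
  rw [show (-((0 : ℕ) : ℤ)) = -((1 : ℕ) : ℤ) + 1 by norm_num] at h₁
  let x := CohPullX.modelPt φ hV' hy
  have hflA := FlatCxLib.flat_bcCx_X P hP.flat (B := Localization.AtPrime x.asIdeal)
  have hex₀ : (CohIII.TFun (QCoh.locCx P x) (-((1 : ℕ) : ℤ))).PreservesEpimorphisms :=
    (FlatCxLib.preservesEpi_iff_preservesMono hflA (show -((2 : ℕ) : ℤ) + 1 = -((1 : ℕ) : ℤ) by norm_num)).2
      (QCoh.isExactT_of_isZero (hP.zero_of_vanish (p := 2) hy h2)).1
  haveI : IsNoetherianRing (Localization.AtPrime x.asIdeal) :=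
    IsLocalization.isNoetherianRing x.asIdeal.primeCompl _ inferInstance
  haveI : Module.Flat (Localization.AtPrime x.asIdeal)
      (TensorProduct A₀ (Localization.AtPrime x.asIdeal) (FlatCxLib.Coker P (-((1 : ℕ) : ℤ)) (-((1 : ℕ) : ℤ) - 1))) :=
    (FlatCxLib.preservesEpi_bcCx_iff P hP.flat (by lia)).1 hex₀
  haveI := hP.1 (-((1 : ℕ) : ℤ) - 1)
  haveI : Module.FinitePresentation A₀ (FlatCxLib.Coker P (-((1 : ℕ) : ℤ)) (-((1 : ℕ) : ℤ) - 1)) :=
    Module.finitePresentation_of_finite _ _
  haveI : Module.Free (Localization.AtPrime x.asIdeal)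
      (TensorProduct A₀ (Localization.AtPrime x.asIdeal) (FlatCxLib.Coker P (-((1 : ℕ) : ℤ)) (-((1 : ℕ) : ℤ) - 1))) :=
    Module.free_of_flat_of_isLocalRing
  obtain ⟨r, hr, hK⟩ := CohPullX.exists_free_away (FlatCxLib.Coker P (-((1 : ℕ) : ℤ)) (-((1 : ℕ) : ℤ) - 1)) x
  -- right exactness over the local ring of the affine open
  let L := Localization.AtPrime xy.asIdeal
  have hu : IsUnit ((algebraMap Γ(Y, V) L).comp φ r) :=
    IsLocalization.map_units L (⟨φ r, fun hm => hr hm⟩ : xy.asIdeal.primeCompl)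
  let E : CohIII.bcCx ((algebraMap Γ(Y, V) L).comp φ) P ≅ QCoh.locCx PA xy :=
    HomologicalComplex.Hom.isoOfComponents
      (fun n => (ModuleCat.extendScalarsComp φ (algebraMap Γ(Y, V) L)).app (P.X n))
      (fun a b _ => ((ModuleCat.extendScalarsComp φ (algebraMap Γ(Y, V) L)).hom.naturality (P.d a b)).symm)
  have h₀ : (CohIII.TFun (QCoh.locCx PA xy) (-((1 : ℕ) : ℤ))).PreservesEpimorphisms := by
    refine CohPullX.preservesEpi_of_forget_iso (Functor.isoWhiskerRight (QCoh.tfunMapIso E _) _) ?_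
    letI := ((algebraMap Γ(Y, V) L).comp φ).toAlgebra
    obtain ⟨eK⟩ := hK L hu
    exact (FlatCxLib.preservesEpi_bcCx_iff P (B := L) hP.flat (by lia)).2 (Module.Flat.of_linearEquiv eK)
  obtain ⟨r', hr', n, hn⟩ := CohPullX.exists_free_homology_bc' PA hfin hfree xy _ h₀ h₁
  have hyW : y ∈ Y.basicOpen r' := (QCoh.mem_basicOpen_iff_notMem hV' hy _).2 hr'
  let W := Y.basicOpen r'
  let ψ := (Y.presheaf.map (homOfLE (Y.basicOpen_le r')).op).hom
  obtain ⟨l₂⟩ := hn _ ψ (Y.toRingedSpace.isUnit_res_basicOpen r')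
  obtain ⟨l₁⟩ := hP.2.2.2.2.1 W (Y.basicOpen_le r') (hV'.basicOpen _) 1
  let E' : CohIII.bcCx (ψ.comp φ) P ≅ CohIII.bcCx ψ PA :=
    HomologicalComplex.Hom.isoOfComponents
      (fun n => (ModuleCat.extendScalarsComp φ ψ).app (P.X n))
      (fun a b _ => ((ModuleCat.extendScalarsComp φ ψ).hom.naturality (P.d a b)).symm)
  exact ⟨W, n, hyW, QCoh.exists_free_restrict (QCoh.isQCoh_Rpush π (QCoh.isQCoh_of_isFP hfp) 1) (hV'.basicOpen _)
    (l₁.trans (((HomologicalComplex.homologyFunctor _ _ (-((1 : ℕ) : ℤ))).mapIso E').toLinearEquiv.trans l₂))⟩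

end Aux


open AlgebraicGeometry CategoryTheory Scheme.Modules in
/-- p = 2: let π : X → Y be proper of finite presentation and F a quasi-coherent O_X-module of finite
presentation, flat over Y. Suppose that for every point y of Y, H^2(X_y, F|_{X_y}) = 0 (cohomology
of the restriction of F to the scheme-theoretic fibre) and the degree-0 base change map of the fibre
square at y, κ(y)^* π_* F → (X_y → Spec κ(y))_* (F|_{X_y}) — the adjoint of π_* of the unit F → ι_*
ι^* F for ι : X_y → X, followed by the identification π_* ι_* = (Spec κ(y) → Y)_* (X_y → Spec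
κ(y))_* — is an epimorphism. Then R^1 π_* F, the first right derived functor of π_* on O_X-modules
applied to F, is a finite locally free O_Y-module. (The case p = 2 of the source's statement for an
integer p, whose surjectivity hypothesis in degree p - 2 concerns a higher base change map when p is
at least 3 and is empty when p is at most 1.) -/
theorem result
    {X Y : Scheme.{u}} (π : X ⟶ Y) [IsProper π] [LocallyOfFinitePresentation π]
    [HasInjectiveResolutions X.Modules]
    (F : X.Modules) [Coh.IsQCoh F] (hfp : CohB1.IsFP F) (hfl : FlatMod.IsFlatOver π F)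
    (h2 : ∀ y : Y, Subsingleton (CohIII.fiberH π F y 2))
    (h0 : ∀ y : Y, Epi (((pullbackPushforwardAdjunction (Y.fromSpecResidueField y)).homEquiv ((pushforward π).obj F)
            ((pushforward (π.fiberToSpecResidueField y)).obj ((pullback (π.fiberι y)).obj F))).symm
          ((pushforward π).map ((pullbackPushforwardAdjunction (π.fiberι y)).unit.app F) ≫
            (pushforwardComp (π.fiberι y) π).hom.app ((pullback (π.fiberι y)).obj F) ≫
            (pushforwardCongr (π.fiber_fac y)).hom.app ((pullback (π.fiberι y)).obj F) ≫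
            (pushforwardComp (π.fiberToSpecResidueField y) (Y.fromSpecResidueField y)).inv.app ((pullback (π.fiberι y)).obj F)))) :
    FlatMod.IsFinLocFree ((Coh.Rpush π 1).obj F) := by
  intro y
  obtain ⟨W, n, hW, e⟩ := Aux.free_nhd π F hfp hfl y (h2 y) (h0 y)
  exact ⟨W, n, hW, e⟩

end Groth.Agent.S16102
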