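import Groth.Statements.S16104
import Mathlib.RingTheory.Length
import Mathlib.RingTheory.HopkinsLevitzki
import Mathlib.RingTheory.LocalRing.Quotient
-- import your own Groth.Agent.* helpers here

set_option autoImplicit false
universe u v
open LunaSt

namespace Groth.Agent.S16104

/-- Case of local rings. Let φ : A → B be a local homomorphism of Noetherian local rings whose composite
A → B/m_B² is surjective (the first infinitesimal neighbourhoods give a closed immersion), and
assume that A/m_A^(n+1) and B/m_B^(n+1) have the same length for every n (the associated graded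
modules of the two maximal ideals have pieces of the same dimension over the common residue field).
Then for every n the composite A → B/m_B^(n+1) is surjective with kernel m_A^(n+1): φ identifies all
infinitesimal neighbourhoods. (The published statement is for a pointed morphism of Noetherian local
algebraic stacks; its proof reduces to this case of local rings.) -/
theorem result
    (A : Type u) (B : Type v) [CommRing A] [CommRing B] [IsLocalRing A] [IsLocalRing B]
    [IsNoetherianRing A] [IsNoetherianRing B] (φ : A →+* B) [IsLocalHom φ]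
    (h1 : Function.Surjective ((Ideal.Quotient.mk (IsLocalRing.maximalIdeal B ^ 2)).comp φ))
    (hlen : ∀ n : ℕ, Module.length A (A ⧸ IsLocalRing.maximalIdeal A ^ (n + 1)) =
      Module.length B (B ⧸ IsLocalRing.maximalIdeal B ^ (n + 1))) (n : ℕ) :
    Function.Surjective ((Ideal.Quotient.mk (IsLocalRing.maximalIdeal B ^ (n + 1))).comp φ) ∧
      RingHom.ker ((Ideal.Quotient.mk (IsLocalRing.maximalIdeal B ^ (n + 1))).comp φ) =
        IsLocalRing.maximalIdeal A ^ (n + 1) := by
  set mA := IsLocalRing.maximalIdeal A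
  set mB := IsLocalRing.maximalIdeal B
  letI : Algebra A B := φ.toAlgebra
  have hmap : mA.map φ ≤ mB := ((IsLocalRing.local_hom_TFAE φ).out 0 2).mp ‹_›
  have hsq : ∀ b : B, ∃ a : A, b - φ a ∈ mB ^ 2 := fun b => by
    obtain ⟨a, ha⟩ := h1 (Ideal.Quotient.mk _ b)
    exact ⟨a, Ideal.Quotient.eq.mp ha.symm⟩
  -- approximation in each degree
  have hpow : ∀ j : ℕ, ∀ b ∈ mB ^ j, ∃ a ∈ mA ^ j, b - φ a ∈ mB ^ (j + 1) := by
    intro j
    induction j with
    | zero =>
      intro b _
      obtain ⟨a, ha⟩ := hsq b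
      exact ⟨a, by simp, Ideal.pow_le_pow_right (by omega) ha⟩
    | succ j ih =>
      intro b hb
      rw [pow_succ] at hb
      induction hb using Submodule.mul_induction_on' with
      | add x _ y _ hx hy =>
        obtain ⟨a, ha, hxa⟩ := hx
        obtain ⟨c, hc, hyc⟩ := hy
        exact ⟨a + c, Ideal.add_mem _ ha hc, by rw [map_add, add_sub_add_comm]; exact Ideal.add_mem _ hxa hyc⟩
      | mem_mul_mem x hx y hy =>
        obtain ⟨a, ha, hxa⟩ := ih x hx
        obtain ⟨c, hyc⟩ := hsq y
        have hφc : φ c ∈ mB := by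
          have h := mB.sub_mem hy (Ideal.pow_le_self two_ne_zero hyc)
          rwa [sub_sub_cancel] at h
        have hc : c ∈ mA := (IsLocalRing.mem_maximalIdeal _).mpr fun hu => hφc (hu.map φ)
        refine ⟨a * c, pow_succ mA j ▸ Ideal.mul_mem_mul ha hc, ?_⟩
        rw [map_mul, show x * y - φ a * φ c = (x - φ a) * y + φ a * (y - φ c) by ring]
        refine Ideal.add_mem _ (pow_succ mB (j + 1) ▸ Ideal.mul_mem_mul hxa hy) ?_
        rw [show j + 1 + 1 = j + 2 from rfl, pow_add]
        have hφa : φ a ∈ mB ^ j := Ideal.map_le_iff_le_comap.mp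
          (le_of_eq_of_le (Ideal.map_pow φ mA j) (Ideal.pow_right_mono hmap j)) ha
        exact Ideal.mul_mem_mul hφa hyc
  have hsurj : ∀ j : ℕ, ∀ b : B, ∃ a : A, b - φ a ∈ mB ^ j := by
    intro j
    induction j with
    | zero => exact fun b => ⟨0, by simp⟩
    | succ j ih =>
      intro b
      obtain ⟨a, ha⟩ := ih b
      obtain ⟨c, -, hc⟩ := hpow j _ ha
      exact ⟨a + c, by rw [map_add, ← sub_sub]; exact hc⟩
  have hs : Function.Surjective ((Ideal.Quotient.mk (mB ^ (n + 1))).comp φ) := fun z => by
    obtain ⟨b, rfl⟩ := Ideal.Quotient.mk_surjective z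
    obtain ⟨a, ha⟩ := hsurj (n + 1) b
    exact ⟨a, (Ideal.Quotient.eq.mpr ha).symm⟩
  refine ⟨hs, ?_⟩
  set K := RingHom.ker ((Ideal.Quotient.mk (mB ^ (n + 1))).comp φ)
  have hle : mA ^ (n + 1) ≤ K := fun a ha => by
    rw [RingHom.mem_ker, RingHom.comp_apply, Ideal.Quotient.eq_zero_iff_mem]
    exact (Ideal.map_le_iff_le_comap.mp (le_of_eq_of_le (Ideal.map_pow φ mA _) (Ideal.pow_right_mono hmap _))) ha
  let π : (A ⧸ mA ^ (n + 1)) →ₗ[A] B ⧸ mB ^ (n + 1) :=
    (mA ^ (n + 1)).liftQ (((Ideal.Quotient.mkₐ A (mB ^ (n + 1))).toLinearMap).comp (Algebra.linearMap A B))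
      fun a ha => hle ha
  have hπ : Function.Surjective π := fun z => by
    obtain ⟨a, ha⟩ := hs z
    exact ⟨Submodule.Quotient.mk a, ha⟩
  have hex : Function.Exact (LinearMap.ker π).subtype π := LinearMap.exact_subtype_ker_map π
  have hl := Module.length_eq_add_of_exact _ _ (Submodule.injective_subtype _) hπ hex
  have hA : Module.length A (B ⧸ mB ^ (n + 1)) = Module.length B (B ⧸ mB ^ (n + 1)) :=
    (Module.length_eq_of_surjective (R := B ⧸ mB ^ (n + 1)) (S := A) hs).trans
      (Module.length_eq_of_surjective (R := B ⧸ mB ^ (n + 1)) (S := B) Ideal.Quotient.mk_surjective).symm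
  have hfin : Module.length B (B ⧸ mB ^ (n + 1)) ≠ ⊤ := by
    haveI : Nontrivial (B ⧸ mB ^ (n + 1)) :=
      Ideal.Quotient.nontrivial_iff.mpr fun h => (IsLocalRing.maximalIdeal.isMaximal B).ne_top
        (top_le_iff.mp (h ▸ Ideal.pow_le_self (Nat.succ_ne_zero n)))
    haveI : IsLocalRing (B ⧸ mB ^ (n + 1)) := IsLocalRing.of_surjective' _ Ideal.Quotient.mk_surjective
    haveI : IsNoetherianRing (B ⧸ mB ^ (n + 1)) := isNoetherianRing_of_surjective B _ (Ideal.Quotient.mk _) Ideal.Quotient.mk_surjective
    haveI : IsArtinianRing (B ⧸ mB ^ (n + 1)) := by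
      rw [isArtinianRing_iff_isNilpotent_maximalIdeal]
      refine ⟨n + 1, ?_⟩
      rw [← IsLocalRing.map_maximalIdeal_of_surjective _ Ideal.Quotient.mk_surjective, ← Ideal.map_pow, Ideal.map_quotient_self]
      rfl
    rw [Module.length_eq_of_surjective (R := B ⧸ mB ^ (n + 1)) (S := B) Ideal.Quotient.mk_surjective]
    exact Module.length_ne_top
  rw [hlen n, hA] at hl
  have h0 : Module.length A (LinearMap.ker π) = 0 :=
    WithTop.add_right_cancel hfin (hl.symm.trans (zero_add _).symm)
  have hker : LinearMap.ker π = ⊥ := Submodule.subsingleton_iff_eq_bot.mp (Module.length_eq_zero_iff.mp h0)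
  refine le_antisymm (fun a ha => ?_) hle
  have : (Submodule.Quotient.mk a : A ⧸ mA ^ (n + 1)) ∈ LinearMap.ker π := ha
  rw [hker, Submodule.mem_bot, Submodule.Quotient.mk_eq_zero] at this
  exact this

end Groth.Agent.S16104
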