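import Groth.Agent.LunaFT.Complete
import Groth.Statements.S16105
-- import your own Groth.Agent.* helpers here

set_option autoImplicit false
universe u v w w'
open LunaSt

namespace Groth.Agent.S16105

/-- The key claim of its proof. Let k be a field and H a commutative Hopf algebra of finite type over k
all of whose finite-dimensional comodules are semisimple (a linearly reductive affine group G = Spec
H). Let A be a Noetherian commutative k-algebra with a coaction of H that is an algebra map (an
action of G on Spec A), let m be a maximal ideal of A stable under the coaction (for instance the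
ideal of a closed point fixed by G), and assume that the ring of invariants A^G is a Noetherian
local ring, complete with respect to its maximal ideal. Let M be a finite A-module with a compatible
H-coaction (a coherent G-module on Spec A). Then (i) an invariant element of M which lies in m^n M
for every n is zero, and (ii) for every sequence of invariants x_0, x_1, … with x_(n+1) − x_n ∈ m^n
M there is an invariant x with x − x_n ∈ m^n M for all n. In other words M^G → lim_n M^G/(m^n M)^G
is bijective: the m-adic filtration and the filtration by powers of the maximal ideal of A^G induce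
the same topology on M^G. (The ring of invariants is assumed Noetherian here; this also follows from
linear reductivity.) -/
theorem result
    (k : Type u) [Field k] (H : Type v) [CommRing H] [HopfAlgebra k H] [Algebra.FiniteType k H]
    (hG : HopfRep.IsLinearlyReductive k H)
    (A : Type w) [CommRing A] [Algebra k A] [IsNoetherianRing A]
    [HopfRep.Comod k H A] [GLin.IsCoactAlg k H A]
    (m : Ideal A) [m.IsMaximal] (hm : HopfRep.IsSubcomod (k := k) (A := H) (m.restrictScalars k))
    [IsLocalRing ↥(GLin.invariants k H A)] [IsNoetherianRing ↥(GLin.invariants k H A)]
    [IsAdicComplete (IsLocalRing.maximalIdeal ↥(GLin.invariants k H A)) ↥(GLin.invariants k H A)]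
    (M : Type w') [AddCommGroup M] [Module k M] [Module A M] [IsScalarTower k A M] [Module.Finite A M]
    [HopfRep.Comod k H M] [TameAct.IsHopfMod k H A M] :
    (∀ x ∈ HopfRep.fixedPts k H M, (∀ n : ℕ, x ∈ (m ^ n • ⊤ : Submodule A M)) → x = 0) ∧
      ∀ x : ℕ → M, (∀ n, x n ∈ HopfRep.fixedPts k H M) →
        (∀ n, x (n + 1) - x n ∈ (m ^ n • ⊤ : Submodule A M)) →
          ∃ y ∈ HopfRep.fixedPts k H M, ∀ n, y - x n ∈ (m ^ n • ⊤ : Submodule A M) := by
  obtain ⟨α, hα, h1⟩ := Groth.Agent.ComodLib.exists_integral_of_isLinearlyReductive hG
  exact ⟨fun x hx h => Groth.Agent.LunaFT.separated m hm hα h1 hx h,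
    fun x hx hd => Groth.Agent.LunaFT.complete m hm hα h1 x hx hd⟩

end Groth.Agent.S16105
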