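import Groth.Statements.S16106
import Groth.Agent.PopescuLib.Functor
import Groth.Agent.PopescuLib.LocalCompletion
import Groth.Agent.PopescuLib.Noetherian

set_option autoImplicit false
universe u
open CategoryTheory CategoryTheory.Limits
open LunaSt

namespace Groth.Agent.S16106

/-- Local form. Let A be a local G-ring, that is a Noetherian local ring all of whose local rings have
regular completion maps (for instance an excellent local ring), with maximal ideal m and m-adic
completion Â. Let F be a functor from A-algebras (commutative rings under A) to sets preserving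
filtered colimits, let ξ ∈ F(Â) and N ≥ 0. Then there exist an étale A-algebra A′, a map of
A-algebras φ : A′ → A/m^(N+1) (an étale neighbourhood of the closed point with trivial residue field
extension) and ξ′ ∈ F(A′) such that ξ′ and ξ have the same image in F(A/m^(N+1)); here π is the
A-algebra map Â → A/m^(N+1), pinned by its underlying ring map. (The published statement is for any
point of the spectrum of a G-ring, with a functor locally of finite presentation on all schemes over
it; its proof first localizes at the point, and only the values of the functor on affine schemes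
enter, so the row states this local form for a functor on A-algebras preserving filtered colimits.) -/
theorem result (A : Type u) [CommRing A] [IsLocalRing A]
    (hG : CAlg.IsGRing A)
    (F : Under (CommRingCat.of A) ⥤ Type u)
    (hF : ∀ (J : Type u) [SmallCategory J] [IsFiltered J], PreservesColimitsOfShape J F)
    (N : ℕ)
    (π : Under.mk (CommRingCat.ofHom (algebraMap A
        (AdicCompletion (IsLocalRing.maximalIdeal A) A))) ⟶
      Under.mk (CommRingCat.ofHom (algebraMap A (A ⧸ IsLocalRing.maximalIdeal A ^ (N + 1)))))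
    (hπ : π.right = CommRingCat.ofHom
      (AdicCompletion.evalₐ (IsLocalRing.maximalIdeal A) (N + 1) :
        AdicCompletion (IsLocalRing.maximalIdeal A) A →ₐ[A]
          A ⧸ IsLocalRing.maximalIdeal A ^ (N + 1)).toRingHom)
    (ξ : F.obj (Under.mk (CommRingCat.ofHom (algebraMap A
        (AdicCompletion (IsLocalRing.maximalIdeal A) A))))) :
    ∃ (A' : Type u) (_ : CommRing A') (_ : Algebra A A') (_ : Algebra.Etale A A')
      (φ : Under.mk (CommRingCat.ofHom (algebraMap A A')) ⟶
        Under.mk (CommRingCat.ofHom (algebraMap A (A ⧸ IsLocalRing.maximalIdeal A ^ (N + 1)))))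
      (ξ' : F.obj (Under.mk (CommRingCat.ofHom (algebraMap A A')))),
      F.map φ ξ' = F.map π ξ := by
  classical
  haveI : IsNoetherianRing A := hG.1
  let I := IsLocalRing.maximalIdeal A
  haveI := PopescuLib.noetherian_completion I
  obtain ⟨P, _, _, hP, f, ξ₀, key⟩ := PopescuLib.exists_approx_element I (N + 1) F hF π hπ ξ
  obtain ⟨k, θ, hθ, hker⟩ := Algebra.FinitePresentation.out (R := A) (A := P)
  obtain ⟨l, r, hr⟩ := Submodule.fg_iff_exists_fin_generating_family.1 hker
  obtain ⟨A', _, _, hA', ψ, p', -, -, -, -, b, hb, hbN⟩ := PopescuLib.exists_etale_solution (R := A) (L := A)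
    (PopescuLib.indSmooth_of_isRegularHom (PopescuLib.isRegularHom_completion_of_isGRing hG))
    (fun l x => ⟨A, inferInstance, inferInstance, inferInstance, AlgHom.id A A, x, fun _ => rfl⟩) r
    (fun j => f (θ (MvPolynomial.X j))) (fun i => by
      have h1 : θ (r i) = 0 := by
        have : r i ∈ RingHom.ker θ.toRingHom := hr ▸ Submodule.subset_span ⟨i, rfl⟩
        exact this
      show MvPolynomial.aeval ((f.comp θ) ∘ MvPolynomial.X) (r i) = 0
      rw [← MvPolynomial.aeval_unique (f.comp θ), AlgHom.comp_apply, h1, map_zero]) (N + 1)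
  let β₀ : MvPolynomial (Fin k) A →ₐ[A] A' := MvPolynomial.aeval b
  let β₁ : P →ₐ[A] A' := AlgHom.liftOfSurjective θ hθ β₀ (by
    intro y hy
    refine (Ideal.span_le.2 ?_ : Ideal.span (Set.range r) ≤ RingHom.ker β₀) ((SetLike.ext_iff.1 hr y).2 hy)
    rintro _ ⟨i, rfl⟩
    exact hb i)
  let φ₁ : A' →ₐ[A] A ⧸ I ^ (N + 1) := (AdicCompletion.evalₐ I (N + 1)).comp ψ
  let φ : Under.mk (CommRingCat.ofHom (algebraMap A A')) ⟶
      Under.mk (CommRingCat.ofHom (algebraMap A (A ⧸ I ^ (N + 1)))) :=
    Under.homMk (CommRingCat.ofHom φ₁.toRingHom) (by ext y; exact φ₁.commutes y)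
  let β : Under.mk (CommRingCat.ofHom (algebraMap A P)) ⟶ Under.mk (CommRingCat.ofHom (algebraMap A A')) :=
    Under.homMk (CommRingCat.ofHom β₁.toRingHom) (by ext y; exact β₁.commutes y)
  refine ⟨A', inferInstance, inferInstance, hA', φ, F.map β ξ₀, key A' _ φ β fun y => ?_⟩
  obtain ⟨y, rfl⟩ := hθ y
  show φ₁ (β₁ (θ y)) = _
  rw [show β₁ (θ y) = β₀ y from AlgHom.liftOfSurjective_apply θ hθ _ _ y]
  have h1 : φ₁.comp β₀ = ((AdicCompletion.evalₐ I (N + 1)).comp f).comp θ := MvPolynomial.algHom_ext fun j => by
    simp only [AlgHom.comp_apply, β₀, φ₁, MvPolynomial.aeval_X]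
    have h2 : AdicCompletion.evalₐ I (N + 1) (f (θ (MvPolynomial.X j)) - ψ (b j)) = 0 :=
      (Ideal.map_le_iff_le_comap.2 (fun z hz => by
        show AdicCompletion.evalₐ I (N + 1) (algebraMap A _ z) = 0
        rw [AlgHom.commutes]; exact Ideal.Quotient.eq_zero_iff_mem.2 hz) :
        (I ^ (N + 1)).map (algebraMap A (AdicCompletion I A)) ≤ RingHom.ker (AdicCompletion.evalₐ I (N + 1))) (hbN j)
    rw [map_sub, sub_eq_zero] at h2
    exact h2.symm
  exact AlgHom.congr_fun h1 y

end Groth.Agent.S16106
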