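import Groth.Statements.S16113
import Groth.Agent.S0215
import Mathlib.LinearAlgebra.FreeModule.PID
import Mathlib.FieldTheory.IsAlgClosed.Basic
import Mathlib.FieldTheory.Minpoly.Field
import Mathlib.GroupTheory.FiniteAbelian.Basic


set_option autoImplicit false
universe u
open CategoryTheory MonoidalCategory CartesianMonoidalCategory MonObj GrpObj AlgebraicGeometry CategoryTheory.Limits
open AlgGrp

namespace Groth.Agent.S16113

/-- Over an algebraically closed field k, let X be an irreducible variety (an integral separated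
k-scheme of finite type) and R = Γ(X, O_X). Then the quotient of the unit group R^× by the subgroup
k^× of nonzero constants is a free abelian group of finite rank: for some n there is a surjective
group homomorphism from R^× onto ℤⁿ (written multiplicatively) whose kernel is exactly the image of
k^× under the structure map k → R. -/
theorem result (k : Type u) [Field k] [IsAlgClosed k]
    (X : Over (Spec (CommRingCat.of k))) [IsIntegral X.left] [IsSeparated X.hom] [LocallyOfFiniteType X.hom] [QuasiCompact X.hom] :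
    ∃ (n : ℕ) (v : (Γ(X.left, ⊤))ˣ →* Multiplicative (Fin n → ℤ)), Function.Surjective v ∧
      v.ker = (Units.map (((Scheme.ΓSpecIso (CommRingCat.of k)).inv ≫ X.hom.appTop).hom : k →* Γ(X.left, ⊤))).range := by
  classical
  let φ : k →+* Γ(X.left, ⊤) := X.hom.appTop.hom.comp (Scheme.ΓSpecIso (CommRingCat.of k)).inv.hom
  letI : Algebra k Γ(X.left, ⊤) := φ.toAlgebra
  haveI : Nonempty ↥(⊤ : X.left.Opens) := ⟨⟨Classical.arbitrary X.left, trivial⟩⟩
  haveI : IsDomain Γ(X.left, ⊤) := inferInstanceAs (IsDomain Γ(X.left, ⊤))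
  haveI : CompactSpace X.left := (quasiCompact_iff_compactSpace X.hom).mp inferInstance
  haveI : IsLocallyNoetherian X.left := LocallyOfFiniteType.isLocallyNoetherian X.hom
  haveI : IsNoetherian X.left := {}
  have hint : ∀ x : Γ(X.left, ⊤), φ.IsIntegralElem x → x ∈ Set.range φ := fun x hx => by
    have hx' : IsIntegral k x := hx
    exact minpoly.mem_range_of_degree_eq_one k x
      (IsAlgClosed.degree_eq_one_of_irreducible k (minpoly.irreducible hx'))
  let N := (Units.map (φ : k →* Γ(X.left, ⊤))).range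
  letI : CommGroup ((Γ(X.left, ⊤))ˣ ⧸ N) := QuotientGroup.Quotient.commGroup N
  haveI hfg : Group.FG ((Γ(X.left, ⊤))ˣ ⧸ N) :=
    Groth.Agent.S0215.result k X.left X.hom (TopologicalSpace.NoetherianSpace.finite_irreducibleComponents) hint
  haveI : IsMulTorsionFree ((Γ(X.left, ⊤))ˣ ⧸ N) := ⟨fun m hm a b hab => by
    obtain ⟨u, rfl⟩ := QuotientGroup.mk_surjective a
    obtain ⟨w, rfl⟩ := QuotientGroup.mk_surjective b
    simp only [← QuotientGroup.mk_pow] at hab
    rw [QuotientGroup.eq] at hab ⊢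
    rw [← inv_pow, ← mul_pow] at hab
    obtain ⟨c, hc⟩ := hab
    obtain ⟨d, hd⟩ := hint ((u⁻¹ * w : (Γ(X.left, ⊤))ˣ) : Γ(X.left, ⊤))
      ⟨Polynomial.X ^ m - Polynomial.C (c : k), Polynomial.monic_X_pow_sub_C _ hm, by
        rw [Polynomial.eval₂_sub, Polynomial.eval₂_X_pow, Polynomial.eval₂_C, sub_eq_zero, ← Units.val_pow_eq_pow_val, ← hc]
        rfl⟩
    have hd0 : d ≠ 0 := fun h => (u⁻¹ * w).ne_zero (by rw [← hd, h, map_zero])
    exact ⟨Units.mk0 d hd0, Units.ext hd⟩⟩
  haveI : Module.Finite ℤ (Additive ((Γ(X.left, ⊤))ˣ ⧸ N)) :=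
    Module.Finite.iff_addGroup_fg.mpr (GroupFG.iff_add_fg.mp hfg)
  let e := (Module.Free.chooseBasis ℤ (Additive ((Γ(X.left, ⊤))ˣ ⧸ N))).reindex
    (Fintype.equivFin (Module.Free.ChooseBasisIndex ℤ (Additive ((Γ(X.left, ⊤))ˣ ⧸ N))))
  let E : ((Γ(X.left, ⊤))ˣ ⧸ N) ≃* Multiplicative (Fin _ → ℤ) :=
    AddEquiv.toMultiplicativeRight e.equivFun.toAddEquiv
  refine ⟨_, E.toMonoidHom.comp (QuotientGroup.mk' N), E.surjective.comp (QuotientGroup.mk'_surjective N), ?_⟩
  have hE : E.toMonoidHom.ker = ⊥ := (MonoidHom.ker_eq_bot_iff E.toMonoidHom).mpr E.injective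
  rw [← MonoidHom.comap_ker, hE, MonoidHom.comap_bot, QuotientGroup.ker_mk']
  rfl


end Groth.Agent.S16113
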