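import Groth.Statements.S16114
import Groth.Agent.GrpSchLib.UnitsScheme


set_option autoImplicit false
universe u
open CategoryTheory MonoidalCategory CartesianMonoidalCategory MonObj GrpObj AlgebraicGeometry CategoryTheory.Limits
open AlgGrp

namespace Groth.Agent.S16114

/-- Over an algebraically closed field k, let G be a connected algebraic group (a smooth connected
k-group scheme of finite type, not necessarily affine) and f ∈ Γ(G, O_G) a unit whose pullback along
the unit section e : Spec k → G equals 1. Then f is a character of G: m^*(f) = p₁^*(f) · p₂^*(f) in
Γ(G × G, O), where m is the multiplication and p₁, p₂ are the projections. -/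
theorem result (k : Type u) [Field k] [IsAlgClosed k]
    (G : Over (Spec (CommRingCat.of k))) [GrpObj G] [Smooth G.hom] [QuasiCompact G.hom] [ConnectedSpace ↥G.left]
    (f : Γ(G.left, ⊤)) (hf : IsUnit f) (he : η[G].left.appTop f = 1) :
    μ[G].left.appTop f = (fst G G).left.appTop f * (snd G G).left.appTop f := by
  exact Groth.Agent.GrpSchLib.Kunneth.unit_isChar hf
    ((Groth.Agent.GrpSchLib.Kunneth.evPt_eq_one_iff η[G] f).mpr he)


end Groth.Agent.S16114
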