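import Groth.Statements.S16115
import Groth.Agent.GrpSchLib.UnitsScheme


set_option autoImplicit false
universe u
open CategoryTheory MonoidalCategory CartesianMonoidalCategory MonObj GrpObj AlgebraicGeometry CategoryTheory.Limits
open AlgGrp

namespace Groth.Agent.S16115

/-- Over an algebraically closed field k, let G be a connected algebraic group (a smooth connected
k-group scheme of finite type) and X an irreducible variety (an integral separated k-scheme of
finite type). Then every unit f of Γ(G × X, O) is of the form p₁^*(χ) · p₂^*(u) with χ a character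
of G (a unit of Γ(G, O_G) with e^*(χ) = 1 and m^*(χ) = p₁^*(χ) · p₂^*(χ)) and u a unit of Γ(X, O_X).
(The published statement asserts that the product map from characters of G times units of X to units
of G × X is an isomorphism; injectivity is immediate by restriction to e × X and is not restated.) -/
theorem result (k : Type u) [Field k] [IsAlgClosed k]
    (G X : Over (Spec (CommRingCat.of k))) [GrpObj G] [Smooth G.hom] [QuasiCompact G.hom] [ConnectedSpace ↥G.left]
    [IsIntegral X.left] [IsSeparated X.hom] [LocallyOfFiniteType X.hom] [QuasiCompact X.hom]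
    (f : Γ((G ⊗ X).left, ⊤)) (hf : IsUnit f) :
    ∃ (χ : Γ(G.left, ⊤)) (u : Γ(X.left, ⊤)), IsUnit χ ∧ η[G].left.appTop χ = 1 ∧
      μ[G].left.appTop χ = (fst G G).left.appTop χ * (snd G G).left.appTop χ ∧ IsUnit u ∧
      f = (fst G X).left.appTop χ * (snd G X).left.appTop u := by
  open Groth.Agent.GrpSchLib Groth.Agent.GrpSchLib.Kunneth in
  haveI := Kunneth.isIntegral_grp G
  haveI := AntiAffine.isSeparated_grp G
  obtain ⟨g, h, hg, hh, hgh⟩ := exists_units_mul hf
  have hc : IsUnit (evPt η[G] g) := hg.map _
  obtain ⟨c, hc'⟩ := hc.exists_left_inv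
  let χ : Fn G := algebraMap k (Fn G) c * g
  have hχu : IsUnit χ := ((IsUnit.of_mul_eq_one _ hc').map (algebraMap k (Fn G))).mul hg
  have hχ : evPt η[G] χ = 1 := by
    rw [map_mul, AlgHom.commutes]; exact hc'
  refine ⟨χ, algebraMap k (Fn X) (evPt η[G] g) * h, hχu, (evPt_eq_one_iff η[G] χ).mp hχ, unit_isChar hχu hχ,
    (hc.map (algebraMap k (Fn X))).mul hh, ?_⟩
  show f = ev (fst G X) χ * ev (snd G X) (algebraMap k (Fn X) (evPt η[G] g) * h)
  rw [map_mul, map_mul, AlgHom.commutes, AlgHom.commutes]
  have h1 : algebraMap k (Fn (G ⊗ X)) c * algebraMap k (Fn (G ⊗ X)) (evPt η[G] g) = 1 := by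
    rw [← map_mul, hc', map_one]
  linear_combination hgh - (ev (fst G X) g * ev (snd G X) h) * h1


end Groth.Agent.S16115
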