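import Groth.Statements.S16116
import Groth.Agent.GrpSchLib.UnitsScheme
import Groth.Agent.GrpSchLib.AntiAffineAction
import Groth.Agent.S16115


set_option autoImplicit false
universe u
open CategoryTheory MonoidalCategory CartesianMonoidalCategory MonObj GrpObj AlgebraicGeometry CategoryTheory.Limits
open AlgGrp

namespace Groth.Agent.S16116

/-- Over an algebraically closed field k, let G be a connected algebraic group (a smooth connected
k-group scheme of finite type) acting by σ on an irreducible variety X (an integral separated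
k-scheme of finite type), and let f be a unit of Γ(X, O_X). Then f is a semi-invariant: there is a
unique character χ of G (a unit of Γ(G, O_G) with e^*(χ) = 1 and m^*(χ) = p₁^*(χ) · p₂^*(χ)) such
that σ^*(f) = p₁^*(χ) · p₂^*(f) in Γ(G × X, O). -/
theorem result (k : Type u) [Field k] [IsAlgClosed k]
    (G X : Over (Spec (CommRingCat.of k))) [GrpObj G] [Smooth G.hom] [QuasiCompact G.hom] [ConnectedSpace ↥G.left]
    [IsIntegral X.left] [IsSeparated X.hom] [LocallyOfFiniteType X.hom] [QuasiCompact X.hom] (a : AlgGrp.Action G X)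
    (f : Γ(X.left, ⊤)) (hf : IsUnit f) :
    ∃! χ : Γ(G.left, ⊤), IsUnit χ ∧ η[G].left.appTop χ = 1 ∧
      μ[G].left.appTop χ = (fst G G).left.appTop χ * (snd G G).left.appTop χ ∧
      a.act.left.appTop f = (fst G X).left.appTop χ * (snd G X).left.appTop f := by
  open Groth.Agent.GrpSchLib Groth.Agent.GrpSchLib.Kunneth in
  obtain ⟨χ, u, hχu, hχ1, hχm, hu, he⟩ := Groth.Agent.S16115.result k G X (a.act.left.appTop f) (hf.map (ev a.act))
  have he' : ev a.act f = ev (fst G X) χ * ev (snd G X) u := he
  have h1 := congrArg (ev (lift (toUnit X ≫ η[G]) (𝟙 X))) he'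
  rw [map_mul, ev_ev, ev_ev, ev_ev, lift_fst, lift_snd, ev_id, Groth.Agent.GrpSchLib.AntiAffine.lift_one_act a, ev_id,
    one_fn_const, (evPt_eq_one_iff η[G] χ).mpr hχ1, map_one, _root_.one_mul] at h1
  subst h1
  refine ⟨χ, ⟨hχu, hχ1, hχm, he⟩, ?_⟩
  rintro χ' ⟨-, -, -, he2⟩
  obtain ⟨x⟩ := exists_point X
  have h2 : ev (fst G X) χ' * ev (snd G X) f = ev (fst G X) χ * ev (snd G X) f := he2.symm.trans he
  have h3 := congrArg (ev (lift (𝟙 G) (toUnit G ≫ x))) h2
  simp only [map_mul, ev_ev, lift_fst, lift_snd, ev_id, one_fn_const] at h3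
  exact ((hf.map (evPt x)).map (algebraMap k (Fn G))).mul_right_cancel h3


end Groth.Agent.S16116
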