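import Groth.Statements.S16120
import Groth.Agent.RatPicProd.Core
import Groth.Agent.GrpSchLib.RigidHom

set_option autoImplicit false
universe u
open CategoryTheory MonoidalCategory CartesianMonoidalCategory MonObj GrpObj AlgebraicGeometry CategoryTheory.Limits
open PicGrp

namespace Groth.Agent.S16120

/-- Over an algebraically closed field k, let X and Y be normal irreducible varieties (integral normal
separated k-schemes of finite type) and assume X rational: some nonempty open subscheme of X is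
isomorphic over k to an open subscheme of an affine space 𝔸ⁿ_k. Assume the Picard group laws on X, Y
and X × Y, with pullback along the two projections multiplicative. Then the map Pic(X) × Pic(Y) →
Pic(X × Y), (c, d) ↦ p₁^*(c) · p₂^*(d), is bijective. (The published companion assertion on divisor
class groups is not stated here.) -/
theorem result (k : Type u) [Field k] [IsAlgClosed k]
    (X Y : Over (Spec (CommRingCat.of k))) [IsIntegral X.left] [IsSeparated X.hom] [LocallyOfFiniteType X.hom] [QuasiCompact X.hom]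
    [IsIntegral Y.left] [IsSeparated Y.hom] [LocallyOfFiniteType Y.hom] [QuasiCompact Y.hom]
    (hX : Pi1.IsNormalScheme X.left) (hY : Pi1.IsNormalScheme Y.left)
    (hrat : ∃ (U : X.left.Opens) (n : ℕ) (V : (𝔸(ULift.{u} (Fin n); Spec (CommRingCat.of k))).Opens)
      (e : (U : Scheme.{u}) ≅ (V : Scheme.{u})), (U : Set ↥X.left).Nonempty ∧
        e.hom ≫ V.ι ≫ (𝔸(ULift.{u} (Fin n); Spec (CommRingCat.of k)) ↘ Spec (CommRingCat.of k)) = U.ι ≫ X.hom)
    [PicGrp.Law X.left] [PicGrp.Law Y.left] [PicGrp.Law (X ⊗ Y).left]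
    (h₁ : PicGrp.PullMul (fst X Y).left) (h₂ : PicGrp.PullMul (snd X Y).left) :
    Function.Bijective (fun cd : PicLoc.PicSet X.left × PicLoc.PicSet Y.left =>
      PicGrp.pullHom (fst X Y).left h₁ cd.1 * PicGrp.pullHom (snd X Y).left h₂ cd.2) := by
  obtain ⟨U, n, V, e, hU, he⟩ := hrat
  haveI : CompactSpace ↥X.left := QuasiCompact.compactSpace_of_compactSpace X.hom
  haveI : CompactSpace ↥Y.left := QuasiCompact.compactSpace_of_compactSpace Y.hom
  obtain ⟨x₀⟩ := GrpSchLib.RigidHom.exists_point X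
  obtain ⟨y₀⟩ := GrpSchLib.RigidHom.exists_point Y
  have hval : ∀ cd : PicLoc.PicSet X.left × PicLoc.PicSet Y.left,
      (PicGrp.pullHom (fst X Y).left h₁ cd.1 * PicGrp.pullHom (snd X Y).left h₂ cd.2).1 =
        PicGrp.mulCl (PicF.pullCl (pullback.fst X.hom Y.hom) cd.1.1) (PicF.pullCl (pullback.snd X.hom Y.hom) cd.2.1) :=
    fun cd => PicGrp.mul_val _ _
  let φ := MonoidHom.coprod (PicGrp.pullHom (fst X Y).left h₁) (PicGrp.pullHom (snd X Y).left h₂)
  show Function.Bijective φ
  constructor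
  · refine (injective_iff_map_eq_one φ).2 fun cd h => ?_
    have h' := congrArg Subtype.val h
    rw [show φ cd = PicGrp.pullHom (fst X Y).left h₁ cd.1 * PicGrp.pullHom (snd X Y).left h₂ cd.2 from rfl, hval,
      PicGrp.one_val] at h'
    obtain ⟨e₁, e₂⟩ := RatPicProd.eq_one_of_mul_eq_one X.hom Y.hom cd.1.2 cd.2.2 x₀.left (Over.w x₀) y₀.left
      (Over.w y₀) h'
    exact Prod.ext (Subtype.ext (e₁.trans PicGrp.one_val.symm)) (Subtype.ext (e₂.trans PicGrp.one_val.symm))
  · intro c
    obtain ⟨d₁, d₂, hd₁, hd₂, hc⟩ := RatPicProd.exists_eq_mul X.hom Y.hom hX hY U hU V e he c.2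
    exact ⟨(⟨d₁, hd₁⟩, ⟨d₂, hd₂⟩), Subtype.ext ((hval (⟨d₁, hd₁⟩, ⟨d₂, hd₂⟩)).trans hc.symm)⟩

end Groth.Agent.S16120
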