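import Groth.Statements.S16122
import Groth.Agent.AGFLib.LinPicFinite
-- import your own Groth.Agent.* helpers here

set_option autoImplicit false
set_option backward.isDefEq.respectTransparency.types false
set_option maxHeartbeats 1000000
universe u
open CategoryTheory MonoidalCategory CartesianMonoidalCategory MonObj GrpObj AlgebraicGeometry CategoryTheory.Limits
open AlgGrp

namespace Groth.Agent.S16122

/-- Over an algebraically closed field k, if G is a connected linear algebraic group (an affine, smooth,
connected k-group scheme), then Pic(G) is finite: there are only finitely many isomorphism classes
of invertible O_G-modules. -/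
theorem result (k : Type u) [Field k] [IsAlgClosed k]
    (G : Over (Spec (CommRingCat.of k))) [GrpObj G] [IsAffine G.left] [Smooth G.hom] [ConnectedSpace ↥G.left] :
    Finite (PicLoc.PicSet G.left) := by
  exact AGFLib.LinPicFinite.finite_picSet G

end Groth.Agent.S16122
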