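import Groth.Statements.S16124
import Groth.Agent.S2324
import Mathlib

set_option autoImplicit false
universe u
open CategoryTheory MonoidalCategory CartesianMonoidalCategory MonObj GrpObj AlgebraicGeometry CategoryTheory.Limits
open AlgGrp

namespace Groth.Agent.S16124

/-- Over an algebraically closed field k, let X be a quasi-projective variety (a reduced separated
k-scheme, quasi-projective over k) with an action of a finite group Γ by k-automorphisms. Then X is
covered by Γ-stable affine open subschemes: every point x of X lies in an affine open U with σ⁻¹(U)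
= U for every σ in Γ. -/
theorem result (k : Type u) [Field k] [IsAlgClosed k]
    (X : Over (Spec (CommRingCat.of k))) [IsReduced X.left] [IsSeparated X.hom] (hX : RelProj.IsQuasiProjective X.hom)
    (Γgrp : Type u) [Group Γgrp] [Finite Γgrp] (ρ : Γgrp →* Aut X.left)
    (hρ : ∀ σ : Γgrp, (ρ σ).hom ≫ X.hom = X.hom) (x : ↥X.left) :
    ∃ U : X.left.Opens, x ∈ U ∧ IsAffineOpen U ∧ ∀ σ : Γgrp, (ρ σ).hom ⁻¹ᵁ U = U := by
  classical
  obtain ⟨hft, hqc, L, -, hL⟩ := hX
  let T : (Spec (CommRingCat.of k)).affineOpens := ⟨⊤, isAffineOpen_top _⟩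
  have hL' := hL T
  let j := (X.hom ⁻¹ᵁ T.1).ι
  haveI : (X.hom ⁻¹ᵁ T.1).toScheme.IsSeparated := by
    refine ⟨?_⟩
    rw [Limits.terminal.comp_from (j ≫ X.hom) |>.symm]
    exact MorphismProperty.comp_mem @IsSeparated _ _ inferInstance inferInstance
  haveI := hL'.2.1
  let orbit : Γgrp → (X.hom ⁻¹ᵁ T.1).toScheme := fun σ => ⟨(ρ σ).hom x, trivial⟩
  obtain ⟨n, s, hZ, -, haff⟩ := S2324.result _ _ hL' (Set.range orbit) (Set.finite_range orbit) ⊤ (by simp)
  let U₀ : X.left.Opens := j ''ᵁ CohB1.genLocus _ s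
  have hU₀ : IsAffineOpen U₀ := haff.image_of_isOpenImmersion j
  have hmem : ∀ σ : Γgrp, (ρ σ).hom x ∈ U₀ := fun σ => ⟨orbit σ, hZ ⟨σ, rfl⟩, rfl⟩
  haveI : IsAffineHom (Limits.pullback.diagonal (Limits.terminal.from X.left)) := by
    haveI : IsSeparated (Limits.terminal.from X.left) := by
      rw [← Limits.terminal.comp_from X.hom]
      exact MorphismProperty.comp_mem @IsSeparated _ _ inferInstance inferInstance
    haveI := IsSeparated.isClosedImmersion_diagonal (f := Limits.terminal.from X.left)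
    infer_instance
  refine ⟨⨅ σ : Γgrp, (ρ σ).hom ⁻¹ᵁ U₀, ?_, ?_, ?_⟩
  · rw [← SetLike.mem_coe, TopologicalSpace.Opens.coe_iInf]
    exact Set.mem_iInter.mpr hmem
  · exact IsAffineOpen.iInf fun σ => by
      haveI : IsIso (ρ σ).hom := Iso.isIso_hom (show X.left ≅ X.left from ρ σ)
      exact hU₀.preimage_of_isIso _
  · intro τ
    refine SetLike.coe_injective ?_
    ext y
    simp only [Scheme.Hom.coe_preimage, TopologicalSpace.Opens.coe_iInf, Set.mem_preimage,
      Set.mem_iInter, SetLike.mem_coe]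
    have h : ∀ σ, (ρ σ).hom ((ρ τ).hom y) = (ρ (σ * τ)).hom y := fun σ => by
      rw [map_mul]
      rfl
    simp only [h]
    exact ⟨fun hy σ => by simpa using hy (σ * τ⁻¹), fun hy σ => hy (σ * τ)⟩

end Groth.Agent.S16124
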