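import Groth.Statements.S16126
import Groth.Agent.GrpSchLib.AffineHopfClosed
import Groth.Agent.GrpSchLib.CentralGm


set_option autoImplicit false
universe u
open CategoryTheory MonoidalCategory CartesianMonoidalCategory MonObj GrpObj AlgebraicGeometry CategoryTheory.Limits
open AlgGrp

namespace Groth.Agent.S16126

/-- Over an algebraically closed field k, let E and G be linear algebraic groups (affine smooth k-group
schemes) with G connected, i : 𝔾_m → E a homomorphism which is a closed immersion with central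
image, and f : E → G a flat surjective homomorphism with kernel i (a central extension 1 → 𝔾_m → E →
G → 1). Then there exist a character χ : E → 𝔾_m and an integer n ≥ 1 such that χ ∘ i is the n-th
power map of 𝔾_m: for every point t of 𝔾_m with values in a k-scheme T, χ(i(t)) = tⁿ in the group of
T-points of 𝔾_m. (The published lemma is stated in a setting where all groups are linear; for a
connected G that is not linear the conclusion can fail.) -/
theorem result (k : Type u) [Field k] [IsAlgClosed k]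
    (E G : Over (Spec (CommRingCat.of k))) [GrpObj E] [IsAffine E.left] [Smooth E.hom]
    [GrpObj G] [IsAffine G.left] [Smooth G.hom] [ConnectedSpace ↥G.left]
    (i : Red.Gm (Spec (CommRingCat.of k)) ⟶ E) [IsMonHom i] [IsClosedImmersion i.left]
    (hcent : ∀ (T : Over (Spec (CommRingCat.of k))) (t : T ⟶ Red.Gm (Spec (CommRingCat.of k))) (g : T ⟶ E),
      (t ≫ i) * g = g * (t ≫ i))
    (f : E ⟶ G) [IsMonHom f] [Flat f.left] [Surjective f.left] (hker : AlgGrp.IsKernel i f) :
    ∃ (χ : E ⟶ Red.Gm (Spec (CommRingCat.of k))) (n : ℕ), IsMonHom χ ∧ 1 ≤ n ∧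
      ∀ (T : Over (Spec (CommRingCat.of k))) (t : T ⟶ Red.Gm (Spec (CommRingCat.of k))), (t ≫ i) ≫ χ = t ^ n := by
  classical
  obtain ⟨A, _, _, ⟨eE⟩⟩ := GrpSchLib.AffineHopf.exists_hopf E
  obtain ⟨eG⟩ := GrpSchLib.AffineHopf.nonempty_DS_iso k ℤ
  let L := MonoidAlgebra k (Multiplicative ℤ)
  let ea : GrpSchLib.AffineHopf.sp k A ⟶ E := eE.hom.hom.hom
  let eb : E ⟶ GrpSchLib.AffineHopf.sp k A := eE.inv.hom.hom
  let ga : GrpSchLib.AffineHopf.sp k L ⟶ Red.Gm (Spec (CommRingCat.of k)) := eG.hom.hom.hom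
  let gb : Red.Gm (Spec (CommRingCat.of k)) ⟶ GrpSchLib.AffineHopf.sp k L := eG.inv.hom.hom
  haveI : IsMonHom ea := eE.hom.hom.isMonHom_hom
  haveI : IsMonHom eb := eE.inv.hom.isMonHom_hom
  haveI : IsMonHom ga := eG.hom.hom.isMonHom_hom
  haveI : IsMonHom gb := eG.inv.hom.isMonHom_hom
  have hab : ea ≫ eb = 𝟙 _ := congrArg (fun g => g.hom.hom) eE.hom_inv_id
  have hba : eb ≫ ea = 𝟙 _ := congrArg (fun g => g.hom.hom) eE.inv_hom_id
  have gab : ga ≫ gb = 𝟙 _ := congrArg (fun g => g.hom.hom) eG.hom_inv_id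
  have gba : gb ≫ ga = 𝟙 _ := congrArg (fun g => g.hom.hom) eG.inv_hom_id
  haveI : IsIso ga := ⟨gb, gab, gba⟩
  haveI : IsIso eb := ⟨ea, hba, hab⟩
  haveI : IsIso ea := ⟨eb, hab, hba⟩
  obtain ⟨π, hπ⟩ := GrpSchLib.AffineHopf.exists_bialgHom (R := k) (ga ≫ i ≫ eb)
  have hsurj : Function.Surjective π := by
    refine GrpSchLib.AffineHopf.surjective_of_isClosedImmersion (π : A →ₐ[k] L) ?_
    rw [← hπ]
    haveI : IsIso ga.left := inferInstanceAs (IsIso ((Over.forget _).map ga))
    haveI : IsIso eb.left := inferInstanceAs (IsIso ((Over.forget _).map eb))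
    show IsClosedImmersion (ga.left ≫ i.left ≫ eb.left)
    infer_instance
  have hc : ∀ a, (π : A →ₗ[k] L).rTensor A (Coalgebra.comul a) =
      (π : A →ₗ[k] L).rTensor A (TensorProduct.comm k A A (Coalgebra.comul a)) := by
    intro a
    let t := GrpSchLib.AffineHopf.spMap (R := k) (Algebra.TensorProduct.includeLeft : L →ₐ[k] TensorProduct k L A)
    let g := GrpSchLib.AffineHopf.spMap (R := k) (Algebra.TensorProduct.includeRight : A →ₐ[k] TensorProduct k L A)
    have h1 : ((t ≫ ga) ≫ i) * (g ≫ ea) = (g ≫ ea) * ((t ≫ ga) ≫ i) := hcent _ _ _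
    have h2 := congrArg (· ≫ eb) h1
    simp only [MonObj.mul_comp, Category.assoc, hab, Category.comp_id] at h2
    rw [show ga ≫ i ≫ eb = _ from hπ, GrpSchLib.AffineHopf.spMap_comp, GrpSchLib.AffineHopf.spMap_mul,
      GrpSchLib.AffineHopf.spMap_mul] at h2
    have h3 := congrArg (fun f : A →ₐ[k] TensorProduct k L A => f a) (GrpSchLib.AffineHopf.spMap_injective h2)
    rw [AlgHom.convMul_apply, AlgHom.convMul_apply] at h3
    refine Eq.trans ?_ (h3.trans ?_)
    · generalize Coalgebra.comul (R := k) a = z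
      induction z using TensorProduct.induction_on with
      | zero => simp
      | tmul x y => simp
      | add s t hs ht => simp only [map_add, hs, ht]
    · generalize Coalgebra.comul (R := k) a = z
      induction z using TensorProduct.induction_on with
      | zero => simp
      | tmul x y => simp
      | add s t hs ht => simp only [map_add, hs, ht]
  obtain ⟨u, n, hu, hn, hπu⟩ := GrpSchLib.CentralGm.exists_groupLike_of_central π hc (hsurj _)
  obtain ⟨χ, hχ⟩ := GrpSchLib.CentralGm.exists_character hu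
  refine ⟨eb ≫ GrpSchLib.AffineHopf.spMap (χ : L →ₐ[k] A) ≫ ga, n, inferInstance, hn, fun T t => ?_⟩
  have key : i ≫ eb ≫ GrpSchLib.AffineHopf.spMap (χ : L →ₐ[k] A) ≫ ga =
      (𝟙 (Red.Gm (Spec (CommRingCat.of k)))) ^ n := by
    rw [← cancel_epi ga, MonObj.comp_pow, Category.comp_id, ← cancel_mono gb, MonObj.pow_comp, gab]
    simp only [Category.assoc, gab, Category.comp_id]
    rw [← Category.assoc i, ← Category.assoc ga, show ga ≫ i ≫ eb = _ from hπ]
    erw [Category.comp_id, GrpSchLib.AffineHopf.spMap_comp]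
    have hid : (𝟙 (GrpSchLib.AffineHopf.sp k L)) ^ n =
        GrpSchLib.AffineHopf.spMap (WithConv.toConv (AlgHom.id k L) ^ n).ofConv := by
      rw [← GrpSchLib.AffineHopf.spMap_id]
      exact (map_pow (Spec.mapMulEquiv (R := k) (S := L) (T := L)) (WithConv.toConv (AlgHom.id k L)) n).symm
    rw [hid]
    congr 1
    refine MonoidAlgebra.algHom_ext (fun z => ?_) (by ext)
    have hpow : ∀ m : ℕ, (WithConv.toConv (AlgHom.id k L) ^ m).ofConv (MonoidAlgebra.single z 1) =
        (MonoidAlgebra.single z 1) ^ m := by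
      intro m
      induction m with
      | zero =>
        rw [pow_zero, pow_zero, AlgHom.convOne_apply]
        show algebraMap k L (Coalgebra.counit (R := k) (MonoidAlgebra.single z (1 : k))) = 1
        rw [(MonoidAlgebra.isGroupLikeElem_single_one z).counit_eq_one, map_one]
      | succ m ih =>
        rw [pow_succ, AlgHom.convMul_apply, (MonoidAlgebra.isGroupLikeElem_single_one z).comul_eq_tmul_self,
          Algebra.TensorProduct.lift_tmul, ih, pow_succ]
        rfl
    rw [hpow n]
    let ψ : Multiplicative ℤ →* L := ((π : A →ₐ[k] L).comp (χ : L →ₐ[k] A) : L →* L).comp (MonoidAlgebra.of k _)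
    let ψ' : Multiplicative ℤ →* L := (powMonoidHom n).comp (MonoidAlgebra.of k _)
    suffices hψ : ψ = ψ' from DFunLike.congr_fun hψ z
    refine MonoidHom.ext_mint ?_
    show π (χ GrpSchLib.CentralGm.tt) = GrpSchLib.CentralGm.tt ^ n
    rw [hχ, hπu]
  rw [Category.assoc, key, MonObj.comp_pow, Category.comp_id]

end Groth.Agent.S16126
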