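import Groth.Statements.S16127
import Groth.Agent.GrpSchLib.AntiAffineBC
import Mathlib.AlgebraicGeometry.Sites.Fpqc


set_option autoImplicit false
universe u
open CategoryTheory MonoidalCategory CartesianMonoidalCategory MonObj GrpObj AlgebraicGeometry CategoryTheory.Limits
open AlgGrp

namespace Groth.Agent.S16127

/-- Over an algebraically closed field k, let G be an algebraic group (a smooth k-group scheme of finite
type) acting by σ on a variety X, and let f : X → Y be a principal G-bundle over a variety Y (X, Y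
reduced separated k-schemes of finite type; f flat and surjective, the square σ, p₂ : G × X → X, f,
f cartesian). Then f^* identifies Γ(Y, O_Y) with the invariants Γ(X, O_X)^G: f^* on global sections
is injective and its range is the set of global functions s on X with σ^*(s) = p₂^*(s). -/
theorem result (k : Type u) [Field k] [IsAlgClosed k]
    (G X Y : Over (Spec (CommRingCat.of k))) [GrpObj G] [Smooth G.hom] [QuasiCompact G.hom]
    [IsReduced X.left] [IsSeparated X.hom] [LocallyOfFiniteType X.hom] [QuasiCompact X.hom]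
    [IsReduced Y.left] [IsSeparated Y.hom] [LocallyOfFiniteType Y.hom] [QuasiCompact Y.hom]
    (a : AlgGrp.Action G X) (f : X ⟶ Y) [Flat f.left] [Surjective f.left]
    (hsq : IsPullback a.act.left (snd G X).left f.left f.left) :
    Function.Injective (f.left.appTop) ∧
      Set.range (f.left.appTop) = {s : Γ(X.left, ⊤) | a.act.left.appTop s = (snd G X).left.appTop s} := by
  haveI : QuasiCompact (f.left ≫ Y.hom) := by rw [Over.w f]; infer_instance
  haveI : QuasiCompact f.left := QuasiCompact.of_comp f.left Y.hom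
  refine ⟨Groth.Agent.GrpSchLib.AntiAffine.appTop_injective_of_epi f.left, Set.ext fun s => ⟨?_, fun hs => ?_⟩⟩
  · rintro ⟨t, rfl⟩
    show a.act.left.appTop (f.left.appTop t) = (snd G X).left.appTop (f.left.appTop t)
    rw [← CommRingCat.comp_apply, ← CommRingCat.comp_apply, ← Scheme.Hom.comp_appTop, ← Scheme.Hom.comp_appTop, hsq.w]
  have hs' : a.act.left.appTop s = (snd G X).left.appTop s := hs
  let P : CommRingCat.{u} := CommRingCat.of (Polynomial (ULift.{u} ℤ))
  let e : P ⟶ Γ(X.left, ⊤) :=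
    CommRingCat.ofHom (Polynomial.eval₂RingHom ((Int.castRingHom _).comp ULift.ringEquiv.toRingHom) s)
  let φ : X.left ⟶ Spec P := X.left.toSpecΓ ≫ Spec.map e
  have hφ : ∀ {T : Scheme.{u}} (g₁ g₂ : T ⟶ X.left), g₁ ≫ f.left = g₂ ≫ f.left → g₁ ≫ φ = g₂ ≫ φ := by
    intro T g₁ g₂ hg
    obtain ⟨l, hl₁, hl₂⟩ : ∃ l, l ≫ a.act.left = g₁ ∧ l ≫ (snd G X).left = g₂ :=
      ⟨hsq.lift g₁ g₂ hg, hsq.lift_fst _ _ _, hsq.lift_snd _ _ _⟩
    have hgs : g₁.appTop s = g₂.appTop s := by
      rw [← hl₁, ← hl₂, Scheme.Hom.comp_appTop, Scheme.Hom.comp_appTop, CommRingCat.comp_apply,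
        CommRingCat.comp_apply, hs']
    show g₁ ≫ X.left.toSpecΓ ≫ Spec.map e = g₂ ≫ X.left.toSpecΓ ≫ Spec.map e
    rw [← Category.assoc, ← Category.assoc, Scheme.toSpecΓ_naturality, Scheme.toSpecΓ_naturality, Category.assoc,
      Category.assoc, ← Spec.map_comp, ← Spec.map_comp]
    congr 2
    refine CommRingCat.hom_ext (Polynomial.ringHom_ext (fun c => ?_) ?_)
    · exact RingHom.congr_fun (RingHom.ext_int ((g₁.appTop.hom.comp e.hom).comp (Polynomial.C.comp (ULift.ringEquiv.symm : ℤ ≃+* ULift.{u} ℤ).toRingHom))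
        ((g₂.appTop.hom.comp e.hom).comp (Polynomial.C.comp (ULift.ringEquiv.symm : ℤ ≃+* ULift.{u} ℤ).toRingHom))) c.down
    · simp [e, hgs]
  let d := EffectiveEpi.desc f.left φ hφ
  have hfac : f.left ≫ d = φ := EffectiveEpi.fac f.left φ hφ
  refine ⟨d.appTop ((Scheme.ΓSpecIso P).inv Polynomial.X), ?_⟩
  rw [← CommRingCat.comp_apply, ← Scheme.Hom.comp_appTop, hfac]
  have h1 : φ.appTop = (Scheme.ΓSpecIso P).hom ≫ e := by
    rw [Scheme.Hom.comp_appTop, Scheme.toSpecΓ_appTop, Scheme.ΓSpecIso_naturality]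
  rw [h1, CommRingCat.comp_apply, ← CommRingCat.comp_apply (Scheme.ΓSpecIso P).inv, Iso.inv_hom_id]
  exact Polynomial.eval₂_X _ _


end Groth.Agent.S16127
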