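import Groth.Statements.S16128
import Groth.Agent.AGFLib.TorsorPicExact
-- import your own Groth.Agent.* helpers here

set_option autoImplicit false
set_option backward.isDefEq.respectTransparency.types false
set_option maxHeartbeats 1000000
universe u
open CategoryTheory MonoidalCategory CartesianMonoidalCategory MonObj GrpObj AlgebraicGeometry CategoryTheory.Limits
open AlgGrp

namespace Groth.Agent.S16128

/-- Over an algebraically closed field k, let G be a connected linear algebraic group (an affine,
smooth, connected k-group scheme), and f : X → Y a principal G-bundle between normal irreducible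
varieties (X, Y integral normal separated k-schemes of finite type; σ the action on X; f flat and
surjective with the square σ, p₂, f, f cartesian). Let x be a k-point of X with orbit map α_x : G →
X, g ↦ g · x, and assume the Picard group laws on G, X and Y with pullback along f and along α_x
multiplicative. Then the sequence Pic(Y) → Pic(X) → Pic(G) is exact at Pic(X): a class c satisfies
α_x^*(c) = 1 if and only if c lies in the image of f^*. -/
theorem result (k : Type u) [Field k] [IsAlgClosed k]
    (G X Y : Over (Spec (CommRingCat.of k))) [GrpObj G] [IsAffine G.left] [Smooth G.hom] [ConnectedSpace ↥G.left]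
    [IsIntegral X.left] [IsSeparated X.hom] [LocallyOfFiniteType X.hom] [QuasiCompact X.hom] (hX : Pi1.IsNormalScheme X.left)
    [IsIntegral Y.left] [IsSeparated Y.hom] [LocallyOfFiniteType Y.hom] [QuasiCompact Y.hom] (hY : Pi1.IsNormalScheme Y.left)
    (a : AlgGrp.Action G X) (f : X ⟶ Y) [Flat f.left] [Surjective f.left]
    (hsq : IsPullback a.act.left (snd G X).left f.left f.left)
    (x : 𝟙_ (Over (Spec (CommRingCat.of k))) ⟶ X)
    [PicGrp.Law G.left] [PicGrp.Law X.left] [PicGrp.Law Y.left]
    (hf : PicGrp.PullMul f.left) (hα : PicGrp.PullMul (a.orbitMap x).left) (c : PicLoc.PicSet X.left) :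
    PicGrp.pullHom (a.orbitMap x).left hα c = 1 ↔ c ∈ (PicGrp.pullHom f.left hf).range := by
  constructor
  · intro h
    obtain ⟨d, hd, e⟩ := AGFLib.TorsorPicExact.exists_descent_of_orbit hX a f hsq x c.2 (by
      have h1 := congrArg Subtype.val h
      rw [PicGrp.pullHom_apply_val, PicGrp.one_val] at h1
      exact h1)
    exact ⟨⟨d, hd⟩, Subtype.ext e⟩
  · rintro ⟨d, rfl⟩
    refine Subtype.ext ?_
    rw [PicGrp.pullHom_apply_val, PicGrp.pullHom_apply_val, PicGrp.one_val]
    exact AGFLib.TorsorPicExact.pullCl_orbit_of_base a f hsq x d.2

end Groth.Agent.S16128
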