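import Groth.Statements.S16132
import Groth.Agent.GrpSchLib.CharLattice
import Groth.Agent.GrpSchLib.CharDescent
import Groth.Agent.GrpSchLib.ConnKernel
import Groth.Agent.GrpSchLib.KernelGrp
import Groth.Agent.GrpSchLib.LaurentPic
-- import your own Groth.Agent.* helpers here

set_option autoImplicit false
set_option backward.isDefEq.respectTransparency false
set_option backward.isDefEq.respectTransparency.types false
universe u
open CategoryTheory MonoidalCategory CartesianMonoidalCategory MonObj GrpObj AlgebraicGeometry CategoryTheory.Limits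
open AlgGrp

namespace Groth.Agent.S16132

open GrpSchLib GrpSchLib.Kunneth GrpSchLib.SplitTorusPoints

variable {k : Type u} [Field k] {M : Type} [AddCommGroup M]

theorem evPt_id_injective :
    Function.Injective (evPt (𝟙 (𝟙_ (Over (Spec (CommRingCat.of k)))))) := fun a b h => by
  have h' : (Scheme.ΓSpecIso (CommRingCat.of k)).hom a = (Scheme.ΓSpecIso (CommRingCat.of k)).hom b := h
  exact (ConcreteCategory.bijective_of_isIso (Scheme.ΓSpecIso (CommRingCat.of k)).hom).1 h'

theorem ext_val {s t : 𝟙_ (Over (Spec (CommRingCat.of k))) ⟶ D k M}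
    (h : ∀ m, evPt s (mon k m) = evPt t (mon k m)) : s = t :=
  ext_mon fun m => evPt_id_injective (by rw [evPt_comp, evPt_comp, Category.id_comp, Category.id_comp]; exact h m)

theorem val_pow (s : 𝟙_ (Over (Spec (CommRingCat.of k))) ⟶ D k M) (m : M) :
    ∀ n : ℕ, evPt (s ^ n) (mon k m) = evPt s (mon k m) ^ n
  | 0 => by
    rw [pow_zero, pow_zero, ← Category.id_comp (1 : 𝟙_ (Over (Spec (CommRingCat.of k))) ⟶ D k M), ← evPt_comp, ev_one_mon, map_one]
  | n + 1 => by
    rw [pow_succ, pow_succ, ← val_pow s m n, ← Category.id_comp (s ^ n * s), ← evPt_comp, ev_mul_mon, map_mul, evPt_comp,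
      evPt_comp, Category.id_comp, Category.id_comp]

theorem exists_pow [IsAlgClosed k] {r n : ℕ} (hn : 0 < n) (t : 𝟙_ (Over (Spec (CommRingCat.of k))) ⟶ D k (Fin r → ℤ)) :
    ∃ s, s ^ n = t := by
  classical
  let φ : Multiplicative (Fin r → ℤ) →* kˣ := MonoidHom.toHomUnits
    { toFun := fun m => evPt t (mon k (Multiplicative.toAdd m))
      map_one' := by simp [mon_zero]
      map_mul' := fun a b => by rw [← map_mul, ← mon_add]; rfl }
  have hroot : ∀ i : Fin r, ∃ c : kˣ, c ^ n = φ (Multiplicative.ofAdd (Pi.single i 1)) := fun i => by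
    obtain ⟨c, hc⟩ := IsAlgClosed.exists_pow_nat_eq ((φ (Multiplicative.ofAdd (Pi.single i 1)) : kˣ) : k) hn
    have hc0 : c ≠ 0 := fun h0 => Units.ne_zero (φ (Multiplicative.ofAdd (Pi.single i 1)))
      (by rw [← hc, h0, zero_pow hn.ne'])
    exact ⟨Units.mk0 c hc0, Units.ext hc⟩
  choose c hc using hroot
  let σ : Multiplicative (Fin r → ℤ) →* kˣ :=
    { toFun := fun m => ∏ i, c i ^ (Multiplicative.toAdd m i)
      map_one' := by simp
      map_mul' := fun a b => by simp [zpow_add, Finset.prod_mul_distrib] }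
  obtain ⟨s, hs⟩ := exists_hom (Z := 𝟙_ (Over (Spec (CommRingCat.of k)))) (k := k)
    (((algebraMap k (Fn (𝟙_ (Over (Spec (CommRingCat.of k)))))).toMonoidHom).comp ((Units.coeHom k).comp σ))
  refine ⟨s, ext_val fun m => ?_⟩
  have hsv : evPt s (mon k m) = ((σ (Multiplicative.ofAdd m) : kˣ) : k) := by
    rw [← Category.id_comp s, ← evPt_comp, hs]
    exact AlgHom.commutes _ _
  rw [val_pow, hsv, ← Units.val_pow_eq_pow_val]
  have hm : Multiplicative.ofAdd m = ∏ i, (Multiplicative.ofAdd (Pi.single i (1 : ℤ) : Fin r → ℤ)) ^ (m i) := by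
    apply Multiplicative.toAdd.injective
    rw [toAdd_ofAdd, toAdd_prod]
    funext j
    simp [toAdd_zpow, Finset.sum_apply, Pi.single_apply]
  show ((σ (Multiplicative.ofAdd m) ^ n : kˣ) : k) = ((φ (Multiplicative.ofAdd m) : kˣ) : k)
  conv_rhs => rw [hm, map_prod]
  congr 1
  show (∏ i, c i ^ m i) ^ n = _
  rw [← Finset.prod_pow]
  refine Finset.prod_congr rfl fun i _ => ?_
  rw [map_zpow, ← hc, ← zpow_natCast, ← zpow_natCast (c i) n, zpow_comm]


/-- Over an algebraically closed field k, let G be a connected algebraic group (a smooth connected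
k-group scheme of finite type, not necessarily affine). Then G has a largest torus quotient through
which all characters factor: there are a torus T (isomorphic to the diagonalizable group of ℤ^r for
some r), a flat surjective homomorphism q : G → T such that every character χ : G → 𝔾_m is χ' ∘ q
for some character χ' of T, and a kernel h : H → G of q (a homomorphism from a k-group scheme H
making the square against the unit section of T cartesian) with H connected and every character of H
trivial. (So H is the smallest closed normal subgroup scheme of G with G/H a torus, and restriction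
identifies the characters of G/H with those of G.) -/
theorem result (k : Type u) [Field k] [IsAlgClosed k]
    (G : Over (Spec (CommRingCat.of k))) [GrpObj G] [Smooth G.hom] [QuasiCompact G.hom] [ConnectedSpace ↥G.left] :
    ∃ (r : ℕ) (T : Over (Spec (CommRingCat.of k))) (_ : GrpObj T) (_ : Red.IsSplitTorusWith (Fin r → ℤ) T)
      (q : G ⟶ T) (_ : IsMonHom q) (H : Over (Spec (CommRingCat.of k))) (_ : GrpObj H) (h : H ⟶ G) (_ : IsMonHom h),
      Flat q.left ∧ Surjective q.left ∧ AlgGrp.IsKernel h q ∧ ConnectedSpace ↥H.left ∧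
      (∀ χ : G ⟶ Red.Gm (Spec (CommRingCat.of k)), IsMonHom χ → ∃ χ' : T ⟶ Red.Gm (Spec (CommRingCat.of k)), IsMonHom χ' ∧ q ≫ χ' = χ) ∧
      (∀ ψ : H ⟶ Red.Gm (Spec (CommRingCat.of k)), IsMonHom ψ → ψ = 1) := by
  haveI := AntiAffine.isSeparated_grp G
  obtain ⟨r, q, hqm, hf, hs, hqc, hall⟩ := CharLattice.exists_quotient G
  haveI : IsSeparated (D k (Fin r → ℤ)).hom := inferInstance
  haveI : LocallyOfFiniteType (D k (Fin r → ℤ)).hom := by
    haveI : Algebra.FiniteType k (MonoidAlgebra k (Multiplicative (Fin r → ℤ))) := inferInstance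
    exact (HasRingHomProperty.Spec_iff (P := @LocallyOfFiniteType)).2 (RingHom.finiteType_algebraMap.2 this)
  obtain ⟨H, hH, h, hh, -, -, hk⟩ := exists_kernel q
  haveI := LaurentPic.subsingleton_pic k r
  have hB : ∀ ψ : H ⟶ D k ℤ, IsMonHom ψ → ψ = 1 := fun ψ _ => by
    obtain ⟨χ, hχ, rfl⟩ := CharDescent.exists_extend (Iso.refl _) q h hk ψ
    obtain ⟨a, ha, rfl⟩ := hall χ hχ
    rw [← Category.assoc, hk.w, Category.assoc, IsMonHom.one_hom a]
    exact Hom.one_def.symm
  haveI : IrreducibleSpace G.left := Groth.Agent.S0348.result k G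
  have hconn : ConnectedSpace H.left := ConnKernel.connectedSpace q h hk
    (fun a b => ext_mon fun m => by rw [ev_mul_mon, ev_mul_mon, mul_comm])
    (fun n hn t => exists_pow hn t)
    (fun n hn hp t ht => ext_val fun m => by
      have h1 : evPt t (mon k m) ^ n = evPt (1 : 𝟙_ (Over (Spec (CommRingCat.of k))) ⟶ D k (Fin r → ℤ)) (mon k m) := by
        rw [← val_pow, ht]
      rw [← pow_zero t, val_pow, pow_zero] at h1 ⊢
      exact ConnKernel.eq_one_of_pow_eq_one hn hp h1)
    hB
  obtain ⟨j, hj⟩ := exists_iso_Gm k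
  refine ⟨r, D k (Fin r → ℤ), inferInstance, isSplitTorusWith_D, q, hqm, H, hH, h, hh, hf, hs, hk, hconn,
    fun χ _ => ?_, fun ψ _ => ?_⟩
  · obtain ⟨a, ha, hqa⟩ := hall (χ ≫ j.inv) inferInstance
    exact ⟨a ≫ j.hom, inferInstance, by rw [← Category.assoc, hqa, Category.assoc, Iso.inv_hom_id, Category.comp_id]⟩
  · have h1 := hB (ψ ≫ j.inv) inferInstance
    rw [← cancel_mono j.inv, h1, MonObj.one_comp]

end Groth.Agent.S16132
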