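import Groth.Statements.S16137
import Groth.Agent.Lib.InvEnd
import Groth.Agent.Lib.CurveStable

set_option autoImplicit false
set_option linter.style.haveILetI false
set_option linter.unusedVariables false
universe u
open CategoryTheory CategoryTheory.Limits AlgebraicGeometry
open VBCurve

namespace Groth.Agent.S16137

open Groth.Agent.CurveBundle Groth.Agent.CurveSlope Groth.Agent.CurveStable

/-- Let k be an algebraically closed field of characteristic zero and X a smooth proper geometrically
connected curve over k (topological dimension one) of genus at least 2 (the text's standing setting: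
a smooth projective complex curve of genus at least 2). Let 0 → F → E → G → 0 be a short exact
sequence of O_X-modules in which E is finite locally free of rank r ≥ 1 and slope-stable (deg F' · r
< deg E · r' for every finite locally free submodule F' of E of rank r' with 0 < r' < r). Then
Hom(G, F) = 0: every morphism from the quotient G to the submodule F is zero. (The published
statement writes the conclusion as h^0(G^* ⊗ F) = 0.) -/
theorem result (k : Type u) [Field k] [IsAlgClosed k] [CharZero k]
    (X : Scheme.{u}) [X.Over (Spec (CommRingCat.of k))]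
    [IsProper (X ↘ Spec (CommRingCat.of k))] [Smooth (X ↘ Spec (CommRingCat.of k))]
    [GeometricallyConnected (X ↘ Spec (CommRingCat.of k))] (hdim : topologicalKrullDim ↥X = 1)
    (hg : 2 ≤ Curv2.genus k X)
    (T : ShortComplex X.Modules) (hT : T.ShortExact)
    (r : ℕ) (hr : 0 < r) (hE : FlatMod.IsFinLocFreeOfRank r T.X₂)
    (hst : ModFun.IsSlopeStable k X T.X₂ r)
    (φ : T.X₃ ⟶ T.X₁) : φ = 0 := by
  haveI := isIntegral_of_geometricallyConnected k (X := X)
  haveI := hT.mono_f
  haveI := hT.epi_g
  let f : T.X₂ ⟶ T.X₂ := T.g ≫ φ ≫ T.f
  by_cases hf : f = 0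
  · have h : T.g ≫ φ = 0 := by
      rw [← cancel_mono T.f, Category.assoc, zero_comp]
      exact hf
    rw [← cancel_epi T.g, h, comp_zero]
  · exfalso
    haveI : IsIso f := Groth.Agent.CurveBundle.isIso_of_slopes k hdim.le r T.X₂ T.X₂ hE hE rfl
      (fun K I a b i j hi hj ha har hb hbr hK hI => by
        linarith [hst K a i hi ha har hK, hst I b j hj hb hbr hI]) f hf
    refine hf ((cancel_mono f).1 ?_)
    show (T.g ≫ φ ≫ T.f) ≫ T.g ≫ φ ≫ T.f = 0 ≫ (T.g ≫ φ ≫ T.f)
    rw [Category.assoc, Category.assoc, ← Category.assoc T.f, T.zero, zero_comp, comp_zero, comp_zero,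
      zero_comp]

end Groth.Agent.S16137
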