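import Groth.Agent.ThetaRankTwo.Main
import Groth.Agent.H23.DegDet
import Groth.Statements.S16141
-- import your own Groth.Agent.* helpers here

set_option autoImplicit false
universe u
open CategoryTheory CategoryTheory.Limits AlgebraicGeometry
open VBCurve

namespace Groth.Agent.S16141

/-- Let k be an algebraically closed field of characteristic zero and X a smooth proper geometrically
connected curve over k (topological dimension one) of genus g ≥ 2 (the text's standing setting: a
smooth projective complex curve of genus at least 2). Let E be a slope-semistable finite locally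
free O_X-module of rank 2 with trivial determinant: some second exterior power of E is isomorphic to
O_X. Then there is an invertible O_X-module L of degree g − 1 (degree χ(L) − χ(O_X)) with H^0(X, E ⊗
L) = 0. (The published statement says that the determinant linear series on the moduli space of
rank-2 bundles with trivial determinant has no base points; this row states the equivalent vanishing
for every semistable bundle that its proof establishes.) -/
theorem result
    (k : Type u) [Field k] [IsAlgClosed k] [CharZero k]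
    (X : Scheme.{u}) [X.Over (Spec (CommRingCat.of k))]
    [IsProper (X ↘ Spec (CommRingCat.of k))] [Smooth (X ↘ Spec (CommRingCat.of k))]
    [GeometricallyConnected (X ↘ Spec (CommRingCat.of k))] (hdim : topologicalKrullDim ↥X = 1)
    (g : ℕ) (hg : Curv2.genus k X = g) (hg2 : 2 ≤ g)
    (E : X.Modules) (hE : FlatMod.IsFinLocFreeOfRank 2 E) (hEss : ModFun.IsSlopeSemistable k X E 2)
    (hdet : ∃ D : X.Modules, ExtPow.IsExtPow 2 E D ∧ Nonempty (D ≅ Coh.structureModule X)) :
    ∃ L : X.Modules, PicF.IsInvertible L ∧ Curv2.deg k X L 1 = (g : ℤ) - 1 ∧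
      Subsingleton (Coh.HH X (CohB1.tensorMod E L) 0) := by
  haveI : IsIntegral X := CurveStable.isIntegral_of_geometricallyConnected k
  haveI := CurveCohLib.isNoetherian_of_proper (k := k) (X := X)
  have hEf := CurveStable.isFinLocFree_of_rank hE
  have hEr := CurveBundle.rk_eq hE
  obtain ⟨D₀, hD₀, ⟨eD⟩⟩ := hdet
  have hdeg : CurveSlope.dg k E = 0 := by
    rw [← CurveSlope.deg_eq_dg k hE, H23.DegDet.deg_det k hdim.le hE hD₀, CurveRR.deg_congr k eD 1,
      CurveDeg.deg_structureModule]
  have hss : ∀ (G : X.Modules) (i : G ⟶ E), Mono i → FlatMod.IsFinLocFree G →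
      CurveSlope.dg k G * (CurveBundle.rk E : ℤ) ≤ CurveSlope.dg k E * (CurveBundle.rk G : ℤ) := by
    intro G i hi hG
    rcases Nat.eq_zero_or_pos (CurveBundle.rk G) with h0 | h0
    · rw [CurveSlope.dg_eq_zero_of_isZero k (CurveBundle.isZero_of_rk_zero hG h0), h0]; simp
    · have hGr := CurveBundle.isFinLocFreeOfRank_rk hG
      have h := hEss G _ i hi h0 hGr
      rwa [CurveSlope.deg_eq_dg k hGr, CurveSlope.deg_eq_dg k hE, ← hEr] at h
  obtain ⟨L₀, hL₀, hdL₀⟩ := CurveTwist.exists_isInvertible_deg k hdim ((g : ℤ) - 1)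
  obtain ⟨hr, hd⟩ := CurveDuality.dg_tensor_line k hdim hL₀ hEf
  have hV := KFlatLib.isFinLocFree_tensor (CurveStable.isFinLocFree_of_rank (InvEnd.isFinLocFreeOfRank_one hL₀)) hEf
  obtain ⟨D, hD, hdD, h⟩ := ThetaRankTwo.exists_twist_h0_zero k hdim _ _ hV (hr.trans hEr)
    (by rw [hd, hdeg, hEr, hdL₀, hg]; push_cast; ring) (SSTwist.ss_twist k hdim hEf hL₀ hss) rfl
  have hL : PicF.IsInvertible ((DCoh.tensorBi.obj D).obj L₀) := InvX.isInvertible_tensorMod hD hL₀
  refine ⟨_, hL, by rw [CurveRR.deg_tensor k hdim hD hL₀, hdD, hdL₀, zero_add], ?_⟩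
  show Subsingleton (Coh.HH X ((DCoh.tensorBi.obj E).obj ((DCoh.tensorBi.obj D).obj L₀)) 0)
  have hc := CurveTensor.isCoh_tensor hEf (CurveDeg.isCoh_of_isInvertible hL)
  haveI := CurveCohLib.finite_HH (k := k) hc 0
  refine (Module.finrank_zero_iff (R := k)).1 ?_
  refine Eq.trans ?_ h
  exact (CurveCohLib.hhEquiv (k := k)
    (CurveTensor.commIso E _ ≪≫ ((CurveRR.tensorCompIso D L₀).app E).symm) 0).finrank_eq

end Groth.Agent.S16141
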