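import Groth.Statements.S16144
import Groth.Agent.FibreTwist.Main
-- import your own Groth.Agent.* helpers here

set_option autoImplicit false
universe u
open CategoryTheory CategoryTheory.Limits AlgebraicGeometry
open Variety

namespace Groth.Agent.S16144

/-- Let k be an algebraically closed field of characteristic zero, X a smooth projective variety over k
(integral, smooth and proper over k, with a closed immersion over k into some projective space
P^N_k), n a natural number, Z = P^n_k ×_k X with projections p₁ : Z → P^n_k and p₂ : Z → X, and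
write F(m) = F ⊗ p₁^* O(m). For a coherent O_Z-module F (quasi-coherent of finite type) the
following are equivalent: (i) for every closed point x of X, the set of points of the fibre p₂⁻¹(x)
lying in the support of F has Krull dimension at most zero (as a subspace of Z; the empty set
qualifies); (ii) R^i p₂_*(F(m)) = 0 for every integer m and every i > 0. (The source works over the
complex numbers.) -/
theorem result (k : Type u) [Field k] [IsAlgClosed k] [CharZero k]
    (X : Scheme.{u}) [X.Over (Spec (CommRingCat.of k))] [IsIntegral X] [IsProper (X ↘ (Spec (CommRingCat.of k)))]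
    [Smooth (X ↘ (Spec (CommRingCat.of k)))]
    (hproj : ∃ (N : ℕ) (j : X ⟶ CohB1.ProjSpace N k), IsClosedImmersion j ∧ j ≫ CohB1.ProjSpace.toSpec N k = (X ↘ (Spec (CommRingCat.of k))))
    (n : ℕ) (F : (pullback (CohB1.ProjSpace.toSpec n k) (X ↘ (Spec (CommRingCat.of k)))).Modules) (hF : Coh.IsCoh F)
    [HasInjectiveResolutions (pullback (CohB1.ProjSpace.toSpec n k) (X ↘ (Spec (CommRingCat.of k)))).Modules] :
    (∀ x : X, IsClosed ({x} : Set X) →
        topologicalKrullDim {z : ↥(pullback (CohB1.ProjSpace.toSpec n k) (X ↘ (Spec (CommRingCat.of k)))) // (pullback.snd (CohB1.ProjSpace.toSpec n k) (X ↘ (Spec (CommRingCat.of k)))).base z = x ∧ z ∈ CohB1.support F} ≤ 0) ↔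
      (∀ (m : ℤ) (i : ℕ), 0 < i →
        IsZero ((Coh.Rpush (pullback.snd (CohB1.ProjSpace.toSpec n k) (X ↘ (Spec (CommRingCat.of k)))) i).obj
          (CohB1.tensorMod F ((Scheme.Modules.pullback (pullback.fst (CohB1.ProjSpace.toSpec n k) (X ↘ (Spec (CommRingCat.of k))))).obj (Twist.twistProjSpace n k m))))) := by
  let f := X ↘ (Spec (CommRingCat.of k))
  let p := pullback.snd (CohB1.ProjSpace.toSpec n k) f
  have key : ∀ (x : X) (hx : IsClosed ({x} : Set X)),
      topologicalKrullDim {z : ↥(pullback (CohB1.ProjSpace.toSpec n k) f) // p.base z = x ∧ z ∈ CohB1.support F} =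
        topologicalKrullDim (Groth.Agent.FibreTwist.slice (n := n) f x hx ⁻¹' CohB1.support F) := by
    intro x hx
    haveI := Groth.Agent.FibreTwist.isClosedImmersion_slice (n := n) f x hx
    let s := Groth.Agent.FibreTwist.slice (n := n) f x hx
    have e : s '' (s ⁻¹' CohB1.support F) = {z | p.base z = x ∧ z ∈ CohB1.support F} := by
      rw [Set.image_preimage_eq_range_inter, Groth.Agent.FibreTwist.range_slice]
      rfl
    exact (IsHomeomorph.topologicalKrullDim_eq _
      ((s.isEmbedding.homeomorphImage (s ⁻¹' CohB1.support F)).trans (Homeomorph.setCongr e)).isHomeomorph).symm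
  refine ⟨fun h m i hi => Groth.Agent.FibreTwist.isZero_Rpush_of_fibres f hF (fun x hx => ?_) m i hi, fun h x hx => ?_⟩
  · exact (key x hx).symm.trans_le (h x hx)
  · exact (key x hx).trans_le (Groth.Agent.FibreTwist.fibre_dim_le_zero f hF h x hx)

end Groth.Agent.S16144
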