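import Groth.Statements.S16148
import Groth.Agent.TopCohPn.Main
-- import your own Groth.Agent.* helpers here

set_option autoImplicit false
universe u
open CategoryTheory CategoryTheory.Limits AlgebraicGeometry
open Variety

namespace Groth.Agent.S16148

/-- Let k be a characteristic-zero algebraically closed field and G a coherent O-module (quasi-coherent
of finite type) on projective n-space P^n_k whose support, as a subspace of P^n_k, has Krull
dimension a with a ≥ 1. Then there is an integer m such that H^a(P^n_k, G(m)) ≠ 0, where G(m) = G ⊗
O(m). (The source works over the complex numbers.) -/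
theorem result (k : Type u) [Field k] [IsAlgClosed k] [CharZero k]
    (n : ℕ) (G : (CohB1.ProjSpace n k).Modules) (hG : Coh.IsCoh G) (a : ℕ) (ha : 1 ≤ a)
    (hdim : topologicalKrullDim ↥(CohB1.support G) = a) :
    ∃ m : ℤ, Nontrivial (Coh.HH (CohB1.ProjSpace n k) (CohB1.tensorMod G (Twist.twistProjSpace n k m)) a) := by
  haveI : Infinite k := IsAlgClosed.instInfinite
  exact Groth.Agent.TopCohPn.exists_nontrivial_top G hG ha hdim

end Groth.Agent.S16148
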