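import Groth.Statements.S1615
import Groth.Agent.Proj16.Points

set_option autoImplicit false
universe u
open CategoryTheory CategoryTheory.Limits AlgebraicGeometry
open Constr

namespace Groth.Agent.S1615

/-- For a graded ring A, quasi-compactness of Proj A is equivalent to the existence of finitely many
homogeneous elements of positive degree generating an ideal whose radical contains the irrelevant
ideal A_+. -/
theorem result {R A : Type u} [CommRing R] [CommRing A] [Algebra R A] (𝒜 : ℕ → Submodule R A) [GradedAlgebra 𝒜] :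
    CompactSpace ↥(Proj 𝒜) ↔ ∃ s : Finset A, (∀ f ∈ s, ∃ d : ℕ, 0 < d ∧ f ∈ 𝒜 d) ∧
      (HomogeneousIdeal.irrelevant 𝒜).toIdeal ≤ (Ideal.span (s : Set A)).radical := by
  classical
  constructor
  · intro h
    let F : (Σ i : PNat, 𝒜 i) → A := fun i ↦ (i.2 : A)
    have hF : ∀ i, ∃ d, 0 < d ∧ F i ∈ 𝒜 d := fun i ↦ ⟨i.1, i.1.2, i.2.2⟩
    have htop : (⨆ i, Proj.basicOpen 𝒜 (F i)) = ⊤ := by
      refine Proj.iSup_basicOpen_eq_top 𝒜 F ?_
      rw [HomogeneousIdeal.irrelevant_eq_span]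
      refine Ideal.span_mono ?_
      simp only [Set.iUnion_subset_iff]
      intro i hi a ha
      exact ⟨⟨⟨i, hi⟩, ⟨a, ha⟩⟩, rfl⟩
    obtain ⟨t, ht⟩ := isCompact_univ.elim_finite_subcover
      (fun i ↦ (Proj.basicOpen 𝒜 (F i) : Set (Proj 𝒜))) (fun i ↦ (Proj.basicOpen 𝒜 (F i)).2)
      (by rw [← TopologicalSpace.Opens.coe_iSup, htop]; rfl)
    refine ⟨t.image F, fun f hf ↦ ?_, ?_⟩
    · obtain ⟨i, _, rfl⟩ := Finset.mem_image.mp hf
      exact hF i
    · have := (Groth.Agent.Proj16.iSup_basicOpen_eq_top_iff 𝒜 (fun i : t ↦ F i.1)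
        fun i ↦ hF i.1).mp (top_le_iff.mp fun x _ ↦ by
          obtain ⟨i, hi, hx⟩ := Set.mem_iUnion₂.mp (ht (Set.mem_univ x))
          exact TopologicalSpace.Opens.mem_iSup.mpr ⟨⟨i, hi⟩, hx⟩)
      refine this.trans (Ideal.radical_mono (Ideal.span_mono ?_))
      rintro _ ⟨i, rfl⟩
      exact Finset.mem_coe.mpr (Finset.mem_image_of_mem F i.2)
  · rintro ⟨s, hs, hle⟩
    constructor
    have htop := (Groth.Agent.Proj16.iSup_basicOpen_eq_top_iff 𝒜 (fun f : s ↦ (f : A))
      fun f ↦ hs f f.2).mpr (by simpa using hle)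
    have huniv : (Set.univ : Set (Proj 𝒜)) =
        ⋃ f : s, (Proj.basicOpen 𝒜 (f : A) : Set (Proj 𝒜)) := by
      rw [← TopologicalSpace.Opens.coe_iSup, htop]; rfl
    rw [huniv]
    exact isCompact_iUnion fun f ↦ by
      obtain ⟨d, hd, hfd⟩ := hs f f.2
      exact (Proj.isAffineOpen_basicOpen 𝒜 _ hfd hd).isCompact

end Groth.Agent.S1615
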