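import Groth.Statements.S16152
import Mathlib
-- import your own Groth.Agent.* helpers here

set_option autoImplicit false
universe u
open WGauss

namespace Groth.Agent.S16152

open MvPolynomial

private theorem exists_le_degree {σ : Type*} [Fintype σ] (γ : σ →₀ ℕ) :
    ∀ k ≤ γ.degree, ∃ δ ≤ γ, δ.degree = k := by
  classical
  intro k
  induction k with
  | zero => exact fun _ => ⟨0, bot_le, map_zero _⟩
  | succ k ih =>
    intro hk
    obtain ⟨δ, hle, hδ⟩ := ih (by omega)
    obtain ⟨x, hx⟩ : ∃ x, δ x < γ x := by
      by_contra hh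
      push Not at hh
      have : γ = δ := le_antisymm (fun x => hh x) hle
      rw [this] at hk
      omega
    refine ⟨δ + Finsupp.single x 1, fun y => ?_, by rw [map_add, hδ, Finsupp.degree_single]⟩
    by_cases h : x = y
    · subst h; simp; omega
    · simp [h]; exact hle y

/-- The Koszul vector `h · (X_j e_i - X_i e_j)`. -/
private noncomputable def koszul {k : Type u} [CommRing k] {n : ℕ} (i j : Fin (n + 1))
    (h : MvPolynomial (Fin (n + 1)) k) : Fin (n + 1) → MvPolynomial (Fin (n + 1)) k :=
  fun l => h * (X j * (if l = i then 1 else 0) - X i * (if l = j then 1 else 0))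


open MvPolynomial in
/-- Over a field k of characteristic zero, for e, a, b positive integers with a < b, the weighted
Gaussian map of the line bundle O(e) on projective n-space is surjective. Concretely, identifying
global sections of O(m) with homogeneous polynomials of degree m in X_0, ..., X_n and global
sections of the twisted cotangent sheaf Omega^1(t) with the (n+1)-tuples of homogeneous polynomials
of degree t - 1 killed by the Euler map (f_i) to sum_i X_i f_i, every such tuple with t = (a+b)e is
a k-linear combination of the tuples (b tau (d sigma / d X_i) - a sigma (d tau / d X_i))_i with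
sigma homogeneous of degree ae and tau homogeneous of degree be. (The source works over the complex
numbers; the statement is one of linear algebra and is given here over any field of characteristic
zero.) -/
theorem result
    (k : Type u) [Field k] [CharZero k] (n e a b : ℕ) (he : 0 < e) (ha : 0 < a) (hab : a < b)
    (f : Fin (n + 1) → MvPolynomial (Fin (n + 1)) k)
    (hf : ∀ i, (f i).IsHomogeneous ((a + b) * e - 1))
    (hEuler : ∑ i, X i * f i = 0) :
    f ∈ Submodule.span k
      {g : Fin (n + 1) → MvPolynomial (Fin (n + 1)) k |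
        ∃ σ τ : MvPolynomial (Fin (n + 1)) k, σ.IsHomogeneous (a * e) ∧ τ.IsHomogeneous (b * e) ∧
          g = fun i => (b : k) • (τ * pderiv i σ) - (a : k) • (σ * pderiv i τ)} := by
  classical
  set S := Submodule.span k
      {g : Fin (n + 1) → MvPolynomial (Fin (n + 1)) k |
        ∃ σ τ : MvPolynomial (Fin (n + 1)) k, σ.IsHomogeneous (a * e) ∧ τ.IsHomogeneous (b * e) ∧
          g = fun i => (b : k) • (τ * pderiv i σ) - (a : k) • (σ * pderiv i τ)} with hS
  have hae : 1 ≤ a * e := Nat.one_le_iff_ne_zero.2 (Nat.mul_ne_zero (by omega) (by omega))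
  have hbe : 1 ≤ b * e := Nat.one_le_iff_ne_zero.2 (Nat.mul_ne_zero (by omega) (by omega))
  have hab' : (a + b) * e = a * e + b * e := add_mul _ _ _
  have hne : ((a : k) + b) ≠ 0 := by
    rw [← Nat.cast_add]; exact Nat.cast_ne_zero.2 (by omega)
  -- monomial Koszul vectors are in the span
  have hmono : ∀ (i j : Fin (n + 1)) (γ : Fin (n + 1) →₀ ℕ) (c : k), γ.degree = (a + b) * e - 2 →
      koszul i j (monomial γ c) ∈ S := by
    intro i j γ c hγ
    obtain ⟨δ, hle, hδ⟩ := exists_le_degree γ (a * e - 1) (by omega)
    obtain ⟨ε, rfl⟩ := exists_add_of_le hle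
    have hε : ε.degree = b * e - 1 := by rw [map_add] at hγ; omega
    set D : MvPolynomial (Fin (n + 1)) k := monomial δ c with hD
    set E : MvPolynomial (Fin (n + 1)) k := monomial ε 1 with hE
    have hDh : D.IsHomogeneous (a * e - 1) := isHomogeneous_monomial _ hδ
    have hEh : E.IsHomogeneous (b * e - 1) := isHomogeneous_monomial _ hε
    let g : MvPolynomial (Fin (n + 1)) k → MvPolynomial (Fin (n + 1)) k → Fin (n + 1) → MvPolynomial (Fin (n + 1)) k :=
      fun σ τ l => (b : k) • (τ * pderiv l σ) - (a : k) • (σ * pderiv l τ)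
    have hmem : ∀ x y : Fin (n + 1), g (D * X x) (E * X y) ∈ S := fun x y =>
      Submodule.subset_span ⟨D * X x, E * X y, by
        have := hDh.mul (isHomogeneous_X k x)
        rwa [Nat.sub_add_cancel hae] at this, by
        have := hEh.mul (isHomogeneous_X k y)
        rwa [Nat.sub_add_cancel hbe] at this, rfl⟩
    have hkey : ((a : k) + b) • koszul i j (monomial (δ + ε) c) = g (D * X i) (E * X j) - g (D * X j) (E * X i) := by
      funext l
      have hDE : monomial (δ + ε) c = D * E := by rw [hD, hE, monomial_mul, mul_one]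
      simp only [Pi.smul_apply, Pi.sub_apply, g, koszul, hDE, pderiv_mul, pderiv_X, Pi.single_apply,
        smul_eq_C_mul, map_add, eq_comm (a := i) (b := l), eq_comm (a := j) (b := l)]
      ring
    have h1 := Submodule.smul_mem S ((a : k) + b)⁻¹ (Submodule.sub_mem S (hmem i j) (hmem j i))
    rwa [← hkey, inv_smul_smul₀ hne] at h1
  have hgen : ∀ (i j : Fin (n + 1)) (h : MvPolynomial (Fin (n + 1)) k), h.IsHomogeneous ((a + b) * e - 2) →
      koszul i j h ∈ S := by
    intro i j h hh
    have hsum : koszul i j h = ∑ γ ∈ h.support, koszul i j (monomial γ (h.coeff γ)) := by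
      funext l
      simp only [koszul, Finset.sum_apply, ← Finset.sum_mul, h.support_sum_monomial_coeff]
    rw [hsum]
    refine Submodule.sum_mem _ fun γ hγ => hmono i j γ _ ?_
    have := hh (mem_support_iff.1 hγ)
    rw [Finsupp.degree_eq_weight_one]; exact this
  -- the Euler decomposition
  let N := (a + b) * e - 1
  have hdec : ((N + 1 : ℕ) : k) • f = ∑ i, ∑ j, koszul i j (pderiv j (f i)) := by
    funext l
    have h1 : ∑ j, X j * pderiv j (f l) = N • f l := (hf l).sum_X_mul_pderiv
    have h2 : f l + ∑ i, X i * pderiv l (f i) = 0 := by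
      have := congrArg (pderiv l) hEuler
      simp only [map_sum, map_zero, pderiv_mul, pderiv_X, Pi.single_apply] at this
      rw [Finset.sum_add_distrib] at this
      simpa [ite_mul, eq_comm (a := l)] using this
    have h3 : (∑ i, ∑ j, koszul i j (pderiv j (f i))) l =
        (∑ j, X j * pderiv j (f l)) - ∑ i, X i * pderiv l (f i) := by
      simp only [Finset.sum_apply, koszul, mul_sub, Finset.sum_sub_distrib]
      congr 1
      · rw [Finset.sum_eq_single l (fun i _ hi => by simp [Ne.symm hi]) (by simp)]
        exact Finset.sum_congr rfl fun j _ => by simp [mul_comm]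
      · refine Finset.sum_congr rfl fun i _ => ?_
        rw [Finset.sum_eq_single l (fun j _ hj => by simp [Ne.symm hj]) (by simp)]
        simp [mul_comm]
    rw [Pi.smul_apply, h3, h1, eq_neg_of_add_eq_zero_right h2, sub_neg_eq_add, Nat.cast_smul_eq_nsmul, succ_nsmul]
  have h1 := Submodule.smul_mem S ((N + 1 : ℕ) : k)⁻¹ (Submodule.sum_mem S fun i (_ : i ∈ Finset.univ) =>
    Submodule.sum_mem S fun j (_ : j ∈ Finset.univ) => hgen i j (pderiv j (f i)) (by
      have := (hf i).pderiv (i := j)
      rwa [Nat.sub_sub] at this))
  rwa [← hdec, inv_smul_smul₀ (Nat.cast_ne_zero.2 (Nat.succ_ne_zero N))] at h1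

end Groth.Agent.S16152
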