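import Groth.Statements.S16156
import Mathlib


set_option autoImplicit false
set_option maxHeartbeats 1600000
universe u
open MukaiVec

namespace Groth.Agent.S16156

/-- Let N be an abelian group with a symmetric integer-valued bilinear form and H an element with H·H =
2n for some n > 0 such that every x with x·H = 0 satisfies x·x ≤ 0 (the Hodge index inequality). Fix
integers r ≥ 2, d > 0 and χ < 0 (a Mukai vector v = (r, dH, χ)) and an isotropic Mukai vector u =
(p, η, q), p ≥ 0, η ∈ N, η·η = 2pq, whose pairing ⟨v, u⟩ = d(H·η) − rq − χp has absolute value 1 or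
2. Exclude the case d = 1, χ = −1, H·η = 1, η·η = 0, and when r = 2 also the case p = 0, H·η = 0.
Then the pairings of u∨ = (p, −η, q) with w₀ = (0, rH, −2nd) and with w₁ = (2nd, −χH, 0) are both
non-negative or both negative: 2ndp − r(H·η) ≥ 0 holds if and only if χ(H·η) − 2ndq ≥ 0 holds. -/
theorem result
    (N : Type u) [AddCommGroup N] (B : LinearMap.BilinForm ℤ N) (hB : ∀ x y : N, B x y = B y x)
    (H : N) (n : ℤ) (hn : 0 < n) (hH : B H H = 2 * n) (hodge : ∀ x : N, B x H = 0 → B x x ≤ 0)
    (r d χ p q : ℤ) (η : N) (hr : 2 ≤ r) (hd : 0 < d) (hχ : χ < 0) (hp : 0 ≤ p)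
    (hiso : B η η = 2 * p * q)
    (hvu : 1 ≤ |d * B H η - r * q - χ * p| ∧ |d * B H η - r * q - χ * p| ≤ 2)
    (hexc : ¬ (d = 1 ∧ χ = -1 ∧ B H η = 1 ∧ B η η = 0))
    (hr2 : r = 2 → ¬ (p = 0 ∧ B H η = 0)) :
    (0 ≤ 2 * n * d * p - r * B H η ↔ 0 ≤ χ * B H η - 2 * n * d * q) := by
  obtain ⟨hD1, hD2⟩ := hvu
  set a := B H η with ha
  have hx : B ((2 * n) • η - a • H) H = 0 := by
    simp only [map_sub, map_smul, LinearMap.sub_apply, LinearMap.smul_apply, smul_eq_mul, hB η H, hH, ← ha]
    ring
  have hod : 4 * n * p * q ≤ a * a := by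
    have h := hodge _ hx
    simp only [map_sub, map_smul, LinearMap.sub_apply, LinearMap.smul_apply, smul_eq_mul, hB η H, hH, hiso, ← ha] at h
    nlinarith [h, mul_pos hn hn]
  set D := d * a - r * q - χ * p with hDdef
  obtain ⟨hDl, hDu⟩ := abs_le.mp hD2
  have hD0 : D ≠ 0 := fun h => by rw [h] at hD1; simp at hD1
  have hrc : 2 ≤ r * (-χ) := by nlinarith
  have small : 0 < p → 0 < q → (2 * n * d * p - r * a) * (χ * a - 2 * n * d * q) ≤ 0 → False := by
    intro hp0 hq0 hPQ
    have hpq : 1 ≤ p * q := by nlinarith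
    have key : a * a * (n * (d * d) + 2) ≤ 2 * n * d * (a * D) := by
      nlinarith [mul_le_mul_of_nonneg_left hod (mul_nonneg hn.le (mul_nonneg hd.le hd.le)),
        mul_le_mul_of_nonneg_left hrc (mul_self_nonneg a)]
    have hD' : a * D ≤ 2 * |a| := by
      rcases le_or_gt 0 a with h | h
      · rw [abs_of_nonneg h]; nlinarith
      · rw [abs_of_neg h]; nlinarith
    obtain ⟨b, hb, hb0, hbb⟩ : ∃ b, b = |a| ∧ 0 ≤ b ∧ b * b = a * a := ⟨_, rfl, abs_nonneg a, abs_mul_abs_self a⟩
    rw [← hb] at hD'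
    have hbb4 : 4 * n ≤ b * b := by nlinarith [mul_le_mul_of_nonneg_left hpq (show (0 : ℤ) ≤ 4 * n by linarith)]
    have hb2 : 2 ≤ b := by nlinarith
    have k2 : b * (n * (d * d) + 2) ≤ 4 * n * d := by
      have := key.trans (mul_le_mul_of_nonneg_left hD' (show (0 : ℤ) ≤ 2 * n * d by positivity))
      rw [← hbb] at this
      nlinarith
    have hd2 : d ≤ d * d := by nlinarith
    have hb3 : b ≤ 3 := by
      by_contra hc
      nlinarith [mul_le_mul_of_nonneg_right (show (4 : ℤ) ≤ b by omega) (show (0 : ℤ) ≤ n * (d * d) + 2 by positivity)]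
    have hn2 : n ≤ 2 := by
      have : b * b ≤ 9 := by nlinarith only [hb2, hb3]
      omega
    interval_cases b <;> interval_cases n <;> nlinarith only [k2, hbb4, mul_self_nonneg (d - 1), mul_self_nonneg (3 * d - 2)]
  rcases lt_trichotomy a 0 with h | h | h
  · refine iff_of_true (by nlinarith [mul_nonneg (mul_nonneg hn.le hd.le) hp]) ?_
    by_contra hQ
    push Not at hQ
    have hq : 0 < q := by nlinarith [mul_pos hn hd]
    refine small ?_ hq ?_
    · rcases hp.eq_or_lt with hp0 | hp0
      · exfalso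
        rw [hDdef, ← hp0] at hDl
        nlinarith
      · exact hp0
    · exact mul_nonpos_of_nonneg_of_nonpos (by nlinarith [mul_nonneg (mul_nonneg hn.le hd.le) hp]) hQ.le
  · rw [h] at hod ⊢
    rcases hp.eq_or_lt with hp0 | hp0
    · exfalso
      have hDe : D = -(r * q) := by rw [hDdef, ← hp0, h]; ring
      rw [hDe] at hDl hDu hD0
      rcases lt_trichotomy q 0 with hq | hq | hq
      · have : r = 2 := by nlinarith
        exact hr2 this ⟨hp0.symm, h⟩
      · simp [hq] at hD0
      · have : r = 2 := by nlinarith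
        exact hr2 this ⟨hp0.symm, h⟩
    · have hq : q ≤ 0 := by nlinarith [mul_pos hn hp0]
      exact iff_of_true (by nlinarith [mul_nonneg (mul_nonneg hn.le hd.le) hp]) (by nlinarith [mul_pos hn hd])
  · have hcp : p ≤ -χ * p := by nlinarith
    have hda : a ≤ d * a := by nlinarith
    constructor
    · intro hP
      exfalso
      have hp0 : 0 < p := by nlinarith [mul_pos hn hd]
      rcases lt_or_ge 0 q with hq | hq
      · exact small hp0 hq (mul_nonpos_of_nonneg_of_nonpos hP (by nlinarith [mul_pos (mul_pos hn hd) hq]))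
      · have hrq : 0 ≤ -(r * q) := by nlinarith
        have h1 : d * a = 1 ∧ -χ * p = 1 ∧ r * q = 0 := by
          refine ⟨?_, ?_, ?_⟩ <;> linarith
        obtain ⟨e1, e2, e3⟩ := h1
        have hd1 : d = 1 := Int.eq_one_of_mul_eq_one_right hd.le e1
        have hc1 : -χ = 1 := Int.eq_one_of_mul_eq_one_right (by linarith) e2
        have hq0 : q = 0 := by rcases mul_eq_zero.mp e3 with h' | h' <;> linarith
        refine hexc ⟨hd1, by linarith, by rw [hd1, one_mul] at e1; exact e1, ?_⟩
        rw [hiso, hq0, mul_zero]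
    · intro hQ
      exfalso
      have hq : q ≤ -1 := by
        by_contra hc
        nlinarith [mul_nonneg (mul_nonneg hn.le hd.le) (show (0 : ℤ) ≤ q by omega)]
      nlinarith


end Groth.Agent.S16156
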