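import Groth.Statements.S16157
import Groth.Agent.S14147
import Groth.Agent.Lib.AVPoincareD
import Groth.Agent.Lib.EulerLeray
import Groth.Agent.GenusOneSS.Free
import Groth.Agent.TFOneX.Beta

set_option autoImplicit false
set_option backward.isDefEq.respectTransparency false
set_option backward.isDefEq.respectTransparency.types false
set_option linter.style.haveILetI false
set_option linter.unusedSectionVars false
set_option maxHeartbeats 400000
universe u
open CategoryTheory CategoryTheory.Limits MonoidalCategory CartesianMonoidalCategory MonObj GrpObj AlgebraicGeometry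
attribute [local instance] HasDerivedCategory.standard
open AbVar

namespace Groth.Agent.S16157

set_option maxHeartbeats 1600000
open Groth.Agent.H23 Groth.Agent.AVPair
open Groth.Agent.Lib
open scoped Groth.Agent.H23.PicMul
open CategoryTheory.Limits

namespace Aux

theorem nonempty_lpull_flatMod {X Y : Scheme.{u}} (f : X ⟶ Y) [DCoh.HasLpull f] {M : Y.Modules}
    (hM : FlatMod.IsFlat M) :
    Nonempty ((DCoh.Lpull f).obj (DCoh.inD Y M) ≅ DCoh.inD X ((Scheme.Modules.pullback f).obj M)) :=
  ⟨(DCoh.Lpull f).mapIso ((DerivedCategory.singleFunctorIsoCompQ Y.Modules 0).app M) ≪≫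
    KFlatLib.lpullIso f (KFlatLib.isKFlat_single_of_isFlat hM) ≪≫
    DerivedCategory.Q.mapIso ((HomologicalComplex.singleMapHomologicalComplex (Scheme.Modules.pullback f) _ 0).app M) ≪≫
    ((DerivedCategory.singleFunctorIsoCompQ X.Modules 0).app _).symm⟩

theorem nonempty_free {X : Scheme.{u}} [Subsingleton X] {M : X.Modules} {n : ℕ}
    (hM : FlatMod.IsFinLocFreeOfRank n M) (x : X) : Nonempty (M ≅ FlatMod.freeMod X n) := by
  obtain ⟨U, hxU, ⟨e⟩⟩ := hM x
  obtain rfl : U = ⊤ := top_le_iff.1 fun y _ => (Subsingleton.elim x y) ▸ hxU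
  let t := X.topIso.inv
  obtain ⟨e'⟩ := PicClLib.nonempty_pullback_structureModule t
  exact ⟨((Scheme.Modules.pullbackId X).app M).symm ≪≫ (Scheme.Modules.pullbackCongr X.topIso.inv_hom_id.symm).app M ≪≫
    ((Scheme.Modules.pullbackComp t (⊤ : X.Opens).ι).app M).symm ≪≫
    (Scheme.Modules.pullback t).mapIso (((Scheme.Modules.restrictFunctorIsoPullback (⊤ : X.Opens).ι).app M).symm ≪≫ e) ≪≫
    PreservesCoproduct.iso (Scheme.Modules.pullback t) _ ≪≫ Sigma.mapIso (fun _ => e')⟩

theorem euler_point {k : Type u} [Field k] [IsAlgClosed k] {M : (Spec (CommRingCat.of k)).Modules} {n : ℕ}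
    (hM : FlatMod.IsFinLocFreeOfRank n M) :
    @Curv2.euler k _ (Spec (CommRingCat.of k)) ⟨𝟙 _⟩ M = (n : ℤ) := by
  letI : (Spec (CommRingCat.of k)).Over (Spec (CommRingCat.of k)) := ⟨𝟙 _⟩
  haveI : IsProper ((Spec (CommRingCat.of k)) ↘ Spec (CommRingCat.of k)) := inferInstanceAs (IsProper (𝟙 _))
  haveI : Subsingleton ↥(Spec (CommRingCat.of k)) := inferInstanceAs (Subsingleton (PrimeSpectrum k))
  haveI : IsLocallyNoetherian (Spec (CommRingCat.of k)) := inferInstance
  obtain ⟨e⟩ := nonempty_free hM (IsLocalRing.closedPoint k)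
  rw [CurveCohLib.euler_congr e, CurveCohLib.euler_eq_finrank_zero (GenusOneSS.isCoh_freeMod k n)
    (fun x _ => isClosed_discrete _), GenusOneSS.finrank_h0_freeMod k n]

end Aux

/-- Let k be an algebraically closed field, A an abelian variety over k (a proper smooth k-group scheme
with geometrically connected fibres), (A^t, φ) a given dual abelian variety of A for the fppf
topology with A^t itself an abelian variety, P an invertible module on A ×_k A^t whose class is a
Poincaré class, and Φ_P = Rpr_{2,*}(Lpr_1^*(−) ⊗^L P) the Fourier–Mukai functor D(O_A) → D(O_{A^t})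
(the derived functors are assumed to exist). Let F be a coherent O_A-module satisfying the index
condition with index i: the cohomology sheaves of Φ_P(F) vanish in every degree other than i, and
the one in degree i (the transform of F) is finite locally free of rank n. Then the Euler
characteristic χ(A, F) = Σ_j (−1)^j dim_k H^j(A, F) equals (−1)^i · n. (The rank here is that of the
transform of F, which is what the last step of the published proof computes; reading it as the rank
of F itself is wrong already for an invertible sheaf of degree two on an elliptic curve, whose Euler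
characteristic is 2.) -/
theorem result (k : Type u) [Field k] [IsAlgClosed k]
    (A At : Over (Spec (CommRingCat.of k))) [GrpObj A] [IsProper A.hom] [Smooth A.hom] [GeometricallyConnected A.hom]
    [GrpObj At] [IsProper At.hom] [Smooth At.hom] [GeometricallyConnected At.hom]
    (φ : ∀ T : Over (Spec (CommRingCat.of k)), PicF.Cl (PicF.XT A.hom T) → (T ⟶ At))
    (hφ : AbDual.IsDualAV Scheme.fppfPrecoverage A At φ)
    (P : (pullback A.hom At.hom).Modules) (hP : PicF.IsInvertible P)
    (hPξ : AbDual.IsPoincareCl A At φ (PicF.cl P))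
    [DCoh.HasLpull (pullback.fst A.hom At.hom)] [DCoh.HasLTensorMod P] [DCoh.HasRpush (pullback.snd A.hom At.hom)]
    (F : A.left.Modules) (hF : Coh.IsCoh F) (i n : ℕ)
    (hvan : ∀ j : ℤ, j ≠ (i : ℤ) →
      IsZero (DCoh.HD ((DCoh.Lpull (pullback.fst A.hom At.hom) ⋙ DCoh.LTensorMod P ⋙
        DCoh.Rpush (pullback.snd A.hom At.hom)).obj (DCoh.inD A.left F)) j))
    (hfree : FlatMod.IsFinLocFreeOfRank n
      (DCoh.HD ((DCoh.Lpull (pullback.fst A.hom At.hom) ⋙ DCoh.LTensorMod P ⋙
        DCoh.Rpush (pullback.snd A.hom At.hom)).obj (DCoh.inD A.left F)) (i : ℤ))) :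
    @Curv2.euler k _ A.left ⟨A.hom⟩ F = (-1 : ℤ) ^ i * (n : ℤ) := by
  haveI := AVDual.geometricallyIntegral_of_smooth A
  haveI := AVDual.geometricallyIntegral_of_smooth At
  haveI : IsCommMonObj A := isCommMonObj_of_isProper_of_geometricallyIntegral _
  haveI : IsCommMonObj At := isCommMonObj_of_isProper_of_geometricallyIntegral _
  let x := η[At]
  let sL : A.left ⟶ pullback A.hom At.hom := (lift (𝟙 A) (toUnit A ≫ x)).left
  let M : A.left.Modules := (Scheme.Modules.pullback sL).obj P
  haveI := KFlatLib.hasLTensorMod M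
  haveI : DCoh.HasLTensorMod ((Scheme.Modules.pullback (lift (𝟙 A) (toUnit A ≫ x)).left).obj P) :=
    KFlatLib.hasLTensorMod _
  haveI := KFlatLib.hasRpush_scheme A.hom
  haveI := KFlatLib.hasLpull x.left
  haveI := KFlatLib.hasLTensorMod (Coh.structureModule A.left)
  obtain ⟨eM⟩ : Nonempty (M ≅ Coh.structureModule A.left) := by
    refine (PicGrp.cl_eq_cl_iff M _).1 ?_
    show pl (lift (𝟙 A) (toUnit A ≫ η[At])) (PicF.cl P : PicF.Cl (A ⊗ At).left) = 1
    rw [← Hom.one_def]
    exact (AVDual.poincare_axes hφ hPξ).2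
  have hq : DCoh.IsQCohD (DCoh.inD A.left F) := KFlatLib.isQCohD_inD_of_isQCoh hF.1
  obtain ⟨e⟩ := Groth.Agent.S14147.result k A At φ hφ P hP hPξ x
  obtain ⟨c⟩ := DerivedNat.nonempty_tensor_unit eM
  let Φ := (DCoh.Lpull (pullback.fst A.hom At.hom) ⋙ DCoh.LTensorMod P ⋙ DCoh.Rpush (pullback.snd A.hom At.hom)).obj
    (DCoh.inD A.left F)
  let E : At.left.Modules := DCoh.HD Φ (i : ℤ)
  obtain ⟨s⟩ := AVPoincareD.nonempty_iso_single Φ (i : ℤ) E hvan (Iso.refl _)
  obtain ⟨s'⟩ := AVPoincareD.nonempty_single_shift E (i : ℤ)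
  obtain ⟨l⟩ := Aux.nonempty_lpull_flatMod x.left (KFlatLib.isFlat_of_isFinLocFree (CurveStable.isFinLocFree_of_rank hfree))
  obtain ⟨ls⟩ := KExact.ShriekFormula.nonempty_lpull_shift x.left (-(i : ℤ))
  let N : (Spec (CommRingCat.of k)).Modules := (Scheme.Modules.pullback x.left).obj E
  let R : DCoh.D (Spec (CommRingCat.of k)) := (DCoh.Rpush A.hom).obj (DCoh.inD A.left F)
  let eR : R ≅ (DCoh.inD (Spec (CommRingCat.of k)) N)⟦-(i : ℤ)⟧ :=
    (DCoh.Rpush A.hom).mapIso (c.app (DCoh.inD A.left F)).symm ≪≫ e.app ⟨_, hq⟩ ≪≫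
      (DCoh.Lpull x.left).mapIso (s ≪≫ s') ≪≫ ls.app _ ≪≫
      (shiftFunctor (DCoh.D (Spec (CommRingCat.of k))) (-(i : ℤ))).mapIso l
  let eS : R ≅ (DerivedCategory.singleFunctor (Spec (CommRingCat.of k)).Modules (i : ℤ)).obj N :=
    eR ≪≫ (AVPoincareD.nonempty_single_shift N (i : ℤ)).some.symm
  haveI : HasInjectiveResolutions A.left.Modules := KFlatLib.hasInjectiveResolutions_modules
  have hR : ∀ p : ℕ, Nonempty ((Coh.Rpush A.hom p).obj F ≅
      DCoh.HD ((DerivedCategory.singleFunctor (Spec (CommRingCat.of k)).Modules (i : ℤ)).obj N) (p : ℤ)) := fun p => by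
    obtain ⟨h⟩ := KFlatLib.nonempty_hd_rpush_single A.hom F p
    exact ⟨h.symm ≪≫ (DerivedCategory.homologyFunctor _ _).mapIso eS⟩
  letI : A.left.Over (Spec (CommRingCat.of k)) := ⟨A.hom⟩
  letI : (Spec (CommRingCat.of k)).Over (Spec (CommRingCat.of k)) := ⟨𝟙 _⟩
  haveI : IsProper (A.left ↘ Spec (CommRingCat.of k)) := inferInstanceAs (IsProper A.hom)
  haveI : IsProper ((Spec (CommRingCat.of k)) ↘ Spec (CommRingCat.of k)) := inferInstanceAs (IsProper (𝟙 _))
  rw [EulerLeray.euler_eq k A.hom (Category.comp_id _) hF, finsum_eq_single _ i fun p hp => ?_]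
  · obtain ⟨h⟩ := hR i
    rw [CurveCohLib.euler_congr (h ≪≫ (DerivedCategory.homologyFunctor _ _).mapIso
        ((DerivedCategory.singleFunctorIsoCompQ _ (i : ℤ)).app N) ≪≫
      (DerivedCategory.homologyFunctorFactors _ (i : ℤ)).app _ ≪≫
      (HomologicalComplex.homologyFunctorSingleIso _ (ComplexShape.up ℤ) (i : ℤ)).app N)]
    exact congrArg _ (Aux.euler_point (TFOneX.isFinLocFreeOfRank_pullback x.left hfree))
  · obtain ⟨h⟩ := hR p
    have hz : IsZero (DCoh.HD ((DerivedCategory.singleFunctor (Spec (CommRingCat.of k)).Modules (i : ℤ)).obj N) (p : ℤ)) := by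
      rcases lt_or_gt_of_ne hp with hlt | hgt
      · exact DerivedCategory.isZero_of_isGE _ (i : ℤ) _ (by omega)
      · exact DerivedCategory.isZero_of_isLE _ (i : ℤ) _ (by omega)
    rw [CurveSlope.euler_eq_zero_of_isZero k (hz.of_iso h), mul_zero]

end Groth.Agent.S16157
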