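import Groth.Statements.S16158
import Mathlib.RingTheory.LocalRing.Module
import Mathlib.RingTheory.Ideal.AssociatedPrime.Finiteness
import Mathlib.LinearAlgebra.Dimension.Constructions
import Mathlib.Algebra.DirectSum.Module
-- import your own Groth.Agent.* helpers here

set_option autoImplicit false
universe u v w
open MadRed

namespace Groth.Agent.S16158

/-- Let R be a commutative Noetherian ring and M a finitely generated R-module. Then there is a natural
number n such that in every decomposition of M as an internal direct sum of a family of submodules,
at most n of the summands are nonzero (the nonzero summands are indexed by a finite set of size at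
most n). -/
theorem result (R : Type u) [CommRing R] [IsNoetherianRing R]
    (M : Type v) [AddCommGroup M] [Module R M] [Module.Finite R M] :
    ∃ n : ℕ, ∀ (ι : Type w) [DecidableEq ι] (N : ι → Submodule R M), DirectSum.IsInternal N →
      ∃ s : Finset ι, s.card ≤ n ∧ ∀ i, N i ≠ ⊥ → i ∈ s := by
  classical
  obtain ⟨g, π, hπ⟩ := Module.Finite.exists_fin' R M
  refine ⟨(associatedPrimes.finite R M).toFinset.card * g, fun ι _ N hN => ?_⟩
  have hbound : ∀ t : Finset ι, (∀ i ∈ t, N i ≠ ⊥) →
      t.card ≤ (associatedPrimes.finite R M).toFinset.card * g := by
    intro t ht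
    have hq : ∀ i : t, ∃ q ∈ associatedPrimes R M, ∀ h : q.IsPrime, (⟨q, h⟩ : PrimeSpectrum R) ∈ Module.support R (N i.1) := by
      intro i
      haveI : Nontrivial (N i.1) := Submodule.nontrivial_iff_ne_bot.mpr (ht i.1 i.2)
      obtain ⟨q, hq⟩ := associatedPrimes.nonempty R (N i.1)
      refine ⟨q, IsAssociatedPrime.map_of_injective (N i.1).subtype hq (N i.1).injective_subtype, fun h => Module.mem_support_iff'.mpr ?_⟩
      obtain ⟨-, x, hx⟩ := (isAssociatedPrime_iff).mp hq
      refine ⟨x, fun r hr h0 => hr ?_⟩
      show r ∈ q
      rw [hx, Submodule.mem_colon_singleton, h0]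
      exact Submodule.zero_mem _
    choose q hqA hqs using hq
    have hfib : ∀ P ∈ (associatedPrimes.finite R M).toFinset, ({i | q i = P} : Finset t).card ≤ g := by
      intro P hP
      haveI : P.IsPrime := ((Set.Finite.mem_toFinset _).mp hP).1
      let e : M ≃ₗ[R] DirectSum ι fun i => N i := (LinearEquiv.ofBijective (DirectSum.coeLinearMap N) hN).symm
      let u : Finset t := {i | q i = P}
      let proj : M →ₗ[R] ((i : u) → N i.1.1) :=
        LinearMap.pi fun i => (DirectSum.component R ι (fun j => N j) i.1.1) ∘ₗ e.toLinearMap
      have hproj : Function.Surjective proj := by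
        intro f
        refine ⟨e.symm (∑ i : u, DirectSum.lof R ι (fun j => N j) i.1.1 (f i)), funext fun j => ?_⟩
        show DirectSum.component R ι (fun l => N l) j.1.1 (e (e.symm _)) = f j
        rw [e.apply_symm_apply, map_sum, Finset.sum_eq_single j]
        · exact DirectSum.component.lof_self R _ _
        · intro i _ hij
          rw [DirectSum.component.of, dif_neg]
          exact fun h => hij (Subtype.ext (Subtype.ext h))
        · intro h; exact absurd (Finset.mem_univ _) h
      haveI : ∀ i, Module.Finite R (N i) := fun i => Module.IsNoetherian.finite R (N i)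
      let K := P.ResidueField
      have h1 := LinearMap.lTensor_surjective (g := proj ∘ₗ π) K (hproj.comp hπ)
      have h1' : Function.Surjective (LinearMap.baseChange K (proj ∘ₗ π)) := h1
      have h2 := LinearMap.finrank_range_le (LinearMap.baseChange K (proj ∘ₗ π))
      rw [LinearMap.range_eq_top.mpr h1', finrank_top] at h2
      haveI : Nontrivial R := (algebraMap R K).domain_nontrivial
      rw [(TensorProduct.piRight R K K (fun i : u => N i.1.1)).finrank_eq, Module.finrank_pi_fintype] at h2
      rw [show Module.finrank K (TensorProduct R K (Fin g → R)) = g by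
        rw [Module.finrank_baseChange, Module.finrank_fin_fun]] at h2
      refine le_trans ?_ h2
      have h3 : ∑ _i : u, 1 ≤ ∑ i : u, Module.finrank K (TensorProduct R K (N i.1.1)) := by
        refine Finset.sum_le_sum fun i _ => ?_
        have hqi : q i.1 = P := (Finset.mem_filter.mp i.2).2
        have := hqs i.1 (hqi ▸ inferInstance)
        simp only [hqi] at this
        haveI := (Module.mem_support_iff_nontrivial_residueField_tensorProduct ⟨P, inferInstance⟩).mp this
        exact Module.finrank_pos
      rw [Finset.sum_const, smul_eq_mul, mul_one, Finset.card_univ, Fintype.card_coe] at h3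
      exact h3
    calc t.card = (Finset.univ : Finset t).card := by simp
      _ ≤ g * (associatedPrimes.finite R M).toFinset.card :=
          Finset.card_le_mul_card_image_of_maps_to (f := q) (fun i _ => (Set.Finite.mem_toFinset _).mpr (hqA i)) g hfib
      _ = _ := mul_comm _ _
  have hfin : {i | N i ≠ ⊥}.Finite := by
    by_contra hinf
    obtain ⟨t, hts, htc⟩ := Set.Infinite.exists_subset_card_eq hinf ((associatedPrimes.finite R M).toFinset.card * g + 1)
    have := hbound t fun i hi => hts hi
    omega
  exact ⟨hfin.toFinset, hbound _ fun i hi => hfin.mem_toFinset.mp hi, fun i hi => hfin.mem_toFinset.mpr hi⟩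

end Groth.Agent.S16158
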