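import Groth.Statements.S16159
import Mathlib.LinearAlgebra.Eigenspace.Basic
import Mathlib.RingTheory.Noetherian.Basic
-- import your own Groth.Agent.* helpers here

set_option autoImplicit false
universe u v w x
open MadRed

namespace Groth.Agent.S16159

/-- The eigencomponents of an element of a stable submodule lie in it. -/
theorem components_mem {k : Type u} [Field k] {R : Type v} [CommRing R] [Algebra k R] {V : Type w} [AddCommGroup V]
    [Module R V] [Module k V] [IsScalarTower k R V] (g : Module.End R V) (B : Submodule R V) (hB : ∀ w ∈ B, g w ∈ B)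
    (s : Finset k) : ∀ m : k → V, (∀ μ ∈ s, g (m μ) = μ • m μ) → ∑ μ ∈ s, m μ ∈ B → ∀ μ ∈ s, m μ ∈ B := by
  classical
  induction s using Finset.induction with
  | empty => simp
  | insert a s ha ih =>
    intro m hm hsum μ hμ
    rw [Finset.sum_insert ha] at hsum
    have h1 : ∑ ν ∈ s, (ν - a) • m ν ∈ B := by
      have := B.sub_mem (hB _ hsum) ((B.restrictScalars k).smul_mem a hsum)
      convert this using 1
      rw [map_add, map_sum, hm a (Finset.mem_insert_self _ _), smul_add, Finset.smul_sum, add_sub_add_left_eq_sub,
        ← Finset.sum_sub_distrib]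
      exact Finset.sum_congr rfl fun ν hν => by rw [hm ν (Finset.mem_insert_of_mem hν), sub_smul]
    have h2 := ih (fun ν => (ν - a) • m ν)
      (fun ν hν => by rw [LinearMap.map_smul_of_tower, hm ν (Finset.mem_insert_of_mem hν), smul_comm]) h1
    have h3 : ∀ ν ∈ s, m ν ∈ B := fun ν hν => by
      have hne : ν - a ≠ 0 := sub_ne_zero.mpr (fun h => ha (h ▸ hν))
      have := (B.restrictScalars k).smul_mem (ν - a)⁻¹ (h2 ν hν)
      rwa [smul_smul, inv_mul_cancel₀ hne, one_smul] at this
    rcases Finset.mem_insert.mp hμ with rfl | hμ
    · have := B.sub_mem hsum (B.sum_mem fun ν hν => h3 ν hν)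
      simpa using this
    · exact h3 μ hμ

/-- Let k be a field, R a commutative Noetherian k-algebra and V an R-module, viewed also as a k-vector
space through k → R. Let (f_i) be a family of pairwise commuting R-linear endomorphisms of V such
that each f_i, as a k-linear map, is diagonalizable over k (its eigenspaces span V), and such that
every vector of V lies in a finitely generated R-submodule stable under every f_i. Then the family
is simultaneously diagonalizable over k: the common eigenspaces ⨅_i Eig(f_i, χ(i)), over all
assignments χ of eigenvalues in k, span V. The source states this for the endomorphisms given by an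
abelian group acting R-linearly; the row takes any commuting family, which is what the argument
uses, and neither k algebraically closed nor of characteristic zero is needed. -/
theorem result
    (k : Type u) [Field k] (R : Type v) [CommRing R] [Algebra k R] [IsNoetherianRing R]
    (V : Type w) [AddCommGroup V] [Module R V] [Module k V] [IsScalarTower k R V]
    (ι : Type x) (f : ι → Module.End R V)
    (hcomm : ∀ i j, Commute (f i) (f j))
    (hdiag : ∀ i, ⨆ μ : k, Module.End.eigenspace ((f i).restrictScalars k) μ = ⊤)
    (hfin : ∀ v : V, ∃ W : Submodule R V, v ∈ W ∧ W.FG ∧ ∀ i, ∀ w ∈ W, f i w ∈ W) :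
    ⨆ χ : ι → k, ⨅ i, Module.End.eigenspace ((f i).restrictScalars k) (χ i) = ⊤ := by
  classical
  set Sg : Submodule k V := ⨆ χ : ι → k, ⨅ i, Module.End.eigenspace ((f i).restrictScalars k) (χ i) with hSg
  rw [eq_top_iff]
  intro v _
  obtain ⟨W, hvW, hWfg, hWst⟩ := hfin v
  by_contra hv
  haveI : IsNoetherian R W := isNoetherian_of_fg_of_noetherian W hWfg
  have main : ∀ U : Submodule R W, ∀ B : Submodule R V, B ≤ W → (∀ i, ∀ w ∈ B, f i w ∈ B) →
      Disjoint (U.map W.subtype) B → B.restrictScalars k ≤ Sg := by
    intro U
    induction U using IsNoetherian.induction with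
    | _ U ih =>
      intro B hBW hBst hdisj
      by_cases hscal : ∀ i, ∃ μ : k, ∀ w ∈ B, f i w = μ • w
      · choose χ hχ using hscal
        intro w hw
        exact Submodule.mem_iSup_of_mem χ ((Submodule.mem_iInf _).mpr fun i => Module.End.mem_eigenspace_iff.mpr (hχ i w hw))
      · push Not at hscal
        obtain ⟨i, hi⟩ := hscal
        let piece : k → Submodule R V := fun μ => B ⊓ LinearMap.ker (f i - algebraMap R (Module.End R V) (algebraMap k R μ))
        have hpiece : ∀ μ w, w ∈ piece μ ↔ w ∈ B ∧ f i w = μ • w := fun μ w => by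
          simp only [piece, Submodule.mem_inf, LinearMap.mem_ker, LinearMap.sub_apply, Module.algebraMap_end_apply,
            sub_eq_zero, algebraMap_smul]
        intro w hw
        have hw' : w ∈ ⨆ μ : k, Module.End.eigenspace ((f i).restrictScalars k) μ := by rw [hdiag i]; trivial
        obtain ⟨m, hm, rfl⟩ := (Submodule.mem_iSup_iff_exists_finsupp _ _).mp hw'
        have hmB : ∀ μ ∈ m.support, m μ ∈ B :=
          components_mem (f i) B (hBst i) m.support m (fun μ _ => Module.End.mem_eigenspace_iff.mp (hm μ)) hw
        refine Submodule.sum_mem _ fun μ hμ => ?_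
        obtain ⟨w0, hw0B, hw0⟩ := hi μ
        obtain ⟨m0, hm0, hm0e⟩ := (Submodule.mem_iSup_iff_exists_finsupp _ _).mp
          (show w0 ∈ ⨆ ν : k, Module.End.eigenspace ((f i).restrictScalars k) ν by rw [hdiag i]; trivial)
        obtain ⟨ν, hν, hνμ⟩ : ∃ ν ∈ m0.support, ν ≠ μ := by
          by_contra hall
          push Not at hall
          refine hw0 ?_
          rw [← hm0e, Finsupp.sum, map_sum, Finset.smul_sum]
          exact Finset.sum_congr rfl fun ν hν => by
            have := Module.End.mem_eigenspace_iff.mp (hm0 ν)
            rw [hall ν hν] at this ⊢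
            exact this
        have hνB : m0 ν ∈ B := components_mem (f i) B (hBst i) m0.support m0
          (fun ρ _ => Module.End.mem_eigenspace_iff.mp (hm0 ρ))
          (by have := hm0e ▸ hw0B; exact this) ν hν
        let U' : Submodule R W := U ⊔ (piece ν).comap W.subtype
        have hU' : U < U' := by
          refine lt_of_le_of_ne le_sup_left fun hEq => ?_
          have h1 : (⟨m0 ν, hBW hνB⟩ : W) ∈ U := by
            rw [hEq]
            exact Submodule.mem_sup_right ((hpiece ν _).mpr ⟨hνB, Module.End.mem_eigenspace_iff.mp (hm0 ν)⟩)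
          exact (Finsupp.mem_support_iff.mp hν) (Submodule.disjoint_def.mp hdisj _ ⟨_, h1, rfl⟩ hνB)
        refine ih U' hU' (piece μ) (inf_le_left.trans hBW) ?_ ?_ ?_
        · intro j x hx
          obtain ⟨hxB, hxe⟩ := (hpiece μ x).mp hx
          refine (hpiece μ _).mpr ⟨hBst j x hxB, ?_⟩
          have h2 : f i (f j x) = f j (f i x) := LinearMap.congr_fun (hcomm i j).eq x
          rw [h2, hxe, LinearMap.map_smul_of_tower]
        · rw [Submodule.disjoint_def]
          intro x hx hxμ
          obtain ⟨hxB, hxe⟩ := (hpiece μ x).mp hxμ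
          rw [Submodule.map_sup] at hx
          obtain ⟨a, ha, b, hb, rfl⟩ := Submodule.mem_sup.mp hx
          obtain ⟨b', hb', rfl⟩ := hb
          obtain ⟨hbB, hbe⟩ := (hpiece ν _).mp hb'
          have haB : a ∈ B := by simpa using B.sub_mem hxB hbB
          have ha0 := Submodule.disjoint_def.mp hdisj a ha haB
          subst ha0
          rw [zero_add] at hxe ⊢
          rw [hbe] at hxe
          have h3 : (ν - μ) • W.subtype b' = 0 := by rw [sub_smul, hxe, sub_self]
          exact (smul_eq_zero.mp h3).resolve_left (sub_ne_zero.mpr hνμ)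
        · exact (hpiece μ _).mpr ⟨hmB μ hμ, Module.End.mem_eigenspace_iff.mp (hm μ)⟩
  exact hv (main ⊥ W le_rfl hWst (by simp) hvW)

end Groth.Agent.S16159
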