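import Groth.Statements.S16160
import Groth.Agent.S16159
import Groth.Agent.ComodLib.Basic
import Groth.Agent.ComodLib.CartierChar0
-- import your own Groth.Agent.* helpers here

set_option autoImplicit false
universe u v w
open scoped TensorProduct
open MadRed

namespace Groth.Agent.S16160

open Groth.Agent TensorProduct WithConv

section
variable {k : Type u} [Field k] {A : Type v} [CommRing A] [HopfAlgebra k A] {R : Type w} [CommRing R] [Algebra k R]

theorem ptAct_tmul (g : A →ₐ[k] R) (r : R) (a : A) :
    MadRed.ptAct k A R g (r ⊗ₜ[k] a) = r • MadRed.translAux k A R g a := by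
  show Algebra.TensorProduct.lift _ _ _ (r ⊗ₜ[k] a) = _
  rw [Algebra.TensorProduct.lift_tmul, Algebra.TensorProduct.includeLeft_apply, Algebra.smul_def]
  rfl

theorem ptAct_translAux (g h : A →ₐ[k] R) (a : A) :
    MadRed.ptAct k A R g (MadRed.translAux k A R h a) = MadRed.translAux k A R (toConv g * toConv h).ofConv a := by
  let Φ : A ⊗[k] (A ⊗[k] A) →ₗ[k] R ⊗[k] A :=
    (TensorProduct.comm k A R).toLinearMap ∘ₗ
      (LinearMap.mul' k R ∘ₗ TensorProduct.map g.toLinearMap h.toLinearMap).lTensor A
  have hΦ : ∀ x y z, Φ (x ⊗ₜ[k] (y ⊗ₜ[k] z)) = (g y * h z) ⊗ₜ[k] x := fun x y z => by simp [Φ]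
  have h1 : ∀ w : A ⊗[k] A,
      MadRed.ptAct k A R g (Algebra.TensorProduct.map h (AlgHom.id k A) (Algebra.TensorProduct.comm k A A w)) =
        Φ (TensorProduct.assoc k A A A ((CoalgebraStruct.comul (R := k)).rTensor A w)) := by
    intro w
    induction w using TensorProduct.induction_on with
    | zero => simp
    | add p q hp hq => simp only [map_add, hp, hq]
    | tmul p q =>
      rw [Algebra.TensorProduct.comm_tmul, Algebra.TensorProduct.map_tmul, AlgHom.id_apply, ptAct_tmul,
        LinearMap.rTensor_tmul]
      show h q • Algebra.TensorProduct.map g (AlgHom.id k A) (Algebra.TensorProduct.comm k A A (CoalgebraStruct.comul (R := k) p)) = _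
      induction CoalgebraStruct.comul (R := k) p using TensorProduct.induction_on with
      | zero => simp
      | add u v hu hv => simp only [map_add, smul_add, TensorProduct.add_tmul, hu, hv]
      | tmul u v => simp [hΦ, TensorProduct.smul_tmul', mul_comm]
  have h2 : ∀ w : A ⊗[k] A,
      Algebra.TensorProduct.map (toConv g * toConv h).ofConv (AlgHom.id k A) (Algebra.TensorProduct.comm k A A w) =
        Φ ((CoalgebraStruct.comul (R := k)).lTensor A w) := by
    intro w
    induction w using TensorProduct.induction_on with
    | zero => simp
    | add p q hp hq => simp only [map_add, hp, hq]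
    | tmul p q =>
      rw [Algebra.TensorProduct.comm_tmul, Algebra.TensorProduct.map_tmul, AlgHom.id_apply, LinearMap.lTensor_tmul,
        show (toConv g * toConv h).ofConv q = _ from AlgHom.convMul_apply _ _ q]
      induction CoalgebraStruct.comul (R := k) q using TensorProduct.induction_on with
      | zero => simp
      | add u v hu hv => simp only [map_add, TensorProduct.add_tmul, TensorProduct.tmul_add, hu, hv]
      | tmul u v => simp [hΦ]
  refine (h1 (CoalgebraStruct.comul (R := k) a)).trans ?_
  rw [show TensorProduct.assoc k A A A ((CoalgebraStruct.comul (R := k)).rTensor A (CoalgebraStruct.comul (R := k) a)) =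
    (CoalgebraStruct.comul (R := k)).lTensor A (CoalgebraStruct.comul (R := k) a) from Coalgebra.coassoc_apply a, ← h2]
  rfl

theorem ptAct_ptAct (g h : A →ₐ[k] R) (x : R ⊗[k] A) :
    MadRed.ptAct k A R g (MadRed.ptAct k A R h x) = MadRed.ptAct k A R (toConv g * toConv h).ofConv x := by
  induction x using TensorProduct.induction_on with
  | zero => simp
  | add p q hp hq => simp only [map_add, hp, hq]
  | tmul r a => rw [ptAct_tmul, ptAct_tmul, map_smul, ptAct_translAux]

end

/-- Let k be a field, G = Spec A an affine k-group with A a commutative Hopf algebra over k, and R a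
commutative Noetherian k-algebra, so that R ⊗ A is the coordinate ring of the base change G_R and
the k-algebra maps A → R are its R-valued points. Let H be a set of R-valued points which pairwise
commute for the convolution product of G(R) (the case of an abelian subgroup of G(R)). If every g in
H is diagonalizable over k on R ⊗ A, meaning that the eigenspaces of right translation by g, for
eigenvalues in k, span R ⊗ A, then H is simultaneously diagonalizable over k on R ⊗ A: the common
eigenspaces of the right translations by all g in H span R ⊗ A. The standing assumptions of the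
source at this point (k algebraically closed of characteristic zero, G reductive) are not used. -/
theorem result (k : Type u) [Field k]
    (A : Type v) [CommRing A] [HopfAlgebra k A] (R : Type w) [CommRing R] [Algebra k R]
    [IsNoetherianRing R] (H : Set (A →ₐ[k] R))
    (hcomm : ∀ g ∈ H, ∀ h ∈ H,
      WithConv.toConv g * WithConv.toConv h = WithConv.toConv h * WithConv.toConv g)
    (hdiag : ∀ g ∈ H, ⨆ μ : k,
      Module.End.eigenspace (((MadRed.ptAct k A R g).toLinearMap).restrictScalars k) μ = ⊤) :
    ⨆ χ : H → k, ⨅ g : H,
      Module.End.eigenspace (((MadRed.ptAct k A R g.1).toLinearMap).restrictScalars k) (χ g) = ⊤ := by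
  refine Groth.Agent.S16159.result k R (R ⊗[k] A) H (fun g => (MadRed.ptAct k A R g.1).toLinearMap) ?_ (fun g => hdiag g.1 g.2) ?_
  · intro g h
    refine LinearMap.ext fun x => ?_
    show MadRed.ptAct k A R g.1 (MadRed.ptAct k A R h.1 x) = MadRed.ptAct k A R h.1 (MadRed.ptAct k A R g.1 x)
    rw [ptAct_ptAct, ptAct_ptAct, hcomm g.1 g.2 h.1 h.2]
  · intro v
    classical
    obtain ⟨S, hS⟩ := TensorProduct.exists_finset v
    obtain ⟨C, hCf, hCS, hC⟩ := ComodLib.exists_finite_subcomod_le (k := k) (C := A) (V := A) (S.image Prod.snd).finite_toSet
    let W : Submodule R (R ⊗[k] A) := Submodule.span R ((fun c : A => (1 : R) ⊗ₜ[k] c) '' (C : Set A))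
    have hinc : ∀ (r : R), ∀ c ∈ C, r ⊗ₜ[k] c ∈ W := fun r c hc => by
      have := W.smul_mem r (Submodule.subset_span ⟨c, hc, rfl⟩)
      rwa [TensorProduct.smul_tmul', smul_eq_mul, mul_one] at this
    refine ⟨W, ?_, ?_, ?_⟩
    · rw [hS]
      exact Submodule.sum_mem _ fun p hp => hinc _ _ (hCS (Finset.mem_image_of_mem _ hp))
    · obtain ⟨T, hT⟩ := Module.Finite.iff_fg.mp hCf
      refine ⟨T.image fun c : A => (1 : R) ⊗ₜ[k] c, le_antisymm ?_ ?_⟩
      · refine Submodule.span_mono ?_
        rw [Finset.coe_image]
        exact Set.image_mono (fun c hc => by rw [← hT]; exact Submodule.subset_span hc)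
      · rw [Submodule.span_le]
        rintro _ ⟨c, hc, rfl⟩
        rw [← hT] at hc
        induction hc using Submodule.span_induction with
        | mem c hc => exact Submodule.subset_span (Finset.mem_image_of_mem _ hc)
        | zero => simp
        | add a b _ _ ha hb =>
          show (1 : R) ⊗ₜ[k] (a + b) ∈ Submodule.span R _
          rw [TensorProduct.tmul_add]; exact add_mem ha hb
        | smul r a _ ha =>
          show (1 : R) ⊗ₜ[k] (r • a) ∈ Submodule.span R _
          rw [TensorProduct.tmul_smul, ← IsScalarTower.algebraMap_smul R r]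
          exact Submodule.smul_mem _ _ ha
    · intro g w hw
      show MadRed.ptAct k A R g.1 w ∈ W
      induction hw using Submodule.span_induction with
      | mem w hw =>
        obtain ⟨c, hc, rfl⟩ := hw
        rw [ptAct_tmul, one_smul]
        obtain ⟨z, hz⟩ := hC c hc
        show Algebra.TensorProduct.map g.1 (AlgHom.id k A) (Algebra.TensorProduct.comm k A A (CoalgebraStruct.comul (R := k) c)) ∈ W
        rw [show CoalgebraStruct.comul (R := k) c = _ from hz.symm]
        clear hz
        induction z using TensorProduct.induction_on with
        | zero => simp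
        | tmul p q => simpa using hinc (g.1 q) p.1 p.2
        | add p q hp hq => simp only [map_add]; exact add_mem hp hq
      | zero => simp
      | add a b _ _ ha hb => rw [map_add]; exact add_mem ha hb
      | smul r a _ ha => rw [map_smul]; exact Submodule.smul_mem _ _ ha

end Groth.Agent.S16160
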