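import Groth.Statements.S16161
import Mathlib.RingTheory.RootsOfUnity.PrimitiveRoots
import Mathlib.RingTheory.RootsOfUnity.AlgebraicallyClosed
import Mathlib.LinearAlgebra.Eigenspace.Basic
import Mathlib.RingTheory.Polynomial.Cyclotomic.Basic
-- import your own Groth.Agent.* helpers here

set_option autoImplicit false
universe u v
open MadRed

namespace Groth.Agent.S16161

/-- The kernel of a product of distinct linear factors lies in the sum of the eigenspaces. -/
theorem ker_prod_le {k : Type u} [Field k] {V : Type v} [AddCommGroup V] [Module k V] (g : Module.End k V)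
    (s : Finset k) : LinearMap.ker (Polynomial.aeval g (∏ μ ∈ s, (Polynomial.X - Polynomial.C μ))) ≤
      ⨆ μ : k, Module.End.eigenspace g μ := by
  classical
  induction s using Finset.induction with
  | empty =>
    intro v hv
    simp at hv
    rw [hv]; exact zero_mem _
  | insert a s ha ih =>
    have hc : IsCoprime (Polynomial.X - Polynomial.C a) (∏ μ ∈ s, (Polynomial.X - Polynomial.C μ)) :=
      IsCoprime.prod_right fun μ hμ => Polynomial.isCoprime_X_sub_C_of_isUnit_sub
        (Ne.isUnit (sub_ne_zero.mpr fun h => ha (h ▸ hμ)))
    rw [Finset.prod_insert ha, ← Polynomial.sup_ker_aeval_eq_ker_aeval_mul_of_coprime g hc]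
    refine sup_le ?_ ih
    refine le_trans ?_ (le_iSup _ a)
    intro v hv
    rw [Module.End.mem_eigenspace_iff]
    simpa [sub_eq_zero] using hv

/-- Let k be an algebraically closed field of characteristic zero and R a reduced finitely generated
commutative k-algebra whose spectrum is connected (R has no idempotents besides 0 and 1); let W =
R^n be a free R-module of finite rank and g an R-linear endomorphism of W of finite order, g^m = 1
with m > 0 (an element of finite order of GL(W)(R)). Then the action of g on W is diagonalizable
over k: viewing g as a k-linear map, its eigenspaces for eigenvalues in k span W. The source also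
assumes that g is diagonalizable over k on every fibre W ⊗ k(x), x a point of Spec R; for g of
finite order this holds automatically (k is algebraically closed of characteristic zero), as the
source itself notes, so that hypothesis is omitted. -/
theorem result
    (k : Type u) [Field k] [IsAlgClosed k] [CharZero k]
    (R : Type v) [CommRing R] [Algebra k R] [IsReduced R] [Algebra.FiniteType k R]
    (hconn : ∀ e : R, IsIdempotentElem e → e = 0 ∨ e = 1)
    (n : ℕ) (g : Module.End R (Fin n → R)) (m : ℕ) (hm : 0 < m) (hg : g ^ m = 1) :
    ⨆ μ : k, Module.End.eigenspace (g.restrictScalars k) μ = ⊤ := by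
  classical
  haveI : NeZero m := ⟨by omega⟩
  haveI : NeZero (m : k) := ⟨by exact_mod_cast hm.ne'⟩
  obtain ⟨ζ, hζ⟩ := HasEnoughRootsOfUnity.exists_primitiveRoot k m
  have hg' : (g.restrictScalars k) ^ m = 1 := by
    have hp : ∀ j : ℕ, (g.restrictScalars k) ^ j = (g ^ j).restrictScalars k := fun j => by
      induction j with
      | zero => rfl
      | succ j ih => rw [pow_succ, pow_succ, ih]; rfl
    rw [hp, hg]; rfl
  rw [eq_top_iff]
  intro v _
  have hv : v ∈ LinearMap.ker (Polynomial.aeval (g.restrictScalars k) (∏ μ ∈ Polynomial.nthRootsFinset m (1 : k), (Polynomial.X - Polynomial.C μ))) := by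
    rw [LinearMap.mem_ker, ← Polynomial.X_pow_sub_one_eq_prod hm hζ]
    simp [hg']
  exact ker_prod_le (g.restrictScalars k) _ hv

end Groth.Agent.S16161
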