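import Groth.Statements.S16162
-- import your own Groth.Agent.* helpers here

set_option autoImplicit false
open CategoryTheory MonoidalCategory CartesianMonoidalCategory MonObj GrpObj AlgebraicGeometry
universe u
open MadRed

namespace Groth.Agent.S16162

/-- Let S be a scheme, G a group scheme over S, and X an S-scheme with an action of G making X → S a
principal G-bundle (a torsor in the representable fppf sense: X → S surjective, flat and locally of
finite presentation, and G ×_S X → X ×_S X, (g, x) ↦ (g·x, x), an isomorphism). Let P be a closed
subset of X stable under the action: the action map sends into P every point of G ×_S X whose second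
projection lies in P. Then the image of P in S is closed, and P is the full preimage of its image.
(The source works with varieties over the complex numbers and an affine algebraic group; the
assertion holds over any base. Its second assertion, that P → image is again a principal bundle for
the induced reduced structures, then comes from base change and is not part of this row.) -/
theorem result {S : Scheme.{u}}
    {G X : Over S} [GrpObj G] (a : AlgGrp.Action G X) (ha : RedSub.IsTorsor a)
    (P : Set X.left) (hP : IsClosed P)
    (hstab : ∀ w : (G ⊗ X).left, (snd G X).left.base w ∈ P → a.act.left.base w ∈ P) :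
    IsClosed (X.hom.base '' P) ∧ X.hom.base ⁻¹' (X.hom.base '' P) = P := by
  obtain ⟨hs, hfl, hfp, hiso⟩ := ha
  haveI := hfl; haveI := hfp
  have hkey : X.hom.base ⁻¹' (X.hom.base '' P) = P := by
    refine Set.Subset.antisymm ?_ (Set.subset_preimage_image _ _)
    rintro x ⟨y, hy, hxy⟩
    obtain ⟨z, hz1, hz2⟩ := Scheme.Pullback.exists_preimage_pullback (f := X.hom) (g := X.hom) x y hxy.symm
    let z' : ((X ⊗ X : Over S)).left := z
    obtain ⟨w, hw⟩ : ∃ w : (G ⊗ X).left, (lift a.act (snd G X)).left.base w = z' := by
      refine ⟨(inv (lift a.act (snd G X))).left.base z', ?_⟩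
      rw [← Scheme.Hom.comp_apply, ← Over.comp_left, IsIso.inv_hom_id]
      rfl
    have h1 : a.act.left.base w = x := by
      have h := congrArg (fun m : (G ⊗ X) ⟶ X => m.left.base w) (lift_fst a.act (snd G X))
      simp only [Over.comp_left, Scheme.Hom.comp_apply, hw] at h
      exact h.symm.trans hz1
    have h2 : (snd G X).left.base w = y := by
      have h := congrArg (fun m : (G ⊗ X) ⟶ X => m.left.base w) (lift_snd a.act (snd G X))
      simp only [Over.comp_left, Scheme.Hom.comp_apply, hw] at h
      exact h.symm.trans hz2
    exact h1 ▸ hstab w (h2 ▸ hy)
  refine ⟨?_, hkey⟩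
  have hsurj : Function.Surjective X.hom.base := X.hom.surjective
  have heq : X.hom.base '' P = (X.hom.base '' Pᶜ)ᶜ := by
    ext s
    constructor
    · rintro hsP ⟨x, hx, rfl⟩
      exact hx (hkey.subset hsP)
    · intro hsn
      obtain ⟨x, rfl⟩ := hsurj s
      exact ⟨x, by_contra fun hx => hsn ⟨x, hx, rfl⟩, rfl⟩
  rw [heq, isClosed_compl_iff]
  exact X.hom.isOpenMap _ hP.isOpen_compl

end Groth.Agent.S16162
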