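import Groth.Statements.S16170
import Mathlib.LinearAlgebra.Matrix.DotProduct
import Mathlib.Tactic.NoncommRing
import Mathlib.Tactic.Linarith
import Mathlib.Data.Matrix.Basis
-- import your own Groth.Agent.* helpers here

set_option autoImplicit false
open Neron

namespace Groth.Agent.S16170

/-- Let M and N be symmetric positive-semidefinite integer matrices on the same finite index set whose
sum M + N is positive definite, and let χ₁, χ₂ be integer matrices with χ₁ + χ₂ = 1 and M χ₂ = N χ₁.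
Then χ₁ and χ₂ are idempotent. (In the intended application M = Pᵀ Ψ₁ P and N = Qᵀ Ψ₂ Q for
surjective integer matrices P, Q and positive-definite Ψ₁, Ψ₂.) -/
theorem result
    {ι : Type} [Fintype ι] [DecidableEq ι]
    (M N χ₁ χ₂ : Matrix ι ι ℤ) (hM : M.IsSymm) (hN : N.IsSymm)
    (hMpos : ∀ v : ι → ℤ, 0 ≤ v ⬝ᵥ M.mulVec v) (hNpos : ∀ v : ι → ℤ, 0 ≤ v ⬝ᵥ N.mulVec v)
    (hpos : ∀ v : ι → ℤ, v ≠ 0 → 0 < v ⬝ᵥ (M + N).mulVec v)
    (hsum : χ₁ + χ₂ = 1) (hrel : M * χ₂ = N * χ₁) :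
    χ₁ * χ₁ = χ₁ ∧ χ₂ * χ₂ = χ₂ := by
  let P := M + N
  have hP₁ : P * χ₁ = M := by rw [add_mul, ← hrel, ← mul_add, hsum, mul_one]
  have hP₂ : P * χ₂ = N := by rw [add_mul, hrel, ← mul_add, hsum, mul_one]
  have hPs : P.transpose = P := (hM.add hN).eq
  have hcom : χ₁ * χ₂ = χ₂ * χ₁ := by
    rw [eq_sub_of_add_eq' hsum, mul_sub, sub_mul, mul_one, one_mul]
  have tr0 : ∀ (A : Matrix ι ι ℤ) (x y : ι → ℤ), A.mulVec x ⬝ᵥ y = x ⬝ᵥ A.transpose.mulVec y := fun A x y => by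
    rw [Matrix.dotProduct_mulVec, Matrix.vecMul_transpose]
  have hkey : ∀ (v : ι → ℤ), v ⬝ᵥ P.mulVec v - (χ₁.mulVec v) ⬝ᵥ P.mulVec (χ₁.mulVec v) =
      v ⬝ᵥ N.mulVec v + (χ₁.mulVec v) ⬝ᵥ N.mulVec (χ₁.mulVec v) + (χ₂.mulVec v) ⬝ᵥ M.mulVec (χ₂.mulVec v) := by
    intro v
    have tr : ∀ (A B : Matrix ι ι ℤ), (A.mulVec v) ⬝ᵥ B.mulVec (A.mulVec v) = v ⬝ᵥ (A.transpose * B * A).mulVec v := fun A B => by
      rw [tr0, Matrix.mulVec_mulVec, Matrix.mulVec_mulVec, mul_assoc]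
    have h1 : χ₁.transpose * P = M := by
      have h := congrArg Matrix.transpose hP₁
      rw [Matrix.transpose_mul, hPs, hM.eq] at h
      exact h
    have h2 : χ₂.transpose * P = N := by
      have h := congrArg Matrix.transpose hP₂
      rw [Matrix.transpose_mul, hPs, hN.eq] at h
      exact h
    rw [tr, tr, tr, ← dotProduct_sub, ← Matrix.sub_mulVec, ← dotProduct_add, ← Matrix.add_mulVec, ← dotProduct_add, ← Matrix.add_mulVec]
    congr 2
    rw [h1, ← hP₁, ← hP₂]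
    have e1 : χ₁.transpose * (P * χ₂) * χ₁ = P * (χ₁ * χ₂ * χ₁) := by rw [← mul_assoc χ₁.transpose, h1, ← hP₁]; simp only [mul_assoc]
    have e2 : χ₂.transpose * (P * χ₁) * χ₂ = P * (χ₂ * χ₁ * χ₂) := by rw [← mul_assoc χ₂.transpose, h2, ← hP₂]; simp only [mul_assoc]
    rw [e1, e2, mul_assoc P χ₁ χ₁, ← mul_add, ← mul_add]
    conv_lhs => rw [← mul_one P, mul_assoc, one_mul, ← mul_sub]
    congr 1
    have hc2 := eq_sub_of_add_eq' hsum
    rw [hc2]
    noncomm_ring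
  have hker : ∀ v : ι → ℤ, v ⬝ᵥ N.mulVec v = 0 → N.mulVec v = 0 := by
    intro v hv
    have hb := hNpos (N.mulVec v)
    have hq : ∀ s t : ℤ, 0 ≤ 2 * s * t * (N.mulVec v ⬝ᵥ N.mulVec v) + t ^ 2 * (N.mulVec v ⬝ᵥ N.mulVec (N.mulVec v)) := by
      intro s t
      have h := hNpos (s • v + t • N.mulVec v)
      have hsw : v ⬝ᵥ N.mulVec (N.mulVec v) = N.mulVec v ⬝ᵥ N.mulVec v := by
        rw [Matrix.dotProduct_mulVec, ← Matrix.mulVec_transpose, hN.eq]
      simp only [Matrix.mulVec_add, Matrix.mulVec_smul, add_dotProduct, dotProduct_add, smul_dotProduct, dotProduct_smul, smul_eq_mul, hv, hsw] at h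
      linarith
    have ha : N.mulVec v ⬝ᵥ N.mulVec v = 0 := by
      rcases eq_or_ne (N.mulVec v ⬝ᵥ N.mulVec (N.mulVec v)) 0 with h | h
      · nlinarith [hq 1 1, hq 1 (-1)]
      · have := hq (N.mulVec v ⬝ᵥ N.mulVec (N.mulVec v)) (-(N.mulVec v ⬝ᵥ N.mulVec v))
        have hb' : 0 < N.mulVec v ⬝ᵥ N.mulVec (N.mulVec v) := lt_of_le_of_ne hb (Ne.symm h)
        nlinarith [sq_nonneg (N.mulVec v ⬝ᵥ N.mulVec v)]
    exact dotProduct_self_eq_zero.1 ha
  have hinj : ∀ v, P.mulVec v = 0 → v = 0 := fun v h => by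
    by_contra h0
    have := hpos v h0
    rw [show (M + N).mulVec v = 0 from h, dotProduct_zero] at this
    exact lt_irrefl _ this
  have main : ∀ (n : ℕ) (v : ι → ℤ), (v ⬝ᵥ P.mulVec v).toNat ≤ n → (χ₁ * χ₂).mulVec v = 0 := by
    intro n
    induction n using Nat.strong_induction_on with
    | h n ih =>
      intro v hv
      have hk := hkey v
      have a1 := hNpos v
      have a2 := hNpos (χ₁.mulVec v)
      have a3 := hMpos (χ₂.mulVec v)
      by_cases h0 : v ⬝ᵥ N.mulVec v = 0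
      · have h := hker v h0
        rw [← hP₂, ← Matrix.mulVec_mulVec] at h
        rw [← Matrix.mulVec_mulVec, hinj _ h, Matrix.mulVec_zero]
      · have hnn : ∀ w : ι → ℤ, 0 ≤ w ⬝ᵥ P.mulVec w := fun w => by
          rw [Matrix.add_mulVec, dotProduct_add]; exact add_nonneg (hMpos w) (hNpos w)
        have hlt : ((χ₁.mulVec v) ⬝ᵥ P.mulVec (χ₁.mulVec v)).toNat < (v ⬝ᵥ P.mulVec v).toNat := by
          have := hnn (χ₁.mulVec v)
          omega
        have h := ih _ (lt_of_lt_of_le hlt hv) _ le_rfl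
        rw [Matrix.mulVec_mulVec, mul_assoc, ← hcom, ← Matrix.mulVec_mulVec] at h
        by_contra hne
        have hp := hpos _ hne
        have hz : (χ₁ * χ₂).mulVec v ⬝ᵥ P.mulVec ((χ₁ * χ₂).mulVec v) = 0 := by
          have h1 : χ₁.transpose * P = P * χ₁ := by
            conv_rhs => rw [hP₁, ← hM.eq, ← hP₁, Matrix.transpose_mul, hPs]
          rw [← Matrix.mulVec_mulVec, tr0, Matrix.mulVec_mulVec, Matrix.mulVec_mulVec, h1,
            mul_assoc, ← Matrix.mulVec_mulVec (χ₂.mulVec v) P (χ₁ * χ₁), Matrix.mulVec_mulVec v (χ₁ * χ₁) χ₂, mul_assoc χ₁ χ₁ χ₂, ← Matrix.mulVec_mulVec v χ₁ (χ₁ * χ₂), h]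
          simp
        exact hp.ne' hz
  have h12 : χ₁ * χ₂ = 0 := Matrix.ext_of_mulVec_single fun i => by rw [main _ _ le_rfl, Matrix.zero_mulVec]
  constructor
  · calc χ₁ * χ₁ = χ₁ * (χ₁ + χ₂) := by rw [mul_add, h12, add_zero]
      _ = χ₁ := by rw [hsum, mul_one]
  · calc χ₂ * χ₂ = (χ₁ + χ₂) * χ₂ := by rw [add_mul, h12, zero_add]
      _ = χ₂ := by rw [hsum, one_mul]

end Groth.Agent.S16170
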