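import Groth.Statements.S16164
import Groth.Agent.S16170
import Mathlib.Data.Matrix.ColumnRowPartitioned
import Mathlib.Data.Matrix.Block
-- import your own Groth.Agent.* helpers here

set_option autoImplicit false
open Neron

namespace Groth.Agent.S16164

/-- Let X, Y₁, Y₂ be finitely generated free abelian groups with chosen bases, so that homomorphisms are
integer matrices acting on column vectors and each group is identified with its dual; let P : X → Y₁
and Q : X → Y₂ be surjective with A = (P over Q) : X → Y₁ ⊕ Y₂ injective, and let Ψ₁, Ψ₂ be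
symmetric positive-definite integer matrices on Y₁ and Y₂, Ψ their block-diagonal sum. If the image
of Aᵀ Ψ : Y₁ ⊕ Y₂ → X coincides with the image of Aᵀ Ψ A : X → X (the reverse inclusion always
holds), then A is bijective. (In the source X, Y₁, Y₂ are character groups of maximal tori, P and Q
specialization maps, Ψ₁ and Ψ₂ monodromy pairings, and the hypothesis expresses that two groups of
components coincide.) -/
theorem result
    {ι κ₁ κ₂ : Type} [Fintype ι] [Fintype κ₁] [Fintype κ₂]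
    (P : Matrix κ₁ ι ℤ) (Q : Matrix κ₂ ι ℤ)
    (hP : Function.Surjective P.mulVec) (hQ : Function.Surjective Q.mulVec)
    (hA : Function.Injective (Matrix.fromRows P Q).mulVec)
    (Ψ₁ : Matrix κ₁ κ₁ ℤ) (Ψ₂ : Matrix κ₂ κ₂ ℤ) (hΨ₁ : Ψ₁.IsSymm) (hΨ₂ : Ψ₂.IsSymm)
    (hΨ₁pos : ∀ y : κ₁ → ℤ, y ≠ 0 → 0 < y ⬝ᵥ Ψ₁.mulVec y)
    (hΨ₂pos : ∀ y : κ₂ → ℤ, y ≠ 0 → 0 < y ⬝ᵥ Ψ₂.mulVec y)
    (himage : LinearMap.range ((Matrix.fromRows P Q).transpose * Matrix.fromBlocks Ψ₁ 0 0 Ψ₂).mulVecLin =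
      LinearMap.range ((Matrix.fromRows P Q).transpose * Matrix.fromBlocks Ψ₁ 0 0 Ψ₂ * Matrix.fromRows P Q).mulVecLin) :
    Function.Bijective (Matrix.fromRows P Q).mulVec := by
  classical
  have hP' : ∀ x y : ι → ℤ, x ⬝ᵥ (P.transpose * Ψ₁ * P).mulVec y = P.mulVec x ⬝ᵥ Ψ₁.mulVec (P.mulVec y) := fun x y => by
    rw [← Matrix.mulVec_mulVec, ← Matrix.mulVec_mulVec, Matrix.dotProduct_mulVec, Matrix.vecMul_transpose]
  have hQ' : ∀ x y : ι → ℤ, x ⬝ᵥ (Q.transpose * Ψ₂ * Q).mulVec y = Q.mulVec x ⬝ᵥ Ψ₂.mulVec (Q.mulVec y) := fun x y => by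
    rw [← Matrix.mulVec_mulVec, ← Matrix.mulVec_mulVec, Matrix.dotProduct_mulVec, Matrix.vecMul_transpose]
  have hn₁ : ∀ y : κ₁ → ℤ, 0 ≤ y ⬝ᵥ Ψ₁.mulVec y := fun y => by
    rcases eq_or_ne y 0 with h | h
    · rw [h, zero_dotProduct]
    · exact (hΨ₁pos y h).le
  have hn₂ : ∀ y : κ₂ → ℤ, 0 ≤ y ⬝ᵥ Ψ₂.mulVec y := fun y => by
    rcases eq_or_ne y 0 with h | h
    · rw [h, zero_dotProduct]
    · exact (hΨ₂pos y h).le
  let M := P.transpose * Ψ₁ * P
  let N := Q.transpose * Ψ₂ * Q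
  have hmul : (Matrix.fromRows P Q).transpose * Matrix.fromBlocks Ψ₁ 0 0 Ψ₂ = Matrix.fromCols (P.transpose * Ψ₁) (Q.transpose * Ψ₂) := by
    rw [Matrix.transpose_fromRows, Matrix.fromCols_mul_fromBlocks]
    simp
  have hmul2 : (Matrix.fromRows P Q).transpose * Matrix.fromBlocks Ψ₁ 0 0 Ψ₂ * Matrix.fromRows P Q = M + N := by
    rw [hmul, Matrix.fromCols_mul_fromRows]
  have hχ : ∀ v : ι → ℤ, ∃ x, (M + N).mulVec x = M.mulVec v := by
    intro v
    have h : M.mulVec v ∈ LinearMap.range ((Matrix.fromRows P Q).transpose * Matrix.fromBlocks Ψ₁ 0 0 Ψ₂ * Matrix.fromRows P Q).mulVecLin := by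
      rw [← himage]
      refine ⟨Sum.elim (P.mulVec v) 0, ?_⟩
      rw [Matrix.mulVecLin_apply, hmul, Matrix.fromCols_mulVec_sumElim, Matrix.mulVec_zero, add_zero, Matrix.mulVec_mulVec]
    obtain ⟨x, hx⟩ := h
    exact ⟨x, by rw [← hmul2]; exact hx⟩
  choose f hf using hχ
  let χ : Matrix ι ι ℤ := Matrix.of fun i j => f (Pi.single j 1) i
  have hcol : ∀ j, χ.mulVec (Pi.single j 1) = f (Pi.single j 1) := fun j => by
    rw [Matrix.mulVec_single_one]; rfl
  have hrel1 : (M + N) * χ = M := Matrix.ext_of_mulVec_single fun j => by rw [← Matrix.mulVec_mulVec, hcol, hf]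
  have hMs : M.IsSymm := by
    show (P.transpose * Ψ₁ * P).transpose = _
    rw [Matrix.transpose_mul, Matrix.transpose_mul, Matrix.transpose_transpose, hΨ₁.eq]
    exact (Matrix.mul_assoc _ _ _).symm
  have hNs : N.IsSymm := by
    show (Q.transpose * Ψ₂ * Q).transpose = _
    rw [Matrix.transpose_mul, Matrix.transpose_mul, Matrix.transpose_transpose, hΨ₂.eq]
    exact (Matrix.mul_assoc _ _ _).symm
  have hrel : M * (1 - χ) = N * χ := by
    rw [mul_sub, mul_one, sub_eq_iff_eq_add', ← add_mul]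
    exact hrel1.symm
  obtain ⟨h1, h2⟩ := S16170.result M N χ (1 - χ) hMs hNs (fun v => by rw [hP']; exact hn₁ _) (fun v => by rw [hQ']; exact hn₂ _)
    (fun v hv => by
      rw [Matrix.add_mulVec, dotProduct_add, hP', hQ']
      have hne : P.mulVec v ≠ 0 ∨ Q.mulVec v ≠ 0 := by
        by_contra hc
        simp only [not_or, not_not] at hc
        exact hv (hA (by simp only [Matrix.fromRows_mulVec, hc.1, hc.2, Matrix.mulVec_zero, Sum.elim_zero_zero]))
      rcases hne with h | h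
      · linarith [hΨ₁pos _ h, hn₂ (Q.mulVec v)]
      · linarith [hΨ₂pos _ h, hn₁ (P.mulVec v)])
    (by rw [add_sub_cancel]) hrel
  have hNχ : N * χ = 0 := by
    rw [← h1, ← Matrix.mul_assoc, ← hrel, Matrix.mul_assoc, sub_mul, one_mul, h1, sub_self, Matrix.mul_zero]
  have hMχ : M * (1 - χ) = 0 := by rw [hrel, hNχ]
  have hQ0 : ∀ v, Q.mulVec (χ.mulVec v) = 0 := fun v => by
    by_contra h
    have := hΨ₂pos _ h
    rw [← hQ', Matrix.mulVec_mulVec _ _ χ, hNχ, Matrix.zero_mulVec, dotProduct_zero] at this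
    exact lt_irrefl _ this
  have hP0 : ∀ v, P.mulVec ((1 - χ).mulVec v) = 0 := fun v => by
    by_contra h
    have := hΨ₁pos _ h
    rw [← hP', Matrix.mulVec_mulVec _ _ (1 - χ), hMχ, Matrix.zero_mulVec, dotProduct_zero] at this
    exact lt_irrefl _ this
  refine ⟨hA, fun y => ?_⟩
  obtain ⟨a, ha⟩ := hP (y ∘ Sum.inl)
  obtain ⟨b, hb⟩ := hQ (y ∘ Sum.inr)
  refine ⟨χ.mulVec a + (1 - χ).mulVec b, ?_⟩
  have h1' := hP0 a
  have h2' := hQ0 b
  rw [Matrix.sub_mulVec, Matrix.one_mulVec, Matrix.mulVec_sub, sub_eq_zero] at h1'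
  rw [Matrix.fromRows_mulVec, Matrix.mulVec_add, Matrix.mulVec_add, hQ0, hP0, ← h1', add_zero, zero_add, Matrix.sub_mulVec,
    Matrix.one_mulVec, Matrix.mulVec_sub, h2', sub_zero, ha, hb, Sum.elim_comp_inl_inr]

end Groth.Agent.S16164
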