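import Groth.Statements.S16173
-- import your own Groth.Agent.* helpers here
import Groth.Agent.MultTypeLib.Normal.Closure
import Groth.Agent.MultTypeLib.Normal.Cover
import Groth.Agent.MultTypeLib.Normal.SplittingField
import Groth.Agent.S2973

set_option autoImplicit false
universe u
open TensorProduct
open SGA3b

namespace Groth.Agent.S16173

open TensorProduct
open MultTypeLib

set_option maxHeartbeats 1000000
set_option synthInstance.maxHeartbeats 100000

/-- Let R be an integrally closed domain, with no Noetherian hypothesis, and H = Spec A an R-group of
multiplicative type and of finite type (affine groups over an affine base in Hopf-algebra form, base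
change by tensor product). Then H is isotrivial: diagonalisable after some finite etale faithfully
flat base change of R. (The published statement has no finite-type hypothesis, and without one it
fails: an infinite product of pairwise non-isomorphic one-dimensional anisotropic tori over the
rationals is of multiplicative type and split by no finite etale algebra. The finite-type case
stated here is the one the limit argument of the proof establishes.) -/
theorem result (R : Type u) [CommRing R] [IsDomain R]
    [IsIntegrallyClosed R] (A : Type u) [CommRing A] [HopfAlgebra R A]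
    (hft : Algebra.FiniteType R A) (h : SGA3b.IsMultType R A) : SGA3b.IsIsotrivial R A := by
  classical
  have hq : SGA3b.IsQuasiIsotrivial R A := S2973.result R A hft h
  obtain ⟨c, hcet, hcd⟩ := exists_etale_cover hq
  haveI := Fintype.ofFinite c.ι
  let K := FractionRing R
  -- the generic fibre
  haveI : Algebra.FiniteType K (K ⊗[R] A) := Algebra.FiniteType.baseChange K
  have hK : SGA3b.IsMultType K (K ⊗[R] A) :=
    QuasiBasics.isMultType_of_quasi (isQuasiIsotrivial_baseChange K hq)
  obtain ⟨L, _, _, hLfin, hLsep, hLd, hLcard⟩ := exists_field_of_definition (K := K) (B := K ⊗[R] A) inferInstance hK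
  letI : Algebra R L := ((algebraMap K L).comp (algebraMap R K)).toAlgebra
  haveI : IsScalarTower R K L := IsScalarTower.of_algebraMap_eq fun _ => rfl
  -- one faithfully flat etale algebra
  let S := ∀ i, (c.split i).S
  haveI : ∀ i, Algebra.Etale R (c.split i).S := hcet
  haveI : Module.FaithfullyFlat R S := by
    refine Module.FaithfullyFlat.of_comap_surjective fun p => ?_
    obtain ⟨i, q, hq, hqp⟩ := c.surj p.asIdeal p.2
    exact ⟨PrimeSpectrum.comap (Pi.evalAlgHom R (fun i => (c.split i).S) i).toRingHom ⟨q, hq⟩,
      PrimeSpectrum.ext (by rw [← hqp]; rfl)⟩
  obtain ⟨het, hfin⟩ := etale_integralClosure (R := R) K S L fun E _ _ _ _ _ hE => by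
    obtain ⟨ψ⟩ := hE
    obtain ⟨i, ⟨g⟩⟩ := exists_hom_factor (fun i => (c.split i).S) ψ
    letI : Algebra (c.split i).S E := g.toRingHom.toAlgebra
    haveI : IsScalarTower R (c.split i).S E := IsScalarTower.of_algebraMap_eq fun r => (g.commutes r).symm
    exact hLcard E (isDiag_congr (baseChangeTrans (R := R) K E A) (isDiag_baseChange (c.split i).S E (hcd i)))
  -- the closure
  let R' := integralClosure R L
  haveI : IsFractionRing R' L := integralClosure.isFractionRing_of_finite_extension K L
  haveI : IsIntegrallyClosed R' := integralClosure.isIntegrallyClosedOfFiniteExtension K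
  haveI : Algebra.Etale R R' := het
  haveI : Module.Finite R R' := hfin
  haveI : Module.FaithfullyFlat R R' := by
    refine Module.FaithfullyFlat.of_comap_surjective ?_
    haveI : FaithfulSMul R R' := (faithfulSMul_iff_algebraMap_injective R R').mpr fun a b hab => ?_
    · exact Algebra.IsIntegral.comap_surjective _ _
    have h2 : algebraMap R L a = algebraMap R L b := congrArg Subtype.val hab
    exact IsFractionRing.injective R K ((algebraMap K L).injective h2)
  have hq' : SGA3b.IsQuasiIsotrivial R' (R' ⊗[R] A) := isQuasiIsotrivial_baseChange R' hq
  obtain ⟨c', hc'et, -⟩ := exists_etale_cover hq'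
  haveI : ∀ i, Algebra.Smooth R' (c'.split i).S := fun i =>
    haveI := hc'et i
    inferInstance
  haveI : Module.Flat R' (R' ⊗[R] A) := QuasiBasics.flat_of_isMultType (QuasiBasics.isMultType_of_quasi hq')
  refine ⟨R', inferInstance, inferInstance, het, hfin, inferInstance, isDiag_of_generic L c' ?_⟩
  exact isDiag_congr (baseChangeTrans (R := R) R' L A)
    (isDiag_congr (baseChangeTrans (R := R) K L A).symm hLd)


end Groth.Agent.S16173
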