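import Groth.Statements.S16174
import Groth.Agent.Hensel.Local
import Groth.Agent.Hensel.PairBasic
-- import your own Groth.Agent.* helpers here

set_option autoImplicit false
universe u
open Hensel

namespace Groth.Agent.S16174

/-- Let V be a Henselian valuation ring and p a prime ideal of V. Then the local rings V_p (localisation
at p) and V/p are Henselian. (Both are again valuation rings, which is elementary and not restated.) -/
theorem exists_mem_of_mem_maximalIdeal {V : Type u} [CommRing V] [IsDomain V] [ValuationRing V] (p : Ideal V) [p.IsPrime]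
    (x : Localization.AtPrime p) (hx : x ∈ IsLocalRing.maximalIdeal (Localization.AtPrime p)) :
    ∃ c ∈ p, algebraMap V (Localization.AtPrime p) c = x := by
  obtain ⟨a, ⟨s, hs⟩, rfl⟩ := IsLocalization.exists_mk'_eq p.primeCompl x
  rw [IsLocalization.AtPrime.mk'_mem_maximal_iff (Localization.AtPrime p) p] at hx
  rcases ValuationRing.dvd_total s a with ⟨c, rfl⟩ | hd
  · exact ⟨c, (Ideal.IsPrime.mem_or_mem ‹_› hx).resolve_left hs,
      (IsLocalization.mk'_mul_cancel_left c ⟨s, hs⟩).symm⟩
  · obtain ⟨c, rfl⟩ := hd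
    exact absurd (p.mul_mem_right c hx) hs

open Polynomial in
theorem henselian_localization {V : Type u} [CommRing V] [IsDomain V] [ValuationRing V] [HenselianLocalRing V]
    (p : Ideal V) [p.IsPrime] : HenselianLocalRing (Localization.AtPrime p) := by
  classical
  let L := Localization.AtPrime p
  have hle : p ≤ IsLocalRing.maximalIdeal V := IsLocalRing.le_maximalIdeal (Ideal.IsPrime.ne_top ‹_›)
  have : HenselianRing V (IsLocalRing.maximalIdeal V) :=
    (Groth.Agent.Hensel.henselianRing_maximalIdeal_iff V).mpr inferInstance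
  have hp : HenselianRing V p := Groth.Agent.Hensel.henselianRing_of_le hle
  constructor
  intro g hg a₀ h0 h1
  let G := Polynomial.taylor a₀ g
  have hc0 : G.coeff 0 = g.eval a₀ := Polynomial.taylor_coeff_zero _ _
  have hc1 : G.coeff 1 = g.derivative.eval a₀ := Polynomial.taylor_coeff_one _ _
  rw [← hc0] at h0
  rw [← hc1] at h1
  obtain ⟨v, hv⟩ := h1.exists_left_inv
  obtain ⟨N, hN⟩ : ∃ N, G.natDegree < N + 3 := ⟨G.natDegree, by omega⟩
  have hmem : ∀ i, G.coeff (i + 2) * G.coeff 0 ^ (i + 1) * v ^ (i + 2) ∈ IsLocalRing.maximalIdeal L := fun i => by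
    refine Ideal.mul_mem_right _ _ (Ideal.mul_mem_left _ _ ?_)
    rw [pow_succ]; exact Ideal.mul_mem_left _ _ h0
  choose h hhp hh using fun i => exists_mem_of_mem_maximalIdeal p _ (hmem i)
  let Q : V[X] := ∑ i ∈ Finset.range (N + 1), C (h i) * X ^ (N - i)
  let P : V[X] := X ^ (N + 2) + (X ^ (N + 1) + Q)
  have hQd : (X ^ (N + 1) + Q).degree < ((N + 2 : ℕ) : WithBot ℕ) := by
    refine (degree_add_le _ _).trans_lt (max_lt ?_ ((degree_sum_le _ _).trans_lt ((Finset.sup_lt_iff (WithBot.bot_lt_coe _)).mpr fun i _ => ?_)))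
    · rw [degree_X_pow]; exact_mod_cast Nat.lt_succ_self _
    · exact (degree_C_mul_X_pow_le _ _).trans_lt (by exact_mod_cast (by omega : N - i < N + 2))
  have hP : P.Monic := monic_X_pow_add hQd
  have hQ : ∀ z : V, Q.eval z ∈ p ∧ Q.derivative.eval z ∈ p := fun z => by
    simp only [Q, eval_finsetSum, derivative_sum, derivative_C_mul_X_pow, eval_mul, eval_C, eval_pow, eval_X]
    exact ⟨Ideal.sum_mem _ fun i _ => p.mul_mem_right _ (hhp i),
      Ideal.sum_mem _ fun i _ => p.mul_mem_right _ (p.mul_mem_right _ (hhp i))⟩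
  have he0 : P.eval (-1) ∈ p := by
    have : P.eval (-1) = Q.eval (-1) := by
      simp only [P, eval_add, eval_pow, eval_X]; ring
    rw [this]; exact (hQ _).1
  have he1 : IsUnit (Ideal.Quotient.mk p (P.derivative.eval (-1))) := by
    have : P.derivative.eval (-1) = (-1) ^ (N + 1) + Q.derivative.eval (-1) := by
      simp only [P, derivative_add, derivative_X_pow, eval_add, eval_mul, eval_C, eval_pow, eval_X, (show N + 2 - 1 = N + 1 from rfl), Nat.add_sub_cancel]
      simp only [pow_succ, Nat.cast_add, Nat.cast_one, Nat.cast_ofNat]; ring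
    rw [this, map_add, Ideal.Quotient.eq_zero_iff_mem.mpr (hQ _).2, add_zero]
    exact (((isUnit_one (M := V)).neg).pow _).map _
  obtain ⟨z, hz, hz1⟩ := hp.is_henselian P hP (-1) he0 he1
  have hzu : IsUnit z := by
    by_contra hc
    apply (IsLocalRing.maximalIdeal V).ne_top_iff_one.mp (IsLocalRing.maximalIdeal.isMaximal V).ne_top
    have := (IsLocalRing.maximalIdeal V).sub_mem (hle hz1) ((IsLocalRing.mem_maximalIdeal z).mpr hc)
    simpa using this
  obtain ⟨y, hy⟩ := (hzu.map (algebraMap V L)).exists_left_inv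
  refine ⟨a₀ + G.coeff 0 * v * y, ?_, ?_⟩
  · show g.eval _ = 0
    rw [add_comm, ← Polynomial.taylor_eval]
    show G.eval _ = 0
    apply ((hzu.map (algebraMap V L)).pow (N + 2)).mul_right_eq_zero.mp
    have e : algebraMap V L (P.eval z) = 0 := by rw [show P.eval z = 0 from hz, map_zero]
    rw [eval_eq_sum_range' hN, Finset.mul_sum]
    have key : ∀ i ∈ Finset.range (N + 3), algebraMap V L z ^ (N + 2) * (G.coeff i * (G.coeff 0 * v * y) ^ i) =
        G.coeff 0 * (if i = 0 then algebraMap V L (z ^ (N + 2)) else if i = 1 then algebraMap V L (z ^ (N + 1))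
          else algebraMap V L (h (i - 2) * z ^ (N - (i - 2)))) := by
      intro i hi
      rw [Finset.mem_range] at hi
      match i with
      | 0 => simp [mul_comm]
      | 1 =>
        simp only [one_ne_zero, if_false, if_true, pow_one, map_pow]
        rw [pow_succ (algebraMap V L z) (N + 1)]
        linear_combination algebraMap V L z ^ (N + 1) * G.coeff 0 * algebraMap V L z * y * hv +
          algebraMap V L z ^ (N + 1) * G.coeff 0 * hy
      | j + 2 =>
        simp only [Nat.add_sub_cancel, if_neg (Nat.succ_ne_zero _), if_neg (by omega : j + 2 ≠ 1), map_mul, map_pow]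
        have hzy : algebraMap V L z ^ (N + 2) * y ^ (j + 2) = algebraMap V L z ^ (N - j) := by
          rw [show N + 2 = (N - j) + (j + 2) by omega, pow_add, mul_assoc, ← mul_pow, mul_comm _ y, hy, one_pow, mul_one]
        linear_combination G.coeff (j + 2) * G.coeff 0 ^ (j + 2) * v ^ (j + 2) * hzy -
          G.coeff 0 * algebraMap V L z ^ (N - j) * hh j
    rw [Finset.sum_congr rfl key, ← Finset.mul_sum, Finset.sum_range_succ', Finset.sum_range_succ']
    simp only [Nat.add_sub_cancel, if_true, zero_add, one_ne_zero, if_false, Nat.succ_ne_zero,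
      show ∀ i : ℕ, i + 1 + 1 ≠ 1 from fun i => by omega, show ∀ i : ℕ, i + 1 + 1 - 2 = i from fun i => by omega]
    simp only [P, Q, eval_add, eval_finsetSum, eval_mul, eval_C, eval_pow, eval_X, map_add, map_sum] at e
    rw [show ∀ a b c : L, a + b + c = c + (b + a) from fun a b c => by ring, e, mul_zero]
  · rw [add_sub_cancel_left]
    exact Ideal.mul_mem_right _ _ (Ideal.mul_mem_right _ _ h0)

theorem result (V : Type u) [CommRing V]
    [IsDomain V] [ValuationRing V] [HenselianLocalRing V] (p : Ideal V) [p.IsPrime] :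
    HenselianLocalRing (Localization.AtPrime p) ∧ HenselianLocalRing (V ⧸ p) := by
  refine ⟨henselian_localization p, ?_⟩
  have : IsLocalRing (V ⧸ p) := IsLocalRing.of_surjective' (Ideal.Quotient.mk p) Ideal.Quotient.mk_surjective
  exact Groth.Agent.Hensel.henselianLocalRing_of_finite V (V ⧸ p)

end Groth.Agent.S16174
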