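import Groth.Statements.S16183
import Groth.Agent.SolvGrp.CharExtend
import Groth.Agent.HMTorus.OneParam
-- import your own Groth.Agent.* helpers here

set_option autoImplicit false
universe u
open CategoryTheory MonoidalCategory CartesianMonoidalCategory MonObj GrpObj AlgebraicGeometry
open AGF

namespace Groth.Agent.S16183

set_option backward.isDefEq.respectTransparency false
set_option backward.isDefEq.respectTransparency.types false

/-- Let G be a reductive group over an algebraically closed field k and T ⊆ G a maximal torus. A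
character χ : T → 𝔾_m which is Weyl-invariant — χ ∘ φ = χ whenever φ : T → T is induced by
conjugation by a k-point of G carrying T into itself — is the restriction to T of one and only one
character of G. (The source phrases this as: restriction along T → G → G/[G,G] is an isomorphism
from the character group of the abelianisation onto the Weyl-invariant characters of T; since every
character of G factors through the abelianisation, this is the same statement with characters of G.) -/
theorem result (k : Type u) [Field k] [IsAlgClosed k]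
    (G : Over (Spec (CommRingCat.of k))) [GrpObj G] (hG : Red.IsReductive G)
    (T : Over (Spec (CommRingCat.of k))) [GrpObj T] (iT : T ⟶ G) (hT : Red.IsMaximalTorus iT)
    (χ : T ⟶ Red.Gm (Spec (CommRingCat.of k))) [IsMonHom χ]
    (hχ : ∀ (n : 𝟙_ (Over (Spec (CommRingCat.of k))) ⟶ G) (φ : T ⟶ T), φ ≫ iT = AGF.conjBy n iT → φ ≫ χ = χ) :
    ∃! ψ : G ⟶ Red.Gm (Spec (CommRingCat.of k)), IsMonHom ψ ∧ iT ≫ ψ = χ := by
  let s := AGFLib.GeomBC.pt k
  haveI := hT.1
  haveI := hT.2.1
  haveI := hG.2.1
  haveI : IsAffine G.left := by haveI := hG.1; exact isAffine_of_isAffineHom G.hom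
  have hG' : Red.IsReductiveOver k G := SolvGrp.isReductiveOver_of_geomFibre s (hG.2.2 s)
  haveI := hG'.1
  haveI := hG'.2.1
  haveI := hG'.2.2.1
  have hT' : AGF.IsMaxTorus iT := SolvGrp.isMaxTorus_of_isMaximalTorus hT
  obtain ⟨haM, hsM, -, -⟩ := SolvGrp.torus_props (HMTorus.isTorus_Gm (k := k))
  haveI := haM
  haveI := hsM
  obtain ⟨ψ, hψ, hψe⟩ := SolvGrp.exists_hom_extend iT hG' hT' χ hχ
  refine ⟨ψ, ⟨hψ, hψe⟩, fun φ ⟨hφ, hφe⟩ => ?_⟩
  haveI := hψ
  haveI := hφ
  exact SolvGrp.hom_eq_of_maxTorus iT hG' hT' φ ψ (hφe.trans hψe.symm)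


end Groth.Agent.S16183
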