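import Groth.Statements.S16184
import Groth.Agent.SolvGrp.Perfect2
import Groth.Agent.SolvGrp.OverClosed
-- import your own Groth.Agent.* helpers here

set_option autoImplicit false
universe u
open CategoryTheory MonoidalCategory CartesianMonoidalCategory MonObj GrpObj AlgebraicGeometry
open AGF

namespace Groth.Agent.S16184

set_option backward.isDefEq.respectTransparency false
set_option backward.isDefEq.respectTransparency.types false

/-- Let G be a semisimple group over an algebraically closed field k and T ⊆ G a maximal torus. A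
character χ : T → 𝔾_m which is Weyl-invariant — χ ∘ φ = χ whenever φ : T → T is induced by
conjugation by a k-point of G carrying T into itself — is the trivial character. (In the source this
is the vanishing of the Weyl-invariants of the character lattice of the maximal torus of the derived
subgroup.) -/
theorem result (k : Type u) [Field k] [IsAlgClosed k]
    (G : Over (Spec (CommRingCat.of k))) [GrpObj G] (hG : Red.IsSemisimple G)
    (T : Over (Spec (CommRingCat.of k))) [GrpObj T] (iT : T ⟶ G) (hT : Red.IsMaximalTorus iT)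
    (χ : T ⟶ Red.Gm (Spec (CommRingCat.of k))) [IsMonHom χ]
    (hχ : ∀ (n : 𝟙_ (Over (Spec (CommRingCat.of k))) ⟶ G) (φ : T ⟶ T), φ ≫ iT = AGF.conjBy n iT → φ ≫ χ = χ) :
    χ = 1 := by
  let s := AGFLib.GeomBC.pt k
  haveI := hT.1
  haveI := hT.2.1
  haveI := hG.2.1
  haveI : IsAffine G.left := by haveI := hG.1; exact isAffine_of_isAffineHom G.hom
  have hG' : Red.IsSemisimpleOver k G := SolvGrp.isSemisimpleOver_of_geomFibre s (hG.2.2 s)
  haveI := hG'.1.1
  haveI := hG'.1.2.1
  haveI := hG'.1.2.2.1
  have hT' : AGF.IsMaxTorus iT := SolvGrp.isMaxTorus_of_isMaximalTorus hT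
  obtain ⟨haT, hsT, hcT, -⟩ := SolvGrp.torus_props hT.2.2.1
  haveI := haT
  haveI := hsT
  haveI : IsReduced T.left := GrpSchLib.isReduced_of_smooth_field T.hom
  haveI : IsSeparated (toUnit (Red.Gm (Spec (CommRingCat.of k)))).left := by
    haveI : IsSeparated ((toUnit (Red.Gm (Spec (CommRingCat.of k)))).left ≫ (𝟙_ (Over (Spec (CommRingCat.of k)))).hom) := by
      rw [Over.w (toUnit (Red.Gm (Spec (CommRingCat.of k))))]
      exact GrpSchLib.AntiAffine.isSeparated_grp _
    exact IsSeparated.of_comp (toUnit (Red.Gm (Spec (CommRingCat.of k)))).left (𝟙_ (Over (Spec (CommRingCat.of k)))).hom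
  refine LiftUnique.hom_ext_pts (toUnit _) (toUnit_unique _ _) fun t => ?_
  rw [MonObj.comp_one]
  exact SolvGrp.char_eq_one_of_weyl hG' iT hT' χ hχ t

end Groth.Agent.S16184
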