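import Groth.Statements.S16185
import Groth.Agent.LC.GorFlat
-- import your own Groth.Agent.* helpers here

set_option autoImplicit false
set_option linter.style.haveILetI false
universe u
open CategoryTheory CategoryTheory.Limits AlgebraicGeometry
open Dual3

namespace Groth.Agent.S16185


theorem exists_iso_residueField (A : Type u) [CommRing A] [IsArtinianRing A] [IsLocalRing A]
    (s : Spec (CommRingCat.of A)) :
    ∃ e : Spec (CommRingCat.of (IsLocalRing.ResidueField A)) ⟶
        Spec ((Spec (CommRingCat.of A)).residueField s), IsIso e ∧
      e ≫ (Spec (CommRingCat.of A)).fromSpecResidueField s =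
        Spec.map (CommRingCat.ofHom (IsLocalRing.residue A)) := by
  let g := Spec.map (CommRingCat.ofHom (IsLocalRing.residue A))
  have hs : g (IsLocalRing.closedPoint _) = s := by
    haveI : Subsingleton (PrimeSpectrum A) := by
      refine ⟨fun a b => PrimeSpectrum.ext ?_⟩
      rw [IsLocalRing.eq_maximalIdeal (IsArtinianRing.isMaximal_of_isPrime (R := A) a.asIdeal),
        IsLocalRing.eq_maximalIdeal (IsArtinianRing.isMaximal_of_isPrime (R := A) b.asIdeal)]
    exact Subsingleton.elim (α := PrimeSpectrum A) _ _
  subst hs
  have h := (Spec (CommRingCat.of A)).descResidueField_stalkClosedPointTo_fromSpecResidueField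
    (IsLocalRing.ResidueField A) g
  refine ⟨_, ?_, h⟩
  rw [← Scheme.Spec.map_residueFieldIso_inv_eq_fromSpecResidueField, ← Spec.map_comp, ← Spec.map_comp,
    Spec.map_inj] at h
  set d := Scheme.descResidueField ((Spec (CommRingCat.of A)).stalkClosedPointTo g)
  have hsurj : Function.Surjective d.hom := fun y => by
    obtain ⟨a, rfl⟩ := IsLocalRing.residue_surjective (R := A) y
    have hh := RingHom.congr_fun (congrArg CommRingCat.Hom.hom h) a
    rw [CommRingCat.hom_comp, RingHom.comp_apply] at hh
    exact ⟨_, hh⟩
  haveI : IsIso d := (ConcreteCategory.isIso_iff_bijective d).2 ⟨d.hom.injective, hsurj⟩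
  infer_instance

/-- Let A be an Artinian local ring with maximal ideal m and let f : P → Spec A be a flat morphism of
schemes whose closed fibre X = P ×_{Spec A} Spec (A/m) is a Gorenstein scheme (locally Noetherian,
all local rings Gorenstein). Then f is a Gorenstein morphism: flat at every point with Gorenstein
local rings on its fibres. (The source takes A to be a local Artinian algebra over a field k with
residue field k and X a k-scheme deformed flatly over A; the k-algebra structure plays no role, so
the residue field of A is used directly.) -/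
theorem result
    {A : Type u} [CommRing A] [IsArtinianRing A] [IsLocalRing A]
    {P X : Scheme.{u}} (f : P ⟶ Spec (CommRingCat.of A)) [Flat f]
    (i : X ⟶ P) (q : X ⟶ Spec (CommRingCat.of (IsLocalRing.ResidueField A)))
    (hsq : IsPullback i q f (Spec.map (CommRingCat.ofHom (IsLocalRing.residue A))))
    (hX : Dual3.IsGorenstein X) : Dual3.IsGorensteinMor f := by
  intro x
  refine ⟨Flat.stalkMap f x, ?_⟩
  obtain ⟨e, he, hfac⟩ := exists_iso_residueField A (f x)
  have hp : IsPullback i (q ≫ e) f ((Spec (CommRingCat.of A)).fromSpecResidueField (f x)) :=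
    hsq.of_iso (Iso.refl _) (Iso.refl _) (asIso e) (Iso.refl _) (by simp) (by simp) (by simp)
      (by simpa using hfac.symm)
  let φ : f.fiber (f x) ≅ X := hp.isoPullback.symm
  haveI := hX.1
  haveI := hX.2 (φ.hom (f.asFiber x))
  let e' := (asIso (φ.hom.stalkMap (f.asFiber x))).commRingCatIsoToRingEquiv
  haveI : IsNoetherianRing ((f.fiber (f x)).presheaf.stalk (f.asFiber x)) :=
    isNoetherianRing_of_ringEquiv _ e'
  exact Groth.Agent.LC.gorenstein_of_ringEquiv e' 

end Groth.Agent.S16185
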