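import Groth.Statements.S5934
import Groth.Agent.S2156
-- import your own Groth.Agent.* helpers here

set_option autoImplicit false
open CategoryTheory AlgebraicGeometry
universe u
open EGA43

namespace Groth.Agent.S5934

/-- Let f : X ⟶ Y be a proper, flat morphism of finite presentation. The set of points y of Y whose
fibre X_y is geometrically regular, i.e. smooth over the residue field κ(y), is open in Y. -/
theorem result {X Y : Scheme.{u}} (f : X ⟶ Y) [IsProper f] [Flat f]
    [LocallyOfFinitePresentation f] :
    IsOpen {y : Y | Smooth (f.fiberToSpecResidueField y)} := by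
  have key : {y : Y | Smooth (f.fiberToSpecResidueField y)} = (f '' (f.smoothLocus : Set X)ᶜ)ᶜ := by
    refine Set.ext fun y => ⟨?_, fun hy => ?_⟩
    · rintro hs ⟨x, hx, rfl⟩
      haveI : Smooth (f.fiberToSpecResidueField (f.base x)) := hs
      refine hx ((Groth.Agent.S2156.result f x).2 ⟨Flat.stalkMap f x, ?_⟩)
      rw [Scheme.Hom.smoothLocus_eq_top]
      trivial
    · show Smooth (f.fiberToSpecResidueField y)
      haveI : LocallyOfFinitePresentation (f.fiberToSpecResidueField y) :=
        MorphismProperty.IsStableUnderBaseChange.of_isPullback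
          (IsPullback.of_hasPullback f (Y.fromSpecResidueField y)) inferInstance
      rw [← Scheme.Hom.smoothLocus_eq_top_iff, ← top_le_iff]
      rintro w -
      have hw : f.base (f.fiberι y w) = y := (f.range_fiberι y).le ⟨w, rfl⟩
      have hm : f.fiberι y w ∈ f.smoothLocus := by_contra fun h => hy ⟨_, h, hw⟩
      have key : ∀ (y' : Y) (w' : f.fiber y') (x : X) (e : f.base x = y'), f.fiberι y' w' = x →
          ∀ [LocallyOfFinitePresentation (f.fiberToSpecResidueField y')], x ∈ f.smoothLocus →
          w' ∈ (f.fiberToSpecResidueField y').smoothLocus := by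
        intro y' w' x e hx' _ hxm
        subst e
        have : w' = f.asFiber x :=
          (f.fiberι (f.base x)).isEmbedding.injective (hx'.trans (f.fiberι_asFiber x).symm)
        exact this ▸ ((Groth.Agent.S2156.result f x).1 hxm).2
      exact key y w _ hw rfl hm
  rw [key]
  exact (f.isClosedMap _ f.smoothLocus.2.isClosed_compl).isOpen_compl

end Groth.Agent.S5934
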