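import Groth.Statements.S16186
import Groth.Agent.GeoSmooth29.Curve
import Groth.Agent.GeoSmooth29.Model
import Groth.Agent.GeoSmooth29.Fibre
import Groth.Agent.S5934
import Groth.Agent.MorLib.Descend
import Groth.Agent.PnCoh.Chow.Proper

set_option backward.isDefEq.respectTransparency.types false
set_option maxHeartbeats 400000

set_option autoImplicit false
universe u
open CategoryTheory CategoryTheory.Limits AlgebraicGeometry
open Deform

namespace Groth.Agent.S16186

/-- Let k be an algebraically closed field and let p : P → Spec k[[t]] be flat and projective, i.e. P is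
a closed subscheme of a projective space over k[[t]] compatibly with p; let X be its closed fibre
over k and suppose the generic fibre P ⊗ Frac k[[t]] is smooth. Then X is geometrically smoothable:
there exist an affine integral curve C, smooth of dimension one over k, a k-rational point c of C
and a flat proper morphism Y → C whose fibre over c is isomorphic to X over k and whose fibre over
the generic point of C is smooth. (The source's statement is the equivalence, for X reduced
projective and equidimensional over an algebraically closed field of characteristic zero with H^2(X,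
O_X) = 0 or with X Gorenstein and its dualizing sheaf or the dual of it ample, between the existence
of a formal smoothing and of a geometric smoothing; its proof first turns a formal smoothing into a
smoothing over Spec k[[t]] and then runs the argument stated here, which uses neither characteristic
zero nor the hypotheses on X.) -/
theorem result
    (k : Type u) [Field k] [IsAlgClosed k]
    (X : Scheme.{u}) (pX : X ⟶ Spec (CommRingCat.of k))
    (P : Scheme.{u}) (p : P ⟶ Spec (CommRingCat.of (PowerSeries k))) [Flat p]
    (hproj : ∃ (d : ℕ) (ι : P ⟶ CohB1.ProjSpace d (PowerSeries k)), IsClosedImmersion ι ∧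
      ι ≫ CohB1.ProjSpace.toSpec d (PowerSeries k) = p)
    (i : X ⟶ P)
    (hX : IsPullback i pX p (Spec.map (CommRingCat.ofHom (PowerSeries.constantCoeff (R := k)))))
    (hgen : Smooth (pullback.snd p
      (Spec.map (CommRingCat.ofHom (algebraMap (PowerSeries k) (FractionRing (PowerSeries k)))))))
    : ∃ (C : Scheme.{u}) (qC : C ⟶ Spec (CommRingCat.of k)) (c : Spec (CommRingCat.of k) ⟶ C)
      (_ : c ≫ qC = 𝟙 (Spec (CommRingCat.of k))) (_ : IsIntegral C) (_ : IsAffine C) (_ : Smooth qC)
      (_ : topologicalKrullDim C = 1)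
      (Y : Scheme.{u}) (π : Y ⟶ C) (_ : Flat π) (_ : IsProper π) (j : X ⟶ Y)
      (η : C) (_ : closure ({η} : Set C) = Set.univ),
      IsPullback j pX π c ∧ Smooth (π.fiberToSpecResidueField η) := by
  classical
  obtain ⟨d, ι, hι, hιp⟩ := hproj
  haveI := hι
  haveI : IsProper (CohB1.ProjSpace.toSpec d (PowerSeries k)) := PnCoh.Chow.isProper_toSpec d _
  haveI : IsProper p := hιp ▸ inferInstance
  haveI : IsNoetherianRing (PowerSeries k) := inferInstance
  haveI : LocallyOfFinitePresentation p := inferInstance
  obtain ⟨A, hA, htA, PA, pA, g, hproper, hflat, hlfp, hg⟩ :=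
    GeoSmooth29.exists_flat_proper_model (k := k) p (PowerSeries.X : PowerSeries k)
  haveI := hproper; haveI := hflat; haveI := hlfp
  haveI : Algebra.FiniteType k A := A.fg_iff_finiteType.1 hA
  let bA := Spec.map (CommRingCat.ofHom A.val.toRingHom)
  -- the smooth fibre over the generic point
  let K := FractionRing (PowerSeries k)
  let sK := Spec.map (CommRingCat.ofHom (algebraMap (PowerSeries k) K))
  have hpt : (sK ≫ bA) (IsLocalRing.closedPoint K) = (⟨⊥, Ideal.isPrime_bot⟩ : PrimeSpectrum A) := by
    refine PrimeSpectrum.ext (le_bot_iff.1 fun x hx => ?_)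
    have h1 : algebraMap (PowerSeries k) K (x : PowerSeries k) ∈ IsLocalRing.maximalIdeal K := hx
    rw [IsLocalRing.mem_maximalIdeal, mem_nonunits_iff, isUnit_iff_ne_zero, not_not] at h1
    exact Ideal.mem_bot.2 (Subtype.ext (IsFractionRing.injective (PowerSeries k) K (h1.trans (map_zero _).symm)))
  have hU : (⟨⊥, Ideal.isPrime_bot⟩ : PrimeSpectrum A) ∈ {y : Spec (CommRingCat.of A) | Smooth (pA.fiberToSpecResidueField y)} := by
    refine GeoSmooth29.smooth_fiber_of_eq pA (sK ≫ bA) hpt ?_
    exact MorLib.Desc.of_two @Smooth ((IsPullback.of_hasPullback p sK).paste_horiz hg)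
      (IsPullback.of_hasPullback _ _) hgen
  obtain ⟨_, ⟨g₀, rfl⟩, hg₀, hgU⟩ :=
    PrimeSpectrum.isTopologicalBasis_basic_opens.exists_subset_of_mem_open hU (S5934.result pA)
  have hg₀0 : g₀ ≠ 0 := fun h => hg₀ (by simp [h])
  -- the rational point
  let ev : A →ₐ[k] k :=
    { toRingHom := (PowerSeries.constantCoeff (R := k)).comp A.val.toRingHom
      commutes' := fun r => by simp [PowerSeries.algebraMap_apply] }
  have hker : RingHom.ker ev ≠ ⊥ := fun h => by
    have h1 : (⟨PowerSeries.X, htA⟩ : A) ∈ RingHom.ker ev := by
      show PowerSeries.constantCoeff (PowerSeries.X : PowerSeries k) = 0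
      simp
    rw [h, Ideal.mem_bot] at h1
    exact PowerSeries.X_ne_zero (congrArg Subtype.val h1)
  obtain ⟨B, _, _, _, φ, e, hsm, hdim, he, hφg⟩ :=
    GeoSmooth29.exists_smooth_curve_avoid ev hker g₀ hg₀0
  let bφ := Spec.map (CommRingCat.ofHom φ.toRingHom)
  let c : Spec (CommRingCat.of k) ⟶ Spec (CommRingCat.of B) := Spec.map (CommRingCat.ofHom e.toRingHom)
  have hc : c ≫ bφ = Spec.map (CommRingCat.ofHom (PowerSeries.constantCoeff (R := k))) ≫ bA := by
    rw [← Spec.map_comp, ← Spec.map_comp, ← CommRingCat.ofHom_comp, ← CommRingCat.ofHom_comp]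
    exact congrArg (fun f => Spec.map (CommRingCat.ofHom f)) (congrArg AlgHom.toRingHom he)
  haveI : Smooth (Spec.map (CommRingCat.ofHom (algebraMap k B))) :=
    (HasRingHomProperty.Spec_iff (P := @Smooth)).2 (RingHom.smooth_algebraMap.2 hsm)
  let j : X ⟶ pullback pA bφ := pullback.lift (i ≫ g) (pX ≫ c)
    (by rw [Category.assoc, Category.assoc, hc, hg.w, hX.w_assoc])
  let η : PrimeSpectrum B := ⟨⊥, Ideal.isPrime_bot⟩
  refine ⟨Spec (CommRingCat.of B), Spec.map (CommRingCat.ofHom (algebraMap k B)), c, ?_, inferInstance,
    inferInstance, ‹_›, ?_, pullback pA bφ, pullback.snd pA bφ, inferInstance, inferInstance, j, η, ?_, ?_, ?_⟩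
  · rw [← Spec.map_comp, ← CommRingCat.ofHom_comp,
      show e.toRingHom.comp (algebraMap k B) = RingHom.id k from e.comp_algebraMap]
    exact Spec.map_id _
  · exact (PrimeSpectrum.topologicalKrullDim_eq_ringKrullDim B).trans hdim
  · refine (PrimeSpectrum.closure_singleton η).trans ?_
    exact PrimeSpectrum.zeroLocus_bot
  · refine IsPullback.of_right ?_ (pullback.lift_snd _ _ _) (IsPullback.of_hasPullback pA bφ)
    rw [pullback.lift_fst, hc]
    exact hX.paste_horiz hg
  · let L := FractionRing B
    let sL := Spec.map (CommRingCat.ofHom (algebraMap B L))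
    have hL : sL (IsLocalRing.closedPoint L) = η := by
      refine PrimeSpectrum.ext (le_bot_iff.1 fun x hx => ?_)
      have h1 : algebraMap B L x ∈ IsLocalRing.maximalIdeal L := hx
      rw [IsLocalRing.mem_maximalIdeal, mem_nonunits_iff, isUnit_iff_ne_zero, not_not] at h1
      exact Ideal.mem_bot.2 (IsFractionRing.injective B L (h1.trans (map_zero _).symm))
    refine GeoSmooth29.smooth_fiber_of_eq _ sL hL ?_
    have hmem : (sL ≫ bφ) (IsLocalRing.closedPoint L) ∈ PrimeSpectrum.basicOpen g₀ := by
      intro h
      have h1 : algebraMap B L (φ g₀) ∈ IsLocalRing.maximalIdeal L := h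
      rw [IsLocalRing.mem_maximalIdeal, mem_nonunits_iff, isUnit_iff_ne_zero, not_not] at h1
      exact hφg (IsFractionRing.injective B L (h1.trans (map_zero _).symm))
    have h2 := (GeoSmooth29.smooth_fiber_iff pA (sL ≫ bφ)).1 (hgU hmem)
    exact MorLib.Desc.of_two @Smooth (IsPullback.of_hasPullback pA (sL ≫ bφ))
      ((IsPullback.of_hasPullback (pullback.snd pA bφ) sL).paste_horiz (IsPullback.of_hasPullback pA bφ)) h2


end Groth.Agent.S16186
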