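import Groth.Statements.S16188
import Groth.Agent.H23.RedSub
import Mathlib

set_option autoImplicit false
universe u
open CategoryTheory AlgebraicGeometry TopologicalSpace
open SchMor

namespace Groth.Agent.S16188

/-- Let f : X → Y be a morphism of schemes with X reduced and irreducible. Then f factors through an
irreducible component of Y carrying its reduced closed-subscheme structure: there are an irreducible
component Z of Y and a morphism g from X to the closed subscheme of Y cut out by the vanishing ideal
sheaf of Z with g followed by the inclusion equal to f; that closed subscheme is integral. -/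
theorem result
    {X Y : Scheme.{u}} (f : X ⟶ Y) [IsReduced X] [IrreducibleSpace X] :
    ∃ (Z : Closeds Y) (_ : (Z : Set Y) ∈ irreducibleComponents Y)
      (_ : IsIntegral (Scheme.IdealSheafData.vanishingIdeal Z).subscheme)
      (g : X ⟶ (Scheme.IdealSheafData.vanishingIdeal Z).subscheme),
      g ≫ (Scheme.IdealSheafData.vanishingIdeal Z).subschemeι = f := by
  have hcl : closure {f (genericPoint X)} ⊆ irreducibleComponent (f (genericPoint X)) :=
    closure_minimal (by simp [mem_irreducibleComponent]) isClosed_irreducibleComponent
  let Z : Closeds Y := ⟨irreducibleComponent (f (genericPoint X)), isClosed_irreducibleComponent⟩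
  let J := Scheme.IdealSheafData.vanishingIdeal Z
  have hr : Set.range J.subschemeι = (Z : Set Y) := H23.RedSub.range_vanishingIdeal Z
  have hred : IsReduced J.subscheme := H23.RedSub.isReduced_vanishingIdeal Z
  have hirr : IrreducibleSpace J.subscheme := by
    haveI : IrreducibleSpace ↥(Set.range J.subschemeι) := by
      rw [hr]; exact Subtype.irreducibleSpace isIrreducible_irreducibleComponent
    exact J.subschemeι.isClosedEmbedding.isEmbedding.toHomeomorph.symm.surjective.irreducibleSpace
      J.subschemeι.isClosedEmbedding.isEmbedding.toHomeomorph.symm.continuous
  have hint : IsIntegral J.subscheme := isIntegral_of_irreducibleSpace_of_isReduced _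
  obtain ⟨g, hg⟩ := H23.RedSub.exists_lift_closed f J.subschemeι (by
    rw [hr]
    refine (Set.image_univ.symm.subset.trans ?_).trans hcl
    rw [← genericPoint_closure (α := X)]
    exact (image_closure_subset_closure_image f.continuous).trans (by rw [Set.image_singleton]))
  exact ⟨Z, irreducibleComponent_mem_irreducibleComponents _, hint, g, hg⟩

end Groth.Agent.S16188
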