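import Groth.Statements.S1619
import Groth.Agent.VarDim.Local

set_option autoImplicit false
universe u
open CategoryTheory CategoryTheory.Limits AlgebraicGeometry
attribute [local instance] Curv2.stalkAlgebra Curv2.resAlgebra
open Variety

namespace Groth.Agent.S1619

open Groth.Agent.VarDim Order

theorem tdeg_eq (k : Type u) [Field k] (X : Scheme.{u}) [X.Over (Spec (CommRingCat.of k))] (x : X) :
    letI := Curv2.resAlgebra k X x
    Algebra.trdeg k (X.residueField x) = tdeg (X ↘ (Spec (CommRingCat.of k))) x := rfl

theorem deg_of_trdeg (k : Type u) [Field k] (X : Scheme.{u}) [X.Over (Spec (CommRingCat.of k))] (x : X)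
    (n : ℕ) (hn : tdeg (X ↘ (Spec (CommRingCat.of k))) x = n) :
    deg (X ↘ (Spec (CommRingCat.of k))) x = n := by
  rw [deg, hn, Cardinal.toNat_natCast]

/-- Let X be irreducible and locally of finite type over a field k, with generic point ξ. If the residue
field of ξ has transcendence degree n over k then X has Krull dimension n. -/
theorem result (k : Type u) [Field k] (X : Scheme.{u}) [X.Over (Spec (CommRingCat.of k))] [LocallyOfFiniteType (X ↘ (Spec (CommRingCat.of k)))] [IrreducibleSpace X]
    (n : ℕ) (hn : Algebra.trdeg k (X.residueField (genericPoint X)) = n) : topologicalKrullDim X = n := by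
  rw [topologicalKrullDim_eq_deg_genericPoint (X ↘ (Spec (CommRingCat.of k))),
    deg_of_trdeg k X _ n hn]
  rfl

end Groth.Agent.S1619
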