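import Groth.Statements.S16190
import Groth.Agent.SmoothReg.Scheme
import Mathlib.RingTheory.Filtration
import Mathlib.RingTheory.PowerSeries.Trunc

set_option autoImplicit false
universe u
open CategoryTheory CategoryTheory.Limits AlgebraicGeometry
open Deform

namespace Groth.Agent.S16190

open PowerSeries in
/-- the expansion of a discrete valuation ring with coefficient field -/
theorem exists_expansion {k R : Type u} [Field k] [CommRing R] [IsDomain R] [IsDiscreteValuationRing R]
    (ι : k →+* R) (ev : R →+* k) (hev : ∀ a, ev (ι a) = a) (hevs : RingHom.ker ev = IsLocalRing.maximalIdeal R) :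
    ∃ φ : R →+* PowerSeries k, Function.Injective φ ∧ ∀ x, constantCoeff (φ x) = ev x := by
  obtain ⟨t, ht⟩ := IsDiscreteValuationRing.exists_irreducible R
  have htm : IsLocalRing.maximalIdeal R = Ideal.span {t} := ht.maximalIdeal_eq
  have hdiv : ∀ x, ∃ y, x = ι (ev x) + t * y := fun x => by
    have h : x - ι (ev x) ∈ RingHom.ker ev := by rw [RingHom.mem_ker, map_sub, hev, sub_self]
    rw [hevs, htm, Ideal.mem_span_singleton] at h
    obtain ⟨y, hy⟩ := h
    exact ⟨y, by rw [← hy]; ring⟩
  choose q hq using hdiv
  let d : R → PowerSeries k := fun x => mk fun n => ev (q^[n] x)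
  let E : ℕ → PowerSeries k → R := fun N a => Polynomial.eval₂ ι t (trunc N a)
  have hd : ∀ (N : ℕ) (x : R), x = ∑ i ∈ Finset.range N, ι (ev (q^[i] x)) * t ^ i + t ^ N * q^[N] x := by
    intro N
    induction N with
    | zero => intro x; simp
    | succ N ih =>
      intro x
      rw [Finset.sum_range_succ, Function.iterate_succ_apply']
      conv_lhs => rw [ih x, hq (q^[N] x)]
      ring
  have hE : ∀ N a, E N a = ∑ i ∈ Finset.range N, ι (coeff i a) * t ^ i := fun N a =>
    eval₂_trunc_eq_sum_range t ι N a
  have hclose : ∀ N x, t ^ N ∣ x - E N (d x) := fun N x => ⟨q^[N] x, by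
    rw [hE]
    simp only [d, coeff_mk]
    exact sub_eq_of_eq_add' (hd N x)⟩
  have huniq : ∀ a b : PowerSeries k, (∀ N, t ^ N ∣ E N a - E N b) → a = b := fun a b h => by
    refine PowerSeries.ext fun n => ?_
    induction n using Nat.strong_induction_on with
    | _ n ih =>
      obtain ⟨c, hc⟩ := h (n + 1)
      rw [hE, hE, Finset.sum_range_succ, Finset.sum_range_succ,
        Finset.sum_congr rfl fun i hi => by rw [ih i (Finset.mem_range.1 hi)]] at hc
      have h1 : t ^ n * (ι (coeff n a) - ι (coeff n b)) = t ^ n * (t * c) := by
        rw [← mul_assoc, ← pow_succ, ← hc]; ring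
      have h2 := congrArg ev (mul_left_cancel₀ (pow_ne_zero n ht.ne_zero) h1)
      have h3 : ev t = 0 := by
        rw [← RingHom.mem_ker, hevs, htm]; exact Ideal.mem_span_singleton_self t
      rw [map_sub, hev, hev, map_mul, h3, zero_mul, sub_eq_zero] at h2
      exact h2
  have hX : ∀ (N : ℕ) (p : Polynomial k), t ^ N ∣ p.eval₂ ι t - E N (p : PowerSeries k) := fun N p => by
    have h : (Polynomial.X : Polynomial k) ^ N ∣ p - trunc N (p : PowerSeries k) :=
      Polynomial.X_pow_dvd_iff.2 fun m hm => by
        rw [Polynomial.coeff_sub, coeff_trunc, if_pos hm, Polynomial.coeff_coe, sub_self]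
    have h' := map_dvd (Polynomial.eval₂RingHom ι t) h
    rwa [map_pow, map_sub, Polynomial.coe_eval₂RingHom, Polynomial.eval₂_X] at h'
  have hadd : ∀ x y, d (x + y) = d x + d y := fun x y => huniq _ _ fun N => by
    have h := ((hclose N x).add (hclose N y)).sub (hclose N (x + y))
    have e : E N (d x + d y) = E N (d x) + E N (d y) := by
      simp only [E, map_add, Polynomial.eval₂_add]
    rw [e]
    convert h using 1
    ring
  have hmul : ∀ x y, d (x * y) = d x * d y := fun x y => huniq _ _ fun N => by
    have h2 := hX N (trunc N (d x) * trunc N (d y))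
    rw [Polynomial.eval₂_mul, Polynomial.coe_mul] at h2
    simp only [E, trunc_trunc_mul_trunc] at h2
    have h1 := ((hclose N x).mul_right y).add ((hclose N y).mul_left (E N (d x)))
    have h3 := (h1.add h2).sub (hclose N (x * y))
    simp only [E] at h3 ⊢
    convert h3 using 1
    ring
  have hone : d 1 = 1 := huniq _ _ fun N => by
    cases N with
    | zero => simp
    | succ M =>
      have h := hclose (M + 1) 1
      rw [show E (M + 1) 1 = 1 by simp only [E, trunc_one, Polynomial.eval₂_one], ← neg_sub]
      exact h.neg_right
  have hzero : d 0 = 0 := by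
    have h := hadd 0 0
    rw [add_zero] at h
    exact left_eq_add.1 h
  let φ : R →+* PowerSeries k :=
    { toFun := d, map_one' := hone, map_mul' := hmul, map_zero' := hzero, map_add' := hadd }
  refine ⟨φ, (injective_iff_map_eq_zero φ).2 fun x hx => ?_, fun x => ?_⟩
  · have hmem : x ∈ ⨅ n : ℕ, IsLocalRing.maximalIdeal R ^ n := Submodule.mem_iInf _ |>.2 fun N => by
      rw [htm, Ideal.span_singleton_pow, Ideal.mem_span_singleton]
      have h := hclose N x
      rwa [show d x = 0 from hx, show E N 0 = 0 by simp only [E, map_zero, Polynomial.eval₂_zero], sub_zero] at h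
    rwa [Ideal.iInf_pow_eq_bot_of_isLocalRing _ (IsLocalRing.maximalIdeal.isMaximal R).ne_top, Ideal.mem_bot] at hmem
  · show constantCoeff (d x) = ev x
    rw [← coeff_zero_eq_constantCoeff_apply]
    simp [d]

/-- Let k be an algebraically closed field and let X have a geometric smoothing, i.e. there are an
integral k-scheme C smooth of dimension one over k, a k-rational point c of C and a flat proper
morphism π : Y → C whose fibre over c is X (as a k-scheme) and whose fibre over the generic point of
C is smooth. Then X has a smoothing over Spec k[[t]]: a flat proper morphism P → Spec k[[t]] with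
closed fibre X over k and smooth generic fibre P ⊗ Frac k[[t]]. (The published lemma concludes that
X, assumed projective and equidimensional, is formally smoothable; its proof builds exactly this
family over the completed local ring of C at c, identified with k[[t]], and then appeals to a
criterion equating smoothings over a discrete valuation ring with formal smoothings, which is not
restated; the hypotheses on X are not used in the step stated.) -/
theorem result
    (k : Type u) [Field k] [IsAlgClosed k]
    (X : Scheme.{u}) (pX : X ⟶ Spec (CommRingCat.of k))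
    (C : Scheme.{u}) (qC : C ⟶ Spec (CommRingCat.of k)) (c : Spec (CommRingCat.of k) ⟶ C)
    (hc : c ≫ qC = 𝟙 (Spec (CommRingCat.of k))) [IsIntegral C] [Smooth qC]
    (hC : topologicalKrullDim C = 1)
    (Y : Scheme.{u}) (π : Y ⟶ C) [Flat π] [IsProper π] (j : X ⟶ Y) (hsq : IsPullback j pX π c)
    (hgen : Smooth (π.fiberToSpecResidueField (genericPoint C))) :
    ∃ (P : Scheme.{u}) (p : P ⟶ Spec (CommRingCat.of (PowerSeries k))) (_ : Flat p) (_ : IsProper p)
      (i : X ⟶ P),
      IsPullback i pX p (Spec.map (CommRingCat.ofHom (PowerSeries.constantCoeff (R := k)))) ∧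
      Smooth (pullback.snd p
        (Spec.map (CommRingCat.ofHom (algebraMap (PowerSeries k) (FractionRing (PowerSeries k)))))) := by
  set x : C := c (IsLocalRing.closedPoint k) with hx
  let ev : C.presheaf.stalk x ⟶ CommRingCat.of k := Scheme.stalkClosedPointTo c
  have hevc : Spec.map ev ≫ C.fromSpecStalk x = c := Scheme.Spec_stalkClosedPointTo_fromSpecStalk c
  let ι : CommRingCat.of k ⟶ C.presheaf.stalk x := Spec.preimage (C.fromSpecStalk x ≫ qC)
  have hι : ι ≫ ev = 𝟙 _ := Spec.map_injective (by
    rw [Spec.map_comp, Spec.map_preimage, ← Category.assoc, hevc, hc, Spec.map_id])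
  have : JacobsonSpace C := LocallyOfFiniteType.jacobsonSpace qC
  have hclosed : IsClosed ({x} : Set C) := by
    have : LocallyOfFiniteType c := by
      have : LocallyOfFiniteType (c ≫ qC) := by rw [hc]; infer_instance
      exact locallyOfFiniteType_of_comp c qC
    exact c.closePoints_subset_preimage_closedPoints (IsLocalRing.isClosed_singleton_closedPoint _)
  have hd : ringKrullDim (C.presheaf.stalk x) = 1 :=
    (Groth.Agent.SmoothReg.ringKrullDim_stalk_closedPoint qC hclosed).trans hC
  have hreg : IsRegularLocalRing (C.presheaf.stalk x) :=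
    Groth.Agent.SmoothReg.isRegularLocalRing_stalk_of_mem_smoothLocus qC
      (by rw [Scheme.Hom.smoothLocus_eq_top]; trivial)
  have : IsDiscreteValuationRing (C.presheaf.stalk x) := by
    refine IsLocalRing.finrank_CotangentSpace_eq_one_iff.mp ?_
    rw [IsRegularLocalRing.iff_finrank_cotangentSpace, hd] at hreg
    exact_mod_cast hreg
  have hev : ∀ a, ev.hom (ι.hom a) = a := fun a => congrArg (fun f => f.hom a) hι
  obtain ⟨φ, hφ, hφc⟩ := exists_expansion ι.hom ev.hom hev
    (IsLocalRing.eq_maximalIdeal (RingHom.ker_isMaximal_of_surjective ev.hom fun a => ⟨_, hev a⟩))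
  let m : Spec (CommRingCat.of (PowerSeries k)) ⟶ C := Spec.map (CommRingCat.ofHom φ) ≫ C.fromSpecStalk x
  have hm : Spec.map (CommRingCat.ofHom (PowerSeries.constantCoeff (R := k))) ≫ m = c := by
    rw [← Category.assoc, ← Spec.map_comp]
    rw [show CommRingCat.ofHom φ ≫ CommRingCat.ofHom (PowerSeries.constantCoeff (R := k)) = ev from
      CommRingCat.hom_ext (RingHom.ext hφc)]
    exact hevc
  refine ⟨pullback π m, pullback.snd π m, inferInstance, inferInstance,
    pullback.lift j (pX ≫ Spec.map (CommRingCat.ofHom (PowerSeries.constantCoeff (R := k))))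
      (by rw [hsq.w, Category.assoc, hm]), ?_, ?_⟩
  · refine IsPullback.of_right ?_ (pullback.lift_snd _ _ _) (IsPullback.of_hasPullback π m)
    rw [pullback.lift_fst, hm]
    exact hsq
  · let K := FractionRing (PowerSeries k)
    let a : Spec (CommRingCat.of K) ⟶ Spec (CommRingCat.of (PowerSeries k)) :=
      Spec.map (CommRingCat.ofHom (algebraMap (PowerSeries k) K))
    obtain ⟨⟨y, g⟩, hg⟩ := (Scheme.SpecToEquivOfField K C).symm.surjective (a ≫ m)
    have hg' : a ≫ m = Spec.map g ≫ C.fromSpecResidueField y := hg.symm
    have hy : y = genericPoint C := by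
      have h1 : y = (a ≫ m) (IsLocalRing.closedPoint K) := by
        rw [hg', Scheme.Hom.comp_apply, Scheme.fromSpecResidueField_apply]
      let g₁ : C.presheaf.stalk x ⟶ CommRingCat.of K :=
        CommRingCat.ofHom φ ≫ CommRingCat.ofHom (algebraMap (PowerSeries k) K)
      have h2 : a ≫ m = Spec.map g₁ ≫ C.fromSpecStalk x := by
        rw [Spec.map_comp, Category.assoc]
        rfl
      obtain ⟨z, hz⟩ : genericPoint C ∈ Set.range (C.fromSpecStalk x) := by
        rw [Scheme.range_fromSpecStalk]
        exact (genericPoint_spec C).specializes trivial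
      have h3 : (Spec.map g₁) (IsLocalRing.closedPoint K) ⤳ z := by
        refine (PrimeSpectrum.le_iff_specializes _ _).1 fun r hr => ?_
        have h4 : algebraMap (PowerSeries k) K (φ r) = 0 := by
          have h5 : g₁.hom r ∈ IsLocalRing.maximalIdeal K := hr
          rwa [IsLocalRing.maximalIdeal_eq_bot] at h5
        rw [hφ (by rw [map_zero]; exact IsFractionRing.injective (PowerSeries k) K (h4.trans (map_zero _).symm) :
          φ r = φ 0)]
        exact zero_mem _
      rw [h1, h2, Scheme.Hom.comp_apply]
      refine Specializes.antisymm ?_ ((genericPoint_spec C).specializes trivial) |>.eq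
      rw [← hz]
      exact h3.map (C.fromSpecStalk x).continuous
    subst hy
    have P1 : IsPullback (pullback.fst (pullback.snd π m) a ≫ pullback.fst π m)
        (pullback.snd (pullback.snd π m) a) π (Spec.map g ≫ C.fromSpecResidueField (genericPoint C)) := by
      rw [← hg']
      exact (IsPullback.of_hasPullback (pullback.snd π m) a).paste_horiz (IsPullback.of_hasPullback π m)
    have P2 : IsPullback (pullback.fst π (C.fromSpecResidueField (genericPoint C)))
        (π.fiberToSpecResidueField (genericPoint C)) π (C.fromSpecResidueField (genericPoint C)) :=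
      IsPullback.of_hasPullback _ _
    exact MorphismProperty.of_isPullback
      (IsPullback.of_right' P1 P2) hgen

end Groth.Agent.S16190
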