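import Groth.Statements.S16194
import Mathlib.RingTheory.Jacobson.Ideal

set_option autoImplicit false
universe u
open DivAlg

namespace Groth.Agent.S16194

/-- In an associative unital ring R, not necessarily commutative, every element r of the Jacobson
radical (the set of elements lying in every maximal left ideal) is quasiregular, i.e. 1 - r is a
two-sided unit. -/
theorem result {R : Type u} [Ring R] (r : R)
    (hr : r ∈ Ring.jacobson R) : IsUnit (1 - r) := by
  rw [← Ideal.jacobson_bot] at hr
  obtain ⟨z, hz⟩ := Ideal.mem_jacobson_iff.1 hr (-1)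
  rw [Ideal.mem_bot, sub_eq_zero] at hz
  have hz1 : z * (1 - r) = 1 := by
    calc z * (1 - r) = z * (-1) * r + z := by rw [mul_neg, mul_one, neg_mul, mul_sub, mul_one, sub_eq_neg_add]
      _ = 1 := hz
  have hzr : -(z * r) ∈ Ideal.jacobson (⊥ : Ideal R) := neg_mem (Ideal.mul_mem_left _ _ hr)
  obtain ⟨w, hw⟩ := Ideal.mem_jacobson_iff.1 hzr (-1)
  rw [Ideal.mem_bot, sub_eq_zero] at hw
  have hzeq : z = 1 + z * r := by
    rw [mul_sub, mul_one] at hz1
    exact sub_eq_iff_eq_add.1 hz1
  have hw1 : w * z = 1 := by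
    calc w * z = w * (-1) * (-(z * r)) + w := by
          conv_lhs => rw [hzeq]
          simp [mul_add, add_comm]
      _ = 1 := hw
  have : (1 - r) * z = 1 := by
    calc (1 - r) * z = w * z * ((1 - r) * z) := by rw [hw1, one_mul]
      _ = w * (z * (1 - r)) * z := by simp only [mul_assoc]
      _ = 1 := by rw [hz1, mul_one, hw1]
  exact ⟨⟨1 - r, z, this, hz1⟩, rfl⟩

end Groth.Agent.S16194
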