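import Groth.Statements.S16196
import Mathlib.Tactic.Abel
import Mathlib.Algebra.Module.BigOperators
-- imports

set_option autoImplicit false
universe u v
open DivAlg

namespace Groth.Agent.S16196

/-- Let R be a ring (associative, unital, not necessarily commutative) and M a left R-module which is a
generator, in the form: for some n there is an R-linear surjection from M^n onto R. Then the natural
ring homomorphism from R to the double endomorphism ring BiEnd_R(M) = End_{End_R(M)}(M)
(endomorphisms of M commuting with every R-linear endomorphism), r ↦ multiplication by r, is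
bijective. (The printed form takes R an algebra over a commutative ring k, embeds R in E = End_k(M)
and asserts R = C_E(C_E(R)); the double centralizer there is BiEnd_R(M).) -/
theorem result {R : Type u} [Ring R] (M : Type v)
    [AddCommGroup M] [Module R M]
    (hgen : ∃ (n : ℕ) (f : (Fin n → M) →ₗ[R] R), Function.Surjective f) :
    Function.Bijective (Module.toModuleEnd (Module.End R M) (S := R) M) := by
  classical
  obtain ⟨n, f, hf⟩ := hgen
  obtain ⟨v, hv⟩ := hf 1
  have key : ∀ x : M, ∑ i, f (Pi.single i (v i)) • x = x := fun x => by
    rw [← Finset.sum_smul, ← map_sum, Finset.univ_sum_single, hv, one_smul]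
  constructor
  · intro r r' h
    have h1 : ∀ m : M, r • m = r' • m := fun m => LinearMap.congr_fun h m
    have h2 : r • v = r' • v := funext fun i => h1 (v i)
    simpa [hv] using congrArg f h2
  · intro g
    refine ⟨∑ i, f (Pi.single i (g (v i))), LinearMap.ext fun x => ?_⟩
    let h : Fin n → Module.End R M := fun i =>
      (LinearMap.toSpanSingleton R M x) ∘ₗ f ∘ₗ LinearMap.single R (fun _ => M) i
    have h2 : ∀ i (y : M), h i y = f (Pi.single i y) • x := fun i y => rfl
    show (∑ i, f (Pi.single i (g (v i)))) • x = g x
    calc (∑ i, f (Pi.single i (g (v i)))) • x = ∑ i, h i (g (v i)) := by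
          rw [Finset.sum_smul]; rfl
      _ = ∑ i, g (h i (v i)) := Finset.sum_congr rfl fun i _ => (g.map_smul (h i) (v i)).symm
      _ = g (∑ i, f (Pi.single i (v i)) • x) := by rw [map_sum]; rfl
      _ = g x := by rw [key]

end Groth.Agent.S16196
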