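import Groth.Statements.S16197
import Mathlib.Tactic.Abel
import Mathlib.Algebra.Module.BigOperators
-- imports

set_option autoImplicit false
universe u v w
open DivAlg

namespace Groth.Agent.S16197

/-- Let R be a ring (associative, unital, not necessarily commutative) and M a left R-module which is a
generator, used here only through the existence of an R-linear surjection from a direct sum of
copies of M, indexed by an arbitrary type, onto R. Then some finite power M^n decomposes as R × Q
for a submodule Q of M^n. (The published statement is an equivalence; this row states only the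
implication from the existence of such a surjection to the splitting.) -/
theorem result {R : Type u} [Ring R] (M : Type v)
    [AddCommGroup M] [Module R M]
    (hgen : ∃ (ι : Type w) (f : (ι →₀ M) →ₗ[R] R), Function.Surjective f) :
    ∃ (n : ℕ) (Q : Submodule R (Fin n → M)), Nonempty ((Fin n → M) ≃ₗ[R] (R × Q)) := by
  classical
  obtain ⟨ι, f, hf⟩ := hgen
  obtain ⟨x, hx⟩ := hf 1
  let s := x.support
  let σ := s.equivFin
  let g : (Fin s.card → M) →ₗ[R] R :=
    ∑ i : Fin s.card, (f ∘ₗ Finsupp.lsingle (σ.symm i : ι)) ∘ₗ LinearMap.proj i
  let v : Fin s.card → M := fun i => x (σ.symm i : ι)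
  have hv : g v = 1 := by
    have h1 : g v = ∑ i : Fin s.card, f (Finsupp.single (σ.symm i : ι) (x (σ.symm i : ι))) := by
      simp [g, v]
    rw [h1, Equiv.sum_comp σ.symm (fun i : s => f (Finsupp.single (i : ι) (x i))),
      Finset.sum_coe_sort s (fun i => f (Finsupp.single i (x i))), ← map_sum]
    exact (congrArg f x.sum_single).trans hx
  refine ⟨s.card, LinearMap.ker g, ⟨?_⟩⟩
  exact
    { toFun := fun q => (g q, ⟨q - g q • v, by simp [hv]⟩)
      invFun := fun z => (z.2 : Fin s.card → M) + z.1 • v
      map_add' := fun q q' => by
        ext
        · simp
        · simp [add_smul]; abel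
      map_smul' := fun r q => by
        ext
        · simp
        · simp [mul_smul, smul_sub]
      left_inv := fun q => by simp
      right_inv := fun z => by
        have hz : g (z.2 : Fin s.card → M) = 0 := z.2.2
        ext
        · simp [hz, hv]
        · simp [hz, hv] }

end Groth.Agent.S16197
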