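import Groth.Statements.S16198
import Groth.Agent.InvMod.Basic

set_option autoImplicit false
universe u v
open DivAlg

namespace Groth.Agent.S16198

/-- In the case of a commutative ring R, let N be an invertible R-module such that the direct sum N^n is
isomorphic to R^n for some natural number n. Then the class of N in Pic(R) satisfies [N]^n = 1. (The
published statement is for invertible modules on an arbitrary ringed site; this row states the case
of a commutative ring.) -/
theorem result {R : Type u} [CommRing R] (N : Type v)
    [AddCommGroup N] [Module R N] [Module.Invertible R N] (n : ℕ)
    (e : (Fin n → N) ≃ₗ[R] (Fin n → R)) :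
    CommRing.Pic.mk R N ^ n = 1 := by
  exact Groth.Agent.InvMod.pow_eq_one_of_pi_equiv e

end Groth.Agent.S16198
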