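import Groth.Statements.S1620
import Groth.Agent.VarDim.Local

set_option autoImplicit false
universe u
open CategoryTheory CategoryTheory.Limits AlgebraicGeometry
attribute [local instance] Curv2.stalkAlgebra Curv2.resAlgebra
open Variety

namespace Groth.Agent.S1620

open Groth.Agent.VarDim Order

theorem tdeg_eq (k : Type u) [Field k] (X : Scheme.{u}) [X.Over (Spec (CommRingCat.of k))] (x : X) :
    letI := Curv2.resAlgebra k X x
    Algebra.trdeg k (X.residueField x) = tdeg (X ↘ (Spec (CommRingCat.of k))) x := rfl

theorem deg_of_trdeg (k : Type u) [Field k] (X : Scheme.{u}) [X.Over (Spec (CommRingCat.of k))] (x : X)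
    (n : ℕ) (hn : tdeg (X ↘ (Spec (CommRingCat.of k))) x = n) :
    deg (X ↘ (Spec (CommRingCat.of k))) x = n := by
  rw [deg, hn, Cardinal.toNat_natCast]

/-- Let X be locally of finite type over a field k and x ⤳ x' an immediate specialisation (x ≠ x' and no
point strictly in between). If the residue field of x' has transcendence degree n over k then the
residue field of x has transcendence degree n + 1. -/
theorem result (k : Type u) [Field k] (X : Scheme.{u}) [X.Over (Spec (CommRingCat.of k))] [LocallyOfFiniteType (X ↘ (Spec (CommRingCat.of k)))] (x x' : X) (hne : x ≠ x') (hsp : x ⤳ x')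
    (himm : ∀ y : X, x ⤳ y → y ⤳ x' → y = x ∨ y = x')
    (n : ℕ) (hn : Algebra.trdeg k (X.residueField x') = n) : Algebra.trdeg k (X.residueField x) = n + 1 := by
  have h := deg_of_immediate (X ↘ (Spec (CommRingCat.of k))) hne hsp himm
  rw [deg_of_trdeg k X x' n hn] at h
  rw [tdeg_eq k X x, ← deg_eq_tdeg (X ↘ (Spec (CommRingCat.of k))) x, h, Nat.cast_succ]

end Groth.Agent.S1620
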