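import Groth.Statements.S16200
import Groth.Agent.InvMod.Steinitz

set_option autoImplicit false
universe u v
open DivAlg

namespace Groth.Agent.S16200

/-- Let R be a Dedekind domain, N an invertible R-module and n a natural number with [N]^n = 1 in
Pic(R). Then the direct sum N^n is isomorphic to R^n; thus over a Dedekind domain the invertible
modules N with N^n ≅ R^n are exactly the n-torsion classes of Pic(R), the other inclusion holding
over any commutative ring. -/
theorem result {R : Type u} [CommRing R]
    [IsDedekindDomain R] (N : Type v) [AddCommGroup N] [Module R N] [Module.Invertible R N]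
    (n : ℕ) (h : CommRing.Pic.mk R N ^ n = 1) :
    Nonempty ((Fin n → N) ≃ₗ[R] (Fin n → R)) := by
  cases n with
  | zero => exact ⟨LinearEquiv.ofSubsingleton (Fin 0 → N) (Fin 0 → R)⟩
  | succ k =>
    obtain ⟨e⟩ := Groth.Agent.InvMod.nonempty_pi_of_dim_le_one (R := R)
      (by exact_mod_cast (Ring.krullDimLE_iff.1 (inferInstance : Ring.KrullDimLE 1 R))) (CommRing.Pic.mk R N) k
    rw [h] at e
    obtain ⟨f⟩ := CommRing.Pic.mk_eq_iff.1 (CommRing.Pic.mk_self (R := R))
    exact ⟨(((LinearEquiv.piCongrRight fun _ : Fin (k + 1) => (CommRing.Pic.mk.linearEquiv R N).symm).trans e).trans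
      ((LinearEquiv.refl R _).prodCongr f.symm)).trans
      ((LinearEquiv.prodComm R (Fin k → R) R).trans (Groth.Agent.BassCancel.prodPiEquiv k))⟩

end Groth.Agent.S16200
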