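import Groth.Statements.S16201
import Groth.Agent.VarDim.IrredFibres

set_option autoImplicit false
open CategoryTheory AlgebraicGeometry
open Variety

namespace Groth.Agent.S16201


open Groth.Agent.VarDim Order

/-- Let f : Y → Z be a morphism of schemes of finite type over ℂ, with Z irreducible. Suppose that the
general fibre of f is irreducible, in the sense that there is a nonempty open subset V of Z such
that the fibre of f over every closed point of V is an irreducible topological space, and that each
irreducible component of Y has dense image in Z. Then Y is irreducible. (The published statement is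
for a morphism of projective varieties; only finiteness of type over the field is used, and the row
is stated in that generality.) -/
theorem result
    (Y Z : Scheme.{0}) (g : Z ⟶ Spec (CommRingCat.of ℂ)) (f : Y ⟶ Z)
    [LocallyOfFiniteType g] [QuasiCompact g] [LocallyOfFiniteType f] [QuasiCompact f]
    [IrreducibleSpace Z]
    (hgen : ∃ V : Z.Opens, (V : Set Z).Nonempty ∧
      ∀ z ∈ V, IsClosed ({z} : Set Z) → IsIrreducible (f.base ⁻¹' {z}))
    (hdom : ∀ W ∈ irreducibleComponents Y, Dense (f.base '' W)) :
    IrreducibleSpace Y := by
  have : CompactSpace Y := (quasiCompact_iff_compactSpace (f ≫ g)).1 inferInstance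
  obtain ⟨V, hVne, hirrV⟩ := hgen
  obtain ⟨v, hv⟩ := hVne
  have hηV : genericPoint Z ∈ V := (genericPoint_specializes v).mem_open V.2 hv
  obtain ⟨c, hcV, -, hcc⟩ := exists_closed_mem g (U := V) hηV
  obtain ⟨y₀, -⟩ := (hirrV c hcV hcc).nonempty
  obtain ⟨z, -, hz⟩ := exists_maximal_generalization (f ≫ g) y₀
  have hdom' : ∀ w : Y, (∀ y, y ⤳ w → y = w) → f w = genericPoint Z := fun w hw => by
    have hmem : genericPoint Z ∈ closure (f '' closure {w}) :=
      hdom _ (closure_mem_irreducibleComponents hw) _
    rw [closure_image_closure f.continuous, Set.image_singleton] at hmem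
    exact ((genericPoint_specializes (f w)).antisymm (specializes_iff_mem_closure.2 hmem)).eq.symm
  have hsp : ∀ x, z ⤳ x := fun x => by
    obtain ⟨w, hwx, hw⟩ := exists_maximal_generalization (f ≫ g) x
    rwa [maximal_eq_of_dominant (p := f ≫ g) f g rfl V hηV hirrV hz (hdom' z hz) hw (hdom' w hw)] at hwx
  have hcl : closure {z} = (Set.univ : Set Y) :=
    Set.eq_univ_of_forall fun x => specializes_iff_mem_closure.1 (hsp x)
  exact (irreducibleSpace_def _).2
    (show IsIrreducible (Set.univ : Set Y) from hcl ▸ isIrreducible_singleton.closure)

end Groth.Agent.S16201
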