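import Groth.Statements.S16203
import Groth.Agent.CurveLift12.Leave
import Mathlib.AlgebraicGeometry.Morphisms.UniversallyOpen
import Groth.Agent.QCoh.Devissage
import Groth.Agent.H23.RedSub
import Groth.Agent.PnCoh.Chow.Proper
-- import your own Groth.Agent.* helpers here

set_option autoImplicit false
open CategoryTheory CategoryTheory.Limits AlgebraicGeometry
open Variety

namespace Groth.Agent.S16203


open TopologicalSpace Order

/-- The points strictly below a point of degree one are closed. -/
theorem closed_of_mem_closure {k : Type} [Field k] {X : Scheme.{0}} (f : X ⟶ Spec (CommRingCat.of k))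
    [LocallyOfFiniteType f] {ξ x : X} (hξ : Groth.Agent.VarDim.deg f ξ = 1) (h : x ∈ closure ({ξ} : Set X))
    (hne : x ≠ ξ) : IsClosed ({x} : Set X) := by
  rw [Groth.Agent.VarDim.closedPoint_iff_deg_eq_zero f]
  have hsp : ξ ⤳ x := specializes_iff_mem_closure.2 h
  have := Groth.Agent.VarDim.deg_strictMono f (lt_iff_le_not_ge.2 ⟨hsp, fun h' => hne ((show x ⤳ ξ from h').antisymm hsp).eq⟩)
  omega

/-- A closed set all of whose points are closed is finite. -/
theorem finite_of_closed_points {X : Scheme.{0}} [IsNoetherian X] {S : Set X} (hS : IsClosed S)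
    (h : ∀ x ∈ S, IsClosed ({x} : Set X)) : S.Finite := by
  obtain ⟨T, hTf, hTi, hT⟩ := NoetherianSpace.exists_finite_set_closeds_irreducible (⟨S, hS⟩ : Closeds X)
  have hsub : ∀ t ∈ T, (t : Set X).Subsingleton := fun t ht => by
    have hg := (hTi t ht).isGenericPoint_genericPoint t.isClosed
    have hgS : (hTi t ht).genericPoint ∈ S := by
      have h1 : t ≤ (⟨S, hS⟩ : Closeds X) := hT ▸ le_sSup ht
      exact h1 hg.mem
    rw [← hg.def, (h _ hgS).closure_eq]
    exact Set.subsingleton_singleton
  refine (hTf.biUnion fun t ht => (hsub t ht).finite).subset fun x hx => ?_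
  have hle : (⟨S, hS⟩ : Closeds X) ≤ ⟨⋃ t ∈ T, (t : Set X), hTf.isClosed_biUnion fun t _ => t.isClosed⟩ :=
    hT ▸ sSup_le fun t ht => fun y hy => Set.mem_biUnion ht hy
  exact hle hx

/-- Let f : Y → Z be a flat dominant morphism of integral projective schemes over ℂ, let B be an
irreducible closed curve in Z (an irreducible closed subset of dimension 1), p a closed point of B
and q a closed point of Y lying over p. Then there is an irreducible closed curve B' in Y passing
through q which is a finite cover of B: an irreducible closed subset B' of Y containing q whose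
image is B and which meets every fibre of f in a finite set. -/
theorem result
    (Y Z : Scheme.{0}) (g : Z ⟶ Spec (CommRingCat.of ℂ)) (f : Y ⟶ Z) [IsIntegral Y] [IsIntegral Z]
    (hZ : (∃ (m : ℕ) (ι : Z ⟶ CohB1.ProjSpace m ℂ), IsClosedImmersion ι ∧ ι ≫ CohB1.ProjSpace.toSpec m ℂ = g))
    (hY : (∃ (n : ℕ) (ι' : Y ⟶ CohB1.ProjSpace n ℂ), IsClosedImmersion ι' ∧ ι' ≫ CohB1.ProjSpace.toSpec n ℂ = f ≫ g))
    [Flat f] (hdomi : DenseRange f.base)
    (B : Set Z) (hBc : IsClosed B) (hBi : IsIrreducible B) (hBd : topologicalKrullDim ↥B = 1)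
    (p : Z) (hp : p ∈ B) (hpc : IsClosed ({p} : Set Z))
    (q : Y) (hqc : IsClosed ({q} : Set Y)) (hq : f.base q = p) :
    ∃ B' : Set Y, IsClosed B' ∧ IsIrreducible B' ∧ q ∈ B' ∧ f.base '' B' = B ∧
      ∀ z : Z, (B' ∩ f.base ⁻¹' {z}).Finite := by
  classical
  obtain ⟨m, ιZ, hιZ, hgZ⟩ := hZ
  obtain ⟨n, ιY, hιY, hfgY⟩ := hY
  haveI := hιZ
  haveI := hιY
  haveI : IsProper (CohB1.ProjSpace.toSpec m ℂ) := Groth.Agent.PnCoh.Chow.isProper_toSpec m _
  haveI : IsProper (CohB1.ProjSpace.toSpec n ℂ) := Groth.Agent.PnCoh.Chow.isProper_toSpec n _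
  haveI : IsProper g := hgZ ▸ inferInstance
  haveI : IsProper (f ≫ g) := hfgY ▸ inferInstance
  haveI : IsProper f := IsProper.of_comp f g
  -- the generic point of the curve
  have hη := hBi.isGenericPoint_genericPoint hBc
  set η := hBi.genericPoint
  have hdη : Groth.Agent.VarDim.deg g η = 1 := by
    have h1 := Groth.Agent.VarDim.topologicalKrullDim_closure_singleton g η
    rw [hη.def, hBd] at h1
    exact_mod_cast h1.symm
  have hne : p ≠ η := fun h => by
    have := (Groth.Agent.VarDim.closedPoint_iff_deg_eq_zero g η).1 (h ▸ hpc)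
    omega
  have hηp : η ⤳ p := specializes_iff_mem_closure.2 (hη.def.symm ▸ hp)
  -- a generalization of `q` over it
  obtain ⟨y, hyq, hy⟩ := Flat.generalizingMap (f := f) (show η ⤳ f.base q from hq.symm ▸ hηp)
  let K := Scheme.IdealSheafData.vanishingIdeal (Closeds.closure ({y} : Set Y))
  haveI : IsIntegral K.subscheme := Groth.Agent.QCoh.isIntegral_closure_point y
  have hr : Set.range K.subschemeι = closure {y} := Groth.Agent.H23.RedSub.range_vanishingIdeal _
  obtain ⟨q₀, hq₀⟩ : q ∈ Set.range K.subschemeι := hr ▸ specializes_iff_mem_closure.1 hyq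
  obtain ⟨y₀, hy₀⟩ : y ∈ Set.range K.subschemeι := hr ▸ subset_closure rfl
  let W : Over (Spec (CommRingCat.of ℂ)) := Over.mk (K.subschemeι ≫ f ≫ g)
  haveI : IsIntegral W.left := inferInstanceAs (IsIntegral K.subscheme)
  haveI : IsProper W.hom := inferInstanceAs (IsProper (K.subschemeι ≫ f ≫ g))
  haveI : IsNoetherian W.left :=
    { __ := LocallyOfFiniteType.isLocallyNoetherian W.hom
      __ := QuasiCompact.compactSpace_of_compactSpace W.hom }
  let h : W.left ⟶ Z := K.subschemeι ≫ f
  have hq₀h : h q₀ = p := by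
    show f (K.subschemeι q₀) = p
    rw [hq₀]; exact hq
  have hq₀c : IsClosed ({q₀} : Set W.left) := by
    have := hqc.preimage K.subschemeι.continuous
    rwa [show K.subschemeι ⁻¹' {q} = {q₀} from Set.ext fun z =>
      ⟨fun hz => K.subschemeι.isClosedEmbedding.injective ((show K.subschemeι z = q from hz).trans hq₀.symm),
       fun hz => (congrArg K.subschemeι (show z = q₀ from hz)).trans hq₀⟩] at this
  have hZne : h ⁻¹' {p} ≠ Set.univ := fun hu => hne (by
    have := hu.ge (Set.mem_univ y₀)
    have h2 : f (K.subschemeι y₀) = p := this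
    rw [hy₀] at h2
    exact h2.symm.trans hy)
  obtain ⟨ξ, hξq, hξ, hξp⟩ := Groth.Agent.CurveLift12.exists_curve_leaving (X := W) hq₀c
    (hpc.preimage h.continuous) hZne hq₀h
  -- it dominates the curve
  have hall : ∀ z : W.left, h z ∈ B := fun z => by
    show f (K.subschemeι z) ∈ B
    have h1 : y ⤳ K.subschemeι z := specializes_iff_mem_closure.2 (hr ▸ Set.mem_range_self z)
    exact (show η ⤳ f (K.subschemeι z) from hy ▸ h1.map f.continuous).mem_closed hBc hη.mem
  have hξη : h ξ = η := by
    by_contra hn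
    have hc := closed_of_mem_closure g hdη (hη.def.symm ▸ hall ξ) hn
    refine hξp ?_
    have h1 : p ∈ closure ({h ξ} : Set Z) := hq₀h ▸ specializes_iff_mem_closure.1 (hξq.map h.continuous)
    rw [hc.closure_eq] at h1
    exact h1.symm
  refine ⟨K.subschemeι '' closure {ξ}, K.subschemeι.isClosedEmbedding.isClosedMap _ isClosed_closure,
    isIrreducible_singleton.closure.image _ K.subschemeι.continuous.continuousOn,
    ⟨q₀, specializes_iff_mem_closure.1 hξq, hq₀⟩, ?_, fun z => ?_⟩
  · refine Set.Subset.antisymm ?_ ?_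
    · rintro _ ⟨_, ⟨w, -, rfl⟩, rfl⟩
      exact hall w
    · rw [← hη.def]
      refine closure_minimal (Set.singleton_subset_iff.2 ⟨_, ⟨ξ, subset_closure rfl, rfl⟩, hξη⟩) ?_
      exact f.isClosedMap _ (K.subschemeι.isClosedEmbedding.isClosedMap _ isClosed_closure)
  · refine (Set.Finite.image K.subschemeι (s := closure {ξ} ∩ h ⁻¹' {z}) ?_).subset ?_
    · by_cases hz : IsClosed ({z} : Set Z)
      · refine finite_of_closed_points (isClosed_closure.inter (hz.preimage h.continuous)) fun w hw => ?_
        refine closed_of_mem_closure W.hom hξ hw.1 fun hwξ => ?_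
        have h1 : z = η := (show h w = z from hw.2).symm.trans (hwξ ▸ hξη)
        have := (Groth.Agent.VarDim.closedPoint_iff_deg_eq_zero g η).1 (h1 ▸ hz)
        omega
      · refine (Set.finite_singleton ξ).subset fun w hw => ?_
        by_contra hwξ
        have h1 := h.isClosedMap _ (closed_of_mem_closure W.hom hξ hw.1 hwξ)
        rw [Set.image_singleton, show h w = z from hw.2] at h1
        exact hz h1
    · rintro _ ⟨⟨w, hw, rfl⟩, hwz⟩
      exact ⟨w, ⟨hw, hwz⟩, rfl⟩

end Groth.Agent.S16203
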