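import Groth.Statements.S16206
import Mathlib
-- import your own Groth.Agent.* helpers here

set_option autoImplicit false
open RatCurv

namespace Groth.Agent.S16206

open W4c3cyccovratcurv

variable {n : ℕ}

/-- The graph of a parent function. -/
private def treeOf (p : Fin n → Fin n) : SimpleGraph (Fin n) := SimpleGraph.fromRel fun a b => p a = b

/-- A parent function with root `r` and decreasing depth. -/
private def Good (r : Fin n) (p : Fin n → Fin n) (d : Fin n → ℕ) : Prop :=
  p r = r ∧ ∀ v, v ≠ r → d (p v) < d v

private theorem treeOf_adj {p : Fin n → Fin n} {a b : Fin n} :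
    (treeOf p).Adj a b ↔ a ≠ b ∧ (p a = b ∨ p b = a) := SimpleGraph.fromRel_adj _ a b

private theorem Good.parent_ne {r : Fin n} {p : Fin n → Fin n} {d : Fin n → ℕ} (h : Good r p d) {v : Fin n}
    (hv : v ≠ r) : p v ≠ v := fun he => absurd (h.2 v hv) (by rw [he]; exact lt_irrefl _)

private theorem Good.isTree {r : Fin n} {p : Fin n → Fin n} {d : Fin n → ℕ} (h : Good r p d) :
    (treeOf p).IsTree := by
  classical
  haveI : Nonempty (Fin n) := ⟨r⟩
  have hreach : ∀ k v, d v ≤ k → (treeOf p).Reachable v r := by
    intro k
    induction k with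
    | zero =>
      intro v hv
      by_contra hc
      exact absurd (h.2 v (fun he => hc (he ▸ SimpleGraph.Reachable.refl _))) (by omega)
    | succ k ih =>
      intro v hv
      by_cases hvr : v = r
      · subst hvr; exact SimpleGraph.Reachable.refl _
      · exact (SimpleGraph.Adj.reachable (treeOf_adj.2 ⟨(h.parent_ne hvr).symm, Or.inl rfl⟩)).trans
          (ih _ (by have := h.2 v hvr; omega))
  have hconn : (treeOf p).Connected :=
    SimpleGraph.Connected.mk fun a b => (hreach _ a le_rfl).trans (hreach _ b le_rfl).symm
  rw [SimpleGraph.isTree_iff_connected_and_card]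
  refine ⟨hconn, le_antisymm ?_ hconn.card_vert_le_card_edgeSet_add_one⟩
  let f : {v : Fin n // v ≠ r} → (treeOf p).edgeSet := fun v =>
    ⟨s(v.1, p v.1), treeOf_adj.2 ⟨(h.parent_ne v.2).symm, Or.inl rfl⟩⟩
  have hf : Function.Surjective f := by
    rintro ⟨e, he⟩
    induction e using Sym2.ind with
    | _ a b =>
      obtain ⟨hab, h1 | h1⟩ := treeOf_adj.1 he
      · exact ⟨⟨a, fun ha => hab (by rw [← h1, ha, h.1])⟩, Subtype.ext (by simp [f, h1])⟩
      · exact ⟨⟨b, fun hb => hab (by rw [← h1, hb, h.1])⟩, Subtype.ext (by simp [f, h1, Sym2.eq_swap])⟩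
  have h1 := Nat.card_le_card_of_surjective f hf
  simp only [Nat.card_eq_fintype_card, Fintype.card_subtype_compl, Fintype.card_subtype_eq, Fintype.card_fin] at h1 ⊢
  have := Fin.pos r
  omega

private theorem exists_good (G : SimpleGraph (Fin n)) (hG : G.IsTree) (r : Fin n) :
    ∃ p d, Good r p d ∧ G = treeOf p := by
  classical
  have hex : ∀ v, ∃ w, (v = r → w = r) ∧ (v ≠ r → G.Adj v w ∧ G.dist w r < G.dist v r) := by
    intro v
    by_cases hv : v = r
    · exact ⟨r, fun _ => rfl, fun h => absurd hv h⟩
    obtain ⟨q, hq⟩ := hG.connected.exists_walk_length_eq_dist v r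
    cases q with
    | nil => exact absurd rfl hv
    | cons hadj q' =>
      refine ⟨_, fun h => absurd h hv, fun _ => ⟨hadj, ?_⟩⟩
      rw [← hq, SimpleGraph.Walk.length_cons]
      exact Nat.lt_succ_of_le (SimpleGraph.dist_le q')
  choose p hp₁ hp₂ using hex
  have hgood : Good r p (fun v => G.dist v r) := ⟨hp₁ r rfl, fun v hv => (hp₂ v hv).2⟩
  refine ⟨p, _, hgood, ?_⟩
  have hle : treeOf p ≤ G := by
    intro a b hab
    obtain ⟨hne, h | h⟩ := treeOf_adj.1 hab
    · exact h ▸ (hp₂ a fun ha => hne (by rw [← h, ha, hgood.1])).1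
    · exact (h ▸ (hp₂ b fun hb => hne (by rw [← h, hb, hgood.1])).1).symm
  exact (SimpleGraph.isTree_iff_minimal_connected.1 hG).eq_of_le hgood.isTree.connected hle |>.symm

/-- Contracting a child of the root only depends on the parents after redirecting to the root. -/
private theorem contract_eq {r v : Fin n} {p : Fin n → Fin n} (hr : p r = r) (hv : p v = r) (hvr : v ≠ r) :
    contract (treeOf p) r v = SimpleGraph.fromRel fun a b : {x : Fin n // x ≠ v} =>
      (if p a.1 = v then r else p a.1) = b.1 := by
  ext a b
  have ha := a.2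
  have hb := b.2
  simp only [contract, SimpleGraph.fromRel_adj, treeOf_adj]
  by_cases hab : a = b
  · simp [hab]
  have hab' : a.1 ≠ b.1 := fun h => hab (Subtype.ext h)
  simp only [ne_eq, hab, not_false_eq_true, true_and]
  by_cases har : a.1 = r <;> by_cases hbr : b.1 = r <;> by_cases hpa : p a.1 = v <;> by_cases hpb : p b.1 = v <;>
    simp_all <;> grind

private theorem conicAdj_symm {k : ℕ} (S T : MarkedTree k) (h : ConicAdj S T) : ConicAdj T S := by
  obtain ⟨u₁, w₁, u₂, w₂, h₁, h₂, φ, hu, hm⟩ := h
  refine ⟨u₂, w₂, u₁, w₁, h₂, h₁, φ.symm, ?_, fun i => ?_⟩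
  · rw [← hu]; exact φ.symm_apply_apply _
  · rw [← hm i]; exact φ.symm_apply_apply _

private theorem rtg_symm {k : ℕ} (S T : MarkedTree k) (h : Relation.ReflTransGen ConicAdj S T) :
    Relation.ReflTransGen ConicAdj T S := by
  induction h with
  | refl => exact Relation.ReflTransGen.refl
  | tail _ h ih => exact Relation.ReflTransGen.head (conicAdj_symm _ _ h) ih

/-- Every marked tree is connected to the star with all marks at the centre. -/
private theorem reach {k : ℕ} (r : Fin n) (N : ℕ) : ∀ (p : Fin n → Fin n) (d : Fin n → ℕ) (h : Good r p d) (m : Fin k → Fin n),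
    (Finset.univ.filter fun x => p x ≠ r).card + (Finset.univ.filter fun i => m i ≠ r).card ≤ N →
    ∃ hs : (treeOf fun _ : Fin n => r).IsTree,
      Relation.ReflTransGen ConicAdj (⟨n, treeOf p, h.isTree, m⟩ : MarkedTree k) ⟨n, treeOf (fun _ => r), hs, fun _ => r⟩ := by
  induction N with
  | zero =>
    intro p d h m hN
    have hp : p = fun _ => r := funext fun x => by
      by_contra hx
      have : 0 < (Finset.univ.filter fun x => p x ≠ r).card := Finset.card_pos.2 ⟨x, by simpa using hx⟩
      omega
    have hm : m = fun _ => r := funext fun i => by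
      by_contra hx
      have : 0 < (Finset.univ.filter fun i => m i ≠ r).card := Finset.card_pos.2 ⟨i, by simpa using hx⟩
      omega
    subst hp hm
    exact ⟨h.isTree, Relation.ReflTransGen.refl⟩
  | succ N ih =>
    intro p d h m hN
    by_cases h0 : (Finset.univ.filter fun x => p x ≠ r).card + (Finset.univ.filter fun i => m i ≠ r).card ≤ N
    · exact ih p d h m h0
    -- a child of the root with a child or a mark
    obtain ⟨v, hv, hvr, hne⟩ : ∃ v, p v = r ∧ v ≠ r ∧ ((∃ x, p x = v) ∨ ∃ i, m i = v) := by
      by_cases hp : ∃ x, p x ≠ r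
      · obtain ⟨x, hx, hmin⟩ : ∃ x, p x ≠ r ∧ ∀ y, p y ≠ r → d x ≤ d y := by
          obtain ⟨x, hx, hmin⟩ := Finset.exists_min_image (Finset.univ.filter fun x => p x ≠ r) d
            (by obtain ⟨x, hx⟩ := hp; exact ⟨x, by simpa using hx⟩)
          exact ⟨x, by simpa using hx, fun y hy => hmin y (by simpa using hy)⟩
        have hxr : x ≠ r := fun he => hx (by rw [he, h.1])
        refine ⟨p x, ?_, hx, Or.inl ⟨x, rfl⟩⟩
        by_contra hc
        have := hmin _ hc
        have := h.2 x hxr
        omega
      · push Not at hp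
        obtain ⟨i, hi⟩ : ∃ i, m i ≠ r := by
          by_contra hc
          push Not at hc
          apply h0
          simp [hp, hc]
        exact ⟨m i, hp _, hi, Or.inr ⟨i, rfl⟩⟩
    let p' : Fin n → Fin n := fun x => if p x = v then r else p x
    let m' : Fin k → Fin n := fun i => if m i = v then r else m i
    have hroot : ∀ x, x ≠ r → d r < d x := by
      intro x
      induction hk : d x using Nat.strong_induction_on generalizing x with
      | _ j ihj =>
        intro hx
        have h1 := h.2 x hx
        by_cases hpx : p x = r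
        · rw [hpx] at h1; omega
        · have := ihj (d (p x)) (by omega) (p x) rfl hpx
          omega
    have h' : Good r p' d := by
      refine ⟨by simp [p', h.1, Ne.symm hvr], fun x hx => ?_⟩
      show d (if p x = v then r else p x) < d x
      split_ifs
      · exact hroot x hx
      · exact h.2 x hx
    have hlt : (Finset.univ.filter fun x => p' x ≠ r).card + (Finset.univ.filter fun i => m' i ≠ r).card ≤ N := by
      have h1 : (Finset.univ.filter fun x => p' x ≠ r) ⊆ Finset.univ.filter fun x => p x ≠ r := fun x => by
        simp only [Finset.mem_filter, Finset.mem_univ, true_and, p']; split_ifs <;> simp_all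
      have h2 : (Finset.univ.filter fun i => m' i ≠ r) ⊆ Finset.univ.filter fun i => m i ≠ r := fun i => by
        simp only [Finset.mem_filter, Finset.mem_univ, true_and, m']; split_ifs <;> simp_all
      rcases hne with ⟨x, hx⟩ | ⟨i, hi⟩
      · have := Finset.card_lt_card (h1.ssubset_of_ne fun he => by
          have hmem : x ∈ Finset.univ.filter fun x => p x ≠ r := by simp [hx, hvr]
          rw [← he] at hmem; simp [p', hx] at hmem)
        have := Finset.card_le_card h2
        omega
      · have := Finset.card_lt_card (h2.ssubset_of_ne fun he => by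
          have hmem : i ∈ Finset.univ.filter fun i => m i ≠ r := by simp [hi, hvr]
          rw [← he] at hmem; simp [m', hi] at hmem)
        have := Finset.card_le_card h1
        omega
    obtain ⟨hs, hreach⟩ := ih p' d h' m' hlt
    refine ⟨hs, Relation.ReflTransGen.head ?_ hreach⟩
    have hp'v : p' v = r := by simp [p', hv]
    have heq : contract (treeOf p) r v = contract (treeOf p') r v := by
      rw [contract_eq h.1 hv hvr, contract_eq h'.1 hp'v hvr]
      refine congrArg SimpleGraph.fromRel (funext fun a => funext fun b => ?_)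
      have : p' a.1 ≠ v := by simp only [p']; split_ifs <;> simp_all [Ne.symm hvr]
      rw [if_neg this]
    refine ⟨r, v, r, v, treeOf_adj.2 ⟨Ne.symm hvr, Or.inr hv⟩, treeOf_adj.2 ⟨Ne.symm hvr, Or.inr hp'v⟩,
      ⟨Equiv.refl _, fun {a b} => by simp only [heq, Equiv.refl_apply]⟩, rfl, fun i => ?_⟩
    show contractMark m r v _ i = contractMark m' r v _ i
    apply Subtype.ext
    simp only [contractMark, m']
    split_ifs <;> simp_all


/-- Let G₁ and G₂ be dual graphs of linear trees of the same total degree e and with k marked points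
each, that is finite trees with e vertices, every vertex of degree one, together with a list of k
marked vertices (repetitions allowed). Then a finite chain of conic deformations leads from G₁ to
G₂. Here a conic deformation of such a graph is the marked graph obtained by contracting one edge
(the contracted vertex being the unique vertex of degree two), two marked trees are one step apart
when they have isomorphic conic deformations, the isomorphism matching the contracted vertices and
the i-th marked vertices, and the conclusion is that G₁ and G₂ are related by the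
reflexive-transitive closure of this one-step relation. -/
theorem result (k : ℕ) (T₁ T₂ : W4c3cyccovratcurv.MarkedTree k)
    (h : T₁.n = T₂.n) :
    Relation.ReflTransGen W4c3cyccovratcurv.ConicAdj T₁ T₂ := by
  obtain ⟨n, G₁, hG₁, m₁⟩ := T₁
  obtain ⟨n₂, G₂, hG₂, m₂⟩ := T₂
  obtain rfl : n = n₂ := h
  obtain ⟨r⟩ : Nonempty (Fin n) := hG₁.connected.nonempty
  obtain ⟨p₁, d₁, hp₁, rfl⟩ := exists_good G₁ hG₁ r
  obtain ⟨p₂, d₂, hp₂, rfl⟩ := exists_good G₂ hG₂ r
  obtain ⟨hs, h₁⟩ := reach r _ p₁ d₁ hp₁ m₁ le_rfl
  obtain ⟨_, h₂⟩ := reach r _ p₂ d₂ hp₂ m₂ le_rfl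
  exact h₁.trans (rtg_symm _ _ h₂)

end Groth.Agent.S16206
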