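import Groth.Statements.S16207
import Groth.Agent.CurveGor18.Pointed

set_option autoImplicit false
set_option linter.style.haveILetI false
set_option backward.isDefEq.respectTransparency false
set_option backward.isDefEq.respectTransparency.types false
set_option maxHeartbeats 1000000
set_option synthInstance.maxHeartbeats 200000
universe u
open CategoryTheory CategoryTheory.Limits AlgebraicGeometry
attribute [local instance] HasDerivedCategory.standard
open Curves

namespace Groth.Agent.S16207

theorem exists_tensorPow_iso {X : Scheme.{u}} {M A : X.Modules} (e : M ≅ A) :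
    ∀ m : ℕ, Nonempty (CohB1.tensorPow M m ≅ CohB1.tensorPow A m)
  | 0 => ⟨Iso.refl _⟩
  | m + 1 => let ⟨f⟩ := exists_tensorPow_iso e m; ⟨PicGrp.tensorModIso f e⟩

/-- Let k be an algebraically closed field and X a proper reduced connected scheme of dimension 1 over k
with at-worst-nodal singularities, of genus g = dim_k H^1(X, O_X), and let p_1, …, p_n be n distinct
closed points at which X is smooth over k, with 2g − 2 + n > 0, making X an n-pointed semistable
curve: every irreducible component E of X whose reduced structure has vanishing H^1 of the structure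
sheaf (a smooth rational component) carries at least 2 special points, counting the points of E
lying on other components and the marked points on E. Let ω_X be the dualizing module of X (degree
−1 cohomology sheaf of f^! O for the structure morphism f, for any choice of the data Rf_* on D_QCoh
with its right adjoint), N an inverse for the tensor product of the ideal sheaf of the reduced
closed subscheme {p_1, …, p_n} (so N plays the role of O_X(p_1 + ⋯ + p_n)), and M any module
isomorphic to ω_X ⊗ N. Then for every m ≥ 2 the tensor power M^{⊗ m} has H^1(X, M^{⊗ m}) = 0. -/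
theorem result (k : Type u) [Field k] [IsAlgClosed k] (X : Scheme.{u}) [X.Over (Spec (CommRingCat.of k))]
    [IsProper (X ↘ (Spec (CommRingCat.of k)))] [IsReduced X] [ConnectedSpace X]
    (hdim : topologicalKrullDim X = 1) (hX : Curv2.AtWorstNodal k X)
    (n : ℕ) (p : Fin n → X) (hpinj : Function.Injective p) (hpcl : ∀ i, IsClosed ({p i} : Set X))
    (hpsm : ∀ i, ∃ U : X.Opens, p i ∈ U ∧ Smooth (U.ι ≫ (X ↘ (Spec (CommRingCat.of k)))))
    (hss : ∀ (E : Set X) (hE : E ∈ irreducibleComponents (X : Type u)),
      Subsingleton (Coh.HH (Scheme.IdealSheafData.vanishingIdeal ⟨E, isClosed_of_mem_irreducibleComponents E hE⟩).subscheme (Coh.structureModule (Scheme.IdealSheafData.vanishingIdeal ⟨E, isClosed_of_mem_irreducibleComponents E hE⟩).subscheme) 1) →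
        2 ≤ (E ∩ closure Eᶜ).ncard + (p ⁻¹' E).ncard)
    (hgn : 0 < 2 * (Curv2.genus k X : ℤ) - 2 + n)
    (N : X.Modules) (hN : ClSub.IsInverseOf N (ClSub.idealMod
      (Scheme.IdealSheafData.vanishingIdeal ⟨⋃ i, ({p i} : Set X), isClosed_iUnion_of_finite hpcl⟩)))
    [DCoh.HasRpush (X ↘ (Spec (CommRingCat.of k)))] (h : DCoh.RpushPreservesQCoh (X ↘ (Spec (CommRingCat.of k)))) [DCoh.HasShriek (X ↘ (Spec (CommRingCat.of k))) h]
    (OY : DCoh.DQCoh (Spec (CommRingCat.of k)))
    (hOY : Nonempty (OY.obj ≅ DCoh.inD (Spec (CommRingCat.of k)) (Coh.structureModule (Spec (CommRingCat.of k)))))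
    (M : X.Modules) (hM : Nonempty (M ≅ CohB1.tensorMod (DCoh.dualizingMod (X ↘ (Spec (CommRingCat.of k))) h OY 1) N)) (m : ℕ) (hm : 2 ≤ m) :
    Subsingleton (Coh.HH X (CohB1.tensorPow M m) 1) := by
  haveI := Groth.Agent.CurveCohLib.isNoetherian_of_proper (k := k) (X := X)
  obtain ⟨t, ht, -⟩ := Groth.Agent.CurveDual.exists_dual hdim.le h OY hOY
  have hωi := Groth.Agent.CurveGor.isInvertible_dualizing_of_nodal hdim hX h OY hOY
  have hgen := Groth.Agent.CurveGor.notClosed_of_generic (k := k) hdim
  have hZ : IsClosed (⋃ i, ({p i} : Set X)) := isClosed_iUnion_of_finite hpcl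
  have hf : (⋃ i, ({p i} : Set X)).Finite := Set.finite_iUnion fun i => Set.finite_singleton _
  have hcl : ∀ z ∈ ⋃ i, ({p i} : Set X), IsClosed ({z} : Set X) := fun z hz => by
    obtain ⟨i, hi⟩ := Set.mem_iUnion.1 hz
    exact Set.mem_singleton_iff.1 hi ▸ hpcl i
  have hI := Groth.Agent.CurveGor18.isInvertible_ideal_points (k := k) hdim.le hgen hZ hf hcl fun z hz => by
    obtain ⟨i, hi⟩ := Set.mem_iUnion.1 hz
    obtain ⟨U, hU, hs⟩ := hpsm i
    exact Groth.Agent.CurveGor18.regular_of_smooth_nhd _ hs (Set.mem_singleton_iff.1 hi ▸ hU)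
  obtain ⟨hNi, -⟩ := Groth.Agent.CurveOnSurf.isInvertible_of_inverse hI hN
  have hcard : ∀ E : Set X, (E ∩ ⋃ i, ({p i} : Set X)).ncard = (p ⁻¹' E).ncard := fun E => by
    rw [Set.iUnion_singleton_eq_range, ← Set.image_preimage_eq_inter_range, Set.ncard_image_of_injective _ hpinj]
  obtain ⟨eM⟩ := hM
  have key : Subsingleton (Coh.HH X (CohB1.tensorPow
      (CohB1.tensorMod (DCoh.dualizingMod (X ↘ (Spec (CommRingCat.of k))) h OY 1) N) m) 1) := by
    refine Groth.Agent.CurveGor18.subsingleton_H1_pow hdim.le hgen ht hωi hNi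
      (fun Y hY hc => le_trans (Int.natCast_nonneg _)
        (Groth.Agent.CurveGor18.ncard_le_degOn hdim.le hgen hZ hf hcl hNi hN hY hc))
      (fun Y hY hc _ => Groth.Agent.CurveGor18.degOn_nonneg_of_semistable hdim.le hgen ht hωi hZ hf hNi hN
        (fun η hη hg => ?_) Y hY hc)
      (fun Y hY hc hconn h0 => Groth.Agent.CurveGor18.one_le_degOn_of_chi_zero hdim.le hgen ht hωi hZ hf hNi hN
        ?_ Y hY hc hconn h0) hm
    · rw [hcard]
      refine hss _ hη ?_
      let I := Scheme.IdealSheafData.vanishingIdeal
        (⟨closure ({η} : Set X), isClosed_closure⟩ : TopologicalSpace.Closeds X)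
      letI : I.subscheme.Over (Spec (CommRingCat.of k)) := ⟨I.subschemeι ≫ (X ↘ (Spec (CommRingCat.of k)))⟩
      haveI : IsProper (I.subscheme ↘ Spec (CommRingCat.of k)) :=
        inferInstanceAs (IsProper (I.subschemeι ≫ (X ↘ (Spec (CommRingCat.of k)))))
      haveI := Groth.Agent.CurveCohLib.isNoetherian_of_proper (k := k) (X := I.subscheme)
      haveI : Module.Finite k (Coh.HH I.subscheme (Coh.structureModule I.subscheme) 1) :=
        Groth.Agent.CurveCohLib.finite_HH (k := k) Groth.Agent.QCoh.isCoh_structureModule' 1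
      exact Module.finrank_zero_iff.1 hg
    · have hn : (⋃ i, ({p i} : Set X)).ncard = n := by
        have := hcard Set.univ
        rw [Set.univ_inter, Set.preimage_univ, Set.ncard_univ, Nat.card_eq_fintype_card, Fintype.card_fin] at this
        exact this
      rw [hn]
      exact hgn
  obtain ⟨e⟩ : Nonempty (CohB1.tensorPow M m ≅
      CohB1.tensorPow (CohB1.tensorMod (DCoh.dualizingMod (X ↘ (Spec (CommRingCat.of k))) h OY 1) N) m) :=
    exists_tensorPow_iso eM m
  exact Groth.Agent.AmpleVan.subsingleton_of_iso e.symm 1 key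

end Groth.Agent.S16207
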