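import Groth.Statements.S16208
import Groth.Agent.CurveGor.PointedTwist

set_option autoImplicit false
universe u
open CategoryTheory CategoryTheory.Limits AlgebraicGeometry
attribute [local instance] HasDerivedCategory.standard
open Curves

namespace Groth.Agent.S16208
set_option backward.isDefEq.respectTransparency false
set_option backward.isDefEq.respectTransparency.types false
set_option synthInstance.maxHeartbeats 200000
set_option maxHeartbeats 2000000
attribute [local instance] HasDerivedCategory.standard
open Groth.Agent.CurveGor in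


/-- Let k be an algebraically closed field and X a proper reduced connected scheme of dimension 1 over k
with at-worst-nodal singularities, of genus g = dim_k H^1(X, O_X), and let p_1, …, p_n be n distinct
closed points at which X is smooth over k, with 2g − 2 + n > 0, making X an n-pointed semistable
curve: every irreducible component E of X whose reduced structure has vanishing H^1 of the structure
sheaf (a smooth rational component) carries at least 2 special points, counting the points of E
lying on other components and the marked points on E. Let ω_X be the dualizing module of X (degree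
−1 cohomology sheaf of f^! O for the structure morphism f, for any choice of the data Rf_* on D_QCoh
with its right adjoint), N an inverse for the tensor product of the ideal sheaf of the reduced
closed subscheme {p_1, …, p_n} (so N plays the role of O_X(p_1 + ⋯ + p_n)), and M any module
isomorphic to ω_X ⊗ N. Then for every m ≥ 2 the tensor power M^{⊗ m} is globally generated. -/
theorem result (k : Type u) [Field k] [IsAlgClosed k] (X : Scheme.{u}) [X.Over (Spec (CommRingCat.of k))]
    [IsProper (X ↘ (Spec (CommRingCat.of k)))] [IsReduced X] [ConnectedSpace X]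
    (hdim : topologicalKrullDim X = 1) (hX : Curv2.AtWorstNodal k X)
    (n : ℕ) (p : Fin n → X) (hpinj : Function.Injective p) (hpcl : ∀ i, IsClosed ({p i} : Set X))
    (hpsm : ∀ i, ∃ U : X.Opens, p i ∈ U ∧ Smooth (U.ι ≫ (X ↘ (Spec (CommRingCat.of k)))))
    (hss : ∀ (E : Set X) (hE : E ∈ irreducibleComponents (X : Type u)),
      Subsingleton (Coh.HH (Scheme.IdealSheafData.vanishingIdeal ⟨E, isClosed_of_mem_irreducibleComponents E hE⟩).subscheme (Coh.structureModule (Scheme.IdealSheafData.vanishingIdeal ⟨E, isClosed_of_mem_irreducibleComponents E hE⟩).subscheme) 1) →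
        2 ≤ (E ∩ closure Eᶜ).ncard + (p ⁻¹' E).ncard)
    (hgn : 0 < 2 * (Curv2.genus k X : ℤ) - 2 + n)
    (N : X.Modules) (hN : ClSub.IsInverseOf N (ClSub.idealMod
      (Scheme.IdealSheafData.vanishingIdeal ⟨⋃ i, ({p i} : Set X), isClosed_iUnion_of_finite hpcl⟩)))
    [DCoh.HasRpush (X ↘ (Spec (CommRingCat.of k)))] (h : DCoh.RpushPreservesQCoh (X ↘ (Spec (CommRingCat.of k)))) [DCoh.HasShriek (X ↘ (Spec (CommRingCat.of k))) h]
    (OY : DCoh.DQCoh (Spec (CommRingCat.of k)))
    (hOY : Nonempty (OY.obj ≅ DCoh.inD (Spec (CommRingCat.of k)) (Coh.structureModule (Spec (CommRingCat.of k)))))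
    (M : X.Modules) (hM : Nonempty (M ≅ CohB1.tensorMod (DCoh.dualizingMod (X ↘ (Spec (CommRingCat.of k))) h OY 1) N)) (m : ℕ) (hm : 2 ≤ m) :
    Curv2.IsGloballyGenerated (CohB1.tensorPow M m) := by
  classical
  haveI := Groth.Agent.CurveCohLib.isNoetherian_of_proper (k := k) (X := X)
  obtain ⟨t, ht, -⟩ := Groth.Agent.CurveDual.exists_dual hdim.le h OY hOY
  have hgen := notClosed_of_generic (k := k) hdim
  obtain ⟨eM⟩ := hM
  have hi := isInvertible_dualizing_of_nodal hdim hX h OY hOY
  generalize DCoh.dualizingMod (X ↘ (Spec (CommRingCat.of k))) h OY 1 = ω at t ht hi eM ⊢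
  obtain ⟨hMi, key⟩ := degOn_twist hdim hX (isClosed_iUnion_of_finite hpcl)
    (Set.finite_iUnion fun _ => Set.finite_singleton _)
    (fun x hx => by obtain ⟨i, rfl⟩ := Set.mem_iUnion.1 hx; exact hpcl i)
    (fun x hx => by obtain ⟨i, rfl⟩ := Set.mem_iUnion.1 hx; exact hpsm i) ht hi hN eM
  have hcomp : ∀ η ∈ genericPoints (X : Type u),
      0 ≤ Groth.Agent.TFOneX.degOn k M 1 (closure ({η} : Set X)) isClosed_closure := fun η hη => by
    rcases key _ isClosed_closure (isCompUnion_closure hη) isIrreducible_singleton.closure.isConnected with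
      ⟨hu, h1, h2⟩ | ⟨hu, h1, h2⟩
    · have hn' : ((⋃ i, ({p i} : Set X)) ∩ closure {η}).ncard = n := by
        rw [← ncard_preimage_eq hpinj, hu, Set.preimage_univ, Set.ncard_univ, Nat.card_fin]
      rw [h1, hn']
      omega
    · rw [h2]
      by_cases hg : genusY k (closure ({η} : Set X)) isClosed_closure = 0
      · have := hss _ hη ((genusY_eq_zero_iff _ isClosed_closure).1 hg)
        rw [ncard_preimage_eq hpinj] at this
        rw [hg]
        omega
      · omega
  refine isGloballyGenerated_of_deg hdim.le hgen ht hi (Groth.Agent.H23.PicMul.isInvertible_tensorPow hMi m)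
    fun Y hY hc hconn => ?_
  rw [degOn_pow hdim.le hMi hY m, chiY_eq (k := k) hdim.le hY hconn]
  have hnn := degOn_nonneg (k := k) hdim.le hMi hcomp Y hY hc
  have hm' : (2 : ℤ) ≤ (m : ℤ) := by exact_mod_cast hm
  have h2m : (2 : ℤ) * Groth.Agent.TFOneX.degOn k M 1 Y hY ≤ (m : ℤ) * Groth.Agent.TFOneX.degOn k M 1 Y hY :=
    mul_le_mul_of_nonneg_right hm' hnn
  rcases key Y hY hc hconn with ⟨hu, h1, h2⟩ | ⟨hu, h1, h2⟩
  · have hn : ((⋃ i, ({p i} : Set X)) ∩ Y).ncard = n := by
      rw [← ncard_preimage_eq hpinj, hu, Set.preimage_univ, Set.ncard_univ, Nat.card_fin]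
    rw [hn] at h1
    omega
  · omega


end Groth.Agent.S16208
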