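import Groth.Statements.S16209
import Groth.Agent.CurveGor.Existence
import Groth.Agent.CurveGor.PointedTwist
import Groth.Agent.CurveDual.Dual
import Groth.Agent.H23.PicInv

set_option autoImplicit false
universe u
open CategoryTheory CategoryTheory.Limits AlgebraicGeometry
attribute [local instance] HasDerivedCategory.standard
open Curves

namespace Groth.Agent.S16209
set_option backward.isDefEq.respectTransparency false
set_option backward.isDefEq.respectTransparency.types false
set_option synthInstance.maxHeartbeats 200000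
set_option maxHeartbeats 2000000
attribute [local instance] HasDerivedCategory.standard
open Groth.Agent Groth.Agent.CurveGor TFOneX in


/-- Let k be an algebraically closed field and X a proper reduced connected scheme of dimension 1 over k
with at-worst-nodal singularities and H^1(X, O_X) = 0 (so X is a tree of smooth rational curves).
For an irreducible component E of X write k_E for the number of points of E lying on the other
components and deg_E for the degree of the restriction to E with its reduced structure. Let L be an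
invertible module and E_0 an irreducible component with deg_{E_0}(L) ≤ k_{E_0} − 1 and deg_E(L) ≤
k_E − 2 for every other irreducible component E. Then H^0(X, L) = 0. -/
theorem result (k : Type u) [Field k] [IsAlgClosed k] (X : Scheme.{u}) [X.Over (Spec (CommRingCat.of k))]
    [IsProper (X ↘ (Spec (CommRingCat.of k)))] [IsReduced X] [ConnectedSpace X]
    (hdim : topologicalKrullDim X = 1) (hX : Curv2.AtWorstNodal k X)
    (hg : Subsingleton (Coh.HH X (Coh.structureModule X) 1)) (L : X.Modules) (hL : PicF.IsInvertible L)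
    (E₀ : Set X) (hE₀ : E₀ ∈ irreducibleComponents (X : Type u))
    (h₀ : @Curv2.deg k _ (Scheme.IdealSheafData.vanishingIdeal ⟨E₀, isClosed_of_mem_irreducibleComponents E₀ hE₀⟩).subscheme ⟨(Scheme.IdealSheafData.vanishingIdeal ⟨E₀, isClosed_of_mem_irreducibleComponents E₀ hE₀⟩).subschemeι ≫ (X ↘ (Spec (CommRingCat.of k)))⟩ ((Scheme.Modules.pullback (Scheme.IdealSheafData.vanishingIdeal ⟨E₀, isClosed_of_mem_irreducibleComponents E₀ hE₀⟩).subschemeι).obj L) 1 ≤ ((E₀ ∩ closure E₀ᶜ).ncard : ℤ) - 1)
    (hE : ∀ (E : Set X) (hE : E ∈ irreducibleComponents (X : Type u)), E ≠ E₀ →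
      @Curv2.deg k _ (Scheme.IdealSheafData.vanishingIdeal ⟨E, isClosed_of_mem_irreducibleComponents E hE⟩).subscheme ⟨(Scheme.IdealSheafData.vanishingIdeal ⟨E, isClosed_of_mem_irreducibleComponents E hE⟩).subschemeι ≫ (X ↘ (Spec (CommRingCat.of k)))⟩ ((Scheme.Modules.pullback (Scheme.IdealSheafData.vanishingIdeal ⟨E, isClosed_of_mem_irreducibleComponents E hE⟩).subschemeι).obj L) 1 ≤ ((E ∩ closure Eᶜ).ncard : ℤ) - 2) :
    Subsingleton (Coh.HH X L 0) := by
  classical
  haveI := CurveCohLib.isNoetherian_of_proper (k := k) (X := X)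
  obtain ⟨ω, t, ht, hωi⟩ := exists_invertible_dual k X hdim hX
  have hgen := notClosed_of_generic (k := k) hdim
  obtain ⟨D, hD, ⟨eD⟩⟩ := H23.PicInv.exists_inverse hL
  let N := CohB1.tensorMod ω D
  have hN : PicF.IsInvertible N := InvX.isInvertible_tensorMod hωi hD
  obtain ⟨eN⟩ : Nonempty (CohB1.tensorMod L N ≅ ω) := by
    letI := H23.PicMul.clMonoid X
    refine H23.PicMul.cl_eq_iff.1 ?_
    have h1 : PicF.cl (CohB1.tensorMod L D) = PicF.cl (Coh.structureModule X) := H23.PicMul.cl_eq_iff.2 ⟨eD⟩
    simp only [N, H23.PicMul.cl_tensor] at h1 ⊢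
    rw [mul_left_comm, h1]
    exact mul_one _
  have hdeg : ∀ (Y : Set X) (hY : IsClosed Y), degOn k L 1 Y hY + degOn k N 1 Y hY = degOn k ω 1 Y hY :=
    fun Y hY => by
      rw [← degOn_tensor hdim.le hL hN hY]
      exact degOn_congr eN (InvX.isInvertible_tensorMod hL hN) hY
  have hω : ∀ (Y : Set X) (hY : IsClosed Y), IsCompUnion Y → _root_.IsConnected Y →
      degOn k ω 1 Y hY = ((Y ∩ closure Yᶜ).ncard : ℤ) - 2 ∧ chiY k Y hY = 1 := by
    intro Y hY hc hconn
    have hg0 := genusY_eq_zero (k := k) hdim.le hg Y hY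
    have hχ : chiY k Y hY = 1 := by rw [chiY_eq hdim.le hY hconn, hg0]; simp
    refine ⟨?_, hχ⟩
    rw [degOn_dualizing hdim.le hgen ht hωi hY hc, hχ, kY_eq_card hdim.le hX hY hc, Nat.card_coe_set_eq]
    ring
  have hcomp : ∀ η ∈ genericPoints (X : Type u), degOn k L 1 (closure ({η} : Set X)) isClosed_closure ≤
      degOn k ω 1 (closure ({η} : Set X)) isClosed_closure + (if closure ({η} : Set X) = E₀ then 1 else 0) := by
    intro η hη
    rw [(hω _ isClosed_closure (isCompUnion_closure hη) isIrreducible_singleton.closure.isConnected).1]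
    by_cases he : closure ({η} : Set X) = E₀
    · rw [if_pos he]
      subst he
      have := h₀
      change degOn k L 1 (closure ({η} : Set X)) isClosed_closure ≤ _ at this
      omega
    · rw [if_neg he]
      have := hE _ hη he
      change degOn k L 1 (closure ({η} : Set X)) isClosed_closure ≤ _ at this
      omega
  have hH1 : Subsingleton (Coh.HH X N 1) := by
    refine subsingleton_H1_of_deg hdim.le hgen ht hωi hN fun Y hY hc hconn => ?_
    obtain ⟨hd, hχ⟩ := hω Y hY hc hconn
    let S := (finite_genericPoints.inter_of_left Y : (genericPoints (X : Type u) ∩ Y).Finite).toFinset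
    have hS : ∀ η, η ∈ S ↔ η ∈ genericPoints (X : Type u) ∧ η ∈ Y := fun η => Set.Finite.mem_toFinset _
    have hle : degOn k L 1 Y hY ≤ degOn k ω 1 Y hY + 1 := by
      rw [degOn_eq_sum hdim.le hL Y hY hc S hS, degOn_eq_sum hdim.le hωi Y hY hc S hS]
      refine (Finset.sum_le_sum fun η hη => hcomp η ((hS η).1 hη).1).trans ?_
      rw [Finset.sum_add_distrib]
      refine add_le_add le_rfl ?_
      rw [Finset.sum_boole]
      have : (S.filter fun η => closure ({η} : Set X) = E₀).card ≤ 1 := by
        refine Finset.card_le_one.2 fun a ha b hb => ?_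
        rw [Finset.mem_filter] at ha hb
        refine (NormAmpleX.eq_of_specializes_generic ((hS a).1 ha.1).1 (specializes_iff_mem_closure.2 ?_)).symm
        exact (hb.2.trans ha.2.symm) ▸ subset_closure rfl
      exact_mod_cast this
    have := hdeg Y hY
    rw [hχ]
    omega
  obtain ⟨Q, hQ, ⟨eQ⟩⟩ := H23.PicInv.exists_inverse hN
  have e := CurveDual.finrank_H0_twist ht (M := N) (CurveDeg.isCoh_of_isInvertible hN).1 hQ eQ.symm
  obtain ⟨eL⟩ : Nonempty (CohB1.tensorMod ω Q ≅ L) := by
    letI := H23.PicMul.clMonoid X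
    refine H23.PicMul.cl_eq_iff.1 ?_
    have h1 : PicF.cl (CohB1.tensorMod N Q) = PicF.cl (Coh.structureModule X) := H23.PicMul.cl_eq_iff.2 ⟨eQ⟩
    have h2 : PicF.cl (CohB1.tensorMod L N) = PicF.cl ω := H23.PicMul.cl_eq_iff.2 ⟨eN⟩
    rw [H23.PicMul.cl_tensor] at h1 h2 ⊢
    rw [← h2, mul_assoc, h1]
    exact mul_one _
  haveI := hH1
  haveI := S0002.result k X L (CurveDeg.isCoh_of_isInvertible hL) 0
  refine (Module.finrank_zero_iff (R := k)).1 ?_
  rw [← (CurveCohLib.hhEquiv (k := k) eL 0).finrank_eq]
  exact e.trans Module.finrank_zero_of_subsingleton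


end Groth.Agent.S16209
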