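import Groth.Statements.S1621
import Groth.Agent.VarDim.Local

set_option autoImplicit false
universe u
open CategoryTheory CategoryTheory.Limits AlgebraicGeometry
attribute [local instance] Curv2.stalkAlgebra Curv2.resAlgebra
open Variety

namespace Groth.Agent.S1621

open Groth.Agent.VarDim Order

theorem localDim_eq (k : Type u) [Field k] (X : Scheme.{u}) [X.Over (Spec (CommRingCat.of k))]
    [LocallyOfFiniteType (X ↘ (Spec (CommRingCat.of k)))] (x : X) (b : ℕ)
    (hb : ringKrullDim (X.presheaf.stalk x) = b) :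
    FlatMor.localDim X x = ((deg (X ↘ (Spec (CommRingCat.of k))) x + b : ℕ) : WithBot ℕ∞) := by
  set f := X ↘ (Spec (CommRingCat.of k))
  obtain ⟨b', hb', ⟨η, hη, hηd⟩, hmax⟩ := exists_deg_add_stalk f x
  obtain rfl : b' = b := by
    have := hb'.symm.trans hb
    exact_mod_cast this
  refine le_antisymm ?_ (le_iInf fun U => ?_)
  · obtain ⟨U, hxU, hU⟩ := exists_nhd f x
    refine iInf_le_of_le ⟨U, hxU⟩ ?_
    rw [topologicalKrullDim_opens_eq_iSup_deg f U]
    refine iSup_le fun z => ?_
    obtain ⟨η', hη', hz⟩ := hU z.1 z.2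
    exact_mod_cast hz.trans (hmax η' hη')
  · rw [topologicalKrullDim_opens_eq_iSup_deg f U.1]
    refine le_iSup_of_le ⟨η, hη.mem_open U.1.2 U.2⟩ ?_
    rw [hηd]
    exact_mod_cast le_rfl

theorem tdeg_eq (k : Type u) [Field k] (X : Scheme.{u}) [X.Over (Spec (CommRingCat.of k))] (x : X) :
    letI := Curv2.resAlgebra k X x
    Algebra.trdeg k (X.residueField x) = tdeg (X ↘ (Spec (CommRingCat.of k))) x := rfl

theorem deg_of_trdeg (k : Type u) [Field k] (X : Scheme.{u}) [X.Over (Spec (CommRingCat.of k))] (x : X)
    (n : ℕ) (hn : tdeg (X ↘ (Spec (CommRingCat.of k))) x = n) :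
    deg (X ↘ (Spec (CommRingCat.of k))) x = n := by
  rw [deg, hn, Cardinal.toNat_natCast]

/-- Let X be locally of finite type over a field k and x a point whose residue field has transcendence
degree a over k and whose local ring has dimension b. Then the local dimension of X at x is a + b. -/
theorem result (k : Type u) [Field k] (X : Scheme.{u}) [X.Over (Spec (CommRingCat.of k))] [LocallyOfFiniteType (X ↘ (Spec (CommRingCat.of k)))] (x : X) (a b : ℕ)
    (ha : Algebra.trdeg k (X.residueField x) = a) (hb : ringKrullDim (X.presheaf.stalk x) = b) :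
    FlatMor.localDim X x = (a + b : ℕ) := by
  rw [localDim_eq k X x b hb, deg_of_trdeg k X x a ha]

end Groth.Agent.S1621
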