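import Groth.Statements.S16210
import Groth.Agent.CurveGor.PointedTwist

set_option autoImplicit false
universe u
open CategoryTheory CategoryTheory.Limits AlgebraicGeometry
attribute [local instance] HasDerivedCategory.standard
open Curves

namespace Groth.Agent.S16210
set_option backward.isDefEq.respectTransparency false
set_option backward.isDefEq.respectTransparency.types false
set_option synthInstance.maxHeartbeats 200000
set_option maxHeartbeats 2000000
attribute [local instance] HasDerivedCategory.standard
open Groth.Agent.CurveGor in


/-- Let k be an algebraically closed field and X a proper reduced connected scheme of dimension 1 over k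
with at-worst-nodal singularities and H^1(X, O_X) = 0, and let p_1, …, p_n (n ≥ 3) be distinct
closed points at which X is smooth over k. Let ω_X be the dualizing module of X (degree −1
cohomology sheaf of f^! O for the structure morphism f, for any choice of the data Rf_* on D_QCoh
with its right adjoint), N an inverse for the tensor product of the ideal sheaf of the reduced
closed subscheme {p_1, …, p_n}, and M any module isomorphic to ω_X ⊗ N (the dualizing module twisted
by the marked points). Then the n-pointed curve is semistable, i.e. every irreducible component E of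
X has at least 2 special points (points of E on other components plus marked points on E), if and
only if M is globally generated. -/
theorem result (k : Type u) [Field k] [IsAlgClosed k] (X : Scheme.{u}) [X.Over (Spec (CommRingCat.of k))]
    [IsProper (X ↘ (Spec (CommRingCat.of k)))] [IsReduced X] [ConnectedSpace X]
    (hdim : topologicalKrullDim X = 1) (hX : Curv2.AtWorstNodal k X)
    (hg : Subsingleton (Coh.HH X (Coh.structureModule X) 1))
    (n : ℕ) (p : Fin n → X) (hpinj : Function.Injective p) (hpcl : ∀ i, IsClosed ({p i} : Set X))
    (hpsm : ∀ i, ∃ U : X.Opens, p i ∈ U ∧ Smooth (U.ι ≫ (X ↘ (Spec (CommRingCat.of k))))) (hn : 3 ≤ n)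
    (N : X.Modules) (hN : ClSub.IsInverseOf N (ClSub.idealMod
      (Scheme.IdealSheafData.vanishingIdeal ⟨⋃ i, ({p i} : Set X), isClosed_iUnion_of_finite hpcl⟩)))
    [DCoh.HasRpush (X ↘ (Spec (CommRingCat.of k)))] (h : DCoh.RpushPreservesQCoh (X ↘ (Spec (CommRingCat.of k)))) [DCoh.HasShriek (X ↘ (Spec (CommRingCat.of k))) h]
    (OY : DCoh.DQCoh (Spec (CommRingCat.of k)))
    (hOY : Nonempty (OY.obj ≅ DCoh.inD (Spec (CommRingCat.of k)) (Coh.structureModule (Spec (CommRingCat.of k)))))
    (M : X.Modules) (hM : Nonempty (M ≅ CohB1.tensorMod (DCoh.dualizingMod (X ↘ (Spec (CommRingCat.of k))) h OY 1) N)) :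
    (∀ (E : Set X), E ∈ irreducibleComponents (X : Type u) → 2 ≤ (E ∩ closure Eᶜ).ncard + (p ⁻¹' E).ncard) ↔
      Curv2.IsGloballyGenerated M := by
  classical
  haveI := Groth.Agent.CurveCohLib.isNoetherian_of_proper (k := k) (X := X)
  obtain ⟨t, ht, -⟩ := Groth.Agent.CurveDual.exists_dual hdim.le h OY hOY
  have hgen := notClosed_of_generic (k := k) hdim
  obtain ⟨eM⟩ := hM
  have hi := isInvertible_dualizing_of_nodal hdim hX h OY hOY
  generalize DCoh.dualizingMod (X ↘ (Spec (CommRingCat.of k))) h OY 1 = ω at t ht hi eM ⊢
  obtain ⟨hMi, key⟩ := degOn_twist hdim hX (isClosed_iUnion_of_finite hpcl)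
    (Set.finite_iUnion fun _ => Set.finite_singleton _)
    (fun x hx => by obtain ⟨i, rfl⟩ := Set.mem_iUnion.1 hx; exact hpcl i)
    (fun x hx => by obtain ⟨i, rfl⟩ := Set.mem_iUnion.1 hx; exact hpsm i) ht hi hN eM
  have hz : ∀ (Y : Set X) (hY : IsClosed Y), genusY k Y hY = 0 := genusY_eq_zero (k := k) hdim.le hg
  constructor
  · intro hss
    have hcomp : ∀ η ∈ genericPoints (X : Type u),
        0 ≤ Groth.Agent.TFOneX.degOn k M 1 (closure ({η} : Set X)) isClosed_closure := fun η hη => by
      rcases key _ isClosed_closure (isCompUnion_closure hη) isIrreducible_singleton.closure.isConnected with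
        ⟨hu, h1, h2⟩ | ⟨hu, h1, h2⟩
      · have hn' : ((⋃ i, ({p i} : Set X)) ∩ closure {η}).ncard = n := by
          rw [← ncard_preimage_eq hpinj, hu, Set.preimage_univ, Set.ncard_univ, Nat.card_fin]
        rw [h1, hn']
        omega
      · have := hss _ hη
        rw [ncard_preimage_eq hpinj] at this
        rw [h2, hz]
        omega
    refine isGloballyGenerated_of_deg hdim.le hgen ht hi hMi fun Y hY hc hconn => ?_
    have hnn := degOn_nonneg (k := k) hdim.le hMi hcomp Y hY hc
    rw [chiY_eq (k := k) hdim.le hY hconn, hz]
    omega
  · intro hgg E hE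
    have hE' := isClosed_of_mem_irreducibleComponents E hE
    have e := hE.1.closure_genericPoint hE'
    have hη : hE.1.genericPoint ∈ genericPoints (X : Type u) := by
      show closure _ ∈ irreducibleComponents (X : Type u)
      rw [e]
      exact hE
    have h0 := degOn_nonneg_of_gg (k := k) hdim.le hMi hgg hη
    rcases key _ isClosed_closure (isCompUnion_closure hη) isIrreducible_singleton.closure.isConnected with
      ⟨hu, h1, h2⟩ | ⟨hu, h1, h2⟩
    · rw [e] at hu
      rw [hu, Set.preimage_univ, Set.ncard_univ, Nat.card_fin]
      omega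
    · rw [h2, hz] at h0
      rw [e] at h0
      rw [ncard_preimage_eq hpinj]
      omega


end Groth.Agent.S16210
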