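import Groth.Statements.S16211
import Mathlib
-- import your own Groth.Agent.* helpers here

set_option autoImplicit false
universe u v
open InvTh

namespace Groth.Agent.S16211

/-- Let R be a commutative ring, O a formally smooth R-algebra and G a finite group whose order is
invertible in R, acting on O by R-algebra automorphisms. Then the largest quotient algebra of O on
which G acts trivially, namely the quotient of O by the ideal generated by all g • f - f (the
coordinate ring of the subscheme of G-fixed points of Spec O), is again formally smooth over R: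
invariant homomorphisms lift along square-zero extensions. The published statement is about a scheme
X smooth and of finite presentation over the base and concludes that its fixed-point scheme is
smooth; this row, the affine step of its proof, assumes only that O is formally smooth over R and
concludes only formal smoothness. -/
theorem result (R : Type u) [CommRing R]
    (O : Type u) [CommRing O] [Algebra R O] [Algebra.FormallySmooth R O]
    (G : Type v) [Group G] [Finite G] [MulSemiringAction G O] [SMulCommClass G R O]
    (hG : IsUnit (Nat.card G : R)) :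
    Algebra.FormallySmooth R (O ⧸ Ideal.span {x : O | ∃ (g : G) (f : O), x = g • f - f}) := by
  classical
  haveI := Fintype.ofFinite G
  refine Algebra.FormallySmooth.of_comp_surjective fun B _ _ I hI f => ?_
  let J : Ideal O := Ideal.span {x : O | ∃ (g : G) (f : O), x = g • f - f}
  have hJ : ∀ (g : G) (x : O), Ideal.Quotient.mk J (g • x) = Ideal.Quotient.mk J x := fun g x => by
    rw [Ideal.Quotient.eq]; exact Ideal.subset_span ⟨g, x, rfl⟩
  obtain ⟨σ, hσ⟩ := Algebra.FormallySmooth.exists_lift I ⟨2, hI⟩ (f.comp (Ideal.Quotient.mkₐ R J))
  have hσg : ∀ (g : G) (x : O), σ (g • x) - σ x ∈ I := by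
    intro g x
    rw [← Ideal.Quotient.eq]
    have h1 := AlgHom.congr_fun hσ (g • x)
    have h2 := AlgHom.congr_fun hσ x
    simp only [AlgHom.comp_apply, Ideal.Quotient.mkₐ_eq_mk] at h1 h2
    rw [h1, h2, hJ]
  have hmul : ∀ a ∈ I, ∀ b ∈ I, a * b = 0 := fun a ha b hb => by
    have := Ideal.mul_mem_mul ha hb
    rwa [← pow_two, hI, Ideal.mem_bot] at this
  obtain ⟨w, hw⟩ : ∃ w : R, (Nat.card G : R) * w = 1 := hG.exists_right_inv
  have hcard : algebraMap R B w * (Fintype.card G : B) = 1 := by
    rw [← map_natCast (algebraMap R B), ← map_mul, mul_comm, ← Nat.card_eq_fintype_card, hw, map_one]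
  let D : O → B := fun x => algebraMap R B w * ∑ g : G, (σ (g • x) - σ x)
  have hD : ∀ x, D x ∈ I := fun x => Ideal.mul_mem_left _ _ (Ideal.sum_mem _ fun g _ => hσg g x)
  have hDmul : ∀ x y, D (x * y) = σ x * D y + σ y * D x := by
    intro x y
    have h1 : ∀ g : G, σ (g • (x * y)) - σ (x * y) = σ x * (σ (g • y) - σ y) + σ y * (σ (g • x) - σ x) := by
      intro g
      have h0 := hmul _ (hσg g x) _ (hσg g y)
      rw [smul_mul', map_mul, map_mul]
      linear_combination h0
    simp only [D, h1, Finset.sum_add_distrib, ← Finset.mul_sum]
    ring
  let τ : O →ₐ[R] B :=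
    { toFun := fun x => σ x + D x
      map_one' := by simp [D, smul_one]
      map_mul' := fun x y => by
        have h0 := hmul _ (hD x) _ (hD y)
        rw [hDmul, map_mul]
        linear_combination -h0
      map_zero' := by simp [D]
      map_add' := fun x y => by
        simp only [D, smul_add, map_add, add_sub_add_comm, Finset.sum_add_distrib, mul_add]
        abel
      commutes' := fun r => by
        have : ∀ g : G, g • algebraMap R O r = algebraMap R O r := fun g => by
          rw [Algebra.algebraMap_eq_smul_one, smul_comm, smul_one]
        simp [D, this] }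
  have hτg : ∀ (g : G) (x : O), τ (g • x) = τ x := by
    intro g x
    have h : ∀ z : O, τ z = algebraMap R B w * ∑ h : G, σ (h • z) := fun z => by
      show σ z + D z = _
      simp only [D, Finset.sum_sub_distrib, Finset.sum_const, Finset.card_univ, nsmul_eq_mul, mul_sub]
      rw [← mul_assoc, hcard, one_mul]
      ring
    rw [h, h]
    congr 1
    exact Fintype.sum_equiv (Equiv.mulRight g) _ _ fun a => by simp [smul_smul]
  refine ⟨Ideal.Quotient.liftₐ J τ fun a ha => ?_, ?_⟩
  · have hle : J ≤ RingHom.ker τ := Ideal.span_le.2 (by
      rintro _ ⟨g, x, rfl⟩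
      rw [SetLike.mem_coe, RingHom.mem_ker, map_sub, hτg, sub_self])
    exact hle ha
  · refine Ideal.Quotient.algHom_ext R (AlgHom.ext fun x => ?_)
    have h2 := AlgHom.congr_fun hσ x
    simp only [AlgHom.comp_apply, Ideal.Quotient.mkₐ_eq_mk] at h2 ⊢
    rw [← h2]
    show Ideal.Quotient.mk I (σ x + D x) = _
    rw [Ideal.Quotient.eq]
    simpa using hD x

end Groth.Agent.S16211
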