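import Groth.Statements.S16212
import Groth.Agent.S16211
import Groth.Agent.S4599
import Mathlib.AlgebraicGeometry.Morphisms.Smooth
import Mathlib.CategoryTheory.Limits.Constructions.Over.Connected
-- import your own Groth.Agent.* helpers here

set_option autoImplicit false
universe u v
open CategoryTheory CategoryTheory.Limits AlgebraicGeometry
open AlgGrp

namespace Groth.Agent.S16212

/-- Closed immersions of finite presentation. -/
abbrev Q : MorphismProperty Scheme.{u} := @IsClosedImmersion ⊓ @LocallyOfFinitePresentation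

instance : Q.{u}.IsStableUnderBaseChange :=
  MorphismProperty.IsStableUnderBaseChange.inf

set_option backward.isDefEq.respectTransparency false in
set_option backward.isDefEq.respectTransparency.types false in
theorem equalizer_Q {S : Scheme.{u}} {X Y : Over S} [IsSeparated Y.hom] [LocallyOfFiniteType Y.hom]
    (f g : X ⟶ Y) : Q (equalizer.ι f g).left := by
  refine ⟨inferInstance, ?_⟩
  refine MorphismProperty.of_isPullback (P := @LocallyOfFinitePresentation)
    ((Limits.isPullback_equalizer_prod f g).map (Over.forget _)).flip ?_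
  rw [← MorphismProperty.cancel_right_of_respectsIso @LocallyOfFinitePresentation _
    (Over.prodLeftIsoPullback Y Y).hom]
  convert! (Groth.Agent.S4599.result Y.hom)
  ext1 <;> simp [← Over.comp_left]

theorem appLE_congr {Y : Scheme.{u}} {W : Y.Opens} {f f' : Y ⟶ Y} (h : f = f') (e : W ≤ f ⁻¹ᵁ W) :
    f.appLE W W e = f'.appLE W W (h ▸ e) := by subst h; rfl

theorem exists_fixed {S : Scheme.{u}} {X : Over S} [IsSeparated X.hom] [LocallyOfFiniteType X.hom]
    {G : Type v} [Group G] (ρ : G →* Aut X) (s : Finset G) :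
    ∃ (E : Over S) (c : E ⟶ X), Q c.left ∧ (∀ g ∈ s, c ≫ (ρ g).hom = c) ∧
      ∀ (T : Over S) (t : T ⟶ X), (∀ g ∈ s, t ≫ (ρ g).hom = t) → ∃ t' : T ⟶ E, t' ≫ c = t := by
  classical
  induction s using Finset.induction with
  | empty => exact ⟨X, 𝟙 X, ⟨inferInstanceAs (IsClosedImmersion (𝟙 _)), inferInstanceAs (LocallyOfFinitePresentation (𝟙 _))⟩,
      fun g hg => absurd hg (by simp), fun T t _ => ⟨t, Category.comp_id t⟩⟩
  | insert g s _ ih =>
    obtain ⟨E, c, hQ, hc, huniv⟩ := ih
    let e := equalizer.ι (ρ g).hom (𝟙 X)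
    have he : e ≫ (ρ g).hom = e := by simpa using equalizer.condition (ρ g).hom (𝟙 X)
    refine ⟨pullback c e, pullback.fst c e ≫ c, ?_, ?_, ?_⟩
    · have h1 : Q (pullback.fst c e).left :=
        MorphismProperty.of_isPullback ((IsPullback.of_hasPullback c e).map (Over.forget _)).flip (equalizer_Q _ _)
      obtain ⟨_, _⟩ := hQ
      obtain ⟨_, _⟩ := h1
      exact ⟨inferInstanceAs (IsClosedImmersion ((pullback.fst c e).left ≫ c.left)),
        inferInstanceAs (LocallyOfFinitePresentation ((pullback.fst c e).left ≫ c.left))⟩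
    · intro g' hg'
      rcases Finset.mem_insert.mp hg' with rfl | h
      · rw [pullback.condition, Category.assoc, he]
      · rw [Category.assoc, hc g' h]
    · intro T t ht
      obtain ⟨t', rfl⟩ := huniv T t fun g' h => ht g' (Finset.mem_insert_of_mem h)
      refine ⟨pullback.lift t' (equalizer.lift (t' ≫ c) (by simpa using ht g (Finset.mem_insert_self g s))) ?_, ?_⟩
      · simp [e]
      · rw [pullback.lift_fst_assoc]

/-- Let S be a scheme, X an S-scheme that is smooth, separated and of finite presentation over S, and G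
a finite group whose order is invertible on S (a unit among the global functions of S) acting on X
by S-automorphisms. Then the scheme of G-fixed points of X, namely any S-scheme Z with an S-morphism
ι to X that is itself fixed by every element of G (ι followed by the automorphism of each g equals
ι) and such that an S-morphism T → X is fixed by every element of G exactly when it factors through
ι, and then uniquely, is a closed subscheme of X (ι is a closed immersion) which is smooth and of
finite presentation over S (smooth, quasi-compact and quasi-separated). The published statement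
assumes X only smooth and of finite presentation over S; this row also assumes X separated over S. -/
theorem result (S : Scheme.{u})
    (X : Over S) [Smooth X.hom] [QuasiCompact X.hom] [IsSeparated X.hom]
    (G : Type v) [Group G] [Finite G] (ρ : G →* Aut X)
    (hG : IsUnit (Nat.card G : Γ(S, ⊤)))
    (Z : Over S) (ι : Z ⟶ X) (hι : ∀ g : G, ι ≫ (ρ g).hom = ι)
    (hZ : ∀ (T : Over S) (t : T ⟶ X), (∀ g : G, t ≫ (ρ g).hom = t) ↔ ∃! t' : T ⟶ Z, t' ≫ ι = t) :
    IsClosedImmersion ι.left ∧ Smooth Z.hom ∧ QuasiCompact Z.hom ∧ QuasiSeparated Z.hom := by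
  classical
  haveI := Fintype.ofFinite G
  -- the fixed locus is a closed subscheme of finite presentation
  obtain ⟨E, c, ⟨hcci, hclfp⟩, hc, huniv⟩ := exists_fixed ρ Finset.univ
  haveI := hcci
  haveI := hclfp
  obtain ⟨a, ha, -⟩ := (hZ E c).mp fun g => hc g (Finset.mem_univ g)
  obtain ⟨b, hb⟩ := huniv Z ι fun g _ => hι g
  haveI : Mono c.left := inferInstance
  haveI : Mono c := (Over.forget S).mono_of_mono_map (inferInstanceAs (Mono c.left))
  have hba : b ≫ a = 𝟙 Z := ((hZ Z ι).mp hι).unique (by rw [Category.assoc, ha, hb]) (Category.id_comp _)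
  have hab : a ≫ b = 𝟙 E := by rw [← cancel_mono c, Category.assoc, hb, ha, Category.id_comp]
  haveI : IsIso b.left := ⟨a.left, congrArg CommaMorphism.left hba, congrArg CommaMorphism.left hab⟩
  haveI : IsClosedImmersion ι.left := by rw [← hb, Over.comp_left]; infer_instance
  haveI : LocallyOfFinitePresentation ι.left := by rw [← hb, Over.comp_left]; infer_instance
  haveI : LocallyOfFinitePresentation Z.hom := by rw [← Over.w ι]; infer_instance
  refine ⟨inferInstance, ?_, by rw [← Over.w ι]; infer_instance, by rw [← Over.w ι]; infer_instance⟩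
  rw [HasRingHomProperty.iff_exists_appLE (P := @Smooth)
    (RingHom.Smooth.stableUnderComposition.stableUnderCompositionWithLocalizationAway
      RingHom.Smooth.holdsForLocalizationAway).1]
  intro z
  -- a stable affine neighbourhood
  obtain ⟨_, ⟨V, hV, rfl⟩, hzV, -⟩ := S.isBasis_affineOpens.exists_subset_of_mem_open
    (Set.mem_univ (Z.hom z)) isOpen_univ
  obtain ⟨_, ⟨U, hU, rfl⟩, hzU, hUV⟩ := X.left.isBasis_affineOpens.exists_subset_of_mem_open
    (show ι.left z ∈ X.hom ⁻¹ᵁ V by
      show X.hom (ι.left z) ∈ V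
      rw [← Scheme.Hom.comp_apply, Over.w]
      exact hzV) (X.hom ⁻¹ᵁ V).2
  haveI : ∀ g : G, IsIso (ρ g).hom.left := fun g => ((Over.forget _).mapIso (ρ g)).isIso_hom
  haveI hd : IsAffineHom (pullback.diagonal X.hom) := inferInstance
  have hpre : ∀ g : G, (ρ g).hom.left ⁻¹ᵁ U ≤ X.hom ⁻¹ᵁ V := fun g x hx => by
    show X.hom x ∈ V
    rw [← Over.w (ρ g).hom, Scheme.Hom.comp_apply]
    exact hUV hx
  let W : X.left.Opens := Finset.univ.inf' Finset.univ_nonempty fun g => (ρ g).hom.left ⁻¹ᵁ U
  have hW0 : IsAffineOpen W ∧ W ≤ X.hom ⁻¹ᵁ V :=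
    Finset.inf'_induction (p := fun O => IsAffineOpen O ∧ O ≤ X.hom ⁻¹ᵁ V) _ _
      (fun O₁ h₁ O₂ h₂ => ⟨isAffineHom_diagonal_iff.mp hd V hV O₁ h₁.2 O₂ h₂.2 h₁.1 h₂.1, inf_le_left.trans h₁.2⟩)
      (fun g _ => ⟨hU.preimage (ρ g).hom.left, hpre g⟩)
  obtain ⟨hW, hWV⟩ := hW0
  have hWg : ∀ g : G, W ≤ (ρ g).hom.left ⁻¹ᵁ W := by
    intro g x hx
    show (ρ g).hom.left x ∈ W
    have hx' := hx
    simp only [W, Finset.inf'_eq_inf, TopologicalSpace.Opens.coe_finset_inf, ← SetLike.mem_coe, Finset.inf_set_eq_iInter,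
      Set.mem_iInter] at hx' ⊢
    intro g' _
    have := hx' (g' * g) (Finset.mem_univ _)
    change x ∈ (ρ (g' * g)).hom.left ⁻¹ᵁ U at this
    rw [map_mul] at this
    exact this
  have hzW : ι.left z ∈ W := by
    simp only [W, Finset.inf'_eq_inf, TopologicalSpace.Opens.coe_finset_inf, ← SetLike.mem_coe, Finset.inf_set_eq_iInter,
      Set.mem_iInter]
    intro g _
    show (ρ g).hom.left (ι.left z) ∈ U
    rw [← Scheme.Hom.comp_apply, ← Over.comp_left, hι]
    exact hzU
  have hW' : IsAffineOpen (ι.left ⁻¹ᵁ W) := hW.preimage ι.left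
  have e : ι.left ⁻¹ᵁ W ≤ Z.hom ⁻¹ᵁ V := fun x hx => by
    show Z.hom x ∈ V
    rw [← Over.w ι, Scheme.Hom.comp_apply]
    exact hWV hx
  refine ⟨⟨V, hV⟩, ⟨ι.left ⁻¹ᵁ W, hW'⟩, hzW, e, ?_⟩
  show (Z.hom.appLE V (ι.left ⁻¹ᵁ W) e).hom.Smooth
  set φ := ι.left.app W with hφ
  let act : G → (Γ(X.left, W) ⟶ Γ(X.left, W)) := fun g => (ρ g⁻¹).hom.left.appLE W W (hWg g⁻¹)
  have hone : act 1 = 𝟙 _ := by
    have : (ρ (1 : G)⁻¹).hom.left = 𝟙 X.left := by rw [inv_one, map_one]; rfl
    simp only [act]
    rw [appLE_congr this]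
    simp only [Scheme.Hom.appLE, Scheme.Hom.id_app]
    exact (Category.id_comp _).trans (X.left.presheaf.map_id _)
  have hmulact : ∀ g h, act (g * h) = act h ≫ act g := fun g h => by
    have : (ρ (g * h)⁻¹).hom.left = (ρ g⁻¹).hom.left ≫ (ρ h⁻¹).hom.left := by
      rw [mul_inv_rev, map_mul]; rfl
    simp only [act, Scheme.Hom.appLE_comp_appLE]
    congr 1
  letI : MulSemiringAction G Γ(X.left, W) :=
    { smul := fun g x => act g x
      one_smul := fun x => by show act 1 x = x; rw [hone]; rfl
      mul_smul := fun g h x => by show act (g * h) x = act g (act h x); rw [hmulact]; rfl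
      smul_zero := fun g => map_zero _
      smul_add := fun g => map_add _
      smul_one := fun g => map_one _
      smul_mul := fun g => map_mul _ }
  letI := (X.hom.appLE V W hWV).hom.toAlgebra
  letI := (Z.hom.appLE V (ι.left ⁻¹ᵁ W) e).hom.toAlgebra
  haveI : SMulCommClass G Γ(S, V) Γ(X.left, W) := ⟨fun g r x => by
    show act g (r • x) = r • act g x
    rw [Algebra.smul_def, Algebra.smul_def, map_mul]
    congr 1
    show (X.hom.appLE V W hWV ≫ act g) r = _
    simp only [act, Scheme.Hom.appLE_comp_appLE, Over.w]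
    rfl⟩
  haveI : Algebra.Smooth Γ(S, V) Γ(X.left, W) := RingHom.smooth_algebraMap.mp (X.hom.smooth_appLE hV hW hWV)
  have hcard : IsUnit (Nat.card G : Γ(S, V)) := by
    have := hG.map (S.presheaf.map (homOfLE (show V ≤ ⊤ from le_top)).op).hom
    rwa [map_natCast] at this
  have hFS := Groth.Agent.S16211.result Γ(S, V) Γ(X.left, W) G hcard
  set J : Ideal Γ(X.left, W) := Ideal.span {x | ∃ (g : G) (f : Γ(X.left, W)), x = g • f - f}
  let φa : Γ(X.left, W) →ₐ[Γ(S, V)] Γ(Z.left, ι.left ⁻¹ᵁ W) :=
    { φ.hom with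
      commutes' := fun r => by
        show (X.hom.appLE V W hWV ≫ φ) r = _
        rw [hφ, Scheme.Hom.app_eq_appLE, Scheme.Hom.appLE_comp_appLE]
        simp only [Over.w]
        rfl }
  have hsurj : Function.Surjective φa := ι.left.app_surjective W hW
  have hker : RingHom.ker φa = J := by
    refine le_antisymm ?_ (Ideal.span_le.mpr ?_)
    · -- the universal invariant point
      let mkJ : Γ(X.left, W) ⟶ CommRingCat.of (Γ(X.left, W) ⧸ J) := CommRingCat.ofHom (Ideal.Quotient.mk J)
      let t0 := Spec.map mkJ ≫ hW.fromSpec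
      let T : Over S := Over.mk (t0 ≫ X.hom)
      let t : T ⟶ X := Over.homMk t0 rfl
      have ht : ∀ g : G, t ≫ (ρ g).hom = t := fun g => Over.OverMorphism.ext (by
        show (Spec.map mkJ ≫ hW.fromSpec) ≫ (ρ g).hom.left = Spec.map mkJ ≫ hW.fromSpec
        rw [Category.assoc, ← IsAffineOpen.SpecMap_appLE_fromSpec _ hW hW (hWg g), ← Category.assoc, ← Spec.map_comp]
        congr 2
        ext x
        show Ideal.Quotient.mk J _ = Ideal.Quotient.mk J x
        rw [Ideal.Quotient.eq]
        refine Ideal.subset_span ⟨g⁻¹, x, ?_⟩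
        show _ = act g⁻¹ x - x
        simp only [act]
        rw [appLE_congr (show (ρ g⁻¹⁻¹).hom.left = (ρ g).hom.left by rw [inv_inv])]
        rfl)
      obtain ⟨t', ht', -⟩ := (hZ T t).mp ht
      have hl : t'.left ≫ ι.left = t0 := congrArg CommaMorphism.left ht'
      have hrange : Set.range t'.left ⊆ Set.range hW'.fromSpec := by
        rintro _ ⟨x, rfl⟩
        rw [hW'.range_fromSpec]
        show ι.left (t'.left x) ∈ W
        rw [← Scheme.Hom.comp_apply, hl, Scheme.Hom.comp_apply]
        exact hW.range_fromSpec.subset ⟨_, rfl⟩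
      obtain ⟨ψ, hψ⟩ := Spec.map_surjective (IsOpenImmersion.lift hW'.fromSpec t'.left hrange)
      have h5 : φ ≫ ψ = mkJ := by
        apply Spec.map_injective
        rw [← cancel_mono hW.fromSpec, Spec.map_comp, Category.assoc, hφ, Scheme.Hom.app_eq_appLE,
          IsAffineOpen.SpecMap_appLE_fromSpec _ hW hW', hψ, IsOpenImmersion.lift_fac_assoc]
        exact hl
      intro x hx
      rw [← Ideal.Quotient.eq_zero_iff_mem]
      show mkJ x = 0
      rw [← h5]
      show ψ (φa x) = 0
      rw [RingHom.mem_ker.mp hx, map_zero]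
    · rintro _ ⟨g, f, rfl⟩
      rw [SetLike.mem_coe, RingHom.mem_ker, map_sub, sub_eq_zero]
      show (act g ≫ φ) f = φ f
      simp only [act, hφ, Scheme.Hom.app_eq_appLE, Scheme.Hom.appLE_comp_appLE, ← Over.comp_left, hι]
  haveI : Algebra.FormallySmooth Γ(S, V) Γ(Z.left, ι.left ⁻¹ᵁ W) := by
    haveI := hFS
    exact Algebra.FormallySmooth.of_equiv
      ((Ideal.quotientEquivAlgOfEq _ hker.symm).trans (Ideal.quotientKerAlgEquivOfSurjective hsurj))
  haveI : Algebra.FinitePresentation Γ(S, V) Γ(Z.left, ι.left ⁻¹ᵁ W) :=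
    RingHom.finitePresentation_algebraMap.mp
      (HasRingHomProperty.appLE (P := @LocallyOfFinitePresentation) Z.hom inferInstance ⟨V, hV⟩ ⟨_, hW'⟩ e)
  exact RingHom.smooth_algebraMap.mpr ⟨inferInstance, inferInstance⟩

end Groth.Agent.S16212
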