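import Groth.Statements.S16218
import Groth.Agent.Genus0Family.Moduli
import Mathlib.AlgebraicGeometry.Morphisms.Flat

set_option autoImplicit false
universe u
open CategoryTheory CategoryTheory.Limits AlgebraicGeometry
open Curves

namespace Groth.Agent.S16218
set_option maxHeartbeats 1000000
open Groth.Agent Groth.Agent.Genus0Family


/-- Let k be an algebraically closed field. For the moduli problem of curves of genus 0 over k-schemes
(smooth proper geometrically irreducible morphisms whose geometric fibres are one-dimensional of
genus 0, up to isomorphism over the base), the point M = Spec k with the morphism φ sending each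
family over T to the structure morphism of T satisfies: (b) every morphism ψ from the problem to a
functor of points h_N, both taken on test schemes of finite type over k, factors as φ followed by a
unique k-morphism Spec k → N; and (a) φ is bijective on geometric points: over every algebraically
closed field Ω over k there is a family of genus-0 curves over Spec Ω and any two are isomorphic. In
particular Spec k is a coarse moduli scheme for curves of genus 0 in this sense (universal property
for test schemes of finite type over k), and the family over Spec k in (a) is a tautological family.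
(The published statement asserts the universal property (b) for all k-schemes as test schemes and
for families projective over the base; its proof treats test schemes of finite type over k,
indicating the general case only in outline, so (b) is stated for finite-type test schemes here, and
properness replaces projectivity, which changes nothing in the argument. Since Spec k is terminal
among k-schemes, φ is unique and is quantified existentially.) -/
theorem result
    {k : Type u} [Field k] [IsAlgClosed k] :
    ∃ φ : (ModFun.Mg (Spec (CommRingCat.of k)) 0).Hom ⊤ (Over.mk (𝟙 (Spec (CommRingCat.of k)))),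
      ModFun.IsBestApprox
          (fun T : Over (Spec (CommRingCat.of k)) => LocallyOfFiniteType T.hom ∧ QuasiCompact T.hom)
          (ModFun.Mg (Spec (CommRingCat.of k)) 0) (Over.mk (𝟙 (Spec (CommRingCat.of k)))) (φ.ofLE le_top) ∧
        ModFun.GeomBij (ModFun.Mg (Spec (CommRingCat.of k)) 0) (Over.mk (𝟙 (Spec (CommRingCat.of k)))) φ := by
  let B : Scheme.{u} := Spec (CommRingCat.of k)
  let φ : (ModFun.Mg B 0).Hom ⊤ (Over.mk (𝟙 B)) :=
    { app := fun T _ _ _ => Over.homMk T.hom (Category.comp_id _)
      natural := fun g _ _ _ _ _ => Over.OverMorphism.ext (Over.w g).symm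
      resp := fun _ _ _ _ _ _ => rfl }
  refine ⟨φ, ?_, fun Ω _ _ t _ => ⟨fun g => ?_, fun x y hx hy _ => ?_⟩⟩
  · intro N ψ
    let T₀ : Over B := Over.mk (𝟙 B)
    have hT₀ : LocallyOfFiniteType T₀.hom ∧ QuasiCompact T₀.hom :=
      ⟨(inferInstance : LocallyOfFiniteType (𝟙 B)), (inferInstance : QuasiCompact (𝟙 B))⟩
    let x₀ : (ModFun.Mg B 0).Fam T₀ := Over.mk (CohB1.ProjSpace.toSpec 1 k)
    have hx₀ : (ModFun.Mg B 0).ok T₀ x₀ := ⟨trivial, isCurveOfGenus_line k⟩
    refine ⟨ψ.app T₀ x₀ hT₀ hx₀, fun T x hT hx => ?_, fun f' hf' => ?_⟩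
    · -- pass to the total space, where the family has a section
      obtain ⟨hsm, hpr, hirr, -⟩ := hx.2
      haveI := hsm
      haveI := hpr
      haveI := hirr
      haveI := hT.1
      haveI := hT.2
      let T' : Over B := Over.mk (x.hom ≫ T.hom)
      let g : T' ⟶ T := Over.homMk x.hom rfl
      have hT' : LocallyOfFiniteType T'.hom ∧ QuasiCompact T'.hom :=
        ⟨(inferInstance : LocallyOfFiniteType (x.hom ≫ T.hom)), (inferInstance : QuasiCompact (x.hom ≫ T.hom))⟩
      let x' : (ModFun.Mg B 0).Fam T' := (ModFun.Mg B 0).pull g x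
      have hx' : (ModFun.Mg B 0).ok T' x' :=
        ⟨trivial, isCurveOfGenus_of_isPullback (IsPullback.of_hasPullback x.hom x.hom) hx.2⟩
      haveI : IsLocallyNoetherian x.left :=
        LocallyOfFiniteType.isLocallyNoetherian (x.hom ≫ T.hom)
      haveI : Surjective x.hom := ⟨fun s => by
        haveI : IrreducibleSpace ↥(pullback x.hom (T.left.fromSpecResidueField s)) :=
          GeometricallyIrreducible.geometrically_irreducibleSpace (f := x.hom) _ _ _
            (IsPullback.of_hasPullback _ _)
        obtain ⟨z⟩ : Nonempty ↥(pullback x.hom (T.left.fromSpecResidueField s)) := inferInstance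
        exact ⟨(pullback.fst x.hom (T.left.fromSpecResidueField s)).base z, by
          rw [← Scheme.Hom.comp_apply, pullback.condition, Scheme.Hom.comp_apply]
          exact Scheme.fromSpecResidueField_apply _ _⟩⟩
      haveI : Epi g.left := Flat.epi_of_flat_of_surjective x.hom
      suffices h : ψ.app T' x' hT' hx' = φ.app T' x' trivial hx' ≫ ψ.app T₀ x₀ hT₀ hx₀ by
        refine Over.OverMorphism.ext ((cancel_epi g.left).1 ?_)
        rw [← Over.comp_left, ← Over.comp_left, ← ψ.natural g x hT hT' hx hx']
        exact (congrArg CommaMorphism.left h).trans (congrArg (fun m => m ≫ (ψ.app T₀ x₀ hT₀ hx₀).left) rfl)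
      let σ : x.left ⟶ pullback x.hom x.hom := pullback.lift (𝟙 _) (𝟙 _) rfl
      have hlt : ∀ s : T'.left, ∃ (R : Type u) (_ : CommRing R) (i : Spec (CommRingCat.of R) ⟶ T'.left),
          IsOpenImmersion i ∧ s ∈ Set.range i.base ∧ i ≫ (ψ.app T' x' hT' hx').left =
            i ≫ T'.hom ≫ (ψ.app T₀ x₀ hT₀ hx₀).left := fun s => by
        obtain ⟨R, _, i, hi, hs, e, he⟩ := exists_local_iso (pullback.snd x.hom x.hom)
          (fun K _ _ b => geometric_fibre _ hx'.2 K b) σ (pullback.lift_snd _ _ _) s
        haveI := hi
        let U : Over B := Over.mk (i ≫ T'.hom)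
        let j : U ⟶ T' := Over.homMk i rfl
        let j₀ : U ⟶ T₀ := Over.homMk (i ≫ T'.hom) (Category.comp_id _)
        have hU : LocallyOfFiniteType U.hom ∧ QuasiCompact U.hom := by
          haveI := hT'.1
          refine ⟨(inferInstance : LocallyOfFiniteType (i ≫ T'.hom)), ?_⟩
          haveI : QuasiSeparatedSpace ↥B := inferInstance
          exact QuasiCompact.of_comp (i ≫ T'.hom) (terminal.from B)
        have h1 : (ModFun.Mg B 0).ok U ((ModFun.Mg B 0).pull j x') :=
          ⟨trivial, isCurveOfGenus_of_isPullback (IsPullback.of_hasPullback _ i) hx'.2⟩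
        have h2 : (ModFun.Mg B 0).ok U ((ModFun.Mg B 0).pull j₀ x₀) :=
          ⟨trivial, isCurveOfGenus_of_isPullback (IsPullback.of_hasPullback _ (i ≫ T'.hom)) hx₀.2⟩
        obtain ⟨gP, hgP⟩ := exists_isPullback_projSpace 1 (B := R) (A := k) (i ≫ T'.hom)
        have hr : (ModFun.Mg B 0).r U ((ModFun.Mg B 0).pull j x') ((ModFun.Mg B 0).pull j₀ x₀) :=
          ⟨Over.isoMk (e ≪≫ hgP.isoPullback) (by
            show (e.hom ≫ hgP.isoPullback.hom) ≫ pullback.snd _ _ = pullback.snd _ _
            rw [Category.assoc, IsPullback.isoPullback_hom_snd]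
            exact he)⟩
        have h := ψ.resp _ _ hU h1 h2 hr
        rw [ψ.natural j x' hT' hU hx' h1, ψ.natural j₀ x₀ hT₀ hU hx₀ h2] at h
        exact ⟨R, inferInstance, i, hi, hs, (congrArg CommaMorphism.left h).trans (Category.assoc _ _ _)⟩
      refine Over.OverMorphism.ext ?_
      choose R _ i hi hs hloc using hlt
      refine Scheme.Cover.hom_ext (Scheme.openCoverOfIsOpenCover T'.left (fun s => (i s).opensRange)
        (TopologicalSpace.IsOpenCover.mk (top_le_iff.1 fun s _ =>
          TopologicalSpace.Opens.mem_iSup.2 ⟨s, hs s⟩))) _ _ fun s => ?_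
      haveI := hi s
      show (i s).opensRange.ι ≫ _ = (i s).opensRange.ι ≫ _
      rw [← (i s).isoOpensRange_inv_comp, Category.assoc, Category.assoc, hloc s]
      rfl
    · have h := hf' T₀ x₀ hT₀ hx₀
      refine Eq.trans ?_ h.symm
      exact (Category.id_comp f').symm.trans (congrArg (fun m => m ≫ f') (Over.OverMorphism.ext rfl))
  · haveI : IsIntegral (CohB1.ProjSpace 1 Ω) := H23.PnChart.isIntegral_projSpace 1 Ω
    refine ⟨Over.mk (CohB1.ProjSpace.toSpec 1 Ω), ⟨trivial, isCurveOfGenus_line Ω⟩, ?_⟩
    exact Over.OverMorphism.ext ((Over.w g).symm.trans (Category.comp_id _))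
  · obtain ⟨e, he⟩ := exists_iso_line_of_algClosed _ hx.2
    obtain ⟨e', he'⟩ := exists_iso_line_of_algClosed _ hy.2
    exact ⟨Over.isoMk (e ≪≫ e'.symm) (by
      show (e.hom ≫ e'.inv) ≫ _ = _
      rw [Category.assoc, ← he', Iso.inv_hom_id_assoc]
      exact he)⟩


end Groth.Agent.S16218
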