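import Groth.Statements.S16219
import Groth.Agent.SubalgLim.Basic
-- import your own Groth.Agent.* helpers here

set_option autoImplicit false
universe u
open Lim

namespace Groth.Agent.S16219

open AlgebraicGeometry CategoryTheory in
/-- Let A be a commutative ring, X a scheme of finite type over Spec A (quasi-compact and locally of
finite type), C an A-algebra that is an integral domain and the union of a directed family of
A-subalgebras C_i, and g : Spec C → X an A-morphism. Then for some index i there is an A-morphism
Spec C_i → X whose composite with the morphism Spec C → Spec C_i induced by the inclusion is g. The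
published statement asserts that the map from the colimit of the sets of A-morphisms Spec C_i → X to
the set of A-morphisms Spec C → X is bijective; this row states only that it is surjective
(injectivity holds for every filtered colimit of A-algebras). -/
theorem result
    {ι : Type u} (A C : Type u) [CommRing A] [CommRing C] [Algebra A C] [IsDomain C]
    (S : ι → Subalgebra A C) (hdir : Directed (· ≤ ·) S) (hcov : ∀ c : C, ∃ i, c ∈ S i)
    (X : Scheme.{u}) (f : X ⟶ Spec (CommRingCat.of A))
    [LocallyOfFiniteType f] [QuasiCompact f]
    (g : Spec (CommRingCat.of C) ⟶ X)
    (hg : g ≫ f = Spec.map (CommRingCat.ofHom (algebraMap A C))) :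
    ∃ (i : ι) (g' : Spec (CommRingCat.of (S i)) ⟶ X),
      g' ≫ f = Spec.map (CommRingCat.ofHom (algebraMap A (S i))) ∧
      Spec.map (CommRingCat.ofHom (S i).val.toRingHom) ≫ g' = g := by
  exact Groth.Agent.SubalgLim.exists_hom S f hdir hcov g hg

end Groth.Agent.S16219
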