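import Groth.Statements.S16225
import Mathlib

set_option autoImplicit false
open scoped TensorProduct
universe u v
open CAlg

namespace Groth.Agent.S16225

open TensorProduct

theorem exists_eq {S R : Type u} [CommRing S] [CommRing R] [Algebra S R] [Module.FaithfullyFlat S R] {r : R}
    (h : r ⊗ₜ[S] (1 : R) = (1 : R) ⊗ₜ[S] r) : ∃ s, algebraMap S R s = r := by
  have := Algebra.IsEffective.eqLocus_includeLeft_includeRight (Algebra.IsEffective.of_faithfullyFlat S R)
  exact (Set.ext_iff.1 this r).1 h


/-- Let p be a prime, n a natural number and R → R' a faithfully flat homomorphism of commutative rings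
in which p is nilpotent. Regard W_n(R') and W_n(R' ⊗_R R') as W_n(R)-algebras through the
componentwise maps induced by R → R' and R → R' ⊗_R R', and let ψ₁, ψ₂ : W_n(R') → W_n(R' ⊗_R R') be
the componentwise maps induced by the two inclusions of R' (these are W_n(R)-algebra maps). Then for
every flat W_n(R)-module M the sequence 0 → M → M ⊗_{W_n(R)} W_n(R') ⇉ M ⊗_{W_n(R)} W_n(R' ⊗_R R')
is exact: m ↦ m ⊗ 1 is injective and its image is the equalizer of id ⊗ ψ₁ and id ⊗ ψ₂. (This is the
beginning, in degrees 0 and 1, of a complex continued by the higher tensor powers of R', which the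
published proof asserts to be exact throughout; W_n(R) → W_n(R') is not flat in general, so this is
not faithfully flat descent.) -/
theorem result (p : ℕ) [Fact p.Prime] (n : ℕ)
    (R R' : Type u) [CommRing R] [CommRing R'] [Algebra R R'] [Module.FaithfullyFlat R R']
    (hp : IsNilpotent (p : R))
    [Algebra (TruncatedWittVector p n R) (TruncatedWittVector p n R')]
    (h₁ : algebraMap (TruncatedWittVector p n R) (TruncatedWittVector p n R') = WittGrp.truncMap p n (algebraMap R R'))
    [Algebra (TruncatedWittVector p n R) (TruncatedWittVector p n (TensorProduct R R' R'))]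
    (h₂ : algebraMap (TruncatedWittVector p n R) (TruncatedWittVector p n (TensorProduct R R' R')) =
      WittGrp.truncMap p n (algebraMap R (TensorProduct R R' R')))
    (ψ₁ ψ₂ : TruncatedWittVector p n R' →ₐ[TruncatedWittVector p n R] TruncatedWittVector p n (TensorProduct R R' R'))
    (hψ₁ : (ψ₁ : TruncatedWittVector p n R' →+* TruncatedWittVector p n (TensorProduct R R' R')) =
      WittGrp.truncMap p n (Algebra.TensorProduct.includeLeftRingHom : R' →+* TensorProduct R R' R'))
    (hψ₂ : (ψ₂ : TruncatedWittVector p n R' →+* TruncatedWittVector p n (TensorProduct R R' R')) =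
      WittGrp.truncMap p n ((Algebra.TensorProduct.includeRight : R' →ₐ[R] TensorProduct R R' R') : R' →+* TensorProduct R R' R'))
    (M : Type v) [AddCommGroup M] [Module (TruncatedWittVector p n R) M] [Module.Flat (TruncatedWittVector p n R) M] :
    Function.Injective (fun m : M => m ⊗ₜ[TruncatedWittVector p n R] (1 : TruncatedWittVector p n R')) ∧
      ∀ x : M ⊗[TruncatedWittVector p n R] TruncatedWittVector p n R',
        LinearMap.lTensor M ψ₁.toLinearMap x = LinearMap.lTensor M ψ₂.toLinearMap x →
          x ∈ Set.range (fun m : M => m ⊗ₜ[TruncatedWittVector p n R] (1 : TruncatedWittVector p n R')) := by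
  let W := TruncatedWittVector p n R
  have hinj : Function.Injective (algebraMap R R') := FaithfulSMul.algebraMap_injective R R'
  have hc : ∀ {A B : Type u} [CommRing A] [CommRing B] (f : A →+* B) (x : TruncatedWittVector p n A) (i : Fin n),
      (WittGrp.truncMap p n f x).coeff i = f (x.coeff i) := by
    intros; exact TruncatedWittVector.coeff_mk _ _
  have ha : Function.Injective (Algebra.linearMap W (TruncatedWittVector p n R')) := by
    intro v w h
    refine TruncatedWittVector.ext fun i => hinj ?_
    rw [← hc, ← hc, ← h₁]
    exact congrArg (fun z : TruncatedWittVector p n R' => z.coeff i) h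
  have hex : Function.Exact (Algebra.linearMap W (TruncatedWittVector p n R')) (ψ₁.toLinearMap - ψ₂.toLinearMap) := by
    intro t
    constructor
    · intro ht
      have h : ψ₁ t = ψ₂ t := sub_eq_zero.1 ht
      have h' : WittGrp.truncMap p n (Algebra.TensorProduct.includeLeftRingHom : R' →+* TensorProduct R R' R') t =
          WittGrp.truncMap p n ((Algebra.TensorProduct.includeRight : R' →ₐ[R] TensorProduct R R' R') : R' →+* TensorProduct R R' R') t := by
        rw [← hψ₁, ← hψ₂]; exact h
      have : ∀ i, ∃ s, algebraMap R R' s = t.coeff i := fun i => by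
        refine exists_eq ?_
        have hi := congrArg (fun z : TruncatedWittVector p n (TensorProduct R R' R') => z.coeff i) h'
        simp only [hc] at hi
        exact hi
      choose s hs using this
      refine ⟨TruncatedWittVector.mk p s, ?_⟩
      rw [Algebra.linearMap_apply, h₁]
      exact TruncatedWittVector.ext fun i => by rw [hc, TruncatedWittVector.coeff_mk, hs]
    · rintro ⟨w, rfl⟩
      rw [LinearMap.sub_apply, sub_eq_zero, Algebra.linearMap_apply, AlgHom.toLinearMap_apply,
        AlgHom.toLinearMap_apply, AlgHom.commutes, AlgHom.commutes]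
  have hι : ∀ m : M, m ⊗ₜ[W] (1 : TruncatedWittVector p n R') =
      (Algebra.linearMap W (TruncatedWittVector p n R')).lTensor M ((TensorProduct.rid W M).symm m) := by
    intro m
    rw [TensorProduct.rid_symm_apply, LinearMap.lTensor_tmul, Algebra.linearMap_apply, map_one]
  refine ⟨fun x y hxy => (TensorProduct.rid W M).symm.injective
    (Module.Flat.lTensor_preserves_injective_linearMap _ ha (by rw [← hι, ← hι]; exact hxy)), fun x hx => ?_⟩
  obtain ⟨w, hw⟩ := (Module.Flat.lTensor_exact M hex x).1 (by
    rw [LinearMap.lTensor_sub, LinearMap.sub_apply, hx, sub_self])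
  obtain ⟨m, rfl⟩ := (TensorProduct.rid W M).symm.surjective w
  exact ⟨m, (hι m).trans hw⟩

end Groth.Agent.S16225
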