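import Mathlib
import Groth.Agent.DescLib.ModDesc.Eval
import Groth.Agent.S16225
import Groth.Statements.S16223
-- import your own Groth.Agent.* helpers here

set_option autoImplicit false
open CategoryTheory Opposite
open scoped TensorProduct
universe u
open CAlg

set_option backward.isDefEq.respectTransparency false
set_option backward.isDefEq.respectTransparency.types false

noncomputable section

namespace Groth.Agent.S16223

section helpers

open Opposite Groth.Agent.DescLib.ModDesc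

abbrev op' {A B : CommRingCat.{u}} (a : A ⟶ B) : op B ⟶ op A := a.op

section Comp

lemma comp_mapComp' {C D : Type*} [Category C] [Category D] (F : C ⥤ D)
    (G : Pseudofunctor (LocallyDiscrete D) Cat.{u, u + 1}) {X Y Z : C} (f : X ⟶ Y) (g : Y ⟶ Z) {h : X ⟶ Z}
    (e : f ≫ g = h) :
    (F.toPseudofunctor.comp G).mapComp' f.toLoc g.toLoc h.toLoc (by subst e; rfl) =
      G.mapComp' (F.map f).toLoc (F.map g).toLoc (F.map h).toLoc (by subst e; simp) := by
  subst e
  simp [Pseudofunctor.mapComp', Pseudofunctor.comp, Functor.toPseudofunctor]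
  refine (Iso.refl_trans _).trans ?_
  rfl

def extApp {A B C : CommRingCat.{u}} (a : A ⟶ B) (b : B ⟶ C) (c : A ⟶ C)
    (e : a.toLoc ≫ b.toLoc = c.toLoc) (M : ModuleCat.{u} A) :
    (ES (op' c)).obj M ⟶ (ES (op' b)).obj ((ES (op' a)).obj M) :=
  (CommRingCat.moduleCatExtendScalarsPseudofunctor.{u}.mapComp' a.toLoc b.toLoc c.toLoc e).hom.toNatTrans.app M

lemma mapComp'_one {A B C : CommRingCat.{u}} (a : A ⟶ B) (b : B ⟶ C) (c : A ⟶ C)
    (e : a.toLoc ≫ b.toLoc = c.toLoc) (M : ModuleCat.{u} A) (m : M) :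
    extApp a b c e M (one (op' c) M m) = one (op' b) _ (one (op' a) M m) := by
  have e' : a ≫ b = c := congrArg Discrete.as e
  subst e'
  simp [extApp, Pseudofunctor.mapComp']
  exact ModuleCat.extendScalarsComp_hom_app_one_tmul a.hom b.hom M m

lemma map_toLoc {C D : Type*} [Category C] [Category D] (F : C ⥤ D) {X Y Z : C} (f : X ⟶ Y) (g : Y ⟶ Z)
    {h : X ⟶ Z} (e : f ≫ g = h) : (F.map f).toLoc ≫ (F.map g).toLoc = (F.map h).toLoc := by
  subst e; simp

def compApp {C D : Type*} [Category C] [Category D] (F : C ⥤ D)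
    (G : Pseudofunctor (LocallyDiscrete D) Cat.{u, u + 1}) {X Y Z : C} (f : X ⟶ Y) (g : Y ⟶ Z) {h : X ⟶ Z}
    (e : f ≫ g = h) (M : G.obj ⟨F.obj X⟩) :
    (G.map (F.map h).toLoc).toFunctor.obj M ⟶
      (G.map (F.map g).toLoc).toFunctor.obj ((G.map (F.map f).toLoc).toFunctor.obj M) :=
  ((F.toPseudofunctor.comp G).mapComp' f.toLoc g.toLoc h.toLoc (by subst e; rfl)).hom.toNatTrans.app M

def compAppInv {C D : Type*} [Category C] [Category D] (F : C ⥤ D)
    (G : Pseudofunctor (LocallyDiscrete D) Cat.{u, u + 1}) {X Y Z : C} (f : X ⟶ Y) (g : Y ⟶ Z) {h : X ⟶ Z}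
    (e : f ≫ g = h) (M : G.obj ⟨F.obj X⟩) :
    (G.map (F.map g).toLoc).toFunctor.obj ((G.map (F.map f).toLoc).toFunctor.obj M) ⟶
      (G.map (F.map h).toLoc).toFunctor.obj M :=
  ((F.toPseudofunctor.comp G).mapComp' f.toLoc g.toLoc h.toLoc (by subst e; rfl)).inv.toNatTrans.app M

lemma compApp_inv {C D : Type*} [Category C] [Category D] (F : C ⥤ D)
    (G : Pseudofunctor (LocallyDiscrete D) Cat.{u, u + 1}) {X Y Z : C} (f : X ⟶ Y) (g : Y ⟶ Z) {h : X ⟶ Z}
    (e : f ≫ g = h) (M : G.obj ⟨F.obj X⟩) :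
    compApp F G f g e M ≫ compAppInv F G f g e M = 𝟙 _ := Cat.Hom.hom_inv_id_toNatTrans_app _ _

lemma compApp_eq {C D : Type*} [Category C] [Category D] (F : C ⥤ D)
    (G : Pseudofunctor (LocallyDiscrete D) Cat.{u, u + 1}) {X Y Z : C} (f : X ⟶ Y) (g : Y ⟶ Z) {h : X ⟶ Z}
    (e : f ≫ g = h) (M : G.obj ⟨F.obj X⟩) :
    compApp F G f g e M = (G.mapComp' (F.map f).toLoc (F.map g).toLoc (F.map h).toLoc
      (map_toLoc F f g e)).hom.toNatTrans.app M :=
  congrArg (fun i => i.hom.toNatTrans.app M) (comp_mapComp' F G f g e)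

end Comp

lemma app_inv {R : Type u} [Ring R] {A B : ModuleCat.{u} R} {i : A ⟶ B} {j : B ⟶ A} (h : i ≫ j = 𝟙 A)
    {x : A} {y : B} (hy : i x = y) : j y = x := by
  subst hy
  rw [← CategoryTheory.comp_apply, h]
  rfl

lemma eval_comm {R : Type u} [Ring R] {A A' Q Q' D D' : ModuleCat.{u} R} {a : A ⟶ A'} {i₁ : A' ⟶ Q'}
    {j₂ : Q' ⟶ D'} {i₁' : A ⟶ Q} {j₂' : Q ⟶ D} {v : D ⟶ D'} {i₂ : D' ⟶ Q'}
    (hc : a ≫ (i₁ ≫ j₂) = (i₁' ≫ j₂') ≫ v) (hji : j₂ ≫ i₂ = 𝟙 Q')
    {x : A} {y : Q} {z : D} {w : A'} {w' : D'} (h1 : i₁' x = y) (h2 : j₂' y = z) (h3 : a x = w) (h4 : v z = w') :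
    i₂ w' = i₁ w := by
  refine app_inv hji ?_
  have := congrArg (fun l : A ⟶ D' => l x) hc
  simp only [CategoryTheory.comp_apply] at this
  rwa [h1, h2, h3, h4] at this

lemma es_map_one {X Y : CommRingCat.{u}ᵒᵖ} {f : Y ⟶ X} {M M' : ModuleCat.{u} X.unop} (a : M ⟶ M') (m : M) :
    (ES f).map a (one f M m) = one f M' (a m) := es_map_tm a 1 m

section Gen

variable {C : Type*} [Category C] (F : C ⥤ CommRingCat.{u}) {X Y Z : C} (f : X ⟶ Y) (g : Y ⟶ Z) {h : X ⟶ Z}

def genHom (e : f ≫ g = h) (M : ModuleCat.{u} (F.obj X)) :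
    (ES (op' (F.map h))).obj M ⟶ (ES (op' (F.map g))).obj ((ES (op' (F.map f))).obj M) :=
  compApp F CommRingCat.moduleCatExtendScalarsPseudofunctor.{u} f g e M

def genInv (e : f ≫ g = h) (M : ModuleCat.{u} (F.obj X)) :
    (ES (op' (F.map g))).obj ((ES (op' (F.map f))).obj M) ⟶ (ES (op' (F.map h))).obj M :=
  compAppInv F CommRingCat.moduleCatExtendScalarsPseudofunctor.{u} f g e M

lemma genHom_genInv (e : f ≫ g = h) (M : ModuleCat.{u} (F.obj X)) :
    genHom F f g e M ≫ genInv F f g e M = 𝟙 _ :=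
  compApp_inv F CommRingCat.moduleCatExtendScalarsPseudofunctor.{u} f g e M

lemma gen_one (e : f ≫ g = h) (M : ModuleCat.{u} (F.obj X)) (m : M) :
    genHom F f g e M (one (op' (F.map h)) M m) = one (op' (F.map g)) _ (one (op' (F.map f)) M m) := by
  have h1 : genHom F f g e M = extApp (F.map f) (F.map g) (F.map h) (map_toLoc F f g e) M :=
    compApp_eq F CommRingCat.moduleCatExtendScalarsPseudofunctor.{u} f g e M
  exact (congrArg (fun k : (ES (op' (F.map h))).obj M ⟶ (ES (op' (F.map g))).obj ((ES (op' (F.map f))).obj M) =>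
    k (one (op' (F.map h)) M m)) h1).trans
      (mapComp'_one (F.map f) (F.map g) (F.map h) (map_toLoc F f g e) M m)

lemma genInv_one (e : f ≫ g = h) (M : ModuleCat.{u} (F.obj X)) (m : M) :
    genInv F f g e M (one (op' (F.map g)) _ (one (op' (F.map f)) M m)) = one (op' (F.map h)) M m := by
  exact app_inv (genHom_genInv F f g e M) (gen_one F f g e M m)

lemma genInv_one_tm (e : f ≫ g = h) (M : ModuleCat.{u} (F.obj X)) (y : F.obj Y) (m : M) :
    genInv F f g e M (one (op' (F.map g)) _ (tm (op' (F.map f)) M y m)) =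
      tm (op' (F.map h)) M ((op' (F.map g)).unop y) m := by
  rw [tm_eq (op' (F.map f)) M y m, one_smul', map_smul, genInv_one, tm_eq (op' (F.map h)) M]

lemma descended {X Y Z : C} (p : X ⟶ Y) (f₁ f₂ : Y ⟶ Z) {q : X ⟶ Z} (e₁ : p ≫ f₁ = q) (e₂ : p ≫ f₂ = q)
    (M N : ModuleCat.{u} (F.obj X)) (k : (ES (op' (F.map p))).obj M ⟶ (ES (op' (F.map p))).obj N)
    (hc : (ES (op' (F.map f₁))).map k ≫ (genInv F p f₁ e₁ N ≫ genHom F p f₂ e₂ N) =
      (genInv F p f₁ e₁ M ≫ genHom F p f₂ e₂ M) ≫ (ES (op' (F.map f₂))).map k)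
    (Λ₁ Λ₂ : (ES (op' (F.map p))).obj N →+ (ES (op' (F.map q))).obj N)
    (hΛ₁ : ∀ y n, Λ₁ (tm (op' (F.map p)) N y n) = tm (op' (F.map q)) N ((op' (F.map f₁)).unop y) n)
    (hΛ₂ : ∀ y n, Λ₂ (tm (op' (F.map p)) N y n) = tm (op' (F.map q)) N ((op' (F.map f₂)).unop y) n)
    (hone : Function.Injective (one (op' (F.map p)) N))
    (heq : ∀ z, Λ₁ z = Λ₂ z → ∃ x, one (op' (F.map p)) N x = z) :
    ∃ g : M ⟶ N, (ES (op' (F.map p))).map g = k := by
  have hL : ∀ (f : Y ⟶ Z) (e : p ≫ f = q) (Λ : (ES (op' (F.map p))).obj N →+ (ES (op' (F.map q))).obj N),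
      (∀ y n, Λ (tm (op' (F.map p)) N y n) = tm (op' (F.map q)) N ((op' (F.map f)).unop y) n) →
      ∀ z, genInv F p f e N (one (op' (F.map f)) _ z) = Λ z := by
    intro f e Λ hΛ z
    induction z using es_induction with
    | h0 => rw [one_zero, map_zero, map_zero]
    | h1 y n => rw [genInv_one_tm, hΛ]
    | h2 a b ha hb => rw [one_add, map_add, map_add, ha, hb]
  have key : ∀ m : M, ∃ x : N, one (op' (F.map p)) N x = k (one (op' (F.map p)) M m) := by
    intro m
    refine heq _ ?_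
    have hev := eval_comm hc (genHom_genInv F p f₂ e₂ N)
      (genInv_one F p f₁ e₁ M m) (gen_one F p f₂ e₂ M m)
      (es_map_one (f := op' (F.map f₁)) k (one (op' (F.map p)) M m))
      (es_map_one (f := op' (F.map f₂)) k (one (op' (F.map p)) M m))
    exact (hL f₁ e₁ Λ₁ hΛ₁ (k (one (op' (F.map p)) M m))).symm.trans
      (hev.symm.trans (hL f₂ e₂ Λ₂ hΛ₂ (k (one (op' (F.map p)) M m))))
  choose a ha using key
  let g : M ⟶ N := ModuleCat.ofHom
    { toFun := a
      map_add' := fun x y => hone (by rw [ha, one_add, map_add, one_add, ha, ha])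
      map_smul' := fun r x => hone (by
        rw [RingHom.id_apply, ha, one_smul' (op' (F.map p)) M r x, map_smul,
          one_smul' (op' (F.map p)) N r (a x), ha]) }
  refine ⟨g, es_hom_ext fun x => ?_⟩
  rw [es_map_one]
  exact ha x

lemma comm_genG {C : Type*} [Category C] {D : Type*} [Category D] (F : Cᵒᵖ ⥤ D)
    (G : Pseudofunctor (LocallyDiscrete D) Cat.{u, u + 1}) {X Y Z : C} (p : Y ⟶ X) (f₁ f₂ : Z ⟶ Y)
    {q : Z ⟶ X} (e₁ : f₁ ≫ p = q) (e₂ : f₂ ≫ p = q) (M N : G.obj ⟨F.obj (op X)⟩)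
    (φ : ((F.toPseudofunctor.comp G).toDescentData (fun _ : PUnit.{u + 1} => p)).obj M ⟶
      ((F.toPseudofunctor.comp G).toDescentData (fun _ : PUnit.{u + 1} => p)).obj N) :
    let k : (G.map (F.map p.op).toLoc).toFunctor.obj M ⟶ (G.map (F.map p.op).toLoc).toFunctor.obj N :=
      φ.hom PUnit.unit
    (G.map (F.map f₁.op).toLoc).toFunctor.map k ≫
      (compAppInv F G p.op f₁.op (congrArg Quiver.Hom.op e₁) N ≫ compApp F G p.op f₂.op (congrArg Quiver.Hom.op e₂) N) =
    (compAppInv F G p.op f₁.op (congrArg Quiver.Hom.op e₁) M ≫ compApp F G p.op f₂.op (congrArg Quiver.Hom.op e₂) M) ≫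
      (G.map (F.map f₂.op).toLoc).toFunctor.map k :=
  φ.comm q (i₁ := PUnit.unit) (i₂ := PUnit.unit) f₁ f₂ e₁ e₂

lemma comm_gen {C : Type*} [Category C] (F : Cᵒᵖ ⥤ CommRingCat.{u}) {X Y Z : C} (p : Y ⟶ X) (f₁ f₂ : Z ⟶ Y)
    {q : Z ⟶ X} (e₁ : f₁ ≫ p = q) (e₂ : f₂ ≫ p = q) (M N : ModuleCat.{u} (F.obj (op X)))
    (φ : ((F.toPseudofunctor.comp CommRingCat.moduleCatExtendScalarsPseudofunctor.{u}).toDescentData
        (fun _ : PUnit.{u + 1} => p)).obj M ⟶
      ((F.toPseudofunctor.comp CommRingCat.moduleCatExtendScalarsPseudofunctor.{u}).toDescentData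
        (fun _ : PUnit.{u + 1} => p)).obj N)
    (k : (ES (op' (F.map p.op))).obj M ⟶ (ES (op' (F.map p.op))).obj N) (hk : k = φ.hom PUnit.unit) :
    (ES (op' (F.map f₁.op))).map k ≫
      (genInv F p.op f₁.op (congrArg Quiver.Hom.op e₁) N ≫ genHom F p.op f₂.op (congrArg Quiver.Hom.op e₂) N) =
    (genInv F p.op f₁.op (congrArg Quiver.Hom.op e₁) M ≫ genHom F p.op f₂.op (congrArg Quiver.Hom.op e₂) M) ≫
      (ES (op' (F.map f₂.op))).map k := by
  subst hk
  exact comm_genG F CommRingCat.moduleCatExtendScalarsPseudofunctor.{u} p f₁ f₂ e₁ e₂ M N φ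

end Gen

abbrev FF (p : ℕ) [Fact p.Prime] (n : ℕ) : (CommRingCat.{u}ᵒᵖ)ᵒᵖ ⥤ CommRingCat.{u} :=
  unopUnop CommRingCat.{u} ⋙ W4c3truncdispsmooth.wittTrunc.{u} p n

end helpers

/-- Let p be a prime, n a natural number, and R → R' a faithfully flat homomorphism of commutative rings
in which p is nilpotent; write W_n for truncated Witt vectors of length n. A descent datum of
W_n(R')-modules relative to R → R' is a W_n(R')-module M' with, for every ring T and every pair of
maps R' ⇉ T agreeing on R, an isomorphism between the two base changes of M' to W_n(T), natural in T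
and satisfying the cocycle condition (equivalently an isomorphism over W_n(R' ⊗_R R') with the
cocycle condition over W_n(R' ⊗_R R' ⊗_R R')); base change W_n(R') ⊗_{W_n(R)} M of a W_n(R)-module M
carries the canonical such datum. Then for finitely generated projective W_n(R)-modules M and N, the
map sending a W_n(R)-linear map M → N to the induced morphism of canonical descent data is bijective
(the functor to descent data is fully faithful on such modules). -/
theorem result (p : ℕ) [Fact p.Prime] (n : ℕ)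
    (R R' : Type u) [CommRing R] [CommRing R'] [Algebra R R'] [Module.FaithfullyFlat R R']
    (hp : IsNilpotent (p : R))
    (M N : ModuleCat.{u} (TruncatedWittVector p n R))
    [Module.Finite (TruncatedWittVector p n R) M] [Module.Projective (TruncatedWittVector p n R) M]
    [Module.Finite (TruncatedWittVector p n R) N] [Module.Projective (TruncatedWittVector p n R) N] :
    Function.Bijective (fun φ : M ⟶ N =>
      ((W4c3truncdispsmooth.wittModPF.{u} p n).toDescentData (fun _ : PUnit.{u + 1} => (CommRingCat.ofHom (algebraMap R R')).op)).map φ) := by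
  letI aW : Algebra (TruncatedWittVector p n R) (TruncatedWittVector p n R') :=
    (WittGrp.truncMap p n (algebraMap R R')).toAlgebra
  letI aW2 : Algebra (TruncatedWittVector p n R) (TruncatedWittVector p n (R' ⊗[R] R')) :=
    (WittGrp.truncMap p n (algebraMap R (R' ⊗[R] R'))).toAlgebra
  set iL : R' →+* R' ⊗[R] R' := Algebra.TensorProduct.includeLeftRingHom
  set iR : R' →+* R' ⊗[R] R' := ((Algebra.TensorProduct.includeRight : R' →ₐ[R] R' ⊗[R] R') : R' →+* R' ⊗[R] R')
  have hiL : iL.comp (algebraMap R R') = algebraMap R (R' ⊗[R] R') := rfl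
  have hiR : iR.comp (algebraMap R R') = algebraMap R (R' ⊗[R] R') := AlgHom.comp_algebraMap _
  let ψ₁ : TruncatedWittVector p n R' →ₐ[TruncatedWittVector p n R] TruncatedWittVector p n (R' ⊗[R] R') :=
    { WittGrp.truncMap p n iL with
      commutes' := fun r => by
        change (WittGrp.truncMap p n iL).comp (WittGrp.truncMap p n (algebraMap R R')) r = _
        rw [← WittGrp.truncMap_comp, hiL]
        rfl }
  let ψ₂ : TruncatedWittVector p n R' →ₐ[TruncatedWittVector p n R] TruncatedWittVector p n (R' ⊗[R] R') :=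
    { WittGrp.truncMap p n iR with
      commutes' := fun r => by
        change (WittGrp.truncMap p n iR).comp (WittGrp.truncMap p n (algebraMap R R')) r = _
        rw [← WittGrp.truncMap_comp, hiR]
        rfl }
  obtain ⟨hinj, heq⟩ := Groth.Agent.S16225.result p n R R' hp rfl rfl ψ₁ ψ₂ rfl rfl N
  let P : op (CommRingCat.of R') ⟶ op (CommRingCat.of R) := (CommRingCat.ofHom (algebraMap R R')).op
  let F₁ : op (CommRingCat.of (R' ⊗[R] R')) ⟶ op (CommRingCat.of R') := (CommRingCat.ofHom iL).op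
  let F₂ : op (CommRingCat.of (R' ⊗[R] R')) ⟶ op (CommRingCat.of R') := (CommRingCat.ofHom iR).op
  let Q : op (CommRingCat.of (R' ⊗[R] R')) ⟶ op (CommRingCat.of R) :=
    (CommRingCat.ofHom (algebraMap R (R' ⊗[R] R'))).op
  have e₁ : F₁ ≫ P = Q := Quiver.Hom.unop_inj (CommRingCat.hom_ext hiL)
  have e₂ : F₂ ≫ P = Q := Quiver.Hom.unop_inj (CommRingCat.hom_ext hiR)
  let toC : (Groth.Agent.DescLib.ModDesc.ES (op' ((FF p n).map P.op))).obj N →+ N ⊗[TruncatedWittVector p n R] TruncatedWittVector p n R' :=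
    (TensorProduct.comm (TruncatedWittVector p n R) (TruncatedWittVector p n R') N).toLinearMap.toAddMonoidHom
  let toC2 : (Groth.Agent.DescLib.ModDesc.ES (op' ((FF p n).map Q.op))).obj N →+ N ⊗[TruncatedWittVector p n R] TruncatedWittVector p n (R' ⊗[R] R') :=
    (TensorProduct.comm (TruncatedWittVector p n R) (TruncatedWittVector p n (R' ⊗[R] R')) N).toLinearMap.toAddMonoidHom
  have htoC : Function.Injective toC :=
    (TensorProduct.comm (TruncatedWittVector p n R) (TruncatedWittVector p n R') N).injective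
  have hone : Function.Injective (Groth.Agent.DescLib.ModDesc.one (op' ((FF p n).map P.op)) N) := fun a b hab =>
    hinj (congrArg toC hab)
  constructor
  · intro a b hab
    refine ModuleCat.hom_ext (LinearMap.ext fun m => hone ?_)
    have h' := congrArg (fun φ => φ.hom PUnit.unit) hab
    exact congrArg (fun k : (Groth.Agent.DescLib.ModDesc.ES (op' ((FF p n).map P.op))).obj M ⟶
      (Groth.Agent.DescLib.ModDesc.ES (op' ((FF p n).map P.op))).obj N => k (Groth.Agent.DescLib.ModDesc.one (op' ((FF p n).map P.op)) M m)) h'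
  · intro φ
    let h : (Groth.Agent.DescLib.ModDesc.ES (op' ((FF p n).map P.op))).obj M ⟶ (Groth.Agent.DescLib.ModDesc.ES (op' ((FF p n).map P.op))).obj N :=
      φ.hom PUnit.unit
    have hcomm : (Groth.Agent.DescLib.ModDesc.ES (op' ((FF p n).map F₁.op))).map h ≫
        (genInv (FF p n) P.op F₁.op (congrArg Quiver.Hom.op e₁) N ≫ genHom (FF p n) P.op F₂.op (congrArg Quiver.Hom.op e₂) N) =
        (genInv (FF p n) P.op F₁.op (congrArg Quiver.Hom.op e₁) M ≫ genHom (FF p n) P.op F₂.op (congrArg Quiver.Hom.op e₂) M) ≫ (Groth.Agent.DescLib.ModDesc.ES (op' ((FF p n).map F₂.op))).map h :=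
      comm_gen (FF p n) P F₁ F₂ e₁ e₂ M N φ h rfl
    let Λ : (TruncatedWittVector p n R' →ₐ[TruncatedWittVector p n R] TruncatedWittVector p n (R' ⊗[R] R')) →
        ((Groth.Agent.DescLib.ModDesc.ES (op' ((FF p n).map P.op))).obj N →+
          (Groth.Agent.DescLib.ModDesc.ES (op' ((FF p n).map Q.op))).obj N) := fun ψ =>
      (((TensorProduct.comm (TruncatedWittVector p n R) (TruncatedWittVector p n (R' ⊗[R] R')) N).symm.toLinearMap ∘ₗ
        LinearMap.lTensor N ψ.toLinearMap).toAddMonoidHom).comp toC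
    obtain ⟨g, hg⟩ := descended (FF p n) P.op F₁.op F₂.op (congrArg Quiver.Hom.op e₁) (congrArg Quiver.Hom.op e₂)
      M N h hcomm (Λ ψ₁) (Λ ψ₂) (fun _ _ => rfl) (fun _ _ => rfl) hone (fun z hz => by
        obtain ⟨x, hx⟩ := heq (toC z)
          ((TensorProduct.comm (TruncatedWittVector p n R) (TruncatedWittVector p n (R' ⊗[R] R')) N).symm.injective hz)
        exact ⟨x, htoC hx⟩)
    refine ⟨g, ?_⟩
    refine Pseudofunctor.DescentData.hom_ext fun i => ?_
    cases i
    exact hg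

end Groth.Agent.S16223
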