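import Groth.Agent.WittModDesc.Assemble
import Groth.Agent.WittModDesc.Descend
import Groth.Prelude.Def_W4c3truncdispsmoothDesc
import Groth.Statements.S16224
-- import your own Groth.Agent.* helpers here

set_option autoImplicit false
open CategoryTheory Opposite
universe u
open CAlg

set_option backward.isDefEq.respectTransparency false
set_option backward.isDefEq.respectTransparency.types false

namespace Groth.Agent.S16224

section helpers

open CategoryTheory Opposite
open scoped TensorProduct
open Groth.Agent.DescLib.ModDesc (ES tm one es_induction liftAdd tm_eq tm_add_right tm_add_left tm_smul smul_tm)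

variable {A B : CommRingCat.{u}ᵒᵖ}

lemma projective_es (f : B ⟶ A) (M : ModuleCat.{u} A.unop) [Module.Projective A.unop M] :
    Module.Projective B.unop ((ES f).obj M) := by
  letI := f.unop.hom.toAlgebra
  exact inferInstanceAs (Module.Projective B.unop (B.unop ⊗[A.unop] M))

lemma exists_iso (f : B ⟶ A) (Q : ModuleCat.{u} A.unop) (M : ModuleCat.{u} B.unop) [Algebra A.unop B.unop]
    (halg : ∀ a, algebraMap A.unop B.unop a = f.unop a) [Module A.unop M] [IsScalarTower A.unop B.unop M]
    (κ : Q →ₗ[A.unop] M) (hκ : Function.Bijective (LinearMap.liftBaseChange B.unop κ)) :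
    ∃ eh : (ES f).obj Q ⟶ M, IsIso eh ∧ ∀ x, eh (one f Q x) = κ x := by
  let c : (ES f).obj Q →+ B.unop ⊗[A.unop] Q :=
    liftAdd (AddMonoidHom.mk' (fun y => AddMonoidHom.mk' (fun x : Q => y ⊗ₜ[A.unop] x) (TensorProduct.tmul_add y))
        fun y y' => AddMonoidHom.ext fun x => TensorProduct.add_tmul y y' x)
      fun a y x => by
        show (f.unop a * y) ⊗ₜ[A.unop] x = y ⊗ₜ[A.unop] (a • x)
        rw [← halg, ← Algebra.smul_def, TensorProduct.smul_tmul]
  let c' : B.unop ⊗[A.unop] Q →+ (ES f).obj Q :=
    TensorProduct.liftAddHom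
      (AddMonoidHom.mk' (fun y => AddMonoidHom.mk' (fun x : Q => tm f Q y x) fun x x' => tm_add_right f Q y x x')
        fun y y' => AddMonoidHom.ext fun x => tm_add_left f Q y y' x)
      fun a y x => by
        show tm f Q (a • y) x = tm f Q y (a • x)
        rw [tm_smul, Algebra.smul_def, halg]
  have hc : Function.Bijective c :=
    ⟨Function.LeftInverse.injective (g := c') fun z => by
        induction z using es_induction with
        | h0 => rw [map_zero, map_zero]
        | h1 y m => rfl
        | h2 a b ha hb => rw [map_add, map_add, ha, hb],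
      Function.RightInverse.surjective (g := c') fun z => by
        induction z using TensorProduct.induction_on with
        | zero => rw [map_zero, map_zero]
        | tmul y m => rfl
        | add a b ha hb => rw [map_add, map_add, ha, hb]⟩
  have hcs : ∀ (b : B.unop) z, c (b • z) = b • c z := fun b z => by
    induction z using es_induction with
    | h0 => rw [smul_zero, map_zero, smul_zero]
    | h1 y m =>
      rw [smul_tm]
      show (b * y) ⊗ₜ[A.unop] m = b • (y ⊗ₜ[A.unop] m)
      rw [TensorProduct.smul_tmul', smul_eq_mul]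
    | h2 x y hx hy => rw [smul_add, map_add, map_add, smul_add, hx, hy]
  let el : (ES f).obj Q →ₗ[B.unop] M :=
    { toFun := fun z => LinearMap.liftBaseChange B.unop κ (c z)
      map_add' := fun x y => by rw [map_add, map_add]
      map_smul' := fun b z => by rw [hcs, map_smul]; rfl }
  refine ⟨ModuleCat.ofHom el, (ConcreteCategory.isIso_iff_bijective _).2 (hκ.comp hc), fun x => ?_⟩
  show LinearMap.liftBaseChange B.unop κ ((1 : B.unop) ⊗ₜ[A.unop] x) = κ x
  rw [LinearMap.liftBaseChange_tmul, one_smul]

end helpers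

/-- Let p be a prime, n a natural number, and R → R' a faithfully flat homomorphism of commutative rings
in which p is nilpotent; write W_n for truncated Witt vectors of length n. A descent datum of
W_n(R')-modules relative to R → R' is a W_n(R')-module M' with, for every ring T and every pair of
maps R' ⇉ T agreeing on R, an isomorphism between the two base changes of M' to W_n(T), natural in T
and satisfying the cocycle condition (equivalently an isomorphism over W_n(R' ⊗_R R') with the
cocycle condition over W_n(R' ⊗_R R' ⊗_R R')); base change W_n(R') ⊗_{W_n(R)} M of a W_n(R)-module M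
carries the canonical such datum. Then every descent datum whose underlying W_n(R')-module is
finitely generated and projective is isomorphic to the canonical datum of W_n(R') ⊗ M for some
finitely generated projective W_n(R)-module M. (Here W_n(R) → W_n(R') is in general not flat, so
this is not a case of faithfully flat descent.) -/
theorem result (p : ℕ) [Fact p.Prime] (n : ℕ)
    (R R' : Type u) [CommRing R] [CommRing R'] [Algebra R R'] [Module.FaithfullyFlat R R']
    (hp : IsNilpotent (p : R))
    (D : (W4c3truncdispsmooth.wittModPF.{u} p n).DescentData (fun _ : PUnit.{u + 1} => (CommRingCat.ofHom (algebraMap R R')).op))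
    [Module.Finite (TruncatedWittVector p n R') (W4c3truncdispsmooth.descObj D)]
    [Module.Projective (TruncatedWittVector p n R') (W4c3truncdispsmooth.descObj D)] :
    ∃ M : ModuleCat.{u} (TruncatedWittVector p n R),
      Module.Finite (TruncatedWittVector p n R) M ∧ Module.Projective (TruncatedWittVector p n R) M ∧
        Nonempty (((W4c3truncdispsmooth.wittModPF.{u} p n).toDescentData (fun _ : PUnit.{u + 1} => (CommRingCat.ofHom (algebraMap R R')).op)).obj M ≅ D) := by
  open CategoryTheory Opposite in
  open scoped TensorProduct in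
  exact (by
  let F := Groth.Agent.S16223.FF.{u} p n
  let q : op (CommRingCat.of R') ⟶ op (CommRingCat.of R) := (CommRingCat.ofHom (algebraMap R R')).op
  letI aW : Algebra (TruncatedWittVector p n R) (TruncatedWittVector p n R') :=
    (WittGrp.truncMap p n (algebraMap R R')).toAlgebra
  let l : op (CommRingCat.of (R' ⊗[R] R')) ⟶ op (CommRingCat.of R') :=
    (CommRingCat.ofHom (Groth.Agent.WittModDesc.iL R R')).op
  let r : op (CommRingCat.of (R' ⊗[R] R')) ⟶ op (CommRingCat.of R') :=
    (CommRingCat.ofHom (Groth.Agent.WittModDesc.iR R R')).op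
  let g12 : op (CommRingCat.of (R' ⊗[R] (R' ⊗[R] R'))) ⟶ op (CommRingCat.of (R' ⊗[R] R')) :=
    (CommRingCat.ofHom (Groth.Agent.WittModDesc.q2 R R')).op
  let g13 : op (CommRingCat.of (R' ⊗[R] (R' ⊗[R] R'))) ⟶ op (CommRingCat.of (R' ⊗[R] R')) :=
    (CommRingCat.ofHom (Groth.Agent.WittModDesc.q1 R R')).op
  let g23 : op (CommRingCat.of (R' ⊗[R] (R' ⊗[R] R'))) ⟶ op (CommRingCat.of (R' ⊗[R] R')) :=
    (CommRingCat.ofHom (Groth.Agent.WittModDesc.q0 R R')).op
  let mu : op (CommRingCat.of R') ⟶ op (CommRingCat.of (R' ⊗[R] R')) :=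
    (CommRingCat.ofHom (Groth.Agent.WittModDesc.mulS R R')).op
  have w : l ≫ q = r ≫ q := Quiver.Hom.unop_inj (CommRingCat.hom_ext (RingHom.ext fun x => by
    show algebraMap R R' x ⊗ₜ[R] (1 : R') = (1 : R') ⊗ₜ[R] algebraMap R R' x
    rw [Algebra.algebraMap_eq_smul_one, TensorProduct.smul_tmul]))
  have e23 : g23 ≫ l = g12 ≫ r := rfl
  have e13l : g13 ≫ l = g12 ≫ l := Quiver.Hom.unop_inj (CommRingCat.hom_ext (RingHom.ext fun _ => rfl))
  have e13r : g13 ≫ r = g23 ≫ r := Quiver.Hom.unop_inj (CommRingCat.hom_ext (RingHom.ext fun _ => rfl))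
  have ml : mu ≫ l = 𝟙 _ := Quiver.Hom.unop_inj (CommRingCat.hom_ext (RingHom.ext fun a => by
    show Algebra.TensorProduct.lmul' R (a ⊗ₜ[R] (1 : R')) = a
    simp))
  have mr : mu ≫ r = 𝟙 _ := Quiver.Hom.unop_inj (CommRingCat.hom_ext (RingHom.ext fun a => by
    show Algebra.TensorProduct.lmul' R ((1 : R') ⊗ₜ[R] a) = a
    simp))
  let M : ModuleCat.{u} (TruncatedWittVector p n R') := W4c3truncdispsmooth.descObj D
  letI : Module (TruncatedWittVector p n R) M := Module.compHom M (WittGrp.truncMap p n (algebraMap R R'))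
  haveI : IsScalarTower (TruncatedWittVector p n R) (TruncatedWittVector p n R') M :=
    IsScalarTower.of_algebraMap_smul fun _ _ => rfl
  let X2 : ModuleCat.{u} (TruncatedWittVector p n (R' ⊗[R] R')) :=
    (Groth.Agent.DescLib.ModDesc.ES (Groth.Agent.S16223.op' (F.map r.op))).obj (Groth.Agent.WittModDesc.wcarrier (F := F) (q := q) D)
  let X3 : ModuleCat.{u} (TruncatedWittVector p n (R' ⊗[R] (R' ⊗[R] R'))) :=
    (Groth.Agent.DescLib.ModDesc.ES (Groth.Agent.S16223.op' (F.map (g23 ≫ r).op))).obj (Groth.Agent.WittModDesc.wcarrier (F := F) (q := q) D)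
  haveI : Module.Projective (TruncatedWittVector p n (R' ⊗[R] R')) X2 :=
    projective_es (Groth.Agent.S16223.op' (F.map r.op)) M
  haveI : Module.Projective (TruncatedWittVector p n (R' ⊗[R] (R' ⊗[R] R'))) X3 :=
    projective_es (Groth.Agent.S16223.op' (F.map (g23 ≫ r).op)) M
  let G : Groth.Agent.WittModDesc.Glue p n R R' M X2 X3 :=
    { o2 := Groth.Agent.WittModDesc.oneHom (Groth.Agent.S16223.op' (F.map r.op)) M
      φ := Groth.Agent.WittModDesc.phiD (F := F) D w
      o3 := Groth.Agent.WittModDesc.oneHom (Groth.Agent.S16223.op' (F.map (g23 ≫ r).op)) M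
      e0 := Groth.Agent.WittModDesc.bcD (F := F) D r g23 rfl
      e1 := Groth.Agent.WittModDesc.bcD (F := F) D r g13 e13r
      e2 := Groth.Agent.WittModDesc.twist (F := F) D w g12 g23 e23
      η := Groth.Agent.WittModDesc.etaD (F := F) D mu mr
      univ2 := Groth.Agent.WittModDesc.universal_one (Groth.Agent.S16223.op' (F.map r.op)) M
      univ3 := Groth.Agent.WittModDesc.universal_one (Groth.Agent.S16223.op' (F.map (g23 ≫ r).op)) M
      φ_smul := Groth.Agent.WittModDesc.phiD_smul (F := F) D w
      e0_smul := Groth.Agent.WittModDesc.bcD_smul (F := F) D g23 rfl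
      e1_smul := Groth.Agent.WittModDesc.bcD_smul (F := F) D g13 e13r
      e2_smul := Groth.Agent.WittModDesc.twist_smul (F := F) D w g12 g23 e23
      η_smul := Groth.Agent.WittModDesc.etaD_smul (F := F) D mu mr
      e0_o2 := Groth.Agent.WittModDesc.bcD_one (F := F) D g23 rfl
      e1_o2 := Groth.Agent.WittModDesc.bcD_one (F := F) D g13 e13r
      e2_o2 := Groth.Agent.WittModDesc.twist_one (F := F) D w g12 g23 e23
      cocycle := Groth.Agent.WittModDesc.cocycleD (F := F) D w g12 g13 g23 e23 e13l e13r
      η_o2 := Groth.Agent.WittModDesc.etaD_one (F := F) D mu mr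
      η_φ := Groth.Agent.WittModDesc.etaD_phi (F := F) D w mu ml mr }
  rcases Nat.eq_zero_or_pos n with hn | hn
  · subst hn
    haveI hs : ∀ (T : Type u) [CommRing T], Subsingleton (TruncatedWittVector p 0 T) := fun T _ =>
      ⟨fun a b => TruncatedWittVector.ext fun i => i.elim0⟩
    haveI : Subsingleton M := Module.subsingleton (TruncatedWittVector p 0 R') M
    let Mc : ModuleCat.{u} (TruncatedWittVector p 0 R) := ModuleCat.of (TruncatedWittVector p 0 R) (TruncatedWittVector p 0 R)
    let Qc := (Groth.Agent.DescLib.ModDesc.ES (Groth.Agent.S16223.op' (F.map q.op))).obj Mc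
    haveI : Subsingleton Qc := Module.subsingleton (TruncatedWittVector p 0 R') Qc
    let eh : Qc ⟶ M := 0
    haveI : IsIso eh := (ConcreteCategory.isIso_iff_bijective _).2
      ⟨fun _ _ _ => Subsingleton.elim _ _, fun y => ⟨0, Subsingleton.elim _ _⟩⟩
    refine ⟨Mc, Module.Finite.self _, Module.Projective.of_free,
      Groth.Agent.WittModDesc.nonempty_iso (F := F) D Mc eh fun {T} f₁ f₂ e m => ?_⟩
    haveI : Subsingleton ((Groth.Agent.DescLib.ModDesc.ES (Groth.Agent.S16223.op' (F.map f₂.op))).obj M) :=
      Module.subsingleton (TruncatedWittVector p 0 T.unop) _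
    exact Subsingleton.elim _ _
  obtain ⟨P, iP, iMP, κ, hPf, hPp, hfix, hbij⟩ := G.exists_descent hp hn rfl
  obtain ⟨eh, hiso, heh⟩ := @exists_iso (op (F.obj (op (op (CommRingCat.of R))))) (op (F.obj (op (op (CommRingCat.of R')))))
    (Groth.Agent.S16223.op' (F.map q.op)) (ModuleCat.of (TruncatedWittVector p n R) P) M aW (fun _ => rfl)
    (inferInstance : Module (TruncatedWittVector p n R) M)
    (inferInstance : IsScalarTower (TruncatedWittVector p n R) (TruncatedWittVector p n R') M) κ hbij
  haveI := hiso
  refine ⟨ModuleCat.of (TruncatedWittVector p n R) P, hPf, hPp,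
    Groth.Agent.WittModDesc.nonempty_iso (F := F) D (ModuleCat.of (TruncatedWittVector p n R) P) eh
      fun {T} f₁ f₂ e x => ?_⟩
  letI : Algebra R T.unop := (f₁.unop.hom.comp (algebraMap R R')).toAlgebra
  let a₁ : R' →ₐ[R] T.unop := { f₁.unop.hom with commutes' := fun s => rfl }
  let a₂ : R' →ₐ[R] T.unop := { f₂.unop.hom with
    commutes' := fun s => (congrArg (fun k : T ⟶ op (CommRingCat.of R) => k.unop s) e).symm }
  have hcm : ∀ x y, Commute (a₁ x) (a₂ y) := fun _ _ => Commute.all _ _
  let g : T ⟶ op (CommRingCat.of (R' ⊗[R] R')) :=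
    (CommRingCat.ofHom (Algebra.TensorProduct.lift a₁ a₂ hcm).toRingHom).op
  have h₁ : g ≫ l = f₁ := Quiver.Hom.unop_inj (CommRingCat.hom_ext (RingHom.ext fun a => by
      show Algebra.TensorProduct.lift a₁ a₂ hcm (a ⊗ₜ[R] (1 : R')) = a₁ a
      simp))
  have h₂ : g ≫ r = f₂ := Quiver.Hom.unop_inj (CommRingCat.hom_ext (RingHom.ext fun a => by
      show Algebra.TensorProduct.lift a₁ a₂ hcm ((1 : R') ⊗ₜ[R] a) = a₂ a
      simp))
  rw [heh]
  exact Groth.Agent.WittModDesc.fixed_everywhere (F := F) D w f₁ f₂ e g h₁ h₂ (hfix x))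

end Groth.Agent.S16224
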