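import Groth.Statements.S16226
import Groth.Agent.GrpSchLib.EtaleGlue
-- import your own Groth.Agent.* helpers here

set_option autoImplicit false
set_option backward.isDefEq.respectTransparency.types false
universe u
open CategoryTheory MonoidalCategory CartesianMonoidalCategory MonObj AlgebraicGeometry
open PrincBund

namespace Groth.Agent.S16226

/-- Let i : G → H be a homomorphism of group schemes over a base scheme S which is a closed immersion, F
an H-torsor over S for the etale topology with action aF, and π : F → Q a morphism of S-schemes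
exhibiting Q as the quotient F/G, in the sense that the square formed by the restricted action G ×_S
F → F, the projection G ×_S F → F and π twice is cartesian and π acquires sections etale-locally on
Q. Then for every section σ of Q over S there are a G-torsor E over S for the etale topology and an
i-equivariant morphism φ : E → F over S such that the square (φ, E → S; π, σ) is cartesian; that is,
σ comes from a reduction of the structure group of F to G. (Stated over an arbitrary base scheme and
for arbitrary group schemes; the quotient F/G is taken as data through its torsor property rather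
than constructed.) -/
theorem result
    {S : Scheme.{u}} {G H F Q : Over S} [GrpObj G] [GrpObj H]
    (i : G ⟶ H) [IsMonHom i] [IsClosedImmersion i.left]
    (aF : AlgGrp.Action H F) (hF : NonAbH1.IsTorsorFor Scheme.etalePrecoverage aF)
    (π : F ⟶ Q)
    (hsq : IsPullback (aF.restrict i).act (snd G F) π π)
    (hloc : NonAbH1.IsLocallyTrivialFor Scheme.etalePrecoverage (Over.mk π.left : Over Q.left))
    (σ : 𝟙_ (Over S) ⟶ Q) :
    ∃ (E : Over S) (aE : AlgGrp.Action G E) (φ : E ⟶ F),
      NonAbH1.IsTorsorFor Scheme.etalePrecoverage aE ∧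
      AlgGrp.Action.IsEquivariant aE (aF.restrict i) φ ∧
      IsPullback φ (toUnit E) π σ := by
  let E : Over S := Limits.pullback π σ
  let φ : E ⟶ F := Limits.pullback.fst π σ
  have hEext : ∀ {T : Over S} (x y : T ⟶ E), x ≫ φ = y ≫ φ → x = y := fun x y h =>
    Limits.pullback.hom_ext h (toUnit_unique _ _)
  have hEπ : φ ≫ π = toUnit E ≫ σ := by
    rw [show toUnit E = Limits.pullback.snd π σ from toUnit_unique _ _]
    exact Limits.pullback.condition
  have hw : ((G ◁ φ) ≫ (aF.restrict i).act) ≫ π = toUnit (G ⊗ E) ≫ σ := by
    rw [Category.assoc, hsq.w, whiskerLeft_snd_assoc, hEπ, ← Category.assoc, toUnit_unique (snd G E ≫ toUnit E) (toUnit _)]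
  let act : G ⊗ E ⟶ E := Limits.pullback.lift ((G ◁ φ) ≫ (aF.restrict i).act) (toUnit _) hw
  have hact : act ≫ φ = (G ◁ φ) ≫ (aF.restrict i).act := Limits.pullback.lift_fst _ _ _
  let aE : AlgGrp.Action G E :=
    { act := act
      one_act := hEext _ _ (by
        rw [Category.assoc, hact, ← whisker_exchange_assoc, (aF.restrict i).one_act]
        simp)
      mul_act := hEext _ _ (by
        simp only [Category.assoc, hact]
        rw [← whisker_exchange_assoc, (aF.restrict i).mul_act, ← whiskerLeft_comp_assoc, hact]
        simp) }
  refine ⟨E, aE, φ, ⟨?_, ?_⟩, hact, ?_⟩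
  · -- pseudo-torsor
    show IsIso (lift act (snd G E))
    have hw2 : (fst E E ≫ φ) ≫ π = (snd E E ≫ φ) ≫ π := by
      rw [Category.assoc, hEπ, Category.assoc, hEπ, ← Category.assoc, ← Category.assoc,
        toUnit_unique (fst E E ≫ toUnit E) (snd E E ≫ toUnit E)]
    let w := hsq.lift (fst E E ≫ φ) (snd E E ≫ φ) hw2
    have hw3 : lift (w ≫ fst G F) (snd E E) ≫ (G ◁ φ) = w := by
      apply CartesianMonoidalCategory.hom_ext
      · simp
      · rw [Category.assoc, whiskerLeft_snd, lift_snd_assoc]
        exact (hsq.lift_snd (fst E E ≫ φ) (snd E E ≫ φ) hw2).symm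
    refine ⟨lift (w ≫ fst G F) (snd E E), ?_, ?_⟩
    · have h1 : lift act (snd G E) ≫ w = G ◁ φ := by
        refine hsq.hom_ext ?_ ?_
        · rw [Category.assoc, hsq.lift_fst, lift_fst_assoc, hact]
        · rw [Category.assoc, hsq.lift_snd, lift_snd_assoc, whiskerLeft_snd]
      apply CartesianMonoidalCategory.hom_ext
      · rw [Category.assoc, lift_fst, ← Category.assoc, h1, whiskerLeft_fst, Category.id_comp]
      · rw [Category.assoc, lift_snd, lift_snd, Category.id_comp]
    · apply CartesianMonoidalCategory.hom_ext
      · refine hEext _ _ ?_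
        simp only [Category.assoc, Category.id_comp, lift_fst_assoc, hact]
        rw [← Category.assoc, hw3]
        exact hsq.lift_fst _ _ _
      · simp
  · -- local triviality
    obtain ⟨R, hR, hsec⟩ := hloc
    obtain ⟨J, Z, f, rfl⟩ := R.exists_eq_ofArrows
    obtain ⟨hcov, het⟩ := (Scheme.ofArrows_mem_precoverage_iff (P := @Etale)).mp hR
    let σ' : S ⟶ Q.left := σ.left
    refine ⟨Presieve.ofArrows (fun n => Limits.pullback σ' (f n)) (fun n => Limits.pullback.fst σ' (f n)), ?_, ?_⟩
    · refine (Scheme.ofArrows_mem_precoverage_iff (P := @Etale)).mpr ⟨fun x => ?_, fun n => ?_⟩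
      · obtain ⟨n, y, hy⟩ := hcov (σ' x)
        obtain ⟨z, hz, -⟩ := Scheme.Pullback.exists_preimage_pullback (f := σ') (g := f n) x y hy.symm
        exact ⟨n, z, hz⟩
      · exact MorphismProperty.pullback_fst σ' (f n) (het n)
    · rintro W g ⟨n⟩
      obtain ⟨t, ht⟩ := hsec (f n) (Presieve.ofArrows.mk n)
      have hσS : σ' ≫ Q.hom = 𝟙 S := Over.w σ
      have hbase : (Limits.pullback.snd σ' (f n) ≫ t) ≫ F.hom = Limits.pullback.fst σ' (f n) := by
        have : t ≫ π.left = f n := ht
        rw [← Over.w π, Category.assoc, reassoc_of% this, ← Limits.pullback.condition_assoc, hσS, Category.comp_id]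
      let T : Over S := Over.mk (Limits.pullback.fst σ' (f n))
      let p : T ⟶ F := Over.homMk (Limits.pullback.snd σ' (f n) ≫ t) hbase
      have hp : p ≫ π = toUnit T ≫ σ := by
        refine Over.OverMorphism.ext ?_
        show (Limits.pullback.snd σ' (f n) ≫ t) ≫ π.left = Limits.pullback.fst σ' (f n) ≫ σ'
        have : t ≫ π.left = f n := ht
        rw [Category.assoc, this, Limits.pullback.condition]
      exact ⟨(Limits.pullback.lift p (toUnit T) hp).left, Over.w _⟩
  · rw [show toUnit E = Limits.pullback.snd π σ from toUnit_unique _ _]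
    exact IsPullback.of_hasPullback π σ

end Groth.Agent.S16226
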