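import Groth.Statements.S16227
import Groth.Agent.GrpSchLib.EtaleGlue
-- import your own Groth.Agent.* helpers here

set_option autoImplicit false
universe u
open CategoryTheory MonoidalCategory CartesianMonoidalCategory MonObj AlgebraicGeometry
open PrincBund

namespace Groth.Agent.S16227

/-- Let i : G → H be a homomorphism of group schemes over a base scheme S which is a closed immersion, F
an H-torsor over S for the etale topology with action aF, and π : F → Q a morphism of S-schemes
exhibiting Q as the quotient F/G, in the sense that the square formed by the restricted action G ×_S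
F → F, the projection G ×_S F → F and π twice is cartesian and π acquires sections etale-locally on
Q. Then a reduction of the structure group of F to G, namely a G-torsor E over S for the etale
topology together with an i-equivariant morphism φ : E → F over S, determines a unique section σ of
Q over S such that the composite E → S → Q equals φ followed by π, and for this σ the square (φ, E →
S; π, σ) is cartesian, so that E is recovered as the pullback of F along σ. (Stated over an
arbitrary base scheme and for arbitrary group schemes; the quotient F/G is taken as data through its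
torsor property rather than constructed.) -/
theorem result
    {S : Scheme.{u}} {G H F Q : Over S} [GrpObj G] [GrpObj H]
    (i : G ⟶ H) [IsMonHom i] [IsClosedImmersion i.left]
    (aF : AlgGrp.Action H F) (hF : NonAbH1.IsTorsorFor Scheme.etalePrecoverage aF)
    (π : F ⟶ Q)
    (hsq : IsPullback (aF.restrict i).act (snd G F) π π)
    (hloc : NonAbH1.IsLocallyTrivialFor Scheme.etalePrecoverage (Over.mk π.left : Over Q.left))
    {E : Over S} (aE : AlgGrp.Action G E) (hE : NonAbH1.IsTorsorFor Scheme.etalePrecoverage aE)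
    (φ : E ⟶ F) (hφ : AlgGrp.Action.IsEquivariant aE (aF.restrict i) φ) :
    (∃! σ : 𝟙_ (Over S) ⟶ Q, toUnit E ≫ σ = φ ≫ π) ∧
      ∀ σ : 𝟙_ (Over S) ⟶ Q, toUnit E ≫ σ = φ ≫ π → IsPullback φ (toUnit E) π σ := by
  have hsqi : ∀ {T : Over S} (g : T ⟶ G) (x : T ⟶ F), (lift (g ≫ i) x ≫ aF.act) ≫ π = x ≫ π := by
    intro T g x
    have := congrArg (lift g x ≫ ·) hsq.w
    simpa [AlgGrp.Action.restrict_act, lift_whiskerRight_assoc] using this
  have hφ' : ∀ {T : Over S} (g : T ⟶ G) (x : T ⟶ E), (lift g x ≫ aE.act) ≫ φ = lift (g ≫ i) (x ≫ φ) ≫ aF.act := by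
    intro T g x
    rw [Category.assoc, hφ, AlgGrp.Action.restrict_act, lift_whiskerLeft_assoc, lift_whiskerRight_assoc]
  have hinv : ∀ {T : Over S} (x y : T ⟶ E), x ≫ φ ≫ π = y ≫ φ ≫ π := by
    intro T x y
    obtain ⟨g, rfl⟩ := Groth.Agent.GrpSchLib.EtaleGlue.exists_trans aE hE.1 x y
    rw [← Category.assoc, ← Category.assoc (lift g x ≫ aE.act), hφ', hsqi]
  have hmono : ∀ {T : Over S} (x y : T ⟶ E), x ≫ φ = y ≫ φ → x = y := by
    intro T x y h
    obtain ⟨g, rfl⟩ := Groth.Agent.GrpSchLib.EtaleGlue.exists_trans aE hE.1 x y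
    rw [hφ'] at h
    have hg : lift g (x ≫ φ) = lift 1 (x ≫ φ) := by
      refine hsq.hom_ext ?_ (by rw [lift_snd, lift_snd])
      rw [AlgGrp.Action.restrict_act, lift_whiskerRight_assoc, lift_whiskerRight_assoc, MonObj.one_comp,
        Groth.Agent.GrpSchLib.act_one]
      exact h.symm
    have : g = 1 := by simpa using congrArg (· ≫ fst G F) hg
    rw [this, Groth.Agent.GrpSchLib.act_one]
  obtain ⟨U, hUe, hUs, ⟨u⟩⟩ := Groth.Agent.GrpSchLib.EtaleGlue.exists_section hE.2
  haveI := Groth.Agent.GrpSchLib.EtaleGlue.etale_toUnit U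
  haveI := Groth.Agent.GrpSchLib.EtaleGlue.surjective_toUnit U
  obtain ⟨σ, hσ⟩ := Groth.Agent.GrpSchLib.EtaleGlue.exists_desc (toUnit U) (u ≫ φ ≫ π)
    fun w₁ w₂ _ => by
      rw [← Category.assoc w₁, ← Category.assoc w₂]
      exact hinv _ _
  have hσE : toUnit E ≫ σ = φ ≫ π := by
    haveI := Groth.Agent.GrpSchLib.EtaleGlue.etale_fst E U
    haveI := Groth.Agent.GrpSchLib.EtaleGlue.surjective_fst E U
    refine Groth.Agent.GrpSchLib.EtaleGlue.hom_ext (fst E U) ?_
    rw [← Category.assoc, toUnit_unique (fst E U ≫ toUnit E) (snd E U ≫ toUnit U), Category.assoc, hσ,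
      ← Category.assoc]
    exact hinv _ _
  refine ⟨⟨σ, hσE, fun τ hτ => ?_⟩, fun τ hτ => ?_⟩
  · refine Groth.Agent.GrpSchLib.EtaleGlue.hom_ext (toUnit U) ?_
    rw [hσ, ← hτ, ← Category.assoc, toUnit_unique (u ≫ toUnit E) (toUnit U)]
  · have hlift : ∀ {T : Over S} (p : T ⟶ F), p ≫ π = toUnit T ≫ τ → ∃ e : T ⟶ E, e ≫ φ = p := by
      intro T p hp
      haveI := Groth.Agent.GrpSchLib.EtaleGlue.etale_fst T U
      haveI := Groth.Agent.GrpSchLib.EtaleGlue.surjective_fst T U
      let x : T ⊗ U ⟶ E := snd T U ≫ u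
      have hw : (fst T U ≫ p) ≫ π = (x ≫ φ) ≫ π := by
        rw [Category.assoc, hp, Category.assoc x, ← hτ, ← Category.assoc, ← Category.assoc,
          toUnit_unique (fst T U ≫ toUnit T) (x ≫ toUnit E)]
      let w := hsq.lift (fst T U ≫ p) (x ≫ φ) hw
      have hw1 : lift ((w ≫ fst G F) ≫ i) (x ≫ φ) ≫ aF.act = fst T U ≫ p := by
        have h1 := hsq.lift_fst (fst T U ≫ p) (x ≫ φ) hw
        have h2 := hsq.lift_snd (fst T U ≫ p) (x ≫ φ) hw
        have h3 : w = lift (w ≫ fst G F) (x ≫ φ) := by
          apply CartesianMonoidalCategory.hom_ext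
          · simp
          · rw [lift_snd]; exact h2
        rw [← lift_whiskerRight_assoc, ← h3]
        exact h1
      let e' : T ⊗ U ⟶ E := lift (w ≫ fst G F) x ≫ aE.act
      have he' : e' ≫ φ = fst T U ≫ p := (hφ' _ _).trans hw1
      obtain ⟨e, he⟩ := Groth.Agent.GrpSchLib.EtaleGlue.exists_desc (fst T U) e' fun w₁ w₂ hw12 => hmono _ _ (by
        rw [Category.assoc, he', Category.assoc, he', reassoc_of% hw12])
      exact ⟨e, Groth.Agent.GrpSchLib.EtaleGlue.hom_ext (fst T U) (by rw [← Category.assoc, he, he'])⟩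
    choose e he using fun (c : Limits.PullbackCone π τ) => hlift c.fst (by
      rw [c.condition, toUnit_unique c.snd (toUnit _)])
    exact IsPullback.of_isLimit' ⟨hτ.symm⟩ (Limits.PullbackCone.IsLimit.mk _ e he
      (fun c => toUnit_unique _ _) (fun c m h1 _ => hmono _ _ (h1.trans (he c).symm)))

end Groth.Agent.S16227
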