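import Groth.Statements.S1623
import Groth.Agent.RelPC17.BirFibre
import Groth.Agent.Lib.BlowUpInt
import Groth.Agent.RegLoc6.Basic

set_option autoImplicit false
set_option backward.isDefEq.respectTransparency false
set_option backward.isDefEq.respectTransparency.types false
universe u
open CategoryTheory CategoryTheory.Limits AlgebraicGeometry
open Resolve

namespace Groth.Agent.S1623

/-- Let A be a regular local ring of dimension two and b : X → Spec A a blowing up in the maximal ideal.
For every quasi-coherent O_X-module F and every p ≥ 2, H^p(X, F) = 0. -/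
theorem result (A : Type u) [CommRing A] [IsRegularLocalRing A] (hA : ringKrullDim A = 2)
    (X : Scheme.{u}) (b : X ⟶ Spec (CommRingCat.of A)) (hb : BlowUp.IsBlowUp b (Curv2.idealSheaf A (IsLocalRing.maximalIdeal A)))
    (F : X.Modules) (hF : Coh.IsQCoh F) (p : ℕ) (hp : 2 ≤ p) : Subsingleton (Coh.HH X F p) := by
  haveI : IsDomain A := Groth.Agent.RegLoc6.isDomain_of_isRegularLocalRing A
  haveI : IsNoetherianRing A := inferInstance
  let C := Curv2.idealSheaf A (IsLocalRing.maximalIdeal A)
  have hCft : BlowUp.IsFiniteTypeIdeal C := fun V => by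
    haveI : IsNoetherianRing Γ(Spec (CommRingCat.of A), V.1) :=
      IsLocallyNoetherian.component_noetherian V
    exact IsNoetherian.noetherian _
  haveI := Groth.Agent.BlowUpLib.isProper_of_isBlowUp (C := C) hb hCft
  let U : (Spec (CommRingCat.of A)).Opens := C.support.compl
  haveI : IsIso (b ∣_ U) := Groth.Agent.BlowUpLib.isIso_restrict hb U le_rfl
  have hm : IsLocalRing.maximalIdeal A ≠ ⊥ := fun h => by
    haveI : Ring.KrullDimLE 0 A :=
      Ring.KrullDimLE.mk₀ fun P hP => by
        have : P = ⊥ := le_bot_iff.1 (h ▸ IsLocalRing.le_maximalIdeal hP.ne_top)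
        rw [this, ← h]
        exact IsLocalRing.maximalIdeal.isMaximal A
    have h0 := (Ring.krullDimLE_iff (n := 0) (R := A)).1 inferInstance
    rw [hA] at h0
    exact absurd h0 (by decide)
  have hU : (U : Set ↥(Spec (CommRingCat.of A))).Nonempty := by
    refine ⟨(⟨⊥, Ideal.bot_prime⟩ : PrimeSpectrum A), fun hmem => hm (le_bot_iff.1 ?_)⟩
    intro a ha
    have h1 : (⟨⊥, Ideal.bot_prime⟩ : PrimeSpectrum A) ∈ (C.support : Set ↥(Spec (CommRingCat.of A))) := hmem
    rw [show (C.support : Set ↥(Spec (CommRingCat.of A))) = _ from Scheme.IdealSheafData.coe_support_ofIdealTop _,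
      Spec_zeroLocus] at h1
    have h2 : (Scheme.ΓSpecIso (CommRingCat.of A)).inv.hom a ∈
        (IsLocalRing.maximalIdeal A).map (Scheme.ΓSpecIso (CommRingCat.of A)).inv.hom :=
      Ideal.mem_map_of_mem _ ha
    have h3 := h1 (show a ∈ _ from h2)
    simpa using h3
  rcases Groth.Agent.Lib.BlowUpInt.isEmpty_or_birational hb with hX | ⟨hX, -⟩
  · haveI := hX
    exact Groth.Agent.RelPC17.HighVanish.subsingleton_HH_of_fibre_dim b 1 (fun s => by
      haveI : IsEmpty ↥(b.fiber s) := (b.fiberι s).base.hom.toFun |> Function.isEmpty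
      haveI : IsEmpty (TopologicalSpace.IrreducibleCloseds ↥(b.fiber s)) :=
        ⟨fun t => IsEmpty.false t.isIrreducible.nonempty.some⟩
      exact le_of_eq_of_le Order.krullDim_eq_bot bot_le) hF p (by omega)
  haveI := hX
  exact Groth.Agent.RelPC17.HighVanish.subsingleton_HH_of_fibre_dim b 1
    (Groth.Agent.RelPC17.BirFibre.fibre_dim_le_one b
      (Groth.Agent.RelPC17.BirFibre.dim_spec_le A 2 (by rw [hA]; norm_cast)) U hU) hF p (by omega)

end Groth.Agent.S1623
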