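import Groth.Statements.S16231
import Groth.Agent.PSQuad.Morse
import Groth.Agent.PSQuad.Translate
import Groth.Agent.PSQuad.Coeff

set_option autoImplicit false
universe u
open VanCyc

namespace Groth.Agent.S16231

/-- Let A be a local ring with maximal ideal m that is separated and complete for the m-adic topology (A
is not assumed Noetherian), n a natural number, q an n × n coefficient table over A whose quadratic
form Q(x) = Σ_{i≤j} q_ij x_i x_j is non-degenerate (unit Gram determinant of the polar bilinear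
form), a and ℓ_1, …, ℓ_n elements of m, and F a formal power series in x_1, …, x_n over A whose
coefficients in total degree at most 2 agree with those of a + Σ ℓ_i x_i + Q(x). Then there are an
element a' of m and a non-degenerate coefficient table q' such that A[[x]]/(F) and A[[x]]/(Q'(x) +
a') are isomorphic as A-algebras, Q' the quadratic form of q'. -/
theorem result
    (A : Type u) [CommRing A] [IsLocalRing A]
    [IsAdicComplete (IsLocalRing.maximalIdeal A) A] (n : ℕ)
    (q : Fin n → Fin n → A) (hq : VanCyc.QuadNondeg q)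
    (a : A) (ha : a ∈ IsLocalRing.maximalIdeal A)
    (ℓ : Fin n → A) (hℓ : ∀ i, ℓ i ∈ IsLocalRing.maximalIdeal A)
    (F : MvPowerSeries (Fin n) A)
    (hF : ∀ e : Fin n →₀ ℕ, e.degree ≤ 2 →
      MvPowerSeries.coeff e F = MvPowerSeries.coeff e ((VanCyc.quadPoly q + ∑ i, MvPolynomial.C (ℓ i) * MvPolynomial.X i + MvPolynomial.C a : MvPolynomial (Fin n) A) : MvPowerSeries (Fin n) A)) :
    ∃ (a' : A) (q' : Fin n → Fin n → A), a' ∈ IsLocalRing.maximalIdeal A ∧ VanCyc.QuadNondeg q' ∧
      Nonempty ((MvPowerSeries (Fin n) A ⧸ Ideal.span {F}) ≃ₐ[A]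
        (MvPowerSeries (Fin n) A ⧸ Ideal.span {((VanCyc.quadPoly q' + MvPolynomial.C a' : MvPolynomial (Fin n) A) : MvPowerSeries (Fin n) A)})) := by
  classical
  let P := MvPowerSeries (Fin n) A
  let L : MvPolynomial (Fin n) A := VanCyc.quadPoly q + ∑ i, MvPolynomial.C (ℓ i) * MvPolynomial.X i + MvPolynomial.C a
  have hFd : ∀ d : Fin n →₀ ℕ, d.degree ≤ 2 → MvPowerSeries.coeff d F = L.coeff d := fun d hd => by
    rw [hF d hd, MvPolynomial.coeff_coe]
  have hF0 : MvPowerSeries.coeff 0 F = a := by
    rw [hFd 0 (by simp)]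
    simp [L, PSQuad.coeff_quadPoly_eq_zero, MvPolynomial.coeff_sum, MvPolynomial.coeff_zero_X]
  have hF1 : ∀ i, MvPowerSeries.coeff (Finsupp.single i 1) F = ℓ i := fun i => by
    rw [hFd _ (by simp [Finsupp.degree_single])]
    simp only [L, MvPolynomial.coeff_add, MvPolynomial.coeff_sum, MvPolynomial.coeff_C_mul, MvPolynomial.coeff_C]
    rw [PSQuad.coeff_quadPoly_eq_zero q (by simp [Finsupp.degree_single]), Finset.sum_eq_single i,
      if_neg (by intro h; simpa using congrArg (fun d : Fin n →₀ ℕ => d i) h), MvPolynomial.coeff_X,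
      if_pos rfl]
    · ring
    · intro b _ hb
      simp [MvPolynomial.coeff_X, Finsupp.single_left_inj, hb]
    · simp
  have hF2 : ∀ i j, i ≤ j → VanCyc.quadPart F i j = q i j := fun i j hij => by
    rw [PSQuad.quadPart_apply hij, hFd _ (by simp [map_add, Finsupp.degree_single])]
    simp only [L, MvPolynomial.coeff_add, MvPolynomial.coeff_sum, MvPolynomial.coeff_C_mul, MvPolynomial.coeff_C]
    rw [PSQuad.coeff_quadPoly_pair q hij, Finset.sum_eq_zero, if_neg, add_zero, add_zero]
    · intro h; simpa using congrArg Finsupp.degree h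
    · intro b _
      rw [MvPolynomial.coeff_X, if_neg, mul_zero]
      intro h
      simpa [map_add, Finsupp.degree_single] using congrArg Finsupp.degree h
  have hpol : VanCyc.polarMatrix (VanCyc.quadPart F) = VanCyc.polarMatrix q := PSQuad.polarMatrix_congr hF2
  obtain ⟨c, hc, hcrit⟩ := PSQuad.exists_critical F (fun i => (hF1 i).symm ▸ hℓ i)
    (show IsUnit _ by rw [hpol]; exact hq)
  obtain ⟨τ, hτ⟩ := PSQuad.exists_translation c hc
  let G : MvPowerSeries (Fin n) A := τ F
  let q' : Fin n → Fin n → A := VanCyc.quadPart G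
  let a' : A := MvPowerSeries.coeff 0 G
  have ha' : a' ∈ IsLocalRing.maximalIdeal A := by
    have := add_mem (PSQuad.ev_sub_mem c hc F) (hF0.symm ▸ ha)
    rw [sub_add_cancel] at this
    show MvPowerSeries.coeff 0 (τ F) ∈ _
    rw [(hτ F).1]
    exact this
  have hq' : VanCyc.QuadNondeg q' := by
    have hmod : (VanCyc.polarMatrix q').map (IsLocalRing.residue A) = (VanCyc.polarMatrix q).map (IsLocalRing.residue A) := by
      ext i j
      rw [Matrix.map_apply, Matrix.map_apply, ← hpol, ← PSQuad.coeff_single_pderiv, ← PSQuad.coeff_single_pderiv,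
        (hτ F).2.2, (hτ _).2.1, ← sub_eq_zero, ← map_sub, IsLocalRing.residue_eq_zero_iff,
        ← PSQuad.coeff_zero_pderiv (MvPowerSeries.pderiv A i F)]
      exact PSQuad.ev_sub_mem c hc _
    show IsUnit _
    rw [← IsLocalRing.residue_ne_zero_iff_isUnit, RingHom.map_det, RingHom.mapMatrix_apply, hmod,
      ← RingHom.mapMatrix_apply, ← RingHom.map_det, IsLocalRing.residue_ne_zero_iff_isUnit]
    exact hq
  have hG : G - ((VanCyc.quadPoly q' + MvPolynomial.C a' : MvPolynomial (Fin n) A) : MvPowerSeries (Fin n) A) ∈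
      PSLib.vars n A ^ (0 + 3) := by
    refine PSLib.mem_pow_iff.2 fun d hd => ?_
    rw [map_sub, MvPolynomial.coeff_coe, MvPolynomial.coeff_add, MvPolynomial.coeff_C, sub_eq_zero]
    rcases PSQuad.degree_le_two_cases (d := d) (by omega) with rfl | ⟨i, rfl⟩ | ⟨i, j, hij, rfl⟩
    · rw [PSQuad.coeff_quadPoly_eq_zero q' (by simp), if_pos rfl, zero_add]
    · rw [PSQuad.coeff_quadPoly_eq_zero q' (by simp [Finsupp.degree_single]), if_neg, add_zero]
      · exact (hτ F).2.1 i |>.trans (hcrit i)
      · intro h; simpa using congrArg Finsupp.degree h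
    · rw [PSQuad.coeff_quadPoly_pair q' hij, if_neg, add_zero]
      · exact (PSQuad.quadPart_apply hij).symm
      · intro h; simpa using congrArg Finsupp.degree h
  obtain ⟨ψ, -, hψ⟩ := PSQuad.exists_morse (N := 0) q' hq' a' G hG
  refine ⟨a', q', ha', hq', ⟨Ideal.quotientEquivAlg _ _ (τ.trans ψ) ?_⟩⟩
  rw [Ideal.map_span, Set.image_singleton]
  exact congrArg (fun t => Ideal.span {t}) hψ.symm

end Groth.Agent.S16231
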