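import Groth.Statements.S16232
import Groth.Agent.TameChar.Finite
import Groth.Agent.TameKummer.Basic
import Mathlib.FieldTheory.Galois.Profinite
import Mathlib.FieldTheory.KrullTopology
import Mathlib.FieldTheory.Normal.Basic
import Mathlib.RingTheory.Polynomial.Cyclotomic.Roots

set_option autoImplicit false
universe u v
open VanCyc

namespace Groth.Agent.S16232

/-- Let R be a strictly Henselian discrete valuation ring (Henselian, with separably closed residue
field), K its fraction field, Ω a separable closure of K and G the group of K-algebra automorphisms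
of Ω; let r ≥ 1 be an integer invertible in the residue field of R, ϖ a uniformizer of R and ρ an
r-th root of ϖ in Ω, so that the fundamental character χ : G → μ_r(Ω) is σ ↦ σ(ρ)/ρ. Then every
homomorphism φ of the abstract group G into an abelian group M with rM = 0 factors uniquely through
χ: there is exactly one homomorphism u : μ_r(Ω) → M with φ(σ) = u(χ(σ)) for every σ in G.
(Homomorphisms are written as maps respecting the group laws; χ(σ) is the root of unity ζ with ζρ =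
σ(ρ).) -/
theorem result
    (R : Type u) [CommRing R] [IsDomain R] [IsDiscreteValuationRing R] [HenselianLocalRing R]
    [IsSepClosed (IsLocalRing.ResidueField R)]
    (K : Type u) [Field K] [Algebra R K] [IsFractionRing R K]
    (Ω : Type u) [Field Ω] [Algebra K Ω] [IsSepClosure K Ω]
    (r : ℕ) [NeZero r] (hr : IsUnit (r : IsLocalRing.ResidueField R))
    (ϖ : R) (hϖ : Irreducible ϖ) (ρ : Ω) (hρ : ρ ^ r = algebraMap K Ω (algebraMap R K ϖ))
    (M : Type v) [AddCommGroup M] (hM : ∀ x : M, r • x = 0)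
    (φ : (Ω ≃ₐ[K] Ω) → M) (hφ : ∀ σ τ : Ω ≃ₐ[K] Ω, φ (σ * τ) = φ σ + φ τ) :
    ∃! u : ↥(rootsOfUnity r Ω) → M, (∀ ζ ξ : ↥(rootsOfUnity r Ω), u (ζ * ξ) = u ζ + u ξ) ∧
      ∀ (σ : Ω ≃ₐ[K] Ω) (ζ : ↥(rootsOfUnity r Ω)), ((ζ : Ωˣ) : Ω) * ρ = σ ρ → φ σ = u ζ := by
  classical
  have hr0 : 0 < r := Nat.pos_of_ne_zero (NeZero.ne r)
  have hrR : IsUnit (r : R) := by
    rw [← IsLocalRing.residue_ne_zero_iff_isUnit, map_natCast]; exact hr.ne_zero
  haveI : NeZero (r : IsLocalRing.ResidueField R) := ⟨hr.ne_zero⟩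
  obtain ⟨c, hc⟩ := IsSepClosed.exists_root (Polynomial.cyclotomic r (IsLocalRing.ResidueField R))
    (Polynomial.degree_cyclotomic_pos r _ hr0).ne' (Polynomial.separable_cyclotomic r _)
  rw [Polynomial.isRoot_cyclotomic_iff] at hc
  obtain ⟨ζ, hζ1, hζc⟩ := TameKummer.exists_lift_root R hrR (1 : Rˣ) (c := c) (by simpa using hc.pow_eq_one)
  have hζk : IsPrimitiveRoot (IsLocalRing.residue R ζ) r := hζc ▸ hc
  have hζ : IsPrimitiveRoot ζ r := ⟨by simpa using hζ1,
    fun l hl => hζk.dvd_of_pow_eq_one l (by rw [← map_pow, hl, map_one])⟩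
  letI : Algebra R Ω := ((algebraMap K Ω).comp (algebraMap R K)).toAlgebra
  haveI : IsScalarTower R K Ω := IsScalarTower.of_algebraMap_eq' rfl
  have hζΩ : IsPrimitiveRoot (algebraMap R Ω ζ) r :=
    hζ.map_of_injective ((algebraMap K Ω).injective.comp (IsFractionRing.injective R K))
  haveI : IsGalois K Ω := IsSepClosure.isGalois
  have fixR : ∀ (σ : Ω ≃ₐ[K] Ω) (a : R), σ (algebraMap R Ω a) = algebraMap R Ω a := fun σ a =>
    σ.commutes (algebraMap R K a)
  have hroot : ∀ η : Ω, η ^ r = 1 → ∃ a : R, η = algebraMap R Ω a := fun η hη => by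
    obtain ⟨i, -, rfl⟩ := hζΩ.eq_pow_of_pow_eq_one hη
    exact ⟨ζ ^ i, (map_pow _ _ _).symm⟩
  have hμ : ∀ η : ↥(rootsOfUnity r Ω), ((η : Ωˣ) : Ω) ^ r = 1 := fun η =>
    (mem_rootsOfUnity' r (η : Ωˣ)).mp η.2
  have hϖK : algebraMap R K ϖ ≠ 0 := fun h => hϖ.ne_zero (IsFractionRing.injective R K (h.trans (map_zero _).symm))
  have hρ0 : ρ ≠ 0 := fun h => hϖK ((algebraMap K Ω).injective (by rw [map_zero, ← hρ, h, zero_pow hr0.ne']))
  -- the Galois group is transitive on the roots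
  have trans : ∀ η : Ω, η ^ r = 1 → ∃ σ : Ω ≃ₐ[K] Ω, σ ρ = η * ρ := by
    intro η hη
    have hint : IsAlgebraic K ρ := Algebra.IsAlgebraic.isAlgebraic ρ
    have hmin : minpoly K ρ = Polynomial.X ^ r - Polynomial.C (algebraMap R K ϖ) :=
      (minpoly.eq_of_irreducible_of_monic (TameKummer.irreducible_X_pow_sub R K hr0 hϖ) (by simp [hρ])
        (Polynomial.monic_X_pow_sub_C _ hr0.ne')).symm
    exact minpoly.exists_algEquiv_of_root' hint (by rw [hmin]; simp [mul_pow, hη, hρ])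
  obtain ⟨σ₁, hσ₁⟩ := trans _ hζΩ.pow_eq_one
  -- the kernel of the character
  have hker : ∀ σ : Ω ≃ₐ[K] Ω, σ ρ = ρ → φ σ = 0 := by
    intro σ hσ
    have hmem : σ ∈ Set.range fun x : (Ω ≃ₐ[K] Ω) × (Ω ≃ₐ[K] Ω) => x.1 ^ r * x.2 ^ r := by
      have hcl : IsClosed (Set.range fun x : (Ω ≃ₐ[K] Ω) × (Ω ≃ₐ[K] Ω) => x.1 ^ r * x.2 ^ r) :=
        (isCompact_range (by fun_prop)).isClosed
      refine hcl.closure_subset_iff.mpr subset_rfl (mem_closure_iff_nhds.mpr fun t ht => ?_)
      have h1 : (fun τ => σ * τ) ⁻¹' t ∈ nhds (1 : Ω ≃ₐ[K] Ω) :=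
        (continuous_const_mul σ).continuousAt.preimage_mem_nhds (by rwa [mul_one])
      obtain ⟨E, hE1, hE2, hE3⟩ := (krullTopology_mem_nhds_one_iff_of_normal K Ω _).mp h1
      let E' : IntermediateField K Ω := E ⊔ IntermediateField.normalClosure K (IntermediateField.adjoin K {ρ}) Ω
      haveI : FiniteDimensional K (IntermediateField.adjoin K {ρ}) :=
        IntermediateField.adjoin.finiteDimensional (Algebra.IsIntegral.isIntegral ρ)
      haveI : Normal K E' := IntermediateField.normal_sup K Ω E _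
      haveI : IsGalois K E' := { }
      have hρE : ρ ∈ E' := le_sup_right (α := IntermediateField K Ω)
        (IntermediateField.le_normalClosure _ (IntermediateField.mem_adjoin_simple_self K ρ))
      haveI : IsScalarTower R K E' := IsScalarTower.of_algebraMap_eq fun a => rfl
      obtain ⟨d, y, hdy⟩ := TameChar.exists_eq_pow_mul_pow R K E' hr0 hζ hζk (ρ := ⟨ρ, hρE⟩)
        (fun h => hρ0 (congrArg Subtype.val h)) ⟨ϖ, Subtype.ext hρ.symm⟩
        (σ₁ := AlgEquiv.restrictNormalHom E' σ₁)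
        (Subtype.ext ((AlgEquiv.restrictNormal_commutes σ₁ E' ⟨ρ, hρE⟩).trans hσ₁))
        (AlgEquiv.restrictNormalHom E' σ) (Subtype.ext ((AlgEquiv.restrictNormal_commutes σ E' ⟨ρ, hρE⟩).trans hσ))
      obtain ⟨d, rfl⟩ := AlgEquiv.restrictNormalHom_surjective (F := K) (K₁ := E') (E := Ω) d
      obtain ⟨y, rfl⟩ := AlgEquiv.restrictNormalHom_surjective (F := K) (K₁ := E') (E := Ω) y
      have hk : σ⁻¹ * (d ^ r * y ^ r) ∈ E'.fixingSubgroup := by
        rw [← IntermediateField.restrictNormalHom_ker, MonoidHom.mem_ker, map_mul, map_inv, map_mul, map_pow,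
          map_pow, hdy, inv_mul_cancel]
      have := hE3 (IntermediateField.fixingSubgroup_le (le_sup_left : E ≤ E') hk)
      rw [Set.mem_preimage, mul_inv_cancel_left] at this
      exact ⟨_, this, ⟨(d, y), rfl⟩⟩
    obtain ⟨⟨d, y⟩, rfl⟩ := hmem
    have hone : φ 1 = 0 := by simpa using hφ 1 1
    have hpow : ∀ (τ : Ω ≃ₐ[K] Ω) (n : ℕ), φ (τ ^ n) = n • φ τ := fun τ n => by
      induction n with
      | zero => simpa using hone
      | succ n ih => rw [pow_succ, hφ, ih, succ_nsmul]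
    rw [hφ, hpow, hpow, hM, hM, add_zero]
  choose s hs using trans
  have hwd : ∀ (η : ↥(rootsOfUnity r Ω)) (σ : Ω ≃ₐ[K] Ω), ((η : Ωˣ) : Ω) * ρ = σ ρ → φ σ = φ (s _ (hμ η)) := by
    intro η σ hσ
    have h1 : ((s _ (hμ η))⁻¹ * σ) ρ = ρ := by
      rw [AlgEquiv.mul_apply, ← hσ, ← hs _ (hμ η)]
      exact (s _ (hμ η)).symm_apply_apply ρ
    have := hφ (s _ (hμ η)) ((s _ (hμ η))⁻¹ * σ)
    rwa [mul_inv_cancel_left, hker _ h1, add_zero] at this
  refine ⟨fun η => φ (s _ (hμ η)), ⟨fun η ξ => ?_, fun σ η h => hwd η σ h⟩, fun u hu => ?_⟩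
  · show φ _ = φ _ + φ _
    rw [← hφ]
    refine (hwd (η * ξ) _ ?_).symm
    obtain ⟨a, ha⟩ := hroot _ (hμ ξ)
    rw [AlgEquiv.mul_apply, hs _ (hμ ξ), map_mul, hs _ (hμ η), ha, fixR, Subgroup.coe_mul, Units.val_mul, ha]
    ring
  · funext η
    exact (hu.2 _ η (hs _ (hμ η)).symm).symm

end Groth.Agent.S16232
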