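import Groth.Statements.S16238
import Groth.Agent.TorBridge.LES
import Mathlib

set_option autoImplicit false
universe u
open CategoryTheory
open CAlg

namespace Groth.Agent.S16238

/-- Let A be a Noetherian local ring, x_1, …, x_n a regular sequence on A (each x_i a non-zero-divisor
on A/(x_1, …, x_{i-1})) generating the ideal I, and J an ideal with I + J ≠ A. Then the images of
x_1, …, x_n form a regular sequence on A/J if and only if Tor_i^A(A/I, A/J) = 0 for all i ≥ 1 (in
degree 0 the Tor is A/(I + J) in any case). (The published statement does not ask the x_i to form a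
regular sequence on A itself; without this the equivalence fails, for instance for A = k[e]/(e²), n
= 1, x_1 = e and J = 0, where every higher Tor of A/(e) against the free module A vanishes although
e is a zero-divisor.) -/
theorem result (A : Type u) [CommRing A] [IsNoetherianRing A] [IsLocalRing A]
    (n : ℕ) (x : Fin n → A) (hx : RingTheory.Sequence.IsWeaklyRegular A (List.ofFn x))
    (J : Ideal A) (hIJ : Ideal.span (Set.range x) ⊔ J ≠ ⊤) :
    RingTheory.Sequence.IsWeaklyRegular (A ⧸ J) (List.ofFn (fun i : Fin n => Ideal.Quotient.mk J (x i))) ↔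
      ∀ i : ℕ, 1 ≤ i → Limits.IsZero (((Tor (ModuleCat.{u} A) i).obj
        (ModuleCat.of A (A ⧸ Ideal.span (Set.range x)))).obj (ModuleCat.of A (A ⧸ J))) := by
  classical
  let rs := List.ofFn x
  let I : ℕ → Ideal A := fun k => Ideal.ofList (rs.take k)
  have hlen : rs.length = n := List.length_ofFn
  have hIn : I n = Ideal.span (Set.range x) := by
    show Ideal.span {r | r ∈ rs.take n} = _
    rw [List.take_of_length_le (le_of_eq hlen)]
    congr 1
    ext r
    simp [rs, List.mem_ofFn]
  have hI0 : I 0 = ⊥ := by show Ideal.ofList [] = ⊥; exact Ideal.ofList_nil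
  have hIsucc : ∀ k (hk : k < rs.length), I (k + 1) = I k ⊔ Ideal.span {rs[k]} := fun k hk => by
    show Ideal.ofList (rs.take (k + 1)) = _
    rw [List.take_succ_eq_append_getElem hk, Ideal.ofList_append, Ideal.ofList_singleton]
  have hregA : ∀ k (hk : k < rs.length), ∀ a, rs[k] * a ∈ I k → a ∈ I k := fun k hk a ha => by
    have h := (isSMulRegular_quotient_iff_mem_of_smul_mem _ _).1 (((RingTheory.Sequence.isWeaklyRegular_iff A rs).1 hx) k hk) a
    rw [smul_eq_mul, smul_eq_mul, Ideal.mul_top] at h
    exact h ha
  have hregN : RingTheory.Sequence.IsWeaklyRegular (A ⧸ J) (List.ofFn fun i : Fin n => Ideal.Quotient.mk J (x i)) ↔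
      ∀ k (hk : k < rs.length), ∀ v : A ⧸ J, rs[k] • v ∈ (I k • ⊤ : Submodule A (A ⧸ J)) → v ∈ (I k • ⊤ : Submodule A (A ⧸ J)) := by
    rw [show (List.ofFn fun i : Fin n => Ideal.Quotient.mk J (x i)) = rs.map (algebraMap A (A ⧸ J)) from
      List.map_ofFn.symm, RingTheory.Sequence.isWeaklyRegular_map_algebraMap_iff,
      RingTheory.Sequence.isWeaklyRegular_iff]
    exact forall_congr' fun k => forall_congr' fun hk => isSMulRegular_quotient_iff_mem_of_smul_mem _ _
  have htor1 : ∀ K : Ideal A, Limits.IsZero (((Tor (ModuleCat.{u} A) 1).obj (ModuleCat.of A (A ⧸ K))).obj (ModuleCat.of A (A ⧸ J))) ↔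
      Function.Injective (K.subtype.rTensor (A ⧸ J)) := fun K => by
    have h := Groth.Agent.TorBridge.isZero_tor_one_iff (A ⧸ J) (A ⧸ K) (Submodule.mkQ K) (Submodule.mkQ_surjective K)
    rw [Submodule.ker_mkQ] at h
    exact h
  have hjac : ∀ k (hk : k < rs.length), rs[k] ∈ (⊥ : Ideal A).jacobson := fun k hk => by
    rw [IsLocalRing.jacobson_eq_maximalIdeal ⊥ bot_ne_top]
    refine IsLocalRing.le_maximalIdeal hIJ (Submodule.mem_sup_left (Ideal.subset_span ?_))
    exact List.mem_ofFn.1 (List.getElem_mem hk)
  rw [hregN]
  constructor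
  · intro hN
    have main : ∀ k, k ≤ rs.length → Function.Injective ((I k).subtype.rTensor (A ⧸ J)) ∧
        ∀ i, Limits.IsZero (((Tor (ModuleCat.{u} A) (i + 1)).obj (ModuleCat.of A (A ⧸ I k))).obj (ModuleCat.of A (A ⧸ J))) := by
      intro k
      induction k with
      | zero =>
        intro _
        haveI : Module.Flat A (A ⧸ I 0) := Module.Flat.of_linearEquiv
          (Submodule.quotEquivOfEqBot (I 0) hI0)
        refine ⟨(htor1 _).1 (Groth.Agent.TorBridge.isZero_tor_succ_of_flat _ _ 0), fun i => ?_⟩
        exact Groth.Agent.TorBridge.isZero_tor_succ_of_flat _ _ i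
      | succ k ih =>
        intro hk1
        have hk : k < rs.length := hk1
        obtain ⟨hinj, htor⟩ := ih hk.le
        have h1 : Function.Injective ((I (k + 1)).subtype.rTensor (A ⧸ J)) := by
          rw [hIsucc k hk]
          exact Groth.Agent.TorBridge.injective_sup_span (A ⧸ J) (I k) rs[k] hinj (hN k hk)
        refine ⟨h1, fun i => ?_⟩
        cases i with
        | zero => exact (htor1 _).2 h1
        | succ i =>
          let μ : (A ⧸ I k) →ₗ[A] A ⧸ I k := rs[k] • LinearMap.id
          have hle : I k ≤ I (k + 1) := (hIsucc k hk).ge.trans' le_sup_left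
          let pr : (A ⧸ I k) →ₗ[A] A ⧸ I (k + 1) := Submodule.factor hle
          have hmk : rs[k] ∈ I (k + 1) := (hIsucc k hk).ge (Submodule.mem_sup_right (Ideal.mem_span_singleton_self _))
          have hex : Function.Exact μ pr := fun v => by
            obtain ⟨a, rfl⟩ := Submodule.Quotient.mk_surjective _ v
            constructor
            · intro h
              have h' : a ∈ I (k + 1) := (Submodule.Quotient.mk_eq_zero _).1 h
              rw [hIsucc k hk] at h'
              obtain ⟨b, hb, c, hc, rfl⟩ := Submodule.mem_sup.1 h'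
              obtain ⟨d, rfl⟩ := Ideal.mem_span_singleton'.1 hc
              refine ⟨Submodule.Quotient.mk d, ?_⟩
              simp only [μ, LinearMap.smul_apply, LinearMap.id_apply]
              rw [← Submodule.Quotient.mk_smul, Submodule.Quotient.eq, smul_eq_mul, mul_comm]
              simpa using neg_mem hb
            · rintro ⟨w, hw⟩
              obtain ⟨d, rfl⟩ := Submodule.Quotient.mk_surjective _ w
              rw [← hw]
              show pr (rs[k] • Submodule.Quotient.mk d) = 0
              rw [← Submodule.Quotient.mk_smul]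
              exact (Submodule.Quotient.mk_eq_zero _).2 (Ideal.mul_mem_right _ _ hmk)
          refine Groth.Agent.TorBridge.isZero_tor_third (ShortComplex.mk (ModuleCat.ofHom μ) (ModuleCat.ofHom pr)
            (ModuleCat.hom_ext (LinearMap.ext fun v => (hex _).2 ⟨v, rfl⟩))) ?_ _ (i + 1) (htor (i + 1)) (htor i)
          exact
            { exact := (ShortComplex.ShortExact.moduleCat_exact_iff_function_exact _).2 hex
              mono_f := (ModuleCat.mono_iff_injective _).2 ((injective_iff_map_eq_zero μ).2 fun v hv => by
                obtain ⟨a, rfl⟩ := Submodule.Quotient.mk_surjective _ v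
                simp only [μ, LinearMap.smul_apply, LinearMap.id_apply] at hv
                rw [← Submodule.Quotient.mk_smul, Submodule.Quotient.mk_eq_zero] at hv
                exact (Submodule.Quotient.mk_eq_zero _).2 (hregA k hk a hv))
              epi_g := (ModuleCat.epi_iff_surjective _).2 (Submodule.factor_surjective hle) }
    intro i hi
    obtain ⟨i, rfl⟩ : ∃ j, i = j + 1 := ⟨i - 1, by omega⟩
    rw [← hIn]
    exact (main n hlen.ge).2 i
  · intro h k hk
    have hback : ∀ j, j ≤ rs.length → Function.Injective ((I (rs.length - j)).subtype.rTensor (A ⧸ J)) := by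
      intro j
      induction j with
      | zero =>
        intro _
        rw [Nat.sub_zero, hlen]
        refine (htor1 _).1 ?_
        rw [hIn]
        exact h 1 le_rfl
      | succ j ih =>
        intro hj
        have hlt : rs.length - (j + 1) < rs.length := by omega
        have h' := ih (by omega)
        rw [show rs.length - j = rs.length - (j + 1) + 1 by omega, hIsucc _ hlt] at h'
        exact (Groth.Agent.TorBridge.injective_of_sup_span (A ⧸ J) _ _ (hjac _ hlt) (hregA _ hlt) h').1
    have h' := hback (rs.length - (k + 1)) (by omega)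
    rw [show rs.length - (rs.length - (k + 1)) = k + 1 by omega, hIsucc k hk] at h'
    exact (Groth.Agent.TorBridge.injective_of_sup_span (A ⧸ J) _ _ (hjac k hk) (hregA k hk) h').2

end Groth.Agent.S16238
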