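import Groth.Statements.S16240
import Groth.Agent.KZ.LFRes
import Groth.Agent.CurveCohLib.SubBundle
set_option autoImplicit false
universe u
open CategoryTheory CategoryTheory.Limits AlgebraicGeometry
open Coh

namespace Groth.Agent.S16240

namespace Aux
open Groth.Agent Groth.Agent.KZ.LFRes

variable {X : Scheme.{u}}

theorem pdlt_first [IsLocallyNoetherian X] : ∀ (m n : ℕ) (E : ∀ i, i ≤ m + 1 → X.Modules)
    (d : ∀ i (h : i + 1 ≤ m + 1), E i (by omega) ⟶ E (i + 1) h)
    (_ : ∀ i (h : i + 2 ≤ m + 1), ∃ w : d i (by omega) ≫ d (i + 1) h = 0, (ShortComplex.mk (d i (by omega)) (d (i + 1) h) w).Exact)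
    (_ : Mono (d 0 (by omega))) (_ : Epi (d m le_rfl))
    (_ : ∀ i (h : i < m), FlatMod.IsFinLocFree (E (i + 1) (by omega)))
    (_ : PDLT (n + m + 1) (E (m + 1) le_rfl)), PDLT (n + 1) (E 0 (by omega)) := by
  intro m
  induction m with
  | zero =>
    intro n E d _ hm he _ hF
    haveI := hm; haveI := he
    haveI : IsIso (d 0 le_rfl) := isIso_of_mono_of_epi _
    exact hF.iso (asIso (d 0 le_rfl)).symm
  | succ m ih =>
    intro n E d hex hm he hE hF
    haveI := hm
    let d0 := d 0 (by omega)
    let C := cokernel d0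
    obtain ⟨w0, hw0⟩ := hex 0 (by omega)
    let a : C ⟶ E 2 (by omega) := cokernel.desc d0 (d 1 (by omega)) w0
    haveI hma : Mono a := hw0.mono_cokernelDesc
    let E' : ∀ i, i ≤ m + 1 → X.Modules := fun i h => match i, h with
      | 0, _ => C
      | i + 1, h => E (i + 2) (by omega)
    let d' : ∀ i (h : i + 1 ≤ m + 1), E' i (by omega) ⟶ E' (i + 1) h := fun i h => match i, h with
      | 0, _ => a
      | i + 1, h => d (i + 2) (by omega)
    have hC : PDLT (n + 1 + 1) C := by
      refine ih (n + 1) E' d' ?_ hma ?_ (fun i h => hE (i + 1) (by omega)) ?_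
      · intro i h
        rcases i with _ | i
        · obtain ⟨w, hw⟩ := hex 1 (by omega)
          have w' : a ≫ d 2 (by omega) = 0 := by
            rw [← cancel_epi (cokernel.π d0), comp_zero]
            simpa [a] using w
          refine ⟨w', ?_⟩
          let φ : ShortComplex.mk (d 1 (by omega)) (d 2 (by omega)) w ⟶ ShortComplex.mk a (d 2 (by omega)) w' :=
            ShortComplex.homMk (cokernel.π d0) (𝟙 _) (𝟙 _) (by simp [a]) (by simp)
          haveI : Epi φ.τ₁ := inferInstanceAs (Epi (cokernel.π d0))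
          haveI : IsIso φ.τ₂ := inferInstanceAs (IsIso (𝟙 _))
          haveI : Mono φ.τ₃ := inferInstanceAs (Mono (𝟙 _))
          exact (ShortComplex.exact_iff_of_epi_of_isIso_of_mono φ).1 hw
        · exact hex (i + 2) (by omega)
      · rcases m with _ | k
        · haveI := he
          exact epi_of_epi_fac (f := cokernel.π d0) (h := d 1 le_rfl) (cokernel.π_desc d0 _ w0)
        · exact he
      · exact (show n + (m + 1) + 1 = n + 1 + m + 1 by omega) ▸ hF
    let S := ShortComplex.mk d0 (cokernel.π d0) (cokernel.condition d0)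
    have hS : S.ShortExact :=
      .mk' (ShortComplex.exact_of_g_is_cokernel S (cokernelIsCokernel d0)) hm inferInstance
    exact PDLT.kernel_of hS ((pdlt_one_iff.2 (hE 0 (by omega))).mono (Nat.le_add_left 1 n)) hC

end Aux


/-- Let X be a Noetherian scheme all of whose local rings are regular, of (topological Krull) dimension
at most m, and let S be an exact sequence of O_X-modules G ⟶ E_m ⟶ ⋯ ⟶ E_1 ⟶ F with m + 2 terms (G
in position 0, F in position m + 1), injective at the first map and surjective at the last, in which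
F is coherent and E_1, …, E_m are finite locally free. Then G is finite locally free. (The source
asks for p + 1 vector bundles with p ≥ dim X − 1, i.e. at least dim X of them, and finite dimension;
here m bounds the dimension.) -/
theorem result (X : Scheme.{u}) [IsNoetherian X]
    (hreg : ∀ x : X, IsRegularLocalRing (X.presheaf.stalk x)) (m : ℕ)
    (hdim : topologicalKrullDim ↥X ≤ (m : WithBot ℕ∞))
    (S : ComposableArrows X.Modules (m + 1)) (hS : S.Exact)
    (hmono : Mono (S.map' 0 1 (Nat.zero_le 1) (Nat.le_add_left 1 m)))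
    (hepi : Epi (S.map' m (m + 1) (Nat.le_succ m) (le_refl (m + 1))))
    (hE : ∀ i : Fin m, FlatMod.IsFinLocFree (S.obj ⟨i.1 + 1, Nat.succ_lt_succ (Nat.lt_succ_of_lt i.2)⟩))
    (hF : Coh.IsCoh (S.obj (Fin.last (m + 1)))) :
    FlatMod.IsFinLocFree (S.obj 0) := by

    open Groth.Agent Groth.Agent.KZ.LFRes in
    refine pdlt_one_iff.1 (Aux.pdlt_first m 0 (fun i h => S.obj ⟨i, Nat.lt_succ_of_le h⟩)
      (fun i h => S.map' i (i + 1)) (fun i h => ⟨_, hS.exact i h⟩) hmono hepi
      (fun i h => hE ⟨i, h⟩) ⟨hF, fun x => ?_⟩)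
    haveI := hreg x
    haveI : Module.Finite (X.presheaf.stalk x) ↑((S.obj (Fin.last (m + 1))).presheaf.stalk x) :=
      Groth.Agent.QCoh.finite_stalk_of_isFT hF.1 hF.2 x
    have h1 : HasProjectiveDimensionLT (Groth.Agent.KZ.LFRes.stk (S.obj (Fin.last (m + 1))) x)
        ((IsLocalRing.maximalIdeal (X.presheaf.stalk x)).spanFinrank + 1) :=
      Groth.Agent.RegLoc6.pdLE_of_isRegularLocalRing (X.presheaf.stalk x) ↑((S.obj (Fin.last (m + 1))).presheaf.stalk x)
    have h2 := (Groth.Agent.CurveCohLib.ringKrullDim_stalk_le_topologicalKrullDim x).trans hdim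
    rw [← IsRegularLocalRing.spanFinrank_maximalIdeal] at h2
    have h3 : (IsLocalRing.maximalIdeal (X.presheaf.stalk x)).spanFinrank ≤ m := by exact_mod_cast h2
    exact @CategoryTheory.hasProjectiveDimensionLT_of_ge _ _ _ _
      ((IsLocalRing.maximalIdeal (X.presheaf.stalk x)).spanFinrank + 1) _ (by omega) h1

end Groth.Agent.S16240
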