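import Groth.Statements.S16242
import Groth.Agent.KZ.Node

set_option autoImplicit false
universe u
open CategoryTheory
open KZero

namespace Groth.Agent.S16242

open MvPolynomial in
lemma axis (k : Type u) [Field k] (i j : Fin 2) (hij : i ≠ j) :
    let R := MvPolynomial (Fin 2) k ⧸ Ideal.span {(X 0 * X 1 : MvPolynomial (Fin 2) k)}
    Nonempty ((R ⧸ Ideal.span {(Ideal.Quotient.mk _ (X i) : R)}) ≃+* Polynomial k) ∧
      (Ideal.Quotient.mk _ (X j) : R) ∉ Ideal.span {(Ideal.Quotient.mk _ (X i) : R)} := by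
  intro R
  let J := Ideal.span {(Ideal.Quotient.mk _ (X i) : R)}
  let v : Fin 2 → Polynomial k := fun l => if l = i then 0 else Polynomial.X
  let e0 : MvPolynomial (Fin 2) k →ₐ[k] Polynomial k := aeval v
  have h01 : v 0 * v 1 = 0 := by
    fin_cases i <;> simp [v]
  have he : ∀ a ∈ Ideal.span {(X 0 * X 1 : MvPolynomial (Fin 2) k)}, e0 a = 0 := by
    intro a ha
    obtain ⟨c, rfl⟩ := Ideal.mem_span_singleton'.1 ha
    simp [e0, h01]
  let e1 : R →ₐ[k] Polynomial k := Ideal.Quotient.liftₐ _ e0 he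
  have he1 : ∀ a ∈ J, e1 a = 0 := by
    intro a ha
    obtain ⟨c, rfl⟩ := Ideal.mem_span_singleton'.1 ha
    rw [map_mul]
    have : e1 (Ideal.Quotient.mk _ (X i)) = e0 (X i) := rfl
    rw [this]; simp [e0, v]
  let e2 : (R ⧸ J) →ₐ[k] Polynomial k := Ideal.Quotient.liftₐ _ e1 he1
  let g : Polynomial k →ₐ[k] R ⧸ J :=
    Polynomial.aeval (Ideal.Quotient.mk J (Ideal.Quotient.mk _ (X j)))
  have hv : v j = Polynomial.X := by simp [v, Ne.symm hij]
  have h1 : e2.comp g = AlgHom.id k _ := by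
    refine Polynomial.algHom_ext ?_
    simp only [AlgHom.comp_apply, g, Polynomial.aeval_X, AlgHom.id_apply]
    show e0 (X j) = Polynomial.X
    simp [e0, hv]
  have h2 : (g.comp e2).comp ((Ideal.Quotient.mkₐ k J).comp (Ideal.Quotient.mkₐ k _)) =
      ((Ideal.Quotient.mkₐ k J).comp (Ideal.Quotient.mkₐ k _)) := by
    refine MvPolynomial.algHom_ext fun l => ?_
    show g (e0 (X l)) = Ideal.Quotient.mk J (Ideal.Quotient.mk _ (X l))
    rw [show e0 (X l) = v l from aeval_X v l]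
    by_cases hl : l = i
    · subst hl
      simp only [v, if_pos rfl, map_zero]
      exact (Ideal.Quotient.eq_zero_iff_mem.2 (Ideal.mem_span_singleton_self _)).symm
    · have : l = j := by omega
      subst this
      simp [g, hv]
  have h3 : g.comp e2 = AlgHom.id k _ := by
    refine AlgHom.ext fun z => ?_
    obtain ⟨z, rfl⟩ := Ideal.Quotient.mk_surjective z
    obtain ⟨z, rfl⟩ := Ideal.Quotient.mk_surjective z
    exact DFunLike.congr_fun h2 z
  refine ⟨⟨(AlgEquiv.ofAlgHom e2 g h1 h3).toRingEquiv⟩, fun h => ?_⟩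
  have := he1 _ h
  change e0 (X j) = 0 at this
  simp [e0, hv] at this

/-- Let k be a field and A = k[x, y]/(xy) (polynomial ring in two variables x = X_0, y = X_1 modulo xy).
In the Grothendieck group of finitely generated A-modules (free abelian group on them modulo short
exact sequences), the classes of A/(x) ≅ k[y] and A/(y) ≅ k[x] form a basis: the homomorphism ℤ × ℤ
⟶ K₀ sending (a, b) to a·[A/(x)] + b·[A/(y)] is bijective. -/
theorem result (k : Type u) [Field k] :
    Function.Bijective (fun p : ℤ × ℤ =>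
      p.1 • KZero.clSub (fun M : ModuleCat.{u} (MvPolynomial (Fin 2) k ⧸ Ideal.span {(MvPolynomial.X 0 * MvPolynomial.X 1 : MvPolynomial (Fin 2) k)}) => Module.Finite (MvPolynomial (Fin 2) k ⧸ Ideal.span {(MvPolynomial.X 0 * MvPolynomial.X 1 : MvPolynomial (Fin 2) k)}) M)
          (ModuleCat.of (MvPolynomial (Fin 2) k ⧸ Ideal.span {(MvPolynomial.X 0 * MvPolynomial.X 1 : MvPolynomial (Fin 2) k)}) ((MvPolynomial (Fin 2) k ⧸ Ideal.span {(MvPolynomial.X 0 * MvPolynomial.X 1 : MvPolynomial (Fin 2) k)}) ⧸ Ideal.span {Ideal.Quotient.mk (Ideal.span {(MvPolynomial.X 0 * MvPolynomial.X 1 : MvPolynomial (Fin 2) k)}) (MvPolynomial.X 0)})) +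
        p.2 • KZero.clSub (fun M : ModuleCat.{u} (MvPolynomial (Fin 2) k ⧸ Ideal.span {(MvPolynomial.X 0 * MvPolynomial.X 1 : MvPolynomial (Fin 2) k)}) => Module.Finite (MvPolynomial (Fin 2) k ⧸ Ideal.span {(MvPolynomial.X 0 * MvPolynomial.X 1 : MvPolynomial (Fin 2) k)}) M)
          (ModuleCat.of (MvPolynomial (Fin 2) k ⧸ Ideal.span {(MvPolynomial.X 0 * MvPolynomial.X 1 : MvPolynomial (Fin 2) k)}) ((MvPolynomial (Fin 2) k ⧸ Ideal.span {(MvPolynomial.X 0 * MvPolynomial.X 1 : MvPolynomial (Fin 2) k)}) ⧸ Ideal.span {Ideal.Quotient.mk (Ideal.span {(MvPolynomial.X 0 * MvPolynomial.X 1 : MvPolynomial (Fin 2) k)}) (MvPolynomial.X 1)}))) := by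
  classical
  obtain ⟨⟨ex⟩, hy⟩ := axis k 0 1 (by decide)
  obtain ⟨⟨ey⟩, hx⟩ := axis k 1 0 (by decide)
  have := ex.toMulEquiv.isDomain _
  have := ey.toMulEquiv.isDomain _
  have := IsPrincipalIdealRing.of_surjective ex.symm.toRingHom ex.symm.surjective
  have := IsPrincipalIdealRing.of_surjective ey.symm.toRingHom ey.symm.surjective
  let I := Ideal.span {(MvPolynomial.X 0 * MvPolynomial.X 1 : MvPolynomial (Fin 2) k)}
  have hxy : (Ideal.Quotient.mk I (MvPolynomial.X 0)) * (Ideal.Quotient.mk I (MvPolynomial.X 1)) = 0 := by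
    rw [← map_mul]
    exact Ideal.Quotient.eq_zero_iff_mem.2 (Ideal.mem_span_singleton_self _)
  exact KZ.bijective_two_axes _ _ hxy hy hx

end Groth.Agent.S16242
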