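import Groth.Statements.S16243
import Mathlib
import Groth.Agent.NodeTor.Basic

set_option autoImplicit false
universe u
open CategoryTheory
open CAlg

namespace Groth.Agent.S16243

theorem quot_mem {R : Type*} [CommRing R] (I : Ideal R) (a b : R) (h : b ∣ a) :
    Ideal.Quotient.mk I a ∈ Ideal.span {Ideal.Quotient.mk I b} := by
  obtain ⟨c, rfl⟩ := h
  rw [map_mul]
  exact Ideal.mul_mem_right _ _ (Ideal.mem_span_singleton_self _)

theorem node_of_domain {R : Type*} [CommRing R] [IsDomain R] (X Y : R) (hX : Prime X) (hY : Prime Y)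
    (hXY : ¬ X ∣ Y) (hYX : ¬ Y ∣ X) :
    NodeTor.IsNode (Ideal.Quotient.mk (Ideal.span {X * Y}) X) (Ideal.Quotient.mk (Ideal.span {X * Y}) Y) := by
  refine ⟨?_, fun a b hab => ?_⟩
  · rw [← map_mul, Ideal.Quotient.eq_zero_iff_mem]; exact Ideal.mem_span_singleton_self _
  · obtain ⟨a, rfl⟩ := Ideal.Quotient.mk_surjective a
    obtain ⟨b, rfl⟩ := Ideal.Quotient.mk_surjective b
    rw [← map_mul, ← map_mul, ← map_add, Ideal.Quotient.eq_zero_iff_mem,
      Ideal.mem_span_singleton'] at hab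
    obtain ⟨c, hc⟩ := hab
    exact ⟨quot_mem _ _ _ ((hY.dvd_or_dvd (⟨c * X - b, by linear_combination -hc⟩ : Y ∣ a * X)).resolve_right hYX),
      quot_mem _ _ _ ((hX.dvd_or_dvd (⟨c * Y - a, by linear_combination -hc⟩ : X ∣ b * Y)).resolve_right hXY)⟩

theorem exists_hom (k : Type u) [Field k] (I : Ideal (MvPolynomial (Fin 2) k))
    (hI : I = Ideal.span {(MvPolynomial.X 0 * MvPolynomial.X 1 : MvPolynomial (Fin 2) k)}) (v : Fin 2 → k) (hv : v 0 * v 1 = 0) :
    ∃ φ : (MvPolynomial (Fin 2) k ⧸ I) →+* k,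
      ∀ p, φ (Ideal.Quotient.mk _ p) = MvPolynomial.eval v p :=
  ⟨Ideal.Quotient.lift _ (MvPolynomial.eval v) (fun a ha => by
    rw [hI] at ha
    obtain ⟨c, rfl⟩ := Ideal.mem_span_singleton'.1 ha
    rw [map_mul, map_mul, MvPolynomial.eval_X, MvPolynomial.eval_X, hv, mul_zero]), fun p => rfl⟩

theorem hom_mem_span {A B : Type*} [CommRing A] [CommRing B] [Nontrivial B] (φ : A →+* B) {a : A} {s : Set A}
    (hs : ∀ b ∈ s, φ b = 0) (ha : φ a = 1) : a ∉ Ideal.span s := fun h => by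
  have : Ideal.span s ≤ RingHom.ker φ := Ideal.span_le.2 hs
  exact one_ne_zero (ha.symm.trans (this h))


/-- Let k be a field, A = k[x, y]/(xy) (x = X_0, y = X_1) and κ = A/(x, y) the residue field at the
origin, viewed as an A-module. Then for every i ≥ 1 the A-module Tor_i^A(κ, κ) has length 2 (it is a
two-dimensional κ-vector space; Tor_0 is κ), and κ admits no finite projective resolution over A:
for no n is its projective dimension less than n. -/
theorem result (k : Type u) [Field k] :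
    (∀ i : ℕ, 1 ≤ i →
      Module.length (MvPolynomial (Fin 2) k ⧸ Ideal.span {(MvPolynomial.X 0 * MvPolynomial.X 1 : MvPolynomial (Fin 2) k)}) ((((Tor (ModuleCat.{u} (MvPolynomial (Fin 2) k ⧸ Ideal.span {(MvPolynomial.X 0 * MvPolynomial.X 1 : MvPolynomial (Fin 2) k)})) i).obj (ModuleCat.of (MvPolynomial (Fin 2) k ⧸ Ideal.span {(MvPolynomial.X 0 * MvPolynomial.X 1 : MvPolynomial (Fin 2) k)}) ((MvPolynomial (Fin 2) k ⧸ Ideal.span {(MvPolynomial.X 0 * MvPolynomial.X 1 : MvPolynomial (Fin 2) k)}) ⧸ Ideal.span {Ideal.Quotient.mk (Ideal.span {(MvPolynomial.X 0 * MvPolynomial.X 1 : MvPolynomial (Fin 2) k)}) (MvPolynomial.X 0), Ideal.Quotient.mk (Ideal.span {(MvPolynomial.X 0 * MvPolynomial.X 1 : MvPolynomial (Fin 2) k)}) (MvPolynomial.X 1)}))).obj (ModuleCat.of (MvPolynomial (Fin 2) k ⧸ Ideal.span {(MvPolynomial.X 0 * MvPolynomial.X 1 : MvPolynomial (Fin 2) k)}) ((MvPolynomial (Fin 2) k ⧸ Ideal.span {(MvPolynomial.X 0 * MvPolynomial.X 1 : MvPolynomial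 (Fin 2) k)}) ⧸ Ideal.span {Ideal.Quotient.mk (Ideal.span {(MvPolynomial.X 0 * MvPolynomial.X 1 : MvPolynomial (Fin 2) k)}) (MvPolynomial.X 0), Ideal.Quotient.mk (Ideal.span {(MvPolynomial.X 0 * MvPolynomial.X 1 : MvPolynomial (Fin 2) k)}) (MvPolynomial.X 1)}))) : Type u) = 2) ∧
    ∀ n : ℕ, ¬ HasProjectiveDimensionLT (ModuleCat.of (MvPolynomial (Fin 2) k ⧸ Ideal.span {(MvPolynomial.X 0 * MvPolynomial.X 1 : MvPolynomial (Fin 2) k)}) ((MvPolynomial (Fin 2) k ⧸ Ideal.span {(MvPolynomial.X 0 * MvPolynomial.X 1 : MvPolynomial (Fin 2) k)}) ⧸ Ideal.span {Ideal.Quotient.mk (Ideal.span {(MvPolynomial.X 0 * MvPolynomial.X 1 : MvPolynomial (Fin 2) k)}) (MvPolynomial.X 0), Ideal.Quotient.mk (Ideal.span {(MvPolynomial.X 0 * MvPolynomial.X 1 : MvPolynomial (Fin 2) k)}) (MvPolynomial.X 1)})) n := by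
  set I : Ideal (MvPolynomial (Fin 2) k) :=
    Ideal.span {(MvPolynomial.X 0 * MvPolynomial.X 1 : MvPolynomial (Fin 2) k)} with hI
  have hnd : ∀ i j : Fin 2, i ≠ j → ¬ (MvPolynomial.X i : MvPolynomial (Fin 2) k) ∣ MvPolynomial.X j :=
    fun i j hij ⟨c, hc⟩ => by
      have := congrArg (MvPolynomial.eval (Function.update (fun _ : Fin 2 => (1 : k)) i 0)) hc
      simp [Function.update_of_ne hij.symm] at this
  have hprime : ∀ i : Fin 2, Prime (MvPolynomial.X i : MvPolynomial (Fin 2) k) := fun i =>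
    MvPolynomial.X_prime
  have h : NodeTor.IsNode (Ideal.Quotient.mk I (MvPolynomial.X 0)) (Ideal.Quotient.mk I (MvPolynomial.X 1)) :=
    node_of_domain _ _ (hprime 0) (hprime 1) (hnd 0 1 (by decide)) (hnd 1 0 (by decide))
  obtain ⟨φ, hφ⟩ := exists_hom k I hI 0 (by simp)
  obtain ⟨φ₁, hφ₁⟩ := exists_hom k I hI ![1, 0] (by simp)
  obtain ⟨φ₂, hφ₂⟩ := exists_hom k I hI ![0, 1] (by simp)
  have hker : Ideal.span {Ideal.Quotient.mk I (MvPolynomial.X 0), Ideal.Quotient.mk I (MvPolynomial.X 1)} =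
      RingHom.ker φ := by
    refine le_antisymm (Ideal.span_le.2 ?_) fun a ha => ?_
    · rintro _ (rfl | rfl) <;> simp [SetLike.mem_coe, RingHom.mem_ker, hφ]
    · obtain ⟨p, rfl⟩ := Ideal.Quotient.mk_surjective a
      rw [RingHom.mem_ker, hφ] at ha
      have key : ∀ q : MvPolynomial (Fin 2) k, Ideal.Quotient.mk I (q - MvPolynomial.C (MvPolynomial.eval 0 q)) ∈
          Ideal.span {Ideal.Quotient.mk I (MvPolynomial.X 0), Ideal.Quotient.mk I (MvPolynomial.X 1)} := by
        intro q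
        induction q using MvPolynomial.induction_on with
        | C a => simp
        | add p q hp hq =>
          rw [map_add, map_add, show p + q - (MvPolynomial.C (MvPolynomial.eval 0 p) + MvPolynomial.C (MvPolynomial.eval 0 q))
            = (p - MvPolynomial.C (MvPolynomial.eval 0 p)) + (q - MvPolynomial.C (MvPolynomial.eval 0 q)) by ring, map_add]
          exact add_mem hp hq
        | mul_X p i _ =>
          rw [map_mul (MvPolynomial.eval _), MvPolynomial.eval_X, Pi.zero_apply, mul_zero,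
            MvPolynomial.C_0, sub_zero, map_mul]
          refine Ideal.mul_mem_left _ _ (Ideal.subset_span ?_)
          fin_cases i <;> simp
      have := key p
      rwa [ha, MvPolynomial.C_0, sub_zero] at this
  have hmax : (Ideal.span {Ideal.Quotient.mk I (MvPolynomial.X 0), Ideal.Quotient.mk I (MvPolynomial.X 1)}).IsMaximal := by
    rw [hker]
    exact RingHom.ker_isMaximal_of_surjective φ fun c => ⟨Ideal.Quotient.mk I (MvPolynomial.C c), by simp [hφ]⟩
  refine ⟨fun i hi => NodeTor.length_tor h i hi, NodeTor.not_hasProjectiveDimensionLT h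
    (hom_mem_span φ₁ ?_ (by simp [hφ₁])) (hom_mem_span φ₂ ?_ (by simp [hφ₂]))
    ((Ideal.ne_top_iff_one _).1 hmax.ne_top)⟩
  · rintro _ rfl; simp [hφ₁]
  · rintro _ rfl; simp [hφ₂]

end Groth.Agent.S16243
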