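import Groth.Statements.S16244
import Mathlib.RingTheory.RootsOfUnity.AlgebraicallyClosed
import Mathlib.RingTheory.IntegralDomain
import Mathlib.AlgebraicGeometry.EllipticCurve.NormalForms

set_option autoImplicit false
universe u
open Curves

namespace Groth.Agent.S16244

theorem smul_eq_iff {k : Type*} [Field k] (h2 : (2 : k) ≠ 0) (h3 : (3 : k) ≠ 0) (W : WeierstrassCurve k) [W.IsShortNF]
    (C : WeierstrassCurve.VariableChange k) :
    C • W = W ↔ C.r = 0 ∧ C.s = 0 ∧ C.t = 0 ∧ (C.u : k) ^ 4 * W.a₄ = W.a₄ ∧ (C.u : k) ^ 6 * W.a₆ = W.a₆ := by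
  have hu : ((C.u⁻¹ : kˣ) : k) ≠ 0 := Units.ne_zero _
  have hu4 : ∀ (n : ℕ) (a : k), ((C.u⁻¹ : kˣ) : k) ^ n * a = a ↔ (C.u : k) ^ n * a = a := by
    intro n a
    rw [Units.val_inv_eq_inv_val, inv_pow, inv_mul_eq_iff_eq_mul₀ (pow_ne_zero _ C.u.ne_zero)]
    exact eq_comm
  constructor
  · intro h
    rw [WeierstrassCurve.variableChange_def] at h
    have e1 := congrArg WeierstrassCurve.a₁ h
    have e2 := congrArg WeierstrassCurve.a₂ h
    have e3 := congrArg WeierstrassCurve.a₃ h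
    have e4 := congrArg WeierstrassCurve.a₄ h
    have e6 := congrArg WeierstrassCurve.a₆ h
    simp only [WeierstrassCurve.a₁_of_isShortNF, WeierstrassCurve.a₂_of_isShortNF, WeierstrassCurve.a₃_of_isShortNF,
      zero_add, mul_zero, sub_zero, add_zero, mul_eq_zero, hu, h2, h3, false_or, pow_eq_zero_iff, ne_eq,
      OfNat.ofNat_ne_zero, not_false_eq_true] at e1 e2 e3
    have hr : C.r = 0 := by
      rw [e1] at e2
      simpa [h3] using e2
    simp only [WeierstrassCurve.a₁_of_isShortNF, WeierstrassCurve.a₂_of_isShortNF, WeierstrassCurve.a₃_of_isShortNF,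
      e1, hr, e3, mul_zero, sub_zero, add_zero, ne_eq, OfNat.ofNat_ne_zero, not_false_eq_true, zero_pow, zero_mul] at e4 e6
    exact ⟨hr, e1, e3, (hu4 4 _).1 e4, (hu4 6 _).1 e6⟩
  · rintro ⟨hr, hs, ht, e4, e6⟩
    rw [← hu4] at e4 e6
    rw [WeierstrassCurve.variableChange_def]
    ext <;> simp [hr, hs, ht, e4, e6, -Units.val_inv_eq_inv_val, -inv_pow]


/-- Let k be an algebraically closed field in which 2 and 3 are nonzero, and W a short Weierstrass
equation y² = x³ + a₄x + a₆ over k with nonzero discriminant. The admissible changes of variables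
(u, r, s, t) that fix W form a cyclic group, of order 6 when a₄ = 0, of order 4 when a₆ = 0, and of
order 2 when a₄ and a₆ are both nonzero. (The published statement says the automorphism group of the
elliptic curve is cyclic of order 2, 4 or 6; the automorphisms are rendered here as the changes of
variables preserving the equation, and the case distinction is the one the computation gives.) -/
theorem result
    (k : Type u) [Field k] [IsAlgClosed k] (h2 : (2 : k) ≠ 0) (h3 : (3 : k) ≠ 0)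
    (W : WeierstrassCurve k) [W.IsShortNF] (hΔ : W.Δ ≠ 0) :
    IsCyclic ↥(MulAction.stabilizer (WeierstrassCurve.VariableChange k) W) ∧
      (W.a₄ = 0 → Nat.card ↥(MulAction.stabilizer (WeierstrassCurve.VariableChange k) W) = 6) ∧
      (W.a₆ = 0 → Nat.card ↥(MulAction.stabilizer (WeierstrassCurve.VariableChange k) W) = 4) ∧
      (W.a₄ ≠ 0 → W.a₆ ≠ 0 → Nat.card ↥(MulAction.stabilizer (WeierstrassCurve.VariableChange k) W) = 2) := by
  classical
  set G := MulAction.stabilizer (WeierstrassCurve.VariableChange k) W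
  let f : G →* kˣ := { toFun := fun C => C.1.u, map_one' := rfl, map_mul' := fun _ _ => rfl }
  have hmem : ∀ C : WeierstrassCurve.VariableChange k, C ∈ G ↔ _ :=
    fun C => MulAction.mem_stabilizer_iff.trans (smul_eq_iff h2 h3 W C)
  have hinj : Function.Injective f := fun C C' h => by
    obtain ⟨a1, a2, a3, -⟩ := (hmem _).1 C.2
    obtain ⟨b1, b2, b3, -⟩ := (hmem _).1 C'.2
    exact Subtype.ext (WeierstrassCurve.VariableChange.ext h (a1.trans b1.symm) (a2.trans b2.symm) (a3.trans b3.symm))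
  have hrange : ∀ u : kˣ, u ∈ f.range ↔ (u : k) ^ 4 * W.a₄ = W.a₄ ∧ (u : k) ^ 6 * W.a₆ = W.a₆ := by
    refine fun u => ⟨?_, fun h => ⟨⟨⟨u, 0, 0, 0⟩, (hmem _).2 ⟨rfl, rfl, rfl, h.1, h.2⟩⟩, rfl⟩⟩
    rintro ⟨C, rfl⟩
    exact ((hmem _).1 C.2).2.2.2
  have hne : W.a₄ ≠ 0 ∨ W.a₆ ≠ 0 := by
    by_contra! hc
    exact hΔ (by rw [WeierstrassCurve.Δ_of_isShortNF, hc.1, hc.2]; ring)
  have hcard : ∀ n : ℕ, (n : k) ≠ 0 → (∀ u : kˣ, u ∈ f.range ↔ (u : k) ^ n = 1) → Nat.card G = n := by
    intro n hn h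
    haveI : NeZero (n : k) := ⟨hn⟩
    haveI : NeZero n := NeZero.of_neZero_natCast k
    have e : f.range = rootsOfUnity n k := Subgroup.ext fun u => (h u).trans (mem_rootsOfUnity' _ _).symm
    rw [Nat.card_congr (MonoidHom.ofInjective hinj).toEquiv, e, HasEnoughRootsOfUnity.natCard_rootsOfUnity]
  have h6 : W.a₄ = 0 → Nat.card G = 6 := fun h0 => hcard 6 (by
      rw [show ((6 : ℕ) : k) = 2 * 3 by norm_num]; exact mul_ne_zero h2 h3) fun u => by
    rw [hrange, h0, mul_zero]
    simp [mul_eq_right₀ (hne.resolve_left (not_not.2 h0))]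
  have h4 : W.a₆ = 0 → Nat.card G = 4 := fun h0 => hcard 4 (by
      rw [show ((4 : ℕ) : k) = 2 * 2 by norm_num]; exact mul_ne_zero h2 h2) fun u => by
    rw [hrange, h0, mul_zero]
    simp [mul_eq_right₀ (hne.resolve_right (not_not.2 h0))]
  have h2' : W.a₄ ≠ 0 → W.a₆ ≠ 0 → Nat.card G = 2 := fun ha hb => hcard 2 (by exact_mod_cast h2) fun u => by
    rw [hrange, mul_eq_right₀ ha, mul_eq_right₀ hb]
    refine ⟨fun h => ?_, fun h => ⟨by linear_combination ((u : k) ^ 2 + 1) * h, by linear_combination ((u : k) ^ 4 + (u : k) ^ 2 + 1) * h⟩⟩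
    linear_combination h.2 - (u : k) ^ 2 * h.1
  refine ⟨?_, h6, h4, h2'⟩
  haveI : Finite G := Nat.finite_of_card_ne_zero (by
    by_cases ha : W.a₄ = 0
    · rw [h6 ha]; norm_num
    by_cases hb : W.a₆ = 0
    · rw [h4 hb]; norm_num
    rw [h2' ha hb]; norm_num)
  exact isCyclic_of_injective_ringHom ((Units.coeHom k).comp f) (Units.val_injective.comp hinj)

end Groth.Agent.S16244
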