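import Groth.Statements.S16246
import Groth.Agent.Lib.EllAutRigid

set_option autoImplicit false
set_option backward.isDefEq.respectTransparency false
set_option backward.isDefEq.respectTransparency.types false
set_option linter.style.haveILetI false
set_option linter.unusedSectionVars false
set_option maxHeartbeats 400000
universe u
open CategoryTheory CategoryTheory.Limits AlgebraicGeometry MonObj
open AgPol

namespace Groth.Agent.S16246

/-- Let S be a connected scheme and E an S-group scheme which is smooth and proper over S with
geometrically connected fibres of dimension one (a family of elliptic curves over S with its group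
law). Let G ⊆ E be a closed subgroup scheme which is finite, flat and locally of finite presentation
over S of constant rank N with N ≥ 5, and let ε be an automorphism of the S-group scheme E. Then the
restriction of ε to G is the identity of G exactly when ε is the identity of E. -/
theorem result
    {S : Scheme.{u}} [ConnectedSpace S] (E : Over S) [GrpObj E] (hE : AgPol.IsAbSch E 1)
    (G : Over S) [GrpObj G] (i : G ⟶ E) [IsMonHom i] [IsClosedImmersion i.left]
    [IsFinite G.hom] [Flat G.hom] [LocallyOfFinitePresentation G.hom]
    (N : ℕ) (hN : 5 ≤ N) (hrk : ∀ s : S, G.hom.finrank s = N)
    (ε : E ≅ E) [IsMonHom ε.hom] :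
    i ≫ ε.hom = i ↔ ε.hom = 𝟙 E := by
  haveI := hE.smooth
  haveI := hE.proper
  haveI := hE.geomConnected
  refine ⟨fun h => Groth.Agent.EllAutRigid.eq_id_of_family E (fun s => by simpa using hE.fibreDim s) G i
    (fun s => hN.trans (hrk s).ge) ε h, fun h => by rw [h, Category.comp_id]⟩

end Groth.Agent.S16246
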