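import Groth.Statements.S16247
import Groth.Agent.RelCurveDiv.Main
import Groth.Agent.PicTangent.JacDeg
import Groth.Agent.Lib.GrpSubgroupLocus
import Mathlib.AlgebraicGeometry.ZariskisMainTheorem

set_option autoImplicit false
set_option backward.isDefEq.respectTransparency false
set_option backward.isDefEq.respectTransparency.types false
set_option linter.style.haveILetI false
set_option linter.unusedSectionVars false
set_option maxHeartbeats 400000
universe u
open CategoryTheory CategoryTheory.Limits AlgebraicGeometry MonObj
open AgPol

namespace Groth.Agent.S16247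

/-- Let E be an S-group scheme which is smooth and proper over S with geometrically connected fibres of
dimension one (a family of elliptic curves over S with its group law), and let D ⊆ E be an effective
Cartier divisor with ideal sheaf 𝓓 such that D is flat over S (a relative effective Cartier divisor
on E/S). Then there is a closed subscheme Z ⊆ S such that a morphism g : T → S factors through Z
exactly when the pulled-back closed subscheme D_T ⊆ E_T is a subgroup scheme of E_T over T, that is,
when for every scheme T' over T the T'-valued points of E (over S) that factor through D form a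
subgroup of the group of all T'-valued points. This universal property determines Z, and
compatibility of Z with base change follows from it. -/
theorem result
    {S : Scheme.{u}} (E : Over S) [GrpObj E] (hE : AgPol.IsAbSch E 1)
    (𝓓 : E.left.IdealSheafData) (hD : BlowUp.IsEffCartierIdeal 𝓓) [Flat (𝓓.subschemeι ≫ E.hom)] :
    ∃ 𝓩 : S.IdealSheafData, ∀ (T : Scheme.{u}) (g : T ⟶ S),
      (∃ t : T ⟶ 𝓩.subscheme, t ≫ 𝓩.subschemeι = g) ↔
        ∀ (T' : Scheme.{u}) (a : T' ⟶ T), ∃ H : Subgroup (Over.mk (a ≫ g) ⟶ E),
          (H : Set (Over.mk (a ≫ g) ⟶ E)) =
            {x | ∃ d : T' ⟶ 𝓓.subscheme, d ≫ 𝓓.subschemeι = x.left} := by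
  haveI := hE.smooth
  haveI := hE.proper
  haveI := hE.geomConnected
  haveI : SmoothOfRelativeDimension 1 E.hom :=
    PicTangent.JacDeg.smoothOfRelativeDimension_one E.hom (fun s => by exact_mod_cast hE.fibreDim s)
  obtain ⟨hqf, hfp⟩ := RelCurveDiv.quasiFinite_fp_of_isEffCartier E.hom 𝓓 hD inferInstance
  haveI := hqf
  haveI := hfp
  haveI hfinD : IsFinite (𝓓.subschemeι ≫ E.hom) := IsFinite.of_isProper_of_locallyQuasiFinite _
  exact Groth.Agent.GrpSubgroupLocus.closed_subgroup_locus E 𝓓.subschemeι

end Groth.Agent.S16247
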