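import Groth.Statements.S16249
import Groth.Agent.EllLaw.Base
-- import your own Groth.Agent.* helpers here

set_option autoImplicit false
set_option linter.style.haveILetI false
set_option backward.isDefEq.respectTransparency false
set_option backward.isDefEq.respectTransparency.types false
universe u
open CategoryTheory CategoryTheory.Limits AlgebraicGeometry
open PicF

namespace Groth.Agent.S16249

open Groth.Agent Groth.Agent.EllLaw Groth.Agent.H23 Groth.Agent.PicTangent
open scoped Groth.Agent.H23.PicMul

attribute [local instance] PicMul.clMonoid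

/-- Let f : E → S be a family of elliptic curves: f is proper and smooth of relative dimension one with
geometrically connected fibres whose structure sheaf has Euler characteristic 0 (genus one), and σ
is a section of f. Then for every invertible O_E-module L whose restriction to every fibre of f has
degree zero (Euler characteristic equal to that of the structure sheaf of the fibre) there is
exactly one section P of f such that L ⊗ I_P ≅ I_σ ⊗ f^*M for some invertible O_S-module M, where
I_P and I_σ are the ideal sheaves of the closed subschemes P(S) and σ(S) of E. In other words P ↦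
O(P − σ) is a bijection from E(S) onto the classes of fibrewise-degree-zero invertible modules
modulo modules pulled back from S. (The published statement goes on to say that E is thereby an
S-group scheme, with P + Q = R exactly when O(P) ⊗ O(Q) ⊗ O(−σ) ≅ O(R) ⊗ f^*M for some invertible M
on the base — its printed formula has O(−R), a misprint — ; that transport of the group structure is
not part of this statement.) -/
theorem result
    {E S : Scheme.{u}} (f : E ⟶ S) [IsProper f] [SmoothOfRelativeDimension 1 f]
    (hc : GeometricallyConnected f)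
    (hg : ∀ s : S, @FGA.eulerCharLE (S.residueField s) _ (f.fiber s) (f.fiberOverSpecResidueField s)
      (Coh.structureModule (f.fiber s)) 1 = 0)
    (σ : S ⟶ E) (hσ : σ ≫ f = 𝟙 S)
    (L : E.Modules) (hL : PicF.IsInvertible L)
    (hL0 : ∀ s : S, @FGA.eulerCharLE (S.residueField s) _ (f.fiber s) (f.fiberOverSpecResidueField s)
      ((Scheme.Modules.pullback (f.fiberι s)).obj L) 1 = 0) :
    ∃! P : S ⟶ E, P ≫ f = 𝟙 S ∧ ∃ M : S.Modules, PicF.IsInvertible M ∧
      Nonempty (CohB1.tensorMod L (ClSub.idealMod P.ker) ≅
        CohB1.tensorMod (ClSub.idealMod σ.ker) ((Scheme.Modules.pullback f).obj M)) := by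
  haveI := hc
  have hg1 := genus_one f hg
  let T : Over S := self
  let q := selfIso f
  obtain ⟨a, ha, hu⟩ := existsUnique_point f hg1 σ hσ (T := T) (c := PicF.pullCl q (PicF.cl L))
    ⟨_, rfl, PicClLib.isInvertible_pullback q hL⟩ (fun Ω _ _ τ => deg0_of_euler f hg hL hL0 τ)
  have ho : Elliptic.origin f σ hσ T = pointOf f σ hσ :=
    Over.OverMorphism.ext (Category.id_comp σ)
  have key : ∀ (P : S ⟶ E) (hP : P ≫ f = 𝟙 S),
      (∃ M : S.Modules, PicF.IsInvertible M ∧
        Nonempty (CohB1.tensorMod L (ClSub.idealMod P.ker) ≅
          CohB1.tensorMod (ClSub.idealMod σ.ker) ((Scheme.Modules.pullback f).obj M))) ↔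
      Rel f T (PicF.pullCl q (PicF.cl L) * JacDiff.pt f T (pointOf f P hP))
        (JacDiff.pt f T (Elliptic.origin f σ hσ T)) := by
    intro P hP
    rw [ho, ← pull_pt_self f P hP, ← pull_pt_self f σ hσ, ← PicMul.pullCl_mul]
    constructor
    · rintro ⟨M, hM, hi⟩
      refine ⟨M, hM, ?_⟩
      rw [proj_self, ← PicClLib.pullCl_comp, ← PicMul.pullCl_mul]
      refine congrArg (PicF.pullCl (selfIso f)) ?_
      rw [← PicMul.cl_tensor]
      refine Eq.trans ?_ (PicMul.cl_tensor _ _)
      exact PicMul.cl_eq_iff.2 hi
    · rintro ⟨M, hM, h⟩
      rw [proj_self, ← PicClLib.pullCl_comp, ← PicMul.pullCl_mul] at h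
      have h' := pullCl_self_injective f h
      rw [← PicMul.cl_tensor] at h'
      exact ⟨M, hM, PicMul.cl_eq_iff.1 (h'.trans (PicMul.cl_tensor _ _).symm)⟩
  have haf : a.left ≫ f = 𝟙 S := Over.w a
  refine ⟨a.left, ⟨haf, (key a.left haf).2 ?_⟩, fun P hP => ?_⟩
  · exact ha
  · exact congrArg (fun m : T ⟶ Over.mk f => m.left) (hu (pointOf f P hP.1) ((key P hP.1).1 hP.2))

end Groth.Agent.S16249
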