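import Groth.Statements.S16250
import Groth.Agent.EllLaw.Law
-- import your own Groth.Agent.* helpers here

set_option autoImplicit false
set_option linter.style.haveILetI false
set_option backward.isDefEq.respectTransparency false
set_option backward.isDefEq.respectTransparency.types false
universe u
open CategoryTheory CategoryTheory.Limits AlgebraicGeometry MonObj
open AgPol

namespace Groth.Agent.S16250

open Groth.Agent Groth.Agent.EllLaw Groth.Agent.H23 Groth.Agent.PicTangent
open scoped Groth.Agent.H23.PicMul

attribute [local instance] PicMul.clMonoid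

/-- Let f : E → S be a family of elliptic curves: proper, smooth of relative dimension one, with
geometrically connected fibres whose structure sheaf has Euler characteristic 0 (genus one),
together with a section σ. Then E, regarded over S, carries one and only one structure of S-group
scheme whose multiplication on T-valued points (T any S-scheme) is characterised by: P·Q = R if and
only if I_P ⊗ I_Q ≅ I_R ⊗ I_{σ_T} ⊗ q^*M on E_T = E ×_S T for some invertible O_T-module M, where q
: E_T → T is the projection, I_P denotes the ideal sheaf of the section of q induced by P, and σ_T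
is the section induced by σ; in divisor notation O(P) ⊗ O(Q) ⊗ O(−σ) ≅ O(R) up to a module pulled
back from T. (The published display of this relation carries O(−R) instead of O(R), a misprint: the
fibre degrees would be 1 and −1.) -/
theorem result
    {E S : Scheme.{u}} (f : E ⟶ S) [IsProper f] [SmoothOfRelativeDimension 1 f]
    (hc : GeometricallyConnected f)
    (hg : ∀ s : S, @FGA.eulerCharLE (S.residueField s) _ (f.fiber s) (f.fiberOverSpecResidueField s)
      (Coh.structureModule (f.fiber s)) 1 = 0)
    (σ : S ⟶ E) (hσ : σ ≫ f = 𝟙 S) :
    ∃! g : GrpObj (Over.mk f), ∀ (T : Over S) (P Q R : T ⟶ Over.mk f),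
      P * Q = R ↔ ∃ M : T.left.Modules, PicF.IsInvertible M ∧
        Nonempty (CohB1.tensorMod
            (ClSub.idealMod (pullback.lift P.left (𝟙 T.left)
              ((Over.w P).trans (Category.id_comp T.hom).symm) : T.left ⟶ PicF.XT f T).ker)
            (ClSub.idealMod (pullback.lift Q.left (𝟙 T.left)
              ((Over.w Q).trans (Category.id_comp T.hom).symm) : T.left ⟶ PicF.XT f T).ker) ≅
          CohB1.tensorMod (CohB1.tensorMod
            (ClSub.idealMod (pullback.lift R.left (𝟙 T.left)
              ((Over.w R).trans (Category.id_comp T.hom).symm) : T.left ⟶ PicF.XT f T).ker)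
            (ClSub.idealMod (PicF.secT f σ hσ T).ker))
            ((Scheme.Modules.pullback (PicF.XTproj f T)).obj M)) := by
  haveI := hc
  have hg1 := genus_one f hg
  let g₀ := grpObj f hg1 σ hσ
  have key : ∀ (T : Over S) (P Q R : T ⟶ Over.mk f), add f hg1 σ hσ P Q = R ↔
      ∃ M : T.left.Modules, PicF.IsInvertible M ∧
        Nonempty (CohB1.tensorMod
            (ClSub.idealMod (pullback.lift P.left (𝟙 T.left)
              ((Over.w P).trans (Category.id_comp T.hom).symm) : T.left ⟶ PicF.XT f T).ker)
            (ClSub.idealMod (pullback.lift Q.left (𝟙 T.left)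
              ((Over.w Q).trans (Category.id_comp T.hom).symm) : T.left ⟶ PicF.XT f T).ker) ≅
          CohB1.tensorMod (CohB1.tensorMod
            (ClSub.idealMod (pullback.lift R.left (𝟙 T.left)
              ((Over.w R).trans (Category.id_comp T.hom).symm) : T.left ⟶ PicF.XT f T).ker)
            (ClSub.idealMod (PicF.secT f σ hσ T).ker))
            ((Scheme.Modules.pullback (PicF.XTproj f T)).obj M)) := by
    intro T P Q R
    rw [add_eq_iff]
    refine exists_congr fun M => and_congr_right fun _ => ?_
    rw [← PicMul.cl_eq_iff, PicMul.cl_tensor, PicMul.cl_tensor, PicMul.cl_tensor]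
    exact Iff.rfl
  refine ⟨g₀, fun T P Q R => ?_, fun g' hg' => ?_⟩
  · rw [show @HMul.hMul _ _ _ _ P Q = add f hg1 σ hσ P Q from grpObj_mul f hg1 σ hσ P Q]
    exact key T P Q R
  · have hmul : ∀ (T : Over S) (P Q : T ⟶ Over.mk f),
        (letI := g'; P * Q) = (letI := g₀; P * Q) := fun T P Q =>
      (hg' T P Q _).2 (((key T P Q _)).1 (grpObj_mul f hg1 σ hσ P Q).symm)
    have hμ : g'.toMonObj.mul = g₀.toMonObj.mul := by
      have h := hmul _ (CartesianMonoidalCategory.fst (Over.mk f) (Over.mk f))
        (CartesianMonoidalCategory.snd (Over.mk f) (Over.mk f))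
      simpa [Hom.mul_def, CartesianMonoidalCategory.lift_fst_snd] using h
    exact GrpObj.ext _ _ (MonObj.ext _ _ hμ)

end Groth.Agent.S16250
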