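import Groth.Statements.S16251
import Groth.Agent.EtFound.NoethConstr
-- import your own Groth.Agent.* helpers here

set_option autoImplicit false
open CategoryTheory CategoryTheory.Limits AlgebraicGeometry Opposite
universe u
open EtPBC

namespace Groth.Agent.S16251

/-- Let ℓ be a prime, X a locally Noetherian scheme and F = (F_n) an ℓ-adic projective system of abelian
sheaves on the small étale site of X, indexed from 0 (so ℓ^(n+1) F_n = 0 and, for n ≤ m, the
transition map F_m ⟶ F_n is a quotient map modulo ℓ^(n+1)). If the first member F_0 is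
constructible, then every member F_n is constructible. (The converse is trivial. The published
statement indexes the system from 1, with ℓ^n killing the n-th member; the statement here indexes it
from 0.) -/
theorem result (ℓ : ℕ) [Fact ℓ.Prime]
    (X : Scheme.{u}) [IsLocallyNoetherian X]
    (F : ARSys.PS (EtCoh.Ab X)) (hF : ARSys.IsAdic (Ideal.span {(ℓ : ℤ)}) F)
    (h0 : EtPBC.IsConstructible (F.obj (op 0))) (n : ℕ) :
    EtPBC.IsConstructible (F.obj (op n)) := by
  induction n with
  | zero => exact h0
  | succ k ih =>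
    let J : Ideal ℤ := Ideal.span {(ℓ : ℤ)}
    let a : ℤ := (ℓ : ℤ) ^ (k + 1)
    let ε := ARSys.tr F (Nat.zero_le (k + 1))
    let q := ARSys.tr F (Nat.le_succ k)
    have hε := hF.2 0 (k + 1) (Nat.zero_le _)
    have hq := hF.2 k (k + 1) (Nat.le_succ k)
    have ha : a ∈ J ^ (k + 1) := Ideal.pow_mem_pow (Ideal.mem_span_singleton_self _) _
    have : Epi ε := ⟨fun {Z} g g' e => (hε.2 Z (ε ≫ g) fun b hb => by
      have := hε.1 b hb
      rw [← Linear.comp_smul, ← Category.id_comp g, ← Linear.smul_comp, this, zero_comp, comp_zero]).unique rfl e.symm⟩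
    obtain ⟨ψ, hψ, -⟩ := hε.2 _ (a • 𝟙 (F.obj (op (k + 1)))) fun b hb => by
      rw [smul_smul]
      refine hF.1 (k + 1) _ ?_
      rw [pow_succ' (n := k + 1)]
      exact Ideal.mul_mem_mul (by simpa using hb) ha
    have hψq : ψ ≫ q = 0 := by
      have h1 : ε ≫ ψ ≫ q = 0 := by
        rw [← Category.assoc]
        refine (congrArg (· ≫ q) hψ).trans ?_
        rw [Linear.smul_comp, Category.id_comp, ← Category.comp_id q, ← Linear.comp_smul, hF.1 k a ha, comp_zero]
      exact (cancel_epi ε).1 (h1.trans comp_zero.symm)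
    have hkill : ∀ {Z} (g : F.obj (op (k + 1)) ⟶ Z), ψ ≫ g = 0 → ARSys.HomKilledBy (J ^ (k + 1)) g := fun g hg b hb => by
      obtain ⟨c, rfl⟩ : ∃ c, b = c * a := by
        rw [Ideal.span_singleton_pow, Ideal.mem_span_singleton'] at hb
        obtain ⟨c, hc⟩ := hb
        exact ⟨c, hc.symm⟩
      rw [← smul_smul, ← Category.id_comp g, ← Linear.smul_comp, ← hψ, Category.assoc, hg, comp_zero, smul_zero]
    have : Epi q := ⟨fun {Z} g g' e => (hq.2 Z (q ≫ g) fun b hb => by
      have := hq.1 b hb
      rw [← Linear.comp_smul, ← Category.id_comp g, ← Linear.smul_comp, this, zero_comp, comp_zero]).unique rfl e.symm⟩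
    have hc : IsColimit (CokernelCofork.ofπ q hψq) :=
      CokernelCofork.IsColimit.ofπ' q hψq fun {Z} g hg =>
        ⟨(hq.2 Z g (hkill g hg)).exists.choose, (hq.2 Z g (hkill g hg)).exists.choose_spec⟩
    let S := ShortComplex.mk (image.ι ψ) (cokernel.π (image.ι ψ)) (cokernel.condition _)
    have hS : S.ShortExact := .mk' (ShortComplex.exact_of_g_is_cokernel _ (cokernelIsCokernel _)) inferInstance inferInstance
    refine EtFound.isConstructible_of_extension hS (EtFound.isConstructible_of_epi h0 (factorThruImage ψ)) ?_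
    have hιq : image.ι ψ ≫ q = 0 := (cancel_epi (factorThruImage ψ)).1 (by rw [image.fac_assoc, hψq, comp_zero])
    have hψc : ψ ≫ cokernel.π (image.ι ψ) = 0 := by
      refine (congrArg (· ≫ cokernel.π (image.ι ψ)) (image.fac ψ).symm).trans ?_
      exact (Category.assoc _ _ _).trans ((congrArg (factorThruImage ψ ≫ ·) (cokernel.condition _)).trans comp_zero)
    let e : F.obj (op k) ≅ cokernel (image.ι ψ) :=
      { hom := hc.desc (CokernelCofork.ofπ _ hψc)
        inv := cokernel.desc _ q hιq
        hom_inv_id := (cancel_epi q).1 (by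
          rw [← Category.assoc]
          refine (congrArg (· ≫ cokernel.desc _ q hιq) (hc.fac (CokernelCofork.ofπ _ hψc) WalkingParallelPair.one)).trans ?_
          exact (cokernel.π_desc _ _ _).trans (Category.comp_id _).symm)
        inv_hom_id := (cancel_epi (cokernel.π (image.ι ψ))).1 (by
          rw [cokernel.π_desc_assoc]
          exact (hc.fac (CokernelCofork.ofπ _ hψc) WalkingParallelPair.one).trans (Category.comp_id _).symm) }
    have : Epi e.hom := @IsIso.epi_of_iso _ _ _ _ e.hom e.isIso_hom
    exact EtFound.isConstructible_of_epi ih e.hom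

end Groth.Agent.S16251
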