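import Groth.Statements.S16253
import Groth.Agent.OmegaEmb16.Alg
import Groth.Agent.FittX.Sheaf
import Groth.Agent.OmegaUniv.Unram
-- import your own Groth.Agent.* helpers here

set_option autoImplicit false
set_option backward.isDefEq.respectTransparency false
set_option backward.isDefEq.respectTransparency.types false
universe u
open CategoryTheory CategoryTheory.Limits AlgebraicGeometry TopologicalSpace
open SDiv

namespace Groth.Agent.S16253
open Groth.Agent

/-- Let f : X ⟶ Y be locally of finite presentation and quasi-separated and p ≥ 0, and let J^p(X/Y) ⊆ X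
be the closed subset cut out by the p-th Fitting ideal of the module of differentials Ω_{X/Y} (the
p-th Jacobian locus). Then a point x of X lies outside J^p(X/Y) if and only if x has an open
neighbourhood U admitting a closed immersion over Y into a Y-scheme U' which is smooth of relative
dimension p over Y. (The published statement takes f of finite presentation and asks U' smooth over
Y with fibre dimension p at x; after shrinking U' this is smoothness of relative dimension p.
Quasi-separatedness of f is assumed because the module Ω_{X/Y} used here is defined for such f.) -/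
theorem result
    {X Y : Scheme.{u}} (f : X ⟶ Y) [LocallyOfFinitePresentation f] [QuasiSeparated f] (p : ℕ) (x : ↥X) :
    x ∉ (Fitt.sheafIdeal (Omega.sheaf f) p).support ↔
      ∃ (U : X.Opens) (U' : Scheme.{u}) (i : (U : Scheme.{u}) ⟶ U') (g : U' ⟶ Y),
        x ∈ U ∧ IsClosedImmersion i ∧ SmoothOfRelativeDimension p g ∧ i ≫ g = U.ι ≫ f := by
  have hM := OmegaUniv.isQCoh_omega f
  have hft := OmegaUniv.isFT_omega f
  constructor
  · intro hx
    obtain ⟨U, hU, V, hV, hxU, e⟩ := Synt29.OmegaStalk.exists_charts f x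
    have := QCoh.finite_of_isFT hM hft hU
    rw [FittX.mem_support_sheafIdeal hM hft p hU hxU] at hx
    obtain ⟨d₀, hd₀, -, g, hg⟩ := FittX.exists_smul_mem_span hx
    let _ := (f.appLE V U e).hom.toAlgebra
    have : Algebra.FiniteType Γ(Y, V) Γ(X, U) := by
      rw [← RingHom.finiteType_algebraMap, RingHom.algebraMap_toAlgebra]
      exact LocallyOfFiniteType.finiteType_appLE f hV hU e
    obtain ⟨l⟩ := Synt29.OmegaStalk.exists_linearEquiv_sections (OmegaUniv.isUniversal_dOmega f) hU hV e
    obtain ⟨d, C, _, _, hd, hC, φ, hφ⟩ := OmegaEmb16.exists_surjection (A := Γ(Y, V))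
      (hU.primeIdealOf ⟨x, hxU⟩).asIdeal p d₀ hd₀ (fun i => l (g i)) (fun y => by
        have h : l (d₀ • l.symm y) ∈ (Submodule.span Γ(X, U) (Set.range g)).map l.toLinearMap :=
          Submodule.mem_map_of_mem (hg (l.symm y))
        rw [map_smul, LinearEquiv.apply_symm_apply, Submodule.map_span, ← Set.range_comp] at h
        exact h)
    let W := X.basicOpen d
    have hW : IsAffineOpen W := hU.basicOpen d
    let _ : Algebra Γ(X, U) Γ(X, W) := (X.presheaf.map (homOfLE (X.basicOpen_le d)).op).hom.toAlgebra
    have : IsLocalization.Away d Γ(X, W) := hU.isLocalization_basicOpen d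
    let e₁ := IsLocalization.algEquiv (Submonoid.powers d) (Localization.Away d) Γ(X, W)
    let φ' : CommRingCat.of C ⟶ Γ(X, W) := CommRingCat.ofHom (e₁.toRingEquiv.toRingHom.comp φ.toRingHom)
    have hφ' : Function.Surjective φ'.hom := e₁.surjective.comp hφ
    have : IsClosedImmersion (Spec.map φ') := IsClosedImmersion.spec_of_surjective _ hφ'
    let α : Γ(Y, V) ⟶ CommRingCat.of C := CommRingCat.ofHom (algebraMap Γ(Y, V) C)
    have hα : SmoothOfRelativeDimension p (Spec.map α) := by
      rw [HasRingHomProperty.Spec_iff (P := @SmoothOfRelativeDimension p)]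
      refine RingHom.locally_of RingHom.isStandardSmoothOfRelativeDimension_respectsIso _ ?_
      rw [CommRingCat.hom_ofHom, RingHom.isStandardSmoothOfRelativeDimension_algebraMap]
      exact hC
    have hcomp : α ≫ φ' = f.appLE V W ((X.basicOpen_le d).trans e) := by
      refine CommRingCat.hom_ext (RingHom.ext fun a => ?_)
      show e₁ (φ (algebraMap Γ(Y, V) C a)) = _
      rw [φ.commutes, IsScalarTower.algebraMap_apply Γ(Y, V) Γ(X, U) (Localization.Away d), e₁.commutes,
        ← Scheme.Hom.appLE_map f e (homOfLE (X.basicOpen_le d)).op]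
      rfl
    refine ⟨W, Spec (CommRingCat.of C), hW.isoSpec.hom ≫ Spec.map φ', Spec.map α ≫ hV.fromSpec,
      (QCoh.mem_basicOpen_iff_notMem hU hxU d).2 hd, inferInstance, inferInstanceAs
        (SmoothOfRelativeDimension (p + 0) _), ?_⟩
    rw [Category.assoc, ← Category.assoc (Spec.map φ'), ← Spec.map_comp, hcomp,
      hV.SpecMap_appLE_fromSpec f hW, ← Category.assoc, IsAffineOpen.isoSpec_hom_fromSpec]
  · rintro ⟨U, U', i, g, hxU, hi, hg, hig⟩
    obtain ⟨V, hV, W', hW', hxW, eW, hss⟩ :=
      hg.exists_isStandardSmoothOfRelativeDimension (i ⟨x, hxU⟩)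
    let W₀ := i ⁻¹ᵁ W'
    let W := U.ι ''ᵁ W₀
    have hW₀ : IsAffineOpen W₀ := hW'.preimage i
    have hW : IsAffineOpen W := hW₀.image_of_isOpenImmersion U.ι
    have e : W ≤ f ⁻¹ᵁ V := by
      rintro _ ⟨z, hz, rfl⟩
      show f (U.ι z) ∈ V
      rw [← Scheme.Hom.comp_apply, ← hig]
      exact eW hz
    have hxW' : x ∈ W := ⟨⟨x, hxU⟩, hxW, rfl⟩
    let β : Γ(U', W') ⟶ Γ(X, W) := i.app W' ≫ (U.ι.appIso W₀).inv
    have hβ : Function.Surjective β.hom := fun z => by
      obtain ⟨z', hz'⟩ := Scheme.Hom.app_surjective i W' hW' ((U.ι.appIso W₀).hom z)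
      refine ⟨z', ?_⟩
      show (U.ι.appIso W₀).inv (i.app W' z') = z
      rw [show i.app W' z' = (U.ι.appIso W₀).hom z from hz', ← ConcreteCategory.comp_apply, Iso.hom_inv_id]
      rfl
    have hcomp : g.appLE V W' eW ≫ β = f.appLE V W e := by
      rw [← cancel_mono (U.ι.appIso W₀).hom]
      simp only [β, Category.assoc, Iso.inv_hom_id, Category.comp_id]
      rw [Scheme.Hom.appIso_hom', Scheme.Hom.appLE_comp_appLE, Scheme.Hom.app_eq_appLE,
        Scheme.Hom.appLE_comp_appLE]
      simp only [hig]
      rfl
    let _ := (g.appLE V W' eW).hom.toAlgebra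
    let _ := (f.appLE V W e).hom.toAlgebra
    let _ := β.hom.toAlgebra
    have : IsScalarTower Γ(Y, V) Γ(U', W') Γ(X, W) :=
      .of_algebraMap_eq' (congrArg CommRingCat.Hom.hom hcomp).symm
    have : Algebra.IsStandardSmoothOfRelativeDimension p Γ(Y, V) Γ(U', W') := hss
    obtain ⟨ι', σ', _, _, P, hP⟩ := this.out
    rw [FittX.mem_support_sheafIdeal hM hft p hW hxW']
    have hfin := QCoh.finite_of_isFT hM hft hW
    obtain ⟨l⟩ := Synt29.OmegaStalk.exists_linearEquiv_sections (OmegaUniv.isUniversal_dOmega f) hW hV e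
    let b := P.basisKaehler
    have hcard : Nat.card ↥(Set.range P.map)ᶜ = p := by
      classical
      cases nonempty_fintype ι'
      cases nonempty_fintype σ'
      rw [← hP]
      show Nat.card ↥(Set.range P.map)ᶜ = Nat.card ι' - Nat.card σ'
      rw [Nat.card_coe_set_eq, Set.ncard_compl, ← Nat.card_coe_set_eq, Nat.card_range_of_injective P.map_inj]
    let eb := (Finite.equivFinOfCardEq hcard).symm
    let gens : Fin p → Γ(Omega.sheaf f, W) := fun k =>
      l.symm (KaehlerDifferential.map Γ(Y, V) Γ(Y, V) Γ(U', W') Γ(X, W) (b (eb k)))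
    have hgens : Submodule.span Γ(X, W) (Set.range gens) = ⊤ := by
      have hs : Submodule.span Γ(X, W) (Set.range fun k => KaehlerDifferential.map Γ(Y, V) Γ(Y, V) Γ(U', W') Γ(X, W) (b (eb k))) = ⊤ := by
        refine top_unique fun v hv => ?_
        obtain ⟨u, rfl⟩ := KaehlerDifferential.map_surjective_of_surjective Γ(Y, V) Γ(Y, V) Γ(U', W') Γ(X, W) hβ v
        have hu : u ∈ Submodule.span Γ(U', W') (Set.range fun k => b (eb k)) := by
          rw [show (fun k => b (eb k)) = b ∘ eb from rfl, Set.range_comp, eb.surjective.range_eq, Set.image_univ,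
            b.span_eq]
          trivial
        obtain ⟨c, rfl⟩ := (Submodule.mem_span_range_iff_exists_fun _).1 hu
        rw [map_sum]
        refine sum_mem fun k _ => ?_
        rw [map_smul, ← algebraMap_smul Γ(X, W)]
        exact Submodule.smul_mem _ _ (Submodule.subset_span ⟨k, rfl⟩)
      have h2 := congrArg (Submodule.map l.symm.toLinearMap) hs
      rw [Submodule.map_span, Submodule.map_top, LinearEquiv.range, ← Set.range_comp] at h2
      exact h2
    rw [FittX.ideal_eq_top_of_gen gens hgens le_rfl]
    exact fun h => (hW.primeIdealOf ⟨x, hxW'⟩).isPrime.ne_top (top_le_iff.1 h)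

end Groth.Agent.S16253
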