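import Groth.Statements.S16254
import Mathlib.RingTheory.Ideal.Quotient.Operations
import Mathlib.LinearAlgebra.Matrix.SchurComplement
import Mathlib.LinearAlgebra.Matrix.NonsingularInverse
-- import your own Groth.Agent.* helpers here

set_option autoImplicit false
universe u
open scoped BigOperators
open LefPen

namespace Groth.Agent.S16254

/-- Let A be a commutative ring and m_1, …, m_s ∈ A^(N+1) linearly independent vectors whose span M has
projective (that is, locally free) quotient A^(N+1)/M. Write a_0, …, a_N for the coordinate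
functions, so that restricting linear forms to M and expressing them in the basis dual to the m_i
gives the A-algebra map A[a_0, …, a_N] ⟶ A[y_1, …, y_s], a_j ↦ Σ_i (m_i)_j y_i (the map
Sym((A^(N+1))^∨) ⟶ Sym(M^∨)). Its kernel is the ideal generated by the (s+1) × (s+1) minors of the
(s+1) × (N+1) matrix whose first s rows are the coordinate rows of m_1, …, m_s and whose last row is
(a_0, …, a_N). The minors are indexed here by all maps c from Fin (s+1) to Fin (N+1) choosing the
columns (non-injective choices give zero). -/
theorem result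
    (A : Type u) [CommRing A] (N s : ℕ) (m : Fin s → (Fin (N + 1) → A))
    (hli : LinearIndependent A m)
    (hproj : Module.Projective A ((Fin (N + 1) → A) ⧸ Submodule.span A (Set.range m))) :
    RingHom.ker (MvPolynomial.aeval (R := A) (S₁ := MvPolynomial (Fin s) A)
        (fun j : Fin (N + 1) => ∑ i : Fin s, MvPolynomial.C (m i j) * MvPolynomial.X i)) =
      Ideal.span (Set.range fun c : Fin (s + 1) → Fin (N + 1) =>
        (Matrix.of fun (i : Fin (s + 1)) (j : Fin (s + 1)) =>
          (Fin.snoc (α := fun _ => MvPolynomial (Fin (N + 1)) A)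
            (fun i' : Fin s => MvPolynomial.C (m i' (c j))) (MvPolynomial.X (c j)) i)).det) := by
  classical
  let R := MvPolynomial (Fin (N + 1)) A
  set M := Submodule.span A (Set.range m) with hM
  obtain ⟨g, hg⟩ := Module.projective_lifting_property M.mkQ LinearMap.id M.mkQ_surjective
  let b : Module.Basis (Fin s) A M := Module.Basis.span hli
  let π : (Fin (N + 1) → A) →ₗ[A] M := LinearMap.codRestrict M (LinearMap.id - g.comp M.mkQ) fun x => by
    rw [← Submodule.Quotient.mk_eq_zero]
    have := LinearMap.congr_fun hg (M.mkQ x)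
    simp only [LinearMap.comp_apply, LinearMap.id_apply, Submodule.mkQ_apply] at this
    simp [this]
  have hπ : ∀ i, π (m i) = b i := fun i => by
    apply Subtype.ext
    have h0 : M.mkQ (m i) = 0 := by
      simpa [Submodule.Quotient.mk_eq_zero] using Submodule.subset_span (Set.mem_range_self (f := m) i)
    simp [π, b, LinearMap.codRestrict, h0, -Submodule.mkQ_apply]
    exact (Module.Basis.coe_span_apply hli i).symm
  let φ : (Fin (N + 1) → A) →ₗ[A] (Fin s → A) := b.equivFun.toLinearMap.comp π
  have hφ : ∀ k i, ∑ j, m i j * φ (Pi.single j 1) k = if i = k then 1 else 0 := fun k i => by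
    have h := congrArg φ (pi_eq_sum_univ' (m i))
    have hφi : φ (m i) = Pi.single i 1 := by
      simp [φ, hπ, Module.Basis.equivFun_apply, Finsupp.single_eq_pi_single]
    rw [hφi, map_sum] at h
    have := congrFun h k
    simp only [map_smul, Finset.sum_apply, Pi.smul_apply, smul_eq_mul, Pi.single_apply] at this
    rw [← this]
    simp [eq_comm]
  set ψ := MvPolynomial.aeval (R := A) (S₁ := MvPolynomial (Fin s) A)
        (fun j : Fin (N + 1) => ∑ i : Fin s, MvPolynomial.C (m i j) * MvPolynomial.X i) with hψ
  let σ : MvPolynomial (Fin s) A →ₐ[A] R :=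
    MvPolynomial.aeval fun k => ∑ j, MvPolynomial.C (φ (Pi.single j 1) k) * MvPolynomial.X j
  let col : Fin (N + 1) → Fin (s + 1) → R := fun j =>
    Fin.snoc (α := fun _ => R) (fun i => MvPolynomial.C (m i j)) (MvPolynomial.X j)
  let mat : (Fin (s + 1) → Fin (N + 1)) → Matrix (Fin (s + 1)) (Fin (s + 1)) R := fun c => Matrix.of fun i j => col (c j) i
  have hmat : ∀ c : Fin (s + 1) → Fin (N + 1), (Matrix.of fun (i : Fin (s + 1)) (j : Fin (s + 1)) =>
          (Fin.snoc (α := fun _ => MvPolynomial (Fin (N + 1)) A)
            (fun i' : Fin s => MvPolynomial.C (m i' (c j))) (MvPolynomial.X (c j)) i)) = mat c := fun c => by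
    ext i j
    refine Fin.lastCases ?_ (fun i => ?_) i <;> simp [mat, col]
  simp only [hmat]
  refine le_antisymm (fun P hP => ?_) (Ideal.span_le.2 ?_)
  · set J := Ideal.span (Set.range fun c => (mat c).det) with hJ
    have hgen : ∀ t, MvPolynomial.X t - σ (ψ (MvPolynomial.X t)) ∈ J := fun t => by
      let Φ : Fin (s + 1) → Fin (N + 1) → R := fun k j =>
        Fin.snoc (α := fun _ => R) (fun k => MvPolynomial.C (φ (Pi.single j 1) k)) (if j = t then 1 else 0) k
      let D := (Matrix.detRowAlternating : (Fin (s + 1) → R) [⋀^Fin (s + 1)]→ₗ[R] R).toMultilinearMap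
      have hmem : D (fun k => ∑ j, Φ k j • col j) ∈ J := by
        rw [MultilinearMap.map_sum]
        refine sum_mem fun r _ => ?_
        rw [MultilinearMap.map_smul_univ, smul_eq_mul]
        refine Ideal.mul_mem_left _ _ (Ideal.subset_span ⟨r, ?_⟩)
        exact (Matrix.det_transpose (mat r)).symm
      have hrow : ∀ k i, (∑ j, Φ k j • col j) i =
          (Matrix.fromBlocks (1 : Matrix (Fin s) (Fin s) R)
            (Matrix.of fun (k : Fin s) (_ : Fin 1) => σ (MvPolynomial.X k))
            (Matrix.of fun (_ : Fin 1) (i : Fin s) => MvPolynomial.C (m i t))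
            (Matrix.of fun (_ : Fin 1) (_ : Fin 1) => MvPolynomial.X t)).submatrix finSumFinEquiv.symm finSumFinEquiv.symm k i := by
        intro k i
        refine Fin.lastCases ?_ (fun k => ?_) k <;> refine Fin.lastCases ?_ (fun i => ?_) i
        · simp [Φ, col, finSumFinEquiv_symm_last, ite_apply, Finset.sum_ite_eq']
        · simp [Φ, col, finSumFinEquiv_symm_last, ite_apply, Finset.sum_ite_eq']
        · simp [Φ, col, finSumFinEquiv_symm_last, σ]
        · simp only [Finset.sum_apply, Pi.smul_apply, smul_eq_mul, Φ, col, Fin.snoc_castSucc, Matrix.submatrix_apply,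
            finSumFinEquiv_symm_apply_castSucc, Matrix.fromBlocks_apply₁₁]
          rw [Matrix.one_apply]
          simp only [← map_mul, ← map_sum, mul_comm (φ _ k), hφ]
          simp [eq_comm, apply_ite]
          split_ifs <;> simp_all
      have hdet : D (fun k => ∑ j, Φ k j • col j) = MvPolynomial.X t - σ (ψ (MvPolynomial.X t)) := by
        change Matrix.det (Matrix.of fun k => ∑ j, Φ k j • col j) = _
        rw [show (Matrix.of fun k => ∑ j, Φ k j • col j) = _ from Matrix.ext hrow, Matrix.det_submatrix_equiv_self,
          Matrix.det_fromBlocks_one₁₁, Matrix.det_fin_one]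
        simp [Matrix.mul_apply, ψ, σ]; rfl
      rw [← hdet]; exact hmem
    have hall : ∀ Q, Q - σ (ψ Q) ∈ J := fun Q => by
      have : ((Ideal.Quotient.mkₐ A J).comp (σ.comp ψ)) = Ideal.Quotient.mkₐ A J :=
        MvPolynomial.algHom_ext fun t => (Ideal.Quotient.eq.2 (hgen t)).symm
      exact Ideal.Quotient.eq.1 (AlgHom.congr_fun this Q).symm
    simpa [(RingHom.mem_ker).1 hP] using hall P
  · rintro _ ⟨c, rfl⟩
    rw [SetLike.mem_coe, RingHom.mem_ker]
    change ψ.toRingHom (mat c).det = 0
    rw [RingHom.map_det]
    have h : Matrix.vecMul (Fin.snoc (α := fun _ => MvPolynomial (Fin s) A) (fun i => - MvPolynomial.X i) 1)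
        (ψ.toRingHom.mapMatrix (mat c)) = 0 := by
      ext j
      simp [Matrix.vecMul, dotProduct, Fin.sum_univ_castSucc, mat, col, ψ, mul_comm (MvPolynomial.X _)]
    have h2 := congrArg (fun v => Matrix.vecMul v (Matrix.adjugate (ψ.toRingHom.mapMatrix (mat c)))) h
    simp only [Matrix.vecMul_vecMul, Matrix.mul_adjugate, Matrix.vecMul_smul, Matrix.vecMul_one, Matrix.zero_vecMul] at h2
    simpa using congrFun h2 (Fin.last s)

end Groth.Agent.S16254
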