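import Groth.Statements.S16255
import Groth.Agent.PSQuad.Hypersurface
import Groth.Agent.PSQuad.Coeff

set_option autoImplicit false
universe u
open VanCyc

namespace Groth.Agent.S16255

/-- (b) ⇔ (c): let k be an algebraically closed field, m ≥ 0, f ∈ k[x_0, …, x_m], B = k[x_0, …, x_m]/(f)
and P a maximal ideal of B (a closed point y of the hypersurface Y = V(f)) containing the classes of
all partial derivatives ∂f/∂x_j, so that y lies in the m-th Jacobian locus of Y (cut out in Y by the
m-th Fitting ideal of Ω_{Y/k}, which is generated by these classes). Then the following are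
equivalent: (b) the classes of the ∂f/∂x_j generate the maximal ideal of the local ring B_P, i.e.
near y the Jacobian locus is the reduced point y; (c) y is a non-degenerate quadratic singularity of
Y of dimension m: the completion of B_P is k-isomorphic to k[[x_0, …, x_m]]/(g) for a power series g
without constant or linear terms whose quadratic part has unit polar discriminant. (The published
statement is for Y a local complete intersection of virtual dimension m over k and a point of the
m-th but not the (m+1)-st Jacobian locus; the statement here is its affine hypersurface case, to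
which its proof reduces by an étale chart. A third equivalent condition there, on the differentials
of the Jacobian scheme at y, is not stated here.) -/
theorem result
    (k : Type u) [Field k] [IsAlgClosed k] (m : ℕ) (f : MvPolynomial (Fin (m + 1)) k)
    (P : Ideal (MvPolynomial (Fin (m + 1)) k ⧸ Ideal.span {f})) [P.IsMaximal]
    (hP : ∀ j : Fin (m + 1), Ideal.Quotient.mk (Ideal.span {f}) (MvPolynomial.pderiv j f) ∈ P) :
    Ideal.map (algebraMap (MvPolynomial (Fin (m + 1)) k ⧸ Ideal.span {f}) (Localization.AtPrime P))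
        (Ideal.span (Set.range fun j : Fin (m + 1) =>
          Ideal.Quotient.mk (Ideal.span {f}) (MvPolynomial.pderiv j f))) =
      IsLocalRing.maximalIdeal (Localization.AtPrime P) ↔
    VanCyc.IsNondegQuadSing k (Localization.AtPrime P) m := by
  classical
  let M : Ideal (MvPolynomial (Fin (m + 1)) k) := P.comap (Ideal.Quotient.mk (Ideal.span {f}))
  have hM : M.IsMaximal := Ideal.comap_isMaximal_of_surjective _ Ideal.Quotient.mk_surjective
  obtain ⟨c, hc⟩ := MvPolynomial.eq_vanishingIdeal_singleton_of_isMaximal k hM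
  have hmem : ∀ p : (MvPolynomial (Fin (m + 1)) k), Ideal.Quotient.mk (Ideal.span {f}) p ∈ P ↔ MvPolynomial.eval c p = 0 := fun p => by
    show p ∈ M ↔ _
    rw [hc, MvPolynomial.mem_vanishingIdeal_singleton_iff]
    rfl
  let T := PSQuad.shift c
  let g : (MvPolynomial (Fin (m + 1)) k) := T f
  let gs : MvPowerSeries (Fin (m + 1)) k := (g : MvPowerSeries (Fin (m + 1)) k)
  have hfc : MvPolynomial.eval c f = 0 := (hmem f).1 (by
    rw [Ideal.Quotient.eq_zero_iff_mem.2 (Ideal.mem_span_singleton_self _)]; exact zero_mem P)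
  have hdg : ∀ j, MvPolynomial.pderiv j g = T (MvPolynomial.pderiv j f) := PSQuad.pderiv_shift c f
  have hg2 : gs ∈ PSLib.vars (m + 1) k ^ 2 := by
    refine PSQuad.vars_eq (k := k) (n := m + 1) ▸ PSQuad.mem_sq_iff.2 ⟨?_, fun i => ?_⟩
    · rw [MvPolynomial.coeff_coe, PSQuad.coeff_zero_shift, hfc]
    · rw [← PSQuad.coeff_zero_pderiv, MvPowerSeries.pderiv_coe, MvPolynomial.coeff_coe, hdg,
        PSQuad.coeff_zero_shift]
      exact (hmem _).1 (hP i)
  have hgv : gs ∈ PSLib.vars (m + 1) k := Ideal.pow_le_self two_ne_zero hg2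
  -- coordinates on the local ring
  let u : (MvPolynomial (Fin (m + 1)) k) →ₐ[k] (Localization.AtPrime P) := (IsScalarTower.toAlgHom k (MvPolynomial (Fin (m + 1)) k ⧸ Ideal.span {f}) (Localization.AtPrime P)).comp ((Ideal.Quotient.mkₐ k _).comp (T.symm : (MvPolynomial (Fin (m + 1)) k) →ₐ[k] (MvPolynomial (Fin (m + 1)) k)))
  have huv : (MvPolynomial.idealOfVars (Fin (m + 1)) k).map u = IsLocalRing.maximalIdeal (Localization.AtPrime P) := by
    have h1 : (MvPolynomial.idealOfVars (Fin (m + 1)) k).map (T.symm : (MvPolynomial (Fin (m + 1)) k) →ₐ[k] (MvPolynomial (Fin (m + 1)) k)) = M := by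
      refine le_antisymm (Ideal.map_le_iff_le_comap.2 (Ideal.span_le.2 ?_)) fun p hp => ?_
      · rintro _ ⟨i, rfl⟩
        show Ideal.Quotient.mk (Ideal.span {f}) (T.symm (MvPolynomial.X i)) ∈ P
        rw [hmem, ← PSQuad.coeff_zero_shift c, AlgEquiv.apply_symm_apply, MvPolynomial.coeff_zero_X]
      · rw [← T.symm_apply_apply p]
        exact Ideal.mem_map_of_mem _ (PSQuad.shift_mem_idealOfVars c ((hmem p).1 hp))
    have h2 : M.map (Ideal.Quotient.mk (Ideal.span {f})) = P :=
      Ideal.map_comap_of_surjective _ Ideal.Quotient.mk_surjective P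
    rw [← Localization.AtPrime.map_eq_maximalIdeal]
    rw [show P.map (algebraMap (MvPolynomial (Fin (m + 1)) k ⧸ Ideal.span {f}) (Localization.AtPrime P)) =
      (M.map (Ideal.Quotient.mk (Ideal.span {f}))).map
        (algebraMap (MvPolynomial (Fin (m + 1)) k ⧸ Ideal.span {f}) (Localization.AtPrime P)) from
        (congrArg _ h2).symm, ← h1, Ideal.map_map]
    exact (Ideal.map_map (T.symm : (MvPolynomial (Fin (m + 1)) k) →ₐ[k] (MvPolynomial (Fin (m + 1)) k)).toRingHom
      ((algebraMap (MvPolynomial (Fin (m + 1)) k ⧸ Ideal.span {f}) (Localization.AtPrime P)).comp (Ideal.Quotient.mk (Ideal.span {f})))).symm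
  have huX : ∀ i, u (MvPolynomial.X i) ∈ IsLocalRing.maximalIdeal (Localization.AtPrime P) := fun i =>
    huv ▸ Ideal.mem_map_of_mem _ (Ideal.subset_span ⟨i, rfl⟩)
  let J : Ideal (Localization.AtPrime P) := Ideal.map (algebraMap (MvPolynomial (Fin (m + 1)) k ⧸ Ideal.span {f}) (Localization.AtPrime P))
    (Ideal.span (Set.range fun j : Fin (m + 1) => Ideal.Quotient.mk (Ideal.span {f}) (MvPolynomial.pderiv j f)))
  have hud : ∀ j, u (MvPolynomial.pderiv j g) =
      algebraMap (MvPolynomial (Fin (m + 1)) k ⧸ Ideal.span {f}) (Localization.AtPrime P) (Ideal.Quotient.mk (Ideal.span {f}) (MvPolynomial.pderiv j f)) := fun j => by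
    show algebraMap (MvPolynomial (Fin (m + 1)) k ⧸ Ideal.span {f}) (Localization.AtPrime P) (Ideal.Quotient.mk _ (T.symm (MvPolynomial.pderiv j g))) = _
    rw [hdg, AlgEquiv.symm_apply_apply]
  -- the completion is the power series quotient
  let Q := MvPowerSeries (Fin (m + 1)) k ⧸ Ideal.span {gs}
  have : IsLocalRing Q := PSQuad.isLocalRing_quot hgv
  have : IsAdicComplete (IsLocalRing.maximalIdeal Q) Q := PSQuad.isAdicComplete_quot
  let Φp : (MvPolynomial (Fin (m + 1)) k) →ₐ[k] Q := ((Ideal.Quotient.mkₐ k (Ideal.span {gs})).comp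
    (MvPolynomial.coeToMvPowerSeries.algHom k)).comp (T : (MvPolynomial (Fin (m + 1)) k) →ₐ[k] (MvPolynomial (Fin (m + 1)) k))
  have hΦp : ∀ p, Φp p = Ideal.Quotient.mk (Ideal.span {gs}) ((T p : (MvPolynomial (Fin (m + 1)) k)) : MvPowerSeries (Fin (m + 1)) k) :=
    fun p => rfl
  let ΦB : (MvPolynomial (Fin (m + 1)) k ⧸ Ideal.span {f}) →ₐ[k] Q := Ideal.Quotient.liftₐ _ Φp (fun a ha => by
    obtain ⟨r, rfl⟩ := Ideal.mem_span_singleton'.1 ha
    rw [map_mul, hΦp f, Ideal.Quotient.eq_zero_iff_mem.2 (Ideal.mem_span_singleton_self _), mul_zero])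
  have hΦu : ∀ y : P.primeCompl, IsUnit (ΦB (y : (MvPolynomial (Fin (m + 1)) k ⧸ Ideal.span {f}))) := fun ⟨y, hy⟩ => by
    obtain ⟨p, rfl⟩ := Ideal.Quotient.mk_surjective y
    show IsUnit (Φp p)
    rw [hΦp]
    refine IsUnit.map _ ?_
    rw [MvPowerSeries.isUnit_iff_constantCoeff, ← MvPowerSeries.coeff_zero_eq_constantCoeff_apply,
      MvPolynomial.coeff_coe, PSQuad.coeff_zero_shift, isUnit_iff_ne_zero]
    exact fun h => hy ((hmem p).2 h)
  let Φ0 : (Localization.AtPrime P) →ₐ[k] Q := IsLocalization.liftAlgHom hΦu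
  have hΦ0 : ∀ p : (MvPolynomial (Fin (m + 1)) k), Φ0 (u p) = Ideal.Quotient.mk (Ideal.span {gs}) (p : MvPowerSeries (Fin (m + 1)) k) := by
    intro p
    show Φ0 (algebraMap (MvPolynomial (Fin (m + 1)) k ⧸ Ideal.span {f}) (Localization.AtPrime P) (Ideal.Quotient.mk _ (T.symm p))) = _
    rw [IsLocalization.liftAlgHom_apply, IsLocalization.lift_eq]
    show Φp (T.symm p) = _
    rw [hΦp, AlgEquiv.apply_symm_apply]
  have : IsNoetherianRing (Localization.AtPrime P) :=
    IsLocalization.isNoetherianRing P.primeCompl (Localization.AtPrime P) inferInstance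
  have hres : ∀ s : Localization.AtPrime P, ∃ a : k,
      s - algebraMap k (Localization.AtPrime P) a ∈ IsLocalRing.maximalIdeal (Localization.AtPrime P) := by
    intro s
    obtain ⟨⟨a, b⟩, hab⟩ := IsLocalization.surj P.primeCompl s
    obtain ⟨pa, rfl⟩ := Ideal.Quotient.mk_surjective a
    obtain ⟨pb, hpb⟩ := Ideal.Quotient.mk_surjective (b : MvPolynomial (Fin (m + 1)) k ⧸ Ideal.span {f})
    let π := algebraMap (MvPolynomial (Fin (m + 1)) k ⧸ Ideal.span {f}) (Localization.AtPrime P)
    have hkey : ∀ p, IsLocalRing.residue _ (π (Ideal.Quotient.mk _ p)) =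
        IsLocalRing.residue _ (algebraMap k (Localization.AtPrime P) (MvPolynomial.eval c p)) := by
      intro p
      rw [← sub_eq_zero, ← map_sub, IsLocalRing.residue_eq_zero_iff,
        IsScalarTower.algebraMap_apply k (MvPolynomial (Fin (m + 1)) k ⧸ Ideal.span {f}) (Localization.AtPrime P)]
      show π _ - π _ ∈ _
      rw [← map_sub π, ← Localization.AtPrime.map_eq_maximalIdeal]
      refine Ideal.mem_map_of_mem _ ?_
      show Ideal.Quotient.mk (Ideal.span {f}) p -
        Ideal.Quotient.mk (Ideal.span {f}) (MvPolynomial.C (MvPolynomial.eval c p)) ∈ P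
      rw [← map_sub, hmem, map_sub, MvPolynomial.eval_C, sub_self]
    have hb0 : MvPolynomial.eval c pb ≠ 0 := fun h => b.2 (hpb ▸ (hmem pb).2 h)
    refine ⟨MvPolynomial.eval c pa / MvPolynomial.eval c pb, (IsLocalRing.residue_eq_zero_iff (R := Localization.AtPrime P) _).1 ?_⟩
    rw [map_sub, sub_eq_zero]
    have e1 := congrArg (IsLocalRing.residue (Localization.AtPrime P)) hab
    dsimp only at e1
    rw [map_mul, ← hpb, hkey, hkey] at e1
    have hne : IsLocalRing.residue (Localization.AtPrime P)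
        (algebraMap k (Localization.AtPrime P) (MvPolynomial.eval c pb)) ≠ 0 :=
      (IsLocalRing.residue_ne_zero_iff_isUnit _).2 ((isUnit_iff_ne_zero.2 hb0).map _)
    apply mul_right_cancel₀ hne
    rw [e1, ← map_mul, ← map_mul, div_mul_cancel₀ _ hb0]
  have hug : u g = 0 := by
    have : u g = algebraMap (MvPolynomial (Fin (m + 1)) k ⧸ Ideal.span {f}) (Localization.AtPrime P)
        (Ideal.Quotient.mk (Ideal.span {f}) (T.symm g)) := rfl
    rw [this, AlgEquiv.symm_apply_apply, Ideal.Quotient.eq_zero_iff_mem.2 (Ideal.mem_span_singleton_self _),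
      map_zero]
  obtain ⟨eQ⟩ := PSQuad.exists_completion_equiv (Localization.AtPrime P) hres g hgv u huv hug Φ0 hΦ0
  constructor
  · intro hJ
    have hdet : IsUnit (VanCyc.polarMatrix (VanCyc.quadPart gs)).det := by
      have hle : PSLib.vars (m + 1) k ≤
          Ideal.span (Set.range fun i => MvPowerSeries.pderiv k i gs) ⊔ PSLib.vars (m + 1) k ^ 2 := by
        refine Ideal.span_le.2 (Set.range_subset_iff.2 fun i => ?_)
        have h1 : u (MvPolynomial.X i) ∈ J := hJ.ge (huX i)
        have h2 := Ideal.mem_map_of_mem Φ0 h1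
        rw [hΦ0, MvPolynomial.coe_X] at h2
        have h3 : J.map Φ0 ≤ (Ideal.span (Set.range fun i => MvPowerSeries.pderiv k i gs)).map
            (Ideal.Quotient.mk (Ideal.span {gs})) := by
          simp only [J, Ideal.map_span, Ideal.span_le]
          rintro _ ⟨_, ⟨_, ⟨j, rfl⟩, rfl⟩, rfl⟩
          refine Ideal.subset_span ⟨_, ⟨j, rfl⟩, ?_⟩
          rw [← hud, hΦ0]
          simp only [gs, MvPowerSeries.pderiv_coe]
        obtain ⟨y, hy, hyx⟩ := (Ideal.mem_map_iff_of_surjective _ Ideal.Quotient.mk_surjective).1 (h3 h2)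
        rw [SetLike.mem_coe, show (MvPowerSeries.X i : MvPowerSeries (Fin (m + 1)) k) = y - (y - MvPowerSeries.X i) by ring]
        refine sub_mem (Submodule.mem_sup_left hy) (Submodule.mem_sup_right ?_)
        exact Ideal.span_le.2 (Set.singleton_subset_iff.2 hg2) (Ideal.Quotient.eq.1 hyx)
      have h0 : ∀ i, MvPowerSeries.pderiv k i gs ∈ PSLib.vars (m + 1) k := fun i => by
        rw [← PSQuad.vars_eq, PSQuad.mem_vars_iff, PSQuad.coeff_zero_pderiv]
        exact (PSQuad.mem_sq_iff.1 (PSQuad.vars_eq (k := k) (n := m + 1) ▸ hg2)).2 i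
      simpa only [PSQuad.coeff_single_pderiv] using! PSQuad.isUnit_det_of_vars_le _ h0 hle
    obtain ⟨hg0, hg1⟩ := PSQuad.mem_sq_iff.1 (PSQuad.vars_eq (k := k) (n := m + 1) ▸ hg2)
    refine ⟨gs, ⟨⟨by rw [← MvPowerSeries.coeff_zero_eq_constantCoeff_apply]; exact hg0, hg1⟩, hdet⟩, ?_⟩
    exact ⟨eQ.symm⟩
  · rintro ⟨h, hh, ⟨θ⟩⟩
    have hdet := PSQuad.isUnit_det_of_algEquiv g hg2 h hh (eQ.trans θ)
    set H := VanCyc.polarMatrix (VanCyc.quadPart gs) with hH
    show J = _
    refine le_antisymm (Ideal.map_le_iff_le_comap.2 (Ideal.span_le.2 ?_)) ?_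
    · rintro _ ⟨j, rfl⟩
      rw [SetLike.mem_coe, Ideal.mem_comap, ← Localization.AtPrime.map_eq_maximalIdeal]
      exact Ideal.mem_map_of_mem _ (hP j)
    refine PSQuad.maximalIdeal_le_of_le_sup_sq (S := Localization.AtPrime P) ?_
    conv_lhs => rw [← huv]
    refine Ideal.map_le_iff_le_comap.2 (Ideal.span_le.2 ?_)
    rintro _ ⟨i, rfl⟩
    rw [SetLike.mem_coe, Ideal.mem_comap]
    have hr : MvPolynomial.X i - ∑ j, MvPolynomial.C (H⁻¹ i j) * MvPolynomial.pderiv j g ∈
        MvPolynomial.idealOfVars (Fin (m + 1)) k ^ 2 := by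
      rw [MvPolynomial.mem_pow_idealOfVars_iff']
      intro d hd
      have hl : ∀ j l, (MvPolynomial.pderiv j g).coeff (Finsupp.single l 1) = H j l := fun j l => by
        rw [hH, ← PSQuad.coeff_single_pderiv, MvPowerSeries.pderiv_coe, MvPolynomial.coeff_coe]
      have h0 : ∀ j, (MvPolynomial.pderiv j g).coeff 0 = 0 := fun j => by
        rw [hdg, PSQuad.coeff_zero_shift]
        exact (hmem _).1 (hP j)
      simp only [MvPolynomial.coeff_sub, MvPolynomial.coeff_sum, MvPolynomial.coeff_C_mul]
      rcases PSQuad.degree_le_two_cases (d := d) (by omega) with rfl | ⟨l, rfl⟩ | ⟨l, l', _, rfl⟩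
      · simp [h0, MvPolynomial.coeff_zero_X]
      · simp only [hl]
        have := congrFun (congrFun (Matrix.nonsing_inv_mul H hdet) i) l
        rw [Matrix.mul_apply] at this
        rw [this, MvPolynomial.coeff_X, Matrix.one_apply]
        simp [Finsupp.single_left_inj, eq_comm]
      · simp [map_add, Finsupp.degree_single] at hd
    have h2 := Ideal.mem_map_of_mem u hr
    rw [Ideal.map_pow, huv, map_sub, map_sum] at h2
    rw [← sub_add_cancel (u (MvPolynomial.X i)) (∑ j, u (MvPolynomial.C (H⁻¹ i j) * MvPolynomial.pderiv j g))]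
    refine add_mem (Submodule.mem_sup_right h2) (Submodule.mem_sup_left (Ideal.sum_mem _ fun j _ => ?_))
    rw [map_mul, hud]
    exact Ideal.mul_mem_left _ _ (Ideal.mem_map_of_mem _ (Ideal.subset_span ⟨j, rfl⟩))

end Groth.Agent.S16255
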