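import Groth.Statements.S16256
import Groth.Agent.LciSmooth16.Alg
import Groth.Agent.RelQR16.Scheme
import Groth.Agent.KindDescent.Basic
import Groth.Agent.KRegLib.Kinds
import Groth.Agent.RegConormal.Free
import Groth.Agent.OmegaUniv.Unram
import Groth.Agent.FittX.Sheaf
import Groth.Agent.Synt29.OmegaAffine
-- import your own Groth.Agent.* helpers here

set_option autoImplicit false
set_option backward.isDefEq.respectTransparency false
set_option backward.isDefEq.respectTransparency.types false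
universe u
open CategoryTheory CategoryTheory.Limits AlgebraicGeometry TopologicalSpace
open SDiv

namespace Groth.Agent.S16256
open Groth.Agent

/-- Let f : Y ⟶ X be locally of finite presentation and quasi-separated, m ≥ 0, and y a point of Y near
which f is a local complete intersection of virtual dimension m, in the factorisation sense: some
open neighbourhood U of y admits a Koszul-regular immersion i of constant codimension c into a
scheme P smooth of relative dimension m + c over X, compatibly with f. Then f is smooth on some open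
neighbourhood of y if and only if y does not lie in the m-th Jacobian locus of Y over X, the closed
subset cut out by the m-th Fitting ideal of Ω_{Y/X}. (Quasi-separatedness of f is assumed because
the module Ω_{Y/X} used here is defined for such f.) -/
theorem result
    {Y X : Scheme.{u}} (f : Y ⟶ X) [LocallyOfFinitePresentation f] [QuasiSeparated f] (m : ℕ) (y : ↥Y)
    (hlci : ∃ (U : Y.Opens) (P : Scheme.{u}) (i : (U : Scheme.{u}) ⟶ P) (π : P ⟶ X) (c : ℕ),
      y ∈ U ∧ RegImm.IsRegularImmersionOfCodim RegImm.Kind.koszul c i ∧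
        SmoothOfRelativeDimension (m + c) π ∧ i ≫ π = U.ι ≫ f) :
    (∃ V : Y.Opens, y ∈ V ∧ Smooth (V.ι ≫ f)) ↔ y ∉ (Fitt.sheafIdeal (Omega.sheaf f) m).support := by
  obtain ⟨U, P, i, π, c, hyU, hreg, hπ, hcomp⟩ := hlci
  let y' : U.toScheme := ⟨y, hyU⟩
  obtain ⟨⟨U₁, hU₁⟩, hyU₁, hci, rs, hlen, hseq, hker₁⟩ := hreg.2 y'
  obtain ⟨V, hV, W', hW', hyW', eW', hss'⟩ :=
    hπ.exists_isStandardSmoothOfRelativeDimension (i y')
  obtain ⟨a, b, hab, hya⟩ := exists_basicOpen_le_affine_inter hU₁ hW' (i y') ⟨hyU₁, hyW'⟩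
  let W := P.basicOpen a
  have hW : IsAffineOpen W := hU₁.basicOpen a
  have hWW' : W ≤ W' := hab.le.trans (P.basicOpen_le b)
  have eW : W ≤ π ⁻¹ᵁ V := hWW'.trans eW'
  have hss : RingHom.IsStandardSmoothOfRelativeDimension (m + c) (π.appLE V W eW).hom := by
    let ρ := P.presheaf.map (homOfLE hWW').op
    let _ : Algebra Γ(P, W') Γ(P, W) := ρ.hom.toAlgebra
    have : IsLocalization.Away b Γ(P, W) := hW'.isLocalization_of_eq_basicOpen b (homOfLE hWW') hab
    have h0 : RingHom.IsStandardSmoothOfRelativeDimension 0 ρ.hom := by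
      have h : Algebra.IsStandardSmoothOfRelativeDimension 0 Γ(P, W') Γ(P, W) :=
        Algebra.IsStandardSmoothOfRelativeDimension.localization_away b
      exact h
    have h1 := RingHom.IsStandardSmoothOfRelativeDimension.comp h0 hss'
    rw [zero_add] at h1
    rw [← Scheme.Hom.appLE_map π eW' (homOfLE hWW').op]
    exact h1
  have : IsClosedImmersion (i ∣_ W) := RelQR16.restrict_of_le i (P.basicOpen_le a)
  obtain ⟨hW₀, hsurj₀⟩ := RelQR16.surjective_app i W hW
  let W₀ := i ⁻¹ᵁ W
  let Wy := U.ι ''ᵁ W₀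
  have hWy : IsAffineOpen Wy := hW₀.image_of_isOpenImmersion U.ι
  have e : Wy ≤ f ⁻¹ᵁ V := by
    rintro _ ⟨z, hz, rfl⟩
    show f (U.ι z) ∈ V
    rw [← Scheme.Hom.comp_apply, ← hcomp]
    exact eW hz
  have hyWy : y ∈ Wy := ⟨y', hya, rfl⟩
  let β : Γ(P, W) ⟶ Γ(Y, Wy) := i.app W ≫ (U.ι.appIso W₀).inv
  have hβ : Function.Surjective β.hom :=
    (ConcreteCategory.bijective_of_isIso (U.ι.appIso W₀).inv).2.comp hsurj₀
  have hβker : RingHom.ker β.hom = RingHom.ker (i.app W).hom := by
    ext z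
    simp only [RingHom.mem_ker]
    exact map_eq_zero_iff (U.ι.appIso W₀).inv.hom
      (ConcreteCategory.bijective_of_isIso (U.ι.appIso W₀).inv).1
  have hcompβ : π.appLE V W eW ≫ β = f.appLE V Wy e := by
    rw [← cancel_mono (U.ι.appIso W₀).hom]
    simp only [β, Category.assoc, Iso.inv_hom_id, Category.comp_id]
    rw [Scheme.Hom.appIso_hom', Scheme.Hom.appLE_comp_appLE, Scheme.Hom.app_eq_appLE,
      Scheme.Hom.appLE_comp_appLE]
    simp only [hcomp]
    rfl
  let r : Γ(P, U₁) →+* Γ(P, W) := (P.presheaf.map (homOfLE (P.basicOpen_le a)).op).hom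
  let g : Fin rs.length → Γ(P, W) := fun j => r (rs.get j)
  let _ : Algebra Γ(P, U₁) Γ(P, W) := r.toAlgebra
  have : IsLocalization.Away a Γ(P, W) := hU₁.isLocalization_basicOpen a
  have : Module.Flat Γ(P, U₁) Γ(P, W) := IsLocalization.flat _ (Submonoid.powers a)
  have hg1 : CAlgX.IsH1Regular g := KindDescent.h1_flat (KRegLib.h1_of_koszul rs hseq)
  have hgker : RingHom.ker β.hom = Ideal.span (Set.range g) := by
    rw [hβker, RelQR16.ker_basicOpen i hU₁ a, hker₁,
      show Ideal.ofList rs = Ideal.span (Set.range rs.get) from congrArg Ideal.span (Set.range_list_get rs).symm,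
      Ideal.map_span, ← Set.range_comp]
    rfl
  let _ := (π.appLE V W eW).hom.toAlgebra
  let _ := (f.appLE V Wy e).hom.toAlgebra
  let _ := β.hom.toAlgebra
  have : IsScalarTower Γ(X, V) Γ(P, W) Γ(Y, Wy) :=
    .of_algebraMap_eq' (congrArg CommRingCat.Hom.hom hcompβ).symm
  have : Algebra.IsStandardSmoothOfRelativeDimension (m + c) Γ(X, V) Γ(P, W) := hss
  have : Algebra.IsStandardSmooth Γ(X, V) Γ(P, W) :=
    Algebra.IsStandardSmoothOfRelativeDimension.isStandardSmooth (m + c)
  let q := hWy.primeIdealOf ⟨y, hyWy⟩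
  have : Nontrivial Γ(P, W) := (algebraMap Γ(P, W) q.asIdeal.ResidueField).domain_nontrivial
  have hrk : Module.finrank Γ(P, W) Ω[Γ(P, W)⁄Γ(X, V)] = m + rs.length := by
    have := Algebra.IsStandardSmoothOfRelativeDimension.rank_kaehlerDifferential (R := Γ(X, V))
      (S := Γ(P, W)) (m + c)
    rw [hlen]
    simp [Module.finrank, this]
  have hrel : ∀ z : Fin rs.length → Γ(P, W), ∑ j, z j * g j = 0 →
      ∀ j, algebraMap Γ(P, W) Γ(Y, Wy) (z j) ∈ q.asIdeal := by
    intro z hz j
    have h1 : z j ∈ Ideal.span (Set.range g) :=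
      RegConormal.coeff_mem_of_h1 g hg1 z (hz ▸ zero_mem _) j
    rw [show algebraMap Γ(P, W) Γ(Y, Wy) (z j) = 0 from RingHom.mem_ker.1 (hgker.ge h1)]
    exact zero_mem _
  have key := LciSmooth16.isSmoothAt_iff_finrank_le (R := Γ(X, V)) hβ g hgker q.asIdeal hrel hrk
  have hM := OmegaUniv.isQCoh_omega f
  have hft := OmegaUniv.isFT_omega f
  have := QCoh.finite_of_isFT hM hft hWy
  rw [FittX.mem_support_sheafIdeal hM hft m hWy hyWy]
  obtain ⟨l⟩ := Synt29.OmegaStalk.exists_linearEquiv_sections (OmegaUniv.isUniversal_dOmega f) hWy hV e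
  have h2 : ¬ Fitt.ideal Γ(Y, Wy) Γ(Omega.sheaf f, Wy) m ≤ q.asIdeal ↔
      Algebra.IsSmoothAt Γ(X, V) q.asIdeal := by
    refine (FittX.not_le_iff_fiber _ _ _).trans (Iff.trans ?_ key.symm)
    rw [(LinearEquiv.baseChange Γ(Y, Wy) q.asIdeal.ResidueField _ _ l).finrank_eq]
  rw [h2]
  have h3 : y ∈ f.smoothLocus ↔ Algebra.IsSmoothAt Γ(X, V) q.asIdeal := by
    rw [Scheme.Hom.mem_smoothLocus, formallySmooth_stalkMap_iff _ hV _ hWy e hyWy]
    rfl
  rw [← h3]
  constructor
  · rintro ⟨O, hyO, hO⟩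
    have := hO
    have h := Scheme.Hom.smoothLocus_eq_top (O.ι ≫ f)
    rw [← Scheme.Hom.preimage_smoothLocus_eq] at h
    exact (h.ge (show (⟨y, hyO⟩ : O.toScheme) ∈ (⊤ : O.toScheme.Opens) from trivial) :
      (⟨y, hyO⟩ : O.toScheme) ∈ O.ι ⁻¹ᵁ f.smoothLocus)
  · refine fun hy => ⟨f.smoothLocus, hy, ?_⟩
    rw [← Scheme.Hom.smoothLocus_eq_top_iff, ← Scheme.Hom.preimage_smoothLocus_eq]
    exact Scheme.Opens.ι_preimage_self f.smoothLocus

end Groth.Agent.S16256
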