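import Groth.Statements.S16259
import Groth.Agent.H23.Wronsk

set_option autoImplicit false
open W4c3wronskmg

namespace Groth.Agent.S16259

open Polynomial in
/-- Over a field of characteristic zero, for positive integers `i, j` and a natural number `n`, the
polynomial `h(W) = ∑_{l=0}^{n} (i choose l) (j choose (n-l)) W^(n-l)`, the coefficient of
`X^(i+j-n)` in `(X+1)^i (X+W)^j`, has no multiple root other than possibly `0` and `1`: every `c ≠
0, 1` has root multiplicity at most one. -/
theorem result
    (k : Type*) [Field k] [CharZero k] (i j n : ℕ) (hi : 0 < i) (hj : 0 < j) (c : k) (hc0 : c ≠ 0) (hc1 : c ≠ 1) :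
    Polynomial.rootMultiplicity c
      (∑ l ∈ Finset.range (n + 1),
        Polynomial.C (((i.choose l) * (j.choose (n - l)) : ℕ) : k) * Polynomial.X ^ (n - l)) ≤ 1 := by
  exact Groth.Agent.H23.Wronsk.rootMultiplicity_le_one i j n c hc0 hc1

end Groth.Agent.S16259
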