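import Groth.Statements.S1626
import Groth.Agent.DimOneAmple.Normal

set_option autoImplicit false
universe u
open CategoryTheory CategoryTheory.Limits AlgebraicGeometry
open Variety

namespace Groth.Agent.S1626

/-- Let X be reduced, separated and of finite type over k with dim X ≤ 1. Then there are a closed
subscheme Y of some P^d_k and a dense, scheme-theoretically dense open immersion j : X → Y over k
whose complement is a finite set of closed points at each of which the local ring of Y is a discrete
valuation ring. -/
theorem result (k : Type u) [Field k] (X : Scheme.{u}) [X.Over (Spec (CommRingCat.of k))] [IsReduced X] [IsSeparated (X ↘ (Spec (CommRingCat.of k)))] [LocallyOfFiniteType (X ↘ (Spec (CommRingCat.of k)))] [QuasiCompact (X ↘ (Spec (CommRingCat.of k)))] (hdim : topologicalKrullDim X ≤ 1) :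
    ∃ (d : ℕ) (Y : Scheme.{u}) (c : Y ⟶ CohB1.ProjSpace d k) (j : X ⟶ Y), IsClosedImmersion c ∧ IsOpenImmersion j ∧
      j ≫ c ≫ CohB1.ProjSpace.toSpec d k = X ↘ (Spec (CommRingCat.of k)) ∧ Dense (Set.range j.base) ∧ IsSchemeTheoreticallyDominant j ∧
      (Set.range j.base)ᶜ.Finite ∧ ∀ y ∈ (Set.range j.base)ᶜ, IsClosed ({y} : Set Y) ∧
        ∃ _ : IsDomain (Y.presheaf.stalk y), IsDiscreteValuationRing (Y.presheaf.stalk y) := by
  exact DimOneAmple.exists_normal_completion (X ↘ (Spec (CommRingCat.of k))) hdim


end Groth.Agent.S1626
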