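import Groth.Statements.S16262
import Groth.Agent.H23.Wronsk

set_option autoImplicit false
open W4c3wronskmg

namespace Groth.Agent.S16262

open Polynomial in
/-- Let `k` be a field of characteristic zero and `a, b, i` positive integers with `i < a + b`. On the
projective line with `A = 0`, `B = ∞`, `P = -1`, the system `V_{a,b} = H⁰(ω((1+a)A)) ⊕ H⁰(ω((1+b)B))
⊆ H⁰(O(a+b))` is the space of polynomials of degree at most `a+b` with vanishing coefficient of
`X^a`, and `V = V_{a,b}(-iP)` (divided by `(X+1)^i`) is the space of `G` of degree at most `a+b-i`
such that the coefficient of `X^a` in `(X+1)^i G` vanishes; it is a linear system of dimension and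
degree `a+b-i`. Then no point of the projective line other than `A` and `B` is a special
ramification point of `V` (a point of weight at least two); for such a system a point `q` of the
affine line is special exactly when two independent members are divisible by `(X-q)^(a+b-i-1)`, so
the statement is that this fails for every `q ≠ 0`. (The published statement does not except `A` and
`B`, but `A` has weight `max(b-i, 0)` in `V`, which is `2` for `a = 1, b = 3, i = 1`: there `X^3`
and `X^2` both lie in `V`. It is stated over the complex numbers.) -/
theorem result
    (k : Type*) [Field k] [CharZero k] (a b i : ℕ) (ha : 0 < a) (hb : 0 < b) (hi : 0 < i) (hiab : i < a + b)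
    (V : Submodule k (Polynomial k))
    (hV : V = Polynomial.degreeLE k ↑(a + b - i) ⊓
      LinearMap.ker ((Polynomial.lcoeff k a).comp (LinearMap.mulLeft k (((X : Polynomial k) + 1) ^ i))))
    (q : k) (hq : q ≠ 0) :
    Module.finrank k ↥(V ⊓ (Ideal.span {(X - C q) ^ (a + b - i - 1)}).restrictScalars k) ≤ 1 := by
  exact Groth.Agent.H23.Wronsk.no_special_line a b i ha hb hi hiab V hV q hq

end Groth.Agent.S16262
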