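import Groth.Statements.S16263
import Groth.Agent.H23.Wronsk

set_option autoImplicit false
open W4c3wronskmg

namespace Groth.Agent.S16263

open Polynomial in
/-- Let `k` be a field of characteristic zero and `a` a positive integer. On the projective line with `A
= 0`, `B = -1`, `C = ∞`, the `(a+1)`-dimensional system `V = H⁰(ω((1+a)C)) ⊕ H⁰(ω(A+B)) ⊆
H⁰(ω((1+a)C + A + B)) ≅ H⁰(O(a+1))` is, in the affine coordinate, the space of polynomials `c + X
(X+1) F` with `c` a constant and `deg F ≤ a - 1`. Then `V` has no special ramification point (no
point of weight at least two): since the members have degree at most `a + 1`, this says that for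
every point `p` of the affine line at most a one-dimensional subspace of `V` is divisible by
`(X-p)^a`, and at `C` that at most a one-dimensional subspace has degree at most one (degree less
than two). (The published statement carries two further positive integers `i, j` with `i + j = a -
1`, used only in its second assertion, and is over the complex numbers.) -/
theorem result
    (k : Type*) [Field k] [CharZero k] (a : ℕ) (ha : 0 < a)
    (V : Submodule k (Polynomial k))
    (hV : V = Submodule.span k {(1 : Polynomial k)} ⊔
      ((Ideal.span {(X : Polynomial k) * (X + 1)}).restrictScalars k ⊓ Polynomial.degreeLE k ↑(a + 1))) :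
    (∀ p : k, Module.finrank k ↥(V ⊓ (Ideal.span {(X - C p) ^ a}).restrictScalars k) ≤ 1) ∧
      Module.finrank k ↥(V ⊓ Polynomial.degreeLT k 2) ≤ 1 := by
  exact Groth.Agent.H23.Wronsk.no_special_two_plus_one a ha V hV

end Groth.Agent.S16263
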