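import Groth.Statements.S16265
import Groth.Agent.FFLib.Small

set_option autoImplicit false
open FunFld Groth.Agent.FFLib WithZero

namespace Groth.Agent.S16265

/-- Let `K/k` be a function field of one variable over an algebraically closed field `k` of
characteristic zero (the function field of a smooth projective curve), `D` a divisor and `V ⊆ L(D)`
a linear system of dimension `r + 1`; write `V(-mP-nQ) = V ∩ L(D - mP - nQ)` for the members
vanishing to the indicated orders. Assume `V` has no special ramification point, i.e. no place of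
weight at least two: for every place `R`, `dim V(-rR) ≤ 1` and `V(-(r+2)R) = 0`. Let `P ≠ Q` be
places and `a, b ≥ 1` with `a + b = r + 1` (so that `V(-aP)` and `V(-bQ)` have dimensions `b` and
`a`). Then the following are equivalent: (1) the system `V(-aP)` has weight at least two at `Q`,
that is `dim V(-aP-(b-1)Q) ≥ 2` or `dim V(-aP-(b+1)Q) ≥ 1`, and the system `V(-bQ)` has weight at
least two at `P`, that is `dim V(-(a-1)P-bQ) ≥ 2` or `dim V(-(a+1)P-bQ) ≥ 1`; (2) one of (a) `dim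
V(-(a+1)P-(b+1)Q) ≥ 1`, (b) `dim V(-(a-1)P-(b-1)Q) ≥ 3`, (c) `dim V(-aP-(b+1)Q) ≥ 1` and `dim
V(-(a-1)P-bQ) ≥ 2`, (d) `dim V(-(a+1)P-bQ) ≥ 1` and `dim V(-aP-(b-1)Q) ≥ 2`. (The published
statement is for a smooth curve over the complex numbers.) -/
theorem result
    (k K : Type*) [Field k] [IsAlgClosed k] [CharZero k] [Field K] [Algebra k K]
    (hK : FunFld.IsFunctionField k K) (D : FunFld.Divisor k K)
    (V : Submodule k K) (hVD : V ≤ FunFld.L D) (r : ℕ) (hr : Module.finrank k ↥V = r + 1)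
    (hns : ∀ R : FunFld.Place k K,
      Module.finrank k ↥(V ⊓ FunFld.L (D - Finsupp.single R (r : ℤ))) ≤ 1 ∧
        V ⊓ FunFld.L (D - Finsupp.single R ((r : ℤ) + 2)) = ⊥)
    (P Q : FunFld.Place k K) (hPQ : P ≠ Q) (a b : ℕ) (ha : 1 ≤ a) (hb : 1 ≤ b) (hab : a + b = r + 1) :
    ((2 ≤ Module.finrank k ↥(V ⊓ FunFld.L (D - Finsupp.single P (a : ℤ) - Finsupp.single Q ((b : ℤ) - 1 : ℤ))) ∨
        1 ≤ Module.finrank k ↥(V ⊓ FunFld.L (D - Finsupp.single P (a : ℤ) - Finsupp.single Q ((b : ℤ) + 1 : ℤ)))) ∧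
      (2 ≤ Module.finrank k ↥(V ⊓ FunFld.L (D - Finsupp.single P ((a : ℤ) - 1 : ℤ) - Finsupp.single Q (b : ℤ))) ∨
        1 ≤ Module.finrank k ↥(V ⊓ FunFld.L (D - Finsupp.single P ((a : ℤ) + 1 : ℤ) - Finsupp.single Q (b : ℤ))))) ↔
    (1 ≤ Module.finrank k ↥(V ⊓ FunFld.L (D - Finsupp.single P ((a : ℤ) + 1 : ℤ) - Finsupp.single Q ((b : ℤ) + 1 : ℤ))) ∨
      3 ≤ Module.finrank k ↥(V ⊓ FunFld.L (D - Finsupp.single P ((a : ℤ) - 1 : ℤ) - Finsupp.single Q ((b : ℤ) - 1 : ℤ))) ∨
      (1 ≤ Module.finrank k ↥(V ⊓ FunFld.L (D - Finsupp.single P (a : ℤ) - Finsupp.single Q ((b : ℤ) + 1 : ℤ))) ∧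
        2 ≤ Module.finrank k ↥(V ⊓ FunFld.L (D - Finsupp.single P ((a : ℤ) - 1 : ℤ) - Finsupp.single Q (b : ℤ)))) ∨
      (1 ≤ Module.finrank k ↥(V ⊓ FunFld.L (D - Finsupp.single P ((a : ℤ) + 1 : ℤ) - Finsupp.single Q (b : ℤ))) ∧
        2 ≤ Module.finrank k ↥(V ⊓ FunFld.L (D - Finsupp.single P (a : ℤ) - Finsupp.single Q ((b : ℤ) - 1 : ℤ))))) := by
  classical
  have hd := deg_eq_one hK.1
  have hfin : ∀ X : FunFld.Divisor k K, FiniteDimensional k ↥(V ⊓ FunFld.L X) := fun X =>
    have := L_finite hK.1 X; Submodule.finiteDimensional_of_le inf_le_right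
  let W : ℤ → ℤ → Submodule k K := fun i j =>
    V ⊓ FunFld.L (D - Finsupp.single P i - Finsupp.single Q j)
  let f : ℤ → ℤ → ℕ := fun i j => Module.finrank k ↥(W i j)
  have hmono : ∀ i i' j j', i ≤ i' → j ≤ j' → W i' j' ≤ W i j := fun i i' j j' h1 h2 =>
    inf_le_inf_left _ (L_mono (sub_le_sub (sub_le_sub_left (Finsupp.single_le_single.mpr h1) _)
      (Finsupp.single_le_single.mpr h2)))
  have hm : ∀ i i' j j', i ≤ i' → j ≤ j' → f i' j' ≤ f i j := fun i i' j j' h1 h2 =>
    have := hfin (D - Finsupp.single P i - Finsupp.single Q j)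
    Submodule.finrank_mono (hmono i i' j j' h1 h2)
  have hstepP : ∀ i j, f i j ≤ f (i + 1) j + 1 := fun i j => by
    have := finrank_inf_step hK.1 V (D - Finsupp.single P i - Finsupp.single Q j) P
    rw [hd, show D - Finsupp.single P i - Finsupp.single Q j - Finsupp.single P 1 =
      D - Finsupp.single P (i + 1) - Finsupp.single Q j by rw [Finsupp.single_add]; abel] at this
    exact this
  have hstepQ : ∀ i j, f i j ≤ f i (j + 1) + 1 := fun i j => by
    have := finrank_inf_step hK.1 V (D - Finsupp.single P i - Finsupp.single Q j) Q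
    rw [hd, show D - Finsupp.single P i - Finsupp.single Q j - Finsupp.single Q 1 =
      D - Finsupp.single P i - Finsupp.single Q (j + 1) by rw [Finsupp.single_add]; abel] at this
    exact this
  have hinter : ∀ i j, W i (j + 1) ⊓ W (i + 1) j ≤ W (i + 1) (j + 1) := fun i j x ⟨h1, h2⟩ => by
    refine ⟨h1.1, fun S => ?_⟩
    by_cases hS : S = Q
    · subst hS
      have := h1.2 S
      simpa [hPQ] using this
    · have := h2.2 S
      simpa [Ne.symm hS] using this
  change ((2 ≤ f a (b - 1) ∨ 1 ≤ f a (b + 1)) ∧ (2 ≤ f (a - 1) b ∨ 1 ≤ f (a + 1) b)) ↔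
    (1 ≤ f (a + 1) (b + 1) ∨ 3 ≤ f (a - 1) (b - 1) ∨ (1 ≤ f a (b + 1) ∧ 2 ≤ f (a - 1) b) ∨
      (1 ≤ f (a + 1) b ∧ 2 ≤ f a (b - 1)))
  have s1 := hstepP (a - 1 : ℤ) (b - 1)
  have s2 := hstepQ (a - 1 : ℤ) (b - 1)
  have s3 := hstepP a b
  have s4 := hstepQ a b
  rw [sub_add_cancel] at s1 s2
  have m1 := hm a (a + 1) (b + 1) (b + 1) (by omega) le_rfl
  have m2 := hm (a + 1) (a + 1) b (b + 1) le_rfl (by omega)
  have m3 := hm (a : ℤ) a (b - 1) b le_rfl (by omega)
  constructor
  · rintro ⟨hA | hA, hB | hB⟩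
    · by_cases h3 : 3 ≤ f (a - 1) (b - 1)
      · exact Or.inr (Or.inl h3)
      have e1 : W a (b - 1) = W (a - 1) (b - 1) := by
        have := hfin (D - Finsupp.single P (a - 1 : ℤ) - Finsupp.single Q (b - 1 : ℤ))
        exact Submodule.eq_of_le_of_finrank_le (hmono _ _ _ _ (by omega) le_rfl) (by simp only [f] at hA h3; omega)
      have e2 : W (a - 1) b = W (a - 1) (b - 1) := by
        have := hfin (D - Finsupp.single P (a - 1 : ℤ) - Finsupp.single Q (b - 1 : ℤ))
        exact Submodule.eq_of_le_of_finrank_le (hmono _ _ _ _ le_rfl (by omega)) (by simp only [f] at hB h3; omega)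
      have hab' : 2 ≤ f a b := by
        have h := hinter (a - 1) (b - 1)
        rw [sub_add_cancel, sub_add_cancel, e1, e2, inf_idem] at h
        have := hfin (D - Finsupp.single P (a : ℤ) - Finsupp.single Q (b : ℤ))
        have := Submodule.finrank_mono h
        have := hm (a - 1 : ℤ) (a - 1) (b - 1) b le_rfl (by omega)
        simp only [f] at *
        omega
      exact Or.inr (Or.inr (Or.inl ⟨by omega, hB⟩))
    · exact Or.inr (Or.inr (Or.inr ⟨hB, hA⟩))
    · exact Or.inr (Or.inr (Or.inl ⟨hA, hB⟩))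
    · by_cases h2 : 2 ≤ f a b
      · exact Or.inr (Or.inr (Or.inr ⟨hB, by omega⟩))
      · left
        have := hfin (D - Finsupp.single P (a : ℤ) - Finsupp.single Q (b : ℤ))
        have e1 : W a (b + 1) = W a b :=
          Submodule.eq_of_le_of_finrank_le (hmono _ _ _ _ le_rfl (by omega)) (by simp only [f] at hA h2; omega)
        have e2 : W (a + 1) b = W a b :=
          Submodule.eq_of_le_of_finrank_le (hmono _ _ _ _ (by omega) le_rfl) (by simp only [f] at hB h2; omega)
        have h := hinter a b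
        rw [e1, e2, inf_idem] at h
        have := hfin (D - Finsupp.single P ((a : ℤ) + 1) - Finsupp.single Q ((b : ℤ) + 1))
        have := Submodule.finrank_mono h
        have := hm a a b (b + 1) le_rfl (by omega)
        simp only [f] at *
        omega
  · rintro (h | h | h | h)
    · exact ⟨Or.inr (by omega), Or.inr (by omega)⟩
    · exact ⟨Or.inl (by omega), Or.inl (by omega)⟩
    · exact ⟨Or.inr h.1, Or.inl h.2⟩
    · exact ⟨Or.inl h.2, Or.inr h.1⟩

end Groth.Agent.S16265
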