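import Groth.Statements.S16266
import Groth.Agent.FFLib.Small

set_option autoImplicit false
open FunFld Groth.Agent.FFLib WithZero

namespace Groth.Agent.S16266

/-- Let `K/k` be a function field of one variable over an algebraically closed field `k` of
characteristic zero, `D` a divisor, `V ⊆ L(D)` a linear system of dimension `r + 1` with `r ≥ 1`,
and `P` a place with `V' = V(-P) = V ∩ L(D - P) ≠ V`, an `r`-dimensional system in `L(D - P)`.
Assume that neither `V` nor `V'` has a special ramification point (a place of weight at least two):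
for every place `R`, `dim V ∩ L(D - rR) ≤ 1`, `V ∩ L(D - (r+2)R) = 0`, `dim V' ∩ L(D - P - (r-1)R) ≤
1` and `V' ∩ L(D - P - (r+1)R) = 0`. Then no place `Q ≠ P` is a ramification point of both `V` and
`V'`: for no such `Q` are both `V ∩ L(D - (r+1)Q)` and `V' ∩ L(D - P - rQ)` nonzero. (The published
statement is for a smooth curve over the complex numbers.) -/
theorem result
    (k K : Type*) [Field k] [IsAlgClosed k] [CharZero k] [Field K] [Algebra k K]
    (hK : FunFld.IsFunctionField k K) (D : FunFld.Divisor k K)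
    (V : Submodule k K) (hVD : V ≤ FunFld.L D) (r : ℕ) (hr : Module.finrank k ↥V = r + 1) (hr1 : 1 ≤ r)
    (P : FunFld.Place k K) (hP : V ⊓ FunFld.L (D - Finsupp.single P 1) ≠ V)
    (hns : ∀ R : FunFld.Place k K,
      Module.finrank k ↥(V ⊓ FunFld.L (D - Finsupp.single R (r : ℤ))) ≤ 1 ∧
        V ⊓ FunFld.L (D - Finsupp.single R ((r : ℤ) + 2)) = ⊥)
    (hns' : ∀ R : FunFld.Place k K,
      Module.finrank k ↥(V ⊓ FunFld.L (D - Finsupp.single P 1 - Finsupp.single R ((r : ℤ) - 1))) ≤ 1 ∧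
        V ⊓ FunFld.L (D - Finsupp.single P 1 - Finsupp.single R ((r : ℤ) + 1)) = ⊥)
    (Q : FunFld.Place k K) (hQP : Q ≠ P) :
    ¬ (V ⊓ FunFld.L (D - Finsupp.single Q ((r : ℤ) + 1)) ≠ ⊥ ∧
       V ⊓ FunFld.L (D - Finsupp.single P 1 - Finsupp.single Q (r : ℤ)) ≠ ⊥) := by
  classical
  rintro ⟨h1, h2⟩
  obtain ⟨x, hx, hx0⟩ := Submodule.exists_mem_ne_zero_of_ne_bot h1
  obtain ⟨y, hy, hy0⟩ := Submodule.exists_mem_ne_zero_of_ne_bot h2
  have hxL := (mem_L_sub_single (by omega)).mp hx.2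
  have hyL := (mem_L_sub_single (by omega)).mp hy.2
  have hyP := (mem_L_sub_single zero_le_one).mp hyL.1
  have hxA : x ∈ V ⊓ FunFld.L (D - Finsupp.single Q (r : ℤ)) := ⟨hx.1,
    L_mono (sub_le_sub_left (Finsupp.single_le_single.mpr (by omega)) _) hx.2⟩
  have hyA : y ∈ V ⊓ FunFld.L (D - Finsupp.single Q (r : ℤ)) := ⟨hy.1,
    (mem_L_sub_single (by omega)).mpr ⟨hyP.1, by simpa [Ne.symm hQP] using hyL.2⟩⟩
  have := L_finite hK.1 (D - Finsupp.single Q (r : ℤ))
  have : FiniteDimensional k ↥(V ⊓ FunFld.L (D - Finsupp.single Q (r : ℤ))) :=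
    Submodule.finiteDimensional_of_le inf_le_right
  obtain ⟨⟨v, hv⟩, hspan⟩ := finrank_le_one_iff.mp (hns Q).1
  obtain ⟨c, hc⟩ := hspan ⟨x, hxA⟩
  obtain ⟨c', hc'⟩ := hspan ⟨y, hyA⟩
  have hc0 : c ≠ 0 := fun e => hx0 (by
    have := congrArg Subtype.val hc; simp [e] at this; exact this.symm)
  have hxy : y = (c' / c) • x := by
    have e1 := congrArg Subtype.val hc
    have e2 := congrArg Subtype.val hc'
    simp only [Submodule.coe_smul] at e1 e2
    rw [← e1, ← e2, smul_smul, div_mul_cancel₀ _ hc0]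
  have hne : c' / c ≠ 0 := fun e => hy0 (by rw [hxy, e, zero_smul])
  have hxP : x ∈ FunFld.L (D - Finsupp.single P 1) := by
    rw [hxy] at hyP
    exact (mem_L_sub_single zero_le_one).mpr ⟨hxL.1, by simpa [val_smul _ hne] using hyP.2⟩
  have hmem : x ∈ V ⊓ FunFld.L (D - Finsupp.single P 1 - Finsupp.single Q ((r : ℤ) + 1)) :=
    ⟨hx.1, (mem_L_sub_single (by omega)).mpr ⟨hxP, by simpa [Ne.symm hQP] using hxL.2⟩⟩
  rw [(hns' Q).2] at hmem
  exact hx0 hmem

end Groth.Agent.S16266
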