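import Groth.Statements.S16268
import Mathlib.CategoryTheory.Sites.IsSheafFor
-- import your own Groth.Agent.* helpers here

set_option autoImplicit false
universe u w
open CategoryTheory CategoryTheory.Limits AlgebraicGeometry Opposite
open EtCore

namespace Groth.Agent.S16268

/-- Let X be a scheme, Y an etale X-scheme with Y -> X surjective, and G a finite group acting on Y by
X-automorphisms such that the morphisms (id, g) : Y -> Y x_X Y exhibit Y x_X Y as the coproduct of
copies of Y indexed by G (Y -> X is a Galois covering with group G). Let P be a presheaf of sets on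
the small etale site of X which takes this coproduct to a product: s |-> (g |-> (id, g)^* s) is a
bijection from P(Y x_X Y) onto the G-indexed families in P(Y). Then P satisfies the sheaf condition
for the covering consisting of the single morphism Y -> X if and only if the restriction P(X) ->
P(Y) is injective and its image is the set of G-invariant elements of P(Y). -/
theorem result (X : Scheme.{u})
    (Y : X.Etale) (hY : Function.Surjective Y.hom.base)
    {G : Type u} [Group G] [Finite G] (σ : G →* Aut Y)
    (hgal : Nonempty (IsColimit (Cofan.mk (Y ⨯ Y) (fun g : G => prod.lift (𝟙 Y) (σ g).hom))))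
    (P : X.Etaleᵒᵖ ⥤ Type w)
    (hP : Function.Bijective (fun s : P.obj (op (Y ⨯ Y)) => fun g : G => P.map (prod.lift (𝟙 Y) (σ g).hom).op s)) :
    Presieve.IsSheafFor P (Presieve.singleton ((EtCore.topIsTerminal X).from Y)) ↔
      (Function.Injective (P.map ((EtCore.topIsTerminal X).from Y).op) ∧
        Set.range (P.map ((EtCore.topIsTerminal X).from Y).op) = {s | ∀ g : G, P.map (σ g).hom.op s = s}) := by
  let f := (EtCore.topIsTerminal X).from Y
  have hinv : ∀ s : P.obj (op Y), Presieve.Arrows.Compatible P (fun _ : PUnit.{1} => f) (fun _ => s) ↔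
      ∀ g : G, P.map (σ g).hom.op s = s := by
    intro s
    refine ⟨fun h g => ?_, fun h => ?_⟩
    · have := h PUnit.unit PUnit.unit Y (σ g).hom (𝟙 Y) ((EtCore.topIsTerminal X).hom_ext _ _)
      simpa using this
    · have e : P.map (prod.fst : Y ⨯ Y ⟶ Y).op s = P.map (prod.snd : Y ⨯ Y ⟶ Y).op s := hP.1 (funext fun g => by
        show P.map (prod.lift (𝟙 Y) (σ g).hom).op _ = P.map (prod.lift (𝟙 Y) (σ g).hom).op _
        rw [← Functor.map_comp_apply, ← Functor.map_comp_apply, ← op_comp, ← op_comp, prod.lift_fst,
          prod.lift_snd, h g]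
        simp)
      intro _ _ Z a b _
      show P.map a.op s = P.map b.op s
      have ha : a = prod.lift a b ≫ prod.fst := (prod.lift_fst _ _).symm
      have hb : b = prod.lift a b ≫ prod.snd := (prod.lift_snd _ _).symm
      conv_lhs => rw [ha, op_comp, Functor.map_comp_apply, e]
      conv_rhs => rw [hb, op_comp, Functor.map_comp_apply]
  have e0 : Presieve.singleton f = Presieve.ofArrows (fun _ : PUnit.{1} => Y) (fun _ => f) :=
    (Presieve.ofArrows_pUnit.{0} f).symm
  refine (iff_of_eq (congrArg (Presieve.IsSheafFor P) e0)).trans ?_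
  refine (Presieve.isSheafFor_arrows_iff _ _).trans ?_
  constructor
  · intro h
    have hr : ∀ t, ∀ g : G, P.map (σ g).hom.op (P.map f.op t) = P.map f.op t := fun t g => by
      rw [← Functor.map_comp_apply, ← op_comp, (EtCore.topIsTerminal X).hom_ext ((σ g).hom ≫ f) f]
    refine ⟨fun t t' htt => ?_, Set.ext fun s => ⟨?_, fun hs => ?_⟩⟩
    · obtain ⟨w, -, hu⟩ := h _ ((hinv _).2 (hr t))
      exact (hu t fun _ => rfl).trans (hu t' fun _ => htt.symm).symm
    · rintro ⟨t, rfl⟩ g
      exact hr t g
    · obtain ⟨t, ht, -⟩ := h _ ((hinv s).2 hs)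
      exact ⟨t, ht PUnit.unit⟩
  · rintro ⟨hi, hr⟩ x hx
    have : x = fun _ => x PUnit.unit := rfl
    rw [this] at hx
    obtain ⟨t, ht⟩ := hr.ge ((hinv _).1 hx)
    exact ⟨t, fun _ => ht, fun t' ht' => hi ((ht' PUnit.unit).trans ht.symm)⟩

end Groth.Agent.S16268
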