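import Groth.Statements.S16269
import Groth.Agent.EtFound.CoprodSections
import Groth.Agent.S16268
-- import your own Groth.Agent.* helpers here

set_option autoImplicit false
universe u w
open CategoryTheory CategoryTheory.Limits AlgebraicGeometry Opposite
open EtCore

namespace Groth.Agent.S16269

/-- Let X be a scheme, Y an etale X-scheme with Y -> X surjective, and G a finite group acting on Y by
X-automorphisms such that the morphisms (id, g) : Y -> Y x_X Y exhibit Y x_X Y as the coproduct of
copies of Y indexed by G (a Galois covering with group G). For an abelian sheaf F on the small etale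
site of X, the restriction map F(X) -> F(Y) is injective and its image is the set of sections of F
over Y fixed by every element of G. -/
theorem result (X : Scheme.{u})
    (Y : X.Etale) (hY : Function.Surjective Y.hom.base)
    {G : Type u} [Group G] [Finite G] (σ : G →* Aut Y)
    (hgal : Nonempty (IsColimit (Cofan.mk (Y ⨯ Y) (fun g : G => prod.lift (𝟙 Y) (σ g).hom))))
    (F : EtCoh.Ab X) :
    Function.Injective (F.obj.map ((EtCore.topIsTerminal X).from Y).op) ∧
      Set.range (F.obj.map ((EtCore.topIsTerminal X).from Y).op) =
        {s : EtCoh.sect F Y | ∀ g : G, F.obj.map (σ g).hom.op s = s} := by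
  obtain ⟨hcol⟩ := hgal
  obtain ⟨hl⟩ := Groth.Agent.EtFound.nonempty_isColimit_left _ _ hcol
  obtain ⟨hcov, hdisj, hmono, -⟩ := Groth.Agent.EtFound.cover_disjoint_mono_of_isColimit _ _ hl
  have hP : Function.Bijective (fun s : (F.obj ⋙ forget AddCommGrpCat.{u + 1}).obj (Opposite.op (Y ⨯ Y)) =>
      fun g : G => (F.obj ⋙ forget AddCommGrpCat.{u + 1}).map (prod.lift (𝟙 Y) (σ g).hom).op s) :=
    Groth.Agent.EtFound.bijective_sections_of_disjoint F (fun _ : G => Y)
      (fun g => prod.lift (𝟙 Y) (σ g).hom) hcov hdisj
  refine (Groth.Agent.S16268.result X Y hY σ ⟨hcol⟩ (F.obj ⋙ forget AddCommGrpCat.{u + 1}) hP).1 ?_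
  rw [← Presieve.ofArrows_pUnit.{0}]
  exact Groth.Agent.EtFound.isSheafFor_of_covers F _ _ fun x =>
    ⟨PUnit.unit, (hY ((EtCoh.top X).hom.base x)).choose, by
      have h := (hY ((EtCoh.top X).hom.base x)).choose_spec
      have w := MorphismProperty.Over.w ((EtCore.topIsTerminal X).from Y)
      have e : ((EtCore.topIsTerminal X).from Y).left = Y.hom := by
        rw [← w]; exact (Category.comp_id _).symm
      rw [e]
      exact h⟩

end Groth.Agent.S16269
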