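import Groth.Statements.S16270
import Groth.Agent.HS11.Main

set_option autoImplicit false
universe u
open CategoryTheory CategoryTheory.Limits AlgebraicGeometry Opposite
open EtCore

namespace Groth.Agent.S16270

/-- Let X be a scheme, Y an etale X-scheme with Y -> X surjective, G a finite group acting on Y by
X-automorphisms such that the morphisms (id, g) : Y -> Y x_X Y exhibit Y x_X Y as the coproduct of
copies of Y indexed by G (a finite Galois covering with group G), and F an abelian sheaf on the
small etale site of X. Let G act on H^q(Y, F|_Y) through pull-back along the inverses of the given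
automorphisms, and let A_q be linear representations of G (over the integers, lifted to the ambient
universe) equipped with G-equivariant additive identifications with the groups H^q(Y, F|_Y). Then
there are a bounded E_2 cohomological spectral sequence of abelian groups whose term E_2^{p,q} is
isomorphic to the group cohomology H^p(G, A_q) for p, q >= 0 and is zero otherwise, and abutment
data with finite filtrations on H^n(X, F) for n >= 0 (zero for n < 0). The E_2 identifications and
the abutment isomorphisms are asserted to exist only; edge maps are not part of the statement.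
(Exactness of pull-back of abelian sheaves along the automorphisms, which always holds, is carried
as an instance hypothesis; G is taken in the universe of the cohomology groups because group
cohomology is formed there.) -/
theorem result (X : Scheme.{u})
    (Y : X.Etale) (hY : Function.Surjective Y.hom.base)
    {G : Type (u + 1)} [Group G] [Finite G] (σ : G →* Aut Y)
    (hgal : Nonempty (IsColimit (Cofan.mk (Y ⨯ Y) (fun g : G => prod.lift (𝟙 Y) (σ g).hom))))
    [∀ g : G, PreservesFiniteLimits (EtCoh.pull (σ g).inv.left)]
    (F : EtCoh.Ab X) (A : ℕ → Rep.{u + 1, u + 1, u + 1} (ULift.{u + 1} ℤ) G)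
    (e : ∀ q : ℕ, (A q).V ≃+ EtCoh.H Y.left ((EtCoh.pull Y.hom).obj F) q)
    (he : ∀ (q : ℕ) (g : G) (v : (A q).V),
      e q ((A q).ρ g v) =
        EtCore.HpullVia (σ g).inv.left Y.hom Y.hom (MorphismProperty.Over.w (σ g).inv) F q (e q v)) :
    ∃ (E : E₂CohomologicalSpectralSequence AddCommGrpCat.{u + 1})
      (a : SpSeq.Abutment E (fun n : ℤ =>
        if 0 ≤ n then AddCommGrpCat.of (EtCoh.H X F n.toNat) else AddCommGrpCat.of PUnit.{u + 2})),
      (∀ n, a.IsFinite n) ∧ SpSeq.IsBounded E ∧
      ∀ p q : ℤ, Nonempty ((E.page 2 le_rfl).X (p, q) ≅
        (if 0 ≤ p ∧ 0 ≤ q then AddCommGrpCat.of (groupCohomology (A q.toNat) p.toNat)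
         else AddCommGrpCat.of PUnit.{u + 2})) := by
  exact Groth.Agent.HS11.exists_hochschildSerre σ hgal hY F A e he


end Groth.Agent.S16270
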