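import Groth.Statements.S16280
import Groth.Agent.H9Misc.RelExtSS
import Groth.Agent.H9Misc.SSProp
import Groth.Agent.Lib.ExtShCoh
import Groth.Agent.KFlatLib.Scheme.CohD
import Groth.Agent.PnCoh.Chow.Proper
import Groth.Agent.S0036

set_option autoImplicit false
universe u
open CategoryTheory CategoryTheory.Limits AlgebraicGeometry
open Coherent

namespace Groth.Agent.S16280

/-- Let Y be a Noetherian scheme, f : X → Y a morphism admitting a factorisation through a closed
immersion e : X → P^n_Y followed by the projection (a projective morphism), and F, G coherent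
O_X-modules. Then for every p ≥ 0 the relative Ext sheaf Ext^p_f(F, G) — the value at G of the p-th
right derived functor of the left exact functor G ↦ f_* Hom_{O_X}(F, G) from O_X-modules to
O_Y-modules — is a coherent O_Y-module. (The internal Hom functor of F, injective resolutions of
O_X-modules and additivity of the composite functor are the stated instance hypotheses, all true.) -/
theorem result (X Y : Scheme.{u}) [IsNoetherian Y] (f : X ⟶ Y)
    (n : ℕ) (e : X ⟶ CohB1.ProjSpaceOver n Y) [IsClosedImmersion e] (he : e ≫ CohB1.ProjSpaceOver.toBase n Y = f)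
    (F G : X.Modules) (hF : Coh.IsCoh F) (hG : Coh.IsCoh G)
    [ModSite.HasSheafHom (O := X.sheaf) F] [HasInjectiveResolutions (ModSite.Mod X.sheaf)]
    [(ModSite.sheafHom (O := X.sheaf) F ⋙ Scheme.Modules.pushforward f).Additive] (p : ℕ) :
    Coh.IsCoh (((ModSite.sheafHom (O := X.sheaf) F ⋙ Scheme.Modules.pushforward f).rightDerived p).obj G) := by
  haveI : HasInjectiveResolutions X.Modules := ‹HasInjectiveResolutions (ModSite.Mod X.sheaf)›
  haveI : IsLocallyNoetherian Y := inferInstance
  haveI hP : IsProper (CohB1.ProjSpaceOver.toBase n Y) := by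
    haveI := Groth.Agent.PnCoh.Chow.isProper_toSpec n (ULift.{u} ℤ)
    exact MorphismProperty.of_isPullback (IsPullback.of_hasPullback (CohB1.ProjSpace.toSpec n (ULift.{u} ℤ))
      (specULiftZIsTerminal.from Y)) ‹_›
  haveI : IsProper f := by rw [← he]; infer_instance
  haveI : IsLocallyNoetherian X := LocallyOfFiniteType.isLocallyNoetherian f
  let H : X.Modules ⥤ X.Modules := ModSite.sheafHom (O := X.sheaf) F
  haveI : H.Additive := ((ModSite.sheafHom_additive X.sheaf F : (ModSite.sheafHom (O := X.sheaf) F).Additive) : _)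
  haveI : ∀ {Z : Scheme.{u}} (k : X ⟶ Z),
      (ModSite.sheafHom (O := X.sheaf) F ⋙ Scheme.Modules.pushforward k).Additive := fun k => by
    haveI := Groth.Agent.H9Misc.RelExtSS.additive_push k
    exact inferInstanceAs (H ⋙ Scheme.Modules.pushforward k).Additive
  obtain ⟨E, a, hfin, -, hE⟩ := Groth.Agent.H9Misc.RelExtSS.exists_ss (𝟙 X) f F G
  let η : H ⋙ Scheme.Modules.pushforward (𝟙 X ≫ f) ≅ H ⋙ Scheme.Modules.pushforward f :=
    Functor.isoWhiskerLeft H (Scheme.Modules.pushforwardCongr (Category.id_comp f))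
  let θ : H ⋙ Scheme.Modules.pushforward (𝟙 X) ≅ H :=
    Functor.isoWhiskerLeft H (Scheme.Modules.pushforwardId X) ≪≫ H.rightUnitor
  have hzero : ∀ M : Y.Modules, IsZero M → Coh.IsCoh M := fun _ h => Groth.Agent.KFlatLib.isCoh_of_isZero h
  have h := Groth.Agent.H9Misc.SSProp.abutment (C := Y.Modules) Coh.IsCoh hzero
    (fun e => Groth.Agent.KFlatLib.isCoh_of_iso e) (fun g hX hY => Groth.Agent.QCoh.isCoh_kernel hX hY g)
    (fun g hX hY => Groth.Agent.QCoh.isCoh_cokernel hX.1 hY g)
    (fun _ hS => Groth.Agent.KFlatLib.isCoh_of_shortExact hS)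
    (p : ℤ) a (hfin _)
    (fun x hx => by
      obtain ⟨i⟩ := hE x.1 x.2
      rw [if_neg (by omega)] at i
      exact (isZero_zero Y.Modules).of_iso i)
    (fun x hx => by
      obtain ⟨i⟩ := hE x.1 x.2
      refine Groth.Agent.KFlatLib.isCoh_of_iso i.symm ?_
      split_ifs with hpq
      · refine Groth.Agent.S0036.result f _ (Groth.Agent.KFlatLib.isCoh_of_iso
          ((Groth.Agent.SiteBase.rightDerivedCongr θ x.2.toNat).app G).symm ?_) _
        exact Groth.Agent.ExtShCoh.isCoh_extSh hF hG _
      · exact hzero _ (isZero_zero _))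
  have hc : (0 : ℤ) ≤ (p : ℤ) := Int.natCast_nonneg p
  rw [if_pos hc, Int.toNat_natCast] at h
  exact Groth.Agent.KFlatLib.isCoh_of_iso ((Groth.Agent.SiteBase.rightDerivedCongr η p).app G) h

end Groth.Agent.S16280
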