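import Groth.Statements.S16281
import Groth.Agent.Lib.ExtShCoh
import Groth.Agent.SheafHomY.Ext
import Groth.Agent.KFlatLib.Scheme.RpushRestrict

set_option autoImplicit false
universe u
open CategoryTheory CategoryTheory.Limits AlgebraicGeometry
open Coherent

namespace Groth.Agent.S16281

/-- Let f : X → Y be a morphism of schemes, F and G O_X-modules, W ⊆ Y an open subscheme and p ≥ 0.
Write Ext^p_f(F, -) for the p-th right derived functor of the left exact functor G ↦ f_*
Hom_{O_X}(F, G) from O_X-modules to O_Y-modules (the relative Ext sheaves). Then the restriction of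
Ext^p_f(F, G) to W is isomorphic to Ext^p_{f'}(F|_{f⁻¹W}, G|_{f⁻¹W}), where f' : f⁻¹W → W is the
restricted morphism. (Stated for schemes, the published statement being for ringed spaces; existence
of an isomorphism of O_W-modules only. The internal Hom functors, injective resolutions and
additivity of the composite functors on X and on f⁻¹W are the stated instance hypotheses, all true.) -/
theorem result (X Y : Scheme.{u}) (f : X ⟶ Y) (W : Y.Opens)
    (F G : X.Modules) (p : ℕ)
    [ModSite.HasSheafHom (O := X.sheaf) F] [HasInjectiveResolutions (ModSite.Mod X.sheaf)]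
    [(ModSite.sheafHom (O := X.sheaf) F ⋙ Scheme.Modules.pushforward f).Additive]
    [ModSite.HasSheafHom (O := (↑(f ⁻¹ᵁ W) : Scheme.{u}).sheaf) (F.restrict (f ⁻¹ᵁ W).ι)]
    [HasInjectiveResolutions (ModSite.Mod (↑(f ⁻¹ᵁ W) : Scheme.{u}).sheaf)]
    [(ModSite.sheafHom (O := (↑(f ⁻¹ᵁ W) : Scheme.{u}).sheaf) (F.restrict (f ⁻¹ᵁ W).ι) ⋙ Scheme.Modules.pushforward (f ∣_ W)).Additive] :
    Nonempty ((Scheme.Modules.restrictFunctor W.ι).obj (((ModSite.sheafHom (O := X.sheaf) F ⋙ Scheme.Modules.pushforward f).rightDerived p).obj G) ≅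
      ((ModSite.sheafHom (O := (↑(f ⁻¹ᵁ W) : Scheme.{u}).sheaf) (F.restrict (f ⁻¹ᵁ W).ι) ⋙ Scheme.Modules.pushforward (f ∣_ W)).rightDerived p).obj
        (G.restrict (f ⁻¹ᵁ W).ι)) := by
  haveI : HasInjectiveResolutions X.Modules :=
    inferInstanceAs (HasInjectiveResolutions (ModSite.Mod X.sheaf))
  haveI : HasInjectiveResolutions (f ⁻¹ᵁ W).toScheme.Modules :=
    inferInstanceAs (HasInjectiveResolutions (ModSite.Mod (f ⁻¹ᵁ W).toScheme.sheaf))
  let j := (f ⁻¹ᵁ W).ι
  haveI := Groth.Agent.ExtShLocal.preservesHomology_restrict W.ι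
  haveI := Groth.Agent.ExtShLocal.preservesHomology_restrict j
  haveI : (Scheme.Modules.restrictFunctor W.ι).Additive := Functor.additive_of_preserves_binary_products _
  let I : InjectiveResolution G := InjectiveResolution.of G
  let F' := (Scheme.Modules.restrictFunctor j).obj F
  let A : X.Modules ⥤ Y.Modules := ModSite.sheafHom (O := X.sheaf) F ⋙ Scheme.Modules.pushforward f
  let B : (f ⁻¹ᵁ W).toScheme.Modules ⥤ W.toScheme.Modules := ModSite.sheafHom (O := (↑(f ⁻¹ᵁ W) : Scheme.{u}).sheaf) (F.restrict j) ⋙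
    Scheme.Modules.pushforward (f ∣_ W)
  haveI : A.Additive := ‹(ModSite.sheafHom (O := X.sheaf) F ⋙ Scheme.Modules.pushforward f).Additive›
  haveI : B.Additive := ‹(ModSite.sheafHom (O := (↑(f ⁻¹ᵁ W) : Scheme.{u}).sheaf) (F.restrict j) ⋙
    Scheme.Modules.pushforward (f ∣_ W)).Additive›
  let θ : A ⋙ Scheme.Modules.restrictFunctor W.ι ≅ Scheme.Modules.restrictFunctor j ⋙ B :=
    Functor.associator _ _ _ ≪≫
      Functor.isoWhiskerLeft _ (Groth.Agent.KFlatLib.pushRestrictIso f W) ≪≫
      (Functor.associator _ _ _).symm ≪≫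
      Functor.isoWhiskerRight (Functor.isoWhiskerRight (Groth.Agent.SheafHomY.sheafHomIso F) _ ≪≫
        Groth.Agent.SheafHomX.restrictIso j F ≪≫
        Functor.isoWhiskerLeft (Scheme.Modules.restrictFunctor j)
          (Groth.Agent.SheafHomY.sheafHomIso F').symm) _ ≪≫
      Functor.associator _ _ _
  let C := (A.mapHomologicalComplex (ComplexShape.up ℕ)).obj I.cocomplex
  let c : ((Scheme.Modules.restrictFunctor W.ι).mapHomologicalComplex (ComplexShape.up ℕ)).obj C ≅
      (B.mapHomologicalComplex (ComplexShape.up ℕ)).obj (Groth.Agent.ExtShLocal.restrictRes j I).cocomplex :=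
    HomologicalComplex.Hom.isoOfComponents (fun i => θ.app _) fun i i' _ =>
      (θ.hom.naturality (I.cocomplex.d i i')).symm
  exact ⟨(Scheme.Modules.restrictFunctor W.ι).mapIso (I.isoRightDerivedObj A p) ≪≫
    ((C.sc p).mapHomologyIso (Scheme.Modules.restrictFunctor W.ι)).symm ≪≫
    HomologicalComplex.homologyMapIso c p ≪≫
    ((Groth.Agent.ExtShLocal.restrictRes j I).isoRightDerivedObj B p).symm⟩

end Groth.Agent.S16281
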