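import Groth.Statements.S16282
import Groth.Agent.H9Misc.RelExtTensor

set_option autoImplicit false
set_option backward.isDefEq.respectTransparency false
set_option backward.isDefEq.respectTransparency.types false
set_option maxHeartbeats 800000
universe u
open CategoryTheory CategoryTheory.Limits AlgebraicGeometry
open Coherent

namespace Groth.Agent.S16282

/-- Let f : X → Y be a morphism of schemes, F and G O_X-modules, L a finite locally free O_X-module with
dual L^∨ = Hom_{O_X}(L, O_X), N a finite locally free O_Y-module and p ≥ 0. Write Ext^p_f(M, -) for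
the p-th right derived functor of the left exact functor G ↦ f_* Hom_{O_X}(M, G) from O_X-modules to
O_Y-modules. Then Ext^p_f(F ⊗ L, G ⊗ f^*N) is isomorphic to Ext^p_f(F, G ⊗ L^∨) ⊗ N. (Stated for
schemes, the published statement being for ringed spaces and a chain of two functorial isomorphisms;
existence of an isomorphism of O_Y-modules only. The internal Hom functors, injective resolutions
and additivity of the composite functors are the stated instance hypotheses, all true.) -/
theorem result (X Y : Scheme.{u}) (f : X ⟶ Y) (F G L : X.Modules) (N : Y.Modules)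
    (hL : FlatMod.IsFinLocFree L) (hN : FlatMod.IsFinLocFree N) (p : ℕ)
    [ModSite.HasSheafHom (O := X.sheaf) F] [ModSite.HasSheafHom (O := X.sheaf) L]
    [ModSite.HasSheafHom (O := X.sheaf) (CohB1.tensorMod F L)] [HasInjectiveResolutions (ModSite.Mod X.sheaf)]
    [(ModSite.sheafHom (O := X.sheaf) F ⋙ Scheme.Modules.pushforward f).Additive]
    [(ModSite.sheafHom (O := X.sheaf) (CohB1.tensorMod F L) ⋙ Scheme.Modules.pushforward f).Additive] :
    Nonempty (((ModSite.sheafHom (O := X.sheaf) (CohB1.tensorMod F L) ⋙ Scheme.Modules.pushforward f).rightDerived p).obj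
        (CohB1.tensorMod G ((Scheme.Modules.pullback f).obj N)) ≅
      CohB1.tensorMod (((ModSite.sheafHom (O := X.sheaf) F ⋙ Scheme.Modules.pushforward f).rightDerived p).obj
        (CohB1.tensorMod G ((ModSite.sheafHom (O := X.sheaf) L).obj (Coh.structureModule X)))) N) := by
  haveI : EnoughInjectives (ModSite.Mod X.sheaf) := SpObjSS.enoughInjectives_of_hasInjectiveResolutions
  haveI : EnoughInjectives X.Modules := ‹EnoughInjectives (ModSite.Mod X.sheaf)›
  haveI : (Scheme.Modules.pushforward f).Additive :=
    (Scheme.Modules.pullbackPushforwardAdjunction f).right_adjoint_additive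
  haveI : (SheafHomX.hom F ⋙ Scheme.Modules.pushforward f).Additive := Functor.instAdditiveComp _ _
  haveI : (SheafHomX.hom (CohB1.tensorMod F L) ⋙ Scheme.Modules.pushforward f).Additive := Functor.instAdditiveComp _ _
  let Ψ : X.Modules ⥤ Y.Modules := ModSite.sheafHom (O := X.sheaf) F ⋙ Scheme.Modules.pushforward f
  let Ψ' : X.Modules ⥤ Y.Modules :=
    ModSite.sheafHom (O := X.sheaf) (CohB1.tensorMod F L) ⋙ Scheme.Modules.pushforward f
  haveI : Ψ.Additive := ‹(ModSite.sheafHom (O := X.sheaf) F ⋙ Scheme.Modules.pushforward f).Additive›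
  haveI : Ψ'.Additive :=
    ‹(ModSite.sheafHom (O := X.sheaf) (CohB1.tensorMod F L) ⋙ Scheme.Modules.pushforward f).Additive›
  let sF : Ψ ≅ SheafHomX.hom F ⋙ Scheme.Modules.pushforward f :=
    Functor.isoWhiskerRight (SheafHomY.sheafHomIso F) (Scheme.Modules.pushforward f)
  let sFL : Ψ' ≅ SheafHomX.hom (CohB1.tensorMod F L) ⋙ Scheme.Modules.pushforward f :=
    Functor.isoWhiskerRight (SheafHomY.sheafHomIso (CohB1.tensorMod F L)) (Scheme.Modules.pushforward f)
  obtain ⟨e⟩ := H9Misc.RelExtTensor.nonempty_iso f F G hL hN p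
  exact ⟨(SiteBase.rightDerivedCongr sFL p).app _ ≪≫ e ≪≫
    (SheafHomX.ten N).mapIso ((((SheafHomX.hom F ⋙ Scheme.Modules.pushforward f).rightDerived p).mapIso
      (((DCoh.tensorBi (X := X)).obj G).mapIso ((SheafHomY.sheafHomIso L).app (Coh.structureModule X)).symm)) ≪≫
      ((SiteBase.rightDerivedCongr sF p).app _).symm)⟩

end Groth.Agent.S16282
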