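import Groth.Statements.S16284
import Groth.Agent.H9Misc.RelExtTwistVanish
import Groth.Agent.S16280

set_option autoImplicit false
set_option linter.style.haveILetI false
set_option backward.isDefEq.respectTransparency false
set_option backward.isDefEq.respectTransparency.types false
set_option maxHeartbeats 800000
universe u
open CategoryTheory CategoryTheory.Limits AlgebraicGeometry
open Coherent

namespace Groth.Agent.S16284

/-- Let Z be a Noetherian scheme, g : Y → Z a morphism factoring through a closed immersion e' : Y →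
P^m_Z followed by the projection, O_Y(l) = e'^*O(l), f : X → Y a morphism factoring through a closed
immersion X → P^n_Y followed by the projection, h = g ∘ f, and F, G coherent O_X-modules. For a
morphism u out of X write Ext^p_u(F, -) for the p-th right derived functor of the left exact functor
G ↦ u_* Hom_{O_X}(F, G). Then for every p ≥ 0 there is l₀ such that for all l ≥ l₀ the O_Z-module
g_* Ext^p_f(F, G ⊗ f^*O_Y(l)) is isomorphic to Ext^p_h(F, G ⊗ f^*O_Y(l)). (Existence of an
isomorphism of O_Z-modules only. The internal Hom functor of F, injective resolutions and additivity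
of the composite functors are the stated instance hypotheses, all true.) -/
theorem result (Z : Scheme.{u}) [IsNoetherian Z] (m : ℕ)
    (Y : Scheme.{u}) (g : Y ⟶ Z) (e' : Y ⟶ CohB1.ProjSpaceOver m Z) [IsClosedImmersion e']
    (he' : e' ≫ CohB1.ProjSpaceOver.toBase m Z = g)
    (n : ℕ) (X : Scheme.{u}) (f : X ⟶ Y) (e : X ⟶ CohB1.ProjSpaceOver n Y) [IsClosedImmersion e]
    (he : e ≫ CohB1.ProjSpaceOver.toBase n Y = f)
    (F G : X.Modules) (hF : Coh.IsCoh F) (hG : Coh.IsCoh G) (p : ℕ)
    [ModSite.HasSheafHom (O := X.sheaf) F] [HasInjectiveResolutions (ModSite.Mod X.sheaf)]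
    [(ModSite.sheafHom (O := X.sheaf) F ⋙ Scheme.Modules.pushforward f).Additive]
    [(ModSite.sheafHom (O := X.sheaf) F ⋙ Scheme.Modules.pushforward (f ≫ g)).Additive] :
    ∃ l₀ : ℕ, ∀ l : ℕ, l₀ ≤ l →
      Nonempty ((Scheme.Modules.pushforward g).obj (((ModSite.sheafHom (O := X.sheaf) F ⋙ Scheme.Modules.pushforward f).rightDerived p).obj
          (CohB1.tensorMod G ((Scheme.Modules.pullback f).obj
            ((Scheme.Modules.pullback e').obj (Twist.twistOver m Z (l : ℤ)))))) ≅
        ((ModSite.sheafHom (O := X.sheaf) F ⋙ Scheme.Modules.pushforward (f ≫ g)).rightDerived p).obj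
          (CohB1.tensorMod G ((Scheme.Modules.pullback f).obj
            ((Scheme.Modules.pullback e').obj (Twist.twistOver m Z (l : ℤ)))))) := by
  haveI : EnoughInjectives (ModSite.Mod X.sheaf) := SpObjSS.enoughInjectives_of_hasInjectiveResolutions
  haveI : EnoughInjectives X.Modules := ‹EnoughInjectives (ModSite.Mod X.sheaf)›
  haveI : IsProper (KRR.pr m Z) :=
    MorphismProperty.pullback_snd _ _ (PnCoh.Chow.isProper_toSpec m (ULift.{u} ℤ))
  subst he'
  haveI : IsProper (e' ≫ CohB1.ProjSpaceOver.toBase m Z) := by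
    show IsProper (e' ≫ KRR.pr m Z)
    infer_instance
  haveI : IsLocallyNoetherian Y := LocallyOfFiniteType.isLocallyNoetherian (e' ≫ CohB1.ProjSpaceOver.toBase m Z)
  haveI : CompactSpace Y := QuasiCompact.compactSpace_of_compactSpace (e' ≫ CohB1.ProjSpaceOver.toBase m Z)
  haveI : IsNoetherian Y := { }
  haveI : (Scheme.Modules.pushforward f).Additive :=
    (Scheme.Modules.pullbackPushforwardAdjunction f).right_adjoint_additive
  haveI : (SheafHomX.hom F ⋙ Scheme.Modules.pushforward f).Additive := Functor.instAdditiveComp _ _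
  let Ψ : X.Modules ⥤ Y.Modules := ModSite.sheafHom (O := X.sheaf) F ⋙ Scheme.Modules.pushforward f
  haveI : Ψ.Additive := ‹(ModSite.sheafHom (O := X.sheaf) F ⋙ Scheme.Modules.pushforward f).Additive›
  let sF : Ψ ≅ SheafHomX.hom F ⋙ Scheme.Modules.pushforward f :=
    Functor.isoWhiskerRight (SheafHomY.sheafHomIso F) (Scheme.Modules.pushforward f)
  obtain ⟨l₀, hl₀⟩ := H9Misc.RelExtTwistVanish.exists_isZero_Rpush_twist e' p
    (fun b => (Ψ.rightDerived b).obj G)
    (fun b => Groth.Agent.S16280.result X Y f n e he F G hF hG b)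
  refine ⟨l₀, fun l hl => ?_⟩
  let N : Y.Modules := (Scheme.Modules.pullback e').obj (Twist.twistOver m Z (l : ℤ))
  let A : X.Modules := CohB1.tensorMod G ((Scheme.Modules.pullback f).obj N)
  have hN : FlatMod.IsFinLocFree N := fun s => by
    obtain ⟨U, hs, ⟨i⟩⟩ := PicClLib.isInvertible_pullback e' (H28.KRRReg.isInvertible_twistOver (l : ℤ)) s
    exact ⟨U, 1, hs, ⟨i ≪≫ (coproductUniqueIso fun _ : Fin 1 => Coh.structureModule (↑U)).symm⟩⟩
  have key : ∀ b : ℕ, Nonempty ((Ψ.rightDerived b).obj A ≅ CohB1.tensorMod ((Ψ.rightDerived b).obj G) N) := by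
    intro b
    obtain ⟨i⟩ := H9Misc.RelExtTensor.nonempty_twist f F G hN b
    exact ⟨(SiteBase.rightDerivedCongr sF b).app A ≪≫ i ≪≫
      (SheafHomX.ten N).mapIso ((SiteBase.rightDerivedCongr sF b).app G).symm⟩
  obtain ⟨E, a, hfin, -, hE⟩ := H9Misc.RelExtSS.exists_ss f (e' ≫ CohB1.ProjSpaceOver.toBase m Z) F A
  obtain ⟨i⟩ := H9Misc.SSDegen.nonempty_iso (p : ℤ) a (hfin _)
    (fun x hx => by
      obtain ⟨i⟩ := hE x.1 x.2
      rw [if_neg (by omega)] at i
      exact (isZero_zero Z.Modules).of_iso i)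
    (fun x hx hx' => by
      obtain ⟨i⟩ := hE x.1 x.2
      refine IsZero.of_iso ?_ i
      split_ifs with hpq
      · obtain ⟨q, hq⟩ : ∃ q, x.1.toNat = q + 1 := ⟨x.1.toNat - 1, by omega⟩
        rw [hq]
        obtain ⟨j⟩ := key x.2.toNat
        exact (hl₀ l hl x.2.toNat (by omega) q).of_iso
          ((Coh.Rpush (e' ≫ CohB1.ProjSpaceOver.toBase m Z) (q + 1)).mapIso j)
      · exact isZero_zero _)
  obtain ⟨j⟩ := hE 0 (p : ℤ)
  have hc : (0 : ℤ) ≤ 0 ∧ (0 : ℤ) ≤ (p : ℤ) := ⟨le_rfl, Int.natCast_nonneg p⟩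
  rw [if_pos hc, Int.toNat_natCast, Int.toNat_zero] at j
  rw [if_pos (Int.natCast_nonneg p), Int.toNat_natCast] at i
  haveI := QCoh.preservesFiniteLimits_push (e' ≫ CohB1.ProjSpaceOver.toBase m Z)
  haveI : (Scheme.Modules.pushforward (e' ≫ CohB1.ProjSpaceOver.toBase m Z)).Additive :=
    H9Misc.RelExtSS.additive_push _
  exact ⟨((Scheme.Modules.pushforward (e' ≫ CohB1.ProjSpaceOver.toBase m Z)).rightDerivedZeroIsoSelf.app
    ((Ψ.rightDerived p).obj A)).symm ≪≫ j.symm ≪≫ i.symm⟩

end Groth.Agent.S16284
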