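import Groth.Statements.S16288
import Groth.Agent.FlatCxLib.Rank

set_option autoImplicit false
universe u
open CategoryTheory
open FlatCx

namespace Groth.Agent.S16288

/-- Let A be a Noetherian ring and P a chain complex of finitely generated flat A-modules, and for p and
a point x of Spec A let d_p(x) = dim_{k(x)} H_p(P ⊗_A k(x)). Fix p and a point z. If d_{p-1} and
d_{p+1} are constant on some neighbourhood of z, then d_p is constant on some neighbourhood of z.
(The published assertion concerns the function y ↦ dim H^p(X_y, F_y) for a coherent sheaf F flat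
over a projective morphism of Noetherian schemes X → Y: if it is not constant near a point, then the
functions for p - 1 and p + 1 are not both constant near that point. Stated here is the
corresponding property for any chain complex of finitely generated flat modules over a Noetherian
ring, from which the published form follows by applying it to a finite complex of such modules
computing the cohomology of the fibres.) -/
theorem result {A : Type u} [CommRing A] [IsNoetherianRing A]
    (P : ChainComplex (ModuleCat.{u} A) ℤ) (hP : ∀ i, Module.Finite A (P.X i) ∧ Module.Flat A (P.X i))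
    (p : ℤ) (z : PrimeSpectrum A)
    (hlo : ∀ᶠ x in nhds z, CohIII.dRank P (p - 1) x = CohIII.dRank P (p - 1) z)
    (hhi : ∀ᶠ x in nhds z, CohIII.dRank P (p + 1) x = CohIII.dRank P (p + 1) z) :
    ∀ᶠ x in nhds z, CohIII.dRank P p x = CohIII.dRank P p z := by
  have hfin := fun i => (hP i).1
  have hfp : ∀ i, Module.FinitePresentation A (P.X i) := fun i => by
    have := hfin i
    exact Module.finitePresentation_of_finite A (P.X i)
  have := hfin p
  have := hfin (p - 1)
  have := hfin (p - 1 - 1)
  have := hfin (p + 1)
  have h1 := Groth.Agent.FlatCxLib.dRank_add P hfin (show p + 1 = p + 1 from rfl) (show p - 1 + 1 = p by lia)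
  have h0 := Groth.Agent.FlatCxLib.dRank_add P hfin (show p - 1 + 1 = p by lia)
    (show p - 1 - 1 + 1 = p - 1 by lia)
  have h2 := Groth.Agent.FlatCxLib.dRank_add P hfin (show p + 1 + 1 = p + 1 + 1 from rfl)
    (show p + 1 = p + 1 from rfl)
  have hf : ∀ i, ∀ᶠ y in nhds z, Groth.Agent.FlatCxLib.fibreRank (P.X i) y =
      Groth.Agent.FlatCxLib.fibreRank (P.X i) z := fun i => by
    have := (hP i).2
    exact (Groth.Agent.FlatCxLib.isLocallyConstant_fibreRank (P.X i)).eventually_eq z
  have hw : ∀ a b, Module.Finite A (P.X b) → ∀ᶠ y in nhds z,
      Groth.Agent.FlatCxLib.fibreRank (Groth.Agent.FlatCxLib.Coker P a b) y <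
        Groth.Agent.FlatCxLib.fibreRank (Groth.Agent.FlatCxLib.Coker P a b) z + 1 := fun a b _ =>
    Groth.Agent.FlatCxLib.upperSemicontinuous_fibreRank _ z _ (Nat.lt_succ_self _)
  filter_upwards [hlo, hhi, hf p, hf (p - 1), hf (p - 1 - 1),
    hw (p + 1 + 1) (p + 1) inferInstance, hw (p + 1) p inferInstance, hw p (p - 1) inferInstance,
    hw (p - 1) (p - 1 - 1) inferInstance] with y a b c d e f g i j
  have := h0 y
  have := h0 z
  have := h1 y
  have := h1 z
  have := h2 y
  have := h2 z
  omega

end Groth.Agent.S16288
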