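import Groth.Statements.S16289
import Groth.Agent.H9Misc.RelExtIso

set_option autoImplicit false
universe u
open CategoryTheory CategoryTheory.Limits AlgebraicGeometry
open Coherent

namespace Groth.Agent.S16289

/-- For relative Ext sheaves in the first variable; let f : X → Y be a morphism of schemes, 0 → F' → F →
F'' → 0 a short exact sequence of O_X-modules (S below, with S.X₁ = F', S.X₂ = F, S.X₃ = F'') and G
an O_X-module. For an O_X-module M write Ext^p_f(M, -) for the p-th right derived functor of the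
left exact functor G ↦ f_* Hom_{O_X}(M, G), and for u : M' → M write u^* : Ext^p_f(M, G) →
Ext^p_f(M', G) for the map induced (right derived natural transformation) by Hom(M, -) → Hom(M', -).
Then Ext^0_f(F'', G) → Ext^0_f(F, G) is a monomorphism, for every p the pair Ext^p_f(F'', G) →
Ext^p_f(F, G) → Ext^p_f(F', G) composes to zero and is exact, and there are connecting morphisms δ_p
: Ext^p_f(F', G) → Ext^{p+1}_f(F'', G) making Ext^p_f(F, G) → Ext^p_f(F', G) → Ext^{p+1}_f(F'', G)
and Ext^p_f(F', G) → Ext^{p+1}_f(F'', G) → Ext^{p+1}_f(F, G) compose to zero and exact. (Stated for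
schemes, the published statement being for ringed spaces; the connecting maps are asserted to exist
only. The internal Hom functors, injective resolutions and additivity of the composite functors are
the stated instance hypotheses, all true.) -/
theorem result (X Y : Scheme.{u}) (f : X ⟶ Y) (S : ShortComplex X.Modules) (hS : S.ShortExact)
    (G : X.Modules)
    [ModSite.HasSheafHom (O := X.sheaf) S.X₁] [ModSite.HasSheafHom (O := X.sheaf) S.X₂] [ModSite.HasSheafHom (O := X.sheaf) S.X₃]
    [HasInjectiveResolutions (ModSite.Mod X.sheaf)]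
    [(ModSite.sheafHom (O := X.sheaf) S.X₁ ⋙ Scheme.Modules.pushforward f).Additive]
    [(ModSite.sheafHom (O := X.sheaf) S.X₂ ⋙ Scheme.Modules.pushforward f).Additive]
    [(ModSite.sheafHom (O := X.sheaf) S.X₃ ⋙ Scheme.Modules.pushforward f).Additive] :
    Mono ((NatTrans.rightDerived (Functor.whiskerRight (ExtSupp.sheafHomMap (O := X.sheaf) S.g) (Scheme.Modules.pushforward f)) 0).app G) ∧
    (∀ p : ℕ, ∃ w : (NatTrans.rightDerived (Functor.whiskerRight (ExtSupp.sheafHomMap (O := X.sheaf) S.g) (Scheme.Modules.pushforward f)) p).app G ≫ (NatTrans.rightDerived (Functor.whiskerRight (ExtSupp.sheafHomMap (O := X.sheaf) S.f) (Scheme.Modules.pushforward f)) p).app G = 0,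
      (ShortComplex.mk _ _ w).Exact) ∧
    ∃ δ : ∀ p : ℕ, ((ModSite.sheafHom (O := X.sheaf) S.X₁ ⋙ Scheme.Modules.pushforward f).rightDerived p).obj G ⟶ ((ModSite.sheafHom (O := X.sheaf) S.X₃ ⋙ Scheme.Modules.pushforward f).rightDerived (p + 1)).obj G,
      ∀ p : ℕ,
        (∃ w : (NatTrans.rightDerived (Functor.whiskerRight (ExtSupp.sheafHomMap (O := X.sheaf) S.f) (Scheme.Modules.pushforward f)) p).app G ≫ δ p = 0, (ShortComplex.mk _ _ w).Exact) ∧
        (∃ w : δ p ≫ (NatTrans.rightDerived (Functor.whiskerRight (ExtSupp.sheafHomMap (O := X.sheaf) S.g) (Scheme.Modules.pushforward f)) (p + 1)).app G = 0, (ShortComplex.mk _ _ w).Exact) := by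
  haveI : HasInjectiveResolutions X.Modules := ‹HasInjectiveResolutions (ModSite.Mod X.sheaf)›
  let I : InjectiveResolution (C := X.Modules) G := InjectiveResolution.of G
  let A₁ : X.Modules ⥤ Y.Modules := H9Misc.RelExtIso.relHom f S.X₁
  let A₂ : X.Modules ⥤ Y.Modules := H9Misc.RelExtIso.relHom f S.X₂
  let A₃ : X.Modules ⥤ Y.Modules := H9Misc.RelExtIso.relHom f S.X₃
  haveI : A₁.Additive := ‹(ModSite.sheafHom (O := X.sheaf) S.X₁ ⋙ Scheme.Modules.pushforward f).Additive›
  haveI : A₂.Additive := ‹(ModSite.sheafHom (O := X.sheaf) S.X₂ ⋙ Scheme.Modules.pushforward f).Additive›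
  haveI : A₃.Additive := ‹(ModSite.sheafHom (O := X.sheaf) S.X₃ ⋙ Scheme.Modules.pushforward f).Additive›
  obtain ⟨w, hc⟩ := H9Misc.RelExtShift.exists_shortExact f I hS
  let e₁ := fun p => H9Misc.RelExtIso.relExtIso f I S.X₁ p
  let e₂ := fun p => H9Misc.RelExtIso.relExtIso f I S.X₂ p
  let e₃ := fun p => H9Misc.RelExtIso.relExtIso f I S.X₃ p
  let u := fun p => (NatTrans.rightDerived (F := A₂) (G := A₁)
    (Functor.whiskerRight (ExtSupp.sheafHomMap (O := X.sheaf) S.f) (Scheme.Modules.pushforward f)) p).app G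
  let v := fun p => (NatTrans.rightDerived (F := A₃) (G := A₂)
    (Functor.whiskerRight (ExtSupp.sheafHomMap (O := X.sheaf) S.g) (Scheme.Modules.pushforward f)) p).app G
  have hu : ∀ p, u p ≫ (e₁ p).hom = (e₂ p).hom ≫ HomologicalComplex.homologyMap (H9Misc.RelExtShift.pcxMap f I S.f) p :=
    fun p => H9Misc.RelExtIso.relExtIso_naturality f I S.f p
  have hv : ∀ p, v p ≫ (e₂ p).hom = (e₃ p).hom ≫ HomologicalComplex.homologyMap (H9Misc.RelExtShift.pcxMap f I S.g) p :=
    fun p => H9Misc.RelExtIso.relExtIso_naturality f I S.g p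
  refine ⟨?_, fun p => ?_, fun p => (e₁ p).hom ≫ hc.δ p (p + 1) rfl ≫ (e₃ (p + 1)).inv, fun p => ⟨?_, ?_⟩⟩
  · show Mono (v 0)
    haveI := H9Misc.RelExtShift.mono_homologyMap_zero f I hS
    rw [show v 0 = (e₃ 0).hom ≫ HomologicalComplex.homologyMap (H9Misc.RelExtShift.pcxMap f I S.g) 0 ≫ (e₂ 0).inv by
      rw [← Category.assoc, ← hv, Category.assoc, Iso.hom_inv_id, Category.comp_id]]
    infer_instance
  · have hz : v p ≫ u p = 0 := by
      rw [← cancel_mono (e₁ p).hom, Category.assoc, hu, ← Category.assoc, hv, Category.assoc,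
        ← HomologicalComplex.homologyMap_comp, w, HomologicalComplex.homologyMap_zero, comp_zero, zero_comp]
    exact ⟨hz, ShortComplex.exact_of_iso (ShortComplex.isoMk (e₃ p) (e₂ p) (e₁ p) (hv p).symm (hu p).symm).symm
      (hc.homology_exact₂ p)⟩
  · have hz : u p ≫ (e₁ p).hom ≫ hc.δ p (p + 1) rfl ≫ (e₃ (p + 1)).inv = 0 := by
      rw [← Category.assoc, hu, Category.assoc, ← Category.assoc _ (hc.δ p (p + 1) rfl), hc.comp_δ, zero_comp,
        comp_zero]
    exact ⟨hz, ShortComplex.exact_of_iso (ShortComplex.isoMk (e₂ p) (e₁ p) (e₃ (p + 1)) (hu p).symm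
      (by simp)).symm (hc.homology_exact₃ p (p + 1) rfl)⟩
  · have hz : ((e₁ p).hom ≫ hc.δ p (p + 1) rfl ≫ (e₃ (p + 1)).inv) ≫ v (p + 1) = 0 := by
      rw [← cancel_mono (e₂ (p + 1)).hom, zero_comp, Category.assoc, hv, Category.assoc, Category.assoc,
        Iso.inv_hom_id_assoc, hc.δ_comp, comp_zero]
    exact ⟨hz, ShortComplex.exact_of_iso (ShortComplex.isoMk (e₁ p) (e₃ (p + 1)) (e₂ (p + 1))
      (by simp) (hv (p + 1)).symm).symm (hc.homology_exact₁ p (p + 1) rfl)⟩

end Groth.Agent.S16289
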