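import Groth.Statements.S16291
import Groth.Agent.CurveGor18.Pointed

set_option autoImplicit false
set_option linter.style.haveILetI false
set_option backward.isDefEq.respectTransparency false
set_option backward.isDefEq.respectTransparency.types false
set_option maxHeartbeats 1000000
set_option synthInstance.maxHeartbeats 200000
universe u
open CategoryTheory CategoryTheory.Limits AlgebraicGeometry
attribute [local instance] HasDerivedCategory.standard
open Curves

namespace Groth.Agent.S16291

/-- Let k be an algebraically closed field and (X, D) a stable n-pointed curve over k, taken in the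
form: X is proper and connected over k, of dimension 1, with at-worst-nodal singularities; D ⊆ X is
a finite closed set of points each having an open neighbourhood smooth over k (the marked points);
ω_X is the dualizing module of X (degree -1 cohomology sheaf of f^! O for the structure morphism f,
for any choice of the data Rf_* on D_QCoh with its right adjoint); L_D is an invertible module with
L_D ⊗ I_D ≅ O_X, where I_D is the ideal sheaf of D with its reduced structure (so L_D plays the role
of O_X(D)); and the invertible module ω_X(D) := ω_X ⊗ L_D is ample (stability). Then H^1(X,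
ω_X(D)^{⊗m}) = 0 for every m ≥ 2. -/
theorem result (k : Type u) [Field k] [IsAlgClosed k] (X : Scheme.{u}) [X.Over (Spec (CommRingCat.of k))]
    [IsProper (X ↘ (Spec (CommRingCat.of k)))] [ConnectedSpace X] (hdim : topologicalKrullDim X = 1) (hX : Curv2.AtWorstNodal k X)
    [DCoh.HasRpush (X ↘ (Spec (CommRingCat.of k)))] (h : DCoh.RpushPreservesQCoh (X ↘ (Spec (CommRingCat.of k)))) [DCoh.HasShriek (X ↘ (Spec (CommRingCat.of k))) h]
    (OY : DCoh.DQCoh (Spec (CommRingCat.of k))) (hOY : Nonempty (OY.obj ≅ DCoh.inD (Spec (CommRingCat.of k)) (Coh.structureModule (Spec (CommRingCat.of k)))))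
    (D : Set X) (hDfin : D.Finite) (hDcl : IsClosed D) (hDsm : ∀ x ∈ D, ∃ U : X.Opens, x ∈ U ∧ Smooth (U.ι ≫ (X ↘ (Spec (CommRingCat.of k)))))
    (LD : X.Modules) (hLD : PicF.IsInvertible LD)
    (hinv : ClSub.IsInverseOf LD (ClSub.idealMod (Scheme.IdealSheafData.vanishingIdeal (⟨D, hDcl⟩ : TopologicalSpace.Closeds X))))
    (hst : CohB1.IsAmple (CohB1.tensorMod (DCoh.dualizingMod (X ↘ (Spec (CommRingCat.of k))) h OY 1) LD))
    (m : ℕ) (hm : 2 ≤ m) :
    Subsingleton (Coh.HH X (CohB1.tensorPow (CohB1.tensorMod (DCoh.dualizingMod (X ↘ (Spec (CommRingCat.of k))) h OY 1) LD) m) 1) := by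
  haveI := Groth.Agent.CurveCohLib.isNoetherian_of_proper (k := k) (X := X)
  haveI := Groth.Agent.CurveGor.isReduced_of_nodal hdim hX
  obtain ⟨t, ht, -⟩ := Groth.Agent.CurveDual.exists_dual hdim.le h OY hOY
  have hωi := Groth.Agent.CurveGor.isInvertible_dualizing_of_nodal hdim hX h OY hOY
  have hgen := Groth.Agent.CurveGor.notClosed_of_generic (k := k) hdim
  have hcl := Groth.Agent.CurveGor18.isClosed_of_finite (k := k) hDcl hDfin
  have hpos : ∀ (Y : Set X) (hY : IsClosed Y), Groth.Agent.CurveGor.IsCompUnion Y → _root_.IsConnected Y →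
      1 ≤ Groth.Agent.TFOneX.degOn k (CohB1.tensorMod (DCoh.dualizingMod (X ↘ (Spec (CommRingCat.of k))) h OY 1) LD) 1 Y hY :=
    fun Y hY hc hconn => by
    obtain ⟨y, hy⟩ := hconn.nonempty
    obtain ⟨η, hη, hηY, -⟩ := hc y hy
    have h1 := (Set.ncard_pos (Groth.Agent.CurveGor.finite_genericPoints.inter_of_left Y)).2 ⟨η, hη, hηY⟩
    exact le_trans (by exact_mod_cast h1) (Groth.Agent.CurveGor.card_le_degOn hdim.le hgen hst _ Y hY hc rfl)
  exact Groth.Agent.CurveGor18.subsingleton_H1_pow hdim.le hgen ht hωi hLD
    (fun Y hY hc => le_trans (Int.natCast_nonneg _)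
      (Groth.Agent.CurveGor18.ncard_le_degOn hdim.le hgen hDcl hDfin hcl hLD hinv hY hc))
    (fun Y hY hc hconn => le_trans zero_le_one (hpos Y hY hc hconn))
    (fun Y hY hc hconn _ => hpos Y hY hc hconn) hm

end Groth.Agent.S16291
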