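import Groth.Statements.S16292
import Groth.Agent.CurveGor.Embed
import Groth.Agent.CurveGor.PointedTwist
import Groth.Agent.CurveGor.DualGraph

set_option autoImplicit false
universe u
open CategoryTheory CategoryTheory.Limits AlgebraicGeometry
attribute [local instance] HasDerivedCategory.standard
open Curves

namespace Groth.Agent.S16292
set_option backward.isDefEq.respectTransparency false
set_option backward.isDefEq.respectTransparency.types false
set_option synthInstance.maxHeartbeats 200000
set_option maxHeartbeats 2000000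
attribute [local instance] HasDerivedCategory.standard
open Groth.Agent Groth.Agent.CurveGor TFOneX in


/-- Let k be an algebraically closed field and (X, D) a stable n-pointed curve over k, taken in the
form: X is proper and connected over k, of dimension 1, with at-worst-nodal singularities; D ⊆ X is
a finite closed set of points each having an open neighbourhood smooth over k (the marked points);
ω_X is the dualizing module of X (degree -1 cohomology sheaf of f^! O for the structure morphism f,
for any choice of the data Rf_* on D_QCoh with its right adjoint); L_D is an invertible module with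
L_D ⊗ I_D ≅ O_X, where I_D is the ideal sheaf of D with its reduced structure (so L_D plays the role
of O_X(D)); and the invertible module ω_X(D) := ω_X ⊗ L_D is ample (stability). Then for every m ≥ 5
the module ω_X(D)^{⊗m} is very ample: some closed immersion i : X → P^N_k over k has i^* O(1) ≅
ω_X(D)^{⊗m}. (The published assertion is for all m ≥ 3; the published argument addresses only m ≥ 5
and defers m = 3, 4 to the literature, so m ≥ 5 is what is stated here.) -/
theorem result (k : Type u) [Field k] [IsAlgClosed k] (X : Scheme.{u}) [X.Over (Spec (CommRingCat.of k))]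
    [IsProper (X ↘ (Spec (CommRingCat.of k)))] [ConnectedSpace X] (hdim : topologicalKrullDim X = 1) (hX : Curv2.AtWorstNodal k X)
    [DCoh.HasRpush (X ↘ (Spec (CommRingCat.of k)))] (h : DCoh.RpushPreservesQCoh (X ↘ (Spec (CommRingCat.of k)))) [DCoh.HasShriek (X ↘ (Spec (CommRingCat.of k))) h]
    (OY : DCoh.DQCoh (Spec (CommRingCat.of k))) (hOY : Nonempty (OY.obj ≅ DCoh.inD (Spec (CommRingCat.of k)) (Coh.structureModule (Spec (CommRingCat.of k)))))
    (D : Set X) (hDfin : D.Finite) (hDcl : IsClosed D) (hDsm : ∀ x ∈ D, ∃ U : X.Opens, x ∈ U ∧ Smooth (U.ι ≫ (X ↘ (Spec (CommRingCat.of k)))))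
    (LD : X.Modules) (hLD : PicF.IsInvertible LD)
    (hinv : ClSub.IsInverseOf LD (ClSub.idealMod (Scheme.IdealSheafData.vanishingIdeal (⟨D, hDcl⟩ : TopologicalSpace.Closeds X))))
    (hst : CohB1.IsAmple (CohB1.tensorMod (DCoh.dualizingMod (X ↘ (Spec (CommRingCat.of k))) h OY 1) LD))
    (m : ℕ) (hm : 5 ≤ m) :
    ∃ (N : ℕ) (i : X ⟶ CohB1.ProjSpace N k), IsClosedImmersion i ∧ i ≫ CohB1.ProjSpace.toSpec N k = (X ↘ (Spec (CommRingCat.of k))) ∧
      Nonempty ((Scheme.Modules.pullback i).obj (Twist.twistProjSpace N k 1) ≅ CohB1.tensorPow (CohB1.tensorMod (DCoh.dualizingMod (X ↘ (Spec (CommRingCat.of k))) h OY 1) LD) m) := by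
  classical
  haveI := CurveCohLib.isNoetherian_of_proper (k := k) (X := X)
  haveI := isReduced_of_nodal (k := k) hdim hX
  obtain ⟨t, ht, -⟩ := CurveDual.exists_dual hdim.le h OY hOY
  have hgen := notClosed_of_generic (k := k) hdim
  have hi := isInvertible_dualizing_of_nodal hdim hX h OY hOY
  generalize DCoh.dualizingMod (X ↘ (Spec (CommRingCat.of k))) h OY 1 = ω at t ht hi hst ⊢
  let M := CohB1.tensorMod ω LD
  have hMi : PicF.IsInvertible M := InvX.isInvertible_tensorMod hi hLD
  refine CurveGor.Embed.exists_embedding k (H23.PicMul.isInvertible_tensorPow hMi m) fun K j _ hK hs he => ?_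
  by_contra hcon
  obtain ⟨Y, hY, hc, hconn, hle⟩ := exists_connected_deg_sub hdim.le hgen ht hi
    (H23.PicMul.isInvertible_tensorPow hMi m) hK j hs hcon
  have hQ : Coh.IsCoh (cokernel j) :=
    QCoh.isCoh_cokernel hK.1 (CurveDeg.isCoh_of_isInvertible (H23.PicMul.isInvertible_tensorPow hMi m)) j
  rw [← CurveCohLib.euler_eq_finrank_zero (k := k) hQ hs, degOn_pow hdim.le hMi hY m] at hle
  have hd : (1 : ℤ) ≤ degOn k M 1 Y hY := by
    refine le_trans ?_ (card_le_degOn (k := k) hdim.le hgen hst _ Y hY hc rfl)
    obtain ⟨x, hx⟩ := hconn.nonempty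
    obtain ⟨η, hη, hηY, -⟩ := hc x hx
    exact_mod_cast (Set.ncard_pos (finite_genericPoints.inter_of_left Y)).2 ⟨η, hη, hηY⟩
  have hM : degOn k M 1 Y hY = degOn k ω 1 Y hY + degOn k LD 1 Y hY := degOn_tensor hdim.le hi hLD hY
  have hD := (degOn_points (k := k) hdim.le hgen hDcl hDfin (fun x hx => isClosed_of_finite (k := k) hDfin hDcl hx)
    (fun x hx => isDomain_of_smooth (k := k) (hDsm x hx)) hinv hY hc).2
  have hω := degOn_dualizing hdim.le hgen ht hi hY hc
  have hk := kY_nonneg (k := k) Y hY
  have hm' : (5 : ℤ) ≤ m := by exact_mod_cast hm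
  have h5 : (5 : ℤ) * degOn k M 1 Y hY ≤ (m : ℤ) * degOn k M 1 Y hY :=
    mul_le_mul_of_nonneg_right hm' (by omega)
  omega


end Groth.Agent.S16292
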