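import Groth.Statements.S16293
import Groth.Agent.CurveGor18.Pointed
import Groth.Agent.S16291

set_option autoImplicit false
set_option linter.style.haveILetI false
set_option backward.isDefEq.respectTransparency false
set_option backward.isDefEq.respectTransparency.types false
set_option maxHeartbeats 1000000
set_option synthInstance.maxHeartbeats 200000
universe u
open CategoryTheory CategoryTheory.Limits AlgebraicGeometry
attribute [local instance] HasDerivedCategory.standard
open Curves

namespace Groth.Agent.S16293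

/-- Let k be an algebraically closed field and (X, D) a stable n-pointed curve over k, taken in the
form: X is proper and connected over k, of dimension 1, with at-worst-nodal singularities; D ⊆ X is
a finite closed set of n points each having an open neighbourhood smooth over k; ω_X is the
dualizing module of X (degree -1 cohomology sheaf of f^! O for the structure morphism f, for any
choice of the data Rf_* on D_QCoh with its right adjoint); L_D is an invertible module with L_D ⊗
I_D ≅ O_X for the ideal sheaf I_D of D with its reduced structure; and ω_X(D) := ω_X ⊗ L_D is ample.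
Let g = dim_k H^1(X, O_X). Then for every l ≥ 2, dim_k H^0(X, ω_X(D)^{⊗l}) = l(2g - 2 + n) + 1 - g;
in particular for l = 3 it is 5g - 5 + 3n. -/
theorem result (k : Type u) [Field k] [IsAlgClosed k] (X : Scheme.{u}) [X.Over (Spec (CommRingCat.of k))]
    [IsProper (X ↘ (Spec (CommRingCat.of k)))] [ConnectedSpace X] (hdim : topologicalKrullDim X = 1) (hX : Curv2.AtWorstNodal k X)
    [DCoh.HasRpush (X ↘ (Spec (CommRingCat.of k)))] (h : DCoh.RpushPreservesQCoh (X ↘ (Spec (CommRingCat.of k)))) [DCoh.HasShriek (X ↘ (Spec (CommRingCat.of k))) h]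
    (OY : DCoh.DQCoh (Spec (CommRingCat.of k))) (hOY : Nonempty (OY.obj ≅ DCoh.inD (Spec (CommRingCat.of k)) (Coh.structureModule (Spec (CommRingCat.of k)))))
    (D : Set X) (hDfin : D.Finite) (hDcl : IsClosed D) (hDsm : ∀ x ∈ D, ∃ U : X.Opens, x ∈ U ∧ Smooth (U.ι ≫ (X ↘ (Spec (CommRingCat.of k)))))
    (LD : X.Modules) (hLD : PicF.IsInvertible LD)
    (hinv : ClSub.IsInverseOf LD (ClSub.idealMod (Scheme.IdealSheafData.vanishingIdeal (⟨D, hDcl⟩ : TopologicalSpace.Closeds X))))
    (hst : CohB1.IsAmple (CohB1.tensorMod (DCoh.dualizingMod (X ↘ (Spec (CommRingCat.of k))) h OY 1) LD))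
    (l : ℕ) (hl : 2 ≤ l) :
    (Module.finrank k (Coh.HH X (CohB1.tensorPow (CohB1.tensorMod (DCoh.dualizingMod (X ↘ (Spec (CommRingCat.of k))) h OY 1) LD) l) 0) : ℤ) =
      (l : ℤ) * (2 * (Curv2.genus k X : ℤ) - 2 + (Nat.card D : ℤ)) + 1 - (Curv2.genus k X : ℤ) := by
  haveI := Groth.Agent.CurveCohLib.isNoetherian_of_proper (k := k) (X := X)
  haveI := Groth.Agent.CurveGor.isReduced_of_nodal hdim hX
  obtain ⟨t, ht, -⟩ := Groth.Agent.CurveDual.exists_dual hdim.le h OY hOY
  have hωi := Groth.Agent.CurveGor.isInvertible_dualizing_of_nodal hdim hX h OY hOY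
  have hgen := Groth.Agent.CurveGor.notClosed_of_generic (k := k) hdim
  have hcl := Groth.Agent.CurveGor18.isClosed_of_finite (k := k) hDcl hDfin
  rw [Groth.Agent.CurveGor18.h0_pow hdim.le hgen ht hωi hLD
      (Groth.Agent.S16291.result k X hdim hX h OY hOY D hDfin hDcl hDsm LD hLD hinv hst l hl),
    Groth.Agent.CurveGor18.deg_twist hDcl hDfin hcl hLD hinv, Nat.card_coe_set_eq]

end Groth.Agent.S16293
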