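import Groth.Statements.S16294
import Groth.Agent.CurveGor.DualGraph
import Groth.Agent.S7642

set_option autoImplicit false
universe u
open CategoryTheory CategoryTheory.Limits AlgebraicGeometry
attribute [local instance] HasDerivedCategory.standard
open Curves

namespace Groth.Agent.S16294
set_option backward.isDefEq.respectTransparency false
set_option backward.isDefEq.respectTransparency.types false
set_option synthInstance.maxHeartbeats 200000
set_option maxHeartbeats 2000000
attribute [local instance] HasDerivedCategory.standard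
open Groth.Agent.CurveGor in


/-- Let k be an algebraically closed field and (X, D) a semi-stable n-pointed curve over k, taken in the
form: X is proper and connected over k, of dimension 1, with at-worst-nodal singularities; D ⊆ X is
a finite closed set of points each having an open neighbourhood smooth over k; ω_X is the dualizing
module of X (degree -1 cohomology sheaf of f^! O for the structure morphism f, for any choice of the
data Rf_* on D_QCoh with its right adjoint); L_D is an invertible module with L_D ⊗ I_D ≅ O_X for
the ideal sheaf I_D of D with its reduced structure. Let (V, E, ends) be the dual graph of X over k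
(vertices = irreducible components C_v, edges = singular points, each edge joining the components
through its node). Then (X, D) is stable, i.e. ω_X ⊗ L_D is ample, if and only if for every vertex v
one has 2 p_a(C_v) - 2 + e_v + d_v > 0, where p_a(C_v) = dim_k H^1(C_v, O) for the reduced component
C_v, e_v is the number of nodes of X lying on C_v and on another component (non-loop edges at v) and
d_v is the number of marked points on C_v. (The published criterion is stated per component C̃_v of
the normalisation as 2 g(C̃_v) - 2 + n(C̃_v) > 0, n(C̃_v) counting its points over D and over the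
nodes of X; since p_a(C_v) = g(C̃_v) + (number of nodes of X lying on C_v alone) and each such node
has two preimages in C̃_v, the two counts agree.) -/
theorem result (k : Type u) [Field k] [IsAlgClosed k] (X : Scheme.{u}) [X.Over (Spec (CommRingCat.of k))]
    [IsProper (X ↘ (Spec (CommRingCat.of k)))] [ConnectedSpace X] (hdim : topologicalKrullDim X = 1) (hX : Curv2.AtWorstNodal k X)
    [DCoh.HasRpush (X ↘ (Spec (CommRingCat.of k)))] (h : DCoh.RpushPreservesQCoh (X ↘ (Spec (CommRingCat.of k)))) [DCoh.HasShriek (X ↘ (Spec (CommRingCat.of k))) h]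
    (OY : DCoh.DQCoh (Spec (CommRingCat.of k))) (hOY : Nonempty (OY.obj ≅ DCoh.inD (Spec (CommRingCat.of k)) (Coh.structureModule (Spec (CommRingCat.of k)))))
    (D : Set X) (hDfin : D.Finite) (hDcl : IsClosed D) (hDsm : ∀ x ∈ D, ∃ U : X.Opens, x ∈ U ∧ Smooth (U.ι ≫ (X ↘ (Spec (CommRingCat.of k)))))
    (LD : X.Modules) (hLD : PicF.IsInvertible LD)
    (hinv : ClSub.IsInverseOf LD (ClSub.idealMod (Scheme.IdealSheafData.vanishingIdeal (⟨D, hDcl⟩ : TopologicalSpace.Closeds X))))
    (V E : Type u) [Finite E] (cv : V → Set X) (ce : E → X) (ends : E → V × V)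
    (hΓ : DualGr.IsDualGraph (X ↘ (Spec (CommRingCat.of k))) cv ce ends) :
    CohB1.IsAmple (CohB1.tensorMod (DCoh.dualizingMod (X ↘ (Spec (CommRingCat.of k))) h OY 1) LD) ↔
      ∀ v : V, 0 < 2 * (@Curv2.genus k _ (Scheme.IdealSheafData.vanishingIdeal (⟨cv v, isClosed_of_mem_irreducibleComponents (cv v) (hΓ.comp_mem v)⟩ : TopologicalSpace.Closeds X)).subscheme ⟨(Scheme.IdealSheafData.vanishingIdeal (⟨cv v, isClosed_of_mem_irreducibleComponents (cv v) (hΓ.comp_mem v)⟩ : TopologicalSpace.Closeds X)).subschemeι ≫ (X ↘ (Spec (CommRingCat.of k)))⟩ : ℤ) - 2 +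
        (Nat.card {e : E // (ends e).1 ≠ (ends e).2 ∧ ((ends e).1 = v ∨ (ends e).2 = v)} : ℤ) +
        (Nat.card ↥(D ∩ cv v) : ℤ) := by
  classical
  haveI := Groth.Agent.CurveCohLib.isNoetherian_of_proper (k := k) (X := X)
  haveI := isReduced_of_nodal (k := k) hdim hX
  obtain ⟨t, ht, -⟩ := Groth.Agent.CurveDual.exists_dual hdim.le h OY hOY
  have hgen := notClosed_of_generic (k := k) hdim
  have hi := isInvertible_dualizing_of_nodal hdim hX h OY hOY
  generalize DCoh.dualizingMod (X ↘ (Spec (CommRingCat.of k))) h OY 1 = ω at t ht hi ⊢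
  obtain ⟨hMi, key⟩ := degOn_twist hdim hX hDcl hDfin
    (fun x hx => isClosed_of_finite (k := k) hDfin hDcl hx) hDsm ht hi hinv
    (Iso.refl (CohB1.tensorMod ω LD))
  have hval : ∀ (C : Set X) (hC : C ∈ irreducibleComponents (X : Type u)),
      Groth.Agent.TFOneX.degOn k (CohB1.tensorMod ω LD) 1 C (isClosed_of_mem_irreducibleComponents C hC) =
        2 * (genusY k C (isClosed_of_mem_irreducibleComponents C hC) : ℤ) - 2 + ((C ∩ closure Cᶜ).ncard : ℤ) +
          ((D ∩ C).ncard : ℤ) := fun C hC => by
    have hC' := isClosed_of_mem_irreducibleComponents C hC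
    have e := hC.1.closure_genericPoint hC'
    have hc : IsCompUnion C := fun x hx =>
      ⟨_, by show closure _ ∈ irreducibleComponents (X : Type u); rw [e]; exact hC,
        e.subset (subset_closure (Set.mem_singleton _)), specializes_iff_mem_closure.2 (e.symm.subset hx)⟩
    rcases key C hC' hc hC.1.isConnected with ⟨hu, h1, h2⟩ | ⟨hu, h1, h2⟩
    · have h3 : (C ∩ closure Cᶜ).ncard = 0 := by simp [hu]
      rw [h1, h2, h3]
      push_cast
      ring
    · exact h2
  have hcard : ∀ v : V, (Nat.card {e : E // (ends e).1 ≠ (ends e).2 ∧ ((ends e).1 = v ∨ (ends e).2 = v)}) =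
      (cv v ∩ closure (cv v)ᶜ).ncard := card_edges (k := k) hdim.le cv ce ends hΓ
  have hJ : ∀ (C : Set X) (hC : C ∈ irreducibleComponents (X : Type u)),
      (X.irreducibleComponentIdeal C hC).radical = vI C (isClosed_of_mem_irreducibleComponents _ hC) := by
    intro C hC
    rw [← Scheme.IdealSheafData.vanishingIdeal_support]
    congr 1
  rw [Groth.Agent.S7642.result k X hdim.le _ hMi]
  constructor
  · intro hpos v
    have hC := hΓ.comp_mem v
    have h1 := hpos (cv v) hC (equidim (k := k) hdim _ hC)
    rw [hJ _ hC] at h1
    change 0 < Groth.Agent.TFOneX.degOn k (CohB1.tensorMod ω LD) 1 (cv v) _ at h1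
    rw [hval _ hC] at h1
    rw [hcard v, Nat.card_coe_set_eq]
    exact h1
  · intro hpos C hC _
    obtain ⟨v, rfl⟩ := hΓ.comp_surjective C hC
    rw [hJ _ hC]
    change 0 < Groth.Agent.TFOneX.degOn k (CohB1.tensorMod ω LD) 1 (cv v) _
    rw [hval _ hC]
    have h1 := hpos v
    rw [hcard v, Nat.card_coe_set_eq] at h1
    exact h1


end Groth.Agent.S16294
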