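import Groth.Statements.S16295
import Groth.Agent.NefH1.Field
import Groth.Agent.Lib.NefPull

set_option autoImplicit false
set_option backward.isDefEq.respectTransparency false
set_option backward.isDefEq.respectTransparency.types false
set_option linter.style.haveILetI false
universe u
open CategoryTheory CategoryTheory.Limits AlgebraicGeometry
open Curves

namespace Groth.Agent.S16295

/-- Let k be a field and X a proper scheme over k of dimension one (a one-dimensional projective scheme;
not assumed reduced or irreducible) with H^1(X, O_X) = 0. Let L be an invertible O_X-module which is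
nef: for every integral one-dimensional closed subscheme C of X the restriction of L to C has degree
at least 0 over k. Then H^1(X, L) = 0 and L is globally generated. -/
theorem result (k : Type u) [Field k] (X : Scheme.{u}) [X.Over (Spec (CommRingCat.of k))]
    [IsProper (X ↘ (Spec (CommRingCat.of k)))] (hdim : topologicalKrullDim X = 1)
    (h1 : Subsingleton (Coh.HH X (Coh.structureModule X) 1))
    (L : X.Modules) (hL : PicF.IsInvertible L)
    (hnef : ∀ J : X.IdealSheafData, IsIntegral J.subscheme → topologicalKrullDim J.subscheme = 1 →
      0 ≤ @Curv2.deg k _ J.subscheme ⟨J.subschemeι ≫ (X ↘ (Spec (CommRingCat.of k)))⟩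
        ((Scheme.Modules.pullback J.subschemeι).obj L) 1) :
    Subsingleton (Coh.HH X L 1) ∧ Curv2.IsGloballyGenerated L := by
  haveI := Groth.Agent.CurveCohLib.isNoetherian_of_proper (k := k) (X := X)
  have hd : ∀ ξ : X, topologicalKrullDim ↥(closure ({ξ} : Set X)) = 1 →
      0 ≤ Groth.Agent.DegComp.degAt k L 1 ξ := by
    intro ξ hξ
    obtain ⟨hint, hr, -⟩ := Groth.Agent.NefPull.closure_data ξ
    refine hnef _ hint ?_
    rw [IsHomeomorph.topologicalKrullDim_eq _
      (((IntMult.ptIdeal ξ).subschemeι.isEmbedding.toHomeomorph).trans (Homeomorph.setCongr hr)).isHomeomorph, hξ]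
  exact ⟨Groth.Agent.NefH1.subsingleton_HH_one k hdim.le h1 hL hd,
    _, Groth.Agent.NefH1.evalSect L, Groth.Agent.NefH1.epi_evalSect k hdim.le h1 hL hd⟩

end Groth.Agent.S16295
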