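import Groth.Statements.S16297
import Groth.Agent.CurveCover.AmpleH1
import Groth.Agent.SeesawX.PnSpec

set_option autoImplicit false
set_option backward.isDefEq.respectTransparency false
set_option backward.isDefEq.respectTransparency.types false
universe u
open CategoryTheory CategoryTheory.Limits AlgebraicGeometry
open Curves

namespace Groth.Agent.S16297

/-- Let k be a field and X a proper scheme over k of dimension one (not assumed reduced or irreducible)
with H^1(X, O_X) = 0, and let L be an ample invertible O_X-module. Then L is very ample: for some n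
there is a closed immersion i : X → P^n_k over k with i^*O(1) isomorphic to L (existence of an
isomorphism only). -/
theorem result (k : Type u) [Field k] (X : Scheme.{u}) [X.Over (Spec (CommRingCat.of k))]
    [IsProper (X ↘ (Spec (CommRingCat.of k)))] (hdim : topologicalKrullDim X = 1)
    (h1 : Subsingleton (Coh.HH X (Coh.structureModule X) 1))
    (L : X.Modules) (hA : CohB1.IsAmple L) :
    ∃ (n : ℕ) (i : X ⟶ CohB1.ProjSpace n k), IsClosedImmersion i ∧
      i ≫ CohB1.ProjSpace.toSpec n k = X ↘ (Spec (CommRingCat.of k)) ∧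
      Nonempty ((Scheme.Modules.pullback i).obj (Twist.twistProjSpace n k 1) ≅ L) := by
  obtain ⟨n, i, hi, hc, ⟨e⟩⟩ := Groth.Agent.CurveCover.NormGen.isRelVeryAmplePn_of_normGenerated
    (X ↘ (Spec (CommRingCat.of k))) hA (Groth.Agent.CurveCover.AmpleH1.normGenerated k hdim.le h1 hA)
  obtain ⟨a, ha, ⟨τ⟩⟩ := Groth.Agent.SeesawX.PnSpec.exists_iso n k
  have hc' : (i ≫ a.hom) ≫ CohB1.ProjSpace.toSpec n k = X ↘ (Spec (CommRingCat.of k)) := by
    rw [Category.assoc, ha]
    exact hc
  haveI : IsProper (CohB1.ProjSpace.toSpec n k) := Groth.Agent.PnCoh.Chow.isProper_toSpec n k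
  haveI : IsProper ((i ≫ a.hom) ≫ CohB1.ProjSpace.toSpec n k) := by rw [hc']; infer_instance
  haveI : IsProper (i ≫ a.hom) := IsProper.of_comp (i ≫ a.hom) (CohB1.ProjSpace.toSpec n k)
  refine ⟨n, i ≫ a.hom, ?_, hc', ⟨?_⟩⟩
  · exact IsClosedImmersion.of_isPreimmersion _ (i ≫ a.hom).isClosedMap.isClosed_range
  · exact ((Scheme.Modules.pullbackComp i a.hom).app _).symm ≪≫
      (Scheme.Modules.pullback i).mapIso τ ≪≫ e.symm

end Groth.Agent.S16297
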