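import Groth.Statements.S16298
import Groth.Agent.S1585
import Groth.Agent.GenusLe.Finite

set_option autoImplicit false
universe u
open CategoryTheory CategoryTheory.Limits AlgebraicGeometry
open Curves

namespace Groth.Agent.S16298
set_option backward.isDefEq.respectTransparency false
set_option backward.isDefEq.respectTransparency.types false



/-- Let k be a field and X a genus-zero curve over k, that is, an integral scheme proper over k of
dimension one with H^1(X, O_X) = 0. Then the normalization Y of X again satisfies H^1(Y, O_Y) = 0,
so Y is again a genus-zero curve. (The two instance binders on the morphism from the generic point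
always hold; they are only needed to form the normalization.) -/
theorem result (k : Type u) [Field k] (X : Scheme.{u}) [X.Over (Spec (CommRingCat.of k))]
    [IsIntegral X] [IsProper (X ↘ (Spec (CommRingCat.of k)))] (hdim : topologicalKrullDim X = 1)
    (h1 : Subsingleton (Coh.HH X (Coh.structureModule X) 1))
    [QuasiCompact (X.fromSpecStalk (genericPoint X))] [QuasiSeparated (X.fromSpecStalk (genericPoint X))] :
    Subsingleton (Coh.HH (Curv2.normalization X) (Coh.structureModule (Curv2.normalization X)) 1) := by
  obtain ⟨hfin, -, ⟨V, hVne, hV⟩, -, -⟩ := Groth.Agent.S1585.result k X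
  haveI := hfin
  haveI := hV
  letI : (Curv2.normalization X).Over (Spec (CommRingCat.of k)) := ⟨Curv2.normalizationι X ≫ X ↘ Spec (CommRingCat.of k)⟩
  haveI : IsProper (Curv2.normalization X ↘ Spec (CommRingCat.of k)) :=
    inferInstanceAs (IsProper (Curv2.normalizationι X ≫ X ↘ Spec (CommRingCat.of k)))
  have hle := Groth.Agent.GenusLe.genus_le k hdim.le (Curv2.normalizationι X) rfl V (V.2.dense hVne)
  haveI := Groth.Agent.CurveCohLib.isNoetherian_of_proper (k := k) (X := Curv2.normalization X)
  haveI := Groth.Agent.CurveCohLib.finite_HH (k := k) (Groth.Agent.QCoh.isCoh_structureModule' (X := Curv2.normalization X)) 1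
  haveI := h1
  rw [show Curv2.genus k X = 0 from Module.finrank_zero_of_subsingleton] at hle
  exact Module.finrank_zero_iff.1 (Nat.le_zero.1 hle)


end Groth.Agent.S16298
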