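import Groth.Statements.S1630
import Groth.Agent.GeomField.Components

set_option autoImplicit false
universe u
open CategoryTheory CategoryTheory.Limits AlgebraicGeometry
open Variety

namespace Groth.Agent.S1630

/-- Let X be a scheme over k. If X has a cover by a nonempty family of open subschemes, each
geometrically irreducible over k and any two of which meet, then X is geometrically irreducible over
k. -/
theorem result (k : Type u) [Field k] (X : Scheme.{u}) [X.Over (Spec (CommRingCat.of k))]
    (ι : Type u) (U : ι → X.Opens) (hne : Nonempty ι) (hcov : (⨆ i, U i) = ⊤)
    (hmeet : ∀ i j, ((U i : Set X) ∩ (U j : Set X)).Nonempty)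
    (hU : ∀ i, GeometricallyIrreducible ((U i).ι ≫ (X ↘ (Spec (CommRingCat.of k))))) : GeometricallyIrreducible (X ↘ (Spec (CommRingCat.of k))) := by
  exact GeomField.geometricallyIrreducible_of_cover U hne hcov hmeet hU

end Groth.Agent.S1630
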