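import Groth.Statements.S16301
import Groth.Agent.CurveGenusZero.Main
-- import your own Groth.Agent.* helpers here

set_option autoImplicit false
universe u
open CategoryTheory CategoryTheory.Limits AlgebraicGeometry
open Curves

namespace Groth.Agent.S16301

/-- Let k be an infinite field and X a genus-zero curve over k, that is, an integral scheme proper over
k of dimension one with H^1(X, O_X) = 0. Let P be a closed point of X whose local ring is regular
and whose degree deg_k P = dim_k H^0(P, O_P) is least among all closed points of X with regular
local ring, and let I_P be the ideal sheaf of the reduced point P (an invertible module, P being a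
regular point of a curve; this is carried as a hypothesis). Then the Picard group of X is generated
by the class of I_P, equivalently by O_X(P): every class of an invertible O_X-module is an integer
power of the class of I_P (the group law on the Picard group is the tensor product, supplied by the
binder). (The published statement is for an arbitrary base field; this row assumes k infinite, the
case in which the published argument applies: it twice replaces an ample divisor by a member of its
base-point-free complete linear system whose support avoids the finitely many non-regular points of
X, and over a finite field such a member need not exist.) -/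
theorem result (k : Type u) [Field k] [Infinite k] (X : Scheme.{u}) [X.Over (Spec (CommRingCat.of k))]
    [IsIntegral X] [IsProper (X ↘ (Spec (CommRingCat.of k)))] (hdim : topologicalKrullDim X = 1)
    (h1 : Subsingleton (Coh.HH X (Coh.structureModule X) 1))
    (P : X) (hPc : IsClosed ({P} : Set X)) (hPreg : IsRegularLocalRing (X.presheaf.stalk P))
    (hmin : ∀ (Q : X) (hQc : IsClosed ({Q} : Set X)), IsRegularLocalRing (X.presheaf.stalk Q) →
      Module.finrank k (Coh.HH X (ClSub.quotMod (Scheme.IdealSheafData.vanishingIdeal ⟨{P}, hPc⟩)) 0) ≤ Module.finrank k (Coh.HH X (ClSub.quotMod (Scheme.IdealSheafData.vanishingIdeal ⟨{Q}, hQc⟩)) 0))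
    (hI : PicF.IsInvertible (ClSub.idealMod (Scheme.IdealSheafData.vanishingIdeal ⟨{P}, hPc⟩))) [PicGrp.Law X]
    (c : PicLoc.PicSet X) :
    c ∈ Subgroup.zpowers (PicGrp.cls (ClSub.idealMod (Scheme.IdealSheafData.vanishingIdeal ⟨{P}, hPc⟩)) hI) := by
  exact CurveGenusZero.mem_zpowers k hdim h1 P hPc hmin hI c

end Groth.Agent.S16301
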