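import Groth.Statements.S16302
import Groth.Agent.CurveGenusZero.Main
-- import your own Groth.Agent.* helpers here

set_option autoImplicit false
universe u
open CategoryTheory CategoryTheory.Limits AlgebraicGeometry
open Curves

namespace Groth.Agent.S16302

/-- Let k be an infinite field and X a genus-zero curve over k, that is, an integral scheme proper over
k of dimension one with H^1(X, O_X) = 0. Then the set of closed points P of X whose local ring is
regular and whose degree deg_k P = dim_k H^0(P, O_P) is least among all closed points with regular
local ring is infinite. -/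
theorem result (k : Type u) [Field k] (X : Scheme.{u}) [X.Over (Spec (CommRingCat.of k))] [Infinite k]
    [IsIntegral X] [IsProper (X ↘ (Spec (CommRingCat.of k)))] (hdim : topologicalKrullDim X = 1)
    (h1 : Subsingleton (Coh.HH X (Coh.structureModule X) 1)) :
    {P : X | ∃ hPc : IsClosed ({P} : Set X), IsRegularLocalRing (X.presheaf.stalk P) ∧
      ∀ (Q : X) (hQc : IsClosed ({Q} : Set X)), IsRegularLocalRing (X.presheaf.stalk Q) →
        Module.finrank k (Coh.HH X (ClSub.quotMod (Scheme.IdealSheafData.vanishingIdeal ⟨{P}, hPc⟩)) 0) ≤ Module.finrank k (Coh.HH X (ClSub.quotMod (Scheme.IdealSheafData.vanishingIdeal ⟨{Q}, hQc⟩)) 0)}.Infinite := by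
  exact CurveGenusZero.infinite_minimal k hdim h1

end Groth.Agent.S16302
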