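import Groth.Statements.S16303
import Groth.Agent.ExcVan.Main

set_option autoImplicit false
universe u
open CategoryTheory CategoryTheory.Limits AlgebraicGeometry
open Resolve

set_option backward.isDefEq.respectTransparency false
set_option backward.isDefEq.respectTransparency.types false

namespace Groth.Agent.S16303

/-- Let k be a field and X a normal surface over k (an integral normal scheme, separated and of finite
type over k, of dimension two) whose only non-regular point is the closed point P. Let f : Y → X be
a resolution: a proper morphism from an integral scheme Y of dimension two with all local rings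
regular, restricting to an isomorphism over the complement of P. Then R^1 f_* O_Y = 0 (first higher
direct image of abelian sheaves), that is, P is a rational singularity, if and only if H^1(W, O_W) =
0 for every nonzero effective Cartier divisor W on Y (quasi-coherent ideal sheaf that is an
invertible module, with nonempty support) which is f-exceptional, that is, supported in the fibre of
f over P. (The published statement also has a third equivalent condition, the vanishing of H^1 of
the structure sheaf of the fundamental cycle of f, not restated here.) -/
theorem result (k : Type u) [Field k] (X : Scheme.{u}) [X.Over (Spec (CommRingCat.of k))]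
    [IsIntegral X] [IsSeparated (X ↘ (Spec (CommRingCat.of k)))] [LocallyOfFiniteType (X ↘ (Spec (CommRingCat.of k)))]
    [CompactSpace X] (hdim : topologicalKrullDim X = 2) (hnorm : Pi1.IsNormalScheme X)
    (P : X) (hPc : IsClosed ({P} : Set X)) (hP : ¬ IsRegularLocalRing (X.presheaf.stalk P))
    (hreg : ∀ x : X, x ≠ P → IsRegularLocalRing (X.presheaf.stalk x))
    (Y : Scheme.{u}) (f : Y ⟶ X) [IsIntegral Y] (hdimY : topologicalKrullDim Y = 2)
    (hregY : ∀ y : Y, IsRegularLocalRing (Y.presheaf.stalk y)) [IsProper f]
    (hiso : IsIso (f ∣_ ⟨({P} : Set X)ᶜ, hPc.isOpen_compl⟩)) :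
    IsZero ((Coh.RpushAb f 1).obj (Coh.toAb (Coh.structureModule Y))) ↔
      ∀ W : Y.IdealSheafData, PicF.IsInvertible (ClSub.idealMod W) → (W.support : Set Y).Nonempty →
        (W.support : Set Y) ⊆ f.base ⁻¹' {P} → Subsingleton (Coh.HH Y (ClSub.quotMod W) 1) := by
  haveI : IsLocallyNoetherian X := LocallyOfFiniteType.isLocallyNoetherian (X ↘ (Spec (CommRingCat.of k)))
  haveI : IsNoetherian X := { __ := ‹IsLocallyNoetherian X›, __ := ‹CompactSpace X› }
  have hPdim : ∀ U : X.Opens, P ∈ U → ¬ (U : Set X) ⊆ {P} := fun U hU hsub => by
    have hgen : genericPoint X ∈ U := (genericPoint_specializes P).mem_open U.isOpen hU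
    have he : genericPoint X = P := hsub hgen
    refine hP ?_
    rw [← he]
    exact (inferInstanceAs (IsRegularLocalRing X.functionField))
  constructor
  · intro h W _ _ hW
    exact Groth.Agent.ExcVan.h1_quot_of_rz hdim.le hPc f hiso h hPdim W hW
  · intro h
    exact Groth.Agent.ExcVan.rz_of_h1_quot hdim.le hPc f hiso hregY hdimY.le hnorm hP hPdim h

end Groth.Agent.S16303
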