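import Groth.Statements.S16304
import Groth.Agent.ExcVan.Basic

set_option autoImplicit false
universe u
open CategoryTheory CategoryTheory.Limits AlgebraicGeometry
open Resolve

namespace Groth.Agent.S16304

/-- Let k be a field and X a normal surface over k (an integral normal scheme, separated and of finite
type over k, of dimension two) whose only non-regular point is the closed point P, and f : Y → X a
resolution: a proper morphism from an integral scheme Y of dimension two with all local rings
regular, restricting to an isomorphism over the complement of P. Let V be an effective Cartier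
divisor on Y, given by a quasi-coherent ideal sheaf O_Y(-V) that is an invertible module, such that
P lies in f(Supp V) and O_Y(-V) is f-free, that is, the counit f^* f_* O_Y(-V) → O_Y(-V) is an
epimorphism. Then O_Y(-V) is contained in m_P O_Y, the inverse image ideal sheaf of the ideal of the
reduced point P. -/
theorem result (k : Type u) [Field k] (X : Scheme.{u}) [X.Over (Spec (CommRingCat.of k))]
    [IsIntegral X] [IsSeparated (X ↘ (Spec (CommRingCat.of k)))] [LocallyOfFiniteType (X ↘ (Spec (CommRingCat.of k)))]
    [CompactSpace X] (hdim : topologicalKrullDim X = 2) (hnorm : Pi1.IsNormalScheme X)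
    (P : X) (hPc : IsClosed ({P} : Set X)) (hP : ¬ IsRegularLocalRing (X.presheaf.stalk P))
    (hreg : ∀ x : X, x ≠ P → IsRegularLocalRing (X.presheaf.stalk x))
    (Y : Scheme.{u}) (f : Y ⟶ X) [IsIntegral Y] (hdimY : topologicalKrullDim Y = 2)
    (hregY : ∀ y : Y, IsRegularLocalRing (Y.presheaf.stalk y)) [IsProper f]
    (hiso : IsIso (f ∣_ ⟨({P} : Set X)ᶜ, hPc.isOpen_compl⟩))
    (V : Y.IdealSheafData) (hV : PicF.IsInvertible (ClSub.idealMod V)) (hPV : P ∈ f.base '' (V.support : Set Y))
    (hfree : Epi ((Scheme.Modules.pullbackPushforwardAdjunction f).counit.app (ClSub.idealMod V))) :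
    V ≤ (Scheme.IdealSheafData.vanishingIdeal ⟨{P}, hPc⟩).comap f := by
  haveI : IsLocallyNoetherian X := LocallyOfFiniteType.isLocallyNoetherian (X ↘ (Spec (CommRingCat.of k)))
  exact Groth.Agent.ExcVan.le_comap hnorm hPc hP f hiso V hPV hfree

end Groth.Agent.S16304
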