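import Groth.Statements.S16305
import Groth.Agent.Synt29.PnZeroDim

set_option autoImplicit false
set_option linter.style.haveILetI false
set_option backward.isDefEq.respectTransparency false
set_option backward.isDefEq.respectTransparency.types false
set_option maxHeartbeats 1000000
universe u
open CategoryTheory CategoryTheory.Limits AlgebraicGeometry
open ProjSp

namespace Groth.Agent.S16305

/-- Let k be a field and Z a zero-dimensional closed subscheme of projective N-space P^N_k, with closed
immersion i : Z → P^N_k. For an integer n write ρ_n : H^0(P^N_k, O(n)) → H^0(P^N_k, i_* i^* O(n)) =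
H^0(Z, O(n)|_Z) for the map induced on global sections by the unit O(n) → i_* i^* O(n) (restriction
of sections to Z). If the image of ρ_1 has codimension at most one in H^0(Z, O(1)|_Z), in the sense
that for some v every element is of the form ρ_1(s) + c v with c in k, then ρ_2 is surjective. -/
theorem result (k : Type u) [Field k] (N : ℕ)
    (Z : (CohB1.ProjSpace N k).IdealSheafData)
    (hZ : topologicalKrullDim (Z.support : Set (CohB1.ProjSpace N k)) ≤ 0) :
    letI : (CohB1.ProjSpace N k).Over (Spec (CommRingCat.of k)) := ⟨CohB1.ProjSpace.toSpec N k⟩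
    (∃ v : (Coh.HH (CohB1.ProjSpace N k) ((Scheme.Modules.pushforward Z.subschemeι).obj
        ((Scheme.Modules.pullback Z.subschemeι).obj (Twist.twistProjSpace N k 1))) 0),
      ∀ t : (Coh.HH (CohB1.ProjSpace N k) ((Scheme.Modules.pushforward Z.subschemeι).obj
        ((Scheme.Modules.pullback Z.subschemeι).obj (Twist.twistProjSpace N k 1))) 0),
        ∃ (s : Coh.HH (CohB1.ProjSpace N k) (Twist.twistProjSpace N k 1) 0) (c : k),
        t = @id (Coh.HH (CohB1.ProjSpace N k) ((Scheme.Modules.pushforward Z.subschemeι).obj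
        ((Scheme.Modules.pullback Z.subschemeι).obj (Twist.twistProjSpace N k 1))) 0)
          (Sheaf.H.map ((SheafOfModules.toSheaf (CohB1.ProjSpace N k).ringCatSheaf).map
            ((Scheme.Modules.pullbackPushforwardAdjunction Z.subschemeι).unit.app (Twist.twistProjSpace N k 1))) 0 s) + c • v) →
    Function.Surjective (fun s : Coh.HH (CohB1.ProjSpace N k) (Twist.twistProjSpace N k 2) 0 =>
      @id (Coh.HH (CohB1.ProjSpace N k) ((Scheme.Modules.pushforward Z.subschemeι).obj
        ((Scheme.Modules.pullback Z.subschemeι).obj (Twist.twistProjSpace N k 2))) 0)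
          (Sheaf.H.map ((SheafOfModules.toSheaf (CohB1.ProjSpace N k).ringCatSheaf).map
            ((Scheme.Modules.pullbackPushforwardAdjunction Z.subschemeι).unit.app (Twist.twistProjSpace N k 2))) 0 s)) := by
  letI : (CohB1.ProjSpace N k).Over (Spec (CommRingCat.of k)) := ⟨CohB1.ProjSpace.toSpec N k⟩
  intro ⟨v, hv⟩
  open Groth.Agent in
  open Groth.Agent.Synt29.PnZeroDim in
  let r := Z.subschemeι
  haveI := Synt29.BlowPts.isNoetherian_Pn (k := k) (n := N)
  haveI : IsNoetherian Z.subscheme := by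
    haveI := LocallyOfFiniteType.isLocallyNoetherian r
    haveI := QuasiCompact.compactSpace_of_compactSpace r
    exact {}
  haveI : DiscreteTopology Z.subscheme := by
    refine (H23.TopDim.finite_discrete_of_dim_le_zero ?_).2
    refine le_trans ?_ hZ
    rw [← Scheme.IdealSheafData.range_subschemeι]
    exact (r.isClosedEmbedding.isEmbedding.toHomeomorph.isClosedEmbedding.isInducing.topologicalKrullDim_le :)
  obtain ⟨C⟩ := exists_coords r
  let R := Γ(Z.subscheme, ⊤)
  letI : Algebra k R := (scal r).toAlgebra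
  let φ : ∀ d : ℕ, (Twist.twistProjSpace N k (d : ℤ)) ⟶ (Scheme.Modules.pushforward r).obj
      ((Scheme.Modules.pullback r).obj (Twist.twistProjSpace N k (d : ℤ))) := fun d =>
    (Scheme.Modules.pullbackPushforwardAdjunction r).unit.app (Twist.twistProjSpace N k (d : ℤ))
  let E : ∀ d : ℕ, Coh.HH (CohB1.ProjSpace N k) ((Scheme.Modules.pushforward r).obj
      ((Scheme.Modules.pullback r).obj (Twist.twistProjSpace N k (d : ℤ)))) 0 ≃+
        Γ(PnCoh.Chow.pullTw r (d : ℤ), ⊤) := fun d =>
    Sheaf.H.equiv₀ (Coh.toAb ((Scheme.Modules.pushforward r).obj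
      ((Scheme.Modules.pullback r).obj (Twist.twistProjSpace N k (d : ℤ))))) isTerminalTop
  have hρ : ∀ (d : ℕ) (s : Coh.HH (CohB1.ProjSpace N k) (Twist.twistProjSpace N k (d : ℤ)) 0),
      E d (Sheaf.H.map ((SheafOfModules.toSheaf _).map (φ d)) 0 s) =
        pullS (r := r) (d : ℤ) (Sheaf.H.equiv₀ (Coh.toAb (Twist.twistProjSpace N k (d : ℤ))) isTerminalTop s) :=
    fun d s => (Sheaf.H.equiv₀_naturality isTerminalTop ((SheafOfModules.toSheaf _).map (φ d)) s).symm
  have hsm : ∀ (d : ℕ) (c : k) (t : Coh.HH (CohB1.ProjSpace N k) ((Scheme.Modules.pushforward r).obj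
      ((Scheme.Modules.pullback r).obj (Twist.twistProjSpace N k (d : ℤ)))) 0),
      E d (c • t) = scal r c • E d t := fun d c t => by
    rw [← FFun.mapLin_smulMod]
    refine ((Sheaf.H.equiv₀_naturality isTerminalTop ((SheafOfModules.toSheaf _).map
      (Formal.smulMod k ((Scheme.Modules.pushforward r).obj
        ((Scheme.Modules.pullback r).obj (Twist.twistProjSpace N k (d : ℤ)))) c)) t).symm).trans ?_
    refine (FFun.smulMod_app _ c ⊤ _).trans ?_
    have hres : Coh.resTop (CohB1.ProjSpace N k) (Opposite.op ⊤) (Coh.toGlobal (CohB1.ProjSpace.toSpec N k) c) =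
        Coh.toGlobal (CohB1.ProjSpace.toSpec N k) c :=
      congr($((CohB1.ProjSpace N k).presheaf.map_id (Opposite.op ⊤)).hom (Coh.toGlobal (CohB1.ProjSpace.toSpec N k) c))
    refine congrArg (fun z : Γ(Z.subscheme, ⊤) => z • E d t) ?_
    exact (congrArg (fun z => (r.app ⊤).hom z) hres).trans rfl
  have hf := fun d => bijective_smul_frame C d
  have hev : ∀ (d : ℕ) (s : Coh.HH (CohB1.ProjSpace N k) (Twist.twistProjSpace N k (d : ℤ)) 0),
      ∃ p : CohB1.polyGrading N k d,
        E d (Sheaf.H.map ((SheafOfModules.toSheaf _).map (φ d)) 0 s) =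
          (MvPolynomial.aeval (a C) p.1) • frame C d := fun d s => by
    obtain ⟨p, hp⟩ := PnCoh.exists_globalOf_eq (ι := Fin (N + 1)) (R := k) (d := d)
      (Sheaf.H.equiv₀ (Coh.toAb (Twist.twistProjSpace N k (d : ℤ))) isTerminalTop s)
    exact ⟨p, (hρ d s).trans ((congrArg (pullS (r := r) (d : ℤ)) hp.symm).trans (pullS_globalOf C d p))⟩
  have key : Submodule.span k (Set.range fun q : Fin (N + 1) × Fin (N + 1) => a C q.1 * a C q.2) = ⊤ := by
    obtain ⟨v₀, hv₀⟩ := (hf 1).2 (E 1 v)
    refine Synt29.CorankOne.span_mul_eq_top (a C) (ε C) (ε_mul_self C) (sum_ε C) (ε_mul_a C)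
      (fun j l hlj => isNilpotent_ε_mul_a C j l hlj) (fun x j => exists_poly C x j) v₀ fun x => ?_
    obtain ⟨s, c, hsc⟩ := hv ((E 1).symm (x • frame C 1))
    obtain ⟨p, hp⟩ := hev 1 s
    have h1 : x • frame C 1 = (MvPolynomial.aeval (a C) p.1 + scal r c * v₀) • frame C 1 := by
      have h2 := congrArg (E 1) hsc
      rw [AddEquiv.apply_symm_apply] at h2
      refine h2.trans (((E 1).map_add _ _).trans ?_)
      rw [add_smul, mul_smul]
      exact congrArg₂ (· + ·) hp ((hsm 1 c v).trans (congrArg (scal r c • ·) hv₀.symm))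
    refine ⟨MvPolynomial.aeval (a C) p.1, ?_, c, (hf 1).1 (h1.trans ?_)⟩
    · have hp1 : p.1 ∈ Submodule.span k (Set.range (MvPolynomial.X : Fin (N + 1) → MvPolynomial (Fin (N + 1)) k)) :=
        MvPolynomial.homogeneousSubmodule_one_eq_span_X.le p.2
      have h3 := Submodule.mem_map_of_mem (f := (MvPolynomial.aeval (a C)).toLinearMap) hp1
      rw [Submodule.map_span, ← Set.range_comp] at h3
      have h4 : ⇑((MvPolynomial.aeval (a C)).toLinearMap) ∘ (MvPolynomial.X : Fin (N + 1) → MvPolynomial (Fin (N + 1)) k) = a C :=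
        funext fun i => MvPolynomial.aeval_X (a C) i
      rw [h4] at h3
      exact h3
    · rw [Algebra.smul_def]
      rfl
  intro t
  obtain ⟨x, hx⟩ := (hf 2).2 (E 2 t)
  obtain ⟨c, hc⟩ := (Submodule.mem_span_range_iff_exists_fun k).1 (key.ge (Submodule.mem_top (x := x)))
  let p : CohB1.polyGrading N k 2 :=
    ⟨∑ q : Fin (N + 1) × Fin (N + 1), c q • (MvPolynomial.X q.1 * MvPolynomial.X q.2),
      Submodule.sum_mem _ fun q _ => Submodule.smul_mem _ _
        ((MvPolynomial.isHomogeneous_X k q.1).mul (MvPolynomial.isHomogeneous_X k q.2))⟩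
  refine ⟨(Sheaf.H.equiv₀ (Coh.toAb (Twist.twistProjSpace N k ((2 : ℕ) : ℤ))) isTerminalTop).symm
    (Twist.globalOf (CohB1.polyGrading N k) p), (E 2).injective ?_⟩
  refine (hρ 2 _).trans ?_
  rw [AddEquiv.apply_symm_apply]
  refine (pullS_globalOf C 2 p).trans (Eq.trans ?_ hx)
  show _ • frame C 2 = x • frame C 2
  congr 1
  show MvPolynomial.aeval (a C) p.1 = x
  rw [← hc, map_sum]
  exact Finset.sum_congr rfl fun q _ => by rw [map_smul, map_mul, MvPolynomial.aeval_X, MvPolynomial.aeval_X]

end Groth.Agent.S16305
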