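import Groth.Statements.S16307
import Groth.Agent.CurveGor18.GenusOneVA
import Groth.Agent.SeesawX.PnSpec
import Groth.Agent.PnCoh.Chow.Proper

set_option backward.isDefEq.respectTransparency false
set_option backward.isDefEq.respectTransparency.types false
set_option maxHeartbeats 1000000
set_option synthInstance.maxHeartbeats 200000
-- import your own Groth.Agent.* helpers here

set_option autoImplicit false
universe u
open CategoryTheory CategoryTheory.Limits AlgebraicGeometry
open Curves

namespace Groth.Agent.S16307

/-- In the case of a separably closed base field and a curve that is not geometrically integral (the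
case proved in the text), let k be a separably closed field and X a Gorenstein genus-one curve over
k: an integral scheme, proper over k, of dimension one, all of whose local rings are Gorenstein,
with dim_k H^1(X, O_X) = 1 (so H^0(X, O_X) = k). Assume that X is not geometrically integral over k.
Let L be an invertible O_X-module of degree at least 3 over k. Then the section ring ⊕_{m ≥ 0}
H^0(X, L^{⊗ m}) is generated in degree one: for every m, the global sections of L^{⊗ m} ⊗ L = L^{⊗
(m+1)} are spanned over H^0(X, O_X) by the sections a ⊗ b with a a global section of L^{⊗ m} and b a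
global section of L; and L is very ample: for some n there is a closed immersion i : X → P^n_k over
k with i^*O(1) isomorphic to L (existence of an isomorphism only). (The published statement is for
an arbitrary base field and any Gorenstein genus-one curve; the text reduces to a separably closed
field, cites the literature for the geometrically integral case, and proves the remaining case,
which is the one stated here.) -/
theorem result (k : Type u) [Field k] (X : Scheme.{u}) [X.Over (Spec (CommRingCat.of k))] [IsSepClosed k]
    [IsIntegral X] [IsProper (X ↘ (Spec (CommRingCat.of k)))] (hdim : topologicalKrullDim X = 1)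
    (hgor : ∀ x : X, LocCoh.IsGorensteinLocalRing (X.presheaf.stalk x)) (hg : Curv2.genus k X = 1)
    (hngi : ¬ GeometricallyIntegral (X ↘ (Spec (CommRingCat.of k))))
    (L : X.Modules) (hL : PicF.IsInvertible L) (hdeg : 3 ≤ Curv2.deg k X L 1) :
    (∀ m : ℕ, Submodule.span (X.ringCatSheaf.obj.obj (Opposite.op ⊤))
        (Set.range (fun p : (CohB1.tensorPow L m).val.obj (Opposite.op ⊤) × L.val.obj (Opposite.op ⊤) =>
          SecTwist.tmul (CohB1.tensorPow L m) L ⊤ p.1 p.2)) = ⊤) ∧
    ∃ (n : ℕ) (i : X ⟶ CohB1.ProjSpace n k), IsClosedImmersion i ∧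
      i ≫ CohB1.ProjSpace.toSpec n k = X ↘ (Spec (CommRingCat.of k)) ∧
      Nonempty ((Scheme.Modules.pullback i).obj (Twist.twistProjSpace n k 1) ≅ L) := by
  have hspan := Groth.Agent.CurveGor18.span_all k hdim hgor hg hL hdeg
  refine ⟨hspan, ?_⟩
  have hA : CohB1.IsAmple L := Groth.Agent.CurveAmple.isAmple_of_deg_pos (k := k) hdim hL (by omega)
  have hng : Groth.Agent.CurveCover.NormGen.NormGenerated L := fun m _ => by
    refine top_le_iff.1 fun z _ => ?_
    have hz := (hspan m).ge (Submodule.mem_top (x := z))
    induction hz using Submodule.span_induction with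
    | mem w hw =>
      obtain ⟨p, rfl⟩ := hw
      exact AddSubgroup.subset_closure ⟨p.1, p.2, rfl⟩
    | zero => exact AddSubgroup.zero_mem _
    | add a b _ _ ha hb => exact AddSubgroup.add_mem _ (ha trivial) (hb trivial)
    | smul r w _ hw =>
      refine AddSubgroup.closure_induction (p := fun w _ => r • w ∈ _) ?_ ?_ ?_ ?_ (hw trivial)
      · rintro _ ⟨a, b, rfl⟩
        exact AddSubgroup.subset_closure ⟨r • a, b, (Groth.Agent.InvX.tmul_smul_left r _ _).symm⟩
      · rw [smul_zero]; exact AddSubgroup.zero_mem _
      · intro a b _ _ ha hb; rw [smul_add]; exact AddSubgroup.add_mem _ ha hb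
      · intro a _ ha; rw [smul_neg]; exact AddSubgroup.neg_mem _ ha
  obtain ⟨n, i, hi, hc, ⟨e⟩⟩ := Groth.Agent.CurveCover.NormGen.isRelVeryAmplePn_of_normGenerated
    (X ↘ (Spec (CommRingCat.of k))) hA hng
  obtain ⟨a, ha, ⟨τ⟩⟩ := Groth.Agent.SeesawX.PnSpec.exists_iso n k
  have hc' : (i ≫ a.hom) ≫ CohB1.ProjSpace.toSpec n k = X ↘ (Spec (CommRingCat.of k)) := by
    rw [Category.assoc, ha]
    exact hc
  haveI : IsProper (CohB1.ProjSpace.toSpec n k) := Groth.Agent.PnCoh.Chow.isProper_toSpec n k
  haveI : IsProper ((i ≫ a.hom) ≫ CohB1.ProjSpace.toSpec n k) := by rw [hc']; infer_instance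
  haveI : IsProper (i ≫ a.hom) := IsProper.of_comp (i ≫ a.hom) (CohB1.ProjSpace.toSpec n k)
  refine ⟨n, i ≫ a.hom, ?_, hc', ⟨?_⟩⟩
  · exact IsClosedImmersion.of_isPreimmersion _ (i ≫ a.hom).isClosedMap.isClosed_range
  · exact ((Scheme.Modules.pullbackComp i a.hom).app _).symm ≪≫
      (Scheme.Modules.pullback i).mapIso τ ≪≫ e.symm

end Groth.Agent.S16307
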