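import Groth.Statements.S16309
import Groth.Agent.CurveCover.AmpleH1
import Groth.Agent.SeesawX.PnSpec

set_option autoImplicit false
set_option backward.isDefEq.respectTransparency false
set_option backward.isDefEq.respectTransparency.types false
universe u
open CategoryTheory CategoryTheory.Limits AlgebraicGeometry
open Curves

namespace Groth.Agent.S16309

/-- Let k be a field and X a proper scheme over k of dimension one (not assumed reduced or irreducible)
with H^1(X, O_X) = 0 and H^0(X, O_X) = k, and let L be an ample invertible O_X-module. Then the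
section ring ⊕_{n ≥ 0} H^0(X, L^{⊗ n}) is generated by H^0(X, L) as a k-algebra: for every n, the
global sections of L^{⊗ n} ⊗ L = L^{⊗ (n+1)} are spanned over H^0(X, O_X) = k by the sections a ⊗ b
with a a global section of L^{⊗ n} and b a global section of L. -/
theorem result (k : Type u) [Field k] (X : Scheme.{u}) [X.Over (Spec (CommRingCat.of k))]
    [IsProper (X ↘ (Spec (CommRingCat.of k)))] (hdim : topologicalKrullDim X = 1)
    (h1 : Subsingleton (Coh.HH X (Coh.structureModule X) 1))
    (h0 : Module.finrank k (Coh.HH X (Coh.structureModule X) 0) = 1)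
    (L : X.Modules) (hA : CohB1.IsAmple L) (n : ℕ) :
    Submodule.span (X.ringCatSheaf.obj.obj (Opposite.op ⊤))
        (Set.range (fun p : (CohB1.tensorPow L n).val.obj (Opposite.op ⊤) × L.val.obj (Opposite.op ⊤) =>
          SecTwist.tmul (CohB1.tensorPow L n) L ⊤ p.1 p.2)) = ⊤ := by
  have hng := Groth.Agent.CurveCover.AmpleH1.normGenerated k hdim.le h1 hA
  refine top_le_iff.1 fun z _ => ?_
  cases n with
  | zero =>
    obtain ⟨a, ha⟩ := Groth.Agent.CurveCover.NormGen.oneTmul_surjective hA.1 z
    exact Submodule.subset_span ⟨((show (CohB1.tensorPow L 0).val.obj (Opposite.op ⊤) from (1 : Γ(X, ⊤))), a), ha.symm⟩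
  | succ m =>
    refine Groth.Agent.CurveCover.NormGen.normGenerated_induction hng (Nat.le_add_left 1 m)
      (p := fun z => z ∈ Submodule.span (X.ringCatSheaf.obj.obj (Opposite.op ⊤))
        (Set.range (fun p : (CohB1.tensorPow L (m + 1)).val.obj (Opposite.op ⊤) × L.val.obj (Opposite.op ⊤) =>
          SecTwist.tmul (CohB1.tensorPow L (m + 1)) L ⊤ p.1 p.2)))
      (fun a b => Submodule.subset_span ⟨(a, b), Groth.Agent.CurveCover.NormGen.secTwist_tmul_eq a b⟩)
      (Submodule.zero_mem _) (fun a b ha hb => Submodule.add_mem _ ha hb) (fun a ha => Submodule.neg_mem _ ha) z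

end Groth.Agent.S16309
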