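import Groth.Statements.S16312


set_option autoImplicit false
universe u
open W4c3irrattreebun

namespace Groth.Agent.S16312

/-- Let N be a closed cone in real n-space, f a function continuous on N, positive at the nonzero points
of N and homogeneous of degree one under scaling by nonnegative reals, and Λ a discrete additive
subgroup. Then for every real c the set of points H of Λ lying in N with f(H) ≤ c is finite. (The
published statement takes Λ to be a lattice; this row allows any discrete additive subgroup.) -/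
theorem result (n : ℕ)
    (N : Set (EuclideanSpace ℝ (Fin n))) (hN : IsClosed N)
    (hcone : ∀ x ∈ N, ∀ r : ℝ, 0 ≤ r → r • x ∈ N)
    (f : EuclideanSpace ℝ (Fin n) → ℝ) (hf : ContinuousOn f N)
    (hpos : ∀ x ∈ N, x ≠ 0 → 0 < f x)
    (hhom : ∀ x ∈ N, ∀ r : ℝ, 0 ≤ r → f (r • x) = r * f x)
    (Λ : Submodule ℤ (EuclideanSpace ℝ (Fin n))) [DiscreteTopology Λ] (c : ℝ) :
    ({x : EuclideanSpace ℝ (Fin n) | x ∈ N ∧ f x ≤ c} ∩ (Λ : Set (EuclideanSpace ℝ (Fin n)))).Finite := by
  have hS : IsCompact (N ∩ Metric.sphere (0 : EuclideanSpace ℝ (Fin n)) 1) :=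
    (isCompact_sphere 0 1).inter_left hN
  obtain ⟨m, hm, hmle⟩ : ∃ m, 0 < m ∧
      ∀ x ∈ N ∩ Metric.sphere (0 : EuclideanSpace ℝ (Fin n)) 1, m ≤ f x := by
    rcases (N ∩ Metric.sphere (0 : EuclideanSpace ℝ (Fin n)) 1).eq_empty_or_nonempty with he | hne
    · exact ⟨1, one_pos, fun x hx => by rw [he] at hx; exact absurd hx (Set.notMem_empty x)⟩
    · obtain ⟨x0, hx0, hmin⟩ := hS.exists_isMinOn hne (hf.mono Set.inter_subset_left)
      exact ⟨f x0, hpos x0 hx0.1 (ne_zero_of_mem_unit_sphere ⟨x0, hx0.2⟩), fun x hx => hmin hx⟩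
  have hb : Bornology.IsBounded {x | x ∈ N ∧ f x ≤ c} := by
    refine (Metric.isBounded_closedBall (x := 0) (r := max 0 (c / m))).subset fun x ⟨hx, hfx⟩ => ?_
    rw [mem_closedBall_zero_iff]
    by_cases hx0 : x = 0
    · simp [hx0]
    have hn : 0 < ‖x‖ := norm_pos_iff.2 hx0
    have h := hmle (‖x‖⁻¹ • x) ⟨hcone x hx _ (by positivity), by simp [norm_smul, hn.ne']⟩
    rw [hhom x hx _ (by positivity), ← div_eq_inv_mul, le_div_iff₀ hn] at h
    refine le_trans ?_ (le_max_right _ _)
    rw [le_div_iff₀ hm]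
    nlinarith
  have : DiscreteTopology Λ.toAddSubgroup := ‹DiscreteTopology Λ›
  exact Metric.finite_isBounded_inter_isClosed DiscreteTopology.isDiscrete hb
    (AddSubgroup.isClosed_of_discrete (H := Λ.toAddSubgroup))

end Groth.Agent.S16312
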