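import Groth.Statements.S16323
import Groth.Agent.GrLib8.ABStd
-- import your own Groth.Agent.* helpers here

set_option autoImplicit false
universe u
open GrSyz

namespace Groth.Agent.S16323

/-- Let k be an algebraically closed field of characteristic zero, S = k[x_0, …, x_n] graded by degree,
𝔪 = (x_0, …, x_n), M a finitely generated ℤ-graded S-module and F a minimal graded free resolution
of M (finite-rank free modules with homogeneous bases, every matrix entry of every differential in
𝔪) of length exactly ℓ: F_ℓ ≠ 0 and F_i = 0 for i > ℓ, so that ℓ is the projective dimension of M.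
Then ℓ + depth(𝔪, M) = n + 1, where depth(𝔪, M) is the 𝔪-depth of M (supremum in ℕ∞ of the lengths
of M-regular sequences with terms in 𝔪). (The published statement is pd M = depth(𝔪, S) − depth(𝔪,
M) for a graded ring S with maximal ideal 𝔪 and a finitely generated module of finite projective
dimension; stated here, as the text then specialises it, for the polynomial ring, where depth(𝔪, S)
= n + 1 and the projective dimension is the length of a minimal graded free resolution.) -/
theorem result (k : Type u) [Field k] [IsAlgClosed k] [CharZero k] (n : ℕ)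
    (M : Type u) [AddCommGroup M] [Module k M] [Module (MvPolynomial (Fin (n + 1)) k) M]
    [IsScalarTower k (MvPolynomial (Fin (n + 1)) k) M] [Module.Finite (MvPolynomial (Fin (n + 1)) k) M]
    (ℳ : ℤ → Submodule k M) [DirectSum.Decomposition ℳ] [SetLike.GradedSMul (GrSyz.stdGr k (Fin (n + 1))) ℳ]
    (F : GrSyz.FreeRes (GrSyz.stdGr k (Fin (n + 1))) ℳ) (hF : F.IsMinimal (GrSyz.irrel (GrSyz.stdGr k (Fin (n + 1)))).toIdeal)
    (ℓ : ℕ) (hℓ : F.HasLengthLE ℓ) (hℓ' : F.rk ℓ ≠ 0) :
    (ℓ : ℕ∞) + LocCoh.idealDepth (GrSyz.irrel (GrSyz.stdGr k (Fin (n + 1)))).toIdeal M = ((n + 1 : ℕ) : ℕ∞) := by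
  classical
  obtain ⟨e, he, hle⟩ := GrLib8.idealDepth_of_minimal (n + 1) (Nat.succ_pos n) (GrLib8.idealDepth_stdGr k (n + 1)) F hF ℓ hℓ hℓ'
  rw [he, ← hle, Nat.cast_add]

end Groth.Agent.S16323
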