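import Groth.Statements.S16324
import Groth.Agent.GrLib8.ABStd
import Groth.Agent.GrLib8.StdLen
import Groth.Agent.GrLib8.RegStd
import Groth.Agent.LC.CdDim
import Mathlib.RingTheory.KrullDimension.Polynomial
-- import your own Groth.Agent.* helpers here

set_option autoImplicit false
universe u
open GrSyz

namespace Groth.Agent.S16324

/-- Let k be an algebraically closed field of characteristic zero, S = k[x_0, …, x_n] graded by degree,
𝔪 = (x_0, …, x_n), and M a finitely generated ℤ-graded S-module which is Cohen–Macaulay: the Krull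
dimension of its support equals its 𝔪-depth. Let F be a minimal graded free resolution of M of
length exactly ℓ (F_ℓ ≠ 0, F_i = 0 for i > ℓ; so ℓ = pd M) and let ρ be its regularity: every basis
vector of F_i has degree at most ρ + i, with equality for some i and some basis vector (so ρ = reg
M). Let P be the Hilbert polynomial of M, i.e. a polynomial over ℚ with dim_k M_d = P(d) for all
sufficiently large d. Then dim_k M_d ≠ P(d) for d = ρ + ℓ − n − 1: the bound d ≥ reg M + pd M − n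
beyond which the Hilbert function agrees with the Hilbert polynomial is sharp for Cohen–Macaulay
modules. (Part (1) of the published statement, the agreement for d ≥ reg M + pd M − n, follows from
the agreement for d at least the largest generator degree minus n and is not restated.) -/
theorem result (k : Type u) [Field k] [IsAlgClosed k] [CharZero k] (n : ℕ)
    (M : Type u) [AddCommGroup M] [Module k M] [Module (MvPolynomial (Fin (n + 1)) k) M]
    [IsScalarTower k (MvPolynomial (Fin (n + 1)) k) M] [Module.Finite (MvPolynomial (Fin (n + 1)) k) M]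
    (ℳ : ℤ → Submodule k M) [DirectSum.Decomposition ℳ] [SetLike.GradedSMul (GrSyz.stdGr k (Fin (n + 1))) ℳ]
    (hCM : Module.supportDim (MvPolynomial (Fin (n + 1)) k) M = ((LocCoh.idealDepth (GrSyz.irrel (GrSyz.stdGr k (Fin (n + 1)))).toIdeal M : ℕ∞) : WithBot ℕ∞))
    (F : GrSyz.FreeRes (GrSyz.stdGr k (Fin (n + 1))) ℳ) (hF : F.IsMinimal (GrSyz.irrel (GrSyz.stdGr k (Fin (n + 1)))).toIdeal)
    (ℓ : ℕ) (hℓ : F.HasLengthLE ℓ) (hℓ' : F.rk ℓ ≠ 0)
    (ρ : ℤ) (hρ : F.IsGenLE ρ) (hρ' : ∃ (i : ℕ) (b : Fin (F.rk i)), F.deg i b = ρ + i)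
    (P : Polynomial ℚ) (hP : ∃ d₁ : ℤ, ∀ d : ℤ, d₁ ≤ d → ((Module.finrank k ↥(ℳ d) : ℤ) : ℚ) = P.eval (d : ℚ)) :
    ((Module.finrank k ↥(ℳ (ρ + ℓ - n - 1)) : ℤ) : ℚ) ≠ P.eval ((ρ + ℓ - n - 1 : ℤ) : ℚ) := by
  classical
  let S := MvPolynomial (Fin (n + 1)) k
  let 𝒜 := GrSyz.stdGr k (Fin (n + 1))
  let m := GrSyz.irrel 𝒜
  let X := GrLib8.gmodPieces 𝒜 ℳ
  haveI : Module.Finite S X.carrier := inferInstanceAs (Module.Finite S M)
  haveI := GrLib8.isArtinianRing_deg0_stdGr k (n + 1)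
  have hpos : ∀ j < 0, ∀ r ∈ 𝒜 j, r = 0 := fun j hj r hr => GrLib8.stdGr_nonneg k _ j hj r hr
  obtain ⟨e, he, hle⟩ := GrLib8.idealDepth_of_minimal (n + 1) (Nat.succ_pos n) (GrLib8.idealDepth_stdGr k (n + 1)) F hF ℓ hℓ hℓ'
  have hsub : ∀ i, i ≠ e → ∀ g, GrLib8.HVan m X i g := fun i hi g E => by
    haveI : Subsingleton (LocCoh.H m.toIdeal i X.carrier) := by
      rcases lt_or_gt_of_ne hi with h | h
      · exact (LC.le_idealDepth_iff_H m.toIdeal M e).1 he.ge i h
      · refine LC.subsingleton_H_of_supportDim_lt (I := m.toIdeal) M i ?_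
        rw [hCM, he]
        exact WithBot.coe_lt_coe.2 (Nat.cast_lt.2 h)
    obtain ⟨φ⟩ := GrLib8.nonempty_H_equiv X.gr E m i
    haveI := φ.toEquiv.subsingleton
    exact GrLib8.Hcomp_eq_bot_of_subsingleton E m i g
  have hdim : ringKrullDim S = (n + 1 : ℕ) := by
    rw [MvPolynomial.ringKrullDim_of_isNoetherianRing, ringKrullDim_eq_zero_of_field, zero_add, Nat.card_fin]
  have hcd : ∀ (Y : GrLC.GMod.{u} 𝒜) (i : ℕ) (g : ℤ), n + 1 < i → GrLib8.HVan m Y i g := fun Y i g hi E => by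
    haveI : Subsingleton (LocCoh.H m.toIdeal i Y.carrier) := LC.cdLE_of_ringKrullDim_le m.toIdeal hdim.le Y.carrier i hi
    obtain ⟨φ⟩ := GrLib8.nonempty_H_equiv Y.gr E m i
    haveI := φ.toEquiv.subsingleton
    exact GrLib8.Hcomp_eq_bot_of_subsingleton E m i g
  have hlen : ∀ g, (GrLib8.lenN (S := GrLC.deg0 𝒜) (GrLC.comp 𝒜 X.gr g) : ℕ) = Module.finrank k (ℳ g) := fun g =>
    GrLib8.toNat_length_comp (k := k) (n := n + 1) ℳ g
  obtain ⟨d₁, hd₁⟩ := hP
  have hform := GrLib8.formula hpos (a := m) le_rfl ⟨1, (pow_one _).le⟩ (n + 1) hcd X P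
    ⟨d₁, fun g hg => by rw [hlen, ← hd₁ g hg.le]; norm_cast⟩ (ρ + ℓ - n - 1)
  have hreg : ¬ GrLib8.RegBd m X (ρ - 1) := fun h => by
    obtain ⟨i, b, hb⟩ := hρ'
    have := (GrLib8.isGenLE_iff_regBd F hF (ρ - 1)).2 h i b
    omega
  have hne : GrLib8.lenH m X e (ρ + ℓ - n - 1) ≠ 0 := by
    intro h0
    refine hreg fun i g hg => ?_
    rcases eq_or_ne i e with rfl | hi
    · rcases lt_or_ge ρ (g + i) with h | h
      · exact (GrLib8.isGenLE_iff_regBd F hF ρ).1 hρ i g h
      · have hge : g = ρ + ℓ - n - 1 := by omega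
        subst hge
        haveI := GrLib8.finite_piece hpos (a := m) le_rfl ⟨1, (pow_one _).le⟩ X i (ρ + ℓ - n - 1) (GrLib8.starRes X.gr)
        refine GrLib8.hVan_of_res (GrLib8.starRes X.gr) (Submodule.subsingleton_iff_eq_bot.1
          ((Module.length_eq_zero_iff (R := GrLC.deg0 𝒜)).1 ?_))
        exact ((ENat.toNat_eq_zero).1 h0).resolve_right (GrLib8.length_ne_top_of_finite _)
    · exact hsub i hi g
  have heq : GrLib8.eulerH m (n + 1) X (ρ + ℓ - n - 1) = (-1) ^ e * (GrLib8.lenH m X e (ρ + ℓ - n - 1) : ℤ) := by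
    refine Finset.sum_eq_single e (fun i _ hi => ?_) fun h => absurd (Finset.mem_range.2 (by omega)) h
    rw [GrLib8.lenH_eq_zero (hsub i hi _), Nat.cast_zero, mul_zero]
  rw [heq, hlen] at hform
  intro hcontra
  rw [← hcontra, Int.cast_natCast, sub_eq_self, Int.cast_eq_zero, mul_eq_zero, pow_eq_zero_iff'] at hform
  rcases hform with ⟨h, -⟩ | h
  · norm_num at h
  · exact hne (by exact_mod_cast h)

end Groth.Agent.S16324
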