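import Groth.Statements.S16325
import Groth.Agent.CxLib.Homology

set_option autoImplicit false
universe u v
open CategoryTheory
open W4c3biextchow

namespace Groth.Agent.S16325

/-- Let f : C ⟶ D be a chain map of ℕ-indexed chain complexes of modules over a ring R, and consider the
functor it induces between the groupoids attached to C and D (objects: degree-0 elements; morphisms
a ⟶ b: degree-1 elements with boundary b - a, modulo boundaries of degree-2 elements). This functor
is faithful if and only if f is injective on homology in degree 1. (The published statement is for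
complexes of abelian groups; this row allows modules over any ring R.) -/
theorem result
    (R : Type u) [Ring R] (C D : ChainComplex (ModuleCat.{v} R) ℕ) (f : C ⟶ D) :
    (W4c3biextchow.cxFunctor f).Faithful ↔ Mono (HomologicalComplex.homologyMap f 1) := by
  rw [CxLib.mono_homologyMap_succ_iff f 0]
  constructor
  · intro hF x hx hw
    obtain ⟨w, hw⟩ := hw
    let φ : (⟨0⟩ : Obj C) ⟶ ⟨0⟩ := ⟨Submodule.Quotient.mk x, by rw [delta_mk, hx]; simp⟩
    have h0 : φ = 𝟙 _ := hF.map_injective (Hom.ext (by
      rw [CategoryTheory.Functor.map_id]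
      show q1Map f (Submodule.Quotient.mk x) = 0
      rw [q1Map_mk]
      exact (Submodule.Quotient.mk_eq_zero _).mpr ⟨w, hw⟩))
    have h1 : (Submodule.Quotient.mk x : Q1 C) = 0 := congrArg Hom.cl h0
    exact (Submodule.Quotient.mk_eq_zero _).mp h1
  · intro h
    refine ⟨fun {a b} φ ψ hφψ => Hom.ext ?_⟩
    have hz : q1Map f (φ.cl - ψ.cl) = 0 := by
      rw [map_sub, sub_eq_zero]
      exact congrArg Hom.cl hφψ
    have hd : delta C (φ.cl - ψ.cl) = 0 := by rw [map_sub, φ.delta_cl, ψ.delta_cl, sub_self]
    rw [← sub_eq_zero]
    obtain ⟨x, hx⟩ := Submodule.Quotient.mk_surjective _ (φ.cl - ψ.cl)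
    rw [← hx, q1Map_mk, Submodule.Quotient.mk_eq_zero] at hz
    rw [← hx, delta_mk] at hd
    rw [← hx]
    exact (Submodule.Quotient.mk_eq_zero _).mpr (h x hd hz)

end Groth.Agent.S16325
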