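import Groth.Statements.S16326
import Groth.Agent.CxLib.Homology

set_option autoImplicit false
universe u v
open CategoryTheory
open W4c3biextchow

namespace Groth.Agent.S16326

/-- Let f : C ⟶ D be a chain map of ℕ-indexed chain complexes of modules over a ring R, and consider the
functor it induces between the groupoids attached to C and D (objects: degree-0 elements; morphisms
a ⟶ b: degree-1 elements with boundary b - a, modulo boundaries of degree-2 elements). This functor
is full if and only if f is surjective on homology in degree 1 and injective on homology in degree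
0. (The published statement is for complexes of abelian groups; this row allows modules over any
ring R.) -/
theorem result
    (R : Type u) [Ring R] (C D : ChainComplex (ModuleCat.{v} R) ℕ) (f : C ⟶ D) :
    (W4c3biextchow.cxFunctor f).Full ↔
      Epi (HomologicalComplex.homologyMap f 1) ∧ Mono (HomologicalComplex.homologyMap f 0) := by
  rw [CxLib.epi_homologyMap_succ_iff f 0, CxLib.mono_homologyMap_zero_iff f]
  constructor
  · intro hF
    constructor
    · intro y hy
      let ψ : (cxFunctor f).obj ⟨0⟩ ⟶ (cxFunctor f).obj ⟨0⟩ := ⟨Submodule.Quotient.mk y, by rw [delta_mk, hy]; simp⟩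
      obtain ⟨φ, hφ⟩ := hF.map_surjective ψ
      obtain ⟨x, hx⟩ := Submodule.Quotient.mk_surjective _ (φ : Hom C _ _).cl
      have hd := (φ : Hom C _ _).delta_cl
      rw [← hx, delta_mk] at hd
      refine ⟨x, by rw [hd]; exact sub_self _, ?_⟩
      have hc : q1Map f (φ : Hom C _ _).cl = Submodule.Quotient.mk y := congrArg Hom.cl hφ
      rw [← hx, q1Map_mk, Submodule.Quotient.eq] at hc
      obtain ⟨w, hw⟩ := hc
      exact ⟨-w, by rw [map_neg, hw, neg_sub]⟩
    · rintro b ⟨w, hw⟩
      let ψ : (cxFunctor f).obj ⟨0⟩ ⟶ (cxFunctor f).obj ⟨b⟩ := ⟨Submodule.Quotient.mk w, by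
        rw [delta_mk, hw]; simp⟩
      obtain ⟨φ, -⟩ := hF.map_surjective ψ
      obtain ⟨x, hx⟩ := Submodule.Quotient.mk_surjective _ (φ : Hom C _ _).cl
      have hd := (φ : Hom C _ _).delta_cl
      rw [← hx, delta_mk] at hd
      exact ⟨x, hd.trans (sub_zero _)⟩
  · rintro ⟨hepi, hmono⟩
    refine ⟨fun {a b} ψ => ?_⟩
    obtain ⟨y, hy⟩ := Submodule.Quotient.mk_surjective _ (ψ : Hom D _ _).cl
    have hdy := (ψ : Hom D _ _).delta_cl
    rw [← hy, delta_mk] at hdy
    obtain ⟨x, hx⟩ := hmono (b.pt - a.pt) ⟨y, by rw [map_sub]; exact hdy⟩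
    obtain ⟨x', hx', w, hw⟩ := hepi (y - (f.f 1).hom x) (by
      rw [map_sub, CxLib.comm_apply, hdy, hx, map_sub]; exact sub_self _)
    refine ⟨(⟨Submodule.Quotient.mk (x + x'), by rw [delta_mk, map_add, hx, hx', add_zero]⟩ : Hom C a b), Hom.ext ?_⟩
    show q1Map f (Submodule.Quotient.mk (x + x')) = _
    rw [q1Map_mk, ← hy, Submodule.Quotient.eq]
    exact ⟨-w, by rw [map_neg, hw, map_add]; abel⟩

end Groth.Agent.S16326
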