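import Groth.Statements.S16328
import Groth.Agent.CxLib.Split

set_option autoImplicit false
universe v
open CategoryTheory
open W4c3biextchow

namespace Groth.Agent.S16328

/-- Let f : A' ⟶ A and p : A ⟶ A'' be chain maps of ℕ-indexed chain complexes of free abelian groups
forming a short exact sequence in every degree (f injective, p surjective, image of f equal to the
kernel of p), and assume f is a quasi-isomorphism. Then there is a chain map h : A'' ⟶ A such that
in every degree q the map (a'', a') ↦ h(a'') + f(a') is a bijection from A''_q × A'_q onto A_q, so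
that A is the direct sum of the subcomplexes f(A') and h(A''). (The source allows complexes indexed
by all integers; stated here for complexes in non-negative degrees.) -/
theorem result
    (A' A A'' : ChainComplex (ModuleCat.{v} ℤ) ℕ) (f : A' ⟶ A) (p : A ⟶ A'')
    [∀ q, Module.Free ℤ (A'.X q)] [∀ q, Module.Free ℤ (A.X q)] [∀ q, Module.Free ℤ (A''.X q)]
    (hf : ∀ q, Function.Injective (f.f q).hom) (hp : ∀ q, Function.Surjective (p.f q).hom)
    (hfp : ∀ q, Function.Exact (f.f q).hom (p.f q).hom) [QuasiIso f] :
    ∃ h : A'' ⟶ A, ∀ q : ℕ,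
      Function.Bijective (fun x : A''.X q × A'.X q => (h.f q).hom x.1 + (f.f q).hom x.2) := by
  obtain ⟨h, hh⟩ := CxLib.exists_section f p hf hp hfp
  refine ⟨h, fun q => ⟨fun x y hxy => ?_, fun a => ?_⟩⟩
  · have h1 : x.1 = y.1 := by
      have := congrArg (p.f q).hom hxy
      simp only [map_add, hh, (hfp q).apply_apply_eq_zero, add_zero] at this
      exact this
    refine Prod.ext h1 (hf q ?_)
    simp only [h1] at hxy
    exact add_left_cancel hxy
  · obtain ⟨x, hx⟩ := (hfp q (a - (h.f q).hom ((p.f q).hom a))).mp (by rw [map_sub, hh, sub_self])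
    refine ⟨⟨(p.f q).hom a, x⟩, ?_⟩
    show _ + (f.f q).hom x = a
    rw [hx]
    abel

end Groth.Agent.S16328
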