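import Groth.Statements.S16330
import Groth.Agent.CxLib.Split

set_option autoImplicit false
universe v
open CategoryTheory
open W4c3biextchow

namespace Groth.Agent.S16330

/-- Let f : A' ⟶ A be a chain map of ℕ-indexed chain complexes of free abelian groups which is injective
in every degree, whose degreewise quotients A_q / f(A'_q) are free abelian groups, and which is a
quasi-isomorphism. Then any two chain maps g₁, g₂ : A ⟶ A' with f ≫ g₁ = f ≫ g₂ = 𝟙 differ by a
null-homotopic map: there is a chain homotopy between g₁ and g₂ all of whose components vanish on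
the image of f (so g₁ - g₂ factors through the quotient complex A / A', and the homotopy does too).
(The source allows complexes indexed by all integers; stated here for complexes in non-negative
degrees.) -/
theorem result
    (A' A : ChainComplex (ModuleCat.{v} ℤ) ℕ) (f : A' ⟶ A)
    [∀ q, Module.Free ℤ (A'.X q)] [∀ q, Module.Free ℤ (A.X q)]
    (hf : ∀ q, Function.Injective (f.f q).hom)
    (hq : ∀ q, Module.Free ℤ ((A.X q) ⧸ LinearMap.range (f.f q).hom)) [QuasiIso f]
    (g₁ g₂ : A ⟶ A') (h₁ : f ≫ g₁ = 𝟙 A') (h₂ : f ≫ g₂ = 𝟙 A') :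
    ∃ H : Homotopy g₁ g₂, ∀ i j : ℕ, f.f i ≫ H.hom i j = 0 := by
  obtain ⟨t, ht, ht0, ht1⟩ := CxLib.exists_hom_of_retractions f hf (fun q => CxLib.projective_int (hq q)) g₁ g₂ h₁ h₂
  refine ⟨{ hom := fun i j => if h : i + 1 = j then ModuleCat.ofHom (t i) ≫ eqToHom (by rw [h]) else 0,
            zero := fun i j hij => dif_neg hij, comm := ?_ }, fun i j => ?_⟩
  · intro i
    cases i with
    | zero =>
      rw [dNext_eq_zero _ 0 (by simp), prevD_eq _ (show (ComplexShape.down ℕ).Rel 1 0 by simp), dif_pos rfl, eqToHom_refl,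
        Category.comp_id, zero_add]
      ext x
      show (g₁.f 0).hom x = (A'.d 1 0).hom (t 0 x) + (g₂.f 0).hom x
      rw [← ht0, sub_add_cancel]
    | succ n =>
      rw [dNext_eq _ (show (ComplexShape.down ℕ).Rel (n + 1) n by simp),
        prevD_eq _ (show (ComplexShape.down ℕ).Rel (n + 2) (n + 1) by simp), dif_pos rfl, dif_pos rfl, eqToHom_refl,
        eqToHom_refl, Category.comp_id, Category.comp_id]
      ext x
      show (g₁.f (n + 1)).hom x = t n ((A.d (n + 1) n).hom x) + (A'.d (n + 2) (n + 1)).hom (t (n + 1) x) +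
        (g₂.f (n + 1)).hom x
      rw [add_comm (t n _), ← ht1, sub_add_cancel]
  · show f.f i ≫ (if h : i + 1 = j then ModuleCat.ofHom (t i) ≫ eqToHom (by rw [h]) else 0) = 0
    by_cases h : i + 1 = j
    · subst h
      rw [dif_pos rfl, eqToHom_refl, Category.comp_id]
      ext x
      exact ht i x
    · rw [dif_neg h, CategoryTheory.Limits.comp_zero]

end Groth.Agent.S16330
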