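import Groth.Statements.S16331
import Groth.Agent.CxLib.Split

set_option autoImplicit false
universe v
open CategoryTheory
open W4c3biextchow

namespace Groth.Agent.S16331

/-- Let f : A' ⟶ A be a chain map of ℕ-indexed chain complexes of free abelian groups which is injective
in every degree, with free degreewise quotients A_q / f(A'_q), and a quasi-isomorphism; let h' : A'
⟶ B be a chain map to another complex of free abelian groups and g₁, g₂ : A ⟶ A' two chain maps with
f ≫ g₁ = f ≫ g₂ = 𝟙. Consider the functors induced by g₁ ≫ h' and g₂ ≫ h' between the groupoids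
attached to A and B (objects: degree-0 elements; morphisms a ⟶ b: degree-1 elements with boundary b
- a, modulo boundaries of degree-2 elements). Then there is a natural isomorphism between these two
functors whose component at every object of the form f(a'), a' a degree-0 element of A', is the zero
class, i.e. the identity morphism of h'(a'). -/
theorem result
    (A' A B : ChainComplex (ModuleCat.{v} ℤ) ℕ) (f : A' ⟶ A) (h' : A' ⟶ B)
    [∀ q, Module.Free ℤ (A'.X q)] [∀ q, Module.Free ℤ (A.X q)] [∀ q, Module.Free ℤ (B.X q)]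
    (hf : ∀ q, Function.Injective (f.f q).hom)
    (hq : ∀ q, Module.Free ℤ ((A.X q) ⧸ LinearMap.range (f.f q).hom)) [QuasiIso f]
    (g₁ g₂ : A ⟶ A') (h₁ : f ≫ g₁ = 𝟙 A') (h₂ : f ≫ g₂ = 𝟙 A') :
    ∃ N : W4c3biextchow.cxFunctor (g₁ ≫ h') ≅ W4c3biextchow.cxFunctor (g₂ ≫ h'),
      ∀ a : W4c3biextchow.Obj A',
        (N.hom.app ((W4c3biextchow.cxFunctor f).obj a) : W4c3biextchow.Hom B _ _).cl = 0 := by
  obtain ⟨t, ht, ht0, ht1⟩ := CxLib.exists_hom_of_retractions f hf (fun q => CxLib.projective_int (hq q)) g₁ g₂ h₁ h₂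
  let N : A.X 0 → Q1 B := fun a => -Submodule.Quotient.mk ((h'.f 1).hom (t 0 a))
  have hNadd : ∀ a a', N (a + a') = N a + N a' := fun a a' => by
    simp only [N, map_add, Submodule.Quotient.mk_add, neg_add]
  have hN : ∀ a : A.X 0, delta B (N a) = (h'.f 0).hom ((g₂.f 0).hom a) - (h'.f 0).hom ((g₁.f 0).hom a) := by
    intro a
    show delta B (-Submodule.Quotient.mk ((h'.f 1).hom (t 0 a))) = _
    rw [map_neg, delta_mk, CxLib.comm_apply, ← ht0, map_sub, neg_sub]
  refine ⟨NatIso.ofComponents (fun a => ({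
      hom := (⟨N a.pt, hN a.pt⟩ : Hom B _ _)
      inv := (⟨-N a.pt, by rw [map_neg, hN, neg_sub]; rfl⟩ : Hom B _ _)
      hom_inv_id := Hom.ext (add_neg_cancel _)
      inv_hom_id := Hom.ext (neg_add_cancel _) } : (cxFunctor (g₁ ≫ h')).obj a ≅ (cxFunctor (g₂ ≫ h')).obj a))
    (fun {a b} φ => Hom.ext ?_), fun a => ?_⟩
  · show q1Map (g₁ ≫ h') φ.cl + N b.pt = N a.pt + q1Map (g₂ ≫ h') φ.cl
    obtain ⟨x, hx⟩ := Submodule.Quotient.mk_surjective _ φ.cl
    have hdx : (A.d 1 0).hom x = b.pt - a.pt := by rw [← delta_mk, hx, φ.delta_cl]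
    have hb : b.pt = (A.d 1 0).hom x + a.pt := by rw [hdx, sub_add_cancel]
    rw [hb, hNadd, ← hx, q1Map_mk, q1Map_mk]
    show (Submodule.Quotient.mk ((h'.f 1).hom ((g₁.f 1).hom x)) : Q1 B) +
      (-Submodule.Quotient.mk ((h'.f 1).hom (t 0 ((A.d 1 0).hom x))) + N a.pt) =
      N a.pt + Submodule.Quotient.mk ((h'.f 1).hom ((g₂.f 1).hom x))
    have key : (Submodule.Quotient.mk ((h'.f 1).hom ((g₁.f 1).hom x)) : Q1 B) =
        Submodule.Quotient.mk ((h'.f 1).hom ((g₂.f 1).hom x)) +
          Submodule.Quotient.mk ((h'.f 1).hom (t 0 ((A.d 1 0).hom x))) := by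
      rw [← Submodule.Quotient.mk_add, Submodule.Quotient.eq]
      refine ⟨(h'.f 2).hom (t 1 x), ?_⟩
      rw [CxLib.comm_apply, show (A'.d 2 1).hom (t 1 x) =
        (g₁.f 1).hom x - (g₂.f 1).hom x - t 0 ((A.d 1 0).hom x) from eq_sub_of_add_eq (ht1 0 x).symm, map_sub, map_sub]
      abel
    rw [key]
    abel
  · show -Submodule.Quotient.mk ((h'.f 1).hom (t 0 ((f.f 0).hom a.pt))) = 0
    rw [ht, map_zero]
    simp

end Groth.Agent.S16331
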