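import Groth.Statements.S16332
import Groth.Agent.CxLib.Tensor

set_option autoImplicit false
universe v
open CategoryTheory MonoidalCategory
open W4c3biextchow

namespace Groth.Agent.S16332

/-- Let R be a commutative ring, C an ℕ-indexed chain complex of R-modules whose degree-0 term C_0 is a
free R-module, G an R-module, and π : P ⟶ G[0] a quasi-isomorphism from an ℕ-indexed chain complex P
of free R-modules onto G placed in degree 0 (a free resolution of G), so that the tensor product of
complexes C ⊗ P represents the derived tensor product of C and G. Then the map induced by π on first
homology, H_1(C ⊗ P) → H_1(C ⊗ G[0]), is an isomorphism: in degree 1 the derived and the plain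
tensor product with G have the same homology. (The published statement is over the integers, for
complexes vanishing in negative degrees with C_0 free abelian; this row allows any commutative ring
R and R-modules in the same universe as R.) -/
theorem result
    (R : Type v) [CommRing R] (C P : ChainComplex (ModuleCat.{v} R) ℕ) (G : ModuleCat.{v} R)
    [Module.Free R (C.X 0)] [∀ q, Module.Free R (P.X q)]
    (π : P ⟶ (ChainComplex.single₀ (ModuleCat.{v} R)).obj G) [QuasiIso π] :
    IsIso (HomologicalComplex.homologyMap (C ◁ π) 1) := by
  exact CxLib.isIso_homologyMap_one C P G π

end Groth.Agent.S16332
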