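import Groth.Statements.S16335
import Mathlib
-- import your own Groth.Agent.* helpers here

set_option autoImplicit false
universe u v w w'
open TensorProduct
open InvTh

namespace Groth.Agent.S16335

/-- Let `R` be a commutative ring with an action of a finite group `Γ` by ring automorphisms such that
the order of `Γ` is invertible in `R`, and let `A → R` be injective with image exactly the
invariants `R^Γ`, the action being `A`-linear. Then for every commutative `A`-algebra `S`, with `Γ`
acting on `S ⊗_A R` through the factor `R`, the map `S → S ⊗_A R`, `s ↦ s ⊗ 1`, is injective and its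
image is exactly the set of `Γ`-fixed elements: `S ≅ (S ⊗_A R)^Γ`. No flatness of `S` over `A` is
assumed; the invertibility of the order of `Γ` replaces it. This is the affine statement that for a
tame quotient the coarse space commutes with arbitrary base change. (The published lemma is the
statement that the coarse moduli space of a tame Deligne–Mumford stack commutes with arbitrary base
change, whose proof reduces to this ring statement. The published lemma also asserts the analogous
statement for the reduced fibre product when the base-change scheme is reduced; that clause is not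
part of this row.) -/
theorem result
    (A : Type u) [CommRing A] (R : Type v) [CommRing R] [Algebra A R]
    (Γ : Type w) [Group Γ] [Finite Γ] [MulSemiringAction Γ R] [SMulCommClass Γ A R]
    [Algebra.IsInvariant A R Γ] (hinj : Function.Injective (algebraMap A R))
    (hΓ : IsUnit (Nat.card Γ : R))
    (S : Type w') [CommRing S] [Algebra A S] :
    Function.Injective (fun s : S => s ⊗ₜ[A] (1 : R)) ∧
      ∀ x : S ⊗[A] R,
        (∀ γ : Γ, Algebra.TensorProduct.map (AlgHom.id A S) (MulSemiringAction.toAlgHom A R γ) x = x) →
          x ∈ Set.range (fun s : S => s ⊗ₜ[A] (1 : R)) := by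
  classical
  have : Fintype Γ := Fintype.ofFinite Γ
  obtain ⟨u, hu⟩ := hΓ
  have hinv : ∀ r : R, ∃ a : A, algebraMap A R a = (↑u⁻¹ : R) * ∑ γ : Γ, γ • r := fun r =>
    Algebra.IsInvariant.isInvariant (G := Γ) _ fun g => by
      have hug : g • (↑u⁻¹ : R) = ↑u⁻¹ := by
        have h1 : g • (↑u : R) = ↑u := by
          rw [hu]; exact map_natCast (MulSemiringAction.toRingHom Γ R g) _
        have h2 : g • ((↑u⁻¹ : R) * ↑u) = 1 := by rw [Units.inv_mul, smul_one]
        rw [smul_mul', h1] at h2
        exact left_inv_eq_right_inv h2 (Units.mul_inv u) |>.trans rfl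
      rw [smul_mul', hug, Finset.smul_sum]
      exact congrArg _ (Fintype.sum_equiv (Equiv.mulLeft g) _ _ fun γ => smul_smul g γ r)
  choose e he using hinv
  let E : R →ₗ[A] A :=
    { toFun := e
      map_add' := fun a b => hinj (by simp [he, smul_add, Finset.sum_add_distrib, mul_add])
      map_smul' := fun c b => hinj (by
        simp only [he, RingHom.id_apply, smul_eq_mul, map_mul, smul_comm _ c, ← Finset.smul_sum, Algebra.smul_def c,
          Finset.mul_sum, mul_left_comm, smul_mul', smul_algebraMap]) }
  let F : S ⊗[A] R →ₗ[A] S := (TensorProduct.rid A S).toLinearMap ∘ₗ E.lTensor S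
  have hE1 : E 1 = 1 := hinj (by
    show algebraMap A R (e 1) = _
    simp only [he, smul_one, Finset.sum_const, Finset.card_univ, nsmul_eq_mul, mul_one, map_one,
      ← Nat.card_eq_fintype_card, ← hu, Units.inv_mul])
  have hF : ∀ s : S, F (s ⊗ₜ[A] (1 : R)) = s := fun s => by simp [F, hE1]
  refine ⟨fun s t h => by simpa [hF] using congrArg F h, fun x hx => ⟨F x, ?_⟩⟩
  have key : ∀ z : S ⊗[A] R, F z ⊗ₜ[A] (1 : R) = (Algebra.TensorProduct.includeRight (↑u⁻¹ : R) : S ⊗[A] R) *
      ∑ γ : Γ, Algebra.TensorProduct.map (AlgHom.id A S) (MulSemiringAction.toAlgHom A R γ) z := fun z => by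
    induction z using TensorProduct.induction_on with
    | zero => simp
    | tmul s r =>
      simp only [F, LinearMap.comp_apply, LinearMap.lTensor_tmul, LinearEquiv.coe_coe, TensorProduct.rid_tmul,
        Algebra.TensorProduct.map_tmul, AlgHom.id_apply, Algebra.TensorProduct.includeRight_apply,
        ← TensorProduct.tmul_sum, Algebra.TensorProduct.tmul_mul_tmul, one_mul, TensorProduct.smul_tmul,
        ← Algebra.algebraMap_eq_smul_one]
      show s ⊗ₜ[A] algebraMap A R (e r) = _
      rw [he]; rfl
    | add a b ha hb => simp only [map_add, TensorProduct.add_tmul, ha, hb, Finset.sum_add_distrib, mul_add]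
  show F x ⊗ₜ[A] (1 : R) = x
  rw [key, Finset.sum_congr rfl (fun γ _ => hx γ), Finset.sum_const, Finset.card_univ, ← Nat.card_eq_fintype_card,
    mul_smul_comm, ← smul_mul_assoc, ← map_nsmul, nsmul_eq_mul, ← hu, Units.mul_inv, map_one, one_mul]

end Groth.Agent.S16335
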