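import Groth.Statements.S16343
import Mathlib

set_option autoImplicit false
open KatoHom

namespace Groth.Agent.S16343

/-- Let P be a set of primes and π : A → T a surjection of abelian groups whose kernel is ℓ-divisible
for every ℓ ∈ P, with T a torsion group; let T(P) be the subgroup of elements of T killed by a
positive integer all of whose prime factors lie in P, and T' the subgroup of elements killed by a
positive integer none of whose prime factors lies in P. Then the preimage π⁻¹(T') is ℓ-divisible for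
every ℓ ∈ P, and π has a section s over T(P) for which (d, t) ↦ d + s(t) is a bijection from π⁻¹(T')
× T(P) onto A, so that A is the direct sum of π⁻¹(T') and a copy of T(P). (The decomposition is
expressed through a section of π over T(P).) -/
theorem result
    {A T : Type*} [AddCommGroup A] [AddCommGroup T] (P : Set ℕ) (hP : ∀ p ∈ P, p.Prime)
    (π : A →+ T) (hπ : Function.Surjective π) (hT : ∀ t : T, ∃ n : ℕ, 0 < n ∧ n • t = 0)
    (hD : ∀ ℓ ∈ P, ∀ x ∈ π.ker, ∃ y ∈ π.ker, ℓ • y = x)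
    (TP T' : AddSubgroup T)
    (hTP : ∀ t, t ∈ TP ↔ ∃ n : ℕ, 0 < n ∧ (∀ p : ℕ, p.Prime → p ∣ n → p ∈ P) ∧ n • t = 0)
    (hT' : ∀ t, t ∈ T' ↔ ∃ n : ℕ, 0 < n ∧ (∀ p : ℕ, p.Prime → p ∣ n → p ∉ P) ∧ n • t = 0) :
    (∀ ℓ ∈ P, ∀ x ∈ T'.comap π, ∃ y ∈ T'.comap π, ℓ • y = x) ∧
    ∃ s : TP →+ A, (∀ t : TP, π (s t) = (t : T)) ∧
      Function.Bijective (fun q : (T'.comap π) × TP => (q.1 : A) + s q.2) := by
  classical
  have hTPdiv : ∀ ℓ, Nat.Prime ℓ → ℓ ∈ P → ∀ t ∈ T', ∃ u ∈ T', ℓ • u = t := by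
    intro ℓ hℓ hℓP t ht
    obtain ⟨n, hn0, hn, hnt⟩ := (hT' t).mp ht
    have hcop : IsCoprime (ℓ : ℤ) (n : ℤ) :=
      Nat.isCoprime_iff_coprime.mpr ((Nat.Prime.coprime_iff_not_dvd hℓ).mpr fun h => hn ℓ hℓ h hℓP)
    obtain ⟨a, b, hab⟩ := hcop
    refine ⟨a • t, T'.zsmul_mem ht a, ?_⟩
    have hnt' : (n : ℤ) • t = 0 := by rw [natCast_zsmul]; exact hnt
    rw [← natCast_zsmul, smul_smul, show (ℓ : ℤ) * a = 1 - b * n by linear_combination hab, sub_smul, one_smul,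
      mul_smul, hnt', smul_zero, sub_zero]
  have hdiv : ∀ ℓ ∈ P, ∀ x ∈ T'.comap π, ∃ y ∈ T'.comap π, ℓ • y = x := by
    intro ℓ hℓ x hx
    obtain ⟨u, hu, hux⟩ := hTPdiv ℓ (hP ℓ hℓ) hℓ (π x) hx
    obtain ⟨y₀, rfl⟩ := hπ u
    obtain ⟨d, hd, hdx⟩ := hD ℓ hℓ (x - ℓ • y₀) (by simp [AddMonoidHom.mem_ker, hux])
    refine ⟨y₀ + d, ?_, by rw [smul_add, hdx, add_sub_cancel]⟩
    rw [AddSubgroup.mem_comap, map_add, AddMonoidHom.mem_ker.mp hd, add_zero]
    exact hu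
  refine ⟨hdiv, ?_⟩
  -- decomposition of `T`
  have hdec : ∀ n : ℕ, 0 < n → ∀ t : T, n • t = 0 → ∃ t₁ ∈ TP, ∃ t₂ ∈ T', t₁ + t₂ = t := by
    intro n
    induction n using Nat.recOnPrimeCoprime with
    | zero => intro h; omega
    | prime_pow q e hq =>
      intro _ t ht
      by_cases hqP : q ∈ P
      · exact ⟨t, (hTP t).mpr ⟨q ^ e, pow_pos hq.pos e, fun r hr hd => by
          rwa [(Nat.prime_dvd_prime_iff_eq hr hq).mp (hr.dvd_of_dvd_pow hd)], ht⟩, 0, T'.zero_mem, add_zero t⟩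
      · exact ⟨0, TP.zero_mem, t, (hT' t).mpr ⟨q ^ e, pow_pos hq.pos e, fun r hr hd => by
          rwa [(Nat.prime_dvd_prime_iff_eq hr hq).mp (hr.dvd_of_dvd_pow hd)], ht⟩, zero_add t⟩
    | coprime a b ha hb hab iha ihb =>
      intro _ t ht
      obtain ⟨u, v, huv⟩ := Nat.isCoprime_iff_coprime.mpr hab
      have ht' : ((a : ℤ) * b) • t = 0 := by rw [← Nat.cast_mul, natCast_zsmul]; exact ht
      obtain ⟨p₁, hp₁, q₁, hq₁, e₁⟩ := iha (by omega) ((v * b) • t) (by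
        rw [← natCast_zsmul, smul_smul, show (a : ℤ) * (v * b) = v * (a * b) by ring, mul_smul, ht', smul_zero])
      obtain ⟨p₂, hp₂, q₂, hq₂, e₂⟩ := ihb (by omega) ((u * a) • t) (by
        rw [← natCast_zsmul, smul_smul, show (b : ℤ) * (u * a) = u * (a * b) by ring, mul_smul, ht', smul_zero])
      refine ⟨p₁ + p₂, TP.add_mem hp₁ hp₂, q₁ + q₂, T'.add_mem hq₁ hq₂, ?_⟩
      rw [add_add_add_comm, e₁, e₂, ← add_smul, add_comm, huv, one_smul]
  have hint : ∀ t : T, t ∈ TP → t ∈ T' → t = 0 := by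
    intro t h1 h2
    obtain ⟨n, -, hn, hnt⟩ := (hTP t).mp h1
    obtain ⟨m, -, hm, hmt⟩ := (hT' t).mp h2
    have hco : Nat.Coprime n m := Nat.coprime_of_dvd fun r hr h h' => hm r hr h' (hn r hr h)
    obtain ⟨u, v, huv⟩ := Nat.isCoprime_iff_coprime.mpr hco
    rw [← one_zsmul t, ← huv, add_zsmul, mul_zsmul, mul_zsmul, natCast_zsmul, natCast_zsmul]
    simp [hnt, hmt, smul_comm _ u, smul_comm _ v]
  let Cs : Set (AddSubgroup A) := {C | C ≤ TP.comap π ∧ C ⊓ π.ker = ⊥}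
  obtain ⟨C, -, hC⟩ := zorn_le_nonempty₀ Cs (by
    intro ch hch hchain y hy
    refine ⟨sSup ch, ⟨sSup_le fun C hC => (hch hC).1, eq_bot_iff.mpr ?_⟩, fun C hC => le_sSup hC⟩
    rintro z ⟨hz, hz'⟩
    obtain ⟨C, hC, hzC⟩ := (AddSubgroup.mem_sSup_of_directedOn ⟨y, hy⟩ hchain.directedOn).mp hz
    exact (hch hC).2.le ⟨hzC, hz'⟩) ⊥ ⟨bot_le, bot_inf_eq _⟩
  obtain ⟨hCle, hCD⟩ := hC.prop
  have hgen : ∀ n : ℕ, 0 < n → (∀ p : ℕ, p.Prime → p ∣ n → p ∈ P) → ∀ x : A, n • π x = 0 →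
      ∃ c ∈ C, x - c ∈ π.ker := by
    intro n
    induction n using Nat.strong_induction_on with
    | _ n ih =>
      intro hn0 hnP x hx
      by_cases h1 : n = 1
      · exact ⟨0, C.zero_mem, by simpa [AddMonoidHom.mem_ker, h1] using hx⟩
      obtain ⟨ℓ, hℓ, m, rfl⟩ := Nat.exists_prime_and_dvd h1
      have hℓP := hnP ℓ hℓ (dvd_mul_right ℓ m)
      have hm0 : 0 < m := Nat.pos_of_mul_pos_left hn0
      obtain ⟨c₀, hc₀, hd₀⟩ := ih m (lt_mul_of_one_lt_left hm0 hℓ.one_lt) hm0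
        (fun r hr hd => hnP r hr (dvd_mul_of_dvd_right hd ℓ)) (ℓ • x) (by
          rw [map_nsmul, smul_smul, mul_comm m ℓ]; exact hx)
      obtain ⟨d, hd, hdx⟩ := hD ℓ hℓP _ hd₀
      by_contra hno
      have hxd : ℓ • (x - d) = c₀ := by rw [smul_sub, hdx]; abel
      let C' := C ⊔ AddSubgroup.zmultiples (x - d)
      have hx' : x - d ∈ TP.comap π := by
        rw [AddSubgroup.mem_comap, map_sub, AddMonoidHom.mem_ker.mp hd, sub_zero]
        exact (hTP _).mpr ⟨_, hn0, hnP, hx⟩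
      have hC' : C' ∈ Cs := by
        refine ⟨sup_le hCle (AddSubgroup.zmultiples_le_of_mem hx'), eq_bot_iff.mpr ?_⟩
        rintro z ⟨hz, hzk⟩
        obtain ⟨c, hc, w, hw, rfl⟩ := AddSubgroup.mem_sup.mp hz
        obtain ⟨j, rfl⟩ := hw
        by_cases hdvd : (ℓ : ℤ) ∣ j
        · obtain ⟨i, rfl⟩ := hdvd
          have hzC : c + ((ℓ : ℤ) * i) • (x - d) ∈ C := by
            refine C.add_mem hc ?_
            rw [mul_comm, mul_smul, natCast_zsmul, hxd]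
            exact C.zsmul_mem hc₀ i
          exact hCD.le ⟨hzC, hzk⟩
        · obtain ⟨u, v, huv⟩ := (Int.isCoprime_iff_gcd_eq_one.mpr (by
            rw [Int.gcd_comm]
            exact (Nat.Prime.coprime_iff_not_dvd hℓ).mpr (fun h => hdvd (Int.natCast_dvd.mpr h)) : Int.gcd j ℓ = 1))
          refine absurd ⟨-(u • c) + v • c₀, C.add_mem (C.neg_mem (C.zsmul_mem hc u)) (C.zsmul_mem hc₀ v), ?_⟩ hno
          have e : x - (-(u • c) + v • c₀) = u • (c + j • (x - d)) + d := by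
            have e2 : x - d = u • (j • (x - d)) + v • c₀ := by
              rw [← hxd, ← natCast_zsmul, smul_smul, smul_smul, ← add_smul, huv, one_smul]
            rw [smul_add]
            linear_combination (norm := abel) e2
          rw [e]
          exact π.ker.add_mem (π.ker.zsmul_mem hzk u) hd
      have hmem : x - d ∈ C := hC.le_of_ge hC' le_sup_left (AddSubgroup.mem_sup_right (AddSubgroup.mem_zmultiples _))
      exact hno ⟨x - d, hmem, by simpa using hd⟩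
  have hbij : ∀ t : TP, ∃! c : A, c ∈ C ∧ π c = t := by
    intro t
    obtain ⟨x, hx⟩ := hπ (t : T)
    obtain ⟨n, hn0, hn, hnt⟩ := (hTP _).mp t.2
    obtain ⟨c, hc, hcx⟩ := hgen n hn0 hn x (by rw [hx]; exact hnt)
    rw [AddMonoidHom.mem_ker, map_sub, sub_eq_zero, hx] at hcx
    refine ⟨c, ⟨hc, hcx.symm⟩, fun c' ⟨hc', he⟩ => sub_eq_zero.mp (hCD.le ⟨C.sub_mem hc' hc, ?_⟩)⟩
    refine AddMonoidHom.mem_ker.mpr ?_
    rw [map_sub, he, ← hcx, sub_self]
  choose s hs hu using hbij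
  let S : TP →+ A := AddMonoidHom.mk' s fun a b =>
    (hu (a + b) _ ⟨C.add_mem (hs a).1 (hs b).1, by rw [map_add, (hs a).2, (hs b).2]; rfl⟩).symm
  refine ⟨S, fun t => (hs t).2, ?_, ?_⟩
  · rintro ⟨a, t⟩ ⟨a', t'⟩ h
    have h1 := congrArg π h
    simp only [map_add] at h1
    rw [show π (S t) = t from (hs t).2, show π (S t') = t' from (hs t').2] at h1
    have h2 : (t : T) - t' = π a' - π a := by rw [sub_eq_sub_iff_add_eq_add, add_comm (t : T), h1]
    have h3 := hint _ (TP.sub_mem t.2 t'.2) (h2 ▸ T'.sub_mem a'.2 a.2)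
    obtain rfl : t = t' := Subtype.ext (sub_eq_zero.mp h3)
    exact Prod.ext (Subtype.ext (add_right_cancel h)) rfl
  · intro x
    obtain ⟨n, hn0, hn⟩ := hT (π x)
    obtain ⟨t₁, h1, t₂, h2, he⟩ := hdec n hn0 _ hn
    refine ⟨(⟨x - S ⟨t₁, h1⟩, ?_⟩, ⟨t₁, h1⟩), sub_add_cancel _ _⟩
    rw [AddSubgroup.mem_comap, map_sub, show π (S ⟨t₁, h1⟩) = t₁ from (hs _).2, ← he, add_sub_cancel_left]
    exact h2

end Groth.Agent.S16343
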