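import Groth.Statements.S16344
import Mathlib.Topology.Algebra.Group.Basic
import Mathlib.Topology.Compactness.Compact

set_option autoImplicit false
universe u v
open IdeleMod

namespace Groth.Agent.S16344
/-- Compatible nonempty closed subsets of compact Hausdorff spaces have a compatible point. -/
theorem exists_section {ι : Type*} [Preorder ι] [IsDirected ι (· ≤ ·)] (X : ι → Type*) [∀ i, TopologicalSpace (X i)]
    [∀ i, CompactSpace (X i)] [∀ i, T2Space (X i)] (f : ∀ ⦃i j : ι⦄, i ≤ j → X j → X i)
    (hf : ∀ i j (h : i ≤ j), Continuous (f h))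
    (hid : ∀ i (x : X i), f (le_refl i) x = x)
    (hcomp : ∀ i j k (hij : i ≤ j) (hjk : j ≤ k) (x : X k), f hij (f hjk x) = f (hij.trans hjk) x)
    (Y : ∀ i, Set (X i)) (hY : ∀ i, IsClosed (Y i)) (hne : ∀ i, (Y i).Nonempty)
    (hmap : ∀ i j (h : i ≤ j), ∀ x ∈ Y j, f h x ∈ Y i) :
    ∃ z : ∀ i, X i, (∀ i j (h : i ≤ j), f h (z j) = z i) ∧ ∀ i, z i ∈ Y i := by
  classical
  rcases isEmpty_or_nonempty ι with hι | hι
  · exact ⟨fun i => isEmptyElim i, fun i => isEmptyElim i, fun i => isEmptyElim i⟩
  let D : ι → Set (∀ i, X i) := fun j => {z | z j ∈ Y j ∧ ∀ i (h : i ≤ j), f h (z j) = z i}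
  have hD : ∀ j, IsClosed (D j) := fun j => by
    have : D j = (fun z : ∀ i, X i => z j) ⁻¹' Y j ∩ ⋂ (i) (h : i ≤ j), {z : ∀ i, X i | f h (z j) = z i} := by
      ext z; simp [D]
    rw [this]
    exact ((hY j).preimage (continuous_apply j)).inter
      (isClosed_iInter fun i => isClosed_iInter fun h => isClosed_eq ((hf i j h).comp (continuous_apply j)) (continuous_apply i))
  have hDne : ∀ j, (D j).Nonempty := fun j => by
    obtain ⟨x, hx⟩ := hne j
    refine ⟨fun i => if h : i ≤ j then f h x else (hne i).some, ?_, fun i h => ?_⟩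
    · simp only [dif_pos le_rfl, hid]; exact hx
    · simp only [dif_pos le_rfl, dif_pos h, hid]
  have hdir : Directed (· ⊇ ·) D := fun i j => by
    obtain ⟨k, hik, hjk⟩ := directed_of (· ≤ ·) i j
    have key : ∀ i (h : i ≤ k), D k ⊆ D i := fun i hik z hz =>
      ⟨by rw [← hz.2 i hik]; exact hmap i k hik _ hz.1,
        fun l hl => by rw [← hz.2 i hik, hcomp]; exact hz.2 l (hl.trans hik)⟩
    exact ⟨k, key i hik, key j hjk⟩
  obtain ⟨z, hz⟩ := IsCompact.nonempty_iInter_of_directed_nonempty_isCompact_isClosed D hdir hDne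
    (fun j => (hD j).isCompact) hD
  rw [Set.mem_iInter] at hz
  exact ⟨z, fun i j h => (hz j).2 i h, fun i => (hz i).1⟩

/-- Let (G_i) be an inverse system, indexed by a directed preorder, of compact Hausdorff topological
abelian groups with continuous surjective transition maps, let G be its limit (the group of
compatible families) and let m be a natural number. Then the canonical map G/mG → lim G_i/mG_i is
bijective: a compatible family that lies in mG_i at every index is m times a compatible family
(injectivity), and every family that is compatible modulo m agrees modulo m, index by index, with a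
compatible family (surjectivity). -/
theorem result
    {ι : Type u} [Preorder ι] [IsDirected ι (· ≤ ·)]
    (G : ι → Type v) [∀ i, AddCommGroup (G i)] [∀ i, TopologicalSpace (G i)]
    [∀ i, IsTopologicalAddGroup (G i)] [∀ i, CompactSpace (G i)] [∀ i, T2Space (G i)]
    (f : ∀ ⦃i j : ι⦄, i ≤ j → (G j →+ G i)) (hf : ∀ i j (h : i ≤ j), Continuous (f h))
    (hid : ∀ i (x : G i), f (le_refl i) x = x)
    (hcomp : ∀ i j k (hij : i ≤ j) (hjk : j ≤ k) (x : G k), f hij (f hjk x) = f (hij.trans hjk) x)
    (hsurj : ∀ i j (h : i ≤ j), Function.Surjective (f h)) (m : ℕ) :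
    (∀ x : ∀ i, G i, (∀ i j (h : i ≤ j), f h (x j) = x i) → (∀ i, ∃ y : G i, m • y = x i) →
        ∃ z : ∀ i, G i, (∀ i j (h : i ≤ j), f h (z j) = z i) ∧ ∀ i, m • z i = x i) ∧
    (∀ y : ∀ i, G i, (∀ i j (h : i ≤ j), ∃ w : G i, f h (y j) - y i = m • w) →
        ∃ x : ∀ i, G i, (∀ i j (h : i ≤ j), f h (x j) = x i) ∧ ∀ i, ∃ w : G i, x i - y i = m • w) := by
  constructor
  · intro x hx hdiv
    exact exists_section G (fun i j h => f h) hf hid hcomp (fun i => {y | m • y = x i})
      (fun i => isClosed_eq (continuous_nsmul m) continuous_const) hdiv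
      (fun i j h y hy => by
        show m • f h y = x i
        rw [← map_nsmul, show m • y = x j from hy, hx i j h])
  · intro y hy
    obtain ⟨x, hx, hxY⟩ := exists_section G (fun i j h => f h) hf hid hcomp
      (fun i => Set.range fun w : G i => y i + m • w)
      (fun i => (isCompact_range (continuous_const.add (continuous_nsmul m))).isClosed)
      (fun i => ⟨_, 0, rfl⟩)
      (fun i j h z hz => by
        obtain ⟨w, rfl⟩ := hz
        obtain ⟨w', hw'⟩ := hy i j h
        refine ⟨w' + f h w, ?_⟩
        show y i + m • (w' + f h w) = f h (y j + m • w)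
        rw [map_add, map_nsmul, nsmul_add, ← hw']
        abel)
    refine ⟨x, hx, fun i => ?_⟩
    obtain ⟨w, hw⟩ := hxY i
    exact ⟨w, by rw [← hw, add_sub_cancel_left]⟩

end Groth.Agent.S16344
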