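import Groth.Statements.S16345
import Mathlib
import Groth.Agent.AffCompl.Compl
import Groth.Agent.SchTop.Closed
import Groth.Agent.GrpSchLib.SmoothRegular
import Groth.Agent.CurveFin.RelDim
import Groth.Agent.SmoothDim.Basic

set_option autoImplicit false
universe u
open KatoHom

namespace Groth.Agent.S16345

open AlgebraicGeometry CategoryTheory in
/-- Let X be a connected scheme, proper and smooth of relative dimension d ≥ 2 over a field L, and let D
⊆ X be a closed subscheme, smooth of relative dimension d − 1 over L (a smooth divisor), whose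
complement in X is an affine open subset. Then D is connected (in particular non-empty). -/
theorem result
    {L : Type u} [Field L] {X D : Scheme.{u}} (f : X ⟶ Spec (CommRingCat.of L)) (i : D ⟶ X)
    [IsProper f] (d : ℕ) (hd : 1 < d) [SmoothOfRelativeDimension d f]
    [IsClosedImmersion i] [SmoothOfRelativeDimension (d - 1) (i ≫ f)]
    [ConnectedSpace X] (U : X.Opens) (hU : IsAffineOpen U)
    (hDU : Set.range i.base = (U : Set X)ᶜ) : ConnectedSpace D := by
  have hind : Topology.IsEmbedding i.base := i.isClosedEmbedding.isEmbedding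
  suffices h : _root_.IsConnected (Set.range i.base) by
    haveI := isConnected_iff_connectedSpace.1 h
    exact hind.toHomeomorph.symm.surjective.connectedSpace hind.toHomeomorph.symm.continuous
  rw [hDU]
  by_cases hne : (U : Set X).Nonempty
  swap
  · rw [Set.not_nonempty_iff_eq_empty.1 hne, Set.compl_empty]
    exact isConnected_univ
  haveI : Smooth f := SmoothOfRelativeDimension.smooth d f
  haveI : IsLocallyNoetherian X := LocallyOfFiniteType.isLocallyNoetherian f
  haveI : CompactSpace X := QuasiCompact.compactSpace_of_compactSpace f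
  haveI : IsNoetherian X := {}
  have hdom : ∀ x : X, IsDomain (X.presheaf.stalk x) := fun x => by
    haveI := Groth.Agent.GrpSchLib.isRegularLocalRing_stalk_of_smooth f x
    exact Groth.Agent.RegLoc6.isDomain_of_isRegularLocalRing _
  haveI : IrreducibleSpace X := by
    obtain ⟨y⟩ := (inferInstance : Nonempty X)
    obtain ⟨Z, hZ, -⟩ := exists_mem_irreducibleComponents_subset_of_isIrreducible _
      (isIrreducible_singleton (x := y))
    have hop := Groth.Agent.SchTop.isOpen_component_of_finite (X := X)
      TopologicalSpace.NoetherianSpace.finite_irreducibleComponents hdom hZ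
    have hu : Z = Set.univ :=
      IsClopen.eq_univ ⟨isClosed_of_mem_irreducibleComponents Z hZ, hop⟩ hZ.1.nonempty
    rw [irreducibleSpace_def, Set.top_eq_univ, ← hu]
    exact hZ.1
  have hdimX : topologicalKrullDim X = (d : WithBot ℕ∞) := by
    obtain ⟨x⟩ : Nonempty X := inferInstance
    obtain ⟨W, hW, V, hV, hxV, e, h⟩ := SmoothOfRelativeDimension.exists_isStandardSmoothOfRelativeDimension (n := d) (f := f) x
    have hWt : W = ⊤ := top_le_iff.1 fun p _ => by
      rw [Subsingleton.elim p (f x)]; exact e hxV
    subst hWt
    let ψ := (Scheme.ΓSpecIso (CommRingCat.of L)).inv ≫ f.appLE ⊤ V e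
    have h' : RingHom.IsStandardSmoothOfRelativeDimension d ψ.hom :=
      RingHom.isStandardSmoothOfRelativeDimension_respectsIso.2 _
        (Scheme.ΓSpecIso (CommRingCat.of L)).symm.commRingCatIsoToRingEquiv h
    let _ := ψ.hom.toAlgebra
    have : Algebra.IsStandardSmoothOfRelativeDimension d L Γ(X, V) := h'
    have : Nonempty V := ⟨⟨x, hxV⟩⟩
    haveI : Nontrivial Γ(X, V) := inferInstance
    have h2 := Groth.Agent.SmoothDim.ringKrullDim_eq L Γ(X, V) d
    rw [Groth.Agent.CurveFin.ringKrullDim_affine_eq f hV ⟨x, hxV⟩] at h2
    exact h2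
  refine Groth.Agent.AffCompl.isConnected_compl L f ?_ hU hne
  rw [hdimX]
  exact_mod_cast hd

end Groth.Agent.S16345
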