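import Groth.Statements.S16346
import Mathlib

set_option autoImplicit false
universe u v
open KatoHom

namespace Groth.Agent.S16346

/-- Let P be a set of primes and I_P the set of positive integers all of whose prime factors lie in P.
Let A be an abelian group, (B_n)_{n ∈ I_P} an inverse system of abelian groups with transition maps
B_n → B_m for m ∣ n, and φ_n : A → B_n homomorphisms vanishing on nA and compatible with the
transition maps, so that they induce φ̂ : Â → B̂ on the limits Â = lim A/nA and B̂ = lim B_n (limits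
taken as compatible families). Suppose some N ∈ I_P kills the torsion subgroup of B̂ and kills the
kernel of φ̂ (the latter meaning: a compatible family of residues (a_n) with φ_n(a_n) = 0 for all n
has N a_n ∈ nA for all n). Then the subgroup ⋂_{n ∈ I_P} nA is ℓ-divisible for every ℓ ∈ P, and it
contains every subgroup of A that is ℓ-divisible for all ℓ ∈ P; that is, it is the largest
P-divisible subgroup of A. -/
theorem result
    {A : Type u} [AddCommGroup A] (P : Set ℕ) (hP : ∀ p ∈ P, p.Prime)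
    (IP : Set ℕ) (hIP : ∀ n, n ∈ IP ↔ 0 < n ∧ ∀ p : ℕ, p.Prime → p ∣ n → p ∈ P)
    (B : IP → Type v) [∀ n, AddCommGroup (B n)]
    (g : ∀ ⦃m n : IP⦄, (m : ℕ) ∣ (n : ℕ) → (B n →+ B m))
    (hgid : ∀ (n : IP) (b : B n), g (dvd_refl (n : ℕ)) b = b)
    (hgcomp : ∀ (k m n : IP) (hkm : (k : ℕ) ∣ (m : ℕ)) (hmn : (m : ℕ) ∣ (n : ℕ)) (b : B n),
      g hkm (g hmn b) = g (hkm.trans hmn) b)
    (φ : ∀ n : IP, A →+ B n) (hφ : ∀ (n : IP) (a : A), φ n ((n : ℕ) • a) = 0)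
    (hφg : ∀ (m n : IP) (h : (m : ℕ) ∣ (n : ℕ)) (a : A), g h (φ n a) = φ m a)
    (N : ℕ) (hN : N ∈ IP)
    (htor : ∀ b : ∀ n : IP, B n, (∀ (m n : IP) (h : (m : ℕ) ∣ (n : ℕ)), g h (b n) = b m) →
      (∃ k : ℕ, 0 < k ∧ ∀ n, k • b n = 0) → ∀ n, N • b n = 0)
    (hker : ∀ a : IP → A, (∀ m n : IP, (m : ℕ) ∣ (n : ℕ) → ∃ c : A, a n - a m = (m : ℕ) • c) →
      (∀ n, φ n (a n) = 0) → ∀ n : IP, ∃ c : A, N • a n = (n : ℕ) • c) :
    (∀ ℓ ∈ P, ∀ x : A, (∀ n ∈ IP, ∃ y : A, x = n • y) →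
        ∃ y : A, (∀ n ∈ IP, ∃ z : A, y = n • z) ∧ ℓ • y = x) ∧
    (∀ H : AddSubgroup A, (∀ ℓ ∈ P, ∀ x ∈ H, ∃ y ∈ H, ℓ • y = x) →
        ∀ x ∈ H, ∀ n ∈ IP, ∃ y : A, x = n • y) := by
  classical
  have hmul : ∀ a b, a ∈ IP → b ∈ IP → a * b ∈ IP := by
    intro a b ha hb
    rw [hIP] at ha hb ⊢
    exact ⟨Nat.mul_pos ha.1 hb.1, fun q hq hd => (hq.dvd_mul.mp hd).elim (ha.2 q hq) (hb.2 q hq)⟩
  have hpr : ∀ ℓ ∈ P, ℓ ∈ IP := fun ℓ hℓ => (hIP ℓ).mpr ⟨(hP ℓ hℓ).pos, fun q hq hd => by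
    rwa [(Nat.prime_dvd_prime_iff_eq hq (hP ℓ hℓ)).mp hd]⟩
  have htors : ∀ (t : A) (j : ℕ), 0 < j → j • t = 0 → ∀ n : IP, ∃ c : A, N • N • t = (n : ℕ) • c := by
    intro t j hj hjt n
    refine hker (fun _ => N • t) (fun m n _ => ⟨0, by simp⟩) (fun m => ?_) n
    rw [map_nsmul]
    exact htor (fun n => φ n t) (fun m n h => hφg m n h t) ⟨j, hj, fun n => by rw [← map_nsmul, hjt, map_zero]⟩ m
  refine ⟨fun ℓ hℓ x hx => ?_, fun H hH x hx n hn => ?_⟩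
  · choose z hz using fun n : IP => hx (ℓ * (N * N * n)) (hmul _ _ (hpr ℓ hℓ) (hmul _ _ (hmul _ _ hN hN) n.2))
    have h1 : (1 : ℕ) ∈ IP := (hIP 1).mpr ⟨one_pos, fun q hq hd => absurd (Nat.dvd_one.mp hd) hq.ne_one⟩
    refine ⟨(N * N) • z ⟨1, h1⟩, fun n hn => ?_, ?_⟩
    · have hNpos := ((hIP N).mp hN).1
      obtain ⟨c, hc⟩ := htors (z ⟨1, h1⟩ - n • z ⟨n, hn⟩) (ℓ * (N * N))
        (Nat.mul_pos (hP ℓ hℓ).pos (Nat.mul_pos hNpos hNpos)) (by
          rw [smul_sub, smul_smul, sub_eq_zero]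
          have e1 := hz ⟨1, h1⟩
          rw [mul_one] at e1
          rw [← e1, mul_assoc]
          exact hz ⟨n, hn⟩) ⟨n, hn⟩
      refine ⟨c + (N * N) • z ⟨n, hn⟩, ?_⟩
      rw [smul_add, ← hc, smul_smul N N, smul_sub, smul_comm n (N * N), sub_add_cancel]
    · rw [smul_smul]
      have e1 := hz ⟨1, h1⟩
      rw [mul_one] at e1
      exact e1.symm
  · induction n using Nat.strong_induction_on generalizing x with
    | _ n ih =>
      obtain ⟨hn0, hn1⟩ := (hIP n).mp hn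
      by_cases h1 : n = 1
      · exact ⟨x, by rw [h1, one_smul]⟩
      · obtain ⟨q, hq, hqn⟩ := Nat.exists_prime_and_dvd h1
        obtain ⟨m, rfl⟩ := hqn
        obtain ⟨y, hy, hyx⟩ := hH q (hn1 q hq (dvd_mul_right q m)) x hx
        have hm : m ∈ IP := (hIP m).mpr ⟨Nat.pos_of_mul_pos_left hn0, fun r hr hd => hn1 r hr (dvd_mul_of_dvd_right hd q)⟩
        obtain ⟨w, hw⟩ := ih m (lt_mul_of_one_lt_left ((hIP m).mp hm).1 hq.one_lt) y hy hm
        exact ⟨w, by rw [← smul_smul, ← hw, hyx]⟩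

end Groth.Agent.S16346
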