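import Groth.Statements.S16347
import Mathlib
import Groth.Agent.CubicLib.SingularLines

set_option autoImplicit false
universe u
open Cubic

namespace Groth.Agent.S16347

/-- Let K be an algebraically closed field of characteristic zero and S = V(F) ⊂ P^3_K a cubic surface,
F a homogeneous cubic in four variables which is irreducible and not a cone (there is no nonzero
vector v with Σ_i v_i ∂F/∂x_i = 0). If a is a singular point of S (a nonzero vector with F(a) = 0
and every ∂F/∂x_i(a) = 0), then at most six lines through a lie on S; here a line through a on S is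
a 2-dimensional subspace of K^4 containing a on which F vanishes identically. -/
theorem result (K : Type u) [Field K] [IsAlgClosed K] [CharZero K]
    (F : MvPolynomial (Fin 4) K) (hF : F.IsHomogeneous 3) (hirr : Irreducible F)
    (hcone : ¬ ∃ v : Fin 4 → K, v ≠ 0 ∧ ∑ i : Fin 4, v i • MvPolynomial.pderiv i F = 0)
    (a : Fin 4 → K) (ha : a ≠ 0) (hFa : MvPolynomial.eval a F = 0)
    (hsing : ∀ i : Fin 4, MvPolynomial.eval a (MvPolynomial.pderiv i F) = 0) :
    {U : Submodule K (Fin 4 → K) | a ∈ U ∧ Module.finrank K ↥U = 2 ∧ ∀ u ∈ U, MvPolynomial.eval u F = 0}.encard ≤ 6 := by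
  exact Groth.Agent.CubicLib.encard_lines_le_six F hF hirr hcone a ha hsing

end Groth.Agent.S16347
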