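import Groth.Statements.S16352
import Mathlib
import Groth.Agent.CubicLib.Bridge

set_option autoImplicit false
universe u
open Cubic

namespace Groth.Agent.S16352

/-- Let K be an algebraically closed field of characteristic zero and S = V(F) ⊂ P^3_K a cubic surface
which is irreducible and not a cone (no nonzero vector v has Σ_i v_i ∂F/∂x_i = 0). Let a be a smooth
point of S which is not a T-point: with ℓ = Σ_i ∂F/∂x_i(a) · x_i the (nonzero) linear form of the
tangent plane T_a S, F is not congruent modulo ℓ to a product of three linear forms (i.e. T_a S ∩ S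
is not set-theoretically a union of lines). Let P = Σ_i a_i ∂F/∂x_i be the first polar of a. Then
V(P) ∩ T_a S is a union of at most two lines through a, and every line through a lying on S lies in
V(P) ∩ T_a S; lines are 2-dimensional subspaces of K^4 and T_a S is the 3-dimensional subspace where
ℓ vanishes. -/
theorem result (K : Type u) [Field K] [IsAlgClosed K] [CharZero K]
    (F : MvPolynomial (Fin 4) K) (hF : F.IsHomogeneous 3) (hirr : Irreducible F)
    (hcone : ¬ ∃ v : Fin 4 → K, v ≠ 0 ∧ ∑ i : Fin 4, v i • MvPolynomial.pderiv i F = 0)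
    (a : Fin 4 → K) (ha : a ≠ 0) (hFa : MvPolynomial.eval a F = 0)
    (hsm : ∃ i : Fin 4, MvPolynomial.eval a (MvPolynomial.pderiv i F) ≠ 0)
    (ℓ : MvPolynomial (Fin 4) K)
    (hℓ : ℓ = ∑ i : Fin 4, MvPolynomial.C (MvPolynomial.eval a (MvPolynomial.pderiv i F)) * MvPolynomial.X i)
    (hT : ¬ ∃ L₁ L₂ L₃ : MvPolynomial (Fin 4) K, L₁.IsHomogeneous 1 ∧ L₂.IsHomogeneous 1 ∧ L₃.IsHomogeneous 1 ∧
      F - L₁ * L₂ * L₃ ∈ Ideal.span {ℓ})
    (P : MvPolynomial (Fin 4) K) (hP : P = ∑ i : Fin 4, a i • MvPolynomial.pderiv i F)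
    (H : Submodule K (Fin 4 → K)) (hH : ∀ x : Fin 4 → K, x ∈ H ↔ MvPolynomial.eval x ℓ = 0) :
    (∃ U₁ U₂ : Submodule K (Fin 4 → K), Module.finrank K ↥U₁ = 2 ∧ Module.finrank K ↥U₂ = 2 ∧ a ∈ U₁ ∧ a ∈ U₂ ∧
        U₁ ≤ H ∧ U₂ ≤ H ∧ {x : Fin 4 → K | x ∈ H ∧ MvPolynomial.eval x P = 0} = (U₁ : Set (Fin 4 → K)) ∪ (U₂ : Set (Fin 4 → K))) ∧
      ∀ U : Submodule K (Fin 4 → K), a ∈ U → Module.finrank K ↥U = 2 → (∀ u ∈ U, MvPolynomial.eval u F = 0) →
        U ≤ H ∧ ∀ u ∈ U, MvPolynomial.eval u P = 0 := by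
  obtain ⟨G, hG, hd, -⟩ := CubicLib.exists_cubic F hF
  have hdir : ∀ v x : Fin 4 → K, ∑ i, x i * MvPolynomial.eval v (MvPolynomial.pderiv i F) = 3 * G.T v v x := fun v x => by
    simp only [hd]
    conv_rhs => rw [pi_eq_sum_univ' x, map_sum, Finset.mul_sum]
    exact Finset.sum_congr rfl fun i _ => by rw [map_smul, smul_eq_mul]; ring
  have hℓ' : ∀ x : Fin 4 → K, MvPolynomial.eval x ℓ = 3 * G.T a a x := fun x => by
    rw [hℓ, ← hdir, map_sum]
    exact Finset.sum_congr rfl fun i _ => by simp [mul_comm]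
  have hP' : ∀ x : Fin 4 → K, MvPolynomial.eval x P = 3 * G.T a x x := fun x => by
    rw [hP, map_sum, G.symm₁₃ a x x, ← hdir]
    exact Finset.sum_congr rfl fun i _ => by rw [MvPolynomial.smul_eval]
  have hH' : ∀ x, x ∈ H ↔ G.T a a x = 0 := fun x => by rw [hH, hℓ']; simp
  have hFa' : G.F a = 0 := (hG a) ▸ hFa
  have hsm' : ∃ m, G.T a a m ≠ 0 := by
    obtain ⟨i, hi⟩ := hsm
    exact ⟨Pi.single i 1, fun h => hi (by rw [hd, h, mul_zero])⟩
  obtain ⟨w₁, w₂, N⟩ := (CubicLib.nice_or_product (K := K) hG hF hd ha hFa' hsm').resolve_right (by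
    simp only [Algebra.algebraMap_self, MvPolynomial.map_id, RingHom.id_apply, ← hℓ]
    exact hT)
  obtain ⟨p, q, r, s, hfac⟩ := CubicLib.exists_linear_pair (K := K) (G.T a w₁ w₁) (2 * G.T a w₁ w₂) (G.T a w₂ w₂)
  have hw : ∀ A B C : K, G.T a (A • a + B • w₁ + C • w₂) (A • a + B • w₁ + C • w₂) =
      (p * B + q * C) * (r * B + s * C) := fun A B C => by
    rw [← hfac]
    simp only [map_add, map_smul, LinearMap.add_apply, LinearMap.smul_apply, smul_eq_mul]
    rw [show G.T a a a = 0 from hFa', G.symm₂₃ a w₁ a, G.symm₂₃ a w₂ a, G.symm₂₃ a w₂ w₁, N.h₁, N.h₂]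
    ring
  have hq0 : G.T a w₂ w₂ = q * s := by have := hfac 0 1; linear_combination this
  have hq : q ≠ 0 := fun h => N.hlead (by rw [hq0, h, zero_mul])
  have hs : s ≠ 0 := fun h => N.hlead (by rw [hq0, h, mul_zero])
  have mkU : ∀ p' q' : K, q' ≠ 0 →
      Module.finrank K (Submodule.span K (Set.range ![a, q' • w₁ - p' • w₂])) = 2 := fun p' q' h => by
    rw [finrank_span_eq_card, Fintype.card_fin]
    rw [LinearIndependent.pair_iff' ha]
    intro c hc
    -- otherwise the tangent plane would be a line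
    have hle : H ≤ Submodule.span K (Set.range ![a, w₂]) := fun x hx => by
      obtain ⟨A, B, C, rfl⟩ := N.hspan x ((hH' x).1 hx)
      have : w₁ = (c / q') • a + (p' / q') • w₂ := by
        apply smul_right_injective (Fin 4 → K) h
        simp only [smul_add, smul_smul, mul_div_cancel₀ _ h, hc]
        abel
      rw [this, smul_add, smul_smul, smul_smul]
      refine add_mem (add_mem ?_ (add_mem ?_ ?_)) ?_ <;> refine Submodule.smul_mem _ _ (Submodule.subset_span ?_) <;>
        simp
    have h1 := Submodule.finrank_mono hle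
    have h2 : Module.finrank K (Submodule.span K (Set.range ![a, w₂])) ≤ 2 :=
      (finrank_range_le_card (R := K) ![a, w₂]).trans (by simp)
    obtain ⟨m, hm⟩ := hsm'
    have h3 := LinearMap.finrank_range_add_finrank_ker (G.T a a)
    rw [LinearMap.range_eq_top.2 (LinearMap.surjective (fun h0 => hm (by rw [h0]; rfl))), finrank_top,
      Module.finrank_self, Module.finrank_fin_fun, show LinearMap.ker (G.T a a) = H from
        SetLike.ext fun x => by rw [LinearMap.mem_ker, hH']] at h3
    omega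
  have hUH : ∀ p' q' : K, Submodule.span K (Set.range ![a, q' • w₁ - p' • w₂]) ≤ H := fun p' q' => by
    refine Submodule.span_le.2 ?_
    rintro _ ⟨i, rfl⟩
    fin_cases i
    · exact (hH' _).2 hFa'
    · exact sub_mem (H.smul_mem _ ((hH' _).2 N.h₁)) (H.smul_mem _ ((hH' _).2 N.h₂))
  refine ⟨⟨Submodule.span K (Set.range ![a, q • w₁ - p • w₂]), Submodule.span K (Set.range ![a, s • w₁ - r • w₂]),
    mkU p q hq, mkU r s hs, Submodule.subset_span ⟨0, rfl⟩, Submodule.subset_span ⟨0, rfl⟩, hUH p q, hUH r s, ?_⟩, ?_⟩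
  · ext x
    constructor
    · rintro ⟨hxH, hxP⟩
      obtain ⟨A, B, C, rfl⟩ := N.hspan x ((hH' x).1 hxH)
      rw [hP', hw] at hxP
      simp only [mul_eq_zero, OfNat.ofNat_ne_zero, false_or] at hxP
      refine Or.imp (fun h => ?_) (fun h => ?_) hxP <;>
        refine (Submodule.mem_span_range_iff_exists_fun K).2 ?_
      · refine ⟨![A, B / q], ?_⟩
        have hC : C = -(p * B / q) := by field_simp; linear_combination h
        subst hC
        simp only [Fin.sum_univ_two, Matrix.cons_val_zero, Matrix.cons_val_one]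
        match_scalars <;> field_simp
      · refine ⟨![A, B / s], ?_⟩
        have hC : C = -(r * B / s) := by field_simp; linear_combination h
        subst hC
        simp only [Fin.sum_univ_two, Matrix.cons_val_zero, Matrix.cons_val_one]
        match_scalars <;> field_simp
    · intro hx
      refine ⟨hx.elim (fun h => hUH _ _ h) (fun h => hUH _ _ h), ?_⟩
      rcases hx with hx | hx <;>
      · obtain ⟨c, rfl⟩ := (Submodule.mem_span_range_iff_exists_fun K).1 hx
        simp only [Fin.sum_univ_two, Matrix.cons_val_zero, Matrix.cons_val_one]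
        first
        | (rw [show c 0 • a + c 1 • (q • w₁ - p • w₂) = c 0 • a + (c 1 * q) • w₁ + (-(c 1 * p)) • w₂ by module,
            hP', hw]; ring)
        | (rw [show c 0 • a + c 1 • (s • w₁ - r • w₂) = c 0 • a + (c 1 * s) • w₁ + (-(c 1 * r)) • w₂ by module,
            hP', hw]; ring)
  · intro U haU hU hUF
    have hz : ∀ u ∈ U, G.F u = 0 := fun u hu => (hG u) ▸ hUF u hu
    exact ⟨fun u hu => (hH' u).2 (G.T_eq_zero_of_F hz haU haU hu),
      fun u hu => by rw [hP', G.T_eq_zero_of_F hz haU hu hu, mul_zero]⟩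

end Groth.Agent.S16352
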