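import Groth.Statements.S16353
import Mathlib
import Groth.Agent.DegLociLib.Apolar

set_option autoImplicit false
universe u
open DegLoci

namespace Groth.Agent.S16353

/-- Let k be a field of characteristic zero, R = k[y_0, …, y_{m−1}] acting on S = k[∂_0, …, ∂_{m−1}] by
apolarity (y_i acts as the derivative with respect to ∂_i), F ∈ S homogeneous of degree e and d ≤ e.
Then the degree-d part of the apolar ideal of F is the orthogonal complement of the partial
derivatives of F of order e − d: a homogeneous D ∈ R_d satisfies D(F) = 0 if and only if D(y^α(F)) =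
0 for every multi-index α with |α| = e − d (each D(y^α(F)) being a constant, the value of the
apolarity pairing of D with y^α(F)). -/
theorem result (k : Type u) [Field k] [CharZero k] (m : ℕ)
    (F : MvPolynomial (Fin m) k) (e : ℕ) (hF : F.IsHomogeneous e) (d : ℕ) (hd : d ≤ e)
    (D : MvPolynomial (Fin m) k) (hD : D.IsHomogeneous d) :
    W4c3degenlocivb.contract D F = 0 ↔
      ∀ α : Fin m →₀ ℕ, α.degree = e - d → W4c3degenlocivb.contract D (W4c3degenlocivb.contract (MvPolynomial.monomial α 1) F) = 0 := by
  open Groth.Agent.DegLociLib in
  have hfac : ∀ a : Fin m →₀ ℕ, (((∏ i, (a i).factorial : ℕ)) : k) ≠ 0 := fun a =>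
    Nat.cast_ne_zero.mpr (Finset.prod_ne_zero_iff.mpr fun i _ => Nat.factorial_ne_zero _)
  constructor
  · intro h a ha
    have hm : (MvPolynomial.monomial a (1 : k)).IsHomogeneous (e - d) := MvPolynomial.isHomogeneous_monomial _ ha
    have hhom := isHomogeneous_contract hD (isHomogeneous_contract hm hF)
    ext γ
    rw [MvPolynomial.coeff_zero]
    by_contra hne
    have hγ : γ.degree = 0 := by
      have := hhom hne
      rw [show e - (e - d) - d = 0 by omega] at this
      rw [Finsupp.degree_eq_weight_one]; exact this
    rw [Finsupp.degree_eq_zero_iff] at hγ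
    subst hγ
    rw [coeff_zero_contract_contract, h, MvPolynomial.coeff_zero, mul_zero] at hne
    exact hne rfl
  · intro h
    ext γ
    rw [MvPolynomial.coeff_zero]
    by_contra hne
    have hγ : γ.degree = e - d := by
      have := isHomogeneous_contract hD hF hne
      rw [Finsupp.degree_eq_weight_one]; exact this
    have h2 := congrArg (MvPolynomial.coeff 0) (h γ hγ)
    rw [coeff_zero_contract_contract, MvPolynomial.coeff_zero] at h2
    exact hne ((mul_eq_zero.mp h2).resolve_left (hfac γ))

end Groth.Agent.S16353
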