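import Groth.Statements.S16354
import Mathlib
import Groth.Agent.CubicLib.DegreeThree

set_option autoImplicit false
universe u
open Cubic

namespace Groth.Agent.S16354

/-- Let k be a subfield of ℝ (a field equipped with an embedding into the reals) and S = V(F) ⊂ P^3 the
cubic surface of a homogeneous cubic F ∈ k[x_0, …, x_3] which is geometrically irreducible and not a
cone (no nonzero vector v has Σ_i v_i ∂F/∂x_i = 0). Then S admits a linear Pfaffian representation
over a real intermediate field k ⊆ E ⊆ ℝ of degree [E : k] ≤ 3. A linear Pfaffian representation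
over E is a 6 × 6 alternating matrix M of linear forms in E[x_0, …, x_3] whose Pfaffian is a nonzero
constant multiple of F; since the determinant of an alternating matrix is the square of its Pfaffian
and the polynomial ring is factorial with no nonconstant units, this is the same as det M = c · F^2
for a nonzero constant c, which is how it is written here. -/
theorem result (k : Type u) [Field k] [Algebra k ℝ]
    (F : MvPolynomial (Fin 4) k) (hF : F.IsHomogeneous 3)
    (hirr : Irreducible (MvPolynomial.map (algebraMap k (AlgebraicClosure k)) F))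
    (hcone : ¬ ∃ v : Fin 4 → k, v ≠ 0 ∧ ∑ i : Fin 4, v i • MvPolynomial.pderiv i F = 0) :
    ∃ E : IntermediateField k ℝ, FiniteDimensional k ↥E ∧ Module.finrank k ↥E ≤ 3 ∧
      ∃ M : Matrix (Fin 6) (Fin 6) (MvPolynomial (Fin 4) ↥E), (∀ i j, (M i j).IsHomogeneous 1) ∧ M.transpose = -M ∧ (∀ i, M i i = 0) ∧
        ∃ c : ↥E, c ≠ 0 ∧ M.det = MvPolynomial.C c * (MvPolynomial.map (algebraMap k ↥E) F) ^ 2 := by
  have : CharZero k := RingHom.charZero (algebraMap k ℝ)
  refine CubicLib.exists_pfaffian_degree_le_three ℝ (fun P hP => ?_) hF hirr hcone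
  have h : ∀ x : ℝ, P.eval x = P.coeff 0 + P.coeff 1 * x + P.coeff 2 * x ^ 2 + P.coeff 3 * x ^ 3 := fun x => by
    rw [Polynomial.eval_eq_sum_range, hP, Finset.sum_range_succ, Finset.sum_range_succ, Finset.sum_range_succ,
      Finset.sum_range_one]
    ring
  have hc : P.coeff 3 ≠ 0 := by
    rw [← hP]
    exact Polynomial.leadingCoeff_ne_zero.2 fun h0 => by rw [h0, Polynomial.natDegree_zero] at hP; omega
  set a := P.coeff 2 / P.coeff 3
  set b := P.coeff 1 / P.coeff 3
  set c := P.coeff 0 / P.coeff 3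
  set B := 1 + |a| + |b| + |c|
  have hB : 1 ≤ B := by simp only [B]; linarith [abs_nonneg a, abs_nonneg b, abs_nonneg c]
  have hB2 : B ≤ B ^ 2 := le_self_pow₀ hB two_ne_zero
  have h2 : 0 ≤ B ^ 2 := sq_nonneg B
  have e3 : B ^ 3 = B ^ 2 + |a| * B ^ 2 + |b| * B ^ 2 + |c| * B ^ 2 := by
    rw [pow_succ]; simp only [B]; ring
  have ha : |a| * B ^ 2 ≥ a * B ^ 2 ∧ |a| * B ^ 2 ≥ -(a * B ^ 2) :=
    ⟨mul_le_mul_of_nonneg_right (le_abs_self a) h2,
      by linarith [mul_le_mul_of_nonneg_right (neg_abs_le a) h2]⟩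
  have hb : |b| * B ^ 2 ≥ b * B ∧ |b| * B ^ 2 ≥ -(b * B) := by
    have h' : |b| * B ≤ |b| * B ^ 2 := mul_le_mul_of_nonneg_left hB2 (abs_nonneg b)
    have hB0 : 0 ≤ B := by linarith
    exact ⟨by linarith [mul_le_mul_of_nonneg_right (le_abs_self b) hB0],
      by linarith [mul_le_mul_of_nonneg_right (neg_abs_le b) hB0]⟩
  have hc' : |c| * B ^ 2 ≥ c ∧ |c| * B ^ 2 ≥ -c := by
    have h' : |c| * 1 ≤ |c| * B ^ 2 := mul_le_mul_of_nonneg_left (hB.trans hB2) (abs_nonneg c)
    exact ⟨by linarith [le_abs_self c], by linarith [neg_abs_le c]⟩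
  obtain ⟨x, -, hx⟩ := intermediate_value_Icc (a := -B) (b := B) (by linarith)
    (f := fun x : ℝ => x ^ 3 + a * x ^ 2 + b * x + c) (Continuous.continuousOn (by fun_prop))
    (show (0 : ℝ) ∈ Set.Icc ((-B) ^ 3 + a * (-B) ^ 2 + b * (-B) + c) (B ^ 3 + a * B ^ 2 + b * B + c) from
      ⟨by rw [neg_sq, show (-B) ^ 3 = -(B ^ 3) by ring]; nlinarith [ha.1, hb.1, hc'.1, hb.2],
        by nlinarith [ha.2, hb.2, hc'.2]⟩)
  refine ⟨x, ?_⟩
  rw [h, show P.coeff 0 = c * P.coeff 3 by simp only [c]; field_simp,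
    show P.coeff 1 = b * P.coeff 3 by simp only [b]; field_simp,
    show P.coeff 2 = a * P.coeff 3 by simp only [a]; field_simp]
  linear_combination P.coeff 3 * hx

end Groth.Agent.S16354
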