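import Groth.Statements.S16356
import Mathlib.RingTheory.WittVector.DiscreteValuationRing
import Mathlib.RingTheory.WittVector.Identities
import Mathlib.GroupTheory.OrderOfElement
import Mathlib.RingTheory.Ideal.Quotient.Operations
import Mathlib.Algebra.Field.GeomSum

set_option autoImplicit false
universe u
open OrdAV

namespace Groth.Agent.S16356
theorem eq_one_of_prime_order {p : ℕ} [Fact p.Prime] (hp : p ≠ 2) {k : Type u} [Field k] [CharP k p]
    [PerfectRing k p] (y : WittVector p k) (q : ℕ) (hq : q.Prime) (hy : y ^ q = 1) (h0 : y.coeff 0 = 1) :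
    y = 1 := by
  by_contra hne
  have hsum : ∑ i ∈ Finset.range q, y ^ i = 0 := by
    refine (mul_eq_zero.1 ?_).resolve_right (sub_ne_zero.2 hne)
    rw [geom_sum_mul, hy, sub_self]
  rcases eq_or_ne q p with rfl | hqp
  · obtain ⟨t, ht⟩ : ∃ t, y = 1 + (q : WittVector q k) * t := by
      obtain ⟨m, b, hb, hbe⟩ := WittVector.exists_eq_pow_p_mul (y - 1) (sub_ne_zero.2 hne)
      rcases m with _ | m
      · exfalso
        rw [pow_zero, one_mul] at hbe
        refine hb ?_
        rw [← hbe]
        have := map_sub (WittVector.constantCoeff (p := q) (R := k)) y 1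
        simpa [h0] using this
      · exact ⟨(q : WittVector q k) ^ m * b, by rw [← mul_assoc, ← pow_succ', ← hbe]; ring⟩
    have hpow : ∀ i : ℕ, ∃ c, y ^ i = 1 + (i : WittVector q k) * q * t + (q : WittVector q k) ^ 2 * c := by
      intro i
      induction i with
      | zero => exact ⟨0, by simp⟩
      | succ i ih =>
        obtain ⟨c, hc⟩ := ih
        refine ⟨(i : WittVector q k) * t * t + c * y, ?_⟩
        rw [pow_succ, hc, ht]
        push_cast
        ring
    choose c hc using hpow
    obtain ⟨j, hj⟩ := hq.eq_two_or_odd'.resolve_left hp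
    have hgauss : ∑ i ∈ Finset.range q, (i : WittVector q k) = (q : WittVector q k) * (j : WittVector q k) := by
      rw [← Nat.cast_sum, ← Nat.cast_mul]
      congr 1
      have := Finset.sum_range_id_mul_two q
      rw [show q - 1 = 2 * j by omega] at this
      nlinarith
    have key : (q : WittVector q k) * (1 + q * (j * t + ∑ i ∈ Finset.range q, c i)) = 0 := by
      rw [← hsum]
      simp only [hc, Finset.sum_add_distrib, Finset.sum_const, Finset.card_range, nsmul_eq_mul,
        ← Finset.mul_sum, ← Finset.sum_mul, hgauss, mul_one]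
      ring
    rcases mul_eq_zero.1 key with h | h
    · exact WittVector.p_nonzero q k h
    · have := congrArg (WittVector.constantCoeff (p := q) (R := k)) h
      simp only [map_add, map_one, map_mul, map_natCast, CharP.cast_eq_zero, zero_mul, add_zero,
        map_zero] at this
      exact one_ne_zero this
  · have := congrArg (WittVector.constantCoeff (p := p) (R := k)) hsum
    rw [map_sum, map_zero] at this
    simp only [map_pow, show WittVector.constantCoeff y = (1 : k) from h0, one_pow, Finset.sum_const,
      Finset.card_range, nsmul_eq_mul, mul_one] at this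
    rw [CharP.cast_eq_zero_iff k p] at this
    exact hqp ((Nat.prime_dvd_prime_iff_eq (Fact.out : p.Prime) hq).1 this).symm

/-- For an odd prime p and a perfect field k of characteristic p, a root of unity in the ring of Witt
vectors W(k) whose residue in k is 1 is itself 1: if x ^ n = 1 with n ≥ 1 and the zeroth Witt
component of x is 1, then x = 1. (For p = 2 this fails: -1 in W(F_2).) -/
theorem result (p : ℕ) [Fact p.Prime] (hp : p ≠ 2)
    (k : Type u) [Field k] [CharP k p] [PerfectRing k p]
    (x : WittVector p k) (n : ℕ) (hn : 0 < n) (hx : x ^ n = 1) (h0 : x.coeff 0 = 1) : x = 1 := by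
  by_contra hne
  have hfin : IsOfFinOrder x := isOfFinOrder_iff_pow_eq_one.2 ⟨n, hn, hx⟩
  have hd : orderOf x ≠ 1 := fun h => hne (orderOf_eq_one_iff.1 h)
  obtain ⟨q, hq, e, he⟩ := Nat.exists_prime_and_dvd hd
  have he0 : 0 < e := Nat.pos_of_ne_zero fun h => by
    rw [h, mul_zero] at he
    exact hfin.orderOf_pos.ne' he
  have hy := eq_one_of_prime_order hp (x ^ e) q hq
    (by rw [← pow_mul, mul_comm, ← he, pow_orderOf_eq_one])
    (by
      have := map_pow (WittVector.constantCoeff (p := p) (R := k)) x e
      rw [show WittVector.constantCoeff x = (1 : k) from h0, one_pow] at this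
      exact this)
  have hle := Nat.le_of_dvd he0 (orderOf_dvd_of_pow_eq_one hy)
  rw [he] at hle
  have := hq.two_le
  nlinarith

end Groth.Agent.S16356
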