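import Groth.Statements.S16357
import Mathlib
import Mathlib.Algebra.Polynomial.Reverse

set_option autoImplicit false
universe u
open OrdAV

namespace Groth.Agent.S16357

/-- Over a field L of characteristic zero, a monic polynomial h whose square has rational coefficients
has rational coefficients itself. -/
theorem result (L : Type u) [Field L] [CharZero L]
    (h : Polynomial L) (hm : h.Monic) (f : Polynomial ℚ)
    (hf : h ^ 2 = Polynomial.map (algebraMap ℚ L) f) :
    ∃ g : Polynomial ℚ, Polynomial.map (algebraMap ℚ L) g = h := by
  classical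
  have hdeg : ∀ j, h.reverse.coeff j ∈ (algebraMap ℚ L).range := by
    have hrev : h.reverse * h.reverse = (f.map (algebraMap ℚ L)).reverse := by
      rw [← Polynomial.reverse_mul_of_domain, ← sq, hf]
    have hc : ∀ j, (h.reverse * h.reverse).coeff j ∈ (algebraMap ℚ L).range := fun j => by
      rw [hrev, Polynomial.coeff_reverse, Polynomial.coeff_map]
      exact ⟨_, rfl⟩
    intro j
    induction j using Nat.strong_induction_on with
    | _ j ih =>
      rcases Nat.eq_zero_or_pos j with rfl | hj
      · rw [Polynomial.coeff_zero_reverse, hm.leadingCoeff]; exact one_mem _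
      · have h1 := hc j
        rw [Polynomial.coeff_mul, ← Finset.add_sum_erase _ _ (show ((0 : ℕ), j) ∈ Finset.HasAntidiagonal.antidiagonal j by simp),
          ← Finset.add_sum_erase _ _ (show (j, (0 : ℕ)) ∈ (Finset.HasAntidiagonal.antidiagonal j).erase (0, j) by simp; omega)] at h1
        simp only [Polynomial.coeff_zero_reverse, hm.leadingCoeff, one_mul, mul_one] at h1
        have h2 : ∑ x ∈ ((Finset.HasAntidiagonal.antidiagonal j).erase (0, j)).erase (j, 0),
            h.reverse.coeff x.1 * h.reverse.coeff x.2 ∈ (algebraMap ℚ L).range := by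
          refine sum_mem fun x hx => ?_
          obtain ⟨a, b⟩ := x
          simp only [Finset.mem_erase, Finset.HasAntidiagonal.mem_antidiagonal, ne_eq, Prod.mk.injEq] at hx
          exact mul_mem (ih a (by omega)) (ih b (by omega))
        have h3 := sub_mem h1 h2
        rw [← add_assoc, add_sub_cancel_right, ← two_mul] at h3
        obtain ⟨c, hc'⟩ := h3
        exact ⟨c / 2, by rw [map_div₀, hc', map_ofNat, mul_div_cancel_left₀ _ two_ne_zero]⟩
  have hlift : h ∈ Polynomial.lifts (algebraMap ℚ L) := by
    rw [Polynomial.lifts_iff_coeff_lifts]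
    intro n
    obtain ⟨c, hc⟩ := hdeg (Polynomial.revAt h.natDegree n)
    rw [Polynomial.coeff_reverse, Polynomial.revAt_invol] at hc
    exact ⟨c, hc⟩
  exact (Polynomial.mem_lifts h).1 hlift

end Groth.Agent.S16357
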