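import Groth.Statements.S16358
import Mathlib.RingTheory.WittVector.Domain
import Mathlib.RingTheory.WittVector.DiscreteValuationRing
import Mathlib.LinearAlgebra.TensorProduct.Quotient
import Mathlib.RepresentationTheory.Invariants

set_option autoImplicit false
universe u v w
open OrdAV

namespace Groth.Agent.S16358
open TensorProduct

/-- Reduction of `x ⊗ 1` vanishes exactly on multiples. -/
theorem one_tmul_eq_zero_iff {A M : Type*} [CommRing A] [AddCommGroup M] [Module A M] (a : A) (x : M) :
    (1 : A ⧸ Ideal.span {a}) ⊗ₜ[A] x = 0 ↔ x ∈ (Ideal.span {a} • ⊤ : Submodule A M) := by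
  rw [← (quotTensorEquivQuotSMul M (Ideal.span {a})).map_eq_zero_iff, ← map_one (Ideal.Quotient.mk (Ideal.span {a}))]
  simp

/-- Every element of the reduction is a pure tensor. -/
theorem exists_one_tmul {A M : Type*} [CommRing A] [AddCommGroup M] [Module A M] (a : A)
    (t : (A ⧸ Ideal.span {a}) ⊗[A] M) : ∃ x : M, t = (1 : A ⧸ Ideal.span {a}) ⊗ₜ[A] x := by
  induction t with
  | zero => exact ⟨0, by simp⟩
  | tmul c m =>
    obtain ⟨c, rfl⟩ := Ideal.Quotient.mk_surjective c
    exact ⟨c • m, by rw [← TensorProduct.smul_tmul, Algebra.smul_def, mul_one]; rfl⟩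
  | add s t hs ht =>
    obtain ⟨x, rfl⟩ := hs
    obtain ⟨y, rfl⟩ := ht
    exact ⟨x + y, (TensorProduct.tmul_add _ x y).symm⟩

/-- Let k be a perfect field of characteristic p > 0 and W = W(k); let M be a finitely generated free
W-module on which a finite group G acts W-linearly, with invariant submodule M^G. Then the map
(W/pW) ⊗ M^G → (W/pW) ⊗ M induced by the inclusion is injective. Since M^G is free, this implies
rank_W M^G ≤ dim_k (M/pM)^G; the published statement is that inequality, and this row states the
stronger injectivity. -/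
theorem result (p : ℕ) [Fact p.Prime]
    (k : Type u) [Field k] [CharP k p] [PerfectRing k p]
    (M : Type v) [AddCommGroup M] [Module (WittVector p k) M]
    [Module.Free (WittVector p k) M] [Module.Finite (WittVector p k) M]
    (G : Type w) [Group G] [Finite G] (ρ : Representation (WittVector p k) G M) :
    Function.Injective
      (LinearMap.lTensor (WittVector p k ⧸ Ideal.span {(p : WittVector p k)}) ρ.invariants.subtype) := by
  rw [injective_iff_map_eq_zero]
  intro t ht
  obtain ⟨⟨x, hx⟩, rfl⟩ := exists_one_tmul _ t
  rw [LinearMap.lTensor_tmul, one_tmul_eq_zero_iff, Submodule.ideal_span_singleton_smul] at ht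
  obtain ⟨m, -, hm⟩ := ht
  have hm' : m ∈ ρ.invariants := fun g => by
    refine smul_right_injective M (WittVector.p_nonzero p k) ?_
    show (p : WittVector p k) • ρ g m = (p : WittVector p k) • m
    rw [← map_smul, show (p : WittVector p k) • m = x from hm]
    exact hx g
  rw [one_tmul_eq_zero_iff, Submodule.ideal_span_singleton_smul]
  exact ⟨⟨m, hm'⟩, Submodule.mem_top, Subtype.ext hm⟩

end Groth.Agent.S16358
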