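import Groth.Statements.S16360
import Groth.Agent.PerfResDVR7.Basic
import Mathlib.FieldTheory.IsAlgClosed.AlgebraicClosure
import Mathlib.RingTheory.Localization.FractionRing
-- import your own Groth.Agent.* helpers here

set_option autoImplicit false
universe u
open Hensel

namespace Groth.Agent.S16360



/-- Let R be a discrete valuation ring that is Henselian and excellent, write k for its residue field
and p for the characteristic exponent of k. There is a Henselian discrete valuation ring R' and an
injective ring map R → R' such that the maximal ideal of R generates that of R' (so a uniformizer of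
R is a uniformizer of R'), R' is the directed union of R-subalgebras that are finite free R-modules
of rank a power of p, and the residue field k' of R' is a perfect closure of k: every element of k'
is a p-th power in k', and some p-power-th power of it lies in the image of k. (The published
statement also asserts that R' is excellent; that is not asserted here.) -/
theorem result (R : Type u) [CommRing R] [IsDomain R]
    [IsDiscreteValuationRing R] [HenselianLocalRing R] (hR : EGA4.IsExcellent R) :
    ∃ (R' : Type u) (_ : CommRing R') (_ : IsDomain R') (_ : IsDiscreteValuationRing R')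
      (_ : HenselianLocalRing R') (_ : Algebra R R'),
      Function.Injective (algebraMap R R') ∧
      Ideal.map (algebraMap R R') (IsLocalRing.maximalIdeal R) = IsLocalRing.maximalIdeal R' ∧
      (∀ s : Finset R', ∃ S : Subalgebra R R', (↑s : Set R') ⊆ ↑S ∧ Module.Finite R S ∧ Module.Free R S ∧
        ∃ m : ℕ, Module.finrank R S = ringExpChar (IsLocalRing.ResidueField R) ^ m) ∧
      (∀ y : R', ∃ z : R', z ^ ringExpChar (IsLocalRing.ResidueField R) - y ∈ IsLocalRing.maximalIdeal R') ∧
      (∀ y : R', ∃ (m : ℕ) (z : R),
        algebraMap R R' z - y ^ (ringExpChar (IsLocalRing.ResidueField R) ^ m) ∈ IsLocalRing.maximalIdeal R') := by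
  classical
  obtain ⟨ϖ, hϖ⟩ := IsDiscreteValuationRing.exists_irreducible R
  let q := ringExpChar (IsLocalRing.ResidueField R)
  let Ω := AlgebraicClosure (FractionRing R)
  have hinj : Function.Injective (algebraMap R Ω) := by
    rw [IsScalarTower.algebraMap_eq R (FractionRing R) Ω]
    exact (algebraMap (FractionRing R) Ω).injective.comp (IsFractionRing.injective R _)
  haveI : ExpChar (IsLocalRing.ResidueField R) q := ringExpChar.of_eq rfl
  rcases expChar_is_prime_or_one (IsLocalRing.ResidueField R) q with hp | hq
  · have hpR : (q : R) ∈ IsLocalRing.maximalIdeal R := by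
      obtain ⟨p', hp'⟩ := CharP.exists (IsLocalRing.ResidueField R)
      haveI := hp'
      haveI : CharP (IsLocalRing.ResidueField R) q := (char_eq_expChar_iff (IsLocalRing.ResidueField R) p' q).2 (by
        rcases CharP.char_is_prime_or_zero (IsLocalRing.ResidueField R) p' with h | rfl
        · exact h
        · exact absurd (expChar_one_of_char_zero (IsLocalRing.ResidueField R) q) hp.ne_one) ▸ hp'
      rw [← IsLocalRing.residue_eq_zero_iff, map_natCast, CharP.cast_eq_zero]
    obtain ⟨S, hS, hperf⟩ := Groth.Agent.PerfResDVR7.exists_exhausted (Ω := Ω) (p := q) hϖ hinj hp hpR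
    haveI := hS.isLocalRing hϖ hinj
    have hdvr := hS.isDVR hϖ hinj
    have hmax : IsLocalRing.maximalIdeal S = Ideal.span {algebraMap R S ϖ} := by
      refine le_antisymm (fun x hx => Ideal.mem_span_singleton.2 ((hS.unit_or x).resolve_left hx)) ?_
      rw [Ideal.span_le, Set.singleton_subset_iff]
      exact hS.not_unit hϖ hinj
    refine ⟨S, inferInstance, inferInstance, hdvr, hS.henselian hϖ hinj, inferInstance,
      fun x y h => hinj (congrArg Subtype.val h), ?_, fun s => ?_, fun y => ?_, fun y => ?_⟩
    · rw [hϖ.maximalIdeal_eq, Ideal.map_span, Set.image_singleton, hmax]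
    · obtain ⟨T, hT, hTS, hsT⟩ := hS (s.image Subtype.val) (by
        intro z hz; obtain ⟨w, -, rfl⟩ := Finset.mem_image.1 hz; exact w.2)
      haveI := hT.finite
      haveI : Module.IsTorsionFree R T :=
        Module.isTorsionFree_iff_algebraMap_injective.2 fun x y h => hinj (congrArg Subtype.val h)
      haveI : Module.Free R T := Module.free_of_finite_type_torsion_free'
      let e : T ≃ₐ[R] (Subalgebra.inclusion hTS).range :=
        AlgEquiv.ofInjective _ (Subalgebra.inclusion_injective hTS)
      obtain ⟨m, hm⟩ := hT.rank
      refine ⟨(Subalgebra.inclusion hTS).range, fun x hx => ?_, Module.Finite.equiv e.toLinearEquiv,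
        Module.Free.of_equiv e.toLinearEquiv, m, by rw [← e.toLinearEquiv.finrank_eq]; exact hm⟩
      exact ⟨⟨(x : Ω), hsT (Finset.mem_image_of_mem _ hx)⟩, Subtype.ext rfl⟩
    · obtain ⟨z, hz, w, hw, h⟩ := hperf y y.2
      refine ⟨⟨z, hz⟩, ?_⟩
      rw [hmax, Ideal.mem_span_singleton]
      exact ⟨⟨w, hw⟩, Subtype.ext h⟩
    · obtain ⟨T, hT, hTS, hsT⟩ := hS {(y : Ω)} (by simpa using y.2)
      obtain ⟨m, z, w, hw, h⟩ := hT.insep y (hsT (Finset.mem_singleton_self _))
      refine ⟨m, z, ?_⟩
      rw [hmax, Ideal.mem_span_singleton]
      exact ⟨⟨w, hTS hw⟩, Subtype.ext h⟩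
  · refine ⟨R, inferInstance, inferInstance, inferInstance, inferInstance, Algebra.id R,
      fun x y h => h, Ideal.map_id _, fun s => ?_, fun y => ?_, fun y => ?_⟩
    · let e : R ≃ₐ[R] (⊤ : Subalgebra R R) := Subalgebra.topEquiv.symm
      refine ⟨⊤, fun x _ => trivial, Module.Finite.equiv e.toLinearEquiv,
        Module.Free.of_equiv e.toLinearEquiv, 0, ?_⟩
      rw [← e.toLinearEquiv.finrank_eq, Module.finrank_self, pow_zero]
    · exact ⟨y, by show y ^ q - y ∈ _; rw [hq, pow_one, sub_self]; exact zero_mem _⟩
    · exact ⟨0, y, by simp⟩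

end Groth.Agent.S16360
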