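import Groth.Statements.S16361
import Groth.Agent.FibBase.Setoid

set_option autoImplicit false
set_option backward.isDefEq.respectTransparency false
set_option backward.isDefEq.respectTransparency.types false
universe v u
open CategoryTheory CategoryTheory.Limits
open FibCat

namespace Groth.Agent.S16361

/-- Let S be a category, π_X : X ⥤ S and π_Y : Y ⥤ S be fibred in groupoids, and F : Y ⥤ X a functor
with F ⋙ π_X = π_Y. Consider the category of triples (y, x, φ) with φ : F y ≅ x an arbitrary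
isomorphism of X and morphisms the compatible pairs of morphisms (the categorical pullback of F and
the identity of X; the isomorphism φ is not required to lie over an identity of S). Its projection
to X is fibred in groupoids over X, and the composite of that projection with π_X is fibred in
groupoids over S. (The published statement also asserts that y ↦ (y, F y, id) and (y, x, φ) ↦ y form
an equivalence over S; that is not asserted here.) -/
theorem result {S : Type u} [Category.{v} S] {X : Type u} [Category.{v} X]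
    {Y : Type u} [Category.{v} Y] (πX : X ⥤ S) (πY : Y ⥤ S) (hX : FibCat.IsFibGrpd πX) (hY : FibCat.IsFibGrpd πY)
    (F : Y ⥤ X) (hF : F ⋙ πX = πY) :
    FibCat.IsFibGrpd (CategoricalPullback.π₂ F (𝟭 X)) ∧
      FibCat.IsFibGrpd (CategoricalPullback.π₂ F (𝟭 X) ⋙ πX) := by
  open CategoryTheory.Functor CategoryTheory.Limits in
  have h2 : FibCat.IsFibGrpd (CategoricalPullback.π₂ F (𝟭 X) ⋙ πX) := by
    refine ⟨fun {x V} f => ?_, fun {y x} φ => ?_⟩
    · obtain ⟨b, ψ, hψ⟩ := hX.exists_lift (x := x.snd) f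
      have hb : πX.IsHomLift f ψ := hψ
      let f' : V ⟶ πY.obj x.fst := f ≫ πX.map x.iso.inv ≫ eqToHom (Functor.congr_obj hF x.fst)
      obtain ⟨a, φ, hφ⟩ := hY.exists_lift (x := x.fst) f'
      have hFφ : πX.IsHomLift f' (F.map φ) :=
        haveI : (BasedCategory.ofFunctor πY).p.IsHomLift f' φ := hφ
        BasedFunctor.preserves_isHomLift (⟨F, hF⟩ : BasedCategory.ofFunctor πY ⥤ᵇ BasedCategory.ofFunctor πX) f' φ
      have : πX.IsHomLift (eqToHom (Functor.congr_obj hF x.fst).symm ≫ πX.map x.iso.hom) x.iso.hom :=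
        inferInstance
      have : πX.IsHomLift f (F.map φ ≫ x.iso.hom) := by
        have := IsHomLift.comp πX f' (eqToHom (Functor.congr_obj hF x.fst).symm ≫ πX.map x.iso.hom) (F.map φ) x.iso.hom
        simpa [f', ← Functor.map_comp] using this
      obtain ⟨e, he, he'⟩ := Groth.Agent.FibBase.exists_iso_of_lifts (p := πX) f ψ (F.map φ ≫ x.iso.hom)
      let y : CategoricalPullback F (𝟭 X) := ⟨a, b, e⟩
      let χ : y ⟶ x := ⟨φ, ψ, he'.symm⟩
      exact ⟨y, χ, IsHomLift.of_fac' _ f χ (IsHomLift.domain_eq πX f ψ) rfl (IsHomLift.fac' πX f ψ)⟩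
    · refine { toIsHomLift := IsHomLift.map _ _, universal_property' := fun {z} g ψ hψ' => ?_ }
      have hg : g ≫ πX.map φ.snd = πX.map ψ.snd :=
        haveI : (CategoricalPullback.π₂ F (𝟭 X) ⋙ πX).IsHomLift (g ≫ πX.map φ.snd) ψ := hψ'
        IsHomLift.eq_of_isHomLift (CategoricalPullback.π₂ F (𝟭 X) ⋙ πX) _ ψ
      have := hX.isStronglyCartesian φ.snd
      have : πX.IsHomLift (g ≫ πX.map φ.snd) ψ.snd := hg ▸ IsHomLift.map _ _
      obtain ⟨χ₂, ⟨hc, hc'⟩, hcu⟩ :=
        IsStronglyCartesian.universal_property πX (πX.map φ.snd) φ.snd g _ rfl ψ.snd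
      have := hY.isStronglyCartesian φ.fst
      let g₁ : πY.obj z.fst ⟶ πY.obj y.fst :=
        eqToHom (Functor.congr_obj hF z.fst).symm ≫ πX.map (z.iso.hom ≫ χ₂ ≫ y.iso.inv) ≫ eqToHom (Functor.congr_obj hF y.fst)
      have hy := φ.w
      have hz := ψ.w
      simp only [Functor.id_map] at hy hz
      have hX' : (z.iso.hom ≫ χ₂ ≫ y.iso.inv) ≫ F.map φ.fst = F.map ψ.fst := by
        have : y.iso.inv ≫ F.map φ.fst = φ.snd ≫ x.iso.inv := by
          rw [Iso.inv_comp_eq, ← reassoc_of% hy]; simp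
        simp only [Category.assoc, this, reassoc_of% hc']
        rw [← reassoc_of% hz]; simp
      have hcomp : g₁ ≫ πY.map φ.fst = πY.map ψ.fst := by
        rw [Functor.congr_hom hF.symm φ.fst, Functor.congr_hom hF.symm ψ.fst]
        simp only [Functor.comp_map, ← hX']
        simp [g₁]
      have : πY.IsHomLift (g₁ ≫ πY.map φ.fst) ψ.fst := hcomp ▸ IsHomLift.map _ _
      obtain ⟨χ₁, ⟨ha, ha'⟩, hau⟩ :=
        IsStronglyCartesian.universal_property πY (πY.map φ.fst) φ.fst g₁ _ rfl ψ.fst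
      have hg₁ : g₁ = πY.map χ₁ := IsHomLift.eq_of_isHomLift πY g₁ χ₁
      have hFχ : F.map χ₁ = z.iso.hom ≫ χ₂ ≫ y.iso.inv := by
        have := hX.isStronglyCartesian (F.map φ.fst)
        have e₀ : πX.map (F.map χ₁) = πX.map (z.iso.hom ≫ χ₂ ≫ y.iso.inv) := by
          have := Functor.congr_hom hF χ₁
          simp only [Functor.comp_map, ← hg₁] at this
          simpa [g₁] using this
        have : πX.IsHomLift (πX.map (z.iso.hom ≫ χ₂ ≫ y.iso.inv)) (F.map χ₁) := e₀ ▸ IsHomLift.map _ _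
        exact IsStronglyCartesian.ext πX (πX.map (F.map φ.fst)) (F.map φ.fst)
          (πX.map (z.iso.hom ≫ χ₂ ≫ y.iso.inv)) (by rw [hX', ← F.map_comp, ha'])
      refine ⟨⟨χ₁, χ₂, by simp [hFχ]⟩, ⟨IsHomLift.of_fac' _ g _ rfl rfl ?_, CategoricalPullback.hom_ext ha' hc'⟩, ?_⟩
      · have := IsHomLift.eq_of_isHomLift πX g χ₂
        simpa using this.symm
      · rintro χ ⟨hχ, hχc⟩
        have hχ₂ : πX.IsHomLift g χ.snd := by
          have := IsHomLift.eq_of_isHomLift (CategoricalPullback.π₂ F (𝟭 X) ⋙ πX) g χ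
          exact this ▸ IsHomLift.map _ _
        have e2 : χ.snd = χ₂ := hcu χ.snd ⟨hχ₂, congrArg (fun t => t.snd) hχc⟩
        refine CategoricalPullback.hom_ext (hau χ.fst ⟨?_, congrArg (fun t => t.fst) hχc⟩) e2
        have hw : F.map χ.fst = z.iso.hom ≫ χ₂ ≫ y.iso.inv := by
          rw [← e2, ← Category.assoc, Iso.eq_comp_inv]; exact χ.w
        have : g₁ = πY.map χ.fst := by
          rw [Functor.congr_hom hF.symm χ.fst]
          simp [g₁, hw]
        exact this ▸ IsHomLift.map _ _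
  refine ⟨Groth.Agent.FibBase.isFibGrpd_of_transport hX h2 ?_, h2⟩
  intro y V e _
  let y' : CategoricalPullback F (𝟭 X) := ⟨y.fst, V, y.iso ≪≫ e.symm⟩
  let χ : y' ⟶ y := ⟨𝟙 _, e.hom, by show F.map (𝟙 y.fst) ≫ y.iso.hom = (y.iso.hom ≫ e.inv) ≫ e.hom; simp⟩
  exact ⟨y', χ, IsHomLift.map (CategoricalPullback.π₂ F (𝟭 X)) χ⟩

end Groth.Agent.S16361
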