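import Groth.Statements.S16362
import Groth.Agent.MovLemLib.Small
-- import your own Groth.Agent.* helpers here

set_option autoImplicit false
universe u
open MovLem

namespace Groth.Agent.S16362

/-- Let A be a commutative ring, p a prime ideal of A, and ζ, u elements of A with u not in p. Then the
quotient of the classes of ζ and u in the fraction field of the domain A ⧸ p is integral over A ⧸ p
if and only if there exist a natural number N and elements a_1, …, a_N of A such that ζ^N + a_1
ζ^(N-1) u + ⋯ + a_N u^N lies in p; equivalently, some binary form of degree N with coefficients in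
A, monic in the first variable, evaluated at (ζ, u), lies in p. -/
theorem result
    {A : Type u} [CommRing A] (p : Ideal A) [p.IsPrime] (ζ u : A) (hu : u ∉ p) :
    IsIntegral (A ⧸ p)
        (algebraMap (A ⧸ p) (FractionRing (A ⧸ p)) (Ideal.Quotient.mk p ζ) /
          algebraMap (A ⧸ p) (FractionRing (A ⧸ p)) (Ideal.Quotient.mk p u)) ↔
      ∃ (N : ℕ) (a : ℕ → A),
        ζ ^ N + ∑ i ∈ Finset.Icc 1 N, a i * ζ ^ (N - i) * u ^ i ∈ p := by
  exact Groth.Agent.MovLemLib.isIntegral_div_iff p ζ u hu

end Groth.Agent.S16362
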