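import Groth.Statements.S16365
import Groth.Agent.H23.GenericSmooth
import Groth.Agent.SmoothReg.Scheme
import Groth.Agent.FCov14.Piece
import Groth.Agent.CodimOneIso7.Basic
import Mathlib.Algebra.Polynomial.Laurent
-- import your own Groth.Agent.* helpers here

set_option autoImplicit false
universe u
open CategoryTheory Limits
open MovLem

namespace Groth.Agent.S16365

set_option backward.isDefEq.respectTransparency false
set_option backward.isDefEq.respectTransparency.types false
set_option maxHeartbeats 1000000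

open AlgebraicGeometry in
/-- Let k be an infinite field, X a scheme of finite type over k, U an open subscheme of X which is
smooth over k, and x a point of X. Assume that if x lies in U then x is not an isolated point of X.
Then there exist an open neighbourhood V of x in X and a k-morphism v from V to the multiplicative
group Spec k[T, T⁻¹] whose restriction to V ∩ U is a smooth morphism. (The published statement has
no hypothesis on x; when x is an isolated point of X lying in U the conclusion fails, since a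
zero-dimensional scheme admits no smooth morphism to a curve, and in every other case an isolated
point can be discarded, so that case is excluded here.) -/
theorem result
    {k : Type u} [Field k] [Infinite k]
    (X : Scheme.{u}) (f : X ⟶ Spec (CommRingCat.of k)) [LocallyOfFiniteType f] [QuasiCompact f]
    (U : X.Opens) [Smooth (U.ι ≫ f)] (x : ↥X) (hx : x ∈ U → ¬ IsOpen ({x} : Set ↥X)) :
    ∃ (V : X.Opens) (v : (↑V : Scheme.{u}) ⟶ Spec (CommRingCat.of (LaurentPolynomial k))),
      x ∈ V ∧
      v ≫ Spec.map (CommRingCat.ofHom (algebraMap k (LaurentPolynomial k))) = V.ι ≫ f ∧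
      Smooth (X.homOfLE (inf_le_left : V ⊓ U ≤ V) ≫ v) := by
  classical
  haveI : LocallyOfFinitePresentation f := CodimOneIso7.lfp_of_lft f
  haveI : IsLocallyNoetherian X := LocallyOfFiniteType.isLocallyNoetherian f
  haveI : JacobsonSpace X := LocallyOfFiniteType.jacobsonSpace f
  obtain ⟨W, hW, hxW, -⟩ := exists_isAffineOpen_mem_and_subset (x := x) (U := ⊤) trivial
  let A := Γ(X, W)
  letI : Algebra k A := (SmoothReg.affMap f W).toAlgebra
  haveI : Algebra.FiniteType k A := SmoothReg.finiteType_affMap f hW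
  haveI : IsNoetherianRing A := Algebra.FiniteType.isNoetherianRing k A
  haveI : Algebra.FinitePresentation k A := Algebra.FinitePresentation.of_finiteType.1 inferInstance
  obtain ⟨s, hs⟩ := (inferInstance : Algebra.FiniteType k A).out
  let t : Fin s.card → A := fun l => (s.equivFin.symm l : A)
  have ht : Algebra.adjoin k (Set.range t) = ⊤ := by
    have : Set.range t = (s : Set A) := Set.ext fun a =>
      ⟨fun ⟨l, hl⟩ => hl ▸ (s.equivFin.symm l).2, fun ha => ⟨s.equivFin ⟨a, ha⟩, by simp [t]⟩⟩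
    rw [this, hs]
  let pr : (z : X) → z ∈ W → PrimeSpectrum A := fun z hz => hW.primeIdealOf ⟨z, hz⟩
  have hfp : ∀ q : PrimeSpectrum A, hW.fromSpec q ∈ W := fun q => hW.range_fromSpec.le ⟨q, rfl⟩
  have hpr : ∀ q : PrimeSpectrum A, pr (hW.fromSpec q) (hfp q) = q := fun q =>
    hW.fromSpec.isOpenEmbedding.injective (hW.fromSpec_primeIdealOf ⟨_, hfp q⟩)
  obtain ⟨G, hG⟩ : ∃ G : Finset A, (hW.fromSpec ⁻¹' (U : Set X) : Set (PrimeSpectrum A)) = (PrimeSpectrum.zeroLocus (G : Set A))ᶜ := by
    obtain ⟨G, hG⟩ := (PrimeSpectrum.isCompact_isOpen_iff (R := A)).1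
      ⟨TopologicalSpace.NoetherianSpace.isCompact _, U.2.preimage hW.fromSpec.continuous⟩
    exact ⟨G, hG.symm⟩
  have hUG : ∀ q : PrimeSpectrum A, hW.fromSpec q ∈ U ↔ ∃ g ∈ G, g ∉ q.asIdeal := fun q => by
    rw [show hW.fromSpec q ∈ U ↔ q ∈ hW.fromSpec ⁻¹' (U : Set X) from Iff.rfl, hG]
    show ¬ ((G : Set A) ⊆ (q.asIdeal : Set A)) ↔ _
    rw [Set.not_subset]
    rfl
  have hsm : ∀ q : PrimeSpectrum A, hW.fromSpec q ∈ U → Algebra.IsSmoothAt k q.asIdeal := fun q hq => by
    have h := (SmoothReg.mem_smoothLocus_iff_isSmoothAt f hW (hfp q)).1 (by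
      have h0 : (⟨_, hq⟩ : U.toScheme) ∈ (U.ι ≫ f).smoothLocus := by
        rw [Scheme.Hom.smoothLocus_eq_top]; trivial
      rw [← Scheme.Hom.preimage_smoothLocus_eq] at h0
      exact h0)
    change Algebra.IsSmoothAt k (pr _ (hfp q)).asIdeal at h
    rw [show Algebra.IsSmoothAt k (pr _ (hfp q)).asIdeal ↔ (pr _ (hfp q)) ∈ Algebra.smoothLocus k A from Iff.rfl,
      hpr] at h
    exact h
  let ι := Fin G.card
  let g : ι → A := fun i => (G.equivFin.symm i : A)
  haveI : ∀ i, Algebra.FormallySmooth k (Localization.Away (g i)) := fun i => by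
    rw [← Algebra.basicOpen_subset_smoothLocus_iff]
    exact fun q hq => hsm q ((hUG q).2 ⟨_, (G.equivFin.symm i).2, hq⟩)
  have hgU : ∀ q : PrimeSpectrum A, (∃ i, g i ∉ q.asIdeal) ↔ hW.fromSpec q ∈ U := fun q => by
    rw [hUG]
    exact ⟨fun ⟨i, hi⟩ => ⟨_, (G.equivFin.symm i).2, hi⟩, fun ⟨a, ha, hq⟩ => ⟨G.equivFin ⟨a, ha⟩, by simp [g, hq]⟩⟩
  let p := pr x hxW
  have hpx : hW.fromSpec p = x := hW.fromSpec_primeIdealOf ⟨x, hxW⟩
  obtain ⟨e, hep, hecoord, hfin, hmax⟩ := H23.GenericFun.exists_good t ht g p.asIdeal fun hg => by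
    have hxU : x ∈ U := hpx ▸ (hgU p).1 hg
    refine ⟨hsm p ((hgU p).1 hg), fun ⟨hmx, hmin⟩ => hx hxU ?_⟩
    have hfinmin := minimalPrimes.finite_of_isNoetherianRing A
    have hcl : IsClosed (({p} : Set (PrimeSpectrum A))ᶜ) := by
      have : ({p} : Set (PrimeSpectrum A))ᶜ =
          ⋃ P ∈ (minimalPrimes A \ {p.asIdeal}), PrimeSpectrum.zeroLocus (P : Set A) := by
        ext q
        simp only [Set.mem_compl_iff, Set.mem_singleton_iff, Set.mem_iUnion₂, PrimeSpectrum.mem_zeroLocus,
          SetLike.coe_subset_coe]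
        constructor
        · intro hqp
          obtain ⟨P, hP, hPq⟩ := Ideal.exists_minimalPrimes_le (I := (⊥ : Ideal A)) (J := q.asIdeal) bot_le
          refine ⟨P, ⟨hP, fun h => hqp (PrimeSpectrum.ext ?_)⟩, hPq⟩
          exact (hmx.eq_of_le q.isPrime.ne_top (h ▸ hPq)).symm
        · rintro ⟨P, ⟨hP, hne⟩, hPq⟩ rfl
          exact hne (le_antisymm hPq (hmin.2 hP.1 hPq))
      rw [this]
      exact hfinmin.diff.isClosed_biUnion fun P _ => PrimeSpectrum.isClosed_zeroLocus _
    have := hW.fromSpec.isOpenEmbedding.isOpenMap _ (isClosed_compl_iff.1 hcl)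
    rwa [Set.image_singleton, hpx] at this
  let Bad : Set (PrimeSpectrum A) :=
    {q | (∃ i, g i ∉ q.asIdeal) ∧ ¬ H23.GenericFun.IsCoordAt (k := k) e q.asIdeal}
  have hT : IsClosed (hW.fromSpec '' Bad : Set X) := by
    rw [← Set.biUnion_of_singleton (hW.fromSpec '' Bad)]
    refine (hfin.image _).isClosed_biUnion ?_
    rintro _ ⟨q, hq, rfl⟩
    have hcl : q ∈ closedPoints (PrimeSpectrum A) :=
      (PrimeSpectrum.isClosed_singleton_iff_isMaximal q).2 (hmax q hq.1 hq.2)
    exact hW.fromSpec.isOpenEmbedding.preimage_closedPoints.ge hcl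
  have hbo : ∀ q : PrimeSpectrum A, hW.fromSpec q ∈ X.basicOpen e ↔ e ∉ q.asIdeal := fun q => by
    show q ∈ hW.fromSpec ⁻¹ᵁ X.basicOpen e ↔ _
    rw [hW.fromSpec_preimage_basicOpen]
    rfl
  let V : X.Opens := X.basicOpen e ⊓ ⟨(hW.fromSpec '' Bad : Set X)ᶜ, hT.isOpen_compl⟩
  have hle : V ≤ W := inf_le_left.trans (X.basicOpen_le e)
  let ψ : Polynomial k →+* A := (Polynomial.aeval (R := k) e).toRingHom
  let gW : W.toScheme ⟶ Spec (CommRingCat.of (Polynomial k)) := hW.isoSpec.hom ≫ Spec.map (CommRingCat.ofHom ψ)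
  let j : Spec (CommRingCat.of (LaurentPolynomial k)) ⟶ Spec (CommRingCat.of (Polynomial k)) :=
    Spec.map (CommRingCat.ofHom (algebraMap (Polynomial k) (LaurentPolynomial k)))
  haveI : IsOpenImmersion j := IsOpenImmersion.of_isLocalization (Polynomial.X : Polynomial k)
  have hrange : Set.range (X.homOfLE hle ≫ gW) ⊆ Set.range j := by
    rintro _ ⟨z, rfl⟩
    let q := hW.isoSpec.hom (X.homOfLE hle z)
    have hq : hW.fromSpec q = z.val := by
      have h0 : (X.homOfLE hle ≫ hW.isoSpec.hom) ≫ hW.fromSpec = V.ι := by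
        rw [IsAffineOpen.fromSpec, Category.assoc, Iso.hom_inv_id_assoc, X.homOfLE_ι]
      exact congrArg (fun φ => φ z) h0
    have hr : Set.range j = (PrimeSpectrum.basicOpen (Polynomial.X : Polynomial k) : Set (PrimeSpectrum _)) :=
      PrimeSpectrum.localization_away_comap_range (LaurentPolynomial k) (Polynomial.X : Polynomial k)
    rw [hr]
    show ψ Polynomial.X ∉ (show PrimeSpectrum A from q).asIdeal
    rw [show ψ Polynomial.X = e from Polynomial.aeval_X e]
    exact (hbo q).1 (hq ▸ z.2.1)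
  let v := IsOpenImmersion.lift j (X.homOfLE hle ≫ gW) hrange
  have hv : v ≫ j = X.homOfLE hle ≫ gW := IsOpenImmersion.lift_fac _ _ _
  refine ⟨V, v, ⟨hpx ▸ (hbo p).2 hep, ?_⟩, ?_, ?_⟩
  · rintro ⟨q, ⟨hq1, hq2⟩, hq⟩
    rw [← hpx] at hq
    obtain rfl := hW.fromSpec.isOpenEmbedding.injective hq
    exact hq2 (hecoord hq1)
  · have h1 : gW ≫ Spec.map (CommRingCat.ofHom (Polynomial.C : k →+* Polynomial k)) = W.ι ≫ f := by
      have h2 : ψ.comp Polynomial.C = SmoothReg.affMap f W := RingHom.ext fun r => Polynomial.aeval_C _ r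
      simp only [gW, Category.assoc, ← Spec.map_comp, ← CommRingCat.ofHom_comp, h2]
      have h3 : Spec.map (CommRingCat.ofHom (SmoothReg.affMap f W)) = hW.fromSpec ≫ f := by
        have h4 := ((isAffineOpen_top (Spec (CommRingCat.of k))).SpecMap_appLE_fromSpec f hW (show W ≤ f ⁻¹ᵁ ⊤ by simp))
        rw [IsAffineOpen.fromSpec_top, Scheme.isoSpec_Spec_inv, ← Spec.map_comp] at h4
        exact h4
      rw [h3, IsAffineOpen.fromSpec, Category.assoc, Iso.hom_inv_id_assoc]
    have h5 : Spec.map (CommRingCat.ofHom (algebraMap k (LaurentPolynomial k))) =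
        j ≫ Spec.map (CommRingCat.ofHom (Polynomial.C : k →+* Polynomial k)) := by
      rw [← Spec.map_comp, ← CommRingCat.ofHom_comp]
      congr 2
      ext r
      simp [LaurentPolynomial.algebraMap_eq_toLaurent]
    rw [h5, reassoc_of% hv, h1, X.homOfLE_ι_assoc]
  · let g' := X.homOfLE (inf_le_left : V ⊓ U ≤ V) ≫ v
    have hle' : V ⊓ U ≤ W := inf_le_left.trans hle
    have hg' : g' ≫ j = X.homOfLE hle' ≫ gW := by
      rw [Category.assoc, hv, X.homOfLE_homOfLE_assoc]
    letI : Algebra (Polynomial k) A := ψ.toAlgebra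
    haveI : IsScalarTower k (Polynomial k) A := IsScalarTower.of_algebraMap_eq fun r => (Polynomial.aeval_C e r).symm
    haveI : Algebra.FiniteType (Polynomial k) A := Algebra.FiniteType.of_restrictScalars_finiteType k _ _
    haveI : Algebra.FinitePresentation (Polynomial k) A := Algebra.FinitePresentation.of_finiteType.1 inferInstance
    haveI : LocallyOfFinitePresentation (Spec.map (CommRingCat.ofHom ψ)) :=
      (HasRingHomProperty.Spec_iff (P := @LocallyOfFinitePresentation)).2
        (RingHom.finitePresentation_algebraMap.2 ‹Algebra.FinitePresentation (Polynomial k) A›)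
    haveI : LocallyOfFinitePresentation gW := inferInstanceAs (LocallyOfFinitePresentation (_ ≫ _))
    haveI : LocallyOfFinitePresentation (X.homOfLE hle' ≫ gW) := inferInstance
    haveI : Smooth (g' ≫ j) := by
      rw [hg', ← Scheme.Hom.smoothLocus_eq_top_iff, ← Scheme.Hom.preimage_smoothLocus_eq, eq_top_iff]
      intro w _
      show X.homOfLE hle' w ∈ (hW.isoSpec.hom ≫ Spec.map (CommRingCat.ofHom ψ)).smoothLocus
      rw [← Scheme.Hom.preimage_smoothLocus_eq]
      let q := hW.isoSpec.hom (X.homOfLE hle' w)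
      have hq : hW.fromSpec q = w.val := by
        have h0 : (X.homOfLE hle' ≫ hW.isoSpec.hom) ≫ hW.fromSpec = (V ⊓ U).ι := by
          rw [IsAffineOpen.fromSpec, Category.assoc, Iso.hom_inv_id_assoc, X.homOfLE_ι]
        exact congrArg (fun φ => φ w) h0
      haveI : Algebra.IsSmoothAt (Polynomial k) (show PrimeSpectrum A from q).asIdeal := by
        by_contra hnc
        exact w.2.1.2 ⟨q, ⟨(hgU q).2 (hq ▸ w.2.2), hnc⟩, hq⟩
      exact FCov14.mem_smoothLocus_SpecMap (𝟙 _) _ (Category.comp_id _).symm (show PrimeSpectrum A from q).asIdeal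
    exact MorphismProperty.of_isPullback (P := @Smooth)
      (show IsPullback (𝟙 _) g' (g' ≫ j) j from IsPullback.of_horiz_isIso_mono ⟨by simp⟩) inferInstance

end Groth.Agent.S16365
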