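import Groth.Statements.S16366
import Groth.Agent.H23.SmoothFun
import Groth.Agent.SmoothReg.Scheme
import Groth.Agent.FCov14.Piece
import Groth.Agent.CodimOneIso7.Basic
-- import your own Groth.Agent.* helpers here

set_option autoImplicit false
universe u
open CategoryTheory Limits Opposite
open MovLem

namespace Groth.Agent.S16366

set_option backward.isDefEq.respectTransparency false
set_option backward.isDefEq.respectTransparency.types false
set_option maxHeartbeats 1000000

open AlgebraicGeometry in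
/-- Let k be an infinite field, X a scheme of finite type over k and u a global function on X such that
the open subscheme X_u where u is invertible is smooth over k. Let x be a point of X at which u is
not invertible, and let x'_1, …, x'_n be finitely many points of X_u, each of which specializes to
x. Then there exist an open neighbourhood X' of x, a unit e among the functions on X', and the
k-morphism g : X' → A^1_k = Spec k[T] whose pulled-back coordinate T is e·u restricted to X', such
that g is smooth on some open neighbourhood of each x'_i. (Equivalently: after shrinking X around x,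
the equation u of the principal divisor D = (u) is replaced by another equation e·u of the same
divisor that is smooth at the chosen points. The published statement takes D an effective Cartier
divisor, i.e. u a non-zero-divisor; that is not assumed here, and the argument does not need it.) -/
theorem result
    {k : Type u} [Field k] [Infinite k]
    (X : Scheme.{u}) (f : X ⟶ Spec (CommRingCat.of k)) [LocallyOfFiniteType f] [QuasiCompact f]
    (u : Γ(X, ⊤)) [Smooth ((X.basicOpen u).ι ≫ f)]
    (x : ↥X) (hx : x ∉ X.basicOpen u)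
    {ι : Type} [Finite ι] (x' : ι → ↥X) (hx' : ∀ i, x' i ∈ X.basicOpen u) (hgen : ∀ i, x' i ⤳ x) :
    ∃ (X' : X.Opens) (e : Γ(X, X')) (g : (↑X' : Scheme.{u}) ⟶ Spec (CommRingCat.of (Polynomial k))),
      x ∈ X' ∧ IsUnit e ∧
      g ≫ Spec.map (CommRingCat.ofHom (Polynomial.C : k →+* Polynomial k)) = X'.ι ≫ f ∧
      X'.topIso.hom (g.appTop ((Scheme.ΓSpecIso (CommRingCat.of (Polynomial k))).inv Polynomial.X)) =
        e * X.presheaf.map (homOfLE le_top).op u ∧
      ∀ i, ∃ (W : X.Opens) (hW : W ≤ X'), x' i ∈ W ∧ Smooth (X.homOfLE hW ≫ g) := by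
  classical
  haveI : LocallyOfFinitePresentation f := CodimOneIso7.lfp_of_lft f
  obtain ⟨W, hW, hxW, -⟩ := exists_isAffineOpen_mem_and_subset (x := x) (U := ⊤) trivial
  have hmem : ∀ i, x' i ∈ W := fun i => (hgen i).mem_open W.2 hxW
  let A := Γ(X, W)
  letI : Algebra k A := (SmoothReg.affMap f W).toAlgebra
  haveI : Algebra.FiniteType k A := SmoothReg.finiteType_affMap f hW
  let uW : A := X.presheaf.map (homOfLE le_top).op u
  let pr : (z : X) → z ∈ W → PrimeSpectrum A := fun z hz => hW.primeIdealOf ⟨z, hz⟩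
  have hbo : ∀ (a : A) (z : X) (hz : z ∈ W), z ∈ X.basicOpen a ↔ a ∉ (pr z hz).asIdeal := fun a z hz => by
    have hz' : z = hW.fromSpec (pr z hz) := (hW.fromSpec_primeIdealOf ⟨z, hz⟩).symm
    conv_lhs => rw [hz']
    show _ ∈ hW.fromSpec ⁻¹ᵁ X.basicOpen a ↔ _
    rw [hW.fromSpec_preimage_basicOpen]
    rfl
  have hu : ∀ i, uW ∉ (pr _ (hmem i)).asIdeal := fun i => by
    rw [← hbo uW _ (hmem i), Scheme.basicOpen_res]
    exact ⟨hmem i, hx' i⟩
  have hnmax : ∀ i, ¬ (pr _ (hmem i)).asIdeal.IsMaximal := fun i hmax => by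
    have hsp : pr _ (hmem i) ⤳ pr x hxW := by
      refine (hW.fromSpec.isOpenEmbedding.isInducing.specializes_iff).1 ?_
      show hW.fromSpec (hW.primeIdealOf ⟨_, hmem i⟩) ⤳ hW.fromSpec (hW.primeIdealOf ⟨x, hxW⟩)
      rw [hW.fromSpec_primeIdealOf, hW.fromSpec_primeIdealOf]
      exact hgen i
    have hle : (pr _ (hmem i)).asIdeal ≤ (pr x hxW).asIdeal :=
      (PrimeSpectrum.le_iff_specializes _ _).2 hsp
    have heq : pr _ (hmem i) = pr x hxW :=
      PrimeSpectrum.ext (hmax.eq_of_le (pr x hxW).isPrime.ne_top hle)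
    have hxx : x' i = x :=
      (hW.fromSpec_primeIdealOf ⟨x' i, hmem i⟩).symm.trans
        ((congrArg hW.fromSpec heq).trans (hW.fromSpec_primeIdealOf ⟨x, hxW⟩))
    exact hx (hxx ▸ hx' i)
  haveI : ∀ i, Algebra.IsSmoothAt k (pr _ (hmem i)).asIdeal := fun i => by
    refine (SmoothReg.mem_smoothLocus_iff_isSmoothAt f hW (hmem i)).1 ?_
    have h : (⟨x' i, hx' i⟩ : (X.basicOpen u).toScheme) ∈ ((X.basicOpen u).ι ≫ f).smoothLocus := by
      rw [Scheme.Hom.smoothLocus_eq_top]; trivial
    rw [← Scheme.Hom.preimage_smoothLocus_eq] at h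
    exact h
  obtain ⟨a, ha, hsm⟩ := H23.SmoothFun.exists_smooth_mul (k := k) uW (pr x hxW).asIdeal (pr x hxW).isPrime.ne_top
    (fun i => (pr _ (hmem i)).asIdeal) hu hnmax
  let ψ : Polynomial k →+* A := (Polynomial.aeval (R := k) (a * uW)).toRingHom
  let X' : X.Opens := X.basicOpen a
  have hle : X' ≤ W := X.basicOpen_le a
  let gW : W.toScheme ⟶ Spec (CommRingCat.of (Polynomial k)) := hW.isoSpec.hom ≫ Spec.map (CommRingCat.ofHom ψ)
  refine ⟨X', X.presheaf.map (homOfLE hle).op a, X.homOfLE hle ≫ gW, (hbo a x hxW).2 ha,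
    X.toRingedSpace.isUnit_res_basicOpen a, ?_, ?_, fun i => ?_⟩
  · have h1 : gW ≫ Spec.map (CommRingCat.ofHom (Polynomial.C : k →+* Polynomial k)) = W.ι ≫ f := by
      have h2 : ψ.comp Polynomial.C = SmoothReg.affMap f W := RingHom.ext fun r => Polynomial.aeval_C _ r
      simp only [gW, Category.assoc, ← Spec.map_comp, ← CommRingCat.ofHom_comp, h2]
      have h3 : Spec.map (CommRingCat.ofHom (SmoothReg.affMap f W)) = hW.fromSpec ≫ f := by
        have h4 := ((isAffineOpen_top (Spec (CommRingCat.of k))).SpecMap_appLE_fromSpec f hW (show W ≤ f ⁻¹ᵁ ⊤ by simp))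
        rw [IsAffineOpen.fromSpec_top, Scheme.isoSpec_Spec_inv, ← Spec.map_comp] at h4
        exact h4
      rw [h3, IsAffineOpen.fromSpec, Category.assoc, Iso.hom_inv_id_assoc]
    rw [Category.assoc, h1, X.homOfLE_ι_assoc]
  · have hX : ψ Polynomial.X = a * uW := Polynomial.aeval_X _
    have h1 : W.topIso.hom (gW.appTop ((Scheme.ΓSpecIso (CommRingCat.of (Polynomial k))).inv Polynomial.X)) =
        a * uW := by
      rw [← hX]
      have h2 : gW.appTop ≫ W.topIso.hom = (Scheme.ΓSpecIso (CommRingCat.of (Polynomial k))).hom ≫ CommRingCat.ofHom ψ := by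
        simp only [gW, Scheme.Hom.comp_appTop, Category.assoc, IsAffineOpen.isoSpec_hom,
          Scheme.Opens.toSpecΓ_appTop, Iso.inv_hom_id, Category.comp_id]
        exact Scheme.ΓSpecIso_naturality (CommRingCat.ofHom ψ)
      have h3 := congrArg (fun φ => φ.hom ((Scheme.ΓSpecIso (CommRingCat.of (Polynomial k))).inv Polynomial.X)) h2
      refine h3.trans ?_
      show ψ ((Scheme.ΓSpecIso (CommRingCat.of (Polynomial k))).hom ((Scheme.ΓSpecIso (CommRingCat.of (Polynomial k))).inv Polynomial.X)) = _
      rw [← CommRingCat.comp_apply, Iso.inv_hom_id]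
      rfl
    have h5 : (X.homOfLE hle).appTop ≫ X'.topIso.hom = W.topIso.hom ≫ X.presheaf.map (homOfLE hle).op := by
      simp [Scheme.homOfLE_app, Scheme.Opens.topIso, ← Functor.map_comp]
    have h6 := congrArg (fun φ => φ.hom (gW.appTop ((Scheme.ΓSpecIso (CommRingCat.of (Polynomial k))).inv Polynomial.X))) h5
    refine h6.trans ?_
    show X.presheaf.map (homOfLE hle).op (W.topIso.hom _) = _
    rw [h1, map_mul]
    congr 1
    show (X.presheaf.map _ ≫ X.presheaf.map _).hom u = _
    rw [← Functor.map_comp]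
    rfl
  · let g := X.homOfLE hle ≫ gW
    letI : Algebra (Polynomial k) A := ψ.toAlgebra
    haveI : IsScalarTower k (Polynomial k) A := IsScalarTower.of_algebraMap_eq fun r => (Polynomial.aeval_C (a * uW) r).symm
    haveI : Algebra.FiniteType (Polynomial k) A := Algebra.FiniteType.of_restrictScalars_finiteType k _ _
    haveI : Algebra.FinitePresentation (Polynomial k) A := Algebra.FinitePresentation.of_finiteType.1 inferInstance
    haveI : LocallyOfFinitePresentation (Spec.map (CommRingCat.ofHom ψ)) :=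
      (HasRingHomProperty.Spec_iff (P := @LocallyOfFinitePresentation)).2
        (RingHom.finitePresentation_algebraMap.2 ‹Algebra.FinitePresentation (Polynomial k) A›)
    haveI : LocallyOfFinitePresentation gW := inferInstanceAs (LocallyOfFinitePresentation (_ ≫ _))
    haveI := hsm i
    have h1 : x' i ∈ W.ι ''ᵁ gW.smoothLocus := by
      refine ⟨⟨x' i, hmem i⟩, ?_, rfl⟩
      rw [← Scheme.Hom.preimage_smoothLocus_eq]
      show hW.primeIdealOf ⟨x' i, hmem i⟩ ∈ (Spec.map (CommRingCat.ofHom ψ)).smoothLocus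
      exact FCov14.mem_smoothLocus_SpecMap (𝟙 _) _ (Category.comp_id _).symm (pr _ (hmem i)).asIdeal
    have hxX' : x' i ∈ X' := (hbo a _ (hmem i)).2 fun h => ha (((PrimeSpectrum.le_iff_specializes _ _).2 (by
      refine (hW.fromSpec.isOpenEmbedding.isInducing.specializes_iff).1 ?_
      show hW.fromSpec (hW.primeIdealOf ⟨_, hmem i⟩) ⤳ hW.fromSpec (hW.primeIdealOf ⟨x, hxW⟩)
      rw [hW.fromSpec_primeIdealOf, hW.fromSpec_primeIdealOf]
      exact hgen i) : (pr _ (hmem i)).asIdeal ≤ (pr x hxW).asIdeal) h)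
    let Wi : X.Opens := X' ⊓ W.ι ''ᵁ gW.smoothLocus
    refine ⟨Wi, inf_le_left, ⟨hxX', h1⟩, ?_⟩
    rw [← Category.assoc, X.homOfLE_homOfLE]
    haveI : LocallyOfFinitePresentation (X.homOfLE (inf_le_left.trans hle : Wi ≤ W) ≫ gW) := inferInstance
    rw [← Scheme.Hom.smoothLocus_eq_top_iff, ← Scheme.Hom.preimage_smoothLocus_eq, eq_top_iff]
    intro w _
    obtain ⟨w', hw', he⟩ := w.2.2
    show X.homOfLE _ w ∈ gW.smoothLocus
    have hww : X.homOfLE (inf_le_left.trans hle : Wi ≤ W) w = w' :=
      Subtype.ext ((Scheme.homOfLE_apply _ w).trans he.symm)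
    exact hww ▸ hw'

end Groth.Agent.S16366
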