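import Groth.Statements.S16367
import Mathlib.RingTheory.Ideal.Quotient.Operations
import Mathlib.Tactic.Ring
import Mathlib.LinearAlgebra.Finsupp.LinearCombination
-- import your own Groth.Agent.* helpers here

set_option autoImplicit false
universe u
open MovLem

namespace Groth.Agent.S16367

/-- The chart computation of its proof: let k be a commutative ring, P = k[x_1, …, x_d, w_1, …, w_n] a
polynomial ring in two groups of variables, u a polynomial in the x-variables alone, v a vector in
k^d, J a set of indices among the w-variables with ζ = ∏_{j ∈ J} w_j, and N ≤ s natural numbers. Let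
(f_λ) be a finite family of elements of P, each of total degree at most N in the x-variables, and
assume that ζ^N + c_1 ζ^(N-1) u + ⋯ + c_N u^N lies in the ideal generated by the f_λ for some c_1,
…, c_N ∈ P. For each λ let φ_λ ∈ P[τ] be the polynomial τ^N · f_λ(x + u^s v/τ, w), written out
monomial by monomial: a monomial a·x^m·w^m' of x-degree e = |m| contributes a · τ^(N-e) · ∏_i (τ x_i
+ u^s v_i)^(m_i) · w^m'. Then there are c'_1, …, c'_N ∈ P[τ] with (τζ)^N + c'_1 (τζ)^(N-1) u + ⋯ +
c'_N u^N in the ideal of P[τ] generated by the φ_λ. (This identity is what shows that translating a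
cycle by t·u^s·v preserves the modulus condition on the chart whose coordinates are the z_i and the
1/z_j, with τ = 1/t; integrality of ζ/u, resp. τζ/u, is expressed by such monic binary forms.) -/
theorem result
    {k : Type u} [CommRing k] (d n : ℕ) (u : MvPolynomial (Fin d) k) (v : Fin d → k)
    (J : Finset (Fin n)) (N s : ℕ) (hs : N ≤ s)
    {Λ : Type u} [Fintype Λ] (f : Λ → MvPolynomial (Fin d ⊕ Fin n) k)
    (hdeg : ∀ l, ∀ m ∈ (f l).support, ∑ i : Fin d, m (Sum.inl i) ≤ N)
    (c : ℕ → MvPolynomial (Fin d ⊕ Fin n) k)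
    (hE : (∏ j ∈ J, MvPolynomial.X (Sum.inr j)) ^ N +
        ∑ i ∈ Finset.Icc 1 N, c i * (∏ j ∈ J, MvPolynomial.X (Sum.inr j)) ^ (N - i) *
          MvPolynomial.rename Sum.inl u ^ i ∈ Ideal.span (Set.range f)) :
    ∃ c' : ℕ → Polynomial (MvPolynomial (Fin d ⊕ Fin n) k),
      (Polynomial.X * Polynomial.C (∏ j ∈ J, MvPolynomial.X (Sum.inr j))) ^ N +
        ∑ i ∈ Finset.Icc 1 N, c' i *
          (Polynomial.X * Polynomial.C (∏ j ∈ J, MvPolynomial.X (Sum.inr j))) ^ (N - i) *
            Polynomial.C (MvPolynomial.rename Sum.inl u) ^ i ∈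
      Ideal.span (Set.range fun l : Λ =>
        ∑ m ∈ (f l).support,
          Polynomial.C (MvPolynomial.C (MvPolynomial.coeff m (f l))) *
            Polynomial.X ^ (N - ∑ i : Fin d, m (Sum.inl i)) *
            (∏ i : Fin d, (Polynomial.X * Polynomial.C (MvPolynomial.X (Sum.inl i)) +
                Polynomial.C (MvPolynomial.rename Sum.inl u ^ s * MvPolynomial.C (v i))) ^ m (Sum.inl i)) *
            ∏ j : Fin n, Polynomial.C (MvPolynomial.X (Sum.inr j)) ^ m (Sum.inr j)) := by
  classical
  let P := MvPolynomial (Fin d ⊕ Fin n) k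
  let U : Polynomial P := Polynomial.C (MvPolynomial.rename Sum.inl u)
  let φ : Λ → Polynomial P := fun l =>
        ∑ m ∈ (f l).support,
          Polynomial.C (MvPolynomial.C (MvPolynomial.coeff m (f l))) *
            Polynomial.X ^ (N - ∑ i : Fin d, m (Sum.inl i)) *
            (∏ i : Fin d, (Polynomial.X * Polynomial.C (MvPolynomial.X (Sum.inl i)) +
                Polynomial.C (MvPolynomial.rename Sum.inl u ^ s * MvPolynomial.C (v i))) ^ m (Sum.inl i)) *
            ∏ j : Fin n, Polynomial.C (MvPolynomial.X (Sum.inr j)) ^ m (Sum.inr j)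
  have hmon : ∀ l, ∀ m : (Fin d ⊕ Fin n) →₀ ℕ, m ∈ (f l).support →
      Polynomial.X ^ N * Polynomial.C (MvPolynomial.monomial m (MvPolynomial.coeff m (f l))) =
      Polynomial.C (MvPolynomial.C (MvPolynomial.coeff m (f l))) *
        Polynomial.X ^ (N - ∑ i : Fin d, m (Sum.inl i)) *
        (∏ i : Fin d, (Polynomial.X * Polynomial.C (MvPolynomial.X (Sum.inl i))) ^ m (Sum.inl i)) *
        ∏ j : Fin n, (Polynomial.C (MvPolynomial.X (Sum.inr j)) : Polynomial P) ^ m (Sum.inr j) := by
    intro l m hm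
    rw [MvPolynomial.monomial_eq, Finsupp.prod_fintype _ _ (fun _ => pow_zero _), Fintype.prod_sum_type]
    simp only [mul_pow, Finset.prod_mul_distrib, Finset.prod_pow_eq_pow_sum, map_mul, map_prod, map_pow]
    nth_rewrite 1 [← Nat.sub_add_cancel (hdeg l m hm)]
    rw [pow_add]
    ring
  have hC : ∀ l, Polynomial.X ^ N * Polynomial.C (f l) =
      ∑ m ∈ (f l).support, Polynomial.X ^ N * Polynomial.C (MvPolynomial.monomial m (MvPolynomial.coeff m (f l))) := by
    intro l
    conv_lhs => rw [(f l).as_sum, map_sum, Finset.mul_sum]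
  have hmod : ∀ l, Polynomial.X ^ N * Polynomial.C (f l) - φ l ∈ Ideal.span {U ^ s} := by
    intro l
    rw [← Ideal.Quotient.eq, hC, map_sum, map_sum]
    refine Finset.sum_congr rfl fun m hm => ?_
    rw [hmon l m hm]
    have hin : ∀ i : Fin d, Ideal.Quotient.mk (Ideal.span {U ^ s}) (Polynomial.X * Polynomial.C (MvPolynomial.X (Sum.inl i)) +
        Polynomial.C (MvPolynomial.rename Sum.inl u ^ s * MvPolynomial.C (v i))) =
        Ideal.Quotient.mk (Ideal.span {U ^ s}) (Polynomial.X * Polynomial.C (MvPolynomial.X (Sum.inl i))) := fun i => by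
      rw [Ideal.Quotient.eq, add_sub_cancel_left, map_mul, map_pow]
      exact Ideal.mul_mem_right _ _ (Ideal.mem_span_singleton_self _)
    rw [map_mul (Ideal.Quotient.mk _), map_mul (Ideal.Quotient.mk _) (_ * _), map_mul (Ideal.Quotient.mk _) _ (∏ j, _),
      map_mul (Ideal.Quotient.mk _) (_ * _) (∏ i, _)]
    congr 1
    congr 1
    rw [map_prod (Ideal.Quotient.mk _), map_prod (Ideal.Quotient.mk _)]
    refine Finset.prod_congr rfl fun i _ => ?_
    rw [map_pow (Ideal.Quotient.mk _), map_pow (Ideal.Quotient.mk _), hin]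
  obtain ⟨g, hg⟩ := Ideal.mem_span_range_iff_exists_fun.mp hE
  have hg' := congrArg (fun p : P => Polynomial.X ^ N * Polynomial.C p) hg
  rcases Nat.eq_zero_or_pos N with hN | hN
  · subst hN
    refine ⟨fun _ => 0, Ideal.mem_span_range_iff_exists_fun.mpr ⟨fun l => Polynomial.C (g l), ?_⟩⟩
    have hφ : ∀ l, φ l = Polynomial.C (f l) := fun l => by
      have := hC l
      rw [pow_zero, one_mul] at this
      rw [this]
      refine Finset.sum_congr rfl fun m hm => ?_
      have hz : ∀ i : Fin d, m (Sum.inl i) = 0 := fun i =>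
        Finset.sum_eq_zero_iff.mp (Nat.le_zero.mp (hdeg l m hm)) i (Finset.mem_univ i)
      rw [one_mul, ← one_mul (Polynomial.C (MvPolynomial.monomial _ _)), ← pow_zero (Polynomial.X : Polynomial P), hmon l m hm]
      simp [hz]
    simp only [map_sum, map_mul, pow_zero, one_mul] at hg'
    show ∑ l, Polynomial.C (g l) * φ l = _
    simp only [hφ, hg']
    simp
  obtain ⟨w, hw⟩ : ∃ w, (∑ l, Polynomial.C (g l) * (Polynomial.X ^ N * Polynomial.C (f l) - φ l)) = U ^ N * w := by
    have hmem : (∑ l, Polynomial.C (g l) * (Polynomial.X ^ N * Polynomial.C (f l) - φ l)) ∈ Ideal.span {U ^ s} :=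
      sum_mem fun l _ => Ideal.mul_mem_left _ _ (hmod l)
    obtain ⟨w, hw⟩ := Ideal.mem_span_singleton'.mp hmem
    exact ⟨U ^ (s - N) * w, by rw [← hw, ← mul_assoc, ← pow_add, Nat.add_sub_cancel' hs, mul_comm]⟩
  refine ⟨fun i => Polynomial.X ^ i * Polynomial.C (c i) - (if i = N then w else 0),
    Ideal.mem_span_range_iff_exists_fun.mpr ⟨fun l => Polynomial.C (g l), ?_⟩⟩
  show ∑ l, Polynomial.C (g l) * φ l = _
  have hsum : ∑ l, Polynomial.C (g l) * φ l = Polynomial.X ^ N * Polynomial.C (∑ l, g l * f l) - U ^ N * w := by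
    rw [← hw, map_sum, Finset.mul_sum, ← Finset.sum_sub_distrib]
    refine Finset.sum_congr rfl fun l _ => ?_
    rw [map_mul]
    ring
  rw [hsum, hg, map_add, map_sum, mul_add, Finset.mul_sum]
  simp only [sub_mul, Finset.sum_sub_distrib, ite_mul, zero_mul, Finset.sum_ite_eq', Finset.mem_Icc]
  rw [if_pos ⟨hN, le_rfl⟩, Nat.sub_self, pow_zero, mul_one, mul_pow, map_pow, add_sub_assoc, mul_comm w (U ^ N)]
  congr 1
  congr 1
  refine Finset.sum_congr rfl fun i hi => ?_
  simp only [map_mul, map_pow, mul_pow]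
  nth_rewrite 1 [← Nat.add_sub_cancel' (Finset.mem_Icc.mp hi).2]
  rw [pow_add]
  ring

end Groth.Agent.S16367
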