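import Groth.Statements.S16368
import Mathlib.RingTheory.LocalRing.MaximalIdeal.Basic
import Mathlib.RingTheory.Nakayama
import Mathlib.LinearAlgebra.TensorProduct.RightExactness
import Mathlib.LinearAlgebra.TensorProduct.Pi
import Mathlib.RingTheory.Jacobson.Ideal
import Mathlib.RingTheory.Finiteness.Ideal
import Mathlib.RingTheory.FiniteType
-- import your own Groth.Agent.* helpers here

set_option autoImplicit false
universe u v
open TensorProduct
open FrobAlg

namespace Groth.Agent.S16368

/-- Let R be a local ring of prime characteristic p and M a finitely presented R-module. Write R' for R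
regarded as an R-algebra through its Frobenius a ↦ a^p, so that R' ⊗_R M is the pull-back of M along
the absolute Frobenius of Spec R, an R'-module. If this pull-back is isomorphic to M — there is a
bijective map e : R' ⊗_R M → M, additive and semilinear for the identification R' = R — then M is
free. -/
theorem result
    (p : ℕ) [Fact p.Prime] (R : Type u) [CommRing R] [IsLocalRing R] [CharP R p]
    (M : Type v) [AddCommGroup M] [Module R M] [Module.FinitePresentation R M]
    (e : (FrobAlg.Twist p R ⊗[R] M) →ₛₗ[((FrobAlg.toTwist p R).symm : FrobAlg.Twist p R →+* R)] M)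
    (he : Function.Bijective e) :
    Module.Free R M := by
  classical
  set mR := IsLocalRing.maximalIdeal R with hmR
  -- a minimal system of generators
  have hex : ∃ n, ∃ v : Fin n → M, Submodule.span R (Set.range v) = ⊤ :=
    let ⟨n, v, hv⟩ := Module.Finite.exists_fin (R := R) (M := M); ⟨n, v, hv⟩
  set n := Nat.find hex with hn
  obtain ⟨v, hv⟩ : ∃ v : Fin n → M, Submodule.span R (Set.range v) = ⊤ := Nat.find_spec hex
  let π : (Fin n → R) →ₗ[R] M := Fintype.linearCombination R v
  have hπ : Function.Surjective π := by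
    rw [← LinearMap.range_eq_top, Fintype.range_linearCombination, hv]
  have hKm : ∀ x ∈ LinearMap.ker π, ∀ i, x i ∈ mR := by
    intro x hx i
    by_contra hi
    obtain ⟨u, hu⟩ : IsUnit (x i) := by
      by_contra h; exact hi h
    obtain ⟨q, hq⟩ : ∃ q, n = q + 1 := ⟨n - 1, by have := i.is_lt; omega⟩
    refine Nat.find_min hex (m := q) (by omega) ⟨fun j => v (Fin.cast hq.symm ((Fin.cast hq i).succAbove j)), ?_⟩
    rw [eq_top_iff, ← hv, Submodule.span_le]
    have hmem : ∀ l, l ≠ i → v l ∈ Submodule.span R (Set.range fun j : Fin q =>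
        v (Fin.cast hq.symm ((Fin.cast hq i).succAbove j))) := by
      intro l hl
      obtain ⟨j, hj⟩ := Fin.exists_succAbove_eq (show Fin.cast hq l ≠ Fin.cast hq i from fun h => hl (Fin.ext (congrArg (fun z => z.val) h)))
      exact Submodule.subset_span ⟨j, by simp [hj]⟩
    rintro _ ⟨l, rfl⟩
    by_cases hl : l = i
    · subst hl
      have h0 : ∑ j, x j • v j = 0 := hx
      rw [← Finset.add_sum_erase _ _ (Finset.mem_univ l), add_eq_zero_iff_eq_neg] at h0
      have : v l = (↑u⁻¹ : R) • -(∑ j ∈ Finset.univ.erase l, x j • v j) := by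
        rw [← h0, smul_smul, ← hu, Units.inv_mul, one_smul]
      rw [this]
      exact Submodule.smul_mem _ _ (neg_mem (Submodule.sum_mem _ fun j hj =>
        Submodule.smul_mem _ _ (hmem j (Finset.ne_of_mem_erase hj))))
    · exact hmem l hl
  -- the ideal of entries of the relations
  have hKfg : (LinearMap.ker π).FG := Module.FinitePresentation.fg_ker π hπ
  let J : Ideal R := ⨆ i : Fin n, (LinearMap.ker π).map (LinearMap.proj i : (Fin n → R) →ₗ[R] R)
  have hJfg : J.FG := Submodule.fg_iSup _ fun i => hKfg.map _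
  have hJmem : ∀ x ∈ LinearMap.ker π, ∀ i, x i ∈ J := fun x hx i =>
    Submodule.mem_iSup_of_mem i ⟨x, hx, rfl⟩
  have hJle : J ≤ mR := iSup_le fun i => by
    rintro _ ⟨x, hx, rfl⟩; exact hKm x hx i
  -- the second presentation, by pulling back along Frobenius
  let τ : R ≃+* FrobAlg.Twist p R := FrobAlg.toTwist p R
  let Ψ : FrobAlg.Twist p R ⊗[R] (Fin n → R) ≃ₗ[FrobAlg.Twist p R] (Fin n → FrobAlg.Twist p R) :=
    TensorProduct.piScalarRight R (FrobAlg.Twist p R) (FrobAlg.Twist p R) (Fin n)
  let π₂ : (Fin n → R) →ₗ[R] M :=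
    { toFun := fun w => e (π.lTensor (FrobAlg.Twist p R) (Ψ.symm fun i => τ (w i)))
      map_add' := fun a b => by
        rw [← map_add e, ← map_add (π.lTensor _), ← map_add Ψ.symm]
        congr 3
      map_smul' := fun c a => by
        rw [RingHom.id_apply, show (fun i => τ ((c • a) i)) = τ c • (fun i => τ (a i)) from funext fun i => by simp,
          map_smul, ← LinearMap.baseChange_eq_ltensor,
          map_smul (LinearMap.baseChange (FrobAlg.Twist p R) π), map_smulₛₗ]
        simp [τ] }
  have hπ₂ : Function.Surjective π₂ := by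
    intro m
    obtain ⟨z, rfl⟩ := he.2 m
    obtain ⟨y, rfl⟩ := LinearMap.lTensor_surjective (FrobAlg.Twist p R) hπ z
    refine ⟨fun i => τ.symm (Ψ y i), ?_⟩
    change e (π.lTensor _ (Ψ.symm fun i => τ (τ.symm (Ψ y i)))) = _
    simp
  have hker₂ : ∀ w, π₂ w = 0 → ∀ i, w i ∈ mR * J := by
    intro w hw i
    have h1 : π.lTensor (FrobAlg.Twist p R) (Ψ.symm fun i => τ (w i)) = 0 := he.1 (hw.trans (map_zero e).symm)
    obtain ⟨z, hz⟩ := (lTensor_exact (FrobAlg.Twist p R) (LinearMap.exact_subtype_ker_map π) hπ _).1 h1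
    have h2 : w i = τ.symm (Ψ ((LinearMap.ker π).subtype.lTensor _ z) i) := by
      rw [hz, LinearEquiv.apply_symm_apply, RingEquiv.symm_apply_apply]
    rw [h2]
    clear h2 hz
    induction z using TensorProduct.induction_on with
    | zero => simp
    | tmul t x =>
      rw [LinearMap.lTensor_tmul]
      simp only [Ψ, TensorProduct.piScalarRight_apply, TensorProduct.piScalarRightHom_tmul, Submodule.subtype_apply]
      rw [Algebra.smul_def, FrobAlg.algebraMap_twist, map_mul, RingEquiv.symm_apply_apply]
      refine Ideal.mul_mem_right _ _ ?_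
      rw [← Nat.sub_add_cancel (Fact.out : p.Prime).one_le, pow_succ]
      exact Ideal.mul_mem_mul (Ideal.pow_mem_of_mem _ (hKm _ x.2 i) _
        (Nat.sub_pos_of_lt (Fact.out : p.Prime).one_lt)) (hJmem _ x.2 i)
    | add a b ha hb => rw [map_add, map_add, Pi.add_apply, map_add]; exact add_mem ha hb
  obtain ⟨U, hU⟩ := Module.projective_lifting_property π π₂ hπ
  have hUs : Function.Surjective U := by
    rw [← LinearMap.range_eq_top]
    refine top_le_iff.1 (Submodule.le_of_le_smul_of_le_jacobson_bot (I := mR) Module.Finite.fg_top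
      (IsLocalRing.jacobson_eq_maximalIdeal ⊥ bot_ne_top).ge ?_)
    intro y _
    obtain ⟨w, hw⟩ := hπ₂ (π y)
    have hk : y - U w ∈ LinearMap.ker π := by
      rw [LinearMap.mem_ker, map_sub, show π (U w) = π₂ w from LinearMap.congr_fun hU w, hw, sub_self]
    refine Submodule.mem_sup.2 ⟨U w, ⟨w, rfl⟩, y - U w, ?_, add_sub_cancel _ _⟩
    rw [pi_eq_sum_univ (y - U w)]
    exact Submodule.sum_mem _ fun j _ => Submodule.smul_mem_smul (hKm _ hk j) Submodule.mem_top
  have hJ : J ≤ mR • J := by
    refine iSup_le fun i => ?_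
    rintro _ ⟨x, hx, rfl⟩
    obtain ⟨w, rfl⟩ := hUs x
    have hw : π₂ w = 0 := (LinearMap.congr_fun hU w).symm.trans hx
    rw [LinearMap.proj_apply, smul_eq_mul, pi_eq_sum_univ w, map_sum, Finset.sum_apply]
    refine Submodule.sum_mem _ fun j _ => ?_
    rw [map_smul, Pi.smul_apply, smul_eq_mul]
    exact Ideal.mul_mem_right _ _ (hker₂ w hw j)
  have hJ0 : J = ⊥ := Submodule.eq_bot_of_le_smul_of_le_jacobson_bot mR J hJfg hJ
    (IsLocalRing.jacobson_eq_maximalIdeal ⊥ bot_ne_top).ge
  have hinj : Function.Injective π := (injective_iff_map_eq_zero π).2 fun x hx => funext fun i => by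
    have := hJmem x hx i
    rw [hJ0] at this
    exact this
  exact Module.Free.of_equiv (LinearEquiv.ofBijective π ⟨hinj, hπ⟩)

end Groth.Agent.S16368
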