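import Groth.Statements.S16369
import Groth.Agent.CurveCohLib.Proper
import Groth.Agent.QCoh.DevissageP
import Mathlib

set_option autoImplicit false
universe u
open CategoryTheory AlgebraicGeometry Opposite
open FrobSch

namespace Groth.Agent.S16369

/-- (i) ⇒ (ii): let k be a perfect field of characteristic p and X a scheme proper over k. Let φ be the
p-th power map on the sheaf of additive groups underlying O_X and B its cokernel in abelian sheaves
(for X smooth over k this is the sheaf B¹ of locally exact one-forms, pushed down along Frobenius).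
If X is Frobenius split — φ admits a retraction s, an additive endomorphism of O_X with s(t^p) = t
and s(a^p·b) = a·s(b) on every open — then H^i(X, B) = 0 for every i. (The source states this for X
normal; normality is not used for this implication, and a split X is reduced anyway.) -/
theorem result
    (p : ℕ) [Fact p.Prime] (k : Type u) [Field k] [CharP k p] [PerfectField k]
    (X : Scheme.{u}) [X.Over (Spec (CommRingCat.of k))] [IsProper (X ↘ Spec (CommRingCat.of k))]
    (φ : Coh.toAb (Coh.structureModule X) ⟶ Coh.toAb (Coh.structureModule X))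
    (hφ : ∀ (U : X.Opens) (t : Γ(X, U)), φ.hom.app (op U) t = t ^ p)
    (s : Coh.toAb (Coh.structureModule X) ⟶ Coh.toAb (Coh.structureModule X))
    (hs : φ ≫ s = 𝟙 _)
    (hlin : ∀ (U : X.Opens) (a b : Γ(X, U)),
      s.hom.app (op U) (a ^ p * b) = a * @id Γ(X, U) (s.hom.app (op U) b))
    (i : ℕ) : Subsingleton (Sheaf.H (Limits.cokernel φ) i) := by
  
  classical
  let Hi := Coh.HH X (Coh.structureModule X) i
  let F : Hi → Hi := fun x => Sheaf.H.map φ i x
  have hsemi : ∀ (c : k) (x : Hi), F (c • x) = c ^ p • F x := by
    intro c x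
    let r : Coh.Γtop X := Coh.toGlobal (X ↘ Spec (CommRingCat.of k)) c
    have hr : Coh.smulAb (Coh.structureModule X) r ≫ φ =
        φ ≫ Coh.smulAb (Coh.structureModule X) (r ^ p) := by
      ext U m
      show φ.hom.app U ((Coh.smulAb (Coh.structureModule X) r).hom.app U m) =
        (Coh.smulAb (Coh.structureModule X) (r ^ p)).hom.app U (φ.hom.app U m)
      rw [Coh.smulAb_app, Coh.smulAb_app, map_pow]
      have key : ∀ a t : Γ(X, U.unop),
          φ.hom.app (op U.unop) (a * t : Γ(X, U.unop)) = a ^ p * t ^ p := fun a t => by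
        rw [hφ, mul_pow]
      exact (key _ _).trans (congrArg _ (hφ U.unop m).symm)
    show Sheaf.H.map φ i (Sheaf.H.map (Coh.smulAb (Coh.structureModule X) r) i x) =
      Sheaf.H.map (Coh.smulAb (Coh.structureModule X)
        (Coh.toGlobal (X ↘ Spec (CommRingCat.of k)) (c ^ p))) i (Sheaf.H.map φ i x)
    rw [← Sheaf.H.map_comp_apply, hr, map_pow, Sheaf.H.map_comp_apply]
  have hinj : Function.Injective F := Function.LeftInverse.injective
    (g := Sheaf.H.map s i) fun x => by
      show Sheaf.H.map s i (Sheaf.H.map φ i x) = x
      rw [← Sheaf.H.map_comp_apply, hs, Sheaf.H.map_id_apply]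
  have := Groth.Agent.CurveCohLib.isNoetherian_of_proper (k := k) (X := X)
  have : Module.Finite k Hi :=
    Groth.Agent.CurveCohLib.finite_HH Groth.Agent.QCoh.isCoh_structureModule' i
  have hsurj : Function.Surjective F := by
    let b := Module.finBasis k Hi
    let F' : Hi →+ Hi := (Sheaf.H.map φ i : Hi →+ Hi)
    have hF' : ∀ d : Fin (Module.finrank k Hi) → k,
        F (∑ j, d j • b j) = ∑ j, d j ^ p • F (b j) := fun d =>
      (map_sum F' _ _).trans (Finset.sum_congr rfl fun j _ => hsemi _ _)
    have hroot : ∀ c : k, ∃ d : k, d ^ p = c := fun c => by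
      have : ExpChar k p := ExpChar.prime Fact.out
      exact surjective_frobenius k p c
    have hli : LinearIndependent k fun j => F (b j) := by
      refine Fintype.linearIndependent_iff.mpr fun g hg j => ?_
      choose d hd using fun j => hroot (g j)
      have h0 : F (∑ j, d j • b j) = F 0 := by
        rw [hF' d, show F 0 = 0 from map_zero F', ← hg]
        exact Finset.sum_congr rfl fun j _ => by rw [hd]
      have h1 := Fintype.linearIndependent_iff.mp b.linearIndependent d (hinj h0) j
      rw [← hd j, h1, zero_pow (Fact.out : p.Prime).ne_zero]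
    intro y
    have hy : y ∈ Submodule.span k (Set.range fun j => F (b j)) := by
      rw [hli.span_eq_top_of_card_eq_finrank' (by simp)]
      trivial
    obtain ⟨c, hc⟩ := Submodule.mem_span_range_iff_exists_fun k |>.mp hy
    choose d hd using fun j => hroot (c j)
    exact ⟨∑ j, d j • b j, by rw [hF' d, ← hc]; exact Finset.sum_congr rfl fun j _ => by rw [hd]⟩
  have w : φ ≫ (𝟙 _ - s ≫ φ) = 0 := by
    rw [Preadditive.comp_sub, Category.comp_id, ← Category.assoc, hs, Category.id_comp, sub_self]
  let σ := Limits.cokernel.desc φ (𝟙 _ - s ≫ φ) w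
  have hσ : σ ≫ Limits.cokernel.π φ = 𝟙 _ := by
    apply Limits.coequalizer.hom_ext
    show Limits.cokernel.π φ ≫ σ ≫ Limits.cokernel.π φ = Limits.cokernel.π φ ≫ 𝟙 _
    rw [Limits.cokernel.π_desc_assoc, Preadditive.sub_comp, Category.id_comp, Category.assoc,
      Limits.cokernel.condition, Limits.comp_zero, sub_zero, Category.comp_id]
  have hzero : ∀ y : Sheaf.H (Limits.cokernel φ) i, y = 0 := fun y => by
    obtain ⟨z, hz⟩ := hsurj (Sheaf.H.map σ i y)
    calc y = Sheaf.H.map (Limits.cokernel.π φ) i (Sheaf.H.map σ i y) := by
          rw [← Sheaf.H.map_comp_apply, hσ, Sheaf.H.map_id_apply]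
      _ = 0 := by
          rw [← hz]
          show Sheaf.H.map (Limits.cokernel.π φ) i (Sheaf.H.map φ i z) = 0
          rw [← Sheaf.H.map_comp_apply, Limits.cokernel.condition]
          show ((Sheaf.functorH _ i).map 0).hom z = 0
          rw [Functor.map_zero]
          rfl
  exact subsingleton_of_forall_eq 0 hzero

end Groth.Agent.S16369
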