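import Groth.Statements.S1637
import Groth.Agent.NodeFam.NodeOpen
import Groth.Agent.NodeFam.NodeModel

set_option autoImplicit false
set_option backward.isDefEq.respectTransparency false
set_option backward.isDefEq.respectTransparency.types false
universe u
open CategoryTheory CategoryTheory.Limits AlgebraicGeometry
open Curves

namespace Groth.Agent.S1637
open scoped TensorProduct in
theorem exists_affine_node {X S : Scheme.{u}} (f : X ⟶ S) [Flat f] [LocallyOfFinitePresentation f] (x : X)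
    (hx : NodeFam.FibreNode f x) :
    ∃ (R A K : Type u) (_ : CommRing R) (_ : CommRing A) (_ : Algebra R A) (_ : Algebra.FinitePresentation R A)
      (_ : Module.Flat R A) (_ : Field K) (_ : Algebra R K) (_ : IsAlgClosed K) (iS : Spec (CommRingCat.of R) ⟶ S)
      (iX : Spec (CommRingCat.of A) ⟶ X) (θA : A →ₐ[R] K),
      IsOpenImmersion iS ∧ IsOpenImmersion iX ∧ iX ≫ f = Spec.map (CommRingCat.ofHom (algebraMap R A)) ≫ iS ∧
      iX ⟨RingHom.ker θA, RingHom.ker_isPrime _⟩ = x ∧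
      NodeFam.NodeCrit K (RingHom.ker (NodeFam.pointExt θA)) := by
  obtain ⟨_, ⟨V, hV, rfl⟩, hxV, -⟩ :=
    S.isBasis_affineOpens.exists_subset_of_mem_open (Set.mem_univ (f x)) isOpen_univ
  obtain ⟨_, ⟨U, hU, rfl⟩, hxU, hUV⟩ :=
    X.isBasis_affineOpens.exists_subset_of_mem_open (show x ∈ f ⁻¹ᵁ V from hxV) (f ⁻¹ᵁ V).2
  have e : U ≤ f ⁻¹ᵁ V := hUV
  letI algA : Algebra Γ(S, V) Γ(X, U) := (f.appLE V U e).hom.toAlgebra
  haveI : Algebra.FinitePresentation Γ(S, V) Γ(X, U) :=
    HasRingHomProperty.appLE @LocallyOfFinitePresentation f inferInstance ⟨V, hV⟩ ⟨U, hU⟩ e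
  haveI : Module.Flat Γ(S, V) Γ(X, U) :=
    HasRingHomProperty.appLE @Flat f inferInstance ⟨V, hV⟩ ⟨U, hU⟩ e
  letI algk : Algebra Γ(S, V) (S.residueField (f x)) :=
    (S.presheaf.germ V (f x) (e hxU) ≫ S.residue (f x)).hom.toAlgebra
  obtain ⟨j, N, hj, hsnd, -, hN, hcomap⟩ := NodeFam.exists_pointChart f hV hU e rfl x hxU rfl
  haveI := hj
  unfold NodeFam.FibreNode at hx
  rw [← hN, NodeFam.nodeVia_iff_of_etale (k := S.residueField (f x)) (AlgebraicClosure (S.residueField (f x))) j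
    (f.fiberToSpecResidueField (f x)) _ hsnd.symm N, NodeFam.nodeVia_spec_iff] at hx
  obtain ⟨hmax, hall⟩ := hx
  haveI := hmax
  obtain ⟨θk, hθk⟩ := NodeFam.exists_point_of_isMaximal (k := S.residueField (f x))
    (A := S.residueField (f x) ⊗[Γ(S, V)] Γ(X, U)) N.asIdeal
  have hnode := (NodeFam.nodeCrit_baseChange θk).1 (hall θk hθk)
  refine ⟨Γ(S, V), Γ(X, U), AlgebraicClosure (S.residueField (f x)), inferInstance, inferInstance, algA, inferInstance, inferInstance, inferInstance,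
    inferInstance, inferInstance, hV.fromSpec, hU.fromSpec, _, inferInstance, inferInstance, ?_, ?_, hnode⟩
  · exact (hV.SpecMap_appLE_fromSpec f hU e).symm
  · refine Eq.trans ?_ (hU.fromSpec_primeIdealOf ⟨x, hxU⟩)
    congr 1
    refine PrimeSpectrum.ext ?_
    rw [← hcomap, ← hθk]
    rfl


/-- Let f : X → S be at-worst-nodal of relative dimension one and x a point of X which is a node of its
fibre. Then there are étale morphisms U → X and V → S, a morphism U → V compatible with f, a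
morphism V → Spec ℤ[a], and an étale morphism U → W over V where W → V is the base change of Spec
ℤ[u, v, a]/(uv - a) → Spec ℤ[a] along V → Spec ℤ[a], such that x is in the image of U. -/
theorem result {X S : Scheme.{u}} (f : X ⟶ S) (hf : Curv2.IsNodalFamily f)
    (x : X) (hx : @Curv2.IsNode (S.residueField (f.base x)) _ (f.fiber (f.base x)) ⟨f.fiberToSpecResidueField (f.base x)⟩ (f.asFiber x)) :
    ∃ (U V W : Scheme.{u}) (gU : U ⟶ X) (gV : V ⟶ S) (p : U ⟶ V) (e : U ⟶ W) (q : W ⟶ V)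
      (h : V ⟶ Spec (CommRingCat.of (MvPolynomial (Fin 1) (ULift.{u} ℤ)))) (r : W ⟶ Spec (CommRingCat.of (MvPolynomial (Fin 3) (ULift.{u} ℤ) ⧸ Ideal.span {(MvPolynomial.X 0 * MvPolynomial.X 1 - MvPolynomial.X 2 : MvPolynomial (Fin 3) (ULift.{u} ℤ))}))),
      Etale gU ∧ Etale gV ∧ Etale e ∧ gU ≫ f = p ≫ gV ∧ e ≫ q = p ∧
      IsPullback r q (Spec.map (CommRingCat.ofHom ((Ideal.Quotient.mk _).comp (MvPolynomial.aeval (fun _ : Fin 1 => (MvPolynomial.X 2 : MvPolynomial (Fin 3) (ULift.{u} ℤ)))).toRingHom))) h ∧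
      x ∈ Set.range gU.base := by
  obtain ⟨hflat, hlfp, -⟩ := hf
  haveI := hflat
  haveI := hlfp
  obtain ⟨R, A, K, _, _, _, _, _, _, _, _, iS, iX, θA, hiS, hiX, hcomm, hpt, hnode⟩ := exists_affine_node f x hx
  haveI := hiS; haveI := hiX
  obtain ⟨R', G, _, _, jR, a, jA, ψ, θG, hjR, hjA, hψ, hsq, hθ⟩ := NodeFam.exists_nodeModel θA hnode
  obtain ⟨φ, ρ, hpo⟩ := NodeFam.exists_isPushout_node a
  haveI : Etale (Spec.map (CommRingCat.ofHom jR)) :=
    (HasRingHomProperty.Spec_iff (P := @Etale) (φ := CommRingCat.ofHom jR)).2 hjR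
  haveI : Etale (Spec.map (CommRingCat.ofHom jA)) :=
    (HasRingHomProperty.Spec_iff (P := @Etale) (φ := CommRingCat.ofHom jA)).2 hjA
  haveI : Etale (Spec.map (CommRingCat.ofHom ψ)) :=
    (HasRingHomProperty.Spec_iff (P := @Etale) (φ := CommRingCat.ofHom ψ)).2 hψ
  refine ⟨Spec (CommRingCat.of G), Spec (CommRingCat.of R'), Spec (CommRingCat.of (NodeFam.nodeRing a)),
    Spec.map (CommRingCat.ofHom jA) ≫ iX, Spec.map (CommRingCat.ofHom jR) ≫ iS,
    Spec.map (CommRingCat.ofHom (ψ.comp (algebraMap R' (NodeFam.nodeRing a)))),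
    Spec.map (CommRingCat.ofHom ψ), Spec.map (CommRingCat.ofHom (algebraMap R' (NodeFam.nodeRing a))),
    Spec.map (CommRingCat.ofHom φ), Spec.map (CommRingCat.ofHom ρ),
    inferInstance, inferInstance, inferInstance, ?_, ?_, (isPullback_SpecMap_of_isPushout _ _ _ _ hpo), ?_⟩
  · rw [Category.assoc, hcomm, ← Category.assoc, ← Category.assoc, ← Spec.map_comp, ← Spec.map_comp,
      ← CommRingCat.ofHom_comp, ← CommRingCat.ofHom_comp, hsq]
  · rw [← Spec.map_comp, ← CommRingCat.ofHom_comp]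
  · refine ⟨⟨RingHom.ker θG, RingHom.ker_isPrime _⟩, ?_⟩
    refine Eq.trans ?_ hpt
    show iX _ = iX _
    congr 1
    refine PrimeSpectrum.ext (Ideal.ext fun b => ?_)
    show θG (jA b) = 0 ↔ θA b = 0
    rw [show θG (jA b) = θA b from RingHom.congr_fun hθ b]

end Groth.Agent.S1637
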