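import Groth.Statements.S16370
import Mathlib

set_option autoImplicit false
universe u
open CategoryTheory AlgebraicGeometry Opposite
open FrobSch

namespace Groth.Agent.S16370

/-- (ii) ⇒ (iii): let X be a reduced scheme of prime characteristic p, φ the p-th power map on the sheaf
of additive groups underlying O_X (a monomorphism, X being reduced) and B its cokernel in abelian
sheaves. If H^i(X, B) = 0 for all i ≥ 0, then the endomorphism of H^i(X, O_X) induced by φ — the
Hasse–Witt operation — is bijective for all i. (The source has X normal and proper over a perfect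
field; only reducedness enters this implication.) -/
theorem result
    (p : ℕ) [Fact p.Prime] (X : Scheme.{u}) [IsReduced X] (hp : (p : Γ(X, ⊤)) = 0)
    (φ : Coh.toAb (Coh.structureModule X) ⟶ Coh.toAb (Coh.structureModule X))
    (hφ : ∀ (U : X.Opens) (t : Γ(X, U)), φ.hom.app (op U) t = t ^ p)
    (hB : ∀ i : ℕ, Subsingleton (Sheaf.H (Limits.cokernel φ) i))
    (i : ℕ) : Function.Bijective (Sheaf.H.map φ i) := by
  
  have hinj : ∀ U : X.Opens, Function.Injective (φ.hom.app (op U)) := by
    intro U
    refine (injective_iff_map_eq_zero _).mpr fun (t : Γ(X, U)) ht => ?_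
    have h := (hφ U t).symm.trans ht
    exact IsReduced.eq_zero (R := Γ(X, U)) t ⟨p, h⟩
  have : Mono φ.hom := by
    have : ∀ U, Mono (φ.hom.app U) := fun U => by
      rw [AddCommGrpCat.mono_iff_injective]
      exact hinj U.unop
    exact NatTrans.mono_of_mono_app _
  have : Mono φ := (sheafToPresheaf _ _).mono_of_mono_map (f := φ) this
  let S := ShortComplex.mk φ (Limits.cokernel.π φ) (Limits.cokernel.condition φ)
  have hS : S.ShortExact :=
    { exact := ShortComplex.exact_of_g_is_cokernel _ (Limits.cokernelIsCokernel φ)
      mono_f := by assumption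
      epi_g := by infer_instance }
  refine ⟨(injective_iff_map_eq_zero _).mpr fun x hx => ?_, fun y => ?_⟩
  · cases i with
    | zero =>
        have h := Sheaf.H.equiv₀_naturality Limits.isTerminalTop φ x
        rw [hx, map_zero] at h
        exact (Sheaf.H.equiv₀ _ Limits.isTerminalTop).map_eq_zero_iff.mp
          ((injective_iff_map_eq_zero _).mp (hinj ⊤) _ h)
    | succ n =>
        obtain ⟨z, hz⟩ := Abelian.Ext.covariant_sequence_exact₁ _ hS (n₁ := n + 1) x hx rfl
        have hz0 : z = 0 := (hB n).elim _ _
        rw [← hz, hz0]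
        exact Abelian.Ext.zero_comp _ _ _ _ _
  · obtain ⟨x, hx⟩ := Abelian.Ext.covariant_sequence_exact₂ _ hS y ((hB i).elim _ _)
    exact ⟨x, hx⟩

end Groth.Agent.S16370
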