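import Groth.Statements.S16371
import Mathlib.Tactic.Ring
import Mathlib.RingTheory.Nilpotent.Basic
import Groth.Agent.FrobW2.Ghost
-- import your own Groth.Agent.* helpers here

set_option autoImplicit false
universe u v w
open FrobAlg

namespace Groth.Agent.S16371

/-- Let p be a prime, A a commutative ring and B, C commutative A-algebras with p² = 0 in B. If two
A-algebra maps g₁, g₂ : C → B agree modulo p, then they agree on every element of C which is
congruent modulo p to an element of the A-subalgebra generated by the p-th powers. (The source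
states this for liftings over a flat ℤ/p²-thickening of two smooth schemes and the subsheaf of
functions whose reduction lies in the image of the relative Frobenius; the smoothness and lifting
hypotheses are not needed for the identity.) -/
theorem result
    (p : ℕ) [Fact p.Prime] (A : Type u) [CommRing A] (B : Type v) [CommRing B] [Algebra A B]
    (C : Type w) [CommRing C] [Algebra A C] (hp : (p : B) ^ 2 = 0)
    (g₁ g₂ : C →ₐ[A] B) (hg : ∀ x : C, g₁ x - g₂ x ∈ Ideal.span ({(p : B)} : Set B))
    (x y : C) (hy : y ∈ Algebra.adjoin A (Set.range fun c : C => c ^ p))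
    (hxy : x - y ∈ Ideal.span ({(p : C)} : Set C)) :
    g₁ x = g₂ x := by
  have hsq : (p : B) * p = 0 := by rw [← sq]; exact hp
  have hpow : ∀ u v : B, u - v ∈ Ideal.span ({(p : B)} : Set B) → u ^ p = v ^ p := fun u v h => by
    obtain ⟨c, hc⟩ := Ideal.mem_span_singleton'.1 h
    exact FrobW2.pow_p_eq p hsq (c := c) (by rw [← hc, mul_comm])
  have hy' : g₁ y = g₂ y := by
    clear hxy x
    induction hy using Algebra.adjoin_induction with
    | mem z hz =>
      obtain ⟨c, rfl⟩ := hz
      simp only [map_pow]
      exact hpow _ _ (hg c)
    | algebraMap r => rw [AlgHom.commutes, AlgHom.commutes]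
    | add a b _ _ ha hb => rw [map_add, map_add, ha, hb]
    | mul a b _ _ ha hb => rw [map_mul, map_mul, ha, hb]
  obtain ⟨z, hz⟩ := Ideal.mem_span_singleton'.1 hxy
  obtain ⟨c, hc⟩ := Ideal.mem_span_singleton'.1 (hg z)
  have hx : x = y + z * (p : C) := by rw [hz]; ring
  rw [hx, map_add, map_add, map_mul, map_mul, map_natCast, map_natCast, hy', add_right_inj,
    ← sub_eq_zero, ← sub_mul, ← hc, mul_assoc, hsq, mul_zero]

end Groth.Agent.S16371
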