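import Groth.Statements.S16373
import Groth.Agent.FrobW2.Shift
-- import your own Groth.Agent.* helpers here

set_option autoImplicit false
universe u
open FrobAlg

namespace Groth.Agent.S16373

/-- Let p be a prime, m ≥ 1, R a commutative ring with p = 0 in R and σ : W_m(R) → R a quasi-F-splitting
of level m (additive, σ(1) = 1, σ(F(x)·y) = x₀·σ(y) with F the componentwise p-th power). Let I ⊆
W_{m+1}(R) be the ideal generated by the shifts V(x) of the x with σ(x) = 0, and Q = W_{m+1}(R)/I.
Then Q is a flat lifting of R modulo p²: an element of Q lies in pQ exactly when the first Witt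
component of a representative vanishes (so Q/pQ is R through the first component), and an element of
Q is killed by p exactly when it lies in pQ. (Stated for a ring; the source has a scheme over the
prime field. For m = 1 this is the lifting attached to a Frobenius splitting.) -/
theorem result
    (p : ℕ) [Fact p.Prime] (m : ℕ) (hm : 0 < m) (R : Type u) [CommRing R] (hp : (p : R) = 0)
    (σ : TruncatedWittVector p m R →+ R) (h1 : σ 1 = 1)
    (hF : ∀ x y : TruncatedWittVector p m R, σ (WittGrp.frob p m hp x * y) = x.coeff ⟨0, hm⟩ * σ y)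
    (I : Ideal (TruncatedWittVector p (m + 1) R))
    (hI : I = Ideal.span (WittGrp.shift p (Nat.le_succ m) '' {x : TruncatedWittVector p m R | σ x = 0})) :
    (∀ w : TruncatedWittVector p (m + 1) R,
        Ideal.Quotient.mk I w ∈ Ideal.span ({(p : TruncatedWittVector p (m + 1) R ⧸ I)} : Set _) ↔
          w.coeff 0 = 0) ∧
    (∀ q : TruncatedWittVector p (m + 1) R ⧸ I,
        (p : TruncatedWittVector p (m + 1) R ⧸ I) * q = 0 ↔
          q ∈ Ideal.span ({(p : TruncatedWittVector p (m + 1) R ⧸ I)} : Set _)) := by
  let S : AddSubgroup (TruncatedWittVector p m R) := σ.ker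
  have hS : ∀ y x, x ∈ S → WittGrp.frob p m hp y * x ∈ S := fun y x hx => by
    change σ _ = 0
    rw [hF, show σ x = 0 from hx, mul_zero]
  have hmem : ∀ w, w ∈ I ↔ ∃ x ∈ S, WittGrp.shift p (Nat.le_succ m) x = w := fun w => by
    rw [hI]; exact FrobW2.mem_span_shift_iff hp S hS w
  have hσfrob : ∀ y : TruncatedWittVector p (m + 1) R,
      σ (WittGrp.frob p m hp (TruncatedWittVector.truncate (Nat.le_succ m) y)) = y.coeff 0 := fun y => by
    have := hF (TruncatedWittVector.truncate (Nat.le_succ m) y) 1
    rwa [mul_one, h1, mul_one, FrobW2.coeff_truncateLE_zero] at this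
  have key : ∀ w : TruncatedWittVector p (m + 1) R,
      Ideal.Quotient.mk I w ∈ Ideal.span ({(p : TruncatedWittVector p (m + 1) R ⧸ I)} : Set _) ↔
        w.coeff 0 = 0 := by
    intro w
    rw [Ideal.mem_span_singleton']
    constructor
    · rintro ⟨q, hq⟩
      obtain ⟨y, rfl⟩ := Ideal.Quotient.mk_surjective q
      rw [← map_natCast (Ideal.Quotient.mk I), ← map_mul, eq_comm, Ideal.Quotient.eq, hmem] at hq
      obtain ⟨x, -, hx⟩ := hq
      have e : w = WittGrp.shift p (Nat.le_succ m) x + y * (p : TruncatedWittVector p (m + 1) R) := by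
        rw [hx, sub_add_cancel]
      rw [e, mul_comm, FrobW2.p_mul_eq_shift hp, ← map_add, FrobW2.shift_coeff_zero]
    · intro hw
      obtain ⟨x, rfl⟩ := FrobW2.exists_shift hw
      let y : TruncatedWittVector p (m + 1) R :=
        TruncatedWittVector.mk p fun i => if i = 0 then σ x else 0
      refine ⟨Ideal.Quotient.mk I y, ?_⟩
      rw [← map_natCast (Ideal.Quotient.mk I), ← map_mul, Ideal.Quotient.eq, hmem, mul_comm,
        FrobW2.p_mul_eq_shift hp]
      refine ⟨_, ?_, map_sub _ _ _⟩
      change σ _ = 0
      rw [map_sub, hσfrob, TruncatedWittVector.coeff_mk, if_pos rfl, sub_self]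
  refine ⟨key, fun q => ?_⟩
  obtain ⟨y, rfl⟩ := Ideal.Quotient.mk_surjective q
  rw [key, ← map_natCast (Ideal.Quotient.mk I), ← map_mul, Ideal.Quotient.eq_zero_iff_mem, hmem,
    FrobW2.p_mul_eq_shift hp]
  constructor
  · rintro ⟨x, hx, hxe⟩
    rw [← hσfrob y, ← FrobW2.shift_injective hxe]
    exact hx
  · intro hy
    exact ⟨_, (hσfrob y).trans hy, rfl⟩

end Groth.Agent.S16373
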