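import Groth.Statements.S16374
import Mathlib.Tactic.Ring
import Groth.Agent.FrobW2.Ghost
-- import your own Groth.Agent.* helpers here

set_option autoImplicit false
universe u v w
open FrobAlg

namespace Groth.Agent.S16374

/-- Let p be a prime, A a commutative ring, B and C commutative A-algebras with p² = 0 in B, and g : C →
B an A-algebra map such that every g(c) is congruent modulo p to an element of the A-subalgebra of B
generated by the p-th powers (g lifts a relative Frobenius). Then d(g(x)) = 0 in the module of
Kähler differentials of B over A for every x ∈ C that is congruent modulo p to an element of the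
A-subalgebra of C generated by the p-th powers. (The source works with a lifting of the relative
Frobenius of a smooth scheme over a ℤ/p²-thickening and the subsheaf of functions whose reduction
comes from the Frobenius twist; smoothness is not needed for this vanishing.) -/
theorem result
    (p : ℕ) [Fact p.Prime] (A : Type u) [CommRing A] (B : Type v) [CommRing B] [Algebra A B]
    (C : Type w) [CommRing C] [Algebra A C] (hp : (p : B) ^ 2 = 0)
    (g : C →ₐ[A] B)
    (hg : ∀ c : C, ∃ u ∈ Algebra.adjoin A (Set.range fun b : B => b ^ p),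
      g c - u ∈ Ideal.span ({(p : B)} : Set B))
    (x y : C) (hy : y ∈ Algebra.adjoin A (Set.range fun c : C => c ^ p))
    (hxy : x - y ∈ Ideal.span ({(p : C)} : Set C)) :
    KaehlerDifferential.D A B (g x) = 0 := by
  have hsq : (p : B) * p = 0 := by rw [← sq]; exact hp
  have hDp : ∀ b : B, KaehlerDifferential.D A B ((p : B) * b) = (p : B) • KaehlerDifferential.D A B b := fun b => by
    rw [Derivation.leibniz, Derivation.map_natCast, smul_zero, add_zero]
  have hDpow : ∀ u ∈ Algebra.adjoin A (Set.range fun b : B => b ^ p),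
      ∃ ω, KaehlerDifferential.D A B u = (p : B) • ω := by
    intro u hu
    induction hu using Algebra.adjoin_induction with
    | mem z hz =>
      obtain ⟨c, rfl⟩ := hz
      refine ⟨c ^ (p - 1) • KaehlerDifferential.D A B c, ?_⟩
      rw [Derivation.leibniz_pow, Nat.cast_smul_eq_nsmul B]
    | algebraMap r => exact ⟨0, by simp⟩
    | add a b _ _ ha hb =>
      obtain ⟨α, hα⟩ := ha; obtain ⟨β, hβ⟩ := hb
      exact ⟨α + β, by rw [map_add, hα, hβ, smul_add]⟩
    | mul a b _ _ ha hb =>
      obtain ⟨α, hα⟩ := ha; obtain ⟨β, hβ⟩ := hb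
      exact ⟨a • β + b • α, by rw [Derivation.leibniz, hα, hβ, smul_add, smul_comm a, smul_comm b]⟩
  have hgu : ∀ c : C, ∃ u ∈ Algebra.adjoin A (Set.range fun b : B => b ^ p), ∃ w, g c = u + (p : B) * w := by
    intro c
    obtain ⟨u, hu, h⟩ := hg c
    obtain ⟨w, hw⟩ := Ideal.mem_span_singleton'.1 h
    exact ⟨u, hu, w, by rw [mul_comm, hw]; ring⟩
  have hDy : KaehlerDifferential.D A B (g y) = 0 := by
    clear hxy x
    induction hy using Algebra.adjoin_induction with
    | mem z hz =>
      obtain ⟨c, rfl⟩ := hz
      obtain ⟨u, hu, w, e⟩ := hgu c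
      obtain ⟨ω, hω⟩ := hDpow u hu
      simp only [map_pow]
      rw [FrobW2.pow_p_eq p hsq (x := g c) (y := u) (c := w) (by rw [e]; ring), Derivation.leibniz_pow, hω,
        ← Nat.cast_smul_eq_nsmul B, smul_comm (u ^ (p - 1)) (p : B), smul_smul (p : B) (p : B), hsq, zero_smul]
    | algebraMap r => rw [AlgHom.commutes, Derivation.map_algebraMap]
    | add a b _ _ ha hb => rw [map_add, map_add, ha, hb, add_zero]
    | mul a b _ _ ha hb => rw [map_mul, Derivation.leibniz, ha, hb, smul_zero, smul_zero, add_zero]
  obtain ⟨z, hz⟩ := Ideal.mem_span_singleton'.1 hxy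
  obtain ⟨u, hu, w, e⟩ := hgu z
  obtain ⟨ω, hω⟩ := hDpow u hu
  have hx : x = y + (p : C) * z := by rw [mul_comm, hz]; ring
  rw [hx, map_add, map_add, hDy, zero_add, map_mul, map_natCast, hDp, e, map_add, hω, hDp, smul_add,
    smul_smul, smul_smul, hsq, zero_smul, zero_smul, add_zero]

end Groth.Agent.S16374
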