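import Groth.Statements.S16375
import Groth.Agent.KExact.KernelPairing
-- import your own Groth.Agent.* helpers here

set_option autoImplicit false
set_option linter.style.haveILetI false
set_option backward.isDefEq.respectTransparency false
set_option backward.isDefEq.respectTransparency.types false

universe u
open CategoryTheory CategoryTheory.Limits AlgebraicGeometry
attribute [local instance] HasDerivedCategory.standard
open FMK

attribute [-instance] CategoryTheory.catToReflQuiver Int.instConditionallyCompleteLinearOrder

namespace Groth.Agent.S16375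

/-- Let k be an algebraically closed field, X and Y schemes over k with structure morphisms a and b, and
P a cochain complex of modules on the fibre product X ×_k Y (no condition on P, X or Y). Write Φ_P =
Rpr_{Y,*}(Lpr_X^*(−) ⊗^L P) : D(O_X) → D(O_Y) and Ψ_P = Rpr_{X,*}(Lpr_Y^*(−) ⊗^L P) : D(O_Y) →
D(O_X), the derived functors involved being assumed to exist. Let E be a cochain complex of
O_X-modules and F a cochain complex of O_Y-modules whose images in the derived categories are
perfect. Then RΓ(X, Ψ_P(F) ⊗^L E) and RΓ(Y, Φ_P(E) ⊗^L F) are isomorphic objects of D(Ab) (existence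
of an isomorphism only; the published statement records the resulting isomorphisms H^i(X, E ⊗ Ψ_P F)
≅ H^i(Y, Φ_P E ⊗ F) of hypercohomology groups for every i). -/
theorem result (k : Type u) [Field k] [IsAlgClosed k]
    (X Y : Scheme.{u}) (a : X ⟶ Spec (CommRingCat.of k)) (b : Y ⟶ Spec (CommRingCat.of k))
    (P : CochainComplex (pullback a b).Modules ℤ)
    [DCoh.HasLpull (pullback.fst a b)] [DCoh.HasLpull (pullback.snd a b)] [DCoh.HasLTensorCx P]
    [DCoh.HasRpush (pullback.fst a b)] [DCoh.HasRpush (pullback.snd a b)]
    [DCoh.HasRΓ X] [DCoh.HasRΓ Y]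
    (E : CochainComplex X.Modules ℤ) (hE : DCoh.IsPerfect (DCoh.toD X E)) [DCoh.HasLTensorCx E]
    (F : CochainComplex Y.Modules ℤ) (hF : DCoh.IsPerfect (DCoh.toD Y F)) [DCoh.HasLTensorCx F] :
    Nonempty ((DCoh.RΓ X).obj ((DCoh.LTensorCx E).obj
        ((DCoh.Lpull (pullback.snd a b) ⋙ DCoh.LTensorCx P ⋙ DCoh.Rpush (pullback.fst a b)).obj (DCoh.toD Y F))) ≅
      (DCoh.RΓ Y).obj ((DCoh.LTensorCx F).obj ((FMK.phi a b P).obj (DCoh.toD X E)))) := by
  exact Groth.Agent.KExact.KernelPairing.nonempty_pairing a b P E hE F hF
end Groth.Agent.S16375
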