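import Groth.Statements.S16377
import Groth.Agent.KExact.HyperBound
import Groth.Agent.KExact.KernelPairing
-- import your own Groth.Agent.* helpers here

set_option autoImplicit false
set_option linter.style.haveILetI false
set_option backward.isDefEq.respectTransparency false
set_option backward.isDefEq.respectTransparency.types false

universe u
open CategoryTheory CategoryTheory.Limits AlgebraicGeometry
attribute [local instance] HasDerivedCategory.standard
open FMK

attribute [-instance] CategoryTheory.catToReflQuiver Int.instConditionallyCompleteLinearOrder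

namespace Groth.Agent.S16377

open Groth.Agent


/-- Let k be an algebraically closed field, X a scheme over k and Y a quasi-compact scheme locally of
finite type over k (structure morphisms a and b) of dimension at most g, and P a cochain complex of
modules on X ×_k Y. Write Φ_P = Rpr_{Y,*}(Lpr_X^*(−) ⊗^L P) : D(O_X) → D(O_Y), Ψ_P =
Rpr_{X,*}(Lpr_Y^*(−) ⊗^L P) : D(O_Y) → D(O_X) and R^iΦ_P(F) = H^i(Φ_P(F)), the derived functors
involved being assumed to exist. Let k' ≥ 0 and let F be a cochain complex of O_X-modules defining a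
perfect object which is a GV_{k'}-object with respect to P: R^iΦ_P(F) = 0 for i < 0, and for i ≥ 0
the support of R^iΦ_P(F) has codimension at least i − k' in Y (the local ring of Y at each point of
the support has Krull dimension ≥ i − k'). Let N be a finite locally free O_Y-module. Then H^i(X,
Ψ_P(N) ⊗^L F) = 0 for every i < 0 and every i > g + k'. (The published statement carries an extra
shift N[h] by an integer h and asserts vanishing of H^i(X, F ⊗ Ψ_P(N[h])) for i outside [0, dim Y −
h + k']; since that group is H^{i+h}(X, F ⊗ Ψ_P N), the correct range is i outside [−h, dim Y + k' −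
h], which for h = 0 is the statement here, and for h > 0 the published range is wrong: X = Y = Spec
k, P = k, F = N = k, k' = 0, h = 1 gives H^{−1}(F ⊗ N[1]) = k ≠ 0.) -/
theorem result (k : Type u) [Field k] [IsAlgClosed k]
    (X Y : Scheme.{u}) (a : X ⟶ Spec (CommRingCat.of k)) (b : Y ⟶ Spec (CommRingCat.of k))
    [LocallyOfFiniteType b] [QuasiCompact b] (g : ℕ) (hg : topologicalKrullDim ↥Y ≤ (g : WithBot ℕ∞))
    (P : CochainComplex (pullback a b).Modules ℤ)
    [DCoh.HasLpull (pullback.fst a b)] [DCoh.HasLpull (pullback.snd a b)] [DCoh.HasLTensorCx P]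
    [DCoh.HasRpush (pullback.fst a b)] [DCoh.HasRpush (pullback.snd a b)] [DCoh.HasRΓ X]
    (k' : ℕ) (F : CochainComplex X.Modules ℤ) (hF : DCoh.IsPerfect (DCoh.toD X F)) [DCoh.HasLTensorCx F]
    (hneg : ∀ i : ℤ, i < 0 → IsZero (DCoh.HD ((FMK.phi a b P).obj (DCoh.toD X F)) i))
    (hcodim : ∀ (i : ℕ) (y : ↥Y), y ∈ CohB1.support (DCoh.HD ((FMK.phi a b P).obj (DCoh.toD X F)) (i : ℤ)) →
      ((i - k' : ℕ) : WithBot ℕ∞) ≤ ringKrullDim ↑(Y.presheaf.stalk y))
    (N : Y.Modules) (hN : FlatMod.IsFinLocFree N) (i : ℤ) (hi : i < 0 ∨ (g : ℤ) + k' < i) :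
    IsZero ((DerivedCategory.homologyFunctor AddCommGrpCat.{u} i).obj ((DCoh.RΓ X).obj
      ((DCoh.LTensorCx F).obj ((DCoh.Lpull (pullback.snd a b) ⋙ DCoh.LTensorCx P ⋙ DCoh.Rpush (pullback.fst a b)).obj (DCoh.inD Y N))))) := by
  haveI : IsLocallyNoetherian Y := LocallyOfFiniteType.isLocallyNoetherian b
  haveI : CompactSpace Y := QuasiCompact.compactSpace_of_compactSpace b
  haveI : IsNoetherian Y := {}
  haveI := KExact.KernelPairing.hasRΓ Y
  let M := (HomologicalComplex.single Y.Modules (ComplexShape.up ℤ) 0).obj N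
  haveI := KFlatLib.hasLTensorCx M
  let eM : DCoh.inD Y N ≅ DCoh.toD Y M := (DerivedCategory.singleFunctorIsoCompQ Y.Modules 0).app _
  have hM : DCoh.IsPerfect (DCoh.toD Y M) := H9Misc.isPerfect_congr eM (H28.PerfGen.locSP_lf hN)
  obtain ⟨p⟩ := KExact.KernelPairing.nonempty_pairing a b P F hF M hM
  refine (KExact.HyperBound.isZero_RΓ_of_codim hg k'
    ((DCoh.LTensorCx M).obj ((FMK.phi a b P).obj (DCoh.toD X F))) (fun n hn => ?_) (fun n y hy => ?_) i hi).of_iso
    ((DerivedCategory.homologyFunctor AddCommGrpCat.{u} i).mapIso ((DCoh.RΓ X).mapIso ((DCoh.LTensorCx F).mapIso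
      ((DCoh.Lpull (pullback.snd a b) ⋙ DCoh.LTensorCx P ⋙ DCoh.Rpush (pullback.fst a b)).mapIso eM)) ≪≫ p))
  · obtain ⟨e⟩ := KExact.HyperBound.nonempty_hd_ltensor_locFree hN ((FMK.phi a b P).obj (DCoh.toD X F)) n
    exact ((DCoh.tensorBi.flip.obj N).map_isZero (hneg n hn)).of_iso e
  · obtain ⟨e⟩ := KExact.HyperBound.nonempty_hd_ltensor_locFree hN ((FMK.phi a b P).obj (DCoh.toD X F)) (n : ℤ)
    refine hcodim n y (HilbPoly.support_tensor_subset _ N ?_)
    exact fun h => hy ((CategoryTheory.Iso.addCommGroupIsoToAddEquiv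
      ((TopCat.Presheaf.stalkFunctor AddCommGrpCat.{u} y).mapIso
        ((Scheme.Modules.toPresheaf Y).mapIso e))).toEquiv.subsingleton_congr.2 h)
end Groth.Agent.S16377
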