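import Groth.Statements.S1638
import Mathlib.Algebra.Algebra.Subalgebra.Centralizer
import Mathlib.RingTheory.TensorProduct.Maps
import Mathlib.LinearAlgebra.Basis.VectorSpace

set_option autoImplicit false
universe u
open Brauer

open scoped TensorProduct

namespace Groth.Agent.S1638

/-- Let A and A' be algebras over a field k with subalgebras B ⊆ A and B' ⊆ A' having centralizers C and
C'. Then the centralizer of the image of B ⊗ B' in A ⊗_k A' is the image of C ⊗_k C'. -/
theorem result (k : Type u) [Field k] (A A' : Type u) [Ring A] [Ring A'] [Algebra k A] [Algebra k A']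
    (B : Subalgebra k A) (B' : Subalgebra k A') :
    Subalgebra.centralizer k ((Algebra.TensorProduct.map B.val B'.val).range : Set (TensorProduct k A A')) =
      (Algebra.TensorProduct.map (Subalgebra.centralizer k (B : Set A)).val (Subalgebra.centralizer k (B' : Set A')).val).range := by
  classical
  set C := Subalgebra.centralizer k (B : Set A)
  set C' := Subalgebra.centralizer k (B' : Set A')
  refine le_antisymm (fun z hz => ?_) ?_
  · have h1 : z ∈ Subalgebra.centralizer k
        ((Algebra.TensorProduct.includeLeft (S := k) : A →ₐ[k] A ⊗[k] A') '' (B : Set A)) := by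
      rw [Subalgebra.mem_centralizer_iff] at hz ⊢
      rintro _ ⟨b, hb, rfl⟩
      exact hz _ ⟨(⟨b, hb⟩ : B) ⊗ₜ 1, by simp⟩
    have h2 : z ∈ Subalgebra.centralizer k
        ((Algebra.TensorProduct.includeRight : A' →ₐ[k] A ⊗[k] A') '' (B' : Set A')) := by
      rw [Subalgebra.mem_centralizer_iff] at hz ⊢
      rintro _ ⟨b, hb, rfl⟩
      exact hz _ ⟨1 ⊗ₜ (⟨b, hb⟩ : B'), by simp⟩
    rw [Subalgebra.centralizer_coe_image_includeLeft_eq_center_tensorProduct] at h1
    rw [Subalgebra.centralizer_coe_image_includeRight_eq_center_tensorProduct] at h2
    obtain ⟨w, hw⟩ := h1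
    obtain ⟨w', hw'⟩ := h2
    obtain ⟨P, hP⟩ := LinearMap.exists_leftInverse_of_injective C.val.toLinearMap
      (LinearMap.ker_eq_bot.mpr Subtype.val_injective)
    obtain ⟨P', hP'⟩ := LinearMap.exists_leftInverse_of_injective C'.val.toLinearMap
      (LinearMap.ker_eq_bot.mpr Subtype.val_injective)
    have e1 : TensorProduct.map (C.val.toLinearMap ∘ₗ P) LinearMap.id z = z := by
      rw [← hw]
      clear hw hw'
      induction w using TensorProduct.induction_on with
      | zero => simp
      | tmul x y =>
        have := LinearMap.congr_fun hP x
        simp only [LinearMap.comp_apply] at this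
        simpa using congrArg (fun t : C => (t : A) ⊗ₜ[k] y) this
      | add x y hx hy => simp_all
    have e2 : TensorProduct.map LinearMap.id (C'.val.toLinearMap ∘ₗ P') z = z := by
      rw [← hw']
      clear hw hw'
      induction w' using TensorProduct.induction_on with
      | zero => simp
      | tmul x y =>
        have := LinearMap.congr_fun hP' y
        simp only [LinearMap.comp_apply] at this
        simpa using congrArg (fun t : C' => x ⊗ₜ[k] (t : A')) this
      | add x y hx hy => simp_all
    refine ⟨TensorProduct.map P P' z, ?_⟩
    conv_rhs => rw [← e1, ← e2]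
    clear hw hw' e1 e2 hz
    induction z using TensorProduct.induction_on with
    | zero => simp
    | tmul x y => simp
    | add x y hx hy => simp_all
  · rintro _ ⟨w, rfl⟩
    refine (Subalgebra.mem_centralizer_iff k).mpr ?_
    rintro _ ⟨v, rfl⟩
    induction w using TensorProduct.induction_on with
    | zero => simp
    | add x y hx hy => rw [map_add, mul_add, add_mul, hx, hy]
    | tmul c c' =>
      induction v using TensorProduct.induction_on with
      | zero => simp
      | add x y hx hy => rw [map_add, add_mul, mul_add, hx, hy]
      | tmul b b' =>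
        simp [(Subalgebra.mem_centralizer_iff k).mp c.2 b b.2,
          (Subalgebra.mem_centralizer_iff k).mp c'.2 b' b'.2]

end Groth.Agent.S1638
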