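import Groth.Statements.S16384
import Groth.Agent.KExact.DualTwistMain
import Groth.Agent.S9524
-- import your own Groth.Agent.* helpers here

set_option autoImplicit false
set_option linter.style.haveILetI false
set_option backward.isDefEq.respectTransparency false
set_option backward.isDefEq.respectTransparency.types false

universe u
open CategoryTheory CategoryTheory.Limits AlgebraicGeometry
attribute [local instance] HasDerivedCategory.standard
open FMK

attribute [-instance] CategoryTheory.catToReflQuiver Int.instConditionallyCompleteLinearOrder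

namespace Groth.Agent.S16384

open Groth.Agent


/-- For a sheaf F and a locally free kernel P, let k be an algebraically closed field, X and Y proper
schemes over k with structure morphisms a and b, all of whose local rings are Cohen–Macaulay, X
equidimensional of dimension d and Y equidimensional of dimension g. Let Ra_* and Rb_* on D_QCoh
have right adjoints a^× and b^× (given as data with their adjunctions), O an object of D_QCoh(Spec
k) isomorphic to the structure sheaf in degree 0, and ω_X = H^{−d}(a^×O), ω_Y = H^{−g}(b^×O) the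
dualizing modules; write RΔ(F) = RHom(F, ω_X). Let P be a finite locally free module on X ×_k Y, P^∨
= Hom(P, O) its dual (the sheaf Hom as right adjoint of P ⊗ −) and Q = P^∨ ⊗ pr_Y^*ω_Y, both used as
kernels in degree 0; for a kernel K write Φ_K = Rpr_{Y,*}(Lpr_X^*(−) ⊗^L K) and R^iΦ_K = H^i ∘ Φ_K,
the derived functors involved being assumed to exist. Let k' ≥ 0 and F a coherent O_X-module,
perfect as an object of D(O_X), which is a GV_{k'}-sheaf with respect to P: for every i ≥ 0 the
support of R^iΦ_P(F) has codimension ≥ i − k' (the local ring of Y at each of its points has Krull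
dimension ≥ i − k'). Then RΔ(F) satisfies WIT_[d−k',d] with respect to Q: R^iΦ_Q(RΔ F) = 0 for every
integer i outside [d − k', d]. (The published statement is for an arbitrary object F of D(X) and an
arbitrary kernel P; in that generality the vanishing above degree d fails — for F = O_X[1] on an
abelian variety of dimension d ≥ 1 with the Poincaré kernel, F is GV_0 while Φ_Q(RΔF) is a
skyscraper in degree d + 1 — so the row keeps F a sheaf and P locally free, the case of the
applications.) -/
theorem result (k : Type u) [Field k] [IsAlgClosed k]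
    (X Y : Scheme.{u}) (a : X ⟶ Spec (CommRingCat.of k)) (b : Y ⟶ Spec (CommRingCat.of k)) [IsProper a] [IsProper b]
    (hXcm : ∀ x : ↥X, LocCoh.IsCohenMacaulayLocalRing ↑(X.presheaf.stalk x))
    (hYcm : ∀ y : ↥Y, LocCoh.IsCohenMacaulayLocalRing ↑(Y.presheaf.stalk y))
    (d : ℕ) (hd : topologicalKrullDim ↥X = (d : WithBot ℕ∞))
    (hXeq : ∀ Z ∈ irreducibleComponents ↥X, topologicalKrullDim ↥Z = (d : WithBot ℕ∞))
    (g : ℕ) (hg : topologicalKrullDim ↥Y = (g : WithBot ℕ∞))
    (hYeq : ∀ Z ∈ irreducibleComponents ↥Y, topologicalKrullDim ↥Z = (g : WithBot ℕ∞))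
    [DCoh.HasRpush a] (ha : DCoh.RpushPreservesQCoh a)
    (adx : DCoh.DQCoh (Spec (CommRingCat.of k)) ⥤ DCoh.DQCoh X) (adja : DCoh.RpushQ a ha ⊣ adx)
    [DCoh.HasRpush b] (hb : DCoh.RpushPreservesQCoh b)
    (bdx : DCoh.DQCoh (Spec (CommRingCat.of k)) ⥤ DCoh.DQCoh Y) (adjb : DCoh.RpushQ b hb ⊣ bdx)
    (O : DCoh.DQCoh (Spec (CommRingCat.of k)))
    (hO : Nonempty (O.obj ≅ DCoh.inD (Spec (CommRingCat.of k)) (Coh.structureModule (Spec (CommRingCat.of k)))))
    (P₀ : (pullback a b).Modules) (hP₀ : FlatMod.IsFinLocFree P₀) [DCoh.HasSheafHom P₀]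
    [DCoh.HasLpull (pullback.fst a b)] [DCoh.HasRpush (pullback.snd a b)]
    [DCoh.HasLTensorCx ((HomologicalComplex.single (pullback a b).Modules (ComplexShape.up ℤ) 0).obj P₀)]
    [DCoh.HasLTensorCx ((HomologicalComplex.single (pullback a b).Modules (ComplexShape.up ℤ) 0).obj (CohB1.tensorMod ((DCoh.sheafHom P₀).obj (Coh.structureModule (pullback a b))) ((Scheme.Modules.pullback (pullback.snd a b)).obj (DCoh.HD (bdx.obj O).obj (-(g : ℤ))))))]
    (F : X.Modules) (hFc : Coh.IsCoh F) (hF : DCoh.IsPerfect (DCoh.inD X F))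
    [DCoh.HasLTensorCx ((HomologicalComplex.single X.Modules (ComplexShape.up ℤ) 0).obj F)] [DCoh.HasRSheafHom ((HomologicalComplex.single X.Modules (ComplexShape.up ℤ) 0).obj F)]
    (k' : ℕ)
    (hGV : ∀ (i : ℕ) (y : ↥Y), y ∈ CohB1.support (DCoh.HD ((FMK.phi a b ((HomologicalComplex.single (pullback a b).Modules (ComplexShape.up ℤ) 0).obj P₀)).obj (DCoh.inD X F)) (i : ℤ)) →
      ((i - k' : ℕ) : WithBot ℕ∞) ≤ ringKrullDim ↑(Y.presheaf.stalk y))
    (i : ℤ) (hi : i < (d : ℤ) - k' ∨ (d : ℤ) < i) :
    IsZero (DCoh.HD ((FMK.phi a b ((HomologicalComplex.single (pullback a b).Modules (ComplexShape.up ℤ) 0).obj (CohB1.tensorMod ((DCoh.sheafHom P₀).obj (Coh.structureModule (pullback a b))) ((Scheme.Modules.pullback (pullback.snd a b)).obj (DCoh.HD (bdx.obj O).obj (-(g : ℤ))))))).obj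
      ((DCoh.RSheafHom ((HomologicalComplex.single X.Modules (ComplexShape.up ℤ) 0).obj F)).obj (DCoh.inD X (DCoh.HD (adx.obj O).obj (-(d : ℤ)))))) i) := by
  obtain ⟨eO⟩ := hO
  exact KExact.DualTwistVan.isZero_transform_dual k X Y a b hXcm hYcm d hXeq g hg.le hYeq ha adx adja hb bdx adjb O eO
    P₀ ((DCoh.sheafHom P₀).obj (Coh.structureModule (pullback a b))) hP₀ ((S9524.sheafHomIso P₀).app (Coh.structureModule (pullback a b))).symm F hFc hF k' hGV i hi
end Groth.Agent.S16384
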