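import Groth.Statements.S16387
import Groth.Agent.AVTors.TatePt
-- import your own Groth.Agent.* helpers here

set_option autoImplicit false
universe u
open CategoryTheory MonoidalCategory CartesianMonoidalCategory MonObj GrpObj AlgebraicGeometry
open AbVar

namespace Groth.Agent.S16387

set_option linter.style.haveILetI false
set_option backward.isDefEq.respectTransparency false
set_option backward.isDefEq.respectTransparency.types false
set_option maxHeartbeats 1000000

/-- Let k be a finite field with algebraic closure Ω, l a prime number invertible in k, and A, B abelian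
varieties over k (proper, geometrically integral commutative group schemes over k). If the
homomorphism i : A → B is injective (a closed immersion), then the induced ℤ_l-linear map between
the l-adic Tate modules of Ω-points T_l(i) : T_l A → T_l B is injective with torsion-free, hence
free, cokernel: the quotient of T_l B by the image of T_l A is a free ℤ_l-module. -/
theorem result (k Ω : Type u) [Field k] [Finite k]
    [Field Ω] [Algebra k Ω] [IsAlgClosure k Ω] (l : ℕ) [Fact l.Prime] (hl : (l : k) ≠ 0)
    (A B : Over (Spec (CommRingCat.of k))) [GrpObj A] [IsCommMonObj A] [IsProper A.hom] [GeometricallyIntegral A.hom]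
    [GrpObj B] [IsCommMonObj B] [IsProper B.hom] [GeometricallyIntegral B.hom]
    (i : A ⟶ B) [IsMonHom i] [IsClosedImmersion i.left] :
    Function.Injective (AbDual.tateMapₗ (l := l) (T := SGA7.pt Ω) i) ∧
      Module.Free ℤ_[l] (AbDual.TateMod B l (SGA7.pt Ω) ⧸
        LinearMap.range (AbDual.tateMapₗ (l := l) (T := SGA7.pt Ω) i)) := by
  haveI : IsAlgClosed Ω := IsAlgClosure.isAlgClosed k
  haveI : Mono i := Over.mono_of_mono_left i
  obtain ⟨g, hg⟩ := AVTors.exists_dimNat B
  obtain ⟨Φ⟩ := AVTors.exists_linearEquiv_pt Ω B hg l hl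
  haveI : Module.Finite ℤ_[l] (AbDual.TateMod B l (SGA7.pt (K := k) Ω)) := Module.Finite.equiv Φ
  let M := AbDual.TateMod A l (SGA7.pt (K := k) Ω)
  let f : M →ₗ[ℤ_[l]] AbDual.TateMod B l (SGA7.pt (K := k) Ω) := AbDual.tateMapₗ (l := l) i
  have hc : ∀ (x : M) n, AVTors.cpt n (f x) = Additive.ofMul ((AVTors.cpt n x).toMul ≫ i) := fun _ _ => rfl
  have hinj : Function.Injective f := fun x y h => AbDual.TateMod.ext fun n => by
    have h' : Additive.ofMul ((AVTors.cpt n x).toMul ≫ i) = Additive.ofMul ((AVTors.cpt n y).toMul ≫ i) := by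
      rw [← hc, ← hc, h]
    exact congrArg Additive.ofMul ((cancel_mono i).1 (Additive.ofMul.injective h'))
  have hsat : ∀ y, (l : ℤ_[l]) • y ∈ LinearMap.range f → y ∈ LinearMap.range f := by
    rintro y ⟨x, hx⟩
    have h1 : AVTors.cpt 1 x = 0 := by
      have h2 := congrArg (AVTors.cpt 1) hx
      rw [hc, AVTors.natCast_smul_eq, AVTors.cpt_nsmul] at h2
      have h3 : l • AVTors.cpt 1 y = 0 := by
        have := AbDual.TateMod.torsion y 1
        rwa [pow_one] at this
      rw [h3] at h2
      refine congrArg Additive.ofMul ((cancel_mono i).1 ?_)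
      rw [MonObj.one_comp]
      exact congrArg Additive.toMul h2
    obtain ⟨x', hx'⟩ := AVTors.exists_eq_pow_smul x 1 h1
    refine ⟨x', sub_eq_zero.1 (AVTors.eq_zero_of_l_smul _ ?_)⟩
    rw [smul_sub, ← map_smul, ← pow_one (l : ℤ_[l]), hx', pow_one, hx, sub_self]
  haveI : Module.IsTorsionFree ℤ_[l] (AbDual.TateMod B l (SGA7.pt (K := k) Ω) ⧸ LinearMap.range f) := by
    refine Module.IsTorsionFree.of_smul_eq_zero fun c q hcq => ?_
    by_cases hc0 : c = 0
    · exact Or.inl hc0
    refine Or.inr ?_
    obtain ⟨y, rfl⟩ := Submodule.Quotient.mk_surjective _ q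
    rw [← Submodule.Quotient.mk_smul, Submodule.Quotient.mk_eq_zero] at hcq
    rw [Submodule.Quotient.mk_eq_zero]
    obtain ⟨u, n, rfl⟩ : ∃ (u : ℤ_[l]ˣ) (n : ℕ), c = u * (l : ℤ_[l]) ^ n := ⟨_, _, PadicInt.unitCoeff_spec hc0⟩
    rw [mul_smul] at hcq
    have h1 : ((l : ℤ_[l]) ^ n) • y ∈ LinearMap.range f := by
      have h := (LinearMap.range f).smul_mem ((u⁻¹ : ℤ_[l]ˣ) : ℤ_[l]) hcq
      rwa [← mul_smul, Units.inv_mul, one_smul] at h
    clear hcq hc0
    induction n generalizing y with
    | zero => rwa [pow_zero, one_smul] at h1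
    | succ n ih =>
      refine ih y (hsat _ ?_)
      rwa [← mul_smul, ← pow_succ']
  exact ⟨hinj, Module.free_of_finite_type_torsion_free'⟩

end Groth.Agent.S16387
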