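import Groth.Statements.S16388
import Groth.Agent.AVTate.Isogeny
import Groth.Agent.AVTate.Cube
import Groth.Agent.S19862
-- import your own Groth.Agent.* helpers here

set_option linter.style.haveILetI false
set_option backward.isDefEq.respectTransparency false
set_option backward.isDefEq.respectTransparency.types false
set_option maxHeartbeats 2000000
set_option synthInstance.maxHeartbeats 400000
set_option autoImplicit false
universe u
open CategoryTheory MonoidalCategory CartesianMonoidalCategory MonObj GrpObj AlgebraicGeometry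
open AbVar

namespace Groth.Agent.S16388

open Groth.Agent.AVTate in
/-- An equivariant isomorphism of Tate modules comes from an isogeny of degree prime to `l`. -/
theorem exists_prime_to_isogeny {k Ω : Type u} [Field k] [Finite k] [Field Ω] [Algebra k Ω] [IsAlgClosure k Ω]
    {l : ℕ} [Fact l.Prime] (hl : (l : k) ≠ 0) {A B : Over (Spec (CommRingCat.of k))}
    [GrpObj A] [IsCommMonObj A] [IsProper A.hom] [GeometricallyIntegral A.hom]
    [GrpObj B] [IsCommMonObj B] [IsProper B.hom] [GeometricallyIntegral B.hom]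
    {πA : A ⟶ A} [IsMonHom πA] (hA : IsFrob A πA) {πB : B ⟶ B} [IsMonHom πB] (hB : IsFrob B πB)
    [Module.Free ℤ_[l] (AbDual.TateMod A l (SGA7.pt Ω))] [Module.Finite ℤ_[l] (AbDual.TateMod A l (SGA7.pt Ω))]
    [Module.Free ℤ_[l] (AbDual.TateMod B l (SGA7.pt Ω))] [Module.Finite ℤ_[l] (AbDual.TateMod B l (SGA7.pt Ω))]
    (ρA : (Ω ≃ₐ[k] Ω) → Module.End ℤ_[l] (AbDual.TateMod A l (SGA7.pt Ω)))
    (hρA : ∀ (τ : Ω ≃ₐ[k] Ω) (z : AbDual.TateMod A l (SGA7.pt Ω)) (m : ℕ),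
      (AbDual.TateMod.component A l (SGA7.pt Ω) m (ρA τ z)).toMul =
        SGA7.galAct τ (AbDual.TateMod.component A l (SGA7.pt Ω) m z).toMul)
    (ρB : (Ω ≃ₐ[k] Ω) → Module.End ℤ_[l] (AbDual.TateMod B l (SGA7.pt Ω)))
    (hρB : ∀ (τ : Ω ≃ₐ[k] Ω) (z : AbDual.TateMod B l (SGA7.pt Ω)) (m : ℕ),
      (AbDual.TateMod.component B l (SGA7.pt Ω) m (ρB τ z)).toMul =
        SGA7.galAct τ (AbDual.TateMod.component B l (SGA7.pt Ω) m z).toMul)
    (e : AbDual.TateMod A l (SGA7.pt Ω) ≃ₗ[ℤ_[l]] AbDual.TateMod B l (SGA7.pt Ω))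
    (he : ∀ τ, e.toLinearMap ∘ₗ ρA τ = ρB τ ∘ₗ e.toLinearMap) :
    ∃ (f : A ⟶ B) (_ : IsMonHom f) (g : B ⟶ A) (_ : IsMonHom g) (N : ℕ), 0 < N ∧ ¬ l ∣ N ∧
      f ≫ g = (𝟙 A) ^ N ∧ g ≫ f = (𝟙 B) ^ N := by
  haveI : IsAlgClosed Ω := IsAlgClosure.isAlgClosed k
  obtain ⟨τ, e1, e2⟩ := exists_rho_eq hA hB ρA hρA ρB hρB
  have h := he τ
  rw [e1, e2] at h
  obtain ⟨c, hc⟩ := Finsupp.mem_span_range_iff_exists_finsupp.1
    (mem_span_of_commute hl (cubeEmbeds k) hA hB e.toLinearMap h)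
  let n : ℤ_[l] → ℕ := fun a => a.appr 1
  have hn : ∀ a : ℤ_[l], ∃ b, a = (n a : ℤ_[l]) + (l : ℤ_[l]) * b := fun a => by
    have h1 := PadicInt.appr_spec 1 a
    rw [pow_one, Ideal.mem_span_singleton] at h1
    obtain ⟨b, hb⟩ := h1
    exact ⟨b, by rw [← hb]; ring⟩
  choose b hb using hn
  let f : EndAV.Hom A B := ∑ φ ∈ c.support, n (c φ) • φ
  let w : AbDual.TateMod A l (SGA7.pt Ω) →ₗ[ℤ_[l]] AbDual.TateMod B l (SGA7.pt Ω) :=
    ∑ φ ∈ c.support, b (c φ) • EndAV.Hom.tateMap l (SGA7.pt Ω) φ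
  have hsplit : e.toLinearMap = EndAV.Hom.tateMap l (SGA7.pt Ω) f + (l : ℤ_[l]) • w := by
    rw [← hc, map_sum, Finset.smul_sum, ← Finset.sum_add_distrib, Finsupp.sum]
    refine Finset.sum_congr rfl fun φ _ => ?_
    rw [map_nsmul, smul_smul, ← Nat.cast_smul_eq_nsmul ℤ_[l], ← add_smul, ← hb]
  have hdet : IsUnit (LinearMap.det (e.symm.toLinearMap ∘ₗ EndAV.Hom.tateMap l (SGA7.pt Ω) f)) :=
    isUnit_det_of_congr _ (-(e.symm.toLinearMap ∘ₗ w)) (LinearMap.ext fun x => by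
      have hx := congrArg e.symm (LinearMap.congr_fun hsplit x)
      simp only [LinearEquiv.coe_coe, LinearEquiv.symm_apply_apply, LinearMap.add_apply, LinearMap.smul_apply,
        map_add, map_smul] at hx
      simp only [LinearMap.coe_comp, LinearEquiv.coe_coe, Function.comp_apply, LinearMap.add_apply, Module.End.one_apply,
        LinearMap.smul_apply, LinearMap.neg_apply, smul_neg]
      rw [← sub_eq_add_neg, eq_sub_iff_add_eq, ← hx])
  have hbij : Function.Bijective (EndAV.Hom.tateMap l (SGA7.pt Ω) f) := by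
    have h1 := (LinearMap.equivOfIsUnitDet hdet).bijective
    have h2 := e.bijective.comp h1
    convert h2 using 1
    funext x
    simp
  obtain ⟨g, N, hN, hfg, hgf⟩ := exists_inverse Ω l hl f
    ((LinearEquiv.ofBijective _ hbij).baseChange ℤ_[l] ℚ_[l] _ _).bijective
  obtain ⟨a, N', hN', rfl⟩ := Nat.exists_eq_pow_mul_and_not_dvd hN.ne' l (Fact.out : l.Prime).ne_one
  let F := LinearEquiv.ofBijective _ hbij
  have hG : EndAV.Hom.tateMap l (SGA7.pt Ω) g = (l : ℤ_[l]) ^ a • ((N' : ℤ_[l]) • F.symm.toLinearMap) := by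
    refine LinearMap.ext fun y => ?_
    obtain ⟨x, rfl⟩ := F.surjective y
    have h1 := LinearMap.congr_fun (congrArg (EndAV.Hom.tateMap l (SGA7.pt Ω)) hfg) x
    rw [tateMap_comp, map_nsmul, tateMap_id, LinearMap.smul_apply, LinearMap.id_apply] at h1
    refine h1.trans ?_
    rw [LinearMap.smul_apply, LinearMap.smul_apply, LinearEquiv.coe_coe, F.symm_apply_apply, smul_smul, ← Nat.cast_pow,
      ← Nat.cast_mul, Nat.cast_smul_eq_nsmul]
  obtain ⟨g', hg', hgg⟩ := Groth.Agent.S19862.result k Ω l hl B A g.toHom a _ hG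
  haveI := hg'
  have hga : g = l ^ a • EndAV.Hom.of g' := EndAV.Hom.ext (by
    rw [EndAV.Hom.toHom_nsmul, EndAV.Hom.toHom_of, hgg, MonObj.pow_comp, Category.id_comp])
  haveI := (Groth.Agent.AVEnd0.free_finite_end (A := A)).1
  haveI := (Groth.Agent.AVEnd0.free_finite_end (A := B)).1
  have hla : l ^ a ≠ 0 := pow_ne_zero _ (Fact.out : l.Prime).ne_zero
  rw [hga, Preadditive.comp_nsmul, mul_smul] at hfg
  rw [hga, Preadditive.nsmul_comp, mul_smul] at hgf
  have h1 : f ≫ EndAV.Hom.of g' = N' • 𝟙 (CommGrp.mk A) := (smul_right_injective (EndAV.End A) (Int.natCast_ne_zero.2 hla)) (by simpa only [natCast_zsmul] using hfg)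
  have h2 : EndAV.Hom.of g' ≫ f = N' • 𝟙 (CommGrp.mk B) := (smul_right_injective (EndAV.End B) (Int.natCast_ne_zero.2 hla)) (by simpa only [natCast_zsmul] using hgf)
  refine ⟨f.toHom, inferInstance, g', hg', N', Nat.pos_of_ne_zero fun e => hN' (e ▸ dvd_zero l), hN', ?_, ?_⟩
  · have h := congrArg EndAV.Hom.toHom h1
    rw [EndAV.Hom.toHom_comp, EndAV.Hom.toHom_of, EndAV.Hom.toHom_nsmul, EndAV.Hom.toHom_id] at h
    exact h
  · have h := congrArg EndAV.Hom.toHom h2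
    rw [EndAV.Hom.toHom_comp, EndAV.Hom.toHom_of, EndAV.Hom.toHom_nsmul, EndAV.Hom.toHom_id] at h
    exact h


/-- For a single prime l different from the characteristic; let k be a finite field with algebraic
closure Ω, l a prime number invertible in k, and A, B abelian varieties over k (proper,
geometrically integral commutative group schemes over k). For each k-automorphism τ of Ω let ρ_A(τ),
ρ_B(τ) be the ℤ_l-linear endomorphisms of the l-adic Tate modules of Ω-points T_l A, T_l B which act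
on every component by the Galois action of τ (this pins them). Then T_l A and T_l B are isomorphic
as Galois modules — there is a ℤ_l-linear isomorphism e with e ∘ ρ_A(τ) = ρ_B(τ) ∘ e for all τ — if
and only if there is an isogeny A → B of degree prime to l, expressed here as: homomorphisms f : A →
B and g : B → A and an integer N ≥ 1 not divisible by l such that g ∘ f is multiplication by N on A
and f ∘ g is multiplication by N on B. -/
theorem result (k Ω : Type u)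
    [Field k] [Finite k] [Field Ω] [Algebra k Ω] [IsAlgClosure k Ω] (l : ℕ) [Fact l.Prime] (hl : (l : k) ≠ 0)
    (A B : Over (Spec (CommRingCat.of k))) [GrpObj A] [IsCommMonObj A] [IsProper A.hom] [GeometricallyIntegral A.hom]
    [GrpObj B] [IsCommMonObj B] [IsProper B.hom] [GeometricallyIntegral B.hom]
    (ρA : (Ω ≃ₐ[k] Ω) → Module.End ℤ_[l] (AbDual.TateMod A l (SGA7.pt Ω)))
    (hρA : ∀ (τ : Ω ≃ₐ[k] Ω) (z : AbDual.TateMod A l (SGA7.pt Ω)) (m : ℕ),
      (AbDual.TateMod.component A l (SGA7.pt Ω) m (ρA τ z)).toMul =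
        SGA7.galAct τ (AbDual.TateMod.component A l (SGA7.pt Ω) m z).toMul)
    (ρB : (Ω ≃ₐ[k] Ω) → Module.End ℤ_[l] (AbDual.TateMod B l (SGA7.pt Ω)))
    (hρB : ∀ (τ : Ω ≃ₐ[k] Ω) (z : AbDual.TateMod B l (SGA7.pt Ω)) (m : ℕ),
      (AbDual.TateMod.component B l (SGA7.pt Ω) m (ρB τ z)).toMul =
        SGA7.galAct τ (AbDual.TateMod.component B l (SGA7.pt Ω) m z).toMul) :
    (∃ e : AbDual.TateMod A l (SGA7.pt Ω) ≃ₗ[ℤ_[l]] AbDual.TateMod B l (SGA7.pt Ω),
        ∀ τ : Ω ≃ₐ[k] Ω, e.toLinearMap ∘ₗ ρA τ = ρB τ ∘ₗ e.toLinearMap) ↔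
      ∃ (f : A ⟶ B) (_ : IsMonHom f) (g : B ⟶ A) (_ : IsMonHom g) (N : ℕ), 0 < N ∧ ¬ l ∣ N ∧
        f ≫ g = (𝟙 A) ^ N ∧ g ≫ f = (𝟙 B) ^ N := by
  haveI : IsAlgClosed Ω := IsAlgClosure.isAlgClosed k
  obtain ⟨πA, hπA, hA⟩ := Groth.Agent.AVTate.exists_isFrob A
  obtain ⟨πB, hπB, hB⟩ := Groth.Agent.AVTate.exists_isFrob B
  haveI := hπA
  haveI := hπB
  obtain ⟨hfA, hfA'⟩ := Groth.Agent.AVTate.free_finite_tate (A := A) (Ω := Ω) hl
  obtain ⟨hfB, hfB'⟩ := Groth.Agent.AVTate.free_finite_tate (A := B) (Ω := Ω) hl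
  haveI := hfA; haveI := hfA'; haveI := hfB; haveI := hfB'
  constructor
  · rintro ⟨e, he⟩
    exact exists_prime_to_isogeny hl hA hB ρA hρA ρB hρB e he
  · rintro ⟨f, hf, g, hg, N, hN0, hN, h1, h2⟩
    haveI := hf
    haveI := hg
    let F := EndAV.Hom.tateMap (A := A) (B := B) l (SGA7.pt Ω) (EndAV.Hom.of f)
    let G := EndAV.Hom.tateMap (A := B) (B := A) l (SGA7.pt Ω) (EndAV.Hom.of g)
    have hu : IsUnit (N : ℤ_[l]) := PadicInt.isUnit_iff.2 (PadicInt.norm_natCast_eq_one_iff.2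
      ((Fact.out : l.Prime).coprime_iff_not_dvd.2 hN))
    have e1 : ∀ x, G (F x) = (N : ℤ_[l]) • x := fun x => by
      rw [← LinearMap.comp_apply, ← Groth.Agent.AVTate.tateMap_comp,
        show EndAV.Hom.of f ≫ EndAV.Hom.of g = N • 𝟙 (CommGrp.mk A) from EndAV.Hom.ext (by
          rw [EndAV.Hom.toHom_nsmul, EndAV.Hom.toHom_comp, EndAV.Hom.toHom_id]; exact h1),
        map_nsmul, Groth.Agent.AVTate.tateMap_id, LinearMap.smul_apply, LinearMap.id_apply, Nat.cast_smul_eq_nsmul]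
    have e2 : ∀ x, F (G x) = (N : ℤ_[l]) • x := fun x => by
      rw [← LinearMap.comp_apply, ← Groth.Agent.AVTate.tateMap_comp,
        show EndAV.Hom.of g ≫ EndAV.Hom.of f = N • 𝟙 (CommGrp.mk B) from EndAV.Hom.ext (by
          rw [EndAV.Hom.toHom_nsmul, EndAV.Hom.toHom_comp, EndAV.Hom.toHom_id]; exact h2),
        map_nsmul, Groth.Agent.AVTate.tateMap_id, LinearMap.smul_apply, LinearMap.id_apply, Nat.cast_smul_eq_nsmul]
    have hb : Function.Bijective F := ⟨fun x y h => hu.smul_left_cancel.1 (by rw [← e1, h, e1]),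
      fun y => ⟨(hu.unit⁻¹ : ℤ_[l]ˣ).1 • G y, by rw [map_smul, e2, smul_smul, hu.val_inv_mul, one_smul]⟩⟩
    exact ⟨LinearEquiv.ofBijective F hb, fun τ => Groth.Agent.AVTate.tateMap_rho (EndAV.Hom.of f) ρA hρA ρB hρB τ⟩

end Groth.Agent.S16388
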