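import Groth.Statements.S16390
import Mathlib.NumberTheory.Padics.Hensel
import Mathlib.Analysis.Complex.Norm
import Mathlib.Algebra.Polynomial.SpecificDegree
import Mathlib.Tactic.Linarith
import Mathlib.Tactic.ComputeDegree
import Mathlib.Tactic.LinearCombination
import Mathlib.Tactic.Positivity
import Mathlib.Tactic.Ring

set_option autoImplicit false
open AbVar

namespace Groth.Agent.S16390

/-- Let p be a prime number, r > 2 and q = p^r. The polynomial x² − p x + q is irreducible over ℚ, each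
of its complex roots has absolute value √q (so its roots are Weil q-numbers), and it has two
distinct roots in ℚ_p, of p-adic valuations 1 and r − 1. The published lemma also computes the index
of the endomorphism algebra of the simple abelian variety attached to a root; this row does not
state that part. -/
theorem result (p r : ℕ) [Fact p.Prime] (hr : 2 < r) :
    Irreducible (Polynomial.X ^ 2 - Polynomial.C (p : ℚ) * Polynomial.X + Polynomial.C ((p : ℚ) ^ r)) ∧
      (∀ π : ℂ, π ^ 2 - (p : ℂ) * π + (p : ℂ) ^ r = 0 → ‖π‖ = Real.sqrt ((p : ℝ) ^ r)) ∧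
      ∃ a b : ℚ_[p], a ≠ b ∧ a ^ 2 - (p : ℚ_[p]) * a + (p : ℚ_[p]) ^ r = 0 ∧
        b ^ 2 - (p : ℚ_[p]) * b + (p : ℚ_[p]) ^ r = 0 ∧ a.valuation = 1 ∧ b.valuation = (r : ℤ) - 1 := by
  have hp : p.Prime := Fact.out
  have hP : (0 : ℝ) < p := by exact_mod_cast hp.pos
  have hdisc : (p : ℝ) ^ 2 < 4 * (p : ℝ) ^ r := by
    have h1 : (p : ℝ) ^ 2 ≤ (p : ℝ) ^ r := pow_le_pow_right₀ (by exact_mod_cast hp.one_le) hr.le
    have : (0 : ℝ) < (p : ℝ) ^ r := pow_pos hP r
    linarith
  have noroot : ∀ x : ℝ, x ^ 2 - p * x + (p : ℝ) ^ r ≠ 0 := by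
    intro x hx
    nlinarith [sq_nonneg (2 * x - p)]
  refine ⟨?_, ?_, ?_⟩
  · have hdeg : (Polynomial.X ^ 2 - Polynomial.C (p : ℚ) * Polynomial.X + Polynomial.C ((p : ℚ) ^ r)).natDegree = 2 := by
      compute_degree!
    refine (Polynomial.irreducible_iff_roots_eq_zero_of_degree_le_three hdeg.ge (by omega)).mpr ?_
    refine Multiset.eq_zero_of_forall_notMem fun x hx => noroot (x : ℝ) ?_
    have := (Polynomial.mem_roots'.mp hx).2
    simp only [Polynomial.IsRoot, Polynomial.eval_add, Polynomial.eval_sub, Polynomial.eval_pow,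
      Polynomial.eval_X, Polynomial.eval_mul, Polynomial.eval_C] at this
    exact_mod_cast this
  · intro π hπ
    have him : π.im ≠ 0 := by
      intro h0
      refine noroot π.re ?_
      have := congrArg Complex.re hπ
      rw [← Complex.ofReal_natCast, ← Complex.ofReal_pow, Complex.add_re, Complex.sub_re, Complex.ofReal_re] at this
      simp [pow_two, h0] at this ⊢
      linarith
    have hre := congrArg Complex.re hπ
    have hi := congrArg Complex.im hπ
    rw [← Complex.ofReal_natCast, ← Complex.ofReal_pow, Complex.add_re, Complex.sub_re, Complex.ofReal_re] at hre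
    rw [← Complex.ofReal_natCast, ← Complex.ofReal_pow, Complex.add_im, Complex.sub_im, Complex.ofReal_im] at hi
    simp [pow_two] at hre hi
    have h2 : 2 * π.re = p := mul_right_cancel₀ him (by linarith)
    rw [Complex.norm_def, Complex.normSq_apply]
    congr 1
    nlinarith [hre, h2]
  · let F : Polynomial ℤ_[p] := Polynomial.X ^ 2 - Polynomial.X + Polynomial.C ((p : ℤ_[p]) ^ (r - 2))
    have h0 : F.aeval (1 : ℤ_[p]) = (p : ℤ_[p]) ^ (r - 2) := by simp [F]
    have h1 : F.derivative.aeval (1 : ℤ_[p]) = 1 := by simp [F]; norm_num [Polynomial.derivative_pow]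
    have hlt : ‖F.aeval (1 : ℤ_[p])‖ < ‖F.derivative.aeval (1 : ℤ_[p])‖ ^ 2 := by
      rw [h0, h1, norm_one, one_pow, norm_pow, PadicInt.norm_p]
      exact pow_lt_one₀ (by positivity) (inv_lt_one_of_one_lt₀ (by exact_mod_cast hp.one_lt)) (by omega)
    obtain ⟨z, hz, hzd, -, -⟩ := hensels_lemma hlt
    rw [h1, norm_one] at hzd
    have hz1 : ‖z‖ = 1 := by
      have := PadicInt.norm_add_eq_max_of_ne (q := z - 1) (r := 1) (by rw [norm_one]; exact hzd.ne)
      rwa [sub_add_cancel, norm_one, max_eq_right hzd.le] at this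
    have hzu : z.valuation = 0 := by
      have := PadicInt.norm_eq_zpow_neg_valuation (x := z) (by intro h; simp [h] at hz1)
      rw [hz1] at this
      have h2 := (zpow_eq_one_iff_right₀ (by positivity) (by exact_mod_cast hp.one_lt.ne')).mp this.symm
      omega
    have hz' : (z : ℚ_[p]) ^ 2 - z + (p : ℚ_[p]) ^ (r - 2) = 0 := by
      simp [F] at hz
      exact_mod_cast congrArg ((↑) : ℤ_[p] → ℚ_[p]) hz
    have hpr : (p : ℚ_[p]) ^ r = (p : ℚ_[p]) ^ 2 * (p : ℚ_[p]) ^ (r - 2) := by
      rw [← pow_add]; congr 1; omega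
    have hp0 : (p : ℚ_[p]) ≠ 0 := Nat.cast_ne_zero.mpr hp.ne_zero
    have hzne : (z : ℚ_[p]) ≠ 0 := fun h => by
      have h' : ‖(z : ℚ_[p])‖ = 1 := hz1
      rw [h, norm_zero] at h'; exact zero_ne_one h'
    have hva : ((p : ℚ_[p]) * z).valuation = 1 := by
      rw [Padic.valuation_mul hp0 hzne, Padic.valuation_p, PadicInt.valuation_coe, hzu]; rfl
    have hb : (p : ℚ_[p]) * (1 - z) = (p : ℚ_[p]) ^ (r - 1) / z := by
      rw [eq_div_iff hzne, show r - 1 = (r - 2) + 1 by omega, pow_succ']
      linear_combination -(p : ℚ_[p]) * hz'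
    have hvb : ((p : ℚ_[p]) * (1 - z)).valuation = (r : ℤ) - 1 := by
      rw [hb, div_eq_mul_inv, Padic.valuation_mul (pow_ne_zero _ hp0) (inv_ne_zero hzne),
        Padic.valuation_inv, Padic.valuation_pow, Padic.valuation_p, PadicInt.valuation_coe, hzu]
      push_cast [Nat.cast_sub (show 1 ≤ r by omega)]
      ring
    refine ⟨p * z, p * (1 - z), fun h => ?_, ?_, ?_, hva, hvb⟩
    · rw [← h, hva] at hvb; omega
    · linear_combination (p : ℚ_[p]) ^ 2 * hz' + hpr
    · linear_combination (p : ℚ_[p]) ^ 2 * hz' + hpr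


end Groth.Agent.S16390
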