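import Groth.Statements.S16393
import Groth.Agent.AVTors.AntiEquiv

set_option autoImplicit false
set_option linter.style.haveILetI false
set_option backward.isDefEq.respectTransparency false
set_option backward.isDefEq.respectTransparency.types false
set_option maxHeartbeats 2000000
set_option synthInstance.maxHeartbeats 200000
universe u
open CategoryTheory MonoidalCategory CartesianMonoidalCategory MonObj GrpObj AlgebraicGeometry
open AbVar

namespace Groth.Agent.S16393

/-- (a₁) ⇒ (b₁): let k be a finite field with q elements and fix a polynomial P with integer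
coefficients. Work with abelian varieties over k (proper, geometrically integral commutative group
schemes over k) with their q-Frobenius endomorphism π (identity on points, q-th power on sections; a
homomorphism) such that P(π) = 0 in the endomorphism ring (for suitable P: the abelian varieties
with Weil support in a given finite set of Weil q-numbers); let A be one of them. Assume (a₁): the
functor X ↦ Hom(X, A), with values in left End(A)-modules (End(A) acting by postcomposition), is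
fully faithful on these abelian varieties — for such X, Y, two homomorphisms X → Y agreeing after
composition with every homomorphism Y → A are equal, and every additive End(A)-linear map Hom(Y, A)
→ Hom(X, A) is precomposition with a homomorphism X → Y. Then (b₁): for such X and every finite
closed subgroup scheme H ⊆ X, H equals the common kernel of the homomorphisms X → A vanishing on H;
on points: a T-valued point of X over k which is sent to the unit by every homomorphism X → A
killing H factors through H. -/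
theorem result
    (k : Type u) [Field k] [Finite k]
    (P : Polynomial ℤ) (A : Over (Spec (CommRingCat.of k))) [GrpObj A] [IsCommMonObj A] [IsProper A.hom] [GeometricallyIntegral A.hom]
    (πA : A ⟶ A) [IsMonHom πA] (hπAb : πA.left.base = 𝟙 _) (hπAle : ∀ U : A.left.Opens, U ≤ πA.left ⁻¹ᵁ U)
      (hπAapp : ∀ (U : A.left.Opens) (s : Γ(A.left, U)), (πA.left.appLE U U (hπAle U)).hom s = s ^ Nat.card k)
    (hPA : Polynomial.eval₂ (Int.castRingHom (EndAV.End A)) (EndAV.End.of πA) P = 0)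
    (hff : ∀ (X Y : Over (Spec (CommRingCat.of k))) [GrpObj X] [IsCommMonObj X] [IsProper X.hom] [GeometricallyIntegral X.hom]
      [GrpObj Y] [IsCommMonObj Y] [IsProper Y.hom] [GeometricallyIntegral Y.hom]
      (πX : X ⟶ X) [IsMonHom πX] (hπXb : πX.left.base = 𝟙 _) (hπXle : ∀ U : X.left.Opens, U ≤ πX.left ⁻¹ᵁ U)
      (hπXapp : ∀ (U : X.left.Opens) (s : Γ(X.left, U)), (πX.left.appLE U U (hπXle U)).hom s = s ^ Nat.card k)
      (hPX : Polynomial.eval₂ (Int.castRingHom (EndAV.End X)) (EndAV.End.of πX) P = 0)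
      (πY : Y ⟶ Y) [IsMonHom πY] (hπYb : πY.left.base = 𝟙 _) (hπYle : ∀ U : Y.left.Opens, U ≤ πY.left ⁻¹ᵁ U)
      (hπYapp : ∀ (U : Y.left.Opens) (s : Γ(Y.left, U)), (πY.left.appLE U U (hπYle U)).hom s = s ^ Nat.card k)
      (hPY : Polynomial.eval₂ (Int.castRingHom (EndAV.End Y)) (EndAV.End.of πY) P = 0),
      (∀ f g : EndAV.Hom X Y, (∀ φ : EndAV.Hom Y A, f ≫ φ = g ≫ φ) → f = g) ∧
        (∀ g : EndAV.Hom Y A →+ EndAV.Hom X A,
          (∀ (φ : EndAV.Hom Y A) (s : EndAV.Hom A A), g (φ ≫ s) = g φ ≫ s) →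
            ∃ f : EndAV.Hom X Y, ∀ φ : EndAV.Hom Y A, g φ = f ≫ φ))
    (X : Over (Spec (CommRingCat.of k))) [GrpObj X] [IsCommMonObj X] [IsProper X.hom] [GeometricallyIntegral X.hom]
    (πX : X ⟶ X) [IsMonHom πX] (hπXb : πX.left.base = 𝟙 _) (hπXle : ∀ U : X.left.Opens, U ≤ πX.left ⁻¹ᵁ U)
      (hπXapp : ∀ (U : X.left.Opens) (s : Γ(X.left, U)), (πX.left.appLE U U (hπXle U)).hom s = s ^ Nat.card k)
    (hPX : Polynomial.eval₂ (Int.castRingHom (EndAV.End X)) (EndAV.End.of πX) P = 0)
    (H : Over (Spec (CommRingCat.of k))) [GrpObj H] [IsFinite H.hom] (i : H ⟶ X) [IsMonHom i] [IsClosedImmersion i.left]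
    (T : Over (Spec (CommRingCat.of k))) (x : T ⟶ X)
    (hx : ∀ f : EndAV.Hom X A, i ≫ f.toHom = 1 → x ≫ f.toHom = 1) :
    ∃ y : T ⟶ H, y ≫ i = x := by
  obtain ⟨Q, iQ, iQc, iQp, iQg, πQ, iπQ, hπQb, hπQle, hπQapp, hPQ, q, hqs, hqk⟩ :=
    Groth.Agent.AVTors.AntiEquiv.exists_quot_frob P πX hπXle hπXapp hPX i
  obtain ⟨hfaith, -⟩ := hff Q Q πQ hπQb hπQle hπQapp hPQ πQ hπQb hπQle hπQapp hPQ
  obtain ⟨gq, hgq⟩ := Groth.Agent.AVTors.exists_dimNat Q
  obtain ⟨ga, hga⟩ := Groth.Agent.AVTors.exists_dimNat A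
  haveI : Module.Finite ℤ (EndAV.Hom Q A) := (Groth.Agent.AVHomLattice.free_finite (A := Q) (B := A) hgq hga).2.1
  obtain ⟨n, ψ, hψ⟩ := Module.Finite.exists_fin (R := ℤ) (M := EndAV.Hom Q A)
  have hspan : ∀ (p : EndAV.Hom Q A → Prop), p 0 → (∀ a b, p a → p b → p (a + b)) → (∀ (c : ℤ) a, p a → p (c • a)) →
      (∀ j, p (ψ j)) → ∀ φ, p φ := by
    intro p h0 hadd hsmul hj φ
    have hφ : φ ∈ Submodule.span ℤ (Set.range ψ) := hψ ▸ Submodule.mem_top
    induction hφ using Submodule.span_induction with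
    | mem x hx => obtain ⟨j, rfl⟩ := hx; exact hj j
    | zero => exact h0
    | add a b _ _ ha hb => exact hadd a b ha hb
    | smul c a _ ha => exact hsmul c a ha
  obtain ⟨N, z, hN, hz⟩ := Groth.Agent.AVTors.AntiEquiv.exists_sum_eq ψ fun v hv => hfaith v 0 fun φ => by
    rw [Limits.zero_comp]
    exact hspan (fun φ => v ≫ φ = 0) Limits.comp_zero (fun a b ha hb => by rw [Preadditive.comp_add, ha, hb, add_zero])
      (fun c a ha => by rw [Preadditive.comp_zsmul, ha, smul_zero]) hv φ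
  obtain ⟨C, iC, c, hcm, hcc, hc1, hcu⟩ := Groth.Agent.AVTors.AntiEquiv.exists_common_kernel ψ
  haveI := hcm
  haveI := hcc
  haveI : IsCommMonObj C := by
    haveI : Mono c := Over.mono_of_mono_left c
    exact ⟨by
      rw [← cancel_mono c, Category.assoc, IsMonHom.mul_hom c, ← Category.assoc,
        BraidedCategory.braiding_naturality c c |>.symm, Category.assoc, IsCommMonObj.mul_comm]⟩
  haveI : IsFinite C.hom := by
    haveI : IsMonHom (𝟙 Q ^ N : Q ⟶ Q) := Groth.Agent.AVDegLib.isMonHom_pow N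
    haveI : IsFinite (𝟙 Q ^ N : Q ⟶ Q).left := by
      obtain ⟨h1, -, -⟩ := Groth.Agent.AVDegLib.zpow_props (A := Q) (N : ℤ) (by exact_mod_cast (by omega : N ≠ 0))
      rwa [zpow_natCast] at h1
    obtain ⟨T', iT', t, htm, htc, -, htk⟩ := Groth.Agent.GrpSchLib.exists_kernel (𝟙 Q ^ N : Q ⟶ Q)
    haveI := htc
    haveI : IsFinite T'.hom := Groth.Agent.H23.KerIsog.prop_ker t _ @IsFinite htk inferInstance
    have hcN : c ≫ (𝟙 Q ^ N : Q ⟶ Q) = 1 := by
      let c' : EndAV.Hom C Q := EndAV.Hom.of c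
      have h : c' ≫ (N • 𝟙 (CommGrp.mk Q)) = 0 := by
        rw [← hz, Preadditive.comp_sum]
        refine Finset.sum_eq_zero fun j _ => ?_
        rw [← Category.assoc, show c' ≫ ψ j = 0 from EndAV.Hom.ext (hc1 j), Limits.zero_comp]
      have h2 := congrArg EndAV.Hom.toHom h
      rw [EndAV.Hom.toHom_comp, EndAV.Hom.toHom_nsmul] at h2
      exact h2
    let l : C ⟶ T' := htk.lift c (toUnit _) (by rw [hcN, Hom.one_def])
    have hl : l ≫ t = c := htk.lift_fst _ _ _
    haveI : IsClosedImmersion l.left := by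
      haveI : IsClosedImmersion (l.left ≫ t.left) := by rw [← Over.comp_left, hl]; infer_instance
      exact IsClosedImmersion.of_comp l.left t.left
    rw [← Over.w l]; infer_instance
  obtain ⟨Q', iQ', iQ'c, iQ'p, iQ'g, πQ', iπQ', hπQ'b, hπQ'le, hπQ'app, hPQ', q', hq's, hq'k⟩ :=
    Groth.Agent.AVTors.AntiEquiv.exists_quot_frob P πQ hπQle hπQapp hPQ c
  haveI := hq's
  have hkill : ∀ φ : EndAV.Hom Q A, (EndAV.Hom.of c : EndAV.Hom C Q) ≫ φ = 0 :=
    hspan _ Limits.comp_zero (fun a b ha hb => by rw [Preadditive.comp_add, ha, hb, add_zero])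
      (fun z a ha => by rw [Preadditive.comp_zsmul, ha, smul_zero]) fun j => EndAV.Hom.ext (hc1 j)
  have hfac : ∀ φ : EndAV.Hom Q A, ∃ g : EndAV.Hom Q' A, q' ≫ g = φ := fun φ => by
    obtain ⟨g, hg, he⟩ := Groth.Agent.AVTors.ChowExist.exists_factor q'.toHom c hq'k φ.toHom
      (congrArg EndAV.Hom.toHom (hkill φ))
    haveI := hg
    exact ⟨EndAV.Hom.of g, EndAV.Hom.ext he⟩
  choose G hG using hfac
  let G' : EndAV.Hom Q A →+ EndAV.Hom Q' A :=
    { toFun := G
      map_zero' := Groth.Agent.AVTors.AntiEquiv.epi_hom q' (by rw [hG, Limits.comp_zero])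
      map_add' := fun a b => Groth.Agent.AVTors.AntiEquiv.epi_hom q' (by rw [hG, Preadditive.comp_add, hG, hG]) }
  obtain ⟨t', ht'⟩ := (hff Q' Q πQ' hπQ'b hπQ'le hπQ'app hPQ' πQ hπQb hπQle hπQapp hPQ).2 G' fun φ s =>
    Groth.Agent.AVTors.AntiEquiv.epi_hom q' (by
      show q' ≫ G (φ ≫ s) = q' ≫ (G φ ≫ s)
      rw [hG, ← Category.assoc, hG])
  have hid : q' ≫ t' = 𝟙 (CommGrp.mk Q) := hfaith _ _ fun φ => by
    rw [Category.assoc, ← ht', Category.id_comp]
    exact hG φ
  have hc : c = 1 := by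
    have h1 : c ≫ q'.toHom = 1 := by rw [hq'k.w, Hom.one_def]
    calc c = c ≫ EndAV.Hom.toHom (q' ≫ t') := by rw [hid]; exact (Category.comp_id c).symm
      _ = 1 := by rw [EndAV.Hom.toHom_comp, ← Category.assoc, h1, MonObj.one_comp]
  obtain ⟨y, hy⟩ := hcu T (x ≫ q.toHom) fun j => by
    rw [Category.assoc, ← EndAV.Hom.toHom_comp]
    refine hx _ ?_
    rw [EndAV.Hom.toHom_comp, ← Category.assoc, hqk.w, ← Hom.one_def, MonObj.one_comp]
  have hxq : x ≫ q.toHom = 1 := by rw [← hy, hc, MonObj.comp_one]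
  exact ⟨hqk.lift x (toUnit _) (by rw [hxq, Hom.one_def]), hqk.lift_fst _ _ _⟩

end Groth.Agent.S16393
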