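import Groth.Statements.S16394
import Groth.Agent.H23.FinCondSch
-- import your own Groth.Agent.* helpers here

set_option autoImplicit false
universe u
open CategoryTheory MonoidalCategory CartesianMonoidalCategory MonObj GrpObj AlgebraicGeometry
open AbVar

namespace Groth.Agent.S16394

/-- (b₁) ⇒ (c₁): let k be a finite field and X, A abelian varieties over k (proper, geometrically
integral commutative group schemes over k). Suppose the common kernel of all homomorphisms X → A is
trivial: every T-valued point of X over k that is sent to the unit by every homomorphism X → A is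
the unit point (this is condition (b₁) for the trivial subgroup). Then there are finitely many
homomorphisms ψ_1, …, ψ_n : X → A which are jointly monomorphic on T-valued points — two T-valued
points of X with the same image under every ψ_i are equal — so that (ψ_i) is an injective
homomorphism X → A^n. The published statement restricts X and A to abelian varieties whose Frobenius
is killed by a fixed polynomial; this row has no such restriction. -/
theorem result
    (k : Type u) [Field k] [Finite k] (X A : Over (Spec (CommRingCat.of k))) [GrpObj X] [IsCommMonObj X] [IsProper X.hom] [GeometricallyIntegral X.hom]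
    [GrpObj A] [IsCommMonObj A] [IsProper A.hom] [GeometricallyIntegral A.hom]
    (hsep : ∀ (T : Over (Spec (CommRingCat.of k))) (x : T ⟶ X), (∀ f : EndAV.Hom X A, x ≫ f.toHom = 1) → x = 1) :
    ∃ (n : ℕ) (ψ : Fin n → EndAV.Hom X A), ∀ (T : Over (Spec (CommRingCat.of k))) (x y : T ⟶ X),
      (∀ i, x ≫ (ψ i).toHom = y ≫ (ψ i).toHom) → x = y := by
  haveI : IsLocallyNoetherian X.left := LocallyOfFiniteType.isLocallyNoetherian X.hom
  haveI : CompactSpace X.left := QuasiCompact.compactSpace_of_compactSpace X.hom
  haveI : IsNoetherian X.left := {}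
  haveI : IsClosedImmersion (η[A].left ≫ A.hom) := by
    rw [Over.w η[A]]
    show IsClosedImmersion (𝟙 _)
    infer_instance
  haveI := IsClosedImmersion.of_comp η[A].left A.hom
  let I : EndAV.Hom X A → X.left.IdealSheafData := fun f => (Limits.pullback.fst f.toHom.left η[A].left).ker
  have key : ∀ (f : EndAV.Hom X A) (T : Over (Spec (CommRingCat.of k))) (x : T ⟶ X),
      x ≫ f.toHom = 1 ↔ I f ≤ x.left.ker := by
    intro f T x
    have h1 : (1 : T ⟶ A).left = T.hom ≫ η[A].left := rfl
    refine ⟨fun h => ?_, fun h => ?_⟩
    · have h2 : x.left ≫ f.toHom.left = T.hom ≫ η[A].left := by rw [← Over.comp_left, h, h1]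
      calc I f ≤ (Limits.pullback.lift x.left T.hom h2 ≫ Limits.pullback.fst f.toHom.left η[A].left).ker :=
            Scheme.Hom.le_ker_comp _ _
        _ = x.left.ker := by rw [Limits.pullback.lift_fst]
    · apply Over.OverMorphism.ext
      have h2 := IsClosedImmersion.lift_fac (Limits.pullback.fst f.toHom.left η[A].left) x.left h
      set y := IsClosedImmersion.lift (Limits.pullback.fst f.toHom.left η[A].left) x.left h with hy
      have h4 : Limits.pullback.fst f.toHom.left η[A].left ≫ X.hom =
          Limits.pullback.snd f.toHom.left η[A].left := by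
        conv_lhs => rw [← Over.w f.toHom, Limits.pullback.condition_assoc, Over.w η[A]]
        exact Category.comp_id _
      have h3 : y ≫ Limits.pullback.snd f.toHom.left η[A].left = T.hom := by
        rw [← h4, ← Category.assoc, h2, Over.w x]
      rw [Over.comp_left, h1, ← h3, Category.assoc, ← Limits.pullback.condition, ← Category.assoc, h2]
  haveI := Groth.Agent.H23.FinCondSch.wellFoundedGT (X := X.left)
  obtain ⟨J, ⟨s, rfl⟩, hJ⟩ := (wellFounded_gt (α := X.left.IdealSheafData)).has_min
    (Set.range fun s : List (EndAV.Hom X A) => (s.map I).foldr (· ⊔ ·) ⊥) ⟨_, [], rfl⟩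
  refine ⟨s.length, fun i => s.get i, fun T x y hxy => ?_⟩
  rw [← mul_inv_eq_one]
  refine hsep T _ fun f => (key f T _).2 ?_
  have hle : ∀ l : List (EndAV.Hom X A), (∀ g ∈ l, I g ≤ (x * y⁻¹).left.ker) →
      (l.map I).foldr (· ⊔ ·) ⊥ ≤ (x * y⁻¹).left.ker := by
    intro l
    induction l with
    | nil => intro _; exact bot_le
    | cons a l ih => intro h; exact sup_le (h a (List.mem_cons_self ..)) (ih fun g hg => h g (List.mem_cons_of_mem a hg))
  refine le_trans ?_ (hle s fun g hg => (key g T _).1 ?_)
  · by_contra hcon
    exact hJ _ ⟨f :: s, rfl⟩ (right_lt_sup.2 hcon)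
  · obtain ⟨i, rfl⟩ := List.get_of_mem hg
    rw [MonObj.mul_comp, GrpObj.inv_comp, hxy i, mul_inv_cancel]

end Groth.Agent.S16394
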