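import Groth.Statements.S16395
import Groth.Agent.Lib.AVPoincare
import Groth.Agent.Lib.AVEnd0
import Groth.Agent.AVTors.ChowExist
import Groth.Agent.AVDegLib.MulN

set_option autoImplicit false
set_option linter.style.haveILetI false
set_option backward.isDefEq.respectTransparency false
set_option backward.isDefEq.respectTransparency.types false
set_option maxHeartbeats 2000000
set_option synthInstance.maxHeartbeats 200000
universe u
open CategoryTheory MonoidalCategory CartesianMonoidalCategory MonObj GrpObj AlgebraicGeometry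
open AbVar

namespace Groth.Agent.S16395

/-- (a) ⇒ (b₂): let k be a finite field with q elements and fix a polynomial P with integer
coefficients. Work with abelian varieties over k (proper, geometrically integral commutative group
schemes over k) with their q-Frobenius endomorphism π (identity on points, q-th power on sections; a
homomorphism) such that P(π) = 0 in the endomorphism ring (for suitable P: the abelian varieties
with Weil support in a given finite set of Weil q-numbers); let A be one of them and S = End(A)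
(product = composition), acting on each Hom(X, A) by postcomposition. Assume (a): the functor X ↦
Hom(X, A) is an anti-equivalence from these abelian varieties onto left S-modules free of finite
rank over ℤ — (a₁) for such X, Y, homomorphisms X → Y agreeing after composition with every
homomorphism Y → A are equal and every additive S-linear map Hom(Y, A) → Hom(X, A) is precomposition
with a homomorphism X → Y; (a₂) every left S-module whose additive group is free of finite rank over
ℤ is additively and S-linearly isomorphic to Hom(Y, A) for some such Y. Then (b₂): for every such X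
and every additive subgroup M ⊆ Hom(X, A) of finite index stable under postcomposition with
endomorphisms of A, a homomorphism f : X → A lies in M as soon as it kills the common kernel of M,
i.e. every T-valued point of X over k sent to the unit by all members of M is sent to the unit by f. -/
theorem result
    (k : Type u) [Field k] [Finite k]
    (P : Polynomial ℤ) (A : Over (Spec (CommRingCat.of k))) [GrpObj A] [IsCommMonObj A] [IsProper A.hom] [GeometricallyIntegral A.hom]
    (πA : A ⟶ A) [IsMonHom πA] (hπAb : πA.left.base = 𝟙 _) (hπAle : ∀ U : A.left.Opens, U ≤ πA.left ⁻¹ᵁ U)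
      (hπAapp : ∀ (U : A.left.Opens) (s : Γ(A.left, U)), (πA.left.appLE U U (hπAle U)).hom s = s ^ Nat.card k)
    (hPA : Polynomial.eval₂ (Int.castRingHom (EndAV.End A)) (EndAV.End.of πA) P = 0)
    (hff : ∀ (X Y : Over (Spec (CommRingCat.of k))) [GrpObj X] [IsCommMonObj X] [IsProper X.hom] [GeometricallyIntegral X.hom]
      [GrpObj Y] [IsCommMonObj Y] [IsProper Y.hom] [GeometricallyIntegral Y.hom]
      (πX : X ⟶ X) [IsMonHom πX] (hπXb : πX.left.base = 𝟙 _) (hπXle : ∀ U : X.left.Opens, U ≤ πX.left ⁻¹ᵁ U)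
      (hπXapp : ∀ (U : X.left.Opens) (s : Γ(X.left, U)), (πX.left.appLE U U (hπXle U)).hom s = s ^ Nat.card k)
      (hPX : Polynomial.eval₂ (Int.castRingHom (EndAV.End X)) (EndAV.End.of πX) P = 0)
      (πY : Y ⟶ Y) [IsMonHom πY] (hπYb : πY.left.base = 𝟙 _) (hπYle : ∀ U : Y.left.Opens, U ≤ πY.left ⁻¹ᵁ U)
      (hπYapp : ∀ (U : Y.left.Opens) (s : Γ(Y.left, U)), (πY.left.appLE U U (hπYle U)).hom s = s ^ Nat.card k)
      (hPY : Polynomial.eval₂ (Int.castRingHom (EndAV.End Y)) (EndAV.End.of πY) P = 0),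
      (∀ f g : EndAV.Hom X Y, (∀ φ : EndAV.Hom Y A, f ≫ φ = g ≫ φ) → f = g) ∧
        (∀ g : EndAV.Hom Y A →+ EndAV.Hom X A,
          (∀ (φ : EndAV.Hom Y A) (s : EndAV.Hom A A), g (φ ≫ s) = g φ ≫ s) →
            ∃ f : EndAV.Hom X Y, ∀ φ : EndAV.Hom Y A, g φ = f ≫ φ))
    (hes : ∀ (M : Type u) [AddCommGroup M] [Module (EndAV.End A) M] [Module.Finite ℤ M] [Module.Free ℤ M],
      ∃ (Y : Over (Spec (CommRingCat.of k))) (_ : GrpObj Y) (_ : IsCommMonObj Y) (_ : IsProper Y.hom)
        (_ : GeometricallyIntegral Y.hom) (πY : Y ⟶ Y) (_ : IsMonHom πY) (_ : πY.left.base = 𝟙 _)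
        (hπYle : ∀ U : Y.left.Opens, U ≤ πY.left ⁻¹ᵁ U)
        (_ : ∀ (U : Y.left.Opens) (s : Γ(Y.left, U)), (πY.left.appLE U U (hπYle U)).hom s = s ^ Nat.card k)
        (_ : Polynomial.eval₂ (Int.castRingHom (EndAV.End Y)) (EndAV.End.of πY) P = 0)
        (e : M ≃+ EndAV.Hom Y A), ∀ (s : EndAV.End A) (m : M), (e (s • m)).toHom = (e m).toHom ≫ s.toHom)
    (X : Over (Spec (CommRingCat.of k))) [GrpObj X] [IsCommMonObj X] [IsProper X.hom] [GeometricallyIntegral X.hom]
    (πX : X ⟶ X) [IsMonHom πX] (hπXb : πX.left.base = 𝟙 _) (hπXle : ∀ U : X.left.Opens, U ≤ πX.left ⁻¹ᵁ U)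
      (hπXapp : ∀ (U : X.left.Opens) (s : Γ(X.left, U)), (πX.left.appLE U U (hπXle U)).hom s = s ^ Nat.card k)
    (hPX : Polynomial.eval₂ (Int.castRingHom (EndAV.End X)) (EndAV.End.of πX) P = 0)
    (M : AddSubgroup (EndAV.Hom X A)) (hM : M.FiniteIndex) (hMS : ∀ r ∈ M, ∀ s : EndAV.Hom A A, r ≫ s ∈ M)
    (f : EndAV.Hom X A)
    (hf : ∀ (T : Over (Spec (CommRingCat.of k))) (x : T ⟶ X), (∀ r ∈ M, x ≫ EndAV.Hom.toHom r = 1) → x ≫ f.toHom = 1) :
    f ∈ M := by
  obtain ⟨gx, hgx⟩ := Groth.Agent.AVTors.exists_dimNat X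
  obtain ⟨ga, hga⟩ := Groth.Agent.AVTors.exists_dimNat A
  haveI : Module.Free ℤ (EndAV.Hom X A) := (Groth.Agent.AVHomLattice.free_finite (A := X) (B := A) hgx hga).1
  haveI : Module.Finite ℤ (EndAV.Hom X A) := (Groth.Agent.AVHomLattice.free_finite (A := X) (B := A) hgx hga).2.1
  haveI : Module.Finite ℤ M := Module.Finite.of_injective M.subtype.toIntLinearMap Subtype.val_injective
  haveI : Module.IsTorsionFree ℤ M :=
    Function.Injective.moduleIsTorsionFree (f := M.subtype) Subtype.val_injective (fun z r => rfl)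
  haveI : Module.Free ℤ M := Module.free_of_finite_type_torsion_free'
  letI : Module (EndAV.End A) M :=
    { smul := fun s r => ⟨(r : EndAV.Hom X A) ≫ s, hMS r r.2 s⟩
      one_smul := fun r => Subtype.ext (Category.comp_id _)
      mul_smul := fun s t r => Subtype.ext (Category.assoc _ _ _).symm
      smul_zero := fun s => Subtype.ext Limits.zero_comp
      smul_add := fun s r r' => Subtype.ext (Preadditive.add_comp _ _ _ _ _ _)
      add_smul := fun s t r => Subtype.ext (Preadditive.comp_add _ _ _ _ _ _)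
      zero_smul := fun r => Subtype.ext Limits.comp_zero }
  obtain ⟨Y, iY, iYc, iYp, iYg, πY, iπY, hπYb, hπYle, hπYapp, hPY, e, he⟩ := hes M
  let G : EndAV.Hom Y A →+ EndAV.Hom X A := M.subtype.comp e.symm.toAddMonoidHom
  obtain ⟨hinjY, -⟩ := hff Y Y πY hπYb hπYle hπYapp hPY πY hπYb hπYle hπYapp hPY
  obtain ⟨u, hu⟩ := (hff X Y πX hπXb hπXle hπXapp hPX πY hπYb hπYle hπYapp hPY).2 G fun φ s => by
    let s' : EndAV.End A := s
    have h1 : e (s' • e.symm φ) = φ ≫ s :=
      EndAV.Hom.ext (by rw [he, AddEquiv.apply_symm_apply]; rfl)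
    show (((e.symm (φ ≫ s)) : M) : EndAV.Hom X A) = _
    rw [← h1, AddEquiv.symm_apply_apply]
    rfl
  have huM : ∀ φ : EndAV.Hom Y A, u ≫ φ ∈ M := fun φ => hu φ ▸ (e.symm φ).2
  have humem : ∀ r ∈ M, ∃ φ : EndAV.Hom Y A, r = u ≫ φ := fun r hr =>
    ⟨e ⟨r, hr⟩, by rw [← hu]; show r = ((e.symm (e ⟨r, hr⟩) : M) : EndAV.Hom X A); rw [AddEquiv.symm_apply_apply]⟩
  obtain ⟨y, n, hym, hn, hyu⟩ := Groth.Agent.AVPoincare.exists_regular u.toHom
  haveI := hym
  haveI : IsMonHom (𝟙 Y ^ n : Y ⟶ Y) := Groth.Agent.AVDegLib.isMonHom_pow n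
  have hyun : y ≫ u.toHom = 𝟙 Y ^ n := by
    let w : EndAV.Hom Y Y := EndAV.Hom.of (y ≫ u.toHom) - EndAV.Hom.of (𝟙 Y ^ n)
    have huw : u ≫ w = 0 := by
      apply EndAV.Hom.ext
      show u.toHom ≫ ((y ≫ u.toHom) / (𝟙 Y ^ n)) = 1
      rw [div_eq_mul_inv, MonObj.comp_mul, GrpObj.comp_inv, hyu, MonObj.comp_pow, Category.comp_id, mul_inv_cancel]
    have hw : w = 0 := hinjY w 0 fun φ => by
      have h0 : G (w ≫ φ) = 0 := by rw [hu, ← Category.assoc, huw, Limits.zero_comp]
      rw [Limits.zero_comp]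
      exact e.symm.injective (Subtype.ext (h0.trans (by simp)))
    exact div_eq_one.1 (congrArg EndAV.Hom.toHom hw)
  haveI : Surjective u.toHom.left := by
    haveI : Surjective (y.left ≫ u.toHom.left) := by
      rw [← Over.comp_left, hyun]
      obtain ⟨-, -, h1⟩ := Groth.Agent.AVDegLib.zpow_props (A := Y) (n : ℤ) (by exact_mod_cast (by omega : n ≠ 0))
      rwa [zpow_natCast] at h1
    exact Surjective.of_comp y.left u.toHom.left
  obtain ⟨N, iN, i, him, hic, -, hik⟩ := Groth.Agent.GrpSchLib.exists_kernel u.toHom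
  haveI := him
  obtain ⟨g', hg'm, hg'⟩ := Groth.Agent.AVTors.ChowExist.exists_factor u.toHom i hik f.toHom (hf N i fun r hr => by
    obtain ⟨φ, rfl⟩ := humem r hr
    rw [EndAV.Hom.toHom_comp, ← Category.assoc, hik.w, ← Hom.one_def, MonObj.one_comp])
  haveI := hg'm
  have := huM (EndAV.Hom.of g')
  rwa [show u ≫ EndAV.Hom.of g' = f from EndAV.Hom.ext hg'] at this

end Groth.Agent.S16395
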