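import Groth.Statements.S16396
import Mathlib

set_option autoImplicit false
universe u
open CAlg

namespace Groth.Agent.S16396

open Polynomial in
/-- For a commutative ℚ-algebra A, a ℚ-subalgebra B of the polynomial algebra A[X] that contains X and
is closed under d/dX consists exactly of the polynomials each of whose coefficients is the value at
0 of some element of B; in other words B = ev(B)[X], with ev the evaluation at 0. -/
theorem result
    (A : Type u) [CommRing A] [Algebra ℚ A] (B : Subalgebra ℚ A[X])
    (hX : (X : A[X]) ∈ B) (hD : ∀ P ∈ B, Polynomial.derivative P ∈ B) (P : A[X]) :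
    P ∈ B ↔ ∀ i : ℕ, ∃ Q ∈ B, Polynomial.eval 0 Q = P.coeff i := by
  classical
  have hC : ∀ a : A, ∀ r : ℚ, Polynomial.C a ∈ B → Polynomial.C (r • a) ∈ B := fun a r h => by
    rw [← Polynomial.smul_C]; exact B.smul_mem h r
  have hall : ∀ d, ∀ Q ∈ B, Q.natDegree ≤ d → ∀ i, Polynomial.C (Q.coeff i) ∈ B := by
    intro d
    induction d with
    | zero =>
      intro Q hQ hd i
      rcases i with _ | i
      · rwa [← Polynomial.eq_C_of_natDegree_le_zero hd]
      · rw [Polynomial.coeff_eq_zero_of_natDegree_lt (by omega), map_zero]; exact zero_mem _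
    | succ d ih =>
      intro Q hQ hd
      have hpos : ∀ i, Polynomial.C (Q.coeff (i + 1)) ∈ B := fun i => by
        have h1 := hC _ ((i + 1 : ℚ)⁻¹) (ih _ (hD Q hQ) ((Polynomial.natDegree_derivative_le Q).trans (by omega)) i)
        rw [Polynomial.coeff_derivative] at h1
        convert h1 using 2
        have e : Q.coeff (i + 1) * ((i : A) + 1) = ((i : ℚ) + 1) • Q.coeff (i + 1) := by
          rw [Algebra.smul_def, map_add, map_natCast, map_one, mul_comm]
        rw [e, smul_smul, inv_mul_cancel₀ (by positivity), one_smul]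
      intro i
      rcases i with _ | i
      · have e : Polynomial.C (Q.coeff 0) = Q - Polynomial.X * Q.divX := by
          conv_rhs => arg 1; rw [← Polynomial.X_mul_divX_add Q]
          ring
        rw [e]
        refine sub_mem hQ (mul_mem hX ?_)
        rw [Q.divX.as_sum_range_C_mul_X_pow]
        exact sum_mem fun j _ => mul_mem (by rw [Polynomial.coeff_divX]; exact hpos j) (pow_mem hX j)
      · exact hpos i
  refine ⟨fun hP i => ⟨Polynomial.C (P.coeff i), hall _ P hP le_rfl i, Polynomial.eval_C⟩, fun h => ?_⟩
  rw [P.as_sum_range_C_mul_X_pow]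
  refine sum_mem fun i _ => mul_mem ?_ (pow_mem hX i)
  obtain ⟨Q, hQ, hQe⟩ := h i
  rw [← hQe, ← Polynomial.coeff_zero_eq_eval_zero]
  exact hall _ Q hQ le_rfl 0

end Groth.Agent.S16396
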