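import Groth.Statements.S16398
import Groth.Agent.TautJac.Basic

set_option autoImplicit false
open W4c3tautjacobian

namespace Groth.Agent.S16398
open MvPolynomial W4c3tautjacobian Groth.Agent.TautJac in
theorem iterate_E_pow_eq_zero {g : ℕ} (hg : 1 ≤ g) {γ : RelRing g} {c m : ℤ} (hγ : Hm g γ c m)
    (hc : c ≤ 2 * g) : ∀ k r : ℕ, c + 2 * r = 2 * k → g < k → (F g)^[k] ((E g)^[r] γ) = 0 := by
  have hE : ∀ r, Hm g ((E g)^[r] γ) (c + 2 * r) m := by
    intro r
    induction r with
    | zero => exact hγ.cast (by simp) rfl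
    | succ r ih =>
      rw [Function.iterate_succ_apply']
      exact ((Hm.xv 2 0).mul ih).cast (by push_cast; ring) (zero_add m)
  intro k
  induction k with
  | zero => intro r _ h; omega
  | succ k ih =>
    intro r h1 h2
    obtain ⟨r, rfl⟩ : ∃ j, r = j + 1 := ⟨r - 1, by omega⟩
    rw [Function.iterate_succ_apply' (E g), iterate_F_E hg (hE r) k]
    have h3 : c + 2 * (r : ℤ) = 2 * (k : ℤ) := by push_cast at h1; omega
    rw [((hE r).iterate (k + 1)).eq_zero_of_neg (by push_cast; omega), h3]
    rw [show E g (0 : RelRing g) = 0 from mul_zero _, zero_add]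
    rcases Nat.lt_or_ge g k with hk | hk
    · rw [ih r h3 hk, smul_zero]
    · obtain rfl : k = g := by omega
      rw [show ((k + 1 : ℚ) * (k - ((2 * (k : ℤ) : ℤ) : ℚ)) + k * (k + 1)) = 0 by push_cast; ring, zero_smul]

open MvPolynomial W4c3tautjacobian Groth.Agent.TautJac in
theorem gen_vanish {g : ℕ} (hg : 1 ≤ g) {n : ℕ} (hn : 3 * n ≤ 2 * g) (d : Var g →₀ ℕ) (k : ℕ)
    (hd : 2 * g < (Finsupp.weight (wt g) d).1) (e : Var g →₀ ℕ)
    (he1 : (Finsupp.weight (wt g) e).1 = 0) (he2 : (Finsupp.weight (wt g) e).2 ≤ n) :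
    coeff e ((F g)^[k] (monomial d 1)) = 0 := by
  classical
  by_contra h
  have hm : Hm g (monomial d (1 : ℚ) : RelRing g) ((Finsupp.weight (wt g) d).1 : ℤ) ((Finsupp.weight (wt g) d).2 : ℤ) := by
    intro d' hd'
    rw [coeff_monomial] at hd'
    split_ifs at hd' with h'
    · subst h'; exact ⟨rfl, rfl⟩
    · exact absurd rfl hd'
  obtain ⟨h1, h2⟩ := hm.iterate k e h
  let v₀ : Var g := some ⟨(2, 0), valid_two_zero hg⟩
  let d' := d.erase v₀
  have hsplit : d = Finsupp.single v₀ (d v₀) + d' := (Finsupp.single_add_erase _ _).symm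
  have hxe : xv g 2 0 = X v₀ := by
    unfold xv
    rw [if_neg (by simp), dif_pos ⟨by norm_num, le_rfl, valid_two_zero hg⟩]
    rfl
  have hEpow : ∀ (r : ℕ) (γ : RelRing g), (E g)^[r] γ = X v₀ ^ r * γ := by
    intro r γ
    induction r with
    | zero => simp
    | succ r ih => rw [Function.iterate_succ_apply', ih, E, hxe, pow_succ]; ring
  have hmon : monomial d (1 : ℚ) = (E g)^[d v₀] (monomial d' 1) := by
    rw [hEpow, X_pow_eq_monomial, monomial_mul, one_mul, ← hsplit]
  have hm' : Hm g (monomial d' (1 : ℚ) : RelRing g) ((Finsupp.weight (wt g) d').1 : ℤ) ((Finsupp.weight (wt g) d').2 : ℤ) := by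
    intro e' he'
    rw [coeff_monomial] at he'
    split_ifs at he' with h'
    · subst h'; exact ⟨rfl, rfl⟩
    · exact absurd rfl he'
  have hb : (Finsupp.weight (wt g) d').1 ≤ 3 * (Finsupp.weight (wt g) d').2 := by
    simp only [Finsupp.weight_apply, Finsupp.sum, Prod.fst_sum, Prod.snd_sum, Finset.mul_sum]
    refine Finset.sum_le_sum fun v hv => ?_
    have hne : v ≠ v₀ := by
      rintro rfl
      simp [d'] at hv
    simp only [Prod.smul_fst, Prod.smul_snd, smul_eq_mul]
    rw [mul_left_comm]
    refine Nat.mul_le_mul_left _ ?_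
    match v with
    | none => simp [wt]
    | some ⟨⟨i, j⟩, hij⟩ =>
      obtain ⟨a1, a2, a3, a4⟩ := hij
      simp only [wt] at *
      rcases Nat.eq_zero_or_pos j with rfl | hj
      · exfalso
        rcases i with _ | _ | _ | i
        · exact a4 rfl
        · exact absurd a3 (by decide)
        · exact hne rfl
        · omega
      · omega
  have hw : Finsupp.weight (wt g) d = d v₀ • ((2, 0) : ℕ × ℕ) + Finsupp.weight (wt g) d' := by
    conv_lhs => rw [hsplit]
    rw [map_add, Finsupp.weight_single]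
    rfl
  have hw1 := congrArg Prod.fst hw
  have hw2 := congrArg Prod.snd hw
  simp only [Prod.fst_add, Prod.smul_fst, Prod.snd_add, Prod.smul_snd, smul_eq_mul, mul_zero, zero_add] at hw1 hw2
  refine h ?_
  rw [hmon, iterate_E_pow_eq_zero hg hm' (by omega) k (d v₀) (by omega) (by omega), coeff_zero]


/-- In the formal relation ring of genus g ≥ 1, an element of the relation ideal which is bihomogeneous
of bidegree (0, n) with 3n ≤ 2g vanishes; that is, the relations impose nothing on the
first-degree-0 part in second degree at most 2g/3. -/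
theorem result
    (g : ℕ) (hg : 1 ≤ g) (n : ℕ) (hn : 3 * n ≤ 2 * g) (P : W4c3tautjacobian.RelRing g)
    (hP : P ∈ W4c3tautjacobian.relIdeal g)
    (hhom : MvPolynomial.IsWeightedHomogeneous (W4c3tautjacobian.wt g) P ((0, n) : ℕ × ℕ)) :
    P = 0 := by
  classical
  have key : ∀ Q ∈ W4c3tautjacobian.relIdeal g, ∀ e : W4c3tautjacobian.Var g →₀ ℕ,
      (Finsupp.weight (W4c3tautjacobian.wt g) e).1 = 0 → (Finsupp.weight (W4c3tautjacobian.wt g) e).2 ≤ n →
      MvPolynomial.coeff e Q = 0 := by
    intro Q hQ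
    induction hQ using Submodule.span_induction with
    | mem Q hQ =>
      obtain ⟨d, k, hd, rfl⟩ := hQ
      exact gen_vanish hg hn d k hd
    | zero => intro e _ _; exact MvPolynomial.coeff_zero e
    | add A B _ _ hA hB => intro e h1 h2; rw [MvPolynomial.coeff_add, hA e h1 h2, hB e h1 h2, add_zero]
    | smul R A _ hA =>
      intro e h1 h2
      rw [smul_eq_mul, MvPolynomial.coeff_mul]
      refine Finset.sum_eq_zero fun x hx => ?_
      rw [Finset.HasAntidiagonal.mem_antidiagonal] at hx
      rw [← hx, map_add] at h1 h2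
      simp only [Prod.fst_add, Prod.snd_add] at h1 h2
      rw [hA x.2 (by omega) (by omega), mul_zero]
  ext e
  rw [MvPolynomial.coeff_zero]
  by_contra h
  have he := hhom h
  exact h (key P hP e (by rw [he]) (by rw [he]))


end Groth.Agent.S16398
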