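import Groth.Statements.S16399
import Groth.Agent.TautJac.Cone

set_option autoImplicit false
open W4c3tautjacobian

namespace Groth.Agent.S16399
open MvPolynomial W4c3tautjacobian Groth.Agent.TautJac in
theorem exists_relation {g i : ℕ} (h1 : g < 3 * i) (h2 : i + 1 ≤ g) (hv : Valid g (0, 2 * i)) :
    ∃ P ∈ relIdeal g, Hm g P 0 ((2 * i : ℕ) : ℤ) ∧
      coeff (Finsupp.single (some ⟨(0, 2 * i), hv⟩) 1) P ≠ 0 := by
  classical
  have hi : 1 ≤ i := by omega
  have h31 : Valid g (3, 1) := ⟨le_rfl, by omega, ⟨2, rfl⟩, by simp⟩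
  let q : Var g := some ⟨(3, 1), h31⟩
  set N := 2 * i with hN
  have hve : ∀ e, 1 ≤ e → e ≤ N → Valid g (e + 2, e) := fun e he1 he2 =>
    ⟨le_rfl, by omega, ⟨e + 1, by omega⟩, by simp⟩
  let M : RelRing g := monomial (Finsupp.single q N) 1
  have stage : ∀ M' : ℕ, ∀ e, (he1 : 1 ≤ e) → (he2 : e ≤ N) → e + M' = N →
      Dom N ((F g)^[e - 1] M) (Finsupp.single (some ⟨(e + 2, e), hve e he1 he2⟩) 1 + Finsupp.single q M') := by
    intro M' e
    induction e generalizing M' with
    | zero => intro h; omega
    | succ e ih =>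
      intro he1 he2 hM'
      rcases Nat.eq_zero_or_pos e with rfl | he
      · have hq : Finsupp.single (some ⟨(0 + 1 + 2, 0 + 1), hve _ he1 he2⟩ : Var g) 1 + Finsupp.single q M' =
            Finsupp.single q N := by
          rw [show (some ⟨(0 + 1 + 2, 0 + 1), hve _ he1 he2⟩ : Var g) = q from rfl, ← Finsupp.single_add]
          congr 1
        rw [hq]
        have hgood : Good (Finsupp.single q N) := fun w hw => by
          rw [Finset.mem_singleton.1 (Finsupp.support_single_subset hw)]
          exact le_rfl
        refine ⟨hgood, 1, ?_, ?_⟩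
        · rw [sgn, Finsupp.degree_single, ← two_mul, pow_mul]
          simp
        · rw [Function.iterate_zero_apply, sub_self]
          exact Cone.zero
      · have h := merge_step (g := g) (N := N) (p := (e + 2, e)) (q := (3, 1)) (r := (e + 1 + 2, e + 1))
          (hve e he (by omega)) h31 (hve _ he1 he2) (by simp) (by simp) (by simp) rfl
          (e := Finsupp.single q M')
          (show Finsupp.single (some ⟨(e + 2, e), hve e he (by omega)⟩) 1 + Finsupp.single q (M' + 1) = _ by
            rw [add_comm M' 1, Finsupp.single_add, add_assoc])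
          (ih (M' + 1) he (by omega) (by omega))
        obtain ⟨e', rfl⟩ : ∃ e', e = e' + 1 := ⟨e - 1, by omega⟩
        rw [show e' + 1 + 1 - 1 = (e' + 1 - 1) + 1 by omega, Function.iterate_succ_apply']
        exact h
  have lowerStage : ∀ l, (hl : l ≤ i + 1) → ∀ hv' : Valid g (2 * (i + 1 - l), N),
      Dom N ((F g)^[N - 1 + l] M) (Finsupp.single (some ⟨(2 * (i + 1 - l), N), hv'⟩) 1) := by
    intro l
    induction l with
    | zero =>
      intro _ hv'
      have h := stage 0 N (by omega) le_rfl rfl
      rw [Finsupp.single_zero, add_zero] at h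
      rw [Nat.add_zero]
      convert h using 6
      omega
    | succ l ih =>
      intro hl hv'
      have hv'' : Valid g (2 * (i + 1 - l), N) := ⟨by omega, by omega, ⟨2 * i + 1 - l, by omega⟩, by simp; omega⟩
      have h := lower_step (g := g) (N := N) (p := (2 * (i + 1 - l), N)) (r := (2 * (i + 1 - (l + 1)), N))
        hv'' hv' (by show 2 * (i + 1 - (l + 1)) + 2 = 2 * (i + 1 - l); omega) rfl (e := 0) (add_zero _).symm (ih (by omega) hv'')
      rw [add_zero] at h
      rw [← Nat.add_assoc, Function.iterate_succ_apply']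
      exact h
  refine ⟨(F g)^[3 * i] M, Ideal.subset_span ⟨Finsupp.single q N, 3 * i, ?_, rfl⟩, ?_, ?_⟩
  · rw [Finsupp.weight_single]
    show 2 * g < N * 3
    omega
  · have hm : Hm g M ((N * 3 : ℕ) : ℤ) ((N * 1 : ℕ) : ℤ) := by
      intro d hd
      rw [coeff_monomial] at hd
      split_ifs at hd with hh
      · subst hh; rw [Finsupp.weight_single]; exact ⟨rfl, rfl⟩
      · exact absurd rfl hd
    exact (hm.iterate (3 * i)).cast (by push_cast; omega) (by push_cast; omega)
  · have hv0 : Valid g (2 * (i + 1 - (i + 1)), N) := by simpa using hv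
    have h := (lowerStage (i + 1) le_rfl hv0).coeff_ne_zero (by simp)
    rw [show N - 1 + (i + 1) = 3 * i by omega] at h
    convert h using 6
    omega


/-- In the formal relation ring of genus g ≥ 1, every symbol x 0 (2i) is congruent modulo the relation
ideal to a polynomial in y and the symbols x 0 (2j) with 1 ≤ j and 3j ≤ g; so these low symbols
together with y generate the first-degree-0 part modulo the relations. -/
theorem result
    (g : ℕ) (hg : 1 ≤ g) (i : ℕ) :
    ∃ q ∈ Algebra.adjoin ℚ (W4c3tautjacobian.lowGens g),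
      W4c3tautjacobian.xv g 0 (2 * (i : ℤ)) - q ∈ W4c3tautjacobian.relIdeal g := by
  classical
  induction i using Nat.strong_induction_on with
  | _ i ih =>
  by_cases hlow : i = 0
  · subst hlow
    refine ⟨(g : W4c3tautjacobian.RelRing g), natCast_mem _ _, ?_⟩
    simp [W4c3tautjacobian.xv]
  by_cases h3 : 3 * i ≤ g
  · exact ⟨_, Algebra.subset_adjoin (Or.inr ⟨i, by omega, h3, rfl⟩), by simp⟩
  by_cases hv : W4c3tautjacobian.Valid g (0, 2 * i)
  swap
  · refine ⟨0, zero_mem _, ?_⟩
    unfold W4c3tautjacobian.xv
    rw [if_neg (by omega), dif_neg (fun h => hv (by simpa [show (2 * (i : ℤ)).toNat = 2 * i by omega] using h.2.2))]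
    simp
  have hi1 : i + 1 ≤ g := by
    have := hv.2.1
    simp only at this
    omega
  obtain ⟨P, hP, hPh, hPc⟩ := exists_relation (g := g) (i := i) (by omega) hi1 hv
  set v : W4c3tautjacobian.Var g := some ⟨(0, 2 * i), hv⟩
  set a := MvPolynomial.coeff (Finsupp.single v 1) P with ha
  let S : Submodule ℚ (W4c3tautjacobian.RelRing g) :=
    { carrier := {R | ∃ q ∈ Algebra.adjoin ℚ (W4c3tautjacobian.lowGens g), R - q ∈ W4c3tautjacobian.relIdeal g}
      add_mem' := fun {x y} ⟨q, hq, h⟩ ⟨q', hq', h'⟩ => ⟨q + q', add_mem hq hq', by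
        rw [add_sub_add_comm]; exact add_mem h h'⟩
      zero_mem' := ⟨0, zero_mem _, by simp⟩
      smul_mem' := fun c x ⟨q, hq, h⟩ => ⟨c • q, Subalgebra.smul_mem _ hq c, by
        rw [← smul_sub, MvPolynomial.smul_eq_C_mul]; exact Ideal.mul_mem_left _ _ h⟩ }
  have hmulS : ∀ x y, x ∈ S → y ∈ S → x * y ∈ S := by
    rintro x y ⟨q, hq, h⟩ ⟨q', hq', h'⟩
    refine ⟨q * q', mul_mem hq hq', ?_⟩
    rw [show x * y - q * q' = (x - q) * y + q * (y - q') by ring]
    exact add_mem (Ideal.mul_mem_right _ _ h) (Ideal.mul_mem_left _ _ h')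
  have hone : (1 : W4c3tautjacobian.RelRing g) ∈ S := ⟨1, one_mem _, by simp⟩
  have hXv : W4c3tautjacobian.xv g 0 (2 * (i : ℤ)) = MvPolynomial.X v := by
    have := Groth.Agent.TautJac.xv_valid (g := g) hv
    simpa using this
  have hrest : P - MvPolynomial.monomial (Finsupp.single v 1) a ∈ S := by
    rw [MvPolynomial.as_sum (P - MvPolynomial.monomial (Finsupp.single v 1) a)]
    refine Submodule.sum_mem _ fun d hd => ?_
    rw [MvPolynomial.mem_support_iff] at hd
    have hne : d ≠ Finsupp.single v 1 := by
      rintro rfl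
      simp [ha] at hd
    have hd' : MvPolynomial.coeff d P ≠ 0 := by
      rwa [MvPolynomial.coeff_sub, MvPolynomial.coeff_monomial, if_neg (Ne.symm hne), sub_zero] at hd
    obtain ⟨hw1, hw2⟩ := hPh d hd'
    have hw1' : (Finsupp.weight (W4c3tautjacobian.wt g) d).1 = 0 := by exact_mod_cast hw1
    have hw2' : (Finsupp.weight (W4c3tautjacobian.wt g) d).2 = 2 * i := by exact_mod_cast hw2
    rw [← mul_one (MvPolynomial.coeff d (P - _)), ← smul_eq_mul, ← MvPolynomial.smul_monomial]
    refine S.smul_mem _ ?_
    rw [MvPolynomial.monomial_eq, map_one, one_mul, Finsupp.prod]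
    refine Finset.prod_induction _ (fun x => x ∈ S) hmulS hone fun w hw => ?_
    suffices hX : MvPolynomial.X w ∈ S by
      induction d w with
      | zero => simpa using hone
      | succ n ihn => rw [pow_succ]; exact hmulS _ _ ihn hX
    match w with
    | none => exact ⟨_, Algebra.subset_adjoin (Or.inl rfl), by simp⟩
    | some ⟨⟨s, t⟩, hst⟩ =>
      have hle : d (some ⟨(s, t), hst⟩) • W4c3tautjacobian.wt g (some ⟨(s, t), hst⟩) ≤
          Finsupp.weight (W4c3tautjacobian.wt g) d := by
        rw [Finsupp.weight_apply, Finsupp.sum]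
        exact Finset.single_le_sum (f := fun w => d w • W4c3tautjacobian.wt g w) (fun _ _ => bot_le) hw
      have hd1 : 1 ≤ d (some ⟨(s, t), hst⟩) := Nat.one_le_iff_ne_zero.2 (Finsupp.mem_support_iff.1 hw)
      obtain ⟨hl1, hl2⟩ := hle
      simp only [W4c3tautjacobian.wt, Prod.smul_fst, Prod.smul_snd, smul_eq_mul] at hl1 hl2
      obtain rfl : s = 0 := by
        rw [hw1', Nat.le_zero, Nat.mul_eq_zero] at hl1
        omega
      obtain ⟨a1, a2, ⟨c, hc⟩, a4⟩ := hst
      simp only [zero_add] at hc
      have ht : t = 2 * c := by omega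
      have ht2 : t ≤ 2 * i := (Nat.le_mul_of_pos_left _ hd1).trans (hl2.trans hw2'.le)
      subst ht
      rcases Nat.lt_or_ge c i with hc' | hc'
      · have hS := ih c hc'
        have he := Groth.Agent.TautJac.xv_valid (g := g) (p := (0, 2 * c)) ⟨a1, a2, ⟨c, by omega⟩, a4⟩
        simp only [Nat.cast_zero, Nat.cast_mul, Nat.cast_ofNat] at he
        rwa [he] at hS
      · exfalso
        obtain rfl : c = i := by omega
        apply hne
        ext u
        by_cases hu : u = v
        · subst hu
          rw [Finsupp.single_eq_same]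
          rw [hw2'] at hl2
          have hc1 : 0 < 2 * c := by omega
          have h1' : d (some ⟨(0, 2 * c), hv⟩) ≤ 1 := Nat.le_of_mul_le_mul_right (by rw [one_mul]; exact hl2) hc1
          exact le_antisymm h1' hd1
        · rw [Finsupp.single_eq_of_ne hu]
          by_contra hu0
          have h2 : d v • W4c3tautjacobian.wt g v + d u • W4c3tautjacobian.wt g u ≤
              Finsupp.weight (W4c3tautjacobian.wt g) d := by
            rw [Finsupp.weight_apply, Finsupp.sum]
            refine le_trans (le_of_eq (Finset.sum_pair (f := fun w => d w • W4c3tautjacobian.wt g w) (Ne.symm hu)).symm) ?_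
            refine Finset.sum_le_sum_of_subset ?_
            intro x hx
            rcases Finset.mem_insert.1 hx with rfl | hx
            · exact hw
            · rw [Finset.mem_singleton.1 hx]; exact Finsupp.mem_support_iff.2 hu0
          have hsnd := h2.2
          have hpos : 1 ≤ (W4c3tautjacobian.wt g u).2 := by
            rcases u with _ | ⟨⟨s', t'⟩, hs'⟩
            · exact one_le_two
            · obtain ⟨b1, b2, b3, b4⟩ := id hs'
              show 1 ≤ t'
              have hfst := h2.1
              simp only [Prod.fst_add, Prod.smul_fst, smul_eq_mul, hw1', W4c3tautjacobian.wt] at hfst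
              have hu1 : 1 ≤ d (some ⟨(s', t'), hs'⟩) := Nat.one_le_iff_ne_zero.2 hu0
              have hs0 : s' = 0 := by nlinarith
              subst hs0
              by_contra ht0
              exact b4 (by rw [show t' = 0 by omega])
          simp only [Prod.snd_add, Prod.smul_snd, smul_eq_mul, hw2'] at hsnd
          have : (W4c3tautjacobian.wt g v).2 = 2 * c := rfl
          have hu1 : 1 ≤ d u := Nat.one_le_iff_ne_zero.2 hu0
          rw [this] at hsnd
          have hv1 : 1 ≤ d v := hd1
          nlinarith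
  have hP' : P ∈ S := ⟨0, zero_mem _, by simpa using hP⟩
  have hmon : MvPolynomial.monomial (Finsupp.single v 1) a ∈ S := by
    have := S.sub_mem hP' hrest
    simpa using this
  have h := S.smul_mem a⁻¹ hmon
  rw [MvPolynomial.smul_monomial, smul_eq_mul, inv_mul_cancel₀ hPc] at h
  rw [hXv]
  exact h


end Groth.Agent.S16399
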