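import Groth.Statements.S1640
import Groth.Agent.KrullAki.Avoid

set_option autoImplicit false
universe u
open Variety

namespace Groth.Agent.S1640

open Groth.Agent.KrullAki

/-- Let K be a field, A ⊆ K a subring with fraction field K, and B_1, …, B_r ⊆ K Noetherian
one-dimensional subrings with finitely many maximal ideals and fraction field K, such that for each
i the subring generated by A and B_i is all of K. Then some nonzero x ∈ A has x⁻¹ lying in B_i and
in the Jacobson radical of B_i for every i. -/
theorem result (K : Type u) [Field K] (A : Subring K) [IsFractionRing A K]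
    (r : ℕ) (B : Fin r → Subring K) [∀ i, IsNoetherianRing (B i)] [∀ i, IsFractionRing (B i) K]
    (hdim : ∀ i, ringKrullDim (B i) = 1) (hsl : ∀ i, Finite (MaximalSpectrum (B i)))
    (hgen : ∀ i, A ⊔ B i = ⊤) :
    ∃ x : K, x ∈ A ∧ x ≠ 0 ∧ ∀ i, ∃ hx : x⁻¹ ∈ B i, (⟨x⁻¹, hx⟩ : B i) ∈ (⊥ : Ideal (B i)).jacobson := by
  exact exists_inv_mem_jacobson A B hdim hsl hgen

end Groth.Agent.S1640
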