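import Groth.Statements.S16400
import Mathlib

set_option autoImplicit false
universe u v
open CAlgX

namespace Groth.Agent.S16400

/-- Let K be a field, N a finite index set and A a square matrix over K indexed by N whose linear map on
column vectors has kernel equal to its range (so A composed with A is zero and the three-term
sequence it defines is exact in the middle). Then there are subsets N₁₂, N₂₁, N₃₁ of N such that the
block of A with rows in N₃₁ and columns in N₂₁, and the block of A with rows outside N₂₁ and columns
in N₁₂, both act bijectively on column vectors. (In the original setting K is the prime field and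
middle exactness is supplied by the Cartier isomorphism; here exactness is the hypothesis and K is
any field.) -/
theorem result
    {K : Type u} [Field K] {N : Type v} [Fintype N] [DecidableEq N]
    (A : Matrix N N K)
    (hA : LinearMap.ker A.mulVecLin = LinearMap.range A.mulVecLin) :
    ∃ N₁₂ N₂₁ N₃₁ : Finset N,
      Function.Bijective (A.submatrix (Subtype.val : ↥N₃₁ → N) (Subtype.val : ↥N₂₁ → N)).mulVecLin ∧
      Function.Bijective
        (A.submatrix (Subtype.val : {x : N // x ∉ N₂₁} → N) (Subtype.val : ↥N₁₂ → N)).mulVecLin := by
  classical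
  obtain ⟨κ, a, ha, hsp, hli⟩ := exists_linearIndependent' K (fun j => A.col j)
  haveI : Finite κ := Finite.of_injective a ha
  haveI := Fintype.ofFinite κ
  let S : Finset N := Finset.univ.image a
  let Sc : Finset N := Sᶜ
  have hrange : LinearMap.range A.mulVecLin = Submodule.span K (Set.range fun j => A.col j) :=
    Matrix.range_mulVecLin A
  -- extension by zero
  have hsupp : ∀ v : N → K, (∀ x ∉ S, v x = 0) → A.mulVec v = 0 → v = 0 := by
    intro v hv h0
    have h1 : A.mulVec v = ∑ c, v (a c) • A.col (a c) := by
      funext i
      rw [Matrix.mulVec, dotProduct, Finset.sum_apply,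
        ← Finset.sum_subset (Finset.subset_univ S) (fun x _ hx => by rw [hv x hx, mul_zero]),
        Finset.sum_image (fun x _ y _ h => ha h)]
      exact Finset.sum_congr rfl fun c _ => mul_comm _ _
    rw [h0] at h1
    have h2 := Fintype.linearIndependent_iff.1 hli (fun c => v (a c)) h1.symm
    funext x
    by_cases hx : x ∈ S
    · obtain ⟨c, -, rfl⟩ := Finset.mem_image.1 hx
      exact h2 c
    · exact hv x hx
  have hext : ∀ (x : ↥S → K) (i : N),
      (A.submatrix id (Subtype.val : ↥S → N)).mulVec x i =
        A.mulVec (fun y => if h : y ∈ S then x ⟨y, h⟩ else 0) i := by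
    intro x i
    simp only [Matrix.mulVec, dotProduct, Matrix.submatrix_apply, id]
    rw [← Finset.sum_subset (Finset.subset_univ S) (fun y _ hy => by rw [dif_neg hy, mul_zero])]
    conv_rhs => rw [← Finset.sum_coe_sort]
    exact Finset.sum_congr rfl fun y _ => by rw [dif_pos y.2]
  have main : Function.Bijective
      (A.submatrix (Subtype.val : {x : N // x ∉ S} → N) (Subtype.val : ↥S → N)).mulVecLin := by
    constructor
    · rw [← LinearMap.ker_eq_bot, LinearMap.ker_eq_bot']
      intro x hx
      let v : N → K := fun y => if h : y ∈ S then x ⟨y, h⟩ else 0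
      have hw : A.mulVec v = 0 := by
        refine hsupp _ (fun i hi => ?_) ?_
        · rw [← hext]; exact congrFun hx ⟨i, hi⟩
        · exact LinearMap.mem_ker.1 (hA.symm ▸ LinearMap.mem_range.2 ⟨v, rfl⟩ : A.mulVec v ∈ LinearMap.ker A.mulVecLin)
      have hv : v = 0 := hsupp v (fun i hi => dif_neg hi) hw
      funext y
      simpa [v, y.2] using congrFun hv y
    · intro y
      let e : N → K := fun i => if h : i ∉ S then y ⟨i, h⟩ else 0
      obtain ⟨c, hc⟩ := (Submodule.mem_span_range_iff_exists_fun K).1
        (show A.mulVec e ∈ Submodule.span K (Set.range ((fun j => A.col j) ∘ a)) by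
          rw [hsp, ← hrange]; exact ⟨e, rfl⟩)
      let s : N → K := fun i => ∑ t, if a t = i then c t else 0
      have hs : A.mulVec s = A.mulVec e := by
        rw [← hc]
        funext i
        simp only [s, Matrix.mulVec, dotProduct, Finset.mul_sum, mul_ite, mul_zero]
        rw [Finset.sum_comm]
        simp [mul_comm]
      have hker : e - s ∈ LinearMap.range A.mulVecLin := by
        rw [← hA, LinearMap.mem_ker, map_sub, Matrix.mulVecLin_apply, Matrix.mulVecLin_apply, hs, sub_self]
      obtain ⟨z, hz⟩ := hker
      obtain ⟨d, hd⟩ := (Submodule.mem_span_range_iff_exists_fun K).1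
        (show A.mulVec z ∈ Submodule.span K (Set.range ((fun j => A.col j) ∘ a)) by
          rw [hsp, ← hrange]; exact ⟨z, rfl⟩)
      refine ⟨fun x => ∑ t, if a t = x.1 then d t else 0, funext fun i => ?_⟩
      have h1 : (A.submatrix (Subtype.val : {x : N // x ∉ S} → N) (Subtype.val : ↥S → N)).mulVecLin
          (fun x => ∑ t, if a t = x.1 then d t else 0) i = A.mulVec z i.1 := by
        rw [← hd]
        simp only [Matrix.mulVecLin_apply, Matrix.mulVec, dotProduct, Matrix.submatrix_apply, Finset.mul_sum,
          Finset.sum_apply, Pi.smul_apply, Function.comp_apply, smul_eq_mul, mul_ite, mul_zero]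
        rw [Finset.sum_comm]
        refine Finset.sum_congr rfl fun t _ => ?_
        rw [Finset.sum_eq_single (⟨a t, Finset.mem_image_of_mem a (Finset.mem_univ t)⟩ : ↥S)]
        · simp [mul_comm]
        · intro b _ hb
          rw [if_neg]
          exact fun h => hb (Subtype.ext h.symm)
        · simp
      rw [h1, ← Matrix.mulVecLin_apply, hz]
      have hs0 : s i.1 = 0 := Finset.sum_eq_zero fun t _ => if_neg
        fun h => i.2 (by rw [← h]; exact Finset.mem_image_of_mem a (Finset.mem_univ t))
      simp [e, hs0, i.2]
  refine ⟨S, S, Sc, ?_, main⟩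
  let q : ↥Sc ≃ {x : N // x ∉ S} := Equiv.subtypeEquivRight fun x => Finset.mem_compl
  have e : ⇑(A.submatrix (Subtype.val : ↥Sc → N) (Subtype.val : ↥S → N)).mulVecLin =
      (fun v x => v (q x)) ∘ ⇑(A.submatrix (Subtype.val : {x : N // x ∉ S} → N) (Subtype.val : ↥S → N)).mulVecLin := rfl
  rw [e]
  exact (Equiv.arrowCongr q.symm (Equiv.refl K)).bijective.comp main


end Groth.Agent.S16400
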