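import Groth.Statements.S16401
import Mathlib

set_option autoImplicit false
universe u v
open CAlgX

namespace Groth.Agent.S16401

/-- Let R be a commutative ring and (E_a), a ∈ ι, a family of additive subgroups of R indexed by an
additive commutative group ι, with E_0 = R and E_a · E_b ⊆ E_{a+b}. Let β, γ : Fin r → ι be weight
vectors with Σ_j β_j = Σ_i γ_i, and let ϑ be an r × r matrix over R with ϑ_{ij} ∈ E_{γ_i − β_j} for
all i, j and with unit determinant. Then a column vector u satisfies u_j ∈ E_{β_j} for every j if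
and only if (ϑ u)_i ∈ E_{γ_i} for every i; since ϑ is invertible this says that ϑ maps the box Π_j
E_{β_j} bijectively onto the box Π_i E_{γ_i}. -/
theorem result
    {R : Type u} [CommRing R] {ι : Type v} [AddCommGroup ι]
    (E : ι → AddSubgroup R) (h0 : E 0 = ⊤)
    (hmul : ∀ a b : ι, ∀ x ∈ E a, ∀ y ∈ E b, x * y ∈ E (a + b))
    {r : ℕ} (wβ wγ : Fin r → ι) (hsum : ∑ j, wβ j = ∑ i, wγ i)
    (ϑ : Matrix (Fin r) (Fin r) R) (hϑ : ∀ i j, ϑ i j ∈ E (wγ i - wβ j))
    (hdet : IsUnit ϑ.det) (u : Fin r → R) :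
    (∀ j, u j ∈ E (wβ j)) ↔ ∀ i, ϑ.mulVec u i ∈ E (wγ i) := by
  classical
  constructor
  · intro hu i
    rw [Matrix.mulVec, dotProduct]
    refine sum_mem fun j _ => ?_
    have := hmul _ _ _ (hϑ i j) _ (hu j)
    rwa [sub_add_cancel] at this
  · intro hu j
    have hprod : ∀ (s : Finset (Fin r)) (w : Fin r → ι) (f : Fin r → R), (∀ i, f i ∈ E (w i)) →
        ∏ i ∈ s, f i ∈ E (∑ i ∈ s, w i) := by
      intro s w f hf
      induction s using Finset.induction_on with
      | empty => rw [Finset.sum_empty, h0]; trivial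
      | insert a s ha ih =>
        rw [Finset.prod_insert ha, Finset.sum_insert ha]
        exact hmul _ _ _ (hf a) _ ih
    have hadj : ∀ i, ϑ.adjugate j i ∈ E (wβ j - wγ i) := by
      intro i
      rw [Matrix.adjugate_apply, Matrix.det_apply]
      refine sum_mem fun σ _ => ?_
      have hσ : ∏ x, (ϑ.updateRow i (Pi.single j 1)) (σ x) x ∈ E (wβ j - wγ i) := by
        obtain ⟨x₀, hx₀⟩ : ∃ x₀, σ x₀ = i := ⟨σ.symm i, σ.apply_symm_apply i⟩
        by_cases hxj : x₀ = j
        · rw [← Finset.mul_prod_erase _ _ (Finset.mem_univ x₀), hx₀, Matrix.updateRow_self, hxj, Pi.single_eq_same, one_mul]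
          have : ∀ x ∈ Finset.univ.erase j, (ϑ.updateRow i (Pi.single j 1)) (σ x) x = ϑ (σ x) x := fun x hx => by
            rw [Matrix.updateRow_ne]
            intro h
            exact (Finset.mem_erase.1 hx).1 (hxj ▸ σ.injective (h.trans hx₀.symm))
          rw [Finset.prod_congr rfl this]
          have h2 := hprod (Finset.univ.erase j) (fun x => wγ (σ x) - wβ x) (fun x => ϑ (σ x) x) (fun x => hϑ _ _)
          have e : ∑ x ∈ Finset.univ.erase j, (wγ (σ x) - wβ x) = wβ j - wγ i := by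
            rw [Finset.sum_erase_eq_sub (Finset.mem_univ j), Finset.sum_sub_distrib, Equiv.sum_comp σ wγ, ← hsum, sub_self, zero_sub, neg_sub, ← hxj, hx₀]
          rwa [e] at h2
        · rw [Finset.prod_eq_zero (Finset.mem_univ x₀) (by rw [hx₀, Matrix.updateRow_self, Pi.single_eq_of_ne hxj])]
          exact zero_mem _
      rcases Int.units_eq_one_or (Equiv.Perm.sign σ) with h | h <;> simp [h, hσ]
    obtain ⟨d, hd⟩ := hdet
    have hval : u j = (↑d⁻¹ : R) * ∑ i, ϑ.adjugate j i * ϑ.mulVec u i := by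
      have h := congrFun (congrArg (fun M => Matrix.mulVec M u) (Matrix.adjugate_mul ϑ)) j
      rw [← Matrix.mulVec_mulVec, Matrix.smul_mulVec, Matrix.one_mulVec, Pi.smul_apply, smul_eq_mul, ← hd] at h
      rw [show ∑ i, ϑ.adjugate j i * ϑ.mulVec u i = (ϑ.adjugate.mulVec (ϑ.mulVec u)) j from rfl, h, ← mul_assoc, d.inv_mul, one_mul]
    rw [hval]
    have hs : ∑ i, ϑ.adjugate j i * ϑ.mulVec u i ∈ E (wβ j) := sum_mem fun i _ => by
      have := hmul _ _ _ (hadj i) _ (hu i)
      rwa [sub_add_cancel] at this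
    have := hmul 0 (wβ j) (↑d⁻¹ : R) (by rw [h0]; trivial) _ hs
    rwa [zero_add] at this


end Groth.Agent.S16401
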