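import Groth.Statements.S16405
import Mathlib
-- import your own Groth.Agent.* helpers here

set_option autoImplicit false
universe u v
open InvQ

namespace Groth.Agent.S16405

/-- In weight form. Let b : L → ℤ^r be an injective homomorphism of abelian groups (the case in view: L
the character group of a maximal torus T of a semisimple group over ℂ and b the map dual to the
surjection of the rank-r split torus T' onto T that sends the i-th coordinate cocharacter to the
primitive generator of the i-th ray of the Weyl chamber; only the injectivity of b is used, and ℂ is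
replaced by any commutative ring k). Grade the monoid algebra k[L × ℕ^r] (the coordinate ring of T ×
𝔸^r) by ℤ^r, the monomial (w, n) having weight b(w) + n (the weights of the T'-action u·(t, v) =
(b^∨(u) t, u v)), and grade k[ℕ^r] by ℤ^r/b(L), the monomial n having weight the class of n (the
weights of the action on 𝔸^r of the diagonalizable kernel Z of T' → T, a finite group in the case in
view). For a diagonalizable group acting on an affine scheme the ring of invariants is the
weight-zero part, so the two weight-zero parts are the coordinate rings of the quotients (T ×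
𝔸^r)//T' and 𝔸^r//Z. The statement: the algebra map k[L × ℕ^r] → k[ℕ^r] induced by the projection L
× ℕ^r → ℕ^r (restriction to the slice 1 × 𝔸^r) maps the weight-zero part of k[L × ℕ^r] bijectively
onto the weight-zero part of k[ℕ^r]; hence it induces an isomorphism of k-algebras between them. -/
theorem result
    (k : Type u) [CommRing k] (r : ℕ) (L : Type v) [AddCommGroup L]
    (b : L →+ (Fin r → ℤ)) (hb : Function.Injective b) :
    Set.BijOn
      (AddMonoidAlgebra.mapDomainAlgHom k k (AddMonoidHom.snd L (Fin r → ℕ)))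
      (AddMonoidAlgebra.gradeBy k
        (b.comp (AddMonoidHom.fst L (Fin r → ℕ)) +
          (AddMonoidHom.compLeft (Nat.castAddMonoidHom ℤ) (Fin r)).comp (AddMonoidHom.snd L (Fin r → ℕ))) 0 :
        Set (AddMonoidAlgebra k (L × (Fin r → ℕ))))
      (AddMonoidAlgebra.gradeBy k
        ((QuotientAddGroup.mk' b.range).comp (AddMonoidHom.compLeft (Nat.castAddMonoidHom ℤ) (Fin r))) 0 :
        Set (AddMonoidAlgebra k (Fin r → ℕ))) := by
  classical
  set f := b.comp (AddMonoidHom.fst L (Fin r → ℕ)) +
          (AddMonoidHom.compLeft (Nat.castAddMonoidHom ℤ) (Fin r)).comp (AddMonoidHom.snd L (Fin r → ℕ)) with hf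
  set c := (AddMonoidHom.compLeft (Nat.castAddMonoidHom ℤ) (Fin r)) with hc
  let p : L × (Fin r → ℕ) → (Fin r → ℕ) := Prod.snd
  have hfx : ∀ x : L × (Fin r → ℕ), f x = b x.1 + c x.2 := fun x => rfl
  have hinj : Set.InjOn p {x | f x = 0} := by
    rintro ⟨l, m⟩ h1 ⟨l', m'⟩ h2 (rfl : m = m')
    refine Prod.ext (hb ?_) rfl
    have h1' : b l + c m = 0 := h1
    have h2' : b l' + c m = 0 := h2
    exact add_right_cancel (h1'.trans h2'.symm)
  have hmap : ∀ m : Fin r → ℕ, ((QuotientAddGroup.mk' b.range).comp c) m = 0 ↔ ∃ l, f (l, m) = 0 := by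
    intro m
    rw [AddMonoidHom.comp_apply, QuotientAddGroup.mk'_apply, QuotientAddGroup.eq_zero_iff]
    constructor
    · rintro ⟨l, hl⟩; exact ⟨-l, by rw [hfx, map_neg, hl, neg_add_cancel]⟩
    · rintro ⟨l, hl⟩
      exact ⟨-l, by rw [map_neg]; exact neg_eq_of_add_eq_zero_right (by rwa [hfx] at hl)⟩
  let F := AddMonoidAlgebra.mapDomainAlgHom k k (AddMonoidHom.snd L (Fin r → ℕ))
  have hF : ∀ x m (hx : ∀ y ∈ x.coeff.support, f y = 0) (l : L), f (l, m) = 0 →
      (F x).coeff m = x.coeff (l, m) := by
    intro x m hx l hl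
    show (Finsupp.mapDomain p x.coeff) m = _
    rw [Finsupp.mapDomain, Finsupp.sum_apply, Finsupp.sum, Finset.sum_eq_single (l, m)]
    · simp [p]
    · intro y hy hne
      rw [Finsupp.single_apply, if_neg]
      intro h
      exact hne (hinj (hx y hy) hl h)
    · intro h; simp [Finsupp.notMem_support_iff.1 h]
  refine ⟨fun x hx => ?_, fun x hx y hy hxy => ?_, fun z hz => ?_⟩
  · rw [SetLike.mem_coe, AddMonoidAlgebra.mem_gradeBy_iff] at hx ⊢
    intro m hm
    obtain ⟨y, hy, rfl⟩ := Finset.mem_image.1 (Finsupp.mapDomain_support (Finset.mem_coe.1 hm))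
    exact (hmap _).2 ⟨y.1, hx (Finset.mem_coe.2 hy)⟩
  · rw [SetLike.mem_coe, AddMonoidAlgebra.mem_gradeBy_iff] at hx hy
    refine AddMonoidAlgebra.ext ?_
    ext ⟨l, m⟩
    by_cases h : f (l, m) = 0
    · rw [← hF x m (fun _ h => hx h) l h, ← hF y m (fun _ h => hy h) l h]
      exact DFunLike.congr_fun (congrArg AddMonoidAlgebra.coeff hxy) m
    · rw [Finsupp.notMem_support_iff.1 (fun h' => h (hx h')), Finsupp.notMem_support_iff.1 (fun h' => h (hy h'))]
  · rw [SetLike.mem_coe, AddMonoidAlgebra.mem_gradeBy_iff] at hz
    choose g hg using fun m : z.coeff.support => (hmap m.1).1 (hz m.2)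
    refine ⟨∑ m : z.coeff.support, AddMonoidAlgebra.single (g m, m.1) (z.coeff m.1),
      Submodule.sum_mem _ fun m _ => ?_, ?_⟩
    · rw [AddMonoidAlgebra.mem_gradeBy_iff]
      intro y hy
      obtain rfl : y = (g m, m.1) := by
        have := Finsupp.support_single_subset hy
        simpa using this
      exact hg m
    · rw [map_sum]
      simp only [AddMonoidAlgebra.mapDomainAlgHom_apply]
      refine Eq.trans (Finset.sum_congr rfl fun m _ => ?_) ((Finset.sum_coe_sort z.coeff.support
        fun m => AddMonoidAlgebra.single m (z.coeff m)).trans z.sum_single)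
      simp

end Groth.Agent.S16405
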