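import Groth.Statements.S16411
import Groth.Agent.H9Misc.MVSqLib

set_option autoImplicit false
universe v u
open CategoryTheory CategoryTheory.Limits CategoryTheory.Pretriangulated
open W4c3perfectstacks W4c3perfectstacks.MVSq

namespace Groth.Agent.S16411

/-- In a Mayer–Vietoris square of triangulated categories with small coproducts (single-square form), an
object over X whose restrictions to U, to X' and to U' are compact is compact. (The four categories
are taken in common universes; coproducts are indexed by types in the morphism universe.) -/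
theorem result
    (S S' R R' : Type u) [Category.{v} S] [Category.{v} S'] [Category.{v} R] [Category.{v} R']
    [Preadditive S] [Preadditive S'] [Preadditive R] [Preadditive R']
    [HasZeroObject S] [HasZeroObject S'] [HasZeroObject R] [HasZeroObject R']
    [HasShift S ℤ] [HasShift S' ℤ] [HasShift R ℤ] [HasShift R' ℤ]
    [∀ n : ℤ, (shiftFunctor S n).Additive] [∀ n : ℤ, (shiftFunctor S' n).Additive]
    [∀ n : ℤ, (shiftFunctor R n).Additive] [∀ n : ℤ, (shiftFunctor R' n).Additive]
    [Pretriangulated S] [Pretriangulated S'] [Pretriangulated R] [Pretriangulated R']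
    [IsTriangulated S] [IsTriangulated S'] [IsTriangulated R] [IsTriangulated R']
    (q : W4c3perfectstacks.MVSq S S' R R')
    [q.jst.CommShift ℤ] [q.fst.CommShift ℤ] [q.jpst.CommShift ℤ] [q.gst.CommShift ℤ]
    [q.jst.IsTriangulated] [q.fst.IsTriangulated] [q.jpst.IsTriangulated] [q.gst.IsTriangulated]
    (hq : q.IsMV)
    [HasCoproducts.{v} S] [HasCoproducts.{v} S'] [HasCoproducts.{v} R] [HasCoproducts.{v} R']
    (N : S) (hU : CohDer.IsCompactObject (q.jst.obj N)) (hX' : CohDer.IsCompactObject (q.fst.obj N))
    (hU' : CohDer.IsCompactObject (q.gst.obj (q.jst.obj N))) :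
    CohDer.IsCompactObject N := by
  exact Groth.Agent.H9Misc.MVSqLib.isCompactObject_of_pullbacks hq N hU hX' hU'

end Groth.Agent.S16411
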