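import Groth.Statements.S16414
import Mathlib.Tactic.Linarith
import Mathlib.Tactic.Ring
import Mathlib.Tactic.Positivity
-- import your own Groth.Agent.* helpers here

set_option autoImplicit false
open Dieud

namespace Groth.Agent.S16414

/-- Let μ be a rational number with 0 < μ ≤ 1 and i an integer, and put f(i,j) = max(−i−j, −j, 0) for
integers j. Then min over all integers j of f(i,j) + jμ exists and equals max(−iμ, 0). -/
theorem result (μ : ℚ) (hμ0 : 0 < μ) (hμ1 : μ ≤ 1) (i : ℤ) :
    IsLeast (Set.range fun j : ℤ => ((max (max (-i - j) (-j)) 0 : ℤ) : ℚ) + (j : ℚ) * μ)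
      (max (-(i : ℚ) * μ) 0) := by
  constructor
  · rcases le_total 0 i with hi | hi
    · refine ⟨0, ?_⟩
      have h1 : max (max (-i - 0) (-0)) (0:ℤ) = 0 := by omega
      have h2 : -(i:ℚ) * μ ≤ 0 := by
        have : (0:ℚ) ≤ i := by exact_mod_cast hi
        nlinarith
      simp only [h1, max_eq_right h2]
      simp
    · refine ⟨-i, ?_⟩
      have h1 : max (max (-i - -i) (- -i)) (0:ℤ) = 0 := by omega
      have h2 : 0 ≤ -(i:ℚ) * μ := by
        have : (i:ℚ) ≤ 0 := by exact_mod_cast hi
        nlinarith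
      simp only [h1, max_eq_left h2]
      push_cast
      ring
  · rintro x ⟨j, rfl⟩
    simp only
    set m := max (max (-i - j) (-j)) (0:ℤ) with hm
    have a0 : (0:ℚ) ≤ m := by exact_mod_cast (le_max_right _ _ : (0:ℤ) ≤ m)
    have a1 : (0:ℚ) ≤ m + j := by exact_mod_cast (show (0:ℤ) ≤ m + j by omega)
    have a2 : -(i:ℚ) ≤ m + j := by exact_mod_cast (show -i ≤ m + j by omega)
    have e : (0:ℚ) ≤ (1 - μ) * m := mul_nonneg (by linarith) a0
    apply max_le
    · have := mul_le_mul_of_nonneg_right a2 hμ0.le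
      linarith
    · have := mul_nonneg a1 hμ0.le
      linarith

end Groth.Agent.S16414
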