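import Groth.Statements.S16416
import Mathlib.Algebra.Module.Submodule.Basic
-- import your own Groth.Agent.* helpers here

set_option autoImplicit false
universe u v w
open Dieud

namespace Groth.Agent.S16416

/-- For a prime p and a perfect field k of characteristic p, write W = W(k) for the ring of Witt vectors
and σ for its Frobenius; let M and N be free W-modules of finite rank, each with additive maps F
(σ-semilinear) and V (with V(σ(a)m) = aV(m)) satisfying FV = VF = p, and H = Hom_W(M, N). On H the
operator F acts through h ↦ F ∘ h ∘ V, and V acts partially: V·h is the W-linear map h' with h'(V m)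
= V(h(m)) for all m, when it exists. Let H₁ be the largest W-submodule of H stable under both (it
contains every submodule stable under both). Then H₁ ∩ V·H = V·H₁: if y ∈ H and V·y exists and lies
in H₁, then y ∈ H₁, so that H₁/VH₁ → H/(H ∩ VH) is injective. (The published statement is for the
Cartier modules of two p-divisible formal groups over k, every slope of the first below every slope
of the second; only the structure just listed is used, so connectedness and the slope condition are
not assumed.) -/
theorem result
    (p : ℕ) [Fact p.Prime] (k : Type u) [Field k] [CharP k p] [PerfectRing k p]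
    (M : Type v) [AddCommGroup M] [Module (WittVector p k) M]
    [Module.Free (WittVector p k) M] [Module.Finite (WittVector p k) M]
    (N : Type w) [AddCommGroup N] [Module (WittVector p k) N]
    [Module.Free (WittVector p k) N] [Module.Finite (WittVector p k) N]
    (FM VM : M →+ M) (FN VN : N →+ N)
    (hFM : ∀ (a : WittVector p k) (m : M), FM (a • m) = WittVector.frobenius a • FM m)
    (hVM : ∀ (a : WittVector p k) (m : M), VM (WittVector.frobenius a • m) = a • VM m)
    (hFVM : ∀ m : M, FM (VM m) = (p : WittVector p k) • m)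
    (hVFM : ∀ m : M, VM (FM m) = (p : WittVector p k) • m)
    (hFN : ∀ (a : WittVector p k) (n : N), FN (a • n) = WittVector.frobenius a • FN n)
    (hVN : ∀ (a : WittVector p k) (n : N), VN (WittVector.frobenius a • n) = a • VN n)
    (hFVN : ∀ n : N, FN (VN n) = (p : WittVector p k) • n)
    (hVFN : ∀ n : N, VN (FN n) = (p : WittVector p k) • n)
    (H₁ : Submodule (WittVector p k) (M →ₗ[WittVector p k] N))
    (hF : ∀ h ∈ H₁, ∃ h' ∈ H₁, ∀ m : M, h' m = FN (h (VM m)))
    (hV : ∀ h ∈ H₁, ∃ h' ∈ H₁, ∀ m : M, h' (VM m) = VN (h m))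
    (hmax : ∀ S : Submodule (WittVector p k) (M →ₗ[WittVector p k] N),
      (∀ h ∈ S, ∃ h' ∈ S, ∀ m : M, h' m = FN (h (VM m))) →
      (∀ h ∈ S, ∃ h' ∈ S, ∀ m : M, h' (VM m) = VN (h m)) → S ≤ H₁)
    (y : M →ₗ[WittVector p k] N) (x : M →ₗ[WittVector p k] N) (hx : x ∈ H₁)
    (hxy : ∀ m : M, x (VM m) = VN (y m)) :
    y ∈ H₁ := by
  have hsurjφ : Function.Surjective (WittVector.frobenius : WittVector p k →+* WittVector p k) :=
    (WittVector.frobenius_bijective p k).2
  -- the operator `h ↦ FN ∘ h ∘ VM`
  let Φ : (M →ₗ[WittVector p k] N) → (M →ₗ[WittVector p k] N) := fun h =>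
    { toFun := fun m => FN (h (VM m))
      map_add' := fun a b => by simp
      map_smul' := fun a m => by
        obtain ⟨b, rfl⟩ := hsurjφ a
        simp [hVM, hFN] }
  let gens : Set (M →ₗ[WittVector p k] N) := Set.range fun n : ℕ => Φ^[n] y
  let S := H₁ ⊔ Submodule.span (WittVector p k) gens
  have hy : y ∈ S := Submodule.mem_sup_right (Submodule.subset_span ⟨0, rfl⟩)
  refine hmax S (fun h hh => ⟨Φ h, ?_, fun m => rfl⟩) (fun h hh => ?_) hy
  · obtain ⟨a, ha, b, hb, rfl⟩ := Submodule.mem_sup.1 hh
    have hadd : Φ (a + b) = Φ a + Φ b := LinearMap.ext fun m => by simp [Φ]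
    rw [hadd]
    refine add_mem (Submodule.mem_sup_left ?_) ?_
    · obtain ⟨a', ha', he⟩ := hF a ha
      rwa [show Φ a = a' from LinearMap.ext fun m => (he m).symm]
    · clear hh hadd
      induction hb using Submodule.span_induction with
      | mem z hz =>
        obtain ⟨n, rfl⟩ := hz
        exact Submodule.mem_sup_right (Submodule.subset_span ⟨n + 1, Function.iterate_succ_apply' _ _ _⟩)
      | zero =>
        rw [show Φ 0 = 0 from LinearMap.ext fun m => by simp [Φ]]
        exact zero_mem _
      | add u v _ _ hu hv =>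
        rw [show Φ (u + v) = Φ u + Φ v from LinearMap.ext fun m => by simp [Φ]]
        exact add_mem hu hv
      | smul c u _ hu =>
        rw [show Φ (c • u) = WittVector.frobenius c • Φ u from LinearMap.ext fun m => by simp [Φ, hFN]]
        exact Submodule.smul_mem _ _ hu
  · obtain ⟨a, ha, b, hb, rfl⟩ := Submodule.mem_sup.1 hh
    obtain ⟨a', ha', he⟩ := hV a ha
    suffices ∃ b' ∈ S, ∀ m : M, b' (VM m) = VN (b m) by
      obtain ⟨b', hb', he'⟩ := this
      exact ⟨a' + b', add_mem (Submodule.mem_sup_left ha') hb', fun m => by simp [he, he']⟩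
    clear hh he ha' ha
    induction hb using Submodule.span_induction with
    | mem z hz =>
      obtain ⟨n, rfl⟩ := hz
      cases n with
      | zero => exact ⟨x, Submodule.mem_sup_left hx, hxy⟩
      | succ n =>
        refine ⟨(p : WittVector p k) • Φ^[n] y, Submodule.smul_mem _ _
          (Submodule.mem_sup_right (Submodule.subset_span ⟨n, rfl⟩)), fun m => ?_⟩
        simp [Function.iterate_succ_apply', Φ, hVFN]
    | zero => exact ⟨0, zero_mem _, fun m => by simp⟩
    | add u v _ _ hu hv =>
      obtain ⟨u', hu1, hu2⟩ := hu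
      obtain ⟨v', hv1, hv2⟩ := hv
      exact ⟨u' + v', add_mem hu1 hv1, fun m => by simp [hu2, hv2]⟩
    | smul c u _ hu =>
      obtain ⟨u', hu1, hu2⟩ := hu
      obtain ⟨d, rfl⟩ := hsurjφ c
      exact ⟨d • u', Submodule.smul_mem _ _ hu1, fun m => by simp [hu2, hVN]⟩

end Groth.Agent.S16416
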