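import Groth.Statements.S16417
import Mathlib.LinearAlgebra.FreeModule.PID
import Mathlib.RingTheory.WittVector.DiscreteValuationRing
import Mathlib.RingTheory.SimpleModule.Basic
-- import your own Groth.Agent.* helpers here

set_option autoImplicit false
universe u v w
open Dieud

namespace Groth.Agent.S16417

/-- For a prime p and a perfect field k of characteristic p, write W = W(k) for the ring of Witt vectors
and σ for its Frobenius; let M and N be free W-modules of finite rank, each with additive maps F
(σ-semilinear) and V (with V(σ(a)m) = aV(m)) satisfying FV = VF = p, and H = Hom_W(M, N); write VM ⊆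
M and VN ⊆ N for the images of V. (a) A W-linear h : M → N maps VM into VN if and only if h(V m) =
V(h'(m)) for all m for some W-linear h' : M → N (so the maps with this property form H ∩ V·H). (b)
The natural map from H to the W-linear maps VM → N/VN has image exactly the maps vanishing on pM =
V(FM): every such map is induced by some h ∈ H. (c) The W-length of H/(H ∩ V·H) is r₂ s₁, where r₂
is the length of N/VN and s₁ = rank M − length(M/VM) is the length of VM/pM. (The published
statement is for the Cartier modules of two p-divisible formal groups over k, every slope of the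
first below every slope of the second, and phrases (b), (c) as an isomorphism of H/(H ∩ VH) with
Hom_k(VM/pM, N/VN); only the structure listed is used, so connectedness and the slope condition are
not assumed.) -/
theorem result
    (p : ℕ) [Fact p.Prime] (k : Type u) [Field k] [CharP k p] [PerfectRing k p]
    (M : Type v) [AddCommGroup M] [Module (WittVector p k) M]
    [Module.Free (WittVector p k) M] [Module.Finite (WittVector p k) M]
    (N : Type w) [AddCommGroup N] [Module (WittVector p k) N]
    [Module.Free (WittVector p k) N] [Module.Finite (WittVector p k) N]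
    (FM VM : M →+ M) (FN VN : N →+ N)
    (hFM : ∀ (a : WittVector p k) (m : M), FM (a • m) = WittVector.frobenius a • FM m)
    (hVM : ∀ (a : WittVector p k) (m : M), VM (WittVector.frobenius a • m) = a • VM m)
    (hFVM : ∀ m : M, FM (VM m) = (p : WittVector p k) • m)
    (hVFM : ∀ m : M, VM (FM m) = (p : WittVector p k) • m)
    (hFN : ∀ (a : WittVector p k) (n : N), FN (a • n) = WittVector.frobenius a • FN n)
    (hVN : ∀ (a : WittVector p k) (n : N), VN (WittVector.frobenius a • n) = a • VN n)
    (hFVN : ∀ n : N, FN (VN n) = (p : WittVector p k) • n)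
    (hVFN : ∀ n : N, VN (FN n) = (p : WittVector p k) • n)
    (r₂ s₁ : ℕ)
    (hr₂ : Module.length (WittVector p k) (N ⧸ Submodule.span (WittVector p k) (Set.range VN)) = r₂)
    (hs₁ : (Module.finrank (WittVector p k) M : ℕ∞) =
      Module.length (WittVector p k) (M ⧸ Submodule.span (WittVector p k) (Set.range VM)) + s₁) :
    (∀ h : M →ₗ[WittVector p k] N,
      (∀ m : M, h (VM m) ∈ Submodule.span (WittVector p k) (Set.range VN)) ↔
        ∃ h' : M →ₗ[WittVector p k] N, ∀ m : M, h (VM m) = VN (h' m)) ∧
    (∀ g : Submodule.span (WittVector p k) (Set.range VM) →ₗ[WittVector p k]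
        N ⧸ Submodule.span (WittVector p k) (Set.range VN),
      (∀ m : M, g ⟨VM (FM m), Submodule.subset_span ⟨FM m, rfl⟩⟩ = 0) →
      ∃ h : M →ₗ[WittVector p k] N, ∀ x : Submodule.span (WittVector p k) (Set.range VM),
        (Submodule.span (WittVector p k) (Set.range VN)).mkQ (h x) = g x) ∧
    Module.length (WittVector p k) ((M →ₗ[WittVector p k] N) ⧸
      ⨅ m : M, (Submodule.span (WittVector p k) (Set.range VN)).comap
        (LinearMap.applyₗ (VM m) : (M →ₗ[WittVector p k] N) →ₗ[WittVector p k] N)) = (r₂ * s₁ : ℕ) := by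
  classical
  have hsurjφ : Function.Surjective (WittVector.frobenius : WittVector p k →+* WittVector p k) :=
    (WittVector.frobenius_bijective p k).2
  have hp0 : (p : WittVector p k) ≠ 0 := (WittVector.irreducible p).ne_zero
  have hVNinj : Function.Injective VN := fun a b h => smul_right_injective N hp0
    (show (p : WittVector p k) • a = (p : WittVector p k) • b by rw [← hFVN, ← hFVN, h])
  set RN := Submodule.span (WittVector p k) (Set.range VN) with hRN
  set RM := Submodule.span (WittVector p k) (Set.range VM) with hRM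
  have hrange : ∀ z ∈ RN, ∃ y, z = VN y := by
    intro z hz
    induction hz using Submodule.span_induction with
    | mem u hu => obtain ⟨y, rfl⟩ := hu; exact ⟨y, rfl⟩
    | zero => exact ⟨0, (map_zero VN).symm⟩
    | add u v _ _ hu hv =>
      obtain ⟨a, rfl⟩ := hu; obtain ⟨b, rfl⟩ := hv; exact ⟨a + b, (map_add VN a b).symm⟩
    | smul c u _ hu =>
      obtain ⟨a, rfl⟩ := hu; exact ⟨WittVector.frobenius c • a, (hVN c a).symm⟩
  have hpN : ∀ y : N, (p : WittVector p k) • y ∈ RN := fun y => by
    rw [← hVFN]; exact Submodule.subset_span ⟨_, rfl⟩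
  have hpM : ∀ y : M, (p : WittVector p k) • y ∈ RM := fun y => by
    rw [← hVFM]; exact Submodule.subset_span ⟨_, rfl⟩
  have hpQ : ∀ y : N ⧸ RN, (p : WittVector p k) • y = 0 := fun y => by
    obtain ⟨z, rfl⟩ := Submodule.mkQ_surjective RN y
    rw [← map_smul, Submodule.mkQ_apply, Submodule.Quotient.mk_eq_zero]; exact hpN z
  obtain ⟨n, snf⟩ := Submodule.smithNormalForm (Module.Free.chooseBasis (WittVector p k) M) RM
  let b := snf.bM
  let U := {i // b i ∈ RM}
  have hmax : IsLocalRing.maximalIdeal (WittVector p k) = Ideal.span {(p : WittVector p k)} :=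
    (WittVector.irreducible p).maximalIdeal_eq
  have hgen : ∀ x ∈ RM, ∃ (c : U → WittVector p k) (y : M),
      x = (∑ i, c i • b i.1) + (p : WittVector p k) • y := by
    intro x hx
    have hx' : (⟨x, hx⟩ : RM) ∈ Submodule.span (WittVector p k) (Set.range snf.bN) :=
      snf.bN.mem_span _
    suffices H : ∀ z : RM, z ∈ Submodule.span (WittVector p k) (Set.range snf.bN) →
        ∃ (c : U → WittVector p k) (y : M), (z : M) = (∑ i, c i • b i.1) + (p : WittVector p k) • y from
      H ⟨x, hx⟩ hx'
    intro z hz
    induction hz using Submodule.span_induction with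
    | mem u hu =>
      obtain ⟨i, rfl⟩ := hu
      by_cases hunit : IsUnit (snf.a i)
      · have hmem : b (snf.f i) ∈ RM := by
          obtain ⟨v, hv⟩ := hunit
          have h := RM.smul_mem (↑v⁻¹ : WittVector p k) (snf.bN i).2
          rwa [snf.snf i, ← hv, smul_smul, Units.inv_mul, one_smul] at h
        refine ⟨Pi.single ⟨snf.f i, hmem⟩ (snf.a i), 0, ?_⟩
        rw [snf.snf i, smul_zero, add_zero, Finset.sum_eq_single ⟨snf.f i, hmem⟩
          (fun j _ hj => by rw [Pi.single_eq_of_ne hj, zero_smul]) (by simp), Pi.single_eq_same]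
      · have h : snf.a i ∈ IsLocalRing.maximalIdeal (WittVector p k) := hunit
        rw [hmax, Ideal.mem_span_singleton'] at h
        obtain ⟨d, hd⟩ := h
        refine ⟨0, d • b (snf.f i), ?_⟩
        rw [snf.snf i, ← hd, smul_smul, mul_comm]
        simp [b]
    | zero => exact ⟨0, 0, by simp⟩
    | add u v _ _ hu hv =>
      obtain ⟨c, y, e⟩ := hu; obtain ⟨c', y', e'⟩ := hv
      refine ⟨c + c', y + y', ?_⟩
      simp only [Submodule.coe_add, e, e', Pi.add_apply, add_smul, Finset.sum_add_distrib, smul_add]
      abel
    | smul a u _ hu =>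
      obtain ⟨c, y, e⟩ := hu
      refine ⟨a • c, a • y, ?_⟩
      simp [e, Finset.smul_sum, smul_smul, mul_comm]
  have hext : ∀ q : U → N ⧸ RN, ∃ h : M →ₗ[WittVector p k] N, ∀ i : U, RN.mkQ (h (b i.1)) = q i := by
    intro q
    choose lift hlift using Submodule.mkQ_surjective RN
    refine ⟨b.constr (WittVector p k) fun i => if hi : b i ∈ RM then lift (q ⟨i, hi⟩) else 0, fun i => ?_⟩
    rw [b.constr_basis, dif_pos i.2, hlift]
  have hp2 : ∀ g : RM →ₗ[WittVector p k] N ⧸ RN,
      (∀ m : M, g ⟨VM (FM m), Submodule.subset_span ⟨FM m, rfl⟩⟩ = 0) →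
      ∃ h : M →ₗ[WittVector p k] N, ∀ x : RM, RN.mkQ (h x) = g x := by
    intro g hg
    obtain ⟨h, hh⟩ := hext fun i => g ⟨b i.1, i.2⟩
    refine ⟨h, fun x => ?_⟩
    obtain ⟨c, y, e⟩ := hgen x.1 x.2
    have e1 : x = (∑ i : U, c i • (⟨b i.1, i.2⟩ : RM)) + ⟨(p : WittVector p k) • y, hpM y⟩ :=
      Subtype.ext (by simp [e])
    have e2 : g ⟨(p : WittVector p k) • y, hpM y⟩ = 0 := by
      rw [← hg y]; congr 1; exact Subtype.ext (hVFM y).symm
    have e4 : RN.mkQ (h x) = ∑ i : U, c i • RN.mkQ (h (b i.1)) := by
      rw [e, map_add, map_sum, map_add, map_sum, map_smul h, map_smul RN.mkQ (p : WittVector p k), hpQ,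
        add_zero]
      exact Finset.sum_congr rfl fun i _ => by rw [map_smul, map_smul]
    rw [e4, e1, map_add, e2, add_zero, map_sum]
    exact Finset.sum_congr rfl fun i _ => by rw [hh, map_smul]
  refine ⟨fun h => ⟨fun hh => ?_, fun ⟨h', hh'⟩ m => ?_⟩, hp2, ?_⟩
  · choose y hy using fun m => hrange _ (hh m)
    refine ⟨{ toFun := y, map_add' := fun a c => hVNinj ?_, map_smul' := fun a c => hVNinj ?_ }, hy⟩
    · rw [map_add, ← hy, ← hy, ← hy, map_add, map_add]
    · obtain ⟨d, rfl⟩ := hsurjφ a
      rw [RingHom.id_apply, hVN, ← hy, ← hy, hVM, map_smul]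
  · rw [hh']; exact Submodule.subset_span ⟨_, rfl⟩
  · let Φ : (M →ₗ[WittVector p k] N) →ₗ[WittVector p k] (U → N ⧸ RN) :=
      LinearMap.pi fun i => RN.mkQ ∘ₗ LinearMap.applyₗ (b i.1)
    have hker : LinearMap.ker Φ = ⨅ m : M, RN.comap
        (LinearMap.applyₗ (VM m) : (M →ₗ[WittVector p k] N) →ₗ[WittVector p k] N) := by
      ext h
      rw [LinearMap.mem_ker, Submodule.mem_iInf]
      constructor
      · intro h0 m
        obtain ⟨c, y, e⟩ := hgen (VM m) (Submodule.subset_span ⟨m, rfl⟩)
        rw [Submodule.mem_comap, LinearMap.applyₗ_apply_apply, e, map_add, map_sum, map_smul]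
        refine add_mem (Submodule.sum_mem _ fun i _ => ?_) (hpN _)
        rw [map_smul]
        exact RN.smul_mem _ ((Submodule.Quotient.mk_eq_zero RN).1 (congrFun h0 i))
      · intro h0
        have hle : RM ≤ RN.comap h := Submodule.span_le.2 (by rintro _ ⟨m, rfl⟩; exact h0 m)
        funext i
        exact (Submodule.Quotient.mk_eq_zero RN).2 (hle i.2)
    have hΦ : Function.Surjective Φ := fun q => by
      obtain ⟨h, hh⟩ := hext q
      exact ⟨h, funext hh⟩
    rw [((Submodule.quotEquivOfEq _ _ hker.symm).trans (Φ.quotKerEquivOfSurjective hΦ)).length_eq,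
      Module.length_pi_of_fintype, Finset.sum_const, hr₂]
    let Uc := {i // b i ∉ RM}
    let Ψ : M →ₗ[WittVector p k] (Uc → WittVector p k ⧸ Ideal.span {(p : WittVector p k)}) :=
      LinearMap.pi fun i => (Submodule.mkQ _) ∘ₗ b.coord i.1
    have hΨ : LinearMap.ker Ψ = RM := by
      ext x
      rw [LinearMap.mem_ker]
      constructor
      · intro h0
        rw [← b.sum_repr x]
        refine Submodule.sum_mem _ fun i _ => ?_
        by_cases hi : b i ∈ RM
        · exact RM.smul_mem _ hi
        · have := (Submodule.Quotient.mk_eq_zero _).1 (congrFun h0 ⟨i, hi⟩)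
          obtain ⟨d, hd⟩ := Ideal.mem_span_singleton'.1 this
          rw [show b.repr x i = d * (p : WittVector p k) from hd.symm, mul_comm, mul_smul]
          exact hpM _
      · intro hx
        obtain ⟨c, y, rfl⟩ := hgen x hx
        funext i
        refine (Submodule.Quotient.mk_eq_zero _).2 ?_
        rw [Module.Basis.coord_apply, map_add, map_sum, Finsupp.add_apply, Finsupp.finsetSum_apply]
        refine add_mem (Submodule.sum_mem _ fun j _ => ?_) ?_
        · have hne : j.1 ≠ i.1 := fun e => i.2 (e ▸ j.2)
          simp [hne]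
        · rw [map_smul]
          exact Ideal.mul_mem_right _ _ (Ideal.mem_span_singleton_self _)
    have hΨs : Function.Surjective Ψ := fun q => by
      choose lift hlift using Submodule.mkQ_surjective (Ideal.span {(p : WittVector p k)})
      refine ⟨b.equivFun.symm fun i => if hi : b i ∈ RM then 0 else lift (q ⟨i, hi⟩), ?_⟩
      funext i
      have : b.coord i.1 (b.equivFun.symm fun i => if hi : b i ∈ RM then 0 else lift (q ⟨i, hi⟩)) =
          lift (q i) := by
        rw [Module.Basis.coord_apply, ← b.equivFun_apply, LinearEquiv.apply_symm_apply]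
        simp [i.2]
      exact (congrArg (Submodule.mkQ _) this).trans (hlift _)
    haveI : IsSimpleModule (WittVector p k) (WittVector p k ⧸ Ideal.span {(p : WittVector p k)}) :=
      isSimpleModule_iff_isCoatom.2 (by
        rw [← hmax]; exact (IsLocalRing.maximalIdeal.isMaximal _).out)
    rw [((Submodule.quotEquivOfEq _ _ hΨ.symm).trans (Ψ.quotKerEquivOfSurjective hΨs)).length_eq,
      Module.length_pi_of_fintype, Finset.sum_const, Module.length_eq_one,
      Module.finrank_eq_card_basis b] at hs₁
    simp only [Finset.card_univ, nsmul_eq_mul, mul_one] at hs₁ ⊢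
    obtain rfl : Fintype.card U = s₁ := by
      have h1 := Nat.cast_inj.1 (hs₁.trans (Nat.cast_add _ _).symm)
      have h2 : Fintype.card Uc = _ - Fintype.card U := Fintype.card_subtype_compl (fun i => b i ∈ RM)
      have h3 : Fintype.card U ≤ _ := Fintype.card_subtype_le (fun i => b i ∈ RM)
      omega
    push_cast
    ring

end Groth.Agent.S16417
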