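import Groth.Statements.S16418
import Mathlib.RingTheory.Noetherian.Basic
import Mathlib.RingTheory.WittVector.DiscreteValuationRing
-- import your own Groth.Agent.* helpers here

set_option autoImplicit false
universe u v
open Dieud

namespace Groth.Agent.S16418

/-- Step of the proof: for a prime p and a perfect field k of characteristic p, write W = W(k) and σ for
its Frobenius; let M be a W-module with additive maps F (σ-semilinear) and V (with V(σ(a)m) = aV(m))
such that FV = VF = p, V is injective, ⋂_n V^n M = 0 and M/VM is finitely generated over W. Put M₁ =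
{x ∈ M : for every n there is m with V^m x ∈ F^n M} and M₂ = {x ∈ M : F^n x = 0 for some n}. Then M₂
is killed by a single power of F, and F is injective on M₁. (The published text makes these
assertions inside a proof, for the V-reduced Cartier module of a connected smooth formal group of
finite dimension over k; only the listed structure is used, and V-adic completeness is not needed.) -/
theorem result
    (p : ℕ) [Fact p.Prime] (k : Type u) [Field k] [CharP k p] [PerfectRing k p]
    (M : Type v) [AddCommGroup M] [Module (WittVector p k) M]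
    (F V : M →+ M)
    (hF : ∀ (a : WittVector p k) (m : M), F (a • m) = WittVector.frobenius a • F m)
    (hV : ∀ (a : WittVector p k) (m : M), V (WittVector.frobenius a • m) = a • V m)
    (hFV : ∀ m : M, F (V m) = (p : WittVector p k) • m)
    (hVF : ∀ m : M, V (F m) = (p : WittVector p k) • m)
    (hVinj : Function.Injective V)
    (hsep : ∀ x : M, (∀ n : ℕ, ∃ y : M, x = (⇑V)^[n] y) → x = 0)
    (hfin : Module.Finite (WittVector p k) (M ⧸ Submodule.span (WittVector p k) (Set.range V))) :
    (∃ c : ℕ, ∀ x : M, (∃ n : ℕ, (⇑F)^[n] x = 0) → (⇑F)^[c] x = 0) ∧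
    (∀ x : M, (∀ n : ℕ, ∃ (m : ℕ) (y : M), (⇑V)^[m] x = (⇑F)^[n] y) → F x = 0 → x = 0) := by
  have hsurjφ : Function.Surjective (WittVector.frobenius : WittVector p k →+* WittVector p k) :=
    (WittVector.frobenius_bijective p k).2
  have hcomm : ∀ x, F (V x) = V (F x) := fun x => by rw [hFV, hVF]
  have hcommn : ∀ n x, (⇑F)^[n] (V x) = V ((⇑F)^[n] x) := fun n x =>
    (Function.Commute.iterate_left (f := ⇑F) (g := ⇑V) hcomm n).eq x
  have hFsmul : ∀ (n : ℕ) (a : WittVector p k) x, (⇑F)^[n] x = 0 → (⇑F)^[n] (a • x) = 0 := by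
    intro n
    induction n with
    | zero => intro a x h; simp_all
    | succ n ih =>
      intro a x h
      rw [Function.iterate_succ_apply, hF]
      exact ih _ _ (by rwa [← Function.iterate_succ_apply])
  let K : ℕ → Submodule (WittVector p k) M := fun n =>
    { carrier := {x | (⇑F)^[n] x = 0}
      zero_mem' := iterate_map_zero F n
      add_mem' := fun {a b} ha hb => by
        simp only [Set.mem_ofPred_eq] at ha hb ⊢
        rw [iterate_map_add F, ha, hb, add_zero]
      smul_mem' := fun a x h => hFsmul n a x h }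
  have hKmono : Monotone K := monotone_nat_of_le_succ fun n x (hx : (⇑F)^[n] x = 0) => by
    change (⇑F)^[n + 1] x = 0
    rw [Function.iterate_succ_apply', hx, map_zero]
  let q := (Submodule.span (WittVector p k) (Set.range V)).mkQ
  have hspan : ∀ x ∈ Submodule.span (WittVector p k) (Set.range V), ∃ y, x = V y := by
    intro x hx
    induction hx using Submodule.span_induction with
    | mem z hz => obtain ⟨y, rfl⟩ := hz; exact ⟨y, rfl⟩
    | zero => exact ⟨0, (map_zero V).symm⟩
    | add u v _ _ hu hv =>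
      obtain ⟨a, rfl⟩ := hu; obtain ⟨b, rfl⟩ := hv; exact ⟨a + b, (map_add V a b).symm⟩
    | smul c u _ hu =>
      obtain ⟨a, rfl⟩ := hu; exact ⟨WittVector.frobenius c • a, (hV c a).symm⟩
  obtain ⟨c, hc⟩ := monotone_stabilizes_iff_noetherian.2
    (inferInstance : IsNoetherian (WittVector p k) (M ⧸ Submodule.span (WittVector p k) (Set.range V)))
    ⟨fun n => (K n).map q, fun a b hab => Submodule.map_mono (hKmono hab)⟩
  have hstep : ∀ n x, (⇑F)^[n] x = 0 → ∃ y, (⇑F)^[c] x = V ((⇑F)^[c] y) ∧
      (⇑F)^[max n c] y = 0 := by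
    intro n x hx
    have hxm : x ∈ K (max n c) := hKmono (le_max_left n c) hx
    have h1 : q x ∈ (K c).map q := by
      rw [show (K c).map q = (K (max n c)).map q from hc _ (le_max_right n c)]
      exact Submodule.mem_map_of_mem hxm
    obtain ⟨z, hz, hzx⟩ := h1
    obtain ⟨y, hy⟩ := hspan _ ((Submodule.Quotient.eq _).1 hzx.symm)
    refine ⟨y, ?_, hVinj ?_⟩
    · rw [← hcommn, ← hy, iterate_map_sub F, show (⇑F)^[c] z = 0 from hz, sub_zero]
    · rw [← hcommn, ← hy, map_zero, iterate_map_sub F,
        show (⇑F)^[max n c] z = 0 from hKmono (le_max_right n c) hz,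
        show (⇑F)^[max n c] x = 0 from hxm, sub_zero]
  have hdiv : ∀ m n x, (⇑F)^[n] x = 0 → ∃ (y : M) (N : ℕ), (⇑F)^[c] x = (⇑V)^[m] ((⇑F)^[c] y) ∧ (⇑F)^[N] y = 0 := by
    intro m
    induction m with
    | zero => exact fun n x hx => ⟨x, n, rfl, hx⟩
    | succ m ih =>
      intro n x hx
      obtain ⟨y, N, e, hy⟩ := ih n x hx
      obtain ⟨z, e', hz⟩ := hstep N y hy
      exact ⟨z, max N c, by rw [e, e', ← Function.iterate_succ_apply (⇑V)], hz⟩
  have hfirst : ∀ x, (∃ n, (⇑F)^[n] x = 0) → (⇑F)^[c] x = 0 := by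
    rintro x ⟨n, hn⟩
    refine hsep _ fun m => ?_
    obtain ⟨y, -, e, -⟩ := hdiv m n x hn
    exact ⟨_, e⟩
  refine ⟨⟨c, hfirst⟩, fun x hx hFx => ?_⟩
  obtain ⟨m, y, hmy⟩ := hx c
  have h1 : (⇑F)^[c + 1] y = 0 := by
    have h2 : ∀ j, F ((⇑V)^[j] x) = (⇑V)^[j] (F x) := fun j =>
      ((Function.Commute.iterate_right (f := ⇑F) (g := ⇑V) hcomm j)).eq x
    rw [Function.iterate_succ_apply', ← hmy, h2, hFx, iterate_map_zero V]
  have h3 : (⇑V)^[m] x = (⇑V)^[m] 0 := by
    rw [hmy, hfirst y ⟨c + 1, h1⟩, iterate_map_zero V]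
  exact hVinj.iterate m h3

end Groth.Agent.S16418
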