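import Groth.Statements.S16419
import Groth.Agent.CAlgLifts.Torsor
import Mathlib.Algebra.Module.Projective

set_option autoImplicit false
universe u v
open CAlg

namespace Groth.Agent.S16419
open Groth.Agent.CAlgLifts

open TensorProduct in
/-- For a commutative local Artinian ring R and an exact sequence 0 → H₁ → H → H₂ → 0 of finite free
R-modules, let F₁ ⊆ H₁ and F₂ ⊆ H₂ be submodules with H₁/F₁ and H₂/F₂ free; let 𝔫 be an ideal of R
of square zero, R̄ = R/𝔫, and F̄ an R̄-submodule of H̄ = R̄ ⊗ H with free quotient such that F̄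
meets the image of R̄ ⊗ H₁ in the image of R̄ ⊗ F₁ and the image of F̄ in R̄ ⊗ H₂ is the image of R̄
⊗ F₂. Then there is a direct summand F of H with F ∩ H₁ = F₁, whose image in H̄ is F̄ and whose
image in H₂ is F₂. -/
theorem result
    (R : Type u) [CommRing R] [IsArtinianRing R] [IsLocalRing R]
    (H₁ : Type v) (H : Type v) (H₂ : Type v)
    [AddCommGroup H₁] [Module R H₁] [AddCommGroup H] [Module R H] [AddCommGroup H₂] [Module R H₂]
    [Module.Free R H₁] [Module.Finite R H₁] [Module.Free R H] [Module.Finite R H]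
    [Module.Free R H₂] [Module.Finite R H₂]
    (f : H₁ →ₗ[R] H) (g : H →ₗ[R] H₂) (hf : Function.Injective f) (hg : Function.Surjective g)
    (hfg : Function.Exact f g)
    (F₁ : Submodule R H₁) (F₂ : Submodule R H₂) [Module.Free R (H₁ ⧸ F₁)] [Module.Free R (H₂ ⧸ F₂)]
    (𝔫 : Ideal R) (hn : 𝔫 * 𝔫 = ⊥)
    (Fb : Submodule (R ⧸ 𝔫) ((R ⧸ 𝔫) ⊗[R] H))
    [Module.Free (R ⧸ 𝔫) (((R ⧸ 𝔫) ⊗[R] H) ⧸ Fb)]
    (h1 : Fb ⊓ LinearMap.range (f.baseChange (R ⧸ 𝔫)) =
      Submodule.map (f.baseChange (R ⧸ 𝔫)) (F₁.baseChange (R ⧸ 𝔫)))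
    (h2 : Submodule.map (g.baseChange (R ⧸ 𝔫)) Fb = F₂.baseChange (R ⧸ 𝔫)) :
    ∃ F : Submodule R H, (∃ C : Submodule R H, IsCompl F C) ∧
      F ⊓ LinearMap.range f = Submodule.map f F₁ ∧
      F.baseChange (R ⧸ 𝔫) = Fb ∧ Submodule.map g F = F₂ := by
  have hgf : ∀ h, g (f h) = 0 := fun h => (hfg (f h)).2 ⟨h, rfl⟩
  obtain ⟨c₁, hc₁⟩ := Module.projective_lifting_property F₁.mkQ LinearMap.id F₁.mkQ_surjective
  obtain ⟨c₂, hc₂⟩ := Module.projective_lifting_property F₂.mkQ LinearMap.id F₂.mkQ_surjective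
  have hc₁' : ∀ z, F₁.mkQ (c₁ z) = z := fun z => LinearMap.congr_fun hc₁ z
  have hc₂' : ∀ z, F₂.mkQ (c₂ z) = z := fun z => LinearMap.congr_fun hc₂ z
  let p₂ : H₂ →ₗ[R] F₂ := (LinearMap.id - c₂ ∘ₗ F₂.mkQ).codRestrict F₂ (fun y => by
    rw [← Submodule.Quotient.mk_eq_zero]
    show F₂.mkQ (y - c₂ (F₂.mkQ y)) = 0
    rw [map_sub, hc₂', sub_self])
  have hp₂ : ∀ y : F₂, p₂ y = y := fun y => Subtype.ext (by
    show (y : H₂) - c₂ (F₂.mkQ (y : H₂)) = y
    rw [Submodule.mkQ_apply, (Submodule.Quotient.mk_eq_zero _).2 y.2, map_zero, sub_zero])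
  haveI : Module.Projective R F₂ := Module.Projective.of_split F₂.subtype p₂ (LinearMap.ext hp₂)
  obtain ⟨j, hj⟩ := Module.projective_lifting_property g LinearMap.id hg
  have hjg : ∀ y, g (j y) = y := fun y => LinearMap.congr_fun hj y
  -- elements over `Fb` and `F₂`
  let P : Submodule R H :=
    ((Fb.restrictScalars R).comap (TensorProduct.mk R (R ⧸ 𝔫) H 1)) ⊓ F₂.comap g
  have hP : ∀ a ∈ P, (1 : R ⧸ 𝔫) ⊗ₜ[R] a ∈ Fb := fun a ha => ha.1
  let gP : P →ₗ[R] F₂ := (g ∘ₗ P.subtype).codRestrict F₂ fun a => a.2.2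
  have hgP : Function.Surjective gP := by
    rintro ⟨y, hy⟩
    obtain ⟨z, hz, hzy⟩ := h2.ge (Submodule.tmul_mem_baseChange_of_mem (1 : R ⧸ 𝔫) hy)
    obtain ⟨a, rfl⟩ := TensorProduct.mk_surjective R H (R ⧸ 𝔫) Ideal.Quotient.mk_surjective z
    rw [TensorProduct.mk_apply, LinearMap.baseChange_tmul, one_tmul_eq_iff] at hzy
    rw [← LinearMap.range_eq_top.2 hg, LinearMap.range_eq_map, ← Submodule.map_smul''] at hzy
    obtain ⟨m, hm, hgm⟩ := hzy
    have h1m : ((1 : R ⧸ 𝔫) ⊗ₜ[R] (a - m) : (R ⧸ 𝔫) ⊗[R] H) = 1 ⊗ₜ a := by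
      rw [one_tmul_eq_iff, sub_sub_cancel_left]
      exact neg_mem hm
    have hga : g (a - m) = y := by rw [map_sub, hgm, sub_sub_cancel]
    refine ⟨⟨a - m, ?_, ?_⟩, Subtype.ext hga⟩
    · show (1 : R ⧸ 𝔫) ⊗ₜ[R] (a - m) ∈ Fb
      rw [h1m]; exact hz
    · show g (a - m) ∈ F₂
      rw [hga]; exact hy
  obtain ⟨s, hs⟩ := Module.projective_lifting_property gP LinearMap.id hgP
  have hsg : ∀ y : F₂, g (s y : H) = y := fun y => congrArg Subtype.val (LinearMap.congr_fun hs y)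
  let t : H₂ →ₗ[R] H := P.subtype ∘ₗ s ∘ₗ p₂ + j ∘ₗ c₂ ∘ₗ F₂.mkQ
  have htg : ∀ y, g (t y) = y := fun y => by
    show g ((s (p₂ y) : H) + j (c₂ (F₂.mkQ y))) = y
    rw [map_add, hsg, hjg]
    exact sub_add_cancel y _
  have htP : ∀ y ∈ F₂, t y ∈ P := fun y hy => by
    show (s (p₂ y) : H) + j (c₂ (F₂.mkQ y)) ∈ P
    rw [Submodule.mkQ_apply, (Submodule.Quotient.mk_eq_zero _).2 hy, map_zero, map_zero, add_zero]
    exact (s _).2
  have hfP : ∀ h ∈ F₁, f h ∈ P := fun h hh => by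
    refine ⟨?_, show g (f h) ∈ F₂ by rw [hgf]; exact zero_mem _⟩
    show (1 : R ⧸ 𝔫) ⊗ₜ[R] f h ∈ Fb
    rw [← LinearMap.baseChange_tmul (f := f)]
    exact (h1.ge (Submodule.mem_map_of_mem (Submodule.tmul_mem_baseChange_of_mem 1 hh))).1
  let F : Submodule R H := F₁.map f ⊔ F₂.map t
  have hFP : F ≤ P := sup_le (Submodule.map_le_iff_le_comap.2 hfP) (Submodule.map_le_iff_le_comap.2 htP)
  have hdec : ∀ a, ∃ h, a = f h + t (g a) := fun a => by
    obtain ⟨h, hh⟩ := (hfg (a - t (g a))).1 (by rw [map_sub, htg, sub_self])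
    exact ⟨h, by rw [hh, sub_add_cancel]⟩
  refine ⟨F, ⟨(LinearMap.range c₁).map f ⊔ (LinearMap.range c₂).map t, ?_, ?_⟩, ?_, ?_, ?_⟩
  · rw [Submodule.disjoint_def]
    intro a ha ha'
    obtain ⟨_, ⟨h, hh, rfl⟩, _, ⟨y, hy, rfl⟩, rfl⟩ := Submodule.mem_sup.1 ha
    obtain ⟨_, ⟨_, ⟨z, rfl⟩, rfl⟩, _, ⟨_, ⟨w, rfl⟩, rfl⟩, he⟩ := Submodule.mem_sup.1 ha'
    have hy' := congrArg g he
    simp only [map_add, hgf, htg, zero_add] at hy'
    have hw : w = 0 := by
      rw [← hc₂' w, hy', Submodule.mkQ_apply, Submodule.Quotient.mk_eq_zero]; exact hy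
    rw [hw, map_zero] at hy'
    rw [← hy', hw, map_zero] at he
    simp only [map_zero, add_zero] at he
    rw [← hy', map_zero, add_zero]
    have hh' : h = c₁ z := (hf he).symm
    have hz : z = 0 := by
      rw [← hc₁' z, ← hh', Submodule.mkQ_apply, Submodule.Quotient.mk_eq_zero]; exact hh
    rw [hh', hz, map_zero, map_zero]
  · rw [codisjoint_iff, eq_top_iff]
    intro a _
    obtain ⟨h, hh⟩ := hdec a
    rw [hh, show h = (h - c₁ (F₁.mkQ h)) + c₁ (F₁.mkQ h) from (sub_add_cancel _ _).symm,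
      show g a = (g a - c₂ (F₂.mkQ (g a))) + c₂ (F₂.mkQ (g a)) from (sub_add_cancel _ _).symm,
      map_add, map_add, add_add_add_comm]
    refine Submodule.add_mem_sup (Submodule.add_mem_sup (Submodule.mem_map_of_mem ?_) (Submodule.mem_map_of_mem ?_))
      (Submodule.add_mem_sup (Submodule.mem_map_of_mem (LinearMap.mem_range_self c₁ _))
        (Submodule.mem_map_of_mem (LinearMap.mem_range_self c₂ _)))
    · rw [← Submodule.Quotient.mk_eq_zero, ← Submodule.mkQ_apply, map_sub, hc₁', sub_self]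
    · rw [← Submodule.Quotient.mk_eq_zero, ← Submodule.mkQ_apply, map_sub, hc₂', sub_self]
  · refine le_antisymm ?_ (le_inf le_sup_left LinearMap.map_le_range)
    rintro a ⟨ha, h', rfl⟩
    obtain ⟨_, ⟨h, hh, rfl⟩, _, ⟨y, hy, rfl⟩, he⟩ := Submodule.mem_sup.1 ha
    have hy' := congrArg g he
    simp only [map_add, hgf, htg, zero_add] at hy'
    rw [← he, hy', map_zero, add_zero]
    exact Submodule.mem_map_of_mem hh
  · ext z
    rw [mem_baseChange_quot]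
    constructor
    · rintro ⟨a, ha, rfl⟩
      exact hP a (hFP ha)
    · intro hz
      obtain ⟨a, rfl⟩ := TensorProduct.mk_surjective R H (R ⧸ 𝔫) Ideal.Quotient.mk_surjective z
      rw [TensorProduct.mk_apply] at hz ⊢
      obtain ⟨y, hy, hye⟩ := (mem_baseChange_quot 𝔫).1 (h2.le (Submodule.mem_map_of_mem hz))
      rw [LinearMap.baseChange_tmul, one_tmul_eq_iff] at hye
      obtain ⟨h, hh⟩ := hdec a
      have hm := map_mem_smul_top 𝔫 t hye
      rw [map_sub] at hm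
      have h1a : ((1 : R ⧸ 𝔫) ⊗ₜ[R] a : (R ⧸ 𝔫) ⊗[R] H) = 1 ⊗ₜ (f h + t y) := by
        rw [one_tmul_eq_iff, hh]
        simpa [map_add, hgf, htg] using neg_mem hm
      have hfh : (1 : R ⧸ 𝔫) ⊗ₜ[R] f h ∈ Fb ⊓ LinearMap.range (f.baseChange (R ⧸ 𝔫)) := by
        refine ⟨?_, ⟨1 ⊗ₜ h, LinearMap.baseChange_tmul ..⟩⟩
        rw [show f h = (f h + t y) - t y from (add_sub_cancel_right _ _).symm, TensorProduct.tmul_sub, ← h1a]
        exact Fb.sub_mem hz (hP _ (htP y hy))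
      rw [h1] at hfh
      obtain ⟨w, hw, hwe⟩ := hfh
      obtain ⟨h', hh', rfl⟩ := (mem_baseChange_quot 𝔫).1 hw
      rw [LinearMap.baseChange_tmul] at hwe
      refine ⟨f h' + t y, Submodule.add_mem_sup (Submodule.mem_map_of_mem hh') (Submodule.mem_map_of_mem hy), ?_⟩
      rw [h1a, TensorProduct.tmul_add, TensorProduct.tmul_add, hwe]
  · refine le_antisymm ?_ fun y hy => ⟨t y, Submodule.mem_sup_right (Submodule.mem_map_of_mem hy), htg y⟩
    exact Submodule.map_le_iff_le_comap.2 fun a ha => (hFP ha).2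

end Groth.Agent.S16419
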