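import Groth.Statements.S16420
import Groth.Agent.CAlgLifts.Torsor

set_option autoImplicit false
universe u v
open CAlg

namespace Groth.Agent.S16420

open TensorProduct in
/-- For a commutative local Artinian ring R and an exact sequence 0 → H₁ → H → H₂ → 0 of finite free
R-modules, let F₁ ⊆ H₁ and F₂ ⊆ H₂ be submodules with free quotients, 𝔫 an ideal of R of square
zero, R̄ = R/𝔫, and F̄ ⊆ H̄ = R̄ ⊗ H an R̄-submodule with free quotient meeting the image of R̄ ⊗ H₁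
in the image of R̄ ⊗ F₁ and mapping onto the image of R̄ ⊗ F₂; let L be the set of direct summands F
of H with F ∩ H₁ = F₁, with image F̄ in H̄ and with image F₂ in H₂. Then L is a torsor under
Hom_R(F₂, 𝔫(H₁/F₁)), acting as follows: an R-linear u : H₂ → H₁ with u(H₂) ⊆ 𝔫H₁ moves F ∈ L to the
image of F under x ↦ x + f(u(g(x))). Precisely, for F ∈ L: (1) that image again lies in L; (2) it
equals F if and only if u(F₂) ⊆ 𝔫F₁; (3) every F' ∈ L is obtained from F in this way for some such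
u. (The published statement phrases the torsor under the R̄-linear maps from F̄₂ to 𝔫 ⊗ (H̄₁/F̄₁), a
group identified with the maps u as above modulo those with u(F₂) ⊆ 𝔫F₁, and describes the action
through a lift F₂ → 𝔫 ⊗ H₁ composed with F → F/F₁ ≅ F₂; restricted to F this is x ↦ f(u(g(x))).) -/
theorem result
    (R : Type u) [CommRing R] [IsArtinianRing R] [IsLocalRing R]
    (H₁ : Type v) (H : Type v) (H₂ : Type v)
    [AddCommGroup H₁] [Module R H₁] [AddCommGroup H] [Module R H] [AddCommGroup H₂] [Module R H₂]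
    [Module.Free R H₁] [Module.Finite R H₁] [Module.Free R H] [Module.Finite R H]
    [Module.Free R H₂] [Module.Finite R H₂]
    (f : H₁ →ₗ[R] H) (g : H →ₗ[R] H₂) (hf : Function.Injective f) (hg : Function.Surjective g)
    (hfg : Function.Exact f g)
    (F₁ : Submodule R H₁) (F₂ : Submodule R H₂) [Module.Free R (H₁ ⧸ F₁)] [Module.Free R (H₂ ⧸ F₂)]
    (𝔫 : Ideal R) (hn : 𝔫 * 𝔫 = ⊥)
    (Fb : Submodule (R ⧸ 𝔫) ((R ⧸ 𝔫) ⊗[R] H))
    [Module.Free (R ⧸ 𝔫) (((R ⧸ 𝔫) ⊗[R] H) ⧸ Fb)]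
    (h1 : Fb ⊓ LinearMap.range (f.baseChange (R ⧸ 𝔫)) =
      Submodule.map (f.baseChange (R ⧸ 𝔫)) (F₁.baseChange (R ⧸ 𝔫)))
    (h2 : Submodule.map (g.baseChange (R ⧸ 𝔫)) Fb = F₂.baseChange (R ⧸ 𝔫))
    (F F' : Submodule R H)
    (hF : (∃ C : Submodule R H, IsCompl (F) C) ∧
      (F) ⊓ LinearMap.range f = Submodule.map f F₁ ∧
      Submodule.baseChange (R ⧸ 𝔫) (F) = Fb ∧ Submodule.map g (F) = F₂)
    (hF' : (∃ C : Submodule R H, IsCompl (F') C) ∧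
      (F') ⊓ LinearMap.range f = Submodule.map f F₁ ∧
      Submodule.baseChange (R ⧸ 𝔫) (F') = Fb ∧ Submodule.map g (F') = F₂) :
    (∀ u : H₂ →ₗ[R] H₁, (∀ y : H₂, u y ∈ 𝔫 • (⊤ : Submodule R H₁)) →
      (∃ C : Submodule R H, IsCompl (Submodule.map (LinearMap.id + f ∘ₗ u ∘ₗ g) F) C) ∧
      (Submodule.map (LinearMap.id + f ∘ₗ u ∘ₗ g) F) ⊓ LinearMap.range f = Submodule.map f F₁ ∧
      Submodule.baseChange (R ⧸ 𝔫) (Submodule.map (LinearMap.id + f ∘ₗ u ∘ₗ g) F) = Fb ∧ Submodule.map g (Submodule.map (LinearMap.id + f ∘ₗ u ∘ₗ g) F) = F₂) ∧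
    (∀ u : H₂ →ₗ[R] H₁, (∀ y : H₂, u y ∈ 𝔫 • (⊤ : Submodule R H₁)) →
      (Submodule.map (LinearMap.id + f ∘ₗ u ∘ₗ g) F = F ↔ ∀ y ∈ F₂, u y ∈ 𝔫 • F₁)) ∧
    (∃ u : H₂ →ₗ[R] H₁, (∀ y : H₂, u y ∈ 𝔫 • (⊤ : Submodule R H₁)) ∧
      F' = Submodule.map (LinearMap.id + f ∘ₗ u ∘ₗ g) F) := by
  obtain ⟨⟨C, hC⟩, hFint, hFb, hFg⟩ := hF
  obtain ⟨-, hF'int, hF'b, hF'g⟩ := hF'
  have hgf : ∀ h, g (f h) = 0 := fun h => (hfg (f h)).2 ⟨h, rfl⟩
  have hfF : ∀ h ∈ F₁, f h ∈ F := fun h hh => (hFint.ge (Submodule.mem_map_of_mem hh)).1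
  have hfF' : ∀ h ∈ F₁, f h ∈ F' := fun h hh => (hF'int.ge (Submodule.mem_map_of_mem hh)).1
  have hmemF : ∀ h, f h ∈ F → h ∈ F₁ := fun h hh => by
    obtain ⟨h', hh', he⟩ := hFint.le (Submodule.mem_inf.2 ⟨hh, LinearMap.mem_range_self f h⟩)
    rwa [← hf he]
  -- complements
  obtain ⟨c₁, hc₁⟩ := Module.projective_lifting_property F₁.mkQ LinearMap.id F₁.mkQ_surjective
  let q : H₁ →ₗ[R] H₁ := c₁ ∘ₗ F₁.mkQ
  have hq : ∀ h, h - q h ∈ F₁ := fun h => by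
    rw [← Submodule.Quotient.mk_eq_zero, Submodule.Quotient.mk_sub]
    show F₁.mkQ h - F₁.mkQ (c₁ (F₁.mkQ h)) = 0
    rw [show F₁.mkQ (c₁ (F₁.mkQ h)) = F₁.mkQ h from LinearMap.congr_fun hc₁ (F₁.mkQ h), sub_self]
  have hq0 : ∀ h ∈ F₁, q h = 0 := fun h hh => by
    show c₁ (F₁.mkQ h) = 0
    rw [Submodule.mkQ_apply, (Submodule.Quotient.mk_eq_zero _).2 hh, map_zero]
  obtain ⟨c₂, hc₂⟩ := Module.projective_lifting_property F₂.mkQ LinearMap.id F₂.mkQ_surjective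
  let p₂ : H₂ →ₗ[R] F₂ := (LinearMap.id - c₂ ∘ₗ F₂.mkQ).codRestrict F₂ (fun y => by
    rw [← Submodule.Quotient.mk_eq_zero]
    show F₂.mkQ (y - c₂ (F₂.mkQ y)) = 0
    rw [map_sub, show F₂.mkQ (c₂ (F₂.mkQ y)) = F₂.mkQ y from LinearMap.congr_fun hc₂ (F₂.mkQ y), sub_self])
  have hp₂ : ∀ y : F₂, p₂ y = y := fun y => Subtype.ext (by
    show (y : H₂) - c₂ (F₂.mkQ (y : H₂)) = y
    rw [Submodule.mkQ_apply, (Submodule.Quotient.mk_eq_zero _).2 y.2, map_zero, sub_zero])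
  have : Module.Projective R F₂ := Module.Projective.of_split F₂.subtype p₂ (LinearMap.ext hp₂)
  obtain ⟨j, hj⟩ := Module.projective_lifting_property g LinearMap.id hg
  have hjg : ∀ y, g (j y) = y := fun y => LinearMap.congr_fun hj y
  have hker : ∀ x, x - j (g x) ∈ LinearMap.range f := fun x =>
    (hfg _).1 (by rw [map_sub, hjg, sub_self])
  let π : H →ₗ[R] LinearMap.range f := (LinearMap.id - j ∘ₗ g).codRestrict _ hker
  let r : H →ₗ[R] H₁ := (LinearEquiv.ofInjective f hf).symm.toLinearMap ∘ₗ π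
  have hfr : ∀ x, f (r x) = x - j (g x) := fun x =>
    congrArg Subtype.val ((LinearEquiv.ofInjective f hf).apply_symm_apply (π x))
  have hrf : ∀ h, r (f h) = h := fun h => hf (by rw [hfr, hgf, map_zero, sub_zero])
  -- the automorphism
  have hσg : ∀ (u : H₂ →ₗ[R] H₁) (x : H), g ((LinearMap.id + f ∘ₗ u ∘ₗ g : H →ₗ[R] H) x) = g x := fun u x => by
    simp [hgf]
  refine ⟨fun u hu => ⟨?_, ?_, ?_, ?_⟩, fun u hu => ?_, ?_⟩
  · let σ : H ≃ₗ[R] H :=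
      { (LinearMap.id + f ∘ₗ u ∘ₗ g : H →ₗ[R] H) with
        invFun := fun x => x - f (u (g x))
        left_inv := fun x => by
          show x + f (u (g x)) - f (u (g (x + f (u (g x))))) = x
          simp [hgf]
        right_inv := fun x => by
          show x - f (u (g x)) + f (u (g (x - f (u (g x))))) = x
          simp [hgf] }
    exact ⟨Submodule.map (LinearMap.id + f ∘ₗ u ∘ₗ g : H →ₗ[R] H) C, hC.map (Submodule.orderIsoMapComap σ)⟩
  · apply le_antisymm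
    · rintro _ ⟨⟨a, ha, rfl⟩, h, hh⟩
      have ha0 : g a = 0 := by rw [← hσg u a, ← hh, hgf]
      have : (LinearMap.id + f ∘ₗ u ∘ₗ g : H →ₗ[R] H) a = a := by simp [ha0]
      rw [this] at hh ⊢
      exact hFint.le (Submodule.mem_inf.2 ⟨ha, h, hh⟩)
    · rintro _ ⟨h, hh, rfl⟩
      exact ⟨⟨f h, hfF h hh, by simp [hgf]⟩, LinearMap.mem_range_self f h⟩
  · rw [← hFb]
    have key : ∀ a, ((1 : R ⧸ 𝔫) ⊗ₜ[R] (LinearMap.id + f ∘ₗ u ∘ₗ g : H →ₗ[R] H) a : (R ⧸ 𝔫) ⊗[R] H) = 1 ⊗ₜ a := fun a => by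
      rw [Groth.Agent.CAlgLifts.one_tmul_eq_iff]
      simpa using Groth.Agent.CAlgLifts.map_mem_smul_top 𝔫 f (hu (g a))
    ext z
    rw [Groth.Agent.CAlgLifts.mem_baseChange_quot, Groth.Agent.CAlgLifts.mem_baseChange_quot]
    constructor
    · rintro ⟨_, ⟨a, ha, rfl⟩, rfl⟩; exact ⟨a, ha, (key a).symm⟩
    · rintro ⟨a, ha, rfl⟩; exact ⟨_, ⟨a, ha, rfl⟩, key a⟩
  · rw [← Submodule.map_comp]
    conv_rhs => rw [← hFg]
    congr 1
    exact LinearMap.ext (hσg u)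
  · constructor
    · intro heq y hy
      rw [← hFg] at hy
      obtain ⟨a, ha, rfl⟩ := hy
      have h1 : (LinearMap.id + f ∘ₗ u ∘ₗ g : H →ₗ[R] H) a ∈ F := heq.le ⟨a, ha, rfl⟩
      have h3 : u (g a) ∈ F₁ := hmemF _ (by simpa using F.sub_mem h1 ha)
      have h4 := Groth.Agent.CAlgLifts.map_mem_smul_top 𝔫
        ((LinearMap.id - q).codRestrict F₁ hq) (hu (g a))
      rw [← Submodule.map_subtype_top F₁, ← Submodule.map_smul'']
      exact ⟨_, h4, by simp [hq0 _ h3]⟩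
    · intro h
      have hn' : ∀ a ∈ F, f (u (g a)) ∈ F := fun a ha =>
        hfF _ (Submodule.smul_le_right (h _ (hFg ▸ Submodule.mem_map_of_mem ha)))
      apply le_antisymm
      · rintro _ ⟨a, ha, rfl⟩; exact F.add_mem ha (hn' a ha)
      · intro a ha
        exact ⟨a - f (u (g a)), F.sub_mem ha (hn' a ha), by simp [hgf]⟩
  · -- transitivity
    let gF : F →ₗ[R] F₂ := (g ∘ₗ F.subtype).codRestrict F₂ fun a => hFg.le ⟨a, a.2, rfl⟩
    let gF' : F' →ₗ[R] F₂ := (g ∘ₗ F'.subtype).codRestrict F₂ fun a => hF'g.le ⟨a, a.2, rfl⟩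
    obtain ⟨s, hs⟩ := Module.projective_lifting_property gF LinearMap.id (fun y => by
      obtain ⟨a, ha, hy⟩ := hFg.ge y.2; exact ⟨⟨a, ha⟩, Subtype.ext hy⟩)
    obtain ⟨s', hs'⟩ := Module.projective_lifting_property gF' LinearMap.id (fun y => by
      obtain ⟨a, ha, hy⟩ := hF'g.ge y.2; exact ⟨⟨a, ha⟩, Subtype.ext hy⟩)
    have hsg : ∀ y, g (s y : H) = y := fun y => congrArg Subtype.val (LinearMap.congr_fun hs y)
    have hs'g : ∀ y, g (s' y : H) = y := fun y => congrArg Subtype.val (LinearMap.congr_fun hs' y)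
    let u₀ : F₂ →ₗ[R] H₁ := r ∘ₗ (F'.subtype ∘ₗ s' - F.subtype ∘ₗ s)
    have hu₀ : ∀ y, f (u₀ y) = (s' y : H) - s y := fun y => by
      show f (r ((s' y : H) - s y)) = _
      rw [hfr, map_sub, hs'g, hsg, sub_self, map_zero, sub_zero]
    have hu₀n : ∀ y, q (u₀ y) ∈ 𝔫 • (⊤ : Submodule R H₁) := fun y => by
      have hmem : ((1 : R ⧸ 𝔫) ⊗ₜ[R] f (u₀ y) : (R ⧸ 𝔫) ⊗[R] H) ∈
          Fb ⊓ LinearMap.range (f.baseChange (R ⧸ 𝔫)) := by
        refine ⟨?_, ⟨1 ⊗ₜ u₀ y, LinearMap.baseChange_tmul ..⟩⟩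
        rw [hu₀, TensorProduct.tmul_sub]
        exact Fb.sub_mem (hF'b ▸ Submodule.tmul_mem_baseChange_of_mem 1 (s' y).2)
          (hFb ▸ Submodule.tmul_mem_baseChange_of_mem 1 (s y).2)
      rw [h1] at hmem
      obtain ⟨w, hw, he⟩ := hmem
      obtain ⟨h', hh', rfl⟩ := (Groth.Agent.CAlgLifts.mem_baseChange_quot 𝔫).1 hw
      rw [LinearMap.baseChange_tmul, Groth.Agent.CAlgLifts.one_tmul_eq_iff] at he
      have h3 := Groth.Agent.CAlgLifts.map_mem_smul_top 𝔫 r he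
      rw [map_sub, hrf, hrf] at h3
      have h4 := Groth.Agent.CAlgLifts.map_mem_smul_top 𝔫 q h3
      rw [map_sub, hq0 h' hh', zero_sub, Submodule.neg_mem_iff] at h4
      exact h4
    let u : H₂ →ₗ[R] H₁ := q ∘ₗ u₀ ∘ₗ p₂
    refine ⟨u, fun y => hu₀n (p₂ y), ?_⟩
    have key : ∀ y : F₂, ∃ h ∈ F₁, (LinearMap.id + f ∘ₗ u ∘ₗ g : H →ₗ[R] H) (s y : H) + f h = s' y := fun y =>
      ⟨u₀ y - q (u₀ y), hq _, by
        simp only [LinearMap.add_apply, LinearMap.id_apply, LinearMap.comp_apply, u]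
        rw [hsg, hp₂, map_sub, hu₀]
        abel⟩
    apply le_antisymm
    · intro a' ha'
      let y := gF' ⟨a', ha'⟩
      obtain ⟨h, hh, he⟩ := key y
      obtain ⟨h', hh', he'⟩ := hF'int.le (Submodule.mem_inf.2 ⟨F'.sub_mem ha' (s' y).2,
        (hfg _).1 (by rw [map_sub, hs'g]; exact sub_self _)⟩)
      refine ⟨(s y : H) + f (h + h'), F.add_mem (s y).2 (hfF _ (F₁.add_mem hh hh')), ?_⟩
      rw [map_add (LinearMap.id + f ∘ₗ u ∘ₗ g : H →ₗ[R] H),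
        show (LinearMap.id + f ∘ₗ u ∘ₗ g : H →ₗ[R] H) (f (h + h')) = f (h + h') by simp [hgf],
        map_add f, ← add_assoc, he, he', add_sub_cancel]
    · rintro _ ⟨a, ha, rfl⟩
      let y := gF ⟨a, ha⟩
      obtain ⟨h, hh, he⟩ := key y
      obtain ⟨h', hh', he'⟩ := hFint.le (Submodule.mem_inf.2 ⟨F.sub_mem ha (s y).2,
        (hfg _).1 (by rw [map_sub, hsg]; exact sub_self _)⟩)
      have : (LinearMap.id + f ∘ₗ u ∘ₗ g : H →ₗ[R] H) a = (s' y : H) + f (h' - h) := by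
        have ea : a = (s y : H) + f h' := by rw [he']; abel
        conv_lhs => rw [ea]
        rw [map_add (LinearMap.id + f ∘ₗ u ∘ₗ g : H →ₗ[R] H),
          show (LinearMap.id + f ∘ₗ u ∘ₗ g : H →ₗ[R] H) (f h') = f h' by simp [hgf], map_sub, ← he]
        abel
      rw [this]
      exact F'.add_mem (s' y).2 (hfF' _ (F₁.sub_mem hh' hh))

end Groth.Agent.S16420
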