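import Groth.Statements.S16421
import Groth.Prelude.Def_FrobAlg
import Mathlib.RingTheory.RingHom.FaithfullyFlat
import Mathlib.RingTheory.RingHom.Flat
import Mathlib.RingTheory.Flat.EquationalCriterion
import Mathlib.RingTheory.Flat.Rank
import Mathlib.RingTheory.Flat.Basic
import Mathlib.FieldTheory.PerfectClosure
-- import your own Groth.Agent.* helpers here

set_option autoImplicit false
universe u
open FrobAlg

namespace Groth.Agent.S16421

/-- Let p be a prime and R a commutative ring of characteristic p with a p-basis (x_i), meaning that the
monomials ∏ x_i^(e i) with every exponent e i < p form a basis of R as a module over itself through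
the Frobenius, i.e. the map sending a finitely supported family of coefficients c to ∑_e (c e)^p · ∏
x_i^(e i) is a bijection onto R. Then the canonical ring map from R to its perfect closure is
faithfully flat. -/
theorem result (p : ℕ) [Fact p.Prime]
    (R : Type u) [CommRing R] [CharP R p] (ι : Type u) (x : ι → R)
    (hx : Function.Bijective
      (fun c : {e : ι →₀ ℕ // ∀ i, e i < p} →₀ R =>
        c.sum (fun e r => r ^ p * e.1.prod (fun i n => x i ^ n)))) :
    (PerfectClosure.of R p).FaithfullyFlat := by
    classical
    have hp : p.Prime := Fact.out
    haveI : IsReduced R := (isReduced_iff_pow_one_lt p hp.one_lt).2 fun r hr => by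
      let e0 : {e : ι →₀ ℕ // ∀ i, e i < p} := ⟨0, fun i => by simpa using hp.pos⟩
      have h : Finsupp.single e0 r = 0 := hx.1 (by
        simp [Finsupp.sum_single_index, zero_pow hp.ne_zero, hr, e0])
      exact Finsupp.single_eq_zero.1 h
    have hF : ∀ n, (iterateFrobenius R p n).Flat := by
      have h1 : (frobenius R p).Flat := by
        let mon : {e : ι →₀ ℕ // ∀ i, e i < p} → R := fun e => e.1.prod fun i n => x i ^ n
        let φ : ({e : ι →₀ ℕ // ∀ i, e i < p} →₀ R) →ₗ[R] FrobAlg.Twist p R :=
          { toFun := fun c => FrobAlg.toTwist p R (c.sum fun e r => r ^ p * mon e)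
            map_add' := fun a b => by
              rw [← map_add (FrobAlg.toTwist p R), Finsupp.sum_add_index (fun e _ => by rw [zero_pow hp.ne_zero, zero_mul])
                (fun e _ r s => by rw [add_pow_char, add_mul])]
            map_smul' := fun t c => by
              rw [RingHom.id_apply, Algebra.smul_def, FrobAlg.algebraMap_twist, ← map_mul (FrobAlg.toTwist p R),
                Finsupp.sum_smul_index (fun e => by rw [zero_pow hp.ne_zero, zero_mul]), Finsupp.mul_sum]
              exact congrArg _ (Finsupp.sum_congr fun e _ => by rw [mul_pow, mul_assoc]) }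
        exact (Module.Flat.of_linearEquiv (LinearEquiv.ofBijective φ hx).symm : Module.Flat R (FrobAlg.Twist p R))
      intro n
      induction n with
      | zero => rw [iterateFrobenius_zero]; exact RingHom.Flat.id R
      | succ n ih => rw [iterateFrobenius_add, iterateFrobenius_one]; exact RingHom.Flat.comp h1 ih
    have hsame : ∀ (n : ℕ) (a b : R),
        PerfectClosure.mk R p (n, a) + PerfectClosure.mk R p (n, b) = PerfectClosure.mk R p (n, a + b) := fun n a b => by
      rw [PerfectClosure.mk_add_mk, PerfectClosure.eq_iff]
      simp only [iterate_map_add, ← Function.iterate_add_apply]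
    have hsmul : ∀ (n : ℕ) (r a : R),
        PerfectClosure.of R p r * PerfectClosure.mk R p (n, a) = PerfectClosure.mk R p (n, iterateFrobenius R p n r * a) := fun n r a => by
      rw [PerfectClosure.of_apply, PerfectClosure.mk_mul_mk, PerfectClosure.eq_iff]
      simp [coe_iterateFrobenius]
    rw [RingHom.FaithfullyFlat.iff_flat_and_comap_surjective]
    letI := (PerfectClosure.of R p).toAlgebra
    refine ⟨?_, ?_⟩
    · show Module.Flat R (PerfectClosure R p)
      refine Module.Flat.of_forall_isTrivialRelation fun {l} {f} {z} hz => ?_
      choose q hq using fun i => PerfectClosure.mk_surjective R p (z i)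
      let N := ∑ i, (q i).1
      have hN : ∀ i, ∃ a, z i = PerfectClosure.mk R p (N, a) := fun i => by
        obtain ⟨k, hk⟩ := Nat.exists_eq_add_of_le (Finset.single_le_sum (f := fun j => (q j).1) (fun j _ => Nat.zero_le _) (Finset.mem_univ i) : (q i).1 ≤ N)
        refine ⟨(⇑(frobenius R p))^[k] (q i).2, ?_⟩
        rw [← hq i, PerfectClosure.eq_iff]
        show (⇑(frobenius R p))^[N] (q i).2 = _
        rw [show N = (q i).1 + k from hk, ← Function.iterate_add_apply]
      choose a ha using hN
      letI algN : Algebra R R := (iterateFrobenius R p N).toAlgebra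
      haveI : @Module.Flat R R _ _ algN.toModule := hF N
      let g : R →+ PerfectClosure R p :=
        { toFun := fun r => PerfectClosure.mk R p (N, r)
          map_zero' := PerfectClosure.mk_zero_right R p N
          map_add' := fun r s => (hsame N r s).symm }
      have hrel : ∑ i, (iterateFrobenius R p N (f i)) * a i = 0 := by
        have h1 : g (∑ i, iterateFrobenius R p N (f i) * a i) = g 0 := by
          rw [map_sum, map_zero, ← hz]
          refine Finset.sum_congr rfl fun i _ => ?_
          rw [Algebra.smul_def, ha i]
          exact (hsmul N (f i) (a i)).symm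
        exact (frobenius_inj R p).iterate N ((PerfectClosure.eq_iff R p _ _).1 h1)
      obtain ⟨k, c, y, hy, hc⟩ := @Module.Flat.isTrivialRelation_of_sum_smul_eq_zero R R _ _ algN.toModule _ (Fin l) _ f a hrel
      refine ⟨k, c, fun j => g (y j), fun i => ?_, hc⟩
      rw [ha i]
      show g (a i) = _
      rw [hy i, map_sum]
      refine Finset.sum_congr rfl fun j _ => ?_
      exact (hsmul N (c i j) (y j)).symm
    · haveI : Algebra.IsIntegral R (PerfectClosure R p) := ⟨fun z => by
        obtain ⟨⟨n, a⟩, rfl⟩ := PerfectClosure.mk_surjective R p z
        refine IsIntegral.of_pow (pow_pos hp.pos n) ?_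
        have : PerfectClosure.mk R p (n, a) ^ p ^ n = algebraMap R (PerfectClosure R p) a := by
          show _ = PerfectClosure.of R p a
          rw [PerfectClosure.mk_pow, PerfectClosure.of_apply, PerfectClosure.eq_iff, iterate_frobenius, iterate_frobenius]
          simp
        rw [this]
        exact isIntegral_algebraMap⟩
      haveI : FaithfulSMul R (PerfectClosure R p) := (faithfulSMul_iff_algebraMap_injective _ _).2 fun r s h => by
        simpa using (PerfectClosure.eq_iff R p (0, r) (0, s)).1 h
      exact Algebra.IsIntegral.comap_surjective R (PerfectClosure R p)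

end Groth.Agent.S16421
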