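import Groth.Statements.S16422
import Groth.Agent.GrLib8.Basic
-- import your own Groth.Agent.* helpers here

set_option autoImplicit false
universe u
open GrMod

namespace Groth.Agent.S16422

/-- Let S be a commutative ring graded by ℤ with pieces 𝒜 n, and V a decreasing sequence of homogeneous
ideals for which S is graded-complete, i.e. for each degree n the map from 𝒜 n to the inverse limit
of the quotients 𝒜 n / (𝒜 n ∩ V m) is bijective (stated as: a degree-n element in every V m
vanishes, and every sequence in 𝒜 n whose consecutive differences lie in the V m has a limit in 𝒜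
n). Then every graded S-module M which is finitely generated and projective as an S-module is
graded-complete in the same sense for the submodules V m · M: for each n the map from ℳ n to the
inverse limit of ℳ n / (ℳ n ∩ V m · M) is bijective. -/
theorem result
    (S : Type u) [CommRing S] (𝒜 : ℤ → AddSubgroup S) [GradedRing 𝒜]
    (V : ℕ → HomogeneousIdeal 𝒜) (hV : ∀ m, (V (m + 1)).toIdeal ≤ (V m).toIdeal)
    (hsep : ∀ (n : ℤ) (s : S), s ∈ 𝒜 n → (∀ m, s ∈ (V m).toIdeal) → s = 0)
    (hcpl : ∀ (n : ℤ) (f : ℕ → S), (∀ m, f m ∈ 𝒜 n) →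
      (∀ m, f (m + 1) - f m ∈ (V m).toIdeal) → ∃ s ∈ 𝒜 n, ∀ m, s - f m ∈ (V m).toIdeal)
    (M : Type u) [AddCommGroup M] [Module S M] (ℳ : ℤ → AddSubgroup M)
    [DirectSum.Decomposition ℳ] [SetLike.GradedSMul 𝒜 ℳ]
    [Module.Finite S M] [Module.Projective S M] :
    (∀ (n : ℤ) (x : M), x ∈ ℳ n → (∀ m, x ∈ (V m).toIdeal • (⊤ : Submodule S M)) → x = 0) ∧
    (∀ (n : ℤ) (g : ℕ → M), (∀ m, g m ∈ ℳ n) →
      (∀ m, g (m + 1) - g m ∈ (V m).toIdeal • (⊤ : Submodule S M)) →
      ∃ x ∈ ℳ n, ∀ m, x - g m ∈ (V m).toIdeal • (⊤ : Submodule S M)) := by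
  open Groth.Agent.GrLib8 in
  classical
  obtain ⟨K, t, e, ht, htop⟩ := exists_homogeneous_generators ℳ (R := S)
  let π := Fintype.linearCombination S t
  have hπ : Function.Surjective π := by
    rw [← LinearMap.range_eq_top, Fintype.range_linearCombination, htop]
  obtain ⟨σ, hσ⟩ := Module.projective_lifting_property π LinearMap.id hπ
  have hσ' : ∀ x : M, ∑ j, σ x j • t j = x := fun x => LinearMap.congr_fun hσ x
  have hmem : ∀ (m : ℕ) (x : M), x ∈ (V m).toIdeal • (⊤ : Submodule S M) → ∀ j, σ x j ∈ (V m).toIdeal := by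
    intro m x hx j
    refine Submodule.smul_induction_on (p := fun y => σ y j ∈ (V m).toIdeal) hx (fun r hr y _ => ?_) fun y z hy hz => ?_
    · rw [map_smul, Pi.smul_apply, smul_eq_mul]
      exact Ideal.mul_mem_right _ _ hr
    · rw [map_add, Pi.add_apply]
      exact Ideal.add_mem _ hy hz
  let c : M → ℤ → Fin K → S := fun x n j => (DirectSum.decompose 𝒜 (σ x j) (n - e j) : S)
  have hc : ∀ (n : ℤ) (x : M), x ∈ ℳ n → x = ∑ j, c x n j • t j := fun n x hx =>
    mem_of_sum_smul 𝒜 ℳ ht hx (σ x) (hσ' x)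
  refine ⟨fun n x hx hV => ?_, fun n g hg hdiff => ?_⟩
  · rw [hc n x hx]
    refine Finset.sum_eq_zero fun j _ => ?_
    rw [show c x n j = 0 from hsep _ _ (SetLike.coe_mem _) fun m =>
      (V m).isHomogeneous (n - e j) (hmem m x (hV m) j), zero_smul]
  · have hlim : ∀ j, ∃ s ∈ 𝒜 (n - e j), ∀ m, s - c (g m) n j ∈ (V m).toIdeal := fun j => by
      refine hcpl _ (fun m => c (g m) n j) (fun m => SetLike.coe_mem _) fun m => ?_
      have h1 : (DirectSum.decompose 𝒜 (σ (g (m + 1) - g m) j) (n - e j) : S) ∈ (V m).toIdeal :=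
        (V m).isHomogeneous (n - e j) (hmem m _ (hdiff m) j)
      rw [map_sub, Pi.sub_apply, DirectSum.decompose_sub, DirectSum.sub_apply, AddSubgroup.coe_sub] at h1
      exact h1
    choose s hs hs' using hlim
    refine ⟨∑ j, s j • t j, AddSubgroup.sum_mem _ fun j _ => ?_, fun m => ?_⟩
    · have h := SetLike.GradedSMul.smul_mem (hs j) (ht j)
      rwa [vadd_eq_add, sub_add_cancel] at h
    · rw [show ∑ j, s j • t j - g m = ∑ j, (s j • t j - c (g m) n j • t j) by
        rw [Finset.sum_sub_distrib, ← hc n (g m) (hg m)]]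
      refine Submodule.sum_mem _ fun j _ => ?_
      rw [← sub_smul]
      exact Submodule.smul_mem_smul (hs' j m) Submodule.mem_top

end Groth.Agent.S16422
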