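import Groth.Statements.S16425
import Groth.Agent.CartExt.Modules
import Groth.Agent.CartExt.Ext

set_option autoImplicit false
universe u
open CategoryTheory CategoryTheory.Limits AlgebraicGeometry TopologicalSpace
open RhoSh

namespace Groth.Agent.S16425

/-- Let X be a smooth, proper, geometrically irreducible scheme over a field k with an ample invertible
sheaf L, let S be a k-scheme, p : Y ⟶ X ×_k S an affine morphism of finite presentation, D ⊂ X ×_k S
an effective Cartier divisor (given by its ideal sheaf I) which is flat over S, Q the open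
complement of D, and s a section of p defined over Q. Then the functor sending an affine S-scheme T
to the set of sections of the base change p_T over X ×_k T whose restriction to the preimage of Q is
the base change of s is represented by a closed subscheme Z of S: a morphism g : T ⟶ S from an
affine scheme factors through Z if and only if such a section exists over X ×_k T (such a section is
unique when it exists). -/
theorem result
    (k : Type u) [Field k] (X S Y : Scheme.{u})
    (a : X ⟶ Spec (CommRingCat.of k)) (b : S ⟶ Spec (CommRingCat.of k))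
    [Smooth a] [IsProper a] [GeometricallyIrreducible a]
    (L : X.Modules) (hL : CohB1.IsAmple L)
    (p : Y ⟶ pullback a b) [IsAffineHom p] [LocallyOfFinitePresentation p]
    (I : (pullback a b).IdealSheafData) (hI : FGA.IsEffCartier I)
    [Flat (I.subschemeι ≫ pullback.snd a b)]
    (Q : (pullback a b).Opens) (hQ : Q = I.support.compl)
    (s : (Q : Scheme.{u}) ⟶ Y) (hs : s ≫ p = Q.ι) :
    ∃ (Z : Scheme.{u}) (i : Z ⟶ S), IsClosedImmersion i ∧
      ∀ (T : Scheme.{u}) (g : T ⟶ S), IsAffine T →
        ((∃ h : T ⟶ Z, h ≫ i = g) ↔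
          ∃ f : pullback (pullback.snd a b) g ⟶ Y,
            f ≫ p = pullback.fst (pullback.snd a b) g ∧
            ((pullback.fst (pullback.snd a b) g) ⁻¹ᵁ Q).ι ≫ f =
              ((pullback.fst (pullback.snd a b) g) ∣_ Q) ≫ s) := by
  let π := pullback.snd a b
  haveI : LocallyOfFinitePresentation π := MorphismProperty.pullback_snd a b inferInstance
  choose Zn i hi hZ using fun n : ℕ => VanLoc.main π (CartExt.toQuot (CartExt.Jn I p s n) (I ^ n))
    (PPSheaf.isQCoh_idealMod _) (CartExt.isFP_quotMod_pow hI n) (CartExt.isFlatOver_quotMod_pow π hI n)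
  haveI : ∀ n, IsClosedImmersion (i n) := hi
  let IZ : S.IdealSheafData := ⨆ n, (i n).ker
  refine ⟨IZ.subscheme, IZ.subschemeι, inferInstance, fun T g _ => ?_⟩
  let φ := pullback.fst π g
  have hC : BlowUp.IsEffCartierIdeal (I.comap φ) := MeroX.isEffCartier_baseChange π I hI g
  have hfac : ∀ {Z' : Scheme.{u}} (j : Z' ⟶ S) [IsClosedImmersion j],
      (∃ h : T ⟶ Z', h ≫ j = g) ↔ j.ker ≤ g.ker := fun j _ =>
    ⟨fun ⟨h, e⟩ => e ▸ Scheme.Hom.le_ker_comp h j,
      fun h => ⟨IsClosedImmersion.lift j g h, IsClosedImmersion.lift_fac j g h⟩⟩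
  rw [hfac, Scheme.IdealSheafData.ker_subschemeι]
  refine iSup_le_iff.trans (Iff.trans ?_ (CartExt.exists_isExt_iff hs hI hQ hC).symm)
  refine forall_congr' fun n => ?_
  rw [← hfac, hZ n, VanLoc.vanAt_iff,
    CartExt.van_toQuot_iff _ _ (pullback.fst π g) (fun x : CartExt.GoodAff I => x.W) (fun x => ?_)]
  · rfl
  · obtain ⟨y, hy, -⟩ := CartExt.exists_good_le hI ⊤ x (Opens.mem_top x)
    exact ⟨y, hy⟩

end Groth.Agent.S16425
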