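import Groth.Statements.S16430
import Groth.Agent.Hensel.EtaleResidueExt
-- import your own Groth.Agent.* helpers here

set_option autoImplicit false
universe u
open Hensel

namespace Groth.Agent.S16430

/-- For a Noetherian local ring A with residue field k and a finite separable field extension l of k,
there is a local ring E, finite and etale over A with local structure map, whose residue field is
k-isomorphic to l. -/
theorem result (A : Type u)
    [CommRing A] [IsLocalRing A] [IsNoetherianRing A] (l : Type u) [Field l]
    [Algebra (IsLocalRing.ResidueField A) l] [FiniteDimensional (IsLocalRing.ResidueField A) l]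
    [Algebra.IsSeparable (IsLocalRing.ResidueField A) l] :
    ∃ (E : Type u) (_ : CommRing E) (_ : IsLocalRing E) (_ : Algebra A E)
      (_ : IsLocalHom (algebraMap A E)),
      Module.Finite A E ∧ Algebra.Etale A E ∧
        Nonempty (IsLocalRing.ResidueField E ≃ₐ[IsLocalRing.ResidueField A] l) := by
  exact Groth.Agent.Hensel.exists_finite_etale_residueField A l

end Groth.Agent.S16430
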