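import Groth.Statements.S16431
import Groth.Agent.EssEtGal7.GeomHenz
import Mathlib
-- import your own Groth.Agent.* helpers here

set_option autoImplicit false
universe u
open Hensel

namespace Groth.Agent.S16431

open Groth.Agent

/-- Let A be an excellent reduced local ring with residue field k, let A' be the integral closure of A
in its total ring of fractions, let A^h be a henselization and A^hs a strict henselization of A, and
let A^h → A^hs be the A-algebra map between them (it is the unique one). Then the residue field of
A' at every maximal ideal is purely inseparable over k — every element has some p^n-th power in the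
image of A, p the characteristic exponent — if and only if every minimal prime ideal of A^hs is
generated by its contraction to A^h. -/
theorem result
    (A Ah Ash : Type u) [CommRing A] [IsLocalRing A] [IsReduced A] (hA : EGA4.IsExcellent A)
    [CommRing Ah] [IsLocalRing Ah] [Algebra A Ah] [IsLocalHom (algebraMap A Ah)]
    [Hensel.IsHenselization A Ah]
    [CommRing Ash] [IsLocalRing Ash] [Algebra A Ash] [IsLocalHom (algebraMap A Ash)]
    [Hensel.IsStrictHenselization A Ash] [Algebra Ah Ash] [IsScalarTower A Ah Ash] :
    (∀ (M : Ideal (integralClosure A (FractionRing A))) [M.IsMaximal], ∀ x : (integralClosure A (FractionRing A)) ⧸ M, ∃ n : ℕ,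
        x ^ (ringExpChar ((integralClosure A (FractionRing A)) ⧸ M)) ^ n ∈
          ((Ideal.Quotient.mk M).comp (algebraMap A (integralClosure A (FractionRing A)))).range) ↔
      (∀ Q ∈ minimalPrimes Ash, Q = Ideal.map (algebraMap Ah Ash) (Q.comap (algebraMap Ah Ash))) := by
  haveI : IsLocalHom (algebraMap Ah Ash) := EssEtGal7.isLocalHom_henselization_to_strict A Ah Ash
  haveI := EssEtGal7.isStrictHenselization_of_henselization A Ah Ash
  haveI : IsNoetherianRing A := hA.1
  haveI : IsNoetherianRing Ash := (Groth.Agent.Hensel.isHenzLike_of_isStrictHenselization A Ash).isNoetherianRing_iff.1 inferInstance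
  haveI : IsReduced Ah := (Groth.Agent.Hensel.isHenzLike_of_isHenselization A Ah).isReduced_iff.1 inferInstance
  haveI : Finite (minimalPrimes Ash) := (minimalPrimes.finite_of_isNoetherianRing Ash).to_subtype
  have hne : Brnch.numGeomBranches A ≠ ⊤ := by
    rw [← BrnchLib.card_minimalPrimes_strictHenselization A Ash, ENat.card_eq_coe_natCard]
    exact ENat.coe_ne_top _
  rw [EssEtGal7.extended_iff_card Ah Ash, BrnchLib.card_minimalPrimes_strictHenselization A Ash,
    BrnchLib.card_minimalPrimes_henselization A Ah,
    EssEtGal7.numGeomBranches_eq_numBranches_iff A (minimalPrimes.finite_of_isNoetherianRing A) hne]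
  rfl

end Groth.Agent.S16431
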