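import Groth.Statements.S16432
import Groth.Agent.EssEtNormal5.Basic
-- import your own Groth.Agent.* helpers here

set_option autoImplicit false
universe u
open EGA4loc

namespace Groth.Agent.S16432

/-- Let A be an excellent normal local domain and S a strict henselization of A; let D be an
A-subalgebra of S which is a local ring dominated by S (the inclusion is a local homomorphism), an
integrally closed domain, and whose fraction field is generated as a field over the image of A by
finitely many elements of D. Then D is an essentially etale local A-algebra: A-isomorphic to the
localization of an etale A-algebra at a prime ideal over the maximal ideal of A. -/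
theorem result
    (A S : Type u) [CommRing A] [IsLocalRing A] [IsDomain A] [IsIntegrallyClosed A]
    (hA : EGA4.IsExcellent A) [CommRing S] [IsLocalRing S] [Algebra A S] [IsLocalHom (algebraMap A S)]
    [Hensel.IsStrictHenselization A S] (D : Subalgebra A S) [IsLocalRing D]
    [IsLocalHom (algebraMap D S)] [IsDomain D] [IsIntegrallyClosed D]
    (hfg : ∃ s : Finset D, Subfield.closure (Set.range (algebraMap A (FractionRing D)) ∪
        (algebraMap D (FractionRing D)) '' (s : Set D)) = ⊤) :
    EGA4loc.IsEssentiallyEtale A D := by
  haveI : IsNoetherianRing A := hA.1
  haveI : Module.Flat A S := Groth.Agent.HenselConn.flat_strict A S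
  haveI : Module.FaithfullyFlat A S := Module.FaithfullyFlat.of_flat_of_isLocalHom
  haveI : FaithfulSMul A (FractionRing D) := (faithfulSMul_iff_algebraMap_injective A _).2 (by
    rw [IsScalarTower.algebraMap_eq A D (FractionRing D)]
    exact (IsFractionRing.injective D (FractionRing D)).comp fun x y h =>
      FaithfulSMul.algebraMap_injective A S (congrArg Subtype.val h))
  letI := FractionRing.liftAlgebra A (FractionRing D)
  obtain ⟨s, hs⟩ := hfg
  obtain ⟨D', hle, ⟨_, -, hD'⟩, hmem⟩ := Groth.Agent.EssEtNormal5.exists_essEtale_le D s
  have hge : D ≤ D' := fun x hx => by
    refine hmem ⟨x, hx⟩ ?_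
    have h : (Subfield.closure (Set.range (algebraMap A (FractionRing D)) ∪
        algebraMap D (FractionRing D) '' (s : Set D))) ≤
        (IntermediateField.adjoin (FractionRing A) (algebraMap D (FractionRing D) '' (s : Set D))).toSubfield := by
      refine Subfield.closure_le.2 (Set.union_subset ?_ (IntermediateField.subset_adjoin _ _))
      rintro _ ⟨a, rfl⟩
      rw [IsScalarTower.algebraMap_apply A (FractionRing A) (FractionRing D)]
      exact IntermediateField.algebraMap_mem _ _
    exact h (hs ▸ Subfield.mem_top _)
  have : D' = D := le_antisymm hle hge
  subst this
  exact hD' 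

end Groth.Agent.S16432
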