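import Groth.Statements.S16434
import Groth.Agent.EssEtGal7.Extra
import Groth.Agent.S16439
-- import your own Groth.Agent.* helpers here

set_option autoImplicit false
universe u
open EGA4loc

namespace Groth.Agent.S16434

/-- Let A be an excellent henselian local domain such that a strict henselization S of A is again a
domain, let K be the fraction field of S, and let L be the subfield of K generated over the image of
A by a finite subset t of K (so L is an intermediate field between the fraction fields of A and of
S, finitely generated over the former). Then the intersection of L with S is (the underlying set of)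
an A-subalgebra D of S which is a local ring with local inclusion into S and which is an essentially
etale local A-algebra: A-isomorphic to the localization of an etale A-algebra at a prime over the
maximal ideal. -/
theorem result
    (A S : Type u) [CommRing A] [HenselianLocalRing A] [IsDomain A] (hA : EGA4.IsExcellent A)
    [CommRing S] [IsLocalRing S] [Algebra A S] [IsLocalHom (algebraMap A S)]
    [Hensel.IsStrictHenselization A S] [IsDomain S] (t : Finset (FractionRing S)) :
    ∃ D : Subalgebra A S, (D : Set S) = (algebraMap S (FractionRing S)) ⁻¹'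
        (Subfield.closure (Set.range (algebraMap A (FractionRing S)) ∪ (t : Set (FractionRing S))) :
          Set (FractionRing S)) ∧
      ∃ _ : IsLocalRing D, IsLocalHom (algebraMap D S) ∧ EGA4loc.IsEssentiallyEtale A D := by
  classical
  haveI : IsNoetherianRing A := hA.1
  haveI := Groth.Agent.EssEtGal7.isIntegral_strict A S
  let e : S ≃ₐ[A] S ⧸ (⊥ : Ideal S) := (AlgEquiv.quotientBot A S).symm
  let f : FractionRing S ≃+* FractionRing (S ⧸ (⊥ : Ideal S)) := IsFractionRing.ringEquivOfRingEquiv e.toRingEquiv
  have hf : ∀ x, f (algebraMap S (FractionRing S) x) = algebraMap (S ⧸ (⊥ : Ideal S)) _ (e x) :=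
    fun x => IsFractionRing.ringEquivOfRingEquiv_algebraMap e.toRingEquiv x
  have hfA : ∀ a, f (algebraMap A (FractionRing S) a) = algebraMap A (FractionRing (S ⧸ (⊥ : Ideal S))) a := fun a => by
    rw [IsScalarTower.algebraMap_apply A S (FractionRing S), hf, e.commutes,
      ← IsScalarTower.algebraMap_apply A (S ⧸ (⊥ : Ideal S))]
  obtain ⟨D', h1, h2, h3, h4⟩ := Groth.Agent.EssEtGal7.exists_inter hA (⊥ : Ideal S) (t.image f)
  let L := Subfield.closure (Set.range (algebraMap A (FractionRing S)) ∪ (t : Set (FractionRing S)))
  have hL : L.map f.toRingHom = Subfield.closure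
      (Set.range (algebraMap A (FractionRing (S ⧸ (⊥ : Ideal S)))) ∪ ((t.image f : Finset _) : Set _)) := by
    rw [RingHom.map_field_closure, Set.image_union, Finset.coe_image, ← Set.range_comp]
    congr 3
    exact funext hfA
  let D : Subalgebra A S := D'.comap e.toAlgHom
  have hD : (D : Set S) = algebraMap S (FractionRing S) ⁻¹' (L : Set (FractionRing S)) := by
    refine Set.ext fun x => ?_
    show e x ∈ (D' : Set _) ↔ algebraMap S (FractionRing S) x ∈ L
    rw [h1, Set.mem_preimage, ← hL, ← hf]
    exact ⟨fun ⟨y, hy, h⟩ => f.injective h ▸ hy, fun h => ⟨_, h, rfl⟩⟩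
  have he : D.map e.toAlgHom = D' := by
    refine SetLike.ext fun y => ⟨fun h => ?_, fun hy => Subalgebra.mem_map.2 ⟨e.symm y, ?_, e.apply_symm_apply y⟩⟩
    · obtain ⟨x, hx, rfl⟩ := Subalgebra.mem_map.1 h
      exact hx
    · show e (e.symm y) ∈ D'
      rw [e.apply_symm_apply]
      exact hy
  let eD : D ≃ₐ[A] D' := (D.equivMapOfInjective e.toAlgHom e.injective).trans (Subalgebra.equivOfEq _ _ he)
  haveI := h2
  haveI := h3
  haveI := h4
  haveI : Module.Finite A D := Module.Finite.equiv eD.symm.toLinearEquiv
  haveI : Algebra.FormallyUnramified A D := Algebra.FormallyUnramified.of_equiv eD.symm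
  haveI hloc : IsLocalRing D := eD.symm.toRingEquiv.isLocalRing
  haveI : IsNoetherianRing D := IsNoetherianRing.of_finite A D
  haveI : Algebra.IsIntegral D S := ⟨fun x => (Algebra.IsIntegral.isIntegral (R := A) x).tower_top⟩
  have hlh : IsLocalHom (algebraMap D S) :=
    RingHom.IsIntegral.isLocalHom (algebraMap_isIntegral_iff.2 inferInstance) Subtype.val_injective
  haveI := hlh
  haveI : IsLocalHom (algebraMap A D) := ⟨fun a ha => isUnit_of_map_unit (algebraMap A S) a
    ((IsScalarTower.algebraMap_apply A D S a) ▸ ha.map (algebraMap D S))⟩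
  have hm : Ideal.map (algebraMap A D) (IsLocalRing.maximalIdeal A) = IsLocalRing.maximalIdeal D :=
    Algebra.FormallyUnramified.map_maximalIdeal
  haveI : Algebra.IsIntegral A D := Algebra.IsIntegral.of_finite A D
  obtain ⟨G, hG⟩ := Module.Finite.fg_top (R := A) (M := D)
  refine ⟨D, hD, hloc, hlh, Groth.Agent.S16439.result A S hA D ⟨G.image (algebraMap D (FractionRing D)), fun x => ?_⟩ hm⟩
  obtain ⟨a, b, hb, rfl⟩ := IsFractionRing.div_surjective (A := D) x
  obtain ⟨b', c, hc, hbc⟩ := Groth.Agent.EssEtGal7.exists_mul_eq_algebraMap (A := A) (nonZeroDivisors.ne_zero hb)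
  refine ⟨c, mem_nonZeroDivisors_of_ne_zero fun h => hc (by rw [h, map_zero]), ?_⟩
  have hb1 : algebraMap D (FractionRing D) b ≠ 0 :=
    (map_ne_zero_iff _ (IsFractionRing.injective D (FractionRing D))).2 (nonZeroDivisors.ne_zero hb)
  rw [IsScalarTower.algebraMap_apply A D (FractionRing D), ← hbc, map_mul, mul_right_comm, mul_div_cancel₀ _ hb1, ← map_mul]
  have hz : a * b' ∈ Submodule.span A (G : Set D) := hG ▸ Submodule.mem_top
  have hsub : Submodule.span A (G : Set D) ≤
      ((Algebra.adjoin A ((G.image (algebraMap D (FractionRing D)) : Finset _) : Set (FractionRing D))).comap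
        (IsScalarTower.toAlgHom A D (FractionRing D))).toSubmodule :=
    Submodule.span_le.2 fun w hw => Algebra.subset_adjoin (Finset.mem_image_of_mem _ hw)
  exact hsub hz

end Groth.Agent.S16434
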