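import Groth.Statements.S16435
import Groth.Agent.EssEtGal7.GeomNoeth
import Groth.Agent.S0537
import Groth.Agent.S0540
import Mathlib
-- import your own Groth.Agent.* helpers here

set_option autoImplicit false
universe u
open Hensel

namespace Groth.Agent.S16435

open IsLocalRing Groth.Agent

/-- Let A be an excellent henselian reduced local ring, S a strict henselization of A and D any
A-subalgebra of S (an intermediate ring between A and S). Write D' for the integral closure of D in
its total ring of fractions. Then D is Noetherian if and only if, for every maximal ideal M of D'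
with residue field l, writing k_0 for the subfield of l generated by the image of D (it is the image
itself, a copy of the residue field of the local ring D), the separable closure of k_0 in l has
finite degree over k_0. -/
theorem result
    (A S : Type u) [CommRing A] [HenselianLocalRing A] [IsReduced A] (hA : EGA4.IsExcellent A)
    [CommRing S] [IsLocalRing S] [Algebra A S] [IsLocalHom (algebraMap A S)]
    [Hensel.IsStrictHenselization A S] (D : Subalgebra A S) :
    IsNoetherianRing D ↔
      ∀ (M : Ideal (integralClosure D (FractionRing D))) [M.IsMaximal],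
        FiniteDimensional (Subfield.closure (Set.range ((algebraMap (integralClosure D (FractionRing D)) M.ResidueField).comp (algebraMap D (integralClosure D (FractionRing D)))))) (separableClosure (Subfield.closure (Set.range ((algebraMap (integralClosure D (FractionRing D)) M.ResidueField).comp (algebraMap D (integralClosure D (FractionRing D)))))) M.ResidueField) := by
  classical
  haveI : IsNoetherianRing A := hA.1
  haveI : IsNoetherianRing S := (Groth.Agent.S0540.result A S).1 inferInstance
  haveI := EssEtGal7.isIntegral_strict A S
  haveI : IsReduced S := EssEtGal7.isReduced_strict A S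
  obtain ⟨hDl, hDS, hAD⟩ := EssEtGal7.isLocalRing_subalgebra D
  haveI : IsReduced D := isReduced_of_injective (algebraMap D S) Subtype.val_injective
  rw [EssEtGal7.finite_sep_iff_emb D]
  constructor
  · intro hN m
    haveI := hN
    obtain ⟨Sh, _, _, _, _, hSh⟩ := Groth.Agent.S0537.result D
    haveI : IsNoetherianRing Sh := (Groth.Agent.S0540.result D Sh).1 inferInstance
    haveI : Finite (minimalPrimes Sh) := (minimalPrimes.finite_of_isNoetherianRing Sh).to_subtype
    have h := BrnchLib.card_minimalPrimes_strictHenselization D Sh
    rw [Brnch.numGeomBranches, if_pos (minimalPrimes.finite_of_isNoetherianRing D)] at h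
    haveI : Finite (Σ m : MaximalSpectrum (CAlg2.normRed D), Brnch.Emb D m) :=
      ENat.card_lt_top.1 (h ▸ ENat.card_lt_top_of_finite)
    exact Finite.of_injective (fun e => (⟨m, e⟩ : Σ m : MaximalSpectrum (CAlg2.normRed D), Brnch.Emb D m))
      fun a b hab => eq_of_heq (Sigma.mk.inj hab).2
  · intro hemb
    haveI : Algebra.IsIntegral D S := Algebra.IsIntegral.tower_top (R := A)
    have hover : ∀ p ∈ minimalPrimes D, ∃ Q ∈ minimalPrimes S, Q.comap (algebraMap D S) = p := by
      intro p hp
      haveI := hp.1.1
      obtain ⟨P, -, hP, hPp⟩ := Ideal.exists_ideal_over_prime_of_isIntegral p (⊥ : Ideal S)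
        (by rw [← RingHom.ker_eq_comap_bot, (RingHom.injective_iff_ker_eq_bot _).1 Subtype.val_injective]; exact bot_le)
      haveI := hP
      obtain ⟨Q, hQ, hQP⟩ := Ideal.exists_minimalPrimes_le (bot_le : (⊥ : Ideal S) ≤ P)
      haveI := hQ.1.1
      have hle : Q.comap (algebraMap D S) ≤ p := hPp ▸ Ideal.comap_mono hQP
      exact ⟨Q, hQ, le_antisymm hle (hp.2 ⟨Ideal.IsPrime.comap _, bot_le⟩ hle)⟩
    have hfin : (minimalPrimes D).Finite :=
      ((minimalPrimes.finite_of_isNoetherianRing S).image (Ideal.comap (algebraMap D S))).subset fun p hp => hover p hp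
    haveI := hfin.to_subtype
    have hcomp : ∀ p : minimalPrimes D, IsNoetherian D (D ⧸ p.1) := fun p => by
      obtain ⟨Q, hQ, hQp⟩ := hover p.1 p.2
      haveI := hQ.1.1
      haveI : p.1.IsPrime := p.2.1.1
      haveI : IsLocalRing (D ⧸ p.1) := IsLocalRing.of_surjective' _ Ideal.Quotient.mk_surjective
      have hq : ∀ m : MaximalSpectrum (CAlg2.normRed (D ⧸ p.1)), Finite (Brnch.Emb (D ⧸ p.1) m) := fun m => by
        obtain ⟨e⟩ := BrnchLib.card_emb D p m
        haveI := hemb ((BrnchLib.comps D).pull ⟨p, m⟩)
        exact Finite.of_equiv _ e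
      have hN : IsNoetherianRing (D ⧸ p.1) := by
        have key : ∀ (I : Ideal D) [IsLocalRing (D ⧸ I)], Q.comap (algebraMap D S) = I →
            (∀ m : MaximalSpectrum (CAlg2.normRed (D ⧸ I)), Finite (Brnch.Emb (D ⧸ I) m)) → IsNoetherianRing (D ⧸ I) := by
          intro I _ h hm
          subst h
          exact EssEtGal7.isNoetherianRing_quot hA D Q hm
        exact key p.1 hQp hq
      refine ⟨fun N => ?_⟩
      let N' : Ideal (D ⧸ p.1) :=
        { N.toAddSubmonoid with
          smul_mem' := fun c x hx => by
            obtain ⟨c, rfl⟩ := Ideal.Quotient.mk_surjective c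
            exact N.smul_mem c hx }
      have hfg : (Submodule.restrictScalars D N').FG :=
        Submodule.FG.restrictScalars_of_surjective (IsNoetherian.noetherian N') Ideal.Quotient.mk_surjective
      exact hfg
    haveI := Fintype.ofFinite (minimalPrimes D)
    haveI := hcomp
    let Φ : D →ₗ[D] ((p : minimalPrimes D) → D ⧸ p.1) :=
      LinearMap.pi fun p => (Submodule.mkQ p.1)
    refine isNoetherianRing_iff.2 (isNoetherian_of_injective Φ fun x y h => ?_)
    have hz : x - y ∈ nilradical D := by
      rw [nilradical, Submodule.zero_eq_bot, ← Ideal.sInf_minimalPrimes]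
      exact Submodule.mem_sInf.2 fun p hp => Ideal.Quotient.eq.1 (congrFun h ⟨p, hp⟩)
    exact sub_eq_zero.1 (mem_nilradical.1 hz).eq_zero

end Groth.Agent.S16435
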