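import Groth.Statements.S16436
import Groth.Agent.EssEtGal7.GeomEt
import Mathlib
-- import your own Groth.Agent.* helpers here

set_option autoImplicit false
universe u
open Hensel

namespace Groth.Agent.S16436

open IsLocalRing Groth.Agent

/-- Let A be an excellent henselian reduced local ring, S a strict henselization of A and D an
A-subalgebra of S which is finitely generated as an A-module. Write D' for the integral closure of D
in its total ring of fractions. Then D is etale over A and every minimal prime ideal of S is
generated by its contraction to D, if and only if, for every maximal ideal M of D' with residue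
field l, writing k_0 for the subfield of l generated by the image of D (the image itself, a copy of
the residue field of D), k_0 is separably closed in l: every element of l separable over k_0 lies in
k_0. -/
theorem result
    (A S : Type u) [CommRing A] [HenselianLocalRing A] [IsReduced A] (hA : EGA4.IsExcellent A)
    [CommRing S] [IsLocalRing S] [Algebra A S] [IsLocalHom (algebraMap A S)]
    [Hensel.IsStrictHenselization A S] (D : Subalgebra A S) [Module.Finite A D] :
    (Algebra.Etale A D ∧
        ∀ Q ∈ minimalPrimes S, Q = Ideal.map (algebraMap D S) (Q.comap (algebraMap D S))) ↔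
      ∀ (M : Ideal (integralClosure D (FractionRing D))) [M.IsMaximal],
        separableClosure (Subfield.closure (Set.range ((algebraMap (integralClosure D (FractionRing D)) M.ResidueField).comp (algebraMap D (integralClosure D (FractionRing D)))))) M.ResidueField = ⊥ := by
  classical
  haveI : IsNoetherianRing A := hA.1
  haveI : IsNoetherianRing D := IsNoetherianRing.of_finite A D
  obtain ⟨hDl, hDS, hAD⟩ := EssEtGal7.isLocalRing_subalgebra D
  haveI : IsReduced S := EssEtGal7.isReduced_strict A S
  haveI : IsReduced D := isReduced_of_injective (algebraMap D S) Subtype.val_injective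
  haveI : HenselianLocalRing D := Groth.Agent.Hensel.henselianLocalRing_of_isIntegral_local A D
  rw [EssEtGal7.PI_iff_components D (minimalPrimes.finite_of_isNoetherianRing D)]
  constructor
  · rintro ⟨hEt, hQ⟩ p
    haveI := hEt
    haveI := EssEtGal7.isStrictHenselization_of_etale A D S
    haveI : p.1.IsPrime := p.2.1.1
    obtain ⟨Q, hQm, hQp⟩ := BrnchLib.exists_minimalPrimes_over
      (Groth.Agent.Hensel.isHenzLike_of_isStrictHenselization D S) p.2
    refine (EssEtGal7.isPrime_map_iff_PI D S p.1).1 ?_
    rw [← hQp, ← hQ Q hQm]
    exact hQm.1.1
  · intro hPI
    haveI := (_root_.Hensel.IsStrictHenselization.isSepClosure (R := A) (S := S)).separable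
    let j : ResidueField D →ₐ[ResidueField A] ResidueField S :=
      { IsLocalRing.ResidueField.map (algebraMap D S) with
        commutes' := fun r => by
          obtain ⟨r, rfl⟩ := residue_surjective r
          change IsLocalRing.ResidueField.map (algebraMap D S) (residue D (algebraMap A D r)) = residue S (algebraMap A S r)
          rw [IsLocalRing.ResidueField.map_residue, ← IsScalarTower.algebraMap_apply] }
    haveI : Algebra.IsSeparable (ResidueField A) (ResidueField D) := Algebra.IsSeparable.of_algHom _ _ j
    haveI : Module.Finite (ResidueField A) (ResidueField D) := inferInstance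
    obtain ⟨E, _, _, _, _, hfin, hEt, ⟨e⟩⟩ :=
      Groth.Agent.Hensel.exists_finite_etale_residueField A (ResidueField D)
    haveI := hfin
    haveI := hEt
    haveI := EssEtGal7.henselianRing_max D
    obtain ⟨φ, hφ, -⟩ := Groth.Agent.Hensel.existsUnique_etale_lift_of_algebra (maximalIdeal D)
      (((e : ResidueField E →ₐ[ResidueField A] ResidueField D).restrictScalars A).comp
        (IsScalarTower.toAlgHom A E (ResidueField E)))
    have hres : ∀ x, residue D (φ x) = e (residue E x) := fun x => congr($hφ x)
    haveI : IsLocalHom φ.toRingHom := ⟨fun x hx => by
      by_contra hx'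
      have h0 : residue E x = 0 := (residue_eq_zero_iff x).2 hx'
      have h := hres x
      rw [h0, map_zero] at h
      exact (residue_eq_zero_iff _).1 h hx⟩
    obtain ⟨hbij, hext⟩ := EssEtGal7.bijective_and_extended_of_PI hA D φ (fun d => by
      obtain ⟨x, hx⟩ := residue_surjective (e.symm (residue D d))
      refine ⟨x, ?_⟩
      rw [← residue_eq_zero_iff, map_sub, hres, hx, AlgEquiv.apply_symm_apply, sub_self]) hPI
    exact ⟨Algebra.Etale.of_equiv (AlgEquiv.ofBijective φ hbij), hext⟩

end Groth.Agent.S16436
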