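import Groth.Statements.S16437
import Groth.Agent.EssEtGal7.GeomHenz
import Groth.Agent.EssEtGal7.GeomTensor
import Groth.Agent.EssEtGal7.GeomPts
import Groth.Agent.EssEtGal7.GeomFinEt
import Groth.Agent.EssEtGal7.GeomDom
import Groth.Agent.NormCurve.Nagata
import Mathlib
-- import your own Groth.Agent.* helpers here

set_option autoImplicit false
universe u
open Hensel

namespace Groth.Agent.S16437

open IsLocalRing TensorProduct Groth.Agent

open IsLocalRing in
/-- Let A be an excellent henselian local domain with residue field k, whose integral closure A' in its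
fraction field is a local ring (as it is, A being henselian) with local inclusion A → A' and residue
field k'; let k^s be the separable closure of k in k', S a strict henselization of A, and E a local
ring which is an essentially etale local A-algebra with local structure map, together with an
A-algebra map E → S. Then every minimal prime ideal of S is generated by its contraction to E if and
only if the number of k-algebra maps from k^s to the residue field of E equals the degree [k^s : k];
equivalently, the minimal polynomial of a primitive element of k^s over k splits into linear factors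
over the residue field of E. -/
theorem result
    (A S E : Type u) [CommRing A] [HenselianLocalRing A] [IsDomain A] (hA : EGA4.IsExcellent A)
    [IsLocalRing (integralClosure A (FractionRing A))] [IsLocalHom (algebraMap A (integralClosure A (FractionRing A)))]
    [CommRing S] [IsLocalRing S] [Algebra A S] [IsLocalHom (algebraMap A S)]
    [Hensel.IsStrictHenselization A S]
    [CommRing E] [IsLocalRing E] [Algebra A E] [IsLocalHom (algebraMap A E)]
    (hE : EGA4loc.IsEssentiallyEtale A E) [Algebra E S] [IsScalarTower A E S] :
    (∀ Q ∈ minimalPrimes S, Q = Ideal.map (algebraMap E S) (Q.comap (algebraMap E S))) ↔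
      Nat.card (separableClosure (ResidueField A) (ResidueField (integralClosure A (FractionRing A))) →ₐ[ResidueField A]
          ResidueField E) =
        Module.finrank (ResidueField A)
          (separableClosure (ResidueField A) (ResidueField (integralClosure A (FractionRing A)))) := by
  classical
  haveI : IsNoetherianRing A := hA.1
  let K₀ := FractionRing A
  let B := integralClosure A K₀
  have hmE := EtAlg7.map_maximalIdeal hE
  haveI : IsLocalHom (algebraMap E S) := by
    refine ((local_hom_TFAE (algebraMap E S)).out 0 2 rfl rfl).2 ?_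
    rw [← hmE, Ideal.map_map, ← IsScalarTower.algebraMap_eq]
    exact ((local_hom_TFAE (algebraMap A S)).out 0 2 rfl rfl).1 inferInstance
  obtain ⟨hfinE, hEtE⟩ := EssEtGal7.finite_etale_of_essEtale A E S hE
  haveI := hfinE
  haveI := hEtE
  haveI : HenselianLocalRing E := Groth.Agent.S0505.result A E
  haveI := EssEtGal7.isStrictHenselization_of_etale A E S
  haveI : IsReduced S := EssEtGal7.isReduced_strict A S
  haveI := Groth.Agent.Hensel.faithfullyFlat_of_isStrictHenselization (R := E) (S := S)
  haveI : IsReduced E := isReduced_of_injective (algebraMap E S) (FaithfulSMul.algebraMap_injective E S)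
  haveI : IsIntegrallyClosed B := integralClosure.isIntegrallyClosedOfFiniteExtension K₀
  haveI : Algebra.IsIntegral A B := IsIntegralClosure.isIntegral_algebra A K₀
  haveI : Module.Finite A B :=
    NormCurve.finite_integralClosure_of_nagata (Groth.Agent.S2654.result A ⟨hA.1, hA.2.2.1, hA.2.2.2⟩) K₀
  -- normal domain localizations
  have hN : ∀ m : Ideal B, ∀ [m.IsMaximal], IsDomain (Localization.AtPrime m) ∧ IsIntegrallyClosed (Localization.AtPrime m) :=
    fun m _ => ⟨IsLocalization.isDomain_localization m.primeCompl_le_nonZeroDivisors,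
      isIntegrallyClosed_of_isLocalization _ m.primeCompl m.primeCompl_le_nonZeroDivisors⟩
  have hBinj : Function.Injective (algebraMap A B) := fun x y h =>
    IsFractionRing.injective A K₀ (congrArg Subtype.val h)
  have hmin : Set.BijOn (Ideal.comap (algebraMap A B)) (minimalPrimes B) (minimalPrimes A) := by
    rw [IsDomain.minimalPrimes_eq_singleton_bot, IsDomain.minimalPrimes_eq_singleton_bot]
    exact Set.bijOn_singleton.2 ((RingHom.ker_eq_comap_bot _).symm.trans ((RingHom.injective_iff_ker_eq_bot _).1 hBinj))
  have hbir : ∀ P ∈ minimalPrimes B, ∀ b : B, ∃ a a₀ : A, algebraMap A B a ∉ P ∧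
      algebraMap A B a * b - algebraMap A B a₀ ∈ P := by
    rw [IsDomain.minimalPrimes_eq_singleton_bot]
    rintro P rfl b
    obtain ⟨⟨a₀, a⟩, h⟩ := IsLocalization.surj (nonZeroDivisors A) (b : K₀)
    refine ⟨a, a₀, fun h0 => nonZeroDivisors.ne_zero a.2 ((map_eq_zero_iff _ hBinj).1 (Ideal.mem_bot.1 h0)), ?_⟩
    rw [Ideal.mem_bot, sub_eq_zero]
    exact Subtype.ext ((mul_comm _ _).trans h)
  haveI := Hensel.IsStrictHenselization.henselian (R := A) (S := S)
  haveI := Groth.Agent.Hensel.faithfullyFlat_of_isStrictHenselization (R := A) (S := S)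
  obtain ⟨eS⟩ := BrnchLib.nonempty_minimalPrimes_equiv_tensor A S
    (Groth.Agent.Hensel.isHenzLike_of_isStrictHenselization A S) B
    (fun n _ => BrnchLib.isDomain_localization_tensor_strict A S B hN n) hmin hbir
  haveI : Module.FaithfullyFlat A E := Module.FaithfullyFlat.of_flat_of_isLocalHom
  obtain ⟨eE⟩ := EssEtGal7.nonempty_minimalPrimes_equiv_tensor' A E
    (fun {q' q} _ _ hle h => (hle.eq_or_lt).resolve_right fun hlt => (Ideal.IsIntegral.comap_lt_comap hlt).ne h) B
    (fun n _ => EssEtGal7.isDomain_localization_tensor_etale A E B n) hmin hbir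
  -- points in an algebraically closed field
  let k := ResidueField A
  let K := AlgebraicClosure (ResidueField S)
  haveI : IsScalarTower k (ResidueField E) (ResidueField S) := IsScalarTower.of_algebraMap_eq fun x => by
    obtain ⟨a, rfl⟩ := residue_surjective x
    exact congrArg (residue S) (IsScalarTower.algebraMap_apply A E S a)
  let jS : ResidueField S →ₐ[k] K := IsScalarTower.toAlgHom k (ResidueField S) K
  let jE : ResidueField E →ₐ[k] K := jS.comp (IsScalarTower.toAlgHom k (ResidueField E) (ResidueField S))
  obtain ⟨FS, hFS, hFSi⟩ := EssEtGal7.exists_maximalSpectrum_points A S B K jS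
  obtain ⟨FE, hFE, hFEi⟩ := EssEtGal7.exists_maximalSpectrum_points A E B K jE
  haveI : IsSepClosed (ResidueField S) := (Hensel.IsStrictHenselization.isSepClosure (R := A) (S := S)).sep_closed
  haveI : Algebra.IsSeparable k (ResidueField S) :=
    (Hensel.IsStrictHenselization.isSepClosure (R := A) (S := S)).separable
  haveI : IsPurelyInseparable (ResidueField S) K := Algebra.IsAlgebraic.isPurelyInseparable_of_isSepClosed
  have hFSb : Function.Bijective FS := ⟨hFSi.2 fun σ y hy => by
    obtain ⟨s, hs⟩ := IsPurelyInseparable.inseparable (ResidueField S) (σ y)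
      (IsSeparable.tower_top (ResidueField S) (IsSeparable.map σ σ.toRingHom.injective hy))
    exact ⟨s, hs⟩, hFS⟩
  haveI : Module.Finite k (ResidueField B) := inferInstance
  haveI : Finite (minimalPrimes S) := Finite.of_equiv _ ((Equiv.ofBijective FS hFSb).trans eS.symm)
  haveI : Finite (MaximalSpectrum (E ⊗[A] B)) := Finite.of_surjective FE hFE
  rw [EssEtGal7.extended_iff_card E S, ENat.card_congr eE, ← ENat.card_congr ((Equiv.ofBijective FS hFSb).trans eS.symm),
    ENat.card_eq_coe_natCard, ENat.card_eq_coe_natCard, ENat.natCast_inj]
  have hinjiff : Nat.card (ResidueField B →ₐ[k] K) = Nat.card (MaximalSpectrum (E ⊗[A] B)) ↔ Function.Injective FE :=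
    ⟨fun h => (hFE.bijective_of_nat_card_le h.le).1, fun h => Nat.card_eq_of_bijective FE ⟨h, hFE⟩⟩
  rw [hinjiff, hFEi]
  -- separable part
  let Ks := separableClosure k (ResidueField B)
  haveI : FiniteDimensional k Ks := inferInstance
  haveI : Algebra.IsSeparable k Ks := separableClosure.isSeparable k (ResidueField B)
  let c : (Ks →ₐ[k] ResidueField E) → (Ks →ₐ[k] K) := fun f => jE.comp f
  have hc : Function.Injective c := fun f g h => AlgHom.ext fun x => jE.toRingHom.injective congr($h x)
  have hcard : Nat.card (Ks →ₐ[k] K) = Module.finrank k Ks := by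
    rw [Nat.card_eq_fintype_card]
    exact AlgHom.card k Ks K
  rw [← hcard]
  constructor
  · intro h
    refine Nat.card_eq_of_bijective c ⟨hc, fun τ => ?_⟩
    haveI : Algebra.IsAlgebraic k (ResidueField B) := inferInstance
    letI : Algebra Ks K := τ.toRingHom.toAlgebra
    haveI : IsScalarTower k Ks K := IsScalarTower.of_algebraMap_eq fun x => (τ.commutes x).symm
    let σ' : ResidueField B →ₐ[Ks] K := IsAlgClosed.lift
    let σ : ResidueField B →ₐ[k] K := σ'.restrictScalars k
    have hy : ∀ x : Ks, τ x ∈ jE.range := fun x => by
      rw [show τ x = σ' (algebraMap Ks (ResidueField B) x) from (σ'.commutes x).symm]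
      exact h σ x.1 (mem_separableClosure_iff.1 x.2)
    let f := (AlgEquiv.ofInjective jE jE.toRingHom.injective).symm.toAlgHom.comp (τ.codRestrict jE.range hy)
    refine ⟨f, AlgHom.ext fun x => ?_⟩
    exact congrArg Subtype.val ((AlgEquiv.ofInjective jE jE.toRingHom.injective).apply_symm_apply ⟨τ x, hy x⟩)
  · intro h σ y hy
    obtain ⟨f, hf⟩ := (hc.bijective_of_nat_card_le h.ge).2 (σ.comp Ks.val)
    exact ⟨f ⟨y, mem_separableClosure_iff.2 hy⟩, congr($hf ⟨y, mem_separableClosure_iff.2 hy⟩)⟩

end Groth.Agent.S16437
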