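import Groth.Statements.S16442
import Groth.Agent.HenselConn.Lift
import Mathlib

set_option autoImplicit false
universe u
open EGA4loc

namespace Groth.Agent.S16442

open IsLocalRing

/-- Let A be a reduced local ring with finitely many minimal prime ideals, S a strict henselization of
A, and D an A-subalgebra of S which is a local ring dominated by S (local inclusion) and essentially
of finite type over A. Then D is contained in some A-subalgebra E of S which is a local ring and an
essentially etale local A-algebra. -/
theorem result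
    (A S : Type u) [CommRing A] [IsLocalRing A] [IsReduced A] (hmin : (minimalPrimes A).Finite)
    [CommRing S] [IsLocalRing S] [Algebra A S] [IsLocalHom (algebraMap A S)]
    [Hensel.IsStrictHenselization A S] (D : Subalgebra A S) [IsLocalRing D]
    [IsLocalHom (algebraMap D S)] [Algebra.EssFiniteType A D] :
    ∃ E : Subalgebra A S, D ≤ E ∧ ∃ _ : IsLocalRing E, EGA4loc.IsEssentiallyEtale A E := by
  classical
  obtain ⟨C, _, _, _, π, hπ⟩ := Groth.Agent.HenselConn.hasEtLift_strict A S
    ((Algebra.EssFiniteType.finset A D).image (algebraMap D S))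
  let q := (maximalIdeal S).comap π.toRingHom
  have hqA : q.comap (algebraMap A C) = maximalIdeal A := by
    rw [Ideal.comap_comap, show π.toRingHom.comp (algebraMap A C) = algebraMap A S from π.comp_algebraMap]
    exact IsLocalRing.maximalIdeal_comap (algebraMap A S)
  let ρ : Localization.AtPrime q →ₐ[A] S := IsLocalization.liftAlgHom (M := q.primeCompl) (f := π)
    (fun y => IsLocalRing.notMem_maximalIdeal.1 y.2)
  have hρ : ∀ x, ρ (algebraMap _ _ x) = π x := fun x => by simp [ρ]
  letI : Algebra (Localization.AtPrime q) S := ρ.toRingHom.toAlgebra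
  haveI : IsScalarTower A (Localization.AtPrime q) S := IsScalarTower.of_algebraMap_eq fun a => (ρ.commutes a).symm
  haveI : IsLocalHom (algebraMap (Localization.AtPrime q) S) := ⟨fun x hx => by
    obtain ⟨c, s, rfl⟩ := IsLocalization.exists_mk'_eq q.primeCompl x
    refine (IsLocalization.AtPrime.isUnit_mk'_iff (Localization.AtPrime q) q c s).2 ?_
    have h : ρ (IsLocalization.mk' (Localization.AtPrime q) c s) * π (s : C) = π c := by
      rw [← hρ, ← hρ, ← map_mul, IsLocalization.mk'_spec]
    show ¬ π c ∈ maximalIdeal S
    rw [← h]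
    exact IsLocalRing.notMem_maximalIdeal.2 (IsUnit.mul hx (IsLocalRing.notMem_maximalIdeal.1 s.2))⟩
  haveI : Algebra.FormallyUnramified C (Localization.AtPrime q) :=
    Algebra.FormallyUnramified.of_isLocalization q.primeCompl
  haveI : Algebra.FormallyUnramified A (Localization.AtPrime q) := Algebra.FormallyUnramified.comp A C _
  haveI : Algebra.EssFiniteType C (Localization.AtPrime q) := Algebra.EssFiniteType.of_isLocalization _ q.primeCompl
  haveI : Algebra.EssFiniteType A (Localization.AtPrime q) := Algebra.EssFiniteType.comp A C _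
  haveI : Module.Flat A S := Groth.Agent.HenselConn.flat_strict A S
  haveI : Module.Flat (Localization.AtPrime q) S :=
    Algebra.FormallyUnramified.flat_of_restrictScalars A (Localization.AtPrime q) S
  haveI : Module.FaithfullyFlat (Localization.AtPrime q) S := Module.FaithfullyFlat.of_flat_of_isLocalHom
  have hinj : Function.Injective ρ := FaithfulSMul.algebraMap_injective (Localization.AtPrime q) S
  let e : Localization.AtPrime q ≃ₐ[A] ρ.range := AlgEquiv.ofInjective ρ hinj
  refine ⟨ρ.range, ?_, e.toRingEquiv.isLocalRing, C, inferInstance, inferInstance, q, inferInstance, inferInstance, hqA, ⟨e.symm⟩⟩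
  intro d hd
  have hsub : Algebra.EssFiniteType.subalgebra A D ≤ ρ.range.comap (IsScalarTower.toAlgHom A D S) := by
    refine Algebra.adjoin_le fun t ht => ?_
    obtain ⟨c, hc⟩ := hπ _ (Finset.mem_image_of_mem _ ht)
    exact ⟨algebraMap _ _ c, (hρ c).trans hc⟩
  obtain ⟨⟨c, s⟩, hcs⟩ := IsLocalization.surj (Algebra.EssFiniteType.submonoid A D) (⟨d, hd⟩ : D)
  obtain ⟨xc, hxc⟩ := hsub c.2
  obtain ⟨xs, hxs⟩ := hsub s.1.2
  simp only [IsScalarTower.coe_toAlgHom', AlgHom.toRingHom_eq_coe, RingHom.coe_coe] at hxc hxs
  have hu : IsUnit xs := by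
    refine (isUnit_map_iff (algebraMap (Localization.AtPrime q) S) xs).1 ?_
    change IsUnit (ρ xs)
    rw [hxs]
    exact (IsLocalization.map_units D s).map (algebraMap D S)
  obtain ⟨v, rfl⟩ := hu
  refine ⟨xc * (v⁻¹ : (Localization.AtPrime q)ˣ), ?_⟩
  show ρ _ = d
  have hd' := congrArg (algebraMap D S) hcs
  rw [map_mul] at hd'
  change d * algebraMap D S (s.1 : D) = algebraMap D S (c : D) at hd'
  rw [map_mul, hxc, ← hd', ← hxs, mul_assoc, ← map_mul, Units.mul_inv, map_one, mul_one]

end Groth.Agent.S16442
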