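import Groth.Statements.S16443
import Groth.Agent.S16448

set_option autoImplicit false
universe u
open EGA4loc

namespace Groth.Agent.S16443

/-- Let A be a reduced local ring with finitely many minimal prime ideals, E a local ring which is an
essentially etale local A-algebra with local structure map, K_E the total ring of fractions of E,
and L an A-subalgebra of K_E containing an inverse of the image of every non-zero-divisor of A (so L
is an intermediate ring between the total rings of fractions of A and of E). Then the preimage D of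
L in E is (the underlying set of) an A-subalgebra of E which is a local ring with local inclusion
into E — its maximal ideal lies under that of E — and L is the total ring of fractions of D in the
sense that every element of L is the image of an element of D times the inverse of the image of a
non-zero-divisor of A. -/
theorem result
    (A E : Type u) [CommRing A] [IsLocalRing A] [IsReduced A] (hmin : (minimalPrimes A).Finite)
    [CommRing E] [IsLocalRing E] [Algebra A E] [IsLocalHom (algebraMap A E)]
    (hE : EGA4loc.IsEssentiallyEtale A E) (L : Subalgebra A (FractionRing E))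
    (hL : ∀ s ∈ nonZeroDivisors A, ∃ y ∈ L, algebraMap A (FractionRing E) s * y = 1) :
    ∃ D : Subalgebra A E, (D : Set E) = (algebraMap E (FractionRing E)) ⁻¹' (L : Set (FractionRing E)) ∧
      ∃ _ : IsLocalRing D, IsLocalHom (algebraMap D E) ∧
        ∀ l ∈ L, ∃ d ∈ D, ∃ s ∈ nonZeroDivisors A, ∃ y ∈ L,
          algebraMap A (FractionRing E) s * y = 1 ∧ l = algebraMap E (FractionRing E) d * y := by
  obtain ⟨hloc, t, ht⟩ := S16448.result A E hmin hE
  haveI := EssEtFrac5.isArtinianRing_fractionRing hmin
  let K := FractionRing A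
  let KE := FractionRing E
  have hu : ∀ a : nonZeroDivisors A, IsUnit (algebraMap A KE a) := fun a => by
    obtain ⟨y, -, hy⟩ := hL a a.2
    exact IsUnit.of_mul_eq_one _ hy
  let g : K →ₐ[A] KE := IsLocalization.liftAlgHom (M := nonZeroDivisors A) (f := Algebra.ofId A KE) hu
  letI : Algebra K KE := g.toRingHom.toAlgebra
  haveI : IsScalarTower A K KE := IsScalarTower.of_algebraMap_eq fun a => (g.commutes a).symm
  have hinvL : ∀ a : nonZeroDivisors A, ∀ y, algebraMap A KE a * y = 1 → y ∈ L := fun a y hy => by
    obtain ⟨y', hy', hy''⟩ := hL a a.2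
    rwa [(hu a).mul_left_cancel (hy.trans hy''.symm)]
  have hK : ∀ c : K, algebraMap K KE c ∈ L := fun c => by
    obtain ⟨r, a, rfl⟩ := IsLocalization.exists_mk'_eq (nonZeroDivisors A) c
    rw [IsLocalization.mk'_eq_mul_mk'_one, map_mul, ← IsScalarTower.algebraMap_apply A K KE]
    refine L.mul_mem (L.algebraMap_mem r) (hinvL a _ ?_)
    rw [IsScalarTower.algebraMap_apply A K KE, ← map_mul, mul_comm, IsLocalization.mk'_spec, map_one, map_one]
  let L' : Submodule K KE :=
    { L.toSubsemiring.toAddSubmonoid with
      smul_mem' := fun c x hx => by rw [Algebra.smul_def]; exact L.mul_mem (hK c) hx }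
  haveI : Module.Finite K KE := ⟨⟨t, eq_top_iff.2 fun x _ => by
    obtain ⟨a, ha, hx⟩ := ht x
    have h1 : algebraMap A KE a * x ∈ Submodule.span K (t : Set KE) := Submodule.span_le_restrictScalars A K _ hx
    have h2 := Submodule.smul_mem _ (IsLocalization.mk' K (1 : A) ⟨a, ha⟩) h1
    rwa [Algebra.smul_def, ← mul_assoc, IsScalarTower.algebraMap_apply A K KE, ← map_mul,
      IsLocalization.mk'_spec, map_one, map_one, one_mul] at h2⟩⟩
  haveI : IsNoetherian K KE := inferInstance
  haveI : IsArtinian K ↥L' := inferInstance
  have hunit : ∀ l ∈ L, ∀ v, l * v = 1 → v ∈ L := fun l hl v hv => by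
    let μ : ↥L' →ₗ[K] ↥L' :=
      { toFun := fun x => ⟨l * x, L.mul_mem hl x.2⟩
        map_add' := fun x y => Subtype.ext (mul_add l x.1 y.1)
        map_smul' := fun c x => Subtype.ext (mul_smul_comm c l x.1) }
    have hμ : Function.Injective μ := fun x y h => Subtype.ext ((IsUnit.of_mul_eq_one v hv).mul_left_cancel (congrArg Subtype.val h))
    obtain ⟨⟨y, hy⟩, hy'⟩ := (IsArtinian.bijective_of_injective_endomorphism μ hμ).2 ⟨1, L.one_mem⟩
    have : l * y = l * v := (congrArg Subtype.val hy').trans hv.symm
    rwa [← (IsUnit.of_mul_eq_one v hv).mul_left_cancel this]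
  let D : Subalgebra A E := L.comap (IsScalarTower.toAlgHom A E KE)
  have hD : ∀ d : D, IsUnit (d : E) → IsUnit d := fun d hd => by
    obtain ⟨e, he⟩ := hd.exists_right_inv
    have : e ∈ D := hunit _ d.2 (algebraMap E KE e) (by
      show algebraMap E KE d * algebraMap E KE e = 1
      rw [← map_mul, he, map_one])
    exact IsUnit.of_mul_eq_one (⟨e, this⟩ : D) (Subtype.ext he)
  have hlh : IsLocalHom (algebraMap D E) := ⟨fun d hd => hD d hd⟩
  haveI := hlh
  haveI : IsLocalRing D := RingHom.domain_isLocalRing (algebraMap D E)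
  refine ⟨D, rfl, inferInstance, hlh, fun l hl => ?_⟩
  haveI := hloc
  obtain ⟨e, ⟨s', a, ha, rfl⟩, rfl⟩ := IsLocalization.exists_mk'_eq ((nonZeroDivisors A).map (algebraMap A E)) l
  obtain ⟨y, hyL, hy⟩ := hL a ha
  refine ⟨e, ?_, a, ha, y, hyL, hy, ?_⟩
  · show algebraMap E KE e ∈ L
    rw [← IsLocalization.mk'_spec KE e (⟨_, a, ha, rfl⟩ : (nonZeroDivisors A).map (algebraMap A E))]
    exact L.mul_mem hl ((IsScalarTower.algebraMap_apply A E KE a) ▸ L.algebraMap_mem a)
  · refine IsLocalization.mk'_eq_iff_eq_mul.2 ?_
    rw [mul_assoc, mul_comm y, show algebraMap E KE (algebraMap A E a) = algebraMap A KE a from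
      (IsScalarTower.algebraMap_apply A E KE a).symm, hy, mul_one]

end Groth.Agent.S16443
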