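import Groth.Statements.S16444
import Groth.Agent.EssEtGal7.GeomFinEt
import Groth.Agent.S0537
import Mathlib
-- import your own Groth.Agent.* helpers here

set_option autoImplicit false
universe u
open scoped TensorProduct
open Hensel

namespace Groth.Agent.S16444

open IsLocalRing TensorProduct Groth.Agent

open IsLocalRing in
/-- Let A be a complete Noetherian local ring and R → A a local homomorphism from a henselian Noetherian
local ring R inducing a bijection on residue fields. Then every local ring E which is an essentially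
etale local A-algebra with local structure map is A-isomorphic to A ⊗_R S for some local ring S
which is a finite etale R-algebra (its residue field is then that of E). (The published statement
takes R to be a coefficient ring of A, that is a field or an image of a complete p-ring with the
same residue field; its proof uses only that R is henselian with the same residue field as A, which
is the hypothesis made here.) -/
theorem result
    (R A E : Type u) [CommRing R] [HenselianLocalRing R] [IsNoetherianRing R]
    [CommRing A] [IsLocalRing A] [IsNoetherianRing A] [IsAdicComplete (maximalIdeal A) A]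
    [Algebra R A] [IsLocalHom (algebraMap R A)]
    (hres : Function.Bijective (ResidueField.map (algebraMap R A)))
    [CommRing E] [IsLocalRing E] [Algebra A E] [IsLocalHom (algebraMap A E)]
    (hE : EGA4loc.IsEssentiallyEtale A E) :
    ∃ (S : Type u) (_ : CommRing S) (_ : IsLocalRing S) (_ : Algebra R S),
      Module.Finite R S ∧ Algebra.Etale R S ∧ Nonempty (E ≃ₐ[A] A ⊗[R] S) := by
  classical
  haveI : HenselianLocalRing A :=
    { is_henselian := fun f hf a₀ h₁ h₂ =>
        (inferInstance : HenselianRing A (maximalIdeal A)).is_henselian f hf a₀ h₁ (h₂.map _) }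
  obtain ⟨Ash, _, _, _, _, hAsh⟩ := Groth.Agent.S0537.result A
  haveI := Hensel.IsStrictHenselization.henselian (R := A) (S := Ash)
  haveI := (Hensel.IsStrictHenselization.isSepClosure (R := A) (S := Ash)).sep_closed
  haveI := EtAlg7.formallyUnramified hE
  haveI := EtAlg7.essFiniteType hE
  obtain ⟨hsep, -⟩ := Algebra.FormallyUnramified.iff_map_maximalIdeal_eq.1 (inferInstance : Algebra.FormallyUnramified A E)
  haveI := hsep
  let σ : ResidueField E →ₐ[ResidueField A] ResidueField Ash := IsSepClosed.lift
  obtain ⟨jE, -, -⟩ := EtAlg7.existsUnique_algHom hE (B := Ash) σ.toRingHom fun a => σ.commutes (residue A a)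
  letI : Algebra E Ash := jE.toRingHom.toAlgebra
  haveI : IsScalarTower A E Ash := IsScalarTower.of_algebraMap_eq fun a => (jE.commutes a).symm
  haveI : IsLocalHom (algebraMap E Ash) := EtAlg7.isLocalHom_algHom hE jE
  obtain ⟨hfinE, -⟩ := EssEtGal7.finite_etale_of_essEtale A E Ash hE
  haveI := hfinE
  haveI : HenselianLocalRing E := Groth.Agent.S0505.result A E
  haveI : Module.Finite (ResidueField A) (ResidueField E) := inferInstance
  -- the residue field over `R`
  let eR : ResidueField R ≃+* ResidueField A := RingEquiv.ofBijective _ hres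
  letI : Algebra (ResidueField R) (ResidueField E) :=
    ((algebraMap (ResidueField A) (ResidueField E)).comp eR.toRingHom).toAlgebra
  have heR : ∀ x, eR x = algebraMap (ResidueField R) (ResidueField A) x := fun x => by
    obtain ⟨r, rfl⟩ := residue_surjective x
    rfl
  haveI : IsScalarTower (ResidueField R) (ResidueField A) (ResidueField E) :=
    IsScalarTower.of_algebraMap_eq fun x => congrArg (algebraMap (ResidueField A) (ResidueField E)) (heR x)
  haveI : Module.Finite (ResidueField R) (ResidueField A) := by
    refine ⟨⟨{1}, eq_top_iff.2 fun z _ => ?_⟩⟩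
    rw [Finset.coe_singleton, Submodule.mem_span_singleton]
    refine ⟨eR.symm z, ?_⟩
    rw [Algebra.smul_def, mul_one, ← heR]
    exact eR.apply_symm_apply z
  haveI : FiniteDimensional (ResidueField R) (ResidueField E) := Module.Finite.trans (ResidueField A) _
  haveI : Algebra.IsSeparable (ResidueField R) (ResidueField E) :=
    Algebra.IsSeparable.of_equiv_equiv eR.symm (RingEquiv.refl _) (RingHom.ext fun x => by
      show algebraMap (ResidueField A) (ResidueField E) (eR (eR.symm x)) = _
      rw [eR.apply_symm_apply]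
      rfl)
  obtain ⟨S, _, _, _, _, hfinS, hEtS, ⟨e⟩⟩ := Groth.Agent.Hensel.exists_finite_etale_residueField R (ResidueField E)
  haveI := hfinS
  haveI := hEtS
  refine ⟨S, inferInstance, inferInstance, inferInstance, hfinS, hEtS, ?_⟩
  let ρS : S →+* ResidueField E := (e : ResidueField S →+* ResidueField E).comp (residue S)
  letI : Algebra R (ResidueField E) := ((algebraMap A (ResidueField E)).comp (algebraMap R A)).toAlgebra
  haveI : IsScalarTower R A (ResidueField E) := IsScalarTower.of_algebraMap_eq fun _ => rfl
  let ρS' : S →ₐ[R] ResidueField E :=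
    { ρS with
      commutes' := fun r => by
        show e (residue S (algebraMap R S r)) = algebraMap A (ResidueField E) (algebraMap R A r)
        exact e.commutes (residue R r) }
  let ρT : (A ⊗[R] S) →ₐ[A] ResidueField E := Algebra.TensorProduct.lift (Algebra.ofId A _) ρS' fun _ _ => Commute.all _ _
  have hρS : ∀ s, ρT (1 ⊗ₜ s) = e (residue S s) := fun s => by
    simp only [ρT, Algebra.TensorProduct.lift_tmul, map_one, one_mul]
    rfl
  have hρsurj : Function.Surjective ρT := fun z => by
    obtain ⟨s, hs⟩ := residue_surjective (e.symm z)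
    exact ⟨1 ⊗ₜ s, by rw [hρS, hs, AlgEquiv.apply_symm_apply]⟩
  haveI : Module.Finite A (A ⊗[R] S) := inferInstance
  have hmA : ∀ n : Ideal (A ⊗[R] S), n.IsMaximal → (maximalIdeal A).map (algebraMap A (A ⊗[R] S)) ≤ n := fun n hn => by
    have h := Ideal.isMaximal_comap_of_isIntegral_of_isMaximal (R := A) n
    rw [Ideal.map_le_iff_le_comap, IsLocalRing.eq_maximalIdeal h]
  have happ : ∀ x : (A ⊗[R] S), ∃ s : S, x - 1 ⊗ₜ s ∈ (maximalIdeal A).map (algebraMap A (A ⊗[R] S)) := fun x => by
    induction x using TensorProduct.induction_on with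
    | zero => exact ⟨0, by rw [TensorProduct.tmul_zero, sub_zero]; exact zero_mem _⟩
    | add x y hx hy =>
      obtain ⟨s, hs⟩ := hx
      obtain ⟨t, ht⟩ := hy
      exact ⟨s + t, by rw [TensorProduct.tmul_add, add_sub_add_comm]; exact add_mem hs ht⟩
    | tmul a s =>
      obtain ⟨w, hw⟩ := hres.2 (residue A a)
      obtain ⟨r, rfl⟩ := residue_surjective w
      refine ⟨r • s, ?_⟩
      have ha : a - algebraMap R A r ∈ maximalIdeal A := by
        rw [← residue_eq_zero_iff, map_sub, sub_eq_zero]
        exact hw.symm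
      rw [← TensorProduct.smul_tmul, ← Algebra.algebraMap_eq_smul_one, ← TensorProduct.sub_tmul,
        show (a - algebraMap R A r) ⊗ₜ[R] s = algebraMap A (A ⊗[R] S) (a - algebraMap R A r) * (1 ⊗ₜ[R] s) by
          simp only [Algebra.TensorProduct.algebraMap_apply, Algebra.algebraMap_self, RingHom.id_apply,
            Algebra.TensorProduct.tmul_mul_tmul, mul_one, one_mul]]
      exact Ideal.mul_mem_right _ _ (Ideal.mem_map_of_mem _ ha)
  have hker : ∀ n : Ideal (A ⊗[R] S), n.IsMaximal → RingHom.ker ρT ≤ n := fun n hn x hx => by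
    obtain ⟨s, hs⟩ := happ x
    have h1 : ρT (x - 1 ⊗ₜ s) = 0 := by
      refine (Ideal.map_le_iff_le_comap.2 (fun a ha => ?_) : (maximalIdeal A).map (algebraMap A (A ⊗[R] S)) ≤ RingHom.ker ρT) hs
      show ρT (algebraMap A (A ⊗[R] S) a) = 0
      rw [AlgHom.commutes, IsScalarTower.algebraMap_apply A (ResidueField A) (ResidueField E),
        show algebraMap A (ResidueField A) a = 0 from (residue_eq_zero_iff a).2 ha, map_zero]
    rw [map_sub, RingHom.mem_ker.1 hx, zero_sub, neg_eq_zero, hρS] at h1
    have h2 : residue S s = 0 := e.injective (h1.trans (map_zero e).symm)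
    have h3 : (1 : A) ⊗ₜ[R] s ∈ n := by
      have hsm : s ∈ (maximalIdeal R).map (algebraMap R S) := by
        rw [Algebra.FormallyUnramified.map_maximalIdeal]
        exact (residue_eq_zero_iff s).1 h2
      refine (Ideal.map_le_iff_le_comap.2 (fun r hr => ?_) : (maximalIdeal R).map (algebraMap R S) ≤
        n.comap (Algebra.TensorProduct.includeRight : S →ₐ[R] (A ⊗[R] S))) hsm
      show (1 : A) ⊗ₜ[R] algebraMap R S r ∈ n
      rw [show (1 : A) ⊗ₜ[R] algebraMap R S r = algebraMap A (A ⊗[R] S) (algebraMap R A r) from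
        ((Algebra.TensorProduct.includeRight : S →ₐ[R] A ⊗[R] S).commutes r).trans
          (IsScalarTower.algebraMap_apply R A (A ⊗[R] S) r)]
      exact hmA n hn (Ideal.mem_map_of_mem _ (map_nonunit (algebraMap R A) r hr))
    have := n.add_mem (hmA n hn hs) h3
    rwa [sub_add_cancel] at this
  haveI hmaxT : (RingHom.ker ρT).IsMaximal := RingHom.ker_isMaximal_of_surjective ρT hρsurj
  haveI : IsLocalRing (A ⊗[R] S) := IsLocalRing.of_unique_max_ideal ⟨RingHom.ker ρT, hmaxT, fun n hn =>
    (hmaxT.eq_of_le hn.ne_top (hker n hn)).symm⟩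
  haveI : HenselianLocalRing (A ⊗[R] S) := Groth.Agent.S0505.result A (A ⊗[R] S)
  have hTm : maximalIdeal (A ⊗[R] S) = RingHom.ker ρT := (IsLocalRing.eq_maximalIdeal hmaxT).symm
  haveI := EssEtGal7.henselianRing_max (A ⊗[R] S)
  haveI := EssEtGal7.henselianRing_max E
  obtain ⟨φ, hφ, -⟩ := Groth.Agent.Hensel.existsUnique_etale_lift_of_algebra (maximalIdeal E) ρT
  have hφ' : ∀ x, residue E (φ x) = ρT x := fun x => congr($hφ x)
  let q : (A ⊗[R] S) ⧸ RingHom.ker ρT ≃+* ResidueField E := RingHom.quotientKerEquivOfSurjective hρsurj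
  let r : ResidueField (A ⊗[R] S) ≃+* ResidueField E := (Ideal.quotEquivOfEq hTm).trans q
  have hr : ∀ x, r (residue (A ⊗[R] S) x) = ρT x := fun x => rfl
  obtain ⟨ψ, hψ, -⟩ := EtAlg7.existsUnique_algHom hE (B := (A ⊗[R] S)) r.symm.toRingHom fun a => by
    apply r.injective
    show r (r.symm _) = r (residue (A ⊗[R] S) (algebraMap A (A ⊗[R] S) a))
    rw [r.apply_symm_apply, hr, AlgHom.commutes]
    rfl
  have hψ' : ∀ y, ρT (ψ y) = residue E y := fun y => by
    rw [← hr, hψ]
    exact r.apply_symm_apply _
  have h1 : φ.comp ψ = AlgHom.id A E := EtAlg7.algHom_ext_residue hE _ _ fun y => (hφ' (ψ y)).trans (hψ' y)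
  have h2 : ψ.comp φ = AlgHom.id A (A ⊗[R] S) := by
    obtain ⟨l, -, hu⟩ := Groth.Agent.Hensel.existsUnique_etale_lift_of_algebra (maximalIdeal (A ⊗[R] S))
      ((Ideal.Quotient.mkₐ A (maximalIdeal (A ⊗[R] S))).comp (AlgHom.id A (A ⊗[R] S)))
    refine (hu (ψ.comp φ) (AlgHom.ext fun x => ?_)).trans (hu _ rfl).symm
    refine r.injective ?_
    show r (residue (A ⊗[R] S) (ψ (φ x))) = r (residue (A ⊗[R] S) x)
    rw [hr, hr, hψ', hφ']
  exact ⟨AlgEquiv.ofAlgHom ψ φ h2 h1⟩

end Groth.Agent.S16444
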