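import Groth.Statements.S16446
import Groth.Agent.EssEtGal7.Main
import Groth.Agent.S0540
-- import your own Groth.Agent.* helpers here

set_option autoImplicit false
universe u
open Hensel

namespace Groth.Agent.S16446

/-- Let A be an excellent henselian reduced local ring, S a strict henselization of A and Q a minimal
prime ideal of S with contraction q to A; let K be the fraction field of S/Q and L the subfield of K
generated over the image of A by a finite subset t of K. Then there is an A-subalgebra E of S, a
local ring and an essentially etale local A-algebra, such that (i) every minimal prime ideal of S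
over the ideal qS is generated by its contraction to E, and (ii) every element of S/Q whose image in
K lies in L is the class of an element of E — so that the intersection of L with S/Q equals its
intersection with the image of E. -/
theorem result
    (A S : Type u) [CommRing A] [HenselianLocalRing A] [IsReduced A] (hA : EGA4.IsExcellent A)
    [CommRing S] [IsLocalRing S] [Algebra A S] [IsLocalHom (algebraMap A S)]
    [Hensel.IsStrictHenselization A S] (Q : Ideal S) (hQ : Q ∈ minimalPrimes S) [Q.IsPrime]
    (t : Finset (FractionRing (S ⧸ Q))) :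
    ∃ E : Subalgebra A S, ∃ _ : IsLocalRing E, EGA4loc.IsEssentiallyEtale A E ∧
      (∀ Q' ∈ ((Q.comap (algebraMap A S)).map (algebraMap A S)).minimalPrimes,
        Q' = Ideal.map (algebraMap E S) (Q'.comap (algebraMap E S))) ∧
      ∀ x : S, algebraMap (S ⧸ Q) (FractionRing (S ⧸ Q)) (Ideal.Quotient.mk Q x) ∈
          Subfield.closure (Set.range (algebraMap A (FractionRing (S ⧸ Q))) ∪
            (t : Set (FractionRing (S ⧸ Q)))) →
        ∃ e ∈ E, Ideal.Quotient.mk Q e = Ideal.Quotient.mk Q x := by
  classical
  haveI : IsNoetherianRing A := hA.1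
  haveI : IsNoetherianRing S := (Groth.Agent.S0540.result A S).1 inferInstance
  obtain ⟨D', h1, h2, -, -⟩ := Groth.Agent.EssEtGal7.exists_inter hA Q t
  haveI := h2
  obtain ⟨G, hG⟩ := Module.Finite.fg_top (R := A) (M := D')
  choose s hs using fun z : D' => Ideal.Quotient.mk_surjective (I := Q) z.1
  let P := (Q.comap (algebraMap A S)).map (algebraMap A S)
  have hfinP : P.minimalPrimes.Finite := P.finite_minimalPrimes_of_isNoetherianRing
  choose g hg using fun Q' : Ideal S => (IsNoetherian.noetherian Q' : Q'.FG)
  obtain ⟨E, hE, hEl, hEt, -⟩ := Groth.Agent.EssEtFrac5.exists_essEtale_containing (A := A) S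
    (G.image s ∪ hfinP.toFinset.biUnion g)
  refine ⟨E, hEl, hEt, fun Q' hQ' => le_antisymm ?_ (Ideal.map_comap_le), fun x hx => ?_⟩
  · refine (hg Q').symm.le.trans (Submodule.span_le.2 fun y hy => ?_)
    have hyQ : y ∈ Q' := (hg Q').le (Submodule.subset_span hy)
    have hyE : y ∈ E := hE y (Finset.mem_union_right _ (Finset.mem_biUnion.2 ⟨Q', hfinP.mem_toFinset.2 hQ', hy⟩))
    exact Ideal.mem_map_of_mem (algebraMap E S) (show (⟨y, hyE⟩ : E) ∈ Q'.comap (algebraMap E S) from hyQ)
  · have hxD : Ideal.Quotient.mk Q x ∈ D' := by
      show Ideal.Quotient.mk Q x ∈ (D' : Set (S ⧸ Q))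
      rw [h1]
      exact hx
    have hz : (⟨_, hxD⟩ : D') ∈ Submodule.span A (G : Set D') := hG ▸ Submodule.mem_top
    have hsub : Submodule.span A (G : Set D') ≤
        ((E.map (Ideal.Quotient.mkₐ A Q)).comap D'.val).toSubmodule := Submodule.span_le.2 fun w hw =>
      ⟨s w, hE _ (Finset.mem_union_left _ (Finset.mem_image_of_mem s hw)), hs w⟩
    exact hsub hz

end Groth.Agent.S16446
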