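import Groth.Statements.S1645
import Groth.Agent.GGDiv.Main

set_option autoImplicit false
universe u
open CategoryTheory CategoryTheory.Limits AlgebraicGeometry
open Variety

namespace Groth.Agent.S1645

/-- Let X be integral and separated and U a nonempty affine open outside of which there are only
finitely many points, each with a one-dimensional Noetherian local ring. Then there are a globally
generated invertible module L and a global section s with U equal to the locus where s generates L. -/
theorem result (X : Scheme.{u}) [IsIntegral X] [X.IsSeparated]
    (U : X.Opens) (hU : IsAffineOpen U) (hne : (U : Set X).Nonempty) (hfin : ((U : Set X)ᶜ).Finite)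
    (hloc : ∀ x : X, x ∉ U → IsNoetherianRing (X.presheaf.stalk x) ∧ ringKrullDim (X.presheaf.stalk x) = 1) :
    ∃ (L : X.Modules) (s : Coh.structureModule X ⟶ L), PicF.IsInvertible L ∧ Curv2.IsGloballyGenerated L ∧
      CohB1.genLocus L s = U := by
  exact Groth.Agent.GGDiv.main U hU hne hfin hloc

end Groth.Agent.S1645
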