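import Mathlib
import Groth.Statements.S16452
-- import your own Groth.Agent.* helpers here

set_option autoImplicit false
universe u
open CAlg

namespace Groth.Agent.S16452

section helpers

variable {R : Type u} [CommRing R] {S : Type u} [CommRing S] [Algebra R S] [Algebra.FormallyEtale R S]

lemma pow_quotient_bijective (J : Ideal S) (hJ : Function.Surjective (algebraMap R (S ⧸ J))) (n : ℕ) :
    (∀ y : S, ∃ r : R, algebraMap R S r - y ∈ J ^ n) ∧
      ∀ r : R, algebraMap R S r ∈ J ^ n → r ∈ J.comap (algebraMap R S) ^ n := by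
  set I := J.comap (algebraMap R S) with hI
  have hle : I.map (algebraMap R S) ≤ J := Ideal.map_comap_le
  -- the reduction of R modulo a power, over S modulo J
  have hpow : ∀ a ∈ I ^ n, algebraMap R S a ∈ J ^ n := fun a ha =>
    Ideal.pow_right_mono hle n (by rw [← Ideal.map_pow]; exact Ideal.mem_map_of_mem _ ha)
  rcases Nat.eq_zero_or_pos n with rfl | hn
  · simp
  let g : (R ⧸ I ^ n) →ₐ[R] S ⧸ J :=
    Ideal.Quotient.liftₐ (I ^ n) (Algebra.ofId R (S ⧸ J)) (fun a ha =>
      Ideal.Quotient.eq_zero_iff_mem.mpr (Ideal.pow_le_self hn.ne' (hpow a ha)))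
  have hg : Function.Surjective g := fun y => by
    obtain ⟨r, rfl⟩ := hJ y
    exact ⟨Ideal.Quotient.mk _ r, rfl⟩
  have hker : RingHom.ker g ≤ I.map (Ideal.Quotient.mk (I ^ n)) := by
    intro x hx
    obtain ⟨r, rfl⟩ := Ideal.Quotient.mk_surjective x
    exact Ideal.mem_map_of_mem _ (show r ∈ I from (Ideal.Quotient.eq_zero_iff_mem (I := J)).mp hx)
  have hkn : RingHom.ker g ^ n = ⊥ := by
    rw [eq_bot_iff]
    refine (Ideal.pow_right_mono hker n).trans ?_
    rw [← Ideal.map_pow, Ideal.map_quotient_self]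
  have hnil : IsNilpotent (RingHom.ker g) := ⟨n, hkn⟩
  let s := Algebra.FormallySmooth.liftOfSurjective (Ideal.Quotient.mkₐ R J) g hg hnil
  have hs : ∀ y, g (s y) = Ideal.Quotient.mk J y := fun y =>
    Algebra.FormallySmooth.liftOfSurjective_apply _ g hg hnil y
  let q : (R ⧸ I ^ n) →ₐ[R] S ⧸ J ^ n :=
    Ideal.Quotient.liftₐ (I ^ n) (Algebra.ofId R (S ⧸ J ^ n)) (fun a ha =>
      Ideal.Quotient.eq_zero_iff_mem.mpr (hpow a ha))
  have hqg : ∀ x, Ideal.Quotient.factor (Ideal.pow_le_self hn.ne') (q x) = g x := fun x => by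
    obtain ⟨r, rfl⟩ := Ideal.Quotient.mk_surjective x
    rfl
  -- uniqueness of lifts
  have hqs : q.comp s = Ideal.Quotient.mkₐ R (J ^ n) := by
    refine Algebra.FormallyUnramified.lift_unique (J.map (Ideal.Quotient.mk (J ^ n))) ?_ _ _ ?_
    · exact ⟨n, by rw [← Ideal.map_pow, Ideal.map_quotient_self]; rfl⟩
    · refine AlgHom.ext fun y => Ideal.Quotient.eq.mpr ?_
      obtain ⟨z, hz⟩ := Ideal.Quotient.mk_surjective (q (s y))
      change q (s y) - Ideal.Quotient.mk (J ^ n) y ∈ _
      rw [← hz, ← map_sub]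
      refine Ideal.mem_map_of_mem _ (Ideal.Quotient.eq.mp ?_)
      rw [← hs y, ← hqg, ← hz]
      rfl
  constructor
  · intro y
    obtain ⟨r, hr⟩ := Ideal.Quotient.mk_surjective (s y)
    refine ⟨r, Ideal.Quotient.eq.mp ?_⟩
    have := AlgHom.congr_fun hqs y
    rw [AlgHom.comp_apply, ← hr] at this
    exact this
  · intro r hr
    have hJn : J ^ n ≤ RingHom.ker s.toRingHom := by
      exact fun y hy => by
        have h1 : J.map s.toRingHom ≤ RingHom.ker g := by
          rw [Ideal.map_le_iff_le_comap]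
          intro z hz
          rw [Ideal.mem_comap, RingHom.mem_ker]
          exact (hs z).trans (Ideal.Quotient.eq_zero_iff_mem.mpr hz)
        have h2 := Ideal.pow_right_mono h1 n
        rw [← Ideal.map_pow, hkn] at h2
        exact (Ideal.mem_bot).mp (h2 (Ideal.mem_map_of_mem s.toRingHom hy))
    have h3 : s (algebraMap R S r) = 0 := hJn hr
    rw [AlgHom.commutes] at h3
    exact Ideal.Quotient.eq_zero_iff_mem.mp h3

end helpers

/-- Let R → S be formally étale and J an ideal of S such that the composite R → S → S/J is surjective;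
let I ⊆ R be its kernel, the preimage of J in R. Then the homomorphism of associated graded rings ⊕ₙ
Iⁿ/Iⁿ⁺¹ → ⊕ₙ Jⁿ/Jⁿ⁺¹ induced by R → S (which carries I into J) is bijective. -/
theorem result (R : Type u) [CommRing R] (S : Type u)
    [CommRing S] [Algebra R S] [Algebra.FormallyEtale R S] (J : Ideal S)
    (hJ : Function.Surjective (algebraMap R (S ⧸ J))) :
    Function.Bijective (AssocGr.map (AssocGr.IsFiltHom.adic
      (Ideal.map_comap_le : (J.comap (algebraMap R S)).map (algebraMap R S) ≤ J))) := by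
  have hb := pow_quotient_bijective J hJ
  set h := AssocGr.IsFiltHom.adic
    (Ideal.map_comap_le : (J.comap (algebraMap R S)).map (algebraMap R S) ≤ J)
  constructor
  · rw [injective_iff_map_eq_zero]
    intro x hx
    obtain ⟨f, rfl⟩ := AssocGr.mkG_surjective _ x
    rw [AssocGr.map_mkG, AssocGr.mkG_eq_zero_iff, AssocGr.mem_succIdeal_iff] at hx
    rw [AssocGr.mkG_eq_zero_iff, AssocGr.mem_succIdeal_iff]
    intro n
    have := hx n
    rw [AssocGr.coe_reesMap, Polynomial.coeff_map] at this
    exact (hb (n + 1)).2 _ this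
  · intro x
    obtain ⟨g, rfl⟩ := AssocGr.mkG_surjective _ x
    choose r hr using fun n => (hb (n + 1)).1 ((g : Polynomial S).coeff n)
    have hrn : ∀ n, r n ∈ (J.comap (algebraMap R S)) ^ n := by
      intro n
      refine (hb n).2 _ ?_
      have := add_mem (Ideal.pow_le_pow_right (Nat.le_succ n) (hr n))
        (show ((g : Polynomial S)).coeff n ∈ J ^ n from g.2 n)
      simpa using this
    let F : Polynomial R := ∑ n ∈ (g : Polynomial S).support, Polynomial.monomial n (r n)
    have hFc : ∀ n, F.coeff n = if n ∈ (g : Polynomial S).support then r n else 0 := fun n => by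
      simp [F, Polynomial.finset_sum_coeff, Polynomial.coeff_monomial]
    have hF : F ∈ (FiltBl.IdealFiltration.adic (J.comap (algebraMap R S))).rees := by
      intro n
      rw [hFc]
      split_ifs
      · exact hrn n
      · exact zero_mem _
    refine ⟨AssocGr.mkG _ ⟨F, hF⟩, ?_⟩
    rw [AssocGr.map_mkG, ← sub_eq_zero, ← map_sub, AssocGr.mkG_eq_zero_iff, AssocGr.mem_succIdeal_iff]
    intro n
    change ((F.map (algebraMap R S)) - (g : Polynomial S)).coeff n ∈ J ^ (n + 1)
    rw [Polynomial.coeff_sub, Polynomial.coeff_map, hFc]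
    split_ifs with hn
    · exact hr n
    · rw [Polynomial.notMem_support_iff.mp hn, map_zero, sub_zero]
      exact zero_mem _

end Groth.Agent.S16452
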