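import Groth.Statements.S16453
import Mathlib
import Groth.Agent.AdicGrLib.Basic

set_option autoImplicit false
universe u
open AdicGr

namespace Groth.Agent.S16453

/-- Let A be a commutative ring, I an ideal and Â the I-adic completion, filtered by the kernels Âₙ of
the projections Â → A/Iⁿ. Then the homomorphism of associated graded rings ⊕ₙ Iⁿ/Iⁿ⁺¹ → ⊕ₙ Âₙ/Âₙ₊₁
induced by the canonical map A → Â is bijective. No hypothesis on A or I is needed. (The published
statement is for an arbitrary filtered ring and also asserts the analogous isomorphism for a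
compatibly filtered module; this row is the ring assertion for the filtration by the powers of one
ideal.) -/
theorem result (A : Type u) [CommRing A] (I : Ideal A) :
    Function.Bijective (AssocGr.map (AssocGr.isFiltHom_kerFilt I)) := by
  refine ⟨Groth.Agent.AdicGrLib.map_injective _ ?_, Groth.Agent.AdicGrLib.map_surjective _ ?_⟩
  · intro n a _ h
    rw [AssocGr.mem_kerFilt_iff_val, AdicCompletion.algebraMap_apply, Algebra.algebraMap_self,
      RingHom.id_apply, AdicCompletion.of_apply, Submodule.mkQ_apply, Submodule.Quotient.mk_eq_zero] at h
    change a ∈ (I ^ (n + 1) • ⊤ : Ideal A) at h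
    show a ∈ I ^ (n + 1)
    simpa using h
  · intro n x hx
    rw [AssocGr.mem_kerFilt_iff_val] at hx
    obtain ⟨a, ha⟩ := Submodule.Quotient.mk_surjective _ (x.val (n + 1))
    refine ⟨a, ?_, ?_⟩
    · have h1 := AdicCompletion.transitionMap_comp_eval_apply I A (Nat.le_add_right n 1) x
      rw [← ha, hx] at h1
      change Submodule.Quotient.mk a = 0 at h1
      rw [Submodule.Quotient.mk_eq_zero] at h1
      show a ∈ I ^ n
      simpa using h1
    · rw [AssocGr.mem_kerFilt_iff_val, AdicCompletion.val_sub_apply, sub_eq_zero, ← ha,
        AdicCompletion.algebraMap_apply, Algebra.algebraMap_self, RingHom.id_apply,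
        AdicCompletion.of_apply, Submodule.mkQ_apply]

end Groth.Agent.S16453
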