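import Groth.Statements.S16454
import Groth.Agent.LocalCrit.Flatness

set_option autoImplicit false
universe u
open TensorProduct
open EGA43

namespace Groth.Agent.S16454

/-- Let A be a commutative ring, I a nilpotent ideal of A and M an A-module, and form the associated
graded ring G = ⊕ₙ Iⁿ/Iⁿ⁺¹ and the associated graded G-module gr_I(M) = ⊕ₙ IⁿM/Iⁿ⁺¹M. Assume that
M/IM is flat over A/I and that the canonical homomorphism (M/IM) ⊗ G → gr_I(M), [x] ⊗ [a] ↦ [a·x],
is injective: degree by degree, whenever elements a_i ∈ Iⁿ and x_i ∈ M satisfy Σ_i [a_i]·[x_i] = 0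
in gr_I(M) (that is Σ a_i x_i ∈ Iⁿ⁺¹M), the element Σ_i [a_i] ⊗ [x_i] of (Iⁿ/Iⁿ⁺¹) ⊗ (M/IM) is zero.
Then M is a flat A-module. (The published lemma is stated for any finite decreasing multiplicative
filtration A = J₀ ⊇ J₁ ⊇ … ⊇ J_N₊₁ = 0 of A with M filtered by the submodules JₙM; this row is its
case Jₙ = Iⁿ.) -/
theorem result (A : Type u) [CommRing A] (I : Ideal A)
    (hI : IsNilpotent I) (M : Type u) [AddCommGroup M] [Module A M]
    (hflat : Module.Flat (A ⧸ I) (M ⧸ (I • (⊤ : Submodule A M))))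
    (hinj : ∀ (n k : ℕ) (a : Fin k → ↥((FiltBl.IdealFiltration.adic I).F n))
      (x : Fin k → ↥((Rees.powFilt I M).N 0)),
      (∑ i, (AssocGr.inDeg (FiltBl.IdealFiltration.adic I) n (a i) :
          AssocGr.GrRing (FiltBl.IdealFiltration.adic I)) •
        (AssocGr.inDegM (Rees.powFilt I M) 0 (x i) : AssocGr.GrMod (Rees.powFilt I M))) = 0 →
      (∑ i, (AssocGr.inDeg (FiltBl.IdealFiltration.adic I) n (a i)) ⊗ₜ[A]
          (Submodule.Quotient.mk (x i : M)) :
        ↥(AssocGr.gr (FiltBl.IdealFiltration.adic I) n) ⊗[A] (M ⧸ (I • (⊤ : Submodule A M)))) = 0) :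
    Module.Flat A M := by
  classical
  let Q := M ⧸ (I • (⊤ : Submodule A M))
  let 𝓕 := FiltBl.IdealFiltration.adic I
  -- the kernel of `I ^ n ⊗ M → gr n ⊗ M / I M`
  have hsucc : ∀ (n : ℕ), Function.Injective ((I ^ (n + 1)).subtype.rTensor M) →
      Function.Injective ((I ^ n).subtype.rTensor M) := by
    intro n ih
    rw [injective_iff_map_eq_zero]
    intro x hx
    have hle : I ^ (n + 1) ≤ I ^ n := Ideal.pow_le_pow_right n.le_succ
    let inc : ↥(I ^ (n + 1)) ⊗[A] M →ₗ[A] ↥(I ^ n) ⊗[A] M := (Submodule.inclusion hle).rTensor M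
    obtain ⟨k, a, y, rfl⟩ : ∃ (k : ℕ) (a : Fin k → ↥(I ^ n)) (y : Fin k → M), x = ∑ i, a i ⊗ₜ[A] y i := by
      obtain ⟨s, hs⟩ := TensorProduct.exists_finset x
      refine ⟨s.card, fun i => (s.equivFin.symm i).1.1, fun i => (s.equivFin.symm i).1.2, ?_⟩
      rw [hs, ← Finset.sum_coe_sort s]
      exact Fintype.sum_equiv s.equivFin _ _ fun p => by simp
    have hsum : ∑ i, (a i : A) • y i = 0 := by
      have h := congrArg (TensorProduct.lid A M) hx
      simpa [map_sum] using h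
    let yy : Fin k → ↥((Rees.powFilt I M).N 0) := fun i =>
      ⟨y i, by show y i ∈ I ^ 0 • (⊤ : Submodule A M); simp⟩
    have hG := hinj n k (fun i => a i) yy (by
      simp only [AssocGr.inDeg_smul_inDegM]
      rw [← AddSubgroup.val_finsetSum, ← map_sum]
      refine (congrArg Subtype.val ((AssocGr.inDegM_eq_zero_iff _ _ _).2 ?_)).trans rfl
      rw [AddSubmonoidClass.coe_finsetSum]
      show ∑ i, (a i : A) • y i ∈ _
      rw [hsum]
      exact zero_mem _)
    let φ : ↥(I ^ n) ⊗[A] M →ₗ[A] ↥(AssocGr.gr 𝓕 n) ⊗[A] Q :=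
      TensorProduct.map (AssocGr.inDeg 𝓕 n) (I • (⊤ : Submodule A M)).mkQ
    have hφ : φ (∑ i, a i ⊗ₜ[A] y i) = 0 := by
      rw [map_sum]
      exact hG
    have hker : LinearMap.ker φ ≤ LinearMap.range inc := by
      show LinearMap.ker (TensorProduct.map (AssocGr.inDeg 𝓕 n) (I • (⊤ : Submodule A M)).mkQ) ≤ _
      refine (TensorProduct.map_ker (f := (Submodule.inclusion hle : ↥(I ^ (n + 1)) →ₗ[A] ↥(I ^ n)))
        (g := AssocGr.inDeg 𝓕 n) (f' := (I • (⊤ : Submodule A M)).subtype) (g' := (I • (⊤ : Submodule A M)).mkQ)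
        (fun b => ⟨fun hb => ⟨⟨b, (AssocGr.inDeg_eq_zero_iff 𝓕 n b).1 hb⟩, Subtype.ext rfl⟩, fun ⟨c, hc⟩ =>
          (AssocGr.inDeg_eq_zero_iff 𝓕 n b).2 (hc ▸ c.2)⟩)
        (AssocGr.inDeg_surjective 𝓕 n) (LinearMap.exact_subtype_mkQ _) (Submodule.mkQ_surjective _)).le.trans ?_
      refine sup_le ?_ le_rfl
      rw [LinearMap.range_eq_map, ← TensorProduct.span_tmul_eq_top, Submodule.map_span, Submodule.span_le]
      rintro _ ⟨_, ⟨b, w, rfl⟩, rfl⟩
      obtain ⟨w, hw⟩ := w
      show b ⊗ₜ[A] w ∈ LinearMap.range inc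
      refine Submodule.smul_induction_on hw (fun c hc z _ => ?_) fun p q hp hq => by
        rw [TensorProduct.tmul_add]; exact add_mem hp hq
      refine ⟨⟨c * b, by rw [pow_succ']; exact Ideal.mul_mem_mul hc b.2⟩ ⊗ₜ z, ?_⟩
      rw [TensorProduct.tmul_smul, TensorProduct.smul_tmul']
      rfl
    obtain ⟨x', hx'⟩ := hker (LinearMap.mem_ker.2 hφ)
    rw [← hx'] at hx ⊢
    have h0 : (I ^ (n + 1)).subtype.rTensor M x' = 0 := by
      refine Eq.trans ?_ hx
      rw [← LinearMap.rTensor_comp_apply]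
      rfl
    rw [ih (h0.trans (map_zero _).symm), map_zero]
  obtain ⟨N, hN⟩ := hI
  have hall : ∀ d n : ℕ, N ≤ n + d → Function.Injective ((I ^ n).subtype.rTensor M) := by
    intro d
    induction d with
    | zero =>
      intro n hn
      haveI : Subsingleton ↥(I ^ n) := Submodule.subsingleton_iff_eq_bot.2
        (eq_bot_iff.2 ((Ideal.pow_le_pow_right hn).trans hN.le))
      haveI : Subsingleton (↥(I ^ n) ⊗[A] M) := inferInstance
      exact Function.injective_of_subsingleton _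
    | succ d ih => exact fun n hn => hsucc n (ih (n + 1) (by omega))
  have h1 : Function.Injective (I.subtype.rTensor M) := by
    have h := hall N 1 (by omega)
    rwa [pow_one] at h
  haveI : Module.Flat (A ⧸ I) ((A ⧸ I) ⊗[A] M) :=
    Module.Flat.of_linearEquiv (LinearEquiv.extendScalarsOfSurjective Ideal.Quotient.mk_surjective
      (TensorProduct.quotTensorEquivQuotSMul M I))
  exact Groth.Agent.LocalCrit.flat_of_isNilpotent I M ⟨N, hN⟩ h1
    (Groth.Agent.LocalCrit.keepsInjective_of_flat I M)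

end Groth.Agent.S16454
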