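import Groth.Statements.S16455
import Groth.Agent.NFlat6.Ascent

set_option autoImplicit false
universe u
open EGA4

namespace Groth.Agent.S16455

/-- For a commutative ring A, an ideal I of A and an A-module M, the following are equivalent: every
quotient IⁿM/Iⁿ⁺¹M (n ≥ 0) is a flat A/I-module; the associated graded module gr_I(M) = ⊕ₙ
IⁿM/Iⁿ⁺¹M, as one module over A/I, is flat. Either condition says that M is normally flat along I.
(The source defines normal flatness for a coherent module on a locally Noetherian scheme through the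
second condition and notes it amounts to the first; the equivalence holds for every ring and
module.) -/
theorem result (A : Type u) [CommRing A] (I : Ideal A) (M : Type u)
    [AddCommGroup M] [Module A M] :
    EGA4.IsNormallyFlat I M ↔ Module.Flat (A ⧸ I) (AssocGr.GrMod (Rees.powFilt I M)) := by
  open Groth.Agent.NFlat6 DirectSum in
  let F := Rees.powFilt I M
  let κ : ∀ n, Groth.Agent.NFlat6.Pc I M n →+ ↥(AssocGr.grM F n) := fun n =>
    QuotientAddGroup.lift (I • ⊤ : Submodule A ↥(Groth.Agent.NFlat6.Pw I M n)).toAddSubgroup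
      (AssocGr.inDegM F n) (fun y hy => (AssocGr.inDegM_eq_zero_iff F n y).mpr
        ((Groth.Agent.NFlat6.mem_smul_top_iff_val y).mp hy))
  have hκmk : ∀ n (y : ↥(Groth.Agent.NFlat6.Pw I M n)),
      κ n (Submodule.Quotient.mk y) = AssocGr.inDegM F n y := fun n y => rfl
  have hκ : ∀ n, Function.Bijective (κ n) := by
    intro n
    refine ⟨(injective_iff_map_eq_zero (κ n)).mpr fun z hz => ?_, fun z => ?_⟩
    · obtain ⟨y, rfl⟩ := Submodule.Quotient.mk_surjective _ z
      rw [hκmk, AssocGr.inDegM_eq_zero_iff] at hz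
      exact (Groth.Agent.NFlat6.pc_mk_eq_zero y).mpr hz
    · obtain ⟨y, rfl⟩ := AssocGr.inDegM_surjective F n z
      exact ⟨Submodule.Quotient.mk y, hκmk n y⟩
  have hsm : ∀ n (a : A) (z : Groth.Agent.NFlat6.Pc I M n),
      ((κ n (a • z) : ↥(AssocGr.grM F n)) : AssocGr.GrMod F) =
        a • ((κ n z : ↥(AssocGr.grM F n)) : AssocGr.GrMod F) := by
    intro n a z
    obtain ⟨y, rfl⟩ := Submodule.Quotient.mk_surjective _ z
    rw [← Submodule.Quotient.mk_smul, hκmk, hκmk]
    exact AssocGr.coe_inDegM_smul F n a y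
  let φ : ∀ n, Groth.Agent.NFlat6.Pc I M n →ₗ[A] AssocGr.GrMod F := fun n =>
    { toFun := fun z => ((κ n z : ↥(AssocGr.grM F n)) : AssocGr.GrMod F)
      map_add' := fun a b => by rw [map_add, AddSubgroup.coe_add]
      map_smul' := hsm n }
  let Φ : (⨁ n, Groth.Agent.NFlat6.Pc I M n) →ₗ[A] AssocGr.GrMod F := DirectSum.toModule A ℕ _ φ
  let e1 : (⨁ n, Groth.Agent.NFlat6.Pc I M n) ≃+ ⨁ n, ↥(AssocGr.grM F n) :=
    DFinsupp.mapRange.addEquiv fun n => AddEquiv.ofBijective (κ n) (hκ n)
  have hΦ : ∀ z, Φ z = DirectSum.coeAddMonoidHom (AssocGr.grM F) (e1 z) := by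
    intro z
    induction z using DirectSum.induction_on with
    | zero => rw [map_zero, map_zero, map_zero]
    | of n y =>
      have h1 : e1 (DirectSum.of _ n y) = DirectSum.of (fun n => ↥(AssocGr.grM F n)) n (κ n y) := by
        exact DFinsupp.mapRange_single (hf := fun _ => map_zero _)
      rw [h1, DirectSum.coeAddMonoidHom_of]
      exact DirectSum.toModule_lof A n y
    | add a b ha hb => rw [map_add, map_add, map_add, ha, hb]
  have hbij : Function.Bijective Φ := by
    rw [show ⇑Φ = ⇑(DirectSum.coeAddMonoidHom (AssocGr.grM F)) ∘ ⇑e1 from funext hΦ]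
    exact (DirectSum.Decomposition.isInternal (AssocGr.grM F)).comp e1.bijective
  let E := (LinearEquiv.ofBijective Φ hbij).extendScalarsOfSurjective
    (S := A ⧸ I) Ideal.Quotient.mk_surjective
  rw [← Module.Flat.equiv_iff E, Module.Flat.directSum_iff]
  rfl

end Groth.Agent.S16455
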