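import Groth.Statements.S16456
import Mathlib
import Groth.Agent.AdicGrLib.Basic

set_option autoImplicit false
universe u
open AdicGr

namespace Groth.Agent.S16456

/-- Let φ : A → B be a ring homomorphism, I ⊆ A and J ⊆ B ideals with φ(I)B ⊆ J, so that φ is a
homomorphism of filtered rings for the I-adic and J-adic filtrations. Assume that A is I-adically
complete in the sense that every I-adically Cauchy sequence has a limit, that B is J-adically
separated, and that the induced homomorphism of associated graded rings ⊕ₙ Iⁿ/Iⁿ⁺¹ → ⊕ₙ Jⁿ/Jⁿ⁺¹ is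
surjective. Then φ is surjective, φ is strict (Jⁿ = φ(Iⁿ)B for all n, that is J = φ(I)B), and B is
J-adically separated and complete. (The published statement is for a homomorphism of filtered
modules over a filtered ring, with arbitrary compatible filtrations; this row is its case of a ring
homomorphism with adic filtrations.) -/
theorem result (A : Type u) [CommRing A] (B : Type u)
    [CommRing B] (φ : A →+* B) (I : Ideal A) (J : Ideal B) (hIJ : I.map φ ≤ J)
    [IsPrecomplete I A] [IsHausdorff J B]
    (h : Function.Surjective (AssocGr.map (AssocGr.IsFiltHom.adic hIJ))) :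
    Function.Surjective φ ∧ I.map φ = J ∧ IsAdicComplete J B := by
  classical
  have hmap : ∀ m, ∀ a ∈ I ^ m, φ a ∈ J ^ m := fun m a ha => (AssocGr.IsFiltHom.adic hIJ).apply_mem ha
  have htop : ∀ m, (J ^ m • ⊤ : Submodule B B) = J ^ m := fun m => by rw [smul_eq_mul, Ideal.mul_top]
  have hzero : ∀ z : B, (∀ m, z ∈ J ^ m) → z = 0 := fun z hz =>
    IsHausdorff.haus (I := J) inferInstance z fun m => by
      rw [SModEq.sub_mem, sub_zero, htop]
      exact hz m
  have hlift : ∀ n, ∀ b ∈ J ^ n, ∃ a ∈ I ^ n, φ a = b := by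
    intro n b hb
    have hnext : ∀ m a, a ∈ I ^ n ∧ b - φ a ∈ J ^ (n + m) →
        ∃ a', (a' ∈ I ^ n ∧ b - φ a' ∈ J ^ (n + (m + 1))) ∧ a' - a ∈ I ^ (n + m) := by
      rintro m a ⟨ha, hr⟩
      obtain ⟨e, he, her⟩ := Groth.Agent.AdicGrLib.exists_of_map_surjective _ h (n := n + m) hr
      change e ∈ I ^ (n + m) at he
      change φ e - (b - φ a) ∈ J ^ (n + m + 1) at her
      refine ⟨a + e, ⟨add_mem ha (Ideal.pow_le_pow_right (Nat.le_add_right n m) he), ?_⟩, by simpa using he⟩
      rw [← add_assoc, map_add]
      have := neg_mem her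
      convert this using 1
      ring
    choose! nxt h1 h2 using hnext
    let s : ℕ → A := fun m => Nat.rec 0 (fun j sj => nxt j sj) m
    have hs : ∀ m, s m ∈ I ^ n ∧ b - φ (s m) ∈ J ^ (n + m) := by
      intro m
      induction m with
      | zero => exact ⟨zero_mem _, by simpa [s] using hb⟩
      | succ m ih => exact h1 m _ ih
    obtain ⟨L, hL⟩ := Groth.Agent.AdicGrLib.exists_limit (I := I) 0 s fun m =>
      Ideal.pow_le_pow_right (Nat.le_add_left _ _) (h2 m _ (hs m))
    simp only [add_zero] at hL
    refine ⟨L, by simpa using sub_mem (hs n).1 (hL n), ?_⟩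
    rw [← sub_eq_zero]
    refine hzero _ fun m => ?_
    have h3 := sub_mem (neg_mem (hmap m _ (hL m))) (Ideal.pow_le_pow_right (Nat.le_add_left m n) (hs m).2)
    convert h3 using 1
    rw [map_sub]
    ring
  have hsurj : Function.Surjective φ := fun b => by
    obtain ⟨a, -, ha⟩ := hlift 0 b (by simp)
    exact ⟨a, ha⟩
  refine ⟨hsurj, le_antisymm hIJ fun b hb => ?_, { prec' := fun f hf => ?_ }⟩
  · obtain ⟨a, ha, rfl⟩ := hlift 1 b (by simpa using hb)
    exact Ideal.mem_map_of_mem φ (by simpa using ha)
  · have hd : ∀ m, ∃ a ∈ I ^ m, φ a = f (m + 1) - f m := fun m => hlift m _ (by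
      have := hf (Nat.le_succ m)
      rw [SModEq.sub_mem, htop] at this
      simpa using neg_mem this)
    choose a ha haφ using hd
    obtain ⟨a₀, ha₀⟩ := hsurj (f 0)
    let s : ℕ → A := fun m => a₀ + ∑ j ∈ Finset.range m, a j
    have hs : ∀ m, φ (s m) = f m := by
      intro m
      induction m with
      | zero => simp [s, ha₀]
      | succ m ih =>
        simp only [s, Finset.sum_range_succ, ← add_assoc, map_add]
        rw [← map_add, ih, haφ]
        ring
    obtain ⟨L, hL⟩ := Groth.Agent.AdicGrLib.exists_limit (I := I) 0 s fun m => by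
      simpa [s, Finset.sum_range_succ, ← add_assoc] using ha m
    refine ⟨φ L, fun m => ?_⟩
    rw [SModEq.sub_mem, htop, ← hs m, ← map_sub]
    exact hmap m _ (hL m)

end Groth.Agent.S16456
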