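import Groth.Statements.S16458
import Mathlib
import Groth.Agent.AdicGrLib.Basic

set_option autoImplicit false
universe u
open AdicGr

namespace Groth.Agent.S16458

/-- Let A be a commutative ring and I an ideal such that every I-adically Cauchy sequence in A has a
limit, and let M be an A-module with an I-filtration M = N₀ ⊇ N₁ ⊇ … (I·Nₙ ⊆ Nₙ₊₁) which is
separated, ⋂ₙ Nₙ = 0. If the associated graded module gr(M) = ⊕ₙ Nₙ/Nₙ₊₁ is finitely generated as a
module over the associated graded ring ⊕ₙ Iⁿ/Iⁿ⁺¹, then M is a finitely generated A-module. (The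
published statement allows any complete filtered ring and also concludes that M is complete for its
filtration; this row takes the I-adic filtration on A and states the finiteness.) -/
theorem result (A : Type u) [CommRing A] (I : Ideal A)
    [IsPrecomplete I A] (M : Type u) [AddCommGroup M] [Module A M] (F : I.Filtration M)
    (h0 : F.N 0 = ⊤) (hsep : ⨅ n, F.N n = ⊥)
    [Module.Finite (AssocGr.GrRing (FiltBl.IdealFiltration.adic I)) (AssocGr.GrMod F)] :
    Module.Finite A M := by
  classical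
  obtain ⟨S, hS⟩ := ‹Module.Finite (AssocGr.GrRing (FiltBl.IdealFiltration.adic I)) (AssocGr.GrMod F)›.fg_top
  choose f hf using fun s : S => AssocGr.mkGM_surjective F (s : AssocGr.GrMod F)
  let ι := (s : S) × ↥((AssocGr.toReesM F).symm (f s) : PolynomialModule A M).coeff.support
  let e := Fintype.equivFin ι
  let d : Fin (Fintype.card ι) → ℕ := fun i => ((e.symm i).2 : ℕ)
  let x : Fin (Fintype.card ι) → M := fun i => AssocGr.ReesM.coeff F (f (e.symm i).1) (d i)
  have hx : ∀ i, x i ∈ F.N (d i) := fun i => AssocGr.ReesM.coeff_mem F _ _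
  have hgen : Submodule.span (AssocGr.GrRing (FiltBl.IdealFiltration.adic I))
      (Set.range fun i => (AssocGr.inDegM F (d i) ⟨x i, hx i⟩ : AssocGr.GrMod F)) = ⊤ := by
    rw [eq_top_iff, ← hS, Submodule.span_le]
    intro s hs
    show ((⟨s, hs⟩ : S) : AssocGr.GrMod F) ∈ Submodule.span _ _
    rw [← hf ⟨s, hs⟩, ← AssocGr.sum_termM F (f ⟨s, hs⟩), map_sum]
    refine Submodule.sum_mem _ fun n hn => Submodule.subset_span ⟨e ⟨⟨s, hs⟩, ⟨n, hn⟩⟩, ?_⟩
    let G : ι → AssocGr.GrMod F := fun p =>
      AssocGr.mkGM F (AssocGr.monomM F (p.2 : ℕ) ⟨AssocGr.ReesM.coeff F (f p.1) p.2, AssocGr.ReesM.coeff_mem F _ _⟩)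
    exact congrArg G (e.symm_apply_apply ⟨⟨s, hs⟩, ⟨n, hn⟩⟩)
  refine ⟨⟨Finset.univ.image x, eq_top_iff.mpr fun y _ => ?_⟩⟩
  obtain ⟨c, -, rfl⟩ := Groth.Agent.AdicGrLib.exists_eq_sum F d x hsep hx ⊤ (fun _ => Submodule.mem_top)
    (fun n y _ hy => Groth.Agent.AdicGrLib.exists_step F d _ hy hx (hgen ▸ Submodule.mem_top))
    (n := 0) (y := y) Submodule.mem_top (h0 ▸ Submodule.mem_top)
  exact Submodule.sum_mem _ fun i _ => Submodule.smul_mem _ _ (Submodule.subset_span (by simp))

end Groth.Agent.S16458
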