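import Groth.Statements.S16459
import Mathlib
import Groth.Agent.AdicGrLib.Basic

set_option autoImplicit false
universe u
open AdicGr

namespace Groth.Agent.S16459

/-- Let A be a commutative ring and I an ideal such that every I-adically Cauchy sequence in A has a
limit, and let M be an A-module with an I-filtration M = N₀ ⊇ N₁ ⊇ … (I·Nₙ ⊆ Nₙ₊₁) which is
separated, ⋂ₙ Nₙ = 0. If the associated graded module gr(M) = ⊕ₙ Nₙ/Nₙ₊₁ is a Noetherian module over
the associated graded ring ⊕ₙ Iⁿ/Iⁿ⁺¹, then M is a Noetherian A-module and every submodule M' of M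
is closed for the topology defined by the filtration, that is ⋂ₙ (M' + Nₙ) = M'. (The published
statement allows any complete filtered ring; this row takes the I-adic filtration on A.) -/
theorem result (A : Type u) [CommRing A]
    (I : Ideal A) [IsPrecomplete I A] (M : Type u) [AddCommGroup M] [Module A M] (F : I.Filtration M)
    (h0 : F.N 0 = ⊤) (hsep : ⨅ n, F.N n = ⊥)
    [IsNoetherian (AssocGr.GrRing (FiltBl.IdealFiltration.adic I)) (AssocGr.GrMod F)] :
    IsNoetherian A M ∧ ∀ M' : Submodule A M, ⨅ n, M' ⊔ F.N n = M' := by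
  classical
  have key : ∀ P : Submodule A M, ∃ (k : ℕ) (d : Fin k → ℕ) (x : Fin k → M), (∀ i, x i ∈ F.N (d i)) ∧
      (∀ i, x i ∈ P) ∧ ∀ n, ∀ y ∈ P, y ∈ F.N n →
        ∃ c : Fin k → A, (∀ i, c i ∈ I ^ (n - d i)) ∧ y - ∑ i, c i • x i ∈ F.N (n + 1) := by
    intro P
    let gen : Set (AssocGr.GrMod F) :=
      {z | ∃ n, ∃ y : ↥(F.N n), (y : M) ∈ P ∧ (AssocGr.inDegM F n y : AssocGr.GrMod F) = z}
    obtain ⟨T, hT, hTeq⟩ := (Submodule.fg_span_iff_fg_span_finset_subset gen).mp
      (IsNoetherian.noetherian (Submodule.span (AssocGr.GrRing (FiltBl.IdealFiltration.adic I)) gen))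
    choose n y hyP hy using fun z : T => hT z.2
    let e := T.equivFin
    refine ⟨T.card, fun i => n (e.symm i), fun i => (y (e.symm i) : M), fun i => (y (e.symm i)).2,
      fun i => hyP _, fun m w hwP hw => Groth.Agent.AdicGrLib.exists_step F _ _ hw (fun i => (y (e.symm i)).2) ?_⟩
    have hmem : (AssocGr.inDegM F m ⟨w, hw⟩ : AssocGr.GrMod F) ∈
        Submodule.span (AssocGr.GrRing (FiltBl.IdealFiltration.adic I)) (T : Set (AssocGr.GrMod F)) := by
      rw [← hTeq]
      exact Submodule.subset_span ⟨m, ⟨w, hw⟩, hwP, rfl⟩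
    refine Submodule.span_mono ?_ hmem
    intro z hz
    refine ⟨e ⟨z, hz⟩, ?_⟩
    exact (congrArg (fun p => (AssocGr.inDegM F (n p) (y p) : AssocGr.GrMod F))
      (e.symm_apply_apply ⟨z, hz⟩)).trans (hy ⟨z, hz⟩)
  refine ⟨⟨fun P => ?_⟩, fun P => le_antisymm ?_ (le_iInf fun n => le_sup_left)⟩
  · obtain ⟨k, d, x, hx, hxP, step⟩ := key P
    refine ⟨Finset.univ.image x, le_antisymm (Submodule.span_le.mpr (by
      intro z hz
      obtain ⟨i, -, rfl⟩ := Finset.mem_image.mp (Finset.mem_coe.mp hz)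
      exact hxP i)) fun y hy => ?_⟩
    obtain ⟨c, -, rfl⟩ := Groth.Agent.AdicGrLib.exists_eq_sum F d x hsep hx P hxP step
      (n := 0) hy (h0 ▸ Submodule.mem_top)
    exact Submodule.sum_mem _ fun i _ => Submodule.smul_mem _ _ (Submodule.subset_span (by simp))
  · intro y hy
    obtain ⟨k, d, x, hx, hxP, step⟩ := key P
    exact Groth.Agent.AdicGrLib.mem_span_of_forall_mem_sup F d x hsep hx P hxP step
      fun n => (Submodule.mem_iInf _).mp hy n

end Groth.Agent.S16459
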