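import Groth.Statements.S16460
import Mathlib
import Groth.Agent.AdicGrLib.Basic

set_option autoImplicit false
universe u
open AdicGr

namespace Groth.Agent.S16460

/-- Let A be a commutative ring with a decreasing filtration by ideals A = F₀ ⊇ F₁ ⊇ F₂ ⊇ … satisfying
F_m·F_n ⊆ F_{m+n}, and assume the filtration is separated, ⋂ₙ Fₙ = 0. If the associated graded ring
⊕ₙ Fₙ/Fₙ₊₁ is an integral domain, then A is an integral domain. -/
theorem result (A : Type u) [CommRing A]
    (𝓕 : FiltBl.IdealFiltration A) (hsep : ⨅ n, 𝓕.F n = ⊥) [IsDomain (AssocGr.GrRing 𝓕)] :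
    IsDomain A := by
  classical
  have hnt : Nontrivial A := by
    refine ⟨⟨0, 1, fun h => zero_ne_one (α := AssocGr.GrRing 𝓕) ?_⟩⟩
    rw [← map_zero (algebraMap A (AssocGr.GrRing 𝓕)), h, map_one]
  have key : ∀ a : A, a ≠ 0 → ∃ n, ∃ ha : a ∈ 𝓕.F n, (AssocGr.inDeg 𝓕 n ⟨a, ha⟩ : AssocGr.GrRing 𝓕) ≠ 0 := by
    intro a ha
    have : ∃ n, a ∉ 𝓕.F n := by
      by_contra hc
      push Not at hc
      exact ha (by rw [← Submodule.mem_bot A, ← hsep]; exact (Submodule.mem_iInf _).mpr hc)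
    have h0 : Nat.find this ≠ 0 := fun h => by
      have := Nat.find_spec this
      rw [h, 𝓕.zero_eq] at this
      exact this trivial
    obtain ⟨n, hn⟩ := Nat.exists_eq_succ_of_ne_zero h0
    have han : a ∈ 𝓕.F n := not_not.mp (Nat.find_min this (hn ▸ Nat.lt_succ_self n))
    refine ⟨n, han, fun h => ?_⟩
    rw [ZeroMemClass.coe_eq_zero, AssocGr.inDeg_eq_zero_iff] at h
    exact Nat.find_spec this (hn ▸ h)
  haveI : NoZeroDivisors A := ⟨fun {a b} hab => by
    by_contra hc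
    push Not at hc
    obtain ⟨m, ha, ha'⟩ := key a hc.1
    obtain ⟨n, hb, hb'⟩ := key b hc.2
    apply mul_ne_zero ha' hb'
    rw [AssocGr.coe_inDeg_mul, ZeroMemClass.coe_eq_zero, AssocGr.inDeg_eq_zero_iff]
    simp [hab]⟩
  exact NoZeroDivisors.to_isDomain A

end Groth.Agent.S16460
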