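import Groth.Statements.S16462
import Groth.Agent.CohPullX.EdgeOut
import Groth.Agent.CohPullX.Edge
import Groth.Agent.S16953

set_option autoImplicit false
universe u
open Coherent

namespace Groth.Agent.S16462
namespace Aux
open CategoryTheory CategoryTheory.Limits AlgebraicGeometry
open Groth.Agent
set_option backward.isDefEq.respectTransparency false
set_option backward.isDefEq.respectTransparency.types false

theorem isIso_edge {X Y Z : Scheme.{u}} (f : X ⟶ Y) (g : Y ⟶ Z)
    [QuasiCompact f] [QuasiSeparated f] [IsAffineHom g] [HasInjectiveResolutions X.Modules]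
    (M : X.Modules) [hM : Coh.IsQCoh M] (p : ℕ) :
    IsIso (CohBC.lerayEdgeOut f g p M) := by
  haveI : HasInjectiveResolutions Y.Modules := S16953.Aux.hasInjRes Y
  haveI := SpObjSS.enoughInjectives_of_hasInjectiveResolutions (C := X.Modules)
  haveI := SpObjSS.enoughInjectives_of_hasInjectiveResolutions (C := Y.Modules)
  haveI := QCoh.preservesFiniteLimits_push g
  let I := injectiveResolution M
  let K := ((Scheme.Modules.pushforward f).mapHomologicalComplex (ComplexShape.up ℕ)).obj I.cocomplex
  have hK : ∀ n, TriCat.IsRightAcyclic (Scheme.Modules.pushforward g) (K.X n) := fun n q hq => by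
    obtain ⟨i, rfl⟩ : ∃ i, q = i + 1 := ⟨q - 1, by omega⟩
    haveI : Injective (I.cocomplex.X n) := I.injective n
    exact QCoh.isZero_Rpush_of_flasque g ((Scheme.Modules.pushforward f).obj (I.cocomplex.X n))
      (CohPullX.isFlasque_push f.base (QCoh.isFlasqueMod_of_injective (I.cocomplex.X n))) i
  have hH : ∀ n, TriCat.IsRightAcyclic (Scheme.Modules.pushforward g) (K.homology n) := fun n q hq => by
    obtain ⟨i, rfl⟩ : ∃ i, q = i + 1 := ⟨q - 1, by omega⟩
    exact S16953.Aux.isZero_Rpush g (K.homology n) ((QCoh.isQCoh_iff_iso
      (I.isoRightDerivedObj (Scheme.Modules.pushforward f) n)).1 (QCoh.isQCoh_Rpush f hM n)) i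
  haveI := CohPullX.isIso_homologyComparison (Scheme.Modules.pushforward g) K hK hH p
  unfold CohBC.lerayEdgeOut RDer.edgeOut
  infer_instance

end Aux


open CategoryTheory AlgebraicGeometry AlgebraicGeometry.Scheme.Modules in
/-- Let f : X → Y be a quasi-compact quasi-separated morphism of schemes, g : Y → Z an affine morphism
and M a quasi-coherent O_X-module. Then for every p ≥ 0 the canonical edge morphism R^p (g ∘ f)_* M
→ g_*(R^p f_* M) is an isomorphism (higher direct images as right derived functors of direct image
on O-modules). (The published statement assumes f separated; this row assumes only f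
quasi-separated.) -/
theorem result {X Y Z : Scheme.{u}} (f : X ⟶ Y) (g : Y ⟶ Z)
    [QuasiCompact f] [QuasiSeparated f] [IsAffineHom g] [HasInjectiveResolutions X.Modules]
    (M : X.Modules) [Coh.IsQCoh M] (p : ℕ) :
    IsIso (CohBC.lerayEdgeOut f g p M) := by

    exact Aux.isIso_edge f g M p

end Groth.Agent.S16462
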