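import Groth.Statements.S16469
import Groth.Agent.Lib.CurveSlope

set_option autoImplicit false
set_option linter.style.haveILetI false
set_option linter.unusedVariables false
universe u
open CategoryTheory CategoryTheory.Limits AlgebraicGeometry
open VBCurve

namespace Groth.Agent.S16469

/-- Let X be a smooth proper integral curve (integral, smooth and proper of dimension one) over an
algebraically closed field k, and let E, F be finite locally free O_X-modules of ranks r ≥ 1, s ≥ 1,
both slope-semistable (deg G · rank ≤ deg · rank G on finite locally free submodules G of positive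
rank; degree = χ − rank·χ(O_X)) and of the same slope μ: deg E · s = deg F · r. Then for every
homomorphism f : E → F the kernel and the cokernel of f, taken in the abelian category of
O_X-modules, are finite locally free of some ranks r₀ and s₀, have slope μ when nonzero (deg(ker f)
· r = deg E · r₀ and deg(coker f) · s = deg F · s₀) and are slope-semistable: deg G · r₀ ≤ deg(ker
f) · n for every finite locally free submodule G ⊂ ker f of rank n ≥ 1, and likewise for coker f
with s₀. In other words the semistable bundles of slope μ form an abelian subcategory, and the image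
of f is a sub-bundle of F. -/
theorem result (k : Type u) [Field k] [IsAlgClosed k] (X : Scheme.{u}) [X.Over (Spec (CommRingCat.of k))]
    [IsIntegral X] [IsProper (X ↘ Spec (CommRingCat.of k))] [Smooth (X ↘ Spec (CommRingCat.of k))]
    (hdim : topologicalKrullDim X = 1)
    (r s : ℕ) (hr : 0 < r) (hs : 0 < s) (E F : X.Modules)
    (hE : FlatMod.IsFinLocFreeOfRank r E) (hF : FlatMod.IsFinLocFreeOfRank s F)
    (hEss : ModFun.IsSlopeSemistable k X E r) (hFss : ModFun.IsSlopeSemistable k X F s)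
    (hμ : Curv2.deg k X E r * (s : ℤ) = Curv2.deg k X F s * (r : ℤ)) (f : E ⟶ F) :
    (∃ r₀ : ℕ, FlatMod.IsFinLocFreeOfRank r₀ (kernel f) ∧
        Curv2.deg k X (kernel f) r₀ * (r : ℤ) = Curv2.deg k X E r * (r₀ : ℤ) ∧
        ∀ (G : X.Modules) (n : ℕ) (j : G ⟶ kernel f), Mono j → 0 < n → FlatMod.IsFinLocFreeOfRank n G →
          Curv2.deg k X G n * (r₀ : ℤ) ≤ Curv2.deg k X (kernel f) r₀ * (n : ℤ)) ∧
      (∃ s₀ : ℕ, FlatMod.IsFinLocFreeOfRank s₀ (cokernel f) ∧
        Curv2.deg k X (cokernel f) s₀ * (s : ℤ) = Curv2.deg k X F s * (s₀ : ℤ) ∧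
        ∀ (G : X.Modules) (n : ℕ) (j : G ⟶ cokernel f), Mono j → 0 < n → FlatMod.IsFinLocFreeOfRank n G →
          Curv2.deg k X G n * (s₀ : ℤ) ≤ Curv2.deg k X (cokernel f) s₀ * (n : ℤ)) := by
  haveI := Groth.Agent.CurveSlope.isLocallyNoetherian' k (X := X)
  have hEf : FlatMod.IsFinLocFree E := fun x => let ⟨U, hx, e⟩ := hE x; ⟨U, r, hx, e⟩
  have hFf : FlatMod.IsFinLocFree F := fun x => let ⟨U, hx, e⟩ := hF x; ⟨U, s, hx, e⟩
  have hEc := Groth.Agent.CurveDeg.isCoh_of_isFinLocFree hEf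
  have hFc := Groth.Agent.CurveDeg.isCoh_of_isFinLocFree hFf
  obtain ⟨I, π, j, hj, hfac, hKc, hIc, hπ, w, hS⟩ := Groth.Agent.CurveSlope.exists_factor hEc hFc f
  have hKf := Groth.Agent.CurveBundle.isFinLocFree_of_mono k hdim.le hKc (kernel.ι f) hEf
  have hK1 := Groth.Agent.CurveSlope.dg_mul_le_of_ss k hdim.le hE hEss (kernel.ι f) hKc
  have hI1 := Groth.Agent.CurveSlope.dg_mul_le_of_ss k hdim.le hF hFss j hIc
  have hrk := Groth.Agent.CurveSlope.rk_add_coh k _ _ w hS hEc
  have hdg := Groth.Agent.CurveSlope.dg_add k _ _ w hS hKc hEc hIc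
  rw [Groth.Agent.CurveBundle.rk_eq hE] at hrk
  rw [Groth.Agent.CurveSlope.deg_eq_dg k hE, Groth.Agent.CurveSlope.deg_eq_dg k hF] at hμ
  have hr' : (r : ℤ) = (Groth.Agent.CurveBundle.rk (kernel f) : ℤ) + (Groth.Agent.CurveBundle.rk I : ℤ) := by
    exact_mod_cast hrk
  have hrp : (0 : ℤ) < r := by exact_mod_cast hr
  have hsp : (0 : ℤ) < s := by exact_mod_cast hs
  have hI2 : Groth.Agent.CurveSlope.dg k I * (r : ℤ) ≤
      Groth.Agent.CurveSlope.dg k E * (Groth.Agent.CurveBundle.rk I : ℤ) := by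
    refine le_of_mul_le_mul_right ?_ hsp
    linear_combination (r : ℤ) * hI1 - (Groth.Agent.CurveBundle.rk I : ℤ) * hμ
  have hsum : Groth.Agent.CurveSlope.dg k (kernel f) * (r : ℤ) + Groth.Agent.CurveSlope.dg k I * (r : ℤ) =
      Groth.Agent.CurveSlope.dg k E * (Groth.Agent.CurveBundle.rk (kernel f) : ℤ) +
        Groth.Agent.CurveSlope.dg k E * (Groth.Agent.CurveBundle.rk I : ℤ) := by
    linear_combination (-(r : ℤ)) * hdg + (Groth.Agent.CurveSlope.dg k E) * hr'
  have hK3 : Groth.Agent.CurveSlope.dg k (kernel f) * (r : ℤ) =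
      Groth.Agent.CurveSlope.dg k E * (Groth.Agent.CurveBundle.rk (kernel f) : ℤ) :=
    le_antisymm hK1 (by linarith)
  have hI4 : Groth.Agent.CurveSlope.dg k I * (r : ℤ) =
      Groth.Agent.CurveSlope.dg k E * (Groth.Agent.CurveBundle.rk I : ℤ) := le_antisymm hI2 (by linarith)
  have hI3 : Groth.Agent.CurveSlope.dg k I * (s : ℤ) =
      Groth.Agent.CurveSlope.dg k F * (Groth.Agent.CurveBundle.rk I : ℤ) := by
    refine mul_right_cancel₀ hrp.ne' ?_
    linear_combination (s : ℤ) * hI4
      + (Groth.Agent.CurveBundle.rk I : ℤ) * hμ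
  have hCc : Coh.IsCoh (cokernel f) := Groth.Agent.QCoh.isCoh_cokernel hEc.1 hFc f
  have wC : j ≫ cokernel.π f = 0 := by
    rw [← cancel_epi π, ← Category.assoc, hfac, cokernel.condition, comp_zero]
  have hSC : (ShortComplex.mk j (cokernel.π f) wC).ShortExact :=
    { exact := ShortComplex.exact_of_g_is_cokernel _
        (CokernelCofork.IsColimit.ofπ (cokernel.π f) wC
          (fun g hg => cokernel.desc f g (by rw [← hfac, Category.assoc, hg, comp_zero]))
          (fun g hg => cokernel.π_desc _ _ _)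
          (fun g hg m hm => by rw [← cancel_epi (cokernel.π f), hm, cokernel.π_desc])) }
  have hCf := Groth.Agent.CurveSlope.isFinLocFree_of_max k hdim.le j (cokernel.π f) wC hSC hIc hFf hCc
    (fun G g hg hGf hrkG => by
      haveI := hg
      have h := Groth.Agent.CurveSlope.dg_mul_le_of_ss k hdim.le hF hFss g
        (Groth.Agent.CurveDeg.isCoh_of_isFinLocFree hGf)
      rw [hrkG, ← hI3] at h
      exact le_of_mul_le_mul_right h hsp)
  have hrkC := Groth.Agent.CurveSlope.rk_add_coh k _ _ wC hSC hFc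
  rw [Groth.Agent.CurveBundle.rk_eq hF] at hrkC
  have hs' : (s : ℤ) = (Groth.Agent.CurveBundle.rk I : ℤ) + (Groth.Agent.CurveBundle.rk (cokernel f) : ℤ) := by
    exact_mod_cast hrkC
  have hdgC := Groth.Agent.CurveSlope.dg_add k _ _ wC hSC hIc hFc hCc
  have hC3 : Groth.Agent.CurveSlope.dg k (cokernel f) * (s : ℤ) =
      Groth.Agent.CurveSlope.dg k F * (Groth.Agent.CurveBundle.rk (cokernel f) : ℤ) := by
    linear_combination (-(s : ℤ)) * hdgC - hI3 + (Groth.Agent.CurveSlope.dg k F) * hs'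
  refine ⟨⟨_, Groth.Agent.CurveBundle.isFinLocFreeOfRank_rk hKf, ?_, fun G n g hg hn hG => ?_⟩,
    ⟨_, Groth.Agent.CurveBundle.isFinLocFreeOfRank_rk hCf, ?_, fun G n g hg hn hG => ?_⟩⟩
  · rw [Groth.Agent.CurveSlope.deg_eq_dg k (Groth.Agent.CurveBundle.isFinLocFreeOfRank_rk hKf),
      Groth.Agent.CurveSlope.deg_eq_dg k hE]
    exact hK3
  · haveI := hg
    have hGc := Groth.Agent.CurveDeg.isCoh_of_isFinLocFree
      (fun x => let ⟨U, hx, e⟩ := hG x; ⟨U, n, hx, e⟩ : FlatMod.IsFinLocFree G)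
    have h := Groth.Agent.CurveSlope.dg_mul_le_of_ss k hdim.le hE hEss (g ≫ kernel.ι f) hGc
    rw [Groth.Agent.CurveBundle.rk_eq hG] at h
    rw [Groth.Agent.CurveSlope.deg_eq_dg k (Groth.Agent.CurveBundle.isFinLocFreeOfRank_rk hKf),
      Groth.Agent.CurveSlope.deg_eq_dg k hG]
    refine le_of_mul_le_mul_right ?_ hrp
    have h' := mul_le_mul_of_nonneg_right h
      (Int.natCast_nonneg (Groth.Agent.CurveBundle.rk (kernel f)))
    linear_combination h' - (n : ℤ) * hK3
  · rw [Groth.Agent.CurveSlope.deg_eq_dg k (Groth.Agent.CurveBundle.isFinLocFreeOfRank_rk hCf),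
      Groth.Agent.CurveSlope.deg_eq_dg k hF]
    exact hC3
  · haveI := hg
    have hGc := Groth.Agent.CurveDeg.isCoh_of_isFinLocFree
      (fun x => let ⟨U, hx, e⟩ := hG x; ⟨U, n, hx, e⟩ : FlatMod.IsFinLocFree G)
    obtain ⟨P, i, hi, hPf, hPr, hPd⟩ := Groth.Agent.CurveSlope.exists_preimage k hdim.le j
      (cokernel.π f) wC hSC hIc hFf hCc g hGc
    have h := Groth.Agent.CurveSlope.dg_mul_le_of_ss k hdim.le hF hFss i
      (Groth.Agent.CurveDeg.isCoh_of_isFinLocFree hPf)
    rw [hPr, hPd, Groth.Agent.CurveBundle.rk_eq hG] at h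
    push_cast at h
    rw [Groth.Agent.CurveSlope.deg_eq_dg k (Groth.Agent.CurveBundle.isFinLocFreeOfRank_rk hCf),
      Groth.Agent.CurveSlope.deg_eq_dg k hG]
    refine le_of_mul_le_mul_right ?_ hsp
    have h1 : Groth.Agent.CurveSlope.dg k G * (s : ℤ) ≤ Groth.Agent.CurveSlope.dg k F * (n : ℤ) := by
      linear_combination h - hI3
    have h' := mul_le_mul_of_nonneg_right h1
      (Int.natCast_nonneg (Groth.Agent.CurveBundle.rk (cokernel f)))
    linear_combination h' - (n : ℤ) * hC3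

end Groth.Agent.S16469
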