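import Groth.Statements.S16470
import Groth.Agent.Lib.CurveSlope

set_option autoImplicit false
set_option linter.style.haveILetI false
set_option linter.unusedVariables false
universe u
open CategoryTheory CategoryTheory.Limits AlgebraicGeometry
open VBCurve

namespace Groth.Agent.S16470

/-- Let X be a smooth proper integral curve (integral, smooth and proper of dimension one) over an
algebraically closed field k and E a finite locally free O_X-module of rank r ≥ 1 (degree = χ −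
rank·χ(O_X), slope = degree / rank). There is a finite locally free submodule E₁ ⊂ E (a monomorphism
of O_X-modules) of some rank r₁ ≥ 1, the destabilising sub-bundle, such that: every finite locally
free submodule F ⊂ E of rank r' ≥ 1 has slope at most that of E₁ (deg F · r₁ ≤ deg E₁ · r'); and the
maximal slope drops in the quotient, i.e. every finite locally free submodule G of rank r' ≥ 1 of
the cokernel E/E₁ has deg G · r₁ < deg E₁ · r'. Moreover a submodule with these two properties is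
unique: any two are the same subobject of E. (Such an E₁ is slope-semistable, every submodule of E₁
being a submodule of E; the published statement lists semistability of E₁ as a third property, which
is therefore omitted here.) -/
theorem result (k : Type u) [Field k] [IsAlgClosed k] (X : Scheme.{u}) [X.Over (Spec (CommRingCat.of k))]
    [IsIntegral X] [IsProper (X ↘ Spec (CommRingCat.of k))] [Smooth (X ↘ Spec (CommRingCat.of k))]
    (hdim : topologicalKrullDim X = 1)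
    (r : ℕ) (hr : 0 < r) (E : X.Modules) (hE : FlatMod.IsFinLocFreeOfRank r E) :
    (∃ (E₁ : X.Modules) (r₁ : ℕ) (i₁ : E₁ ⟶ E), Mono i₁ ∧ 0 < r₁ ∧ FlatMod.IsFinLocFreeOfRank r₁ E₁ ∧
      (∀ (F : X.Modules) (r' : ℕ) (j : F ⟶ E), Mono j → 0 < r' → FlatMod.IsFinLocFreeOfRank r' F →
        Curv2.deg k X F r' * (r₁ : ℤ) ≤ Curv2.deg k X E₁ r₁ * (r' : ℤ)) ∧
      (∀ (Q : X.Modules) (s : ℕ) (j : Q ⟶ cokernel i₁), Mono j → 0 < s → FlatMod.IsFinLocFreeOfRank s Q →
        Curv2.deg k X Q s * (r₁ : ℤ) < Curv2.deg k X E₁ r₁ * (s : ℤ))) ∧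
    (∀ (E₁ E₁' : X.Modules) (r₁ r₁' : ℕ) (i₁ : E₁ ⟶ E) (i₁' : E₁' ⟶ E),
      Mono i₁ → 0 < r₁ → FlatMod.IsFinLocFreeOfRank r₁ E₁ →
      (∀ (F : X.Modules) (r' : ℕ) (j : F ⟶ E), Mono j → 0 < r' → FlatMod.IsFinLocFreeOfRank r' F →
        Curv2.deg k X F r' * (r₁ : ℤ) ≤ Curv2.deg k X E₁ r₁ * (r' : ℤ)) →
      (∀ (Q : X.Modules) (s : ℕ) (j : Q ⟶ cokernel i₁), Mono j → 0 < s → FlatMod.IsFinLocFreeOfRank s Q →
        Curv2.deg k X Q s * (r₁ : ℤ) < Curv2.deg k X E₁ r₁ * (s : ℤ)) →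
      Mono i₁' → 0 < r₁' → FlatMod.IsFinLocFreeOfRank r₁' E₁' →
      (∀ (F : X.Modules) (r' : ℕ) (j : F ⟶ E), Mono j → 0 < r' → FlatMod.IsFinLocFreeOfRank r' F →
        Curv2.deg k X F r' * (r₁' : ℤ) ≤ Curv2.deg k X E₁' r₁' * (r' : ℤ)) →
      (∀ (Q : X.Modules) (s : ℕ) (j : Q ⟶ cokernel i₁'), Mono j → 0 < s → FlatMod.IsFinLocFreeOfRank s Q →
        Curv2.deg k X Q s * (r₁' : ℤ) < Curv2.deg k X E₁' r₁' * (s : ℤ)) →
      ∃ e : E₁ ≅ E₁', e.hom ≫ i₁' = i₁) := by
  haveI := Groth.Agent.CurveSlope.isLocallyNoetherian' k (X := X)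
  have hEf : FlatMod.IsFinLocFree E := fun x => let ⟨U, hx, e⟩ := hE x; ⟨U, r, hx, e⟩
  have hEc := Groth.Agent.CurveDeg.isCoh_of_isFinLocFree hEf
  have hfree : ∀ {F : X.Modules} {n : ℕ}, FlatMod.IsFinLocFreeOfRank n F → FlatMod.IsFinLocFree F :=
    fun {F n} hF x => let ⟨U, hx, e⟩ := hF x; ⟨U, n, hx, e⟩
  refine ⟨?_, ?_⟩
  · let S : ℕ → Set ℤ := fun a => {d | ∃ (F : X.Modules) (j : F ⟶ E), Mono j ∧
      FlatMod.IsFinLocFree F ∧ Groth.Agent.CurveBundle.rk F = a ∧ Groth.Agent.CurveSlope.dg k F = d}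
    have hrk : ∀ {F : X.Modules} (j : F ⟶ E), Mono j → Coh.IsCoh F →
        Groth.Agent.CurveBundle.rk F ≤ r := fun {F} j hj hF => by
      haveI := hj
      have := Groth.Agent.CurveSlope.rk_add_coh k _ _ _
        (Groth.Agent.CurveSlope.shortExact_cokernel_of_mono j) hEc
      rw [Groth.Agent.CurveBundle.rk_eq hE] at this
      omega
    have hbdd : ∀ a, ∃ B : ℤ, ∀ d ∈ S a, d ≤ B := fun a => by
      refine ⟨(Module.finrank k (Coh.HH X E 0) : ℤ) - (a : ℤ) * Curv2.euler k X (Coh.structureModule X), ?_⟩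
      rintro d ⟨F, j, hj, hF, rfl, rfl⟩
      have hFc := Groth.Agent.CurveDeg.isCoh_of_isFinLocFree hF
      have h1 := Groth.Agent.CurveSlope.euler_le_h0 k hdim.le hFc
      haveI := hj
      have h2 : (Module.finrank k (Coh.HH X F 0) : ℤ) ≤ Module.finrank k (Coh.HH X E 0) := by
        haveI := Groth.Agent.S0002.result k X E hEc 0
        exact_mod_cast LinearMap.finrank_le_finrank_of_injective
          (LinearMap.ker_eq_bot.mp (Groth.Agent.Euler.ker_mapLin_f_zero (k := k)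
            (Groth.Agent.CurveSlope.shortExact_cokernel_of_mono j)))
      unfold Groth.Agent.CurveSlope.dg
      omega
    classical
    let J : Finset ℕ := (Finset.Icc 1 r).filter fun a => (S a).Nonempty
    have hJ : J.Nonempty := ⟨r, Finset.mem_filter.2 ⟨Finset.mem_Icc.2 ⟨hr, le_rfl⟩,
      ⟨_, E, 𝟙 E, inferInstance, hEf, Groth.Agent.CurveBundle.rk_eq hE, rfl⟩⟩⟩
    have hmax : ∀ a, ∃ d : ℤ, (S a).Nonempty → d ∈ S a ∧ ∀ e ∈ S a, e ≤ d := fun a => by
      by_cases ha : (S a).Nonempty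
      · obtain ⟨B, hB⟩ := hbdd a
        obtain ⟨d, hd, hd'⟩ := Int.exists_greatest_of_bdd (P := fun d => d ∈ S a) ⟨B, hB⟩ ha
        exact ⟨d, fun _ => ⟨hd, hd'⟩⟩
      · exact ⟨0, fun h => absurd h ha⟩
    choose d hd using hmax
    obtain ⟨r₁, hr₁, hbest⟩ := J.exists_max_image (fun a => toLex ((d a : ℚ) / (a : ℚ), a)) hJ
    obtain ⟨hr₁', hne⟩ := Finset.mem_filter.1 hr₁
    obtain ⟨⟨E₁, i₁, hi₁, hE₁, hrk₁, hdg₁⟩, -⟩ := hd r₁ hne
    have hr₁pos : 0 < r₁ := (Finset.mem_Icc.1 hr₁').1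
    haveI := hi₁
    have hE₁c := Groth.Agent.CurveDeg.isCoh_of_isFinLocFree hE₁
    have key : ∀ {F : X.Modules} (j : F ⟶ E), Mono j → FlatMod.IsFinLocFree F →
        ∀ a, Groth.Agent.CurveBundle.rk F = a → 0 < a →
        Groth.Agent.CurveSlope.dg k F * (r₁ : ℤ) ≤ d r₁ * (a : ℤ) ∧
          (r₁ < a → Groth.Agent.CurveSlope.dg k F * (r₁ : ℤ) < d r₁ * (a : ℤ)) := by
      intro F j hj hF a ha hpos
      have hmem : Groth.Agent.CurveSlope.dg k F ∈ S a := ⟨F, j, hj, hF, ha, rfl⟩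
      have haJ : a ∈ J := Finset.mem_filter.2 ⟨Finset.mem_Icc.2
        ⟨hpos, ha ▸ hrk j hj (Groth.Agent.CurveDeg.isCoh_of_isFinLocFree hF)⟩, ⟨_, hmem⟩⟩
      have hle := (hd a ⟨_, hmem⟩).2 _ hmem
      have hle' := mul_le_mul_of_nonneg_right hle (Int.natCast_nonneg r₁)
      have haQ : (0 : ℚ) < a := by exact_mod_cast hpos
      have h1Q : (0 : ℚ) < r₁ := by exact_mod_cast hr₁pos
      rcases Prod.Lex.toLex_le_toLex.1 (hbest a haJ) with h | ⟨h, h'⟩
      · rw [div_lt_div_iff₀ haQ h1Q] at h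
        have h2 : d a * (r₁ : ℤ) < d r₁ * (a : ℤ) := by exact_mod_cast h
        exact ⟨by linarith, fun _ => by linarith⟩
      · rw [div_eq_div_iff haQ.ne' h1Q.ne'] at h
        have h2 : d a * (r₁ : ℤ) = d r₁ * (a : ℤ) := by exact_mod_cast h
        exact ⟨by linarith, fun hlt => absurd h' (not_le.2 hlt)⟩
    refine ⟨E₁, r₁, i₁, hi₁, hr₁pos, hrk₁ ▸ Groth.Agent.CurveBundle.isFinLocFreeOfRank_rk hE₁, ?_, ?_⟩
    · intro F r' j hj hr' hF
      have h := (key j hj (hfree hF) r' (Groth.Agent.CurveBundle.rk_eq hF) hr').1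
      rwa [Groth.Agent.CurveSlope.deg_eq_dg k hF, Groth.Agent.CurveSlope.deg_eq_dg k
        (hrk₁ ▸ Groth.Agent.CurveBundle.isFinLocFreeOfRank_rk hE₁), hdg₁]
    · intro Q s j hj hs hQ
      haveI := hj
      obtain ⟨P, i, hi, hPf, hPr, hPd⟩ := Groth.Agent.CurveSlope.exists_preimage k hdim.le i₁
        (cokernel.π i₁) _ (Groth.Agent.CurveSlope.shortExact_cokernel_of_mono i₁) hE₁c hEf
        (Groth.Agent.QCoh.isCoh_cokernel hE₁c.1 hEc i₁) j
        (Groth.Agent.CurveDeg.isCoh_of_isFinLocFree (hfree hQ))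
      rw [hrk₁, Groth.Agent.CurveBundle.rk_eq hQ] at hPr
      have h := (key i hi hPf (r₁ + s) hPr (by omega)).2 (by omega)
      rw [hPd, hdg₁] at h
      push_cast at h
      rw [Groth.Agent.CurveSlope.deg_eq_dg k hQ, Groth.Agent.CurveSlope.deg_eq_dg k
        (hrk₁ ▸ Groth.Agent.CurveBundle.isFinLocFreeOfRank_rk hE₁), hdg₁]
      linarith
  · intro E₁ E₁' r₁ r₁' i₁ i₁' hi₁ hr₁ hE₁ ha hb hi₁' hr₁' hE₁' ha' hb'
    haveI := hi₁
    haveI := hi₁'
    have hmu := le_antisymm (ha E₁' r₁' i₁' hi₁' hr₁' hE₁') (ha' E₁ r₁ i₁ hi₁ hr₁ hE₁)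
    have main : ∀ (A B : X.Modules) (a b : ℕ) (i : A ⟶ E) (i' : B ⟶ E), Mono i → Mono i' → 0 < a →
        FlatMod.IsFinLocFreeOfRank a A → FlatMod.IsFinLocFreeOfRank b B →
        (∀ (F : X.Modules) (r' : ℕ) (j : F ⟶ E), Mono j → 0 < r' → FlatMod.IsFinLocFreeOfRank r' F →
          Curv2.deg k X F r' * (a : ℤ) ≤ Curv2.deg k X A a * (r' : ℤ)) →
        (∀ (Q : X.Modules) (s : ℕ) (j : Q ⟶ cokernel i), Mono j → 0 < s → FlatMod.IsFinLocFreeOfRank s Q →
          Curv2.deg k X Q s * (a : ℤ) < Curv2.deg k X A a * (s : ℤ)) →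
        Curv2.deg k X B b * (a : ℤ) = Curv2.deg k X A a * (b : ℤ) → ∃ h : B ⟶ A, h ≫ i = i' := by
      intro A B a b i i' hi hi' hapos hA hB hmax hquot heq
      haveI := hi
      haveI := hi'
      have hAc := Groth.Agent.CurveDeg.isCoh_of_isFinLocFree (hfree hA)
      have hBc := Groth.Agent.CurveDeg.isCoh_of_isFinLocFree (hfree hB)
      have hCc := Groth.Agent.QCoh.isCoh_cokernel hAc.1 hEc i
      have hCf := Groth.Agent.CurveSlope.isFinLocFree_of_max k hdim.le i (cokernel.π i) _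
        (Groth.Agent.CurveSlope.shortExact_cokernel_of_mono i) hAc hEf hCc (fun G g hg hGf hrkG => by
          haveI := hg
          have hGr := Groth.Agent.CurveBundle.isFinLocFreeOfRank_rk hGf
          rw [hrkG, Groth.Agent.CurveBundle.rk_eq hA] at hGr
          have h := hmax G a g hg hapos hGr
          rw [Groth.Agent.CurveSlope.deg_eq_dg k hA, Groth.Agent.CurveSlope.deg_eq_dg k hGr] at h
          exact le_of_mul_le_mul_right h (by exact_mod_cast hapos))
      obtain ⟨J, π, j, hj, hfac, hKc, hJc, hπ, w, hS⟩ :=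
        Groth.Agent.CurveSlope.exists_factor hBc hCc (i' ≫ cokernel.π i)
      haveI := hj
      have hJf := Groth.Agent.CurveBundle.isFinLocFree_of_mono k hdim.le hJc j hCf
      have hKf := Groth.Agent.CurveBundle.isFinLocFree_of_mono k hdim.le hKc
        (kernel.ι (i' ≫ cokernel.π i)) (hfree hB)
      have h1 := Groth.Agent.CurveSlope.rk_add_coh k _ _ w hS hBc
      rw [Groth.Agent.CurveBundle.rk_eq hB] at h1
      have h2 := Groth.Agent.CurveSlope.dg_add k _ _ w hS hKc hBc hJc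
      rw [Groth.Agent.CurveSlope.deg_eq_dg k hA, Groth.Agent.CurveSlope.deg_eq_dg k hB] at heq
      have hJ0 : Groth.Agent.CurveBundle.rk J = 0 := by
        by_contra hne
        have hJlt := hquot J _ j hj (Nat.pos_of_ne_zero hne)
          (Groth.Agent.CurveBundle.isFinLocFreeOfRank_rk hJf)
        rw [Groth.Agent.CurveSlope.deg_eq_dg k (Groth.Agent.CurveBundle.isFinLocFreeOfRank_rk hJf),
          Groth.Agent.CurveSlope.deg_eq_dg k hA] at hJlt
        have hKle : Groth.Agent.CurveSlope.dg k (kernel (i' ≫ cokernel.π i)) * (a : ℤ) ≤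
            Groth.Agent.CurveSlope.dg k A *
              (Groth.Agent.CurveBundle.rk (kernel (i' ≫ cokernel.π i)) : ℤ) := by
          rcases Nat.eq_zero_or_pos (Groth.Agent.CurveBundle.rk (kernel (i' ≫ cokernel.π i))) with h0 | h0
          · rw [h0, Groth.Agent.CurveSlope.dg_eq_zero_of_isZero k
              (Groth.Agent.CurveBundle.isZero_of_rk_zero hKf h0)]
            simp
          · have hKr := Groth.Agent.CurveBundle.isFinLocFreeOfRank_rk hKf
            have h := hmax _ _ (kernel.ι (i' ≫ cokernel.π i) ≫ i') inferInstance h0 hKr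
            rwa [Groth.Agent.CurveSlope.deg_eq_dg k hKr, Groth.Agent.CurveSlope.deg_eq_dg k hA] at h
        have hb : (b : ℤ) = (Groth.Agent.CurveBundle.rk (kernel (i' ≫ cokernel.π i)) : ℤ) +
            (Groth.Agent.CurveBundle.rk J : ℤ) := by exact_mod_cast h1
        rw [h2, hb] at heq
        linarith
      have hw0 : i' ≫ cokernel.π i = 0 := by
        rw [← hfac, (Groth.Agent.CurveBundle.isZero_of_rk_zero hJf hJ0).eq_of_tgt π 0, zero_comp]
      exact ⟨Abelian.monoLift i i' hw0, Abelian.monoLift_comp i i' hw0⟩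
    obtain ⟨g, hg⟩ := main E₁ E₁' r₁ r₁' i₁ i₁' hi₁ hi₁' hr₁ hE₁ hE₁' ha hb hmu
    obtain ⟨g', hg'⟩ := main E₁' E₁ r₁' r₁ i₁' i₁ hi₁' hi₁ hr₁' hE₁' hE₁ ha' hb' hmu.symm
    exact ⟨⟨g', g, by rw [← cancel_mono i₁, Category.assoc, hg, hg', Category.id_comp],
      by rw [← cancel_mono i₁', Category.assoc, hg', hg, Category.id_comp]⟩, hg'⟩

end Groth.Agent.S16470
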