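import Groth.Statements.S16474
import Groth.Agent.ComodLib.Summand
import Groth.Agent.ComodLib.SchurWeyl
import Groth.Agent.S12560
import Mathlib.Analysis.Complex.Polynomial.Basic
import Mathlib.LinearAlgebra.PiTensorProduct.Finite
-- import your own Groth.Agent.* helpers here

set_option autoImplicit false
open LaurentPolynomial
open ComodTens

namespace Groth.Agent.S16474

open TensorProduct LaurentPolynomial Groth.Agent.ComodLib

/-- The spanning elements of the coordinate ring of `GL_r`. -/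
noncomputable def gen (r d m : ℕ) (x y : Fin d → Fin r) : CoordGrp.GLn r ℂ :=
  powMatrix (fun a b => (CoordGrp.GLn.X a b : CoordGrp.GLn r ℂ)) d x y * (CoordGrp.GLn.Dinv : CoordGrp.GLn r ℂ) ^ m

/-- Their span in fixed degrees. -/
noncomputable def span' (r d m : ℕ) : Submodule ℂ (CoordGrp.GLn r ℂ) :=
  Submodule.span ℂ {a | ∃ x y, a = gen r d m x y}

theorem gens_top (r : ℕ) : Submodule.span ℂ {a | ∃ d m x y, a = gen r d m x y} = ⊤ := by
  set S := Submodule.span ℂ {a | ∃ d m x y, a = gen r d m x y}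
  rw [eq_top_iff]
  rintro a -
  obtain ⟨(q : MvPolynomial (CoordGrp.GLPoly.Idx r) ℂ), rfl⟩ :=
    (Ideal.Quotient.mkₐ_surjective ℂ (CoordGrp.GLb.relIdeal r ℂ)) a
  have h1 : (1 : CoordGrp.GLn r ℂ) ∈ S :=
    Submodule.subset_span ⟨0, 0, Fin.elim0, Fin.elim0, by simp [gen, powMatrix]⟩
  let f : MvPolynomial (CoordGrp.GLPoly.Idx r) ℂ →ₐ[ℂ] CoordGrp.GLn r ℂ := CoordGrp.GLn.mk r ℂ
  show f q ∈ S
  induction q using MvPolynomial.induction_on with
  | C c =>
    rw [show (MvPolynomial.C c : MvPolynomial (CoordGrp.GLPoly.Idx r) ℂ) = algebraMap ℂ _ c from rfl, AlgHom.commutes,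
      Algebra.algebraMap_eq_smul_one]
    exact S.smul_mem c h1
  | add p q hp hq => rw [map_add]; exact S.add_mem hp hq
  | mul_X p v hp =>
    rw [map_mul]
    generalize f p = z at hp ⊢
    induction hp using Submodule.span_induction with
    | mem z hz =>
      obtain ⟨d, m, x, y, rfl⟩ := hz
      rcases v with ⟨a, b⟩ | ⟨⟩
      · refine Submodule.subset_span ⟨d + 1, m, Fin.cons a x, Fin.cons b y, ?_⟩
        rw [show f (MvPolynomial.X (Sum.inl (a, b))) = CoordGrp.GLn.X a b from rfl]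
        simp only [gen, powMatrix, Fin.prod_univ_succ, Fin.cons_zero, Fin.cons_succ]
        ring
      · refine Submodule.subset_span ⟨d, m + 1, x, y, ?_⟩
        rw [show f (MvPolynomial.X (Sum.inr ())) = CoordGrp.GLn.Dinv from rfl]
        simp only [gen, pow_succ, mul_assoc]
    | zero => simp
    | add a b _ _ ha hb => rw [add_mul]; exact S.add_mem ha hb
    | smul c a _ ha => rw [smul_mul_assoc]; exact S.smul_mem c ha

theorem bump (r d m : ℕ) : span' r d m ≤ span' r (d + r) (m + 1) := by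
  rw [span', Submodule.span_le]
  rintro _ ⟨x, y, rfl⟩
  have e : gen r d m x y = ∑ σ : Equiv.Perm (Fin r), Equiv.Perm.sign σ •
      gen r (d + r) (m + 1) (Fin.append x σ) (Fin.append y id) := by
    have h1 : gen r d m x y = gen r d m x y * (CoordGrp.GLn.det * CoordGrp.GLn.Dinv) := by
      rw [CoordGrp.GLn.det_mul_Dinv, mul_one]
    rw [h1, CoordGrp.GLn.det_eq, Matrix.det_apply, Finset.sum_mul, Finset.mul_sum]
    refine Finset.sum_congr rfl fun σ _ => ?_
    rw [smul_mul_assoc, mul_smul_comm]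
    congr 1
    simp only [gen, powMatrix, Fin.prod_univ_add, Fin.append_left, Fin.append_right, id_eq, CoordGrp.GLn.genMat, pow_succ]
    ring
  rw [e]
  refine Submodule.sum_mem _ fun σ _ => ?_
  rw [Units.smul_def]
  have hmem : gen r (d + r) (m + 1) (Fin.append x σ) (Fin.append y id) ∈ span' r (d + r) (m + 1) :=
    Submodule.subset_span ⟨_, _, rfl⟩
  exact (span' r (d + r) (m + 1)).toAddSubgroup.zsmul_mem hmem _

theorem diag_gen (r d m : ℕ) (x y : Fin d → Fin r) :
    ((CoordGrp.GLn.diag r ℂ (fun _ => 1)) : CoordGrp.GLn r ℂ →ₗc[ℂ] ℂ[T;T⁻¹]).toLinearMap (gen r d m x y) =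
      if x = y then T ((d : ℤ) - r * m) else 0 := by
  show CoordGrp.GLn.diag r ℂ (fun _ => 1) (gen r d m x y) = _
  simp only [gen, powMatrix, map_mul, map_prod, map_pow, CoordGrp.GLn.diag_X, CoordGrp.GLn.diag_Dinv]
  by_cases hxy : x = y
  · subst hxy
    simp only [if_true, Finset.prod_const, Finset.card_univ, Fintype.card_fin, ← T_add, LaurentPolynomial.T_pow,
      Finset.sum_const, nsmul_eq_mul, mul_one]
    congr 1
    ring
  · rw [if_neg hxy]
    obtain ⟨l, hl⟩ := Function.ne_iff.mp hxy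
    rw [Finset.prod_eq_zero (Finset.mem_univ l) (if_neg hl), zero_mul]

theorem coeffsOf_twist {A : Type} [CommRing A] [HopfAlgebra ℂ A] {U : Type} [AddCommGroup U] [Module ℂ U]
    (c : HopfRep.Comod ℂ A U) (g : A) (hg : IsGroupLikeElem ℂ g) {a : A} (ha : a ∈ coeffsOf ℂ A U c) :
    a * g ∈ coeffsOf ℂ A U (ComodTens.Comod.twist c g hg) := by
  suffices h : coeffsOf ℂ A U c ≤ (coeffsOf ℂ A U (ComodTens.Comod.twist c g hg)).comap (LinearMap.mulRight ℂ g) from h ha
  refine iSup_le fun f => ?_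
  rintro _ ⟨v, rfl⟩
  have e := coefFun_mem_coeffsOf (ComodTens.Comod.twist c g hg) f v
  rw [Submodule.mem_comap, LinearMap.mulRight_apply]
  convert e using 1
  show TensorProduct.lid ℂ A (f.rTensor A (c.coact v)) * g = TensorProduct.lid ℂ A (f.rTensor A ((ComodTens.Comod.twist c g hg).coact v))
  rw [ComodTens.twist_coact]
  induction c.coact v using TensorProduct.induction_on with
  | zero => simp
  | add p q hp hq => simp only [map_add, add_mul, hp, hq]
  | tmul p q => simp [smul_mul_assoc]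

theorem span'_le (r d m : ℕ) : span' r d m ≤ coeffsOf ℂ (CoordGrp.GLn r ℂ) (TensorPower ℂ d (Fin r → ℂ))
    (ComodTens.Comod.twist (ComodTens.Comod.tpow (GLin.comodAlong (CoordGrp.Mat.toGLn r ℂ) (ComodTens.stdVec r ℂ)) d)
      (CoordGrp.GLn.Dinv ^ m) (IsGroupLikeElem.pow ⟨CoordGrp.GLn.counit_Dinv, CoordGrp.GLn.comul_Dinv⟩)) := by
  rw [span', Submodule.span_le]
  rintro _ ⟨x, y, rfl⟩
  refine coeffsOf_twist _ _ _ ?_
  induction d with
  | zero => simpa [powMatrix] using one_mem_coeffsOf_tpow_zero (GLin.comodAlong (CoordGrp.Mat.toGLn r ℂ) (ComodTens.stdVec r ℂ))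
  | succ d ih =>
    rw [powMatrix, Fin.prod_univ_castSucc]
    refine mul_mem_coeffsOf_tpow_succ _ d (ih (x ∘ Fin.castSucc) (y ∘ Fin.castSucc)) ?_
    have h := coefFun_mem_coeffsOf (GLin.comodAlong (CoordGrp.Mat.toGLn r ℂ) (ComodTens.stdVec r ℂ))
      (LinearMap.proj (x (Fin.last d))) (Pi.single (y (Fin.last d)) (1 : ℂ))
    convert h using 1
    show _ = TensorProduct.lid ℂ _ (LinearMap.rTensor _ _ (TensorProduct.map LinearMap.id _
      ((ComodTens.stdVec r ℂ).coact (Pi.single (y (Fin.last d)) 1))))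
    rw [ComodTens.stdVec_coact_single, map_sum, map_sum, map_sum, Finset.sum_eq_single (x (Fin.last d))]
    · simp
    · intro j _ hj; simp [hj.symm]
    · intro hx; exact absurd (Finset.mem_univ _) hx

theorem pi_twist {A : Type} [CommRing A] [HopfAlgebra ℂ A] {b : ℕ} {U : Type} [AddCommGroup U] [Module ℂ U]
    (c : Fin b → HopfRep.Comod ℂ A U) (g : A) (hg : IsGroupLikeElem ℂ g) :
    (ComodTens.Comod.twist (ComodTens.Comod.pi c) g hg).coact =
      (ComodTens.Comod.pi fun i => ComodTens.Comod.twist (c i) g hg).coact := by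
  refine LinearMap.pi_ext fun i x => ?_
  rw [ComodTens.twist_coact, ComodTens.pi_coact_single, ComodTens.pi_coact_single, ComodTens.twist_coact,
    ← LinearMap.comp_apply (LinearMap.lTensor _ _), LinearMap.lTensor_comp_rTensor, ← LinearMap.rTensor_comp_lTensor]
  rfl

/-- Let r ≥ 1 and let V be a finite-dimensional rational representation of the general linear group GL_r
over the complex numbers (a finite-dimensional comodule over its coordinate Hopf algebra) which is
homogeneous of some integer degree h, i.e. restricted to the scalar one-parameter subgroup t ↦ t·1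
every vector of V has weight h. Then there are natural numbers a, b, c with c > 0 such that V is a
direct summand, as a representation, of ((ℂ^r)^(⊗a))^(⊕b) ⊗ det^(-c): there are equivariant linear
maps i : V → E and p : E → V with p ∘ i the identity, where E is the direct sum of b copies of the
a-th tensor power of the standard representation on ℂ^r, twisted by the (−c)-th power of the
determinant character. -/
theorem result (r : ℕ) (hr : 0 < r)
    (V : Type) [AddCommGroup V] [Module ℂ V] [Module.Finite ℂ V] (ρ : HopfRep.Comod ℂ (CoordGrp.GLn r ℂ) V)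
    (h : ℤ)
    (hh : @HopfRep.eigenspace ℂ ℂ[T;T⁻¹] _ _ _ V _ _
      (GLin.comodAlong (CoordGrp.GLn.diag r ℂ (fun _ => 1)) ρ) (T h) = ⊤) :
    ∃ (a b c : ℕ), 0 < c ∧
      ∃ (i : V →ₗ[ℂ] (Fin b → TensorPower ℂ a (Fin r → ℂ)))
        (p : (Fin b → TensorPower ℂ a (Fin r → ℂ)) →ₗ[ℂ] V),
        p ∘ₗ i = LinearMap.id ∧
        @Hoch.IsComodHom ℂ _ (CoordGrp.GLn r ℂ) _ _ _ V _ _ ρ (Fin b → TensorPower ℂ a (Fin r → ℂ)) _ _
          (ComodTens.Comod.twist
            (ComodTens.Comod.pi fun _ : Fin b =>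
              ComodTens.Comod.tpow (GLin.comodAlong (CoordGrp.Mat.toGLn r ℂ) (ComodTens.stdVec r ℂ)) a)
            (CoordGrp.GLn.Dinv ^ c) (IsGroupLikeElem.pow ⟨CoordGrp.GLn.counit_Dinv, CoordGrp.GLn.comul_Dinv⟩)) i ∧
        @Hoch.IsComodHom ℂ _ (CoordGrp.GLn r ℂ) _ _ _ (Fin b → TensorPower ℂ a (Fin r → ℂ)) _ _
          (ComodTens.Comod.twist
            (ComodTens.Comod.pi fun _ : Fin b =>
              ComodTens.Comod.tpow (GLin.comodAlong (CoordGrp.Mat.toGLn r ℂ) (ComodTens.stdVec r ℂ)) a)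
            (CoordGrp.GLn.Dinv ^ c) (IsGroupLikeElem.pow ⟨CoordGrp.GLn.counit_Dinv, CoordGrp.GLn.comul_Dinv⟩)) V _ _ ρ p := by
  classical
  letI := ρ
  set π : CoordGrp.GLn r ℂ →ₗ[ℂ] ℂ[T;T⁻¹] :=
    ((CoordGrp.GLn.diag r ℂ (fun _ => 1)) : CoordGrp.GLn r ℂ →ₗc[ℂ] ℂ[T;T⁻¹]).toLinearMap with hπ
  let R : CoordGrp.GLn r ℂ →ₗ[ℂ] CoordGrp.GLn r ℂ ⊗[ℂ] ℂ[T;T⁻¹] :=
    π.lTensor _ ∘ₗ Coalgebra.comul
  let co : ℂ[T;T⁻¹] →ₗ[ℂ] ℂ := Finsupp.lapply h ∘ₗ (AddMonoidAlgebra.coeffLinearEquiv ℂ).toLinearMap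
  let πh : CoordGrp.GLn r ℂ →ₗ[ℂ] CoordGrp.GLn r ℂ := slice co ∘ₗ R
  have hco : ∀ e : ℤ, co (T e) = if e = h then 1 else 0 := fun e => by
    show (Finsupp.single e (1 : ℂ)) h = _
    rw [Finsupp.single_apply]
  -- coefficients of `ρ` are fixed by the projection
  have hfix : ∀ a ∈ coeffsOf ℂ (CoordGrp.GLn r ℂ) V ρ, πh a = a := by
    intro a ha
    suffices hs : coeffsOf ℂ (CoordGrp.GLn r ℂ) V ρ ≤ LinearMap.ker (πh - LinearMap.id) by
      simpa [sub_eq_zero] using hs ha
    refine iSup_le fun f => ?_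
    rintro _ ⟨v, rfl⟩
    rw [LinearMap.mem_ker, LinearMap.sub_apply, LinearMap.id_apply, sub_eq_zero]
    have hv : π.lTensor V (ρ.coact v) = v ⊗ₜ[ℂ] T h := by
      have := hh.ge (Submodule.mem_top (x := v))
      exact this
    have hcomul := LinearMap.congr_fun (isComodHom_coefFun (C := CoordGrp.GLn r ℂ) (V := V) f) v
    simp only [LinearMap.comp_apply] at hcomul
    show slice co (π.lTensor _ (Coalgebra.comul (R := ℂ) _)) = _
    rw [show Coalgebra.comul (R := ℂ) (coefFun (C := CoordGrp.GLn r ℂ) f v) = _ from hcomul,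
      ← LinearMap.comp_apply (LinearMap.lTensor _ π), LinearMap.lTensor_comp_rTensor, ← LinearMap.rTensor_comp_lTensor,
      LinearMap.comp_apply, hv, LinearMap.rTensor_tmul, slice_tmul, hco, if_pos rfl, one_smul]
  -- the projection on the spanning elements
  have hXc : IsComodMatrix ℂ (fun a b => (CoordGrp.GLn.X a b : CoordGrp.GLn r ℂ)) :=
    ⟨CoordGrp.GLn.comul_X, CoordGrp.GLn.counit_X⟩
  have hN : ∀ (d m : ℕ) (x y : Fin d → Fin r), πh (gen r d m x y) = if (d : ℤ) - r * m = h then gen r d m x y else 0 := by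
    intro d m x y
    have hR : R (gen r d m x y) = gen r d m x y ⊗ₜ[ℂ] T ((d : ℤ) - r * m) := by
      show π.lTensor _ (Coalgebra.comul (R := ℂ) (gen r d m x y)) = _
      rw [show Coalgebra.comul (R := ℂ) (gen r d m x y) = _ from (SchurWeyl.isComodMatrix_mul (hXc.powMatrix d)
        (IsGroupLikeElem.pow ⟨CoordGrp.GLn.counit_Dinv, CoordGrp.GLn.comul_Dinv⟩ : IsGroupLikeElem ℂ ((CoordGrp.GLn.Dinv : CoordGrp.GLn r ℂ) ^ m))).comul x y,
        map_sum, Finset.sum_eq_single y]
      · rw [LinearMap.lTensor_tmul]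
        show gen r d m x y ⊗ₜ[ℂ] π (gen r d m y y) = _
        rw [hπ, diag_gen, if_pos rfl]
      · intro l _ hl
        rw [LinearMap.lTensor_tmul]
        show gen r d m x l ⊗ₜ[ℂ] π (gen r d m l y) = _
        rw [hπ, diag_gen, if_neg hl, TensorProduct.tmul_zero]
      · intro hy; exact absurd (Finset.mem_univ y) hy
    show slice co (R _) = _
    rw [hR, slice_tmul, hco]
    split_ifs <;> simp
  let S : ℕ → Submodule ℂ (CoordGrp.GLn r ℂ) := fun c =>
    if 0 ≤ h + r * c then span' r (h + r * c).toNat c else ⊥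
  have hmono : Monotone S := monotone_nat_of_le_succ fun c => by
    simp only [S]
    split_ifs with h1 h2
    · rw [show (h + r * ((c + 1 : ℕ) : ℤ)).toNat = (h + r * c).toNat + r by push_cast; rw [mul_add]; omega]
      exact bump r _ c
    · exfalso; push_cast at h2; rw [mul_add] at h2; omega
    · exact bot_le
    · exact le_rfl
  have hall : ∀ a : CoordGrp.GLn r ℂ, ∃ c, πh a ∈ S c := by
    intro a
    induction (gens_top r).ge (Submodule.mem_top (x := a)) using Submodule.span_induction with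
    | mem a ha =>
      obtain ⟨d, m, x, y, rfl⟩ := ha
      rw [hN]
      split_ifs with he
      · refine ⟨m, ?_⟩
        simp only [S]
        rw [if_pos (by omega), show (h + r * m).toNat = d by omega]
        exact Submodule.subset_span ⟨x, y, rfl⟩
      · exact ⟨0, zero_mem _⟩
    | zero => exact ⟨0, by simp⟩
    | add a b _ _ ha hb =>
      obtain ⟨c, hc⟩ := ha
      obtain ⟨c', hc'⟩ := hb
      exact ⟨max c c', by rw [map_add]; exact add_mem (hmono (le_max_left _ _) hc) (hmono (le_max_right _ _) hc')⟩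
    | smul s a _ ha =>
      obtain ⟨c, hc⟩ := ha
      exact ⟨c, by rw [map_smul]; exact Submodule.smul_mem _ _ hc⟩
  obtain ⟨c, hc, hcpos, hcnn⟩ : ∃ c, coeffsOf ℂ (CoordGrp.GLn r ℂ) V ρ ≤ S c ∧ 0 < c ∧ 0 ≤ h + r * c := by
    haveI : Module.Finite ℂ (coeffsOf ℂ (CoordGrp.GLn r ℂ) V ρ) := finite_coeffSpace
    obtain ⟨s, hs⟩ := (Submodule.fg_top _).mp (Module.Finite.fg_top (R := ℂ) (M := coeffsOf ℂ (CoordGrp.GLn r ℂ) V ρ))
    choose cf hcf using fun a : CoordGrp.GLn r ℂ => hall a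
    refine ⟨s.sup cf + h.natAbs + 1, ?_, by omega, ?_⟩
    · conv_lhs => rw [← hs]
      rw [Submodule.span_le]
      intro a ha
      have h1 := hcf a
      rw [hfix a (hs ▸ Submodule.subset_span ha)] at h1
      have h2 := Finset.le_sup (f := cf) ha
      exact hmono (by omega) h1
    · have : (s.sup cf + h.natAbs + 1 : ℤ) ≤ r * ((s.sup cf + h.natAbs + 1 : ℕ) : ℤ) := by
        push_cast
        exact le_mul_of_one_le_left (by positivity) (by exact_mod_cast hr)
      omega
  simp only [S, if_pos hcnn] at hc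
  set a := (h + r * c).toNat with ha
  let cU := ComodTens.Comod.twist (ComodTens.Comod.tpow (GLin.comodAlong (CoordGrp.Mat.toGLn r ℂ) (ComodTens.stdVec r ℂ)) a)
    (CoordGrp.GLn.Dinv ^ c) (IsGroupLikeElem.pow ⟨CoordGrp.GLn.counit_Dinv, CoordGrp.GLn.comul_Dinv⟩)
  have hle : coeffsOf ℂ (CoordGrp.GLn r ℂ) V ρ ≤ coeffsOf ℂ (CoordGrp.GLn r ℂ) (TensorPower ℂ a (Fin r → ℂ)) cU :=
    hc.trans (span'_le r a c)
  have hG := Groth.Agent.S12560.result ℂ r
  obtain ⟨b, i, p, hpi, hi, hp⟩ := exists_directSummand_of_coeffs ρ cU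
    (fun b => @isSemisimpleComod_of_isLinearlyReductive ℂ _ (CoordGrp.GLn r ℂ) _ _ hG _ _ _ (ComodTens.Comod.pi fun _ => cU)) hle
  refine ⟨a, b, c, hcpos, i, p, hpi, ?_, ?_⟩
  · have e := pi_twist (fun _ : Fin b => ComodTens.Comod.tpow (GLin.comodAlong (CoordGrp.Mat.toGLn r ℂ) (ComodTens.stdVec r ℂ)) a)
      (CoordGrp.GLn.Dinv ^ c) (IsGroupLikeElem.pow ⟨CoordGrp.GLn.counit_Dinv, CoordGrp.GLn.comul_Dinv⟩)
    unfold Hoch.IsComodHom at hi ⊢
    rw [e]; exact hi
  · have e := pi_twist (fun _ : Fin b => ComodTens.Comod.tpow (GLin.comodAlong (CoordGrp.Mat.toGLn r ℂ) (ComodTens.stdVec r ℂ)) a)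
      (CoordGrp.GLn.Dinv ^ c) (IsGroupLikeElem.pow ⟨CoordGrp.GLn.counit_Dinv, CoordGrp.GLn.comul_Dinv⟩)
    unfold Hoch.IsComodHom at hp ⊢
    rw [e]; exact hp

end Groth.Agent.S16474
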