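import Groth.Statements.S16478

set_option autoImplicit false
universe u
open GaDual

namespace Groth.Agent.S16478


/-- Let A be a commutative ring of prime characteristic p and n ≥ 1, and let φ be the comorphism of the
closed immersion α_{p^n} → G_a over A: the bialgebra map from the Hopf algebra of the additive group
(generator t primitive) to A[x]/(x^(p^n)) (x primitive) sending t to x. Then the restriction map on
characters, from those of the additive group over A to those of α_{p^n} over A, is surjective: every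
group-like element of A[x]/(x^(p^n)) is the image under φ of a group-like element of the Hopf
algebra of the additive group. -/
theorem result (p : ℕ) [Fact p.Prime] (A : Type u) [CommRing A] [CharP A p]
    (n : ℕ) (hn : 1 ≤ n) (φ : SekSuwa.A A 0 →ₐc[A] AlphaPn.A p n A) (hφ : φ SekSuwa.A.t = AlphaPn.x p n A)
    (u : AlphaPn.A p n A) (hu : IsGroupLikeElem A u) :
    ∃ g : SekSuwa.A A 0, IsGroupLikeElem A g ∧ φ g = u := by

  haveI : Nontrivial A := CharP.nontrivial_of_char_ne_one (Fact.out : p.Prime).ne_one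
  let bA := AlphaPn.basis p n A
  let σ : AlphaPn.A p n A →ₗ[A] SekSuwa.A A 0 := bA.constr A fun i => (SekSuwa.A.t : SekSuwa.A A 0) ^ (i : ℕ)
  have hσ : ∀ m : ℕ, m < p ^ n → σ (AlphaPn.x p n A ^ m) = (SekSuwa.A.t : SekSuwa.A A 0) ^ m := fun m hm => by
    have h := bA.constr_basis A (fun i : Fin (p ^ n) => (SekSuwa.A.t : SekSuwa.A A 0) ^ (i : ℕ)) ⟨m, hm⟩
    rwa [AlphaPn.basis_apply] at h
  have hu' : u = ∑ i : Fin (p ^ n), bA.repr u i • AlphaPn.x p n A ^ (i : ℕ) := by
    conv_lhs => rw [← bA.sum_repr u]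
    simp only [bA, AlphaPn.basis_apply]
  have hσu : σ u = ∑ i : Fin (p ^ n), bA.repr u i • (SekSuwa.A.t : SekSuwa.A A 0) ^ (i : ℕ) := by
    conv_lhs => rw [hu', map_sum]
    simp only [map_smul, hσ _ (Fin.isLt _)]
  refine ⟨σ u, ⟨?_, ?_⟩, ?_⟩
  · have h1 := hu.counit_eq_one
    rw [hu', map_sum] at h1
    rw [hσu, map_sum]
    refine (Finset.sum_congr rfl fun i _ => ?_).trans h1
    rw [map_smul, map_smul]
    congr 1
    show Bialgebra.counitAlgHom A (SekSuwa.A A 0) (SekSuwa.A.t ^ (i : ℕ)) =
      Bialgebra.counitAlgHom A (AlphaPn.A p n A) (AlphaPn.x p n A ^ (i : ℕ))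
    rw [map_pow, map_pow]
    congr 1
    show CoalgebraStruct.counit (R := A) (SekSuwa.A.t : SekSuwa.A A 0) = _
    rw [SekSuwa.A.counit_t]
    exact (AlphaPn.counit_x p n A).symm
  · have h1 := congrArg (TensorProduct.map σ σ) hu.comul_eq_tmul_self
    rw [TensorProduct.map_tmul] at h1
    rw [← h1]
    conv_rhs => rw [hu', map_sum, map_sum]
    rw [hσu, map_sum]
    refine Finset.sum_congr rfl fun i _ => ?_
    rw [map_smul, map_smul, map_smul]
    congr 1
    show Bialgebra.comulAlgHom A (SekSuwa.A A 0) (SekSuwa.A.t ^ (i : ℕ)) =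
      TensorProduct.map σ σ (Bialgebra.comulAlgHom A (AlphaPn.A p n A) (AlphaPn.x p n A ^ (i : ℕ)))
    rw [map_pow, map_pow, show Bialgebra.comulAlgHom A (AlphaPn.A p n A) (AlphaPn.x p n A) = _ from
      AlphaPn.comul_x p n A, show Bialgebra.comulAlgHom A (SekSuwa.A A 0) SekSuwa.A.t = _ from SekSuwa.A.comul_t,
      zero_smul, add_zero, add_pow, add_pow, map_sum]
    refine Finset.sum_congr rfl fun m hm => ?_
    simp only [Algebra.TensorProduct.tmul_pow, Algebra.TensorProduct.tmul_mul_tmul, one_pow, mul_one, one_mul,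
      ← nsmul_eq_mul']
    rw [map_nsmul, TensorProduct.map_tmul, hσ _ ((Finset.mem_range_succ_iff.1 hm).trans_lt i.isLt),
      hσ _ ((Nat.sub_le _ _).trans_lt i.isLt)]
  · rw [hσu, map_sum]
    conv_rhs => rw [hu']
    simp only [map_smul, map_pow, hφ]

end Groth.Agent.S16478
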