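import Groth.Statements.S1648
import Mathlib
import Groth.Agent.Sol.Regular

set_option autoImplicit false
universe u
open CategoryTheory CategoryTheory.Limits AlgebraicGeometry
open Resolve

namespace Groth.Agent.S1648

/-- A Nagata regular local ring of dimension two defines a rational singularity: every normal
modification of its spectrum has vanishing H^1 of the structure sheaf. -/
theorem result (A : Type u) [CommRing A] [IsRegularLocalRing A] (hN : CAlg.IsNagata A)
    (hdim : ringKrullDim A = 2) : Curv2.IsRationalSing A := by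
  intro X f hfP hint hn ⟨U, hU, hiso⟩
  haveI := hfP
  haveI := hint
  haveI := hiso
  haveI := (Groth.Agent.S2821.result A).1
  have hgen : f (genericPoint X) ∈ U := by
    obtain ⟨v, hv⟩ := hU
    have h1 : (genericPoint X) ∈ f ⁻¹ᵁ U := by
      have hne : ((f ⁻¹ᵁ U : X.Opens) : Set X).Nonempty := ⟨((inv (f ∣_ U)) ⟨v, hv⟩).1, ((inv (f ∣_ U)) ⟨v, hv⟩).2⟩
      exact ((genericPoint_spec X).mem_open_set_iff (f ⁻¹ᵁ U).isOpen).2 (by rwa [Set.univ_inter])
    exact h1
  have hbir : IsIso (f.stalkMap (genericPoint X)) := by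
    haveI : IsOpenImmersion ((f ⁻¹ᵁ U).ι ≫ f) := by rw [← morphismRestrict_ι]; infer_instance
    exact Groth.Agent.PurBir.isIso_stalkMap_of_mem f (W := f ⁻¹ᵁ U) hgen
  have hreg : ∀ s : Spec (CommRingCat.of A), IsRegularLocalRing ((Spec (CommRingCat.of A)).presheaf.stalk s) :=
    fun s => by
      letI : Algebra A ((Spec (CommRingCat.of A)).presheaf.stalk s) := StructureSheaf.stalkAlgebra A s
      haveI : IsLocalization.AtPrime ((Spec (CommRingCat.of A)).presheaf.stalk s) s.asIdeal :=
        StructureSheaf.IsLocalization.to_stalk A s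
      haveI := Groth.Agent.RegLoc6.isRegularLocalRing_localization A s.asIdeal
      exact IsRegularLocalRing.of_ringEquiv (IsLocalization.algEquiv s.asIdeal.primeCompl
        (Localization.AtPrime s.asIdeal) ((Spec (CommRingCat.of A)).presheaf.stalk s)).toRingEquiv
  have hdim2 : topologicalKrullDim (Spec (CommRingCat.of A)) = 2 :=
    (PrimeSpectrum.topologicalKrullDim_eq_ringKrullDim (R := A)).trans hdim
  have hle : ∀ s : Spec (CommRingCat.of A), ringKrullDim ((Spec (CommRingCat.of A)).presheaf.stalk s) ≤ 2 :=
    fun s => (Groth.Agent.SchTop.ringKrullDim_stalk_le s).trans hdim2.le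
  let c : Spec (CommRingCat.of A) := IsLocalRing.closedPoint A
  have hd2 : ∀ s : Spec (CommRingCat.of A), ringKrullDim ((Spec (CommRingCat.of A)).presheaf.stalk s) = 2 → s = c :=
    fun s hs => by
      have h1 := (Groth.Agent.SurfSeq.closed_two hle hs).closure_eq
      have h2 : c ∈ closure ({s} : Set (Spec (CommRingCat.of A))) :=
        specializes_iff_mem_closure.1 (IsLocalRing.specializes_closedPoint s)
      rw [h1] at h2
      exact h2.symm
  have hc : IsClosed ({c} : Set (Spec (CommRingCat.of A))) := IsLocalRing.isClosed_singleton_closedPoint A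
  have hcdim : ringKrullDim ((Spec (CommRingCat.of A)).presheaf.stalk c) = 2 := by
    letI : Algebra A ((Spec (CommRingCat.of A)).presheaf.stalk c) :=
      StructureSheaf.stalkAlgebra A c
    haveI : IsLocalization.AtPrime ((Spec (CommRingCat.of A)).presheaf.stalk c) c.asIdeal :=
      StructureSheaf.IsLocalization.to_stalk A c
    refine (IsLocalization.AtPrime.ringKrullDim_eq_height c.asIdeal _).trans ?_
    rw [← hdim, ← IsLocalRing.maximalIdeal_height_eq_ringKrullDim]
    rfl
  have hne : genericPoint (Spec (CommRingCat.of A)) ∉ ({c} : Set (Spec (CommRingCat.of A))) := fun h => by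
    have h2 : Order.coheight c = 2 :=
      WithBot.coe_eq_coe.1 (((ringKrullDim_stalk_eq_coheight c).symm.trans hcdim).trans (by rfl))
    have h0 : Order.coheight c = 0 := Order.coheight_eq_zero.2 fun w _ => show w ≤ c from
      (Set.mem_singleton_iff.1 h) ▸ genericPoint_specializes w
    exact absurd (h2.symm.trans h0) (by decide)
  refine Groth.Agent.Sol.hh_of_sol (Groth.Agent.Sol.sol_of_modification hreg f hbir (fun x => (hn x).2) {c}
    (Set.finite_singleton c) hc hne (fun t ht => ⟨Set.mem_singleton_iff.1 ht ▸ hc, Set.mem_singleton_iff.1 ht ▸ hcdim⟩)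
    (fun s hs => ?_) ?_)
  · by_contra hgt
    exact hs (hd2 s (Groth.Agent.SurfSeq.eq_two (hle s) hgt))
  · exact Groth.Agent.Sol.sol_iff_solOn_univ.2
      (Groth.Agent.Sol.solOn_affine (isAffineOpen_top (Spec (CommRingCat.of A))))

end Groth.Agent.S1648
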