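import Groth.Statements.S16482
import Mathlib

set_option autoImplicit false
open CategoryTheory CategoryTheory.Limits AlgebraicGeometry
universe u
open FrobSch

namespace Groth.Agent.S16482

/-- Let p be a prime and S a reduced scheme on which p = 0 whose absolute Frobenius is flat; let Y be a
reduced S-scheme with structure map a, Z an S-scheme with structure map b, and g₁, g₂ : Y ⟶ Z two
S-morphisms. For i = 1, 2 let h_i : Y ⟶ Z^(p) be the relative Frobenius F_{Y/S} : Y ⟶ Y^(p) followed
by the base change Y^(p) ⟶ Z^(p) of g_i along the absolute Frobenius of S. If h₁ = h₂, then g₁ = g₂.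
(The published statement works over the reduced special fibre of a flat formal scheme of finite type
over the Witt vectors of a perfect field; only reducedness of S and flatness of its absolute
Frobenius are kept here.) -/
theorem result (p : ℕ) [Fact p.Prime]
    {Y Z S : Scheme.{u}} [FrobSch.IsCharP S p] [IsReduced S] [Flat (FrobSch.frob S p)]
    [IsReduced Y] (a : Y ⟶ S) (b : Z ⟶ S) (g₁ g₂ : Y ⟶ Z) (hg₁ : g₁ ≫ b = a) (hg₂ : g₂ ≫ b = a)
    (h : FrobSch.relFrob a p ≫ pullback.map a (FrobSch.frob S p) b (FrobSch.frob S p) g₁ (𝟙 S) (𝟙 S)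
        ((Category.comp_id a).trans hg₁.symm) ((Category.comp_id _).trans (Category.id_comp _).symm) =
      FrobSch.relFrob a p ≫ pullback.map a (FrobSch.frob S p) b (FrobSch.frob S p) g₂ (𝟙 S) (𝟙 S)
        ((Category.comp_id a).trans hg₂.symm) ((Category.comp_id _).trans (Category.id_comp _).symm)) :
    g₁ = g₂ := by
  have : FrobSch.IsCharP Y p := FrobSch.IsCharP.of_hom a p
  have h1 := congrArg (fun φ => φ ≫ pullback.fst b (FrobSch.frob S p)) h
  simp only [Category.assoc, pullback.lift_fst, pullback.lift_fst_assoc, FrobSch.relFrob_fst_assoc] at h1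
  have hb : g₁.base = g₂.base := by
    have := congrArg (fun φ : Y ⟶ Z => φ.base) h1
    simpa using this
  refine Scheme.Hom.ext hb fun U => ?_
  ext s
  have h2 : (g₁.app U s) ^ p =
      Y.presheaf.map (eqToHom (show g₁ ⁻¹ᵁ U = g₂ ⁻¹ᵁ U from congrArg (fun φ => (TopologicalSpace.Opens.map φ).obj U) hb)).op
        ((g₂.app U s) ^ p) :=
    congrArg (fun φ => φ s) (Scheme.Hom.congr_app h1 U)
  have h4 : g₁.app U s = Y.presheaf.map (eqToHom (show g₁ ⁻¹ᵁ U = g₂ ⁻¹ᵁ U from congrArg (fun φ => (TopologicalSpace.Opens.map φ).obj U) hb)).op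
      (g₂.app U s) := by
    rw [← sub_eq_zero]
    refine IsReduced.eq_zero _ ⟨p, ?_⟩
    rw [sub_eq_add_neg]
    rcases subsingleton_or_nontrivial Γ(Y, g₁ ⁻¹ᵁ U) with hR | hR
    · exact Subsingleton.elim _ _
    · have : CharP Γ(Y, g₁ ⁻¹ᵁ U) p := (CharP.charP_iff_prime_eq_zero Fact.out).2 (FrobSch.natCast_eq_zero_app Y p _)
      rw [← sub_eq_add_neg, sub_pow_char, sub_eq_zero, h2, map_pow]
  rw [CommRingCat.comp_apply, h4, ← CommRingCat.comp_apply, ← Functor.map_comp, ← op_comp, eqToHom_trans,
    eqToHom_refl, op_id, CategoryTheory.Functor.map_id]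
  rfl

end Groth.Agent.S16482
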