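import Groth.Statements.S16488
import Groth.Agent.S1689
import Groth.Agent.S16080
-- import your own Groth.Agent.* helpers here

set_option autoImplicit false
universe u
open CategoryTheory CategoryTheory.Limits AlgebraicGeometry TopologicalSpace
open VBPn

namespace Groth.Agent.S16488

/-- Let X be an integral locally Noetherian scheme all of whose local rings are regular, and F a
coherent O_X-module which is reflexive, i.e. the canonical map F → F^** is an isomorphism. Then the
singularity set of F (the set of points at which the stalk of F is not free) has codimension at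
least 3: for every point x such that F_x is not a free O_{X,x}-module, the local ring O_{X,x} has
dimension at least 3. The published statement is for reflexive coherent analytic sheaves on a
complex manifold; this row is its statement for coherent sheaves on a regular integral locally
Noetherian scheme, where the same argument (a reflexive sheaf is locally a second syzygy sheaf)
applies. -/
theorem result (X : Scheme.{u}) [IsIntegral X] [IsLocallyNoetherian X]
    (hreg : ∀ x : X, IsRegularLocalRing (X.presheaf.stalk x)) (F : X.Modules) (hF : Coh.IsCoh F)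
    (hrefl : RefHull.IsReflexive F) (x : X) (hx : ¬ Module.Free (X.presheaf.stalk x) (F.presheaf.stalk x)) :
    (3 : WithBot ℕ∞) ≤ ringKrullDim (X.presheaf.stalk x) := by
  by_contra h3
  apply hx
  haveI := hreg x
  haveI := Groth.Agent.RegLoc6.isDomain_of_isRegularLocalRing (X.presheaf.stalk x)
  haveI := Groth.Agent.QCoh.finite_stalk_of_isFT hF.1 hF.2 x
  haveI : Module.IsReflexive (X.presheaf.stalk x) (F.presheaf.stalk x) :=
    (Groth.Agent.RefX.isReflexive_iff hF).1 hrefl x
  obtain ⟨n, m, f, g, hf, hfg⟩ :=
    Groth.Agent.CAlgOdd.Refl.exists_exact_free (R := X.presheaf.stalk x) (M := F.presheaf.stalk x)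
  have h2 : (IsLocalRing.maximalIdeal (X.presheaf.stalk x)).spanFinrank ≤ 2 := by
    by_contra hc
    apply h3
    rw [← IsRegularLocalRing.spanFinrank_maximalIdeal (R := X.presheaf.stalk x)]
    exact_mod_cast (not_le.1 hc : 2 < _)
  -- the cokernel of `g` has projective dimension at most two
  let q := (LinearMap.range g).mkQ
  have hQ : Groth.Agent.RegLoc6.PdLE (X.presheaf.stalk x) 2 ((Fin m → X.presheaf.stalk x) ⧸ LinearMap.range g) :=
    Groth.Agent.RegLoc6.pdLE_mono h2 (Groth.Agent.RegLoc6.pdLE_of_isRegularLocalRing _ _)
  rw [Groth.Agent.RegLoc6.pdLE_succ_iff q (Submodule.mkQ_surjective _)] at hQ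
  have hR : Groth.Agent.RegLoc6.PdLE (X.presheaf.stalk x) 1 (LinearMap.range g) :=
    Groth.Agent.RegLoc6.pdLE_of_equiv (LinearEquiv.ofEq _ _ (LinearMap.range g).ker_mkQ) hQ
  rw [Groth.Agent.RegLoc6.pdLE_succ_iff g.rangeRestrict g.surjective_rangeRestrict] at hR
  have hM : Groth.Agent.RegLoc6.PdLE (X.presheaf.stalk x) 0 (F.presheaf.stalk x) :=
    Groth.Agent.RegLoc6.pdLE_of_equiv
      ((LinearEquiv.ofEq _ _ ((LinearMap.ker_rangeRestrict g).trans hfg.linearMap_ker_eq)).trans
        (LinearEquiv.ofInjective f hf).symm) hR
  haveI := Groth.Agent.RegLoc6.pdLE_zero_iff.1 hM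
  exact Module.free_of_flat_of_isLocalRing


end Groth.Agent.S16488
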