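import Groth.Statements.S16496
import Groth.Agent.FlatHartogs7.Basic
import Groth.Agent.QCoh.ClosedPush
import Groth.Agent.ParaFX.Ufd
-- import your own Groth.Agent.* helpers here

set_option autoImplicit false
universe u
open CategoryTheory AlgebraicGeometry
open SGA3

namespace Groth.Agent.S16496

set_option backward.isDefEq.respectTransparency false


/-- Let S be a Noetherian normal scheme, A a flat quasi-coherent O_S-module (not assumed of finite type)
and j : U → S the inclusion of an open subscheme containing every point of S whose local ring has
dimension at most 1. Then A = j_* j^* A: the unit A → j_*(A|_U) of the adjunction between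
restriction to U and direct image along j is an isomorphism. In the source U is the flatness locus
of a finite type submodule of A, an open which contains all points of codimension at most 1; the
printed argument uses only this property of U. -/
theorem result (S : Scheme.{u}) [IsNoetherian S]
    (hS : Pi1.IsNormalScheme S) (A : S.Modules) (hA : Coh.IsQCoh A) (hAfl : FlatMod.IsFlat A)
    (U : S.Opens) (hU : ∀ s : S, ringKrullDim (S.presheaf.stalk s) ≤ 1 → s ∈ U) :
    IsIso ((Scheme.Modules.restrictAdjunction U.ι).unit.app A) := by
  have hd : ∀ x : S, x ∉ U → (2 : ℕ∞) ≤ LocCoh.depth (S.presheaf.stalk x) (S.presheaf.stalk x) := fun x hx => by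
    haveI := (hS x).1
    haveI := (hS x).2
    refine Groth.Agent.ParaFX.two_le_depth_of_normal _ ?_
    have h : 1 < ringKrullDim (S.presheaf.stalk x) := lt_of_not_ge fun h => hx (hU x h)
    exact Order.succ_le_of_lt h
  refine Groth.Agent.QCoh.isIso_of_isBasis _ S.isBasis_affineOpens fun V hV => ?_
  exact Groth.Agent.FlatHartogs7.affine_bijective A hA hAfl U hd hV
    (by rw [U.ι.image_preimage_eq_opensRange_inf, Scheme.Opens.opensRange_ι, inf_comm])
    (U.ι.image_preimage_le V)

end Groth.Agent.S16496
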