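import Groth.Statements.S16498
import Groth.Agent.CartManLib.Basic

set_option autoImplicit false
universe u
open Curves

namespace Groth.Agent.S16498

/-- Let k be a field of odd characteristic p, g ≤ p a natural number, f ∈ k[x] of degree at most 2g + 2,
and α ∈ k. Write f^((p-1)/2) = Σ_l c_l x^l and f(x + α)^((p-1)/2) = Σ_l d_l x^l, and form the g × g
Cartier–Manin matrices (c_{ip-j}) and (d_{ip-j}), indices i, j = 1, …, g (below written with i, j
ranging over Fin g, so that the entry at (i, j) is the coefficient of x^((i+1)p-(j+1))). Then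
(d_{ip-j}) = L · (c_{ip-j}) · U with L_{i,I} = binom(I-1, i-1) α^((I-i)p) and U_{J,j} = binom(p-J,
p-j) α^(j-J); both L and U are unitriangular since a binomial coefficient vanishes when its lower
index exceeds its upper index. (The source works over a perfect field, with f separable of degree 2g
+ 2 and α ∈ k^* a root of f, hypotheses this identity does not use.) -/
theorem result (k : Type u) [Field k] (p : ℕ) [Fact p.Prime] (hp : p ≠ 2) [CharP k p]
    (g : ℕ) (hg : g ≤ p) (f : Polynomial k) (hf : f.natDegree ≤ 2 * g + 2) (α : k) :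
    (Matrix.of fun i j : Fin g =>
        ((f.comp (Polynomial.X + Polynomial.C α)) ^ ((p - 1) / 2)).coeff (((i : ℕ) + 1) * p - ((j : ℕ) + 1))) =
      (Matrix.of fun i I : Fin g => (((I : ℕ).choose (i : ℕ) : ℕ) : k) * α ^ (((I : ℕ) - (i : ℕ)) * p)) *
        (Matrix.of fun i j : Fin g => (f ^ ((p - 1) / 2)).coeff (((i : ℕ) + 1) * p - ((j : ℕ) + 1))) *
        (Matrix.of fun J j : Fin g => (((p - ((J : ℕ) + 1)).choose (p - ((j : ℕ) + 1)) : ℕ) : k) * α ^ ((j : ℕ) - (J : ℕ))) := by
  ext i j
  have hodd : Odd p := (Fact.out : p.Prime).odd_of_ne_two hp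
  simp only [Matrix.mul_apply, Matrix.of_apply, Finset.sum_mul]
  rw [← Polynomial.pow_comp, CartManLib.coeff_translate p g hg _
    (CartManLib.natDegree_pow_half hodd hf) α i j]

end Groth.Agent.S16498
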