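import Groth.Statements.S16500
import Mathlib.Data.Nat.Prime.Basic
import Mathlib.Data.Fin.Rev
import Mathlib.Tactic.Ring
import Mathlib.Tactic.Linarith
import Mathlib.Algebra.Polynomial.Degree.Lemmas

set_option autoImplicit false
universe u
open Curves

namespace Groth.Agent.S16500

/-- Let k be a field of odd characteristic p, g ≤ p a natural number and f ∈ k[x] of degree at most 2g +
2. Let F be f with its coefficients reversed in degrees 0, …, 2g + 2, i.e. F(X) = X^(2g+2) f(1/X)
(Mathlib's reflect (2g+2) f), and write f^((p-1)/2) = Σ_l c_l x^l and F^((p-1)/2) = Σ_l C_l X^l.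
Then C_{ip-j} = c_{(g+1-i)p-(g+1-j)} for all i, j = 1, …, g; that is, the g × g Cartier–Manin matrix
of F is that of f with the order of both rows and columns reversed (below the indices run over Fin
g, the entry at (i, j) being the coefficient of degree (i+1)p-(j+1), and reversal is Fin.rev). In
particular the two matrices have the same determinant. (The source applies this to f with f(0) = 0,
separable of degree 2g + 2 over a perfect field, so that F has odd degree 2g + 1; the identity uses
none of that.) -/
theorem result (k : Type u) [Field k] (p : ℕ) [Fact p.Prime] (hp : p ≠ 2) [CharP k p]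
    (g : ℕ) (hg : g ≤ p) (f : Polynomial k) (hf : f.natDegree ≤ 2 * g + 2) :
    (Matrix.of fun i j : Fin g =>
        ((Polynomial.reflect (2 * g + 2) f) ^ ((p - 1) / 2)).coeff (((i : ℕ) + 1) * p - ((j : ℕ) + 1))) =
      Matrix.of fun i j : Fin g =>
        (f ^ ((p - 1) / 2)).coeff (((Fin.rev i : ℕ) + 1) * p - ((Fin.rev j : ℕ) + 1)) := by
  have hpow : ∀ n : ℕ, (Polynomial.reflect (2 * g + 2) f) ^ n = Polynomial.reflect (n * (2 * g + 2)) (f ^ n) := by
    intro n
    induction n with
    | zero => simp
    | succ n ih =>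
      rw [pow_succ, ih, pow_succ, add_mul, one_mul, Polynomial.reflect_mul _ _ (Polynomial.natDegree_pow_le.trans (Nat.mul_le_mul_left n hf)) hf]
  ext i j
  simp only [Matrix.of_apply, hpow, Polynomial.coeff_reflect, Fin.val_rev]
  have h2 : 2 ≤ p := (Fact.out : p.Prime).two_le
  obtain ⟨m, hm⟩ : Odd p := (Nat.Prime.eq_two_or_odd' (Fact.out : p.Prime)).resolve_left hp
  have hmm : (p - 1) / 2 = m := by omega
  have hi := i.isLt
  have hj := j.isLt
  rw [hmm]
  have hN : ((i : ℕ) + 1) * p + (g - ((i : ℕ) + 1) + 1) * p = m * (2 * g + 2) + (g + 1) := by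
    rw [← Nat.add_mul, show (i : ℕ) + 1 + (g - ((i : ℕ) + 1) + 1) = g + 1 by omega, hm]; ring
  have hA : ((j : ℕ) + 1) ≤ ((i : ℕ) + 1) * p := le_trans (by omega) (Nat.le_mul_of_pos_left p (Nat.succ_pos _))
  have hB : (g - ((j : ℕ) + 1) + 1) ≤ (g - ((i : ℕ) + 1) + 1) * p := le_trans (by omega) (Nat.le_mul_of_pos_left p (Nat.succ_pos _))
  rw [Polynomial.revAt_le (by omega)]
  congr 1
  omega

end Groth.Agent.S16500
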