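import Groth.Statements.S16501
import Groth.Agent.RigFEt7.Newton
import Groth.Agent.Hensel.PairBasic
import Mathlib.RingTheory.DedekindDomain.IntegralClosure
import Mathlib.FieldTheory.PrimitiveElement
import Mathlib.FieldTheory.Minpoly.IsIntegrallyClosed
-- import your own Groth.Agent.* helpers here

set_option autoImplicit false
universe u
open Hensel

namespace Groth.Agent.S16501

open Polynomial in
/-- An approximate root lifts to a homomorphism of the integral closure. -/
theorem exists_hom {A B C : Type u} [CommRing A] [IsDomain A] [IsIntegrallyClosed A] [CommRing B] [IsDomain B]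
    [Algebra A B] [FaithfulSMul A B] [CommRing C] [IsDomain C] [Algebra A C] (ϖ : A)
    [HenselianRing C (Ideal.span {algebraMap A C ϖ})] (hϖB : algebraMap A B ϖ ≠ 0) (hϖC : algebraMap A C ϖ ≠ 0)
    (α : B) (hα : IsIntegral A α) (k e : ℕ) (hk : ∀ b : B, ∃ P : A[X], aeval α P = algebraMap A B (ϖ ^ k) * b)
    (hke : k ≤ e) (w : B) (hw : aeval α (derivative (minpoly A α)) * w = algebraMap A B (ϖ ^ e))
    (m : ℕ) (hm : 2 * e + 1 < m) (ρ : B →ₐ[A] C ⧸ Ideal.span {algebraMap A C (ϖ ^ m)}) :
    ∃ φ : B →ₐ[A] C, ∀ b, Ideal.Quotient.factor (T := Ideal.span {algebraMap A C ϖ})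
      (Ideal.span_singleton_le_span_singleton.2 (map_dvd _ (dvd_pow_self ϖ (show m ≠ 0 by omega)))) (ρ b) =
        Ideal.Quotient.mk _ (φ b) := by
  classical
  let t := algebraMap A C ϖ
  let I := Ideal.span {algebraMap A C (ϖ ^ m)}
  obtain ⟨c, hc⟩ := Ideal.Quotient.mk_surjective (ρ α)
  obtain ⟨w', hw'⟩ := Ideal.Quotient.mk_surjective (ρ w)
  let g := minpoly A α
  have hρ : ∀ P : A[X], Ideal.Quotient.mk I (aeval c P) = ρ (aeval α P) := fun P => by
    rw [← aeval_algHom_apply ρ, ← hc]
    exact (aeval_algHom_apply (Ideal.Quotient.mkₐ A I) c P).symm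
  obtain ⟨s, hs⟩ : ∃ s, aeval c (derivative g) * w' = t ^ e + s * t ^ m := by
    have h1 : Ideal.Quotient.mk I (aeval c (derivative g) * w') = Ideal.Quotient.mk I (algebraMap A C (ϖ ^ e)) := by
      rw [map_mul, hρ, hw', ← map_mul, hw, AlgHom.commutes, Ideal.Quotient.mk_algebraMap]
    rw [Ideal.Quotient.eq, Ideal.mem_span_singleton'] at h1
    obtain ⟨s, hs⟩ := h1
    exact ⟨s, by rw [← map_pow, ← map_pow, hs]; ring⟩
  have hu : IsUnit (1 + s * t ^ (m - e)) := by
    have hj := HenselianRing.jac (R := C) (I := Ideal.span {t})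
    have : s * t ^ (m - e) ∈ Ideal.jacobson (⊥ : Ideal C) :=
      hj (Ideal.mul_mem_left _ _ (Ideal.pow_mem_of_mem _ (Ideal.mem_span_singleton_self t) _ (by omega)))
    have h2 := Ideal.mem_jacobson_bot.1 this 1
    rwa [mul_one, add_comm] at h2
  let G : Fin 1 → MvPolynomial (Fin 1) C := fun _ => Polynomial.aeval (MvPolynomial.X 0) g
  have hev : ∀ (P : A[X]) (z : Fin 1 → C), MvPolynomial.eval z (Polynomial.aeval (MvPolynomial.X 0) P) = aeval (z 0) P := by
    intro P z
    rw [← MvPolynomial.aeval_eq_eval, ← AlgHom.restrictScalars_apply A, ← aeval_algHom_apply]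
    simp
  have hd : MvPolynomial.pderiv (0 : Fin 1) (G 0) = Polynomial.aeval (MvPolynomial.X 0) (derivative g) := by
    have := Derivation.map_aeval ((MvPolynomial.pderiv (0 : Fin 1) (R := C)).restrictScalars A) g (MvPolynomial.X 0)
    refine this.trans ?_
    rw [Derivation.restrictScalars_apply, MvPolynomial.pderiv_X_self, smul_eq_mul, mul_one]
  obtain ⟨y, hy, hy0⟩ := Groth.Agent.RigFEt7.exists_root_near t (fun r hr => (mul_eq_zero.1 hr).resolve_left hϖC)
    G (fun _ => c) e (w' * Ring.inverse (1 + s * t ^ (m - e))) (by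
      rw [Matrix.det_fin_one, Matrix.of_apply, hd, hev, ← mul_assoc, hs,
        show t ^ e + s * t ^ m = t ^ e * (1 + s * t ^ (m - e)) by
          rw [mul_add, mul_one, mul_left_comm, ← pow_add, Nat.add_sub_cancel' (by omega : e ≤ m)],
        mul_assoc, Ring.mul_inverse_cancel _ hu, mul_one])
    (fun _ => by
      rw [hev]
      have h1 : Ideal.Quotient.mk I (aeval c g) = 0 := by rw [hρ, minpoly.aeval, map_zero]
      rw [Ideal.Quotient.eq_zero_iff_mem, Ideal.mem_span_singleton, map_pow] at h1
      rw [Ideal.mem_span_singleton]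
      exact (pow_dvd_pow t (by omega)).trans h1)
  have hroot : aeval (y 0) g = 0 := by simpa [G, hev] using hy0 0
  have hclose : ∀ P : A[X], t ^ (e + 1) ∣ aeval (y 0) P - aeval c P := fun P => by
    obtain ⟨r, hr⟩ := Ideal.mem_span_singleton'.1 (hy 0)
    have h1 := Polynomial.sub_dvd_eval_sub (y 0) c (P.map (algebraMap A C))
    simp only [Polynomial.eval_map, ← aeval_def] at h1
    exact (Dvd.intro_left r hr).trans h1
  have hdiv : ∀ b (P : A[X]), aeval α P = algebraMap A B (ϖ ^ k) * b →
      ∃ z, aeval (y 0) P = t ^ k * z ∧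
        Ideal.Quotient.mk (Ideal.span {t}) z = Ideal.Quotient.factor
          (Ideal.span_singleton_le_span_singleton.2 (map_dvd _ (dvd_pow_self ϖ (show m ≠ 0 by omega)))) (ρ b) := by
    intro b P hP
    obtain ⟨cb, hcb⟩ := Ideal.Quotient.mk_surjective (ρ b)
    have h1 : Ideal.Quotient.mk I (aeval c P) = Ideal.Quotient.mk I (t ^ k * cb) := by
      rw [hρ, hP, map_mul, map_mul, AlgHom.commutes, hcb, ← map_pow, Ideal.Quotient.mk_algebraMap]
    rw [Ideal.Quotient.eq, Ideal.mem_span_singleton', map_pow] at h1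
    obtain ⟨r, hr⟩ := h1
    obtain ⟨r', hr'⟩ := hclose P
    refine ⟨cb + r' * t ^ (e + 1 - k) + r * t ^ (m - k), ?_, ?_⟩
    · have e1 : t ^ k * t ^ (e + 1 - k) = t ^ (e + 1) := by rw [← pow_add]; congr 1; omega
      have e2 : t ^ k * t ^ (m - k) = t ^ m := by rw [← pow_add]; congr 1; omega
      linear_combination hr' - hr - r' * e1 - r * e2
    · rw [← hcb, Ideal.Quotient.factor_mk, Ideal.Quotient.eq, Ideal.mem_span_singleton,
        show cb + r' * t ^ (e + 1 - k) + r * t ^ (m - k) - cb = r' * t ^ (e + 1 - k) + r * t ^ (m - k) by ring]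
      exact dvd_add (Dvd.dvd.mul_left (dvd_pow_self _ (by omega)) _) (Dvd.dvd.mul_left (dvd_pow_self _ (by omega)) _)
  choose P hP using hk
  choose F hF hF' using fun b => hdiv b (P b) (hP b)
  have htk : t ^ k ≠ 0 := pow_ne_zero _ hϖC
  have hunique : ∀ b z (Q : A[X]), aeval α Q = algebraMap A B (ϖ ^ k) * b → aeval (y 0) Q = t ^ k * z → F b = z := by
    intro b z Q hQ hQy
    obtain ⟨q, hq⟩ := (minpoly.isIntegrallyClosed_dvd_iff hα (Q - P b)).1
      (by rw [map_sub, hQ, hP, sub_self]) |> fun h => h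
    have h1 : aeval (y 0) (Q - P b) = 0 := by rw [hq, map_mul, hroot, zero_mul]
    rw [map_sub, hQy, hF, ← mul_sub, mul_eq_zero] at h1
    exact (sub_eq_zero.1 (h1.resolve_left htk)).symm
  refine ⟨{ toFun := F, map_one' := ?_, map_mul' := fun a b => ?_, map_zero' := ?_, map_add' := fun a b => ?_,
            commutes' := fun r => ?_ }, fun b => (hF' b).symm⟩
  · exact hunique 1 1 (Polynomial.C (ϖ ^ k)) (by simp) (by simp [t])
  · refine mul_left_cancel₀ htk (mul_left_cancel₀ htk ?_)
    obtain ⟨q, hq⟩ := (minpoly.isIntegrallyClosed_dvd_iff hα (Polynomial.C (ϖ ^ k) * P (a * b) - P a * P b)).1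
      (by simp only [map_sub, map_mul, aeval_C, hP]; ring) |> fun h => h
    have h1 : aeval (y 0) (Polynomial.C (ϖ ^ k) * P (a * b) - P a * P b) = 0 := by rw [hq, map_mul, hroot, zero_mul]
    simp only [map_sub, map_mul, aeval_C, hF, map_pow] at h1
    linear_combination h1
  · exact hunique 0 0 0 (by simp) (by simp)
  · exact hunique (a + b) (F a + F b) (P a + P b) (by rw [map_add, hP, hP, mul_add])
      (by rw [map_add, hF, hF, mul_add])
  · exact hunique _ _ (Polynomial.C (ϖ ^ k * r)) (by simp) (by simp [t])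

open Polynomial in
theorem exists_scale {A : Type u} [CommRing A] [IsDomain A] [IsDiscreteValuationRing A] {ϖ : A}
    (hϖ : Irreducible ϖ) {B : Type u} [CommRing B] [IsDomain B] [Algebra A B] [FaithfulSMul A B]
    [Algebra.IsIntegral A B] {b : B} (hb : b ≠ 0) : ∃ e : ℕ, b ∣ algebraMap A B (ϖ ^ e) := by
  have hint := Algebra.IsIntegral.isIntegral (R := A) b
  have h0 : (minpoly A b).coeff 0 ≠ 0 := fun h => by
    obtain ⟨q, hq⟩ := X_dvd_iff.2 h
    have hq0 : aeval b q = 0 := by
      have := minpoly.aeval A b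
      rw [hq, map_mul, aeval_X, mul_eq_zero] at this
      exact this.resolve_left hb
    have hqm : q.Monic := by
      have := minpoly.monic hint
      rw [hq] at this
      exact (monic_X.of_mul_monic_left this)
    have := minpoly.min A b hqm hq0
    rw [hq, degree_mul, degree_X, degree_eq_natDegree hqm.ne_zero] at this
    have h' : ((1 + q.natDegree : ℕ) : WithBot ℕ) ≤ (q.natDegree : WithBot ℕ) := by push_cast; exact this
    have := WithBot.coe_le_coe.1 h'
    simp at this
  obtain ⟨e, u, hu⟩ := IsDiscreteValuationRing.eq_unit_mul_pow_irreducible h0 hϖ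
  refine ⟨e, ?_⟩
  have h1 : b ∣ algebraMap A B ((minpoly A b).coeff 0) := by
    have h2 := minpoly.aeval A b
    rw [← X_mul_divX_add (minpoly A b), map_add, map_mul, aeval_X, aeval_C] at h2
    exact ⟨-aeval b (divX (minpoly A b)), by linear_combination h2⟩
  rw [hu, map_mul] at h1
  exact (IsUnit.dvd_mul_left ((Units.isUnit _).map _)).1 h1

/-- Let A be a complete discrete valuation ring with uniformizer ϖ and fraction field K, let L be a
finite separable extension of K and B the integral closure of A in L. There is a positive integer m₀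
such that for every discrete valuation ring C that is a module-finite A-algebra, B ≅ C as A-algebras
if and only if B/ϖ^m B ≅ C/ϖ^m C as A-algebras for some m > m₀. (Finiteness of L over K is implicit
in the source, which takes a primitive element.) -/
theorem result
    (A : Type u) [CommRing A] [IsDomain A] [IsDiscreteValuationRing A]
    [IsAdicComplete (IsLocalRing.maximalIdeal A) A] (ϖ : A) (hϖ : Irreducible ϖ)
    (K : Type u) [Field K] [Algebra A K] [IsFractionRing A K]
    (L : Type u) [Field L] [Algebra K L] [Algebra A L] [IsScalarTower A K L]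
    [FiniteDimensional K L] [Algebra.IsSeparable K L]
    (B : Type u) [CommRing B] [Algebra A B] [Algebra B L] [IsScalarTower A B L]
    [IsIntegralClosure B A L] :
    ∃ m₀ : ℕ, 0 < m₀ ∧ ∀ (C : Type u) [CommRing C] [IsDomain C] [IsDiscreteValuationRing C]
      [Algebra A C] [Module.Finite A C],
      Nonempty (B ≃ₐ[A] C) ↔ ∃ m : ℕ, m₀ < m ∧
        Nonempty ((B ⧸ Ideal.span {algebraMap A B (ϖ ^ m)}) ≃ₐ[A]
          (C ⧸ Ideal.span {algebraMap A C (ϖ ^ m)})) := by
  classical
  haveI : Module.Finite A B := IsIntegralClosure.finite A K L B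
  haveI : IsDomain B := (IsIntegralClosure.algebraMap_injective B A L).isDomain
  have hAL : Function.Injective (algebraMap A L) := by
    rw [IsScalarTower.algebraMap_eq A K L]
    exact (algebraMap K L).injective.comp (IsFractionRing.injective A K)
  have hAB : Function.Injective (algebraMap A B) := fun x y h => hAL (by
    rw [IsScalarTower.algebraMap_apply A B L, h, ← IsScalarTower.algebraMap_apply A B L])
  haveI : FaithfulSMul A B := (faithfulSMul_iff_algebraMap_injective A B).2 hAB
  haveI : IsLocalization (Algebra.algebraMapSubmonoid B (nonZeroDivisors A)) L :=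
    IsIntegralClosure.isLocalization A K L B
  have hϖ0 : algebraMap A B ϖ ≠ 0 := fun h => hϖ.ne_zero (hAB (h.trans (map_zero _).symm))
  -- a generator in `B`
  obtain ⟨α₀, hα₀⟩ := Field.exists_primitive_element K L
  obtain ⟨⟨α, ⟨_, a, ha, rfl⟩⟩, hαa⟩ := IsLocalization.surj (Algebra.algebraMapSubmonoid B (nonZeroDivisors A)) α₀
  have ha0 : algebraMap A K a ≠ 0 := IsFractionRing.to_map_ne_zero_of_mem_nonZeroDivisors ha
  have hαint : IsIntegral A α := Algebra.IsIntegral.isIntegral α
  have hgen : Algebra.adjoin K {algebraMap B L α} = ⊤ := by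
    have h1 : Algebra.adjoin K {α₀} = ⊤ := by
      rw [← IntermediateField.adjoin_simple_toSubalgebra_of_isAlgebraic (Algebra.IsAlgebraic.isAlgebraic α₀),
        hα₀, IntermediateField.top_toSubalgebra]
    refine eq_top_iff.2 (h1 ▸ Algebra.adjoin_le ?_)
    intro z hz
    rw [Set.mem_singleton_iff.1 hz]
    have h2 : α₀ = (algebraMap A K a)⁻¹ • algebraMap B L α := by
      rw [← hαa, ← IsScalarTower.algebraMap_apply, IsScalarTower.algebraMap_apply A K L, mul_comm,
        ← Algebra.smul_def, smul_smul, inv_mul_cancel₀ ha0, one_smul]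
    rw [SetLike.mem_coe, h2]
    exact Subalgebra.smul_mem _ (Algebra.subset_adjoin (Set.mem_singleton _)) _
  have hP1 : ∀ b : B, ∃ k, ∃ P : Polynomial A, Polynomial.aeval α P = algebraMap A B (ϖ ^ k) * b := by
    intro b
    have hb : algebraMap B L b ∈ Algebra.adjoin K {algebraMap B L α} := hgen ▸ Algebra.mem_top
    rw [Algebra.adjoin_singleton_eq_range_aeval] at hb
    obtain ⟨Q, hQ⟩ := hb
    obtain ⟨⟨d, hd⟩, hQd⟩ := IsLocalization.integerNormalization_map_to_map (nonZeroDivisors A) Q
    obtain ⟨k, v, hv⟩ := IsDiscreteValuationRing.eq_unit_mul_pow_irreducible (nonZeroDivisors.ne_zero hd) hϖ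
    refine ⟨k, Polynomial.C (↑v⁻¹ : A) * IsLocalization.integerNormalization (nonZeroDivisors A) Q,
      IsIntegralClosure.algebraMap_injective B A L ?_⟩
    rw [← Polynomial.aeval_algebraMap_apply, map_mul, Polynomial.aeval_C,
      ← Polynomial.aeval_map_algebraMap K _ (IsLocalization.integerNormalization (nonZeroDivisors A) Q), hQd]
    simp only [Submonoid.smul_def, map_mul, ← IsScalarTower.algebraMap_apply]
    rw [← algebraMap_smul K d Q, map_smul, Algebra.smul_def, ← IsScalarTower.algebraMap_apply A K L, ← mul_assoc,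
      ← map_mul, hv]
    rw [show Polynomial.aeval (algebraMap B L α) Q = algebraMap B L b from hQ, Units.inv_mul_cancel_left]
  obtain ⟨s, hs⟩ := Module.Finite.fg_top (R := A) (M := B)
  choose kb Pb hPb using hP1
  let k := s.sup kb
  have hk : ∀ b : B, ∃ P : Polynomial A, Polynomial.aeval α P = algebraMap A B (ϖ ^ k) * b := by
    intro b
    have hb : b ∈ Submodule.span A (s : Set B) := hs ▸ Submodule.mem_top
    induction hb using Submodule.span_induction with
    | mem b hb =>
      refine ⟨Polynomial.C (ϖ ^ (k - kb b)) * Pb b, ?_⟩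
      rw [map_mul, Polynomial.aeval_C, hPb, ← mul_assoc, ← map_mul, ← pow_add,
        Nat.sub_add_cancel (Finset.le_sup (f := kb) hb)]
    | zero => exact ⟨0, by simp⟩
    | add x y _ _ hx hy =>
      obtain ⟨P, hP⟩ := hx
      obtain ⟨Q, hQ⟩ := hy
      exact ⟨P + Q, by rw [map_add, hP, hQ, mul_add]⟩
    | smul r x _ hx =>
      obtain ⟨P, hP⟩ := hx
      exact ⟨r • P, by rw [map_smul, hP, mul_smul_comm]⟩
  have hder : Polynomial.aeval α (Polynomial.derivative (minpoly A α)) ≠ 0 := by
    intro h
    have hsep : (minpoly K (algebraMap B L α)).Separable := Algebra.IsSeparable.isSeparable K _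
    refine hsep.aeval_derivative_ne_zero (minpoly.aeval K (algebraMap B L α)) ?_
    rw [minpoly.isIntegrallyClosed_eq_field_fractions K L hαint, Polynomial.derivative_map,
      Polynomial.aeval_map_algebraMap, Polynomial.aeval_algebraMap_apply, h, map_zero]
  obtain ⟨e₀, w₀, hw₀⟩ := exists_scale hϖ hder
  let e := e₀ + k
  have hw : Polynomial.aeval α (Polynomial.derivative (minpoly A α)) * (w₀ * algebraMap A B (ϖ ^ k)) =
      algebraMap A B (ϖ ^ e) := by
    rw [← mul_assoc, ← hw₀, ← map_mul, ← pow_add]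
  refine ⟨2 * e + 1, by omega, fun C _ _ _ _ _ => ⟨?_, ?_⟩⟩
  · rintro ⟨ψ⟩
    exact ⟨2 * e + 2, by omega, ⟨Ideal.quotientEquivAlg _ _ ψ (by
      rw [Ideal.map_span, Set.image_singleton]
      exact congrArg (fun c => Ideal.span {c}) (ψ.commutes _).symm)⟩⟩
  · rintro ⟨m, hm, ⟨ψ⟩⟩
    have hϖC : algebraMap A C ϖ ≠ 0 := fun h => by
      have h1 : Ideal.Quotient.mk (Ideal.span {algebraMap A B (ϖ ^ m)}) (algebraMap A B ϖ) = 0 := by
        apply ψ.injective
        rw [map_zero, Ideal.Quotient.mk_algebraMap, AlgEquiv.commutes, ← Ideal.Quotient.mk_algebraMap, h, map_zero]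
      rw [Ideal.Quotient.eq_zero_iff_mem, Ideal.mem_span_singleton'] at h1
      obtain ⟨b, hb⟩ := h1
      have h2 : IsUnit (algebraMap A B (ϖ ^ (m - 1))) := by
        refine IsUnit.of_mul_eq_one b (mul_left_cancel₀ hϖ0 ?_)
        rw [mul_one, ← mul_assoc, ← map_mul, ← pow_succ', Nat.sub_add_cancel (by omega : 1 ≤ m), mul_comm, hb]
      exact hϖ.not_isUnit (isUnit_pow_iff (by omega) |>.1 (isUnit_of_map_unit _ _ h2))
    haveI : Algebra.IsIntegral A C := Algebra.IsIntegral.of_finite A C
    haveI : HenselianRing C (Ideal.span {algebraMap A C ϖ}) := by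
      have h1 := Groth.Agent.Hensel.henselianRing_of_isIntegral' (IsLocalRing.maximalIdeal A) C
      rwa [hϖ.maximalIdeal_eq, Ideal.map_span, Set.image_singleton] at h1
    obtain ⟨φ, hφ⟩ := exists_hom ϖ hϖ0 hϖC α hαint k e hk (by omega) _ hw m hm
      (ψ.toAlgHom.comp (Ideal.Quotient.mkₐ A _))
    have hker : RingHom.ker φ = ⊥ := by
      refine Ideal.eq_bot_of_comap_eq_bot (R := A) (bot_unique fun x hx => ?_)
      have hx' : algebraMap A C x = 0 := by simpa using hx
      by_contra hx0
      obtain ⟨n, v, hv⟩ := IsDiscreteValuationRing.eq_unit_mul_pow_irreducible hx0 hϖ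
      rw [hv, map_mul, map_pow, ((Units.isUnit v).map (algebraMap A C)).mul_right_eq_zero] at hx'
      exact hϖC (pow_eq_zero_iff'.1 hx').1
    have hsurj : Function.Surjective φ := by
      refine LinearMap.range_eq_top.1 (top_le_iff.1 (Submodule.le_of_le_smul_of_le_jacobson_bot
        (I := IsLocalRing.maximalIdeal A) (N := LinearMap.range φ.toLinearMap) Module.Finite.fg_top
        (IsLocalRing.maximalIdeal_le_jacobson _) fun x _ => ?_))
      obtain ⟨b, hb⟩ := ψ.surjective (Ideal.Quotient.mk _ x)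
      obtain ⟨b, rfl⟩ := Ideal.Quotient.mk_surjective b
      have h1 := hφ b
      simp only [AlgHom.comp_apply, Ideal.Quotient.mkₐ_eq_mk] at h1
      rw [show ψ.toAlgHom (Ideal.Quotient.mk _ b) = Ideal.Quotient.mk _ x from hb,
        Ideal.Quotient.factor_mk, Ideal.Quotient.eq, Ideal.mem_span_singleton'] at h1
      obtain ⟨r, hr⟩ := h1
      rw [show x = φ b + ϖ • r by rw [Algebra.smul_def]; linear_combination -hr]
      exact Submodule.add_mem_sup ⟨b, rfl⟩ (Submodule.smul_mem_smul
        ((IsLocalRing.mem_maximalIdeal ϖ).2 hϖ.not_isUnit) trivial)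
    exact ⟨AlgEquiv.ofBijective φ ⟨(RingHom.injective_iff_ker_eq_bot _).2 hker, hsurj⟩⟩

end Groth.Agent.S16501
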