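import Groth.Statements.S1651
import Groth.Agent.DeltaLib.Mono
import Groth.Agent.RedNorm.Basic
import Groth.Agent.NagataLib.Scheme
import Groth.Agent.GeomField.Reduced

set_option autoImplicit false
universe u
open CategoryTheory CategoryTheory.Limits AlgebraicGeometry
open Variety

namespace Groth.Agent.S1651


open Groth.Agent

attribute [local instance] Curv2.stalkAlgebra
set_option linter.style.haveILetI false

/-- Let X be locally of finite type over k, K a field extension, y a point of X_K with image x. Assume X
is geometrically reduced at x and the local rings at x and at y both have dimension one. Then the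
δ-invariant of X at x is at most the δ-invariant of X_K at y. -/
theorem result (k : Type u) [Field k] (X : Scheme.{u}) [X.Over (Spec (CommRingCat.of k))] [LocallyOfFiniteType (X ↘ (Spec (CommRingCat.of k)))] (K : Type u) [Field K] [Algebra k K]
    (y : Curv2.bc k X K) (hx : Curv2.IsGeomReducedAt k X (Curv2.bcFst k X K y))
    (hdx : ringKrullDim (X.presheaf.stalk (Curv2.bcFst k X K y)) = 1)
    (hdy : ringKrullDim ((Curv2.bc k X K).presheaf.stalk y) = 1) :
    Curv2.deltaInv (X.presheaf.stalk (Curv2.bcFst k X K y)) ≤ Curv2.deltaInv ((Curv2.bc k X K).presheaf.stalk y) := by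
  let x := Curv2.bcFst k X K y
  haveI := (GeomField.isGeomReducedAt_iff x).1 hx
  haveI : _root_.IsReduced (X.presheaf.stalk x) := Algebra.isReduced_of_isGeometricallyReduced k
  obtain ⟨hno, hN2⟩ := NagataLib.isNagata_stalk (X ↘ Spec (CommRingCat.of k)) x
  have hfin := RedNorm.finite_norm (X.presheaf.stalk x) fun p =>
    hN2 p.1 (FractionRing (X.presheaf.stalk x ⧸ p.1)) inferInstance
  haveI : Flat (Spec.map (CommRingCat.ofHom (algebraMap k K))) := by
    rw [HasRingHomProperty.Spec_iff (P := @Flat)]
    exact RingHom.flat_algebraMap_iff.2 inferInstance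
  haveI : Flat (Curv2.bcFst k X K) := inferInstanceAs (Flat (pullback.fst _ _))
  letI := ((Curv2.bcFst k X K).stalkMap y).hom.toAlgebra
  haveI : Module.Flat (X.presheaf.stalk x) ((Curv2.bc k X K).presheaf.stalk y) := Flat.stalkMap (Curv2.bcFst k X K) y
  haveI : IsLocalHom (algebraMap (X.presheaf.stalk x) ((Curv2.bc k X K).presheaf.stalk y)) :=
    (Curv2.bcFst k X K).toLRSHom.prop y
  exact DeltaLib.deltaInv_le_of_flat hfin _

end Groth.Agent.S1651
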