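import Groth.Statements.S16514
import Groth.Agent.ConicPt.Fibration
import Groth.Agent.PnCoh.Chow.Basic

set_option autoImplicit false
universe u
open CategoryTheory AlgebraicGeometry
open Curves

namespace Groth.Agent.S16514
set_option backward.isDefEq.respectTransparency false
set_option backward.isDefEq.respectTransparency.types false
set_option maxHeartbeats 1000000
open Groth.Agent


/-- Over an algebraically closed field k, let π : X → B be a surjective k-morphism from a projective
surface onto a smooth proper curve whose generic fibre is geometrically integral of arithmetic genus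
0. Then X is birational to B × P^1 over B: a nonempty open subscheme of X is isomorphic over B to an
open subscheme of B ×_k P^1_k. -/
theorem result
    (k : Type u) [Field k] [IsAlgClosed k]
    (X : Scheme.{u}) [X.Over (Spec (CommRingCat.of k))] [IsIntegral X] (hX2 : topologicalKrullDim X = 2)
    (hX : ∃ (N : ℕ) (ι : X ⟶ CohB1.ProjSpace N k), IsClosedImmersion ι ∧
      ι ≫ CohB1.ProjSpace.toSpec N k = X ↘ Spec (CommRingCat.of k))
    (B : Scheme.{u}) [B.Over (Spec (CommRingCat.of k))] [IsIntegral B]
    (hB : Curve.IsSmoothProperCurve k B (B ↘ Spec (CommRingCat.of k)))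
    (π : X ⟶ B) (hπ : π ≫ (B ↘ Spec (CommRingCat.of k)) = X ↘ Spec (CommRingCat.of k))
    (hsurj : Function.Surjective π.base)
    [GeometricallyIntegral (π.fiberToSpecResidueField (genericPoint B))]
    (hgen : letI : (π.fiber (genericPoint B)).Over (Spec (B.residueField (genericPoint B))) :=
        ⟨π.fiberToSpecResidueField (genericPoint B)⟩
      Curv2.genus (B.residueField (genericPoint B)) (π.fiber (genericPoint B)) = 0) :
    ∃ (U : X.Opens) (W : (Limits.pullback (B ↘ Spec (CommRingCat.of k)) (CohB1.ProjSpace.toSpec 1 k)).Opens)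
      (e : (U : Scheme.{u}) ≅ (W : Scheme.{u})),
      (U : Set X).Nonempty ∧ e.hom ≫ W.ι ≫ Limits.pullback.fst (B ↘ Spec (CommRingCat.of k)) (CohB1.ProjSpace.toSpec 1 k) = U.ι ≫ π := by
  obtain ⟨hBp, hBs, -, hB1⟩ := hB
  obtain ⟨N, ι, hι, hιk⟩ := hX
  haveI := hι
  haveI : IsProper (CohB1.ProjSpace.toSpec N k) := PnCoh.Chow.isProper_toSpec N k
  haveI : IsProper (X ↘ Spec (CommRingCat.of k)) := hιk ▸ inferInstance
  haveI := hBp
  haveI := hBs
  obtain ⟨e, he⟩ := ConicPt.exists_fibre_line k (X ↘ Spec (CommRingCat.of k)) (B ↘ Spec (CommRingCat.of k)) π hπ hX2 hB1 hsurj hgen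
  exact ConicPt.exists_iso_open k (X ↘ Spec (CommRingCat.of k)) (B ↘ Spec (CommRingCat.of k)) π hπ e he


end Groth.Agent.S16514
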