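import Groth.Statements.S16515
import Groth.Agent.MiscAlg16.Linear

set_option autoImplicit false
universe u
open RatCurv

namespace Groth.Agent.S16515

/-- If C ⊂ P^n is a rational normal curve and P ⊂ P^n a linear r-plane with (r + 2) k ≥ (r + 1)(n + 1),
then P is contained in a k-secant (k − 1)-plane of C, i.e. in the span of some effective divisor of
degree k on C. Stated through the identification of the linear forms on P^n with the binary forms of
degree n on C ≅ P^1: the r-plane P is recorded by the space U of degree-n binary forms vanishing on
it (of codimension r + 1), an effective divisor of degree k on C by a nonzero binary form g of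
degree k, and P ⊂ span(div g) says that every degree-n form divisible by g lies in U. Here k ≤ n,
and the ground field is arbitrary (the source works over the complex numbers). -/
theorem result (K : Type u) [Field K] (n r k : ℕ)
    (hkn : k ≤ n) (hineq : (r + 1) * (n + 1) ≤ (r + 2) * k)
    (U : Submodule K (MvPolynomial (Fin 2) K))
    (hU : U ≤ MvPolynomial.homogeneousSubmodule (Fin 2) K n)
    (hcodim : Module.finrank K ↥U + (r + 1) = n + 1) :
    ∃ g ∈ MvPolynomial.homogeneousSubmodule (Fin 2) K k, g ≠ 0 ∧
      ∀ h ∈ MvPolynomial.homogeneousSubmodule (Fin 2) K (n - k), g * h ∈ U := by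
  exact MiscAlg16.exists_multiplier K n r k hkn hineq U hU hcodim

end Groth.Agent.S16515
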