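import Groth.Statements.S16516
import Mathlib
import Groth.Agent.ComodLib.GradedAug
-- import your own Groth.Agent.* helpers here

set_option autoImplicit false
universe u
open RatCurv

namespace Groth.Agent.S16516

open MvPolynomial in
/-- multiplication of forms -/
noncomputable def mulB (K : Type u) [Field K] (a b : ℕ) :
    homogeneousSubmodule (Fin 2) K a →ₗ[K] homogeneousSubmodule (Fin 2) K b →ₗ[K]
      homogeneousSubmodule (Fin 2) K (a + b) :=
  LinearMap.mk₂ K (fun g h => ⟨g.1 * h.1, g.2.mul h.2⟩)
    (fun g g' h => Subtype.ext (add_mul _ _ _)) (fun c g h => Subtype.ext (smul_mul_assoc c _ _))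
    (fun g h h' => Subtype.ext (mul_add _ _ _)) (fun c g h => Subtype.ext (mul_smul_comm c _ _))

theorem finrank_ker_add {K : Type u} [Field K] {U W Q : Type*} [AddCommGroup U] [Module K U]
    [AddCommGroup W] [Module K W] [AddCommGroup Q] [Module K Q] [FiniteDimensional K U]
    [FiniteDimensional K W] [FiniteDimensional K Q] (hQ : Module.finrank K Q = 1)
    (Φ : U →ₗ[K] W →ₗ[K] Q) (hflip : Function.Injective Φ.flip) :
    Module.finrank K (LinearMap.ker Φ) + Module.finrank K W = Module.finrank K U := by
  let b0 := Module.basisUnique Unit hQ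
  let δ : W →ₗ[K] Module.Dual K (LinearMap.range Φ) :=
    LinearMap.mk₂ K (fun e φ => b0.coord () (φ.1 e))
      (fun e e' φ => by simp) (fun c e φ => by simp)
      (fun e φ φ' => by simp) (fun c e φ => by simp)
  have hδ : Function.Injective δ := by
    refine (injective_iff_map_eq_zero _).2 fun e he => hflip ?_
    rw [map_zero]
    refine LinearMap.ext fun g => ?_
    have := LinearMap.congr_fun he ⟨Φ g, g, rfl⟩
    refine b0.repr.injective (Finsupp.ext fun i => ?_)
    simpa [δ, LinearMap.flip_apply] using this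
  have h1 : Module.finrank K W ≤ Module.finrank K (LinearMap.range Φ) :=
    (LinearMap.finrank_le_finrank_of_injective hδ).trans Subspace.dual_finrank_eq.le
  have h2 : Module.finrank K (LinearMap.range Φ) ≤ Module.finrank K W := by
    refine (Submodule.finrank_le _).trans ?_
    rw [Module.finrank_linearMap, hQ, mul_one]
  have h3 := LinearMap.finrank_range_add_finrank_ker Φ
  omega

theorem exists_gen {K : Type u} [Field K] {U W Q : Type*} [AddCommGroup U] [Module K U]
    [AddCommGroup W] [Module K W] [AddCommGroup Q] [Module K Q] [FiniteDimensional K U]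
    [FiniteDimensional K W] [FiniteDimensional K Q] (hQ : Module.finrank K Q = 1)
    (Φ : U →ₗ[K] W →ₗ[K] Q) (hflip : Function.Injective Φ.flip)
    (hdim : Module.finrank K U = Module.finrank K W + 1) :
    ∃ g : U, g ≠ 0 ∧ Φ g = 0 ∧ ∀ g', Φ g' = 0 → ∃ c : K, g' = c • g := by
  have h := finrank_ker_add hQ Φ hflip
  obtain ⟨g, hg0, hgen⟩ := (finrank_eq_one_iff' (K := K) (V := LinearMap.ker Φ)).1 (by omega)
  exact ⟨g, fun h0 => hg0 (Subtype.ext h0), g.2, fun g' hg' => by
    obtain ⟨c, hc⟩ := hgen ⟨g', hg'⟩
    exact ⟨c, (congrArg Subtype.val hc).symm⟩⟩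

theorem finrank_forms (K : Type u) [Field K] (d : ℕ) :
    Module.Finite K (MvPolynomial.homogeneousSubmodule (Fin 2) K d) ∧
      Module.finrank K (MvPolynomial.homogeneousSubmodule (Fin 2) K d) = d + 1 := by
  refine ⟨(Groth.Agent.ComodLib.GradedAug.finrank_homogeneous 2 d).1, ?_⟩
  rw [(Groth.Agent.ComodLib.GradedAug.finrank_homogeneous 2 d).2, show 2 + d - 1 = d + 1 by omega,
    Nat.choose_succ_self_right]

/-- A smooth nondegenerate rational quintic curve C ⊂ P^4 has exactly one 3-secant line. Stated for C
given as the image of P^1 under a 5-dimensional linear series V of binary quintic forms which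
separates every length-2 subscheme of P^1 (for every nonzero quadratic form e the forms of V
together with the multiples of e span all quintic forms), so that P^1 → P(V^*) = P^4 is a closed
embedding with nondegenerate image; the linear forms on P^4 are the elements of V, a line L ⊂ P^4 is
recorded by the 3-dimensional space of linear forms vanishing on it, and L ∩ C has length at least 3
exactly when that space consists of the multiples g · K[s,t]_2 of a cubic form g. The conclusion: a
nonzero cubic g with g · K[s,t]_2 ⊆ V exists and is unique up to a scalar. (That such a line meets C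
in length exactly 3, i.e. is not 4-secant, is immediate in this description and is not restated; the
ground field is algebraically closed of characteristic zero in place of the complex numbers.) -/
theorem result (K : Type u) [Field K] [IsAlgClosed K]
    [CharZero K] (V : Submodule K (MvPolynomial (Fin 2) K))
    (hV : V ≤ MvPolynomial.homogeneousSubmodule (Fin 2) K 5) (hdim : Module.finrank K ↥V = 5)
    (hsep : ∀ e ∈ MvPolynomial.homogeneousSubmodule (Fin 2) K 2, e ≠ 0 →
      ∀ F ∈ MvPolynomial.homogeneousSubmodule (Fin 2) K 5, ∃ v ∈ V,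
        ∃ h ∈ MvPolynomial.homogeneousSubmodule (Fin 2) K 3, F = v + e * h) :
    ∃ g ∈ MvPolynomial.homogeneousSubmodule (Fin 2) K 3, g ≠ 0 ∧
      (∀ h ∈ MvPolynomial.homogeneousSubmodule (Fin 2) K 2, g * h ∈ V) ∧
      ∀ g' ∈ MvPolynomial.homogeneousSubmodule (Fin 2) K 3,
        (∀ h ∈ MvPolynomial.homogeneousSubmodule (Fin 2) K 2, g' * h ∈ V) → ∃ c : K, g' = c • g := by
  haveI := fun d => (finrank_forms K d).1
  let V' : Submodule K (MvPolynomial.homogeneousSubmodule (Fin 2) K 5) :=
    Submodule.comap (MvPolynomial.homogeneousSubmodule (Fin 2) K 5).subtype V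
  have hV' : Module.finrank K V' = 5 :=
    (Submodule.comapSubtypeEquivOfLe hV).finrank_eq.trans hdim
  have hQ : Module.finrank K (MvPolynomial.homogeneousSubmodule (Fin 2) K 5 ⧸ V') = 1 := by
    have := Submodule.finrank_quotient_add_finrank V'
    rw [(finrank_forms K 5).2, hV'] at this
    omega
  let Φ : MvPolynomial.homogeneousSubmodule (Fin 2) K 3 →ₗ[K]
      MvPolynomial.homogeneousSubmodule (Fin 2) K 2 →ₗ[K]
        (MvPolynomial.homogeneousSubmodule (Fin 2) K 5 ⧸ V') := (mulB K 3 2).compr₂ V'.mkQ
  have hΦ : ∀ g h, Φ g h = 0 ↔ g.1 * h.1 ∈ V := fun g h => Submodule.Quotient.mk_eq_zero V'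
  have hflip : Function.Injective Φ.flip := by
    refine (injective_iff_map_eq_zero _).2 fun e he => ?_
    by_contra hne
    have hall : ∀ F ∈ MvPolynomial.homogeneousSubmodule (Fin 2) K 5, F ∈ V := by
      intro F hF
      obtain ⟨v, hv, h, hh, rfl⟩ := hsep e.1 e.2 (fun h0 => hne (Subtype.ext h0)) F hF
      refine V.add_mem hv ?_
      rw [mul_comm]
      exact (hΦ ⟨h, hh⟩ e).1 (LinearMap.congr_fun he ⟨h, hh⟩)
    rw [le_antisymm hV hall, (finrank_forms K 5).2] at hdim
    omega
  obtain ⟨g, hg0, hgker, hgen⟩ := exists_gen hQ Φ hflip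
    (by rw [(finrank_forms K 2).2, (finrank_forms K 3).2])
  refine ⟨g.1, g.2, fun h => hg0 (Subtype.ext h), fun h hh => ?_, fun g' hg' hall => ?_⟩
  · exact (hΦ g ⟨h, hh⟩).1 (LinearMap.congr_fun hgker ⟨h, hh⟩)
  · obtain ⟨c, hc⟩ := hgen ⟨g', hg'⟩ (LinearMap.ext fun h =>
      (hΦ ⟨g', hg'⟩ h).2 (hall h.1 h.2))
    exact ⟨c, congrArg Subtype.val hc⟩

end Groth.Agent.S16516
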