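import Groth.Statements.S16519
import Mathlib


set_option autoImplicit false
open CubicSurf

namespace Groth.Agent.S16519

/-- On a smooth cubic surface there are exactly 72 divisor classes L with L² = 1 and L · K = −3. Stated
in the lattice ℤ^{1,6} with basis l, e_1, …, e_6 (l² = 1, e_i² = −1, K = −3l + Σ e_i): the integer
vectors (a, b) ∈ ℤ × ℤ^6, standing for a·l − Σ b_i e_i, with 3a − Σ b_i = 3 and a² − Σ b_i² = 1 form
a set of exactly 72 elements. -/
theorem result :
    {p : ℤ × (Fin 6 → ℤ) | 3 * p.1 - (Finset.univ.sum fun i => p.2 i) = 3 ∧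
        p.1 ^ 2 - (Finset.univ.sum fun i => p.2 i ^ 2) = 1}.ncard = 72 := by
  let T : Finset (ℤ × (Fin 6 → ℤ)) :=
    ((Finset.Icc 1 5) ×ˢ (Fintype.piFinset fun _ : Fin 6 => Finset.Icc (0 : ℤ) 2)).filter
      fun p => 3 * p.1 - (Finset.univ.sum fun i => p.2 i) = 3 ∧
        p.1 ^ 2 - (Finset.univ.sum fun i => p.2 i ^ 2) = 1
  have hset : {p : ℤ × (Fin 6 → ℤ) | 3 * p.1 - (Finset.univ.sum fun i => p.2 i) = 3 ∧
      p.1 ^ 2 - (Finset.univ.sum fun i => p.2 i ^ 2) = 1} = (T : Set (ℤ × (Fin 6 → ℤ))) := by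
    ext ⟨a, b⟩
    simp only [Set.mem_setOf_eq, T, Finset.coe_filter, Finset.mem_product, Finset.mem_Icc,
      Fintype.mem_piFinset]
    refine ⟨fun h => ⟨?_, h⟩, fun h => h.2⟩
    obtain ⟨h1, h2⟩ := h
    have key : ∀ i, 6 * b i ^ 2 - 2 * (3 * a - 3) * b i + (3 * a - 3) ^ 2 - 5 * (a ^ 2 - 1) ≤ 0 := by
      intro i
      have hs := Finset.add_sum_erase Finset.univ b (Finset.mem_univ i)
      have hq := Finset.add_sum_erase Finset.univ (fun i => b i ^ 2) (Finset.mem_univ i)
      have hcs := sq_sum_le_card_mul_sum_sq (s := Finset.univ.erase i) (f := b)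
      rw [show (Finset.univ.erase i).card = 5 by simp] at hcs
      push_cast at hcs
      rw [show (∑ x ∈ Finset.univ.erase i, b x) = 3 * a - 3 - b i by linarith,
        show (∑ x ∈ Finset.univ.erase i, b x ^ 2) = a ^ 2 - 1 - b i ^ 2 by linarith] at hcs
      nlinarith
    have hcs6 := sq_sum_le_card_mul_sum_sq (s := (Finset.univ : Finset (Fin 6))) (f := b)
    simp only [Finset.card_univ, Fintype.card_fin] at hcs6
    push_cast at hcs6
    rw [show (∑ x, b x) = 3 * a - 3 by linarith, show (∑ x, b x ^ 2) = a ^ 2 - 1 by linarith] at hcs6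
    have ha : 1 ≤ a ∧ a ≤ 5 := by constructor <;> nlinarith
    refine ⟨ha, fun i => ?_⟩
    have hk := key i
    obtain ⟨ha1, ha5⟩ := ha
    constructor
    · by_contra hb
      interval_cases a <;> nlinarith
    · by_contra hb
      interval_cases a <;> nlinarith
  rw [hset, Set.ncard_coe_finset]
  decide +kernel

end Groth.Agent.S16519
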