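import Groth.Statements.S1652
import Groth.Agent.Lib.CurveDeg
import Groth.Agent.AmpleX.Pow
import Mathlib.AlgebraicGeometry.Morphisms.Proper

set_option autoImplicit false
set_option linter.style.haveILetI false
universe u
open CategoryTheory CategoryTheory.Limits AlgebraicGeometry
open Variety

namespace Groth.Agent.S1652

/-- On a proper curve over a field, if L and M are invertible modules with L ⊗ M ≅ O_X and both L and M
have a nonzero global section, then L is isomorphic to the structure sheaf. -/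
theorem result (k : Type u) [Field k] (X : Scheme.{u}) [X.Over (Spec (CommRingCat.of k))]
    [IsIntegral X] [IsProper (X ↘ (Spec (CommRingCat.of k)))] (hdim : topologicalKrullDim X = 1)
    (L M : X.Modules) (hL : PicF.IsInvertible L) (hM : PicF.IsInvertible M) (hLM : ClSub.IsInverseOf L M)
    (s : Coh.structureModule X ⟶ L) (hs : s ≠ 0) (t : Coh.structureModule X ⟶ M) (ht : t ≠ 0) :
    Nonempty (L ≅ Coh.structureModule X) := by
  obtain ⟨e⟩ := hLM
  have hT : PicF.IsInvertible (CohB1.tensorMod L M) := Groth.Agent.InvX.isInvertible_tensorMod hL hM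
  have hI := Groth.Agent.CurveDeg.isInvertible_structureModule (X := X)
  have hne : ∀ (N : X.Modules), PicF.IsInvertible N → ∀ u : Coh.structureModule X ⟶ N, u ≠ 0 →
      ((CohB1.genLocus N u : X.Opens) : Set X).Nonempty := by
    intro N hN u hu
    obtain ⟨W, ⟨⟨w, hw⟩⟩, hW⟩ := Groth.Agent.CurveDeg.exists_open_surjective hI hN u hu
    refine ⟨w, Groth.Agent.InvX.le_genLocus u (fun V hV => ?_) hw⟩
    have hb : Function.Bijective (u.app V) :=
      ⟨Groth.Agent.InvEnd.app_injective_of_ne_zero hI hN u hu V, hW V hV⟩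
    have key : (u.app V : _ → _) = fun r : Γ(X, V) => r • Groth.Agent.AModX.res N (le_top : V ≤ ⊤)
        (Groth.Agent.InvX.one u) := funext fun r => Groth.Agent.InvX.app_eq_smul u r
    rw [key] at hb
    simp only [Groth.Agent.AModX.res_res]
    exact hb
  let g := Groth.Agent.InvX.mulHom s t ≫ e.hom
  have hg : CohB1.genLocus _ g = CohB1.genLocus L s ⊓ CohB1.genLocus M t := by
    rw [Groth.Agent.InvX.genLocus_comp_iso, Groth.Agent.InvX.genLocus_mulHom hL hM]
  obtain ⟨c, hc⟩ := (Groth.Agent.InvX.isFrame_one (X := X) ⊤).exists_coord le_rfl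
    (Groth.Agent.AModX.res _ (le_top : (⊤ : X.Opens) ≤ ⊤) (Groth.Agent.InvX.one g))
  rw [Groth.Agent.AModX.res_self] at hc
  have hb := Groth.Agent.InvX.genLocus_inf g (Groth.Agent.InvX.isFrame_one (X := X) ⊤) (g := c)
    (by rw [Groth.Agent.AModX.res_self] at hc ⊢; exact hc)
  rw [inf_top_eq, hg] at hb
  have hc0 : c ≠ 0 := by
    rintro rfl
    obtain ⟨x, hxs, hxt⟩ := nonempty_preirreducible_inter (CohB1.genLocus L s).isOpen
      (CohB1.genLocus M t).isOpen (hne L hL s hs) (hne M hM t ht)
    have h0 : x ∈ X.basicOpen (0 : Γ(X, ⊤)) := hb ▸ (show x ∈ CohB1.genLocus L s ⊓ CohB1.genLocus M t from ⟨hxs, hxt⟩)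
    rw [Scheme.basicOpen_zero] at h0
    exact h0
  have hu : IsUnit c := by
    obtain ⟨d, hd⟩ := (isField_of_universallyClosed (K := k) (X ↘ Spec (CommRingCat.of k))).mul_inv_cancel hc0
    exact IsUnit.of_mul_eq_one d hd
  rw [X.basicOpen_of_isUnit hu] at hb
  have htop : CohB1.genLocus L s = ⊤ := top_le_iff.1 (hb.ge.trans inf_le_left)
  have hiso : IsIso s := by
    rw [Scheme.Modules.Hom.isIso_iff_isIso_app]
    intro V
    refine (ConcreteCategory.isIso_iff_bijective _).2 ⟨Groth.Agent.InvEnd.app_injective_of_ne_zero hI hL s hs V, fun y => ?_⟩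
    have hloc : ∀ x : X, x ∈ V → ∃ U : X.Opens, x ∈ U ∧
        Groth.Agent.InvX.IsFrame (Groth.Agent.AModX.res L (le_top : U ≤ ⊤) (Groth.Agent.InvX.one s)) :=
      fun x _ => Groth.Agent.InvX.mem_genLocus (htop.ge trivial)
    choose U hxU hU using fun x : V => hloc x.1 x.2
    have hc' : ∀ x : V, ∃ r : Γ(X, V ⊓ U x), s.app (V ⊓ U x) r =
        L.presheaf.map (homOfLE inf_le_left).op y := by
      intro x
      obtain ⟨r, hr⟩ := (hU x (V ⊓ U x) inf_le_right).2 (L.presheaf.map (homOfLE inf_le_left).op y)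
      refine ⟨r, (Groth.Agent.InvX.app_eq_smul s r).trans ?_⟩
      rw [← hr]
      simp only [Groth.Agent.AModX.res_res]

    choose r hr using hc'
    obtain ⟨R, hR, -⟩ := TopCat.Sheaf.existsUnique_gluing'
      (⟨(Coh.structureModule X).presheaf, (Coh.structureModule X).isSheaf⟩ : TopCat.Sheaf Ab X)
      (fun x : V => V ⊓ U x) V (fun x => homOfLE inf_le_left)
      (fun x hx => TopologicalSpace.Opens.mem_iSup.2 ⟨⟨x, hx⟩, hx, hxU _⟩) r (fun x x' => by
        apply Groth.Agent.InvEnd.app_injective_of_ne_zero hI hL s hs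
        have h1 := ConcreteCategory.congr_hom (s.mapPresheaf.naturality
          (TopologicalSpace.Opens.infLELeft (V ⊓ U x) (V ⊓ U x')).op) (r x)
        have h2 := ConcreteCategory.congr_hom (s.mapPresheaf.naturality
          (TopologicalSpace.Opens.infLERight (V ⊓ U x) (V ⊓ U x')).op) (r x')
        refine h1.trans (Eq.trans ?_ h2.symm)
        show L.presheaf.map _ (s.app _ (r x)) = L.presheaf.map _ (s.app _ (r x'))
        rw [hr, hr, ← ConcreteCategory.comp_apply, ← L.presheaf.map_comp,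
          ← ConcreteCategory.comp_apply, ← L.presheaf.map_comp]
        rfl)
    refine ⟨R, ?_⟩
    refine TopCat.Sheaf.eq_of_locally_eq' ⟨L.presheaf, L.isSheaf⟩ (fun x : V => V ⊓ U x) V
      (fun x => homOfLE inf_le_left) (fun x hx => TopologicalSpace.Opens.mem_iSup.2 ⟨⟨x, hx⟩, hx, hxU _⟩) _ _ fun x => ?_
    refine (ConcreteCategory.congr_hom (s.mapPresheaf.naturality
      (homOfLE (inf_le_left : V ⊓ U x ≤ V)).op) R).symm.trans ?_
    exact (congrArg (s.app (V ⊓ U x)) (hR x)).trans (hr x)
  exact ⟨(asIso s).symm⟩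

end Groth.Agent.S1652
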