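import Groth.Statements.S16520
import Groth.Agent.DoubleCoverSplit.Basic

set_option autoImplicit false
universe u
open CategoryTheory CategoryTheory.Limits AlgebraicGeometry
open Curves

namespace Groth.Agent.S16520
set_option backward.isDefEq.respectTransparency false
set_option backward.isDefEq.respectTransparency.types false
open Groth.Agent


/-- Let E be an elliptic curve over an algebraically closed field k of characteristic zero (in place of
the complex numbers): smooth, proper and geometrically connected over k, of dimension one and genus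
dim_k H^1(E, O_E) = 1; let π : E → P^1_k be a k-morphism which is finite and flat of constant rank
2, and L an invertible O_E-module of degree d = χ(L) − χ(O_E). If d = 2e + 1 then π_*L ≅ O(e) ⊕ O(e
− 1); if d = 2e and L ≅ π^*O(e) then π_*L ≅ O(e) ⊕ O(e − 2); if d = 2e and L is not isomorphic to
π^*O(e) then π_*L ≅ O(e − 1) ⊕ O(e − 1). (Existence of isomorphisms of O-modules on P^1_k; the
source states the isomorphisms abstractly.) -/
theorem result (k : Type u) [Field k]
    [IsAlgClosed k] [CharZero k] (E : Scheme.{u}) [E.Over (Spec (CommRingCat.of k))] [IsProper (E ↘ Spec (CommRingCat.of k))]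
    [Smooth (E ↘ Spec (CommRingCat.of k))] [GeometricallyConnected (E ↘ Spec (CommRingCat.of k))]
    (hE : topologicalKrullDim E = 1) (hg : Curv2.genus k E = 1)
    (π : E ⟶ CohB1.ProjSpace 1 k) (hπ : π ≫ CohB1.ProjSpace.toSpec 1 k = E ↘ Spec (CommRingCat.of k))
    [IsFinite π] [Flat π] (hrk : ∀ y : ↥(CohB1.ProjSpace 1 k), Scheme.Hom.finrank π y = 2)
    (L : E.Modules) (hL : PicF.IsInvertible L) (d : ℤ) (hd : Curv2.deg k E L 1 = d) :
    (∀ e : ℤ, d = 2 * e + 1 → Nonempty ((Scheme.Modules.pushforward π).obj L ≅
        ∐ fun j : Fin 2 => Twist.twistProjSpace 1 k (![e, e - 1] j))) ∧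
    (∀ e : ℤ, d = 2 * e → Nonempty (L ≅ (Scheme.Modules.pullback π).obj (Twist.twistProjSpace 1 k e)) →
        Nonempty ((Scheme.Modules.pushforward π).obj L ≅
          ∐ fun j : Fin 2 => Twist.twistProjSpace 1 k (![e, e - 2] j))) ∧
    (∀ e : ℤ, d = 2 * e → IsEmpty (L ≅ (Scheme.Modules.pullback π).obj (Twist.twistProjSpace 1 k e)) →
        Nonempty ((Scheme.Modules.pushforward π).obj L ≅
          ∐ fun j : Fin 2 => Twist.twistProjSpace 1 k (![e - 1, e - 1] j))) := by
  have h0 := CurveBC.finrank_h0_of_geometricallyConnected k E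
  haveI := CurveBC.isIntegral_of_h0 k E h0
  haveI := CurveCohLib.isNoetherian_of_proper (k := k) (X := E)
  obtain ⟨a, hφ, hsum, hbd⟩ := DoubleCoverSplit.exists_twists k E hE π hπ hrk hL
  have hO : Curv2.euler k E (Coh.structureModule E) = 0 := by
    rw [CurveRR.euler_eq_h0_sub_h1 k hE.le QCoh.isQCoh_structureModule, h0,
      show Module.finrank k (Coh.HH E (Coh.structureModule E) 1) = 1 from hg]
    norm_num
  have hd' : Curv2.euler k E L = d := by
    have := hd
    unfold Curv2.deg at this
    rw [hO] at this
    simpa using this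
  rw [hd] at hbd
  have hb0 := hbd 0
  have hb1 := hbd 1
  refine ⟨fun e he => ?_, fun e he hiso => ?_, fun e he hiso => ?_⟩
  · by_cases h : a 0 = e
    · exact DoubleCoverSplit.iso_same hφ (DoubleCoverSplit.nonempty_twist_iso k (by simp; omega))
        (DoubleCoverSplit.nonempty_twist_iso k (by simp; omega))
    · exact DoubleCoverSplit.iso_swap hφ (DoubleCoverSplit.nonempty_twist_iso k (by simp; omega))
        (DoubleCoverSplit.nonempty_twist_iso k (by simp; omega))
  · have hex : a 0 = e ∨ a 1 = e := by
      by_contra hne
      push Not at hne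
      obtain ⟨i⟩ := hiso
      obtain ⟨φ⟩ := hφ
      haveI := CurveCover.isProper_line k
      let adj := Scheme.Modules.pullbackPushforwardAdjunction π
      let t : Twist.twistProjSpace 1 k e ⟶ (Scheme.Modules.pushforward π).obj L := adj.homEquiv _ _ i.inv
      have ht : t = 0 := by
        rw [← cancel_mono (φ ≪≫ DoubleCoverSplit.finTwoIso _).hom, zero_comp]
        refine biprod.hom_ext _ _ ?_ ?_ <;> rw [zero_comp] <;>
          exact DoubleCoverSplit.hom_eq_zero k (by omega) _
      have h2 := congrArg (adj.homEquiv _ _).symm ht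
      rw [Equiv.symm_apply_apply, Adjunction.homEquiv_counit, Functor.map_zero, zero_comp] at h2
      have hz : IsZero L := by
        rw [IsZero.iff_id_eq_zero, ← i.hom_inv_id, h2, comp_zero]
      exact CurveEnd.not_isZero _ 1 one_pos (InvEnd.isFinLocFreeOfRank_one hL) hz
    rcases hex with h | h
    · exact DoubleCoverSplit.iso_same hφ (DoubleCoverSplit.nonempty_twist_iso k (by simp; omega))
        (DoubleCoverSplit.nonempty_twist_iso k (by simp; omega))
    · exact DoubleCoverSplit.iso_swap hφ (DoubleCoverSplit.nonempty_twist_iso k (by simp; omega))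
        (DoubleCoverSplit.nonempty_twist_iso k (by simp; omega))
  · have hne : ∀ j, a j ≠ e := fun j h => by
      obtain ⟨i⟩ := (hbd j).2 (by omega)
      rw [h] at i
      exact hiso.false i
    have := hne 0
    have := hne 1
    exact DoubleCoverSplit.iso_same hφ (DoubleCoverSplit.nonempty_twist_iso k (by simp; omega))
      (DoubleCoverSplit.nonempty_twist_iso k (by simp; omega))


end Groth.Agent.S16520
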