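import Groth.Statements.S1653
import Groth.Agent.CharCycDim.Basic
import Groth.Agent.VarDim.Top
import Groth.Agent.S0402

set_option backward.isDefEq.respectTransparency.types false
set_option backward.isDefEq.respectTransparency false
set_option linter.style.haveILetI false
-- import your own Groth.Agent.* helpers here

set_option autoImplicit false
universe u
open CategoryTheory CategoryTheory.Limits AlgebraicGeometry
open Variety

namespace Groth.Agent.S1653

/-- Let f : X → Y be a k-morphism of schemes locally of finite type over a field k, with X irreducible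
of dimension a, and let the closure of the image of f have dimension b. Then the local fibre
dimension of f at every point of X is at least a - b, and the set of points where it equals a - b is
open and dense. -/
theorem result (k : Type u) [Field k] (X Y : Scheme.{u}) [X.Over (Spec (CommRingCat.of k))] [Y.Over (Spec (CommRingCat.of k))]
    [LocallyOfFiniteType (X ↘ (Spec (CommRingCat.of k)))] [LocallyOfFiniteType (Y ↘ (Spec (CommRingCat.of k)))] [IrreducibleSpace X]
    (f : X ⟶ Y) (hf : f ≫ (Y ↘ (Spec (CommRingCat.of k))) = X ↘ (Spec (CommRingCat.of k))) (a b : ℕ) (ha : topologicalKrullDim X = a)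
    (hb : topologicalKrullDim (closure (Set.range f.base)) = b) :
    (∀ x : X, ((a - b : ℕ) : WithBot ℕ∞) ≤ FlatMor.fibreDimAt f x) ∧
      IsOpen {x : X | FlatMor.fibreDimAt f x = (a - b : ℕ)} ∧ Dense {x : X | FlatMor.fibreDimAt f x = (a - b : ℕ)} := by
  open Groth.Agent in
  let p := X ↘ (Spec (CommRingCat.of k))
  let q := Y ↘ (Spec (CommRingCat.of k))
  haveI : LocallyOfFiniteType (f ≫ q) := by rw [hf]; infer_instance
  haveI : LocallyOfFiniteType f := locallyOfFiniteType_of_comp f q
  set η := genericPoint X
  have hη : ∀ x : X, η ⤳ x := fun x => genericPoint_specializes x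
  have hgen : VarDim.deg p η = a := by
    have h := VarDim.topologicalKrullDim_eq_deg_genericPoint p
    rw [ha] at h
    exact_mod_cast h.symm
  have himg : VarDim.deg q (f η) = b := by
    have hcl : closure (Set.range f.base) = closure {f η} := by
      refine Set.Subset.antisymm (closure_minimal ?_ isClosed_closure) (closure_mono (by simp))
      rintro _ ⟨x, rfl⟩
      exact specializes_iff_mem_closure.1 ((hη x).map f.continuous)
    rw [hcl, VarDim.topologicalKrullDim_closure_singleton q] at hb
    exact_mod_cast hb
  have hrd : FibDim.rd f η = a - b := by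
    have h := VarDim.deg_eq_add f q hf η
    rw [← CharCycDim.rd_eq_fdeg, hgen, himg] at h
    omega
  have hlow : ∀ x : X, ((a - b : ℕ) : WithBot ℕ∞) ≤ FlatMor.fibreDimAt f x := fun x => by
    have := FibDim.fibreDimAt_ge_rd f (hη x)
    rw [hrd] at this
    exact this
  have hset : {x : X | FlatMor.fibreDimAt f x = (a - b : ℕ)} =
      {x : X | FlatMor.fibreDimAt f x ≤ (a - b : ℕ)} :=
    Set.ext fun x => ⟨fun h => h.le, fun h => le_antisymm h (hlow x)⟩
  have hmem : η ∈ {x : X | FlatMor.fibreDimAt f x = (a - b : ℕ)} := by
    show FlatMor.fibreDimAt f η = _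
    rw [FibDim.fibreDimAt_eq_rd f (FibDim.fibMax_of_maximal f fun z hz => (hz.antisymm (hη z)).eq), hrd]
    rfl
  refine ⟨hlow, hset ▸ Groth.Agent.S0402.result f (a - b), fun x => ?_⟩
  exact closure_mono (Set.singleton_subset_iff.2 hmem) (specializes_iff_mem_closure.1 (hη x))

end Groth.Agent.S1653
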