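import Groth.Statements.S16534
import Groth.Agent.FormsVanish.Dim
import Groth.Agent.Pic13Lib.Bdd.Gen
import Groth.Agent.CurveCohLib.Clifford
import Groth.Agent.Lib.CurveSpecial
import Groth.Agent.Lib.CurveRR

set_option autoImplicit false
universe u
open CategoryTheory CategoryTheory.Limits AlgebraicGeometry
open Curves

namespace Groth.Agent.S16534
set_option backward.isDefEq.respectTransparency false
set_option backward.isDefEq.respectTransparency.types false
open Groth.Agent


/-- Over an algebraically closed field k of characteristic zero (in place of the complex numbers), a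
smooth connected quintic curve of genus 2 in P^4 lies in a hyperplane and on a quadric surface in
that hyperplane. Here C is smooth, proper and integral of dimension one over k with dim_k H^1(C,
O_C) = 2, i : C → P^4_k is a closed immersion over k with deg i^*O(1) = χ(i^*O(1)) − χ(O_C) = 5, and
the conclusion provides a nonzero linear form l and a quadratic form q not divisible by l such that
i factors through V_+(l) ∩ V_+(q). -/
theorem result (k : Type u) [Field k] [IsAlgClosed k]
    [CharZero k] (C : Scheme.{u}) [C.Over (Spec (CommRingCat.of k))] [Smooth (C ↘ Spec (CommRingCat.of k))] [IsProper (C ↘ Spec (CommRingCat.of k))]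
    [IsIntegral C] (hC : topologicalKrullDim C = 1) (hg : Curv2.genus k C = 2)
    (i : C ⟶ CohB1.ProjSpace 4 k) [IsClosedImmersion i] (hi : i ≫ CohB1.ProjSpace.toSpec 4 k = C ↘ Spec (CommRingCat.of k))
    (hdeg : Curv2.deg k C ((Scheme.Modules.pullback i).obj (Twist.twistProjSpace 4 k 1)) 1 = 5) :
    ∃ (l : LefPen.Form 4 k 1) (q : LefPen.Form 4 k 2), l ≠ 0 ∧ q.1 ∉ Ideal.span {l.1} ∧
      ∃ j : C ⟶ (LefPen.hypIdeal l ⊔ LefPen.hypIdeal q).subscheme,
        j ≫ (LefPen.hypIdeal l ⊔ LefPen.hypIdeal q).subschemeι = i := by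
  haveI := CurveCohLib.isNoetherian_of_proper (k := k) (X := C)
  let H := (Scheme.Modules.pullback i).obj (Twist.twistProjSpace 4 k 1)
  have hH : PicF.IsInvertible H := PicClLib.isInvertible_pullback i (FormsVanish.isInvertible (n := 4) (k := k) 1)
  have hH2i : PicF.IsInvertible ((Scheme.Modules.pullback i).obj (Twist.twistProjSpace 4 k 2)) :=
    PicClLib.isInvertible_pullback i (FormsVanish.isInvertible (n := 4) (k := k) 2)
  have hdeg2 : Curv2.deg k C ((Scheme.Modules.pullback i).obj (Twist.twistProjSpace 4 k 2)) 1 = 10 := by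
    obtain ⟨t⟩ := PnCoh.Finite.twist_tensor_iso (ProjRegular.coords k 4) ProjRegular.coords_mem
      ProjRegular.coords_cover 1 1
    obtain ⟨p⟩ := Pic13Lib.Bdd.nonempty_pullback_tensor i (Twist.twistProjSpace 4 k 1) (Twist.twistProjSpace 4 k 1)
    have h1 := CurveRR.deg_tensor k hC hH hH
    rw [hdeg] at h1
    refine Eq.trans ?_ h1
    exact CurveRR.deg_congr k ((Scheme.Modules.pullback i).mapIso t.symm ≪≫ p) 1
  have hh : ∀ (M : C.Modules), PicF.IsInvertible M → 3 ≤ Curv2.deg k C M 1 →
      (Module.finrank k (Coh.HH C M 0) : ℤ) = Curv2.deg k C M 1 - 1 := by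
    intro M hM h3
    haveI := CurveSpecial.subsingleton_HH_one_of_deg k hC hM (by rw [hg]; push_cast; omega)
    have hr := CurveCohLib.Clifford.deg_eq k hC hM
    rw [hg, Module.finrank_zero_of_subsingleton (R := k) (M := Coh.HH C M 1)] at hr
    push_cast at hr
    omega
  obtain ⟨W1, hW1, hd1⟩ := FormsVanish.exists_forms k 1 i hi
  obtain ⟨W2, hW2, hd2⟩ := FormsVanish.exists_forms k 2 i hi
  have e1 := hh _ hH (by rw [hdeg]; norm_num)
  rw [hdeg] at e1
  have e2 := hh _ hH2i (by rw [hdeg2]; norm_num)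
  rw [hdeg2] at e2
  rw [show Nat.choose (4 + 1) 1 = 5 from rfl] at hd1
  rw [show Nat.choose (4 + 2) 2 = 15 from rfl] at hd2
  have e1' : Module.finrank k (Coh.HH C ((Scheme.Modules.pullback i).obj (Twist.twistProjSpace 4 k ((1 : ℕ) : ℤ))) 0) = 4 := by
    have : ((Module.finrank k (Coh.HH C H 0) : ℕ) : ℤ) = ((4 : ℕ) : ℤ) := by rw [e1]; norm_num
    exact_mod_cast this
  have e2' : Module.finrank k (Coh.HH C ((Scheme.Modules.pullback i).obj (Twist.twistProjSpace 4 k ((2 : ℕ) : ℤ))) 0) = 9 := by
    have : ((Module.finrank k (Coh.HH C ((Scheme.Modules.pullback i).obj (Twist.twistProjSpace 4 k 2)) 0) : ℕ) : ℤ) =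
        ((9 : ℕ) : ℤ) := by rw [e2]; norm_num
    exact_mod_cast this
  obtain ⟨l, hlW, hl⟩ : ∃ l ∈ W1, l ≠ 0 := by
    apply Submodule.exists_mem_ne_zero_of_ne_bot
    intro h
    rw [h, finrank_bot] at hd1
    omega
  let mul : LefPen.Form 4 k 1 →ₗ[k] LefPen.Form 4 k 2 :=
    { toFun := fun p => ⟨p.1 * l.1, SetLike.mul_mem_graded (A := CohB1.polyGrading 4 k) p.2 l.2⟩
      map_add' := fun p q => Subtype.ext (add_mul p.1 q.1 l.1)
      map_smul' := fun c p => Subtype.ext (smul_mul_assoc c p.1 l.1) }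
  obtain ⟨hfin1, hdim1⟩ := ComodLib.GradedAug.finrank_homogeneous (k := k) (4 + 1) 1
  haveI : Module.Finite k (LefPen.Form 4 k 1) := hfin1
  obtain ⟨q, hqW, hq⟩ : ∃ q ∈ W2, q ∉ LinearMap.range mul := by
    by_contra hall
    push Not at hall
    have h1 := Submodule.finrank_mono (show W2 ≤ LinearMap.range mul from hall)
    have h2 := LinearMap.finrank_range_le mul
    rw [show Module.finrank k (LefPen.Form 4 k 1) = 5 from hdim1] at h2
    omega
  have hle : LefPen.hypIdeal l ⊔ LefPen.hypIdeal q ≤ i.ker := sup_le (hW1 l hlW) (hW2 q hqW)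
  refine ⟨l, q, hl, fun hmem => hq ?_, i.toImage ≫ Scheme.IdealSheafData.inclusion hle, ?_⟩
  · obtain ⟨p, hp⟩ := Ideal.mem_span_singleton'.1 hmem
    classical
    refine ⟨⟨DirectSum.decompose (CohB1.polyGrading 4 k) p 1, SetLike.coe_mem _⟩, Subtype.ext ?_⟩
    show (DirectSum.decompose (CohB1.polyGrading 4 k) p 1 : MvPolynomial (Fin (4 + 1)) k) * l.1 = q.1
    rw [← DirectSum.decompose_of_mem_same (CohB1.polyGrading 4 k) q.2, ← hp,
      DirectSum.coe_decompose_mul_of_right_mem_of_le (CohB1.polyGrading 4 k) l.2 (by norm_num : 1 ≤ 2)]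
  · rw [Category.assoc, Scheme.IdealSheafData.inclusion_subschemeι]
    exact i.toImage_imageι


end Groth.Agent.S16534
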