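import Groth.Statements.S16535
import Groth.Agent.DispLib.Basic
-- import your own Groth.Agent.* helpers here

set_option autoImplicit false
universe u v
open Disp

namespace Groth.Agent.S16535

/-- Let p be a prime and R a commutative ring in which p is nilpotent (in particular every prime number
other than p is a unit in R); write W = W(R) for the ring of p-typical Witt vectors with Frobenius
σ, and let (P, Q, F, V⁻¹) be a 3n-display over R. Then there is exactly one W-linear map V# : P → W
⊗_{σ,W} P with V#(w·F x) = p·(w ⊗ x) for all w ∈ W, x ∈ P and V#(w·V⁻¹ y) = w ⊗ y for all w ∈ W, y ∈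
Q. (The published statement is made for every ring in which the primes other than p are units. Over
the rationals the ghost map identifies W(ℚ) with ℚ^ℕ and σ with the shift; for the idempotent e =
(1,0,0,…) the module (1−e)W with Q = (1−e)W, F(x) = p·σ(x)(1−e) and V⁻¹(x) = σ(x)(1−e) is a
3n-display, and a W-linear V# would have to send 1−e to 1 ⊗ (1−e), which corresponds to 1 under W
⊗_{σ,W} (1−e)W ≅ W, while e·(1−e) = 0 — impossible. The published proof compares ranks of P and W
⊗_{σ,W} P, which agree when σ fixes the idempotents of W(R); this holds when p is nilpotent in R,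
the case of displays, which is the hypothesis taken here.) -/
theorem result (p : ℕ) [Fact p.Prime] (R : Type u) [CommRing R]
    (hR : ∀ ℓ : ℕ, ℓ.Prime → ℓ ≠ p → IsUnit (ℓ : R)) (hp : IsNilpotent (p : R))
    (P : Type v) [AddCommGroup P] [Module (WittVector p R) P] (D : W4c1extbt610.Display3n p R P) :
    ∃! Vs : P →ₗ[WittVector p R] Dieu.BC (WittVector.frobenius : WittVector p R →+* WittVector p R) P,
      Dieu.IsVSharp D Vs := by
  obtain ⟨L, T, hLT, hQ⟩ := D.exists_normal
  obtain ⟨Vs, hVs⟩ := DispLib.exists_isVSharp D hQ hp hLT (hQ ▸ le_sup_left)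
  exact ⟨Vs, hVs, fun V hV => DispLib.isVSharp_unique D hV hVs⟩

end Groth.Agent.S16535
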