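import Groth.Statements.S16538
import Groth.Agent.DispLib.BaseChange
-- import your own Groth.Agent.* helpers here

set_option autoImplicit false
universe u v
open Disp

namespace Groth.Agent.S16538

/-- Let p be a prime, S a commutative ring in which every prime number other than p is a unit, f : S → R
a homomorphism of commutative rings, and (P, Q, F, V⁻¹) a 3n-display over S; write σ for the
Frobenius and V for the Verschiebung of the Witt rings. On the W(R)-module P_R = W(R) ⊗_{W(S)} P
there is exactly one 3n-display structure (P_R, Q_R, F_R, V_R⁻¹) over R such that Q_R is the kernel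
of P_R → R ⊗_S (P/Q), F_R(w ⊗ x) = σ(w) ⊗ F x, V_R⁻¹(w ⊗ y) = σ(w) ⊗ V⁻¹ y for y ∈ Q and V_R⁻¹(V(w)
⊗ x) = w ⊗ F x for x ∈ P: the base change of the 3n-display along f is well defined. -/
theorem result (p : ℕ) [Fact p.Prime] (S R : Type u) [CommRing S] [CommRing R]
    (hS : ∀ ℓ : ℕ, ℓ.Prime → ℓ ≠ p → IsUnit (ℓ : S)) (f : S →+* R)
    (P : Type v) [AddCommGroup P] [Module (WittVector p S) P] (D : W4c1extbt610.Display3n p S P) :
    ∃! DR : W4c1extbt610.Display3n p R (Dieu.BC (WittVector.map f : WittVector p S →+* WittVector p R) P),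
      Dieu.IsDispBaseChange f D DR := by
    exact DispLib.DispBC.existsUnique f D

end Groth.Agent.S16538
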