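import Groth.Statements.S16539
import Groth.Agent.DispLib.Basic
import Mathlib.RingTheory.WittVector.Frobenius
-- import your own Groth.Agent.* helpers here

set_option autoImplicit false
universe u v
open Disp

namespace Groth.Agent.S16539

/-- Let p be a prime, k a perfect commutative ring of characteristic p, W = W(k) with Frobenius
automorphism σ, and M a finitely generated projective W-module carrying a Dieudonné module
structure, a σ-semilinear F and a σ⁻¹-semilinear V with FV = VF = p. Let D be the associated
3n-display (M, VM, F, V⁻¹): the 3n-display structure on M whose submodule is the image of V, whose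
Frobenius operator is F and whose inverse operator sends V m to m. Then D is a display, i.e. its
operator V# satisfies the nilpotence condition, if and only if V is topologically nilpotent for the
p-adic topology on M: for every e some power of V maps M into p^e M. -/
theorem result (p : ℕ) [Fact p.Prime] (k : Type u) [CommRing k]
    [CharP k p] [PerfectRing k p]
    (M : Type v) [AddCommGroup M] [Module (WittVector p k) M] [Module.Finite (WittVector p k) M]
    [Module.Projective (WittVector p k) M] (Dm : Dieu.DieuMod p k M) (D : W4c1extbt610.Display3n p k M)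
    (hF : D.F = Dm.F) (hQ : ∀ x : M, x ∈ D.Q ↔ x ∈ Set.range Dm.V)
    (hV : ∀ (m : M) (h : Dm.V m ∈ D.Q), D.Vinv ⟨Dm.V m, h⟩ = m) :
    Dieu.IsDisplay D ↔ Dm.VTopNilp := by
    classical
    set σ : WittVector p k →+* WittVector p k := WittVector.frobenius with hσdef
    let fe := WittVector.frobeniusEquiv p k
    let τ : WittVector p k →+* WittVector p k := (fe.symm : WittVector p k →+* WittVector p k)
    have hτσ : ∀ a, τ (σ a) = a := fun a => fe.symm_apply_apply a
    have hστ : ∀ a, σ (τ a) = a := fun a => fe.apply_symm_apply a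
    have hpow : ∀ (n : ℕ) (a : WittVector p k), (τ ^ n) ((σ ^ n) a) = a := by
      intro n
      induction n with
      | zero => intro a; rfl
      | succ n ih =>
        intro a
        rw [pow_succ τ, pow_succ' σ, RingHom.coe_mul, RingHom.coe_mul, Function.comp_apply, Function.comp_apply, hτσ, ih]
    let Vs : M →ₗ[WittVector p k] Dieu.BC σ M :=
      { toFun := fun x => Dieu.BC.tmul σ 1 (Dm.V x)
        map_add' := fun x y => by rw [map_add, Dieu.BC.tmul_add]
        map_smul' := fun a x => by
          rw [LinearMap.map_smulₛₗ, ← Dieu.BC.tmul_apply_eq, RingHom.id_apply, Dieu.BC.smul_tmul, mul_one]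
          exact congrArg (fun b => Dieu.BC.tmul σ b (Dm.V x)) (hστ a) }
    have hVs : Dieu.IsVSharp D Vs := by
      refine ⟨fun w x => ?_, fun w y => ?_⟩
      · rw [map_smul, hF]
        show w • Dieu.BC.tmul σ 1 (Dm.V (Dm.F x)) = _
        rw [Dm.V_F, ← Dieu.BC.tmul_apply_eq, map_natCast, Dieu.BC.smul_tmul, Dieu.BC.smul_tmul, mul_comm]
      · rw [map_smul]
        show w • Dieu.BC.tmul σ 1 (Dm.V (D.Vinv y)) = _
        obtain ⟨m, hm⟩ := (hQ (y : M)).1 y.2
        have : D.Vinv y = m := by
          rw [← hV m (by rw [hm]; exact y.2)]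
          exact congrArg D.Vinv (Subtype.ext hm.symm)
        rw [this, hm, Dieu.BC.smul_tmul, mul_one]
    have hit : ∀ (n : ℕ) (x : M), Dieu.vSharpPow Vs n x = Dieu.BC.tmul (σ ^ (n + 1)) 1 ((⇑Dm.V)^[n + 1] x) := by
      intro n
      induction n with
      | zero => intro x; exact Dieu.BC.castHom_tmul (g := σ) (g' := σ ^ 1) (pow_one σ).symm (1 : WittVector p k) (Dm.V x)
      | succ n ih =>
        intro x
        rw [Dieu.vSharpPow_succ_apply]
        rw [show Vs x = Dieu.BC.tmul σ 1 (Dm.V x) from rfl]
        rw [Dieu.BC.map_tmul, Dieu.BC.lift_tmul, one_smul, ih, Dieu.BC.push_tmul, map_one, Dieu.BC.castHom_tmul,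
          ← Function.iterate_succ_apply]
    have hJ : W4c1extbt610.IV p k ⊔ Ideal.span {(p : WittVector p k)} = Ideal.span {(p : WittVector p k)} := by
      refine sup_eq_right.2 fun a ha => ?_
      obtain ⟨w, rfl⟩ := DispLib.exists_verschiebung_eq ha
      obtain ⟨u, rfl⟩ := (WittVector.frobenius_bijective (p := p) (R := k)).2 w
      rw [WittVector.verschiebung_frobenius]
      exact Ideal.mul_mem_left _ _ (Ideal.subset_span rfl)
    constructor
    · rintro ⟨Vs', hVs', n, hn⟩ e
      obtain rfl := DispLib.isVSharp_unique D hVs' hVs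
      let idn : M →ₛₗ[(τ ^ (n + 1)).comp (σ ^ (n + 1))] M :=
        { toFun := fun x => x
          map_add' := fun _ _ => rfl
          map_smul' := fun a x => by rw [RingHom.comp_apply, hpow] }
      have h1 : ∀ x : M, (⇑Dm.V)^[n + 1] x ∈ Ideal.span {(p : WittVector p k)} • (⊤ : Submodule (WittVector p k) M) := by
        intro x
        have h2 := hn x
        rw [hJ, hit] at h2
        have h3 : ∀ z ∈ Ideal.span {(p : WittVector p k)} • (⊤ : Submodule (WittVector p k) (Dieu.BC (σ ^ (n + 1)) M)),
            Dieu.BC.lift _ idn (Dieu.BC.push (σ ^ (n + 1)) (τ ^ (n + 1)) z) ∈ Ideal.span {(p : WittVector p k)} • (⊤ : Submodule (WittVector p k) M) := by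
          intro z hz
          refine Submodule.smul_induction_on hz (fun a ha t _ => ?_) fun a b ha hb => by rw [map_add, map_add]; exact add_mem ha hb
          rw [LinearMap.map_smulₛₗ, map_smul]
          obtain ⟨u, rfl⟩ := Ideal.mem_span_singleton.1 ha
          rw [map_mul, map_natCast]
          exact Submodule.smul_mem_smul (Ideal.mul_mem_right _ _ (Ideal.subset_span rfl)) Submodule.mem_top
        have h4 := h3 _ h2
        rw [Dieu.BC.push_tmul, Dieu.BC.lift_tmul, map_one, one_smul] at h4
        exact h4
      refine ⟨e * (n + 1), ?_⟩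
      have hmap : ∀ (j t : ℕ) (z : M), z ∈ Ideal.span {(p : WittVector p k)} ^ j • (⊤ : Submodule (WittVector p k) M) →
          ∃ y, (⇑Dm.V)^[t] z = (p : WittVector p k) ^ j • (⇑Dm.V)^[t] y := by
        intro j t z hz
        rw [Ideal.span_singleton_pow, Submodule.ideal_span_singleton_smul, Submodule.mem_smul_pointwise_iff_exists] at hz
        obtain ⟨y, -, rfl⟩ := hz
        refine ⟨y, ?_⟩
        induction t with
        | zero => rfl
        | succ t iht => rw [Function.iterate_succ_apply', Function.iterate_succ_apply', iht, LinearMap.map_smulₛₗ, map_pow, map_natCast]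
      induction e with
      | zero => intro x; rw [pow_zero, Ideal.one_eq_top, Submodule.top_smul]; trivial
      | succ e ih =>
        intro x
        rw [Nat.succ_mul, Nat.add_comm (e * (n + 1)), Function.iterate_add_apply]
        obtain ⟨y, hy⟩ := hmap e (n + 1) _ (ih x)
        rw [hy, pow_succ, Submodule.mul_smul]
        exact Submodule.smul_mem_smul (Ideal.pow_mem_pow (Ideal.mem_span_singleton_self (p : WittVector p k)) e) (h1 y)
    · intro h
      obtain ⟨n, hn⟩ := h 1
      refine ⟨Vs, hVs, n, fun x => ?_⟩
      rw [hJ, hit, Function.iterate_succ_apply]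
      have h2 := hn (Dm.V x)
      rw [pow_one] at h2
      refine Submodule.smul_induction_on h2 (fun a ha t _ => ?_) fun a b ha hb => by rw [Dieu.BC.tmul_add]; exact add_mem ha hb
      rw [← Dieu.BC.tmul_apply_eq, Dieu.BC.tmul_eq_smul_tmul_one]
      obtain ⟨u, rfl⟩ := Ideal.mem_span_singleton.1 ha
      rw [map_mul, map_natCast]
      exact Submodule.smul_mem_smul (Ideal.mul_mem_right _ _ (Ideal.subset_span rfl)) Submodule.mem_top

end Groth.Agent.S16539
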