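import Groth.Statements.S16541
import Mathlib

set_option autoImplicit false
universe u v
open CAlg

namespace Groth.Agent.S16541

open TensorProduct

theorem exists_eq {S R : Type u} [CommRing S] [CommRing R] [Algebra S R] [Module.FaithfullyFlat S R] {r : R}
    (h : r ⊗ₜ[S] (1 : R) = (1 : R) ⊗ₜ[S] r) : ∃ s, algebraMap S R s = r := by
  have := Algebra.IsEffective.eqLocus_includeLeft_includeRight (Algebra.IsEffective.of_faithfullyFlat S R)
  exact (Set.ext_iff.1 this r).1 h


/-- Let p be a prime, S → R a faithfully flat homomorphism of commutative rings and M a flat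
W(S)-module; write ι₁, ι₂ : R → R ⊗_S R for the two coprojections, M_R = W(R) ⊗_{W(S)} M and M_{R ⊗
R} = W(R ⊗_S R) ⊗_{W(S)} M for the scalar extensions along W(S) → W(R) and W(S) → W(R ⊗_S R). Then 0
→ M → M_R ⇉ M_{R ⊗ R} is exact: the map x ↦ 1 ⊗ x from M to M_R is injective, and an element of M_R
has the same image under the two maps w ⊗ x ↦ W(ι₁)(w) ⊗ x and w ⊗ x ↦ W(ι₂)(w) ⊗ x exactly when it
is of the form 1 ⊗ x. The hypothesis e records that the two composite ring maps W(S) → W(R) → W(R
⊗_S R) agree (both coprojections are S-algebra maps); it serves to identify the two targets. -/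
theorem result (p : ℕ) [Fact p.Prime]
    (S R : Type u) [CommRing S] [CommRing R] [Algebra S R] [Module.FaithfullyFlat S R]
    (M : Type v) [AddCommGroup M] [Module (WittVector p S) M] [Module.Flat (WittVector p S) M]
    (e : (WittVector.map (Algebra.TensorProduct.includeLeftRingHom : R →+* TensorProduct S R R) : WittVector p R →+* WittVector p (TensorProduct S R R)).comp (WittVector.map (algebraMap S R) : WittVector p S →+* WittVector p R) = (WittVector.map ((Algebra.TensorProduct.includeRight : R →ₐ[S] TensorProduct S R R) : R →+* TensorProduct S R R) : WittVector p R →+* WittVector p (TensorProduct S R R)).comp (WittVector.map (algebraMap S R) : WittVector p S →+* WittVector p R)) :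
    Function.Injective (Dieu.BC.ι (WittVector.map (algebraMap S R) : WittVector p S →+* WittVector p R) M) ∧
      ∀ z : Dieu.BC (WittVector.map (algebraMap S R) : WittVector p S →+* WittVector p R) M,
        (Dieu.BC.castHom e (Dieu.BC.push (WittVector.map (algebraMap S R) : WittVector p S →+* WittVector p R) (WittVector.map (Algebra.TensorProduct.includeLeftRingHom : R →+* TensorProduct S R R) : WittVector p R →+* WittVector p (TensorProduct S R R)) z) = Dieu.BC.push (WittVector.map (algebraMap S R) : WittVector p S →+* WittVector p R) (WittVector.map ((Algebra.TensorProduct.includeRight : R →ₐ[S] TensorProduct S R R) : R →+* TensorProduct S R R) : WittVector p R →+* WittVector p (TensorProduct S R R)) z ↔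
          z ∈ Set.range (Dieu.BC.ι (WittVector.map (algebraMap S R) : WittVector p S →+* WittVector p R) M)) := by
  have hinj : Function.Injective (algebraMap S R) := FaithfulSMul.algebraMap_injective S R
  set g : WittVector p S →+* WittVector p R := WittVector.map (algebraMap S R) with hg
  set h₁ : WittVector p R →+* WittVector p (TensorProduct S R R) :=
    WittVector.map (Algebra.TensorProduct.includeLeftRingHom : R →+* TensorProduct S R R) with hh₁
  set h₂ : WittVector p R →+* WittVector p (TensorProduct S R R) :=
    WittVector.map ((Algebra.TensorProduct.includeRight : R →ₐ[S] TensorProduct S R R) : R →+* TensorProduct S R R) with hh₂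
  let a : WittVector p S →ₗ[WittVector p S] Dieu.Res g :=
    { toFun := fun w => Dieu.Res.mk g (g w)
      map_add' := fun v w => by rw [map_add, Dieu.Res.mk_add]
      map_smul' := fun c w => by rw [smul_eq_mul, map_mul, RingHom.id_apply, Dieu.Res.smul_mk] }
  let d : Dieu.Res g →ₗ[WittVector p S] Dieu.Res (h₂.comp g) :=
    { toFun := fun t => Dieu.Res.mk (h₂.comp g) (h₁ t.val - h₂ t.val)
      map_add' := fun v w => Dieu.Res.ext _ (by simp only [Dieu.Res.val_add, map_add, Dieu.Res.val_mk]; ring)
      map_smul' := fun c w => Dieu.Res.ext _ (by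
        have ec : h₁ (g c) = h₂ (g c) := RingHom.congr_fun e c
        simp only [Dieu.Res.val_smul, map_mul, Dieu.Res.val_mk, RingHom.id_apply, RingHom.comp_apply, ec]
        ring) }
  have hex : Function.Exact a d := by
    intro t
    constructor
    · intro ht
      have h : h₁ t.val = h₂ t.val := sub_eq_zero.1 (congrArg Dieu.Res.val ht)
      have : ∀ n, ∃ s, algebraMap S R s = t.val.coeff n := fun n => by
        refine exists_eq ?_
        have hn := congrArg (fun z : WittVector p (TensorProduct S R R) => z.coeff n) h
        simp only [hh₁, hh₂, WittVector.map_coeff] at hn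
        exact hn
      choose s hs using this
      exact ⟨WittVector.mk p s, Dieu.Res.ext _ (WittVector.ext fun n => by
        simp [a, hg, WittVector.map_coeff, hs])⟩
    · rintro ⟨w, rfl⟩
      exact Dieu.Res.ext _ (sub_eq_zero.2 (RingHom.congr_fun e w))
  have ha : Function.Injective a := fun v w h => WittVector.map_injective _ hinj (congrArg Dieu.Res.val h)
  have hι : ∀ x : M, Dieu.BC.ι g M x = a.rTensor M ((TensorProduct.lid (WittVector p S) M).symm x) := by
    intro x
    show (Dieu.Res.mk g 1) ⊗ₜ[WittVector p S] x = _
    rw [TensorProduct.lid_symm_apply, LinearMap.rTensor_tmul]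
    simp [a]
  refine ⟨fun x y hxy => (TensorProduct.lid (WittVector p S) M).symm.injective
    (Module.Flat.rTensor_preserves_injective_linearMap a ha (by rw [← hι, ← hι, hxy])), fun z => ?_⟩
  have key : Dieu.BC.castHom e (Dieu.BC.push g h₁ z) - Dieu.BC.push g h₂ z = d.rTensor M z := by
    induction z using Dieu.BC.induction_on g with
    | zero => simp only [map_zero, sub_zero]; exact (map_zero _).symm
    | tmul b x =>
      rw [Dieu.BC.push_tmul, Dieu.BC.push_tmul, Dieu.BC.castHom_tmul]
      show (Dieu.Res.mk _ (h₁ b)) ⊗ₜ[WittVector p S] x - (Dieu.Res.mk _ (h₂ b)) ⊗ₜ[WittVector p S] x =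
        (Dieu.Res.mk _ (h₁ b - h₂ b)) ⊗ₜ[WittVector p S] x
      exact (TensorProduct.sub_tmul _ _ _).symm
    | add z₁ z₂ e₁ e₂ =>
      rw [map_add, map_add, map_add, add_sub_add_comm, e₁, e₂]
      exact (map_add (d.rTensor M) z₁ z₂).symm
  rw [← sub_eq_zero, key]
  constructor
  · intro h0
    obtain ⟨w, hw⟩ := (Module.Flat.rTensor_exact M hex z).1 h0
    obtain ⟨x, rfl⟩ := (TensorProduct.lid (WittVector p S) M).symm.surjective w
    exact ⟨x, (hι x).trans hw⟩
  · rintro ⟨x, rfl⟩
    rw [hι]
    exact (Module.Flat.rTensor_exact M hex _).2 ⟨_, rfl⟩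

end Groth.Agent.S16541
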