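import Groth.Statements.S16542
import Groth.Agent.DispLib.Basic
import Mathlib.RingTheory.Flat.FaithfullyFlat.Algebra
import Mathlib.Algebra.Module.Torsion.Basic
-- import your own Groth.Agent.* helpers here

set_option autoImplicit false
universe u v
open Disp

namespace Groth.Agent.S16542

/-- Let p be a prime, S → R a faithfully flat homomorphism of commutative rings with p nilpotent in S,
(P, Q, F, V⁻¹) a display over S, and (P_R, Q_R, F_R, V_R⁻¹) a 3n-display structure on P_R = W(R)
⊗_{W(S)} P which is its base change along S → R (Q_R the kernel of P_R → R ⊗_S (P/Q), F_R(w ⊗ x) =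
σ(w) ⊗ F x, V_R⁻¹(w ⊗ y) = σ(w) ⊗ V⁻¹ y for y ∈ Q, V_R⁻¹(V(w) ⊗ x) = w ⊗ F x). Then for x ∈ P one
has x ∈ Q if and only if 1 ⊗ x ∈ Q_R: together with the exactness of 0 → P → P_R ⇉ P_{R ⊗ R} this is
the exactness of 0 → Q → Q_R ⇉ Q_{R ⊗ R} at Q. -/
theorem result (p : ℕ) [Fact p.Prime]
    (S R : Type u) [CommRing S] [CommRing R] [Algebra S R] [Module.FaithfullyFlat S R] (hp : IsNilpotent (p : S))
    (P : Type v) [AddCommGroup P] [Module (WittVector p S) P] (D : W4c1extbt610.Display3n p S P)
    (hD : Dieu.IsDisplay D)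
    (DR : W4c1extbt610.Display3n p R (Dieu.BC (WittVector.map (algebraMap S R) : WittVector p S →+* WittVector p R) P))
    (hDR : Dieu.IsDispBaseChange (algebraMap S R) D DR) (x : P) :
    x ∈ D.Q ↔ Dieu.BC.ι (WittVector.map (algebraMap S R) : WittVector p S →+* WittVector p R) P x ∈ DR.Q := by
  rw [hDR.Q_eq, LinearMap.mem_ker, Dieu.BC.ι_apply, Dieu.bcQuotMap_tmul, map_one]
  refine ⟨fun hx => by rw [Submodule.mkQ_apply, (Submodule.Quotient.mk_eq_zero _).2 hx, Dieu.BC.tmul_zero], fun hx => ?_⟩
  have htor : Module.IsTorsionBySet (WittVector p S) (P ⧸ D.Q) (RingHom.ker (WittVector.constantCoeff : WittVector p S →+* S) : Set (WittVector p S)) := by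
    intro m a
    obtain ⟨m, rfl⟩ := Submodule.Quotient.mk_surjective _ m
    rw [← Submodule.Quotient.mk_smul, Submodule.Quotient.mk_eq_zero]
    exact D.IV_smul_le (Submodule.smul_mem_smul ((DispLib.mem_IV_iff (a : WittVector p S)).2 a.2) Submodule.mem_top)
  letI : Module (WittVector p S ⧸ RingHom.ker (WittVector.constantCoeff : WittVector p S →+* S)) (P ⧸ D.Q) := htor.module
  have hsur : Function.Surjective (WittVector.constantCoeff : WittVector p S →+* S) := fun s => ⟨WittVector.teichmuller p s, WittVector.teichmuller_coeff_zero p s⟩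
  let e := RingHom.quotientKerEquivOfSurjective hsur
  letI : Module S (P ⧸ D.Q) := Module.compHom _ e.symm.toRingHom
  have hsmul : ∀ (a : WittVector p S) (m : P ⧸ D.Q), WittVector.constantCoeff a • m = a • m := fun a m => by
    show e.symm (WittVector.constantCoeff a) • m = a • m
    rw [show WittVector.constantCoeff a = e (Ideal.Quotient.mk _ a) from rfl, RingEquiv.symm_apply_apply]
    rfl
  let g : (P ⧸ D.Q) →ₛₗ[(WittVector.constantCoeff : WittVector p R →+* R).comp (WittVector.map (algebraMap S R))] TensorProduct S R (P ⧸ D.Q) :=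
    { toFun := fun m => TensorProduct.tmul S (1 : R) m
      map_add' := fun a b => TensorProduct.tmul_add _ _ _
      map_smul' := fun a m => by
        rw [← hsmul, TensorProduct.tmul_smul, RingHom.comp_apply, TensorProduct.smul_tmul', TensorProduct.smul_tmul', Algebra.smul_def, mul_one,
          smul_eq_mul, mul_one]
        congr 1 }
  have h := congrArg (Dieu.BC.lift _ g) hx
  rw [Dieu.BC.lift_tmul, map_zero, one_smul] at h
  rw [← Submodule.Quotient.mk_eq_zero]
  exact Module.FaithfullyFlat.tensorProduct_mk_injective (A := S) (B := R) (P ⧸ D.Q) (h.trans (map_zero _).symm)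

end Groth.Agent.S16542
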