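import Groth.Statements.S16543
import Groth.Agent.DispLib.Rigidity
import Groth.Agent.DispLib.BaseChange
-- import your own Groth.Agent.* helpers here

set_option autoImplicit false
universe u v
open Disp

namespace Groth.Agent.S16543

/-- Let p be a prime, S a commutative ring in which p is nilpotent, f : S → R a surjective homomorphism
of commutative rings whose kernel is a nilpotent ideal, and (P, Q, F, V⁻¹), (P', Q', F', V'⁻¹) two
displays over S, i.e. 3n-displays whose operators V# satisfy the nilpotence condition. Let (P_R,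
Q_R, F_R, V_R⁻¹) and (P'_R, Q'_R, F'_R, V'_R⁻¹) be their base changes along f, the 3n-display
structures on W(R) ⊗_{W(S)} P and W(R) ⊗_{W(S)} P' characterised by Q_R = ker(P_R → R ⊗_S P/Q),
F_R(w ⊗ x) = σ(w) ⊗ F x, V_R⁻¹(w ⊗ y) = σ(w) ⊗ V⁻¹ y for y ∈ Q and V_R⁻¹(V(w) ⊗ x) = w ⊗ F x (and
likewise for P'). Then the natural map ψ ↦ id ⊗ ψ from homomorphisms of 3n-displays P → P' to
homomorphisms P_R → P'_R is injective, and its cokernel is a p-torsion group: for every homomorphism
χ of the base-changed 3n-displays there are n and a homomorphism ψ over S with id ⊗ ψ = p^n·χ. -/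
theorem result (p : ℕ) [Fact p.Prime]
    (S R : Type u) [CommRing S] [CommRing R] (hp : IsNilpotent (p : S))
    (f : S →+* R) (hf : Function.Surjective f) (hker : IsNilpotent (RingHom.ker f))
    (P P' : Type v) [AddCommGroup P] [Module (WittVector p S) P] [AddCommGroup P'] [Module (WittVector p S) P']
    (D : W4c1extbt610.Display3n p S P) (D' : W4c1extbt610.Display3n p S P')
    (hD : Dieu.IsDisplay D) (hD' : Dieu.IsDisplay D')
    (DR : W4c1extbt610.Display3n p R (Dieu.BC (WittVector.map f : WittVector p S →+* WittVector p R) P)) (hDR : Dieu.IsDispBaseChange f D DR)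
    (DR' : W4c1extbt610.Display3n p R (Dieu.BC (WittVector.map f : WittVector p S →+* WittVector p R) P')) (hDR' : Dieu.IsDispBaseChange f D' DR') :
    (∀ ψ χ : P →ₗ[WittVector p S] P', W4c1extbt610.IsHom D D' ψ → W4c1extbt610.IsHom D D' χ →
        Dieu.BC.map (WittVector.map f : WittVector p S →+* WittVector p R) ψ = Dieu.BC.map (WittVector.map f : WittVector p S →+* WittVector p R) χ → ψ = χ) ∧
      ∀ χ : Dieu.BC (WittVector.map f : WittVector p S →+* WittVector p R) P →ₗ[WittVector p R] Dieu.BC (WittVector.map f : WittVector p S →+* WittVector p R) P', W4c1extbt610.IsHom DR DR' χ →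
        ∃ (n : ℕ) (ψ : P →ₗ[WittVector p S] P'), W4c1extbt610.IsHom D D' ψ ∧
          Dieu.BC.map (WittVector.map f : WittVector p S →+* WittVector p R) ψ = ((p : WittVector p R) ^ n) • χ := by
    classical
    haveI := D'.finite
    haveI := D'.projective
    haveI := D.finite
    haveI := D.projective
    have hφ : Function.Surjective (WittVector.map f : WittVector p S →+* WittVector p R) := WittVector.map_surjective f hf
    obtain ⟨n, π, hπ⟩ := Module.Finite.exists_fin' (WittVector p S) P'
    obtain ⟨s, hs⟩ := Module.projective_lifting_property π LinearMap.id hπ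
    obtain ⟨m, π₁, hπ₁⟩ := Module.Finite.exists_fin' (WittVector p S) P
    obtain ⟨s₁, hs₁⟩ := Module.projective_lifting_property π₁ LinearMap.id hπ₁
    have hse : ∀ z, ∑ i, s z i • π (Pi.single i 1) = z := fun z => by
      conv_rhs => rw [← show π (s z) = z from LinearMap.congr_fun hs z, pi_eq_sum_univ' (s z)]
      simp
    have hkerK : ∀ z : P', Dieu.BC.tmul (WittVector.map f : WittVector p S →+* WittVector p R) 1 z = 0 →
        z ∈ DispLib.Rigid.K p (RingHom.ker f) • (⊤ : Submodule (WittVector p S) P') := by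
      intro z hz
      refine DispLib.Rigid.mem_K_smul_of_forall (fun i => (LinearMap.proj i).comp s) _ hse fun i => ?_
      rw [DispLib.Rigid.mem_K]
      intro j
      have h1 := congrArg (DispLib.DispBC.coord f s i) hz
      rw [DispLib.DispBC.coord_tmul, one_mul, map_zero] at h1
      rw [RingHom.mem_ker, ← WittVector.map_coeff]
      exact (congrArg (fun w : WittVector p R => w.coeff j) h1).trans (WittVector.zero_coeff p R j)
    have hsurj : ∀ z : Dieu.BC (WittVector.map f : WittVector p S →+* WittVector p R) P', ∃ y : P', Dieu.BC.tmul (WittVector.map f : WittVector p S →+* WittVector p R) 1 y = z := by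
      intro z
      induction z using Dieu.BC.induction_on with
      | zero => exact ⟨0, Dieu.BC.tmul_zero (WittVector.map f : WittVector p S →+* WittVector p R) 1⟩
      | tmul b x =>
        obtain ⟨a, rfl⟩ := hφ b
        exact ⟨a • x, by rw [← Dieu.BC.tmul_apply_eq]⟩
      | add z₁ z₂ h₁ h₂ =>
        obtain ⟨a, rfl⟩ := h₁
        obtain ⟨b, rfl⟩ := h₂
        exact ⟨a + b, Dieu.BC.tmul_add (WittVector.map f : WittVector p S →+* WittVector p R) 1 a b⟩
    refine ⟨fun ψ χ hψ hχ h => ?_, fun χ hχ => ?_⟩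
    · rw [← sub_eq_zero]
      refine DispLib.Rigid.eq_zero hp _ hker D D' hD (ψ - χ) (fun q => ?_) fun x => hkerK _ ?_
      · refine ⟨sub_mem (hψ.mapsTo q q.2) (hχ.mapsTo q q.2), ?_⟩
        rw [LinearMap.sub_apply, hψ.comm_Vinv, hχ.comm_Vinv, ← map_sub D'.Vinv]
        rfl
      · have h1 := LinearMap.congr_fun h (Dieu.BC.tmul (WittVector.map f : WittVector p S →+* WittVector p R) 1 x)
        rw [Dieu.BC.map_tmul, Dieu.BC.map_tmul] at h1
        rw [LinearMap.sub_apply, sub_eq_add_neg, Dieu.BC.tmul_add, Dieu.BC.tmul_neg, h1, add_neg_cancel]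
    choose y hy using fun i => hsurj (χ (Dieu.BC.tmul (WittVector.map f : WittVector p S →+* WittVector p R) 1 (π₁ (Pi.single i 1))))
    let ψ₀ : P →ₗ[WittVector p S] P' := (Fintype.linearCombination (WittVector p S) y).comp s₁
    have hψ₀ : ∀ x, Dieu.BC.tmul (WittVector.map f : WittVector p S →+* WittVector p R) 1 (ψ₀ x) = χ (Dieu.BC.tmul (WittVector.map f : WittVector p S →+* WittVector p R) 1 x) := by
      intro x
      conv_rhs => rw [← show π₁ (s₁ x) = x from LinearMap.congr_fun hs₁ x, pi_eq_sum_univ' (s₁ x)]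
      simp only [ψ₀, LinearMap.comp_apply, Fintype.linearCombination_apply, map_sum]
      rw [← Dieu.BC.ι_apply, map_sum, ← Dieu.BC.ι_apply, map_sum, map_sum]
      refine Finset.sum_congr rfl fun i _ => ?_
      rw [map_smul π₁, LinearMap.map_smulₛₗ, LinearMap.map_smulₛₗ, Dieu.BC.ι_apply, Dieu.BC.ι_apply, hy, map_smul]
    obtain ⟨N, hN⟩ := DispLib.Rigid.exists_pow_mul_eq_zero hp (RingHom.ker f) hker
    have hkill : ∀ z : P', Dieu.BC.tmul (WittVector.map f : WittVector p S →+* WittVector p R) 1 z = 0 → (p : WittVector p S) ^ N • z = 0 := fun z hz => by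
      refine Submodule.smul_induction_on (hkerK z hz) (fun a ha t _ => ?_) fun a b ha hb => by rw [smul_add, ha, hb, add_zero]
      rw [smul_smul, hN a ha, zero_smul]
    obtain ⟨D₀, hD₀, -, hle⟩ := DispLib.DispBC.exists_spec f D'
    have hDR₀ : D₀ = DR' := (DispLib.DispBC.existsUnique f D').unique hD₀ hDR'
    subst hDR₀
    have hlift : ∀ z ∈ D₀.Q, ∃ q : D'.Q, Dieu.BC.tmul (WittVector.map f : WittVector p S →+* WittVector p R) 1 (q : P') = z := by
      have hsub : ∀ z ∈ Submodule.span (WittVector p R) (Set.range fun y : D'.Q => Dieu.BC.tmul (WittVector.map f : WittVector p S →+* WittVector p R) 1 (y : P')),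
          ∃ q : D'.Q, Dieu.BC.tmul (WittVector.map f : WittVector p S →+* WittVector p R) 1 (q : P') = z := by
        intro z hz
        induction hz using Submodule.span_induction with
        | mem z hz => exact hz
        | zero => exact ⟨0, Dieu.BC.tmul_zero (WittVector.map f : WittVector p S →+* WittVector p R) 1⟩
        | add a b _ _ ha hb =>
          obtain ⟨a, rfl⟩ := ha
          obtain ⟨b, rfl⟩ := hb
          exact ⟨a + b, Dieu.BC.tmul_add (WittVector.map f : WittVector p S →+* WittVector p R) 1 _ _⟩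
        | smul r a _ ha =>
          obtain ⟨a, rfl⟩ := ha
          obtain ⟨r, rfl⟩ := hφ r
          exact ⟨r • a, by rw [Submodule.coe_smul, ← Dieu.BC.tmul_apply_eq, Dieu.BC.smul_tmul, mul_one]⟩
      intro z hz
      obtain ⟨a, ha, b, hb, rfl⟩ := Submodule.mem_sup.1 (hle hz)
      obtain ⟨qa, rfl⟩ := hsub a ha
      suffices h : ∃ q : D'.Q, Dieu.BC.tmul (WittVector.map f : WittVector p S →+* WittVector p R) 1 (q : P') = b by
        obtain ⟨qb, rfl⟩ := h
        exact ⟨qa + qb, Dieu.BC.tmul_add (WittVector.map f : WittVector p S →+* WittVector p R) 1 _ _⟩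
      refine Submodule.smul_induction_on hb (fun c hc t _ => ?_) fun u v hu hv => ?_
      · obtain ⟨w, rfl⟩ := DispLib.exists_verschiebung_eq hc
        obtain ⟨w, rfl⟩ := hφ w
        obtain ⟨t, rfl⟩ := hsurj t
        refine ⟨⟨WittVector.verschiebung w • t, D'.IV_smul_le (Submodule.smul_mem_smul (W4c1extbt610.verschiebung_mem_IV p S w) Submodule.mem_top)⟩, ?_⟩
        rw [← Dieu.BC.tmul_apply_eq, Dieu.BC.smul_tmul, mul_one, WittVector.map_verschiebung]
      · obtain ⟨u, rfl⟩ := hu
        obtain ⟨v, rfl⟩ := hv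
        exact ⟨u + v, Dieu.BC.tmul_add (WittVector.map f : WittVector p S →+* WittVector p R) 1 _ _⟩
    have hmem : ∀ x : D.Q, Dieu.BC.tmul (WittVector.map f : WittVector p S →+* WittVector p R) 1 (x : P) ∈ DR.Q := fun x => by
      rw [hDR.Q_eq, LinearMap.mem_ker, Dieu.bcQuotMap_tmul,
        show D.Q.mkQ (x : P) = 0 from (Submodule.Quotient.mk_eq_zero _).2 x.2, Dieu.BC.tmul_zero]
    refine ⟨N, (p : WittVector p S) ^ N • ψ₀, ?_, ?_⟩
    · have hq : ∀ x : D.Q, ∃ q : D'.Q, (p : WittVector p S) ^ N • ψ₀ (x : P) = (p : WittVector p S) ^ N • (q : P') ∧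
          (p : WittVector p S) ^ N • ψ₀ (D.Vinv x) = (p : WittVector p S) ^ N • D'.Vinv q := by
        intro x
        obtain ⟨q, hq⟩ := hlift _ (hχ.mapsTo _ (hmem x))
        refine ⟨q, sub_eq_zero.1 ?_, sub_eq_zero.1 ?_⟩
        · rw [← smul_sub]
          refine hkill _ ?_
          rw [sub_eq_add_neg, Dieu.BC.tmul_add, Dieu.BC.tmul_neg, hψ₀, hq, add_neg_cancel]
        · rw [← smul_sub]
          refine hkill _ ?_
          have h1 : Dieu.BC.tmul (WittVector.map f : WittVector p S →+* WittVector p R) 1 (q : P') ∈ D₀.Q := hq ▸ hχ.mapsTo _ (hmem x)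
          have h2 : D₀.Vinv ⟨_, h1⟩ = D₀.Vinv ⟨_, hχ.mapsTo _ (hmem x)⟩ := congrArg D₀.Vinv (Subtype.ext hq)
          have h3 := hχ.comm_Vinv ⟨_, hmem x⟩
          rw [hDR.Vinv_tmul 1 x (hmem x), map_one] at h3
          rw [hDR'.Vinv_tmul 1 q h1, map_one] at h2
          rw [sub_eq_add_neg, Dieu.BC.tmul_add, Dieu.BC.tmul_neg, hψ₀, h3, h2, add_neg_cancel]
      have hmaps : ∀ x : P, x ∈ D.Q → ((p : WittVector p S) ^ N • ψ₀) x ∈ D'.Q := fun x hx => by
        obtain ⟨q, hq1, -⟩ := hq ⟨x, hx⟩
        rw [LinearMap.smul_apply, hq1]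
        exact Submodule.smul_mem _ _ q.2
      refine ⟨hmaps, fun x => ?_, fun x => ?_⟩
      · rw [LinearMap.smul_apply, LinearMap.smul_apply, LinearMap.map_smulₛₗ, map_pow, map_natCast, ← sub_eq_zero, ← smul_sub]
        refine hkill _ ?_
        have h3 := hχ.comm_F (Dieu.BC.tmul (WittVector.map f : WittVector p S →+* WittVector p R) 1 x)
        rw [hDR.F_tmul, map_one, ← hψ₀ x, hDR'.F_tmul, map_one] at h3
        rw [sub_eq_add_neg, Dieu.BC.tmul_add, Dieu.BC.tmul_neg, hψ₀, h3, add_neg_cancel]
      · obtain ⟨q, hq1, hq2⟩ := hq x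
        have h4 : D'.Vinv ⟨((p : WittVector p S) ^ N • ψ₀) (x : P), hmaps x x.2⟩ = D'.Vinv ((p : WittVector p S) ^ N • q) :=
          congrArg D'.Vinv (Subtype.ext hq1)
        rw [h4, LinearMap.smul_apply, hq2, LinearMap.map_smulₛₗ, map_pow, map_natCast]
    · refine Dieu.BC.ext (WittVector.map f : WittVector p S →+* WittVector p R) fun x => ?_
      rw [Dieu.BC.map_tmul, LinearMap.smul_apply, LinearMap.smul_apply, ← Dieu.BC.tmul_apply_eq,
        Dieu.BC.tmul_eq_smul_tmul_one (WittVector.map f : WittVector p S →+* WittVector p R), map_pow, map_natCast, hψ₀]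

end Groth.Agent.S16543
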