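import Groth.Statements.S16544
import Groth.Agent.DispLib.Rigidity
import Mathlib.RingTheory.Nilpotent.Lemmas
-- import your own Groth.Agent.* helpers here

set_option autoImplicit false
universe u v
open Disp

namespace Groth.Agent.S16544

/-- Let p be a prime and S a commutative ring in which p is nilpotent and whose nilradical (the ideal of
nilpotent elements) is a nilpotent ideal; let (P, Q, F, V⁻¹) and (P', Q', F', V'⁻¹) be displays over
S, i.e. 3n-displays whose operators V# satisfy the nilpotence condition. Then the group of
homomorphisms of displays from P to P' has no p-torsion: a W(S)-linear ψ : P → P' which is a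
homomorphism of 3n-displays and satisfies p·ψ = 0 is zero. (The published statement says
torsion-free; primes other than p are units in S, and the published proof treats the prime p.) -/
theorem result (p : ℕ) [Fact p.Prime]
    (S : Type u) [CommRing S] (hp : IsNilpotent (p : S)) (hn : IsNilpotent (nilradical S))
    (P P' : Type v) [AddCommGroup P] [Module (WittVector p S) P] [AddCommGroup P'] [Module (WittVector p S) P']
    (D : W4c1extbt610.Display3n p S P) (D' : W4c1extbt610.Display3n p S P')
    (hD : Dieu.IsDisplay D) (hD' : Dieu.IsDisplay D')
    (ψ : P →ₗ[WittVector p S] P') (hψ : W4c1extbt610.IsHom D D' ψ)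
    (h : (p : WittVector p S) • ψ = 0) : ψ = 0 := by
    classical
    haveI := D'.finite
    haveI := D'.projective
    obtain ⟨n, π, hπ⟩ := Module.Finite.exists_fin' (WittVector p S) P'
    obtain ⟨s, hs⟩ := Module.projective_lifting_property π LinearMap.id hπ
    refine DispLib.Rigid.eq_zero hp (nilradical S) hn D D' hD ψ (fun q => ⟨hψ.mapsTo q q.2, hψ.comm_Vinv q⟩) fun x => ?_
    refine DispLib.Rigid.mem_K_smul_of_forall (fun i => (LinearMap.proj i).comp s) (fun i => π (Pi.single i 1)) (fun z => ?_) fun i => ?_
    · conv_rhs => rw [← show π (s z) = z from LinearMap.congr_fun hs z, pi_eq_sum_univ' (s z)]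
      simp
    · rw [DispLib.Rigid.mem_K]
      intro j
      set y := (LinearMap.proj i).comp s (ψ x)
      have hy : (p : WittVector p S) * y = 0 := by
        have h1 := congrArg ((LinearMap.proj i).comp s) (LinearMap.congr_fun h x)
        rw [LinearMap.smul_apply, map_smul, LinearMap.zero_apply, map_zero] at h1
        exact h1
      let g := Ideal.Quotient.mk (nilradical S)
      haveI : IsReduced (S ⧸ nilradical S) :=
        (Ideal.isRadical_iff_quotient_reduced _).1 (Ideal.radical_isRadical ⊥)
      rw [← Ideal.Quotient.eq_zero_iff_mem]
      rcases subsingleton_or_nontrivial (S ⧸ nilradical S) with hsub | hnt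
      · exact Subsingleton.elim _ _
      haveI : CharP (S ⧸ nilradical S) p := (CharP.charP_iff_prime_eq_zero (Fact.out : p.Prime)).2 (by
        rw [← map_natCast g]
        exact Ideal.Quotient.eq_zero_iff_mem.2 hp)
      have h2 : (WittVector.map g y) * (p : WittVector p (S ⧸ nilradical S)) = 0 := by
        rw [← map_natCast (WittVector.map g) p, ← map_mul, mul_comm, hy, map_zero]
      rw [← WittVector.verschiebung_frobenius] at h2
      have h3 : WittVector.frobenius (WittVector.map g y) = 0 :=
        WittVector.verschiebung_injective p _ (by rw [h2, map_zero])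
      have h4 := congrArg (fun z : WittVector p (S ⧸ nilradical S) => z.coeff j) h3
      simp only [WittVector.coeff_frobenius_charP, WittVector.map_coeff, WittVector.zero_coeff] at h4
      exact eq_zero_of_pow_eq_zero h4

end Groth.Agent.S16544
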