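import Groth.Statements.S16545
import Groth.Agent.S16542
import Groth.Agent.DispLib.BaseChange
import Mathlib.RingTheory.TensorProduct.IncludeLeftSubRight

set_option autoImplicit false
universe u v
open Disp

namespace Groth.Agent.S16545

/-- Let p be a prime, S → R a faithfully flat homomorphism of commutative rings with p nilpotent in S,
ι₁, ι₂ : R → R ⊗_S R the two coprojections, and (P, Q, F, V⁻¹), (P', Q', F', V'⁻¹) displays over S
with base changes (P_R, Q_R, F_R, V_R⁻¹) and (P'_R, Q'_R, F'_R, V'_R⁻¹) along S → R (the 3n-display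
structures on W(R) ⊗_{W(S)} P and W(R) ⊗_{W(S)} P' with Q_R = ker(P_R → R ⊗_S P/Q), F_R(w ⊗ x) =
σ(w) ⊗ F x, V_R⁻¹(w ⊗ y) = σ(w) ⊗ V⁻¹ y for y ∈ Q, V_R⁻¹(V(w) ⊗ x) = w ⊗ F x, and likewise for P').
Let χ : P_R → P'_R be a homomorphism of 3n-displays whose two scalar extensions along W(ι₁) and
W(ι₂) agree, after the modules W(R ⊗_S R) ⊗_{W(ι_i),W(R)} (W(R) ⊗_{W(S)} P) are mapped to W(R ⊗_S R)
⊗_{W(S)} P by the canonical maps u ⊗ (w ⊗ x) ↦ u·W(ι_i)(w) ⊗ x (and likewise for P'). Then there is
exactly one homomorphism of 3n-displays ψ : P → P' over S with id ⊗ ψ = χ: the sequence 0 → Hom(P,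
P') → Hom(P_R, P'_R) ⇉ Hom(P_{R⊗R}, P'_{R⊗R}) is exact. The hypotheses e₁, e₂ record that both
composite ring maps W(S) → W(R) → W(R ⊗_S R) equal W(S → R ⊗_S R); they serve to identify targets. -/
theorem result (p : ℕ) [Fact p.Prime]
    (S R : Type u) [CommRing S] [CommRing R] [Algebra S R] [Module.FaithfullyFlat S R] (hp : IsNilpotent (p : S))
    (e₁ : (WittVector.map (Algebra.TensorProduct.includeLeftRingHom : R →+* TensorProduct S R R) : WittVector p R →+* WittVector p (TensorProduct S R R)).comp (WittVector.map (algebraMap S R) : WittVector p S →+* WittVector p R) = (WittVector.map (algebraMap S (TensorProduct S R R)) : WittVector p S →+* WittVector p (TensorProduct S R R)))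
    (e₂ : (WittVector.map ((Algebra.TensorProduct.includeRight : R →ₐ[S] TensorProduct S R R) : R →+* TensorProduct S R R) : WittVector p R →+* WittVector p (TensorProduct S R R)).comp (WittVector.map (algebraMap S R) : WittVector p S →+* WittVector p R) = (WittVector.map (algebraMap S (TensorProduct S R R)) : WittVector p S →+* WittVector p (TensorProduct S R R)))
    (P P' : Type v) [AddCommGroup P] [Module (WittVector p S) P] [AddCommGroup P'] [Module (WittVector p S) P']
    (D : W4c1extbt610.Display3n p S P) (D' : W4c1extbt610.Display3n p S P')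
    (hD : Dieu.IsDisplay D) (hD' : Dieu.IsDisplay D')
    (DR : W4c1extbt610.Display3n p R (Dieu.BC (WittVector.map (algebraMap S R) : WittVector p S →+* WittVector p R) P)) (hDR : Dieu.IsDispBaseChange (algebraMap S R) D DR)
    (DR' : W4c1extbt610.Display3n p R (Dieu.BC (WittVector.map (algebraMap S R) : WittVector p S →+* WittVector p R) P')) (hDR' : Dieu.IsDispBaseChange (algebraMap S R) D' DR')
    (χ : Dieu.BC (WittVector.map (algebraMap S R) : WittVector p S →+* WittVector p R) P →ₗ[WittVector p R] Dieu.BC (WittVector.map (algebraMap S R) : WittVector p S →+* WittVector p R) P') (hχ : W4c1extbt610.IsHom DR DR' χ)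
    (hdesc : ∀ (z₁ : Dieu.BC (WittVector.map (Algebra.TensorProduct.includeLeftRingHom : R →+* TensorProduct S R R) : WittVector p R →+* WittVector p (TensorProduct S R R)) (Dieu.BC (WittVector.map (algebraMap S R) : WittVector p S →+* WittVector p R) P)) (z₂ : Dieu.BC (WittVector.map ((Algebra.TensorProduct.includeRight : R →ₐ[S] TensorProduct S R R) : R →+* TensorProduct S R R) : WittVector p R →+* WittVector p (TensorProduct S R R)) (Dieu.BC (WittVector.map (algebraMap S R) : WittVector p S →+* WittVector p R) P)),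
      (Dieu.BC.castHom (P := P) e₁).comp (Dieu.BC.lift (WittVector.map (Algebra.TensorProduct.includeLeftRingHom : R →+* TensorProduct S R R) : WittVector p R →+* WittVector p (TensorProduct S R R)) (Dieu.BC.push (WittVector.map (algebraMap S R) : WittVector p S →+* WittVector p R) (WittVector.map (Algebra.TensorProduct.includeLeftRingHom : R →+* TensorProduct S R R) : WittVector p R →+* WittVector p (TensorProduct S R R)))) z₁ = (Dieu.BC.castHom (P := P) e₂).comp (Dieu.BC.lift (WittVector.map ((Algebra.TensorProduct.includeRight : R →ₐ[S] TensorProduct S R R) : R →+* TensorProduct S R R) : WittVector p R →+* WittVector p (TensorProduct S R R)) (Dieu.BC.push (WittVector.map (algebraMap S R) : WittVector p S →+* WittVector p R) (WittVector.map ((Algebra.TensorProduct.includeRight : R →ₐ[S] TensorProduct S R R) : R →+* TensorProduct S R R) : WittVector p R →+* WittVector p (TensorProduct S R R)))) z₂ →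
        (Dieu.BC.castHom (P := P') e₁).comp (Dieu.BC.lift (WittVector.map (Algebra.TensorProduct.includeLeftRingHom : R →+* TensorProduct S R R) : WittVector p R →+* WittVector p (TensorProduct S R R)) (Dieu.BC.push (WittVector.map (algebraMap S R) : WittVector p S →+* WittVector p R) (WittVector.map (Algebra.TensorProduct.includeLeftRingHom : R →+* TensorProduct S R R) : WittVector p R →+* WittVector p (TensorProduct S R R)))) (Dieu.BC.map (WittVector.map (Algebra.TensorProduct.includeLeftRingHom : R →+* TensorProduct S R R) : WittVector p R →+* WittVector p (TensorProduct S R R)) χ z₁) =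
          (Dieu.BC.castHom (P := P') e₂).comp (Dieu.BC.lift (WittVector.map ((Algebra.TensorProduct.includeRight : R →ₐ[S] TensorProduct S R R) : R →+* TensorProduct S R R) : WittVector p R →+* WittVector p (TensorProduct S R R)) (Dieu.BC.push (WittVector.map (algebraMap S R) : WittVector p S →+* WittVector p R) (WittVector.map ((Algebra.TensorProduct.includeRight : R →ₐ[S] TensorProduct S R R) : R →+* TensorProduct S R R) : WittVector p R →+* WittVector p (TensorProduct S R R)))) (Dieu.BC.map (WittVector.map ((Algebra.TensorProduct.includeRight : R →ₐ[S] TensorProduct S R R) : R →+* TensorProduct S R R) : WittVector p R →+* WittVector p (TensorProduct S R R)) χ z₂)) :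
    ∃! ψ : P →ₗ[WittVector p S] P', W4c1extbt610.IsHom D D' ψ ∧ Dieu.BC.map (WittVector.map (algebraMap S R) : WittVector p S →+* WittVector p R) ψ = χ := by
  classical
  have key : ∀ (M : Type v) [AddCommGroup M] [Module (WittVector p S) M] [Module.Finite (WittVector p S) M]
      [Module.Projective (WittVector p S) M],
      Function.Injective (Dieu.BC.ι (WittVector.map (algebraMap S R) : WittVector p S →+* WittVector p R) M) ∧
      ∀ z : Dieu.BC (WittVector.map (algebraMap S R) : WittVector p S →+* WittVector p R) M,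
        Dieu.BC.castHom (P := M) e₁ (Dieu.BC.push _ _ z) = Dieu.BC.castHom (P := M) e₂ (Dieu.BC.push _ _ z) →
        ∃ y : M, Dieu.BC.tmul _ 1 y = z := by
    intro M _ _ _ _
    obtain ⟨n, π, hπ⟩ := Module.Finite.exists_fin' (WittVector p S) M
    obtain ⟨s, hs⟩ := Module.projective_lifting_property π LinearMap.id hπ
    let e : Fin n → M := fun i => π (Pi.single i 1)
    have hse : ∀ x, ∑ i, s x i • e i = x := fun x => by
      conv_rhs => rw [← show π (s x) = x from LinearMap.congr_fun hs x, pi_eq_sum_univ' (s x)]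
      simp [e]
    have hinjS : Function.Injective (algebraMap S R) := FaithfulSMul.algebraMap_injective S R
    have hinj := WittVector.map_injective (p := p) _ hinjS
    refine ⟨fun a b hab => ?_, fun z hz => ?_⟩
    · rw [← hse a, ← hse b]
      refine Finset.sum_congr rfl fun i _ => ?_
      have h := congrArg (DispLib.DispBC.coord (algebraMap S R) s i) hab
      rw [Dieu.BC.ι_apply, Dieu.BC.ι_apply, DispLib.DispBC.coord_tmul, DispLib.DispBC.coord_tmul, one_mul, one_mul] at h
      rw [hinj h]
    · have hc₁ : ∀ (i : Fin n) z', DispLib.DispBC.coord (algebraMap S (TensorProduct S R R)) s i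
          (Dieu.BC.castHom (P := M) e₁ (Dieu.BC.push _ _ z')) =
          WittVector.map Algebra.TensorProduct.includeLeftRingHom (DispLib.DispBC.coord (algebraMap S R) s i z') := fun i z' => by
        induction z' using Dieu.BC.induction_on with
        | zero => simp only [map_zero]
        | tmul b x =>
          rw [Dieu.BC.push_tmul, Dieu.BC.castHom_tmul, DispLib.DispBC.coord_tmul, DispLib.DispBC.coord_tmul, map_mul,
            ← RingHom.congr_fun e₁ (s x i)]
          rfl
        | add a b ha hb => simp only [map_add, ha, hb]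
      have hc₂ : ∀ (i : Fin n) z', DispLib.DispBC.coord (algebraMap S (TensorProduct S R R)) s i
          (Dieu.BC.castHom (P := M) e₂ (Dieu.BC.push _ _ z')) =
          WittVector.map ((Algebra.TensorProduct.includeRight : R →ₐ[S] TensorProduct S R R) : R →+* TensorProduct S R R) (DispLib.DispBC.coord (algebraMap S R) s i z') := fun i z' => by
        induction z' using Dieu.BC.induction_on with
        | zero => simp only [map_zero]
        | tmul b x =>
          rw [Dieu.BC.push_tmul, Dieu.BC.castHom_tmul, DispLib.DispBC.coord_tmul, DispLib.DispBC.coord_tmul, map_mul,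
            ← RingHom.congr_fun e₂ (s x i)]
          rfl
        | add a b ha hb => simp only [map_add, ha, hb]
      have hw : ∀ i, ∃ w : WittVector p S, WittVector.map (algebraMap S R) w = DispLib.DispBC.coord (algebraMap S R) s i z := by
        intro i
        have h := congrArg (DispLib.DispBC.coord (algebraMap S (TensorProduct S R R)) s i) hz
        rw [hc₁, hc₂] at h
        have hk : ∀ k, (DispLib.DispBC.coord (algebraMap S R) s i z).coeff k ∈ Set.range (algebraMap S R) := fun k => by
          have h' := congrArg (fun v : WittVector p (TensorProduct S R R) => v.coeff k) h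
          simp only [WittVector.map_coeff] at h'
          exact ((Algebra.IsEffective.of_faithfullyFlat (R := S) (S := R)) _).1 (by
            rw [Algebra.TensorProduct.includeLeftSubRight_apply, sub_eq_zero]; exact h')
        choose a ha using hk
        exact ⟨WittVector.mk p a, WittVector.ext fun k => by rw [WittVector.map_coeff, WittVector.coeff_mk, ha]⟩
      choose w hw using hw
      refine ⟨∑ i, w i • e i, ?_⟩
      rw [← Dieu.BC.ι_apply, map_sum]
      conv_rhs => rw [← DispLib.DispBC.sum_coord (algebraMap S R) s e hse z]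
      refine Finset.sum_congr rfl fun i _ => ?_
      rw [LinearMap.map_smulₛₗ, hw, Dieu.BC.ι_apply]
  haveI := D.finite; haveI := D.projective; haveI := D'.finite; haveI := D'.projective
  obtain ⟨hinj', heq'⟩ := key P'
  have hex : ∀ x : P, ∃ y : P', Dieu.BC.tmul _ 1 y = χ (Dieu.BC.tmul _ 1 x) := fun x => by
    refine heq' _ ?_
    have h := hdesc (Dieu.BC.tmul _ 1 (Dieu.BC.tmul _ 1 x)) (Dieu.BC.tmul _ 1 (Dieu.BC.tmul _ 1 x)) (by
      rw [LinearMap.comp_apply, LinearMap.comp_apply, Dieu.BC.lift_tmul, Dieu.BC.lift_tmul, one_smul, one_smul,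
        Dieu.BC.push_tmul, Dieu.BC.push_tmul, Dieu.BC.castHom_tmul, Dieu.BC.castHom_tmul, map_one, map_one])
    rwa [Dieu.BC.map_tmul, Dieu.BC.map_tmul, LinearMap.comp_apply, LinearMap.comp_apply, Dieu.BC.lift_tmul,
      Dieu.BC.lift_tmul, one_smul, one_smul] at h
  choose f hf using hex
  let ψ : P →ₗ[WittVector p S] P' :=
    { toFun := f
      map_add' := fun a b => hinj' (by
        rw [map_add, Dieu.BC.ι_apply, Dieu.BC.ι_apply, Dieu.BC.ι_apply, hf, hf, hf, Dieu.BC.tmul_add, map_add])
      map_smul' := fun a b => hinj' (by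
        rw [RingHom.id_apply, LinearMap.map_smulₛₗ, Dieu.BC.ι_apply, Dieu.BC.ι_apply, hf, hf, ← Dieu.BC.tmul_apply_eq,
          Dieu.BC.tmul_eq_smul_tmul_one, map_smul]) }
  have hψ : Dieu.BC.map (WittVector.map (algebraMap S R) : WittVector p S →+* WittVector p R) ψ = χ :=
    Dieu.BC.ext _ fun x => by rw [Dieu.BC.map_tmul]; exact hf x
  have hfrob : (WittVector.frobenius : WittVector p R →+* WittVector p R) 1 = 1 := map_one _
  have hQ : ∀ q : P, q ∈ D.Q → ψ q ∈ D'.Q := fun q hq => by
    rw [S16542.result p S R hp P' D' hD' DR' hDR' (ψ q), Dieu.BC.ι_apply]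
    show Dieu.BC.tmul (WittVector.map (algebraMap S R) : WittVector p S →+* WittVector p R) 1 (f q) ∈ _
    rw [hf q]
    have h := (S16542.result p S R hp P D hD DR hDR q).1 hq
    rw [Dieu.BC.ι_apply] at h
    exact hχ.mapsTo _ h
  refine ⟨ψ, ⟨⟨hQ, fun x => hinj' ?_, fun q => hinj' ?_⟩, hψ⟩, ?_⟩
  · rw [Dieu.BC.ι_apply, Dieu.BC.ι_apply]
    show Dieu.BC.tmul (WittVector.map (algebraMap S R) : WittVector p S →+* WittVector p R) 1 (f (D.F x)) = Dieu.BC.tmul _ 1 (D'.F (f x))
    rw [hf]
    have h1 := hDR.F_tmul 1 x
    have h2 := hDR'.F_tmul 1 (f x)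
    rw [hfrob] at h1 h2
    rw [← h1, hχ.comm_F, ← hf x, h2]
  · rw [Dieu.BC.ι_apply, Dieu.BC.ι_apply]
    show Dieu.BC.tmul (WittVector.map (algebraMap S R) : WittVector p S →+* WittVector p R) 1 (f (D.Vinv q)) = Dieu.BC.tmul _ 1 (D'.Vinv ⟨f q, hQ q q.2⟩)
    rw [hf]
    have hq := (S16542.result p S R hp P D hD DR hDR q).1 q.2
    rw [Dieu.BC.ι_apply] at hq
    have hq' : Dieu.BC.tmul (WittVector.map (algebraMap S R) : WittVector p S →+* WittVector p R) 1 (f q) ∈ DR'.Q :=
      hf q ▸ hχ.mapsTo _ hq
    have h1 := hDR.Vinv_tmul 1 q hq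
    have h2 := hDR'.Vinv_tmul 1 ⟨f q, hQ q q.2⟩ hq'
    rw [hfrob] at h1 h2
    rw [← h1, hχ.comm_Vinv]
    exact (congrArg DR'.Vinv (Subtype.ext (hf q).symm)).trans h2
  · rintro ψ' ⟨-, hψ'⟩
    refine LinearMap.ext fun x => hinj' ?_
    have h := LinearMap.congr_fun hψ' (Dieu.BC.tmul _ 1 x)
    rw [Dieu.BC.map_tmul] at h
    rw [Dieu.BC.ι_apply, Dieu.BC.ι_apply, h]
    exact (hf x).symm

end Groth.Agent.S16545
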