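import Groth.Statements.S16546
import Groth.Agent.DispLib.BlockNilp
-- import your own Groth.Agent.* helpers here

set_option autoImplicit false
universe u v w
open Disp

namespace Groth.Agent.S16546

/-- Let p be a prime and R a commutative ring in which p is nilpotent (in particular every prime number
other than p is a unit in R); write W = W(R) with Frobenius σ, Verschiebung V, I_R = V(W) and w₀ : W
→ R for the zeroth Witt component. Let (P, Q, F, V⁻¹) be a 3n-display over R with a normal
decomposition P = L ⊕ T, Q = L + I_R·T in which T and L are free with finite bases (t_j) and (l_k).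
Let α be the square matrix over W, indexed by the disjoint union of the two index sets, such that
F(t_j) = Σ_i α_{i,j} e_i and V⁻¹(l_k) = Σ_i α_{i,k} e_i, where (e_i) is the basis of P formed by the
t_j followed by the l_k, and let β be a two-sided inverse of α. Let B be the square block of β on
the L-indices, reduced to R/pR through w₀, and write B^{(p^i)} for the matrix whose entries are the
p^i-th powers of those of B. Then (P, Q, F, V⁻¹) is a display, i.e. its operator V# satisfies the
nilpotence condition, if and only if B^{(p^{N-1})} ⋯ B^{(p)} · B = 0 for some N ≥ 1. -/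
theorem result (p : ℕ) [Fact p.Prime] (R : Type u) [CommRing R]
    (hR : ∀ ℓ : ℕ, ℓ.Prime → ℓ ≠ p → IsUnit (ℓ : R)) (hp : IsNilpotent (p : R))
    (P : Type v) [AddCommGroup P] [Module (WittVector p R) P] (D : W4c1extbt610.Display3n p R P)
    (L T : Submodule (WittVector p R) P) (hLT : IsCompl L T)
    (hQ : D.Q = L ⊔ W4c1extbt610.IV p R • T) (hLQ : L ≤ D.Q)
    (ιT ιL : Type w) [Fintype ιT] [Fintype ιL] [DecidableEq ιT] [DecidableEq ιL]
    (bT : Module.Basis ιT (WittVector p R) T) (bL : Module.Basis ιL (WittVector p R) L)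
    (α β : Matrix (ιT ⊕ ιL) (ιT ⊕ ιL) (WittVector p R)) (hαβ : α * β = 1) (hβα : β * α = 1)
    (hF : ∀ j : ιT, D.F (bT j : P) =
      Finset.univ.sum fun i : ιT ⊕ ιL => α i (Sum.inl j) • Sum.elim (fun a : ιT => (bT a : P)) (fun a : ιL => (bL a : P)) i)
    (hV : ∀ k : ιL, D.Vinv ⟨(bL k : P), hLQ (bL k).2⟩ =
      Finset.univ.sum fun i : ιT ⊕ ιL => α i (Sum.inr k) • Sum.elim (fun a : ιT => (bT a : P)) (fun a : ιL => (bL a : P)) i) :
    Dieu.IsDisplay D ↔
      ∃ N : ℕ, 0 < N ∧
        (((List.range N).reverse.map fun i : ℕ =>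
            (Matrix.of fun k l : ιL =>
                Ideal.Quotient.mk (Ideal.span {(p : R)}) (WittVector.constantCoeff (β (Sum.inr k) (Sum.inr l)))).map
              fun x : R ⧸ Ideal.span {(p : R)} => x ^ p ^ i).prod
          = 0) := by
    classical
    let b : Module.Basis (ιT ⊕ ιL) (WittVector p R) P :=
      (bT.prod bL).map (Submodule.prodEquivOfIsCompl T L hLT.symm)
    have hb : ∀ i, b i = Sum.elim (fun a : ιT => (bT a : P)) (fun a : ιL => (bL a : P)) i := by
      rintro (a | a) <;> simp [b]
    obtain ⟨Vs, hVs⟩ := DispLib.exists_isVSharp D hQ hp hLT hLQ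
    have hF' : ∀ j, D.F (bT j : P) = ∑ i, α i (Sum.inl j) • b i := fun j => by simp only [hb]; exact hF j
    have hV' : ∀ k, D.Vinv ⟨(bL k : P), hLQ (bL k).2⟩ = ∑ i, α i (Sum.inr k) • b i := fun k => by simp only [hb]; exact hV k
    let g : ιT ⊕ ιL → P := Sum.elim (fun a => D.F (bT a : P)) fun a => D.Vinv ⟨(bL a : P), hLQ (bL a).2⟩
    have hg : ∀ j, g j = ∑ i, α i j • b i := by
      rintro (j | k)
      exacts [hF' j, hV' k]
    have hinv : ∀ c, b c = ∑ j, β j c • g j := by
      intro c
      have h1 : ∀ j, β j c • g j = ∑ i, (α i j * β j c) • b i := fun j => by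
        rw [hg, Finset.smul_sum]
        exact Finset.sum_congr rfl fun i _ => by rw [smul_smul, mul_comm]
      rw [Finset.sum_congr rfl fun j _ => h1 j, Finset.sum_comm]
      simp only [← Finset.sum_smul]
      rw [Finset.sum_congr rfl fun i _ => congrArg (· • b i) ((Matrix.mul_apply (M := α) (N := β) (i := i) (k := c)).symm), hαβ]
      simp [Matrix.one_apply]
    have hV0 : ∀ r c, DispLib.BlockNilp.mat b Vs 0 r c =
        Sum.elim (fun _ => 0) (fun k => DispLib.BlockNilp.chi p R (β (Sum.inr k) c)) r := by
      intro r c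
      rw [DispLib.BlockNilp.mat, Matrix.of_apply, Dieu.vSharpPow_zero_apply, hinv c]
      simp only [map_sum, map_add, Fintype.sum_sum_type, g, Sum.elim_inl, Sum.elim_inr, hVs.app_smul_F, hVs.app_smul_Vinv,
        map_smul, Dieu.BC.castHom_tmul, smul_eq_mul, map_mul, DispLib.BlockNilp.coordN_tmul]
      have e1 : ∀ a, (bT a : P) = b (Sum.inl a) := fun a => (hb (Sum.inl a)).symm
      have e2 : ∀ a, (bL a : P) = b (Sum.inr a) := fun a => (hb (Sum.inr a)).symm
      simp only [e1, e2, Module.Basis.repr_self, map_natCast, DispLib.BlockNilp.p_eq_zero, zero_mul,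
        Finset.sum_const_zero, zero_add]
      rcases r with t | k
      · refine Finset.sum_eq_zero fun a _ => ?_
        rw [Finsupp.single_eq_of_ne (by simp), map_zero, map_zero, mul_zero]
      · rw [Finset.sum_eq_single k (fun a _ ha => by rw [Finsupp.single_eq_of_ne (by simpa using ha.symm), map_zero, map_zero, mul_zero])
          (fun h => absurd (Finset.mem_univ k) h), Finsupp.single_eq_same, map_one, map_one, mul_one]
        rfl
    have key := DispLib.BlockNilp.exists_mat_eq_zero_iff b Vs fun t c => by rw [hV0]; rfl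
    have hB : (Matrix.of fun k l => DispLib.BlockNilp.mat b Vs 0 (Sum.inr k) (Sum.inr l) : Matrix ιL ιL _) =
        Matrix.of fun k l : ιL => Ideal.Quotient.mk (Ideal.span {(p : R)}) (WittVector.constantCoeff (β (Sum.inr k) (Sum.inr l))) := by
      ext k l
      rw [Matrix.of_apply, Matrix.of_apply, hV0]
      rfl
    rw [hB] at key
    constructor
    · rintro ⟨Vs', hVs', n, hn⟩
      rw [DispLib.isVSharp_unique D hVs' hVs] at hn
      exact key.1 ⟨n, (DispLib.BlockNilp.vPow_mem_iff b Vs n).1 hn⟩
    · intro h
      obtain ⟨n, hn⟩ := key.2 h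
      exact ⟨Vs, hVs, n, (DispLib.BlockNilp.vPow_mem_iff b Vs n).2 hn⟩

end Groth.Agent.S16546
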