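import Groth.Statements.S6555
import Groth.Agent.SmoothReg.Omega
import Groth.Agent.SmoothReg.Scheme

set_option autoImplicit false
universe u
open CategoryTheory CategoryTheory.Limits AlgebraicGeometry
attribute [local instance] Curv2.resAlgebra Curv2.stalkAlgebra
open Curves

namespace Groth.Agent.S6555

open TensorProduct IsLocalRing

set_option backward.isDefEq.respectTransparency false
set_option backward.isDefEq.respectTransparency.types false

/-- The differential of a uniformiser is a basis. -/
theorem bijective_smul_D {k P : Type u} [Field k] [CommRing P] [Algebra k P] [IsLocalRing P]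
    [IsNoetherianRing P]
    [Algebra.FormallyEtale k (ResidueField P)] [Module.Free P Ω[P⁄k]] [Module.Finite P Ω[P⁄k]]
    (h1 : Module.finrank P Ω[P⁄k] = 1) {s : P} (hs : Irreducible s) :
    Function.Bijective fun a : P => a • KaehlerDifferential.D k P s := by
  have hcot := SmoothReg.finrank_cotangentSpace_eq (k := k) (P := P)
  rw [h1, ← IsLocalRing.spanFinrank_maximalIdeal_eq_finrank_cotangentSpace] at hcot
  obtain ⟨t, ht⟩ : ∃ t, maximalIdeal P = Ideal.span {t} := by
    have hfg : (maximalIdeal P).FG := IsNoetherian.noetherian _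
    obtain ⟨S, hS, hSe⟩ := Submodule.FG.exists_span_set_encard_eq_spanFinrank hfg
    rw [hcot] at hS
    obtain ⟨t, rfl⟩ := Set.encard_eq_one.1 (by exact_mod_cast hS)
    exact ⟨t, hSe.symm⟩
  obtain ⟨r, hr⟩ := Ideal.mem_span_singleton.1 (ht ▸ (mem_maximalIdeal s).2 hs.not_isUnit)
  have htu : ¬ IsUnit t := fun h => (mem_maximalIdeal t).1 (ht ▸ Ideal.mem_span_singleton_self t) h
  have hm : maximalIdeal P = Ideal.span {s} := by
    rw [ht]
    exact (congrArg (fun a => Ideal.span {a}) hr).symm ▸
      (Ideal.span_singleton_mul_right_unit ((hs.isUnit_or_isUnit hr).resolve_left htu) t).symm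
  let K := ResidueField P
  have hsurj : Function.Surjective (algebraMap P K) := IsLocalRing.residue_surjective
  have hs' : Function.Surjective (KaehlerDifferential.kerCotangentToTensor k P K) := fun z =>
    ((KaehlerDifferential.exact_kerCotangentToTensor_mapBaseChange k P K hsurj) z).1
      (Subsingleton.elim _ _)
  let L : P →ₗ[P] Ω[P⁄k] := LinearMap.toSpanSingleton P _ (KaehlerDifferential.D k P s)
  have hz : Function.Surjective (LinearMap.baseChange K L) := fun z => by
    obtain ⟨w, rfl⟩ := hs' z
    obtain ⟨⟨a, ha⟩, rfl⟩ := Ideal.toCotangent_surjective _ w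
    have ha' : a ∈ maximalIdeal P := (IsLocalRing.residue_eq_zero_iff a).1 (RingHom.mem_ker.1 ha)
    obtain ⟨c, rfl⟩ := Ideal.mem_span_singleton.1 (hm ▸ ha')
    refine ⟨algebraMap P K c ⊗ₜ (1 : P), ?_⟩
    rw [LinearMap.baseChange_tmul, KaehlerDifferential.kerCotangentToTensor_toCotangent]
    show algebraMap P K c ⊗ₜ ((1 : P) • KaehlerDifferential.D k P s) = (1 : K) ⊗ₜ KaehlerDifferential.D k P (s * c)
    rw [one_smul, Derivation.leibniz, tmul_add, tmul_smul, tmul_smul, smul_tmul', smul_tmul',
      ← Algebra.algebraMap_eq_smul_one, ← Algebra.algebraMap_eq_smul_one]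
    rw [show algebraMap P K s = 0 from (IsLocalRing.residue_eq_zero_iff s).2 ((mem_maximalIdeal s).2 hs.not_isUnit),
      zero_tmul, zero_add]
  have hL : Function.Surjective L := by
    rw [← LinearMap.range_eq_top]
    exact IsLocalRing.map_tensorProduct_mk_eq_top.1 (by
      rw [eq_top_iff]
      intro z _
      obtain ⟨y, rfl⟩ := hz z
      induction y using TensorProduct.induction_on with
      | zero => rw [map_zero]; exact zero_mem _
      | tmul a b =>
        obtain ⟨p, rfl⟩ := hsurj a
        rw [LinearMap.baseChange_tmul]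
        refine ⟨p • L b, Submodule.smul_mem _ _ (LinearMap.mem_range_self _ _), ?_⟩
        rw [TensorProduct.mk_apply, tmul_smul, smul_tmul', ← Algebra.algebraMap_eq_smul_one]
      | add a b p q => rw [map_add]; exact add_mem (p trivial) (q trivial))
  let e : Ω[P⁄k] ≃ₗ[P] P := LinearEquiv.ofFinrankEq _ _ (h1.trans (Module.finrank_self P).symm)
  have hb : Function.Bijective (e.toLinearMap ∘ₗ L) :=
    OrzechProperty.bijective_of_surjective_endomorphism _ (e.surjective.comp hL)
  exact (Function.Bijective.of_comp_iff' e.bijective _).1 hb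

/-- Differentials of a smooth curve are free of rank one at every point. -/
theorem free_rank_one (k : Type u) [Field k] (X : Scheme.{u}) [X.Over (Spec (CommRingCat.of k))]
    (U : X.Opens) [hsm : SmoothOfRelativeDimension 1 (U.ι ≫ (X ↘ (Spec (CommRingCat.of k))))]
    (x : X) (hxU : x ∈ U) :
    letI := Curv2.stalkAlgebra k X x
    IsNoetherianRing (X.presheaf.stalk x) ∧ Algebra.EssFiniteType k (X.presheaf.stalk x) ∧
    Module.Free (X.presheaf.stalk x) Ω[X.presheaf.stalk x⁄k] ∧
      Module.Finite (X.presheaf.stalk x) Ω[X.presheaf.stalk x⁄k] ∧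
      Module.finrank (X.presheaf.stalk x) Ω[X.presheaf.stalk x⁄k] = 1 := by
  letI := Curv2.stalkAlgebra k X x
  let f := X ↘ (Spec (CommRingCat.of k))
  obtain ⟨U₀, -, V₀, hV₀, hxV₀, e, hstd⟩ :=
    hsm.exists_isStandardSmoothOfRelativeDimension (⟨x, hxU⟩ : U)
  let V := U.ι ''ᵁ V₀
  have hV : IsAffineOpen V := hV₀.image_of_isOpenImmersion U.ι
  have hxV : x ∈ V := ⟨⟨x, hxU⟩, hxV₀, rfl⟩
  obtain rfl : U₀ = ⊤ := top_le_iff.1 fun y _ => by
    rw [Subsingleton.elim y ((U.ι ≫ f) ⟨x, hxU⟩)]
    exact e hxV₀
  letI : Algebra k Γ(X, V) := (SmoothReg.affMap f V).toAlgebra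
  have heq : (SmoothReg.affMap f V) =
      ((U.ι ≫ f).appLE ⊤ V₀ e).hom.comp (Scheme.ΓSpecIso (CommRingCat.of k)).inv.hom := by
    rw [SmoothReg.affMap]
    refine congrArg (fun g => RingHom.comp (CommRingCat.Hom.hom g) _) ?_
    rw [Scheme.Hom.comp_appLE, Scheme.Hom.appLE, Scheme.Hom.appLE, Scheme.Opens.ι_app]
    refine congrArg (f.app ⊤ ≫ ·) ?_
    exact (congrArg X.presheaf.map (Subsingleton.elim _ _)).trans (X.presheaf.map_comp _ _)
  have hstd' : RingHom.IsStandardSmoothOfRelativeDimension 1 (SmoothReg.affMap f V) := by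
    rw [heq]
    exact RingHom.isStandardSmoothOfRelativeDimension_respectsIso.2 _
      ((Scheme.ΓSpecIso (CommRingCat.of k)).symm.commRingCatIsoToRingEquiv) hstd
  haveI : Algebra.IsStandardSmoothOfRelativeDimension 1 k Γ(X, V) := hstd'
  haveI : Algebra.IsStandardSmooth k Γ(X, V) :=
    Algebra.IsStandardSmoothOfRelativeDimension.isStandardSmooth 1
  haveI : Algebra.FiniteType k Γ(X, V) := inferInstance
  let p := (hV.primeIdealOf ⟨x, hxV⟩).asIdeal
  letI := X.presheaf.algebra_section_stalk ⟨x, hxV⟩
  haveI : IsLocalization.AtPrime (X.presheaf.stalk x) p := hV.isLocalization_stalk ⟨x, hxV⟩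
  haveI : IsScalarTower k Γ(X, V) (X.presheaf.stalk x) := IsScalarTower.of_algebraMap_eq fun c => by
    change X.presheaf.germ ⊤ x trivial (Coh.toGlobal f c) = X.presheaf.germ V x hxV (SmoothReg.affMap f V c)
    exact (X.presheaf.germ_res_apply (homOfLE le_top) x hxV _).symm
  haveI : Nontrivial Γ(X, V) := (algebraMap Γ(X, V) (X.presheaf.stalk x)).domain_nontrivial
  haveI : IsNoetherianRing Γ(X, V) := Algebra.FiniteType.isNoetherianRing k Γ(X, V)
  haveI : IsNoetherianRing (X.presheaf.stalk x) :=
    IsLocalization.isNoetherianRing p.primeCompl _ inferInstance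
  haveI : Algebra.EssFiniteType Γ(X, V) (X.presheaf.stalk x) :=
    Algebra.EssFiniteType.of_isLocalization _ p.primeCompl
  haveI : Algebra.EssFiniteType k (X.presheaf.stalk x) :=
    Algebra.EssFiniteType.comp k Γ(X, V) (X.presheaf.stalk x)
  haveI : IsLocalizedModule p.primeCompl
      (KaehlerDifferential.map k k Γ(X, V) (X.presheaf.stalk x)) := inferInstance
  have hb := (Module.Free.chooseBasis Γ(X, V) Ω[Γ(X, V)⁄k]).ofIsLocalizedModule
    (X.presheaf.stalk x) p.primeCompl (KaehlerDifferential.map k k Γ(X, V) (X.presheaf.stalk x))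
  have hc : Module.finrank Γ(X, V) Ω[Γ(X, V)⁄k] = 1 := Module.finrank_eq_of_rank_eq
    (Algebra.IsStandardSmoothOfRelativeDimension.rank_kaehlerDifferential 1)
  refine ⟨inferInstance, inferInstance, Module.Free.of_basis hb, Module.Finite.of_basis hb, ?_⟩
  rw [Module.finrank_eq_card_basis hb, ← Module.finrank_eq_card_chooseBasisIndex, hc]

/-- Let X be a scheme over the field k and x ∈ X a closed point near which X → Spec k is smooth of
relative dimension 1 (on some open neighbourhood of x), with κ(x)/k separable. If s is an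
irreducible element of the local ring O_{X,x} (a discrete valuation ring, so s generates its maximal
ideal), then Ω_{O_{X,x}/k}, which is the stalk of Ω_{X/k} at x, is free of rank one with basis d s:
the map a ↦ a · d s from O_{X,x} to Ω_{O_{X,x}/k} is bijective. -/
theorem result (k : Type u) [Field k] (X : Scheme.{u}) [X.Over (Spec (CommRingCat.of k))]
    (x : X) (hx : IsClosed ({x} : Set X))
    (hsm : ∃ U : X.Opens, x ∈ U ∧ SmoothOfRelativeDimension 1 (U.ι ≫ (X ↘ (Spec (CommRingCat.of k)))))
    (hsep : Algebra.IsSeparable k (X.residueField x))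
    (s : X.presheaf.stalk x) (hs : Irreducible s) :
    Function.Bijective (fun a : X.presheaf.stalk x => a • KaehlerDifferential.D k (X.presheaf.stalk x) s) := by
  obtain ⟨U, hxU, hU⟩ := hsm
  obtain ⟨_, _, _, _, h1⟩ := free_rank_one k X U x hxU
  haveI : Algebra.EssFiniteType k (X.residueField x) := by
    haveI : IsScalarTower k (X.presheaf.stalk x) (IsLocalRing.ResidueField (X.presheaf.stalk x)) :=
      inferInstance
    exact Algebra.EssFiniteType.comp k (X.presheaf.stalk x) (IsLocalRing.ResidueField (X.presheaf.stalk x))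
  haveI : Algebra.FormallyEtale k (IsLocalRing.ResidueField (X.presheaf.stalk x)) :=
    Algebra.FormallyEtale.of_isSeparable k (X.residueField x)
  exact bijective_smul_D h1 hs

end Groth.Agent.S6555
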