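import Groth.Statements.S16548
import Groth.Agent.TameRam.Basic
import Groth.Agent.S6555
import Groth.Agent.FibDim.Minimal
import Groth.Agent.VarDim.Local
import Groth.Agent.S2768

set_option autoImplicit false
set_option backward.isDefEq.respectTransparency false
set_option backward.isDefEq.respectTransparency.types false
universe u
open CategoryTheory CategoryTheory.Limits AlgebraicGeometry
attribute [local instance] Curv2.resAlgebra
attribute [-instance] CategoryTheory.catToReflQuiver
open Curves

namespace Groth.Agent.S16548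

/-- Let k be a field, X and Y smooth over k of relative dimension one (not necessarily proper), f : X ->
Y a finite k-morphism and x a closed point of X, with y = f(x). Suppose f is tamely ramified at x:
m_y O_{X,x} = m_x^e for an integer e ≥ 2 prime to the characteristic of k, and κ(x) is separable
over κ(y). Then κ(x) is separable over k. (Consequently the field generated over k by the residue
fields of all such points is Galois over k.) -/
theorem result (k : Type u) [Field k]
    (X Y : Scheme.{u}) [X.Over (Spec (CommRingCat.of k))] [Y.Over (Spec (CommRingCat.of k))]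
    [SmoothOfRelativeDimension 1 (X ↘ Spec (CommRingCat.of k))]
    [SmoothOfRelativeDimension 1 (Y ↘ Spec (CommRingCat.of k))]
    (f : X ⟶ Y) [IsFinite f] (hf : f ≫ (Y ↘ Spec (CommRingCat.of k)) = X ↘ Spec (CommRingCat.of k))
    (x : X) (hx : IsClosed ({x} : Set X)) (e : ℕ)
    (he : (IsLocalRing.maximalIdeal (Y.presheaf.stalk (f.base x))).map (f.stalkMap x).hom =
      IsLocalRing.maximalIdeal (X.presheaf.stalk x) ^ e)
    (h2 : 2 ≤ e) (hp : ¬ ringChar k ∣ e)
    (hsep : @Algebra.IsSeparable (Y.residueField (f.base x)) (X.residueField x) _ _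
      (f.residueFieldMap x).hom.toAlgebra) :
    Algebra.IsSeparable k (X.residueField x) := by
  letI : Algebra k (X.presheaf.stalk x) := Curv2.stalkAlgebra k X x
  letI : Algebra k (Y.presheaf.stalk (f.base x)) := Curv2.stalkAlgebra k Y (f.base x)
  letI : Algebra (Y.presheaf.stalk (f.base x)) (X.presheaf.stalk x) := (f.stalkMap x).hom.toAlgebra
  haveI : IsScalarTower k (Y.presheaf.stalk (f.base x)) (X.presheaf.stalk x) :=
    IsScalarTower.of_algebraMap_eq fun c => by
      show X.presheaf.germ ⊤ x trivial (Coh.toGlobal (X ↘ Spec (CommRingCat.of k)) c) =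
        f.stalkMap x (Y.presheaf.germ ⊤ (f.base x) trivial (Coh.toGlobal (Y ↘ Spec (CommRingCat.of k)) c))
      rw [Scheme.Hom.germ_stalkMap_apply, ← hf]
      rfl
  haveI : IsLocalHom (algebraMap (Y.presheaf.stalk (f.base x)) (X.presheaf.stalk x)) :=
    inferInstanceAs (IsLocalHom (f.stalkMap x).hom)
  haveI : Algebra.IsSeparable (IsLocalRing.ResidueField (Y.presheaf.stalk (f.base x)))
      (IsLocalRing.ResidueField (X.presheaf.stalk x)) := by
    have hAlg : (IsLocalRing.ResidueField.map (f.stalkMap x).hom).toAlgebra =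
        (inferInstance : Algebra (IsLocalRing.ResidueField (Y.presheaf.stalk (f.base x)))
          (IsLocalRing.ResidueField (X.presheaf.stalk x))) :=
      Algebra.algebra_ext _ _ fun c => by
        obtain ⟨a, rfl⟩ := IsLocalRing.residue_surjective (R := Y.presheaf.stalk (f.base x)) c
        rfl
    exact (congrArg (fun i => @Algebra.IsSeparable (IsLocalRing.ResidueField (Y.presheaf.stalk (f.base x)))
      (IsLocalRing.ResidueField (X.presheaf.stalk x)) _ _ i) hAlg).mp hsep
  haveI : SmoothOfRelativeDimension 1 ((⊤ : X.Opens).ι ≫ (X ↘ Spec (CommRingCat.of k))) :=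
    IsZariskiLocalAtSource.comp ‹SmoothOfRelativeDimension 1 (X ↘ Spec (CommRingCat.of k))› _
  obtain ⟨hN, hE, hfree, hfin, h1⟩ := S6555.free_rank_one k X ⊤ x trivial
  haveI := hN
  haveI := hE
  haveI := hfree
  haveI := hfin
  let b := Module.finBasisOfFinrankEq (X.presheaf.stalk x) _ h1
  refine Groth.Agent.TameRam.isSeparable_residue_of_map_eq_pow (A := Y.presheaf.stalk (f.base x))
    (ω := b 0) ?_ ?_ he h2
  · rw [← b.span_eq]
    exact congrArg _ (Set.ext fun z => ⟨fun h => ⟨0, h.symm⟩, fun ⟨i, hi⟩ => by
      rw [← hi, Subsingleton.elim i 0]; rfl⟩)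
  · intro hb
    let p := X ↘ Spec (CommRingCat.of k)
    haveI : Smooth p := SmoothOfRelativeDimension.smooth 1 _
    have h0 : Order.coheight x = 0 := by
      have h := ringKrullDim_eq_zero_of_isField (IsLocalRing.isField_iff_maximalIdeal_eq.2 hb)
      rw [ringKrullDim_stalk_eq_coheight] at h
      exact_mod_cast h
    have hmax : Groth.Agent.FibDim.FibMax p x := fun w hw _ => by
      have h := hw.antisymm (Order.coheight_eq_zero.1 h0 hw)
      rw [h.eq]
    have h1 := Groth.Agent.FibDim.fibreDimAt_eq_rd p hmax
    rw [Groth.Agent.S2768.result 1 p x] at h1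
    have h2 : Groth.Agent.FibDim.rd p x = 1 := by exact_mod_cast h1.symm
    have h3 : (Groth.Agent.VarDim.deg p x : Cardinal) = Groth.Agent.FibDim.rd p x := by
      rw [Groth.Agent.FibDim.rd_eq_rdeg, ← Groth.Agent.VarDim.tdeg_eq_rdeg p x, ← Groth.Agent.VarDim.deg_eq_tdeg p x]
    rw [(Groth.Agent.VarDim.closedPoint_iff_deg_eq_zero p x).1 hx, h2] at h3
    simp at h3

end Groth.Agent.S16548
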