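import Groth.Statements.S16552
import Groth.Agent.H26.DedMin.Centred

set_option autoImplicit false
universe u
open CategoryTheory CategoryTheory.Limits AlgebraicGeometry
open Models

namespace Groth.Agent.S16552

/-- Let R be a discrete valuation ring with fraction field K, C a smooth proper curve over K with H^0(C,
O_C) = K, and XR, WR two models of C over R — integral normal schemes, proper and flat over Spec R,
with generic fibres identified with C through iX and iW. For a point x of either model, view its
local ring inside the function field of C (the stalk of C at its generic point η) through the
specialization map to the stalk at the image of η followed by the stalk map of iX or iW. Suppose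
that for every point ξ of WR whose closure is an irreducible component of the special fibre there is
a point ξ' of XR whose closure is an irreducible component of the special fibre and whose local ring
has the same image in the function field as that of ξ (the centre of the discrete valuation ring
O_{WR,ξ} on XR is a generic point of the special fibre). Then the identification of generic fibres
extends to an R-morphism XR -> WR. The published statement takes both models projective over R; this
row asks them only to be proper, which the argument allows. -/
theorem result
    (R : Type u) [CommRing R] [IsDomain R] [IsDiscreteValuationRing R]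
    (C : Scheme.{u}) [IsIntegral C] (fC : C ⟶ Spec (CommRingCat.of (FractionRing R)))
    (hC : Curve.IsSmoothProperCurve (FractionRing R) C fC) (hC0 : IsIso fC.appTop)
    (XR WR : Over (Spec (CommRingCat.of R))) [IsIntegral XR.left] [IsIntegral WR.left]
    (hXn : Pi1.IsNormalScheme XR.left) (hWn : Pi1.IsNormalScheme WR.left)
    [IsProper XR.hom] [Flat XR.hom] [IsProper WR.hom] [Flat WR.hom]
    (iX : C ⟶ XR.left) (hiX : IsPullback iX fC XR.hom (Spec.map (CommRingCat.ofHom (algebraMap R (FractionRing R)))))
    (iW : C ⟶ WR.left) (hiW : IsPullback iW fC WR.hom (Spec.map (CommRingCat.ofHom (algebraMap R (FractionRing R)))))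
    (H : ∀ (ξ : WR.left) (hξ : iW.base (genericPoint C) ⤳ ξ),
      closure ({ξ} : Set WR.left) ∈ Models.fibreComponents R WR →
        ∃ (ξ' : XR.left) (hξ' : iX.base (genericPoint C) ⤳ ξ'),
          closure ({ξ'} : Set XR.left) ∈ Models.fibreComponents R XR ∧
          Set.range ((iX.stalkMap (genericPoint C)).hom.comp (XR.left.presheaf.stalkSpecializes hξ').hom) =
            Set.range ((iW.stalkMap (genericPoint C)).hom.comp (WR.left.presheaf.stalkSpecializes hξ).hom)) :
    ∃ φ : XR ⟶ WR, iX ≫ φ.left = iW := by
  obtain ⟨hp, -, -, hd⟩ := hC
  haveI := hp
  exact Groth.Agent.H26.DedMin.exists_morphism_of_centred fC hd XR WR hXn iX hiX iW hiW H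

end Groth.Agent.S16552
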