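import Groth.Statements.S16555
import Groth.Agent.R1Model.Quot
import Groth.Agent.S7834
import Groth.Agent.S15544
import Groth.Agent.H23.EquidimFibres
import Groth.Agent.H23.RedSub
import Groth.Agent.PnCoh.Chow.Proper

set_option backward.isDefEq.respectTransparency false
set_option backward.isDefEq.respectTransparency.types false
set_option maxHeartbeats 1000000

set_option autoImplicit false
universe u
open CategoryTheory CategoryTheory.Limits AlgebraicGeometry
open Models TopologicalSpace

namespace Groth.Agent.S16555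

/-- Let R be a discrete valuation ring with algebraically closed residue field k, YR an integral normal
scheme of dimension 2, proper and flat over Spec R, ZR an integral normal scheme with a proper
R-morphism π : ZR -> YR which is an isomorphism over some nonempty open subset of YR, and y a closed
point of YR in the special fibre such that the local ring O_{YR,y} is a rational singularity and the
fibre π⁻¹(y) has dimension one. Then each irreducible component of π⁻¹(y) is, with its reduced
structure, a projective line over k: there is a closed immersion of P^1_k into ZR, compatible with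
the maps to Spec R, whose image is that component. The published statement takes YR to be a
projective normal model of a smooth geometrically connected curve; this row only asks YR integral,
normal, two-dimensional, proper and flat over R, which is all the local argument uses. (The
published statement also adds that the dual graph of π⁻¹(y) is a tree when ZR is regular; not
restated.) -/
theorem result
    (R : Type u) [CommRing R] [IsDomain R] [IsDiscreteValuationRing R]
    (hk : IsAlgClosed (IsLocalRing.ResidueField R))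
    (YR ZR : Over (Spec (CommRingCat.of R))) [IsIntegral YR.left] [IsIntegral ZR.left]
    (hYn : Pi1.IsNormalScheme YR.left) (hZn : Pi1.IsNormalScheme ZR.left)
    [IsProper YR.hom] [Flat YR.hom] (hdY : topologicalKrullDim YR.left = 2)
    (π : ZR ⟶ YR) [IsProper π.left]
    (hbir : ∃ U : YR.left.Opens, (U : Set YR.left).Nonempty ∧ IsIso (π.left ∣_ U))
    (y : YR.left) (hyc : IsClosed ({y} : Set YR.left)) (hys : y ∈ Models.specialFibreSet R YR)
    (hrat : Curv2.IsRationalSing (YR.left.presheaf.stalk y))
    (hdim : topologicalKrullDim (π.left.base ⁻¹' ({y} : Set YR.left)) = 1)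
    (E : Set ZR.left)
    (hE : Maximal (fun S : Set ZR.left => IsIrreducible S ∧ S ⊆ π.left.base ⁻¹' ({y} : Set YR.left)) E) :
    ∃ e : CohB1.ProjSpace 1 (IsLocalRing.ResidueField R) ⟶ ZR.left, IsClosedImmersion e ∧ Set.range e.base = E ∧
      e ≫ ZR.hom = CohB1.ProjSpace.toSpec 1 (IsLocalRing.ResidueField R) ≫
        Spec.map (CommRingCat.ofHom (algebraMap R (IsLocalRing.ResidueField R))) := by
  haveI : IsLocallyNoetherian YR.left := LocallyOfFiniteType.isLocallyNoetherian YR.hom
  haveI : CompactSpace YR.left := QuasiCompact.compactSpace_of_compactSpace YR.hom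
  haveI : AlgebraicGeometry.IsNoetherian YR.left := {}
  haveI : HasInjectiveResolutions ZR.left.Modules := inferInstance
  obtain ⟨U, hU, hiU⟩ := hbir
  haveI := hiU
  have hF : IsClosed (π.left.base ⁻¹' ({y} : Set YR.left)) := hyc.preimage π.left.continuous
  have hEc : IsClosed E := by
    have h1 : closure E ⊆ π.left.base ⁻¹' ({y} : Set YR.left) := closure_minimal hE.1.2 hF
    have h2 : closure E = E := (hE.eq_of_subset ⟨hE.1.1.closure, h1⟩ subset_closure).symm
    exact h2 ▸ isClosed_closure
  obtain ⟨ξ, hξ⟩ := QuasiSober.sober hE.1.1 hEc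
  haveI hT0 : T0Space ↥ZR.left := inferInstance
  have hEd : topologicalKrullDim ↥E = 1 := by
    refine le_antisymm ((Topology.IsEmbedding.inclusion hE.1.2).isInducing.topologicalKrullDim_le.trans hdim.le) ?_
    by_contra hlt
    have hsingle : E = {ξ} := by
      refine Set.eq_singleton_iff_unique_mem.2 ⟨hξ.mem, fun w hw => ?_⟩
      by_contra hne
      refine hlt ?_
      haveI : IrreducibleSpace ↥E := Subtype.irreducibleSpace hE.1.1
      have hwc : closure ({w} : Set ZR.left) ⊆ E := closure_minimal (Set.singleton_subset_iff.2 hw) hEc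
      let T₀ : IrreducibleCloseds ↥E := ⟨closure {(⟨w, hw⟩ : ↥E)}, isIrreducible_singleton.closure, isClosed_closure⟩
      let T₁ : IrreducibleCloseds ↥E := ⟨Set.univ, IrreducibleSpace.isIrreducible_univ _, isClosed_univ⟩
      have hlt' : T₀ < T₁ := by
        refine SetLike.coe_ssubset_coe.1 ⟨Set.subset_univ _, fun h => hne ?_⟩
        have h3 : (⟨w, hw⟩ : ↥E) ⤳ ⟨ξ, hξ.mem⟩ :=
          specializes_iff_mem_closure.2 (h (Set.mem_univ (⟨ξ, hξ.mem⟩ : ↥E)))
        exact ((h3.map continuous_subtype_val).antisymm (hξ.specializes hw)).eq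
      simpa [topologicalKrullDim] using Order.LTSeries.length_le_krullDim ((RelSeries.singleton _ T₀).snoc T₁ hlt')
    have hgen : π.left (genericPoint ZR.left) = genericPoint YR.left := H26.BiratFibre.apply_genericPoint_eq π.left hU
    have hbirg : IsIso (π.left.stalkMap (genericPoint ZR.left)) := R1Model.isIso_stalkMap_generic π.left hU
    haveI := S15544.result hYn π.left hgen hbirg y
    have hconn : _root_.IsConnected (π.left.base ⁻¹' ({y} : Set YR.left)) := by
      rw [show π.left.base ⁻¹' ({y} : Set YR.left) = Set.range (π.left.fiberι y) from (π.left.range_fiberι y).symm]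
      exact isConnected_range (π.left.fiberι y).continuous
    haveI : IsLocallyNoetherian ZR.left := LocallyOfFiniteType.isLocallyNoetherian π.left
    haveI : CompactSpace ZR.left := QuasiCompact.compactSpace_of_compactSpace π.left
    haveI : AlgebraicGeometry.IsNoetherian ZR.left := {}
    obtain ⟨S, hSf, hSc, hSi, hS⟩ := NoetherianSpace.exists_finite_set_isClosed_irreducible hF
    let B := ⋃ T ∈ {T ∈ S | T ≠ E}, T
    have hBc : IsClosed B := (hSf.subset fun T (hT : T ∈ {T ∈ S | T ≠ E}) => hT.1).isClosed_biUnion fun T hT => hSc T hT.1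
    have hsub : π.left.base ⁻¹' ({y} : Set YR.left) ⊆ {ξ} ∪ B := fun w hw => by
      obtain ⟨T, hT, hwT⟩ := hS.le hw
      by_cases hTE : T = E
      · exact Or.inl (hsingle ▸ hTE ▸ hwT)
      · exact Or.inr (Set.mem_iUnion₂.2 ⟨T, ⟨hT, hTE⟩, hwT⟩)
    have hξB : ξ ∉ B := by
      intro hξ'
      obtain ⟨T, ⟨hT, hTE⟩, hξT⟩ := Set.mem_iUnion₂.1 hξ'
      exact hTE (hE.eq_of_subset ⟨hSi T hT, (Set.subset_sUnion_of_mem hT).trans hS.ge⟩
        (hsingle ▸ Set.singleton_subset_iff.2 hξT)).symm
    have hξc : IsClosed ({ξ} : Set ZR.left) := hsingle ▸ hEc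
    have hall : π.left.base ⁻¹' ({y} : Set YR.left) ⊆ {ξ} := by
      by_contra hno
      obtain ⟨w, hw, hwξ⟩ := Set.not_subset.1 hno
      obtain ⟨z, hz, hz1, hz2⟩ := isPreconnected_closed_iff.1 hconn.isPreconnected {ξ} B hξc hBc hsub
        ⟨ξ, hE.1.2 hξ.mem, rfl⟩ ⟨w, hw, (hsub hw).resolve_left hwξ⟩
      exact hξB (Set.mem_singleton_iff.1 hz1 ▸ hz2)
    haveI : Subsingleton ↥(π.left.base ⁻¹' ({y} : Set YR.left)) :=
      ⟨fun a b => Subtype.ext ((hall a.2).trans (hall b.2).symm)⟩
    haveI : Subsingleton (IrreducibleCloseds ↥(π.left.base ⁻¹' ({y} : Set YR.left))) := ⟨fun a b => SetLike.coe_injective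
      ((Subsingleton.eq_univ_of_nonempty a.isIrreducible.1).trans (Subsingleton.eq_univ_of_nonempty b.isIrreducible.1).symm)⟩
    have h2 : topologicalKrullDim ↥(π.left.base ⁻¹' ({y} : Set YR.left)) ≤ 0 := Order.krullDim_nonpos_of_subsingleton
    rw [hdim] at h2
    exact absurd h2 (by norm_num)
  let k := IsLocalRing.ResidueField R
  let J := Scheme.IdealSheafData.vanishingIdeal (⟨E, hEc⟩ : Closeds ZR.left)
  haveI : IsIntegral J.subscheme := by
    have hJ : (⟨E, hEc⟩ : Closeds ZR.left) = Closeds.closure {ξ} := Closeds.ext hξ.def.symm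
    show IsIntegral (Scheme.IdealSheafData.vanishingIdeal (⟨E, hEc⟩ : Closeds ZR.left)).subscheme
    rw [hJ]
    exact QCoh.isIntegral_closure_point ξ
  have hrange : Set.range J.subschemeι = E := H23.RedSub.range_vanishingIdeal _
  let r : Spec (CommRingCat.of k) ⟶ Spec (CommRingCat.of R) :=
    Spec.map (CommRingCat.ofHom (algebraMap R k))
  haveI : IsClosedImmersion r := IsClosedImmersion.spec_of_surjective _ IsLocalRing.residue_surjective
  have hsubr : Set.range (J.subschemeι ≫ ZR.hom) ⊆ Set.range r := by
    rintro _ ⟨c, rfl⟩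
    have hc : π.left (J.subschemeι c) = y := hE.1.2 (hrange.le ⟨c, rfl⟩)
    obtain ⟨q⟩ : Nonempty ↥(Spec (CommRingCat.of k)) := inferInstanceAs (Nonempty (PrimeSpectrum k))
    refine ⟨q, ?_⟩
    rw [show J.subschemeι ≫ ZR.hom = J.subschemeι ≫ π.left ≫ YR.hom by rw [Over.w π],
      Scheme.Hom.comp_apply, Scheme.Hom.comp_apply, hc,
      show YR.hom y = IsLocalRing.closedPoint R from hys]
    exact PrimeSpectrum.ext (by
      show Ideal.comap (algebraMap R k) q.asIdeal = _
      rw [(Ideal.eq_bot_or_top q.asIdeal).resolve_right q.2.ne_top]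
      exact IsLocalRing.ker_residue)
  obtain ⟨s, hs⟩ := H23.RedSub.exists_lift_closed (J.subschemeι ≫ ZR.hom) r hsubr
  letI : J.subscheme.Over (Spec (CommRingCat.of k)) := ⟨s⟩
  haveI : IsProper ZR.hom := Over.w π ▸ inferInstanceAs (IsProper (π.left ≫ YR.hom))
  haveI : IsProper (s ≫ r) := hs.symm ▸ inferInstanceAs (IsProper (J.subschemeι ≫ ZR.hom))
  haveI : IsProper (J.subscheme ↘ Spec (CommRingCat.of k)) := IsProper.of_comp s r
  haveI : GeometricallyIntegral (J.subscheme ↘ Spec (CommRingCat.of k)) :=
    haveI : IsIntegral (Over.mk (J.subscheme ↘ Spec (CommRingCat.of k))).left := ‹IsIntegral J.subscheme›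
    haveI : LocallyOfFiniteType (Over.mk (J.subscheme ↘ Spec (CommRingCat.of k))).hom :=
      inferInstanceAs (LocallyOfFiniteType (J.subscheme ↘ Spec (CommRingCat.of k)))
    haveI := hk
    H23.EquidimFibres.geometricallyIntegral_of_isAlgClosed (V := Over.mk (J.subscheme ↘ Spec (CommRingCat.of k)))
  haveI := hk
  have hd1 : topologicalKrullDim J.subscheme = 1 := by
    rw [J.subschemeι.isClosedEmbedding.isEmbedding.toHomeomorph.isHomeomorph.topologicalKrullDim_eq, hrange, hEd]
  have hg : Curv2.genus k J.subscheme = 0 := by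
    obtain ⟨V, hV, hyV, h1⟩ := R1Model.exists_nhd_h1 π.left y (R1Model.subsingleton_stalk_closed π.left hZn hU y hrat)
    have hq := R1Model.h1_quot π.left hV hyV h1 hdY.le hU J (fun w hw => hE.1.2 (hrange.le (J.range_subschemeι.ge hw)))
    obtain ⟨e⟩ := QCoh.HH_push_of_isAffineHom J.subschemeι (QCoh.isQCoh_structureModule (X := J.subscheme)) 1
    haveI : Subsingleton (Coh.HH J.subscheme (Coh.structureModule J.subscheme) 1) := @Equiv.subsingleton _ _ e.toEquiv hq
    exact Module.finrank_zero_of_subsingleton
  obtain ⟨e, he⟩ := S7834.result k J.subscheme hd1 hg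
  refine ⟨e.inv ≫ J.subschemeι, inferInstance, ?_, ?_⟩
  · rw [Scheme.Hom.comp_base, TopCat.coe_comp, Set.range_comp,
      Set.range_eq_univ.2 (ConcreteCategory.bijective_of_isIso e.inv.base).2, Set.image_univ]
    exact hrange
  · have he' : e.inv ≫ s = CohB1.ProjSpace.toSpec 1 k := (Iso.inv_comp_eq e).2 he.symm
    rw [Category.assoc, ← hs, ← Category.assoc, he']

end Groth.Agent.S16555
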