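import Groth.Statements.S16557
import Groth.Agent.SurfRows.Basic

set_option autoImplicit false
universe u
open CategoryTheory CategoryTheory.Limits AlgebraicGeometry TopologicalSpace
open Surf

namespace Groth.Agent.S16557

/-- Let X be a smooth proper integral surface over an algebraically closed field k, W = Λ²Ω_{X/k} a
canonical module, and suppose H⁰(X, W) = 0 (the source states this for smooth rational surfaces and
uses exactly the vanishing of H⁰(X, K_X)). If L is an invertible O_X-module with H⁰(X, L) ≠ 0, then
H²(X, L) = 0. -/
theorem result (k : Type u) [Field k] [IsAlgClosed k]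
    (X : Scheme.{u}) [X.Over (Spec (CommRingCat.of k))] [IsIntegral X] [IsProper (X ↘ (Spec (CommRingCat.of k)))] [Smooth (X ↘ (Spec (CommRingCat.of k)))]
    (hdim : topologicalKrullDim X = 2)
    (W : X.Modules) (hW : ExtPow.IsExtPow 2 (Omega.sheaf (X ↘ (Spec (CommRingCat.of k)))) W)
    (hpg : Subsingleton (Coh.HH X W 0))
    (L : X.Modules) (hL : PicF.IsInvertible L) (h0 : Nontrivial (Coh.HH X L 0)) :
    Subsingleton (Coh.HH X L 2) := by
  exact Groth.Agent.SurfRows.h2_subsingleton k hdim hW hpg hL h0

end Groth.Agent.S16557
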