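import Groth.Statements.S1656
import Groth.Agent.CurveDual.Props
import Groth.Agent.TFOneX.Basic

set_option autoImplicit false
universe u
open CategoryTheory CategoryTheory.Limits AlgebraicGeometry
attribute [local instance] HasDerivedCategory.standard
open Curves

namespace Groth.Agent.S1656

/-- Let X be proper over k, Cohen–Macaulay and equidimensional of dimension one, and let ω_X be its
dualizing module, i.e. the cohomology sheaf in degree -1 of f^! O for f : X → Spec k (assuming the
derived direct image Rf_* on D_QCoh and its right adjoint exist, which is how the shared prelude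
presents f^!). Then χ(X, O_X) = -χ(X, ω_X). -/
theorem result (k : Type u) [Field k] (X : Scheme.{u}) [X.Over (Spec (CommRingCat.of k))] [IsProper (X ↘ (Spec (CommRingCat.of k)))]
    (hCM : ∀ x : X, LocCoh.IsCohenMacaulayLocalRing (X.presheaf.stalk x))
    (hequi : ∀ Z ∈ irreducibleComponents (X : Type u), topologicalKrullDim Z = 1)
    [DCoh.HasRpush (X ↘ (Spec (CommRingCat.of k)))] (h : DCoh.RpushPreservesQCoh (X ↘ (Spec (CommRingCat.of k)))) [DCoh.HasShriek (X ↘ (Spec (CommRingCat.of k))) h]
    (OY : DCoh.DQCoh (Spec (CommRingCat.of k))) (hOY : Nonempty (OY.obj ≅ DCoh.inD (Spec (CommRingCat.of k)) (Coh.structureModule (Spec (CommRingCat.of k))))) :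
    Curv2.euler k X (Coh.structureModule X) = - Curv2.euler k X (DCoh.dualizingMod (X ↘ (Spec (CommRingCat.of k))) h OY 1) := by
  haveI := Groth.Agent.CurveCohLib.isNoetherian_of_proper (k := k) (X := X)
  have hd : topologicalKrullDim X ≤ 1 := Groth.Agent.TFOneX.dim_le_one hequi
  obtain ⟨t, ht, hc⟩ := Groth.Agent.CurveDual.exists_dual hd h OY hOY
  refine Groth.Agent.CurveDual.euler_structure hd (fun x hx =>
    Groth.Agent.CurveDual.one_le_depth_of_CM hCM fun hg => ?_) ht hc
  have hC : ({x} : Set X) ∈ irreducibleComponents (X : Type u) := by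
    have h' : closure ({x} : Set X) ∈ irreducibleComponents (X : Type u) := hg
    rwa [hx.closure_eq] at h'
  have h1 := hequi _ hC
  have h0 : topologicalKrullDim ↥({x} : Set X) ≤ 0 := topologicalKrullDim_zero_of_discreteTopology _
  rw [h1] at h0
  exact absurd h0 (by decide)


end Groth.Agent.S1656
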