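import Groth.Statements.S16560
import Groth.Agent.SurfRows.PlaneBlow
import Groth.Agent.SurfRows.OrthClass
import Groth.Agent.Lib.AVAmple

set_option autoImplicit false
set_option backward.isDefEq.respectTransparency false
set_option backward.isDefEq.respectTransparency.types false
set_option linter.style.haveILetI false
set_option linter.unusedSectionVars false
set_option maxHeartbeats 800000
universe u
open CategoryTheory CategoryTheory.Limits AlgebraicGeometry TopologicalSpace
open Surf

namespace Groth.Agent.S16560

open CategoryTheory CategoryTheory.Limits Groth.Agent Groth.Agent.H23 Groth.Agent.H23.TrivBasic Groth.Agent.SurfRows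
attribute [local instance] PicMul.clMonoid

/-- Let k be an algebraically closed field, p_1, …, p_r distinct closed points of the projective plane
P²_k and σ : X → P²_k the blow-up of P²_k in the ideal of the reduced finite set {p_1, …, p_r}
(universal property), X being regarded over k through σ; X is then an integral smooth proper surface
(carried as hypotheses). Write H = σ^*O(1), (L·M) = χ(O_X) − χ(L) − χ(M) + χ(L ⊗ M) for the
intersection number of invertible modules L, M, and for a closed subscheme C ⊆ X with ideal I_C
write (L·C) = χ(O_C ⊗ L) − χ(O_C) and C² = (I_C·I_C). Let W = Λ²Ω_{X/k} be a canonical module. If L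
is an invertible O_X-module with (L·H) ≥ −2 and (L·L) − (L·W) ≥ 0, then H⁰(X, L) ≠ 0. (The source
takes the points in general position; that assumption plays no role here.) -/
theorem result (k : Type u) [Field k] [IsAlgClosed k]
    (r : ℕ) (P : Fin r → ↥(CohB1.ProjSpace 2 k)) (hP : Function.Injective P)
    (hPc : ∀ i, IsClosed ({P i} : Set ↥(CohB1.ProjSpace 2 k))) (hZ : IsClosed (Set.range P))
    (X : Scheme.{u}) [X.Over (Spec (CommRingCat.of k))] (σ : X ⟶ CohB1.ProjSpace 2 k)
    (hσk : σ ≫ CohB1.ProjSpace.toSpec 2 k = X ↘ (Spec (CommRingCat.of k)))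
    (hσ : BlowUp.IsBlowUp σ (Scheme.IdealSheafData.vanishingIdeal ⟨Set.range P, hZ⟩))
    [IsIntegral X] [IsProper (X ↘ (Spec (CommRingCat.of k)))] [Smooth (X ↘ (Spec (CommRingCat.of k)))] (hdim : topologicalKrullDim X = 2)
    (W : X.Modules) (hW : ExtPow.IsExtPow 2 (Omega.sheaf (X ↘ (Spec (CommRingCat.of k)))) W)
    (L : X.Modules) (hL : PicF.IsInvertible L) (hLH : -2 ≤ FGA.intNum k X 2 ![L, ((Scheme.Modules.pullback σ).obj (Twist.twistProjSpace 2 k 1))] (Coh.structureModule X))
    (hRR : 0 ≤ FGA.intNum k X 2 ![L, L] (Coh.structureModule X) - FGA.intNum k X 2 ![L, W] (Coh.structureModule X)) :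
    Nontrivial (Coh.HH X L 0) := by
  haveI := CurveCohLib.isNoetherian_of_proper (k := k) (X := X)
  haveI : X.IsSeparated := ⟨by
    rw [← Limits.terminal.comp_from (X ↘ Spec (CommRingCat.of k))]
    infer_instance⟩
  have hH : PicF.IsInvertible ((Scheme.Modules.pullback σ).obj (Twist.twistProjSpace 2 k 1)) :=
    PicClLib.isInvertible_pullback σ (Synt29.BlowPts.isInvertible_twist 1)
  have hWi := SurfAdj.isInvertible_W k hdim hW
  rw [SurfPairing.intNum_eq_pair k hdim.le hL hH] at hLH
  rw [SurfPairing.intNum_eq_pair k hdim.le hL hL, SurfPairing.intNum_eq_pair k hdim.le hL hWi] at hRR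
  haveI := h2_planeBlow k hPc hZ σ hσk hσ hdim hL hLH
  obtain ⟨h0, -, -⟩ := structure_planeBlow k hPc hZ σ hσk hσ
  have hr := SurfAdj.rr k hdim hW hL
  have he := Euler.euler_eq_sum k L 3 fun i hi =>
    Snapper.subsingleton_HH_of_dim_le (d := 2) hdim.le (AmpleVan.isCoh_invertible hL).1 (by omega)
  simp only [Finset.sum_range_succ, Finset.sum_range_zero] at he
  rw [Module.finrank_zero_of_subsingleton (R := k) (M := Coh.HH X L 2)] at he
  push_cast at he
  exact Module.nontrivial_of_finrank_pos (R := k) (by omega)

end Groth.Agent.S16560
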