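import Groth.Statements.S16561
import Groth.Agent.SurfRows.PlaneBlow
import Groth.Agent.SurfRows.OrthClass
import Groth.Agent.Lib.AVAmple

set_option autoImplicit false
set_option backward.isDefEq.respectTransparency false
set_option backward.isDefEq.respectTransparency.types false
set_option linter.style.haveILetI false
set_option linter.unusedSectionVars false
set_option maxHeartbeats 800000
universe u
open CategoryTheory CategoryTheory.Limits AlgebraicGeometry TopologicalSpace
open Surf

namespace Groth.Agent.S16561

open CategoryTheory CategoryTheory.Limits Groth.Agent Groth.Agent.H23 Groth.Agent.H23.TrivBasic Groth.Agent.SurfRows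
attribute [local instance] PicMul.clMonoid

/-- Let k be an algebraically closed field, p_1, …, p_r distinct closed points of the projective plane
P²_k and σ : X → P²_k the blow-up of P²_k in the ideal of the reduced finite set {p_1, …, p_r}
(universal property), X being regarded over k through σ; X is then an integral smooth proper surface
(carried as hypotheses). Write H = σ^*O(1), (L·M) = χ(O_X) − χ(L) − χ(M) + χ(L ⊗ M) for the
intersection number of invertible modules L, M, and for a closed subscheme C ⊆ X with ideal I_C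
write (L·C) = χ(O_C ⊗ L) − χ(O_C) and C² = (I_C·I_C). A (−1)-curve is an integral closed
one-dimensional subscheme E ⊆ X with H¹(E, O_E) = 0 and E² = −1. Let L be an invertible O_X-module,
d = (L·H), χ⁻ = max(−χ(L), 0), and E a (−1)-curve with (H·E) ≤ d + 2. If dim_k H¹(X, L) = χ⁻, then
(L·E) ≥ −1 − χ⁻. (The source takes the points in general position; that assumption plays no role
here.) -/
theorem result (k : Type u) [Field k] [IsAlgClosed k]
    (r : ℕ) (P : Fin r → ↥(CohB1.ProjSpace 2 k)) (hP : Function.Injective P)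
    (hPc : ∀ i, IsClosed ({P i} : Set ↥(CohB1.ProjSpace 2 k))) (hZ : IsClosed (Set.range P))
    (X : Scheme.{u}) [X.Over (Spec (CommRingCat.of k))] (σ : X ⟶ CohB1.ProjSpace 2 k)
    (hσk : σ ≫ CohB1.ProjSpace.toSpec 2 k = X ↘ (Spec (CommRingCat.of k)))
    (hσ : BlowUp.IsBlowUp σ (Scheme.IdealSheafData.vanishingIdeal ⟨Set.range P, hZ⟩))
    [IsIntegral X] [IsProper (X ↘ (Spec (CommRingCat.of k)))] [Smooth (X ↘ (Spec (CommRingCat.of k)))] (hdim : topologicalKrullDim X = 2)
    (L : X.Modules) (hL : PicF.IsInvertible L)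
    (E : X.IdealSheafData) (hEi : IsIntegral E.subscheme) (hE1 : topologicalKrullDim (E.support : Set X) = 1)
    (hEg : Subsingleton (Coh.HH E.subscheme (Coh.structureModule E.subscheme) 1))
    (hEE : FGA.intNum k X 2 ![ClSub.idealMod E, ClSub.idealMod E] (Coh.structureModule X) = -1)
    (hEH : (Curv2.euler k X (CohB1.tensorMod (ClSub.quotMod E) ((Scheme.Modules.pullback σ).obj (Twist.twistProjSpace 2 k 1))) - Curv2.euler k X (ClSub.quotMod E)) ≤ FGA.intNum k X 2 ![L, ((Scheme.Modules.pullback σ).obj (Twist.twistProjSpace 2 k 1))] (Coh.structureModule X) + 2)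
    (h1 : (Module.finrank k (Coh.HH X L 1) : ℤ) = max (-Curv2.euler k X L) 0) :
    -1 - max (-Curv2.euler k X L) 0 ≤ (Curv2.euler k X (CohB1.tensorMod (ClSub.quotMod E) L) - Curv2.euler k X (ClSub.quotMod E)) := by
  haveI := CurveCohLib.isNoetherian_of_proper (k := k) (X := X)
  haveI : X.IsSeparated := ⟨by
    rw [← Limits.terminal.comp_from (X ↘ Spec (CommRingCat.of k))]
    infer_instance⟩
  by_cases hpos : 0 ≤ Curv2.euler k X (CohB1.tensorMod (ClSub.quotMod E) L) - Curv2.euler k X (ClSub.quotMod E)
  · exact le_trans (by have := le_max_right (-Curv2.euler k X L) 0; linarith) hpos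
  have hH : PicF.IsInvertible ((Scheme.Modules.pullback σ).obj (Twist.twistProjSpace 2 k 1)) :=
    PicClLib.isInvertible_pullback σ (Synt29.BlowPts.isInvertible_twist 1)
  have hI := SurfNef.invertible_ideal k hdim hEi hE1
  have hLI := PicMul.isInvertible_tensor hL hI
  have hEnef := nef_of_gg k hdim hH (GGDesc7.pullback_gg σ (gg_twist_one 2 k)) E hEi hE1
  rw [SurfNegDef.euler_quot_tensor (k := k) E hI hH, SurfPairing.intNum_eq_pair k hdim.le hL hH] at hEH
  haveI h2a := h2_planeBlow k hPc hZ σ hσk hσ hdim hLI (by
    rw [PicMul.cl_tensor, SurfPairing.pair_comm, SurfPairing.pair_mul k hdim.le hH hL hI,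
      SurfPairing.pair_comm k _ (PicF.cl L), SurfPairing.pair_comm k _ (PicF.cl (ClSub.idealMod E))]
    linarith)
  haveI h2b := h2_planeBlow k hPc hZ σ hσk hσ hdim hL (by linarith)
  have hdeg := SurfNegDef.euler_quot_tensor (k := k) E hI hL
  have hh0 := h0_sub_eq k hdim hEi hE1 hL (by omega)
  have hO := euler_curve_le_one k hdim hEi hE1
  have hsum : ∀ {M : X.Modules}, PicF.IsInvertible M → Curv2.euler k X M = (Module.finrank k (Coh.HH X M 0) : ℤ) -
      Module.finrank k (Coh.HH X M 1) + Module.finrank k (Coh.HH X M 2) := fun {M} hM => by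
    have he := Euler.euler_eq_sum k M 3 fun i hi =>
      Snapper.subsingleton_HH_of_dim_le (d := 2) hdim.le (AmpleVan.isCoh_invertible hM).1 (by omega)
    simp only [Finset.sum_range_succ, Finset.sum_range_zero] at he
    push_cast at he
    rw [he]
    ring
  obtain ⟨a, b, w, hS⟩ := exists_restrict_ses hL E
  have hχ := CurveBundle.euler_add' k a b w hS (CurveDeg.isCoh_of_isInvertible hLI)
    (CurveDeg.isCoh_of_isInvertible hL) (isCoh_restrict hL E)
  obtain ⟨c⟩ := PicMul.comm (ClSub.quotMod E) L
  rw [Euler.euler_congr k c]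
  rw [Euler.euler_congr k c] at hdeg hpos
  have e1 := hsum hLI
  have e2 := hsum hL
  rw [Module.finrank_zero_of_subsingleton (R := k) (M := Coh.HH X (CohB1.tensorMod L (ClSub.idealMod E)) 2), hh0] at e1
  rw [Module.finrank_zero_of_subsingleton (R := k) (M := Coh.HH X L 2)] at e2
  push_cast at e1 e2
  omega

end Groth.Agent.S16561
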