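import Groth.Statements.S16562
import Groth.Agent.SurfRows.PlaneBlow
import Groth.Agent.SurfRows.OrthClass
import Groth.Agent.Lib.AVAmple

set_option autoImplicit false
set_option backward.isDefEq.respectTransparency false
set_option backward.isDefEq.respectTransparency.types false
set_option linter.style.haveILetI false
set_option linter.unusedSectionVars false
set_option maxHeartbeats 800000
universe u
open CategoryTheory CategoryTheory.Limits AlgebraicGeometry TopologicalSpace
open Surf

namespace Groth.Agent.S16562

open CategoryTheory CategoryTheory.Limits Groth.Agent Groth.Agent.H23 Groth.Agent.H23.TrivBasic Groth.Agent.SurfRows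
attribute [local instance] PicMul.clMonoid

/-- Let k be an algebraically closed field, p_1, …, p_r distinct closed points of the projective plane
P²_k and σ : X → P²_k the blow-up of P²_k in the ideal of the reduced finite set {p_1, …, p_r}
(universal property), X being regarded over k through σ; X is then an integral smooth proper surface
(carried as hypotheses). Write H = σ^*O(1), (L·M) = χ(O_X) − χ(L) − χ(M) + χ(L ⊗ M) for the
intersection number of invertible modules L, M, and for a closed subscheme C ⊆ X with ideal I_C
write (L·C) = χ(O_C ⊗ L) − χ(O_C) and C² = (I_C·I_C). A (−1)-curve is an integral closed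
one-dimensional subscheme E ⊆ X with H¹(E, O_E) = 0 and E² = −1. If L is an invertible O_X-module
and E a (−1)-curve whose H-degree satisfies 2(H·E) > (L·H), and (L·E) < −1, then H⁰(X, L) = 0. (The
source takes the points in general position; that assumption plays no role here.) -/
theorem result (k : Type u) [Field k] [IsAlgClosed k]
    (r : ℕ) (P : Fin r → ↥(CohB1.ProjSpace 2 k)) (hP : Function.Injective P)
    (hPc : ∀ i, IsClosed ({P i} : Set ↥(CohB1.ProjSpace 2 k))) (hZ : IsClosed (Set.range P))
    (X : Scheme.{u}) [X.Over (Spec (CommRingCat.of k))] (σ : X ⟶ CohB1.ProjSpace 2 k)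
    (hσk : σ ≫ CohB1.ProjSpace.toSpec 2 k = X ↘ (Spec (CommRingCat.of k)))
    (hσ : BlowUp.IsBlowUp σ (Scheme.IdealSheafData.vanishingIdeal ⟨Set.range P, hZ⟩))
    [IsIntegral X] [IsProper (X ↘ (Spec (CommRingCat.of k)))] [Smooth (X ↘ (Spec (CommRingCat.of k)))] (hdim : topologicalKrullDim X = 2)
    (L : X.Modules) (hL : PicF.IsInvertible L)
    (E : X.IdealSheafData) (hEi : IsIntegral E.subscheme) (hE1 : topologicalKrullDim (E.support : Set X) = 1)
    (hEg : Subsingleton (Coh.HH E.subscheme (Coh.structureModule E.subscheme) 1))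
    (hEE : FGA.intNum k X 2 ![ClSub.idealMod E, ClSub.idealMod E] (Coh.structureModule X) = -1)
    (hEH : FGA.intNum k X 2 ![L, ((Scheme.Modules.pullback σ).obj (Twist.twistProjSpace 2 k 1))] (Coh.structureModule X) < 2 * (Curv2.euler k X (CohB1.tensorMod (ClSub.quotMod E) ((Scheme.Modules.pullback σ).obj (Twist.twistProjSpace 2 k 1))) - Curv2.euler k X (ClSub.quotMod E)))
    (hLE : (Curv2.euler k X (CohB1.tensorMod (ClSub.quotMod E) L) - Curv2.euler k X (ClSub.quotMod E)) < -1) :
    Subsingleton (Coh.HH X L 0) := by
  haveI := CurveCohLib.isNoetherian_of_proper (k := k) (X := X)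
  have hH : PicF.IsInvertible ((Scheme.Modules.pullback σ).obj (Twist.twistProjSpace 2 k 1)) :=
    PicClLib.isInvertible_pullback σ (Synt29.BlowPts.isInvertible_twist 1)
  have hI := SurfNef.invertible_ideal k hdim hEi hE1
  rw [SurfNegDef.euler_quot_tensor (k := k) E hI hL] at hLE
  rw [SurfPairing.intNum_eq_pair k hdim.le hL hH, SurfNegDef.euler_quot_tensor (k := k) E hI hH] at hEH
  rw [SurfPairing.intNum_eq_pair k hdim.le hI hI] at hEE
  by_contra hne
  obtain ⟨s, hs⟩ := CurveAmple.exists_section_ne_zero (not_subsingleton_iff_nontrivial.1 hne)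
  obtain ⟨t, ht⟩ := exists_section_sub k hdim hEi hE1 hL hs (by linarith)
  have h1 := PicMul.isInvertible_tensor hL hI
  obtain ⟨q, hq⟩ := exists_section_sub k hdim hEi hE1 h1 ht (by
    rw [PicMul.cl_tensor, SurfPairing.pair_mul k hdim.le hI hL hI]
    linarith)
  have h := SurfNef.nef_section k hdim hH (nef_of_gg k hdim hH (GGDesc7.pullback_gg σ (gg_twist_one 2 k)))
    (PicMul.isInvertible_tensor h1 hI) hq
  rw [PicMul.cl_tensor, SurfPairing.pair_mul k hdim.le hH h1 hI, PicMul.cl_tensor,
    SurfPairing.pair_mul k hdim.le hH hL hI, SurfPairing.pair_comm k _ (PicF.cl L),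
    SurfPairing.pair_comm k _ (PicF.cl (ClSub.idealMod E))] at h
  linarith

end Groth.Agent.S16562
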