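import Groth.Statements.S16563
import Groth.Agent.SurfRows.PlaneBlow
import Groth.Agent.SurfRows.OrthClass
import Groth.Agent.Lib.AVAmple

set_option autoImplicit false
set_option backward.isDefEq.respectTransparency false
set_option backward.isDefEq.respectTransparency.types false
set_option linter.style.haveILetI false
set_option linter.unusedSectionVars false
set_option maxHeartbeats 800000
universe u
open CategoryTheory CategoryTheory.Limits AlgebraicGeometry TopologicalSpace
open Surf

namespace Groth.Agent.S16563

open CategoryTheory CategoryTheory.Limits Groth.Agent Groth.Agent.H23 Groth.Agent.H23.TrivBasic Groth.Agent.SurfRows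
attribute [local instance] PicMul.clMonoid

/-- Let k be an algebraically closed field, p_1, …, p_r distinct closed points of the projective plane
P²_k and σ : X → P²_k the blow-up of P²_k in the ideal of the reduced finite set {p_1, …, p_r}
(universal property), X being regarded over k through σ; X is then an integral smooth proper surface
(carried as hypotheses). Write H = σ^*O(1), (L·M) = χ(O_X) − χ(L) − χ(M) + χ(L ⊗ M) for the
intersection number of invertible modules L, M, and for a closed subscheme C ⊆ X with ideal I_C
write (L·C) = χ(O_C ⊗ L) − χ(O_C) and C² = (I_C·I_C). A (−1)-curve is an integral closed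
one-dimensional subscheme E ⊆ X with H¹(E, O_E) = 0 and E² = −1. Let L be an invertible O_X-module
and E a (−1)-curve with ideal I_E such that (L·E) = −s with s > 1. Then dim_k H⁰(X, L ⊗ I_E^s) =
dim_k H⁰(X, L); equivalently the injection H⁰(X, L ⊗ I_E^s) → H⁰(X, L) induced by I_E^s ⊆ O_X is
bijective. (The source takes the points in general position; that assumption plays no role here.) -/
theorem result (k : Type u) [Field k] [IsAlgClosed k]
    (r : ℕ) (P : Fin r → ↥(CohB1.ProjSpace 2 k)) (hP : Function.Injective P)
    (hPc : ∀ i, IsClosed ({P i} : Set ↥(CohB1.ProjSpace 2 k))) (hZ : IsClosed (Set.range P))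
    (X : Scheme.{u}) [X.Over (Spec (CommRingCat.of k))] (σ : X ⟶ CohB1.ProjSpace 2 k)
    (hσk : σ ≫ CohB1.ProjSpace.toSpec 2 k = X ↘ (Spec (CommRingCat.of k)))
    (hσ : BlowUp.IsBlowUp σ (Scheme.IdealSheafData.vanishingIdeal ⟨Set.range P, hZ⟩))
    [IsIntegral X] [IsProper (X ↘ (Spec (CommRingCat.of k)))] [Smooth (X ↘ (Spec (CommRingCat.of k)))] (hdim : topologicalKrullDim X = 2)
    (L : X.Modules) (hL : PicF.IsInvertible L)
    (E : X.IdealSheafData) (hEi : IsIntegral E.subscheme) (hE1 : topologicalKrullDim (E.support : Set X) = 1)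
    (hEg : Subsingleton (Coh.HH E.subscheme (Coh.structureModule E.subscheme) 1))
    (hEE : FGA.intNum k X 2 ![ClSub.idealMod E, ClSub.idealMod E] (Coh.structureModule X) = -1)
    (s : ℕ) (hs : 1 < s) (hLE : (Curv2.euler k X (CohB1.tensorMod (ClSub.quotMod E) L) - Curv2.euler k X (ClSub.quotMod E)) = -(s : ℤ)) :
    Module.finrank k (Coh.HH X (CohB1.tensorMod L (ClSub.idealMod (E ^ s))) 0) = Module.finrank k (Coh.HH X L 0) := by
  haveI := CurveCohLib.isNoetherian_of_proper (k := k) (X := X)
  have hI := SurfNef.invertible_ideal k hdim hEi hE1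
  rw [SurfNegDef.euler_quot_tensor (k := k) E hI hL] at hLE
  rw [SurfPairing.intNum_eq_pair k hdim.le hI hI] at hEE
  have key : ∀ j : ℕ, j < s → Module.finrank k (Coh.HH X (CohB1.tensorMod L (ClSub.idealMod (E ^ (j + 1)))) 0) =
      Module.finrank k (Coh.HH X L 0) := by
    intro j
    induction j with
    | zero =>
      intro _
      rw [pow_one]
      exact h0_sub_eq k hdim hEi hE1 hL (by omega)
    | succ j ih =>
      intro hj
      obtain ⟨hP, hc⟩ := ideal_pow_cl k hdim hEi hE1 j
      obtain ⟨-, hc'⟩ := ideal_pow_cl k hdim hEi hE1 (j + 1)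
      have hM := PicMul.isInvertible_tensor hL hP
      rw [← ih (by omega), ← h0_sub_eq k hdim hEi hE1 hM ?_]
      · refine h0_congr k ?_
        rw [PicMul.cl_tensor, PicMul.cl_tensor, PicMul.cl_tensor, hc', hc, pow_succ _ (j + 1), mul_assoc]
      · rw [PicMul.cl_tensor, SurfPairing.pair_mul k hdim.le hI hL hP, hc]
        have hp : SurfPairing.pair k (PicF.cl (ClSub.idealMod E)) (PicF.cl (ClSub.idealMod E) ^ (j + 1)) = -((j : ℤ) + 1) := by
          rw [← PicMul.cl_tensorPow, SurfAmple.pair_pow hdim.le hI hI, hEE]
          push_cast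
          ring
        rw [hp]
        omega
  obtain ⟨j, rfl⟩ := Nat.exists_eq_add_of_le' (le_of_lt hs)
  exact key j (by omega)

end Groth.Agent.S16563
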