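import Groth.Statements.S16564
import Groth.Agent.SurfRows.PlaneBlow
import Groth.Agent.SurfRows.OrthClass
import Groth.Agent.Lib.AVAmple

set_option autoImplicit false
set_option backward.isDefEq.respectTransparency false
set_option backward.isDefEq.respectTransparency.types false
set_option linter.style.haveILetI false
set_option linter.unusedSectionVars false
set_option maxHeartbeats 800000
universe u
open CategoryTheory CategoryTheory.Limits AlgebraicGeometry TopologicalSpace
open Surf

namespace Groth.Agent.S16564

open CategoryTheory CategoryTheory.Limits Groth.Agent Groth.Agent.H23 Groth.Agent.H23.TrivBasic Groth.Agent.SurfRows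
attribute [local instance] PicMul.clMonoid

/-- Let k be an algebraically closed field, p_1, …, p_r distinct closed points of the projective plane
P²_k and σ : X → P²_k the blow-up of P²_k in the ideal of the reduced finite set {p_1, …, p_r}
(universal property), X being regarded over k through σ; X is then an integral smooth proper surface
(carried as hypotheses). Write H = σ^*O(1), (L·M) = χ(O_X) − χ(L) − χ(M) + χ(L ⊗ M) for the
intersection number of invertible modules L, M, and for a closed subscheme C ⊆ X with ideal I_C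
write (L·C) = χ(O_C ⊗ L) − χ(O_C) and C² = (I_C·I_C). A (−1)-curve is an integral closed
one-dimensional subscheme E ⊆ X with H¹(E, O_E) = 0 and E² = −1. Call an invertible module M
non-special when at most one of H⁰(X, M), H¹(X, M), H²(X, M) is nonzero. Suppose every invertible M
with (M·E) ≥ −1 for every (−1)-curve E is non-special (the non-speciality hypothesis for X). Then no
integral closed one-dimensional subscheme C ⊆ X has C² ≤ −2. (The source concludes that the curves
of negative self-intersection are exactly the (−1)-curves; its argument treats C² ≤ −2, which is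
what is stated here.) (The source takes the points in general position; that assumption plays no
role here.) -/
theorem result (k : Type u) [Field k] [IsAlgClosed k]
    (r : ℕ) (P : Fin r → ↥(CohB1.ProjSpace 2 k)) (hP : Function.Injective P)
    (hPc : ∀ i, IsClosed ({P i} : Set ↥(CohB1.ProjSpace 2 k))) (hZ : IsClosed (Set.range P))
    (X : Scheme.{u}) [X.Over (Spec (CommRingCat.of k))] (σ : X ⟶ CohB1.ProjSpace 2 k)
    (hσk : σ ≫ CohB1.ProjSpace.toSpec 2 k = X ↘ (Spec (CommRingCat.of k)))
    (hσ : BlowUp.IsBlowUp σ (Scheme.IdealSheafData.vanishingIdeal ⟨Set.range P, hZ⟩))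
    [IsIntegral X] [IsProper (X ↘ (Spec (CommRingCat.of k)))] [Smooth (X ↘ (Spec (CommRingCat.of k)))] (hdim : topologicalKrullDim X = 2)
    (hconj : ∀ (M : X.Modules), PicF.IsInvertible M →
      (∀ (E : X.IdealSheafData), IsIntegral E.subscheme → topologicalKrullDim (E.support : Set X) = 1 →
        Subsingleton (Coh.HH E.subscheme (Coh.structureModule E.subscheme) 1) →
        FGA.intNum k X 2 ![ClSub.idealMod E, ClSub.idealMod E] (Coh.structureModule X) = -1 →
        -1 ≤ (Curv2.euler k X (CohB1.tensorMod (ClSub.quotMod E) M) - Curv2.euler k X (ClSub.quotMod E))) →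
      ((Subsingleton (Coh.HH X M 0) ∧ Subsingleton (Coh.HH X M 1)) ∨ (Subsingleton (Coh.HH X M 0) ∧ Subsingleton (Coh.HH X M 2)) ∨
        (Subsingleton (Coh.HH X M 1) ∧ Subsingleton (Coh.HH X M 2))))
    (C : X.IdealSheafData) (hCi : IsIntegral C.subscheme) (hC1 : topologicalKrullDim (C.support : Set X) = 1) :
    -1 ≤ FGA.intNum k X 2 ![ClSub.idealMod C, ClSub.idealMod C] (Coh.structureModule X) := by
  haveI := CurveCohLib.isNoetherian_of_proper (k := k) (X := X)
  haveI : X.IsSeparated := ⟨by
    rw [← Limits.terminal.comp_from (X ↘ Spec (CommRingCat.of k))]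
    infer_instance⟩
  haveI := CurveFin.smoothOfRelativeDimension_of_dim (f := X ↘ Spec (CommRingCat.of k)) (d := 2) hdim
  obtain ⟨W, hW, hWi⟩ := TopPower.exists_canonical (X ↘ Spec (CommRingCat.of k)) 2
  have hI := SurfNef.invertible_ideal k hdim hCi hC1
  rw [SurfPairing.intNum_eq_pair k hdim.le hI hI]
  by_contra hlt
  obtain ⟨N, hN, e⟩ := PicInv.exists_inverse hI
  have hcl : PicF.cl (ClSub.idealMod C) * PicF.cl N = 1 := by
    rw [← PicMul.cl_tensor, PicMul.one_def]
    exact PicMul.cl_eq_iff.2 e
  obtain ⟨p, hp, -⟩ : ∃ p : Γ(N, ⊤), p ≠ 0 ∧ _ :=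
    AVAmple.exists_divisor_section_ne_zero C ((S8914.result C).1 hI) hN
      ((PicMul.comm N (ClSub.idealMod C)).map fun c => c ≪≫ e.some)
  have hEN : ∀ {A : X.Modules}, PicF.IsInvertible A → SurfPairing.pair k (PicF.cl A) (PicF.cl N) =
      -SurfPairing.pair k (PicF.cl A) (PicF.cl (ClSub.idealMod C)) := fun hA =>
    SurfPairing.pair_inv k hdim.le hA hI hN hcl
  have hns := hconj N hN fun E hE hE1 _ hEE => by
    have hEI := SurfNef.invertible_ideal k hdim hE hE1
    rw [SurfPairing.intNum_eq_pair k hdim.le hEI hEI] at hEE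
    rw [SurfNegDef.euler_quot_tensor (k := k) E hEI hN, hEN hEI]
    have := pair_curves_nonneg k hdim hE hE1 hCi hC1 (by rintro rfl; exact hlt hEE.ge)
    linarith
  haveI := CurveAmple.nontrivial_h0 hp
  rcases hns with ⟨h, -⟩ | ⟨h, -⟩ | ⟨h1, h2⟩
  · exact not_subsingleton (Coh.HH X N 0) h
  · exact not_subsingleton (Coh.HH X N 0) h
  obtain ⟨h0, -, -⟩ := structure_planeBlow k hPc hZ σ hσk hσ
  have hone : Module.finrank k (Coh.HH X N 0) = 1 := by
    rw [← h0_sub_eq k hdim hCi hC1 hN (by rw [hEN hI]; omega),
      h0_congr k (N := Coh.structureModule X) (by rw [PicMul.cl_tensor, mul_comm, hcl, PicMul.one_def]),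
      SurfAdj.finrank_h0 k X]
  have he := Euler.euler_eq_sum k N 3 fun i hi =>
    Snapper.subsingleton_HH_of_dim_le (d := 2) hdim.le (AmpleVan.isCoh_invertible hN).1 (by omega)
  simp only [Finset.sum_range_succ, Finset.sum_range_zero] at he
  rw [Module.finrank_zero_of_subsingleton (R := k) (M := Coh.HH X N 1),
    Module.finrank_zero_of_subsingleton (R := k) (M := Coh.HH X N 2), hone] at he
  push_cast at he
  have hrN := SurfAdj.rr k hdim hW hN
  have hrI := SurfAdj.rr k hdim hW hI
  rw [SurfPairing.pair_comm k (PicF.cl N) (PicF.cl W), hEN hWi, SurfPairing.pair_comm k (PicF.cl W), hEN hN,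
    SurfPairing.pair_comm k (PicF.cl N) (PicF.cl (ClSub.idealMod C)), hEN hI] at hrN
  have hle := euler_curve_le_one k hdim hCi hC1
  rw [euler_quot_eq k C ((S8914.result C).1 hI)] at hle
  omega

end Groth.Agent.S16564
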