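import Groth.Statements.S16565
import Groth.Agent.SurfRows.LineBundles
import Groth.Agent.SurfRows.FibrationRestrict

set_option autoImplicit false
set_option backward.isDefEq.respectTransparency false
set_option backward.isDefEq.respectTransparency.types false
set_option linter.style.haveILetI false
set_option linter.unusedSectionVars false
set_option maxHeartbeats 800000
universe u
open CategoryTheory CategoryTheory.Limits AlgebraicGeometry TopologicalSpace
open Surf

namespace Groth.Agent.S16565

open CategoryTheory CategoryTheory.Limits Groth.Agent Groth.Agent.H23 Groth.Agent.SurfRows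
attribute [local instance] PicMul.clMonoid

/-- Let X be a smooth proper integral surface over an algebraically closed field k, π : X → P¹_k a
surjective k-morphism, L an invertible O_X-module with R¹π_*L = 0, q a closed point of P¹_k and F =
π⁻¹(q) its fibre, with ideal I_F. Assume the restriction map H⁰(X, L) → H⁰(F, L|_F) is surjective,
stated as dim_k H⁰(X, L) = dim_k H⁰(X, L ⊗ I_F) + dim_k H⁰(X, L ⊗ O_F) (the sequence 0 → L ⊗ I_F → L
→ L ⊗ O_F → 0 being exact). Then H¹(X, L) = 0 = H¹(X, L ⊗ I_F), and H¹(P¹_k, π_*L ⊗ O(−1)) = 0, i.e.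
the line bundle summands of π_*L all have degree ≥ 0. (The source states this for the blow-up of
P²_k at points in general position fibred over P¹_k by projection from one of the points; its
argument uses only a smooth projective surface mapping onto P¹_k.) -/
theorem result (k : Type u) [Field k] [IsAlgClosed k]
    (X : Scheme.{u}) [X.Over (Spec (CommRingCat.of k))] [IsIntegral X] [IsProper (X ↘ (Spec (CommRingCat.of k)))] [Smooth (X ↘ (Spec (CommRingCat.of k)))]
    (hdim : topologicalKrullDim X = 2) [HasInjectiveResolutions X.Modules]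
    (π : X ⟶ CohB1.ProjSpace 1 k) (hπk : π ≫ CohB1.ProjSpace.toSpec 1 k = X ↘ (Spec (CommRingCat.of k))) (hπs : Function.Surjective π)
    (L : X.Modules) (hL : PicF.IsInvertible L) (hR1 : IsZero ((Coh.Rpush π 1).obj L))
    (q : ↥(CohB1.ProjSpace 1 k)) (hq : IsClosed ({q} : Set ↥(CohB1.ProjSpace 1 k)))
    (hres : Module.finrank k (Coh.HH X L 0) =
      Module.finrank k (Coh.HH X (CohB1.tensorMod L (ClSub.idealMod ((Scheme.IdealSheafData.vanishingIdeal ⟨{q}, hq⟩).comap π))) 0) +
        Module.finrank k (Coh.HH X (CohB1.tensorMod (ClSub.quotMod ((Scheme.IdealSheafData.vanishingIdeal ⟨{q}, hq⟩).comap π)) L) 0)) :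
    Subsingleton (Coh.HH X L 1) ∧ Subsingleton (Coh.HH X (CohB1.tensorMod L (ClSub.idealMod ((Scheme.IdealSheafData.vanishingIdeal ⟨{q}, hq⟩).comap π))) 1) ∧
      Subsingleton (Coh.HH (CohB1.ProjSpace 1 k) (CohB1.tensorMod ((Coh.push π).obj L) (Twist.twistProjSpace 1 k (-1))) 1) := by
  haveI := CurveCover.isProper_line k
  haveI := CurveCover.isIntegral_line k
  haveI := CurveCover.smooth_line k
  haveI := CurveCohLib.isNoetherian_of_proper (k := k) (X := CohB1.ProjSpace 1 k)
  haveI : π.IsOver (Spec (CommRingCat.of k)) := ⟨hπk⟩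
  haveI : Surjective π := ⟨hπs⟩
  have hdimC := CurveCover.dim_line k
  obtain ⟨h1, h2, hle⟩ := fibration_restrict k π hdim hdimC hL hR1 q hq hres
  obtain ⟨hN, hdN, -⟩ := fibre_ideal_cl k π hdim hdimC q hq
  obtain ⟨eN⟩ := iso_of_deg_eq k hdimC (CurveCover.genus_line k) hN (CurveCover.isInvertible_twist k (-1))
    (hdN.trans (deg_twist k (-1)).symm)
  obtain ⟨sE⟩ : Nonempty (CohB1.tensorMod (CurvePoint.ptMod q hq) ((Coh.push π).obj L) ≅
      CohB1.tensorMod ((Coh.push π).obj L) (Twist.twistProjSpace 1 k (-1))) :=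
    PicMul.cl_eq_iff.1 (by rw [PicMul.cl_tensor, PicMul.cl_tensor, PicMul.cl_eq_iff.2 ⟨eN⟩, mul_comm])
  rw [(CurveCohLib.hhEquiv (k := k) sE 1).finrank_eq] at h2 hle
  obtain ⟨hEc, hEf⟩ := fibration_push_locFree k π hdimC hL
  obtain ⟨r1, r2⟩ := p1_no_h1 k (CurveBundle.isFinLocFreeOfRank_rk hEf) hle
  haveI := CurveCohLib.isNoetherian_of_proper (k := k) (X := X)
  haveI := CurveCohLib.finite_HH (k := k) (CurveDeg.isCoh_of_isInvertible hL) 1
  haveI := CurveCohLib.finite_HH (k := k) (CurveDeg.isCoh_of_isInvertible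
    (PicMul.isInvertible_tensor hL ((S8914.result _).2 (fibre_facts k hdim hdimC π q hq).1))) 1
  haveI := CurveCohLib.finite_HH (k := k)
    (ParShLib.isCoh_tensorMod hEc (CurveDeg.isCoh_of_isInvertible (CurveCover.isInvertible_twist k (-1)))) 1
  exact ⟨Module.finrank_zero_iff.1 (h1.trans r1), Module.finrank_zero_iff.1 (h2.trans r2),
    Module.finrank_zero_iff.1 r2⟩

end Groth.Agent.S16565
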