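import Groth.Statements.S6576
import Groth.Agent.KExact.BCNat
import Groth.Agent.CurveCohLib.Skyscraper
import Groth.Agent.PicClLib.Basic

set_option autoImplicit false
set_option linter.style.haveILetI false
set_option backward.isDefEq.respectTransparency false
set_option backward.isDefEq.respectTransparency.types false
set_option maxHeartbeats 1000000
set_option synthInstance.maxHeartbeats 200000
universe u
open CategoryTheory CategoryTheory.Limits AlgebraicGeometry
attribute [local instance] HasDerivedCategory.standard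
open Curves

namespace Groth.Agent.S6576

open Groth.Agent KFlatLib KFlatLib.BCLoc KFlatLib.SecPoint

/-- The right adjoint at `O` commutes with flat base change of proper morphisms over affine bases. -/
theorem nonempty_hd_bc {X Y X' Y' : Scheme.{u}} {f : X ⟶ Y} {g : Y' ⟶ Y} {f' : X' ⟶ Y'} {g' : X' ⟶ X}
    (hsq : IsPullback g' f' f g) [IsNoetherian Y] [IsNoetherian Y'] [IsProper f] [IsProper f']
    [CompactSpace X] [QuasiSeparatedSpace X] [CompactSpace X'] [QuasiSeparatedSpace X']
    [Flat g] [Flat g'] [QuasiCompact g] [QuasiSeparated g] [QuasiCompact g'] [QuasiSeparated g']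
    [DCoh.HasRpush f] [DCoh.HasRpush f'] (hf : DCoh.RpushPreservesQCoh f) (hf' : DCoh.RpushPreservesQCoh f')
    [DCoh.HasShriek f hf] [DCoh.HasShriek f' hf'] (O : DCoh.DQCoh Y) (O' : DCoh.DQCoh Y')
    (hO : Nonempty (O.obj ≅ DCoh.inD Y (Coh.structureModule Y)))
    (hO' : Nonempty (O'.obj ≅ DCoh.inD Y' (Coh.structureModule Y'))) (n : ℕ) :
    Nonempty ((Scheme.Modules.pullback g').obj (DCoh.dualizingMod f hf O n) ≅ DCoh.dualizingMod f' hf' O' n) := by
  obtain ⟨eO⟩ := hO
  obtain ⟨eO'⟩ := hO'
  have hb : Dual3.IsBddBelowQ Y O := by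
    refine ⟨0, (DerivedCategory.isGE_iff _ _).2 fun i hi => ?_⟩
    exact (hd_single_isZero _ i (by omega)).of_iso ((DerivedCategory.homologyFunctor _ i).mapIso eO)
  obtain ⟨E⟩ := KExact.BCNat.nonempty_bc_iso hsq (DCoh.shriekAdj f hf) (DCoh.shriekAdj f' hf')
  haveI := hasLpull g
  obtain ⟨u⟩ := nonempty_lpull_inD_of_flat g (Coh.structureModule Y)
  obtain ⟨e₀⟩ := PicClLib.nonempty_pullback_structureModule g
  let w : (LQ g).obj O ≅ O' := (ObjectProperty.fullyFaithfulι _).preimageIso
    ((pullD g).mapIso eO ≪≫ ((lpullPullIso g).app _).symm ≪≫ u ≪≫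
      (DerivedCategory.singleFunctor Y'.Modules 0).mapIso e₀ ≪≫ eO'.symm)
  let v : (pullD g').obj ((DCoh.shriek f hf).obj O).obj ≅ ((DCoh.shriek f' hf').obj O').obj :=
    (ObjectProperty.ι _).mapIso (E.app ⟨O, hb⟩) ≪≫ (ObjectProperty.ι _).mapIso ((DCoh.shriek f' hf').mapIso w)
  exact ⟨((mapDCHomologyIso (Scheme.Modules.pullback g') (-(n : ℤ))).app ((DCoh.shriek f hf).obj O).obj).symm ≪≫
    (DerivedCategory.homologyFunctor _ (-(n : ℤ))).mapIso v⟩

/-- Let X be proper over the field k of dimension ≤ 1, ω_X its dualizing module (degree -1 cohomology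
sheaf of f^! O for the structure morphism f, assuming Rf_* on D_QCoh and its right adjoint exist),
and K/k a field extension. Then the pullback of ω_X along X_K → X is a dualizing module for X_K →
Spec K: it is isomorphic to the degree -1 cohomology sheaf of the corresponding object for X_K over
K. (Existence of an isomorphism only; the statement for the dualizing complex is not included.) -/
theorem result (k : Type u) [Field k] (X : Scheme.{u}) [X.Over (Spec (CommRingCat.of k))] [IsProper (X ↘ (Spec (CommRingCat.of k)))] (hdim : topologicalKrullDim X ≤ 1)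
    [DCoh.HasRpush (X ↘ (Spec (CommRingCat.of k)))] (h : DCoh.RpushPreservesQCoh (X ↘ (Spec (CommRingCat.of k)))) [DCoh.HasShriek (X ↘ (Spec (CommRingCat.of k))) h]
    (OY : DCoh.DQCoh (Spec (CommRingCat.of k))) (hOY : Nonempty (OY.obj ≅ DCoh.inD (Spec (CommRingCat.of k)) (Coh.structureModule (Spec (CommRingCat.of k)))))
    (K : Type u) [Field K] [Algebra k K]
    [DCoh.HasRpush (Curv2.bcSnd k X K)] (hK : DCoh.RpushPreservesQCoh (Curv2.bcSnd k X K)) [DCoh.HasShriek (Curv2.bcSnd k X K) hK]
    (OK : DCoh.DQCoh (Spec (CommRingCat.of K))) (hOK : Nonempty (OK.obj ≅ DCoh.inD (Spec (CommRingCat.of K)) (Coh.structureModule (Spec (CommRingCat.of K))))) :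
    Nonempty ((Scheme.Modules.pullback (Curv2.bcFst k X K)).obj (DCoh.dualizingMod (X ↘ (Spec (CommRingCat.of k))) h OY 1) ≅ DCoh.dualizingMod (Curv2.bcSnd k X K) hK OK 1) := by
  haveI := Groth.Agent.CurveCohLib.isNoetherian_of_proper (k := k) (X := X)
  haveI : Subsingleton (Spec (CommRingCat.of k)) := inferInstanceAs (Subsingleton (PrimeSpectrum k))
  let φ := Spec.map (CommRingCat.ofHom (algebraMap k K))
  haveI : Flat φ := HasRingHomProperty.Spec_iff.mpr
    (RingHom.flat_algebraMap_iff.2 inferInstance)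
  haveI : Flat (Curv2.bcFst k X K) := inferInstanceAs (Flat (pullback.fst _ _))
  haveI : IsProper (Curv2.bcSnd k X K) := inferInstanceAs (IsProper (pullback.snd _ _))
  haveI : CompactSpace (Curv2.bc k X K) := QuasiCompact.compactSpace_of_compactSpace (Curv2.bcSnd k X K)
  haveI : QuasiSeparatedSpace (Curv2.bc k X K) := quasiSeparatedSpace_of_quasiSeparated (Curv2.bcSnd k X K)
  exact nonempty_hd_bc (IsPullback.of_hasPullback _ _) h hK OY OK hOY hOK 1

end Groth.Agent.S6576
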