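import Groth.Statements.S1657
import Groth.Agent.CurveGor.Pluri
import Groth.Agent.CurveGor.Existence
import Groth.Agent.CurveGor18.VeryAmple
import Groth.Agent.CurveVA.Main
import Groth.Agent.AmpleX.RelAffine
import Groth.Agent.S6576

set_option autoImplicit false
set_option linter.style.haveILetI false
set_option backward.isDefEq.respectTransparency false
set_option backward.isDefEq.respectTransparency.types false
set_option maxHeartbeats 2000000
set_option synthInstance.maxHeartbeats 200000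
universe u
open CategoryTheory CategoryTheory.Limits AlgebraicGeometry
attribute [local instance] HasDerivedCategory.standard
open Curves

namespace Groth.Agent.S1657

open Groth.Agent Groth.Agent.CurveGor TFOneX

attribute [local instance] Groth.Agent.CurveBC.overBar

/-- The numerical hypothesis for tricanonical embeddings. -/
theorem three_le (K : Type u) [Field K] [IsAlgClosed K] {X : Scheme.{u}} [X.Over (Spec (CommRingCat.of K))]
    [IsProper (X ↘ Spec (CommRingCat.of K))] [AlgebraicGeometry.IsNoetherian X] [AlgebraicGeometry.IsReduced X]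
    [ConnectedSpace X] (hdim : topologicalKrullDim X ≤ 1)
    (hgen : ∀ x ∈ genericPoints (X : Type u), ¬ IsClosed ({x} : Set X)) (hg : 2 ≤ Curv2.genus K X)
    {ω : X.Modules} {t : Coh.HH X ω 1 →ₗ[K] K} (hω : Canon.IsRDualOver K X 1 ω t) (hωi : PicF.IsInvertible ω)
    (ha : CohB1.IsAmple ω) (Y : Set X) (hY : IsClosed Y) (hc : IsCompUnion Y) (hconn : _root_.IsConnected Y) :
    3 ≤ degOn K (CohB1.tensorPow ω 3) 1 Y hY + 2 * chiY K Y hY := by
  rw [degOn_pow hdim hωi hY 3, chiY_eq (k := K) hdim hY hconn]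
  obtain ⟨y, hy⟩ := hconn.nonempty
  obtain ⟨η, hη, hηY, -⟩ := hc y hy
  have hcard := (Set.ncard_pos (finite_genericPoints.inter_of_left Y)).2 ⟨η, hη, hηY⟩
  have h1 := card_le_degOn (k := K) hdim hgen ha _ Y hY hc rfl
  have hg' : (2 : ℤ) ≤ (Curv2.genus K X : ℤ) := by exact_mod_cast hg
  rcases numeric hdim hgen hω hωi hωi hY hc hconn with ⟨-, -, h, h'⟩ | ⟨h2, h⟩
  · push_cast
    omega
  · push_cast
    omega

/-- Let X be proper of dimension one over k with global functions k and genus g ≥ 2, with at-worst-nodal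
singularities, and let ω_X be its dualizing module (degree -1 cohomology sheaf of f^! O for f : X →
Spec k, assuming Rf_* on D_QCoh and its right adjoint exist). If ω_X is ample, then ω_X^{⊗3} is very
ample — some closed immersion i : X → P^n_k over k has i^* O(1) ≅ ω_X^{⊗3} — and H^1(X, ω_X^{⊗3}) =
0. -/
theorem result (k : Type u) [Field k] (X : Scheme.{u}) [X.Over (Spec (CommRingCat.of k))] [IsProper (X ↘ (Spec (CommRingCat.of k)))] (hdim : topologicalKrullDim X = 1)
    (h0 : Module.finrank k (Coh.HH X (Coh.structureModule X) 0) = 1) (hg : 2 ≤ Curv2.genus k X) (hX : Curv2.AtWorstNodal k X)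
    [DCoh.HasRpush (X ↘ (Spec (CommRingCat.of k)))] (h : DCoh.RpushPreservesQCoh (X ↘ (Spec (CommRingCat.of k)))) [DCoh.HasShriek (X ↘ (Spec (CommRingCat.of k))) h]
    (OY : DCoh.DQCoh (Spec (CommRingCat.of k))) (hOY : Nonempty (OY.obj ≅ DCoh.inD (Spec (CommRingCat.of k)) (Coh.structureModule (Spec (CommRingCat.of k)))))
    (hample : CohB1.IsAmple (DCoh.dualizingMod (X ↘ (Spec (CommRingCat.of k))) h OY 1)) :
    (∃ (n : ℕ) (i : X ⟶ CohB1.ProjSpace n k), IsClosedImmersion i ∧ i ≫ CohB1.ProjSpace.toSpec n k = X ↘ (Spec (CommRingCat.of k)) ∧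
      Nonempty ((Scheme.Modules.pullback i).obj (Twist.twistProjSpace n k 1) ≅ CohB1.tensorPow (DCoh.dualizingMod (X ↘ (Spec (CommRingCat.of k))) h OY 1) 3)) ∧
      Subsingleton (Coh.HH X (CohB1.tensorPow (DCoh.dualizingMod (X ↘ (Spec (CommRingCat.of k))) h OY 1) 3) 1) := by
  classical
  haveI := CurveCohLib.isNoetherian_of_proper (k := k) (X := X)
  haveI := CurveBC.connectedSpace_of_h0 k X h0
  haveI := isReduced_of_nodal (k := k) hdim hX
  obtain ⟨t, ht, -⟩ := CurveDual.exists_dual hdim.le h OY hOY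
  have hi := isInvertible_dualizing_of_nodal' hdim h0 hX h OY hOY
  have hgen := notClosed_of_generic (k := k) hdim
  let K := AlgebraicClosure k
  let X' := Curv2.bc k X K
  let π : X' ⟶ X := Curv2.bcFst k X K
  have hpb := CurveBC.isPullback_bar k X
  haveI : IsProper (X' ↘ Spec (CommRingCat.of K)) := CurveBC.isProper k K π hpb
  haveI : IsProper (Curv2.bcSnd k X K) := CurveBC.isProper k K π hpb
  haveI := CurveCohLib.isNoetherian_of_proper (k := K) (X := X')
  have hdim' : topologicalKrullDim X' = 1 := CurveBC.topologicalKrullDim_eq k K π hpb hdim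
  haveI := CurveBC.connectedSpace_of_h0 K X' (CurveBC.finrank_h0 k K π hpb h0)
  have hN := NodeFam.NodalCurve.bc (f := X ↘ Spec (CommRingCat.of k)) ⟨equidim (k := k) hdim, hX⟩ K
  have hX' : Curv2.AtWorstNodal K X' := hN.2
  haveI := isReduced_of_nodal (k := K) hdim' hX'
  haveI : Nonempty X' := inferInstance
  obtain ⟨hflat, hsurj⟩ := CurveBC.flat_surjective k K π hpb
  haveI := hflat; haveI := hsurj
  haveI : IsAffineHom π := MorphismProperty.of_isPullback hpb.flip (inferInstance :
    IsAffineHom (Spec.map (CommRingCat.ofHom (algebraMap k K))))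
  haveI : DCoh.HasRpush (Curv2.bcSnd k X K) := KFlatLib.hasRpush_scheme _
  have hK : DCoh.RpushPreservesQCoh (Curv2.bcSnd k X K) := fun F hF => S0998.result _ F hF
  haveI : DCoh.HasShriek (Curv2.bcSnd k X K) hK := S1766.result _ _ _ hK
  haveI : DCoh.HasRpush (X' ↘ Spec (CommRingCat.of K)) := ‹DCoh.HasRpush (Curv2.bcSnd k X K)›
  haveI : DCoh.HasShriek (X' ↘ Spec (CommRingCat.of K)) hK := ‹DCoh.HasShriek (Curv2.bcSnd k X K) hK›
  let OK : DCoh.DQCoh (Spec (CommRingCat.of K)) := ⟨DCoh.inD _ (Coh.structureModule _), RelPC17.isQCohD_structure⟩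
  obtain ⟨e⟩ := S6576.result k X hdim.le h OY hOY K hK OK ⟨Iso.refl _⟩
  obtain ⟨t', ht', -⟩ := CurveDual.exists_dual (X := X') hdim'.le hK OK ⟨Iso.refl _⟩
  have hi' : PicF.IsInvertible (DCoh.dualizingMod (Curv2.bcSnd k X K) hK OK 1) :=
    isInvertible_dualizing_of_nodal (X := X') hdim' hX' hK OK ⟨Iso.refl _⟩
  generalize DCoh.dualizingMod (X ↘ (Spec (CommRingCat.of k))) h OY 1 = ω at t ht hi e hample ⊢
  have e' : (Scheme.Modules.pullback π).obj ω ≅ DCoh.dualizingMod (X' ↘ Spec (CommRingCat.of K)) hK OK 1 := e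
  have ha' : CohB1.IsAmple (DCoh.dualizingMod (X' ↘ Spec (CommRingCat.of K)) hK OK 1) :=
    AmpleX.isAmple_of_iso e' (AmpleVan.FiniteSurj.isAmple_pullback_of_isAffineHom π hample)
  have hg' : 2 ≤ Curv2.genus K X' := by rw [CurveBC.genus_eq k K π hpb]; exact hg
  have hgen' := notClosed_of_generic (k := K) hdim'
  have hL := H23.PicMul.isInvertible_tensorPow hi 3
  refine ⟨?_, ?_⟩
  · have hL' : PicF.IsInvertible ((Scheme.Modules.pullback π).obj (CohB1.tensorPow ω 3)) :=
      PicClLib.isInvertible_pullback π hL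
    obtain ⟨e₁⟩ := AmpleVan.RelVanish.pullback_tensorPow π ω 3
    obtain ⟨e₂⟩ := AmpleVan.RelVanish.tensorPow_congr e' 3
    have hdeg : ∀ (Y : Set X') (hY : IsClosed Y), IsCompUnion Y → _root_.IsConnected Y →
        3 ≤ degOn K ((Scheme.Modules.pullback π).obj (CohB1.tensorPow ω 3)) 1 Y hY + 2 * chiY K Y hY :=
      fun Y hY hc hconn => by
        rw [degOn_congr (e₁ ≪≫ e₂) hL' hY]
        exact three_le K hdim'.le hgen' hg' ht' hi' ha' Y hY hc hconn
    exact CurveVA.exists_embedding_of_bar k X h0 hL π hpb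
      (fun he _ ha hac => CurveGor18.exists_not_mem_maximal hdim'.le hgen' ht' hi' hL' hdeg he ha hac)
      (fun he _ _ ha hb hac hbc hne => CurveGor18.exists_separate hdim'.le hgen' ht' hi' hL' hdeg he ha hac hb hbc hne)
      (fun he _ ha hac N h1 h2 => CurveGor18.exists_tangent hdim'.le hgen' ht' hi' hL' hdeg he ha hac N h1 h2)
  · refine subsingleton_H1_of_deg hdim.le hgen ht hi hL fun Y hY hc hconn => ?_
    rw [degOn_pow hdim.le hi hY 3]
    obtain ⟨y, hy⟩ := hconn.nonempty
    obtain ⟨η, hη, hηY, -⟩ := hc y hy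
    have hcard := (Set.ncard_pos (finite_genericPoints.inter_of_left Y)).2 ⟨η, hη, hηY⟩
    have h1 := card_le_degOn (k := k) hdim.le hgen hample _ Y hY hc rfl
    have h2 := degOn_dualizing hdim.le hgen ht hi hY hc
    have h3 := kY_nonneg (k := k) Y hY
    push_cast
    omega

end Groth.Agent.S1657
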