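import Groth.Statements.S16572
import Mathlib.FieldTheory.Isaacs
import Mathlib.FieldTheory.IsAlgClosed.AlgebraicClosure
import Mathlib.RingTheory.LocalRing.ResidueField.Ideal
import Mathlib.RingTheory.Polynomial.ScaleRoots
import Mathlib.RingTheory.Localization.Integer
import Mathlib.RingTheory.Spectrum.Prime.Basic

set_option autoImplicit false
universe u
open CAlg

namespace Groth.Agent.S16572
open Polynomial

/-- Let A be a commutative ring and T the quotient of the polynomial ring over A in indeterminates X_P,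
one for each monic polynomial P over A of positive degree, by the ideal generated by the elements
P(X_P). Then the map on prime spectra Spec T → Spec A is surjective, and for every prime ideal Q of
T, with p its contraction to A, the residue field of Q is algebraically closed and integral over the
residue field of p under the induced map of residue fields (so it is an algebraic closure of it). -/
theorem result (A : Type u) [CommRing A] :
    Function.Surjective (PrimeSpectrum.comap (algebraMap A (MvPolynomial {P : Polynomial A // P.Monic ∧ 0 < P.natDegree} A ⧸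
      Ideal.span (Set.range fun P : {P : Polynomial A // P.Monic ∧ 0 < P.natDegree} =>
        Polynomial.aeval (MvPolynomial.X (R := A) P) P.1)))) ∧
    ∀ (Q : Ideal (MvPolynomial {P : Polynomial A // P.Monic ∧ 0 < P.natDegree} A ⧸
      Ideal.span (Set.range fun P : {P : Polynomial A // P.Monic ∧ 0 < P.natDegree} =>
        Polynomial.aeval (MvPolynomial.X (R := A) P) P.1))) [Q.IsPrime],
      IsAlgClosed Q.ResidueField ∧
      (Ideal.ResidueField.map (Q.comap (algebraMap A (MvPolynomial {P : Polynomial A // P.Monic ∧ 0 < P.natDegree} A ⧸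
      Ideal.span (Set.range fun P : {P : Polynomial A // P.Monic ∧ 0 < P.natDegree} =>
        Polynomial.aeval (MvPolynomial.X (R := A) P) P.1)))) Q (algebraMap A (MvPolynomial {P : Polynomial A // P.Monic ∧ 0 < P.natDegree} A ⧸
      Ideal.span (Set.range fun P : {P : Polynomial A // P.Monic ∧ 0 < P.natDegree} =>
        Polynomial.aeval (MvPolynomial.X (R := A) P) P.1))) rfl).IsIntegral := by
  classical
  let I := Ideal.span (Set.range fun P : {P : Polynomial A // P.Monic ∧ 0 < P.natDegree} =>
        Polynomial.aeval (MvPolynomial.X (R := A) P) P.1)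
  let T := MvPolynomial {P : Polynomial A // P.Monic ∧ 0 < P.natDegree} A ⧸ I
  constructor
  · intro p
    let k := AlgebraicClosure p.asIdeal.ResidueField
    have hroot : ∀ P : {P : Polynomial A // P.Monic ∧ 0 < P.natDegree}, ∃ y : k, Polynomial.aeval y P.1 = 0 := by
      intro P
      obtain ⟨y, hy⟩ := IsAlgClosed.exists_root (P.1.map (algebraMap A k)) (by
        rw [Polynomial.degree_eq_natDegree (P.2.1.map _).ne_zero, P.2.1.natDegree_map]
        exact_mod_cast P.2.2.ne')
      exact ⟨y, by rwa [Polynomial.IsRoot, Polynomial.eval_map, ← Polynomial.aeval_def] at hy⟩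
    choose y hy using hroot
    let ψ : T →ₐ[A] k := Ideal.Quotient.liftₐ I (MvPolynomial.aeval y) (by
      intro a ha
      refine (Ideal.span_le (I := RingHom.ker (MvPolynomial.aeval y))).2 ?_ ha
      rintro _ ⟨P, rfl⟩
      simp only [SetLike.mem_coe, RingHom.mem_ker, ← Polynomial.aeval_algHom_apply, MvPolynomial.aeval_X, hy])
    refine ⟨⟨RingHom.ker ψ, RingHom.ker_isPrime _⟩, PrimeSpectrum.ext ?_⟩
    show (RingHom.ker ψ).comap (algebraMap A T) = p.asIdeal
    ext a
    rw [Ideal.mem_comap, RingHom.mem_ker, AlgHom.commutes, IsScalarTower.algebraMap_apply A p.asIdeal.ResidueField k,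
      map_eq_zero, Ideal.algebraMap_residueField_eq_zero]
  intro (Q : Ideal T) (hQ : Q.IsPrime)
  haveI := hQ
  let p : Ideal A := Q.comap (algebraMap A T)
  let φ : p.ResidueField →+* Q.ResidueField := Ideal.ResidueField.map p Q (algebraMap A T) rfl
  have hint : ∀ t : T, IsIntegral A t := by
    intro t
    obtain ⟨t, rfl⟩ := Ideal.Quotient.mk_surjective t
    induction t using MvPolynomial.induction_on with
    | C a => exact isIntegral_algebraMap (R := A) (A := T) (x := a)
    | add u v hu hv => rw [map_add]; exact hu.add hv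
    | mul_X u P hu =>
      rw [map_mul]
      refine hu.mul ⟨P.1, P.2.1, ?_⟩
      show Polynomial.aeval (Ideal.Quotient.mkₐ A I (MvPolynomial.X P)) P.1 = 0
      rw [Polynomial.aeval_algHom_apply]
      exact Ideal.Quotient.eq_zero_iff_mem.2 (Ideal.subset_span ⟨P, rfl⟩)
  letI : Algebra p.ResidueField Q.ResidueField := φ.toAlgebra
  haveI : IsScalarTower A p.ResidueField Q.ResidueField := IsScalarTower.of_algebraMap_eq fun a => by
    rw [IsScalarTower.algebraMap_apply A T Q.ResidueField]
    exact (Ideal.ResidueField.map_algebraMap p Q (algebraMap A T) rfl a).symm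
  have hI : ∀ x : Q.ResidueField, IsIntegral p.ResidueField x := by
    intro x
    obtain ⟨a, b, hb, rfl⟩ := IsFractionRing.div_surjective (T ⧸ Q) x
    have hc : ∀ c : T, IsIntegral p.ResidueField (algebraMap T Q.ResidueField c) := fun c =>
      ((hint c).map (IsScalarTower.toAlgHom A T Q.ResidueField)).tower_top
    obtain ⟨a, rfl⟩ := Ideal.Quotient.mk_surjective a
    obtain ⟨b, rfl⟩ := Ideal.Quotient.mk_surjective b
    rw [div_eq_mul_inv]
    exact (hc a).mul (hc b).inv
  refine ⟨?_, fun x => hI x⟩
  haveI : Algebra.IsAlgebraic p.ResidueField Q.ResidueField := ⟨fun x => (hI x).isAlgebraic⟩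
  refine (IsAlgClosure.of_exists_root (F := p.ResidueField) (E := Q.ResidueField) fun f hf hirr => ?_).isAlgClosed
  obtain ⟨⟨d, hd⟩, hdi⟩ := IsLocalization.exist_integer_multiples (nonZeroDivisors (A ⧸ p)) (Finset.range f.natDegree) f.coeff
  let D := algebraMap (A ⧸ p) p.ResidueField d
  have hD : D ≠ 0 := IsFractionRing.to_map_ne_zero_of_mem_nonZeroDivisors hd
  have hlift : f.scaleRoots D ∈ Polynomial.lifts (algebraMap A p.ResidueField) := by
    rw [Polynomial.lifts_iff_coeff_lifts]
    intro i
    rw [Polynomial.coeff_scaleRoots]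
    rcases lt_trichotomy i f.natDegree with hi | rfl | hi
    · obtain ⟨z, hz⟩ := hdi i (Finset.mem_range.2 hi)
      obtain ⟨z, rfl⟩ := Ideal.Quotient.mk_surjective z
      obtain ⟨d', hd'⟩ := Ideal.Quotient.mk_surjective d
      obtain ⟨j, hj⟩ : ∃ j, f.natDegree - i = j + 1 := ⟨f.natDegree - i - 1, by omega⟩
      refine ⟨z * d' ^ j, ?_⟩
      rw [map_mul, map_pow, hj, pow_succ']
      show algebraMap (A ⧸ p) p.ResidueField (Ideal.Quotient.mk p z) * algebraMap (A ⧸ p) p.ResidueField (Ideal.Quotient.mk p d') ^ j = _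
      rw [hd', show algebraMap (A ⧸ p) p.ResidueField (Ideal.Quotient.mk p z) = f.coeff i * D by
        rw [hz, Algebra.smul_def, mul_comm]]
      ring
    · exact ⟨1, by simp [hf]⟩
    · exact ⟨0, by simp [Polynomial.coeff_eq_zero_of_natDegree_lt hi]⟩
  obtain ⟨g, hg, hgdeg, hgm⟩ := Polynomial.lifts_and_degree_eq_and_monic hlift ((Polynomial.monic_scaleRoots_iff D).2 hf)
  have hpos : 0 < g.natDegree := by
    rw [Polynomial.natDegree_eq_of_degree_eq hgdeg, Polynomial.natDegree_scaleRoots]
    exact hirr.natDegree_pos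
  let y : Q.ResidueField := algebraMap T Q.ResidueField (Ideal.Quotient.mk I (MvPolynomial.X ⟨g, hgm, hpos⟩))
  refine ⟨y / φ D, ?_⟩
  have h0 : Polynomial.eval₂ φ (φ D * (y / φ D)) (f.scaleRoots D) = 0 := by
    rw [mul_div_cancel₀ _ ((map_ne_zero φ).2 hD), ← hg, ← RingHom.algebraMap_toAlgebra φ, ← Polynomial.aeval_def,
      Polynomial.aeval_map_algebraMap, Polynomial.aeval_algebraMap_apply]
    show algebraMap T Q.ResidueField (Polynomial.aeval (Ideal.Quotient.mkₐ A I (MvPolynomial.X ⟨g, hgm, hpos⟩)) g) = 0
    rw [Polynomial.aeval_algHom_apply, show Ideal.Quotient.mkₐ A I (Polynomial.aeval (MvPolynomial.X (R := A)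
      (⟨g, hgm, hpos⟩ : {P : Polynomial A // P.Monic ∧ 0 < P.natDegree})) g) = 0 from Ideal.Quotient.eq_zero_iff_mem.2 (Ideal.subset_span ⟨⟨g, hgm, hpos⟩, rfl⟩), map_zero]
  rw [Polynomial.scaleRoots_eval₂_mul] at h0
  exact (mul_eq_zero.1 h0).resolve_left (pow_ne_zero _ ((map_ne_zero φ).2 hD))

end Groth.Agent.S16572
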