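import Groth.Statements.S16574
import Groth.Agent.FinExt.Alg

set_option autoImplicit false
universe u
open CategoryTheory AlgebraicGeometry
open AffSch

namespace Groth.Agent.S16574
set_option backward.isDefEq.respectTransparency false
set_option backward.isDefEq.respectTransparency.types false
open CategoryTheory AlgebraicGeometry TopologicalSpace
open Groth.Agent

variable {A : Type u} [CommRing A] {U : (Spec (CommRingCat.of A)).Opens} {U' : Scheme.{u}}

theorem affine_pre (g : U' ⟶ (U : Scheme.{u})) [IsFinite g] (a : Γ(Spec (CommRingCat.of A), ⊤))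
    (hD : (Spec (CommRingCat.of A)).basicOpen a ≤ U.ι.opensRange) :
    IsAffineOpen ((g ≫ U.ι) ⁻¹ᵁ (Spec (CommRingCat.of A)).basicOpen a) := by
  rw [Scheme.Hom.comp_preimage]
  refine IsAffineOpen.preimage ?_ g
  refine (U.ι.isAffineOpen_iff_of_isOpenImmersion).1 ?_
  rw [Scheme.Hom.image_preimage_eq_opensRange_inf, inf_eq_right.2 hD]
  exact (isAffineOpen_top _).basicOpen a

theorem finite_appLE {X Y : Scheme.{u}} (f : X ⟶ Y) {D : Y.Opens} (h : (f.app D).hom.Finite) {W : X.Opens}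
    (e : W = f ⁻¹ᵁ D) : (f.appLE D W e.le).hom.Finite := by
  subst e
  rw [← Scheme.Hom.app_eq_appLE]
  exact h

theorem step (g : U' ⟶ (U : Scheme.{u})) [IsFinite g] [CompactSpace U'] [QuasiSeparatedSpace U']
    (a : Γ(Spec (CommRingCat.of A), ⊤)) (hD : (Spec (CommRingCat.of A)).basicOpen a ≤ U.ι.opensRange) :
    letI : Algebra Γ(Spec (CommRingCat.of A), ⊤) Γ(U', ⊤) := (g ≫ U.ι).appTop.hom.toAlgebra
    ∃ S : Finset Γ(U', ⊤), (∀ z ∈ S, IsIntegral Γ(Spec (CommRingCat.of A), ⊤) z) ∧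
      ∀ e : Γ(U', U'.basicOpen ((g ≫ U.ι).appTop a)), ∃ (n : ℕ) (b : Γ(U', ⊤)),
        b ∈ Algebra.adjoin Γ(Spec (CommRingCat.of A), ⊤) (S : Set Γ(U', ⊤)) ∧
        e * U'.presheaf.map (homOfLE le_top).op ((g ≫ U.ι).appTop a) ^ n = U'.presheaf.map (homOfLE le_top).op b := by
  letI : Algebra Γ(Spec (CommRingCat.of A), ⊤) Γ(U', ⊤) := (g ≫ U.ι).appTop.hom.toAlgebra
  let g' := g ≫ U.ι
  let D := (Spec (CommRingCat.of A)).basicOpen a
  haveI := (isAffineOpen_top (Spec (CommRingCat.of A))).isLocalization_basicOpen a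
  haveI : IsLocalization.Away (algebraMap Γ(Spec (CommRingCat.of A), ⊤) Γ(U', ⊤) a) Γ(U', U'.basicOpen (g'.appTop a)) :=
    isLocalization_basicOpen_of_qcqs isCompact_univ isQuasiSeparated_univ (g'.appTop a)
  have hDa : IsAffineOpen (U.ι ⁻¹ᵁ D) := (U.ι.isAffineOpen_iff_of_isOpenImmersion).1 (by
    rw [Scheme.Hom.image_preimage_eq_opensRange_inf, inf_eq_right.2 hD]
    exact (isAffineOpen_top _).basicOpen a)
  haveI : IsIso (U.ι.app D) := U.ι.isIso_app D hD
  have hfin : (g'.app D).hom.Finite := by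
    rw [Scheme.Hom.comp_app, CommRingCat.hom_comp]
    exact RingHom.Finite.comp (g.finite_app _ hDa)
      (RingHom.Finite.of_surjective _ (ConcreteCategory.bijective_of_isIso (U.ι.app D)).2)
  refine FinExt.exists_integral_gens (A := Γ(Spec (CommRingCat.of A), ⊤)) (G := Γ(U', ⊤)) a
    (g'.appLE D (U'.basicOpen (g'.appTop a)) (Scheme.preimage_basicOpen_top g' a).ge).hom
    (finite_appLE g' hfin (Scheme.preimage_basicOpen_top g' a).symm) ?_
  show CommRingCat.Hom.hom ((Spec (CommRingCat.of A)).presheaf.map (homOfLE le_top).op ≫ g'.appLE D _ _) =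
    CommRingCat.Hom.hom (g'.appTop ≫ U'.presheaf.map (homOfLE le_top).op)
  rw [g'.map_appLE, Scheme.Hom.appLE]

theorem away_sub [CompactSpace U'] [QuasiSeparatedSpace U'] {R : Type u} [CommRing R] [Algebra R Γ(U', ⊤)]
    (B : Subalgebra R Γ(U', ⊤)) (b : B) (r : Γ(U', ⊤)) (hb : (b : Γ(U', ⊤)) = r)
    (hsurj : ∀ e : Γ(U', U'.basicOpen r), ∃ (n : ℕ) (c : B),
      e * U'.presheaf.map (homOfLE le_top).op r ^ n = U'.presheaf.map (homOfLE le_top).op (c : Γ(U', ⊤))) :
    letI := (CommRingCat.ofHom B.val.toRingHom ≫ U'.presheaf.map (homOfLE (le_top : U'.basicOpen r ≤ ⊤)).op).hom.toAlgebra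
    IsLocalization.Away b Γ(U', U'.basicOpen r) := by
  letI := (CommRingCat.ofHom B.val.toRingHom ≫ U'.presheaf.map (homOfLE (le_top : U'.basicOpen r ≤ ⊤)).op).hom.toAlgebra
  subst hb
  haveI := isLocalization_basicOpen_of_qcqs (X := U') isCompact_univ isQuasiSeparated_univ (b : Γ(U', ⊤))
  refine IsLocalization.Away.mk b ?_ (fun e => ?_) fun x y h => ?_
  · exact IsLocalization.Away.algebraMap_isUnit (S := Γ(U', U'.basicOpen (b : Γ(U', ⊤)))) (b : Γ(U', ⊤))
  · obtain ⟨n, c, hc⟩ := hsurj e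
    exact ⟨n, c, hc⟩
  · obtain ⟨n, hn⟩ := IsLocalization.Away.exists_of_eq (S := Γ(U', U'.basicOpen (b : Γ(U', ⊤)))) (b : Γ(U', ⊤)) h
    exact ⟨n, Subtype.ext hn⟩


/-- Let A be a commutative ring, U a quasi-compact open subscheme of Spec A and U' → U a finite
morphism. Then there exist a finite A-algebra B and a morphism U' → Spec B such that the square
formed by U' → U, U' → Spec B, Spec B → Spec A and the inclusion of U is cartesian; in particular U'
→ Spec B is the open immersion of the preimage of U. (If U contains the complement of the closed set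
of an ideal I then this preimage contains the complement of the closed set of IB; that clause is
automatic and omitted.) -/
theorem result
    (A : Type u) [CommRing A] (U : (Spec (CommRingCat.of A)).Opens) (hU : IsCompact (U : Set (Spec (CommRingCat.of A))))
    (U' : Scheme.{u}) (g : U' ⟶ (U : Scheme.{u})) [IsFinite g] :
    ∃ (B : Type u) (_ : CommRing B) (_ : Algebra A B) (i : U' ⟶ Spec (CommRingCat.of B)),
      Module.Finite A B ∧ IsPullback i g (Spec.map (CommRingCat.ofHom (algebraMap A B))) U.ι := by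
  haveI : CompactSpace (U : Scheme.{u}) := isCompact_iff_compactSpace.1 hU
  let g' : U' ⟶ Spec (CommRingCat.of A) := g ≫ U.ι
  haveI : CompactSpace U' := QuasiCompact.compactSpace_of_compactSpace g
  haveI : QuasiSeparatedSpace U' := quasiSeparatedSpace_of_quasiSeparated g'
  let A₀ : Type u := Γ(Spec (CommRingCat.of A), ⊤)
  let G : Type u := Γ(U', ⊤)
  letI : Algebra A₀ G := g'.appTop.hom.toAlgebra
  obtain ⟨t, ht⟩ := PrimeSpectrum.isCompact_isOpen_iff.1 ⟨hU, U.2⟩
  let e₀ : A →+* A₀ := (Scheme.ΓSpecIso (CommRingCat.of A)).inv.hom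
  have hD : ∀ f ∈ t, (Spec (CommRingCat.of A)).basicOpen (e₀ f) ≤ U.ι.opensRange := fun f hf => by
    rw [Scheme.Opens.opensRange_ι]
    intro x hx
    rw [basicOpen_eq_of_affine] at hx
    show x ∈ (↑U : Set (Spec (CommRingCat.of A)))
    rw [← ht]
    exact fun h => hx (h hf)
  have hstep : ∀ f : t, ∃ S : Finset G, (∀ z ∈ S, IsIntegral A₀ z) ∧
      ∀ e : Γ(U', U'.basicOpen (g'.appTop (e₀ f.1))), ∃ (n : ℕ) (b : G), b ∈ Algebra.adjoin A₀ (S : Set G) ∧
        e * U'.presheaf.map (homOfLE le_top).op (g'.appTop (e₀ f.1)) ^ n = U'.presheaf.map (homOfLE le_top).op b :=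
    fun f => step g (e₀ f.1) (hD f.1 f.2)
  choose S hS hSe using hstep
  classical
  let T : Finset G := Finset.univ.biUnion S
  let B : Subalgebra A₀ G := Algebra.adjoin A₀ (T : Set G)
  haveI : Module.Finite A₀ B := Module.Finite.iff_fg.2 (fg_adjoin_of_finite T.finite_toSet fun x hx => by
    obtain ⟨f, -, hf⟩ := Finset.mem_biUnion.1 hx
    exact hS f x hf)
  letI : Algebra A B := ((algebraMap A₀ B).comp e₀).toAlgebra
  have he₀ : Function.Surjective e₀ := (ConcreteCategory.bijective_of_isIso (Scheme.ΓSpecIso (CommRingCat.of A)).inv).2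
  haveI : Module.Finite A B :=
    RingHom.finite_algebraMap.1 (RingHom.Finite.comp (RingHom.finite_algebraMap.2 inferInstance) (RingHom.Finite.of_surjective e₀ he₀))
  let i : U' ⟶ Spec (CommRingCat.of B) := U'.toSpecΓ ≫ Spec.map (CommRingCat.ofHom B.val.toRingHom)
  have hi : i ≫ Spec.map (CommRingCat.ofHom (algebraMap A B)) = g' := by
    show (U'.toSpecΓ ≫ Spec.map _) ≫ Spec.map _ = _
    rw [Category.assoc, ← Spec.map_comp]
    have e : CommRingCat.ofHom (algebraMap A B) ≫ CommRingCat.ofHom B.val.toRingHom =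
        (Scheme.ΓSpecIso (CommRingCat.of A)).inv ≫ g'.appTop := by
      ext x; rfl
    rw [e, Spec.map_comp, ← Category.assoc, ← Scheme.toSpecΓ_naturality, Category.assoc, ← SpecMap_ΓSpecIso_hom,
      ← Spec.map_comp, Iso.inv_hom_id, Spec.map_id, Category.comp_id]
  have hg' : ∀ z : U', g' z ∈ (U : Set (Spec (CommRingCat.of A))) := fun z => (g z).2
  let b : t → B := fun f => algebraMap A B f.1
  let r : t → G := fun f => g'.appTop (e₀ f.1)
  have hpre : ∀ f : t, i ⁻¹ᵁ PrimeSpectrum.basicOpen (b f) = U'.basicOpen (r f) := fun f => by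
    rw [Scheme.Hom.comp_preimage]
    exact Scheme.toSpecΓ_preimage_basicOpen U' (r f)
  have hcov : ∀ y : Spec (CommRingCat.of B), Spec.map (CommRingCat.ofHom (algebraMap A B)) y ∈ U →
      ∃ f : t, y ∈ PrimeSpectrum.basicOpen (b f) := fun y hy => by
    have hy' : Spec.map (CommRingCat.ofHom (algebraMap A B)) y ∈ (PrimeSpectrum.zeroLocus (t : Set A))ᶜ := by
      rw [ht]; exact hy
    obtain ⟨f, hft, hfy⟩ := Set.not_subset.1 hy'
    exact ⟨⟨f, hft⟩, hfy⟩
  have hloc : ∀ f : t, ∃ φ : CommRingCat.of B ⟶ Γ(U', U'.basicOpen (r f)),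
      IsAffineOpen (U'.basicOpen (r f)) ∧ (U'.basicOpen (r f)).toSpecΓ ≫ Spec.map φ = (U'.basicOpen (r f)).ι ≫ i ∧
      (letI := φ.hom.toAlgebra; IsLocalization.Away (b f) Γ(U', U'.basicOpen (r f))) := fun f => by
    refine ⟨CommRingCat.ofHom B.val.toRingHom ≫ U'.presheaf.map (homOfLE le_top).op, ?_, ?_, ?_⟩
    · show IsAffineOpen (U'.basicOpen (g'.appTop (e₀ f.1)))
      rw [← Scheme.preimage_basicOpen_top]
      exact (affine_pre g (e₀ f.1) (hD f.1 f.2))
    · rw [Spec.map_comp, ← Category.assoc, Scheme.Opens.toSpecΓ_SpecMap_presheaf_map_top, Category.assoc]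
    · exact away_sub B (b f) (r f) rfl fun e => by
        obtain ⟨n, c, hc, he⟩ := hSe f e
        exact ⟨n, ⟨c, Algebra.adjoin_mono (Finset.coe_subset.2 (Finset.subset_biUnion_of_mem S (Finset.mem_univ f))) hc⟩, he⟩
  choose φ haff hφ haway using hloc
  haveI : ∀ f : t, IsAffine (U'.basicOpen (r f) : Scheme.{u}) := haff
  have hoi : ∀ f, IsOpenImmersion ((U'.basicOpen (r f)).ι ≫ i) := fun f => by
    rw [← hφ f]
    letI := (φ f).hom.toAlgebra
    haveI := haway f
    haveI : IsOpenImmersion (Spec.map (φ f)) := IsOpenImmersion.of_isLocalization (b f)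
    haveI : IsIso (U'.basicOpen (r f)).toSpecΓ := (haff f).isoSpec.isIso_hom
    infer_instance
  haveI : IsOpenImmersion i := by
    refine IsZariskiLocalAtTarget.of_forall_source_exists_preimage _ fun x => ?_
    obtain ⟨f, hf⟩ := hcov (i x) (by rw [← Scheme.Hom.comp_apply, hi]; exact hg' x)
    refine ⟨PrimeSpectrum.basicOpen (b f), hf, ?_⟩
    rw [hpre f]
    exact hoi f
  refine ⟨B, inferInstance, inferInstance, i, inferInstance, (IsOpenImmersion.isPullback g i U.ι _ hi ?_).flip⟩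
  refine TopologicalSpace.Opens.ext (Set.ext fun y => ⟨fun hy => ?_, ?_⟩)
  · obtain ⟨f, hf⟩ := hcov y (by simpa using hy)
    letI := (φ f).hom.toAlgebra
    haveI := haway f
    have hy' : y ∈ Set.range (PrimeSpectrum.comap (φ f).hom) := by
      have h := PrimeSpectrum.localization_away_comap_range Γ(U', U'.basicOpen (r f)) (b f)
      exact h.symm ▸ hf
    obtain ⟨w, hw⟩ := hy'
    haveI : IsIso (U'.basicOpen (r f)).toSpecΓ := (haff f).isoSpec.isIso_hom
    obtain ⟨z, hz⟩ := (U'.basicOpen (r f)).toSpecΓ.surjective w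
    refine ⟨(U'.basicOpen (r f)).ι z, ?_⟩
    rw [← Scheme.Hom.comp_apply, ← hφ f, Scheme.Hom.comp_apply, hz]
    exact hw
  · rintro ⟨z, rfl⟩
    show Spec.map _ (i z) ∈ U.ι.opensRange
    rw [← Scheme.Hom.comp_apply, hi, Scheme.Opens.opensRange_ι]
    exact hg' z

end Groth.Agent.S16574
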