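import Groth.Statements.S16578
import Groth.Agent.Rig7.Branch
import Groth.Agent.S0540
import Groth.Agent.Hensel.HenselizationDescent
import Groth.Agent.IsoNatLib.SmoothCrit
-- import your own Groth.Agent.* helpers here

set_option autoImplicit false
universe u
open Hensel

namespace Groth.Agent.S16578

/-- Let A be a Noetherian local ring with completion Â at its maximal ideal, S' a strict henselization
of A, T' a strict henselization of Â, and p a prime ideal of A. Say that a prime p of a Noetherian
local ring with strict henselization S is an immediate étale generization of the closed point when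
some minimal prime P over pS has dim S/P = 1. Then p is an immediate étale generization of the
closed point of A if and only if some minimal prime q over pÂ (a maximal point of the fibre over p
of Spec Â → Spec A) is an immediate étale generization of the closed point of Â. -/
theorem result
    (A : Type u) [CommRing A] [IsNoetherianRing A] [IsLocalRing A]
    (S' : Type u) [CommRing S'] [IsLocalRing S'] [Algebra A S'] [IsLocalHom (algebraMap A S')]
    [Hensel.IsStrictHenselization A S']
    (T' : Type u) [CommRing T'] [IsLocalRing T'] [Algebra (AdicCompletion (IsLocalRing.maximalIdeal A) A) T'] [IsLocalHom (algebraMap (AdicCompletion (IsLocalRing.maximalIdeal A) A) T')]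
    [Hensel.IsStrictHenselization (AdicCompletion (IsLocalRing.maximalIdeal A) A) T']
    (p : Ideal A) [p.IsPrime] :
    (∃ P ∈ (p.map (algebraMap A S')).minimalPrimes, ringKrullDim (S' ⧸ P) = 1) ↔
    (∃ q ∈ (p.map (algebraMap A (AdicCompletion (IsLocalRing.maximalIdeal A) A))).minimalPrimes,
      ∃ Q ∈ (q.map (algebraMap (AdicCompletion (IsLocalRing.maximalIdeal A) A) T')).minimalPrimes, ringKrullDim (T' ⧸ Q) = 1) := by
  haveI : HenselianLocalRing S' := Hensel.IsStrictHenselization.henselian (R := A)
  haveI hTh : HenselianLocalRing T' :=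
    Hensel.IsStrictHenselization.henselian (R := AdicCompletion (IsLocalRing.maximalIdeal A) A)
  let Ah := AdicCompletion (IsLocalRing.maximalIdeal A) A
  haveI : IsNoetherianRing Ah := LC.Canon.isNoetherianRing_completion (R := A)
  haveI : IsNoetherianRing S' := (S0540.result A S').1 inferInstance
  haveI : IsNoetherianRing T' := (S0540.result Ah T').1 inferInstance
  have hfg : (IsLocalRing.maximalIdeal A).FG := IsNoetherian.noetherian _
  haveI : IsLocalHom (algebraMap A Ah) := AdicCompletion.algebraMap_isLocalHom_of_fg hfg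
  let fA : A →+* T' := (algebraMap Ah T').comp (algebraMap A Ah)
  haveI : IsLocalHom fA := RingHom.isLocalHom_comp _ _
  have hmAh : (IsLocalRing.maximalIdeal A).map (algebraMap A Ah) = IsLocalRing.maximalIdeal Ah :=
    (AdicCompletion.maximalIdeal_eq_map_of_fg hfg).symm
  have hmS := (Hensel.isHenzLike_of_isStrictHenselization A S').map_maximalIdeal
  have hmT := (Hensel.isHenzLike_of_isStrictHenselization Ah T').map_maximalIdeal
  haveI hflat : Module.FaithfullyFlat Ah T' := (Hensel.isHenzLike_of_isStrictHenselization Ah T').faithfullyFlat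
  -- residue fields
  let kA := IsLocalRing.ResidueField A
  let eAbij : Function.Bijective (IsLocalRing.ResidueField.map (algebraMap A Ah)) := ⟨RingHom.injective _, fun z => by
    obtain ⟨z, rfl⟩ := IsLocalRing.residue_surjective z
    obtain ⟨a, ha⟩ := Ideal.Quotient.mk_surjective (AdicCompletion.evalₐ (IsLocalRing.maximalIdeal A) 1 z)
    refine ⟨IsLocalRing.residue A a, ?_⟩
    rw [IsLocalRing.ResidueField.map_residue]
    refine Ideal.Quotient.eq.2 ?_
    have h1 := Rig7.mem_map_pow_of_eval_eq_zero (IsLocalRing.maximalIdeal A) hfg 1 (x := algebraMap A Ah a - z)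
      (by rw [map_sub, Rig7.eval_algebraMap, ha, sub_self])
    rwa [pow_one, hmAh] at h1⟩
  let eA := RingEquiv.ofBijective _ eAbij
  letI : Algebra kA (IsLocalRing.ResidueField T') := (IsLocalRing.ResidueField.map fA).toAlgebra
  haveI : IsSepClosure kA (IsLocalRing.ResidueField T') := by
    have hT := Hensel.IsStrictHenselization.isSepClosure (R := Ah) (S := T')
    haveI := hT.separable
    refine ⟨hT.sep_closed, ?_⟩
    refine Algebra.IsSeparable.of_equiv_equiv eA.symm (RingEquiv.refl (IsLocalRing.ResidueField T')) (RingHom.ext fun x => ?_)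
    obtain ⟨y, rfl⟩ := eA.surjective x
    obtain ⟨a, rfl⟩ := IsLocalRing.residue_surjective y
    rw [RingHom.comp_apply, RingHom.comp_apply]
    erw [RingEquiv.symm_apply_apply]
    rfl
  haveI := Hensel.IsStrictHenselization.isSepClosure (R := A) (S := S')
  let τe := IsSepClosure.equiv kA (IsLocalRing.ResidueField S') (IsLocalRing.ResidueField T')
  obtain ⟨h, ⟨hh, hhres⟩, -⟩ := Hensel.IsStrictHenselization.universal (R := A) (S := S') T' fA τe.toAlgHom.toRingHom
    (RingHom.ext fun x => τe.commutes x)
  haveI hloch : IsLocalHom h := ⟨fun s hs => by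
    by_contra hn
    have h1 := hhres s
    rw [(IsLocalRing.residue_eq_zero_iff s).2 hn, map_zero, IsLocalRing.residue_eq_zero_iff] at h1
    exact h1 hs⟩
  have hmap : (IsLocalRing.maximalIdeal S').map h = IsLocalRing.maximalIdeal T' := by
    rw [← hmS, Ideal.map_map, hh, ← Ideal.map_map, hmAh, hmT]
  -- the inverse on truncations
  have htrunc : ∀ n, (∀ r, h r ∈ IsLocalRing.maximalIdeal T' ^ n → r ∈ IsLocalRing.maximalIdeal S' ^ n) ∧
      ∀ s, ∃ r, s - h r ∈ IsLocalRing.maximalIdeal T' ^ n := by
    intro n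
    rcases Nat.eq_zero_or_pos n with rfl | hn
    · exact ⟨fun r _ => by simp, fun s => ⟨0, by simp⟩⟩
    let mS := IsLocalRing.maximalIdeal S' ^ n
    let mT := IsLocalRing.maximalIdeal T' ^ n
    have hne : mS ≠ ⊤ := ne_top_of_le_ne_top (IsLocalRing.maximalIdeal.isMaximal S').ne_top (Ideal.pow_le_self hn.ne')
    have hneT : mT ≠ ⊤ := ne_top_of_le_ne_top (IsLocalRing.maximalIdeal.isMaximal T').ne_top (Ideal.pow_le_self hn.ne')
    haveI : HenselianLocalRing (S' ⧸ mS) := IsoNatLib.henselianLocalRing_quotient mS hne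
    haveI : HenselianLocalRing (T' ⧸ mT) := IsoNatLib.henselianLocalRing_quotient mT hneT
    haveI : IsLocalHom (Ideal.Quotient.mk mS) := .of_surjective _ Ideal.Quotient.mk_surjective
    haveI : IsLocalHom (Ideal.Quotient.mk mT) := .of_surjective _ Ideal.Quotient.mk_surjective
    have hAn : IsLocalRing.maximalIdeal A ^ n ≤ RingHom.ker ((Ideal.Quotient.mk mS).comp (algebraMap A S')) := fun a ha => by
      rw [RingHom.mem_ker, RingHom.comp_apply, Ideal.Quotient.eq_zero_iff_mem]
      show algebraMap A S' a ∈ IsLocalRing.maximalIdeal S' ^ n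
      rw [← hmS, ← Ideal.map_pow]
      exact Ideal.mem_map_of_mem _ ha
    let f : Ah →+* S' ⧸ mS := (Ideal.Quotient.lift (IsLocalRing.maximalIdeal A ^ n) _ hAn).comp
      (AdicCompletion.evalₐ (IsLocalRing.maximalIdeal A) n).toRingHom
    have hfA : ∀ a, f (algebraMap A Ah a) = Ideal.Quotient.mk mS (algebraMap A S' a) := fun a => by
      show Ideal.Quotient.lift _ _ hAn (AdicCompletion.evalₐ (IsLocalRing.maximalIdeal A) n (algebraMap A Ah a)) = _
      rw [Rig7.eval_algebraMap]
      rfl
    haveI : IsLocalHom f := ⟨fun z hz => by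
      by_contra hn'
      have hz' : z ∈ (IsLocalRing.maximalIdeal A).map (algebraMap A Ah) := by rw [hmAh]; exact hn'
      have hle : (IsLocalRing.maximalIdeal A).map (algebraMap A Ah) ≤ (IsLocalRing.maximalIdeal (S' ⧸ mS)).comap f :=
        Ideal.map_le_iff_le_comap.2 fun a ha => by
          show f (algebraMap A Ah a) ∈ IsLocalRing.maximalIdeal (S' ⧸ mS)
          rw [hfA]
          exact map_nonunit (Ideal.Quotient.mk mS) _ (map_nonunit (algebraMap A S') a ha)
      exact hle hz' hz⟩
    let τ2 : IsLocalRing.ResidueField T' →+* IsLocalRing.ResidueField (S' ⧸ mS) :=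
      (IsLocalRing.ResidueField.map (Ideal.Quotient.mk mS)).comp τe.symm.toAlgHom.toRingHom
    obtain ⟨g, ⟨hg, hgres⟩, -⟩ := Hensel.IsStrictHenselization.universal (R := Ah) (S := T') (S' ⧸ mS) f τ2 (by
      refine RingHom.ext fun x => ?_
      obtain ⟨y, rfl⟩ := eA.surjective x
      obtain ⟨a, rfl⟩ := IsLocalRing.residue_surjective y
      show IsLocalRing.ResidueField.map (Ideal.Quotient.mk mS) (τe.symm (algebraMap kA (IsLocalRing.ResidueField T') (IsLocalRing.residue A a))) =
        IsLocalRing.ResidueField.map f (IsLocalRing.residue Ah (algebraMap A Ah a))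
      rw [AlgEquiv.commutes, IsLocalRing.ResidueField.map_residue, hfA]
      rfl)
    have hgh : g.comp h = Ideal.Quotient.mk mS := by
      obtain ⟨g₀, -, hu⟩ := Hensel.IsStrictHenselization.universal (R := A) (S := S') (S' ⧸ mS)
        ((Ideal.Quotient.mk mS).comp (algebraMap A S')) (IsLocalRing.ResidueField.map (Ideal.Quotient.mk mS)) (by
          refine RingHom.ext fun x => ?_
          obtain ⟨a, rfl⟩ := IsLocalRing.residue_surjective x
          rfl)
      refine (hu _ ⟨?_, fun s => ?_⟩).trans (hu (Ideal.Quotient.mk mS) ⟨rfl, fun s => rfl⟩).symm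
      · refine RingHom.ext fun a => ?_
        show g (h (algebraMap A S' a)) = _
        rw [show h (algebraMap A S' a) = fA a from RingHom.congr_fun hh a]
        exact (RingHom.congr_fun hg (algebraMap A Ah a)).trans (hfA a)
      · show IsLocalRing.residue _ (g (h s)) = _
        rw [hgres, hhres]
        show IsLocalRing.ResidueField.map _ (τe.symm (τe (IsLocalRing.residue S' s))) = _
        rw [AlgEquiv.symm_apply_apply]
    refine ⟨fun r hr => ?_, fun s => ?_⟩
    · refine Ideal.Quotient.eq_zero_iff_mem.1 ?_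
      rw [← RingHom.congr_fun hgh r]
      have hle : (IsLocalRing.maximalIdeal T').map g ≤ IsLocalRing.maximalIdeal (S' ⧸ mS) := by
        rw [← hmT, Ideal.map_map, hg]
        exact Ideal.map_le_iff_le_comap.2 fun z hz => map_nonunit f z hz
      have hnil : IsLocalRing.maximalIdeal (S' ⧸ mS) ^ n = ⊥ := by
        rw [← IsLocalRing.map_maximalIdeal_of_surjective (Ideal.Quotient.mk mS) Ideal.Quotient.mk_surjective, ← Ideal.map_pow]
        exact Ideal.map_quotient_self _
      rw [← Ideal.mem_bot, ← hnil]
      refine Ideal.pow_right_mono hle n ?_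
      rw [← Ideal.map_pow]
      exact Ideal.mem_map_of_mem g hr
    · obtain ⟨r, hr⟩ := Ideal.Quotient.mk_surjective (g s)
      refine ⟨r, Ideal.Quotient.eq.1 ?_⟩
      -- both are maps from `T'` over the completion
      have hker : mS ≤ RingHom.ker ((Ideal.Quotient.mk mT).comp h) := fun z hz => by
        rw [RingHom.mem_ker, RingHom.comp_apply, Ideal.Quotient.eq_zero_iff_mem]
        show h z ∈ IsLocalRing.maximalIdeal T' ^ n
        rw [← hmap, ← Ideal.map_pow]
        exact Ideal.mem_map_of_mem h hz
      let hbar : S' ⧸ mS →+* T' ⧸ mT := Ideal.Quotient.lift mS _ hker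
      obtain ⟨g₀, -, hu⟩ := Hensel.IsStrictHenselization.universal (R := Ah) (S := T') (T' ⧸ mT)
        ((Ideal.Quotient.mk mT).comp (algebraMap Ah T')) (IsLocalRing.ResidueField.map (Ideal.Quotient.mk mT)) (by
          refine RingHom.ext fun x => ?_
          obtain ⟨a, rfl⟩ := IsLocalRing.residue_surjective x
          rfl)
      have e : hbar.comp g = Ideal.Quotient.mk mT := by
        refine (hu _ ⟨RingHom.ext fun z => ?_, fun t => ?_⟩).trans (hu (Ideal.Quotient.mk mT) ⟨rfl, fun t => rfl⟩).symm
        · show hbar (g (algebraMap Ah T' z)) = Ideal.Quotient.mk mT (algebraMap Ah T' z)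
          rw [show g (algebraMap Ah T' z) = f z from RingHom.congr_fun hg z]
          obtain ⟨a, ha⟩ := Ideal.Quotient.mk_surjective (AdicCompletion.evalₐ (IsLocalRing.maximalIdeal A) n z)
          have hf : f z = Ideal.Quotient.mk mS (algebraMap A S' a) := by
            show Ideal.Quotient.lift _ _ hAn (AdicCompletion.evalₐ (IsLocalRing.maximalIdeal A) n z) = _
            rw [← ha]; rfl
          rw [hf]
          refine (congrArg (Ideal.Quotient.mk mT) (RingHom.congr_fun hh a)).trans (Ideal.Quotient.eq.2 ?_)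
          show algebraMap Ah T' (algebraMap A Ah a) - algebraMap Ah T' z ∈ IsLocalRing.maximalIdeal T' ^ n
          rw [← map_sub, ← hmT, ← Ideal.map_pow, ← hmAh, ← Ideal.map_pow]
          refine Ideal.mem_map_of_mem _ (Rig7.mem_map_pow_of_eval_eq_zero _ hfg n ?_)
          rw [map_sub, Rig7.eval_algebraMap, ha, sub_self]
        · obtain ⟨r', hr'⟩ := Ideal.Quotient.mk_surjective (g t)
          have h1 := hgres t
          rw [← hr'] at h1
          show IsLocalRing.residue _ (hbar (g t)) = _
          rw [← hr']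
          show IsLocalRing.ResidueField.map (Ideal.Quotient.mk mT) (IsLocalRing.residue T' (h r')) = _
          rw [hhres]
          refine congrArg (IsLocalRing.ResidueField.map (Ideal.Quotient.mk mT)) ?_
          have h2 : IsLocalRing.residue S' r' = τe.symm (IsLocalRing.residue T' t) :=
            (IsLocalRing.ResidueField.map (Ideal.Quotient.mk mS)).injective h1
          rw [h2]
          exact τe.apply_symm_apply _
      rw [← RingHom.congr_fun e s, RingHom.comp_apply, ← hr]
      rfl
  -- quotients by `p`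
  let J := p.map (algebraMap A S')
  let K := (p.map (algebraMap A Ah)).map (algebraMap Ah T')
  have hJK : J.map h = K := by rw [Ideal.map_map, hh, ← Ideal.map_map]
  have hpne : p ≤ IsLocalRing.maximalIdeal A := IsLocalRing.le_maximalIdeal Ideal.IsPrime.ne_top'
  have hJle : J ≤ IsLocalRing.maximalIdeal S' := by rw [← hmS]; exact Ideal.map_mono hpne
  have hKle : K ≤ IsLocalRing.maximalIdeal T' := by rw [← hJK, ← hmap]; exact Ideal.map_mono hJle
  haveI : HenselianLocalRing (S' ⧸ J) :=
    IsoNatLib.henselianLocalRing_quotient J (ne_top_of_le_ne_top (IsLocalRing.maximalIdeal.isMaximal S').ne_top hJle)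
  haveI : HenselianLocalRing (T' ⧸ K) :=
    IsoNatLib.henselianLocalRing_quotient K (ne_top_of_le_ne_top (IsLocalRing.maximalIdeal.isMaximal T').ne_top hKle)
  have hmJ : IsLocalRing.maximalIdeal (S' ⧸ J) = (IsLocalRing.maximalIdeal S').map (Ideal.Quotient.mk J) :=
    (IsLocalRing.map_maximalIdeal_of_surjective _ Ideal.Quotient.mk_surjective).symm
  have hmK : IsLocalRing.maximalIdeal (T' ⧸ K) = (IsLocalRing.maximalIdeal T').map (Ideal.Quotient.mk K) :=
    (IsLocalRing.map_maximalIdeal_of_surjective _ Ideal.Quotient.mk_surjective).symm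
  let hb : S' ⧸ J →+* T' ⧸ K := Ideal.quotientMap K h (Ideal.map_le_iff_le_comap.1 hJK.le)
  have key : Rig7.HasCurveComponent (S' ⧸ J) ↔ Rig7.HasCurveComponent (T' ⧸ K) := by
    refine Rig7.hasCurveComponent_iff_of_bijective hb ?_ (fun n r hr => ?_) (fun n s => ?_)
    · rw [hmJ, hmK, Ideal.map_map, Ideal.quotientMap_comp_mk, ← Ideal.map_map, hmap]
    · obtain ⟨r, rfl⟩ := Ideal.Quotient.mk_surjective r
      rw [hmJ, ← Ideal.map_pow]
      rw [Ideal.quotientMap_mk, hmK, ← Ideal.map_pow] at hr
      have hr' : h r ∈ ((IsLocalRing.maximalIdeal T' ^ n).map (Ideal.Quotient.mk K)).comap (Ideal.Quotient.mk K) := hr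
      rw [Ideal.comap_map_of_surjective _ Ideal.Quotient.mk_surjective, ← RingHom.ker_eq_comap_bot, Ideal.mk_ker,
        ← hmap, ← Ideal.map_pow, ← hJK, ← Ideal.map_sup] at hr'
      -- descend along the truncation
      have hmem : r ∈ IsLocalRing.maximalIdeal S' ^ n ⊔ J := by
        have happ : ∃ x ∈ IsLocalRing.maximalIdeal S' ^ n ⊔ J, h r - h x ∈ IsLocalRing.maximalIdeal T' ^ n := by
          refine Submodule.span_induction (p := fun y _ => ∃ x ∈ IsLocalRing.maximalIdeal S' ^ n ⊔ J,
            y - h x ∈ IsLocalRing.maximalIdeal T' ^ n) ?_ ?_ ?_ ?_ hr'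
          · rintro _ ⟨x, hx, rfl⟩
            exact ⟨x, hx, by simp⟩
          · exact ⟨0, zero_mem _, by simp⟩
          · rintro a b _ _ ⟨x, hx, hxa⟩ ⟨y, hy, hyb⟩
            refine ⟨x + y, add_mem hx hy, ?_⟩
            rw [map_add, show a + b - (h x + h y) = (a - h x) + (b - h y) by ring]
            exact add_mem hxa hyb
          · rintro t a _ ⟨x, hx, hxa⟩
            obtain ⟨c, hc⟩ := (htrunc n).2 t
            refine ⟨c * x, Ideal.mul_mem_left _ _ hx, ?_⟩
            rw [smul_eq_mul, map_mul, show t * a - h c * h x = t * (a - h x) + (t - h c) * h x by ring]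
            exact add_mem (Ideal.mul_mem_left _ _ hxa) (Ideal.mul_mem_right _ _ hc)
        obtain ⟨x, hx, hxr⟩ := happ
        rw [← map_sub] at hxr
        have h1 := (htrunc n).1 (r - x) hxr
        rw [show r = (r - x) + x by ring]
        exact add_mem (Ideal.mem_sup_left h1) hx
      rw [← Ideal.mem_comap, Ideal.comap_map_of_surjective _ Ideal.Quotient.mk_surjective, ← RingHom.ker_eq_comap_bot, Ideal.mk_ker]
      exact hmem
    · obtain ⟨s, rfl⟩ := Ideal.Quotient.mk_surjective s
      obtain ⟨r, hr⟩ := (htrunc n).2 s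
      refine ⟨Ideal.Quotient.mk J r, ?_⟩
      rw [Ideal.quotientMap_mk, ← map_sub, hmK, ← Ideal.map_pow]
      exact Ideal.mem_map_of_mem _ hr
  rw [Rig7.hasCurveComponent_quotient_iff, Rig7.hasCurveComponent_quotient_iff] at key
  refine key.trans ⟨fun ⟨Q, hQ, hd⟩ => ?_, fun ⟨q, hq, Q, hQ, hd⟩ => ?_⟩
  · haveI := hQ.1.1
    haveI : (Q.comap (algebraMap Ah T')).IsPrime := Ideal.IsPrime.comap _
    refine ⟨Q.comap (algebraMap Ah T'), ⟨⟨inferInstance, Ideal.map_le_iff_le_comap.1 hQ.1.2⟩, fun q' hq' hle => ?_⟩,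
      Q, ⟨⟨inferInstance, Ideal.map_comap_le⟩, fun Q' hQ' hle => ?_⟩, hd⟩
    · haveI := hq'.1
      haveI : Q.LiesOver (Q.comap (algebraMap Ah T')) := ⟨rfl⟩
      obtain ⟨P', hP'le, hP', hP'over⟩ := Ideal.exists_ideal_le_liesOver_of_le Q hle
      have h1 : K ≤ P' := Ideal.map_le_iff_le_comap.2 fun z hz => by
        show algebraMap Ah T' z ∈ P'
        have h := hq'.2 hz
        rw [hP'over.over] at h
        exact h
      have h2 := hQ.2 ⟨hP', h1⟩ hP'le
      intro z hz
      rw [hP'over.over]
      exact h2 hz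
    · exact hQ.2 ⟨hQ'.1, (Ideal.map_mono (Ideal.map_le_iff_le_comap.1 hQ.1.2)).trans hQ'.2⟩ hle
  · haveI := hq.1.1
    haveI := hQ.1.1
    haveI : (Q.comap (algebraMap Ah T')).IsPrime := Ideal.IsPrime.comap _
    -- the prime lies exactly over `q`
    have hqle : q ≤ Q.comap (algebraMap Ah T') := Ideal.map_le_iff_le_comap.1 hQ.1.2
    haveI : Q.LiesOver (Q.comap (algebraMap Ah T')) := ⟨rfl⟩
    obtain ⟨P', hP'le, hP', hP'over⟩ := Ideal.exists_ideal_le_liesOver_of_le Q hqle
    have h1 := hQ.2 ⟨hP', Ideal.map_le_iff_le_comap.2 fun z hz => by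
      rw [hP'over.over] at hz
      exact hz⟩ hP'le
    have hQq : Q.comap (algebraMap Ah T') = q := by
      rw [le_antisymm h1 hP'le]; exact hP'over.over.symm
    refine ⟨Q, ⟨⟨hQ.1.1, Ideal.map_le_iff_le_comap.2 (hq.1.2.trans hqle)⟩, fun Q' hQ' hle => ?_⟩, hd⟩
    haveI := hQ'.1
    have h3 : q ≤ Q'.comap (algebraMap Ah T') :=
      hq.2 ⟨Ideal.IsPrime.comap _, Ideal.map_le_iff_le_comap.1 hQ'.2⟩ ((Ideal.comap_mono hle).trans hQq.le)
    exact hQ.2 ⟨hQ'.1, Ideal.map_le_iff_le_comap.2 h3⟩ hle

end Groth.Agent.S16578
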