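import Groth.Statements.S16579
import Groth.Agent.Rig7.Main
-- import your own Groth.Agent.* helpers here

set_option autoImplicit false
universe u
open CategoryTheory AlgebraicGeometry
open Hensel

namespace Groth.Agent.S16579

/-- The case of the constant sheaf on a two-element set. Let (A, I) be a henselian pair with I finitely
generated (A not necessarily Noetherian), Â the I-adic completion of A, π : Spec Â → Spec A the
completion morphism, U a quasi-compact open subscheme of Spec A containing the complement of V(I),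
and Û = π⁻¹(U). Then V ↦ (π|Û)⁻¹(V) is a bijection from the clopen subsets of U onto the clopen
subsets of Û; equivalently, for every finite set F the locally constant F-valued functions on U and
on Û correspond under composition with π. -/
theorem result
    (A : Type u) [CommRing A] (I : Ideal A) (hI : I.FG) [HenselianRing A I]
    (U : (Spec (CommRingCat.of A)).Opens) (hU : IsCompact (U : Set (Spec (CommRingCat.of A))))
    (hUI : ∀ x : Spec (CommRingCat.of A), x ∉ U → I ≤ x.asIdeal) :
    Function.Bijective (fun V : {V : Set ↥U // IsClopen V} =>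
      (⟨((Spec.map (CommRingCat.ofHom (algebraMap A (AdicCompletion I A)))) ∣_ U).base.hom ⁻¹' V.1, V.2.preimage ((Spec.map (CommRingCat.ofHom (algebraMap A (AdicCompletion I A)))) ∣_ U).base.hom.continuous⟩ :
        {V' : Set ↥((Spec.map (CommRingCat.ofHom (algebraMap A (AdicCompletion I A)))) ⁻¹ᵁ U) // IsClopen V'})) := by
  let g := Spec.map (CommRingCat.ofHom (algebraMap A (AdicCompletion I A)))
  have hval : ∀ z : ↥(g ⁻¹ᵁ U), ((g ∣_ U).base.hom z).1 = g.base z.1 := fun z =>
    congrArg (fun φ => φ z) (congrArg (fun φ : (g ⁻¹ᵁ U : Scheme) ⟶ Spec (CommRingCat.of A) => φ.base.hom) (morphismRestrict_ι g U))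
  have hC := Rig7.clopBij_completion I hI ((U : Set (Spec (CommRingCat.of A)) ) : Set (PrimeSpectrum A)) U.2 hU hUI
  have hrel : ∀ {X : Type u} [TopologicalSpace X] {O : Set X}, IsOpen O → ∀ V : Set O, IsClopen V →
      Rig7.RelClopen O (Subtype.val '' V) := by
    intro X _ O hO V hV
    refine ⟨Subtype.coe_image_subset O V, hO.isOpenMap_subtype_val _ hV.2, ?_⟩
    convert hO.isOpenMap_subtype_val _ hV.1.isOpen_compl using 1
    ext x
    simp
  have hclop : ∀ {X : Type u} [TopologicalSpace X] {O V : Set X}, Rig7.RelClopen O V →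
      IsClopen (Subtype.val ⁻¹' V : Set O) := by
    intro X _ O V hV
    refine ⟨⟨?_⟩, hV.2.1.preimage continuous_subtype_val⟩
    convert hV.2.2.preimage (continuous_subtype_val (p := (· ∈ O))) using 1
    ext x
    simp
  refine ⟨fun V₁ V₂ h => Subtype.ext ?_, fun V' => ?_⟩
  · have hpre : ∀ V : {V : Set ↥U // IsClopen V}, PrimeSpectrum.comap (algebraMap A (AdicCompletion I A)) ⁻¹' (Subtype.val '' V.1) =
        Subtype.val '' ((g ∣_ U).base.hom ⁻¹' V.1) := fun V => by
      ext z
      constructor
      · rintro ⟨u, hu, he⟩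
        have hz : g.base z ∈ U := by
          have h2 := u.2
          rwa [show u.1 = g.base z from he] at h2
        refine ⟨⟨z, hz⟩, ?_, rfl⟩
        show (g ∣_ U).base.hom _ ∈ V.1
        have e : (g ∣_ U).base.hom ⟨z, hz⟩ = u := Subtype.ext ((hval ⟨z, hz⟩).trans (Eq.symm (show u.1 = g.base z from he)))
        exact (congrArg (· ∈ V.1) e).mpr hu
      · rintro ⟨w, hw, rfl⟩
        exact ⟨_, hw, hval w⟩
    obtain ⟨V, -, hu⟩ := hC _ ((hrel U.2 _ V₁.2).preimage (φ := algebraMap A (AdicCompletion I A)))
    have h' := congrArg Subtype.val h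
    have e1 := hu _ ⟨hrel U.2 _ V₁.2, rfl⟩
    have e2 := hu _ ⟨hrel U.2 _ V₂.2, (hpre V₂).trans ((congrArg _ h'.symm).trans (hpre V₁).symm)⟩
    exact Subtype.val_injective.image_injective (e1.trans e2.symm)
  · obtain ⟨V, ⟨hV, hVe⟩, -⟩ := hC (Subtype.val '' V'.1) (hrel (U.2.preimage g.base.hom.continuous) _ V'.2)
    refine ⟨⟨_, hclop hV⟩, Subtype.ext (Set.ext fun z => ?_)⟩
    show ((g ∣_ U).base.hom z).1 ∈ V ↔ z ∈ V'.1
    rw [hval]
    refine Iff.trans (Iff.of_eq (congrArg (z.1 ∈ ·) hVe)) ?_
    exact Subtype.val_injective.mem_set_image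

end Groth.Agent.S16579
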