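import Groth.Statements.S1658
import Groth.Agent.DivSect16.Basic
import Groth.Agent.H23.SectionFinset
import Groth.Agent.Lib.CurveDeg
-- import your own Groth.Agent.* helpers here

set_option autoImplicit false
set_option backward.isDefEq.respectTransparency false
set_option backward.isDefEq.respectTransparency.types false
universe u
open CategoryTheory CategoryTheory.Limits AlgebraicGeometry
open Divisors

namespace Groth.Agent.S1658
open Groth.Agent Groth.Agent.H23.PicMul

/-- Let X be Noetherian with an ample invertible module and N any invertible O_X-module. For every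
finite set E of points of X there are effective Cartier divisors D and D', whose supports miss E,
with N ⊗ I_D ≅ I_{D'} (that is, N ≅ O_X(D) ⊗ O_X(D')^{-1}), where I_D, I_{D'} are the ideal sheaves
as O_X-modules. -/
theorem result (X : Scheme.{u}) [IsNoetherian X] (L : X.Modules) (hL : CohB1.IsAmple L)
    (N : X.Modules) (hN : PicF.IsInvertible N) (E : Set X) (hE : E.Finite) :
    ∃ D D' : X.IdealSheafData, BlowUp.IsEffCartierIdeal D ∧ BlowUp.IsEffCartierIdeal D' ∧
      Disjoint E (D.support : Set X) ∧ Disjoint E (D'.support : Set X) ∧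
      Nonempty (CohB1.tensorMod N (ClSub.idealMod D) ≅ ClSub.idealMod D') := by
  haveI : X.IsSeparated := AmpleX.isSeparated_of_isAmple hL
  obtain ⟨N', hN', ⟨eN⟩⟩ := H23.PicInv.exists_inverse hN
  have hfin : (E ∪ AssSch.Ass (Coh.structureModule X)).Finite :=
    hE.union ((AssPtX.finite_assPoints (CurveDeg.isCoh_of_isInvertible InvX.isInvertible_structureModule)
      (U := ⊤) isCompact_univ).subset fun x hx => ⟨trivial, hx⟩)
  obtain ⟨n₁, h₁⟩ := H23.SectionFinset.eventually_exists_section hL (InvX.isInvertible_structureModule (X := X)) hfin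
  obtain ⟨n₂, h₂⟩ := H23.SectionFinset.eventually_exists_section hL hN' hfin
  obtain ⟨s, hs⟩ := h₁ (n₁ + n₂) le_self_add
  obtain ⟨t, ht⟩ := h₂ (n₁ + n₂) le_add_self
  have hLn := InvX.isInvertible_tensorPow hL.1 (n₁ + n₂)
  have hA : PicF.IsInvertible (CohB1.tensorMod (Coh.structureModule X) (CohB1.tensorPow L (n₁ + n₂))) :=
    InvX.isInvertible_tensorMod InvX.isInvertible_structureModule hLn
  have hB : PicF.IsInvertible (CohB1.tensorMod N' (CohB1.tensorPow L (n₁ + n₂))) := InvX.isInvertible_tensorMod hN' hLn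
  obtain ⟨A', hA', ⟨eA⟩⟩ := H23.PicInv.exists_inverse hA
  obtain ⟨B', hB', ⟨eB⟩⟩ := H23.PicInv.exists_inverse hB
  obtain ⟨cA⟩ := H23.PicMul.comm A' (CohB1.tensorMod (Coh.structureModule X) (CohB1.tensorPow L (n₁ + n₂)))
  obtain ⟨cB⟩ := H23.PicMul.comm B' (CohB1.tensorMod N' (CohB1.tensorPow L (n₁ + n₂)))
  obtain ⟨D, hD, ⟨iD⟩, hDs⟩ := DivSect16.exists_divisor hA hA' (cA ≪≫ eA) s fun y hy => hs (Or.inr hy)
  obtain ⟨D', hD', ⟨iD'⟩, hDt⟩ := DivSect16.exists_divisor hB hB' (cB ≪≫ eB) t fun y hy => ht (Or.inr hy)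
  refine ⟨D, D', hD, hD', Set.disjoint_left.2 fun x hx => hDs x (hs (Or.inl hx)),
    Set.disjoint_left.2 fun x hx => hDt x (ht (Or.inl hx)), H23.PicMul.cl_eq_iff.1 ?_⟩
  have h3 := H23.PicMul.cl_eq_iff.2 ⟨eA⟩
  have h4 := H23.PicMul.cl_eq_iff.2 ⟨eB⟩
  have h5 := H23.PicMul.cl_eq_iff.2 ⟨eN⟩
  rw [H23.PicMul.cl_tensor, H23.PicMul.cl_tensor, ← H23.PicMul.one_def, one_mul] at h3
  rw [H23.PicMul.cl_tensor, H23.PicMul.cl_tensor, ← H23.PicMul.one_def] at h4
  rw [H23.PicMul.cl_tensor, ← H23.PicMul.one_def] at h5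
  rw [H23.PicMul.cl_tensor, ← H23.PicMul.cl_eq_iff.2 ⟨iD⟩, ← H23.PicMul.cl_eq_iff.2 ⟨iD'⟩]
  calc PicF.cl N * PicF.cl A'
      = PicF.cl N * PicF.cl A' *
        (PicF.cl N' * PicF.cl (CohB1.tensorPow L (n₁ + n₂)) * PicF.cl B') := by rw [h4, mul_one]
    _ = (PicF.cl N * PicF.cl N') * (PicF.cl (CohB1.tensorPow L (n₁ + n₂)) * PicF.cl A') * PicF.cl B' := by ac_rfl
    _ = PicF.cl B' := by rw [h5, h3, one_mul, one_mul]

end Groth.Agent.S1658
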