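import Groth.Statements.S16582
import Groth.Agent.GabberRigSec.BC

set_option autoImplicit false
universe u
open CategoryTheory CategoryTheory.Limits AlgebraicGeometry Opposite
open EtBC

namespace Groth.Agent.S16582

/-- The case of a sheaf of sets, regarded as a stack in groupoids with trivial automorphism sheaves. Let
(A, I) be a henselian pair with I finitely generated (A not necessarily Noetherian), Â the I-adic
completion of A, π : Spec Â → Spec A the completion morphism, U a quasi-compact open subscheme of
Spec A containing the complement of V(I), and Û = π⁻¹(U). Write j : U → Spec A and ĵ : Û → Spec Â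
for the open immersions. Then for every sheaf of sets F on the small étale site of U, the base
change map π^*j_*F → ĵ_*(π|Û)^*F of étale sheaves of sets on Spec Â is an isomorphism. (The
published remark asserts this for every ind-finite stack in groupoids on the small étale site of U,
with 'equivalence' in place of 'isomorphism'; only the case of sheaves of sets is stated here.) -/
theorem result
    (A : Type u) [CommRing A] (I : Ideal A) (hI : I.FG) [HenselianRing A I]
    (U : (Spec (CommRingCat.of A)).Opens) (hU : IsCompact (U : Set (Spec (CommRingCat.of A))))
    (hUI : ∀ x : Spec (CommRingCat.of A), x ∉ U → I ≤ x.asIdeal)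
    (F : EtDesc.Sh (U : Scheme.{u})) :
    IsIso (EtBC.baseChange0Sh U.ι (Spec.map (CommRingCat.ofHom (algebraMap A (AdicCompletion I A)))) ((Spec.map (CommRingCat.ofHom (algebraMap A (AdicCompletion I A)))) ⁻¹ᵁ U).ι ((Spec.map (CommRingCat.ofHom (algebraMap A (AdicCompletion I A)))) ∣_ U)
      (morphismRestrict_ι (Spec.map (CommRingCat.ofHom (algebraMap A (AdicCompletion I A)))) U) F) := by
  exact GabberRigSec.isIso_baseChange0Sh I hI U hU hUI F
    (isPullback_morphismRestrict (GabberRigSec.compl I) U)

end Groth.Agent.S16582
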