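import Groth.Statements.S16598
import Mathlib
import Groth.Agent.LGRingLib.Basic

set_option autoImplicit false
universe u v
open LGRing

namespace Groth.Agent.S16598

/-- Let R be an LG-ring and M a faithfully projective R-module (finitely generated projective and
faithful). Then M contains a unimodular element: there are m ∈ M and a linear form f on M with f(m)
= 1 (so R·m is a free direct summand of M of rank one). -/
theorem result {R : Type u} [CommRing R] (hR : LGRing.IsLGRing R)
    (M : Type v) [AddCommGroup M] [Module R M] [Module.Finite R M] [Module.Projective R M] [FaithfulSMul R M] :
    ∃ (m : M) (f : Module.Dual R M), f m = 1 := by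
  exact Groth.Agent.LGRingLib.exists_unimodular M hR

end Groth.Agent.S16598
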