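import Groth.Statements.S16600
import Mathlib
import Groth.Agent.LGRingLib.Points

set_option autoImplicit false
open AlgebraicGeometry
universe u
open LGRing

namespace Groth.Agent.S16600

/-- Let R be an LG-ring, M a finite locally free R-module, W(M) = Spec Sym(M^∨) the vector bundle of M
(its points with values in an R-algebra R' are the R-algebra maps Sym(M^∨) → R', i.e. the R-linear
maps M^∨ → R'), and U ⊆ W(M) an open quasi-compact subscheme. Then U(R) is non-empty if and only if
U(R ⧸ m) is non-empty for every maximal ideal m of R. -/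
theorem result {R : Type u} [CommRing R]
    (hR : LGRing.IsLGRing R) (M : Type u) [AddCommGroup M] [Module R M] [Module.Finite R M] [Module.Projective R M]
    (U : (Spec (CommRingCat.of (SymmetricAlgebra R (Module.Dual R M)))).Opens)
    (hU : IsCompact (U : Set ↥(Spec (CommRingCat.of (SymmetricAlgebra R (Module.Dual R M)))))) :
    (∃ φ : Module.Dual R M →ₗ[R] R,
      Set.range (Spec.map (CommRingCat.ofHom (SymmetricAlgebra.lift φ).toRingHom)).base ⊆
        (U : Set ↥(Spec (CommRingCat.of (SymmetricAlgebra R (Module.Dual R M)))))) ↔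
    ∀ (m : Ideal R) [m.IsMaximal], ∃ φ : Module.Dual R M →ₗ[R] (R ⧸ m),
      Set.range (Spec.map (CommRingCat.ofHom (SymmetricAlgebra.lift φ).toRingHom)).base ⊆
        (U : Set ↥(Spec (CommRingCat.of (SymmetricAlgebra R (Module.Dual R M))))) := by
  exact Groth.Agent.LGRingLib.bundle_iff M hR U hU

end Groth.Agent.S16600
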