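import Groth.Statements.S16601
import Mathlib
import Groth.Agent.LGRingLib.Points

set_option autoImplicit false
open AlgebraicGeometry
universe u
open LGRing

namespace Groth.Agent.S16601

/-- Let R be an LG-ring whose residue fields at maximal ideals are all infinite (R satisfies the
primitive criterion), M a finite locally free R-module with vector bundle W(M) = Spec Sym(M^∨), and
U ⊆ W(M) an open quasi-compact subscheme which is fibrewise dense over the closed points of Spec R
(for every maximal ideal m, the trace of U on the closed fibre Spec (Sym(M^∨) ⧸ m Sym(M^∨)) is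
dense). Then U has an R-valued point. (The source asks U to be R-dense in W(M); only density of the
closed fibres is used, which is what is assumed here.) -/
theorem result {R : Type u} [CommRing R]
    (hR : LGRing.IsLGRing R) (hinf : ∀ (m : Ideal R) [m.IsMaximal], Infinite (R ⧸ m))
    (M : Type u) [AddCommGroup M] [Module R M] [Module.Finite R M] [Module.Projective R M]
    (U : (Spec (CommRingCat.of (SymmetricAlgebra R (Module.Dual R M)))).Opens)
    (hU : IsCompact (U : Set ↥(Spec (CommRingCat.of (SymmetricAlgebra R (Module.Dual R M))))))
    (hdense : ∀ (m : Ideal R) [m.IsMaximal],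
      Dense ((Spec.map (CommRingCat.ofHom (Ideal.Quotient.mk
        (Ideal.map (algebraMap R (SymmetricAlgebra R (Module.Dual R M))) m)))).base ⁻¹'
          (U : Set ↥(Spec (CommRingCat.of (SymmetricAlgebra R (Module.Dual R M))))))) :
    ∃ φ : Module.Dual R M →ₗ[R] R,
      Set.range (Spec.map (CommRingCat.ofHom (SymmetricAlgebra.lift φ).toRingHom)).base ⊆
        (U : Set ↥(Spec (CommRingCat.of (SymmetricAlgebra R (Module.Dual R M))))) := by
  exact Groth.Agent.LGRingLib.exists_point_dense M hR hinf U hU hdense

end Groth.Agent.S16601
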