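import Groth.Statements.S16602
import Groth.Agent.AzumayaX.LGModules
import Mathlib.Topology.LocallyConstant.Basic

set_option autoImplicit false
universe u v w
open Brauer

namespace Groth.Agent.S16602

/-- Let R be an LG-ring with Spec R connected and A an Azumaya R-algebra. Then any two indecomposable
finitely generated projective left A-modules are isomorphic (a module is indecomposable when it is
non-zero and the only idempotents of its endomorphism ring are 0 and 1). (This extends the semilocal
case.) -/
theorem result {R : Type u} [CommRing R]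
    (hR : LGRing.IsLGRing R) [ConnectedSpace (PrimeSpectrum R)] {A : Type v} [Ring A] [Algebra R A] [IsAzumaya R A]
    (P Q : Type w) [AddCommGroup P] [Module A P] [Module.Finite A P] [Module.Projective A P] [Nontrivial P]
    [AddCommGroup Q] [Module A Q] [Module.Finite A Q] [Module.Projective A Q] [Nontrivial Q]
    (hP : ∀ e : Module.End A P, IsIdempotentElem e → e = 0 ∨ e = 1)
    (hQ : ∀ e : Module.End A Q, IsIdempotentElem e → e = 0 ∨ e = 1) : Nonempty (P ≃ₗ[A] Q) := by
  classical
  letI : Module R P := Module.compHom P (algebraMap R A)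
  letI : Module R Q := Module.compHom Q (algebraMap R A)
  haveI : IsScalarTower R A P := ⟨fun r a x => by
    show (r • a) • x = algebraMap R A r • a • x
    rw [← mul_smul, Algebra.smul_def]⟩
  haveI : IsScalarTower R A Q := ⟨fun r a x => by
    show (r • a) • x = algebraMap R A r • a • x
    rw [← mul_smul, Algebra.smul_def]⟩
  obtain ⟨_, _⟩ := Groth.Agent.AzumayaX.finite_projective_restrict (R := R) A P
  obtain ⟨_, _⟩ := Groth.Agent.AzumayaX.finite_projective_restrict (R := R) A Q
  haveI : Module.FinitePresentation R P := Module.finitePresentation_of_projective R P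
  haveI : Module.FinitePresentation R Q := Module.finitePresentation_of_projective R Q
  obtain ⟨p₀⟩ : Nonempty (PrimeSpectrum R) := inferInstance
  have key : ∀ (X Y : Type w) [AddCommGroup X] [Module R X] [Module A X] [IsScalarTower R A X]
      [Module.Finite A X] [Module.Projective A X] [AddCommGroup Y] [Module R Y] [Module A Y]
      [IsScalarTower R A Y] [Module.Finite A Y] [Module.Projective A Y] [Nontrivial Y],
      (∀ e : Module.End A X, IsIdempotentElem e → e = 0 ∨ e = 1) →
      (∀ p, Module.rankAtStalk (R := R) Y p ≤ Module.rankAtStalk (R := R) X p) → Nonempty (X ≃ₗ[A] Y) := by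
    intro X Y _ _ _ _ _ _ _ _ _ _ _ _ _ hX hle
    obtain ⟨f, hf⟩ := Groth.Agent.AzumayaX.exists_surjective (R := R) (A := A) X Y hR fun m hm => hle _
    obtain ⟨σ, hσ⟩ := Module.projective_lifting_property f LinearMap.id hf
    have hid : IsIdempotentElem (σ ∘ₗ f : Module.End A X) := LinearMap.ext fun x => by
      show σ (f (σ (f x))) = σ (f x)
      rw [show f (σ (f x)) = f x from LinearMap.congr_fun hσ (f x)]
    rcases hX _ hid with h | h
    · obtain ⟨y, hy⟩ := exists_ne (0 : Y)
      exfalso
      obtain ⟨x, rfl⟩ := hf y
      apply hy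
      have h0 : σ (f x) = 0 := LinearMap.congr_fun h x
      calc f x = f (σ (f x)) := (LinearMap.congr_fun hσ (f x)).symm
        _ = 0 := by rw [h0, map_zero]
    · exact ⟨LinearEquiv.ofBijective f ⟨fun x y hxy => by
        rw [← Module.End.one_apply (R := A) x, ← Module.End.one_apply (R := A) y, ← h, LinearMap.comp_apply,
          LinearMap.comp_apply, hxy], hf⟩⟩
  have hconst : ∀ (X : Type w) [AddCommGroup X] [Module R X] [Module.FinitePresentation R X] [Module.Flat R X]
      (p : PrimeSpectrum R), Module.rankAtStalk (R := R) X p = Module.rankAtStalk (R := R) X p₀ :=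
    fun X _ _ _ _ p => (Module.isLocallyConstant_rankAtStalk (R := R) (M := X)).apply_eq_of_preconnectedSpace p p₀
  rcases le_total (Module.rankAtStalk (R := R) Q p₀) (Module.rankAtStalk (R := R) P p₀) with h | h
  · exact key P Q hP fun p => by rw [hconst Q p, hconst P p]; exact h
  · exact ⟨(key Q P hQ fun p => by rw [hconst Q p, hconst P p]; exact h).some.symm⟩

end Groth.Agent.S16602
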