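import Groth.Statements.S16617
import Groth.Agent.TorusQI.QuotientTorus
-- import your own Groth.Agent.* helpers here

set_option autoImplicit false
open CategoryTheory MonoidalCategory CartesianMonoidalCategory MonObj GrpObj AlgebraicGeometry
universe u
open SGA3x

namespace Groth.Agent.S16617

/-- Let S be a connected scheme, T ≅ D_S(ℤ^r) a split S-torus, H a subgroup scheme of T of (finite)
multiplicative type and q : T ⟶ Q a homomorphism presenting Q as the fppf quotient T/H. Then Q is a
split torus of rank at most r. -/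
theorem result {S : Scheme.{u}} [ConnectedSpace ↥S]
    {T H Q : Over S} [GrpObj T] [GrpObj H] [GrpObj Q] (r : ℕ) (hT : Red.IsSplitTorusWith (Fin r → ℤ) T)
    (i : H ⟶ T) [IsMonHom i] [Mono i] (hH : SGA3x.IsMultTypeFT H) (q : T ⟶ Q) [IsMonHom q]
    (hq : RedSub.IsQuotient i q) : ∃ r' : ℕ, r' ≤ r ∧ Red.IsSplitTorusWith (Fin r' → ℤ) Q := by
  obtain ⟨h1, h2, h3, hsq⟩ := hq
  haveI := h1
  haveI := h2
  haveI := h3
  have hc := Groth.Agent.FpqcDescLib.isCosetMap_of_isPullback hsq
  have hcov := Groth.Agent.FpqcDescLib.covers_of_isCovering (Groth.Agent.FpqcDescLib.isCovering_of_lfp q.left)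
  exact Groth.Agent.TorusQI.split_quot hT hH i q hc hcov

end Groth.Agent.S16617
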