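import Groth.Statements.S1662
import Groth.Agent.MeroX.BaseChange

set_option autoImplicit false
universe u
open CategoryTheory CategoryTheory.Limits AlgebraicGeometry
open Divisors

namespace Groth.Agent.S1662

/-- Let f : X → S, D an effective Cartier divisor on X such that D → S is flat, and g : S' → S any
morphism. Then the inverse image of D in X ×_S S' is an effective Cartier divisor. -/
theorem result {X S S' : Scheme.{u}} (f : X ⟶ S) (D : X.IdealSheafData) (hD : BlowUp.IsEffCartierIdeal D)
    [Flat (D.subschemeι ≫ f)] (g : S' ⟶ S) :
    BlowUp.IsEffCartierIdeal (D.comap (pullback.fst f g)) := by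
  exact MeroX.isEffCartier_baseChange f D hD g

end Groth.Agent.S1662
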