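import Groth.Statements.S16624
import Groth.Agent.Quot15.QuotScheme

set_option autoImplicit false
universe u
open FGA

namespace Groth.Agent.S16624

open AlgebraicGeometry CategoryTheory in
/-- Let S be a Noetherian scheme, n and r natural numbers, l an integer, and E the module O^r ⊗ O(-l) on
projective n-space P^n_S over S. The Quot functor of E over S — sending a locally Noetherian
S-scheme T to the set of submodules K of E_T (the pullback of E to P^n_S ×_S T) whose quotient E_T/K
is coherent and flat over T, with pullback of submodules as transition maps — is represented by an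
S-scheme Q with a universal submodule, and Q is a disjoint union of S-schemes each admitting a
closed immersion over S into some projective space P^m_S. (The source states this for each fixed
Hilbert polynomial; the indexing of the pieces by Hilbert polynomials is not recorded here.) -/
theorem result (S : Scheme.{u}) [IsNoetherian S]
    (n r : ℕ) (l : ℤ) :
    ∃ (Q : Over S) (K : FGA.QuotSet (CohB1.ProjSpaceOver.toBase n S)
        (CohB1.tensorMod (FlatMod.freeMod (CohB1.ProjSpaceOver n S) r) (Twist.twistOver n S (-l))) Q),
      FGA.QuotRepresentedBy (CohB1.ProjSpaceOver.toBase n S)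
        (CohB1.tensorMod (FlatMod.freeMod (CohB1.ProjSpaceOver n S) r) (Twist.twistOver n S (-l))) Q K ∧
      ∃ (ι : Type u) (P : ι → Scheme.{u}) (e : (∐ P) ≅ Q.left) (m : ι → ℕ)
        (c : ∀ a, P a ⟶ CohB1.ProjSpaceOver (m a) S),
        ∀ a, IsClosedImmersion (c a) ∧
          c a ≫ CohB1.ProjSpaceOver.toBase (m a) S = Limits.Sigma.ι P a ≫ e.hom ≫ Q.hom := by
    let X := CohB1.ProjSpaceOver n S
    let F := Twist.twistOver n S (-l)
    let E := CohB1.tensorMod (FlatMod.freeMod X r) F
    let t := (Scheme.Modules.pullbackId X).app F
    obtain ⟨c⟩ := H23.PicMul.comm (FlatMod.freeMod X r) F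
    let φ : (∐ fun _ : Fin r => (Scheme.Modules.pullback (𝟙 X)).obj F) ≅ E :=
      Limits.Sigma.mapIso (fun _ => t ≪≫ (KFlatLib.tensorUnitIso F).symm) ≪≫
        (Limits.PreservesCoproduct.iso (DCoh.tensorBi.obj F) _).symm ≪≫ c.symm
    have hE : Coh.IsCoh E := by
      haveI := Quot15.isLocallyNoetherian_PY (n := n) S
      exact KZ.LFRes.flf_isCoh (KFlatLib.isFinLocFree_tensor (KFlatLib.isFinLocFree_freeMod r)
        (H28.PnFlat.lf_twistOver (-l)))
    exact Quot15.exists_quotScheme (CohB1.ProjSpaceOver.toBase n S) (𝟙 X) (Category.id_comp _) hE r (-l) φ.hom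

end Groth.Agent.S16624
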