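import Groth.Statements.S16627
import Groth.Agent.Lib.ProjRegularPn

set_option autoImplicit false
set_option backward.isDefEq.respectTransparency false
set_option backward.isDefEq.respectTransparency.types false
set_option linter.style.haveILetI false
set_option linter.unusedSectionVars false
set_option maxHeartbeats 400000
universe u
open Variety

namespace Groth.Agent.S16627


open CategoryTheory CategoryTheory.Limits AlgebraicGeometry Groth.Agent.PnCoh.Finite in
theorem cokernel_regular (k : Type u) [Field k] (n : ℕ)
    (F : (CohB1.ProjSpace n k).Modules) (hF : Coh.IsCoh F) (m : ℤ) (hreg : Curv2.IsMRegular k n F m)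
    (ι : CohB1.tensorMod F (Twist.twistProjSpace n k (-1)) ⟶ F) [Mono ι] :
    Curv2.IsMRegular k n (cokernel ι) m := by
  intro i hi hin
  have hS : (ShortComplex.mk ι (cokernel.π ι) (cokernel.condition ι)).ShortExact :=
    ShortComplex.ShortExact.mk' (ShortComplex.exact_of_g_is_cokernel _ (cokernelIsCokernel ι)) inferInstance inferInstance
  have hT := shortExact_twistBy (𝒜 := CohB1.polyGrading n k) (ProjRegular.coords k n) ProjRegular.coords_mem
    ProjRegular.coords_cover (m - (i : ℤ)) hS
  refine subsingleton_HH_X₃ hT i (hreg i hi hin) ?_
  obtain ⟨φ⟩ := ProjRegular.twist_twist_iso F (-1) (m - (i : ℤ))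
  refine QCoh.subsingleton_HH_of_iso φ.symm (i + 1) ?_
  rw [show -1 + (m - (i : ℤ)) = m - ((i + 1 : ℕ) : ℤ) by omega]
  rcases le_or_gt (i + 1) n with h | h
  · exact hreg (i + 1) (by omega) h
  · exact ProjRegular.subsingleton_HH_high hF _ _ h

open AlgebraicGeometry CategoryTheory CategoryTheory.Limits in
/-- Let k be a field, F a coherent module on projective n-space P^n_k which is m-regular, and ι : F ⊗
O(-1) → F a monomorphism of O-modules (such as multiplication by a linear form that is a
nonzerodivisor on F, i.e. a hyperplane avoiding the associated points of F). Then the cokernel of ι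
— the restriction of F to the hyperplane, as a module on P^n_k — is again m-regular. (Stated for an
arbitrary monomorphism F(-1) → F and an arbitrary ground field.) -/
theorem result (k : Type u) [Field k] (n : ℕ)
    (F : (CohB1.ProjSpace n k).Modules) (hF : Coh.IsCoh F) (m : ℤ) (hreg : Curv2.IsMRegular k n F m)
    (ι : CohB1.tensorMod F (Twist.twistProjSpace n k (-1)) ⟶ F) [Mono ι] :
    Curv2.IsMRegular k n (cokernel ι) m := by
  exact cokernel_regular k n F hF m hreg ι

end Groth.Agent.S16627
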