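import Groth.Statements.S1663
import Groth.Agent.S1607
import Groth.Agent.S16953

set_option backward.isDefEq.respectTransparency false
set_option backward.isDefEq.respectTransparency.types false

set_option autoImplicit false
universe u
open CategoryTheory CategoryTheory.Limits AlgebraicGeometry
open Variety

namespace Groth.Agent.S1663

/-- Let X be a scheme whose local rings are Noetherian of Krull dimension at most one, j : U → X the
inclusion of a retrocompact open (j quasi-compact) and F a quasi-coherent O_U-module. Then R^p j_* F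
vanishes for all p > 0. -/
theorem result (X : Scheme.{u})
    (hX : ∀ x : X, IsNoetherianRing (X.presheaf.stalk x) ∧ ringKrullDim (X.presheaf.stalk x) ≤ 1)
    (U : X.Opens) [QuasiCompact U.ι] [HasInjectiveResolutions (U : Scheme.{u}).Modules]
    (F : (U : Scheme.{u}).Modules) (hF : Coh.IsQCoh F) (p : ℕ) (hp : 0 < p) :
    IsZero ((Coh.Rpush U.ι p).obj F) := by
  haveI : IsAffineHom U.ι := ⟨fun V hV => by
    haveI : IsAffine (V : Scheme.{u}) := hV
    have hloc : ∀ v : (V : Scheme.{u}), IsNoetherianRing ((V : Scheme.{u}).presheaf.stalk v) ∧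
        ringKrullDim ((V : Scheme.{u}).presheaf.stalk v) ≤ 1 := fun v => by
      haveI : IsNoetherianRing (X.presheaf.stalk v.1) := (hX v.1).1
      have e := (V.stalkIso v).symm.commRingCatIsoToRingEquiv
      exact ⟨isNoetherianRing_of_ringEquiv _ e, (ringKrullDim_eq_of_ringEquiv e).symm.trans_le (hX v.1).2⟩
    have hc : IsCompact ((V.ι ⁻¹ᵁ U : (V : Scheme.{u}).Opens) : Set (V : Scheme.{u})) := by
      rw [V.ι.isOpenEmbedding.isInducing.isCompact_iff]
      show IsCompact (Subtype.val '' (Subtype.val ⁻¹' (U : Set X) : Set V))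
      erw [Subtype.image_preimage_coe]
      have h2 := ((QuasiCompact.isCompact_preimage (f := U.ι) _ V.2 hV.isCompact)).image U.ι.continuous
      convert h2 using 1
      show _ = Subtype.val '' (Subtype.val ⁻¹' (V : Set X) : Set U)
      erw [Subtype.image_preimage_coe]
      exact Set.inter_comm _ _
    have h := (S1607.result (V : Scheme.{u}) hloc (V.ι ⁻¹ᵁ U) hc).image_of_isOpenImmersion V.ι
    rw [← Scheme.Hom.isAffineOpen_iff_of_isOpenImmersion U.ι]
    convert h using 1
    rw [Scheme.Hom.image_preimage_eq_opensRange_inf, Scheme.Hom.image_preimage_eq_opensRange_inf,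
      Scheme.Opens.opensRange_ι, Scheme.Opens.opensRange_ι, inf_comm]⟩
  obtain ⟨i, rfl⟩ := Nat.exists_eq_add_one.2 hp
  exact S16953.Aux.isZero_Rpush U.ι F hF i

end Groth.Agent.S1663
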