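import Groth.Statements.S16636
import Groth.Agent.RedRank.KernelFinite
import Groth.Agent.RedRank.ReductiveRank
import Groth.Agent.GrpSchLib.IsogenyFibre
import Groth.Agent.GrpSchLib.KernelGrp
import Groth.Agent.GrpSchLib.KernelPair
import Groth.Agent.H23.GeomConn
import Groth.Agent.EtFound.Descent
-- import your own Groth.Agent.* helpers here

set_option backward.isDefEq.respectTransparency false
set_option backward.isDefEq.respectTransparency.types false
set_option linter.style.haveILetI false
set_option synthInstance.maxHeartbeats 200000
set_option maxHeartbeats 1000000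
set_option autoImplicit false
open CategoryTheory MonoidalCategory CartesianMonoidalCategory MonObj GrpObj AlgebraicGeometry
universe u
open Red

namespace Groth.Agent.S16636

/-- Let f : G' → G be a homomorphism of reductive group schemes over a scheme S. If on every fibre over
S the induced morphism G'_s → G_s is finite, flat and surjective, then f is finite, flat and
surjective (an isogeny: the point is that the quasi-finite kernel is finite over S). -/
theorem result {S : Scheme.{u}} {G' G : Over S} [GrpObj G'] [GrpObj G]
    (hG' : Red.IsReductive G') (hG : Red.IsReductive G) (f : G' ⟶ G) [IsMonHom f]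
    (hfib : ∀ s : S, IsFinite (Limits.pullback.snd f.left (G.hom.fiberι s)) ∧
      Flat (Limits.pullback.snd f.left (G.hom.fiberι s)) ∧ Surjective (Limits.pullback.snd f.left (G.hom.fiberι s))) :
    IsFinite f.left ∧ Flat f.left ∧ Surjective f.left := by
  haveI := hG'.1; haveI := hG'.2.1; haveI := hG.1; haveI := hG.2.1
  have hc' := RedRank.ReductiveRank.isConnected_fibre hG'
  have hc := RedRank.ReductiveRank.isConnected_fibre hG
  haveI : GeometricallyConnected G'.hom := H23.GeomConn.of_grp G' fun s => by
    haveI := isConnected_iff_connectedSpace.mp (hc' s)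
    exact (G'.hom.fiberHomeo s).symm.surjective.connectedSpace (G'.hom.fiberHomeo s).symm.continuous
  haveI : GeometricallyConnected G.hom := H23.GeomConn.of_grp G fun s => by
    haveI := isConnected_iff_connectedSpace.mp (hc s)
    exact (G.hom.fiberHomeo s).symm.surjective.connectedSpace (G.hom.fiberHomeo s).symm.continuous
  haveI : IsSeparated G.hom := inferInstance
  haveI : IsSeparated G'.hom := inferInstance
  obtain ⟨hfl, hqf, hfp⟩ := (GrpSchLib.IsogenyFibre.iff_fibres f).mpr fun s => ⟨(hfib s).1, (hfib s).2.2⟩
  haveI := hfl; haveI := hqf; haveI := hfp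
  haveI hsurj : Surjective f.left := ⟨fun y => by
    obtain ⟨z, hz⟩ := (hfib (G.hom y)).2.2.surj (G.hom.asFiber y)
    refine ⟨Limits.pullback.fst f.left (G.hom.fiberι (G.hom y)) z, ?_⟩
    rw [← Scheme.Hom.comp_apply, Limits.pullback.condition, Scheme.Hom.comp_apply, hz]
    exact G.hom.fiberι_asFiber y⟩
  haveI : IsAffineHom f.left := by
    haveI : IsAffineHom (f.left ≫ G.hom) := by rw [Over.w f]; infer_instance
    exact IsAffineHom.of_comp f.left G.hom
  obtain ⟨N, _, i, hi, hicl, hin, hker⟩ := GrpSchLib.exists_kernel f
  haveI := hi; haveI := hicl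
  have hsq : IsPullback i.left N.hom f.left η[G].left := by
    have h := Functor.map_isPullback (Over.forget S) hker
    simpa [Over.toUnit_left] using h
  haveI : LocallyQuasiFinite N.hom := MorphismProperty.of_isPullback (P := @LocallyQuasiFinite) hsq hqf
  haveI : QuasiCompact N.hom := MorphismProperty.of_isPullback (P := @QuasiCompact) hsq inferInstance
  obtain ⟨Z, _, z, hz, -, hZ, -⟩ := RedRank.ReductiveRank.exists_centre hG'
  haveI : IsFinite N.hom := RedRank.KernelFinite.isFinite hc' z hz hZ i hin
  obtain ⟨p, hp, hps⟩ := GrpSchLib.exists_kernelPair_iso i f hker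
  haveI := hp
  haveI : IsFinite (Limits.pullback.snd f.left f.left) := by
    have h : Limits.pullback.snd f.left f.left = inv p ≫ Limits.pullback.snd N.hom G'.hom := by
      rw [IsIso.eq_inv_comp]
      exact hps
    rw [h]
    infer_instance
  haveI := EtFound.fpqc_isFinite.{u}
  exact ⟨MorphismProperty.of_pullback_snd_of_descendsAlong (P := @IsFinite)
    (Q := (@Surjective ⊓ @Flat ⊓ @QuasiCompact : MorphismProperty Scheme.{u}))
    (f := f.left) (g := f.left) ⟨⟨hsurj, hfl⟩, inferInstance⟩ ‹_›, hfl, hsurj⟩

end Groth.Agent.S16636
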