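import Groth.Statements.S16644
import Mathlib.LinearAlgebra.Matrix.Determinant.Basic
import Mathlib.GroupTheory.Perm.Cycle.Type
import Mathlib.Algebra.MvPolynomial.Basic
import Mathlib.RingTheory.Ideal.Quotient.Operations
import Mathlib.Data.Sym.Sym2

set_option autoImplicit false
open QuadZ

namespace Groth.Agent.S16644
theorem det_eq_zero_of_two_eq_zero {R : Type*} [CommRing R] (h2 : (2 : R) = 0) {n : ℕ} (hn : Odd n)
    (M : Matrix (Fin n) (Fin n) R) (hsymm : ∀ i j, M i j = M j i) (hdiag : ∀ i, M i i = 0) :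
    M.det = 0 := by
  classical
  rw [Matrix.det_apply]
  have hsum : ∀ σ : Equiv.Perm (Fin n), ∏ i, M (σ⁻¹ i) i = ∏ i, M (σ i) i := fun σ => by
    rw [← Equiv.prod_comp σ (fun i => M (σ⁻¹ i) i)]
    refine Finset.prod_congr rfl fun i _ => ?_
    rw [hsymm, show σ⁻¹ (σ i) = i from σ.symm_apply_apply i]
  refine Finset.sum_involution (fun σ _ => σ⁻¹) (fun σ _ => ?_) (fun σ _ hne heq => hne ?_)
    (fun σ _ => Finset.mem_univ _) (fun σ _ => inv_inv σ)
  · rw [Equiv.Perm.sign_inv, hsum, ← smul_add, ← two_mul, h2, zero_mul, smul_zero]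
  · have hσ : σ ^ 2 = 1 := by rw [sq]; nth_rewrite 1 [← heq]; exact inv_mul_cancel σ
    have hdvd := Equiv.Perm.two_dvd_card_support hσ
    have hlt : σ.support.card ≠ n := fun h => by
      rw [h] at hdvd
      exact (Nat.not_even_iff_odd.2 hn) (even_iff_two_dvd.2 hdvd)
    obtain ⟨i, hi⟩ : ∃ i, σ i = i := by
      by_contra! h
      apply hlt
      rw [show σ.support = Finset.univ from Finset.eq_univ_iff_forall.2 fun i =>
        Equiv.Perm.mem_support.2 (h i), Finset.card_univ, Fintype.card_fin]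
    rw [Finset.prod_eq_zero (Finset.mem_univ i) (by rw [hi]; exact hdiag i), smul_zero]

/-- For odd n, the discriminant of the universal quadratic form Σ_{i ≤ j} A_{ij} x_i x_j in n variables
(variables A_{ij} indexed by unordered pairs), i.e. the determinant of the symmetric matrix with
diagonal entries 2 A_{ii} and off-diagonal entries A_{ij}, is divisible by 2 in the integral
polynomial ring ℤ[A_{ij}] (so the half-discriminant is an integral polynomial). -/
theorem result (n : ℕ) (hn : Odd n) :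
    (2 : MvPolynomial (Sym2 (Fin n)) ℤ) ∣
      (Matrix.of fun i j : Fin n =>
        if i = j then 2 * MvPolynomial.X (R := ℤ) (σ := Sym2 (Fin n)) (Sym2.mk i j)
        else MvPolynomial.X (R := ℤ) (σ := Sym2 (Fin n)) (Sym2.mk i j)).det := by
  classical
  rw [← Ideal.mem_span_singleton, ← Ideal.Quotient.eq_zero_iff_mem, RingHom.map_det]
  have h2 : Ideal.Quotient.mk (Ideal.span {(2 : MvPolynomial (Sym2 (Fin n)) ℤ)}) 2 = 0 :=
    Ideal.Quotient.eq_zero_iff_mem.2 (Ideal.mem_span_singleton_self _)
  refine det_eq_zero_of_two_eq_zero (by rw [← map_ofNat (Ideal.Quotient.mk _) 2]; exact h2) hn _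
    (fun i j => ?_) (fun i => ?_)
  · rcases eq_or_ne i j with h | h
    · rw [h]
    · simp [h, Ne.symm h, Sym2.eq_swap]
  · simp [h2]

end Groth.Agent.S16644
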