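import Groth.Statements.S16647
import Groth.Agent.EtFound.Descent
import Mathlib.CategoryTheory.Monoidal.Cartesian.Grp
import Mathlib.CategoryTheory.Limits.Constructions.Over.Connected
-- import your own Groth.Agent.* helpers here

set_option autoImplicit false
open CategoryTheory MonoidalCategory CartesianMonoidalCategory MonObj GrpObj AlgebraicGeometry
universe u
open GrpSch

namespace Groth.Agent.S16647

open MonObj in
/-- The map of a product with a kernel onto a fibre product. -/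
theorem isPullback_mul {S : Scheme.{u}} {A B C N : Over S} [GrpObj A] [GrpObj B] [GrpObj C] [GrpObj N]
    (j : A ⟶ B) (b : B ⟶ C) [IsMonHom b] (n : N ⟶ B) (hn : AlgGrp.IsKernel n b) :
    IsPullback (fst A N) ((fst A N ≫ j) * (snd A N ≫ n)) (j ≫ b) b := by
  have hnb : n ≫ b = 1 := by rw [hn.w]; rfl
  have w : fst A N ≫ j ≫ b = ((fst A N ≫ j) * (snd A N ≫ n)) ≫ b := by
    rw [MonObj.mul_comp, Category.assoc, Category.assoc, hnb, MonObj.comp_one, _root_.mul_one]
  haveI : Mono n := by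
    haveI : Mono η[C] := mono_of_mono_fac (h := 𝟙 _) (show η[C] ≫ toUnit C = 𝟙 _ from toUnit_unique _ _)
    exact ⟨fun {T} u v h => hn.hom_ext h (toUnit_unique _ _)⟩
  refine IsPullback.of_isLimit' ⟨w⟩ (Limits.PullbackCone.IsLimit.mk _
    (fun s => lift s.fst (hn.lift ((s.fst ≫ j)⁻¹ * s.snd) (toUnit _) (by
      rw [MonObj.mul_comp, GrpObj.inv_comp, Category.assoc, s.condition, inv_mul_cancel]; rfl)))
    (fun s => by simp)
    (fun s => by
      rw [MonObj.comp_mul, lift_fst_assoc, lift_snd_assoc, hn.lift_fst, mul_inv_cancel_left])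
    (fun s m h1 h2 => ?_))
  apply CartesianMonoidalCategory.hom_ext
  · rw [lift_fst]; exact h1
  · rw [lift_snd, ← cancel_mono n, hn.lift_fst, ← h2, ← h1, MonObj.comp_mul, Category.assoc, Category.assoc,
      inv_mul_cancel_left]

/-- In a commutative diagram of short exact sequences of S-group schemes that are flat, separated and of
finite presentation over a scheme S (in each row the first homomorphism is the kernel of the second
and the second is a flat surjection), if the two outer vertical homomorphisms are closed immersions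
then so is the middle one. -/
theorem result {S : Scheme.{u}}
    {H₁' H₁ H₁'' H₂' H₂ H₂'' : Over S} [GrpObj H₁'] [GrpObj H₁] [GrpObj H₁''] [GrpObj H₂'] [GrpObj H₂] [GrpObj H₂'']
    [Flat H₁'.hom] [Flat H₁.hom] [Flat H₁''.hom] [Flat H₂'.hom] [Flat H₂.hom] [Flat H₂''.hom]
    [IsSeparated H₁'.hom] [IsSeparated H₁.hom] [IsSeparated H₁''.hom]
    [IsSeparated H₂'.hom] [IsSeparated H₂.hom] [IsSeparated H₂''.hom]
    [QuasiCompact H₁'.hom] [QuasiCompact H₁.hom] [QuasiCompact H₁''.hom]
    [QuasiCompact H₂'.hom] [QuasiCompact H₂.hom] [QuasiCompact H₂''.hom]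
    [LocallyOfFinitePresentation H₁'.hom] [LocallyOfFinitePresentation H₁.hom] [LocallyOfFinitePresentation H₁''.hom]
    [LocallyOfFinitePresentation H₂'.hom] [LocallyOfFinitePresentation H₂.hom] [LocallyOfFinitePresentation H₂''.hom]
    (a₁ : H₁' ⟶ H₁) (b₁ : H₁ ⟶ H₁'') (a₂ : H₂' ⟶ H₂) (b₂ : H₂ ⟶ H₂'')
    [IsMonHom a₁] [IsMonHom b₁] [IsMonHom a₂] [IsMonHom b₂]
    (h₁ : AlgGrp.IsKernel a₁ b₁) (hb₁ : Flat b₁.left ∧ Surjective b₁.left)
    (h₂ : AlgGrp.IsKernel a₂ b₂) (hb₂ : Flat b₂.left ∧ Surjective b₂.left)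
    (j' : H₁' ⟶ H₂') (j : H₁ ⟶ H₂) (j'' : H₁'' ⟶ H₂'') [IsMonHom j'] [IsMonHom j] [IsMonHom j'']
    (sq₁ : a₁ ≫ j = j' ≫ a₂) (sq₂ : b₁ ≫ j'' = j ≫ b₂)
    (hj' : IsClosedImmersion j'.left) (hj'' : IsClosedImmersion j''.left) :
    IsClosedImmersion j.left := by
  haveI := hj'; haveI := hj''
  obtain ⟨_, _⟩ := hb₁
  have h₁' : IsPullback a₁ (toUnit H₁') b₁ η[H₁''] := h₁
  haveI : QuasiCompact (b₁.left ≫ H₁''.hom) := by rw [Over.w]; infer_instance
  haveI : QuasiCompact b₁.left := QuasiCompact.of_comp b₁.left H₁''.hom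
  let φ : H₁ ⟶ Limits.pullback j'' b₂ := Limits.pullback.lift b₁ j sq₂
  have hφ₁ : φ ≫ Limits.pullback.fst j'' b₂ = b₁ := Limits.pullback.lift_fst _ _ _
  have hφ₂ : φ ≫ Limits.pullback.snd j'' b₂ = j := Limits.pullback.lift_snd _ _ _
  have hbig := isPullback_mul j b₂ a₂ h₂
  let Θ : H₁ ⊗ H₂' ⟶ Limits.pullback j'' b₂ :=
    Limits.pullback.lift (fst H₁ H₂' ≫ b₁) ((fst H₁ H₂' ≫ j) * (snd H₁ H₂' ≫ a₂))
      (by rw [Category.assoc, sq₂]; exact hbig.w)
  have hΘ₁ : Θ ≫ Limits.pullback.fst j'' b₂ = fst H₁ H₂' ≫ b₁ := Limits.pullback.lift_fst _ _ _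
  have hΘ₂ : Θ ≫ Limits.pullback.snd j'' b₂ = (fst H₁ H₂' ≫ j) * (snd H₁ H₂' ≫ a₂) := Limits.pullback.lift_snd _ _ _
  have hsqΘ : IsPullback (fst H₁ H₂') Θ b₁ (Limits.pullback.fst j'' b₂) := by
    refine IsPullback.of_bot ?_ hΘ₁.symm (IsPullback.of_hasPullback j'' b₂)
    rw [hΘ₂, sq₂]
    exact hbig
  -- the pullback of φ along Θ
  have hnb : a₁ ≫ b₁ = 1 := by rw [h₁.w]; rfl
  haveI : Mono a₂ := ⟨fun {T} u v h => h₂.hom_ext h (toUnit_unique _ _)⟩
  have hsq : IsPullback ((fst H₁ H₁') * (snd H₁ H₁' ≫ a₁)) (H₁ ◁ j') φ Θ := by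
    have w : ((fst H₁ H₁') * (snd H₁ H₁' ≫ a₁)) ≫ φ = (H₁ ◁ j') ≫ Θ := by
      apply Limits.pullback.hom_ext
      · rw [Category.assoc, hφ₁, Category.assoc, hΘ₁, whiskerLeft_fst_assoc, MonObj.mul_comp, Category.assoc, hnb,
          MonObj.comp_one, _root_.mul_one]
      · rw [Category.assoc, hφ₂, Category.assoc, hΘ₂, MonObj.mul_comp, MonObj.comp_mul, whiskerLeft_fst_assoc,
          whiskerLeft_snd_assoc, Category.assoc, sq₁]
    refine IsPullback.of_isLimit' ⟨w⟩ (Limits.PullbackCone.IsLimit.mk _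
      (fun s => lift (s.snd ≫ fst _ _) (h₁'.lift ((s.snd ≫ fst _ _)⁻¹ * s.fst) (toUnit _) (by
        have := congrArg (· ≫ Limits.pullback.fst j'' b₂) s.condition
        simp only [Category.assoc, hφ₁, hΘ₁] at this
        rw [MonObj.mul_comp, GrpObj.inv_comp, Category.assoc, ← this, inv_mul_cancel]; rfl)))
      (fun s => by
        rw [MonObj.comp_mul, lift_fst, lift_snd_assoc, h₁'.lift_fst, mul_inv_cancel_left])
      (fun s => ?_) (fun s m h1 h2 => ?_))
    · apply CartesianMonoidalCategory.hom_ext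
      · simp
      · have := congrArg (· ≫ Limits.pullback.snd j'' b₂) s.condition
        simp only [Category.assoc, hφ₂, hΘ₂, MonObj.comp_mul] at this
        rw [Category.assoc, whiskerLeft_snd, lift_snd_assoc, ← cancel_mono a₂]
        simp only [Category.assoc, ← sq₁]
        rw [h₁'.lift_fst_assoc, MonObj.mul_comp, GrpObj.inv_comp, this, Category.assoc, inv_mul_cancel_left]
    · apply CartesianMonoidalCategory.hom_ext
      · rw [lift_fst, ← h2, Category.assoc, whiskerLeft_fst]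
      · rw [lift_snd]
        refine h₁'.hom_ext ?_ (toUnit_unique _ _)
        rw [h₁'.lift_fst, ← h1, ← h2, MonObj.comp_mul, Category.assoc, Category.assoc, whiskerLeft_fst,
          inv_mul_cancel_left]
  haveI : MorphismProperty.DescendsAlong @IsClosedImmersion
      (@Surjective ⊓ @Flat ⊓ @QuasiCompact : MorphismProperty Scheme.{u}) :=
    Groth.Agent.EtFound.fpqc_isClosedImmersion
  have hl := hsqΘ.map (Over.forget S)
  have hΘP : (@Surjective ⊓ @Flat ⊓ @QuasiCompact : MorphismProperty Scheme.{u}) Θ.left :=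
    ⟨⟨MorphismProperty.of_isPullback hl ‹Surjective b₁.left›, MorphismProperty.of_isPullback hl ‹Flat b₁.left›⟩,
      MorphismProperty.of_isPullback hl ‹QuasiCompact b₁.left›⟩
  have hjw : IsClosedImmersion (H₁ ◁ j').left := by
    have h : IsPullback (H₁ ◁ j') (snd H₁ H₁') (snd H₁ H₂') j' := by
      refine IsPullback.of_isLimit' ⟨by simp⟩ (Limits.PullbackCone.IsLimit.mk _
        (fun s => lift (s.fst ≫ fst H₁ H₂') s.snd) (fun s => ?_) (fun s => by simp) (fun s m h1 h2 => ?_))
      · apply CartesianMonoidalCategory.hom_ext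
        · simp
        · simpa using s.condition.symm
      · apply CartesianMonoidalCategory.hom_ext
        · simp [← h1]
        · simpa using h2
    exact MorphismProperty.of_isPullback (h.map (Over.forget S)).flip ‹IsClosedImmersion j'.left›
  haveI : IsClosedImmersion φ.left :=
    MorphismProperty.of_isPullback_of_descendsAlong
      (Q := (@Surjective ⊓ @Flat ⊓ @QuasiCompact : MorphismProperty Scheme.{u}))
      (hsq.map (Over.forget S)).flip hΘP hjw
  haveI : IsClosedImmersion (Limits.pullback.snd j'' b₂).left :=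
    MorphismProperty.of_isPullback ((IsPullback.of_hasPullback j'' b₂).map (Over.forget S)) ‹IsClosedImmersion j''.left›
  rw [← hφ₂, Over.comp_left]
  infer_instance

end Groth.Agent.S16647
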