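import Groth.Statements.S1665
import Groth.Agent.KrullAki.Valuation

set_option autoImplicit false
universe u
open Variety

namespace Groth.Agent.S1665

open Groth.Agent.KrullAki

/-- Let B be a Noetherian domain of dimension one with finitely many maximal ideals and B' its integral
closure in its fraction field. Then B' is a Dedekind domain with finitely many maximal ideals, and
for every nonzero x in the Jacobson radical of B' and every y ∈ B' some power x^n satisfies x^n y ∈
B. -/
theorem result (B : Type u) [CommRing B] [IsDomain B] [IsNoetherianRing B]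
    (hdim : ringKrullDim B = 1) (hsl : Finite (MaximalSpectrum B)) :
    IsDedekindDomain (integralClosure B (FractionRing B)) ∧ Finite (MaximalSpectrum (integralClosure B (FractionRing B))) ∧
      ∀ x : integralClosure B (FractionRing B), x ≠ 0 → x ∈ (⊥ : Ideal (integralClosure B (FractionRing B))).jacobson →
        ∀ y : integralClosure B (FractionRing B), ∃ n : ℕ, (x ^ n * y).1 ∈ (algebraMap B (FractionRing B)).range := by
  have := krullDimLE_one_of_dim_eq_one hdim
  set K := FractionRing B
  set C := integralClosure B K with hC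
  have : IsNoetherianRing C := isNoetherianRing_subalgebra _
  have : Ring.KrullDimLE 1 C := krullDimLE_one_subalgebra _
  have := isFractionRing_subalgebra C
  have : IsIntegrallyClosed C := integralClosure.isIntegrallyClosedOfFiniteExtension K
  refine ⟨{ maximalOfPrime := fun h hp => Ring.krullDimLE_one_iff_of_noZeroDivisors.1 inferInstance _ h hp },
    finite_maximalSpectrum_subalgebra _, fun x hx0 hx y => ?_⟩
  classical
  let C' := Algebra.adjoin B ({(x : K), (y : K)} : Set K)
  have hC'C : C' ≤ C := Algebra.adjoin_le (by rintro _ (rfl | rfl) <;> exact SetLike.coe_mem _)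
  have : Ring.KrullDimLE 1 C' := krullDimLE_one_subalgebra _
  obtain ⟨s, hs⟩ := fg_adjoin_of_finite (R := B) (Set.toFinite ({(x : K), (y : K)} : Set K))
    (by rintro _ (rfl | rfl) <;> exact SetLike.coe_mem (_ : C))
  obtain ⟨⟨c, hc⟩, hc'⟩ := IsLocalization.exist_integer_multiples_of_finset (nonZeroDivisors B) s
  have hc0 : algebraMap B K c ≠ 0 := IsFractionRing.to_map_ne_zero_of_mem_nonZeroDivisors hc
  have hcC : ∀ z ∈ C', algebraMap B K c * z ∈ (algebraMap B K).range := by
    intro z hz
    have hz' : z ∈ Submodule.span B (s : Set K) := hs ▸ (hz : z ∈ Subalgebra.toSubmodule C')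
    clear hz
    induction hz' using Submodule.span_induction with
    | mem z hz =>
      obtain ⟨w, hw⟩ := hc' z hz
      exact ⟨w, hw.trans (Algebra.smul_def _ _)⟩
    | zero => exact ⟨0, by rw [mul_zero, map_zero]⟩
    | add a b _ _ ha hb => rw [mul_add]; exact add_mem ha hb
    | smul r z _ hz =>
      rw [Algebra.smul_def, mul_left_comm]
      exact mul_mem ⟨r, rfl⟩ hz
  let x' : C' := ⟨x, Algebra.subset_adjoin (by simp)⟩
  have hxJ : x' ∈ (⊥ : Ideal C').jacobson := by
    rw [Ideal.mem_jacobson_bot]
    intro r
    have hint : (Subalgebra.inclusion hC'C).toRingHom.IsIntegral :=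
      RingHom.IsIntegral.tower_top (algebraMap B C') _ fun u =>
        (isIntegral_algHom_iff C.val Subtype.val_injective).1 (u.2 : IsIntegral B (u : K))
    have := hint.isLocalHom (Subalgebra.inclusion_injective hC'C)
    apply IsUnit.of_map (Subalgebra.inclusion hC'C).toRingHom
    exact Ideal.mem_jacobson_bot.1 hx ⟨r, hC'C r.2⟩
  obtain ⟨n, d, hd⟩ := exists_dvd_pow_of_mem_jacobson hxJ (c := algebraMap B C' c)
    fun h => hc0 (congrArg Subtype.val h)
  refine ⟨n, ?_⟩
  have hd' : (x : K) ^ n = algebraMap B K c * (d : K) := congrArg Subtype.val hd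
  show (x : K) ^ n * (y : K) ∈ _
  rw [hd', mul_assoc]
  exact hcC _ (C'.mul_mem d.2 (Algebra.subset_adjoin (by simp)))

end Groth.Agent.S1665
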