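import Groth.Statements.S1666
import Groth.Agent.Lib.DegBirat

set_option autoImplicit false
set_option backward.isDefEq.respectTransparency false
set_option backward.isDefEq.respectTransparency.types false
set_option linter.style.haveILetI false
set_option linter.unusedSectionVars false
set_option maxHeartbeats 400000
universe u
open CategoryTheory CategoryTheory.Limits AlgebraicGeometry
open Variety

namespace Groth.Agent.S1666

open Groth.Agent

/-- Let f : X' → X be a k-morphism of proper schemes of dimension at most one over k which is an
isomorphism over a dense open of X whose preimage is dense in X'. Then for every finite locally free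
module E of rank n on X, deg(f^* E) = deg(E). -/
theorem result (k : Type u) [Field k] (X X' : Scheme.{u}) [X.Over (Spec (CommRingCat.of k))] [X'.Over (Spec (CommRingCat.of k))]
    [IsProper (X ↘ (Spec (CommRingCat.of k)))] [IsProper (X' ↘ (Spec (CommRingCat.of k)))] (hdim : topologicalKrullDim X ≤ 1) (hdim' : topologicalKrullDim X' ≤ 1)
    (f : X' ⟶ X) (hf : f ≫ (X ↘ (Spec (CommRingCat.of k))) = X' ↘ (Spec (CommRingCat.of k)))
    (U : X.Opens) (hU : Dense (U : Set X)) (hU' : Dense ((f ⁻¹ᵁ U : X'.Opens) : Set X')) (hfU : IsIso (f ∣_ U))
    (n : ℕ) (E : X.Modules) (hE : FlatMod.IsFinLocFreeOfRank n E) :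
    Curv2.deg k X' ((Scheme.Modules.pullback f).obj E) n = Curv2.deg k X E n := by
  exact DegBirat.deg_pullback k hdim f hf U hU hU' hE

end Groth.Agent.S1666
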