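import Groth.Statements.S16661
import Mathlib

set_option autoImplicit false
universe v u
open TensorProduct
open Conn

namespace Groth.Agent.S16661
open TensorProduct


/-- Let B be an A-algebra with a receptacle of differentials (Ω, δ), Ω a finite free B-module (the
affine-local form of differentials locally free of finite type), let M be a finite free B-module
(the local form of a vector bundle) with a connection ∇ : M → M ⊗ Ω, and let ∇_E be the induced
connection on the B-linear endomorphisms of M, the one with (ev_m ⊗ 1)(∇_E φ) = ∇(φ m) − (φ ⊗ 1)(∇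
m). Give B the connection b ↦ 1 ⊗ δ b. Then the trace map End_B(M) → B is horizontal: 1 ⊗ δ(tr φ) =
(tr ⊗ 1)(∇_E φ) for every endomorphism φ. -/
theorem result {A : Type v} {B Ω M : Type u}
    [CommRing A] [CommRing B] [Algebra A B]
    [AddCommGroup Ω] [Module B Ω] [Module A Ω] [IsScalarTower A B Ω] [Module.Finite B Ω] [Module.Free B Ω]
    [AddCommGroup M] [Module B M] [Module A M] [IsScalarTower A B M] [Module.Finite B M] [Module.Free B M]
    (δ : Derivation A B Ω) (nabla : M →ₗ[A] M ⊗[B] Ω) (hc : Conn.IsConn δ nabla)
    (nablaE : (M →ₗ[B] M) →ₗ[A] (M →ₗ[B] M) ⊗[B] Ω) (hE : Conn.IsHomConn nabla nabla nablaE) :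
    Conn.IsHorizontal nablaE (Conn.triv δ) (LinearMap.trace B M) := by
  classical
  intro φ
  let b := Module.Free.chooseBasis B M
  let a : Matrix (Module.Free.ChooseBasisIndex B M) (Module.Free.ChooseBasisIndex B M) B := LinearMap.toMatrix b b φ
  let T : Module.Free.ChooseBasisIndex B M → Module.Free.ChooseBasisIndex B M → B ⊗[B] Ω :=
    fun i j => TensorProduct.map (b.coord i) LinearMap.id (nabla (b j))
  have hev : ∀ z : (M →ₗ[B] M) ⊗[B] Ω,
      TensorProduct.map (LinearMap.trace B M) LinearMap.id z =
        ∑ i, TensorProduct.map (b.coord i) LinearMap.id (TensorProduct.map (LinearMap.applyₗ (b i)) LinearMap.id z) := by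
    intro z
    induction z using TensorProduct.induction_on with
    | zero => simp
    | add x y hx hy => simp only [map_add, hx, hy, Finset.sum_add_distrib]
    | tmul f w =>
      simp only [TensorProduct.map_tmul, LinearMap.id_coe, id_eq, LinearMap.applyₗ_apply_apply]
      rw [← TensorProduct.sum_tmul, LinearMap.trace_eq_matrix_trace B b]
      congr 1
      simp [Matrix.trace, LinearMap.toMatrix_apply]
  have h1 : ∀ i, nabla (φ (b i)) = ∑ j, (a j i • nabla (b j) + b j ⊗ₜ[B] δ (a j i)) := by
    intro i
    have he : φ (b i) = ∑ j, a j i • b j := by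
      conv_lhs => rw [← b.sum_repr (φ (b i))]
      simp [a, LinearMap.toMatrix_apply]
    rw [he, map_sum]
    exact Finset.sum_congr rfl fun j _ => hc _ _
  have h2 : ∀ i, TensorProduct.map (b.coord i) LinearMap.id (TensorProduct.map φ LinearMap.id (nabla (b i))) =
      ∑ j, a i j • T j i := by
    intro i
    rw [← LinearMap.comp_apply, ← TensorProduct.map_comp, LinearMap.comp_id]
    have he : b.coord i ∘ₗ φ = ∑ j, a i j • b.coord j := by
      refine b.ext fun l => ?_
      simp [a, LinearMap.toMatrix_apply, Finsupp.single_apply]
    rw [he]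
    simp only [T]
    generalize nabla (b i) = z
    induction z using TensorProduct.induction_on with
    | zero => simp
    | add x y hx hy =>
      simp only [map_add, hx, hy, smul_add, Finset.sum_add_distrib]
    | tmul m w =>
      simp only [TensorProduct.map_tmul, LinearMap.id_coe, id_eq, LinearMap.coe_sum, Finset.sum_apply,
        LinearMap.smul_apply, TensorProduct.sum_tmul, TensorProduct.smul_tmul']
  rw [Conn.triv_apply, hev]
  calc (1 : B) ⊗ₜ[B] δ (LinearMap.trace B M φ) = ∑ i, (1 : B) ⊗ₜ[B] δ (a i i) := by
        rw [LinearMap.trace_eq_matrix_trace B b, Matrix.trace, map_sum, TensorProduct.tmul_sum]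
        rfl
    _ = ∑ i, (∑ j, (a j i • T i j + TensorProduct.map (b.coord i) LinearMap.id (b j ⊗ₜ[B] δ (a j i))) -
          ∑ j, a i j • T j i) := by
        rw [Finset.sum_sub_distrib]
        simp only [Finset.sum_add_distrib]
        rw [Finset.sum_comm (f := fun i j => a j i • T i j), add_sub_cancel_left]
        refine Finset.sum_congr rfl fun i _ => ?_
        rw [Finset.sum_eq_single i]
        · simp
        · intro j _ hji
          simp [Finsupp.single_apply, hji]
        · simp
    _ = _ := by
        refine Finset.sum_congr rfl fun i _ => ?_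
        rw [hE φ (b i), map_sub, h1, h2, map_sum]
        simp only [map_add, map_smul, T]


end Groth.Agent.S16661
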