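import Groth.Statements.S16662
-- import your own Groth.Agent.* helpers here

set_option autoImplicit false
universe v u
open TensorProduct
open Conn

namespace Groth.Agent.S16662
theorem homTensor_sep {B E G Ω : Type*} [CommRing B] [AddCommGroup E] [Module B E]
    [AddCommGroup G] [Module B G] [AddCommGroup Ω] [Module B Ω] [Module.Finite B Ω] [Module.Free B Ω] :
    Function.Injective fun (z : TensorProduct B (E →ₗ[B] G) Ω) (e : E) =>
      TensorProduct.map (LinearMap.applyₗ e) LinearMap.id z := by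
  classical
  let b := Module.Free.chooseBasis B Ω
  intro z z' h
  apply (TensorProduct.equivFinsuppOfBasisRight b).injective
  ext i e
  have h' := congrFun h e
  have nat : ∀ w : TensorProduct B (E →ₗ[B] G) Ω,
      TensorProduct.equivFinsuppOfBasisRight b (TensorProduct.map (LinearMap.applyₗ e) LinearMap.id w) i =
        TensorProduct.equivFinsuppOfBasisRight b w i e := by
    intro w
    induction w using TensorProduct.induction_on with
    | zero => simp
    | tmul f ω => simp
    | add p q hp hq => simp only [map_add, Finsupp.add_apply, hp, hq, LinearMap.add_apply]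
  simpa [nat] using congrArg (fun w => TensorProduct.equivFinsuppOfBasisRight b w i) h'


/-- Let B be an A-algebra with a receptacle of differentials (Ω, δ), Ω a finite free B-module, and let
E, F, G be B-modules with connections ∇_E, ∇_F, ∇_G, with E and F finitely presented. Equip
Hom_B(E,F), Hom_B(F,G) and Hom_B(E,G) with the induced connections (the connection ∇'' on Hom_B(X,Y)
being the one with (ev_x ⊗ 1)(∇'' φ) = ∇_Y(φ x) − (φ ⊗ 1)(∇_X x)), and Hom_B(F,G) ⊗ Hom_B(E,F) with
the tensor product of these connections. Then the composition map Hom_B(F,G) ⊗ Hom_B(E,F) →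
Hom_B(E,G), ψ ⊗ φ ↦ ψ ∘ φ, is horizontal. -/
theorem result {A : Type v} {B Ω E F G : Type u}
    [CommRing A] [CommRing B] [Algebra A B]
    [AddCommGroup Ω] [Module B Ω] [Module A Ω] [IsScalarTower A B Ω] [Module.Finite B Ω] [Module.Free B Ω]
    [AddCommGroup E] [Module B E] [Module A E] [IsScalarTower A B E] [Module.FinitePresentation B E]
    [AddCommGroup F] [Module B F] [Module A F] [IsScalarTower A B F] [Module.FinitePresentation B F]
    [AddCommGroup G] [Module B G] [Module A G] [IsScalarTower A B G]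
    (δ : Derivation A B Ω)
    (nE : E →ₗ[A] E ⊗[B] Ω) (hcE : Conn.IsConn δ nE)
    (nF : F →ₗ[A] F ⊗[B] Ω) (hcF : Conn.IsConn δ nF)
    (nG : G →ₗ[A] G ⊗[B] Ω) (hcG : Conn.IsConn δ nG)
    (nEF : (E →ₗ[B] F) →ₗ[A] (E →ₗ[B] F) ⊗[B] Ω) (hEF : Conn.IsHomConn nE nF nEF)
    (nFG : (F →ₗ[B] G) →ₗ[A] (F →ₗ[B] G) ⊗[B] Ω) (hFG : Conn.IsHomConn nF nG nFG)
    (nEG : (E →ₗ[B] G) →ₗ[A] (E →ₗ[B] G) ⊗[B] Ω) (hEG : Conn.IsHomConn nE nG nEG)
    (nT : (F →ₗ[B] G) ⊗[B] (E →ₗ[B] F) →ₗ[A] ((F →ₗ[B] G) ⊗[B] (E →ₗ[B] F)) ⊗[B] Ω)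
    (hT : Conn.IsTensorConn nFG nEF nT) :
    Conn.IsHorizontal nT nEG (TensorProduct.lift (LinearMap.llcomp B E F G)) := by
  have h1 : ∀ (φ : E →ₗ[B] F) (x : (F →ₗ[B] G) ⊗[B] Ω) (e : E),
      TensorProduct.map (LinearMap.applyₗ e) LinearMap.id
        (TensorProduct.map (TensorProduct.lift (LinearMap.llcomp B E F G)) LinearMap.id
          (Conn.swapR (x ⊗ₜ[B] φ))) = TensorProduct.map (LinearMap.applyₗ (φ e)) LinearMap.id x := by
    intro φ x e
    induction x using TensorProduct.induction_on with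
    | zero => simp
    | tmul p w => simp [Conn.swapR_tmul]
    | add p q hp hq => simp only [TensorProduct.add_tmul, map_add, hp, hq]
  have h2 : ∀ (ψ : F →ₗ[B] G) (y : (E →ₗ[B] F) ⊗[B] Ω) (e : E),
      TensorProduct.map (LinearMap.applyₗ e) LinearMap.id
        (TensorProduct.map (TensorProduct.lift (LinearMap.llcomp B E F G)) LinearMap.id
          ((TensorProduct.assoc B (F →ₗ[B] G) (E →ₗ[B] F) Ω).symm (ψ ⊗ₜ[B] y))) =
        TensorProduct.map ψ LinearMap.id (TensorProduct.map (LinearMap.applyₗ e) LinearMap.id y) := by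
    intro ψ y e
    induction y using TensorProduct.induction_on with
    | zero => simp
    | tmul p w => simp
    | add p q hp hq => simp only [TensorProduct.tmul_add, map_add, hp, hq]
  have h3 : ∀ (ψ : F →ₗ[B] G) (φ : E →ₗ[B] F) (x : E ⊗[B] Ω),
      TensorProduct.map (ψ ∘ₗ φ) LinearMap.id x =
        TensorProduct.map ψ LinearMap.id (TensorProduct.map φ LinearMap.id x) := by
    intro ψ φ x
    rw [← LinearMap.comp_apply, ← TensorProduct.map_comp, LinearMap.comp_id]
  have sep : Function.Injective fun (z : (E →ₗ[B] G) ⊗[B] Ω) (e : E) =>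
      TensorProduct.map (LinearMap.applyₗ e) LinearMap.id z :=
    homTensor_sep
  intro m
  apply sep
  funext e
  induction m using TensorProduct.induction_on with
  | zero => simp
  | tmul ψ φ =>
    simp only [TensorProduct.lift.tmul, LinearMap.llcomp_apply']
    rw [hEG, hT, map_add, map_add, h1, h2, hEF φ e, map_sub, hFG ψ (φ e), h3]
    simp
  | add p q hp hq => simp only [map_add] at hp hq ⊢; rw [hp, hq]


end Groth.Agent.S16662
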