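import Groth.Statements.S16663
import Groth.Agent.S16661
import Groth.Agent.S16662

set_option autoImplicit false
universe v u
open TensorProduct
open Conn

namespace Groth.Agent.S16663
open TensorProduct


/-- Let B be an A-algebra with a receptacle of differentials (Ω, δ), Ω a finite free B-module (the local
form of a weakly smooth scheme), and let M be a finitely ℤ-graded B-module presented as a finite
family of finite free B-modules M_i with integer degrees deg i (the local form of a graded vector
bundle), with total module Π_i M_i. Let ∇ be a connection on Π_i M_i preserving the grading, in the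
sense that (pr_j ⊗ 1)(∇(ι_i m)) = 0 for m ∈ M_i whenever deg i ≠ deg j, and let ∇_E be the induced
connection on the B-linear endomorphisms, the one with (ev_m ⊗ 1)(∇_E φ) = ∇(φ m) − (φ ⊗ 1)(∇ m).
Give B the connection b ↦ 1 ⊗ δ b. Then the supertrace, φ ↦ tr(ε ∘ φ) with ε = Σ_i (−1)^{deg i} ι_i
∘ pr_i the grading involution, is a horizontal map End_B(Π_i M_i) → B. -/
theorem result {A : Type v} {B Ω ι : Type u}
    [CommRing A] [CommRing B] [Algebra A B]
    [AddCommGroup Ω] [Module B Ω] [Module A Ω] [IsScalarTower A B Ω] [Module.Finite B Ω] [Module.Free B Ω]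
    [Fintype ι] [DecidableEq ι] (deg : ι → ℤ) (M : ι → Type u)
    [∀ i, AddCommGroup (M i)] [∀ i, Module B (M i)] [∀ i, Module A (M i)] [∀ i, IsScalarTower A B (M i)]
    [∀ i, Module.Free B (M i)] [∀ i, Module.Finite B (M i)]
    (δ : Derivation A B Ω) (nabla : (Π k, M k) →ₗ[A] (Π k, M k) ⊗[B] Ω) (hc : Conn.IsConn δ nabla)
    (hgr : ∀ i j : ι, deg i ≠ deg j → ∀ m : M i,
      TensorProduct.map (LinearMap.proj j : (Π k, M k) →ₗ[B] M j) LinearMap.id (nabla (LinearMap.single B M i m)) = 0)
    (nablaE : ((Π k, M k) →ₗ[B] (Π k, M k)) →ₗ[A] ((Π k, M k) →ₗ[B] (Π k, M k)) ⊗[B] Ω)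
    (hE : Conn.IsHomConn nabla nabla nablaE) :
    Conn.IsHorizontal nablaE (Conn.triv δ)
      (LinearMap.trace B (Π k, M k) ∘ₗ LinearMap.llcomp B (Π k, M k) (Π k, M k) (Π k, M k)
        (∑ i : ι, (LinearMap.single B M i) ∘ₗ (((-1 : B) ^ (deg i).natAbs) • (LinearMap.proj i : (Π k, M k) →ₗ[B] M i)))) := by
  classical
  let sgn : ι → B := fun i => (-1 : B) ^ (deg i).natAbs
  let ε : (Π k, M k) →ₗ[B] (Π k, M k) :=
    ∑ i : ι, (LinearMap.single B M i) ∘ₗ (sgn i • (LinearMap.proj i : (Π k, M k) →ₗ[B] M i))
  have hεs : ∀ i (m : M i), ε (LinearMap.single B M i m) = sgn i • LinearMap.single B M i m := by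
    intro i m
    simp only [ε, LinearMap.coe_sum, Finset.sum_apply, LinearMap.comp_apply, LinearMap.smul_apply, LinearMap.proj_apply]
    rw [Finset.sum_eq_single i]
    · simp
    · intro j _ hj
      simp [hj]
    · simp
  have hδ : ∀ i, δ (sgn i) = 0 := fun i => by
    rcases neg_one_pow_eq_or B (deg i).natAbs with h | h <;> simp [sgn, h]
  have hsplit : ∀ z : (Π k, M k) ⊗[B] Ω, z = ∑ j, TensorProduct.map (LinearMap.single B M j) LinearMap.id
      (TensorProduct.map (LinearMap.proj j : (Π k, M k) →ₗ[B] M j) LinearMap.id z) := by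
    intro z
    induction z using TensorProduct.induction_on with
    | zero => simp
    | add x y hx hy =>
      simp only [map_add, Finset.sum_add_distrib]
      rw [← hx, ← hy]
    | tmul f w =>
      simp only [TensorProduct.map_tmul, LinearMap.id_coe, id_eq, LinearMap.proj_apply]
      rw [← TensorProduct.sum_tmul]
      congr 1
      exact (LinearMap.sum_single_apply M f).symm
  have hεh : ∀ x : Π k, M k, nabla (ε x) = TensorProduct.map ε LinearMap.id (nabla x) := by
    intro x
    rw [← LinearMap.sum_single_apply M x, map_sum ε, map_sum, map_sum, map_sum]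
    refine Finset.sum_congr rfl fun i _ => ?_
    change nabla (ε (LinearMap.single B M i (x i))) = TensorProduct.map ε LinearMap.id (nabla (LinearMap.single B M i (x i)))
    rw [hεs, hc, hδ, TensorProduct.tmul_zero, add_zero]
    conv_rhs => rw [hsplit (nabla (LinearMap.single B M i (x i))), map_sum]
    conv_lhs => rw [hsplit (nabla (LinearMap.single B M i (x i))), Finset.smul_sum]
    refine Finset.sum_congr rfl fun j _ => ?_
    by_cases hd : deg i = deg j
    · have hs : sgn i = sgn j := by simp [sgn, hd]
      rw [hs, ← LinearMap.comp_apply (TensorProduct.map ε LinearMap.id), ← TensorProduct.map_comp, LinearMap.comp_id,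
        show ε ∘ₗ LinearMap.single B M j = sgn j • LinearMap.single B M j from LinearMap.ext (hεs j),
        TensorProduct.map_smul_left, LinearMap.smul_apply]
    · rw [hgr i j hd (x i)]
      simp
  intro φ
  change Conn.triv δ (LinearMap.trace B _ (ε ∘ₗ φ)) = _
  have hcomm : nablaE (ε ∘ₗ φ) = TensorProduct.map (LinearMap.llcomp B _ _ _ ε) LinearMap.id (nablaE φ) := by
    apply S16662.homTensor_sep
    funext m
    dsimp only
    rw [hE, LinearMap.comp_apply, hεh, ← LinearMap.comp_apply (TensorProduct.map (LinearMap.applyₗ m) LinearMap.id),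
      ← TensorProduct.map_comp,
      show LinearMap.applyₗ m ∘ₗ LinearMap.llcomp B (Π k, M k) (Π k, M k) (Π k, M k) ε = ε ∘ₗ LinearMap.applyₗ m from rfl,
      TensorProduct.map_comp, LinearMap.comp_apply, hE, map_sub,
      ← LinearMap.comp_apply (TensorProduct.map ε LinearMap.id) (TensorProduct.map φ LinearMap.id),
      ← TensorProduct.map_comp, LinearMap.comp_id]
  rw [S16661.result δ nabla hc nablaE hE (ε ∘ₗ φ), hcomm, ← LinearMap.comp_apply (TensorProduct.map _ LinearMap.id),
    ← TensorProduct.map_comp, LinearMap.comp_id]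


end Groth.Agent.S16663
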