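import Groth.Statements.S16666
-- import your own Groth.Agent.* helpers here

set_option autoImplicit false
universe v u
open TensorProduct
open Conn

namespace Groth.Agent.S16666
theorem homTensor_sep {B E G Ω : Type*} [CommRing B] [AddCommGroup E] [Module B E]
    [AddCommGroup G] [Module B G] [AddCommGroup Ω] [Module B Ω] [Module.Finite B Ω] [Module.Free B Ω] :
    Function.Injective fun (z : TensorProduct B (E →ₗ[B] G) Ω) (e : E) =>
      TensorProduct.map (LinearMap.applyₗ e) LinearMap.id z := by
  classical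
  let b := Module.Free.chooseBasis B Ω
  intro z z' h
  apply (TensorProduct.equivFinsuppOfBasisRight b).injective
  ext i e
  have h' := congrFun h e
  have nat : ∀ w : TensorProduct B (E →ₗ[B] G) Ω,
      TensorProduct.equivFinsuppOfBasisRight b (TensorProduct.map (LinearMap.applyₗ e) LinearMap.id w) i =
        TensorProduct.equivFinsuppOfBasisRight b w i e := by
    intro w
    induction w using TensorProduct.induction_on with
    | zero => simp
    | tmul f ω => simp
    | add p q hp hq => simp only [map_add, Finsupp.add_apply, hp, hq, LinearMap.add_apply]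
  simpa [nat] using congrArg (fun w => TensorProduct.equivFinsuppOfBasisRight b w i) h'


/-- Let B be an A-algebra with a receptacle of differentials (Ω, δ), Ω a finite free B-module, and let
E, F, G be B-modules with connections ∇_E, ∇_F, ∇_G, E finitely presented. Equip Hom_B(E,F) and
Hom_B(E, F ⊗ G) with the induced connections (the connection ∇'' on Hom_B(E,Y) being the one with
(ev_e ⊗ 1)(∇'' φ) = ∇_Y(φ e) − (φ ⊗ 1)(∇_E e)), and F ⊗ G and Hom_B(E,F) ⊗ G with the tensor-product
connections. Then the canonical map Hom_B(E,F) ⊗ G → Hom_B(E, F ⊗ G), φ ⊗ g ↦ (e ↦ φ(e) ⊗ g), is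
horizontal. (The published statement is for bounded complexes with termwise connections, the Hom
complex and the tensor-product complex; this row is the case of single modules, that is, complexes
concentrated in one degree.) -/
theorem result {A : Type v} {B Ω E F G : Type u}
    [CommRing A] [CommRing B] [Algebra A B]
    [AddCommGroup Ω] [Module B Ω] [Module A Ω] [IsScalarTower A B Ω] [Module.Finite B Ω] [Module.Free B Ω]
    [AddCommGroup E] [Module B E] [Module A E] [IsScalarTower A B E] [Module.FinitePresentation B E]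
    [AddCommGroup F] [Module B F] [Module A F] [IsScalarTower A B F]
    [AddCommGroup G] [Module B G] [Module A G] [IsScalarTower A B G]
    (δ : Derivation A B Ω)
    (nE : E →ₗ[A] E ⊗[B] Ω) (hcE : Conn.IsConn δ nE)
    (nF : F →ₗ[A] F ⊗[B] Ω) (hcF : Conn.IsConn δ nF)
    (nG : G →ₗ[A] G ⊗[B] Ω) (hcG : Conn.IsConn δ nG)
    (nEF : (E →ₗ[B] F) →ₗ[A] (E →ₗ[B] F) ⊗[B] Ω) (hEF : Conn.IsHomConn nE nF nEF)
    (nFG : F ⊗[B] G →ₗ[A] (F ⊗[B] G) ⊗[B] Ω) (hFG : Conn.IsTensorConn nF nG nFG)
    (nH : (E →ₗ[B] F ⊗[B] G) →ₗ[A] (E →ₗ[B] F ⊗[B] G) ⊗[B] Ω) (hH : Conn.IsHomConn nE nFG nH)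
    (nS : (E →ₗ[B] F) ⊗[B] G →ₗ[A] ((E →ₗ[B] F) ⊗[B] G) ⊗[B] Ω) (hS : Conn.IsTensorConn nEF nG nS) :
    Conn.IsHorizontal nS nH (TensorProduct.rTensorHomToHomRTensor (RingHom.id B) E F G) := by
  let L : (E →ₗ[B] F) ⊗[B] G →ₗ[B] (E →ₗ[B] F ⊗[B] G) :=
    TensorProduct.rTensorHomToHomRTensor (RingHom.id B) E F G
  have h1 : ∀ (x : (E →ₗ[B] F) ⊗[B] Ω) (g : G) (e : E),
      TensorProduct.map (LinearMap.applyₗ e) LinearMap.id
        (TensorProduct.map L LinearMap.id (Conn.swapR (x ⊗ₜ[B] g))) =
          Conn.swapR ((TensorProduct.map (LinearMap.applyₗ e) LinearMap.id x) ⊗ₜ[B] g) := by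
    intro x g e
    induction x using TensorProduct.induction_on with
    | zero => simp
    | tmul p w => simp [L, Conn.swapR_tmul]
    | add p q hp hq => simp only [TensorProduct.add_tmul, map_add, hp, hq]
  have h2 : ∀ (φ : E →ₗ[B] F) (y : G ⊗[B] Ω) (e : E),
      TensorProduct.map (LinearMap.applyₗ e) LinearMap.id
        (TensorProduct.map L LinearMap.id
          ((TensorProduct.assoc B (E →ₗ[B] F) G Ω).symm (φ ⊗ₜ[B] y))) =
        (TensorProduct.assoc B F G Ω).symm (φ e ⊗ₜ[B] y) := by
    intro φ y e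
    induction y using TensorProduct.induction_on with
    | zero => simp
    | tmul p w => simp [L]
    | add p q hp hq => simp only [TensorProduct.tmul_add, map_add, hp, hq]
  have h3 : ∀ (φ : E →ₗ[B] F) (g : G) (x : E ⊗[B] Ω),
      TensorProduct.map (L (φ ⊗ₜ[B] g)) LinearMap.id x =
        Conn.swapR ((TensorProduct.map φ LinearMap.id x) ⊗ₜ[B] g) := by
    intro φ g x
    induction x using TensorProduct.induction_on with
    | zero => simp
    | tmul p w => simp [L, Conn.swapR_tmul]
    | add p q hp hq => simp only [TensorProduct.add_tmul, map_add, hp, hq]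
  have sep : Function.Injective fun (z : (E →ₗ[B] F ⊗[B] G) ⊗[B] Ω) (e : E) =>
      TensorProduct.map (LinearMap.applyₗ e) LinearMap.id z :=
    homTensor_sep
  intro m
  apply sep
  funext e
  induction m using TensorProduct.induction_on with
  | zero => simp
  | tmul φ g =>
    simp only
    rw [hH, hS, map_add, map_add, h1, h2, hEF φ e, h3]
    rw [show L (φ ⊗ₜ[B] g) e = φ e ⊗ₜ[B] g by simp [L], hFG, TensorProduct.sub_tmul, map_sub]
    abel
  | add p q hp hq => simp only [map_add] at hp hq ⊢; rw [hp, hq]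


end Groth.Agent.S16666
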