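import Groth.Statements.S16667
import Groth.Agent.Alg6.AssDepth
import Mathlib.RingTheory.Localization.FractionRing

set_option autoImplicit false
universe u
open CAlg

namespace Groth.Agent.S16667


/-- Let A be a Noetherian integral domain satisfying Serre's condition (S_2), with fraction field K. An
element of K which lies in the localization A_p for every prime p of A with depth(A_p) = 1 lies in
A. -/
theorem result {A : Type u} [CommRing A] [IsDomain A]
    [IsNoetherianRing A] (hS2 : LocCoh.HasSk 2 A A) (x : FractionRing A)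
    (hx : ∀ (p : Ideal A) [p.IsPrime],
      LocCoh.depth (Localization.AtPrime p) (Localization.AtPrime p) = 1 →
        x ∈ Set.range (algebraMap (Localization.AtPrime p) (FractionRing A))) :
    x ∈ Set.range (algebraMap A (FractionRing A)) := by
  obtain ⟨a, ⟨b, hb⟩, rfl⟩ := IsLocalization.exists_mk'_eq (nonZeroDivisors A) x
  have hb0 : b ≠ 0 := nonZeroDivisors.ne_zero hb
  by_contra hx'
  let z : QuotSMulTop b A := Submodule.Quotient.mk a
  have hz : z ≠ 0 := fun h => by
    obtain ⟨w, hw⟩ := Groth.Agent.Alg6.mem_pointwise_smul_top_iff.1 h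
    refine hx' ⟨w, (IsLocalization.mk'_eq_iff_eq_mul.2 ?_).symm⟩
    rw [← map_mul]
    exact congrArg _ (by rw [← hw, smul_eq_mul, mul_comm])
  obtain ⟨p, hp, hle⟩ := exists_le_isAssociatedPrime_of_isNoetherianRing A z hz
  haveI := hp.isPrime
  have hbp : b ∈ p := hle (by
    rw [Submodule.mem_colon_singleton, Submodule.mem_bot]
    exact Groth.Agent.Alg6.mem_pointwise_smul_top_iff.2 ⟨a, rfl⟩)
  have hreg : IsSMulRegular A b := fun u v h => mul_left_cancel₀ hb0 h
  have hdepth : LocCoh.depth (Localization.AtPrime p) (LocalizedModule p.primeCompl A) = 1 := by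
    refine le_antisymm ?_ ((Groth.Agent.Alg6.one_le_depth_atPrime_iff p).2 fun h => ?_)
    · by_contra hlt
      exact (Groth.Agent.Alg6.two_le_depth_atPrime_iff p hbp hreg).1 (by
        have := Order.add_one_le_of_lt (not_le.1 hlt)
        rwa [one_add_one_eq_two] at this) hp
    · obtain ⟨-, w, hw⟩ := Groth.Agent.Alg6.mem_ass_iff.1 h
      have := (hw b).1 hbp
      rw [smul_eq_mul, mul_eq_zero] at this
      exact ‹p.IsPrime›.ne_top ((Ideal.eq_top_iff_one p).2 ((hw 1).2 (by rw [this.resolve_left hb0, smul_zero])))
  have hdepth' : LocCoh.depth (Localization.AtPrime p) (Localization.AtPrime p) = 1 := by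
    exact hdepth
  obtain ⟨y, hy⟩ := hx p hdepth'
  obtain ⟨c, s, rfl⟩ := IsLocalization.exists_mk'_eq p.primeCompl y
  have h1 : (s : A) * a = b * c := by
    apply IsFractionRing.injective A (FractionRing A)
    rw [map_mul, map_mul, ← IsLocalization.mk'_spec' (FractionRing A) a ⟨b, hb⟩, ← hy,
      ← IsLocalization.mk'_spec' (Localization.AtPrime p) c s |> congrArg (algebraMap (Localization.AtPrime p) (FractionRing A)) |> fun h => h.trans (IsScalarTower.algebraMap_apply A (Localization.AtPrime p) (FractionRing A) c).symm,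
      map_mul, ← IsScalarTower.algebraMap_apply]
    ring
  refine s.2 (hle ?_)
  rw [Submodule.mem_colon_singleton, Submodule.mem_bot]
  exact Groth.Agent.Alg6.mem_pointwise_smul_top_iff.2 ⟨c, h1.symm⟩

end Groth.Agent.S16667
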