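import Groth.Statements.S1667
import Groth.Agent.VAmpleX.Eventually
import Groth.Agent.DimOneAmple.Exists
import Groth.Agent.SeesawX.PnSpec

set_option autoImplicit false
universe u
open CategoryTheory CategoryTheory.Limits AlgebraicGeometry
open Variety

namespace Groth.Agent.S1667

/-- A separated scheme of finite type over k of dimension at most one is H-quasi-projective: it admits
an immersion into some P^n_k over k. -/
theorem result (k : Type u) [Field k] (X : Scheme.{u}) [X.Over (Spec (CommRingCat.of k))] [IsSeparated (X ↘ (Spec (CommRingCat.of k)))] [LocallyOfFiniteType (X ↘ (Spec (CommRingCat.of k)))] [QuasiCompact (X ↘ (Spec (CommRingCat.of k)))] (hdim : topologicalKrullDim X ≤ 1) :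
    ∃ (n : ℕ) (i : X ⟶ CohB1.ProjSpace n k), IsImmersion i ∧ i ≫ CohB1.ProjSpace.toSpec n k = X ↘ (Spec (CommRingCat.of k)) := by
  haveI : IsLocallyNoetherian X := LocallyOfFiniteType.isLocallyNoetherian (X ↘ Spec (CommRingCat.of k))
  haveI : CompactSpace X := QuasiCompact.compactSpace_of_compactSpace (X ↘ Spec (CommRingCat.of k))
  haveI : IsNoetherian X := {}
  haveI : X.IsSeparated := ⟨by
    rw [show CategoryTheory.Limits.terminal.from X = (X ↘ Spec (CommRingCat.of k)) ≫ CategoryTheory.Limits.terminal.from _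
      from CategoryTheory.Limits.terminal.hom_ext _ _]
    infer_instance⟩
  obtain ⟨L, hL⟩ := Groth.Agent.DimOneAmple.exists_isAmple (X := X) hdim
  obtain ⟨n₀, h⟩ := Groth.Agent.VAmpleX.eventually_veryAmple (X ↘ Spec (CommRingCat.of k)) hL hL.1
  obtain ⟨n, i, hi, hc, -⟩ := h n₀ le_rfl
  obtain ⟨a, ha, -⟩ := Groth.Agent.SeesawX.PnSpec.exists_iso n k
  haveI := hi
  refine ⟨n, i ≫ a.hom, inferInstance, ?_⟩
  rw [Category.assoc, ha]
  exact hc


end Groth.Agent.S1667
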