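import Groth.Statements.S16673
import Groth.Agent.AVTors.IsogPts
-- import your own Groth.Agent.* helpers here

set_option autoImplicit false
universe u
open CategoryTheory CategoryTheory.Limits MonoidalCategory CartesianMonoidalCategory MonObj GrpObj AlgebraicGeometry
open AbVar

namespace Groth.Agent.S16673

set_option linter.style.haveILetI false
set_option backward.isDefEq.respectTransparency false
set_option backward.isDefEq.respectTransparency.types false
set_option maxHeartbeats 1000000

/-- Let k be a field of characteristic p > 0 with an algebraic closure k̄, let X and Y be abelian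
varieties over k (proper, geometrically integral, commutative k-group schemes) and let h : X → Y be
a homomorphism which is finite and surjective (an isogeny). If i and j are natural numbers such that
for every m ≥ 0 the group X[p^m](k̄) of k̄-valued points of X killed by p^m (k̄-valued points being
the k-morphisms Spec k̄ → X, a group under the group law of X) is isomorphic to (ℤ/p^m)^i and the
group Y[p^m](k̄) is isomorphic to (ℤ/p^m)^j (groups of points written multiplicatively), then i = j:
the p-rank is an isogeny invariant. -/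
theorem result (k : Type u) [Field k] (p : ℕ) [Fact p.Prime] [CharP k p]
    (X Y : Over (Spec (CommRingCat.of k)))
    [GrpObj X] [IsCommMonObj X] [IsProper X.hom] [GeometricallyIntegral X.hom]
    [GrpObj Y] [IsCommMonObj Y] [IsProper Y.hom] [GeometricallyIntegral Y.hom]
    (h : X ⟶ Y) [IsMonHom h] [IsFinite h.left] [Surjective h.left]
    (i j : ℕ)
    (hi : ∀ m : ℕ, Nonempty (AbDual.torsPts X (p ^ m)
      (Over.mk (Spec.map (CommRingCat.ofHom (algebraMap k (AlgebraicClosure k))))) ≃*
      Multiplicative (Fin i → ZMod (p ^ m))))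
    (hj : ∀ m : ℕ, Nonempty (AbDual.torsPts Y (p ^ m)
      (Over.mk (Spec.map (CommRingCat.ofHom (algebraMap k (AlgebraicClosure k))))) ≃*
      Multiplicative (Fin j → ZMod (p ^ m)))) :
    i = j := by
  let Ω := AlgebraicClosure k
  let T : Over (Spec (CommRingCat.of k)) := SGA7.pt Ω
  have hp : p.Prime := Fact.out
  obtain ⟨a, u, hcard, hu⟩ := AVTors.exists_factor_card (Ω := Ω) h p hp
  haveI hfin : Finite (AVTors.kerPts h Ω) := AVTors.finite_kerPts h
  let d := Nat.card (AVTors.kerPts h Ω)
  have cX : ∀ m, Nat.card (AbDual.torsPts X (p ^ m) T) = (p ^ m) ^ i ∧ Finite (AbDual.torsPts X (p ^ m) T) := fun m => by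
    obtain ⟨e⟩ := hi m
    haveI : NeZero (p ^ m) := ⟨pow_ne_zero _ hp.ne_zero⟩
    exact ⟨(Nat.card_congr e.toEquiv).trans (by simp [Nat.card_pi]), Finite.of_equiv _ e.symm.toEquiv⟩
  have cY : ∀ m, Nat.card (AbDual.torsPts Y (p ^ m) T) = (p ^ m) ^ j ∧ Finite (AbDual.torsPts Y (p ^ m) T) := fun m => by
    obtain ⟨e⟩ := hj m
    haveI : NeZero (p ^ m) := ⟨pow_ne_zero _ hp.ne_zero⟩
    exact ⟨(Nat.card_congr e.toEquiv).trans (by simp [Nat.card_pi]), Finite.of_equiv _ e.symm.toEquiv⟩
  have h1 : ∀ m, (p ^ m) ^ i ≤ d * (p ^ m) ^ j := fun m => by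
    rw [← (cX m).1, ← (cY m).1]
    haveI := (cX m).2
    haveI := (cY m).2
    let c : AbDual.torsPts X (p ^ m) T → AbDual.torsPts Y (p ^ m) T := fun x => ⟨x.1 ≫ h, by
      show (x.1 ≫ h) ^ (p ^ m) = 1
      rw [← MonObj.pow_comp, show x.1 ^ (p ^ m) = 1 from x.2, MonObj.one_comp]⟩
    haveI := Fintype.ofFinite (AbDual.torsPts Y (p ^ m) T)
    rw [← Nat.card_congr (Equiv.sigmaFiberEquiv c), Nat.card_sigma, mul_comm]
    refine (Finset.sum_le_card_nsmul _ _ d fun y _ => ?_).trans (by simp [Nat.card_eq_fintype_card])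
    by_cases hy : IsEmpty {x // c x = y}
    · rw [Nat.card_eq_zero.2 (Or.inl hy)]; exact Nat.zero_le _
    obtain ⟨x0, hx0⟩ := (not_isEmpty_iff.1 hy).some
    refine Nat.card_le_card_of_injective (fun x : {x // c x = y} => (⟨x.1.1 * x0.1⁻¹, by
      show (x.1.1 * x0.1⁻¹) ≫ h = 1
      rw [MonObj.mul_comp, GrpObj.inv_comp, show x.1.1 ≫ h = x0.1 ≫ h from congrArg Subtype.val (x.2.trans hx0.symm),
        mul_inv_cancel]⟩ : AVTors.kerPts h Ω)) fun x x' e => ?_
    exact Subtype.ext (Subtype.ext (mul_right_cancel (congrArg Subtype.val e)))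
  have h2 : ∀ m, (p ^ m) ^ j ≤ (p ^ (m + a)) ^ i := fun m => by
    rw [← (cY m).1, ← (cX (m + a)).1]
    haveI := (cX (m + a)).2
    choose x hx hxt using fun y : AbDual.torsPts Y (p ^ m) T =>
      AVTors.exists_lift_torsion (Ω := Ω) h p hcard hu m y.1 y.2
    refine Nat.card_le_card_of_injective (fun y => (⟨x y, hxt y⟩ : AbDual.torsPts X (p ^ (m + a)) T)) fun y y' e => ?_
    exact Subtype.ext (by rw [← hx y, ← hx y']; exact congrArg (· ≫ h) (congrArg Subtype.val e))
  apply le_antisymm
  · by_contra hlt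
    push Not at hlt
    obtain ⟨m, hm⟩ := pow_unbounded_of_one_lt d hp.one_lt
    have hb : 0 < p ^ m := pow_pos hp.pos m
    have h3 : d * (p ^ m) ^ j < (p ^ m) ^ (j + 1) := by
      rw [pow_succ, mul_comm d]
      exact Nat.mul_lt_mul_of_pos_left hm (pow_pos hb _)
    exact absurd ((Nat.pow_le_pow_right hb hlt).trans (h1 m)) (not_le.2 h3)
  · by_contra hlt
    push Not at hlt
    have h3 := h2 (a * i + 1)
    rw [← pow_mul, ← pow_mul] at h3
    have h4 := (Nat.pow_le_pow_iff_right hp.one_lt).1 h3
    have h5 : (a * i + 1) * (i + 1) ≤ (a * i + 1) * j := Nat.mul_le_mul_left _ hlt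
    nlinarith

end Groth.Agent.S16673
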