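import Groth.Statements.S16674
import Groth.Agent.GrpSchLib.OrderEtale


set_option autoImplicit false
universe u
open CartDual

namespace Groth.Agent.S16674

open TensorProduct WithConv


/-- Let k be a field of characteristic p > 0 and A a finite-dimensional commutative and cocommutative
Hopf algebra over k, the coordinate ring of a finite commutative k-group scheme G, with Cartier dual
the convolution Hopf algebra Hom_k(A, k). Then G is étale-étale, i.e. both A and its dual are étale
k-algebras, if and only if p does not divide the rank dim_k A of G. -/
theorem result (k : Type u) [Field k] (p : ℕ) [Fact p.Prime] [CharP k p]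
    (A : Type u) [CommRing A] [HopfAlgebra k A] [Coalgebra.IsCocomm k A] [FiniteDimensional k A] :
    (Algebra.Etale k A ∧ Algebra.Etale k (CartDual.D k A)) ↔ ¬ p ∣ Module.finrank k A := by
  rw [← CharP.cast_eq_zero_iff k p]
  refine ⟨fun ⟨h1, h2⟩ hn => ?_, fun hn => ⟨?_, ?_⟩⟩
  · have hinj := ((Groth.Agent.TraceEtale.etale_iff_bijective_traceForm k A).1 h1).1
    let τ : CartDual.D k A := toConv (Algebra.trace k A)
    have hsq : τ * τ = 0 := by
      ext a
      obtain ⟨hinv, hE, -⟩ := Groth.Agent.GrpSchLib.OrderEtale.comul_trace (k := k) (A := A)
      have key : ∀ z : A ⊗[k] A, LinearMap.mul' k k (TensorProduct.map τ.ofConv τ.ofConv z) =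
          Algebra.trace k A (Algebra.trace A (A ⊗[k] A) z) := by
        intro z
        induction z using TensorProduct.induction_on with
        | zero => simp
        | tmul x y => rw [hE, map_smul]; simp [τ, mul_comm]
        | add x y hx hy => simp only [map_add, hx, hy]
      rw [LinearMap.convMul_apply, key, ← Bialgebra.comulAlgHom_apply, hinv, Algebra.trace_algebraMap]
      simp [hn]
    have hτ : τ = 0 := by
      haveI : IsReduced (CartDual.D k A) := Algebra.FormallyUnramified.isReduced_of_field k _
      exact eq_zero_of_pow_eq_zero (n := 2) (by rw [pow_two, hsq])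
    have h10 : (1 : A) = 0 := hinj (LinearMap.ext fun a => by
      simpa [τ, Algebra.traceForm_apply] using LinearMap.congr_fun (congrArg ofConv hτ) a)
    exact (one_ne_zero : (1 : k) ≠ 0) (by simpa using congrArg (Bialgebra.counitAlgHom k A) h10)
  · exact Groth.Agent.GrpSchLib.OrderEtale.etale_hopf hn
  · have hr : Module.finrank k (CartDual.D k A) = Module.finrank k A :=
      (CartDual.toDual k A).finrank_eq.trans Subspace.dual_finrank_eq
    exact Groth.Agent.GrpSchLib.OrderEtale.etale_hopf (A := CartDual.D k A) (by rw [hr]; exact hn)

end Groth.Agent.S16674
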