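import Groth.Statements.S16675
import Groth.Agent.H23.KerIsog
-- import your own Groth.Agent.* helpers here

set_option autoImplicit false
universe u
open CategoryTheory CategoryTheory.Limits MonoidalCategory CartesianMonoidalCategory MonObj GrpObj AlgebraicGeometry
open AbVar

namespace Groth.Agent.S16675

/-- The equivalence of its second and third conditions. Let X and Y be abelian varieties over a field k
(proper, geometrically integral k-group schemes), f : X → Y a homomorphism which is finite, flat and
surjective (an isogeny), and i : N → X the kernel of f (the square formed by i, f, the unit section
of Y and the structure map of N is cartesian). Then f is étale if and only if the structure morphism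
N → Spec k is étale. (The published item also includes the equivalent condition that the function
field of X is separable over that of Y; that clause is not part of this statement.) -/
theorem result (k : Type u) [Field k]
    (X Y : Over (Spec (CommRingCat.of k)))
    [GrpObj X] [IsProper X.hom] [GeometricallyIntegral X.hom]
    [GrpObj Y] [IsProper Y.hom] [GeometricallyIntegral Y.hom]
    (f : X ⟶ Y) [IsMonHom f] [IsFinite f.left] [Flat f.left] [Surjective f.left]
    (N : Over (Spec (CommRingCat.of k))) (i : N ⟶ X) (hN : AlgGrp.IsKernel i f) :
    Etale f.left ↔ Etale N.hom := by
  exact ⟨fun h => Groth.Agent.H23.KerIsog.prop_ker i f @Etale hN h,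
    fun h => Groth.Agent.H23.KerIsog.prop_of_ker i f @Etale hN h⟩

end Groth.Agent.S16675
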