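import Groth.Statements.S16677
import Groth.Agent.AVTors.InfTors
import Groth.Agent.AVTors.TatePt
-- import your own Groth.Agent.* helpers here

set_option autoImplicit false
universe u
open CategoryTheory CategoryTheory.Limits MonoidalCategory CartesianMonoidalCategory MonObj GrpObj AlgebraicGeometry
open AbVar

namespace Groth.Agent.S16677

set_option linter.style.haveILetI false
set_option backward.isDefEq.respectTransparency false
set_option backward.isDefEq.respectTransparency.types false
set_option maxHeartbeats 1000000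

/-- Let X be an abelian variety over a field k (a proper, geometrically integral k-group scheme) and p a
prime number, not necessarily different from the characteristic of k. For m ≥ 1 let X[p^m] → X be
the kernel of multiplication by p^m (the p^m-th power of the identity in the group of endomorphisms
of X), realised as the fibre product of the unit section with that endomorphism. Then the family of
closed subgroup schemes X[p^m], m ≥ 1, is scheme-theoretically dense in X: if c : Z → X is a closed
immersion through which every inclusion X[p^m] → X factors, then c is an isomorphism. -/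
theorem result (k : Type u) [Field k]
    (X : Over (Spec (CommRingCat.of k))) [GrpObj X] [IsProper X.hom] [GeometricallyIntegral X.hom]
    (p : ℕ) (hp : p.Prime) (Z : Scheme.{u}) (c : Z ⟶ X.left) [IsClosedImmersion c]
    (hc : ∀ m : ℕ, 0 < m →
      ∃ t : pullback η[X].left ((𝟙 X ^ (p ^ m)).left) ⟶ Z,
        t ≫ c = pullback.snd η[X].left ((𝟙 X ^ (p ^ m)).left)) :
    IsIso c := by
  haveI := H23.MaxAbelian.isIntegral_of_geometricallyIntegral (X := X)
  haveI : IsCommMonObj X := isCommMonObj_of_isProper_of_geometricallyIntegral X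
  haveI : AlgebraicGeometry.IsReduced X.left := inferInstance
  suffices hS : Set.range c = Set.univ by
    haveI : Surjective c := ⟨Set.range_eq_univ.1 hS⟩
    exact isIso_of_isClosedImmersion_of_surjective c
  have hcl : IsClosed (Set.range c) := c.isClosedEmbedding.isClosed_range
  by_cases hpk : (p : k) = 0
  · haveI : CharP k p := CharP.charP_iff_prime_eq_zero hp |>.2 hpk
    open Groth.Agent.H23.MulTangent in
    obtain ⟨B, _, _, j, _, hj, χ, hχ⟩ := exists_chart (X := X) η
    have hone : H23.MulTangent.pt j hj χ = 1 := hχ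
    haveI : Nonempty (Spec (CommRingCat.of B)) := ⟨⟨RingHom.ker χ, RingHom.ker_isPrime χ⟩⟩
    haveI : AlgebraicGeometry.IsIntegral (Spec (CommRingCat.of B)) := isIntegral_of_isOpenImmersion j
    haveI : IsDomain B := (affine_isIntegral_iff (CommRingCat.of B)).1 inferInstance
    haveI : IsNoetherianRing B := by
      have h : LocallyOfFiniteType (Spec.map (CommRingCat.ofHom (algebraMap k B))) := by rw [← hj]; infer_instance
      rw [HasRingHomProperty.Spec_iff (P := @LocallyOfFiniteType), CommRingCat.hom_ofHom,
        RingHom.finiteType_algebraMap] at h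
      exact Algebra.FiniteType.isNoetherianRing k B
    have hsub := AVTors.range_chart_subset j hj hone p hp.one_le c hc
    refine Set.eq_univ_of_univ_subset ?_
    exact (IsOpen.dense j.isOpenEmbedding.isOpen_range (Set.range_nonempty j)).closure_eq ▸ hcl.closure_subset_iff.2 hsub
  · haveI : Fact p.Prime := ⟨hp⟩
    let Ω := AlgebraicClosure k
    let F := Over.pullback (AVTors.vΩ (k := k) Ω)
    haveI : IsProper (F.obj X).hom := inferInstanceAs (IsProper (pullback.snd X.hom (AVTors.vΩ Ω)))
    haveI : GeometricallyIntegral (F.obj X).hom :=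
      inferInstanceAs (GeometricallyIntegral (pullback.snd X.hom (AVTors.vΩ Ω)))
    letI : GrpObj (F.obj X) := Functor.grpObjObj
    have hpΩ : (p : Ω) ≠ 0 := fun h => hpk ((algebraMap k Ω).injective (by rwa [map_natCast, map_zero]))
    have hd := AVTors.dense_lPow (F.obj X) p hpΩ
    let q := pullback.fst X.hom (AVTors.vΩ (k := k) Ω)
    refine Set.eq_univ_of_univ_subset fun x _ => ?_
    obtain ⟨y, rfl⟩ := (q : _ ⟶ X.left).surjective x
    have hy : y ∈ closure ((fun a : AVTors.pt0 Ω ⟶ F.obj X => a.left (IsLocalRing.closedPoint Ω)) ''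
        (AVTors.lPow (F.obj X) p : Set (AVTors.pt0 Ω ⟶ F.obj X))) := hd ▸ Set.mem_univ y
    refine hcl.closure_subset_iff.2 ?_ (map_mem_closure q.continuous hy (Set.mapsTo_image q _))
    rintro _ ⟨_, ⟨b, hb, rfl⟩, rfl⟩
    obtain ⟨n, hn⟩ := hb
    obtain ⟨a, rfl⟩ := (AVTors.bcPts (AVTors.vΩ Ω) (AVTors.pt0 Ω) X).surjective b
    rw [← map_pow] at hn
    have ha : a ^ (p ^ n) = 1 := (AVTors.bcPts (AVTors.vΩ Ω) (AVTors.pt0 Ω) X).injective (hn.trans (map_one _).symm)
    have ha' : a ≫ (𝟙 X ^ (p ^ (n + 1))) = 1 := by
      rw [MonObj.comp_pow, Category.comp_id, pow_succ, pow_mul, ha, one_pow]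
    obtain ⟨t, ht⟩ := hc (n + 1) n.succ_pos
    let l := pullback.lift (toUnit _ : (Over.map (AVTors.vΩ (k := k) Ω)).obj (AVTors.pt0 Ω) ⟶ 𝟙_ _).left a.left
      (show _ = _ from (congrArg Over.Hom.left ha').symm)
    have hfac : l ≫ t ≫ c = a.left := by rw [ht]; exact pullback.lift_snd _ _ _
    have hbl : ((AVTors.bcPts (AVTors.vΩ Ω) (AVTors.pt0 Ω) X) a).left ≫ q = a.left := by
      show ((Over.mapPullbackAdj (AVTors.vΩ Ω)).homEquiv _ _ a).left ≫ q = a.left
      rw [Adjunction.homEquiv_unit, Over.comp_left, Category.assoc]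
      simp [q]
      exact Category.id_comp _
    refine ⟨t (l (IsLocalRing.closedPoint Ω)), ?_⟩
    rw [← Scheme.Hom.comp_apply, ← Scheme.Hom.comp_apply]
    show _ = q (_root_.id _)
    show (l ≫ t ≫ c) _ = q (((AVTors.bcPts (AVTors.vΩ Ω) (AVTors.pt0 Ω) X) a).left (IsLocalRing.closedPoint Ω))
    exact (congrArg (fun f => f (IsLocalRing.closedPoint Ω)) hfac).trans
      (congrArg (fun f => f (IsLocalRing.closedPoint Ω)) hbl).symm

end Groth.Agent.S16677
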