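import Groth.Statements.S16678
import Groth.Agent.CompScheme.Sch
import Groth.Agent.SecComp5.Fibre
import Groth.Agent.S0658
import Mathlib

set_option backward.isDefEq.respectTransparency false
set_option backward.isDefEq.respectTransparency.types false
set_option linter.style.haveILetI false
set_option maxHeartbeats 1600000

set_option autoImplicit false
universe u
open CategoryTheory CategoryTheory.Limits AlgebraicGeometry
open Variety

namespace Groth.Agent.S16678

/-- For a field k and a k-scheme X locally of finite type there are an étale k-scheme P and a k-morphism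
q : X → P such that every k-morphism h : X → Y to an étale k-scheme Y equals t ∘ q for exactly one
k-morphism t : P → Y; moreover q is flat and surjective, and for each point x of X the fibre
q⁻¹(q(x)), as a subset of X, is the connected component of x. (Étale means locally of finite
presentation with étale ring maps on affine pieces; no quasi-compactness is asked, so P may have
infinitely many points.) -/
theorem result (k : Type u) [Field k]
    (X : Scheme.{u}) (f : X ⟶ Spec (CommRingCat.of k)) [LocallyOfFiniteType f] :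
    ∃ (P : Scheme.{u}) (g : P ⟶ Spec (CommRingCat.of k)) (q : X ⟶ P), Etale g ∧ q ≫ g = f ∧
      (∀ (Y : Scheme.{u}) (gY : Y ⟶ Spec (CommRingCat.of k)) (h : X ⟶ Y), Etale gY → h ≫ gY = f →
        ∃! t : P ⟶ Y, t ≫ gY = g ∧ q ≫ t = h) ∧
      Flat q ∧ Surjective q ∧
      ∀ x : ↥X, (fun x' : ↥X => q x') ⁻¹' {q x} = connectedComponent x := by
  classical
  haveI : IsLocallyNoetherian X := LocallyOfFiniteType.isLocallyNoetherian f
  haveI := Groth.Agent.SecComp5.locallyConnectedSpace X
  let ι : Type u := _root_.ConnectedComponents ↥X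
  let mk : X → ι := _root_.ConnectedComponents.mk
  have hfib : ∀ (i : ι) (x : X), mk x = i → mk ⁻¹' {i} = connectedComponent x :=
    fun i x h => h ▸ connectedComponents_preimage_singleton
  let C : ι → X.Opens := fun i => ⟨mk ⁻¹' {i}, by
    obtain ⟨x, hx⟩ := _root_.ConnectedComponents.surjective_coe i
    rw [hfib i x hx]
    exact isOpen_connectedComponent⟩
  haveI hconn : ∀ i, PreconnectedSpace (C i : Scheme.{u}) := fun i => by
    obtain ⟨x, hx⟩ := _root_.ConnectedComponents.surjective_coe i
    refine Subtype.preconnectedSpace (s := mk ⁻¹' {i}) ?_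
    rw [hfib i x hx]
    exact isPreconnected_connectedComponent
  have hne : ∀ i, ((C i : X.Opens) : Set X).Nonempty := fun i => by
    obtain ⟨x, hx⟩ := _root_.ConnectedComponents.surjective_coe i
    exact ⟨x, hx⟩
  letI : ∀ i, Algebra k Γ(X, C i) := fun i => CompScheme.algC f (C i)
  choose L hL hLmax using fun i => CompScheme.exists_piece f (C i) (hne i)
  letI : ∀ i, Field (L i) := fun i => (hL i).1.toField
  haveI : ∀ i, FiniteDimensional k (L i) := fun i => (hL i).2.1
  haveI : ∀ i, Algebra.IsSeparable k (L i) := fun i => (hL i).2.2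
  let PF : ι → Scheme.{u} := fun i => Spec (CommRingCat.of (L i))
  let P : Scheme.{u} := ∐ PF
  let g : P ⟶ Spec (CommRingCat.of k) := Sigma.desc fun i => Spec.map (CommRingCat.ofHom (algebraMap k (L i)))
  have hg : Etale g := (S0658.result k P g).2 ⟨ι, fun i => L i, inferInstance, inferInstance, inferInstance, inferInstance,
    Iso.refl _, fun i => by
      rw [Iso.refl_hom, Category.id_comp]
      exact Sigma.ι_desc _ _⟩
  let qc : ∀ i, (C i : Scheme.{u}) ⟶ PF i := fun i => (C i).toSpecΓ ≫ Spec.map (CommRingCat.ofHom (L i).val.toRingHom)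
  have hqc : ∀ i, qc i ≫ Spec.map (CommRingCat.ofHom (algebraMap k (L i))) = (C i).ι ≫ f := fun i => by
    rw [CompScheme.eq_toSpecΓ_gam (C i) ((C i).ι ≫ f), Category.assoc, ← Spec.map_comp]
    rfl
  have hCcov : TopologicalSpace.IsOpenCover C := TopologicalSpace.IsOpenCover.mk (top_le_iff.1 fun x _ =>
    TopologicalSpace.Opens.mem_iSup.2 ⟨mk x, show x ∈ C (mk x) from rfl⟩)
  let 𝒰 : X.OpenCover := Scheme.openCoverOfIsOpenCover X C hCcov
  let qm : ∀ i, (C i : Scheme.{u}) ⟶ P := fun i => qc i ≫ Sigma.ι PF i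
  have hcompat : ∀ i j : ι, pullback.fst (C i).ι (C j).ι ≫ qm i = pullback.snd (C i).ι (C j).ι ≫ qm j := by
    intro i j
    by_cases hij : i = j
    · subst hij
      rw [show pullback.fst (C i).ι (C i).ι = pullback.snd (C i).ι (C i).ι from
        (cancel_mono (C i).ι).1 pullback.condition]
    · haveI : IsEmpty ↥(pullback (C i).ι (C j).ι) := ⟨fun z => hij (by
        have h1 := (pullback.fst (C i).ι (C j).ι z).2
        have h2 := (pullback.snd (C i).ι (C j).ι z).2
        have h3 : (C i).ι (pullback.fst (C i).ι (C j).ι z) = (C j).ι (pullback.snd (C i).ι (C j).ι z) := by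
          rw [← Scheme.Hom.comp_apply, pullback.condition, Scheme.Hom.comp_apply]
        exact (show _ = i from h1).symm.trans ((congrArg mk h3).trans (show _ = j from h2)))⟩
      exact isInitialOfIsEmpty.hom_ext _ _
  let q : X ⟶ P := 𝒰.glueMorphisms qm hcompat
  have hq : ∀ i, (C i).ι ≫ q = qm i := fun i => 𝒰.ι_glueMorphisms qm hcompat i
  have hqap : ∀ (i : ι) (c : (C i : Scheme.{u})), q ((C i).ι c) = Sigma.ι PF i default := fun i c => by
    rw [← Scheme.Hom.comp_apply, hq, Scheme.Hom.comp_apply]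
    exact congrArg (Sigma.ι PF i) (Subsingleton.elim (α := PrimeSpectrum (L i)) _ _)
  have hqx : ∀ x : X, q x = Sigma.ι PF (mk x) default := fun x => hqap (mk x) ⟨x, rfl⟩
  have hqg : q ≫ g = f := Scheme.Cover.hom_ext 𝒰 _ _ fun i => by
    show (C i).ι ≫ q ≫ g = (C i).ι ≫ f
    rw [reassoc_of% (hq i), Category.assoc, Sigma.ι_desc]
    exact hqc i
  refine ⟨P, g, q, hg, hqg, ?_, ?_, ?_, ?_⟩
  · intro Y gY h hY hh
    obtain ⟨κ, K, _, _, _, _, e, he⟩ := (S0658.result k Y gY).1 hY
    let KF : κ → Scheme.{u} := fun a => Spec (CommRingCat.of (K a))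
    have hsplit : ∀ z : ↥(∐ KF), ∃ (a : κ) (w : KF a), Sigma.ι KF a w = z := fun z => by
      obtain ⟨⟨a, w⟩, rfl⟩ := (sigmaMk KF).surjective z
      exact ⟨a, w, (sigmaMk_mk KF a w).symm⟩
    have hinj : ∀ (a b : κ) (v : KF a) (w : KF b), Sigma.ι KF a v = Sigma.ι KF b w → a = b := fun a b v w h' =>
      congrArg Sigma.fst ((sigmaι_eq_iff KF a b v w).1 h')
    -- a connected piece maps to a single point
    have hpiece : ∀ i, ∃ (a : κ) (ψ : K a →ₐ[k] L i),
        qc i ≫ Spec.map (CommRingCat.ofHom ψ.toRingHom) ≫ Sigma.ι KF a ≫ e.hom = (C i).ι ≫ h := fun i => by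
      let m : (C i : Scheme.{u}) ⟶ ∐ KF := (C i).ι ≫ h ≫ e.inv
      choose idx w hidx using fun c : (C i : Scheme.{u}) => hsplit (m c)
      have hloc : IsLocallyConstant idx := IsLocallyConstant.iff_isOpen_fiber.2 fun a => by
        have : idx ⁻¹' {a} = (fun c => m c) ⁻¹' ((Sigma.ι KF a).opensRange : Set _) := by
          ext c
          constructor
          · rintro rfl
            exact ⟨w c, hidx c⟩
          · rintro ⟨v, hv⟩
            exact hinj _ _ _ _ ((hidx c).trans hv.symm)
        rw [this]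
        exact (Sigma.ι KF a).opensRange.2.preimage m.continuous
      obtain ⟨x₀, hx₀⟩ := hne i
      let a := idx ⟨x₀, hx₀⟩
      have hrange : Set.range m ⊆ Set.range (Sigma.ι KF a) := by
        rintro _ ⟨c, rfl⟩
        have ha : idx c = a := hloc.apply_eq_of_preconnectedSpace c ⟨x₀, hx₀⟩
        rw [← hidx c]
        revert ha
        generalize w c = v
        revert v
        generalize idx c = b
        rintro v rfl
        exact ⟨v, rfl⟩
      let ℓ : (C i : Scheme.{u}) ⟶ KF a := IsOpenImmersion.lift (Sigma.ι KF a) m hrange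
      have hℓ : ℓ ≫ Sigma.ι KF a = m := IsOpenImmersion.lift_fac _ _ _
      have hcomp : CommRingCat.ofHom (algebraMap k (K a)) ≫ CompScheme.gam (C i) ℓ =
          CommRingCat.ofHom (algebraMap k Γ(X, C i)) := by
        refine RelVA16.toSpecΓ_SpecMap_inj _ _ ?_
        rw [Spec.map_comp, ← Category.assoc, ← CompScheme.eq_toSpecΓ_gam, ← he a, reassoc_of% hℓ]
        simp only [m, Category.assoc, Iso.inv_hom_id_assoc, hh]
        exact CompScheme.eq_toSpecΓ_gam (C i) ((C i).ι ≫ f)
      let φ : K a →ₐ[k] Γ(X, C i) :=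
        { (CompScheme.gam (C i) ℓ).hom with commutes' := fun c => congr($hcomp c) }
      haveI : Nontrivial Γ(X, C i) :=
        nontrivial_of_ne 0 1 fun h1 => one_ne_zero (α := L i) (Subtype.ext h1.symm)
      have hφi : Function.Injective φ := φ.toRingHom.injective
      let eφ : K a ≃ₐ[k] φ.range := AlgEquiv.ofInjective φ hφi
      have hrg : CompScheme.IsSepField φ.range :=
        ⟨MulEquiv.isField (Field.toIsField (K a)) eφ.symm.toMulEquiv, Module.Finite.equiv eφ.toLinearEquiv,
          AlgEquiv.Algebra.isSeparable eφ⟩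
      let ψ : K a →ₐ[k] L i := (Subalgebra.inclusion (hLmax i _ hrg)).comp φ.rangeRestrict
      refine ⟨a, ψ, ?_⟩
      simp only [qc, Category.assoc]
      rw [← Spec.map_comp_assoc,
        show CommRingCat.ofHom ψ.toRingHom ≫ CommRingCat.ofHom (L i).val.toRingHom = CompScheme.gam (C i) ℓ from rfl,
        ← Category.assoc, ← CompScheme.eq_toSpecΓ_gam, reassoc_of% hℓ]
      simp only [m, Category.assoc, Iso.inv_hom_id, Category.comp_id]
    choose a ψ hψ using hpiece
    let t : P ⟶ Y := Sigma.desc fun i => Spec.map (CommRingCat.ofHom (ψ i).toRingHom) ≫ Sigma.ι KF (a i) ≫ e.hom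
    refine ⟨t, ⟨Limits.Sigma.hom_ext _ _ fun i => ?_, Scheme.Cover.hom_ext 𝒰 _ _ fun i => ?_⟩, fun t' ht' => ?_⟩
    · show Sigma.ι PF i ≫ t ≫ gY = Sigma.ι PF i ≫ g
      rw [Sigma.ι_desc_assoc, Category.assoc, Category.assoc, he (a i), ← Spec.map_comp, Sigma.ι_desc]
      congr 1
      exact CommRingCat.hom_ext (RingHom.ext fun c => (ψ i).commutes c)
    · show (C i).ι ≫ q ≫ t = (C i).ι ≫ h
      rw [reassoc_of% (hq i), Category.assoc, Sigma.ι_desc]
      exact hψ i
    · refine Limits.Sigma.hom_ext _ _ fun i => ?_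
      rw [Sigma.ι_desc]
      let u : PF i ⟶ ∐ KF := Sigma.ι PF i ≫ t' ≫ e.inv
      have hu : qc i ≫ u = qc i ≫ Spec.map (CommRingCat.ofHom (ψ i).toRingHom) ≫ Sigma.ι KF (a i) := by
        have h1 : qc i ≫ Sigma.ι PF i ≫ t' = (C i).ι ≫ h := by
          rw [show qc i ≫ Sigma.ι PF i ≫ t' = qm i ≫ t' from (Category.assoc _ _ _).symm, ← hq i, Category.assoc, ht'.2]
        rw [← cancel_mono e.hom]
        simp only [u, Category.assoc, Iso.inv_hom_id, Category.comp_id]
        rw [h1, hψ i]
      obtain ⟨x₀, hx₀⟩ := hne i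
      have hrange : Set.range u ⊆ Set.range (Sigma.ι KF (a i)) := by
        rintro _ ⟨p, rfl⟩
        refine ⟨Spec.map (CommRingCat.ofHom (ψ i).toRingHom) p, ?_⟩
        rw [Subsingleton.elim (α := PrimeSpectrum (L i)) p (qc i ⟨x₀, hx₀⟩)]
        have := congr($hu ⟨x₀, hx₀⟩)
        simp only [Scheme.Hom.comp_apply] at this
        exact this.symm
      obtain ⟨φ', hφ'⟩ := Spec.map_surjective (IsOpenImmersion.lift (Sigma.ι KF (a i)) u hrange)
      have hu' : Spec.map φ' ≫ Sigma.ι KF (a i) = u := by rw [hφ', IsOpenImmersion.lift_fac]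
      have hφψ : φ' = CommRingCat.ofHom (ψ i).toRingHom := by
        have h2 : φ' ≫ CommRingCat.ofHom (L i).val.toRingHom =
            CommRingCat.ofHom (ψ i).toRingHom ≫ CommRingCat.ofHom (L i).val.toRingHom := by
          refine RelVA16.toSpecΓ_SpecMap_inj _ _ ((cancel_mono (Sigma.ι KF (a i))).1 ?_)
          simp only [Spec.map_comp, Category.assoc, hu']
          exact (Category.assoc _ _ _).symm.trans (hu.trans (Category.assoc _ _ _))
        exact CommRingCat.hom_ext (RingHom.ext fun z => Subtype.ext (congr($h2 z)))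
      rw [← cancel_mono e.inv]
      simp only [Category.assoc, Iso.hom_inv_id, Category.comp_id]
      show u = _
      rw [← hu', hφψ]
  · rw [IsZariskiLocalAtSource.iff_of_openCover (P := @Flat) 𝒰]
    intro i
    show Flat ((C i).ι ≫ q)
    rw [hq]
    haveI : Flat (qc i) := CompScheme.flat_to_field _
    show Flat (qc i ≫ Sigma.ι PF i)
    infer_instance
  · refine ⟨fun z => ?_⟩
    obtain ⟨⟨i, w⟩, rfl⟩ := (sigmaMk PF).surjective z
    obtain ⟨x, hx⟩ := hne i
    refine ⟨x, ?_⟩
    rw [sigmaMk_mk, hqx, show mk x = i from hx]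
    exact congrArg (Sigma.ι PF i) (Subsingleton.elim (α := PrimeSpectrum (L i)) _ _)
  · intro x
    rw [← connectedComponents_preimage_singleton]
    ext x'
    show q x' = q x ↔ mk x' = mk x
    rw [hqx, hqx]
    refine ⟨fun h' => congrArg Sigma.fst ((sigmaι_eq_iff PF _ _ _ _).1 h'), fun h' => ?_⟩
    rw [h']

end Groth.Agent.S16678
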