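import Groth.Statements.S16679
import Groth.Agent.AVTors.RedConn
import Groth.Agent.GrpSchLib.SmallestSubgroup
import Groth.Agent.H23.MaxAbelian
-- import your own Groth.Agent.* helpers here

set_option autoImplicit false
universe u
open CategoryTheory CategoryTheory.Limits MonoidalCategory CartesianMonoidalCategory MonObj GrpObj AlgebraicGeometry
open AbVar

namespace Groth.Agent.S16679

set_option linter.style.haveILetI false
set_option backward.isDefEq.respectTransparency false
set_option backward.isDefEq.respectTransparency.types false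
set_option maxHeartbeats 1000000

/-- Let X be an abelian variety over an arbitrary field k (a proper, geometrically integral k-group
scheme), let i : Y → X be a closed subgroup scheme (a homomorphism of k-group schemes which is a
closed immersion) whose underlying space is connected, and let j : Y_red → Y be the reduced closed
subscheme with the same underlying space (a closed immersion from a reduced scheme which is
surjective). Then Y_red is geometrically integral over k, and there is a k-group scheme structure on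
Y_red for which j is a homomorphism: Y_red is an abelian subvariety of X. (For a closed subgroup
scheme which is not connected the reduced subscheme need not be geometrically reduced; the statement
concerns the identity component.) -/
theorem result (k : Type u) [Field k]
    (X : Over (Spec (CommRingCat.of k))) [GrpObj X] [IsProper X.hom] [GeometricallyIntegral X.hom]
    (Y : Over (Spec (CommRingCat.of k))) [GrpObj Y] (i : Y ⟶ X) [IsMonHom i] [IsClosedImmersion i.left]
    [ConnectedSpace ↥Y.left]
    (Yr : Scheme.{u}) (j : Yr ⟶ Y.left) [IsClosedImmersion j] [Surjective j] [IsReduced Yr] :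
    GeometricallyIntegral (j ≫ Y.hom) ∧
      ∃ _ : GrpObj (Over.mk (j ≫ Y.hom)), IsMonHom (Over.homMk j rfl : Over.mk (j ≫ Y.hom) ⟶ Y) := by
  obtain ⟨l, hlp, hl⟩ : ∃ l : ℕ, l.Prime ∧ (l : k) ≠ 0 := by
    by_cases h2 : ((2 : ℕ) : k) = 0
    · refine ⟨3, Nat.prime_three, fun h3 => one_ne_zero (α := k) ?_⟩
      have : ((3 : ℕ) : k) = ((2 : ℕ) : k) + 1 := by norm_num
      rw [h2, h3, zero_add] at this
      exact this.symm
    · exact ⟨2, Nat.prime_two, h2⟩
  haveI : Fact l.Prime := ⟨hlp⟩
  let W : ℕ → Scheme.{u} := fun n => H23.TorsRed.tors Y (l ^ n)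
  have hW : ∀ n, GeometricallyReduced (pullback.fst η[Y].left (𝟙 Y ^ (l ^ n) : Y ⟶ Y).left) := fun n =>
    AVTors.RedConn.geometricallyReduced_tors i (l ^ n) (by rw [Nat.cast_pow]; exact pow_ne_zero _ hl)
  have hlift : ∀ n, ∃ v : W n ⟶ Yr, v ≫ j = pullback.snd _ _ := fun n => by
    haveI := hW n
    haveI : AlgebraicGeometry.IsReduced (W n) :=
      GrpSchLib.SmallestSubgroup.isReduced_of_geometricallyReduced
        (pullback.fst η[Y].left (𝟙 Y ^ (l ^ n) : Y ⟶ Y).left)
    exact H23.RedSub.exists_lift_closed _ j (by rw [Set.range_eq_univ.2 j.surjective]; exact Set.subset_univ _)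
  choose v hv using hlift
  have hd : Dense (⋃ n, Set.range (v n)) := by
    intro y
    rw [j.isEmbedding.isInducing.closure_eq_preimage_closure_image]
    show j y ∈ closure _
    refine closure_mono ?_ (AVTors.RedConn.dense_tors i l hl (j y))
    rintro _ ⟨_, ⟨n, rfl⟩, ⟨w, rfl⟩⟩
    exact ⟨v n w, Set.mem_iUnion.2 ⟨n, w, rfl⟩, by rw [← Scheme.Hom.comp_apply, hv]⟩
  haveI hred : GeometricallyReduced (j ≫ Y.hom) := by
    letI : Yr.Over (Spec (CommRingCat.of k)) := ⟨j ≫ Y.hom⟩
    letI : ∀ n, (W n).Over (Spec (CommRingCat.of k)) :=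
      fun n => ⟨pullback.fst η[Y].left (𝟙 Y ^ (l ^ n) : Y ⟶ Y).left⟩
    refine GrpSchLib.GeomRedDense.geometricallyReduced_of_dense W v (fun n => ?_) hW hd
    show v n ≫ j ≫ Y.hom = pullback.fst η[Y].left (𝟙 Y ^ (l ^ n) : Y ⟶ Y).left
    rw [reassoc_of% (hv n), ← Over.w (𝟙 Y ^ (l ^ n) : Y ⟶ Y), ← pullback.condition_assoc, Over.w η[Y]]
    exact Category.comp_id _
  haveI : IsProper Y.hom := by rw [← Over.w i]; infer_instance
  let R : Over (Spec (CommRingCat.of k)) := Over.mk (j ≫ Y.hom)
  let jj : R ⟶ Y := Over.homMk j rfl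
  haveI : IsClosedImmersion jj.left := ‹IsClosedImmersion j›
  haveI : Mono jj := Over.mono_of_mono_left jj
  haveI hrR : GeometricallyReduced R.hom := hred
  haveI : AlgebraicGeometry.IsReduced R.left := ‹AlgebraicGeometry.IsReduced Yr›
  haveI : IsProper R.hom := inferInstanceAs (IsProper (j ≫ Y.hom))
  have hfac : ∀ {T : Over (Spec (CommRingCat.of k))} (f : T ⟶ Y), AlgebraicGeometry.IsReduced T.left →
      ∃ f₀ : T ⟶ R, f₀ ≫ jj = f := by
    intro T f _
    obtain ⟨g, hg⟩ := H23.RedSub.exists_lift_closed f.left j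
      (by rw [Set.range_eq_univ.2 j.surjective]; exact Set.subset_univ _)
    exact ⟨Over.homMk g (by show g ≫ j ≫ Y.hom = _; rw [reassoc_of% hg, Over.w]), Over.OverMorphism.ext hg⟩
  haveI : AlgebraicGeometry.IsReduced (R ⊗ R).left := by
    haveI : IsLocallyNoetherian R.left := LocallyOfFiniteType.isLocallyNoetherian R.hom
    exact inferInstanceAs (AlgebraicGeometry.IsReduced (pullback R.hom R.hom))
  obtain ⟨e₀, he₀⟩ := hfac η[Y] (inferInstanceAs (AlgebraicGeometry.IsReduced (Spec (CommRingCat.of k))))
  obtain ⟨m₀, hm₀⟩ := hfac ((fst R R ≫ jj) * (snd R R ≫ jj)) inferInstance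
  obtain ⟨v₀, hv₀⟩ := hfac jj⁻¹ inferInstance
  let inst : GrpObj R := GrpSchLib.grpObjOfFactor jj e₀ he₀ m₀ hm₀ v₀ hv₀
  haveI : ConnectedSpace R.left :=
    (IsHomeomorph.homeomorph _ (isHomeomorph_iff_isEmbedding_surjective.2 ⟨j.isEmbedding, j.surjective⟩)).symm.surjective.connectedSpace
      (Homeomorph.continuous _)
  refine ⟨H23.MaxAbelian.geometricallyIntegral_of_connected R, inst, ⟨he₀, ?_⟩⟩
  show m₀ ≫ jj = _
  rw [hm₀]
  simp [Hom.mul_def]
  rfl

end Groth.Agent.S16679
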