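import Groth.Statements.S16681
import Groth.Agent.Lib.AVSelfInt

set_option autoImplicit false
set_option backward.isDefEq.respectTransparency false
set_option backward.isDefEq.respectTransparency.types false
set_option linter.style.haveILetI false
set_option linter.unusedSectionVars false
set_option maxHeartbeats 400000
universe u
open CategoryTheory CategoryTheory.Limits MonoidalCategory CartesianMonoidalCategory MonObj GrpObj AlgebraicGeometry
open AbVar

namespace Groth.Agent.S16681

/-- Fix a field k and an abelian variety X over k whose dimension g is at least 3 (a proper,
geometrically integral k-group scheme whose underlying space has Krull dimension g). Then X admits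
no closed immersion into projective 2g-space over k: if f : X → P^n_k is a closed immersion
compatible with the structure morphisms to Spec k, then 2g + 1 ≤ n. (For g = 1 and g = 2 there are
abelian varieties embedded in P^2 and P^4, so the bound g ≥ 3 is needed.) -/
theorem result (k : Type u) [Field k]
    (X : Over (Spec (CommRingCat.of k))) [GrpObj X] [IsProper X.hom] [GeometricallyIntegral X.hom]
    (g : ℕ) (hg : topologicalKrullDim ↥X.left = g) (h3 : 3 ≤ g)
    (n : ℕ) (f : X.left ⟶ CohB1.ProjSpace n k) [IsClosedImmersion f]
    (hf : f ≫ CohB1.ProjSpace.toSpec n k = X.hom) :
    2 * g + 1 ≤ n := by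
  exact Groth.Agent.AVEmbed.two_mul_dim_lt hg h3 f hf

end Groth.Agent.S16681
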