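import Groth.Statements.S16682
import Groth.Agent.Lib.AVSeesaw

set_option autoImplicit false
universe u
open CategoryTheory CategoryTheory.Limits MonoidalCategory CartesianMonoidalCategory AlgebraicGeometry
open AbVar

namespace Groth.Agent.S16682


set_option linter.style.haveILetI false
open Groth.Agent.H23
open scoped Groth.Agent.H23.PicMul

/-- Let k be a field, X a proper geometrically integral k-scheme (a complete variety), Y a variety over
k (separated, of finite type, geometrically integral), and L, M two invertible modules on X ×_k Y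
(the product in the category of k-schemes). If for every closed point y of Y the restrictions of L
and M to the fibre X ×_k Spec k(y) are isomorphic, then there is an invertible O_Y-module N with L
isomorphic to M ⊗ p^*N, where p : X ×_k Y → Y is the second projection (existence of an isomorphism;
N is determined only up to isomorphism). -/
theorem result (k : Type u) [Field k]
    (X Y : Over (Spec (CommRingCat.of k)))
    [IsProper X.hom] [GeometricallyIntegral X.hom]
    [IsSeparated Y.hom] [QuasiCompact Y.hom] [LocallyOfFiniteType Y.hom] [GeometricallyIntegral Y.hom]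
    (L M : (X ⊗ Y).left.Modules) (hL : PicF.IsInvertible L) (hM : PicF.IsInvertible M)
    (h : ∀ y : ↥Y.left, IsClosed ({y} : Set ↥Y.left) →
      Nonempty ((Scheme.Modules.pullback (pullback.fst (snd X Y).left (Y.left.fromSpecResidueField y))).obj L ≅
        (Scheme.Modules.pullback (pullback.fst (snd X Y).left (Y.left.fromSpecResidueField y))).obj M)) :
    ∃ N : Y.left.Modules, PicF.IsInvertible N ∧
      Nonempty (L ≅ CohB1.tensorMod M ((Scheme.Modules.pullback (snd X Y).left).obj N)) := by
  haveI : IsIntegral Y.left := GeometricallyIntegral.isIntegral_of_subsingleton Y.hom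
  obtain ⟨D, hD, e⟩ := PicInv.exists_inverse hM
  have hMD : PicF.cl M * PicF.cl D = 1 := (PicGrp.cl_eq_cl_iff _ _).2 e
  obtain ⟨N, hN, eN⟩ := AVSeesaw.exists_base X Y (CohB1.tensorMod L D) (PicMul.isInvertible_tensor hL hD)
    fun y hy => (PicGrp.cl_eq_cl_iff _ _).1 (by
      show PicF.pullCl _ (PicF.cl L * PicF.cl D) = 1
      rw [PicMul.pullCl_mul, show PicF.pullCl _ (PicF.cl L) = PicF.pullCl _ (PicF.cl M) from
        (PicGrp.cl_eq_cl_iff _ _).2 (h y hy), ← PicMul.pullCl_mul, hMD, PicMul.pullCl_one])
  refine ⟨N, hN, (PicGrp.cl_eq_cl_iff _ _).1 ?_⟩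
  rw [PicMul.cl_tensor, (PicGrp.cl_eq_cl_iff _ _).2 eN, PicMul.cl_tensor, mul_comm (PicF.cl L), ← _root_.mul_assoc,
    hMD, _root_.one_mul]

end Groth.Agent.S16682
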