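import Groth.Statements.S16683
import Groth.Agent.Lib.AVPicScheme

set_option autoImplicit false
set_option backward.isDefEq.respectTransparency false
set_option backward.isDefEq.respectTransparency.types false
set_option linter.style.haveILetI false
set_option linter.unusedSectionVars false
set_option maxHeartbeats 400000
universe u
open CategoryTheory CategoryTheory.Limits MonoidalCategory CartesianMonoidalCategory MonObj GrpObj AlgebraicGeometry
open AbVar

namespace Groth.Agent.S16683

/-- Fix a field k and a g-dimensional abelian variety X over k (a proper, geometrically integral k-group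
scheme with underlying space of Krull dimension g), and let P be a k-scheme locally of finite type
which represents, through φ, the relative Picard functor Pic_{X/k} (the fppf sheaf associated to T ↦
Pic(X ×_k T)). Then P is smooth over k — in particular its identity component Pic⁰_{X/k}, the dual
of X, is reduced and hence an abelian variety — and the underlying space of P has Krull dimension g
= dim X. (The published statement also identifies g with dim_k H^1(X, O_X) and the kernel of φ_L
with K(L) for L ample; those clauses are not part of this statement. The Picard scheme is taken as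
given.) -/
theorem result (k : Type u) [Field k]
    (X : Over (Spec (CommRingCat.of k))) [GrpObj X] [IsProper X.hom] [GeometricallyIntegral X.hom]
    (g : ℕ) (hg : topologicalKrullDim ↥X.left = g)
    (P : Over (Spec (CommRingCat.of k)))
    (φ : ∀ T : Over (Spec (CommRingCat.of k)), PicF.Cl (PicF.XT X.hom T) → (T ⟶ P))
    (hP : AbDual.IsRelPicK Scheme.fppfPrecoverage X.hom P φ) [LocallyOfFiniteType P.hom] :
    Smooth P.hom ∧ topologicalKrullDim ↥P.left = g := by
  haveI : Smooth X.hom := Groth.Agent.S7795.result X
  haveI : GeometricallyConnected X.hom := Groth.Agent.H23.CubeAb.geometricallyConnected_of_integral X.hom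
  let Q : ∀ T : Over (Spec (CommRingCat.of k)), PicF.Cl (PicF.XT X.hom T) → Prop := fun _ c => PicF.IsInvertibleCl c
  have hQ : Groth.Agent.RigPoints.Dom X.hom Q :=
    { inv := fun h => h
      pull := fun g _ h => Groth.Agent.PicClLib.isInvertibleCl_pullCl _ h
      twist := fun h hm => Groth.Agent.H23.PicMul.isInvertibleCl_mul h (Groth.Agent.PicClLib.isInvertibleCl_pullCl _ hm)
      desc := fun h _ _ _ _ _ _ _ => h }
  have hP' : Groth.Agent.RigPoints.Pts X.hom Q P φ := ⟨hP.natural, hP.locallySurjective, hP.locallyInjective⟩
  have ha := Groth.Agent.AVPoincareExist.isIso_app (A := X)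
  have hs : ∀ (T : Over (Spec (CommRingCat.of k))) (g : T ⟶ P),
      ∃ c : PicF.Rig X.hom η[X].left (Over.w η[X]) T, φ T c.1 = g := fun T g =>
    let ⟨c, _, hc⟩ := Groth.Agent.RigPoints.surjective X.hom η[X].left (Over.w η[X]) ha hQ hP' g
    ⟨c, hc⟩
  choose ρ hρ using hs
  have huniq : ∀ {T : Over (Spec (CommRingCat.of k))} (g : T ⟶ P) (c : PicF.Rig X.hom η[X].left (Over.w η[X]) T),
      φ T c.1 = g → ρ T g = c := fun g c h =>
    Groth.Agent.RigPoints.injective X.hom η[X].left (Over.w η[X]) ha hQ hP' (ρ _ g).2.1 c.2.1 ((hρ _ g).trans h.symm)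
  refine Groth.Agent.AVPicScheme.smooth_dim (A := X) (ρ := fun T x => (ρ T x).1) ⟨fun {T T'} g x => ?_,
    fun x => (ρ _ x).2.1, fun {T} x => ?_, fun {T} x y h => ?_, fun {T} c hc hc0 => ?_⟩ hg
  · exact congrArg Subtype.val (huniq (g ≫ x)
      (Groth.Agent.RigPoints.pullRig X.hom η[X].left (Over.w η[X]) g (ρ T x))
      ((hP.natural _ _ g _ (ρ T x).2.1).trans (by rw [hρ])))
  · exact (congrArg (fun m => PicF.pullCl m (ρ T x).1) (Groth.Agent.AVDual.secT_eq T)).symm.trans (ρ T x).2.2
  · rw [← hρ T x, ← hρ T y]
    exact congrArg (φ T) h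
  · refine ⟨φ T c, congrArg Subtype.val (huniq _ ⟨c, hc, ?_⟩ rfl)⟩
    rw [Groth.Agent.AVDual.secT_eq]
    exact hc0

end Groth.Agent.S16683
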