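import Groth.Statements.S16684
import Groth.Agent.GITQuot.Fppf
-- import your own Groth.Agent.* helpers here

set_option autoImplicit false
universe u
open CategoryTheory CategoryTheory.Limits MonoidalCategory CartesianMonoidalCategory MonObj AlgebraicGeometry
open GIT

namespace Groth.Agent.S16684

/-- Let S be a scheme, G a group scheme over S acting through σ : G ×_S X → X on an S-scheme X, and q :
X → Y an S-morphism which is an fppf quotient of X by G: q coequalises σ and the second projection
and the induced map from the quotient sheaf G\X (coequalizer of the two maps h_{G × X} ⇉ h_X of fppf
sheaves of sets on schemes over S) to h_Y is an isomorphism. Then q is also a geometric quotient: q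
is invariant and surjective, the map G ×_S X → X ×_Y X is surjective, q is universally submersive,
and for every open U of Y the sections of O_Y over U map injectively onto the G-invariant sections
of O_X over q⁻¹U. No freeness of the action is assumed. -/
theorem result {S : Scheme.{u}} (G X Y : Over S) [GrpObj G]
    (a : AlgGrp.Action G X) (q : X ⟶ Y)
    (hq : QuotSh.IsQuotient Scheme.fppfPrecoverage a.act (snd G X) q) :
    GIT.IsGeomQuot a q := by
  exact Groth.Agent.GITQuot.isGeomQuot_of_isQuotient hq

end Groth.Agent.S16684
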