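import Groth.Statements.S16687
import Groth.Agent.Lib.AVMulN
import Groth.Agent.Lib.AVPair

set_option autoImplicit false
set_option backward.isDefEq.respectTransparency false
set_option backward.isDefEq.respectTransparency.types false
set_option linter.style.haveILetI false
set_option linter.unusedSectionVars false
set_option maxHeartbeats 400000
universe u
open CategoryTheory CategoryTheory.Limits MonoidalCategory CartesianMonoidalCategory MonObj GrpObj AlgebraicGeometry
open AbVar

namespace Groth.Agent.S16687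


open Groth.Agent.H23 Groth.Agent.H23.TrivBasic Groth.Agent.AVPair CategoryTheory.Limits
open scoped Groth.Agent.H23.PicMul

theorem comp_pow' {C : Type*} [Category C] [CartesianMonoidalCategory C] {A T : C} [GrpObj A] (f : T ⟶ A) :
    ∀ n : ℕ, f ≫ (𝟙 A ^ n : A ⟶ A) = f ^ n
  | 0 => by rw [pow_zero, pow_zero, MonObj.comp_one]
  | n + 1 => by rw [pow_succ, pow_succ, MonObj.comp_mul, comp_pow' f n, Category.comp_id]

section Aux

variable {k : Type u} [Field k] {X : Over (Spec (CommRingCat.of k))} [GrpObj X] [IsProper X.hom]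
  [GeometricallyIntegral X.hom]

theorem eq_one_of_mul_eq {T : Scheme.{u}} {c d : PicF.Cl T} (hd : PicF.IsInvertibleCl d) (h : c * d = d) :
    c = 1 := by
  obtain ⟨e, -, he⟩ := exists_inv hd
  have := congrArg (· * e) h
  simpa only [_root_.mul_assoc, he, _root_.mul_one] using this

theorem pow_left {ω : PicF.Cl (X ⊗ X).left} (hω : PicF.IsInvertibleCl ω)
    (h1 : pl (lift (1 : X ⟶ X) (𝟙 X)) ω = 1) (h2 : pl (lift (𝟙 X) (1 : X ⟶ X)) ω = 1)
    {T : Over (Spec (CommRingCat.of k))} (f g : T ⟶ X) :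
    ∀ m : ℕ, pl (lift (f ^ m) g) ω = pl (lift f g) ω ^ m
  | 0 => by
    rw [pow_zero, pow_zero, show lift (1 : T ⟶ X) g = g ≫ lift (1 : X ⟶ X) (𝟙 X) by
      rw [comp_lift, MonObj.comp_one, Category.comp_id], ← pl_pl, h1, map_one]
  | m + 1 => by rw [pow_succ, pow_succ, add_left hω h1 h2, pow_left hω h1 h2 f g m]

theorem pow_right {ω : PicF.Cl (X ⊗ X).left} (hω : PicF.IsInvertibleCl ω)
    (h1 : pl (lift (1 : X ⟶ X) (𝟙 X)) ω = 1) (h2 : pl (lift (𝟙 X) (1 : X ⟶ X)) ω = 1)
    {T : Over (Spec (CommRingCat.of k))} (f g : T ⟶ X) :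
    ∀ m : ℕ, pl (lift f (g ^ m)) ω = pl (lift f g) ω ^ m
  | 0 => by
    rw [pow_zero, pow_zero, show lift f (1 : T ⟶ X) = f ≫ lift (𝟙 X) (1 : X ⟶ X) by
      rw [comp_lift, MonObj.comp_one, Category.comp_id], ← pl_pl, h2, map_one]
  | m + 1 => by rw [pow_succ, pow_succ, add_right hω h1 h2, pow_right hω h1 h2 f g m]

theorem whisker_one {ω : PicF.Cl (X ⊗ X).left} (hω : PicF.IsInvertibleCl ω)
    (h1 : pl (lift (1 : X ⟶ X) (𝟙 X)) ω = 1) (h2 : pl (lift (𝟙 X) (1 : X ⟶ X)) ω = 1) {l : PicF.Cl X.left}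
    (spec : ∀ {T : Over (Spec (CommRingCat.of k))} (f g : T ⟶ X),
      pl (lift f g) ω * (pl f l * pl g l) = pl (f * g) l)
    (n : ℕ) (hn : 2 ≤ n) (hpow : pl (𝟙 X ^ n : X ⟶ X) l = l ^ n) (hli : PicF.IsInvertibleCl l) :
    1 ≤ n * n - n ∧ pl (X ◁ (𝟙 X ^ (n * n - n) : X ⟶ X)) ω = 1 := by
  have hle : n + 1 ≤ n * n := by nlinarith
  refine ⟨by omega, ?_⟩
  haveI : IsCommMonObj X := isCommMonObj_of_isProper_of_geometricallyIntegral X
  have hp : ∀ f : X ⊗ X ⟶ X, pl (f ^ n) l = pl f l ^ n := fun f => by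
    rw [← comp_pow' f n, ← pl_pl, hpow, map_pow]
  have key := spec (fst X X ^ n) (snd X X ^ n)
  rw [← mul_pow, hp, hp, hp, ← spec (fst X X) (snd X X), pow_left hω h1 h2, pow_right hω h1 h2, ← pow_mul,
    mul_pow] at key
  obtain ⟨e, -, he⟩ := exists_inv (PicMul.isInvertibleCl_mul (isInv_pl (fst X X) hli) (isInv_pl (snd X X) hli))
  have k1 := congrArg (· * e ^ n) key
  simp only [_root_.mul_assoc, ← mul_pow, he, one_pow, _root_.mul_one] at k1
  obtain ⟨b, -, hb⟩ := exists_inv (isInv_pl (lift (fst X X) (snd X X)) hω)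
  have k2 := congrArg (· * b ^ n) k1
  simp only [← mul_pow, hb, one_pow] at k2
  rw [show n * n = n * n - n + n by omega, pow_add, _root_.mul_assoc, ← mul_pow, hb, one_pow, _root_.mul_one,
    ← pow_right hω h1 h2] at k2
  rw [show X ◁ (𝟙 X ^ (n * n - n) : X ⟶ X) = lift (fst X X) (snd X X ^ (n * n - n)) by
    apply CartesianMonoidalCategory.hom_ext
    · rw [whiskerLeft_fst, lift_fst]
    · rw [whiskerLeft_snd, lift_snd, comp_pow']]
  exact k2

theorem eq_one_of_whisker {ω : PicF.Cl (X ⊗ X).left} (hω : PicF.IsInvertibleCl ω)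
    (h1 : pl (lift (1 : X ⟶ X) (𝟙 X)) ω = 1) {N : ℕ} (hN : 1 ≤ N)
    (hw : pl (X ◁ (𝟙 X ^ N : X ⟶ X)) ω = 1) : ω = 1 := by
  obtain ⟨M, rfl, hM⟩ := hω
  haveI := GeometricallyIntegral.isIntegral_of_subsingleton X.hom
  refine (PicGrp.cl_eq_cl_iff _ _).2 (AVSeesaw.triv_of_slices X X M hM (fun y _ => ?_) 1
    ((PicGrp.cl_eq_cl_iff _ _).1 h1))
  refine (SeesawGlobal.fieldTriv_iff_residueField y).1 ?_
  obtain ⟨x, hx⟩ := (AVMulN.surjective_pow (A := X) N hN).surj y
  have := fieldTriv_of_whisker X M hM (𝟙 X ^ N : X ⟶ X) ((triv_iff _).2 hw) (X.left.fromSpecResidueField x)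
  have e : ((X.left.fromSpecResidueField x) ≫ (𝟙 X ^ N : X ⟶ X).left)
      (IsLocalRing.closedPoint (X.left.residueField x)) = y :=
    (congrArg (𝟙 X ^ N : X ⟶ X).left (X.left.fromSpecResidueField_apply x _)).trans hx
  exact e ▸ this

end Aux

/-- Let X be an abelian variety over a field k (a proper, geometrically integral k-group scheme) with
group law m : X ×_k X → X and projections p₁, p₂, let L be an invertible O_X-module, and let n ≥ 2
be an integer such that n^*L ≅ L^{⊗ n}, where n : X → X is multiplication by n (the n-th power of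
the identity in the group of endomorphisms). Then the class of L lies in Pic⁰_{X/k}, i.e. the
Mumford module of L is trivial: m^*L ≅ p₁^*L ⊗ p₂^*L (existence of an isomorphism of modules on X
×_k X). (The published statement allows any integer n other than 0 and 1, negative n included; this
row takes n a natural number with n ≥ 2. The converse implication also holds; this row is the
direction from one such n.) -/
theorem result (k : Type u) [Field k]
    (X : Over (Spec (CommRingCat.of k))) [GrpObj X] [IsProper X.hom] [GeometricallyIntegral X.hom]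
    (L : X.left.Modules) (hL : PicF.IsInvertible L) (n : ℕ) (hn : 2 ≤ n)
    (h : Nonempty ((Scheme.Modules.pullback (𝟙 X ^ n).left).obj L ≅ CohB1.tensorPow L n)) :
    Nonempty ((Scheme.Modules.pullback μ[X].left).obj L ≅
      CohB1.tensorMod ((Scheme.Modules.pullback (fst X X).left).obj L)
        ((Scheme.Modules.pullback (snd X X).left).obj L)) := by
  let l : PicF.Cl X.left := PicF.cl L
  have hli : PicF.IsInvertibleCl l := ⟨L, rfl, hL⟩
  haveI : IsIntegral X.left := GeometricallyIntegral.isIntegral_of_subsingleton X.hom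
  haveI : IsCommMonObj X := isCommMonObj_of_isProper_of_geometricallyIntegral X
  obtain ⟨d, hd, hcd⟩ := exists_inv (PicMul.isInvertibleCl_mul (isInv_pl (fst X X) hli) (isInv_pl (snd X X) hli))
  let ω := pl (fst X X * snd X X) l * d
  have hω : PicF.IsInvertibleCl ω := PicMul.isInvertibleCl_mul (isInv_pl _ hli) hd
  have spec : ∀ {T : Over (Spec (CommRingCat.of k))} (f g : T ⟶ X),
      pl (lift f g) ω * (pl f l * pl g l) = pl (f * g) l := fun {T} f g => by
    have := congrArg (pl (lift f g)) hcd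
    simp only [map_mul, map_one, pl_pl, lift_fst, lift_snd] at this
    rw [show ω = pl (fst X X * snd X X) l * d from rfl, map_mul, pl_pl, MonObj.comp_mul, lift_fst, lift_snd, _root_.mul_assoc,
      mul_comm (pl (lift f g) d), this, _root_.mul_one]
  have hone : pl (1 : X ⟶ X) l = 1 := by rw [Hom.one_def]; exact pl_const hli η
  have h1 : pl (lift (1 : X ⟶ X) (𝟙 X)) ω = 1 := by
    have := spec (1 : X ⟶ X) (𝟙 X)
    rw [_root_.one_mul, hone, _root_.one_mul] at this
    exact eq_one_of_mul_eq (isInv_pl _ hli) this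
  have h2 : pl (lift (𝟙 X) (1 : X ⟶ X)) ω = 1 := by
    have := spec (𝟙 X) (1 : X ⟶ X)
    rw [_root_.mul_one, hone, _root_.mul_one] at this
    exact eq_one_of_mul_eq (isInv_pl _ hli) this
  have hpow : pl (𝟙 X ^ n : X ⟶ X) l = l ^ n := by
    refine Eq.trans ?_ (PicMul.cl_tensorPow L n)
    exact (PicGrp.cl_eq_cl_iff _ _).2 h
  obtain ⟨hN, hw⟩ := whisker_one hω h1 h2 spec n hn hpow hli
  have hω1 : ω = 1 := eq_one_of_whisker hω h1 hN hw
  have hfin := spec (fst X X) (snd X X)
  rw [hω1, map_one, _root_.one_mul] at hfin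
  obtain ⟨φ⟩ : Nonempty ((Scheme.Modules.pullback (fst X X * snd X X).left).obj L ≅
      CohB1.tensorMod ((Scheme.Modules.pullback (fst X X).left).obj L)
        ((Scheme.Modules.pullback (snd X X).left).obj L)) :=
    (PicGrp.cl_eq_cl_iff _ _).1 hfin.symm
  rw [show μ[X] = fst X X * snd X X by rw [Hom.mul_def, lift_fst_snd, Category.id_comp]]
  exact ⟨φ⟩

end Groth.Agent.S16687
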