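import Groth.Statements.S16688
import Groth.Agent.ComodLib.Dual
-- import your own Groth.Agent.* helpers here

set_option autoImplicit false
universe u v w
open ComodSub

namespace Groth.Agent.S16688

/-- Let `k` be a commutative ring, `A` a commutative Hopf algebra over `k` with antipode `S`, and `M` a
`k`-module with a left `A`-comodule structure `m ↦ Σ m₋₁ ⊗ m₀`. Then the map `M → M ⊗ A`, `m ↦ Σ m₀
⊗ S(m₋₁)`, is coassociative and counital: it is the coaction of a right `A`-comodule structure on
`M` (a right structure is determined by its coaction, so this structure is unique). -/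
theorem result (k : Type u) [CommRing k]
    (A : Type v) [CommRing A] [HopfAlgebra k A]
    (M : Type w) [AddCommGroup M] [Module k M] (l : ComodSub.LComod k A M) :
    ∃ c : HopfRep.Comod k A M, c.coact = ComodSub.rcoactOfLeft l := ⟨Groth.Agent.ComodLib.rightOfLeft l, rfl⟩

end Groth.Agent.S16688
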