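import Groth.Statements.S16690
import Groth.Agent.ComodLib.Dual
-- import your own Groth.Agent.* helpers here

set_option autoImplicit false
universe u v w
open ComodSub

namespace Groth.Agent.S16690

/-- Let `k` be a commutative ring, `A` a `k`-coalgebra that is flat over `k`, and `M` a finitely
presented `k`-module with a right `A`-comodule structure `m ↦ Σ m₀ ⊗ m₁`. Then the dual module `M^*
= Hom(M, k)` carries a left `A`-comodule structure whose coaction sends a form `g` to the element of
`A ⊗ M^*` that reads, through `a ⊗ φ ↦ (m ↦ φ(m) a)`, as the map `m ↦ Σ g(m₀) m₁` (the left dual of
the given structure). (The published statement takes coalgebras to be commutative algebras whose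
comultiplication and counit are algebra maps; the construction uses no multiplication on `A`, so
here `A` is any flat coalgebra.) -/
theorem result (k : Type u) [CommRing k]
    (A : Type v) [AddCommGroup A] [Module k A] [Coalgebra k A] [Module.Flat k A]
    (M : Type w) [AddCommGroup M] [Module k M] [Module.FinitePresentation k M]
    (c : HopfRep.Comod k A M) :
    ∃ l : ComodSub.LComod k A (Module.Dual k M), ComodSub.LComod.IsLDual c l := ⟨Groth.Agent.ComodLib.ldual c, Groth.Agent.ComodLib.isLDual_ldual c⟩

end Groth.Agent.S16690
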