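import Groth.Statements.S16699
import Groth.Agent.WellNighLib.Basic

set_option backward.isDefEq.respectTransparency false
set_option backward.isDefEq.respectTransparency.types false
-- import your own Groth.Agent.* helpers here

set_option autoImplicit false
universe u
open AlgSt AlgSt.IsWellNighAffine

namespace Groth.Agent.S16699

open CategoryTheory AlgebraicGeometry in
/-- An algebraic stack affine over a well-nigh affine algebraic stack is well-nigh affine. -/
theorem result (S : Scheme.{u}) (𝒳 𝒳' : AlgSt.Cat S)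
    (h𝒳 : AlgSt.IsAlgStack Scheme.fppfPrecoverage 𝒳) (h𝒳' : AlgSt.IsAlgStack Scheme.fppfPrecoverage 𝒳')
    (hw : AlgSt.IsWellNighAffine 𝒳) (f : 𝒳' ⥤ᵇ 𝒳) (hf : AlgSt.RepByAlgSpWith AlgSp.IsAffineMor f) :
    AlgSt.IsWellNighAffine 𝒳' :=  Groth.Agent.WellNighLib.of_isAffineMor hw f hf
end Groth.Agent.S16699
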