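import Groth.Statements.S1670
import Groth.Agent.GeomField.Orbit

set_option autoImplicit false
universe u
open CategoryTheory CategoryTheory.Limits AlgebraicGeometry
open Variety

namespace Groth.Agent.S1670

/-- Let X be locally of finite type over k, K a separable closure of k, and T an irreducible component
of X. Then the inverse image of T in X_K is the union of the finitely many irreducible components of
X_K mapping into T, and these form a single orbit under the action of the k-automorphisms of K on
X_K. -/
theorem result (k : Type u) [Field k] (X : Scheme.{u}) [X.Over (Spec (CommRingCat.of k))] [LocallyOfFiniteType (X ↘ (Spec (CommRingCat.of k)))]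
    (T : Set X) (hT : T ∈ irreducibleComponents (X : Type u)) :
    {T' : Set (Curv2.bc k X (SeparableClosure k)) | T' ∈ irreducibleComponents (Curv2.bc k X (SeparableClosure k) : Type u) ∧
        (Curv2.bcFst k X (SeparableClosure k)).base '' T' ⊆ T}.Finite ∧
      (Curv2.bcFst k X (SeparableClosure k)).base ⁻¹' T = ⋃₀ {T' : Set (Curv2.bc k X (SeparableClosure k)) | T' ∈ irreducibleComponents (Curv2.bc k X (SeparableClosure k) : Type u) ∧
        (Curv2.bcFst k X (SeparableClosure k)).base '' T' ⊆ T} ∧
      ∀ T' T'' : Set (Curv2.bc k X (SeparableClosure k)), T' ∈ irreducibleComponents (Curv2.bc k X (SeparableClosure k) : Type u) →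
        T'' ∈ irreducibleComponents (Curv2.bc k X (SeparableClosure k) : Type u) →
        (Curv2.bcFst k X (SeparableClosure k)).base '' T' ⊆ T → (Curv2.bcFst k X (SeparableClosure k)).base '' T'' ⊆ T →
        ∃ σ : (SeparableClosure k) ≃ₐ[k] (SeparableClosure k), (Curv2.galAct k X (SeparableClosure k) σ).base '' T' = T'' := by
  refine ⟨GeomField.components_over_finite _ hT, ?_, fun T' T'' hT' hT'' hs' hs'' => ?_⟩
  · simp only [Set.image_subset_iff]
    exact GeomField.preimage_component _ hT
  · have h' := GeomField.image_component (k := k) _ hT'
    have h'' := GeomField.image_component (k := k) _ hT''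
    have e' := subset_antisymm hs' (h'.2 hT.1 hs')
    have e'' := subset_antisymm hs'' (h''.2 hT.1 hs'')
    exact (GeomField.image_eq_iff_conjugate _ hT' hT'').1 (e'.trans e''.symm)

end Groth.Agent.S1670
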