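import Groth.Statements.S16704
import Groth.Agent.AlgStLib.CatModuliLocal

set_option backward.isDefEq.respectTransparency false
set_option backward.isDefEq.respectTransparency.types false
-- import your own Groth.Agent.* helpers here

set_option autoImplicit false
universe u
open AlgSt

namespace Groth.Agent.S16704

open Groth.Agent.FibBase Groth.Agent.AlgSpLib Groth.Agent.AlgStLib Groth.Agent.AlgStLib.CatModLocal in
open CategoryTheory AlgebraicGeometry in
/-- Let `𝒳` be an algebraic stack, `Y` an algebraic space and `f : 𝒳 → Y` a morphism. If every base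
change of `f` to an affine scheme flat over `Y` is a categorical moduli space, the morphism `f`
itself is a uniform categorical moduli space. -/
theorem result (S : Scheme.{u}) (𝒳 : AlgSt.Cat S)
    (h𝒳 : AlgSt.IsAlgStack Scheme.fppfPrecoverage 𝒳) (Y : AlgSp.Sp S) (hY : AlgSp.IsAlgSpace Y)
    (f : 𝒳 ⥤ᵇ AlgSt.ofSp Y)
    (hf : ∀ (Y' : Over S), IsAffine Y'.left → ∀ (g : (AlgSp.yon S).obj Y' ⟶ Y), AlgSp.LocP @Flat g →
      AlgSt.IsCatModuli (FibCat.fpFst (AlgSt.ofSpMap g) f)) :
    AlgSt.IsUnifCatModuli f :=  by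
  refine ⟨isCatModuli_of_affine_flat h𝒳.isStack.1 hY f hf, fun M' hM' g hg => ?_⟩
  refine isCatModuli_of_affine_flat (fp_isFibGrpd (Stk.isFibGrpd_ofPsh _) h𝒳.isStack.1 (Stk.isFibGrpd_ofPsh _))
    hM' _ fun T hT t ht => ?_
  have h := hf T hT (t ≫ g) (locP_comp (AlgSp.IsAlgSpace.yon_obj T) hM' hY ht hg)
  obtain ⟨k, hk, -, ⟨i⟩⟩ := isEquivOver_inv (pasteVert_isEquivOver (AlgSt.ofSpMap t) (AlgSt.ofSpMap g) f)
  exact isCatModuli_of_equiv hk
    (Groth.Agent.FibBase.whiskerRightIso i (FibCat.fpFst (BasedFunctor.comp (AlgSt.ofSpMap t) (AlgSt.ofSpMap g)) f)) h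
end Groth.Agent.S16704
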