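import Groth.Statements.S16707
import Mathlib.RingTheory.Flat.EquationalCriterion
import Mathlib.RingTheory.TensorProduct.Quotient
import Mathlib.Data.Fin.Tuple.Basic

set_option autoImplicit false
universe u v
open CAlg

namespace Groth.Agent.S16707
open TensorProduct

theorem exists_sum_of_mem {A : Type u} [CommRing A] {M : Type v} [AddCommGroup M] [Module A M]
    (I : Ideal A) {m : M} (hm : m ∈ I • (⊤ : Submodule A M)) :
    ∃ (l : ℕ) (a : Fin l → A) (x : Fin l → M), (∀ j, a j ∈ I) ∧ ∑ j, a j • x j = m := by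
  refine Submodule.smul_induction_on hm
    (fun r hr n _ => ⟨1, fun _ => r, fun _ => n, fun _ => hr, by simp⟩) ?_
  · intro y z hy hz
    obtain ⟨l, a, x, ha, rfl⟩ := hy
    obtain ⟨l', a', x', ha', rfl⟩ := hz
    refine ⟨l + l', Fin.append a a', Fin.append x x', fun j => ?_, by simp [Fin.sum_univ_add]⟩
    refine Fin.addCases (fun i => ?_) (fun i => ?_) j <;> simp [ha, ha']

theorem eq_top_of_smul {A : Type u} [CommRing A] {M : Type v} [AddCommGroup M] [Module A M]
    {I : Ideal A} (hI : IsNilpotent I) (K T : Submodule A M) (h : T ≤ K ⊔ I • T) : T ≤ K := by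
  obtain ⟨n, hn⟩ := hI
  have : ∀ k, T ≤ K ⊔ I ^ k • T := by
    intro k
    induction k with
    | zero => simp
    | succ k ih =>
      refine ih.trans (sup_le le_sup_left ?_)
      refine le_trans (Submodule.smul_mono le_rfl h) ?_
      rw [Submodule.smul_sup, ← Submodule.mul_smul, ← pow_succ]
      exact sup_le (le_sup_of_le_left Submodule.smul_le_right) le_sup_right
  have h2 := this n
  rwa [hn, Submodule.zero_eq_bot, Submodule.bot_smul, sup_bot_eq] at h2

open TensorProduct in
/-- Let A be a commutative ring, I a nilpotent ideal of A and f : M → N a homomorphism of A-modules with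
N flat over A (no finiteness assumption on M or N). If the base change of f to A/I, that is M/IM →
N/IN, is bijective, then f is bijective. -/
theorem result (A : Type u) [CommRing A] (I : Ideal A)
    (hI : IsNilpotent I) (M N : Type v) [AddCommGroup M] [Module A M] [AddCommGroup N] [Module A N]
    [Module.Flat A N] (f : M →ₗ[A] N)
    (hf : Function.Bijective (f.baseChange (A ⧸ I))) :
    Function.Bijective f := by
  have e : ∀ {P : Type v} [AddCommGroup P] [Module A P] (x : P),
      ((1 : A ⧸ I) ⊗ₜ[A] x = 0) ↔ x ∈ I • (⊤ : Submodule A P) := by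
    intro P _ _ x
    rw [← (TensorProduct.quotTensorEquivQuotSMul P I).map_eq_zero_iff]
    rw [show (1 : A ⧸ I) = Ideal.Quotient.mk I 1 from rfl,
      TensorProduct.quotTensorEquivQuotSMul_mk_tmul, one_smul, Submodule.Quotient.mk_eq_zero]
  have hmk : ∀ (P : Type v) [AddCommGroup P] [Module A P] (t : (A ⧸ I) ⊗[A] P),
      ∃ x : P, (1 : A ⧸ I) ⊗ₜ[A] x = t := fun P _ _ t => by
    induction t with
    | zero => exact ⟨0, TensorProduct.tmul_zero _ _⟩
    | tmul q x =>
      obtain ⟨a, rfl⟩ := Ideal.Quotient.mk_surjective q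
      refine ⟨a • x, ?_⟩
      rw [TensorProduct.tmul_smul, TensorProduct.smul_tmul', Algebra.smul_def, mul_one]
      rfl
    | add s t hs ht =>
      obtain ⟨x, rfl⟩ := hs
      obtain ⟨y, rfl⟩ := ht
      exact ⟨x + y, TensorProduct.tmul_add _ _ _⟩
  have hsurj : Function.Surjective f := by
    rw [← LinearMap.range_eq_top, eq_top_iff]
    refine eq_top_of_smul hI _ _ fun y _ => ?_
    obtain ⟨t, ht⟩ := hf.2 ((1 : A ⧸ I) ⊗ₜ[A] y)
    obtain ⟨x, rfl⟩ := hmk M t
    rw [LinearMap.baseChange_tmul, eq_comm, ← sub_eq_zero, ← TensorProduct.tmul_sub, e] at ht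
    exact Submodule.mem_sup.2 ⟨f x, ⟨x, rfl⟩, y - f x, ht, add_sub_cancel _ _⟩
  refine ⟨?_, hsurj⟩
  rw [← LinearMap.ker_eq_bot, eq_bot_iff]
  refine eq_top_of_smul hI _ _ fun m hm => Submodule.mem_sup_right ?_
  have h0 : m ∈ I • (⊤ : Submodule A M) := (e m).1 (hf.1 (by
    rw [LinearMap.baseChange_tmul, LinearMap.mem_ker.1 hm, TensorProduct.tmul_zero, map_zero]))
  obtain ⟨l, a, x, ha, hax⟩ := exists_sum_of_mem I h0
  have hrel : ∑ j, a j • f (x j) = 0 := by
    simp only [← map_smul, ← map_sum, hax]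
    exact hm
  obtain ⟨κ, c, y, hy, hc⟩ := Module.Flat.isTrivialRelation_of_sum_smul_eq_zero hrel
  choose z hz using fun k => hsurj (y k)
  have hm2 : m = ∑ j, a j • (x j - ∑ k, c j k • z k) := by
    simp only [smul_sub, Finset.sum_sub_distrib, hax, Finset.smul_sum, smul_smul]
    rw [Finset.sum_comm]
    simp only [← Finset.sum_smul, hc, zero_smul, Finset.sum_const_zero, sub_zero]
  rw [hm2]
  refine Submodule.sum_mem _ fun j _ => Submodule.smul_mem_smul (ha j) ?_
  simp [LinearMap.mem_ker, hy j, hz]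

end Groth.Agent.S16707
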