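import Groth.Statements.S16708
import Groth.Agent.ComodLib.Integral
-- import your own Groth.Agent.* helpers here

set_option autoImplicit false
universe u
open HopfRep

namespace Groth.Agent.S16708

/-- Let G be a finite group and k a field in which the order of G is a nonzero element. Then the
constant group scheme of G over k is linearly reductive: every finite-dimensional comodule over its
coordinate Hopf algebra (the algebra of functions G → k with the Hopf structure of the constant
group) is semisimple, i.e. every subcomodule admits a complementary subcomodule. -/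
theorem result (k : Type u) [Field k] (G : Type u) [Group G]
    [Fintype G] [DecidableEq G] (hG : ((Fintype.card G : ℕ) : k) ≠ 0) :
    HopfRep.IsLinearlyReductive k (ConstGrp.F k G) := by
  classical
  let α : ConstGrp.F k G →ₗ[k] k := ((Fintype.card G : ℕ) : k)⁻¹ • ∑ g : G, (ConstGrp.ev k g).toLinearMap
  have hαe : ∀ g : G, α (ConstGrp.e k g) = ((Fintype.card G : ℕ) : k)⁻¹ := fun g => by
    simp [α, LinearMap.sum_apply, ConstGrp.e_apply]
  refine Groth.Agent.ComodLib.isLinearlyReductive_of_integral (α := α) (fun f => ?_) ?_
  · refine LinearMap.congr_fun (f := α.rTensor _ ∘ₗ Coalgebra.comul (R := k))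
      (g := (TensorProduct.mk k k (ConstGrp.F k G)).flip 1 ∘ₗ α) (ConstGrp.linearMap_ext fun g => ?_) f
    simp only [LinearMap.comp_apply, LinearMap.flip_apply, TensorProduct.mk_apply, ConstGrp.comul_e, map_sum,
      LinearMap.rTensor_tmul, hαe, ← TensorProduct.tmul_sum]
    congr 1
    exact (Fintype.sum_equiv ((Equiv.inv G).trans (Equiv.mulRight g)) _ (fun a => ConstGrp.e k a) fun a => rfl).trans
      ConstGrp.sum_e
  · simp [α, LinearMap.sum_apply, hG]

end Groth.Agent.S16708
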