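import Groth.Statements.S1671
import Groth.Agent.CurveGor.Sum

set_option autoImplicit false
universe u
open CategoryTheory CategoryTheory.Limits AlgebraicGeometry
attribute [local instance] HasDerivedCategory.standard
open Curves

namespace Groth.Agent.S1671
set_option backward.isDefEq.respectTransparency false
set_option backward.isDefEq.respectTransparency.types false
set_option synthInstance.maxHeartbeats 200000
set_option maxHeartbeats 2000000
attribute [local instance] HasDerivedCategory.standard
open Groth.Agent.CurveGor in


/-- Let X be proper of dimension one over k with global functions k and at-worst-nodal singularities,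
ω_X its dualizing module (degree -1 cohomology sheaf of f^! O for f : X → Spec k, assuming Rf_* on
D_QCoh and its right adjoint exist), and C ⊆ X a rational tail, viewed as a reduced closed
subscheme. Then the restriction of ω_X to C has negative degree (over k). -/
theorem result (k : Type u) [Field k] (X : Scheme.{u}) [X.Over (Spec (CommRingCat.of k))] [IsProper (X ↘ (Spec (CommRingCat.of k)))] (hdim : topologicalKrullDim X = 1)
    (h0 : Module.finrank k (Coh.HH X (Coh.structureModule X) 0) = 1) (hX : Curv2.AtWorstNodal k X)
    [DCoh.HasRpush (X ↘ (Spec (CommRingCat.of k)))] (h : DCoh.RpushPreservesQCoh (X ↘ (Spec (CommRingCat.of k)))) [DCoh.HasShriek (X ↘ (Spec (CommRingCat.of k))) h]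
    (OY : DCoh.DQCoh (Spec (CommRingCat.of k))) (hOY : Nonempty (OY.obj ≅ DCoh.inD (Spec (CommRingCat.of k)) (Coh.structureModule (Spec (CommRingCat.of k)))))
    (C : Set X) (hC : C ∈ irreducibleComponents (X : Type u)) (hCt : Curv2.IsRationalTail X C hC) :
    @Curv2.deg k _ (Scheme.IdealSheafData.vanishingIdeal ⟨C, isClosed_of_mem_irreducibleComponents C hC⟩).subscheme
        ⟨(Scheme.IdealSheafData.vanishingIdeal ⟨C, isClosed_of_mem_irreducibleComponents C hC⟩).subschemeι ≫ (X ↘ (Spec (CommRingCat.of k)))⟩
        ((Scheme.Modules.pullback (Scheme.IdealSheafData.vanishingIdeal ⟨C, isClosed_of_mem_irreducibleComponents C hC⟩).subschemeι).obj (DCoh.dualizingMod (X ↘ (Spec (CommRingCat.of k))) h OY 1)) 1 < 0 := by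
  classical
  haveI := Groth.Agent.CurveCohLib.isNoetherian_of_proper (k := k) (X := X)
  haveI := Groth.Agent.CurveBC.connectedSpace_of_h0 k X h0
  haveI := isReduced_of_nodal (k := k) hdim hX
  obtain ⟨t, ht, -⟩ := Groth.Agent.CurveDual.exists_dual hdim.le h OY hOY
  have hi := isInvertible_dualizing_of_nodal' hdim h0 hX h OY hOY
  have hgen := notClosed_of_generic (k := k) hdim
  generalize DCoh.dualizingMod (X ↘ (Spec (CommRingCat.of k))) h OY 1 = ω at t ht hi ⊢
  have hC' := isClosed_of_mem_irreducibleComponents C hC
  obtain ⟨hu, hg, hk⟩ := of_isRationalTail (k := k) hdim.le hC hCt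
  obtain ⟨a, ha, hka, -⟩ := exists_kY_mul (k := k) hdim.le hC' hC.1.isConnected hu
  have h1 := one_le_kY (k := k) hdim.le hC' hC.1.nonempty hu
  have hc : IsCompUnion C := fun x hx => by
    have e := hC.1.closure_genericPoint hC'
    exact ⟨_, by show closure _ ∈ irreducibleComponents (X : Type u); rw [e]; exact hC,
      e.subset (subset_closure (Set.mem_singleton _)), specializes_iff_mem_closure.2 (e.symm.subset hx)⟩
  show Groth.Agent.TFOneX.degOn k ω 1 C hC' < 0
  rw [degOn_dualizing_parts hdim.le hgen ht hi hC' hc, hg, hk]
  rw [hk] at h1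
  omega


end Groth.Agent.S1671
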