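import Groth.Statements.S16710
import Groth.Agent.Nakai.SemiAmple
import Groth.Agent.AmpleX.Generated

set_option autoImplicit false
set_option backward.isDefEq.respectTransparency false
set_option backward.isDefEq.respectTransparency.types false
set_option linter.style.haveILetI false
set_option linter.unusedSectionVars false
set_option maxHeartbeats 400000
universe u
open CategoryTheory CategoryTheory.Limits AlgebraicGeometry TopologicalSpace
open Variety

namespace Groth.Agent.S16710

open Groth.Agent.H23
attribute [local instance] PicMul.clMonoid

/-- Let X be a proper scheme over a field k and L an invertible O_X-module. Then L is ample if and only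
if (i) L is strictly nef, meaning χ(O_C ⊗ L) - χ(O_C) > 0 for every integral closed subscheme C ⊆ X
of dimension one, and (ii) L is semiample, meaning some positive tensor power of L is generated by
its global sections (is a quotient of a free O_X-module). -/
theorem result (k : Type u) [Field k] (X : Scheme.{u})
    [X.Over (Spec (CommRingCat.of k))] [IsProper (X ↘ (Spec (CommRingCat.of k)))]
    (L : X.Modules) (hL : PicF.IsInvertible L) :
    CohB1.IsAmple L ↔
      ((∀ C : X.IdealSheafData, IsIntegral C.subscheme →
          topologicalKrullDim (C.support : Set X) = 1 →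
            0 < Curv2.euler k X (CohB1.tensorMod (ClSub.quotMod C) L) - Curv2.euler k X (ClSub.quotMod C)) ∧
        ∃ m : ℕ, Curv2.IsGloballyGenerated (CohB1.tensorPow L (m + 1))) := by
  refine ⟨fun hA => ⟨fun C hC hd => ?_, ?_⟩, fun ⟨hnef, m, hm⟩ => Nakai.isAmple_of_semiample k hL hnef hm⟩
  · haveI := hC
    let i := C.subschemeι
    letI : C.subscheme.Over (Spec (CommRingCat.of k)) := ⟨i ≫ (X ↘ (Spec (CommRingCat.of k)))⟩
    haveI : IsProper (C.subscheme ↘ Spec (CommRingCat.of k)) :=
      inferInstanceAs (IsProper (i ≫ (X ↘ Spec (CommRingCat.of k))))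
    have hd1 : topologicalKrullDim C.subscheme = 1 := by
      rw [IsHomeomorph.topologicalKrullDim_eq _
        ((i.isEmbedding.toHomeomorph).trans (Homeomorph.setCongr C.range_subschemeι)).isHomeomorph, hd]
    rw [Nakai.euler_sub_eq_deg k hL C]
    haveI := CurveCohLib.isNoetherian_of_proper (k := k) (X := C.subscheme)
    exact CurveAmple.deg_pos_of_ample (k := k) hd1
      (AmpleVan.isAmple_pullback_of_isEmbedding i i.isEmbedding hA)
  · haveI := CurveCohLib.isNoetherian_of_proper (k := k) (X := X)
    haveI : X.IsSeparated := AmpleVan.isSeparated_of_proper (A := k)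
    obtain ⟨n, hn, h⟩ := AmpleX.eventually_ample_tensor hA hL
    exact ⟨n, (h n le_rfl).2⟩

end Groth.Agent.S16710
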