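import Groth.Statements.S16714
import Groth.Agent.NefSpec.Spread
import Groth.Agent.Pic13Lib.IntNum

set_option autoImplicit false
universe u
open CategoryTheory CategoryTheory.Limits AlgebraicGeometry TopologicalSpace
open Variety

set_option backward.isDefEq.respectTransparency false
set_option backward.isDefEq.respectTransparency.types false
set_option linter.style.haveILetI false

namespace Groth.Agent.S16714

/-- The two ways of writing nefness agree. -/
theorem nefE_iff {k : Type u} [Field k] {W : Scheme.{u}} (f : W ⟶ Spec (CommRingCat.of k)) [IsProper f]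
    {L : W.Modules} (hL : PicF.IsInvertible L) :
    Groth.Agent.NefSpec.NefE k W f L ↔
      ∀ C : W.IdealSheafData, IsIntegral C.subscheme → topologicalKrullDim (C.support : Set W) = 1 →
        0 ≤ @Curv2.euler k _ W ⟨f⟩ (CohB1.tensorMod (ClSub.quotMod C) L) -
          @Curv2.euler k _ W ⟨f⟩ (ClSub.quotMod C) := by
  letI : W.Over (Spec (CommRingCat.of k)) := ⟨f⟩
  haveI : IsProper (W ↘ Spec (CommRingCat.of k)) := ‹IsProper f›
  have key : ∀ (Y : Scheme.{u}) (i : Y ⟶ W) [IsClosedImmersion i],
      Curv2.euler k W (CohB1.tensorMod (ClSub.quotMod i.ker) L) =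
        @Curv2.euler k _ Y ⟨i ≫ f⟩ ((Scheme.Modules.pullback i).obj L) ∧
      Curv2.euler k W (ClSub.quotMod i.ker) = @Curv2.euler k _ Y ⟨i ≫ f⟩ (Coh.structureModule Y) := by
    intro Y i _
    letI : Y.Over (Spec (CommRingCat.of k)) := ⟨i ≫ f⟩
    haveI := CurveCohLib.isNoetherian_of_proper (k := k) (X := W)
    haveI : IsLocallyNoetherian Y := LocallyOfFiniteType.isLocallyNoetherian i
    obtain ⟨q⟩ := DivisorExt.nonempty_quotMod_iso i
    obtain ⟨e⟩ := AmpleVan.RelVanish.tensor_congr q (Iso.refl L)
    exact ⟨(CurveCohLib.euler_congr (k := k) e).trans (Pic13Lib.euler_push_tensor i L hL),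
      (CurveCohLib.euler_congr (k := k) q).trans (Pic13Lib.euler_push i rfl QCoh.isCoh_structureModule'.1)⟩
  constructor
  · intro h C hC hd
    have hr : Set.range C.subschemeι = (C.support : Set W) := C.range_subschemeι
    have hdim : topologicalKrullDim C.subscheme = 1 := by
      rw [C.subschemeι.isClosedEmbedding.isEmbedding.toHomeomorph.isHomeomorph.topologicalKrullDim_eq, hr, hd]
    obtain ⟨h1, h2⟩ := key C.subscheme C.subschemeι
    rw [Scheme.IdealSheafData.ker_subschemeι] at h1 h2
    rw [h1, h2]
    exact h C.subscheme C.subschemeι hC hdim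
  · intro h Y i _ hY hd
    obtain ⟨h1, h2⟩ := key Y i
    haveI := hY
    haveI : Nonempty i.image := ⟨i.toImage (genericPoint Y)⟩
    haveI : IsIntegral i.ker.subscheme := isIntegral_of_isOpenImmersion (inv i.toImage)
    have hs : (i.ker.support : Set W) = Set.range i := by
      rw [Scheme.Hom.support_ker]
      exact i.isClosedEmbedding.isClosed_range.closure_eq
    have := h i.ker inferInstance (by
      rw [hs, ← i.isClosedEmbedding.isEmbedding.toHomeomorph.isHomeomorph.topologicalKrullDim_eq, hd])
    rwa [h1, h2] at this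


/-- Let R be a discrete valuation ring, p : X → Spec R a proper flat morphism and L an invertible
O_X-module. If the restriction L_0 of L to the closed fibre X_0 is nef (χ(O_C ⊗ L_0) - χ(O_C) ≥ 0
for every integral closed subscheme C ⊆ X_0 of dimension one, computed over the residue field), then
the restriction L_η to the generic fibre X_η is nef over the fraction field in the same sense. -/
theorem result (R : Type u) [CommRing R] [IsDomain R]
    [IsDiscreteValuationRing R] (X : Scheme.{u}) (p : X ⟶ Spec (CommRingCat.of R)) [IsProper p] [Flat p]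
    (L : X.Modules) (hL : PicF.IsInvertible L)
    (h0 : ∀ C : (p.fiber (IsLocalRing.closedPoint R)).IdealSheafData, IsIntegral C.subscheme →
        topologicalKrullDim (C.support : Set ↥(p.fiber (IsLocalRing.closedPoint R))) = 1 →
          0 ≤ @Curv2.euler ((Spec (CommRingCat.of R)).residueField (IsLocalRing.closedPoint R)) _ (p.fiber (IsLocalRing.closedPoint R)) ⟨p.fiberToSpecResidueField (IsLocalRing.closedPoint R)⟩
                (CohB1.tensorMod (ClSub.quotMod C) ((Scheme.Modules.pullback (p.fiberι (IsLocalRing.closedPoint R))).obj L)) -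
              @Curv2.euler ((Spec (CommRingCat.of R)).residueField (IsLocalRing.closedPoint R)) _ (p.fiber (IsLocalRing.closedPoint R)) ⟨p.fiberToSpecResidueField (IsLocalRing.closedPoint R)⟩ (ClSub.quotMod C)) :
    ∀ C' : (p.fiber (⟨⊥, Ideal.isPrime_bot⟩ : PrimeSpectrum R)).IdealSheafData, IsIntegral C'.subscheme →
        topologicalKrullDim (C'.support : Set ↥(p.fiber (⟨⊥, Ideal.isPrime_bot⟩ : PrimeSpectrum R))) = 1 →
          0 ≤ @Curv2.euler ((Spec (CommRingCat.of R)).residueField (⟨⊥, Ideal.isPrime_bot⟩ : PrimeSpectrum R)) _ (p.fiber (⟨⊥, Ideal.isPrime_bot⟩ : PrimeSpectrum R)) ⟨p.fiberToSpecResidueField (⟨⊥, Ideal.isPrime_bot⟩ : PrimeSpectrum R)⟩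
                (CohB1.tensorMod (ClSub.quotMod C') ((Scheme.Modules.pullback (p.fiberι (⟨⊥, Ideal.isPrime_bot⟩ : PrimeSpectrum R))).obj L)) -
              @Curv2.euler ((Spec (CommRingCat.of R)).residueField (⟨⊥, Ideal.isPrime_bot⟩ : PrimeSpectrum R)) _ (p.fiber (⟨⊥, Ideal.isPrime_bot⟩ : PrimeSpectrum R)) ⟨p.fiberToSpecResidueField (⟨⊥, Ideal.isPrime_bot⟩ : PrimeSpectrum R)⟩ (ClSub.quotMod C') := by
  haveI : IsProper (p.fiberToSpecResidueField (IsLocalRing.closedPoint R)) :=
    MorphismProperty.pullback_snd p _ ‹IsProper p›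
  haveI : IsProper (p.fiberToSpecResidueField (⟨⊥, Ideal.isPrime_bot⟩ : PrimeSpectrum R)) :=
    MorphismProperty.pullback_snd p _ ‹IsProper p›
  exact (nefE_iff _ (PicClLib.isInvertible_pullback _ hL)).1
    (Groth.Agent.NefSpec.nef_generic p L hL ((nefE_iff _ (PicClLib.isInvertible_pullback _ hL)).2 h0))

end Groth.Agent.S16714
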