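import Groth.Statements.S16717
import Groth.Agent.ComodLib.Criterion
-- import your own Groth.Agent.* helpers here

set_option autoImplicit false
universe u v
open HopfRep

namespace Groth.Agent.S16717

open TensorProduct in
/-- Equivalence of the exactness of invariants with complete reducibility of finite-dimensional
representations. Let k be a field and A a finitely generated commutative Hopf algebra over k (the
coordinate ring of an affine algebraic group G). Then every finite-dimensional A-comodule is
semisimple if and only if taking fixed vectors is exact, i.e. for every surjective comodule map φ :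
V → W between A-comodules (of any dimension; φ k-linear with (φ ⊗ id) ∘ ρ_V = ρ_W ∘ φ) every fixed
vector of W is the image of a fixed vector of V. -/
theorem result (k : Type u) [Field k] (A : Type v)
    [CommRing A] [HopfAlgebra k A] (hA : Algebra.FiniteType k A) :
    HopfRep.IsLinearlyReductive k A ↔
      ∀ (V W : Type v) [AddCommGroup V] [Module k V] [HopfRep.Comod k A V]
        [AddCommGroup W] [Module k W] [HopfRep.Comod k A W] (φ : V →ₗ[k] W),
        LinearMap.rTensor A φ ∘ₗ HopfRep.Comod.coact (k := k) (A := A) (V := V) =
            HopfRep.Comod.coact (k := k) (A := A) (V := W) ∘ₗ φ →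
          Function.Surjective φ →
            ∀ w ∈ HopfRep.fixedPts k A W, ∃ v ∈ HopfRep.fixedPts k A V, φ v = w := by
  constructor
  · intro hG V W _ _ _ _ _ _ φ hφ hsurj w hw
    exact Groth.Agent.ComodLib.exists_fixedPt_lift
      (Groth.Agent.ComodLib.isSemisimpleComod_of_isLinearlyReductive hG) (f := φ) hφ.symm hsurj hw
  · intro h
    refine Groth.Agent.ComodLib.isLinearlyReductive_of_hasFixedVectors ?_
    intro V _ _ cV _ π hsurj hπ
    let L : Submodule k A := Submodule.span k {1}
    have h1 : (1 : A) ≠ 0 := fun h0 => by
      have h2 := congrArg (Coalgebra.counit (R := k)) h0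
      rw [Bialgebra.counit_one, map_zero] at h2
      exact one_ne_zero h2
    let e : k ≃ₗ[k] L := LinearEquiv.toSpanNonzeroSingleton k A 1 h1
    letI c : HopfRep.Comod k A L := ComodTens.Comod.ofEquiv e (HopfRep.Comod.trivial k A k)
    have hc : ∀ r : k, c.coact (e r) = e r ⊗ₜ[k] (1 : A) := fun r => by
      rw [ComodTens.ofEquiv_coact_apply]
      rfl
    obtain ⟨v, hv, hφ⟩ := h V L (e.toLinearMap ∘ₗ π) (by
      rw [LinearMap.rTensor_comp, LinearMap.comp_assoc, hπ]
      refine LinearMap.ext fun x => ?_
      simp only [LinearMap.comp_apply, LinearMap.flip_apply, TensorProduct.mk_apply, LinearMap.rTensor_tmul]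
      exact (hc (π x)).symm) (e.surjective.comp hsurj) (e 1) (hc 1)
    exact ⟨v, hv, by rw [e.injective hφ]; exact one_ne_zero⟩

end Groth.Agent.S16717
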