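import Groth.Statements.S16719
import Groth.Agent.QCoh.FlatExchange
import Groth.Agent.H9Misc.HomologyProd

set_option autoImplicit false
universe u
open CategoryTheory CategoryTheory.Limits AlgebraicGeometry
open CohIII

open Groth.Agent.H9Misc

namespace Groth.Agent.S16719

/-- The first of its three functors. Let A be a Noetherian ring, X a proper scheme over Spec A and F a
coherent O_X-module flat over A. Then for every p the functor M ↦ H^p(X, F ⊗_A M) from A-modules to
abelian groups (F ⊗_A M = F ⊗_{O_X} f^*M~ for the structure morphism f) commutes with arbitrary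
products: it preserves limits of shape a discrete category, i.e. the canonical map H^p(X, F ⊗_A ∏
M_α) → ∏ H^p(X, F ⊗_A M_α) is an isomorphism. (The published statement is for a flat proper X over
an arbitrary ring A and states the same for two Ext functors; this row assumes A Noetherian, does
not assume X flat over A, and states only the cohomology functor.) -/
theorem result (A : Type u) [CommRing A] [IsNoetherianRing A]
    (X : Scheme.{u}) [X.Over (Spec (CommRingCat.of A))] [IsProper (X ↘ (Spec (CommRingCat.of A)))]
    (F : X.Modules) (hF : Coh.IsCoh F) (hflat : FlatMod.IsFlatOver (X ↘ (Spec (CommRingCat.of A))) F)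
    (p : ℕ) (J : Type u) :
    PreservesLimitsOfShape (Discrete J) (CohIII.tensorAFunctor A F ⋙ CohIII.HAb X p) := by
  obtain ⟨P, hfin, hfree, -, h3, -⟩ := Groth.Agent.QCoh.exists_chain_model F hF hflat
  obtain ⟨e⟩ := h3 p
  let G : ModuleCat.{u} A ⥤ ChainComplex (ModuleCat.{u} A) ℤ :=
    { obj := fun M => CohIII.tensorObj P M
      map := fun g => CohIII.tensorMap P g
      map_id := fun M => HomologicalComplex.hom_ext _ _ fun i => (MonoidalCategory.tensorLeft (P.X i)).map_id M
      map_comp := fun g h => HomologicalComplex.hom_ext _ _ fun i => (MonoidalCategory.tensorLeft (P.X i)).map_comp g h }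
  haveI : ∀ i, PreservesLimitsOfShape (Discrete J) (G ⋙ HomologicalComplex.eval _ _ i) := fun i => by
    haveI := hfin i
    haveI := hfree i
    haveI := HomologyProd.preservesLimits_tensorLeft (P.X i) (J := Discrete J)
    exact preservesLimitsOfShape_of_natIso
      (NatIso.ofComponents (fun M => Iso.refl _) (fun g => (Category.comp_id _).trans (Category.id_comp _).symm) :
        MonoidalCategory.tensorLeft (P.X i) ≅ G ⋙ HomologicalComplex.eval _ _ i)
  haveI : PreservesLimitsOfShape (Discrete J) G :=
    HomologicalComplex.preservesLimitsOfShape_of_eval G inferInstance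
  haveI := HomologyProd.preservesLimitsOfShape_complexHomology (C := ModuleCat.{u} A) (J := Discrete J)
    (ComplexShape.down ℤ) (-(p : ℤ))
  haveI : PreservesLimitsOfShape (Discrete J) (CohIII.TFun P (-(p : ℤ))) :=
    preservesLimitsOfShape_of_natIso
      (NatIso.ofComponents (fun M => Iso.refl _) (fun g => (Category.comp_id _).trans (Category.id_comp _).symm) :
        G ⋙ HomologicalComplex.homologyFunctor _ _ (-(p : ℤ)) ≅ CohIII.TFun P (-(p : ℤ)))
  exact preservesLimitsOfShape_of_natIso e

end Groth.Agent.S16719
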