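import Groth.Statements.S16722
import Groth.Agent.FCov14.BandedStack
import Groth.Agent.AlgStLib.SpProps
import Groth.Agent.AlgSpPts.Misc
import Groth.Agent.AlgSpLib.AffineDescProps

set_option backward.isDefEq.respectTransparency false
set_option backward.isDefEq.respectTransparency.types false
-- import your own Groth.Agent.* helpers here

set_option autoImplicit false
universe u
open Gerb

namespace Groth.Agent.S16722

open CategoryTheory AlgebraicGeometry in
/-- Let `X` be a quasi-separated scheme and `A` a commutative group scheme over `X` whose structure
morphism is flat, surjective, locally of finite presentation, quasi-compact and separated. Let `𝒳`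
be a category over `(Sch/X)` which is a gerbe for the big fppf topology (a stack in groupoids,
objects exist fppf-locally, and two objects over one scheme are fppf-locally both targets of
morphisms from a common object) and which is banded by `A`: the groups of automorphisms over
identities are identified with the groups of points of `A`, compatibly with every morphism of `𝒳`.
Then `𝒳` is an algebraic stack (fppf topology), its diagonal over `X` is representable by algebraic
spaces, quasi-compact and separated, and `𝒳 ⟶ (Sch/X)` is locally of finite presentation, read on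
one smooth chart square. The published statement allows any faithfully flat, locally finitely
presented group scheme `A` together with a cohomology class that the gerbe represents, and its
algebraic stacks are those with quasi-compact separated diagonal, over quasi-separated base schemes;
this row takes `X` quasi-separated and `A` commutative, quasi-compact and separated over `X`, and
replaces the class by a banding, which identifies the automorphism sheaves with `A` compatibly with
all morphisms. For a group scheme that is flat, surjective and locally of finite presentation but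
not quasi-compact over `X`, such as the constant group scheme on the integers, the classifying gerbe
has a diagonal that is not quasi-compact; the published proof's diagonal step uses that the sheaves
of isomorphisms are torsors under `A`, which are quasi-compact and separated when `A` is. -/
theorem result (X : Scheme.{u}) [QuasiSeparatedSpace X] (A : Over X) [GrpObj A]
    [IsCommMonObj A] [Flat A.hom] [Surjective A.hom] [LocallyOfFinitePresentation A.hom]
    [QuasiCompact A.hom] [IsSeparated A.hom]
    (𝒳 : AlgSt.Cat X) (h𝒳 : Gerb.IsGerbe (QuotSh.J Scheme.fppfPrecoverage X) 𝒳)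
    (β : Gerb.Banding 𝒳 (yonedaGrpObj A)) :
    AlgSt.IsAlgStack Scheme.fppfPrecoverage 𝒳 ∧
      AlgSt.RepByAlgSpWith (AlgSp.IsQuasiCompactMor ⊓ AlgSp.IsSeparatedMor) (FibCat.diag (FibCat.toSelf 𝒳)) ∧
      AlgSt.LocQ (AlgSp.LocP @LocallyOfFinitePresentation) (FibCat.toSelf 𝒳) :=  by
  obtain ⟨hst, hg⟩ := h𝒳
  have hst' := Groth.Agent.FCov14.isStack_up (𝒳 := 𝒳) hst
  have hg' := Groth.Agent.FCov14.isGerbeOver_up (𝒳 := 𝒳) hg
  have β' := Groth.Agent.FCov14.upBanding β
  have hk := Groth.Agent.FCov14.upFun_isEquivOver 𝒳
  obtain ⟨h₁, h₂⟩ := Groth.Agent.FCov14.Banded.isAlgStack_and_locQ_lfp β' hst' hg'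
  refine ⟨Groth.Agent.FCov14.Het.isAlgStack hk h₁, ?_, Groth.Agent.FCov14.locQ_toSelf_of_isEquivOver hk h₂⟩
  refine Groth.Agent.FCov14.Het.repByAlgSpWith_diag hk ?_
  refine Groth.Agent.FCov14.Banded.repByAlgSpWith_diag β' (Groth.Agent.FCov14.isPrestack hst') hg'.2
    (Groth.Agent.AlgStLib.stableBC_inf Groth.Agent.AlgStLib.stableBC_isQuasiCompactMor
      Groth.Agent.AlgStLib.stableBC_isSeparatedMor)
    (Groth.Agent.AlgStLib.isLocalOnBase_inf
      (Groth.Agent.AlgStLib.isLocalOnBase_fppf_of_fpqc Groth.Agent.AlgSpLib.isLocalOnBase_fpqc_isQuasiCompactMor)
      Groth.Agent.AlgStLib.isLocalOnBase_isSeparatedMor) fun V => ?_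
  exact ⟨Groth.Agent.AlgSpPts.isQuasiCompactMor_of_repWith ((AlgSp.repWith_yon_map_iff _ _).2
      (Groth.Agent.QuotLib.flat_snd (R := @QuasiCompact) ‹QuasiCompact A.hom› V)),
    Groth.Agent.AlgSpLib.isSeparatedMor_of_repWith ((AlgSp.repWith_yon_map_iff _ _).2
      (Groth.Agent.QuotLib.flat_snd (R := @IsSeparated) ‹IsSeparated A.hom› V))⟩
end Groth.Agent.S16722
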