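import Groth.Statements.S1673
import Groth.Agent.CurveGor.GenusOne
import Groth.Agent.CurveGor.Pluri
import Groth.Agent.CurveGor.Existence
import Groth.Agent.S6576

set_option autoImplicit false
universe u
open CategoryTheory CategoryTheory.Limits AlgebraicGeometry
attribute [local instance] HasDerivedCategory.standard
open Curves

namespace Groth.Agent.S1673
set_option backward.isDefEq.respectTransparency false
set_option backward.isDefEq.respectTransparency.types false
set_option synthInstance.maxHeartbeats 200000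
set_option maxHeartbeats 2000000
attribute [local instance] HasDerivedCategory.standard
attribute [local instance] Groth.Agent.CurveBC.overBar
open Groth.Agent Groth.Agent.CurveGor TFOneX in


/-- Let X be proper of dimension one over k with global functions k, at-worst-nodal singularities and no
rational tail, and ω_X its dualizing module (via f^! O, assuming Rf_* on D_QCoh and its right
adjoint exist). In genus 1, ω_X ≅ O_X; in genus at least 2, every tensor power ω_X^{⊗m} with m ≥ 2
is globally generated. -/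
theorem result (k : Type u) [Field k] (X : Scheme.{u}) [X.Over (Spec (CommRingCat.of k))] [IsProper (X ↘ (Spec (CommRingCat.of k)))] (hdim : topologicalKrullDim X = 1)
    (h0 : Module.finrank k (Coh.HH X (Coh.structureModule X) 0) = 1) (hX : Curv2.AtWorstNodal k X) (hnt : ∀ (C : Set X) (hC : C ∈ irreducibleComponents (X : Type u)), ¬ Curv2.IsRationalTail X C hC)
    [DCoh.HasRpush (X ↘ (Spec (CommRingCat.of k)))] (h : DCoh.RpushPreservesQCoh (X ↘ (Spec (CommRingCat.of k)))) [DCoh.HasShriek (X ↘ (Spec (CommRingCat.of k))) h]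
    (OY : DCoh.DQCoh (Spec (CommRingCat.of k))) (hOY : Nonempty (OY.obj ≅ DCoh.inD (Spec (CommRingCat.of k)) (Coh.structureModule (Spec (CommRingCat.of k))))) :
    (Curv2.genus k X = 1 → Nonempty ((DCoh.dualizingMod (X ↘ (Spec (CommRingCat.of k))) h OY 1) ≅ Coh.structureModule X)) ∧
      (2 ≤ Curv2.genus k X → ∀ m : ℕ, 2 ≤ m → Curv2.IsGloballyGenerated (CohB1.tensorPow (DCoh.dualizingMod (X ↘ (Spec (CommRingCat.of k))) h OY 1) m)) := by
  classical
  haveI := CurveCohLib.isNoetherian_of_proper (k := k) (X := X)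
  haveI := CurveBC.connectedSpace_of_h0 k X h0
  haveI := isReduced_of_nodal (k := k) hdim hX
  obtain ⟨t, ht, -⟩ := CurveDual.exists_dual hdim.le h OY hOY
  have hi := isInvertible_dualizing_of_nodal' hdim h0 hX h OY hOY
  have hgen := notClosed_of_generic (k := k) hdim
  have hχ : Curv2.euler k X (Coh.structureModule X) = 1 - (Curv2.genus k X : ℤ) := by
    rw [NefH1.euler_eq k hdim.le QCoh.isQCoh_structureModule, h0]
    rfl
  refine ⟨fun hg => ?_, fun hg m hm => ?_⟩
  · generalize DCoh.dualizingMod (X ↘ (Spec (CommRingCat.of k))) h OY 1 = ω at t ht hi ⊢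
    refine nonempty_iso_structure hdim.le hgen ht hi hnt ?_ (by rw [hχ, hg]; rfl)
    show Curv2.genus k X ≠ 0
    omega
  let K := AlgebraicClosure k
  let X' := Curv2.bc k X K
  let π : X' ⟶ X := Curv2.bcFst k X K
  have hpb := CurveBC.isPullback_bar k X
  haveI : IsProper (X' ↘ Spec (CommRingCat.of K)) := CurveBC.isProper k K π hpb
  haveI : IsProper (Curv2.bcSnd k X K) := CurveBC.isProper k K π hpb
  haveI := CurveCohLib.isNoetherian_of_proper (k := K) (X := X')
  have hdim' : topologicalKrullDim X' = 1 := CurveBC.topologicalKrullDim_eq k K π hpb hdim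
  haveI := CurveBC.connectedSpace_of_h0 K X' (CurveBC.finrank_h0 k K π hpb h0)
  have hN := NodeFam.NodalCurve.bc (f := X ↘ Spec (CommRingCat.of k)) ⟨equidim (k := k) hdim, hX⟩ K
  have hX' : Curv2.AtWorstNodal K X' := hN.2
  haveI := isReduced_of_nodal (k := K) hdim' hX'
  obtain ⟨hflat, hsurj⟩ := CurveBC.flat_surjective k K π hpb
  haveI := hflat; haveI := hsurj
  haveI : IsAffineHom π := MorphismProperty.of_isPullback hpb.flip (inferInstance :
    IsAffineHom (Spec.map (CommRingCat.ofHom (algebraMap k K))))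
  haveI : DCoh.HasRpush (Curv2.bcSnd k X K) := KFlatLib.hasRpush_scheme _
  have hK : DCoh.RpushPreservesQCoh (Curv2.bcSnd k X K) := fun F hF => S0998.result _ F hF
  haveI : DCoh.HasShriek (Curv2.bcSnd k X K) hK := S1766.result _ _ _ hK
  haveI : DCoh.HasRpush (X' ↘ Spec (CommRingCat.of K)) := ‹DCoh.HasRpush (Curv2.bcSnd k X K)›
  haveI : DCoh.HasShriek (X' ↘ Spec (CommRingCat.of K)) hK := ‹DCoh.HasShriek (Curv2.bcSnd k X K) hK›
  let OK : DCoh.DQCoh (Spec (CommRingCat.of K)) := ⟨DCoh.inD _ (Coh.structureModule _), RelPC17.isQCohD_structure⟩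
  obtain ⟨e⟩ := S6576.result k X hdim.le h OY hOY K hK OK ⟨Iso.refl _⟩
  obtain ⟨t', ht', -⟩ := CurveDual.exists_dual (X := X') hdim'.le hK OK ⟨Iso.refl _⟩
  have hi' : PicF.IsInvertible (DCoh.dualizingMod (Curv2.bcSnd k X K) hK OK 1) :=
    isInvertible_dualizing_of_nodal (X := X') hdim' hX' hK OK ⟨Iso.refl _⟩
  generalize DCoh.dualizingMod (X ↘ (Spec (CommRingCat.of k))) h OY 1 = ω at t ht hi e ⊢
  have e' : (Scheme.Modules.pullback π).obj ω ≅ DCoh.dualizingMod (X' ↘ Spec (CommRingCat.of K)) hK OK 1 := e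
  have hnn : ∀ η ∈ genericPoints (X : Type u),
      0 ≤ degOn k ω 1 (closure ({η} : Set X)) isClosed_closure := fun η hη => by
    by_cases hu : closure ({η} : Set X) = Set.univ
    · simp only [hu]
      rw [degOn_univ k hdim.le (InvEnd.isFinLocFreeOfRank_one hi), deg_dualizing hdim.le hgen ht hi, hχ]
      omega
    · exact degOn_component_nonneg hdim.le hgen ht hi hnt hη hu
  have hnn' : ∀ η ∈ genericPoints (X' : Type u),
      0 ≤ degOn K (DCoh.dualizingMod (X' ↘ Spec (CommRingCat.of K)) hK OK 1) 1 (closure ({η} : Set X')) isClosed_closure := fun η hη => by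
    rw [← degOn_congr e' (PicClLib.isInvertible_pullback π hi) isClosed_closure]
    exact degOn_pullback_nonneg K π hdim.le hgen hdim'.le (notClosed_of_generic (k := K) hdim') hi hnn hη
  have hgg := isGloballyGenerated_pow K hdim' hX' (by rw [CurveBC.genus_eq k K π hpb]; exact hg) ht' hi' hnn' m hm
  have hMc := CurveDeg.isCoh_of_isInvertible (H23.PicMul.isInvertible_tensorPow hi m)
  refine CurveBC.isGloballyGenerated_of_pullback k K π hpb hMc.1 (S0002.result k X _ hMc 0)
    (S0002.result K X' _ (CurveDeg.isCoh_of_isInvertible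
      (PicClLib.isInvertible_pullback π (H23.PicMul.isInvertible_tensorPow hi m))) 0) ?_
  obtain ⟨e₁⟩ := AmpleVan.RelVanish.pullback_tensorPow π ω m
  obtain ⟨e₂⟩ := AmpleVan.RelVanish.tensorPow_congr e' m
  exact AmpleX.isGloballyGenerated_of_iso (e₁ ≪≫ e₂).symm hgg


end Groth.Agent.S1673
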