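import Groth.Statements.S16737
import Groth.Agent.SmallFlat.Alg

set_option autoImplicit false
universe u v
open DeRham

namespace Groth.Agent.S16737

/-- The case of affine space over an affine base of characteristic p, in degree zero. Let p be a prime
and R a commutative ring with p = 0 in R. For a polynomial f over R in any set of variables t_i, the
Kähler differential df in Ω_{R[t]/R} vanishes if and only if f is a polynomial in the p-th powers of
the variables, f = g(t_i^p). Equivalently, the functions on affine space over R killed by the
differential of the de Rham complex are exactly the functions on its Frobenius twist. (The published
computation is for finitely many variables over a noetherian base of characteristic p; the statement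
here allows any commutative ring with p = 0 and any set of variables.) -/
theorem result (p : ℕ) [Fact p.Prime]
    (R : Type u) [CommRing R] [CharP R p] (σ : Type v) (f : MvPolynomial σ R) :
    KaehlerDifferential.D R (MvPolynomial σ R) f = 0 ↔
      ∃ g : MvPolynomial σ R, f = MvPolynomial.expand p g := by
  exact Groth.Agent.SmallFlat.kaehlerD_eq_zero_iff p R σ f

end Groth.Agent.S16737
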