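import Groth.Statements.S16742
import Groth.Agent.ArtFlat.Regular
import Groth.Agent.LocalCrit.Flatness
import Mathlib.RingTheory.Ideal.Quotient.Operations
import Mathlib.Data.ZMod.Basic

set_option autoImplicit false
universe u
open CAlg

namespace Groth.Agent.S16742
open TensorProduct

/-- The equivalence in affine form, with flatness of the reduction in place of smoothness. Let p be a
prime, A~ a commutative ring flat over Z/p^2 and B~ an A~-algebra such that B~/pB~ is flat over
A~/pA~. Then B~ is flat over A~ if and only if every element of B~ killed by p is a multiple of p;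
equivalently multiplication by p identifies B~/pB~ with pB~. (The published statement assumes the
reduction smooth over A~/pA~ and the schemes noetherian, and phrases (b) as B~ being a lifting, that
is flat over A~; the statement here assumes only that the reduction is flat, where the equivalence
still holds by the local flatness criterion for the square-zero ideal generated by p.) -/
theorem result (p : ℕ) [Fact p.Prime]
    (Al : Type u) [CommRing Al] [Algebra (ZMod (p ^ 2)) Al] [Module.Flat (ZMod (p ^ 2)) Al]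
    (Bl : Type u) [CommRing Bl] [Algebra Al Bl]
    (hB : Module.Flat (Al ⧸ Ideal.span {(p : Al)})
      (Bl ⧸ (Ideal.span {(p : Al)}).map (algebraMap Al Bl))) :
    Module.Flat Al Bl ↔ ∀ b : Bl, (p : Bl) * b = 0 → b ∈ Ideal.span {(p : Bl)} := by
  have hpp : ((p : Al)) * p = 0 := by
    have h : ((p : ZMod (p ^ 2)) * p) = 0 := by
      rw [← Nat.cast_mul, ← sq]
      exact ZMod.natCast_self _
    have h' := congrArg (algebraMap (ZMod (p ^ 2)) Al) h
    rwa [map_mul, map_natCast, map_zero] at h'
  -- annihilators of `p`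
  have hcol : ∀ (A : Type u) [CommRing A] (M : Type u) [AddCommGroup M] [Module A M] [Module.Flat A M] (a : A),
      (∀ c : A, c * a = 0 → c ∈ Ideal.span {a}) → ∀ x : M, a • x = 0 → x ∈ (Ideal.span {a} • ⊤ : Submodule A M) := by
    intro A _ M _ _ _ a ha x hx
    refine Submodule.smul_mono ?_ le_rfl (Groth.Agent.ArtFlat.mem_colon_smul (⊥ : Ideal A) a x (by simp [hx]))
    intro c hc
    rw [LinearMap.mem_ker, LinearMap.toSpanSingleton_apply, Algebra.smul_def] at hc
    exact ha c (by simpa using Ideal.Quotient.eq_zero_iff_mem.1 hc)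
  have hann : ∀ c : Al, c * (p : Al) = 0 → c ∈ Ideal.span {(p : Al)} := by
    intro c hc
    have h0 : ∀ z : ZMod (p ^ 2), z * (p : ZMod (p ^ 2)) = 0 → z ∈ Ideal.span {(p : ZMod (p ^ 2))} := by
      intro z hz
      haveI : NeZero (p ^ 2) := ⟨pow_ne_zero _ (Fact.out : p.Prime).ne_zero⟩
      obtain ⟨m, rfl⟩ : ∃ m : ℕ, (m : ZMod (p ^ 2)) = z := ⟨z.val, ZMod.natCast_zmod_val z⟩
      rw [← Nat.cast_mul, ZMod.natCast_eq_zero_iff, sq] at hz
      obtain ⟨r, rfl⟩ := Nat.dvd_of_mul_dvd_mul_right (Fact.out : p.Prime).pos hz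
      exact Ideal.mem_span_singleton'.2 ⟨r, by push_cast; ring⟩
    have hc' : (p : ZMod (p ^ 2)) • c = 0 := by rw [Algebra.smul_def, map_natCast, mul_comm, hc]
    have h1 := Groth.Agent.ArtFlat.mem_colon_smul (⊥ : Ideal (ZMod (p ^ 2))) (p : ZMod (p ^ 2)) c (by simp [hc'])
    have h2 : c ∈ (Ideal.span {(p : ZMod (p ^ 2))} • ⊤ : Submodule (ZMod (p ^ 2)) Al) := by
      refine Submodule.smul_mono ?_ le_rfl h1
      intro z hz
      rw [LinearMap.mem_ker, LinearMap.toSpanSingleton_apply, Algebra.smul_def] at hz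
      exact h0 z (by simpa using Ideal.Quotient.eq_zero_iff_mem.1 hz)
    rw [Submodule.ideal_span_singleton_smul] at h2
    obtain ⟨d, -, hd⟩ := h2
    exact Ideal.mem_span_singleton'.2 ⟨d, by rw [← hd]; show d * (p : Al) = (p : ZMod (p ^ 2)) • d; rw [Algebra.smul_def, map_natCast, mul_comm]⟩
  have hmem : ∀ b : Bl, b ∈ (Ideal.span {(p : Al)} • ⊤ : Submodule Al Bl) ↔ b ∈ Ideal.span {(p : Bl)} := fun b => by
    rw [Ideal.smul_top_eq_map, Submodule.restrictScalars_mem, Ideal.map_span, Set.image_singleton, map_natCast]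
  constructor
  · intro hflat b hb
    exact (hmem b).1 (hcol Al Bl (p : Al) hann b (by rw [Algebra.smul_def, map_natCast, hb]))
  · intro h
    let I : Ideal Al := Ideal.span {(p : Al)}
    haveI : Module.Flat (Al ⧸ I) ((Al ⧸ I) ⊗[Al] Bl) := by
      haveI := hB
      exact Module.Flat.of_linearEquiv ((Algebra.TensorProduct.quotIdealMapEquivQuotTensor Bl I).symm.toLinearEquiv)
    refine Groth.Agent.LocalCrit.flat_of_isNilpotent I Bl ⟨2, ?_⟩ ?_ (Groth.Agent.LocalCrit.keepsInjective_of_flat I Bl)
    · rw [sq, Ideal.span_singleton_mul_span_singleton, hpp, Ideal.span_singleton_eq_bot.2 rfl, Ideal.zero_eq_bot]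
    · let π : I := ⟨(p : Al), Ideal.mem_span_singleton_self _⟩
      have hgen : ∀ t : I ⊗[Al] Bl, ∃ b, t = π ⊗ₜ[Al] b := by
        intro t
        induction t with
        | zero => exact ⟨0, by simp⟩
        | tmul x b =>
          obtain ⟨c, hc⟩ := Ideal.mem_span_singleton'.1 x.2
          refine ⟨c • b, ?_⟩
          rw [← TensorProduct.smul_tmul]
          exact congrArg (· ⊗ₜ[Al] b) (Subtype.ext hc.symm)
        | add s t hs ht =>
          obtain ⟨x, rfl⟩ := hs
          obtain ⟨y, rfl⟩ := ht
          exact ⟨x + y, (TensorProduct.tmul_add _ x y).symm⟩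
      rw [injective_iff_map_eq_zero]
      intro t ht
      obtain ⟨b, rfl⟩ := hgen t
      have hb : (p : Bl) * b = 0 := by
        have := congrArg (TensorProduct.lid Al Bl) ht
        simpa [π, Algebra.smul_def] using this
      obtain ⟨d, hd⟩ := Ideal.mem_span_singleton'.1 (h b hb)
      rw [← hd, show d * (p : Bl) = (p : Al) • d by rw [Algebra.smul_def, map_natCast, mul_comm], ← TensorProduct.smul_tmul]
      have : (p : Al) • π = 0 := Subtype.ext hpp
      rw [this, TensorProduct.zero_tmul]

end Groth.Agent.S16742
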