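import Groth.Statements.S16744
import Groth.Agent.Synt29.PolyLog

set_option autoImplicit false
universe u
open DeRham

namespace Groth.Agent.S16744

open exteriorPower in
/-- The case of affine n-space over an affine base of characteristic p with boundary divisor t_1⋯t_r =
0, all degrees. Let p be a prime, R a commutative ring with p = 0 in R, B = R[t_1, …, t_n] and r ≤
n. Let (L, ι, dl) be the module of differentials of B over R with logarithmic poles along t_1, …,
t_r, pinned by its defining properties (t_i · dl_i = ι(dt_i); ι(Ω_{B/R}) and the dl_i generate; no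
(t_1⋯t_r)-torsion; the kernel of ι is the (t_1⋯t_r)-power torsion), and let d be the logarithmic de
Rham differential on the exterior powers of L (the de Rham rule for ι ∘ d together with d(dl_i) = 0,
and d ∘ d = 0). Put w_ν = dl_ν for ν < r and w_ν = ι(t_ν^{p-1} dt_ν) for ν ≥ r (indices from 0), and
for an a-element set s of indices let e_s be the wedge of the w_ν, ν ∈ s, in increasing order. Then
an a-form with logarithmic poles is closed exactly when it is an exact form plus a combination Σ_s
g_s(t_1^p, …, t_n^p) · e_s with coefficients polynomials in the p-th powers of the variables, and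
such a combination is exact only if every g_s vanishes: the a-th cohomology of the logarithmic de
Rham complex of affine n-space is free over R[t_1^p, …, t_n^p] on the classes of the e_s. -/
theorem result (p : ℕ) [Fact p.Prime]
    (R : Type u) [CommRing R] [CharP R p] (n r a : ℕ) (hr : r ≤ n)
    (L : Type u) [AddCommGroup L] [Module (MvPolynomial (Fin n) R) L] [Module R L]
    [IsScalarTower R (MvPolynomial (Fin n) R) L]
    (ι : (Ω[MvPolynomial (Fin n) R⁄R]) →ₗ[MvPolynomial (Fin n) R] L) (dl : Fin r → L)
    (hL : LogDiff.IsLog (KaehlerDifferential.D R (MvPolynomial (Fin n) R))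
      (fun i : Fin r => (MvPolynomial.X (Fin.castLE hr i) : MvPolynomial (Fin n) R)) ι dl)
    (d : ∀ q : ℕ, ↥(⋀[MvPolynomial (Fin n) R]^q L) →ₗ[R] ↥(⋀[MvPolynomial (Fin n) R]^(q + 1) L))
    (hd : DeRham.IsDiff (ι.compDer (KaehlerDifferential.D R (MvPolynomial (Fin n) R))) d)
    (hlog : LogDiff.IsLogRule (KaehlerDifferential.D R (MvPolynomial (Fin n) R)) ι dl d)
    (w : Fin n → L) (hw : ∀ i : Fin r, w (Fin.castLE hr i) = dl i)
    (hw' : ∀ ν : Fin n, r ≤ (ν : ℕ) → w ν = ι (((MvPolynomial.X ν : MvPolynomial (Fin n) R) ^ (p - 1)) •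
      KaehlerDifferential.D R (MvPolynomial (Fin n) R) (MvPolynomial.X ν)))
    (e : Finset (Fin n) → ↥(⋀[MvPolynomial (Fin n) R]^a L))
    (he : ∀ (s : Finset (Fin n)) (hs : s.card = a),
      e s = exteriorPower.ιMulti (MvPolynomial (Fin n) R) a (fun j => w (s.orderEmbOfFin hs j))) :
    (∀ ω, ω ∈ DeRham.cocycles d a ↔
      ∃ (g : Finset (Fin n) → MvPolynomial (Fin n) R) (η : ↥(⋀[MvPolynomial (Fin n) R]^a L)),
        η ∈ DeRham.coboundaries d a ∧
          ω = η + ∑ s ∈ Finset.powersetCard a Finset.univ, MvPolynomial.expand p (g s) • e s) ∧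
    (∀ g : Finset (Fin n) → MvPolynomial (Fin n) R,
      (∑ s ∈ Finset.powersetCard a Finset.univ, MvPolynomial.expand p (g s) • e s) ∈ DeRham.coboundaries d a →
        ∀ s ∈ Finset.powersetCard a (Finset.univ : Finset (Fin n)), g s = 0) := by
  classical
  obtain ⟨b, hb⟩ := Groth.Agent.Synt29.PolyLog.exists_basis hr hL
  obtain ⟨P, hterm, hPB, hPd⟩ := Groth.Agent.Synt29.PolyLog.exists_proj hr d p hL b hb
    (fun q x => LinearMap.congr_fun (hd.2 q) x) hlog
  let A := MvPolynomial (Fin n) R
  let ex : Finset (Fin n) → (Fin n →₀ ℕ) := fun s =>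
    Finsupp.equivFunOnFinite.symm (fun ν => if ν ∈ s ∧ r ≤ (ν : ℕ) then p - 1 else 0)
  have hp := (Fact.out : p.Prime)
  have hes : ∀ s : Set.powersetCard (Fin n) a, e s.1 = (MvPolynomial.monomial (ex s.1) (1 : R) : A) • b.exteriorPower a s := by
    intro s
    rw [he s.1 s.2, exteriorPower.basis_apply]
    unfold exteriorPower.ιMulti_family
    rw [Set.powersetCard.ofFinEmbEquiv_symm_apply]
    have hwv : ∀ j, w (s.1.orderEmbOfFin s.2 j) =
        (if r ≤ ((s.1.orderEmbOfFin s.2 j : Fin n) : ℕ) then (MvPolynomial.X (s.1.orderEmbOfFin s.2 j) : A) ^ (p - 1)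
          else 1) • b (s.1.orderEmbOfFin s.2 j) := by
      intro j
      generalize s.1.orderEmbOfFin s.2 j = ν
      rw [hb]
      unfold Groth.Agent.Synt29.PolyLog.frame
      by_cases hν : r ≤ (ν : ℕ)
      · rw [if_pos hν, dif_neg (by omega), hw' ν hν, map_smul]
      · rw [if_neg hν, dif_pos (by omega), one_smul]
        exact hw ⟨ν, by omega⟩
    simp only [hwv]
    rw [AlternatingMap.map_smul_univ]
    congr 1
    rw [MvPolynomial.monomial_eq, map_one, one_mul]
    rw [Finsupp.prod_fintype _ _ (fun _ => pow_zero _)]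
    rw [← Finset.prod_image (f := fun ν : Fin n => if r ≤ (ν : ℕ) then (MvPolynomial.X ν : A) ^ (p - 1) else 1)
      (g := fun j => s.1.orderEmbOfFin s.2 j) (fun x _ y _ h => (s.1.orderEmbOfFin s.2).injective h),
      Finset.image_orderEmbOfFin_univ]
    rw [← Finset.prod_subset (Finset.subset_univ s.1) (fun ν _ hν => by simp [ex, hν])]
    refine Finset.prod_congr rfl fun ν hν => ?_
    simp only [ex, Finsupp.coe_equivFunOnFinite_symm, hν, true_and]
    split_ifs <;> simp
  have hexp : ∀ (s : Finset (Fin n)) (m' : Fin n →₀ ℕ) ν, p ∣ Groth.Agent.Synt29.PolyLog.weight r (p • m' + ex s) s ν := by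
    intro s m' ν
    unfold Groth.Agent.Synt29.PolyLog.weight
    simp only [ex, Finsupp.add_apply, Finsupp.smul_apply, Finsupp.coe_equivFunOnFinite_symm, smul_eq_mul]
    split_ifs
    · exact ⟨m' ν + 1, by rw [mul_add, mul_one]; have := hp.two_le; omega⟩
    · exact ⟨m' ν, by omega⟩
  -- combinations are fixed and closed
  have hfix : ∀ (s : Set.powersetCard (Fin n) a) (g : A),
      P a (MvPolynomial.expand p g • e s.1) = MvPolynomial.expand p g • e s.1 ∧
        d a (MvPolynomial.expand p g • e s.1) = 0 := by
    intro s g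
    induction g using MvPolynomial.induction_on' with
    | monomial m' c =>
      rw [MvPolynomial.expand_monomial, hes, smul_smul, MvPolynomial.monomial_mul, mul_one]
      obtain ⟨h1, h2⟩ := hterm a s (p • m' + ex s.1) c
      exact ⟨h1.trans (if_pos (hexp _ _)), h2 (hexp _ _)⟩
    | add g g' hg hg' =>
      rw [map_add, add_smul, map_add, map_add, hg.1, hg'.1, hg.2, hg'.2, add_zero]
      exact ⟨rfl, rfl⟩
  let C : (Finset (Fin n) → A) → ↥(⋀[A]^a L) := fun g =>
    ∑ s ∈ Finset.powersetCard a Finset.univ, MvPolynomial.expand p (g s) • e s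
  have hC : ∀ g, C g = ∑ s : Set.powersetCard (Fin n) a, MvPolynomial.expand p (g s.1) • e s.1 := fun g =>
    Finset.sum_subtype (p := fun s => s ∈ Set.powersetCard (Fin n) a) _
      (fun s => by simp [Finset.mem_powersetCard]) (fun s => MvPolynomial.expand p (g s) • e s)
  have hCadd : ∀ g g', C (g + g') = C g + C g' := fun g g' => by
    simp only [C, Pi.add_apply, map_add, add_smul, Finset.sum_add_distrib]
  have himg : ∀ x : ↥(⋀[A]^a L), ∃ g, P a x = C g := by
    intro x
    rw [← (b.exteriorPower a).sum_repr x]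
    generalize ⇑((b.exteriorPower a).repr x) = c
    induction (Finset.univ : Finset (Set.powersetCard (Fin n) a)) using Finset.induction_on with
    | empty => exact ⟨0, by simp [C]⟩
    | @insert s S hs ih =>
      obtain ⟨g, hg⟩ := ih
      rw [Finset.sum_insert hs, map_add]
      suffices h : ∀ q : A, ∃ g', P a (q • b.exteriorPower a s) = C g' by
        obtain ⟨g', hg'⟩ := h (c s)
        exact ⟨g' + g, by rw [hCadd, hg, hg']⟩
      intro q
      induction q using MvPolynomial.induction_on' with
      | monomial m t =>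
        rw [(hterm a s m t).1]
        split_ifs with hwt
        · obtain ⟨m', hm'⟩ := Groth.Agent.Synt29.PolyLog.weight_split (r := r) p hwt
          refine ⟨Pi.single s.1 (MvPolynomial.monomial m' t), ?_⟩
          show _ = ∑ u ∈ _, _
          rw [Finset.sum_eq_single s.1 (fun u _ hu => by rw [Pi.single_eq_of_ne hu, map_zero, zero_smul])
            (fun hu => absurd (Finset.mem_powersetCard.2 ⟨Finset.subset_univ _, s.2⟩) hu), Pi.single_eq_same,
            MvPolynomial.expand_monomial, hes, smul_smul, MvPolynomial.monomial_mul, mul_one, hm']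
        · exact ⟨0, by simp [C]⟩
      | add q q' hq hq' =>
        obtain ⟨g₁, h₁⟩ := hq
        obtain ⟨g₂, h₂⟩ := hq'
        exact ⟨g₁ + g₂, by rw [add_smul, map_add, h₁, h₂, hCadd]⟩
  have hdC : ∀ g, d a (C g) = 0 := fun g => by
    rw [hC, map_sum]
    exact Finset.sum_eq_zero fun s _ => (hfix s (g s.1)).2
  have hPC : ∀ g, P a (C g) = C g := fun g => by
    rw [hC, map_sum]
    exact Finset.sum_congr rfl fun s _ => (hfix s (g s.1)).1
  have hdP : ∀ q x, d q (P q x) = 0 := by
    intro q x
    rw [← (b.exteriorPower q).sum_repr x, map_sum, map_sum]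
    refine Finset.sum_eq_zero fun s _ => ?_
    induction ((b.exteriorPower q).repr x s) using MvPolynomial.induction_on' with
    | monomial m t =>
      rw [(hterm q s m t).1]
      split_ifs with h
      · exact (hterm q s m t).2 h
      · exact map_zero _
    | add f f' hf hf' => rw [add_smul, map_add, map_add, hf, hf', add_zero]
  refine ⟨fun ω => ⟨fun hω => ?_, ?_⟩, fun g hg s hs => ?_⟩
  · obtain ⟨g, hg⟩ := himg ω
    refine ⟨g, -(P a ω - ω), Submodule.neg_mem _ (hPB a ω hω), ?_⟩
    show ω = _ + C g
    rw [← hg]; abel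
  · rintro ⟨g, η, hη, rfl⟩
    show d a (η + C g) = 0
    rw [map_add, hdC, add_zero]
    rcases a with _ | a
    · rw [(Submodule.mem_bot R).1 hη, map_zero]
    · obtain ⟨ζ, rfl⟩ := hη
      exact LinearMap.congr_fun (hd.2 a) ζ
  · have h0 : C g = 0 := by
      rw [← hPC]
      show P a _ = 0
      rcases a with _ | a
      · rw [show C g = 0 from (Submodule.mem_bot R).1 hg, map_zero]
      · obtain ⟨ζ, hζ⟩ := (hg : C g ∈ LinearMap.range (d a))
        rw [show C g = d a ζ from hζ.symm, ← hPd]
        exact hdP a ζ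
    have h1 : ∑ u : Set.powersetCard (Fin n) a,
        (MvPolynomial.expand p (g u.1) * MvPolynomial.monomial (ex u.1) 1) • b.exteriorPower a u = 0 := by
      rw [← h0, hC]
      exact Finset.sum_congr rfl fun u _ => by rw [hes, smul_smul]
    have h2 := Fintype.linearIndependent_iff.1 (b.exteriorPower a).linearIndependent _ h1
      ⟨s, (Finset.mem_powersetCard.1 hs).2⟩
    have hreg : IsRegular (MvPolynomial.monomial (ex s) (1 : R) : A) := by
      rw [MvPolynomial.monomial_eq, map_one, one_mul, Finsupp.prod]
      exact IsRegular.prod fun i _ => MvPolynomial.isRegular_X.pow _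
    refine MvPolynomial.expand_injective hp.pos ?_
    rw [map_zero]
    exact hreg.right (by simpa using h2)

end Groth.Agent.S16744
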