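import Groth.Statements.S1675
import Groth.Agent.CurveGor.Sum
import Groth.Agent.S7642

set_option autoImplicit false
universe u
open CategoryTheory CategoryTheory.Limits AlgebraicGeometry
attribute [local instance] HasDerivedCategory.standard
open Curves

namespace Groth.Agent.S1675
set_option backward.isDefEq.respectTransparency false
set_option backward.isDefEq.respectTransparency.types false
set_option synthInstance.maxHeartbeats 200000
set_option maxHeartbeats 2000000
attribute [local instance] HasDerivedCategory.standard
open Groth.Agent.CurveGor in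


/-- Let X be proper of dimension one over k with global functions k and at-worst-nodal singularities, of
genus g ≥ 2, with no rational tail and no rational bridge, and let ω_X be its dualizing module (via
f^! O, assuming Rf_* on D_QCoh and its right adjoint exist). Then ω_X is ample. -/
theorem result (k : Type u) [Field k] (X : Scheme.{u}) [X.Over (Spec (CommRingCat.of k))] [IsProper (X ↘ (Spec (CommRingCat.of k)))] (hdim : topologicalKrullDim X = 1)
    (h0 : Module.finrank k (Coh.HH X (Coh.structureModule X) 0) = 1) (hX : Curv2.AtWorstNodal k X) (hnt : ∀ (C : Set X) (hC : C ∈ irreducibleComponents (X : Type u)), ¬ Curv2.IsRationalTail X C hC)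
    (hnb : ∀ (C : Set X) (hC : C ∈ irreducibleComponents (X : Type u)), ¬ Curv2.IsRationalBridge k X C hC) (hg : 2 ≤ Curv2.genus k X)
    [DCoh.HasRpush (X ↘ (Spec (CommRingCat.of k)))] (h : DCoh.RpushPreservesQCoh (X ↘ (Spec (CommRingCat.of k)))) [DCoh.HasShriek (X ↘ (Spec (CommRingCat.of k))) h]
    (OY : DCoh.DQCoh (Spec (CommRingCat.of k))) (hOY : Nonempty (OY.obj ≅ DCoh.inD (Spec (CommRingCat.of k)) (Coh.structureModule (Spec (CommRingCat.of k))))) :
    CohB1.IsAmple (DCoh.dualizingMod (X ↘ (Spec (CommRingCat.of k))) h OY 1) := by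
  classical
  haveI := Groth.Agent.CurveCohLib.isNoetherian_of_proper (k := k) (X := X)
  haveI := Groth.Agent.CurveBC.connectedSpace_of_h0 k X h0
  haveI := isReduced_of_nodal (k := k) hdim hX
  obtain ⟨t, ht, -⟩ := Groth.Agent.CurveDual.exists_dual hdim.le h OY hOY
  have hi := isInvertible_dualizing_of_nodal' hdim h0 hX h OY hOY
  have hgen := notClosed_of_generic (k := k) hdim
  generalize DCoh.dualizingMod (X ↘ (Spec (CommRingCat.of k))) h OY 1 = ω at t ht hi ⊢
  refine (Groth.Agent.S7642.result k X hdim.le ω hi).2 fun C hC _ => ?_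
  have hJ : (X.irreducibleComponentIdeal C hC).radical =
      vI C (isClosed_of_mem_irreducibleComponents _ hC) := by
    rw [← Scheme.IdealSheafData.vanishingIdeal_support]
    congr 1
  rw [hJ]
  have hC' := isClosed_of_mem_irreducibleComponents C hC
  have hc : IsCompUnion C := fun x hx => by
    have e := hC.1.closure_genericPoint hC'
    exact ⟨_, by show closure _ ∈ irreducibleComponents (X : Type u); rw [e]; exact hC,
      e.subset (subset_closure (Set.mem_singleton _)), specializes_iff_mem_closure.2 (e.symm.subset hx)⟩
  show 0 < Groth.Agent.TFOneX.degOn k ω 1 C hC'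
  by_cases hu : C = Set.univ
  · subst hu
    rw [Groth.Agent.TFOneX.degOn_univ k hdim.le (Groth.Agent.InvEnd.isFinLocFreeOfRank_one hi),
      deg_dualizing hdim.le hgen ht hi, Groth.Agent.NefH1.euler_eq k hdim.le Groth.Agent.QCoh.isQCoh_structureModule, h0]
    change 0 < -2 * (((1 : ℕ) : ℤ) - (Curv2.genus k X : ℤ))
    have hg' : (2 : ℤ) ≤ (Curv2.genus k X : ℤ) := by exact_mod_cast hg
    omega
  · have hconn : _root_.IsConnected C := hC.1.isConnected
    obtain ⟨a, ha, hk, hb⟩ := exists_kY_mul (k := k) hdim.le hC' hconn hu
    have h1 := one_le_kY (k := k) hdim.le hC' hconn.nonempty hu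
    rw [degOn_dualizing_parts hdim.le hgen ht hi hC' hc]
    by_cases hg0 : gam k C hC' = 0
    · rw [hg0]
      rw [hk] at h1 ⊢
      rcases (by omega : a = 1 ∨ a = 2 ∨ 3 ≤ a) with ha1 | ha2 | ha3
      · exact absurd (isRationalTail_of hdim.le hC hu hg0 (hb ha1)) (hnt _ hC)
      · refine absurd ?_ (hnb _ hC)
        refine ⟨?_, ?_, ?_⟩
        · rw [ker_compl_eq hC', Scheme.IdealSheafData.coe_support_vanishingIdeal]
          exact (Set.nonempty_compl.2 hu).mono subset_closure
        · rw [ker_compl_eq hC']
          have e : (Module.finrank k (Coh.HH X (ClSub.quotMod (vI C hC' ⊔ cI C)) 0) : ℤ) =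
              2 * (Module.finrank k (Coh.HH X (ClSub.quotMod (vI C hC')) 0) : ℤ) := by
            show kY k C hC' = 2 * (ell k C hC' : ℤ)
            rw [hk, ha2]
            push_cast
            ring
          exact_mod_cast e
        · letI := overSub (k := k) (vI C hC')
          haveI : IsProper ((vI C hC').subscheme ↘ Spec (CommRingCat.of k)) :=
            inferInstanceAs (IsProper ((vI C hC').subschemeι ≫ (X ↘ Spec (CommRingCat.of k))))
          haveI : IsNoetherian (vI C hC').subscheme :=
            Groth.Agent.CurveCohLib.isNoetherian_of_proper (k := k) (X := (vI C hC').subscheme)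
          haveI := Groth.Agent.S0002.result k (vI C hC').subscheme (Coh.structureModule _)
            Groth.Agent.QCoh.isCoh_structureModule' 1
          rw [gam, finrank_HH_quot] at hg0
          exact (Module.finrank_zero_iff (R := k)).1 hg0
      · have h3 : (3 : ℤ) * (ell k C hC' : ℤ) ≤ (ell k C hC' : ℤ) * a := by
          rw [mul_comm (3 : ℤ)]
          exact mul_le_mul_of_nonneg_left (by exact_mod_cast ha3) (Int.natCast_nonneg _)
        have : ell k C hC' ≠ 0 := fun h => by rw [h] at h1; simp at h1
        omega
    · have h := ell_le_gam (k := k) hC' hconn hg0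
      omega


end Groth.Agent.S1675
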