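import Groth.Statements.S16751
import Groth.Agent.H26.H0Glob

set_option autoImplicit false
universe u
open CurvSt

namespace Groth.Agent.S16751

open CategoryTheory CategoryTheory.Limits AlgebraicGeometry in
/-- Let f : X → S be a flat, proper morphism of schemes, locally of finite presentation, all of whose
fibres have dimension at most one (a family of curves whose total space is a scheme), and assume
that for every point s of S the fibre X_s has dim_{κ(s)} H^0(X_s, O_{X_s}) = 1 (the residue field is
the ring of global functions of the fibre). Then (1) the map O_S → f_* O_X is an isomorphism, and so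
is O_{S'} → f'_* O_{X'} for the base change f' of f along any morphism of schemes S' → S; and (2)
R^1 f_* O_X is a finite locally free O_S-module. The source allows the total space to be an
algebraic space, and also asserts the compatibility of R^1 f_* O_X with arbitrary base change, which
is not stated here. -/
theorem result (X S : Scheme.{u}) (f : X ⟶ S)
    [Flat f] [IsProper f] [LocallyOfFinitePresentation f]
    (hdim : ∀ s : S, topologicalKrullDim ↥(f.fiber s) ≤ 1)
    (h0 : ∀ s : S, Models.hRank ↥(S.residueField s) (f.fiber s) (f.fiberToSpecResidueField s)
      (Coh.structureModule (f.fiber s)) 0 = 1)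
    [HasInjectiveResolutions X.Modules] :
    (∀ (S' : Scheme.{u}) (g : S' ⟶ S), IsIso (ClSub.unitToPush (pullback.snd f g))) ∧
      FlatMod.IsFinLocFree ((Coh.Rpush f 1).obj (Coh.structureModule X)) := by
  exact ⟨fun S' g => Groth.Agent.H26.FibModel.isIso_unitToPush_snd f hdim h0 g,
    Groth.Agent.H26.FibModel.isFinLocFree_Rpush_one f hdim h0⟩

end Groth.Agent.S16751
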