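import Groth.Statements.S16752
import Groth.Agent.H26.H0One

set_option autoImplicit false
universe u
open CurvSt

namespace Groth.Agent.S16752

open CategoryTheory CategoryTheory.Limits AlgebraicGeometry in
/-- Let f : X → S be a flat, proper morphism of schemes, locally of finite presentation, all of whose
fibres have dimension at most one (a family of curves whose total space is a scheme). Then the set
of points s of S such that the fibre X_s has dimension one and dim_{κ(s)} H^0(X_s, O_{X_s}) = 1 (the
conditions under which the genus of X_s is defined) is open in S. The source allows the total space
to be an algebraic space and phrases the result as the existence of an open substack of the stack of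
curves with this membership condition. -/
theorem result (X S : Scheme.{u}) (f : X ⟶ S)
    [Flat f] [IsProper f] [LocallyOfFinitePresentation f]
    (hdim : ∀ s : S, topologicalKrullDim ↥(f.fiber s) ≤ 1) :
    IsOpen {s : S | topologicalKrullDim ↥(f.fiber s) = 1 ∧
      Models.hRank ↥(S.residueField s) (f.fiber s) (f.fiberToSpecResidueField s)
        (Coh.structureModule (f.fiber s)) 0 = 1} := by
  exact Groth.Agent.H26.FibModel.isOpen_dim_one_h0_one f hdim

end Groth.Agent.S16752
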