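import Groth.Statements.S16761
import Groth.Agent.CohPullX.Semicont

set_option autoImplicit false
universe u
open Coherent

namespace Groth.Agent.S16761
namespace Aux
open CategoryTheory CategoryTheory.Limits AlgebraicGeometry TopologicalSpace
open Groth.Agent
set_option backward.isDefEq.respectTransparency false
set_option backward.isDefEq.respectTransparency.types false

theorem isZero_restrict_cover {Y : Scheme.{u}} {N : Y.Modules} (U : Y.Opens)
    (h : ∀ y ∈ U, ∃ W : Y.Opens, y ∈ W ∧ IsZero (N.restrict W.ι)) : IsZero (N.restrict U.ι) := by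
  have : ∀ (V : (U : Scheme.{u}).Opens) (x : Γ(N.restrict U.ι, V)), x = 0 := fun V x => by
    refine QCoh.eq_zero_of_locally V x fun p hp => ?_
    obtain ⟨W, hW, hz⟩ := h p.1 p.2
    refine ⟨V ⊓ U.ι ⁻¹ᵁ W, homOfLE inf_le_left, ⟨hp, hW⟩, ?_⟩
    have hle : U.ι ''ᵁ (V ⊓ U.ι ⁻¹ᵁ W) ≤ W := by
      rintro _ ⟨q, hq, rfl⟩
      exact hq.2
    have hs := QCoh.subsingleton_Γ_of_isZero hz (W.ι ⁻¹ᵁ (U.ι ''ᵁ (V ⊓ U.ι ⁻¹ᵁ W)))
    have e : W.ι ''ᵁ (W.ι ⁻¹ᵁ (U.ι ''ᵁ (V ⊓ U.ι ⁻¹ᵁ W))) = U.ι ''ᵁ (V ⊓ U.ι ⁻¹ᵁ W) := by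
      rw [Scheme.Hom.image_preimage_eq_opensRange_inf, Scheme.Opens.opensRange_ι, inf_eq_right]
      exact hle
    have hs' : Subsingleton Γ(N, W.ι ''ᵁ (W.ι ⁻¹ᵁ (U.ι ''ᵁ (V ⊓ U.ι ⁻¹ᵁ W)))) := hs
    rw [e] at hs'
    exact @Subsingleton.elim _ hs' _ _
  rw [IsZero.iff_id_eq_zero]
  ext V x
  exact (this V x).trans (this V _).symm

theorem isFinLocFree_restrict_cover {Y : Scheme.{u}} {N : Y.Modules} (U : Y.Opens)
    (h : ∀ y ∈ U, ∃ (W : Y.Opens) (n : ℕ), y ∈ W ∧
      Nonempty (N.restrict W.ι ≅ FlatMod.freeMod (W : Scheme.{u}) n)) : FlatMod.IsFinLocFree (N.restrict U.ι) :=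
  fun x => by
    obtain ⟨W, n, hW, ⟨e⟩⟩ := h x.1 x.2
    refine ⟨U.ι ⁻¹ᵁ W, n, hW, ⟨?_⟩⟩
    exact QCoh.restrictRestrict N _ _ ≪≫
      (Scheme.Modules.restrictFunctorCongr (morphismRestrict_ι U.ι W).symm).app N ≪≫
      (QCoh.restrictRestrict N _ _).symm ≪≫
      (Scheme.Modules.restrictFunctor (U.ι ∣_ W)).mapIso e ≪≫ QCoh.freeModRestrict _ n

end Aux


open AlgebraicGeometry CategoryTheory CategoryTheory.Limits in
/-- Let f : X → S be proper and of finite presentation, F an O_X-module of finite presentation which is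
flat over S, and d a natural number with dim X_s ≤ d for all s. Then the set S' of points s with
H^j(X_s, F_s) = 0 for all j ≥ 1 is open, and over every open U ⊆ S' the sheaves R^j f_* F (j ≥ 1)
restrict to zero, f_* F restricts to a finite locally free module, and the formation of f_* F
commutes with base change: for every cartesian square with base a morphism g : T → S whose image
lies in U, with f' : X ×_S T → T and g' : X ×_S T → X the projections, the base change map g^* f_* F
→ f'_* g'^* F is an isomorphism. (The published statement asks only that f be proper; without finite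
presentation the assertions on f_* F fail — for a finite flat morphism which is not of finite
presentation and F = O_X the direct image f_* O_X need not be finite locally free — and the argument
runs through cohomology and base change for morphisms of finite presentation, so f is taken of
finite presentation here. Higher direct images are right derived functors of f_* on O_X-modules,
with injective resolutions carried as an instance argument.) -/
theorem result {X S : Scheme.{u}} (f : X ⟶ S)
    [IsProper f] [LocallyOfFinitePresentation f] [HasInjectiveResolutions X.Modules]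
    (F : X.Modules) (hF : CohB1.IsFP F) (hfl : FlatMod.IsFlatOver f F)
    (d : ℕ) (hd : ∀ s : S, topologicalKrullDim ↥(f.fiber s) ≤ d) :
    IsOpen {s : S | ∀ j : ℕ, 1 ≤ j → Subsingleton (CohIII.fiberH f F s j)} ∧
      ∀ U : S.Opens, (U : Set S) ⊆ {s : S | ∀ j : ℕ, 1 ≤ j → Subsingleton (CohIII.fiberH f F s j)} →
        (∀ j : ℕ, 1 ≤ j → IsZero (((Coh.Rpush f j).obj F).restrict U.ι)) ∧
          FlatMod.IsFinLocFree (((Coh.push f).obj F).restrict U.ι) ∧
            ∀ (T X' : Scheme.{u}) (g : T ⟶ S) (f' : X' ⟶ T) (g' : X' ⟶ X) (hsq : IsPullback g' f' f g),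
              Set.range g.base ⊆ (U : Set S) → IsIso (CohBC.bc0 f g f' g' hsq.w F) := by
  haveI : QuasiSeparated f := inferInstance
  have hopen : IsOpen {s : S | ∀ j : ℕ, 1 ≤ j → Subsingleton (CohIII.fiberH f F s j)} := by
    rw [isOpen_iff_forall_mem_open]
    intro s hs
    choose U hU hUz using fun j : Fin d => CohPullX.exists_subsingleton_fiberH_nhd hF hfl s (j.1 + 1) (hs _ (Nat.le_add_left 1 _))
    refine ⟨⋂ j, (U j : Set S), fun z hz j hj => ?_, isOpen_iInter_of_finite fun j => (U j).isOpen,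
      Set.mem_iInter.2 hU⟩
    rcases Nat.lt_or_ge d j with h | h
    · exact CohPullX.subsingleton_fiberH_of_dim z d (hd z) j h
    · have := hUz ⟨j - 1, by omega⟩ z (Set.mem_iInter.1 hz _)
      rwa [show j - 1 + 1 = j by omega] at this
  refine ⟨hopen, fun U hU => ⟨fun j hj => ?_, ?_, ?_⟩⟩
  · refine Aux.isZero_restrict_cover U fun y hy => ?_
    obtain ⟨W, hW, -, -, hz⟩ := CohPullX.exists_vanish_nhd hF hfl y j (hU hy j hj)
    exact ⟨W, hW, hz⟩
  · refine Aux.isFinLocFree_restrict_cover U fun y hy => ?_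
    haveI := SpObjSS.enoughInjectives_of_hasInjectiveResolutions (C := X.Modules)
    haveI := QCoh.preservesFiniteLimits_push f
    obtain ⟨W, hW, ⟨e⟩⟩ := CohPullX.exists_free_of_neighbours hF hfl y 0 (hU hy 1 le_rfl) (fun j hj => absurd hj (Nat.succ_ne_zero j))
    exact ⟨W, _, hW, ⟨(Scheme.Modules.restrictFunctor W.ι).mapIso
      ((Scheme.Modules.pushforward f).rightDerivedZeroIsoSelf.app F).symm ≪≫ e⟩⟩
  · intro T X' g f' g' hsq hg
    refine CohPullX.isIso_bc0_of_hasKerBC hsq (QCoh.isQCoh_of_isFP hF) fun x => ?_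
    exact CohPullX.exists_kerBC_nhd_of_H1_zero hF hfl (g x) (hU (hg ⟨x, rfl⟩) 1 le_rfl)

end Groth.Agent.S16761
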