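import Groth.Statements.S16762
-- import your own Groth.Agent.* helpers here

set_option autoImplicit false
universe u
open CAlgX

namespace Groth.Agent.S16762

/-- Let A → A' be faithfully flat and u : M → N a map of A-modules. Then u is universally injective (u ⊗
id_Q injective for every A-module Q) if and only if its base change A' ⊗_A M → A' ⊗_A N is
universally injective as a map of A'-modules. -/
theorem result (A A' : Type u) [CommRing A] [CommRing A']
    [Algebra A A'] [Module.FaithfullyFlat A A'] {M N : Type u} [AddCommGroup M] [Module A M]
    [AddCommGroup N] [Module A N] (u : M →ₗ[A] N) :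
    CAlgX.UniversallyInjective A u ↔ CAlgX.UniversallyInjective A' (u.baseChange A') := by
  have conj : ∀ (Q : Type u) [AddCommGroup Q] [Module A Q] [Module A' Q] [IsScalarTower A A' Q],
      ⇑((u.baseChange A').lTensor Q) =
        ⇑(TensorProduct.AlgebraTensorModule.cancelBaseChange A A' A' Q N).symm ∘ ⇑(u.lTensor Q) ∘
          ⇑(TensorProduct.AlgebraTensorModule.cancelBaseChange A A' A' Q M) := by
    intro Q _ _ _ _
    funext x
    apply (TensorProduct.AlgebraTensorModule.cancelBaseChange A A' A' Q N).injective
    simp only [Function.comp_apply, LinearEquiv.apply_symm_apply]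
    induction x using TensorProduct.induction_on with
    | zero => simp
    | tmul q y =>
      induction y using TensorProduct.induction_on with
      | zero => simp
      | tmul a m => simp
      | add p r hp hr => simp only [TensorProduct.tmul_add, map_add, hp, hr]
    | add p r hp hr => simp only [map_add, hp, hr]
  have key : ∀ (Q : Type u) [AddCommGroup Q] [Module A Q] [Module A' Q] [IsScalarTower A A' Q],
      Function.Injective ((u.baseChange A').lTensor Q) ↔ Function.Injective (u.lTensor Q) := by
    intro Q _ _ _ _
    rw [conj Q, EquivLike.comp_injective, EquivLike.injective_comp]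
  constructor
  · intro h Q _ _
    letI : Module A Q := Module.compHom Q (algebraMap A A')
    haveI : IsScalarTower A A' Q := ⟨fun a a' q => by
      rw [Algebra.smul_def, mul_smul]; rfl⟩
    rw [← LinearMap.lTensor_inj_iff_rTensor_inj, key Q, LinearMap.lTensor_inj_iff_rTensor_inj]
    exact h Q
  · intro h Q _ _
    rw [← LinearMap.lTensor_inj_iff_rTensor_inj, ← Module.FaithfullyFlat.lTensor_injective_iff_injective A A']
    have h1 := h (TensorProduct A A' Q)
    rw [← LinearMap.lTensor_inj_iff_rTensor_inj, key (TensorProduct A A' Q)] at h1
    have e : LinearMap.lTensor A' (LinearMap.lTensor Q u) =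
        (TensorProduct.assoc _ _ _ _).toLinearMap ∘ₗ LinearMap.lTensor (TensorProduct A A' Q) u ∘ₗ
          (TensorProduct.assoc _ _ _ _).symm.toLinearMap := by
      ext a q m; simp
    rw [e]
    simpa using h1


end Groth.Agent.S16762
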