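import Groth.Statements.S16767
import Groth.Agent.WeylEt.Main
-- import your own Groth.Agent.* helpers here

set_option autoImplicit false
open CategoryTheory MonoidalCategory CartesianMonoidalCategory MonObj GrpObj AlgebraicGeometry
universe u
open SGA3x

namespace Groth.Agent.S16767

/-- For a smooth affine group scheme G over a scheme S and a subgroup scheme H of multiplicative type
(of finite type) with centralizer Z and normalizer N, Z being a subgroup of N, the fppf quotient N/Z
is representable by an S-group scheme which is separated, etale and quasi-compact over S (a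
separated etale S-group of finite presentation). -/
theorem result {S : Scheme.{u}} (H G Z N : Over S)
    [GrpObj H] [GrpObj G] [GrpObj Z] [GrpObj N]
    (hH : SGA3x.IsMultTypeFT H) (hG : Smooth G.hom) (hGa : IsAffineHom G.hom) (i : H ⟶ G) [IsMonHom i] [Mono i]
    (j : Z ⟶ G) (k : N ⟶ G) (hj : Red.IsCentralizerOf i j) (hk : Red.IsNormalizerOf i k)
    (f : Z ⟶ N) [IsMonHom f] (hf : f ≫ k = j) :
    ∃ (W : Over S) (_ : GrpObj W) (q : N ⟶ W) (_ : IsMonHom q), RedSub.IsQuotient f q ∧
      IsSeparated W.hom ∧ Etale W.hom ∧ QuasiCompact W.hom := by
  haveI := hG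
  haveI := hGa
  exact WeylEt.main hH i j k hj hk f hf

end Groth.Agent.S16767
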