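import Groth.Statements.S1677
import Groth.Agent.SmoothImmX.Basic
-- import your own Groth.Agent.* helpers here

set_option autoImplicit false
universe u
open CategoryTheory CategoryTheory.Limits AlgebraicGeometry TopologicalSpace
open SDiv

namespace Groth.Agent.S1677

/-- Let X ⟶ S be smooth, Y ⟶ S flat, locally of finite presentation with complete-intersection fibre
local rings (syntomic), and i : Y ⟶ X a closed immersion over S. Then i is a regular closed
immersion. -/
theorem result {X Y S : Scheme.{u}} (p : X ⟶ S) [Smooth p] (i : Y ⟶ X)
    [IsClosedImmersion i] (hY : CInt.IsCIMorphism (i ≫ p)) : Mor2.IsRegularClosedImmersion i := by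
  haveI := hY.1
  haveI := hY.2.1
  exact SmoothImmX.regClosed_of_ci_fibres p i hY.2.2

end Groth.Agent.S1677
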