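import Groth.Statements.S16772
import Groth.Agent.TransLib.Finite

set_option autoImplicit false
open CategoryTheory MonoidalCategory CartesianMonoidalCategory MonObj GrpObj AlgebraicGeometry
universe u
open SGA3x

namespace Groth.Agent.S16772

/-- Let G be an affine group scheme of finite presentation over a scheme S and Y ⊆ G a closed subscheme
which is finite, flat and of finite presentation over S. Then the centralizer of Y in G (points of G
commuting with every point of Y after any base change) is representable by a closed subscheme of G. -/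
theorem result {S : Scheme.{u}} (G Y : Over S) [GrpObj G]
    (hGa : IsAffineHom G.hom) (hGfp : LocallyOfFinitePresentation G.hom)
    (y : Y ⟶ G) (hy : IsClosedImmersion y.left) (hYf : IsFinite Y.hom) (hYfl : Flat Y.hom)
    (hYfp : LocallyOfFinitePresentation Y.hom) :
    ∃ (C : Over S) (c : C ⟶ G), IsClosedImmersion c.left ∧
      ∀ (X : Over S) (g : X ⟶ G), (∃ z : X ⟶ C, z ≫ c = g) ↔
        ∀ (X' : Over S) (x : X' ⟶ X) (a : X' ⟶ Y), (x ≫ g) * (a ≫ y) = (a ≫ y) * (x ≫ g) := by
  haveI : IsSeparated G.hom := inferInstance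
  obtain ⟨E, i, hi, hE⟩ := GrpSchLib.exists_equalizer_of_isSeparated
    (snd Y G * (fst Y G ≫ y)) ((fst Y G ≫ y) * snd Y G)
  obtain ⟨C, c, hc, hC⟩ := GrpSchLib.exists_coincidence i hE (GrpSchLib.hasIdeals_of_finite_flat i)
  refine ⟨C, c, hc, fun X g => (hC X g).trans ⟨fun h X' x a => ?_, fun h => ?_⟩⟩
  · have := congrArg (lift a x ≫ ·) h
    simpa [MonObj.comp_mul, lift_whiskerLeft_assoc] using this
  · have := h (Y ⊗ X) (snd Y X) (fst Y X)
    simpa [MonObj.comp_mul] using this

end Groth.Agent.S16772
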