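import Groth.Statements.S16773
import Groth.Agent.RedRank.MultFinite
import Groth.Agent.RedRank.ReductiveRank
import Groth.Agent.GrpSchLib.HomFlatLft
import Groth.Agent.GrpSchLib.IsogenyFibre
import Groth.Agent.MultTypeImage.Kernel
import Groth.Agent.Pur21Fib.Global
import Groth.Agent.SubgroupNbhd.Contain
-- import your own Groth.Agent.* helpers here

set_option backward.isDefEq.respectTransparency false
set_option backward.isDefEq.respectTransparency.types false
set_option linter.style.haveILetI false
set_option synthInstance.maxHeartbeats 200000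
set_option maxHeartbeats 1000000
set_option autoImplicit false
open CategoryTheory MonoidalCategory CartesianMonoidalCategory MonObj GrpObj AlgebraicGeometry
universe u
open Red

namespace Groth.Agent.S16773

/-- Let f : G' → G be a homomorphism of reductive group schemes over a scheme S which is surjective,
with kernel K. If for every s ∈ S the fibre K_s is finite and central in G'_s, then f is flat, K is
finite over S and K is central in G' (f is a central isogeny). -/
theorem result {S : Scheme.{u}} {G' G K : Over S}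
    [GrpObj G'] [GrpObj G] (hG' : Red.IsReductive G') (hG : Red.IsReductive G) (f : G' ⟶ G) [IsMonHom f]
    (hf : Surjective f.left) (i : K ⟶ G') (hK : AlgGrp.IsKernel i f)
    (hfin : ∀ s : S, IsFinite (K.hom.fiberToSpecResidueField s))
    (hcen : ∀ (s : S) (X : Over (Spec (S.residueField s))) (x : X ⟶ Red.bc (S.fromSpecResidueField s) K)
      (g : X ⟶ Red.bc (S.fromSpecResidueField s) G'),
      (x ≫ (Over.pullback (S.fromSpecResidueField s)).map i) * g = g * (x ≫ (Over.pullback (S.fromSpecResidueField s)).map i)) :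
    Flat f.left ∧ IsFinite K.hom ∧
      ∀ (X : Over S) (x : X ⟶ K) (g : X ⟶ G'), (x ≫ i) * g = g * (x ≫ i) := by
  haveI := hG'.1; haveI := hG'.2.1; haveI := hG.1; haveI := hG.2.1; haveI := hf
  haveI : GeometricallyReduced G.hom := GrpSchLib.IsogenyFibre.geometricallyReduced_of_smooth' G.hom
  have hfl : Flat f.left := (GrpSchLib.HomFlatLft.flat_hom f).1
  haveI := hfl
  haveI : LocallyOfFinitePresentation (f.left ≫ G.hom) := by rw [Over.w f]; infer_instance
  haveI : LocallyOfFinitePresentation f.left := AlgSpPts.locallyOfFinitePresentation_of_comp f.left G.hom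
  haveI : IsAffineHom f.left := by
    haveI : IsAffineHom (f.left ≫ G.hom) := by rw [Over.w f]; infer_instance
    exact IsAffineHom.of_comp f.left G.hom
  haveI : IsImmersion (η[G].left ≫ G.hom) := by rw [Over.w η[G]]; exact inferInstanceAs (IsImmersion (𝟙 S))
  haveI : IsClosedImmersion (η[G].left ≫ G.hom) := by rw [Over.w η[G]]; exact inferInstanceAs (IsClosedImmersion (𝟙 S))
  haveI : IsClosedImmersion η[G].left := IsClosedImmersion.of_comp η[G].left G.hom
  have hsq : IsPullback i.left K.hom f.left η[G].left := by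
    have h := Functor.map_isPullback (Over.forget S) hK
    simpa [Over.toUnit_left] using h
  haveI : IsClosedImmersion i.left := MorphismProperty.of_isPullback (P := @IsClosedImmersion) hsq.flip ‹_›
  haveI : Flat K.hom := MorphismProperty.of_isPullback (P := @Flat) hsq ‹_›
  haveI : LocallyOfFinitePresentation K.hom :=
    MorphismProperty.of_isPullback (P := @LocallyOfFinitePresentation) hsq ‹_›
  haveI : IsAffineHom K.hom := MorphismProperty.of_isPullback (P := @IsAffineHom) hsq ‹_›
  haveI : Mono i := Over.mono_of_mono_left _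
  obtain ⟨Z, _, z, hz, hzcl, hZ, -⟩ := RedRank.ReductiveRank.exists_centre hG'
  haveI := hz.1; haveI := hz.2.1
  haveI : IsSeparated G.hom := inferInstance
  haveI : IsSeparated G'.hom := inferInstance
  obtain ⟨P, _, iP, hiP, hiPm, hP, hker⟩ := MultTypeImage.exists_kernel hZ (z ≫ f)
  haveI := hiP; haveI := hiPm
  have hkill : (iP ≫ z) ≫ f = 1 := by rw [Category.assoc]; exact (hker P iP).mpr ⟨𝟙 _, Category.id_comp _⟩
  obtain ⟨a, ha, -⟩ : ∃ a : P ⟶ K, a ≫ i = iP ≫ z ∧ True :=
    ⟨hK.lift (iP ≫ z) (toUnit P) hkill, hK.lift_fst _ _ _, trivial⟩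
  haveI : IsClosedImmersion (iP ≫ z).left := MultTypeLib.SubgroupTransporter.isClosedImmersion_of_mono hP (iP ≫ z)
  haveI : IsClosedImmersion (a.left ≫ i.left) := by rw [← Over.comp_left, ha]; infer_instance
  haveI : IsClosedImmersion a.left := IsClosedImmersion.of_comp a.left i.left
  haveI := MultTypeQI.flat hP
  haveI := GrpSchLib.MultTypeLfp.lfp hP
  haveI : Flat (a.left ≫ K.hom) := by rw [Over.w a]; infer_instance
  haveI : LocallyOfFinitePresentation (a.left ≫ K.hom) := by rw [Over.w a]; infer_instance
  haveI hiso : IsIso a.left := by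
    refine Pur21Fib.isIso_of_forall_isoAt a.left K.hom fun s => ?_
    show IsIso (Limits.pullback.snd a.left (K.hom.fiberι s))
    let σ := S.fromSpecResidueField s
    let Ks : Over S := Over.mk (K.hom.fiberι s ≫ K.hom)
    let k : Ks ⟶ K := Over.homMk (K.hom.fiberι s) rfl
    have hcentral : ∀ (X' : Over S) (x : X' ⟶ Ks) (y : X' ⟶ G'),
        (x ≫ k ≫ i) * y = y * (x ≫ k ≫ i) := by
      intro X' x y
      let q : X'.left ⟶ Spec (S.residueField s) := x.left ≫ K.hom.fiberToSpecResidueField s
      let X : Over (Spec (S.residueField s)) := Over.mk q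
      have hq : q ≫ σ = X'.hom := by
        rw [← Over.w x, Category.assoc]
        exact congrArg (x.left ≫ ·) Limits.pullback.condition.symm
      let e : (Over.map σ).obj X ⟶ X' := Over.homMk (𝟙 _) (by
        show 𝟙 _ ≫ X'.hom = q ≫ σ
        rw [Category.id_comp, hq])
      let e' : X' ⟶ (Over.map σ).obj X := Over.homMk (𝟙 _) (by
        show 𝟙 _ ≫ q ≫ σ = X'.hom
        rw [Category.id_comp, hq])
      haveI : Epi e := by
        haveI : Epi e.left := inferInstanceAs (Epi (𝟙 _))
        exact Over.epi_of_epi_left _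
      obtain ⟨x₀, hx₀⟩ := (DSPtsLib.theta_bijective (g := σ) (Y := X) (H := K)).2 (e ≫ x ≫ k)
      obtain ⟨g₀, hg₀⟩ := (DSPtsLib.theta_bijective (g := σ) (Y := X) (H := G')).2 (e ≫ y)
      have h := congrArg (DSPtsLib.theta σ) (hcen s X x₀ g₀)
      rw [DSPtsLib.theta_mul, DSPtsLib.theta_mul, SubgroupNbhd.theta_map, hx₀, hg₀] at h
      rw [← cancel_epi e, MonObj.comp_mul, MonObj.comp_mul]
      simpa only [Category.assoc] using h
    obtain ⟨z', hz'⟩ := (hz.2.2 Ks (k ≫ i)).mpr fun X' x y => by
      rw [Category.comp_id]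
      exact hcentral X' x y
    have hz'f : z' ≫ z ≫ f = 1 := by
      rw [reassoc_of% hz', hK.w, ← Category.assoc, comp_toUnit]
      rfl
    obtain ⟨l, hl⟩ := (hker Ks z').mp hz'f
    have hla : l ≫ a = k := by rw [← cancel_mono i, Category.assoc, ha, reassoc_of% hl, hz']
    refine ⟨Limits.pullback.lift l.left (𝟙 _) (by rw [← Over.comp_left, hla]; exact (Category.id_comp _).symm), ?_,
      Limits.pullback.lift_snd _ _ _⟩
    rw [← cancel_mono (Limits.pullback.snd a.left (K.hom.fiberι s)), Category.assoc, Limits.pullback.lift_snd, Category.comp_id,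
      Category.id_comp]
  haveI : IsIso a := by
    haveI : IsIso ((Over.forget S).map a) := hiso
    exact isIso_of_reflects_iso a (Over.forget S)
  haveI : LocallyQuasiFinite K.hom := LocallyQuasiFinite.of_fiberToSpecResidueField _ fun s => by
    haveI := hfin s
    infer_instance
  haveI : LocallyQuasiFinite P.hom := by rw [← Over.w a]; infer_instance
  haveI : QuasiCompact P.hom := by rw [← Over.w a]; infer_instance
  haveI : IsFinite P.hom := RedRank.MultFinite.isFinite hP
  refine ⟨hfl, ?_, fun X x g => ?_⟩
  · rw [← Over.w (inv a)]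
    infer_instance
  · have hx : x ≫ i = (x ≫ inv a ≫ iP) ≫ z := by simp [← ha]
    have h := (hz.2.2 X (x ≫ i)).mp ⟨x ≫ inv a ≫ iP, hx.symm⟩ X (𝟙 X) g
    simpa using h

end Groth.Agent.S16773
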