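import Groth.Statements.S16775
import Groth.Agent.RedCentre.Main
import Groth.Agent.S5430
-- import your own Groth.Agent.* helpers here

set_option autoImplicit false
open CategoryTheory MonoidalCategory CartesianMonoidalCategory MonObj GrpObj AlgebraicGeometry
universe u
open SGA3x

namespace Groth.Agent.S16775

/-- Let G be a smooth affine group scheme with connected fibres over a scheme S, H ⊆ G a normal subgroup
scheme of multiplicative type (of finite type), G → Q = G/H the quotient, and H' ⊆ Q a central
subgroup scheme of multiplicative type (of finite type). Then the preimage of H' in G is a central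
subgroup scheme of G of multiplicative type. -/
theorem result {S : Scheme.{u}} {G H Q H' P : Over S}
    [GrpObj G] [GrpObj H] [GrpObj Q] [GrpObj H'] [GrpObj P]
    (hG : Smooth G.hom) (hGa : IsAffineHom G.hom) (hconn : ∀ s : S, _root_.IsConnected (G.hom.base ⁻¹' {s}))
    (i : H ⟶ G) [IsMonHom i] [Mono i] (hH : SGA3x.IsMultTypeFT H) (hHn : AlgGrp.IsNormalHom i)
    (q : G ⟶ Q) [IsMonHom q] (hq : RedSub.IsQuotient i q) (hker : AlgGrp.IsKernel i q)
    (j : H' ⟶ Q) [IsMonHom j] [Mono j] (hH' : SGA3x.IsMultTypeFT H')
    (hcenH' : ∀ (X : Over S) (x : X ⟶ H') (g : X ⟶ Q), (x ≫ j) * g = g * (x ≫ j))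
    (i' : P ⟶ G) [IsMonHom i'] (p : P ⟶ H') (hP : IsPullback i' p q j) :
    SGA3x.IsMultTypeFT P ∧ ∀ (X : Over S) (x : X ⟶ P) (g : X ⟶ G), (x ≫ i') * g = g * (x ≫ i') := by
  set_option backward.isDefEq.respectTransparency false in
  set_option backward.isDefEq.respectTransparency.types false in
  obtain ⟨_, _, _, hpb⟩ := hq
  haveI : QuasiCompact q.left := by
    haveI := Groth.Agent.EtFound.fpqc_quasiCompact.{u}
    haveI : IsAffineHom H.hom := (Groth.Agent.TransLib.multTypeFT_essFree hH).1
    haveI : QuasiCompact (fst G H).left :=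
      MorphismProperty.pullback_fst (P := @QuasiCompact) _ _ inferInstance
    exact MorphismProperty.of_isPullback_of_descendsAlong (P := @QuasiCompact) (hpb.map (Over.forget S))
      (show (@Surjective ⊓ @Flat ⊓ @LocallyOfFinitePresentation : MorphismProperty Scheme.{u}) q.left from
        ⟨⟨‹_›, ‹_›⟩, ‹_›⟩) ‹QuasiCompact (fst G H).left›
  have hQ : ∀ s : S, _root_.IsConnected (Q.hom.base ⁻¹' {s}) := fun s => by
    have e : q.left '' (G.hom.base ⁻¹' {s}) = Q.hom.base ⁻¹' {s} := by
      refine Set.ext fun y => ⟨?_, fun hy => ?_⟩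
      · rintro ⟨x, hx, rfl⟩
        show Q.hom (q.left x) = s
        rw [← Scheme.Hom.comp_apply, Over.w q]
        exact hx
      · obtain ⟨x, rfl⟩ := q.left.surjective y
        refine ⟨x, ?_, rfl⟩
        show G.hom x = s
        rw [← Over.w q, Scheme.Hom.comp_apply]
        exact hy
    rw [← e]
    exact (hconn s).image _ q.left.continuous.continuousOn
  haveI : IsMonHom p :=
    { one_hom := by
        rw [← cancel_mono j, Category.assoc, ← hP.w, ← Category.assoc, IsMonHom.one_hom, IsMonHom.one_hom,
          IsMonHom.one_hom]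
      mul_hom := by
        rw [← cancel_mono j, Category.assoc, ← hP.w, ← Category.assoc, IsMonHom.mul_hom, Category.assoc,
          IsMonHom.mul_hom q, Category.assoc, IsMonHom.mul_hom j,
          MonoidalCategory.tensorHom_comp_tensorHom_assoc, MonoidalCategory.tensorHom_comp_tensorHom_assoc, hP.w] }
  exact Groth.Agent.RedCentre.preimage_central i q hker hH
    (Groth.Agent.S5430.result S G H Q q i hker hH hQ) hconn hH' j hcenH' i' p hP

end Groth.Agent.S16775
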