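import Groth.Statements.S16776
import Groth.Agent.MultTypeLib.SubgroupTransporter
import Groth.Agent.SmoothSecLib.Basic
-- import your own Groth.Agent.* helpers here

set_option autoImplicit false
open CategoryTheory MonoidalCategory CartesianMonoidalCategory MonObj GrpObj AlgebraicGeometry
universe u
open SGA3x

namespace Groth.Agent.S16776

/-- Let G be a smooth affine group scheme over a scheme S and H₁, H₂ ⊆ G subgroup schemes of
multiplicative type (of finite type). If at a point s ∈ S the geometric fibres of H₁ and H₂ are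
conjugate under a geometric point of G, then H₁ and H₂ become conjugate under a section of G over
some etale neighbourhood of s. -/
theorem result {S : Scheme.{u}} (H₁ H₂ G : Over S) [GrpObj H₁] [GrpObj H₂] [GrpObj G]
    (h₁ : SGA3x.IsMultTypeFT H₁) (h₂ : SGA3x.IsMultTypeFT H₂) (hG : Smooth G.hom) (hGa : IsAffineHom G.hom)
    (i₁ : H₁ ⟶ G) [IsMonHom i₁] [Mono i₁] (i₂ : H₂ ⟶ G) [IsMonHom i₂] [Mono i₂] (s : S)
    (hs : ∃ g : Over.mk (Red.geomPt s) ⟶ G, ∀ (X : Over S) (p : X ⟶ Over.mk (Red.geomPt s)),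
      (∀ a : X ⟶ H₁, ∃ b : X ⟶ H₂, (p ≫ g) * (a ≫ i₁) * (p ≫ g)⁻¹ = b ≫ i₂) ∧
      (∀ b : X ⟶ H₂, ∃ a : X ⟶ H₁, (p ≫ g)⁻¹ * (b ≫ i₂) * (p ≫ g) = a ≫ i₁)) :
    ∃ (S' : Scheme.{u}) (e : S' ⟶ S), Etale e ∧ s ∈ Set.range e.base ∧
      ∃ g : 𝟙_ (Over S') ⟶ Red.bc e G, SGA3x.ConjBy ((Over.pullback e).map i₁) ((Over.pullback e).map i₂) g := by
  haveI := hG
  haveI := hGa
  obtain ⟨T, j, hj, hT, key⟩ := MultTypeLib.SubgroupTransporter.exists_transporter h₁ h₂ i₁ i₂
  obtain ⟨g, hg⟩ := hs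
  obtain ⟨z, hz⟩ := (key _ g).mpr hg
  let p : Spec (CommRingCat.of (AlgebraicClosure (S.residueField s))) := IsLocalRing.closedPoint (AlgebraicClosure (S.residueField s))
  have hx : T.hom (z.left p) = s := by
    rw [← Scheme.Hom.comp_apply, Over.w z]
    show (Spec.map _ ≫ S.fromSpecResidueField s) p = s
    rw [Scheme.Hom.comp_apply, Scheme.fromSpecResidueField_apply]
  obtain ⟨S', f, s', -, hf, hs', h, hh⟩ := SmoothSecLib.exists_etale_section_scheme T.hom (z.left p)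
  refine ⟨S', f, hf, ⟨s', hs'.trans hx⟩, ?_⟩
  let h₁ : (Over.map f).obj (𝟙_ (Over S')) ⟶ T := Over.homMk h (hh.trans (Category.id_comp f).symm)
  exact ⟨_, MultTypeLib.SubgroupTransporter.conjBy_of_stransp _
    (MultTypeLib.SubgroupTransporter.stransp_bc f ((key _ (h₁ ≫ j)).mp ⟨h₁, rfl⟩))⟩

end Groth.Agent.S16776
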