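import Groth.Statements.S16777
import Groth.Agent.TransLib.Universal
import Groth.Agent.TransLib.MultEssFree
import Groth.Agent.S12442

set_option autoImplicit false
open CategoryTheory MonoidalCategory CartesianMonoidalCategory MonObj GrpObj AlgebraicGeometry
universe u
open SGA3x

namespace Groth.Agent.S16777

/-- Let G be an affine group scheme of finite presentation over a scheme S, H ⊆ G a subgroup scheme of
multiplicative type (of finite type) and Y' ⊆ G any closed subscheme of finite presentation over S.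
Then the transporter of H into Y' (points g with g h g⁻¹ in Y' for all points h of H after any base
change) is representable by a closed subscheme of G of finite presentation over S. -/
theorem result {S : Scheme.{u}} (G H Y' : Over S) [GrpObj G] [GrpObj H]
    (hGa : IsAffineHom G.hom) (hGfp : LocallyOfFinitePresentation G.hom)
    (i : H ⟶ G) [IsMonHom i] [Mono i] (hH : SGA3x.IsMultTypeFT H)
    (y' : Y' ⟶ G) (hy' : IsClosedImmersion y'.left) (hY'fp : LocallyOfFinitePresentation Y'.hom) :
    ∃ (C : Over S) (c : C ⟶ G), IsClosedImmersion c.left ∧ LocallyOfFinitePresentation C.hom ∧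
      ∀ (X : Over S) (g : X ⟶ G), (∃ z : X ⟶ C, z ≫ c = g) ↔
        ∀ (X' : Over S) (x : X' ⟶ X) (h : X' ⟶ H), ∃ a' : X' ⟶ Y', (x ≫ g) * (h ≫ i) * (x ≫ g)⁻¹ = a' ≫ y' := by
  haveI := hGfp
  obtain ⟨hHa, hHe⟩ := TransLib.multTypeFT_essFree hH
  obtain ⟨C, c, hc, hfp, hC⟩ := TransLib.exists_closed_universal_essFree (X := G) hHe
    (snd H G * (fst H G ≫ i) * (snd H G)⁻¹) y'
  haveI : LocallyOfFinitePresentation y'.left := by
    haveI : LocallyOfFinitePresentation (y'.left ≫ G.hom) := by rw [Over.w y']; exact hY'fp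
    exact Groth.Agent.S12442.locallyOfFinitePresentation_of_comp y'.left G.hom
  haveI := hfp inferInstance inferInstance
  refine ⟨C, c, hc, by rw [← Over.w c]; infer_instance,
    fun X g => (hC g).trans ⟨fun ⟨l, hl⟩ X' x a => ⟨lift a x ≫ l, ?_⟩, fun h => ?_⟩⟩
  · rw [Category.assoc, hl]
    simp [MonObj.comp_mul, GrpObj.comp_inv, lift_whiskerLeft_assoc]
  · obtain ⟨l, hl⟩ := h (H ⊗ X) (snd H X) (fst H X)
    exact ⟨l, by rw [← hl]; simp [MonObj.comp_mul, GrpObj.comp_inv]⟩

end Groth.Agent.S16777
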