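import Groth.Statements.S16780
import Groth.Agent.MultTypeExt.Main
-- import your own Groth.Agent.* helpers here

set_option backward.isDefEq.respectTransparency.types false
set_option autoImplicit false
open CategoryTheory MonoidalCategory CartesianMonoidalCategory MonObj GrpObj AlgebraicGeometry
universe u
open SGA3x

namespace Groth.Agent.S16780

/-- Let 1 → H' → H → H'' → 1 be a short exact sequence of affine, flat, finitely presented group schemes
over a scheme S with H' and H'' of multiplicative type (of finite type). If every fibre H_s is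
connected or commutative, then H is of multiplicative type. -/
theorem result {S : Scheme.{u}} (H' H H'' : Over S) [GrpObj H'] [GrpObj H] [GrpObj H'']
    (hHa : IsAffineHom H.hom) (hHfl : Flat H.hom) (hHfp : LocallyOfFinitePresentation H.hom)
    (p : H ⟶ H'') [IsMonHom p] [Surjective p.left] [Flat p.left] [QuasiCompact p.left]
    (i : H' ⟶ H) [IsMonHom i] (hker : AlgGrp.IsKernel i p)
    (hH' : SGA3x.IsMultTypeFT H') (hH'' : SGA3x.IsMultTypeFT H'')
    (hfib : ∀ s : S, _root_.IsConnected (H.hom.base ⁻¹' {s}) ∨
      ∀ (X : Over (Spec (S.residueField s))) (a b : X ⟶ Red.bc (S.fromSpecResidueField s) H), a * b = b * a) :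
    SGA3x.IsMultTypeFT H := by
  refine Groth.Agent.MultTypeExt.isMultTypeFT_of_comm_extension H H' H'' p i hker hH' hH''
    (Groth.Agent.MultTypeExt.mul_comm_of_extension hker hH' hH'' fun s => ?_)
  rcases hfib s with hc | hc
  · left
    have e : p.left '' (H.hom.base ⁻¹' {s}) = H''.hom.base ⁻¹' {s} := by
      refine Set.ext fun y => ⟨?_, fun hy => ?_⟩
      · rintro ⟨x, hx, rfl⟩
        show H''.hom (p.left x) = s
        rw [← Scheme.Hom.comp_apply, Over.w p]
        exact hx
      · obtain ⟨x, rfl⟩ := p.left.surjective y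
        refine ⟨x, ?_, rfl⟩
        show H.hom x = s
        rw [← Over.w p, Scheme.Hom.comp_apply]
        exact hy
    rw [← e]
    exact hc.image _ p.left.continuous.continuousOn
  · right
    rintro Z a b ⟨l, hl⟩
    let ε : (Over.map (S.fromSpecResidueField s)).obj (Over.mk l) ≅ Z := Over.isoMk (Iso.refl _) (by
      show 𝟙 _ ≫ Z.hom = l ≫ S.fromSpecResidueField s
      rw [Category.id_comp, hl])
    obtain ⟨a', ha⟩ := (Groth.Agent.DSPtsLib.theta_bijective (S.fromSpecResidueField s)).surjective (ε.hom ≫ a)
    obtain ⟨b', hb⟩ := (Groth.Agent.DSPtsLib.theta_bijective (S.fromSpecResidueField s)).surjective (ε.hom ≫ b)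
    rw [← cancel_epi ε.hom, MonObj.comp_mul, MonObj.comp_mul, ← ha, ← hb, ← Groth.Agent.DSPtsLib.theta_mul, hc,
      Groth.Agent.DSPtsLib.theta_mul]

end Groth.Agent.S16780
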