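import Groth.Statements.S16785
import Groth.Agent.SmoothTransp.Basic
-- import your own Groth.Agent.* helpers here

set_option autoImplicit false
open CategoryTheory MonoidalCategory CartesianMonoidalCategory MonObj GrpObj AlgebraicGeometry
universe u
open SGA3x

namespace Groth.Agent.S16785

/-- Let G be an affine group scheme of finite presentation over a scheme S and Y ⊆ G a closed subscheme
of finite presentation, smooth over S with non-empty geometrically connected fibres. Then the
centralizer of Y in G is representable by a closed subscheme of G. (The published statement asks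
only that the fibres of Y be connected; this row asks them to be geometrically connected, the case
the printed argument treats.) -/
theorem result {S : Scheme.{u}} (G Y : Over S) [GrpObj G]
    (hGa : IsAffineHom G.hom) (hGfp : LocallyOfFinitePresentation G.hom)
    (y : Y ⟶ G) (hy : IsClosedImmersion y.left) (hYs : Smooth Y.hom) (hYfp : LocallyOfFinitePresentation Y.hom)
    (hYc : ∀ s : S, ConnectedSpace ↥(Red.geomFibre s Y).left) :
    ∃ (C : Over S) (c : C ⟶ G), IsClosedImmersion c.left ∧
      ∀ (X : Over S) (g : X ⟶ G), (∃ z : X ⟶ C, z ≫ c = g) ↔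
        ∀ (X' : Over S) (x : X' ⟶ X) (a : X' ⟶ Y), (x ≫ g) * (a ≫ y) = (a ≫ y) * (x ≫ g) := by
  set_option backward.isDefEq.respectTransparency.types false in
  haveI := hGa
  haveI := hYs
  haveI : IsClosedImmersion η[G].left := by
    haveI : IsClosedImmersion (η[G].left ≫ G.hom) := by rw [Over.w η[G]]; exact inferInstanceAs (IsClosedImmersion (𝟙 S))
    exact IsClosedImmersion.of_comp _ G.hom
  obtain ⟨C, c, hc, -, huniv⟩ := Groth.Agent.SmoothTransp.exists_closed_universal (W := Y) (X := G) hYc
    ((snd Y G * (fst Y G ≫ y)) * ((fst Y G ≫ y) * snd Y G)⁻¹) η[G]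
  refine ⟨C, c, hc, fun X g => (huniv g).trans ⟨fun ⟨l, hl⟩ X' x a => ?_, fun h => ⟨toUnit _, ?_⟩⟩⟩
  · have h1 := congrArg (lift a x ≫ ·) hl
    rw [← Category.assoc, toUnit_unique (lift a x ≫ l) (toUnit X'), ← Hom.one_def, ← Category.assoc, lift_whiskerLeft,
      MonObj.comp_mul, GrpObj.comp_inv, MonObj.comp_mul, MonObj.comp_mul, lift_snd, lift_fst_assoc] at h1
    exact mul_inv_eq_one.mp h1.symm
  · have h1 := h (Y ⊗ X) (snd Y X) (fst Y X)
    rw [← Hom.one_def, MonObj.comp_mul, GrpObj.comp_inv, MonObj.comp_mul, MonObj.comp_mul, whiskerLeft_snd,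
      whiskerLeft_fst_assoc]
    exact (mul_inv_eq_one.mpr h1).symm

end Groth.Agent.S16785
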