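import Groth.Statements.S16786
import Groth.Agent.HenselHom.LiftSubgroup
-- import your own Groth.Agent.* helpers here

set_option autoImplicit false
open CategoryTheory MonoidalCategory CartesianMonoidalCategory MonObj GrpObj AlgebraicGeometry
universe u
open CategoryTheory.Limits
open SGA3x

namespace Groth.Agent.S16786

/-- Let G be a smooth affine group scheme over a scheme S, s ∈ S, and H₀ a subgroup scheme of
multiplicative type of the fibre G_s. Then H₀ lifts to a subgroup scheme of multiplicative type of G
over an etale neighbourhood of s with trivial residue field extension: there are an etale S' → S, a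
κ(s)-point of S' over s and a multiplicative type subgroup of G_{S'} restricting to H₀ along that
point. -/
theorem result {S : Scheme.{u}} (G : Over S) [GrpObj G]
    (hG : Smooth G.hom) (hGa : IsAffineHom G.hom) (s : S)
    (H₀ : Over (Spec (S.residueField s))) [GrpObj H₀] (i₀ : H₀ ⟶ Red.bc (S.fromSpecResidueField s) G)
    [IsMonHom i₀] [Mono i₀] (hH₀ : SGA3x.IsMultTypeFT H₀) :
    ∃ (S' : Scheme.{u}) (e : S' ⟶ S) (σ : Spec (S.residueField s) ⟶ S'), Etale e ∧ σ ≫ e = S.fromSpecResidueField s ∧
      ∃ (H' : Over S') (_ : GrpObj H') (i' : H' ⟶ Red.bc e G) (_ : IsMonHom i') (_ : Mono i'), SGA3x.IsMultTypeFT H' ∧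
        ∃ φ : H₀.left ≅ (Red.bc σ H').left, φ.hom ≫ (Red.bc σ H').hom = H₀.hom ∧
          φ.hom ≫ ((Over.pullback σ).map i').left ≫ pullback.fst (Red.bc e G).hom σ ≫ pullback.fst G.hom e =
            i₀.left ≫ pullback.fst G.hom (S.fromSpecResidueField s) := by
  haveI := hG
  haveI := hGa
  obtain ⟨U, hU, hsU, -⟩ := exists_isAffineOpen_mem_and_subset (show s ∈ (⊤ : S.Opens) from trivial)
  obtain ⟨p, rfl⟩ : s ∈ Set.range hU.fromSpec := by rw [hU.range_fromSpec]; exact hsU
  exact Groth.Agent.HenselHom.exists_lift_subgroup hU.fromSpec p G H₀ i₀ hH₀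

end Groth.Agent.S16786
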