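import Groth.Statements.S16792
import Mathlib
import Groth.Agent.Synt29.LogLamKahler

set_option autoImplicit false
universe v u
open LogConn

namespace Groth.Agent.S16792

open TensorProduct in
/-- Let B be a commutative algebra over a commutative ring A, let λ ∈ B, and let t₁, …, tₙ ∈ B be
elements whose differentials dt₁, …, dtₙ form a basis of the module Ω of Kähler differentials of B
over A. Let L be a B-module free on ω₁, …, ωₙ together with a B-linear map ι : Ω → L sending dtᵢ to
tᵢ ωᵢ (L plays the role of the module of differentials with logarithmic poles along t₁ ⋯ tₙ, and ωᵢ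
that of dlog tᵢ), and let E be a B-module with an A-linear map ∇ : E → E ⊗ L obeying the λ-twisted
Leibniz rule ∇(b e) = b ∇e + λ e ⊗ ι(db). Write ∇ᵢ for the components of ∇ in the basis ω and, for a
finite set J of indices, ∇_J for the composite of the ∇ⱼ, j ∈ J, taken in increasing order. Then for
every finite set I of indices the A-submodule E_I = Σ_{J ⊆ I} (∏_{i ∈ I∖J} tᵢ) · ∇_J(E) of E is
stable under multiplication by every element of B. (Flatness of ∇ and λ coming from the base ring,
both part of the published setting, are not used.) -/
theorem result {A : Type v} {B L E : Type u} [CommRing A] [CommRing B]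
    [Algebra A B] [AddCommGroup L] [Module B L] [Module A L] [IsScalarTower A B L]
    [AddCommGroup E] [Module B E] [Module A E] [IsScalarTower A B E]
    (lam : B) {n : ℕ} (t : Fin n → B) (bΩ : Module.Basis (Fin n) B (KaehlerDifferential A B))
    (hbΩ : ∀ i, bΩ i = KaehlerDifferential.D A B (t i))
    (ω : Module.Basis (Fin n) B L) (ι : KaehlerDifferential A B →ₗ[B] L)
    (hι : ∀ i, ι (KaehlerDifferential.D A B (t i)) = t i • ω i)
    (nabla : E →ₗ[A] E ⊗[B] L)
    (hc : Conn.IsLamConn (ι.compDer (KaehlerDifferential.D A B)) lam nabla)
    (I : Finset (Fin n)) (b : B) (x : E) (hx : x ∈ LogConn.piece nabla ω t I) :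
    b • x ∈ LogConn.piece nabla ω t I := by
  
  exact Groth.Agent.Synt29.LogLam.piece_smul_mem
    (Groth.Agent.Synt29.LogLam.coordOfBasis bΩ hbΩ ι hι hc) b hx

end Groth.Agent.S16792
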