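import Groth.Statements.S16794
import Groth.Agent.H9Misc.HochschildFormula

set_option autoImplicit false
universe v u
open PCurv

namespace Groth.Agent.S16794

open TensorProduct in
/-- Let p be a prime number and B a commutative algebra of characteristic p over a commutative ring A
whose module Ω of Kähler differentials over A is free of rank one on a form ω; let θ₀ be the
A-derivation of B dual to ω (its B-linear functional Ω → B takes the value 1 on ω), and let ∇ be a
connection on a finite free B-module M. Then the p-curvature of ∇ vanishes identically — for every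
A-derivation θ of B and every derivation θ' that agrees with the p-fold iterate of θ, the
endomorphism (∇_θ)^p − ∇_{θ'} of M is zero — if and only if it vanishes for the single derivation
θ₀. -/
theorem result {A : Type v} {B M : Type u} [CommRing A] [CommRing B]
    [Algebra A B] (p : ℕ) [Fact p.Prime] [CharP B p]
    [AddCommGroup M] [Module B M] [Module A M] [IsScalarTower A B M] [Module.Finite B M] [Module.Free B M]
    (bΩ : Module.Basis (Fin 1) B (KaehlerDifferential A B)) (θ₀ : Derivation A B B)
    (hθ₀ : θ₀.liftKaehlerDifferential (bΩ 0) = 1)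
    (nabla : M →ₗ[A] M ⊗[B] KaehlerDifferential A B)
    (hc : Conn.IsConn (KaehlerDifferential.D A B) nabla) :
    (∀ θ θp : Derivation A B B, Conn.IsIterPow θ p θp → Conn.pCurv p nabla θ θp = 0) ↔
      (∀ θp : Derivation A B B, Conn.IsIterPow θ₀ p θp → Conn.pCurv p nabla θ₀ θp = 0) := by
  refine ⟨fun h θp hθp => h θ₀ θp hθp, fun h θ θp hθp => ?_⟩
  let ι : B →+* Module.End A M := (Algebra.lsmul A A M : B →ₐ[A] Module.End A M).toRingHom
  let D : Module.End A M := Conn.alongDer nabla θ₀
  let c : Derivation A B B → B := fun η => η.liftKaehlerDifferential (bΩ 0)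
  have hlift : ∀ η : Derivation A B B,
      η.liftKaehlerDifferential = c η • θ₀.liftKaehlerDifferential := fun η =>
    bΩ.ext fun i => by
      rw [Fin.eq_zero i, LinearMap.smul_apply, hθ₀, smul_eq_mul, mul_one]
  have happ : ∀ (η : Derivation A B B) (x : B), η x = c η * θ₀ x := fun η x => by
    have := LinearMap.congr_fun (hlift η) (KaehlerDifferential.D A B x)
    rw [LinearMap.smul_apply, Derivation.liftKaehlerDifferential_comp_D,
      Derivation.liftKaehlerDifferential_comp_D] at this
    exact this
  have halong : ∀ η : Derivation A B B, Conn.alongDer nabla η = ι (c η) * D := fun η => by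
    refine LinearMap.ext fun m => ?_
    show TensorProduct.rid B M (TensorProduct.map LinearMap.id η.liftKaehlerDifferential (nabla m)) =
      c η • TensorProduct.rid B M (TensorProduct.map LinearMap.id θ₀.liftKaehlerDifferential (nabla m))
    rw [hlift, TensorProduct.map_smul_right, LinearMap.smul_apply, map_smul]
  have hD : ∀ x, D * ι x = ι x * D + ι (θ₀ x) := fun x => by
    refine LinearMap.ext fun m => ?_
    show TensorProduct.rid B M (TensorProduct.map LinearMap.id θ₀.liftKaehlerDifferential (nabla (x • m))) =
      x • TensorProduct.rid B M (TensorProduct.map LinearMap.id θ₀.liftKaehlerDifferential (nabla m)) + θ₀ x • m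
    rw [hc x m, map_add, map_add, map_smul, map_smul, TensorProduct.map_tmul, TensorProduct.rid_tmul,
      LinearMap.id_apply, Derivation.liftKaehlerDifferential_comp_D]
  let η₀ : Derivation A B B := H9Misc.Hochschild.iterPow θ₀ p
  have hDp : D ^ p = ι (c η₀) * D := by
    have h0 := h η₀ fun x => H9Misc.Hochschild.iterPow_apply θ₀ p x
    rw [Conn.pCurv, sub_eq_zero] at h0
    exact h0.trans (halong η₀)
  let b : B := c θ
  let P1 : B := H9Misc.Hochschild.P θ₀ b p 1
  have hcp : c θp = b ^ p * c η₀ + P1 := by
    have hH := H9Misc.Hochschild.mul_pow_prime θ₀ b p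
      (Algebra.lmul A B : B →ₐ[A] Module.End A B).toRingHom (θ₀ : B →ₗ[A] B) fun x => LinearMap.ext fun g => by
        show θ₀ (x * g) = x * θ₀ g + θ₀ x * g
        rw [Derivation.leibniz, smul_eq_mul, smul_eq_mul, mul_comm g]
    have hx : ∀ x, θp x = (b ^ p * c η₀ + P1) * θ₀ x := fun x => by
      have e : (⇑θ : B → B) = fun y => b * θ₀ y := funext (happ θ)
      have h1 := LinearMap.congr_fun hH x
      rw [Module.End.pow_apply] at h1
      have h2 : (⇑(θ₀ : B →ₗ[A] B))^[p] x = c η₀ * θ₀ x := by
        rw [← happ η₀, H9Misc.Hochschild.iterPow_apply]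
        rfl
      rw [hθp x, e, add_mul]
      refine Eq.trans ?_ (h1.trans ?_)
      · rfl
      · show b ^ p * ((θ₀ : B →ₗ[A] B) ^ p) x + P1 * θ₀ x = _
        rw [Module.End.pow_apply, h2, mul_assoc]
    have hd : θp = (b ^ p * c η₀ + P1) • θ₀ := Derivation.ext hx
    show θp.liftKaehlerDifferential (bΩ 0) = _
    have hl : θp.liftKaehlerDifferential = (b ^ p * c η₀ + P1) • θ₀.liftKaehlerDifferential :=
      Derivation.liftKaehlerDifferential_unique _ _ (Derivation.ext fun x => by
        show θp.liftKaehlerDifferential (KaehlerDifferential.D A B x) =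
          ((b ^ p * c η₀ + P1) • θ₀.liftKaehlerDifferential) (KaehlerDifferential.D A B x)
        rw [LinearMap.smul_apply, Derivation.liftKaehlerDifferential_comp_D,
          Derivation.liftKaehlerDifferential_comp_D, hx x, smul_eq_mul])
    rw [hl, LinearMap.smul_apply, hθ₀, smul_eq_mul, mul_one]
  rw [Conn.pCurv, halong θ, halong θp, sub_eq_zero, hcp, H9Misc.Hochschild.mul_pow_prime θ₀ b p ι D hD,
    hDp, map_add, map_mul, add_mul, mul_assoc]

end Groth.Agent.S16794
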