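import Groth.Statements.S16798
import Mathlib
import Groth.Agent.Synt29.LogLamKahler

set_option autoImplicit false
universe v u
open LogConn

namespace Groth.Agent.S16798

open TensorProduct in
/-- Let B be a commutative algebra over a commutative ring A, λ ∈ B, and t₁, …, tₙ ∈ B elements whose
differentials dt₁, …, dtₙ form a basis of the Kähler differentials Ω of B over A; let L be a
B-module free on ω₁, …, ωₙ with a B-linear ι : Ω → L sending dtᵢ to tᵢ ωᵢ (ωᵢ playing the role of
dlog tᵢ), and E a B-module with an A-linear ∇ : E → E ⊗ L obeying the λ-twisted Leibniz rule ∇(b e)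
= b ∇e + λ e ⊗ ι(db); write ∇ᵢ for the components of ∇ in the basis ω, ∇_J for their composite over
a finite index set J in increasing order, and E_I = Σ_{J ⊆ I} (∏_{i ∈ I∖J} tᵢ) · ∇_J(E) (an
A-submodule of E) for a finite index set I. Assume ∇ flat: for the logarithmic de Rham differential
d on the exterior powers of L (pinned on generators by d(b₀ · e₁ ∧ ⋯ ∧ e_p) = ι(db₀) ∧ e₁ ∧ ⋯ ∧ e_p,
factors eⱼ of the form ι(db) or ωᵢ) and the λ-twisted extension ∇^• of ∇ (∇^p(e ⊗ η) = ∇(e) ∧ η + e
⊗ λ dη) one has ∇¹ ∘ ∇ = 0. Let u₁, …, uₙ be units of B such that the elements t'ᵢ = uᵢ tᵢ again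
have differentials forming a basis of Ω, and such that the elements ω'ᵢ = ωᵢ + uᵢ⁻¹ ι(duᵢ) again
form a basis of L (a second admissible coordinate system with the same branches, ω'ᵢ playing the
role of dlog t'ᵢ). Then for every p the layer ⊕_{|K| = p} E_K ⊗ ω_K formed with the coordinates t,
the basis ω and the components of ∇ in ω coincides with the layer formed with t', ω' and the
components of ∇ in ω'. (The published statement also allows a permutation of the indices.) -/
theorem result {A : Type v} {B L E : Type u} [CommRing A] [CommRing B]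
    [Algebra A B] [AddCommGroup L] [Module B L] [Module A L] [IsScalarTower A B L]
    [AddCommGroup E] [Module B E] [Module A E] [IsScalarTower A B E]
    (lam : B) {n : ℕ} (t : Fin n → B) (bΩ : Module.Basis (Fin n) B (KaehlerDifferential A B))
    (hbΩ : ∀ i, bΩ i = KaehlerDifferential.D A B (t i))
    (ω : Module.Basis (Fin n) B L) (ι : KaehlerDifferential A B →ₗ[B] L)
    (hι : ∀ i, ι (KaehlerDifferential.D A B (t i)) = t i • ω i)
    (nabla : E →ₗ[A] E ⊗[B] L)
    (hc : Conn.IsLamConn (ι.compDer (KaehlerDifferential.D A B)) lam nabla)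
    (d : ∀ p : ℕ, ↥(⋀[B]^p L) →ₗ[A] ↥(⋀[B]^(p + 1) L))
    (hd : LogDiff.IsLogRule (KaehlerDifferential.D A B) ι (⇑ω) d)
    (nablas : ∀ p : ℕ, E ⊗[B] ↥(⋀[B]^p L) →ₗ[A] E ⊗[B] ↥(⋀[B]^(p + 1) L))
    (hint : Conn.IsIntegrable nabla (fun p => lam • d p) nablas)
    (u : Fin n → Bˣ) (bΩ' : Module.Basis (Fin n) B (KaehlerDifferential A B))
    (hbΩ' : ∀ i, bΩ' i = KaehlerDifferential.D A B ((u i : B) * t i))
    (ω' : Module.Basis (Fin n) B L)
    (hω' : ∀ i, ω' i = ω i + ((u i)⁻¹ : Bˣ).val • ι (KaehlerDifferential.D A B (u i : B)))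
    (p : ℕ) :
    LogConn.layer nabla ω t p = LogConn.layer nabla ω' (fun i => (u i : B) * t i) p := by
  
  have hd1 : ∀ i, d 1 (exteriorPower.ιMulti B 1 (fun _ => ω i)) = 0 := fun i =>
    Groth.Agent.Synt29.LogLam.d_ιMulti_basis hd 1 (fun _ => i)
  have hι' : ∀ i, ι (KaehlerDifferential.D A B ((u i : B) * t i)) =
      ((u i : B) * t i) • ω' i := by
    intro i
    rw [Derivation.leibniz, map_add, map_smul, map_smul, hι, smul_smul, hω', smul_add, smul_smul,
      show (u i : B) * t i * ((u i)⁻¹ : Bˣ).val = t i by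
        rw [mul_right_comm, Units.mul_inv, one_mul]]
  have hinv : ∀ i, KaehlerDifferential.D A B ((u i)⁻¹ : Bˣ).val =
      -((((u i)⁻¹ : Bˣ).val) ^ 2 • KaehlerDifferential.D A B (u i : B)) := by
    intro i
    have h := congrArg (KaehlerDifferential.D A B) (Units.inv_mul (u i))
    rw [Derivation.leibniz, Derivation.map_one_eq_zero] at h
    have h2 := congrArg (fun z => ((u i)⁻¹ : Bˣ).val • z) (eq_neg_of_add_eq_zero_right h)
    simp only [smul_smul, Units.inv_mul, one_smul, smul_neg] at h2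
    rw [h2, pow_two]
  have hd1' : ∀ i, d 1 (exteriorPower.ιMulti B 1 (fun _ => ω' i)) = 0 := by
    intro i
    have e1 : exteriorPower.ιMulti B 1 (fun _ : Fin 1 => ω' i) =
        exteriorPower.ιMulti B 1 (fun _ : Fin 1 => ω i) + ((u i)⁻¹ : Bˣ).val •
          exteriorPower.ιMulti B 1 (fun _ : Fin 1 => ι (KaehlerDifferential.D A B (u i : B))) := by
      rw [← Groth.Agent.Synt29.LogLam.oneEquiv_symm, ← Groth.Agent.Synt29.LogLam.oneEquiv_symm,
        ← Groth.Agent.Synt29.LogLam.oneEquiv_symm, hω', map_add, map_smul]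
    rw [e1, map_add, hd1, zero_add, hd 1 _ _ (fun _ => Or.inl ⟨_, rfl⟩)]
    set a := ι (KaehlerDifferential.D A B (u i : B))
    set c : B := -(((u i)⁻¹ : Bˣ).val ^ 2)
    have e2 : (Fin.cons (ι (KaehlerDifferential.D A B ((u i)⁻¹ : Bˣ).val)) (fun _ : Fin 1 => a) :
        Fin 2 → L) = Function.update (fun _ => a) 0 (c • a) := by
      funext k
      refine Fin.cases ?_ (fun k => ?_) k
      · rw [Fin.cons_zero, Function.update_self, hinv, map_neg, map_smul, neg_smul]
      · rw [Fin.cons_succ, Function.update_of_ne (Fin.succ_ne_zero k)]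
    rw [e2, AlternatingMap.map_update_smul, AlternatingMap.map_eq_zero_of_eq _ _
      (i := (0 : Fin 2)) (j := 1) (by simp) (by decide), smul_zero]
  have hcomm := Groth.Agent.Synt29.LogLam.comp_comm d nablas hint hd1
  have hcomm' := Groth.Agent.Synt29.LogLam.comp_comm d nablas hint hd1'
  apply le_antisymm
  · refine Groth.Agent.Synt29.LogLam.layer_le_layer hcomm' bΩ' hbΩ' ι hι' hc ω
      (fun i => ((u i)⁻¹ : Bˣ).val) (fun i => ?_)
      (fun i => -((((u i)⁻¹ : Bˣ).val) • KaehlerDifferential.D A B (u i : B)))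
      (fun i => ?_) bΩ hbΩ hι p
    · rw [← mul_assoc, Units.inv_mul, one_mul]
    · rw [hω', map_neg, map_smul]
      abel
  · refine Groth.Agent.Synt29.LogLam.layer_le_layer hcomm bΩ hbΩ ι hι hc ω'
      (fun i => (u i : B)) (fun _ => rfl)
      (fun i => ((u i)⁻¹ : Bˣ).val • KaehlerDifferential.D A B (u i : B))
      (fun i => ?_) bΩ' hbΩ' hι' p
    rw [hω', map_smul]

end Groth.Agent.S16798
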