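import Groth.Statements.S16806
import Groth.Agent.AlgStLib.OnePointSt

set_option backward.isDefEq.respectTransparency false
set_option backward.isDefEq.respectTransparency.types false
-- import your own Groth.Agent.* helpers here

set_option autoImplicit false
universe u
open CategoryTheory AlgebraicGeometry
open Gerb Groth.Agent.AlgStLib Groth.Agent.AlgStLib.OnePt

namespace Groth.Agent.S16806

/-- An algebraic stack 𝒵 is reduced, locally Noetherian and has exactly one point if and only if it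
receives a locally finitely presented, surjective, flat morphism from the spectrum of a field. -/
theorem result
    (S : Scheme.{u}) (𝒵 : AlgSt.Cat S) (h𝒵 : AlgSt.IsAlgStack Scheme.fppfPrecoverage 𝒵) :
    (AlgSt.SmoothLocally (fun T => IsReduced T) 𝒵 ∧ AlgSt.SmoothLocally (fun T => IsLocallyNoetherian T) 𝒵 ∧
        Nonempty (AlgSt.Points 𝒵) ∧ Subsingleton (AlgSt.Points 𝒵)) ↔
      ∃ (k : Type u) (_ : Field k) (a : Spec (CommRingCat.of k) ⟶ S)
        (z : FibCat.overCat (Over.mk a) ⥤ᵇ 𝒵), AlgSt.RepByAlgSpWith (AlgSp.LocP @LocallyOfFinitePresentation) z ∧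
          AlgSt.RepByAlgSpWith AlgSp.IsSurjectiveMor z ∧ AlgSt.RepByAlgSpWith (AlgSp.LocP @Flat) z :=  by
  constructor
  · rintro ⟨hr, hN, hne, hsub⟩
    obtain ⟨k, _, a, z, ⟨-, hs, hf⟩, hp⟩ := exists_lft_flat_of_reduced h𝒵 hr
    exact ⟨k, inferInstance, a, z, hp hN, hs, hf⟩
  · rintro ⟨k, _, a, z, hp, hs, hf⟩
    exact ⟨smoothLocally_isReduced h𝒵 hs hf, smoothLocally_isLocallyNoetherian h𝒵 hp hs hf, points_of_surj h𝒵 hs⟩
end Groth.Agent.S16806
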