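import Groth.Statements.S16808
import Groth.Agent.AlgStLib.FieldImage

set_option backward.isDefEq.respectTransparency false
set_option backward.isDefEq.respectTransparency.types false
-- import your own Groth.Agent.* helpers here

set_option autoImplicit false
universe u
open CategoryTheory AlgebraicGeometry
open Gerb Groth.Agent.AlgStLib Groth.Agent.AlgStLib.OnePt

namespace Groth.Agent.S16808

/-- Let the algebraic stack 𝒵 receive a surjective flat morphism from the spectrum of a field. Then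
there is a unique strictly full subcategory of 𝒵 which is an algebraic stack receiving a locally
finitely presented, surjective, flat morphism from the spectrum of a field; its inclusion into 𝒵 is
a monomorphism. -/
theorem result
    (S : Scheme.{u}) (𝒵 : AlgSt.Cat S) (h𝒵 : AlgSt.IsAlgStack Scheme.fppfPrecoverage 𝒵)
    (k : Type u) [Field k] (a : Spec (CommRingCat.of k) ⟶ S)
    (z : FibCat.overCat (Over.mk a) ⥤ᵇ 𝒵)
    (hzs : AlgSt.RepByAlgSpWith AlgSp.IsSurjectiveMor z) (hzf : AlgSt.RepByAlgSpWith (AlgSp.LocP @Flat) z) :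
    ∃ Q : 𝒵.obj → Prop,
      (ObjectProperty.IsClosedUnderIsomorphisms Q ∧ AlgSt.IsAlgStack Scheme.fppfPrecoverage (AlgSt.fullSub 𝒵 Q) ∧
        (∃ (k' : Type u) (_ : Field k') (a' : Spec (CommRingCat.of k') ⟶ S)
          (z' : FibCat.overCat (Over.mk a') ⥤ᵇ AlgSt.fullSub 𝒵 Q),
          AlgSt.RepByAlgSpWith (AlgSp.LocP @LocallyOfFinitePresentation) z' ∧
            AlgSt.RepByAlgSpWith AlgSp.IsSurjectiveMor z' ∧ AlgSt.RepByAlgSpWith (AlgSp.LocP @Flat) z') ∧
        AlgSt.IsMono (AlgSt.subIncl 𝒵 Q)) ∧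
      ∀ Q' : 𝒵.obj → Prop, ObjectProperty.IsClosedUnderIsomorphisms Q' → AlgSt.IsAlgStack Scheme.fppfPrecoverage (AlgSt.fullSub 𝒵 Q') →
        (∃ (k' : Type u) (_ : Field k') (a' : Spec (CommRingCat.of k') ⟶ S)
          (z' : FibCat.overCat (Over.mk a') ⥤ᵇ AlgSt.fullSub 𝒵 Q'),
          AlgSt.RepByAlgSpWith (AlgSp.LocP @LocallyOfFinitePresentation) z' ∧
            AlgSt.RepByAlgSpWith AlgSp.IsSurjectiveMor z' ∧ AlgSt.RepByAlgSpWith (AlgSp.LocP @Flat) z') →
        ∀ ξ : 𝒵.obj, Q' ξ ↔ Q ξ :=  by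
  obtain ⟨Q, hcl, halg, ⟨k₁, hk₁, a₁, z₁, hp, hs, hf⟩, hm⟩ := FieldImg.exists_image h𝒵 hzs hzf
  refine ⟨Q, ⟨hcl, halg, ⟨k₁, hk₁, a₁, z₁, hp, hs, hf⟩, hm⟩, fun Q' hcl' halg' ⟨k₂, hk₂, a₂, z₂, hp', hs', hf'⟩ ξ => ?_⟩
  have := (points_of_surj h𝒵 hzs).2
  have h₁ := (points_of_surj halg hs).1
  have h₂ := (points_of_surj halg' hs').1
  exact ⟨fun h => FieldImg.mem_of_cover h𝒵 hcl halg halg' hp' hs' hf'
      ⟨h₁.some, Subsingleton.elim _ _⟩ h,
    fun h => FieldImg.mem_of_cover h𝒵 hcl' halg' halg hp hs hf ⟨h₂.some, Subsingleton.elim _ _⟩ h⟩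
end Groth.Agent.S16808
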