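import Groth.Statements.S16809
import Groth.Agent.AlgStLib.OnePointSt
import Groth.Agent.AlgStLib.RedSubstack

set_option backward.isDefEq.respectTransparency false
set_option backward.isDefEq.respectTransparency.types false
-- import your own Groth.Agent.* helpers here

set_option autoImplicit false
universe u
open CategoryTheory AlgebraicGeometry
open Gerb Groth.Agent.AlgStLib Groth.Agent.AlgStLib.OnePt

namespace Groth.Agent.S16809

/-- (1)⇔(2)⇔(3): for a point x of an algebraic stack 𝒳 the following are equivalent: some algebraic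
stack with exactly one point maps monomorphically to 𝒳 onto x; some reduced algebraic stack with
exactly one point does; some algebraic stack 𝒵 with a monomorphism f : 𝒵 → 𝒳 receives a surjective
flat morphism z from the spectrum of a field with f(z) = x. -/
theorem result
    (S : Scheme.{u}) (𝒳 : AlgSt.Cat S) (h𝒳 : AlgSt.IsAlgStack Scheme.fppfPrecoverage 𝒳) (x : AlgSt.Points 𝒳) :
    [Gerb.ResGerbeExists Scheme.fppfPrecoverage 𝒳 x,
      ∃ (𝒵 : AlgSt.Cat S) (f : 𝒵 ⥤ᵇ 𝒳), AlgSt.IsAlgStack Scheme.fppfPrecoverage 𝒵 ∧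
        AlgSt.SmoothLocally (fun T => IsReduced T) 𝒵 ∧ AlgSt.IsMono f ∧
        Nonempty (AlgSt.Points 𝒵) ∧ Subsingleton (AlgSt.Points 𝒵) ∧ ∀ p, AlgSt.Points.map f p = x,
      ∃ (𝒵 : AlgSt.Cat S) (f : 𝒵 ⥤ᵇ 𝒳) (k : Type u) (_ : Field k) (a : Spec (CommRingCat.of k) ⟶ S)
        (z : FibCat.overCat (Over.mk a) ⥤ᵇ 𝒵), AlgSt.IsAlgStack Scheme.fppfPrecoverage 𝒵 ∧ AlgSt.IsMono f ∧
        AlgSt.RepByAlgSpWith AlgSp.IsSurjectiveMor z ∧ AlgSt.RepByAlgSpWith (AlgSp.LocP @Flat) z ∧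
        ∀ t : ↥(Over.mk a).left, AlgSt.Points.map f (AlgSt.Points.ofChart z t) = x].TFAE :=  by
  tfae_have 2 → 1 := fun ⟨𝒵, f, h𝒵, _, hf, hne, hsub, hx⟩ => ⟨𝒵, f, h𝒵, hf, hne, hsub, hx⟩
  tfae_have 1 → 2 := fun ⟨𝒵, f, h𝒵, hf, hne, hsub, hx⟩ => by
    obtain ⟨Q, hQ, hrange, hr⟩ := RedSub.exists_reduced_closedSubstack h𝒵 Set.univ isClosed_univ
    have hm := isMono_subIncl h𝒵 hQ.2.1
    obtain ⟨_, _⟩ := full_faithful_of_isMono h𝒳.isStack.1 hf
    have : (AlgSt.subIncl 𝒵 Q).toFunctor.Full := inferInstanceAs (ObjectProperty.ι Q).Full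
    have : (AlgSt.subIncl 𝒵 Q).toFunctor.Faithful := inferInstanceAs (ObjectProperty.ι Q).Faithful
    have : (BasedFunctor.comp (AlgSt.subIncl 𝒵 Q) f).toFunctor.Full :=
      inferInstanceAs ((AlgSt.subIncl 𝒵 Q).toFunctor ⋙ f.toFunctor).Full
    have : (BasedFunctor.comp (AlgSt.subIncl 𝒵 Q) f).toFunctor.Faithful :=
      inferInstanceAs ((AlgSt.subIncl 𝒵 Q).toFunctor ⋙ f.toFunctor).Faithful
    obtain ⟨z, -⟩ : Classical.arbitrary (AlgSt.Points 𝒵) ∈ Set.range (AlgSt.Points.map (AlgSt.subIncl 𝒵 Q)) :=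
      hrange.symm.subset trivial
    exact ⟨AlgSt.fullSub 𝒵 Q, BasedFunctor.comp (AlgSt.subIncl 𝒵 Q) f, hQ.2.1, hr,
      isMono_of_full_faithful hQ.2.1 h𝒳 _, ⟨z⟩,
      ⟨fun a b => (pts_map_injective_of_isMono hQ.2.1.isStack.1 h𝒵.isStack.1 hm) (Subsingleton.elim _ _)⟩,
      fun p => by rw [pts_map_comp]; exact hx _⟩
  tfae_have 2 → 3 := fun ⟨𝒵, f, h𝒵, hr, hf, hne, hsub, hx⟩ => by
    obtain ⟨k, _, a, z, hs, hfl⟩ := exists_flat_of_reduced h𝒵 hr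
    exact ⟨𝒵, f, k, inferInstance, a, z, h𝒵, hf, hs, hfl, fun t => hx _⟩
  tfae_have 3 → 2 := fun ⟨𝒵, f, k, hk, a, z, h𝒵, hf, hs, hfl, hx⟩ => by
    have hp := points_of_surj h𝒵 hs
    have := hp.2
    exact ⟨𝒵, f, h𝒵, smoothLocally_isReduced h𝒵 hs hfl, hf, hp.1, hp.2, fun p =>
      Subsingleton.elim p (AlgSt.Points.ofChart z (IsLocalRing.closedPoint k)) ▸ hx _⟩
  tfae_finish
end Groth.Agent.S16809
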