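import Groth.Statements.S1681
import Groth.Agent.BlowUpX.Basic

set_option autoImplicit false
universe u
open CategoryTheory CategoryTheory.Limits AlgebraicGeometry TopologicalSpace
open SDiv

namespace Groth.Agent.S1681

/-- Let b : X' ⟶ X be a blowing-up of X along the quasi-coherent ideal sheaf 𝓘. Then b restricts to a
bijection from the maximal points of X' (points with no proper generization) onto the maximal points
of X not lying in the support of 𝓘. -/
theorem result {X X' : Scheme.{u}} (𝓘 : X.IdealSheafData) (b : X' ⟶ X) (hb : BlowUp.IsBlowUp b 𝓘) :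
    Set.BijOn (fun x' => b x') {x' : ↥X' | ∀ y : ↥X', y ⤳ x' → y = x'}
      {x : ↥X | (∀ y : ↥X, y ⤳ x → y = x) ∧ x ∉ 𝓘.support} := by
  have := BlowUpX.isIso_restrict hb
  set U : X.Opens := 𝓘.support.compl with hUdef
  have hinj : ∀ x' y' : ↥X', b x' ∈ U → b y' ∈ U → b x' = b y' → x' = y' := by
    intro x' y' hx hy h
    have hb' : Function.Injective ((b ∣_ U) ≫ U.ι) :=
      ((b ∣_ U) ≫ U.ι).isOpenEmbedding.injective
    have e : ∀ (z : ↥X') (hz : b z ∈ U), ((b ∣_ U) ≫ U.ι) (⟨z, hz⟩ : (b ⁻¹ᵁ U).toScheme) = b z := by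
      intro z hz
      rw [morphismRestrict_ι]
      rfl
    exact congrArg Subtype.val
      (@hb' (⟨x', hx⟩ : (b ⁻¹ᵁ U).toScheme) ⟨y', hy⟩ ((e x' hx).trans (h.trans (e y' hy).symm)))
  have hsurj : ∀ x ∈ U, ∃ x' : ↥X', b x' = x := by
    intro x hx
    obtain ⟨w, hw⟩ := (b ∣_ U).surjective (⟨x, hx⟩ : U.toScheme)
    exact ⟨w.1, by rw [← morphismRestrict_base_coe b U w, hw]⟩
  have hgen : ∀ x' : ↥X', b x' ∈ U → (∀ y : ↥X', y ⤳ x' → y = x') → ∀ y : ↥X, y ⤳ b x' → y = b x' := by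
    intro x' hx' hg y hy
    have hyU : y ∈ U := hy.mem_open U.isOpen hx'
    obtain ⟨y', rfl⟩ := hsurj y hyU
    have hsp : (⟨y', hyU⟩ : (b ⁻¹ᵁ U).toScheme) ⤳ ⟨x', hx'⟩ := by
      refine ((b ∣_ U) ≫ U.ι).isOpenEmbedding.isInducing.specializes_iff.mp ?_
      have e : ∀ (z : ↥X') (hz : b z ∈ U), ((b ∣_ U) ≫ U.ι) (⟨z, hz⟩ : (b ⁻¹ᵁ U).toScheme) = b z := by
        intro z hz
        rw [morphismRestrict_ι]
        rfl
      rw [e, e]
      exact hy
    exact congrArg b (hg y' (hsp.map continuous_subtype_val))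
  refine ⟨fun x' hx' => ?_, fun x' hx' y' hy' h => ?_, ?_⟩
  · have hx'U : b x' ∈ U := fun hmem => BlowUpX.notMem_support_of_generic hb.1 x' hx' (by
      rw [← SetLike.mem_coe, Scheme.IdealSheafData.support_comap]; exact hmem)
    exact ⟨hgen x' hx'U hx', hx'U⟩
  · have hU : ∀ z : ↥X', (∀ y : ↥X', y ⤳ z → y = z) → b z ∈ U := fun z hz hmem =>
      BlowUpX.notMem_support_of_generic hb.1 z hz (by
        rw [← SetLike.mem_coe, Scheme.IdealSheafData.support_comap]; exact hmem)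
    exact hinj x' y' (hU x' hx') (hU y' hy') h
  · rintro x ⟨hxg, hxU⟩
    have hxU' : x ∈ U := hxU
    obtain ⟨x', rfl⟩ := hsurj x hxU'
    refine ⟨x', fun y hy => ?_, rfl⟩
    have hby : b y = b x' := hxg _ (hy.map b.continuous)
    exact hinj y x' (show b y ∈ U by rw [hby]; exact hxU') hxU' hby

end Groth.Agent.S1681
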