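import Groth.Statements.S16812
import Groth.Agent.AlgStLib.OnePointSt
import Groth.Agent.AlgStLib.Substack

set_option backward.isDefEq.respectTransparency false
set_option backward.isDefEq.respectTransparency.types false
-- import your own Groth.Agent.* helpers here

set_option autoImplicit false
universe u
open CategoryTheory AlgebraicGeometry
open Gerb Groth.Agent.AlgStLib Groth.Agent.AlgStLib.OnePt

namespace Groth.Agent.S16812

/-- Let 𝒵 be a reduced, locally Noetherian algebraic stack with exactly one point and f : 𝒵 → 𝒳 a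
monomorphism to an algebraic stack sending that point to x. Then the residual gerbe 𝒵_x ⊂ 𝒳 at x
exists (a strictly full subcategory which is a reduced, locally Noetherian algebraic stack with one
point over x) and f factors through it by an equivalence 𝒵 → 𝒵_x. -/
theorem result
    (S : Scheme.{u}) (𝒳 : AlgSt.Cat S) (h𝒳 : AlgSt.IsAlgStack Scheme.fppfPrecoverage 𝒳) (x : AlgSt.Points 𝒳)
    (𝒵 : AlgSt.Cat S) (h𝒵 : AlgSt.IsAlgStack Scheme.fppfPrecoverage 𝒵)
    (hred : AlgSt.SmoothLocally (fun T => IsReduced T) 𝒵)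
    (hnoeth : AlgSt.SmoothLocally (fun T => IsLocallyNoetherian T) 𝒵)
    (hne : Nonempty (AlgSt.Points 𝒵)) (hsub : Subsingleton (AlgSt.Points 𝒵))
    (f : 𝒵 ⥤ᵇ 𝒳) (hf : AlgSt.IsMono f) (hfx : ∀ p : AlgSt.Points 𝒵, AlgSt.Points.map f p = x) :
    ∃ Q : 𝒳.obj → Prop, Gerb.IsResGerbe Scheme.fppfPrecoverage 𝒳 x Q ∧
      ∃ e : 𝒵 ⥤ᵇ AlgSt.fullSub 𝒳 Q, FibCat.IsEquivOver e ∧
        Nonempty (BasedFunctor.comp e (AlgSt.subIncl 𝒳 Q) ≅ f) :=  by
  obtain ⟨_, _⟩ := full_faithful_of_isMono h𝒳.isStack.1 hf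
  have hg := h𝒵.isStack.1
  have he := toImage_isEquivOver hg f
  have halg := isAlgStack_image h𝒵 f
  obtain ⟨g, hge, -, -⟩ := isEquivOver_inv he
  have key : ∀ {P : Scheme.{u} → Prop}, AlgSt.SmoothLocally P 𝒵 →
      AlgSt.SmoothLocally P (AlgSt.fullSub 𝒳 (ImageProp f)) := fun h U x hx =>
    h U (BasedFunctor.comp x g) (repByAlgSpWith_locP_comp (isFibGrpd_overCat U) halg.isStack.1 hx
      (repByAlgSpWith_smooth_of_isEquivOver hge))
  have hb := pts_bijective_of_isEquivOver he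
  refine ⟨ImageProp f, ⟨closedUnderIso_imageProp f, halg, key hred, key hnoeth,
    ⟨AlgSt.Points.map (toImage f) (Classical.arbitrary _)⟩, hb.2.subsingleton, fun z => ?_⟩,
    toImage f, he, ⟨Iso.refl _⟩⟩
  obtain ⟨p, rfl⟩ := hb.2 z
  rw [← pts_map_comp]
  exact hfx p
end Groth.Agent.S16812
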