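import Groth.Statements.S16810
import Groth.Agent.AlgStLib.FieldImage
import Groth.Agent.S16812

set_option backward.isDefEq.respectTransparency false
set_option backward.isDefEq.respectTransparency.types false
-- import your own Groth.Agent.* helpers here

set_option autoImplicit false
universe u
open CategoryTheory AlgebraicGeometry
open Gerb Groth.Agent.AlgStLib Groth.Agent.AlgStLib.OnePt

namespace Groth.Agent.S16810

/-- If some reduced algebraic stack with exactly one point admits a monomorphism to the algebraic stack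
𝒳 with image the point x, then there is a unique strictly full subcategory of 𝒳 which is a reduced,
locally Noetherian algebraic stack with exactly one point mapping to x. -/
theorem result
    (S : Scheme.{u}) (𝒳 : AlgSt.Cat S) (h𝒳 : AlgSt.IsAlgStack Scheme.fppfPrecoverage 𝒳) (x : AlgSt.Points 𝒳)
    (𝒵 : AlgSt.Cat S) (h𝒵 : AlgSt.IsAlgStack Scheme.fppfPrecoverage 𝒵)
    (hred : AlgSt.SmoothLocally (fun T => IsReduced T) 𝒵)
    (hne : Nonempty (AlgSt.Points 𝒵)) (hsub : Subsingleton (AlgSt.Points 𝒵))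
    (f : 𝒵 ⥤ᵇ 𝒳) (hf : AlgSt.IsMono f) (hfx : ∀ p : AlgSt.Points 𝒵, AlgSt.Points.map f p = x) :
    ∃ Q : 𝒳.obj → Prop, Gerb.IsResGerbe Scheme.fppfPrecoverage 𝒳 x Q ∧
      ∀ Q' : 𝒳.obj → Prop, Gerb.IsResGerbe Scheme.fppfPrecoverage 𝒳 x Q' → ∀ ξ : 𝒳.obj, Q' ξ ↔ Q ξ :=  by
  obtain ⟨k₀, _, a₀, z₀, hs₀, hf₀⟩ := exists_flat_of_reduced h𝒵 hred
  obtain ⟨Q₀, -, halg₀, ⟨k₁, _, a₁, z₁, hp, hs, hfl⟩, hm⟩ := FieldImg.exists_image h𝒵 hs₀ hf₀
  obtain ⟨_, _⟩ := full_faithful_of_isMono h𝒳.isStack.1 hf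
  have : (AlgSt.subIncl 𝒵 Q₀).toFunctor.Full := inferInstanceAs (ObjectProperty.ι Q₀).Full
  have : (AlgSt.subIncl 𝒵 Q₀).toFunctor.Faithful := inferInstanceAs (ObjectProperty.ι Q₀).Faithful
  have : (BasedFunctor.comp (AlgSt.subIncl 𝒵 Q₀) f).toFunctor.Full :=
    inferInstanceAs ((AlgSt.subIncl 𝒵 Q₀).toFunctor ⋙ f.toFunctor).Full
  have : (BasedFunctor.comp (AlgSt.subIncl 𝒵 Q₀) f).toFunctor.Faithful :=
    inferInstanceAs ((AlgSt.subIncl 𝒵 Q₀).toFunctor ⋙ f.toFunctor).Faithful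
  obtain ⟨hne₀, hsub₀⟩ := points_of_surj halg₀ hs
  obtain ⟨Q, hQ, -⟩ := Groth.Agent.S16812.result S 𝒳 h𝒳 x (AlgSt.fullSub 𝒵 Q₀) halg₀
    (smoothLocally_isReduced halg₀ hs hfl) (smoothLocally_isLocallyNoetherian halg₀ hp hs hfl) hne₀ hsub₀
    (BasedFunctor.comp (AlgSt.subIncl 𝒵 Q₀) f) (isMono_of_full_faithful halg₀ h𝒳 _)
    (fun p => by rw [pts_map_comp]; exact hfx _)
  refine ⟨Q, hQ, fun Q' hQ' ξ => ?_⟩
  obtain ⟨hcl, halg, hr, hN, hne', hsub', hx⟩ := hQ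
  obtain ⟨hcl', halg', hr', hN', hne'', hsub'', hx'⟩ := hQ'
  obtain ⟨k₂, _, a₂, z₂, ⟨-, hs₂, hf₂⟩, hp₂⟩ := exists_lft_flat_of_reduced halg hr
  obtain ⟨k₃, _, a₃, z₃, ⟨-, hs₃, hf₃⟩, hp₃⟩ := exists_lft_flat_of_reduced halg' hr'
  exact ⟨fun h => FieldImg.mem_of_cover h𝒳 hcl halg halg' (hp₃ hN') hs₃ hf₃
      ⟨hne'.some, (hx _).trans (hx' _).symm⟩ h,
    fun h => FieldImg.mem_of_cover h𝒳 hcl' halg' halg (hp₂ hN) hs₂ hf₂
      ⟨hne''.some, (hx' _).trans (hx _).symm⟩ h⟩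
end Groth.Agent.S16810
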