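import Groth.Statements.S16811
import Groth.Agent.AlgStLib.OnePointSt

set_option backward.isDefEq.respectTransparency false
set_option backward.isDefEq.respectTransparency.types false
-- import your own Groth.Agent.* helpers here

set_option autoImplicit false
universe u
open CategoryTheory AlgebraicGeometry
open Gerb Groth.Agent.AlgStLib Groth.Agent.AlgStLib.OnePt

namespace Groth.Agent.S16811

/-- A reduced, locally Noetherian algebraic stack with exactly one point is regular (all local rings of
all schemes smooth over it are regular local rings). -/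
theorem result
    (S : Scheme.{u}) (𝒵 : AlgSt.Cat S) (h𝒵 : AlgSt.IsAlgStack Scheme.fppfPrecoverage 𝒵)
    (hred : AlgSt.SmoothLocally (fun T => IsReduced T) 𝒵)
    (hnoeth : AlgSt.SmoothLocally (fun T => IsLocallyNoetherian T) 𝒵)
    (hne : Nonempty (AlgSt.Points 𝒵)) (hsub : Subsingleton (AlgSt.Points 𝒵)) :
    AlgSt.SmoothLocally (fun T => ∀ t : T, IsRegularLocalRing (T.presheaf.stalk t)) 𝒵 :=  by
  obtain ⟨k, _, a, z, hs, hf⟩ := exists_flat_of_reduced h𝒵 hred
  exact smoothLocally_isRegular h𝒵 hnoeth hs hf
end Groth.Agent.S16811
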