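import Groth.Statements.S16814
import Groth.Agent.AlgStLib.OnePointSt

set_option backward.isDefEq.respectTransparency false
set_option backward.isDefEq.respectTransparency.types false
-- import your own Groth.Agent.* helpers here

set_option autoImplicit false
universe u
open CategoryTheory AlgebraicGeometry
open Gerb Groth.Agent.AlgStLib Groth.Agent.AlgStLib.OnePt

namespace Groth.Agent.S16814

/-- Let f : 𝒳 → 𝒴 be a morphism of algebraic stacks and x a point of 𝒳 with image y. If the residual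
gerbes 𝒵_x ⊂ 𝒳 and 𝒵_y ⊂ 𝒴 exist, then f induces a morphism 𝒵_x → 𝒵_y making the square with the
inclusions commute up to 2-isomorphism. -/
theorem result
    (S : Scheme.{u}) (𝒳 𝒴 : AlgSt.Cat S) (h𝒳 : AlgSt.IsAlgStack Scheme.fppfPrecoverage 𝒳) (h𝒴 : AlgSt.IsAlgStack Scheme.fppfPrecoverage 𝒴)
    (f : 𝒳 ⥤ᵇ 𝒴) (x : AlgSt.Points 𝒳)
    (Q : 𝒳.obj → Prop) (hQ : Gerb.IsResGerbe Scheme.fppfPrecoverage 𝒳 x Q)
    (Q' : 𝒴.obj → Prop) (hQ' : Gerb.IsResGerbe Scheme.fppfPrecoverage 𝒴 (AlgSt.Points.map f x) Q') :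
    ∃ g : AlgSt.fullSub 𝒳 Q ⥤ᵇ AlgSt.fullSub 𝒴 Q',
      Nonempty (BasedFunctor.comp g (AlgSt.subIncl 𝒴 Q') ≅ BasedFunctor.comp (AlgSt.subIncl 𝒳 Q) f) :=  by
  obtain ⟨hcl, halg, hr, hN, hne, hsub, hx⟩ := hQ
  obtain ⟨hcl', halg', -, -, ⟨z'⟩, -, hy⟩ := hQ'
  obtain ⟨k, _, a, z₀, ⟨-, hs, hf⟩, hp⟩ := exists_lft_flat_of_reduced halg hr
  let f' := BasedFunctor.comp (AlgSt.subIncl 𝒳 Q) f
  have hU : ∀ c, Q' (f'.obj (z₀.obj c)) := mem_of_field h𝒴 hcl' halg' (BasedFunctor.comp z₀ f') ⟨z', by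
    rw [hy z', ← hx (AlgSt.Points.ofChart z₀ (IsLocalRing.closedPoint k)), ofChart_eq_map, ofChart_eq_map,
      pts_map_comp, pts_map_comp]⟩
  have h : ∀ y, Q' (f'.obj y) := mem_of_locEssSurj h𝒴 halg.isStack.1 hcl' halg'
    (locEssSurj_of_repByAlgSp hf (hp hN) hs) f' hU
  exact ⟨liftSub f' h, ⟨Iso.refl _⟩⟩
end Groth.Agent.S16814
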