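import Groth.Statements.S16815
import Groth.Agent.AlgStLib.GerbEquiv

set_option backward.isDefEq.respectTransparency false
set_option backward.isDefEq.respectTransparency.types false
-- import your own Groth.Agent.* helpers here

set_option autoImplicit false
universe u
open CategoryTheory AlgebraicGeometry
open Gerb Groth.Agent.AlgStLib Groth.Agent.AlgStLib.OnePt

namespace Groth.Agent.S16815

/-- Let f : 𝒳 → 𝒴 be a morphism of algebraic stacks, x a point of 𝒳 with image y, with residual gerbes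
𝒵_x and 𝒵_y. Suppose some morphism p from the spectrum of a field k to 𝒳, representing x, makes the
comparison map from Spec k ×_𝒳 Spec k to Spec k ×_𝒴 Spec k an isomorphism. Then the induced 𝒵_x →
𝒵_y is an isomorphism (an equivalence). -/
theorem result
    (S : Scheme.{u}) (𝒳 𝒴 : AlgSt.Cat S) (h𝒳 : AlgSt.IsAlgStack Scheme.fppfPrecoverage 𝒳) (h𝒴 : AlgSt.IsAlgStack Scheme.fppfPrecoverage 𝒴)
    (f : 𝒳 ⥤ᵇ 𝒴) (x : AlgSt.Points 𝒳)
    (Q : 𝒳.obj → Prop) (hQ : Gerb.IsResGerbe Scheme.fppfPrecoverage 𝒳 x Q)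
    (Q' : 𝒴.obj → Prop) (hQ' : Gerb.IsResGerbe Scheme.fppfPrecoverage 𝒴 (AlgSt.Points.map f x) Q')
    (k : Type u) [Field k] (a : Spec (CommRingCat.of k) ⟶ S)
    (p : FibCat.overCat (Over.mk a) ⥤ᵇ 𝒳)
    (hp : ∀ t : ↥(Over.mk a).left, AlgSt.Points.ofChart p t = x)
    (e : BasedFunctor.comp (FibCat.fpFst p p) (BasedFunctor.comp p f) ≅
      BasedFunctor.comp (FibCat.fpSnd p p) (BasedFunctor.comp p f))
    (he : ∀ c, e.hom.toNatTrans.app c = f.map c.obj.iso.hom)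
    (hiso : FibCat.IsEquivOver (FibCat.fpLift (FibCat.fpFst p p) (FibCat.fpSnd p p) e)) :
    ∃ g : AlgSt.fullSub 𝒳 Q ⥤ᵇ AlgSt.fullSub 𝒴 Q',
      Nonempty (BasedFunctor.comp g (AlgSt.subIncl 𝒴 Q') ≅ BasedFunctor.comp (AlgSt.subIncl 𝒳 Q) f) ∧
      FibCat.IsEquivOver g :=  by
  obtain ⟨hcl, halg, hr, hN, hne, hsub, hx⟩ := hQ
  obtain ⟨hcl', halg', hr', hN', hne', hsub', hy⟩ := hQ'
  obtain ⟨k₁, _, a₁, p₁, ⟨-, hs, hf⟩, hlfp⟩ := exists_lft_flat_of_reduced halg hr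
  let f' := BasedFunctor.comp (AlgSt.subIncl 𝒳 Q) f
  have hU : ∀ c, Q' (f'.obj (p₁.obj c)) := mem_of_field h𝒴 hcl' halg' (BasedFunctor.comp p₁ f') ⟨hne'.some, by
    rw [hy, ← hx (AlgSt.Points.ofChart p₁ (IsLocalRing.closedPoint k₁)), ofChart_eq_map, ofChart_eq_map,
      pts_map_comp, pts_map_comp]⟩
  have h : ∀ y, Q' (f'.obj y) := mem_of_locEssSurj h𝒴 halg.isStack.1 hcl' halg'
    (locEssSurj_of_repByAlgSp hf (hlfp hN) hs) f' hU
  refine ⟨liftSub f' h, ⟨Iso.refl _⟩, ?_⟩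
  let g := liftSub f' h
  have hpQ : ∀ c, Q (p.obj c) := mem_of_field h𝒳 hcl halg p ⟨hne.some, by rw [hx, hp]⟩
  let pA := liftSub p hpQ
  have hw : FibCat.IsEquivOver (Groth.Agent.FibBase.weaken p p f) := by
    have : e = Groth.Agent.FibBase.whiskerRightIso (FibCat.fpIso p p) f := by
      refine Iso.ext (BasedNatTrans.ext _ _ ?_)
      ext c
      all_goals exact he c
    rw [this] at hiso
    exact hiso
  obtain ⟨_, _⟩ := GerbEq.full_faithful_of_chart halg halg' g (hlfp hN) hs hf pA fun α β φ hφ => by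
    have hφ' : 𝒴.p.IsHomLift (𝟙 α.left) ((AlgSt.subIncl 𝒴 Q').map φ.hom) :=
      (AlgSt.subIncl 𝒴 Q').preserves_isHomLift _ _
    obtain ⟨ψ, hψ, hu⟩ := GerbEq.existsUnique_of_weaken h𝒳.isStack.1 hw
      ((AlgSt.subIncl 𝒴 Q').toFunctor.mapIso φ) hφ'
    exact ⟨ObjectProperty.homMk ψ, ObjectProperty.hom_ext _ hψ,
      fun ψ' hψ' => ObjectProperty.hom_ext _ (hu ψ'.hom (congrArg (fun t => t.hom) hψ'))⟩
  obtain ⟨k₂, _, a₂, p₂, ⟨-, hs₂, hf₂⟩, hlfp₂⟩ := exists_lft_flat_of_reduced halg' hr'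
  exact (isEquivOver_or_isEmpty halg halg' g (isMono_of_full_faithful halg halg' g) (hlfp₂ hN') hs₂ hf₂).resolve_left
    fun hE => hE.false hne.some
end Groth.Agent.S16815
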