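import Groth.Statements.S16816
import Groth.Agent.AlgStLib.SmoothBootstrap

set_option backward.isDefEq.respectTransparency false
set_option backward.isDefEq.respectTransparency.types false
-- import your own Groth.Agent.* helpers here

set_option autoImplicit false
universe u
open AlgSt

namespace Groth.Agent.S16816

open CategoryTheory AlgebraicGeometry in
/-- Let 𝒳 be a category over (Sch/S) which is a stack in groupoids for the big etale topology and which
admits a scheme U and a functor (Sch/U) → 𝒳 over (Sch/S) that is representable by algebraic spaces,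
smooth and surjective (a smooth presentation). Then the diagonal 𝒳 → 𝒳 ×_{(Sch/S)} 𝒳 is
representable by algebraic spaces; with the two hypotheses this says that 𝒳 is an algebraic stack
for the etale topology. Here an algebraic space is an fppf sheaf on (Sch/S) with representable
diagonal and an etale surjective map from a scheme. -/
theorem result {S : Scheme.{u}} (𝒳 : AlgSt.Cat S)
    (h𝒳 : Stk.IsStack (QuotSh.J Scheme.etalePrecoverage S) 𝒳)
    (hU : AlgSt.HasAtlas (AlgSp.LocP @Smooth) 𝒳) :
    AlgSt.IsAlgStack Scheme.etalePrecoverage 𝒳 :=  by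
  obtain ⟨U, x, hx, hx'⟩ := hU
  exact ⟨h𝒳, Groth.Agent.AlgStLib.repByAlgSp1_diag_of_smooth_cover h𝒳 (Groth.Agent.AlgStLib.isFibGrpd_overCat U)
    (Groth.Agent.AlgStLib.isDM_of_repByAlgSp (Groth.Agent.AlgStLib.repByAlgSp_overCat U)).1.diag hx hx',
    U, x, hx, hx'⟩
end Groth.Agent.S16816
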