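import Groth.Statements.S16825
import Groth.Agent.AlgStLib.EtaleToFppf
import Groth.Agent.AlgStLib.Spectral
import Groth.Agent.AlgStLib.LocQ
import Groth.Agent.AlgStLib.LocEss
import Groth.Agent.AlgSpVal.DvrThrough

set_option backward.isDefEq.respectTransparency false
set_option backward.isDefEq.respectTransparency.types false
-- import your own Groth.Agent.* helpers here

set_option autoImplicit false
universe u
open AlgSt

namespace Groth.Agent.S16825

open CategoryTheory AlgebraicGeometry in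
/-- Let S be a quasi-separated scheme and f : 𝒳 → 𝒴 a functor over (Sch/S) between algebraic stacks for
the etale topology which are Noetherian (every smooth scheme chart locally Noetherian,
quasi-compact, quasi-separated over S), with f locally of finite type and quasi-compact. Let x be a
point of 𝒳 and y₀ a point of 𝒴 which is a specialization of the image of x. Then there are a
discrete valuation ring R with a morphism Spec R → S, a morphism a : (Sch/Spec K) → 𝒳 over (Sch/S),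
K the fraction field of R, whose point is x, and a morphism b : (Sch/Spec R) → 𝒴 over (Sch/S)
sending the closed point to y₀, such that a followed by f is isomorphic over (Sch/S) to Spec K →
Spec R followed by b. -/
theorem result (S : Scheme.{u})
    [QuasiSeparatedSpace ↥S] (𝒳 𝒴 : AlgSt.Cat S)
    (h𝒳 : AlgSt.IsAlgStack Scheme.etalePrecoverage 𝒳) (h𝒴 : AlgSt.IsAlgStack Scheme.etalePrecoverage 𝒴)
    (hn𝒳 : AlgSt.SmoothLocally (fun T => IsLocallyNoetherian T) 𝒳 ∧ AlgSt.IsQuasiCompact 𝒳 ∧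
      AlgSt.IsQuasiSeparatedOver 𝒳)
    (hn𝒴 : AlgSt.SmoothLocally (fun T => IsLocallyNoetherian T) 𝒴 ∧ AlgSt.IsQuasiCompact 𝒴 ∧
      AlgSt.IsQuasiSeparatedOver 𝒴)
    (f : 𝒳 ⥤ᵇ 𝒴) (hft : AlgSt.LocQ (AlgSp.LocP @LocallyOfFiniteType) f)
    (hqc : AlgSt.IsQuasiCompactMor Scheme.etalePrecoverage f)
    (x : AlgSt.Points 𝒳) (y₀ : AlgSt.Points 𝒴) (hsp : AlgSt.Points.map f x ⤳ y₀) :
    ∃ (R : Type u) (_ : CommRing R) (_ : IsDomain R) (_ : IsDiscreteValuationRing R)
      (sR : Spec (CommRingCat.of R) ⟶ S)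
      (a : FibCat.overCat (Over.mk (Spec.map (CommRingCat.ofHom (algebraMap R (FractionRing R))) ≫ sR)) ⥤ᵇ 𝒳)
      (b : FibCat.overCat (Over.mk sR) ⥤ᵇ 𝒴),
      Nonempty (BasedFunctor.comp a f ≅
        BasedFunctor.comp (AlgSt.overMap (Over.homMk (Spec.map (CommRingCat.ofHom (algebraMap R (FractionRing R)))) rfl :
          Over.mk (Spec.map (CommRingCat.ofHom (algebraMap R (FractionRing R))) ≫ sR) ⟶ Over.mk sR)) b) ∧
      (∀ p, AlgSt.Points.ofChart a p = x) ∧
      AlgSt.Points.ofChart b (IsLocalRing.closedPoint R) = y₀ :=  by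
  have hX := AlgStLib.isAlgStack_fppf_of_etale h𝒳
  have hY := AlgStLib.isAlgStack_fppf_of_etale h𝒴
  have hgX := hX.isStack.1
  have hgY := hY.isStack.1
  obtain ⟨V₀, y', hy₁, hy₂⟩ := hY.atlas
  obtain ⟨v₀, hv₀⟩ := AlgStLib.ofChart_surjective hgY hy₂ y₀
  obtain ⟨_, ⟨O, hO, rfl⟩, hvO, -⟩ :=
    V₀.left.isBasis_affineOpens.exists_subset_of_mem_open (Set.mem_univ v₀) isOpen_univ
  let O : V₀.left.Opens := O
  let V : Over S := Over.mk (Scheme.Opens.ι O ≫ V₀.hom)
  let j : V ⟶ V₀ := Over.homMk (Scheme.Opens.ι O) rfl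
  have hVa : IsAffine V.left := hO
  let y : FibCat.overCat V ⥤ᵇ 𝒴 := BasedFunctor.comp (AlgSt.overMap j) y'
  let v : V.left := ⟨v₀, hvO⟩
  have hv : AlgSt.Points.ofChart y v = y₀ := by
    rw [AlgStLib.ofChart_overMap]
    exact hv₀
  have hsmooth : AlgSt.RepByAlgSpWith (AlgSp.LocP @Smooth) y :=
    AlgStLib.repByAlgSpWith_locP_comp (AlgStLib.isFibGrpd_overCat V) (AlgStLib.isFibGrpd_overCat V₀)
      (AlgStLib.repByAlgSpWith_overMap AlgStLib.stableBC_locP (k := j) (AlgSpLib.locP_of_repWith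
        ((AlgSp.repWith_yon_map_iff (P := @Smooth) _).2 (inferInstanceAs (Smooth (Scheme.Opens.ι O)))))) hy₁
  -- the point of 𝒳 as a chart
  obtain ⟨p, hp⟩ := AlgSt.Points.mk_surjective x
  obtain ⟨z, hz⟩ := AlgStLib.exists_ofChart_eq hgX p
  have hz' : ∀ t, AlgSt.Points.ofChart (BasedFunctor.comp z f) t = AlgSt.Points.map f x := fun t => by
    rw [AlgStLib.ofChart_eq_map, AlgStLib.pts_map_comp, ← AlgStLib.ofChart_eq_map, hz, hp]
  haveI : CompactSpace V.left := inferInstance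
  haveI : CompactSpace (Over.mk p.str).left := inferInstanceAs (CompactSpace (PrimeSpectrum p.K))
  have hΔ : AlgSt.RepByAlgSpWith AlgSp.IsQuasiCompactMor (FibCat.diag (FibCat.toSelf 𝒴)) :=
    AlgStLib.repByAlgSpWith_mono (fun _ _ _ h => h.1) hn𝒴.2.2
  obtain ⟨T, k, hT, hk⟩ := AlgStLib.exists_affine_saturation hY hΔ y (BasedFunctor.comp z f)
  -- a generalisation of the point in the chart
  have hcl : v ∈ closure (Set.range k.left) := by
    rw [← hk, ← (AlgStLib.isOpenMap_ofChart hgY (AlgStLib.repByAlgSpWith_flat_of_smooth hsmooth)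
        (AlgStLib.repByAlgSpWith_lfp_of_smooth hsmooth)).preimage_closure_eq_closure_preimage
      (AlgStLib.continuous_ofChart hgY hY.atlas y), Set.mem_preimage, hv]
    rw [show Set.range (AlgSt.Points.ofChart (BasedFunctor.comp z f)) = {AlgSt.Points.map f x} from ?_]
    · exact hsp.mem_closure
    · exact Set.eq_singleton_iff_unique_mem.2
        ⟨⟨IsLocalRing.closedPoint p.K, hz' _⟩, fun _ ⟨t, ht⟩ => ht ▸ hz' t⟩
  haveI := hT
  obtain ⟨t, ht⟩ := AlgSpVal.exists_specializes_of_mem_closure_range k.left hcl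
  have hη : AlgSt.Points.ofChart y (k.left t) = AlgSt.Points.map f x := by
    obtain ⟨t', ht'⟩ : k.left t ∈ AlgSt.Points.ofChart y ⁻¹'
        Set.range (AlgSt.Points.ofChart (BasedFunctor.comp z f)) := by
      rw [hk]; exact ⟨t, rfl⟩
    rw [← ht', hz']
  -- a chart of the fibre product
  obtain ⟨W, c, hc₁, hc₂⟩ := AlgStLib.exists_atlas_fp hX (AlgStLib.isAlgStack_overCat V) hY f y
  obtain ⟨g, ⟨i⟩⟩ := FibBase.exists_mapB (BasedFunctor.comp c (FibCat.fpSnd f y))
  have hg : LocallyOfFiniteType g.left := AlgSp.locP_yon_map (P := @LocallyOfFiniteType)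
    (((AlgStLib.locQ_iff_locQS AlgSpLib.isSmoothLocalST_lft hX hY f).1 hft).scheme c hsmooth hc₁ i.symm)
  obtain ⟨q, hq₁, hq₂⟩ := AlgStLib.exists_pts_fp (AlgStLib.isFibGrpd_overCat V) hgY hgX y f
    x (AlgStLib.ptAt V (k.left t)) hη.symm
  have hgfp := FibBase.fp_isFibGrpd (F := f) (G := y) hgX (AlgStLib.isFibGrpd_overCat V) hgY
  obtain ⟨w, rfl⟩ := AlgStLib.ofChart_surjective hgfp hc₂ q
  have hwx : AlgSt.Points.ofChart (BasedFunctor.comp c (FibCat.fpFst f y)) w = x := by
    rw [AlgStLib.ofChart_eq_map, AlgStLib.pts_map_comp, ← AlgStLib.ofChart_eq_map]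
    exact hq₁
  have hwv : g.left w = k.left t := by
    have h2 : AlgSt.Points.map (BasedFunctor.comp c (FibCat.fpSnd f y)) (AlgStLib.ptAt W w) =
        AlgStLib.ptAt V (k.left t) := by
      rw [AlgStLib.pts_map_comp, ← AlgStLib.ofChart_eq_map]
      exact hq₂
    rw [← AlgStLib.pts_map_congr i] at h2
    have h3 := (AlgStLib.map_overMap_ptAt g w).symm.trans h2
    rw [← AlgStLib.toSch_ptAt V (g.left w), h3, AlgStLib.toSch_ptAt]
  haveI : IsLocallyNoetherian V.left := hn𝒴.1 V y hsmooth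
  obtain ⟨A, _, _, _, ι, κ, hι, hκ, hcomm⟩ :=
    AlgSpVal.exists_dvr_path_field g.left w v (by rw [hwv]; exact ht)
  let sR : Spec (CommRingCat.of A) ⟶ S := ι ≫ V.hom
  let m := Spec.map (CommRingCat.ofHom (algebraMap A (FractionRing A)))
  let ιo : Over.mk sR ⟶ V := Over.homMk ι rfl
  let κo : Over.mk (m ≫ sR) ⟶ W := Over.homMk κ (by
    show κ ≫ W.hom = m ≫ ι ≫ V.hom
    rw [← Over.w g, ← Category.assoc, hcomm, Category.assoc])
  let mo : Over.mk (m ≫ sR) ⟶ Over.mk sR := Over.homMk m rfl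
  have e : κo ≫ g = mo ≫ ιo := Over.OverMorphism.ext hcomm
  let a : FibCat.overCat (Over.mk (m ≫ sR)) ⥤ᵇ 𝒳 :=
    BasedFunctor.comp (AlgSt.overMap κo) (BasedFunctor.comp c (FibCat.fpFst f y))
  let i₀ : BasedFunctor.comp a f ≅ BasedFunctor.comp (AlgSt.overMap mo) (BasedFunctor.comp (AlgSt.overMap ιo) y) :=
    FibBase.whiskerLeftIso (AlgSt.overMap κo) (FibBase.whiskerLeftIso c (FibCat.fpIso f y) ≪≫
        FibBase.whiskerRightIso i.symm y) ≪≫
      FibBase.whiskerRightIso (AlgStLib.overMapCompIso κo g ≪≫ eqToIso (congrArg AlgSt.overMap e) ≪≫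
        (AlgStLib.overMapCompIso mo ιo).symm) y
  refine ⟨A, inferInstance, inferInstance, inferInstance, sR, a, BasedFunctor.comp (AlgSt.overMap ιo) y,
    ⟨i₀⟩, fun pt => ?_, ?_⟩
  · have hs : Subsingleton ↥(Spec (CommRingCat.of (FractionRing A))) :=
      inferInstanceAs (Subsingleton (PrimeSpectrum (FractionRing A)))
    rw [AlgStLib.ofChart_overMap]
    refine Eq.trans ?_ hwx
    refine congrArg _ (Eq.trans ?_ hκ)
    exact congrArg κ (hs.elim _ _)
  · rw [AlgStLib.ofChart_overMap]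
    exact (congrArg (AlgSt.Points.ofChart y) hι).trans hv
end Groth.Agent.S16825
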