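import Groth.Statements.S16827
import Groth.Agent.FCov14.StackHensCharts
import Groth.Agent.AlgStLib.EtaleToFppf

set_option backward.isDefEq.respectTransparency false
set_option backward.isDefEq.respectTransparency.types false
-- import your own Groth.Agent.* helpers here

set_option autoImplicit false
universe u
open AlgSt

namespace Groth.Agent.S16827

open CategoryTheory AlgebraicGeometry in
/-- Let 𝒳 be an algebraic stack over (Sch/S) for the etale topology whose diagonal 𝒳 → 𝒳 ×_{(Sch/S)} 𝒳
is separated (representable by algebraic spaces with closed-immersion relative diagonal), k a field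
and x : (Sch/Spec k) → 𝒳 a functor over (Sch/S) for some structure morphism Spec k → S. Then there
are an affine scheme U over S, a functor p : (Sch/U) → 𝒳 over (Sch/S) which is representable by
algebraic spaces and smooth, and an S-morphism u : Spec k → U such that u followed by p is
isomorphic to x over (Sch/S): the k-point x lifts to a k-point of a smooth affine chart. The source
states the separation condition on the absolute diagonal; the diagonal over S is used here, which is
separated whenever the absolute one is. -/
theorem result {S : Scheme.{u}} (𝒳 : AlgSt.Cat S)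
    (h𝒳 : AlgSt.IsAlgStack Scheme.etalePrecoverage 𝒳)
    (hΔ : AlgSt.RepByAlgSpWith AlgSp.IsSeparatedMor (FibCat.diag (FibCat.toSelf 𝒳)))
    (k : Type u) [Field k] (sk : Spec (CommRingCat.of k) ⟶ S)
    (x : FibCat.overCat (Over.mk sk) ⥤ᵇ 𝒳) :
    ∃ (U : Over S) (_ : IsAffine U.left) (p : FibCat.overCat U ⥤ᵇ 𝒳) (u : Over.mk sk ⟶ U),
      AlgSt.RepByAlgSpWith (AlgSp.LocP @Smooth) p ∧
        Nonempty (BasedFunctor.comp (AlgSt.overMap u) p ≅ x) :=  by
  obtain ⟨V, p, g, hV, hp, hg⟩ := FCov14.HensLift.exists_affine_chart_lift k
    (AlgStLib.isAlgStack_fppf_of_etale h𝒳) sk x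
  exact ⟨V, hV, p, g, hp, hg⟩
end Groth.Agent.S16827
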