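import Groth.Statements.S16829
import Groth.Agent.AlgStVC.Reduce

set_option backward.isDefEq.respectTransparency false
set_option backward.isDefEq.respectTransparency.types false
-- import your own Groth.Agent.* helpers here

set_option autoImplicit false
universe u
open AlgSt

namespace Groth.Agent.S16829

open CategoryTheory AlgebraicGeometry in
/-- Let f : 𝒳 → 𝒴 be a functor over (Sch/S) between algebraic stacks for the etale topology which are
locally Noetherian (every smooth scheme chart locally Noetherian), with f quasi-compact,
quasi-separated (its diagonal representable, quasi-compact and quasi-separated) and locally of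
finite type. Suppose that f satisfies the valuative criterion with extensions: for every discrete
valuation ring R over S with fraction field K, every a : (Sch/Spec K) → 𝒳, b : (Sch/Spec R) → 𝒴 over
(Sch/S) and every 2-isomorphism α between a followed by f and Spec K → Spec R followed by b, there
are a discrete valuation ring R', an injective local homomorphism R → R', a morphism Spec K' → Spec
K over Spec R' → Spec R (K' the fraction field of R'), and a functor c : (Sch/Spec R') → 𝒳 ×_𝒴
(Sch/Spec R) over (Sch/S) into the 2-fibre product of f and b, lying over Spec R' → Spec R, whose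
restriction to Spec K' is isomorphic, as a functor into the 2-fibre product, to the restriction of
the functor (a, Spec K → Spec R, α); a lifting is thus a morphism Spec R' → 𝒳 together with
2-isomorphisms compatible with α. Then f is universally closed: every base change of f along a
morphism of algebraic stacks induces a closed map on points. (The published statement assumes f only
quasi-compact and quasi-separated; its proof passes to a base of finite type and realizes
specializations there by discrete valuation rings, which uses that f is of finite type, and without
that hypothesis the spectrum of an algebraic closure of ℚ, mapped to the spectrum of ℤ localized at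
a prime, satisfies the criterion — every discrete valuation is trivial on an algebraically closed
field — while its image is the generic point, which is not closed; so f is taken locally of finite
type here. The published statement also restricts the extensions to those with K'/K of finite
transcendence degree; this row accepts any extension of discrete valuation rings, which is all the
proof uses. Only this implication is stated.) -/
theorem result (S : Scheme.{u}) (𝒳 𝒴 : AlgSt.Cat S)
    (h𝒳 : AlgSt.IsAlgStack Scheme.etalePrecoverage 𝒳) (h𝒴 : AlgSt.IsAlgStack Scheme.etalePrecoverage 𝒴)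
    (hn𝒳 : AlgSt.SmoothLocally (fun T => IsLocallyNoetherian T) 𝒳)
    (hn𝒴 : AlgSt.SmoothLocally (fun T => IsLocallyNoetherian T) 𝒴)
    (f : 𝒳 ⥤ᵇ 𝒴) (hqc : AlgSt.IsQuasiCompactMor Scheme.etalePrecoverage f)
    (hqs : AlgSt.IsQuasiSeparatedMor f)
    (hft : AlgSt.LocQ (AlgSp.LocP @LocallyOfFiniteType) f)
    (hval : ∀ (R : Type u) [CommRing R] [IsDomain R] [IsDiscreteValuationRing R]
        (sR : Spec (CommRingCat.of R) ⟶ S)
        (a : FibCat.overCat (Over.mk (Spec.map (CommRingCat.ofHom (algebraMap R (FractionRing R))) ≫ sR)) ⥤ᵇ 𝒳)
        (b : FibCat.overCat (Over.mk sR) ⥤ᵇ 𝒴)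
        (α : BasedFunctor.comp a f ≅
          BasedFunctor.comp (AlgSt.overMap (Over.homMk (Spec.map (CommRingCat.ofHom (algebraMap R (FractionRing R)))) rfl :
            Over.mk (Spec.map (CommRingCat.ofHom (algebraMap R (FractionRing R))) ≫ sR) ⟶ Over.mk sR)) b),
        ∃ (R' : Type u) (_ : CommRing R') (_ : IsDomain R') (_ : IsDiscreteValuationRing R') (φ : R →+* R')
          (_ : Function.Injective φ) (_ : IsLocalHom φ)
          (gψ : (Over.mk (Spec.map (CommRingCat.ofHom (algebraMap R' (FractionRing R'))) ≫
                  Spec.map (CommRingCat.ofHom φ) ≫ sR) : Over S) ⟶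
                Over.mk (Spec.map (CommRingCat.ofHom (algebraMap R (FractionRing R))) ≫ sR))
          (c : FibCat.overCat (Over.mk (Spec.map (CommRingCat.ofHom φ) ≫ sR)) ⥤ᵇ FibCat.fp f b),
          gψ ≫ (Over.homMk (Spec.map (CommRingCat.ofHom (algebraMap R (FractionRing R)))) rfl :
              Over.mk (Spec.map (CommRingCat.ofHom (algebraMap R (FractionRing R))) ≫ sR) ⟶ Over.mk sR) =
            (Over.homMk (Spec.map (CommRingCat.ofHom (algebraMap R' (FractionRing R')))) rfl :
                Over.mk (Spec.map (CommRingCat.ofHom (algebraMap R' (FractionRing R'))) ≫
                  Spec.map (CommRingCat.ofHom φ) ≫ sR) ⟶ Over.mk (Spec.map (CommRingCat.ofHom φ) ≫ sR)) ≫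
              (Over.homMk (Spec.map (CommRingCat.ofHom φ)) rfl :
                Over.mk (Spec.map (CommRingCat.ofHom φ) ≫ sR) ⟶ Over.mk sR) ∧
          Nonempty (BasedFunctor.comp c (FibCat.fpSnd f b) ≅
            AlgSt.overMap (Over.homMk (Spec.map (CommRingCat.ofHom φ)) rfl :
              Over.mk (Spec.map (CommRingCat.ofHom φ) ≫ sR) ⟶ Over.mk sR)) ∧
          Nonempty (BasedFunctor.comp
              (AlgSt.overMap (Over.homMk (Spec.map (CommRingCat.ofHom (algebraMap R' (FractionRing R')))) rfl :
                Over.mk (Spec.map (CommRingCat.ofHom (algebraMap R' (FractionRing R'))) ≫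
                  Spec.map (CommRingCat.ofHom φ) ≫ sR) ⟶ Over.mk (Spec.map (CommRingCat.ofHom φ) ≫ sR))) c ≅
            BasedFunctor.comp (AlgSt.overMap gψ)
              (FibCat.fpLift a
                (AlgSt.overMap (Over.homMk (Spec.map (CommRingCat.ofHom (algebraMap R (FractionRing R)))) rfl :
                  Over.mk (Spec.map (CommRingCat.ofHom (algebraMap R (FractionRing R))) ≫ sR) ⟶ Over.mk sR)) α))) :
    AlgSt.IsUnivClosed Scheme.etalePrecoverage f :=  by
  exact AlgStVC.isUnivClosed_of_dvrLift h𝒳 h𝒴 hn𝒴 hqc hft hval
end Groth.Agent.S16829
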