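import Groth.Statements.S16832
import Groth.Agent.AlgStLib.TrivialStab

set_option backward.isDefEq.respectTransparency false
set_option backward.isDefEq.respectTransparency.types false
-- import your own Groth.Agent.* helpers here

set_option autoImplicit false
universe u
open AlgSt

namespace Groth.Agent.S16832

open CategoryTheory AlgebraicGeometry in
/-- Let 𝒳 be an algebraic stack over (Sch/S) for the etale topology. Then 𝒳 is an algebraic space
(equivalent over (Sch/S) to the category of sections of an algebraic space) if and only if every
point of 𝒳 has trivial stabilizer: for every field k, every morphism Spec k → S and every functor x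
: (Sch/Spec k) → 𝒳 over (Sch/S), the group of automorphisms over the identity of the object x(T) is
trivial for every scheme T over Spec k (the stabilizer of x, a group algebraic space over k, has
only the identity section over every T). -/
theorem result {S : Scheme.{u}} (𝒳 : AlgSt.Cat S)
    (h𝒳 : AlgSt.IsAlgStack Scheme.etalePrecoverage 𝒳) :
    AlgSt.RepByAlgSp 𝒳 ↔
      ∀ (k : Type u) [Field k] (sk : Spec (CommRingCat.of k) ⟶ S)
        (x : FibCat.overCat (Over.mk sk) ⥤ᵇ 𝒳) (T : Over (Over.mk sk)),
        Subsingleton (Gerb.AutO (x.obj T)) :=  ⟨fun hr _ _ _ x T => Groth.Agent.AlgStLib.trivial_stab_of_repByAlgSp hr (x.obj T),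
    Groth.Agent.AlgStLib.repByAlgSp_of_trivial_stab h𝒳⟩
end Groth.Agent.S16832
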