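import Groth.Statements.S16834
import Groth.Agent.H14Misc.AffineField

set_option backward.isDefEq.respectTransparency false
set_option backward.isDefEq.respectTransparency.types false

set_option autoImplicit false
universe u
open CategoryTheory CategoryTheory.Limits AlgebraicGeometry
open AlgSp

namespace Groth.Agent.S16834

/-- Let k be a field with algebraic closure k̄ and X an algebraic space over Spec k which is
quasi-separated over k and whose structure morphism is locally of finite type. If the base change X
×_k Spec k̄ (product with h_{Spec k̄} in fppf sheaves over Spec k) is isomorphic to h_T for an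
affine scheme T over k, then X is isomorphic to h_U for an affine scheme U over k. -/
theorem result (k : Type u) [Field k]
    (X : AlgSp.Space (Spec (CommRingCat.of k))) (hqs : AlgSp.IsQuasiSeparatedSp X.obj)
    (hlft : ∀ q : X.obj ⟶ (AlgSp.yon (Spec (CommRingCat.of k))).obj (Over.mk (𝟙 _)),
      AlgSp.LocP @LocallyOfFiniteType q)
    (kbar : Type u) [Field kbar] [Algebra k kbar] [IsAlgClosure k kbar]
    (T : Over (Spec (CommRingCat.of k))) (hT : IsAffine T.left)
    (e : X.obj ⨯ (AlgSp.yon (Spec (CommRingCat.of k))).obj
        (Over.mk (Spec.map (CommRingCat.ofHom (algebraMap k kbar)))) ≅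
      (AlgSp.yon (Spec (CommRingCat.of k))).obj T) :
    ∃ (U : Over (Spec (CommRingCat.of k))), IsAffine U.left ∧
      Nonempty (X.obj ≅ (AlgSp.yon (Spec (CommRingCat.of k))).obj U) := by
  have := hT
  exact Groth.Agent.H14Misc.exists_iso_yon_affine_of_bc (CommRingCat.ofHom (algebraMap k kbar)) X.property T e


end Groth.Agent.S16834
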