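import Groth.Statements.S16835
import Groth.Agent.ConstQuot.EtInv
-- import your own Groth.Agent.* helpers here

set_option autoImplicit false
universe u
open InvTh

namespace Groth.Agent.S16835

/-- Let R be a Noetherian commutative ring, A and B commutative R-algebras of finite type on which a
finite group G acts by R-algebra automorphisms, and B → A a G-equivariant homomorphism of
R-algebras. Assume that at every maximal ideal x of A, A is etale over B at x and the inertia
subgroup of x in G equals the inertia subgroup of its contraction to B. Give A^G the B^G-algebra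
structure induced by B → A (compatible with B^G → B → A through A^G → A). Then A^G is etale over
B^G. The source also asserts that the square formed by the quotient stacks and the invariant
quotients is cartesian; that clause is not stated. -/
theorem result (R : Type u)
    [CommRing R] [IsNoetherianRing R] (A B : Type u) [CommRing A] [CommRing B] [Algebra R A] [Algebra R B]
    [Algebra.FiniteType R A] [Algebra.FiniteType R B]
    (G : Type u) [Group G] [Finite G] [MulSemiringAction G A] [MulSemiringAction G B]
    [SMulCommClass G R A] [SMulCommClass G R B]
    [Algebra B A] [IsScalarTower R B A]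
    (hGeq : ∀ (g : G) (b : B), algebraMap B A (g • b) = g • algebraMap B A b)
    [Algebra (FixedPoints.subalgebra R B G) (FixedPoints.subalgebra R A G)]
    [IsScalarTower (FixedPoints.subalgebra R B G) (FixedPoints.subalgebra R A G) A]
    (h : ∀ (x : Ideal A) (_ : x.IsMaximal),
      Algebra.IsEtaleAt B x ∧ x.inertia G = (x.comap (algebraMap B A)).inertia G) :
    Algebra.Etale (FixedPoints.subalgebra R B G) (FixedPoints.subalgebra R A G) := by
  haveI := Groth.Agent.ConstQuot.finitePresentation_fixed R A G B
  refine ⟨Algebra.etaleLocus_eq_univ_iff.1 ?_, inferInstance⟩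
  have hall : ∀ m : Ideal (FixedPoints.subalgebra R A G), ∀ hm : m.IsMaximal,
      (⟨m, hm.isPrime⟩ : PrimeSpectrum _) ∈ Algebra.etaleLocus (FixedPoints.subalgebra R B G) _ := by
    intro m hm
    haveI := Groth.Agent.ConstQuot.isInvariant_fixed R A G
    haveI := Algebra.IsInvariant.isIntegral (FixedPoints.subalgebra R A G) A G
    obtain ⟨x, hx, hxm⟩ := Ideal.exists_ideal_over_maximal_of_isIntegral (S := A) m (by
      rw [(RingHom.injective_iff_ker_eq_bot _).1 (show Function.Injective
        (algebraMap (FixedPoints.subalgebra R A G) A) from Subtype.val_injective)]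
      exact bot_le)
    obtain ⟨h₁, h₂⟩ := h x hx
    subst hxm
    exact Groth.Agent.ConstQuot.isEtaleAt_fixed R A G B hGeq x h₁ h₂
  refine Set.eq_univ_of_forall fun q => ?_
  obtain ⟨m, hm, hqm⟩ := Ideal.exists_le_maximal q.asIdeal q.isPrime.ne_top
  exact ((PrimeSpectrum.le_iff_specializes q ⟨m, hm.isPrime⟩).1 hqm).mem_open Algebra.isOpen_etaleLocus (hall m hm)

end Groth.Agent.S16835
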