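import Groth.Statements.S16842
import Groth.Agent.AVTate.Isogeny
import Groth.Agent.AVTate.Cube
-- import your own Groth.Agent.* helpers here

set_option linter.style.haveILetI false
set_option backward.isDefEq.respectTransparency false
set_option backward.isDefEq.respectTransparency.types false
set_option maxHeartbeats 2000000
set_option synthInstance.maxHeartbeats 400000
set_option autoImplicit false
universe u
open CategoryTheory MonoidalCategory CartesianMonoidalCategory MonObj GrpObj AlgebraicGeometry
open AbVar

namespace Groth.Agent.S16842

/-- (a) ⇔ (e2): fix a finite field k and abelian varieties X and Y over it (proper, geometrically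
integral commutative group schemes over k). Then X and Y are isogenous over k — there exist
homomorphisms u : X → Y and v : Y → X and an integer n > 0 with v ∘ u = [n]_X and u ∘ v = [n]_Y — if
and only if X and Y have the same number of k'-valued points for every finite extension field k' of
k (equivalently, the same zeta function). -/
theorem result (k : Type u) [Field k] [Finite k]
    (X : Over (Spec (CommRingCat.of k)))
    [GrpObj X] [IsCommMonObj X] [IsProper X.hom] [GeometricallyIntegral X.hom]
    (Y : Over (Spec (CommRingCat.of k)))
    [GrpObj Y] [IsCommMonObj Y] [IsProper Y.hom] [GeometricallyIntegral Y.hom] :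
    (∃ (u : X ⟶ Y) (_ : IsMonHom u) (v : Y ⟶ X) (_ : IsMonHom v) (n : ℕ), 0 < n ∧
        u ≫ v = (𝟙 X) ^ n ∧ v ≫ u = (𝟙 Y) ^ n) ↔
      ∀ (k' : Type u) [Field k'] [Algebra k k'] [Finite k'],
        Nat.card (Over.mk (Spec.map (CommRingCat.ofHom (algebraMap k k'))) ⟶ X) = Nat.card (Over.mk (Spec.map (CommRingCat.ofHom (algebraMap k k'))) ⟶ Y) := by
  refine (Groth.Agent.AVTate.isog_iff_nPts (Groth.Agent.AVTate.cubeEmbeds k)).trans ?_
  have hcard : ∀ (Z : Over (Spec (CommRingCat.of k))) [IsProper Z.hom] (k' : Type u) [Field k'] [Algebra k k'] [Finite k'],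
      Nat.card (Over.mk (Spec.map (CommRingCat.ofHom (algebraMap k k'))) ⟶ Z) =
        Zeta.nPts Z.hom (Module.finrank k k') := by
    intro Z _ k' _ _ _
    rw [← Groth.Agent.ZetaLib.pointCount_eq_nPts Z.hom k']
    exact Nat.card_congr
      { toFun := fun x => ⟨x.left, Over.w x⟩
        invFun := fun g => Over.homMk g.1 g.2
        left_inv := fun _ => rfl
        right_inv := fun _ => rfl }
  constructor
  · intro h k' _ _ _
    haveI : Module.Finite k k' := Module.Finite.of_finite
    rw [hcard X k', hcard Y k', h _ Module.finrank_pos]
  · intro h n hn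
    obtain ⟨p, r, hp, hc, -, -⟩ := Groth.Agent.AVTate.exists_card_eq (k := k)
    haveI := hc
    haveI : Fact p.Prime := ⟨hp⟩
    haveI : NeZero n := ⟨hn.ne'⟩
    let K' := ULift.{u} (FiniteField.Extension k p n)
    have hfr : Module.finrank k K' = n := ULift.moduleEquiv.finrank_eq.trans (FiniteField.finrank_extension k p n)
    have h' := h K'
    rw [hcard X K', hcard Y K', hfr] at h'
    exact h'

end Groth.Agent.S16842
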