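import Groth.Statements.S16846
import Groth.Agent.AVTors.Verschiebung
-- import your own Groth.Agent.* helpers here

set_option autoImplicit false
universe u
open CategoryTheory MonoidalCategory CartesianMonoidalCategory MonObj GrpObj AlgebraicGeometry
open AbVar

namespace Groth.Agent.S16846

set_option linter.style.haveILetI false
set_option backward.isDefEq.respectTransparency false
set_option backward.isDefEq.respectTransparency.types false
set_option maxHeartbeats 1000000

/-- Fix a finite field k of size q and an abelian variety X over k (a proper, geometrically integral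
commutative group scheme over k) and π_X its geometric Frobenius (the identity on points, the q-th
power map on sections; a homomorphism). Then the endomorphism ring End_k(X) contains q/π_X: there is
a homomorphism v : X → X with π_X followed by v, and v followed by π_X, both equal to multiplication
by q (the q-th power of the identity in the group of morphisms X → X). -/
theorem result (k : Type u) [Field k] [Finite k] (X : Over (Spec (CommRingCat.of k)))
    [GrpObj X] [IsCommMonObj X] [IsProper X.hom] [GeometricallyIntegral X.hom]
    (πX : X ⟶ X) [IsMonHom πX] (hπb : πX.left.base = 𝟙 _)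
    (hπle : ∀ U : X.left.Opens, U ≤ πX.left ⁻¹ᵁ U)
    (hπapp : ∀ (U : X.left.Opens) (s : Γ(X.left, U)), (πX.left.appLE U U (hπle U)).hom s = s ^ Nat.card k) :
    ∃ (v : X ⟶ X) (_ : IsMonHom v), πX ≫ v = (𝟙 X) ^ Nat.card k ∧ v ≫ πX = (𝟙 X) ^ Nat.card k := by
  haveI := Fintype.ofFinite k
  obtain ⟨p, hp⟩ := CharP.exists k
  haveI := hp
  obtain ⟨n, hpp, hn⟩ := FiniteField.card k p
  haveI : Fact p.Prime := ⟨hpp⟩
  exact AVTors.Verschiebung.exists_versch πX hπb (Nat.card k) hπle hπapp p n
    (by rw [Nat.card_eq_fintype_card]; exact hn) (fun c => by rw [Nat.card_eq_fintype_card]; exact FiniteField.pow_card c)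

end Groth.Agent.S16846
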