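import Groth.Statements.S16847
import Groth.Agent.Lib.AVWeilProps
import Groth.Agent.Lib.AVSemisimple

set_option autoImplicit false
set_option backward.isDefEq.respectTransparency false
set_option backward.isDefEq.respectTransparency.types false
set_option linter.style.haveILetI false
set_option linter.unusedSectionVars false
set_option maxHeartbeats 400000
universe u
open CategoryTheory MonoidalCategory CartesianMonoidalCategory MonObj GrpObj AlgebraicGeometry
open AbVar

namespace Groth.Agent.S16847

set_option synthInstance.maxHeartbeats 400000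

theorem isField_adjoin {K R : Type*} [Field K] [Ring R] [Algebra K R] (z : R) (hirr : Irreducible (minpoly K z)) :
    IsField (Algebra.adjoin K ({z} : Set R)) := by
  refine ⟨⟨0, 1, fun h01 => ?_⟩, fun x y => Subtype.ext ?_, fun {x} hx => ?_⟩
  · have h2 := congrArg Subtype.val h01
    haveI : Subsingleton R := subsingleton_of_zero_eq_one (by simpa using h2)
    exact hirr.not_isUnit (isUnit_of_dvd_one (minpoly.dvd K z (Subsingleton.elim _ _)))
  · exact (Algebra.commute_of_mem_adjoin_singleton_of_commute y.2
      (Algebra.commute_of_mem_adjoin_singleton_of_commute x.2 (Commute.refl _)).symm).eq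
  · obtain ⟨f, hf⟩ : ∃ f : Polynomial K, Polynomial.aeval z f = (x : R) := by
      have h : ∀ y ∈ Algebra.adjoin K ({z} : Set R), ∃ f : Polynomial K, Polynomial.aeval z f = y := fun y hy => by
        rw [Algebra.adjoin_singleton_eq_range_aeval] at hy
        exact hy
      exact h _ x.2
    obtain ⟨u, v, huv⟩ := (hirr.coprime_iff_not_dvd).2 (show ¬ minpoly K z ∣ f from fun hd' => hx (Subtype.ext (by
      obtain ⟨w, rfl⟩ := hd'
      rw [← hf, map_mul, minpoly.aeval, zero_mul]
      rfl)))
    refine ⟨⟨Polynomial.aeval z v, Polynomial.aeval_mem_adjoin_singleton K _⟩, Subtype.ext ?_⟩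
    show (x : R) * Polynomial.aeval z v = 1
    have h2 := congrArg (Polynomial.aeval z) huv
    rw [map_add, map_mul, map_mul, minpoly.aeval, mul_zero, zero_add, map_one] at h2
    rw [← h2, ← hf, ← map_mul, ← map_mul, mul_comm f v]

/-- Let k be a finite field with q elements and algebraic closure Ω, ℓ a prime invertible in k, and X an
abelian variety over k (a proper, geometrically integral commutative group scheme over k) of
dimension g, with geometric Frobenius π_X (the endomorphism that is the identity on points and the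
q-th power map on sections); assume, as is the case, that the ℓ-adic Tate module of Ω-points T_ℓ X
is free of finite rank over ℤ_ℓ, and let f_X ∈ ℤ[t] be the polynomial mapping to the characteristic
polynomial of T_ℓ(π_X) (the characteristic polynomial of Frobenius). Then ℚ[π_X] ⊆ End⁰(X) = ℚ ⊗
End_k(X) is a field (equivalently, X is elementary, i.e. isogenous to a power of a simple abelian
variety — that reformulation is not restated) if and only if f_X = h^n for some irreducible h ∈ ℚ[t]
and some n ≥ 1. -/
theorem result (k Ω : Type u) [Field k] [Finite k] [Field Ω] [Algebra k Ω] [IsAlgClosure k Ω]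
    (l : ℕ) [Fact l.Prime] (hl : (l : k) ≠ 0) (X : Over (Spec (CommRingCat.of k)))
    [GrpObj X] [IsCommMonObj X] [IsProper X.hom] [GeometricallyIntegral X.hom]
    (πX : X ⟶ X) [IsMonHom πX] (hπb : πX.left.base = 𝟙 _)
    (hπle : ∀ U : X.left.Opens, U ≤ πX.left ⁻¹ᵁ U)
    (hπapp : ∀ (U : X.left.Opens) (s : Γ(X.left, U)), (πX.left.appLE U U (hπle U)).hom s = s ^ Nat.card k)
    [Module.Free ℤ_[l] (AbDual.TateMod X l (SGA7.pt Ω))] [Module.Finite ℤ_[l] (AbDual.TateMod X l (SGA7.pt Ω))]
    (P : Polynomial ℤ) (hP : (AbDual.tateMapₗ (l := l) (T := SGA7.pt Ω) πX).charpoly = P.map (Int.castRingHom ℤ_[l])) :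
    IsField (EndAV.QAdj (EndAV.End.of πX)) ↔
      ∃ (h : Polynomial ℚ) (n : ℕ), Irreducible h ∧ 0 < n ∧ P.map (Int.castRingHom ℚ) = h ^ n := by
  haveI : IsAlgClosed Ω := IsAlgClosure.isAlgClosed k
  classical
  haveI := Fintype.ofFinite k
  obtain ⟨p, hp⟩ := CharP.exists k
  haveI := hp
  obtain ⟨r, hpp, hr⟩ := FiniteField.card k p
  haveI : Fact p.Prime := ⟨hpp⟩
  obtain ⟨g, hg⟩ := AVTors.exists_dimNat X
  obtain ⟨hm, hd, hv⟩ := AVWeil.charpoly_props Ω X hg πX l hl hP
  let π := EndAV.End.of πX
  have hcentral : ∀ φ : EndAV.End X, φ * π = π * φ := fun φ => EndAV.End.ext (by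
    rw [EndAV.End.toHom_mul, EndAV.End.toHom_mul]
    exact AVSemisimple.frob_natural φ.toHom πX πX (Nat.card k) p r (by rw [Nat.card_eq_fintype_card]; exact hr)
      hπle hπapp hπle hπapp)
  haveI := AVEnd0.finite_end0 (A := X)
  set mn := minpoly ℚ (EndAV.toEnd0 π) with hmn
  have hP0 : Polynomial.aeval π P = 0 := AVEnd0.tateRep_injective Ω l hl (by
    rw [AVEnd0.aeval_tateRep, ← hP, map_zero]
    exact LinearMap.aeval_self_charpoly _)
  have hdvd : mn ∣ P.map (Int.castRingHom ℚ) := minpoly.dvd ℚ _ (by rw [← AVEnd0.aeval_toEnd0, hP0, map_zero])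
  have hPm : (P.map (Int.castRingHom ℚ)).Monic := hm.map _
  have hint : IsIntegral ℚ (EndAV.toEnd0 π) := Algebra.IsIntegral.isIntegral _
  letI : CommRing (EndAV.QAdj π) :=
    { (inferInstance : Ring (EndAV.QAdj π)) with
      mul_comm := fun a b => Subtype.ext (show (a : EndAV.End0 X) * b = b * a from (Algebra.commute_of_mem_adjoin_singleton_of_commute b.2
        (Algebra.commute_of_mem_adjoin_singleton_of_commute a.2 (Commute.refl _)).symm).symm.eq.symm) }
  let a : EndAV.QAdj π := ⟨EndAV.toEnd0 π, Algebra.self_mem_adjoin_singleton ℚ _⟩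
  have hma : minpoly ℚ a = mn := (minpoly.algHom_eq (EndAV.QAdj π).val Subtype.val_injective a).symm
  constructor
  · intro hF
    haveI : IsDomain (EndAV.QAdj π) := hF.isDomain
    have hirr : Irreducible mn := hma ▸ minpoly.irreducible
      (⟨mn, minpoly.monic hint, by rw [← Polynomial.aeval_def, ← hma]; exact minpoly.aeval ℚ a⟩ : IsIntegral ℚ a)
    have e := AVEnd0.eq_pow_of_irreducible hg π hm hd hv hirr
    refine ⟨mn, _, hirr, Nat.pos_of_ne_zero fun h0 => hirr.not_isUnit (isUnit_of_dvd_one ?_), e⟩
    rwa [e, h0, pow_zero] at hdvd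
  · rintro ⟨h, n, hh, hn, e⟩
    have hhdvd : h ∣ mn := AVEnd0.dvd_minpoly hg π hm hd hv hh (e ▸ dvd_pow_self h hn.ne')
    have hirr : Irreducible mn := by
      have hsq : Squarefree mn := AVSemisimple.squarefree_minpoly π hcentral
      have h1 : mn ∣ h := (Squarefree.dvd_pow_iff_dvd hsq hn.ne').1 (e ▸ hdvd)
      exact (associated_of_dvd_dvd hhdvd h1).irreducible hh
    exact isField_adjoin (EndAV.toEnd0 π) hirr

end Groth.Agent.S16847
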