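import Groth.Statements.S16851
import Groth.Agent.AVTors.TateArg

set_option linter.style.haveILetI false
set_option backward.isDefEq.respectTransparency false
set_option backward.isDefEq.respectTransparency.types false

set_option autoImplicit false
universe u
open CategoryTheory MonoidalCategory CartesianMonoidalCategory MonObj GrpObj AlgebraicGeometry
open scoped TensorProduct
open AbVar

namespace Groth.Agent.S16851

open scoped TensorProduct

theorem exists_smul_eq_tmul {l : ℕ} [Fact l.Prime] {M : Type*} [AddCommGroup M] [Module ℤ_[l] M]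
    (x : ℚ_[l] ⊗[ℤ_[l]] M) : ∃ a : ℤ_[l], a ≠ 0 ∧ ∃ t : M, a • x = (1 : ℚ_[l]) ⊗ₜ[ℤ_[l]] t := by
  induction x using TensorProduct.induction_on with
  | zero => exact ⟨1, one_ne_zero, 0, by simp⟩
  | add u v hu hv =>
    obtain ⟨a, ha, t, ht⟩ := hu
    obtain ⟨b, hb, s, hs⟩ := hv
    refine ⟨a * b, mul_ne_zero ha hb, b • t + a • s, ?_⟩
    rw [smul_add, TensorProduct.tmul_add, TensorProduct.tmul_smul, TensorProduct.tmul_smul, ← ht, ← hs,
      smul_smul, smul_smul, mul_comm b a]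
  | tmul q t =>
    obtain ⟨⟨y, ⟨s, hs⟩⟩, h⟩ := IsLocalization.surj (nonZeroDivisors ℤ_[l]) q
    refine ⟨s, nonZeroDivisors.ne_zero hs, y • t, ?_⟩
    rw [TensorProduct.smul_tmul', ← TensorProduct.smul_tmul, Algebra.smul_def, mul_comm]
    rw [h, Algebra.smul_def, _root_.mul_one]


/-- Let k be a field with algebraic closure Ω, ℓ a prime invertible in k, and X an abelian variety over
k (a proper, geometrically integral commutative group scheme over k) satisfying the finiteness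
condition Fin(X/k, ℓ): up to isomorphism of k-schemes only finitely many abelian varieties Y over k
admit an isogeny X → Y of ℓ-power degree (rendered by homomorphisms u : X → Y, v : Y → X with v ∘ u
= [ℓ^m], u ∘ v = [ℓ^m]). Let T = T_ℓ X be the Tate module of Ω-points, assumed (as is the case) free
of finite rank over ℤ_ℓ, V = ℚ_ℓ ⊗ T, and ρ(τ) the componentwise Galois action of τ ∈ Aut_k(Ω) on T.
Then for every ℚ_ℓ-subspace W ⊆ V stable under all ρ(τ) there is an element u of ℚ_ℓ ⊗ End_k(X) with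
W = u · V: W is the range of some ℚ_ℓ-linear combination of the endomorphisms V_ℓ(f) = ℚ_ℓ ⊗ T_ℓ(f),
f an endomorphism of X over k. -/
theorem result (k Ω : Type u) [Field k] [Field Ω] [Algebra k Ω] [IsAlgClosure k Ω]
    (l : ℕ) [Fact l.Prime] (hl : (l : k) ≠ 0)
    (X : Over (Spec (CommRingCat.of k)))
    [GrpObj X] [IsCommMonObj X] [IsProper X.hom] [GeometricallyIntegral X.hom]
    (hFin : (∃ (J : Type u) (_ : Finite J) (F : J → Over (Spec (CommRingCat.of k))),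
        ∀ (Y : Over (Spec (CommRingCat.of k))) [GrpObj Y] [IsCommMonObj Y] [IsProper Y.hom] [GeometricallyIntegral Y.hom]
          (u : X ⟶ Y) [IsMonHom u] (v : Y ⟶ X) [IsMonHom v] (m : ℕ),
          u ≫ v = (𝟙 X) ^ (l ^ m) → v ≫ u = (𝟙 Y) ^ (l ^ m) → ∃ i, Nonempty (Y ≅ F i)))
    (ρ : (Ω ≃ₐ[k] Ω) → Module.End ℤ_[l] (AbDual.TateMod X l (SGA7.pt Ω)))
    (hρ : ∀ (τ : Ω ≃ₐ[k] Ω) (z : AbDual.TateMod X l (SGA7.pt Ω)) (m : ℕ),
      (AbDual.TateMod.component X l (SGA7.pt Ω) m (ρ τ z)).toMul =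
        SGA7.galAct τ (AbDual.TateMod.component X l (SGA7.pt Ω) m z).toMul)
    [Module.Free ℤ_[l] (AbDual.TateMod X l (SGA7.pt Ω))] [Module.Finite ℤ_[l] (AbDual.TateMod X l (SGA7.pt Ω))]
    (W : Submodule ℚ_[l] (ℚ_[l] ⊗[ℤ_[l]] AbDual.TateMod X l (SGA7.pt Ω)))
    (hW : ∀ τ : Ω ≃ₐ[k] Ω, W.map ((ρ τ).baseChange ℚ_[l]) ≤ W) :
    ∃ u ∈ Submodule.span ℚ_[l] {ψ : Module.End ℚ_[l] (ℚ_[l] ⊗[ℤ_[l]] AbDual.TateMod X l (SGA7.pt Ω)) |
          ∃ (f : X ⟶ X) (_ : IsMonHom f), ψ = (AbDual.tateMapₗ (l := l) (T := SGA7.pt Ω) f).baseChange ℚ_[l]},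
      LinearMap.range u = W := by
  let T := AbDual.TateMod X l (SGA7.pt Ω)
  let W₀ : Submodule ℤ_[l] T := (W.restrictScalars ℤ_[l]).comap ((TensorProduct.mk ℤ_[l] ℚ_[l] T) 1)
  have hW₀ : ∀ (σ : Ω ≃ₐ[k] Ω), ∀ w ∈ W₀, ∀ n, ∃ w' ∈ W₀,
      SGA7.galAct σ (Groth.Agent.AVTors.TateArg.cmp X n w) = Groth.Agent.AVTors.TateArg.cmp X n w' := by
    intro σ w hw n
    refine ⟨ρ σ w, ?_, (hρ σ w n).symm⟩
    have h := hW σ (Submodule.mem_map_of_mem (show (1 : ℚ_[l]) ⊗ₜ[ℤ_[l]] w ∈ W from hw))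
    rw [LinearMap.baseChange_tmul] at h
    exact h
  obtain ⟨f, hf, hfW, c, hc, hge⟩ := Groth.Agent.AVTors.TateArg.exists_span_range hl hFin W₀ hW₀
  refine ⟨f.baseChange ℚ_[l], ?_, le_antisymm ?_ ?_⟩
  · clear hfW hge
    induction hf using Submodule.span_induction with
    | mem x hx =>
      obtain ⟨g, hg, rfl⟩ := hx
      exact Submodule.subset_span ⟨g, hg, rfl⟩
    | zero => rw [LinearMap.baseChange_zero]; exact Submodule.zero_mem _
    | add a b _ _ ha hb => rw [LinearMap.baseChange_add]; exact Submodule.add_mem _ ha hb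
    | smul a x _ hx =>
      rw [LinearMap.baseChange_smul, ← algebraMap_smul ℚ_[l] a]
      exact Submodule.smul_mem _ _ hx
  · rintro _ ⟨x, rfl⟩
    induction x using TensorProduct.induction_on with
    | zero => rw [map_zero]; exact W.zero_mem
    | add a b ha hb => rw [map_add]; exact W.add_mem ha hb
    | tmul q t =>
      rw [LinearMap.baseChange_tmul, show q ⊗ₜ[ℤ_[l]] (f t) = q • ((1 : ℚ_[l]) ⊗ₜ[ℤ_[l]] f t) from by
        rw [TensorProduct.smul_tmul', smul_eq_mul, _root_.mul_one]]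
      exact W.smul_mem _ (hfW t)
  · intro x hx
    obtain ⟨a, ha, t, ht⟩ := exists_smul_eq_tmul x
    have ht₀ : t ∈ W₀ := by
      show (1 : ℚ_[l]) ⊗ₜ[ℤ_[l]] t ∈ W
      rw [← ht, ← algebraMap_smul ℚ_[l] a]
      exact W.smul_mem _ hx
    obtain ⟨t', ht'⟩ := hge t ht₀
    have hca : algebraMap ℤ_[l] ℚ_[l] (c * a) ≠ 0 :=
      fun h => mul_ne_zero hc ha ((injective_iff_map_eq_zero _).1 (IsFractionRing.injective ℤ_[l] ℚ_[l]) _ h)
    refine ⟨(algebraMap ℤ_[l] ℚ_[l] (c * a))⁻¹ • ((1 : ℚ_[l]) ⊗ₜ[ℤ_[l]] t'), ?_⟩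
    rw [map_smul, LinearMap.baseChange_tmul, ht', TensorProduct.tmul_smul, ← ht, smul_smul,
      ← algebraMap_smul ℚ_[l] (c * a) x, inv_smul_smul₀ hca]

end Groth.Agent.S16851
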