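import Groth.Statements.S16848
import Groth.Agent.AVTors.TateSemi
import Groth.Agent.S16851

set_option linter.style.haveILetI false
set_option backward.isDefEq.respectTransparency false
set_option backward.isDefEq.respectTransparency.types false
set_option maxHeartbeats 2000000
set_option synthInstance.maxHeartbeats 200000

set_option autoImplicit false
universe u
open CategoryTheory MonoidalCategory CartesianMonoidalCategory MonObj GrpObj AlgebraicGeometry
open scoped TensorProduct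
open AbVar

namespace Groth.Agent.S16848

open scoped TensorProduct
open Groth.Agent.AVTors

/-- The key step: an endomorphism commuting with Galois commutes with the commutant of the endomorphisms. -/
theorem commute_commutant {k Ω : Type u} [Field k] [Field Ω] [Algebra k Ω] [IsAlgClosure k Ω]
    {l : ℕ} [Fact l.Prime] (hl : (l : k) ≠ 0)
    (hFin : ∀ (Z : Over (Spec (CommRingCat.of k))) [GrpObj Z] [IsCommMonObj Z] [IsProper Z.hom] [GeometricallyIntegral Z.hom],
      ∃ (J : Type u) (_ : Finite J) (F : J → Over (Spec (CommRingCat.of k))),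
        ∀ (Y : Over (Spec (CommRingCat.of k))) [GrpObj Y] [IsCommMonObj Y] [IsProper Y.hom] [GeometricallyIntegral Y.hom]
          (u : Z ⟶ Y) [IsMonHom u] (v : Y ⟶ Z) [IsMonHom v] (m : ℕ),
          u ≫ v = (𝟙 Z) ^ (l ^ m) → v ≫ u = (𝟙 Y) ^ (l ^ m) → ∃ i, Nonempty (Y ≅ F i))
    (X : Over (Spec (CommRingCat.of k)))
    [GrpObj X] [IsCommMonObj X] [IsProper X.hom] [GeometricallyIntegral X.hom]
    (ρ : (Ω ≃ₐ[k] Ω) → Module.End ℤ_[l] (AbDual.TateMod X l (SGA7.pt Ω)))
    (hρ : ∀ (τ : Ω ≃ₐ[k] Ω) (z : AbDual.TateMod X l (SGA7.pt Ω)) (m : ℕ),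
      (AbDual.TateMod.component X l (SGA7.pt Ω) m (ρ τ z)).toMul =
        SGA7.galAct τ (AbDual.TateMod.component X l (SGA7.pt Ω) m z).toMul)
    [Module.Free ℤ_[l] (AbDual.TateMod X l (SGA7.pt Ω))] [Module.Finite ℤ_[l] (AbDual.TateMod X l (SGA7.pt Ω))]
    (φ : Module.End ℚ_[l] (ℚ_[l] ⊗[ℤ_[l]] AbDual.TateMod X l (SGA7.pt Ω)))
    (hφ : ∀ τ : Ω ≃ₐ[k] Ω, φ ∘ₗ (ρ τ).baseChange ℚ_[l] = (ρ τ).baseChange ℚ_[l] ∘ₗ φ)
    (c : Module.End ℚ_[l] (ℚ_[l] ⊗[ℤ_[l]] AbDual.TateMod X l (SGA7.pt Ω)))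
    (hc : ∀ f : EndAV.End X, c * TateSemi.rep l Ω X f = TateSemi.rep l Ω X f * c) :
    φ * c = c * φ := by
  haveI : IsAlgClosed Ω := IsAlgClosure.isAlgClosed k
  obtain ⟨a, ha, ψ, hψ⟩ := TateSemi.exists_smul_eq_baseChange φ
  obtain ⟨b, hb, c', hc'⟩ := TateSemi.exists_smul_eq_baseChange c
  have hψρ : ∀ τ, ψ * ρ τ = ρ τ * ψ := fun τ => TateSemi.baseChange_injective (by
    rw [LinearMap.baseChange_mul, LinearMap.baseChange_mul, ← hψ, smul_mul_assoc, mul_smul_comm]
    exact congrArg (a • ·) (hφ τ))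
  have hcf : ∀ f : EndAV.End X, c' * EndAV.End.tateRep l (SGA7.pt Ω) f = EndAV.End.tateRep l (SGA7.pt Ω) f * c' :=
    fun f => TateSemi.baseChange_injective (by
      rw [LinearMap.baseChange_mul, LinearMap.baseChange_mul, ← hc', smul_mul_assoc, mul_smul_comm]
      exact congrArg (b • ·) (hc f))
  suffices h : ψ * c' = c' * ψ by
    have h1 := congrArg (LinearMap.baseChange ℚ_[l]) h
    rw [LinearMap.baseChange_mul, LinearMap.baseChange_mul, ← hψ, ← hc', smul_mul_smul_comm, smul_mul_smul_comm,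
      mul_comm b a, ← algebraMap_smul ℚ_[l] (a * b) (φ * c), ← algebraMap_smul ℚ_[l] (a * b) (c * φ)] at h1
    exact smul_right_injective _
      (fun h0 => mul_ne_zero ha hb ((injective_iff_map_eq_zero _).1 (IsFractionRing.injective ℤ_[l] ℚ_[l]) _ h0)) h1
  obtain ⟨B, iB, hBc, hBp, hBg, pr, inc, hsum, hd, ho⟩ := AntiEquiv.exists_power X 2
  letI := iB
  haveI := hBc
  haveI := hBp
  haveI := hBg
  obtain ⟨g, hg⟩ := exists_dimNat B
  obtain ⟨eB⟩ := exists_linearEquiv_pt Ω B hg l hl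
  haveI : Module.Free ℤ_[l] (AbDual.TateMod B l (SGA7.pt Ω)) := Module.Free.of_equiv eB
  haveI : Module.Finite ℤ_[l] (AbDual.TateMod B l (SGA7.pt Ω)) := Module.Finite.equiv eB
  let tp := fun i => EndAV.Hom.tateMap (A := B) (B := X) l (SGA7.pt Ω) (pr i)
  let ti := fun i => EndAV.Hom.tateMap (A := X) (B := B) l (SGA7.pt Ω) (inc i)
  have hpi : ∀ i j z, tp j (ti i z) = if i = j then z else 0 := by
    intro i j z
    split_ifs with h
    · subst h
      refine AbDual.TateMod.ext fun m => congrArg Additive.ofMul ?_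
      show (_ ≫ (inc i).toHom) ≫ (pr i).toHom = _
      rw [Category.assoc, ← EndAV.Hom.toHom_comp, hd, EndAV.Hom.toHom_id, Category.comp_id]
      rfl
    · refine AbDual.TateMod.ext fun m => congrArg Additive.ofMul ?_
      show (_ ≫ (inc i).toHom) ≫ (pr j).toHom = _
      rw [Category.assoc, ← EndAV.Hom.toHom_comp, ho i j h, EndAV.Hom.toHom_zero, MonObj.comp_one]
  let W : Submodule ℤ_[l] (AbDual.TateMod B l (SGA7.pt Ω)) := LinearMap.ker (tp 1 - ψ ∘ₗ tp 0)
  have hWmem : ∀ z, z ∈ W ↔ tp 1 z = ψ (tp 0 z) := fun z => by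
    rw [LinearMap.mem_ker, LinearMap.sub_apply, sub_eq_zero]
    rfl
  have hWgal : ∀ (σ : Ω ≃ₐ[k] Ω), ∀ w ∈ W, ∀ n, ∃ w' ∈ W,
      SGA7.galAct σ (TateArg.cmp B n w) = TateArg.cmp B n w' := by
    intro σ w hw n
    let w' : AbDual.TateMod B l (SGA7.pt Ω) :=
      ⟨fun m => Additive.ofMul (SGA7.galAct σ (TateArg.cmp B m w)), fun m => congrArg Additive.ofMul (by
        show (SGA7.galAct σ (TateArg.cmp B m w)) ^ (l ^ m) = 1
        rw [SGA7.galAct, ← MonObj.comp_pow]
        exact (congrArg (SGA7.specAut σ ≫ ·) (AbDual.TateMod.component_mem w m)).trans (MonObj.comp_one _)),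
        fun m => congrArg Additive.ofMul (by
        show (SGA7.galAct σ (TateArg.cmp B (m + 1) w)) ^ l = SGA7.galAct σ (TateArg.cmp B m w)
        rw [SGA7.galAct, ← MonObj.comp_pow]
        exact congrArg (fun z => SGA7.specAut σ ≫ Additive.toMul z) (AbDual.TateMod.compat w m))⟩
    have htp : ∀ i, tp i w' = ρ σ (tp i w) := fun i => AbDual.TateMod.ext fun m => Additive.toMul.injective (by
      show SGA7.galAct σ (TateArg.cmp B m w) ≫ (pr i).toHom =
        (AbDual.TateMod.component X l (SGA7.pt Ω) m (ρ σ (tp i w))).toMul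
      rw [hρ]
      exact Category.assoc _ _ _)
    refine ⟨w', (hWmem _).2 ?_, rfl⟩
    rw [htp, htp, (hWmem _).1 hw]
    exact (LinearMap.congr_fun (hψρ σ) _).symm
  obtain ⟨f, hf, hfW, d, hd0, hge⟩ := TateArg.exists_span_range hl (hFin B) W hWgal
  let D : Module.End ℤ_[l] (AbDual.TateMod B l (SGA7.pt Ω)) := ∑ i, ti i ∘ₗ c' ∘ₗ tp i
  have hDp : ∀ i z, tp i (D z) = c' (tp i z) := by
    intro i z
    simp only [D, LinearMap.sum_apply, map_sum, LinearMap.comp_apply, hpi]
    simp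
  have hres : ∀ z, ∑ i, ti i (tp i z) = z := fun z => by
    have h := congrArg (fun F => EndAV.Hom.tateMap (A := B) (B := B) l (SGA7.pt Ω) F z) hsum
    simp only [map_sum, LinearMap.sum_apply] at h
    refine Eq.trans ?_ (h.trans (AbDual.TateMod.ext fun m => congrArg Additive.ofMul (Category.comp_id _)))
    exact Finset.sum_congr rfl fun i _ => AbDual.TateMod.ext fun m => congrArg Additive.ofMul (Category.assoc _ _ _)
  have hDf : ∀ z, D (f z) = f (D z) := by
    clear hfW hge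
    induction hf using Submodule.span_induction with
    | mem x hx =>
      obtain ⟨h, hhm, rfl⟩ := hx
      intro z
      let H : EndAV.Hom B B := EndAV.Hom.of h
      have key : ∀ i j (y : AbDual.TateMod X l (SGA7.pt Ω)),
          tp j (AbDual.tateMapₗ (l := l) (T := SGA7.pt Ω) h (ti i (c' y))) =
            c' (tp j (AbDual.tateMapₗ (l := l) (T := SGA7.pt Ω) h (ti i y))) := by
        intro i j y
        let e : EndAV.End X := inc i ≫ H ≫ pr j
        have he : ∀ y, tp j (AbDual.tateMapₗ (l := l) (T := SGA7.pt Ω) h (ti i y)) =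
            EndAV.End.tateRep l (SGA7.pt Ω) e y := fun y => AbDual.TateMod.ext fun m =>
          congrArg Additive.ofMul (by
            show ((_ ≫ (inc i).toHom) ≫ h) ≫ (pr j).toHom = _ ≫ (inc i).toHom ≫ h ≫ (pr j).toHom
            simp only [Category.assoc])
        rw [he, he]
        exact (LinearMap.congr_fun (hcf e) y).symm
      have hpr : ∀ j, tp j (D (AbDual.tateMapₗ (l := l) (T := SGA7.pt Ω) h z)) =
          tp j (AbDual.tateMapₗ (l := l) (T := SGA7.pt Ω) h (D z)) := by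
        intro j
        rw [hDp]
        conv_rhs => rw [show D z = ∑ i, ti i (c' (tp i z)) by simp [D]]
        conv_lhs => rw [← hres z]
        simp only [map_sum, key]
      rw [← hres (D (AbDual.tateMapₗ (l := l) (T := SGA7.pt Ω) h z))]
      simp only [hpr]
      exact hres _
    | zero => simp
    | add x y _ _ hx hy => intro z; simp [map_add, hx, hy]
    | smul r x _ hx => intro z; simp [map_smul, hx]
  refine LinearMap.ext fun v => ?_
  show ψ (c' v) = c' (ψ v)
  let z := ti 0 v + ti 1 (ψ v)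
  have hz0 : tp 0 z = v := by simp [z, map_add, hpi]
  have hz1 : tp 1 z = ψ v := by simp [z, map_add, hpi]
  obtain ⟨t, ht⟩ := hge z ((hWmem z).2 (by rw [hz1, hz0]))
  have hD : d • D z ∈ W := by
    rw [← map_smul, ← ht, hDf]
    exact hfW _
  rw [hWmem, map_smul, map_smul, map_smul, hDp, hDp, hz0, hz1] at hD
  exact (smul_right_injective _ hd0 hD).symm


/-- Let k be a field with algebraic closure Ω and ℓ a prime number invertible in k. Assume the
finiteness condition Fin(Z/k, ℓ) for every abelian variety Z over k: up to isomorphism of k-schemes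
there are only finitely many abelian varieties Y over k admitting an isogeny Z → Y of ℓ-power degree
(rendered: homomorphisms u : Z → Y, v : Y → Z with v ∘ u = [ℓ^m] and u ∘ v = [ℓ^m]). (The hypothesis
is used only for X and for X × X; it is assumed here for all abelian varieties over k.) Let X be an
abelian variety over k (a proper, geometrically integral commutative group scheme over k), T = T_ℓ X
its ℓ-adic Tate module of Ω-points, assumed (as is the case) free of finite rank over ℤ_ℓ, V = ℚ_ℓ ⊗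
T, and for τ ∈ Aut_k(Ω) let ρ(τ) be the ℤ_ℓ-linear endomorphism of T acting componentwise by the
Galois action of τ (this pins ρ). Then (1) the Galois representation on V is semisimple: every
ℚ_ℓ-subspace of V stable under all ρ(τ) has a complement stable under all ρ(τ); and (2) every
ℚ_ℓ-linear endomorphism of V commuting with all ρ(τ) lies in the ℚ_ℓ-span of the endomorphisms
V_ℓ(f) = ℚ_ℓ ⊗ T_ℓ(f) induced by endomorphisms f of X defined over k. -/
theorem result (k Ω : Type u) [Field k] [Field Ω] [Algebra k Ω] [IsAlgClosure k Ω]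
    (l : ℕ) [Fact l.Prime] (hl : (l : k) ≠ 0)
    (hFin : ∀ (Z : Over (Spec (CommRingCat.of k))) [GrpObj Z] [IsCommMonObj Z] [IsProper Z.hom] [GeometricallyIntegral Z.hom],
      ∃ (J : Type u) (_ : Finite J) (F : J → Over (Spec (CommRingCat.of k))),
        ∀ (Y : Over (Spec (CommRingCat.of k))) [GrpObj Y] [IsCommMonObj Y] [IsProper Y.hom] [GeometricallyIntegral Y.hom]
          (u : Z ⟶ Y) [IsMonHom u] (v : Y ⟶ Z) [IsMonHom v] (m : ℕ),
          u ≫ v = (𝟙 Z) ^ (l ^ m) → v ≫ u = (𝟙 Y) ^ (l ^ m) → ∃ i, Nonempty (Y ≅ F i))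
    (X : Over (Spec (CommRingCat.of k)))
    [GrpObj X] [IsCommMonObj X] [IsProper X.hom] [GeometricallyIntegral X.hom]
    (ρ : (Ω ≃ₐ[k] Ω) → Module.End ℤ_[l] (AbDual.TateMod X l (SGA7.pt Ω)))
    (hρ : ∀ (τ : Ω ≃ₐ[k] Ω) (z : AbDual.TateMod X l (SGA7.pt Ω)) (m : ℕ),
      (AbDual.TateMod.component X l (SGA7.pt Ω) m (ρ τ z)).toMul =
        SGA7.galAct τ (AbDual.TateMod.component X l (SGA7.pt Ω) m z).toMul)
    [Module.Free ℤ_[l] (AbDual.TateMod X l (SGA7.pt Ω))] [Module.Finite ℤ_[l] (AbDual.TateMod X l (SGA7.pt Ω))] :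
    (∀ W : Submodule ℚ_[l] (ℚ_[l] ⊗[ℤ_[l]] AbDual.TateMod X l (SGA7.pt Ω)),
        (∀ τ : Ω ≃ₐ[k] Ω, W.map ((ρ τ).baseChange ℚ_[l]) ≤ W) →
        ∃ W' : Submodule ℚ_[l] (ℚ_[l] ⊗[ℤ_[l]] AbDual.TateMod X l (SGA7.pt Ω)),
          IsCompl W W' ∧ ∀ τ : Ω ≃ₐ[k] Ω, W'.map ((ρ τ).baseChange ℚ_[l]) ≤ W') ∧
      ∀ φ : Module.End ℚ_[l] (ℚ_[l] ⊗[ℤ_[l]] AbDual.TateMod X l (SGA7.pt Ω)),
        (∀ τ : Ω ≃ₐ[k] Ω, φ ∘ₗ (ρ τ).baseChange ℚ_[l] = (ρ τ).baseChange ℚ_[l] ∘ₗ φ) →
        φ ∈ Submodule.span ℚ_[l] {ψ : Module.End ℚ_[l] (ℚ_[l] ⊗[ℤ_[l]] AbDual.TateMod X l (SGA7.pt Ω)) |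
          ∃ (f : X ⟶ X) (_ : IsMonHom f), ψ = (AbDual.tateMapₗ (l := l) (T := SGA7.pt Ω) f).baseChange ℚ_[l]} := by
  haveI : IsAlgClosed Ω := IsAlgClosure.isAlgClosed k
  let V := ℚ_[l] ⊗[ℤ_[l]] AbDual.TateMod X l (SGA7.pt Ω)
  let E := Groth.Agent.AVTors.TateSemi.alg l Ω X
  rw [Groth.Agent.AVTors.TateSemi.setOf_eq (X := X) (l := l) (Ω := Ω),
    ← Groth.Agent.AVTors.TateSemi.alg_eq_span]
  have hgal : ∀ (τ : Ω ≃ₐ[k] Ω) (f : EndAV.End X) (z : AbDual.TateMod X l (SGA7.pt Ω)),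
      ρ τ (EndAV.End.tateRep l (SGA7.pt Ω) f z) = EndAV.End.tateRep l (SGA7.pt Ω) f (ρ τ z) := fun τ f z =>
    AbDual.TateMod.ext fun m => Additive.toMul.injective (by
      show (AbDual.TateMod.component X l (SGA7.pt Ω) m (ρ τ _)).toMul =
        (AbDual.TateMod.component X l (SGA7.pt Ω) m (ρ τ z)).toMul ≫ f.toHom
      rw [hρ, hρ]
      exact (Category.assoc _ _ _).symm)
  have hcomm : ∀ u ∈ E, ∀ τ, u * (ρ τ).baseChange ℚ_[l] = (ρ τ).baseChange ℚ_[l] * u := by
    intro u hu τ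
    have hu' : u ∈ (Submodule.span ℚ_[l] (Set.range (Groth.Agent.AVTors.TateSemi.rep l Ω X))) :=
      Groth.Agent.AVTors.TateSemi.alg_eq_span (X := X) (l := l) (Ω := Ω) ▸ hu
    induction hu' using Submodule.span_induction with
    | mem x hx =>
      obtain ⟨f, rfl⟩ := hx
      rw [Groth.Agent.AVTors.TateSemi.rep_apply, ← LinearMap.baseChange_mul, ← LinearMap.baseChange_mul]
      exact congrArg _ (LinearMap.ext fun z => (hgal τ f z).symm)
    | zero => rw [zero_mul, mul_zero]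
    | add a b _ _ ha hb =>
      rw [add_mul, mul_add, ha (by rwa [← Groth.Agent.AVTors.TateSemi.alg_eq_span] at *), hb (by rwa [← Groth.Agent.AVTors.TateSemi.alg_eq_span] at *)]
    | smul c a _ ha =>
      rw [smul_mul_assoc, mul_smul_comm, ha (by rwa [← Groth.Agent.AVTors.TateSemi.alg_eq_span] at *)]
  refine ⟨fun W hW => ?_, fun φ hφ => ?_⟩
  · obtain ⟨u, hu, huW⟩ := Groth.Agent.S16851.result k Ω l hl X (hFin X) ρ hρ W hW
    rw [Groth.Agent.AVTors.TateSemi.setOf_eq (X := X) (l := l) (Ω := Ω),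
      ← Groth.Agent.AVTors.TateSemi.alg_eq_span] at hu
    obtain ⟨a, ha⟩ := Groth.Agent.AVTors.TateSemi.exists_mul_mul (X := X) (Ω := Ω) hl ⟨u, hu⟩
    let p : Module.End ℚ_[l] V := u * (a : Module.End ℚ_[l] V)
    have hau : u * (a : Module.End ℚ_[l] V) * u = u := congrArg Subtype.val ha
    have hp : IsIdempotentElem p := by
      show u * (a : Module.End ℚ_[l] V) * (u * (a : Module.End ℚ_[l] V)) = u * (a : Module.End ℚ_[l] V)
      rw [← _root_.mul_assoc, hau]
    have hrange : LinearMap.range p = W := by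
      rw [← huW]
      refine le_antisymm ?_ ?_
      · rintro _ ⟨x, rfl⟩
        exact ⟨(a : Module.End ℚ_[l] V) x, rfl⟩
      · rintro _ ⟨x, rfl⟩
        exact ⟨u x, LinearMap.congr_fun hau x⟩
    refine ⟨LinearMap.ker p, hrange ▸ LinearMap.IsIdempotentElem.isCompl hp, fun τ => ?_⟩
    rintro _ ⟨x, hx, rfl⟩
    rw [LinearMap.mem_ker]
    have hpx : p x = 0 := hx
    have h1 : p ((ρ τ).baseChange ℚ_[l] x) = (ρ τ).baseChange ℚ_[l] (p x) :=
      LinearMap.congr_fun (hcomm p (E.mul_mem hu a.2) τ) x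
    rw [h1, hpx, map_zero]
  · haveI := Groth.Agent.AVTors.TateSemi.isSemisimpleRing (X := X) (Ω := Ω) hl
    haveI : Module.Finite ℚ_[l] V := inferInstance
    let F : Module.End (Module.End E V) V :=
      { toFun := φ
        map_add' := map_add φ
        map_smul' := fun c v => by
          show φ (c v) = c (φ v)
          exact LinearMap.congr_fun (commute_commutant (k := k) (Ω := Ω) hl hFin X ρ hρ φ hφ
            (c.restrictScalars ℚ_[l]) fun f => LinearMap.ext fun x =>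
              c.map_smul (⟨_, Groth.Agent.AVTors.TateSemi.rep_mem f⟩ : E) x) v }
    obtain ⟨s, hs⟩ := Module.Finite.fg_top (R := ℚ_[l]) (M := V)
    obtain ⟨r, hr⟩ := jacobson_density (R := E) F s
    have : φ = (r : Module.End ℚ_[l] V) := by
      refine LinearMap.ext_on hs fun x hx => ?_
      exact hr x hx
    rw [this]
    exact r.2

end Groth.Agent.S16848
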