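import Groth.Statements.S16849
import Groth.Agent.Lib.AVWeilProps
import Groth.Agent.ZetaLib.ZetaProduct
import Groth.Agent.ZetaLib.PointsOfExt
import Groth.Agent.WeilLib.ZetaIdentity
import Mathlib.FieldTheory.Finite.Extension

set_option autoImplicit false
set_option backward.isDefEq.respectTransparency false
set_option backward.isDefEq.respectTransparency.types false
set_option linter.style.haveILetI false
set_option linter.unusedSectionVars false
set_option maxHeartbeats 400000
universe u
open CategoryTheory MonoidalCategory CartesianMonoidalCategory MonObj GrpObj AlgebraicGeometry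
open AbVar

namespace Groth.Agent.S16849


open Groth.Agent.WeilLib Groth.Agent.ZetaLib in
theorem hlin (c : ℂ) : HasLogDeriv (((1 : Polynomial ℂ) - Polynomial.C c * Polynomial.X : Polynomial ℂ) : PowerSeries ℂ)
    (PowerSeries.mk fun m => -c ^ (m + 1)) := by
  rw [Polynomial.coe_sub, Polynomial.coe_one, Polynomial.coe_mul, Polynomial.coe_C, Polynomial.coe_X,
    HasLogDeriv, map_sub, Derivation.map_one_eq_zero, zero_sub, Derivation.leibniz,
    PowerSeries.derivative_X, PowerSeries.derivative_C, smul_zero, add_zero, smul_eq_mul, _root_.mul_one]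
  ext m
  rw [sub_mul, _root_.one_mul, map_sub, map_neg, PowerSeries.coeff_C, _root_.mul_assoc, PowerSeries.coeff_C_mul]
  rcases m with - | m
  · rw [PowerSeries.coeff_zero_X_mul, PowerSeries.coeff_mk]
    simp
  · rw [PowerSeries.coeff_succ_X_mul, PowerSeries.coeff_mk, PowerSeries.coeff_mk, if_neg (Nat.succ_ne_zero m)]
    ring

open Groth.Agent.WeilLib in
theorem hmprod (S : Multiset ℂ) :
    HasLogDeriv (((S.map fun c => (1 : Polynomial ℂ) - Polynomial.C c * Polynomial.X).prod : Polynomial ℂ) : PowerSeries ℂ)
      (PowerSeries.mk fun m => -(S.map fun c => c ^ (m + 1)).sum) := by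
  induction S using Multiset.induction_on with
  | empty =>
    have h : (PowerSeries.mk fun m => -((0 : Multiset ℂ).map fun c => c ^ (m + 1)).sum) = 0 := by ext m; simp
    rw [h, Multiset.map_zero, Multiset.prod_zero, Polynomial.coe_one]
    exact HasLogDeriv.one
  | cons a S ih =>
    rw [Multiset.map_cons, Multiset.prod_cons, Polynomial.coe_mul]
    convert HasLogDeriv.mul (hlin a) ih using 1
    ext m
    simp only [map_add, PowerSeries.coeff_mk, Multiset.map_cons, Multiset.sum_cons]
    ring

/-- Let k be a finite field with q elements and algebraic closure Ω, ℓ a prime invertible in k, and X an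
abelian variety over k (a proper, geometrically integral commutative group scheme over k) of
dimension g, with geometric Frobenius π_X (the endomorphism that is the identity on points and the
q-th power map on sections); assume, as is the case, that the ℓ-adic Tate module of Ω-points T_ℓ X
is free of finite rank over ℤ_ℓ, and let f_X ∈ ℤ[t] be the polynomial mapping to the characteristic
polynomial of T_ℓ(π_X) (the characteristic polynomial of Frobenius). Let α_1, …, α_{2g} be the
complex roots of f_X with multiplicity and, for 0 ≤ j ≤ 2g, P_j(t) = ∏_I (1 − α_I t), the product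
over the j-element sub-multisets I of the roots, α_I = ∏_{i ∈ I} α_i (so P_j is the reciprocal
characteristic polynomial of the j-th exterior power of V_ℓ(π_X)). Then every P_j has integer
coefficients, and the zeta function Z(X; t) = exp(Σ_{m ≥ 1} N_m t^m / m) (N_m the number of points
of X in a degree-m extension of k, counted through closed points) satisfies Z(X; t) · ∏_{j even}
P_j(t) = ∏_{j odd} P_j(t) in ℂ⟦t⟧, i.e. Z(X; t) = P_1 P_3 ⋯ P_{2g−1} / (P_0 P_2 ⋯ P_{2g}). -/
theorem result (k Ω : Type u) [Field k] [Finite k] [Field Ω] [Algebra k Ω] [IsAlgClosure k Ω]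
    (l : ℕ) [Fact l.Prime] (hl : (l : k) ≠ 0) (X : Over (Spec (CommRingCat.of k)))
    [GrpObj X] [IsCommMonObj X] [IsProper X.hom] [GeometricallyIntegral X.hom]
    (πX : X ⟶ X) [IsMonHom πX] (hπb : πX.left.base = 𝟙 _)
    (hπle : ∀ U : X.left.Opens, U ≤ πX.left ⁻¹ᵁ U)
    (hπapp : ∀ (U : X.left.Opens) (s : Γ(X.left, U)), (πX.left.appLE U U (hπle U)).hom s = s ^ Nat.card k)
    [Module.Free ℤ_[l] (AbDual.TateMod X l (SGA7.pt Ω))] [Module.Finite ℤ_[l] (AbDual.TateMod X l (SGA7.pt Ω))]
    (P : Polynomial ℤ) (hP : (AbDual.tateMapₗ (l := l) (T := SGA7.pt Ω) πX).charpoly = P.map (Int.castRingHom ℤ_[l])) :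
    (∀ j : ℕ, ∃ Q : Polynomial ℤ, Q.map (Int.castRingHom ℂ) = (((P.map (Int.castRingHom ℂ)).roots.powersetCard j).map
          (fun I => (1 : Polynomial ℂ) - Polynomial.C I.prod * Polynomial.X)).prod) ∧
      (Zeta.zetaFun X.hom).map (algebraMap ℚ ℂ) *
          ∏ j ∈ (Finset.range (P.natDegree + 1)).filter (fun j => Even j),
            (((((P.map (Int.castRingHom ℂ)).roots.powersetCard j).map
          (fun I => (1 : Polynomial ℂ) - Polynomial.C I.prod * Polynomial.X)).prod : Polynomial ℂ) : PowerSeries ℂ) =
        ∏ j ∈ (Finset.range (P.natDegree + 1)).filter (fun j => Odd j),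
          (((((P.map (Int.castRingHom ℂ)).roots.powersetCard j).map
          (fun I => (1 : Polynomial ℂ) - Polynomial.C I.prod * Polynomial.X)).prod : Polynomial ℂ) : PowerSeries ℂ) := by
  haveI : IsAlgClosed Ω := IsAlgClosure.isAlgClosed k
  classical
  obtain ⟨g, hg⟩ := AVTors.exists_dimNat X
  obtain ⟨hm, hd, hq, h0, hn⟩ := AVWeilProps.weil Ω hl hg πX hπb hπle hπapp hP
  obtain ⟨-, -, hv⟩ := AVWeil.charpoly_props Ω X hg πX l hl hP
  refine ⟨fun j => AVWeilRoots.exists_int_poly hm j, ?_⟩
  set R := AVWeilRoots.rootsC P with hRdef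
  have hcard : R.card = P.natDegree := AVWeilRoots.card_rootsC
  haveI := Fintype.ofFinite k
  obtain ⟨p, hp⟩ := CharP.exists k
  haveI := hp
  obtain ⟨r, hpp, hr⟩ := FiniteField.card k p
  haveI : Fact p.Prime := ⟨hpp⟩
  let S : ℕ → ℕ → ℂ := fun j n => ((R.powersetCard j).map fun I => I.prod ^ n).sum
  have hN : ∀ n : ℕ, 0 < n →
      (Zeta.nPts X.hom n : ℂ) = ∑ j ∈ Finset.range (P.natDegree + 1), (-1 : ℂ) ^ j * S j n := by
    intro n hn0
    haveI : NeZero n := ⟨hn0.ne'⟩
    let K' := ULift.{u} (FiniteField.Extension k p n)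
    have hfr : Module.finrank k K' = n := ULift.moduleEquiv.finrank_eq.trans (FiniteField.finrank_extension k p n)
    have h1 := ZetaLib.pointCount_eq_nPts X.hom K'
    rw [hfr] at h1
    have h2 := AVWeilCount.card_eq_prod πX (Nat.card k) hπle hπapp hπb rfl hg hm hd hv K'
    rw [hfr] at h2
    have h3 : SgaExt.pointCount X.hom K' = Nat.card (Over.mk (Spec.map (CommRingCat.ofHom (algebraMap k K'))) ⟶ X) :=
      Nat.card_congr
        { toFun := fun g => Over.homMk g.1 g.2
          invFun := fun x => ⟨x.left, Over.w x⟩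
          left_inv := fun _ => rfl
          right_inv := fun _ => rfl }
    rw [← h1, h3, h2]
    have h4 : ∀ α : ℂ, α ^ n - 1 = (-1) * (1 - α ^ n) := fun α => by ring
    simp only [h4, Multiset.prod_map_mul, Multiset.map_const', Multiset.prod_replicate]
    rw [show (P.map (Int.castRingHom ℂ)).roots = R from rfl, hcard, hd, pow_mul, neg_one_sq, one_pow, _root_.one_mul,
      AVWeilRoots.prod_one_sub, AVWeilRoots.map_powerset_eq_bind, Multiset.sum_bind, hcard, hd, Finset.sum_eq_multiset_sum,
      Finset.range_val]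
    refine congrArg _ (Multiset.map_congr rfl fun j _ => ?_)
    simp only [S, ← Multiset.sum_map_mul_left]
    refine congrArg _ (Multiset.map_congr rfl fun I hI => ?_)
    rw [(Multiset.mem_powersetCard.1 hI).2]
  let φ : ℕ → PowerSeries ℂ := fun j => PowerSeries.mk fun m => -S j (m + 1)
  have hF : ∀ (s : Finset ℕ), WeilLib.HasLogDeriv (∏ j ∈ s, (((((P.map (Int.castRingHom ℂ)).roots.powersetCard j).map
      (fun I => (1 : Polynomial ℂ) - Polynomial.C I.prod * Polynomial.X)).prod : Polynomial ℂ) : PowerSeries ℂ))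
      (∑ j ∈ s, φ j) := fun s => WeilLib.HasLogDeriv.prod s fun j _ => by
    have h := hmprod ((R.powersetCard j).map fun I => I.prod)
    simp only [Multiset.map_map, Function.comp_def] at h
    exact h
  have hZ := WeilLib.HasLogDeriv.mul (WeilLib.HasLogDeriv.map (algebraMap ℚ ℂ) (ZetaLib.hasLogDeriv_zetaFun X.hom))
    (hF ((Finset.range (P.natDegree + 1)).filter fun j => Even j))
  refine WeilLib.HasLogDeriv.unique hZ ?_ ?_
  · convert hF ((Finset.range (P.natDegree + 1)).filter fun j => Odd j) using 1
    ext m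
    rw [map_add, PowerSeries.coeff_map, PowerSeries.coeff_mk, map_natCast, hN (m + 1) m.succ_pos]
    simp only [map_sum, φ, PowerSeries.coeff_mk, Finset.sum_neg_distrib]
    rw [← Finset.sum_filter_add_sum_filter_not (Finset.range (P.natDegree + 1)) (fun j => Even j)]
    have e1 : ∀ j ∈ (Finset.range (P.natDegree + 1)).filter (fun j => Even j), (-1 : ℂ) ^ j * S j (m + 1) = S j (m + 1) :=
      fun j hj => by rw [(Finset.mem_filter.1 hj).2.neg_one_pow, _root_.one_mul]
    have e2 : ∀ j ∈ (Finset.range (P.natDegree + 1)).filter (fun j => ¬ Even j), (-1 : ℂ) ^ j * S j (m + 1) = -S j (m + 1) :=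
      fun j hj => by rw [(Nat.not_even_iff_odd.1 (Finset.mem_filter.1 hj).2).neg_one_pow, neg_one_mul]
    rw [Finset.sum_congr rfl e1, Finset.sum_congr rfl e2, Finset.sum_neg_distrib,
      Finset.filter_congr (q := fun j => Odd j) fun j _ => Nat.not_even_iff_odd]
    ring
  · have hc : ∀ j, PowerSeries.constantCoeff (((((P.map (Int.castRingHom ℂ)).roots.powersetCard j).map
      (fun I => (1 : Polynomial ℂ) - Polynomial.C I.prod * Polynomial.X)).prod : Polynomial ℂ) : PowerSeries ℂ) = 1 := fun j => by
      rw [Polynomial.constantCoeff_coe, Polynomial.coeff_zero_multiset_prod, Multiset.map_map,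
        Multiset.map_congr rfl (g := fun _ => (1 : ℂ)) fun I _ => by simp, Multiset.map_const', Multiset.prod_replicate, one_pow]
    rw [map_mul, map_prod, map_prod, Finset.prod_eq_one fun j _ => hc j, Finset.prod_eq_one fun j _ => hc j,
      ← PowerSeries.coeff_zero_eq_constantCoeff_apply, PowerSeries.coeff_map, PowerSeries.coeff_zero_eq_constantCoeff_apply,
      ZetaLib.constantCoeff_zetaFun, map_one, _root_.mul_one]

end Groth.Agent.S16849
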