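import Groth.Statements.S1685
import Groth.Agent.AlgSpLib.CartierDepth

set_option backward.isDefEq.respectTransparency false
set_option backward.isDefEq.respectTransparency.types false
-- import your own Groth.Agent.* helpers here

set_option autoImplicit false
universe u
open CategoryTheory CategoryTheory.Limits AlgebraicGeometry TopologicalSpace
open SDiv

namespace Groth.Agent.S1685

/-- Let X be a locally Noetherian scheme all of whose local rings satisfy Serre's condition (S_k), and
let D be the closed subscheme of an effective Cartier divisor. Then all local rings of D satisfy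
(S_{k-1}). -/
theorem result (X : Scheme.{u}) [IsLocallyNoetherian X] (k : ℕ)
    (hX : ∀ x : ↥X, min (k : WithBot ℕ∞) (ringKrullDim (X.presheaf.stalk x)) ≤
      ((LocCoh.depth (X.presheaf.stalk x) (X.presheaf.stalk x) : ℕ∞) : WithBot ℕ∞))
    (𝓘 : X.IdealSheafData) (h𝓘 : BlowUp.IsEffCartierIdeal 𝓘) (d : ↥𝓘.subscheme) :
    min ((k - 1 : ℕ) : WithBot ℕ∞) (ringKrullDim (𝓘.subscheme.presheaf.stalk d)) ≤
      ((LocCoh.depth (𝓘.subscheme.presheaf.stalk d) (𝓘.subscheme.presheaf.stalk d) : ℕ∞) : WithBot ℕ∞) := 
  Groth.Agent.AlgSpLib.CartierDepth.Sk_subscheme h𝓘 k hX d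
end Groth.Agent.S1685
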