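import Groth.Statements.S16850
import Groth.Agent.Lib.AVWeilProps

set_option autoImplicit false
set_option backward.isDefEq.respectTransparency false
set_option backward.isDefEq.respectTransparency.types false
set_option linter.style.haveILetI false
set_option linter.unusedSectionVars false
set_option maxHeartbeats 400000
universe u
open CategoryTheory MonoidalCategory CartesianMonoidalCategory MonObj GrpObj AlgebraicGeometry
open AbVar

namespace Groth.Agent.S16850

/-- Let k be a finite field with q elements and algebraic closure Ω, ℓ a prime invertible in k, and X an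
abelian variety over k (a proper, geometrically integral commutative group scheme over k) of
dimension g, with geometric Frobenius π_X (the endomorphism that is the identity on points and the
q-th power map on sections); assume, as is the case, that the ℓ-adic Tate module of Ω-points T_ℓ X
is free of finite rank over ℤ_ℓ, and let f_X ∈ ℤ[t] be the polynomial mapping to the characteristic
polynomial of T_ℓ(π_X) (the characteristic polynomial of Frobenius). With P_j(t) = ∏_I (1 − α_I t)
over the j-element sub-multisets I of the complex roots of f_X (α_I their product), the zeta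
function of X is the rational function Z(X; t) = ∏_{j=0}^{2g} P_j(t)^{(−1)^{j+1}}, and for g ≥ 1 it
satisfies the functional equation Z(X; 1/(q^g t)) = Z(X; t). (The dimension-zero case must be
excluded: for X a point, Z(X; t) = 1/(1 − t) and Z(X; 1/t) = t/(t − 1) differ; the published
statement has no such restriction, and its proof uses Σ_j (−1)^{j+1} C(2g, j) = 0, valid only for g
≥ 1.) Stated pointwise: for every non-zero complex number t such that no P_j vanishes at t or at
1/(q^g t), ∏_j P_j(1/(q^g t))^{(−1)^{j+1}} = ∏_j P_j(t)^{(−1)^{j+1}}. -/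
theorem result (k Ω : Type u) [Field k] [Finite k] [Field Ω] [Algebra k Ω] [IsAlgClosure k Ω]
    (l : ℕ) [Fact l.Prime] (hl : (l : k) ≠ 0) (X : Over (Spec (CommRingCat.of k)))
    [GrpObj X] [IsCommMonObj X] [IsProper X.hom] [GeometricallyIntegral X.hom]
    (g : ℕ) (hg : topologicalKrullDim X.left = g) (hg1 : 1 ≤ g)
    (πX : X ⟶ X) [IsMonHom πX] (hπb : πX.left.base = 𝟙 _)
    (hπle : ∀ U : X.left.Opens, U ≤ πX.left ⁻¹ᵁ U)
    (hπapp : ∀ (U : X.left.Opens) (s : Γ(X.left, U)), (πX.left.appLE U U (hπle U)).hom s = s ^ Nat.card k)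
    [Module.Free ℤ_[l] (AbDual.TateMod X l (SGA7.pt Ω))] [Module.Finite ℤ_[l] (AbDual.TateMod X l (SGA7.pt Ω))]
    (P : Polynomial ℤ) (hP : (AbDual.tateMapₗ (l := l) (T := SGA7.pt Ω) πX).charpoly = P.map (Int.castRingHom ℤ_[l]))
    (t : ℂ) (ht : t ≠ 0)
    (hPt : ∀ j ∈ Finset.range (2 * g + 1), Polynomial.eval t ((((P.map (Int.castRingHom ℂ)).roots.powersetCard j).map
          (fun I => (1 : Polynomial ℂ) - Polynomial.C I.prod * Polynomial.X)).prod : Polynomial ℂ) ≠ 0)
    (hPs : ∀ j ∈ Finset.range (2 * g + 1), Polynomial.eval (((Nat.card k : ℂ) ^ g * t)⁻¹) ((((P.map (Int.castRingHom ℂ)).roots.powersetCard j).map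
          (fun I => (1 : Polynomial ℂ) - Polynomial.C I.prod * Polynomial.X)).prod : Polynomial ℂ) ≠ 0) :
    ∏ j ∈ Finset.range (2 * g + 1), (Polynomial.eval (((Nat.card k : ℂ) ^ g * t)⁻¹) ((((P.map (Int.castRingHom ℂ)).roots.powersetCard j).map
          (fun I => (1 : Polynomial ℂ) - Polynomial.C I.prod * Polynomial.X)).prod : Polynomial ℂ)) ^ ((-1 : ℤ) ^ (j + 1)) =
      ∏ j ∈ Finset.range (2 * g + 1), (Polynomial.eval t ((((P.map (Int.castRingHom ℂ)).roots.powersetCard j).map
          (fun I => (1 : Polynomial ℂ) - Polynomial.C I.prod * Polynomial.X)).prod : Polynomial ℂ)) ^ ((-1 : ℤ) ^ (j + 1)) := by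
  haveI : IsAlgClosed Ω := IsAlgClosure.isAlgClosed k
  classical
  obtain ⟨hm, hd, hq, h0, hn⟩ := AVWeilProps.weil Ω hl hg πX hπb hπle hπapp hP
  obtain ⟨H, hH, hR, hHn⟩ := AVWeilRoots.exists_half hm hd hq h0 hn
  have hprod := AVWeilRoots.prod_eq_pow hH hR hHn
  set R := AVWeilRoots.rootsC P with hRdef
  have hcard : R.card = 2 * g := by rw [hRdef, AVWeilRoots.card_rootsC, hd]
  have hq0 : (Nat.card k : ℂ) ^ g ≠ 0 := pow_ne_zero _ (Nat.cast_ne_zero.2 hq.ne')
  have hRne : ∀ a ∈ R, a ≠ 0 := fun a ha h => hq0 (by rw [← hprod]; exact Multiset.prod_eq_zero (h ▸ ha))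
  let s : ℂ := ((Nat.card k : ℂ) ^ g * t)⁻¹
  let e : Multiset ℂ → ℤ := fun I => (-1 : ℤ) ^ (I.card + 1)
  have key : ∀ x : ℂ, (∏ j ∈ Finset.range (2 * g + 1), (Polynomial.eval x ((((P.map (Int.castRingHom ℂ)).roots.powersetCard j).map
          (fun I => (1 : Polynomial ℂ) - Polynomial.C I.prod * Polynomial.X)).prod : Polynomial ℂ)) ^ ((-1 : ℤ) ^ (j + 1))) =
      (R.powerset.map fun I => (1 - I.prod * x) ^ e I).prod := by
    intro x
    rw [AVWeilRoots.map_powerset_eq_bind, Multiset.prod_bind, hcard, Finset.prod_eq_multiset_prod, Finset.range_val]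
    refine congrArg _ (Multiset.map_congr rfl fun j _ => ?_)
    rw [Polynomial.eval_multiset_prod, Multiset.map_map,
      Multiset.map_congr rfl (f := fun I => (1 - I.prod * x) ^ e I)
        (g := fun I => (1 - I.prod * x) ^ ((-1 : ℤ) ^ (j + 1))) fun I hI => by
          simp only [e]; rw [(Multiset.mem_powersetCard.1 hI).2],
      Multiset.prod_map_zpow]
    simp [hRdef]
  rw [key, key]
  have h1 := AVWeilRoots.alt_prod_eq_one t ht R hRne (fun h => by rw [h, Multiset.card_zero] at hcard; omega)
    (by rw [hcard]; exact even_two_mul g)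
  refine Eq.trans ?_ ((congrArg (· * (R.powerset.map fun I => (1 - I.prod * t) ^ e I).prod) h1).trans (_root_.one_mul _))
  rw [← Multiset.prod_map_mul]
  conv_lhs => rw [← AVWeilRoots.map_sub_powerset R, Multiset.map_map]
  refine congrArg _ (Multiset.map_congr rfl fun I hI => ?_)
  have hle := Multiset.mem_powerset.1 hI
  have hc : (R - I).card + I.card = 2 * g := by
    rw [← hcard, Multiset.card_sub hle]; have := Multiset.card_le_card hle; omega
  have hp : (R - I).prod * I.prod = (Nat.card k : ℂ) ^ g := by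
    rw [← hprod, ← Multiset.prod_add, Multiset.sub_add_cancel hle]
  have hI0 : I.prod ≠ 0 := fun h => hq0 (by rw [← hp, h, mul_zero])
  have hs : (-1 : ℤ) ^ ((R - I).card + 1) = (-1 : ℤ) ^ (I.card + 1) := by
    refine mul_right_cancel₀ (b := (-1 : ℤ) ^ (I.card + 1)) (pow_ne_zero _ (by norm_num)) ?_
    rw [← pow_add, ← pow_add, show (R - I).card + 1 + (I.card + 1) = 2 * (g + 1) by omega,
      show I.card + 1 + (I.card + 1) = 2 * (I.card + 1) by omega, pow_mul, pow_mul]
    norm_num
  simp only [Function.comp_apply, e, hs]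
  rw [← mul_zpow]
  congr 1
  rw [← hp]
  have hJ : (R - I).prod ≠ 0 := fun h => hq0 (by rw [← hp, h, zero_mul])
  field_simp
  ring

end Groth.Agent.S16850
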