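import Groth.Statements.S16852
import Groth.Agent.AVTate.Isogeny
import Groth.Agent.AVTate.Cube
-- import your own Groth.Agent.* helpers here

set_option linter.style.haveILetI false
set_option backward.isDefEq.respectTransparency false
set_option backward.isDefEq.respectTransparency.types false
set_option maxHeartbeats 2000000
set_option synthInstance.maxHeartbeats 400000
set_option autoImplicit false
universe u
open CategoryTheory MonoidalCategory CartesianMonoidalCategory MonObj GrpObj AlgebraicGeometry
open AbVar

namespace Groth.Agent.S16852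

/-- (a) ⇔ (e1): fix a finite field k and abelian varieties X and Y over it (proper, geometrically
integral commutative group schemes over k). Then X and Y are isogenous over k — there exist
homomorphisms u : X → Y and v : Y → X and an integer n > 0 with v ∘ u = [n]_X and u ∘ v = [n]_Y — if
and only if their zeta functions coincide: Z(X; t) = Z(Y; t) in ℚ⟦t⟧, where Z(X; t) = exp(Σ_{m ≥ 1}
N_m t^m / m) with N_m = Σ_{e ∣ m} e · #(closed points of X of residue degree e). -/
theorem result (k : Type u) [Field k] [Finite k]
    (X : Over (Spec (CommRingCat.of k)))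
    [GrpObj X] [IsCommMonObj X] [IsProper X.hom] [GeometricallyIntegral X.hom]
    (Y : Over (Spec (CommRingCat.of k)))
    [GrpObj Y] [IsCommMonObj Y] [IsProper Y.hom] [GeometricallyIntegral Y.hom] :
    (∃ (u : X ⟶ Y) (_ : IsMonHom u) (v : Y ⟶ X) (_ : IsMonHom v) (n : ℕ), 0 < n ∧
        u ≫ v = (𝟙 X) ^ n ∧ v ≫ u = (𝟙 Y) ^ n) ↔
      Zeta.zetaFun X.hom = Zeta.zetaFun Y.hom := by
  rw [Groth.Agent.AVTate.zetaFun_eq_iff]
  exact Groth.Agent.AVTate.isog_iff_nPts (Groth.Agent.AVTate.cubeEmbeds k)

end Groth.Agent.S16852
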