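import Groth.Statements.S16853
import Groth.Agent.SigmaLinLib.AlgPow
import Groth.Agent.SigmaLinLib.Basic

set_option autoImplicit false
universe u v
open CAlg

namespace Groth.Agent.S16853
open Groth.Agent.SigmaLinLib

/-- Let k be an algebraically closed field of characteristic p > 0 and ν ≥ 1; let V be a
finite-dimensional k-vector space and φ : V → V a bijective additive map that is Frob^ν-semilinear,
φ(a·v) = a^(p^ν)·φ(v). Then V admits a k-basis consisting of φ-fixed vectors; in particular V is
spanned by V₀ = {v | φ(v) = v}, an F_{p^ν}-subspace, and k ⊗ V₀ → V is surjective. (The copy allows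
ν < 0 as well, reducing to φ⁻¹; stated here for ν ≥ 1. The injectivity of k ⊗_{F_{p^ν}} V₀ → V,
asserted in the copy, is not restated.) -/
theorem result (k : Type u) [Field k] [IsAlgClosed k]
    (p : ℕ) [Fact p.Prime] [CharP k p] (ν : ℕ) (hν : 1 ≤ ν)
    (V : Type v) [AddCommGroup V] [Module k V] [FiniteDimensional k V]
    (φ : V →+ V) (hφ : ∀ (a : k) (v : V), φ (a • v) = a ^ (p ^ ν) • φ v) (hbij : Function.Bijective φ) :
    ∃ (ι : Type v) (b : Module.Basis ι k V), ∀ i, φ (b i) = b i := by
  haveI : ExpChar k p := ExpChar.prime (Fact.out : p.Prime)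
  let σ : k →+* k := iterateFrobenius k p ν
  have hσ : ∀ x, σ x = x ^ p ^ ν := fun x => iterateFrobenius_def p ν x
  let T : V →ₛₗ[σ] V := { φ with map_smul' := fun a v => by rw [hσ]; exact hφ a v }
  have hq : 1 < p ^ ν := Nat.one_lt_pow (by omega) (Fact.out : p.Prime).one_lt
  have h1 : Submodule.span k (Set.range ⇑T) = ⊤ := by
    rw [show Set.range ⇑T = Set.univ from Set.range_eq_univ.2 hbij.2, Submodule.span_univ]
  have h3 : ∀ c : k, ∃ y : k, σ y - y + c = 0 := fun c => by
    obtain ⟨y, hy⟩ := exists_pow_sub_eq hq c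
    exact ⟨y, by rw [hσ]; exact hy⟩
  obtain ⟨b, hb⟩ := exists_basis_fixed T (span_fixed_eq_top T h1 (pow_fixed_eq hq σ hσ) h3)
  exact ⟨ULift.{v} (Fin (Module.finrank k V)), b.reindex Equiv.ulift.symm, fun i => by
    rw [Module.Basis.reindex_apply]
    exact hb _⟩

end Groth.Agent.S16853
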