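import Groth.Statements.S16854
import Groth.Agent.SigmaLinLib.Basic
import Groth.Agent.SigmaLinLib.AlgPow
import Mathlib

set_option autoImplicit false
universe u v
open CAlg

namespace Groth.Agent.S16854

/-- Let k be an algebraically closed field of characteristic p > 0, ν ≥ 1, W = W(k) the ring of
p-typical Witt vectors with its Frobenius endomorphism σ, M a finitely generated free W-module and F
: M → M a bijective additive map that is σ^ν-semilinear, F(a·m) = σ^ν(a)·F(m). Then M admits a
W-basis consisting of F-fixed elements; in particular M is spanned over W by M₀ = {m | F(m) = m}, a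
module over the Witt vectors of F_{p^ν}. (The copy allows ν < 0 as well, reducing to F⁻¹; stated
here for ν ≥ 1.) -/
theorem result (k : Type u) [Field k] [IsAlgClosed k]
    (p : ℕ) [Fact p.Prime] [CharP k p] (ν : ℕ) (hν : 1 ≤ ν)
    (M : Type v) [AddCommGroup M] [Module (WittVector p k) M]
    [Module.Finite (WittVector p k) M] [Module.Free (WittVector p k) M]
    (F : M →+ M)
    (hF : ∀ (a : WittVector p k) (m : M), F (a • m) = ((⇑(WittVector.frobenius : WittVector p k →+* WittVector p k))^[ν] a) • F m)
    (hbij : Function.Bijective F) :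
    ∃ (ι : Type v) (b : Module.Basis ι (WittVector p k) M), ∀ i, F (b i) = b i := by
  classical
  let b0 := Module.Free.chooseBasis (WittVector p k) M
  set ι := Module.Free.ChooseBasisIndex (WittVector p k) M
  let σ : k →+* k := iterateFrobenius k p ν
  have hσ : ∀ x, σ x = x ^ p ^ ν := fun x => iterateFrobenius_def p ν x
  have hq : 1 < p ^ ν := Nat.one_lt_pow (by omega) (Fact.out : p.Prime).one_lt
  have hfrob : ∀ (j : ℕ) (a : (WittVector p k)), WittVector.constantCoeff ((⇑(WittVector.frobenius : (WittVector p k) →+* (WittVector p k)))^[j] a) = WittVector.constantCoeff a ^ p ^ j := by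
    intro j a
    induction j with
    | zero => simp
    | succ j ih =>
      rw [Function.iterate_succ_apply', pow_succ, pow_mul, ← ih]
      exact WittVector.coeff_frobenius_charP p _ 0
  let red : M →+ (ι → k) :=
    { toFun := fun m i => WittVector.constantCoeff (b0.repr m i)
      map_zero' := by funext i; simp
      map_add' := fun m m' => by funext i; simp only [map_add, Finsupp.add_apply, Pi.add_apply] }
  have hred_smul : ∀ (a : (WittVector p k)) m, red (a • m) = WittVector.constantCoeff a • red m := fun a m => by
    funext i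
    show WittVector.constantCoeff (b0.repr (a • m) i) = WittVector.constantCoeff a * WittVector.constantCoeff (b0.repr m i)
    rw [map_smul, Finsupp.smul_apply, smul_eq_mul, map_mul]
  let lift : (ι → k) → M := fun v => b0.equivFun.symm fun i => WittVector.teichmuller p (v i)
  have hlift : ∀ v, red (lift v) = v := fun v => funext fun i => by
    show WittVector.constantCoeff (b0.equivFun (b0.equivFun.symm fun i => WittVector.teichmuller p (v i)) i) = v i
    rw [LinearEquiv.apply_symm_apply]
    exact WittVector.teichmuller_coeff_zero p (v i)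
  have hred0 : ∀ m, red m = 0 → ∃ m', (p : (WittVector p k)) • m' = m := fun m hm => by
    have : ∀ i, ∃ c, (p : (WittVector p k)) * c = b0.repr m i := fun i => by
      have h : b0.repr m i ∈ RingHom.ker (WittVector.constantCoeff : (WittVector p k) →+* k) := congrFun hm i
      rw [WittVector.ker_constantCoeff, Ideal.mem_span_singleton'] at h
      obtain ⟨c, hc⟩ := h
      exact ⟨c, by rw [mul_comm, hc]⟩
    choose c hc using this
    refine ⟨b0.equivFun.symm c, b0.equivFun.injective ?_⟩
    rw [map_smul, LinearEquiv.apply_symm_apply]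
    exact funext hc
  have hFp : ∀ (j : ℕ) m, F ((p : (WittVector p k)) ^ j • m) = (p : (WittVector p k)) ^ j • F m := fun j m => by
    rw [hF, Function.iterate_fixed]
    rw [map_pow, map_natCast]
  have hwd : ∀ m, red (F (lift (red m))) = red (F m) := fun m => by
    obtain ⟨m', hm'⟩ := hred0 (m - lift (red m)) (by rw [map_sub, hlift, sub_self])
    rw [show m = lift (red m) + (p : (WittVector p k)) ^ 1 • m' by rw [pow_one, hm', add_sub_cancel], map_add F, hFp, map_add red, map_add red,
      hred_smul, hred_smul, hlift]
    simp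
  let T : (ι → k) →ₛₗ[σ] (ι → k) :=
    { toFun := fun v => red (F (lift v))
      map_add' := fun v w => by
        have h := hwd (lift v + lift w)
        rw [map_add red, hlift, hlift] at h
        rw [h, map_add F, map_add red]
      map_smul' := fun c v => by
        have h := hwd (WittVector.teichmuller p c • lift v)
        rw [hred_smul, hlift, show WittVector.constantCoeff (WittVector.teichmuller p c) = c from WittVector.teichmuller_coeff_zero p c] at h
        rw [h, hF, hred_smul, hfrob, hσ, show WittVector.constantCoeff (WittVector.teichmuller p c) = c from WittVector.teichmuller_coeff_zero p c] }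
  have hT : ∀ m, T (red m) = red (F m) := hwd
  have hTs : Submodule.span k (Set.range ⇑T) = ⊤ := by
    refine top_le_iff.1 fun v _ => Submodule.subset_span ?_
    obtain ⟨m, hm⟩ := hbij.2 (lift v)
    exact ⟨red m, by rw [hT, hm, hlift]⟩
  have h2 := Groth.Agent.SigmaLinLib.pow_fixed_eq hq σ hσ
  have h3 : ∀ c : k, ∃ y : k, σ y - y + c = 0 := fun c => by
    obtain ⟨y, hy⟩ := Groth.Agent.SigmaLinLib.exists_pow_sub_eq hq c
    exact ⟨y, by rw [hσ]; exact hy⟩
  obtain ⟨eb, heb⟩ := Groth.Agent.SigmaLinLib.exists_basis_fixed T (Groth.Agent.SigmaLinLib.span_fixed_eq_top T hTs h2 h3)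
  let eι : ι ≃ Fin (Module.finrank k (ι → k)) := Fintype.equivFinOfCardEq (Module.finrank_fintype_fun_eq_card (R := k)).symm
  have hsurj := Groth.Agent.SigmaLinLib.sub_surjective_of_span_range T hTs h2 h3
  have hfix : ∀ e : ι → k, T e = e → ∃ m, red m = e ∧ F m = m := by
    intro e he
    have step : ∀ (n : ℕ) (m : M), (∃ d, F m - m = (p : (WittVector p k)) ^ (n + 1) • d) →
        ∃ m', (∃ d, F m' - m' = (p : (WittVector p k)) ^ (n + 2) • d) ∧ ∃ y, m' = m + (p : (WittVector p k)) ^ (n + 1) • y := by
      rintro n m ⟨d, hd⟩
      obtain ⟨u, hu⟩ := hsurj (red d)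
      obtain ⟨d', hd'⟩ := hred0 (d + (F (lift u) - lift u)) (by
        rw [map_add, map_sub, ← hT, hlift, ← hu]; simp)
      refine ⟨m + (p : (WittVector p k)) ^ (n + 1) • lift u, ⟨d', ?_⟩, lift u, rfl⟩
      rw [pow_succ _ (n + 1), mul_smul, hd', map_add, hFp, smul_add, ← hd, smul_sub]
      abel
    choose! next hnext hy using step
    have h0 : ∃ d, F (lift e) - lift e = (p : (WittVector p k)) ^ (0 + 1) • d := by
      obtain ⟨d, hd⟩ := hred0 (F (lift e) - lift e) (by rw [map_sub, ← hT, hlift, he, sub_self])
      exact ⟨d, by rw [zero_add, pow_one, hd]⟩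
    let s : ℕ → M := fun n => Nat.rec (lift e) (fun j m => next j m) n
    have hs : ∀ n, ∃ d, F (s n) - s n = (p : (WittVector p k)) ^ (n + 1) • d := fun n => by
      induction n with
      | zero => exact h0
      | succ n ih => exact hnext n (s n) ih
    have hcau : ∀ i {a b : ℕ}, a ≤ b → b0.repr (s a) i ≡ b0.repr (s b) i [SMOD (Ideal.span {(p : (WittVector p k))} ^ a • ⊤ : Submodule (WittVector p k) (WittVector p k))] := by
      intro i a b hab
      rw [SModEq.sub_mem, smul_eq_mul, Ideal.mul_top, Ideal.span_singleton_pow, Ideal.mem_span_singleton, ← dvd_neg, neg_sub]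
      induction hab with
      | refl => rw [sub_self]; exact dvd_zero _
      | @step n hn ih =>
        obtain ⟨y, hy'⟩ := hy n (s n) (hs n)
        have : s (n + 1) = s n + (p : (WittVector p k)) ^ (n + 1) • y := hy'
        rw [show b0.repr (s (n + 1)) i - b0.repr (s a) i = (b0.repr (s n) i - b0.repr (s a) i) + (p : (WittVector p k)) ^ (n + 1) * b0.repr y i by
          rw [this]; simp; ring]
        exact dvd_add ih (dvd_mul_of_dvd_left (pow_dvd_pow _ (Nat.le_succ_of_le hn)) _)
    choose L hL using fun i => IsPrecomplete.prec (inferInstance : IsPrecomplete (Ideal.span {(p : (WittVector p k))}) (WittVector p k)) (hcau i)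
    let m := b0.equivFun.symm L
    have hm : ∀ n, ∃ z, m - s n = (p : (WittVector p k)) ^ n • z := fun n => by
      have : ∀ i, ∃ z, (p : (WittVector p k)) ^ n * z = L i - b0.repr (s n) i := fun i => by
        have h := SModEq.sub_mem.1 (hL i n)
        rw [smul_eq_mul, Ideal.mul_top, Ideal.span_singleton_pow, Ideal.mem_span_singleton, ← dvd_neg, neg_sub] at h
        obtain ⟨z, hz⟩ := h
        exact ⟨z, hz.symm⟩
      choose z hz using this
      refine ⟨b0.equivFun.symm z, b0.equivFun.injective ?_⟩
      rw [map_sub, map_smul, LinearEquiv.apply_symm_apply, LinearEquiv.apply_symm_apply]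
      funext i
      exact (hz i).symm
    refine ⟨m, ?_, sub_eq_zero.1 (b0.equivFun.injective ((funext fun i => ?_).trans (map_zero b0.equivFun).symm))⟩
    · obtain ⟨z, hz⟩ := hm 1
      obtain ⟨y, hy'⟩ := hy 0 (s 0) (hs 0)
      have h1 : s 1 = s 0 + (p : (WittVector p k)) ^ (0 + 1) • y := hy'
      rw [sub_eq_iff_eq_add] at hz
      rw [hz, h1, map_add, map_add, hred_smul, hred_smul, show s 0 = lift e from rfl, hlift]
      simp
    · refine IsHausdorff.haus (inferInstance : IsHausdorff (Ideal.span {(p : (WittVector p k))}) (WittVector p k)) _ fun n => SModEq.zero.2 ?_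
      rw [smul_eq_mul, Ideal.mul_top, Ideal.span_singleton_pow, Ideal.mem_span_singleton]
      obtain ⟨z, hz⟩ := hm n
      obtain ⟨d, hd⟩ := hs n
      rw [sub_eq_iff_eq_add] at hz
      have : F m - m = (p : (WittVector p k)) ^ n • (F z - z + (p : (WittVector p k)) • d) := by
        rw [smul_add, smul_smul, ← pow_succ, ← hd, hz, map_add, hFp, smul_sub]
        abel
      rw [this, map_smul]
      exact ⟨_, rfl⟩
  choose f hf hfF using fun i : ι => hfix (eb (eι i)) (heb _)
  let Φ : (ι → (WittVector p k)) →ₗ[(WittVector p k)] M := Fintype.linearCombination (WittVector p k) f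
  have hΦ : Function.Surjective Φ := by
    rw [← LinearMap.range_eq_top, Fintype.range_linearCombination]
    refine top_le_iff.1 (Submodule.le_of_le_smul_of_le_jacobson_bot (I := Ideal.span {(p : (WittVector p k))}) Module.Finite.fg_top
      (IsAdicComplete.le_jacobson_bot _) fun m _ => ?_)
    obtain ⟨c, hc⟩ : ∃ c : ι → k, ∑ i, c i • eb (eι i) = red m :=
      ⟨fun i => eb.repr (red m) (eι i), by rw [eι.sum_comp (fun j => eb.repr (red m) j • eb j), eb.sum_repr]⟩
    obtain ⟨m', hm'⟩ := hred0 (m - ∑ i, WittVector.teichmuller p (c i) • f i) (by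
      rw [map_sub, map_sum, ← hc, sub_eq_zero]
      exact Finset.sum_congr rfl fun i _ => by
        rw [hred_smul, hf, show WittVector.constantCoeff (WittVector.teichmuller p (c i)) = c i from WittVector.teichmuller_coeff_zero p (c i)])
    rw [← sub_add_cancel m (∑ i, WittVector.teichmuller p (c i) • f i), add_comm]
    exact Submodule.add_mem_sup (Submodule.sum_mem _ fun i _ => Submodule.smul_mem _ _ (Submodule.subset_span ⟨i, rfl⟩))
      (hm' ▸ Submodule.smul_mem_smul (Ideal.mem_span_singleton_self _) Submodule.mem_top)
  have hΦi : Function.Injective Φ := by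
    have := OrzechProperty.injective_of_surjective_endomorphism (b0.equivFun.toLinearMap ∘ₗ Φ) (b0.equivFun.surjective.comp hΦ)
    exact Function.Injective.of_comp (f := ⇑b0.equivFun) (g := ⇑Φ) this
  let e := LinearEquiv.ofBijective Φ ⟨hΦi, hΦ⟩
  refine ⟨ι, (Pi.basisFun (WittVector p k) ι).map e, fun i => ?_⟩
  have : ((Pi.basisFun (WittVector p k) ι).map e) i = f i := by
    show Φ (Pi.basisFun (WittVector p k) ι i) = f i
    simp [Φ]
  rw [this, hfF]

end Groth.Agent.S16854
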