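import Groth.Statements.S16855
import Groth.Agent.AVTate.Basis
import Groth.Agent.AVTate.CenterEq
import Groth.Agent.AVTate.Cube
-- import your own Groth.Agent.* helpers here

set_option linter.style.haveILetI false
set_option backward.isDefEq.respectTransparency false
set_option backward.isDefEq.respectTransparency.types false
set_option maxHeartbeats 2000000
set_option synthInstance.maxHeartbeats 400000

set_option autoImplicit false
universe u
open CategoryTheory MonoidalCategory CartesianMonoidalCategory MonObj GrpObj AlgebraicGeometry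
open AbVar

namespace Groth.Agent.S16855

/-- Let k be a finite field with q elements and algebraic closure Ω, ℓ a prime invertible in k, and X an
abelian variety over k (a proper, geometrically integral commutative group scheme over k) of
dimension g, with geometric Frobenius π_X (the endomorphism that is the identity on points and the
q-th power map on sections); assume, as is the case, that the ℓ-adic Tate module of Ω-points T_ℓ X
is free of finite rank over ℤ_ℓ, and let f_X ∈ ℤ[t] be the polynomial mapping to the characteristic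
polynomial of T_ℓ(π_X) (the characteristic polynomial of Frobenius). Assume X is elementary in the
sense that ℚ[π_X] ⊆ End⁰(X) = ℚ ⊗ End_k(X) is a field, of degree e over ℚ, and let h ∈ ℚ[t] be the
minimal polynomial of π_X. Then [End⁰(X) : ℚ[π_X]] is a square d², and d·e = 2g and f_X = h^d: there
is a natural number d with dim_ℚ End⁰(X) = e·d², d·e = 2g and f_X = h^d in ℚ[t]. -/
theorem result (k Ω : Type u) [Field k] [Finite k] [Field Ω] [Algebra k Ω] [IsAlgClosure k Ω]
    (l : ℕ) [Fact l.Prime] (hl : (l : k) ≠ 0) (X : Over (Spec (CommRingCat.of k)))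
    [GrpObj X] [IsCommMonObj X] [IsProper X.hom] [GeometricallyIntegral X.hom]
    (g : ℕ) (hg : topologicalKrullDim X.left = g)
    (πX : X ⟶ X) [IsMonHom πX] (hπb : πX.left.base = 𝟙 _)
    (hπle : ∀ U : X.left.Opens, U ≤ πX.left ⁻¹ᵁ U)
    (hπapp : ∀ (U : X.left.Opens) (s : Γ(X.left, U)), (πX.left.appLE U U (hπle U)).hom s = s ^ Nat.card k)
    [Module.Free ℤ_[l] (AbDual.TateMod X l (SGA7.pt Ω))] [Module.Finite ℤ_[l] (AbDual.TateMod X l (SGA7.pt Ω))]
    (P : Polynomial ℤ) (hP : (AbDual.tateMapₗ (l := l) (T := SGA7.pt Ω) πX).charpoly = P.map (Int.castRingHom ℤ_[l]))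
    (hK : IsField (EndAV.QAdj (EndAV.End.of πX))) :
    ∃ d : ℕ, Module.finrank ℚ (EndAV.End0 X) = Module.finrank ℚ (EndAV.QAdj (EndAV.End.of πX)) * d ^ 2 ∧
      d * Module.finrank ℚ (EndAV.QAdj (EndAV.End.of πX)) = 2 * g ∧
      P.map (Int.castRingHom ℚ) = (minpoly ℚ (EndAV.toEnd0 (EndAV.End.of πX))) ^ d := by
  exact Groth.Agent.AVTate.exists_sq_of_isField hl hP (Groth.Agent.AVTate.cubeEmbeds k) ⟨hπb, hπle, hπapp⟩ hg hK

end Groth.Agent.S16855
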