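import Groth.Statements.S16856
import Groth.Agent.Lib.AVWeilProps

set_option autoImplicit false
set_option backward.isDefEq.respectTransparency false
set_option backward.isDefEq.respectTransparency.types false
set_option linter.style.haveILetI false
set_option linter.unusedSectionVars false
set_option maxHeartbeats 400000
universe u
open CategoryTheory MonoidalCategory CartesianMonoidalCategory MonObj GrpObj AlgebraicGeometry
open AbVar

namespace Groth.Agent.S16856

/-- Equality case of the Hasse–Weil–Serre bound: let k be a finite field with q elements and algebraic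
closure Ω, ℓ a prime invertible in k, and X an abelian variety over k (a proper, geometrically
integral commutative group scheme over k) of dimension g, with geometric Frobenius π_X (the
endomorphism that is the identity on points and the q-th power map on sections); assume, as is the
case, that the ℓ-adic Tate module of Ω-points T_ℓ X is free of finite rank over ℤ_ℓ, and let f_X ∈
ℤ[t] be the polynomial mapping to the characteristic polynomial of T_ℓ(π_X) (the characteristic
polynomial of Frobenius). Put m = ⌊2√q⌋. Then |trace(π_X)| = g·m (equality in the bound |trace(π_X)|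
≤ g·m; the trace is minus the second-highest coefficient of f_X) if and only if either α + q/α = m
for every root α of f_X or α + q/α = −m for every root, i.e. if and only if f_X = (t² − m t + q)^g
or f_X = (t² + m t + q)^g. -/
theorem result (k Ω : Type u) [Field k] [Finite k] [Field Ω] [Algebra k Ω] [IsAlgClosure k Ω]
    (l : ℕ) [Fact l.Prime] (hl : (l : k) ≠ 0) (X : Over (Spec (CommRingCat.of k)))
    [GrpObj X] [IsCommMonObj X] [IsProper X.hom] [GeometricallyIntegral X.hom]
    (g : ℕ) (hg : topologicalKrullDim X.left = g)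
    (πX : X ⟶ X) [IsMonHom πX] (hπb : πX.left.base = 𝟙 _)
    (hπle : ∀ U : X.left.Opens, U ≤ πX.left ⁻¹ᵁ U)
    (hπapp : ∀ (U : X.left.Opens) (s : Γ(X.left, U)), (πX.left.appLE U U (hπle U)).hom s = s ^ Nat.card k)
    [Module.Free ℤ_[l] (AbDual.TateMod X l (SGA7.pt Ω))] [Module.Finite ℤ_[l] (AbDual.TateMod X l (SGA7.pt Ω))]
    (P : Polynomial ℤ) (hP : (AbDual.tateMapₗ (l := l) (T := SGA7.pt Ω) πX).charpoly = P.map (Int.castRingHom ℤ_[l])) :
    |(P.nextCoeff : ℝ)| = (g : ℝ) * (⌊2 * Real.sqrt (Nat.card k)⌋ : ℝ) ↔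
      (P = (Polynomial.X ^ 2 - Polynomial.C ⌊2 * Real.sqrt (Nat.card k)⌋ * Polynomial.X + Polynomial.C (Nat.card k : ℤ)) ^ g ∨
        P = (Polynomial.X ^ 2 + Polynomial.C ⌊2 * Real.sqrt (Nat.card k)⌋ * Polynomial.X + Polynomial.C (Nat.card k : ℤ)) ^ g) := by
  haveI : IsAlgClosed Ω := IsAlgClosure.isAlgClosed k
  obtain ⟨hm, hd, hq, h0, hn⟩ := AVWeilProps.weil Ω hl hg πX hπb hπle hπapp hP
  set m := ⌊2 * Real.sqrt (Nat.card k)⌋
  have hm0 : 0 ≤ m := Int.floor_nonneg.2 (by positivity)
  have hcast : |(P.nextCoeff : ℝ)| = (g : ℝ) * (m : ℝ) ↔ |P.nextCoeff| = (g : ℤ) * m := by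
    constructor <;> intro h <;> exact_mod_cast h
  rw [hcast]
  have hquad : ∀ c : ℤ, ((Polynomial.X ^ 2 + Polynomial.C c * Polynomial.X + Polynomial.C (Nat.card k : ℤ)) ^ g).nextCoeff =
      (g : ℤ) * c := by
    intro c
    have hdeg : (Polynomial.X ^ 2 + Polynomial.C c * Polynomial.X + Polynomial.C (Nat.card k : ℤ)).natDegree = 2 := by
      compute_degree!
    have hmon : (Polynomial.X ^ 2 + Polynomial.C c * Polynomial.X + Polynomial.C (Nat.card k : ℤ)).Monic := by
      monicity!
    rw [hmon.nextCoeff_pow, Polynomial.nextCoeff_of_natDegree_pos (by omega), hdeg, nsmul_eq_mul]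
    simp
  constructor
  · intro h
    rcases le_total 0 P.nextCoeff with hs | hs
    · rw [abs_of_nonneg hs] at h
      refine Or.inr ?_
      have e := (AVWeilRoots.trace_bound hm hd hq h0 hn 1 (Or.inl rfl)).2 (by rw [_root_.one_mul]; exact h)
      rwa [_root_.one_mul] at e
    · rw [abs_of_nonpos hs] at h
      refine Or.inl ?_
      have e := (AVWeilRoots.trace_bound hm hd hq h0 hn (-1) (Or.inr rfl)).2 (by rw [neg_one_mul]; exact h)
      rwa [neg_one_mul, map_neg, neg_mul, ← sub_eq_add_neg] at e
  · rintro (h | h)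
    · rw [h, sub_eq_add_neg, ← neg_mul, ← map_neg, hquad, mul_neg, abs_neg, abs_of_nonneg (mul_nonneg (Int.natCast_nonneg g) hm0)]
    · rw [h, hquad, abs_of_nonneg (mul_nonneg (Int.natCast_nonneg g) hm0)]

end Groth.Agent.S16856
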