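import Groth.Statements.S1686
import Groth.Agent.AlgSpLib.CartierDim

set_option backward.isDefEq.respectTransparency false
set_option backward.isDefEq.respectTransparency.types false
-- import your own Groth.Agent.* helpers here

set_option autoImplicit false
universe u
open CategoryTheory CategoryTheory.Limits AlgebraicGeometry TopologicalSpace
open SDiv

namespace Groth.Agent.S1686

/-- Let D be the closed subscheme of an effective Cartier divisor on a scheme S and d a point of D with
image s in S. If the local dimension of S at s is finite, then the local dimension of D at d is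
strictly smaller. -/
theorem result (S : Scheme.{u}) (𝓘 : S.IdealSheafData) (h𝓘 : BlowUp.IsEffCartierIdeal 𝓘) (d : ↥𝓘.subscheme)
    (hfin : FlatMor.localDim ↥S (𝓘.subschemeι d) ≠ ⊤) :
    FlatMor.localDim ↥𝓘.subscheme d < FlatMor.localDim ↥S (𝓘.subschemeι d) := 
  Groth.Agent.AlgSpLib.CartierDim.localDim_lt h𝓘 d hfin
end Groth.Agent.S1686
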