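import Groth.Statements.S16860
import Groth.Agent.GerbFlat.Main

set_option backward.isDefEq.respectTransparency false
set_option backward.isDefEq.respectTransparency.types false
-- import your own Groth.Agent.* helpers here

set_option autoImplicit false
universe u
open CategoryTheory AlgebraicGeometry
open Gerb

namespace Groth.Agent.S16860

/-- For a morphism f of algebraic stacks, the source is a gerbe over the target along f if and only if f
and its diagonal are both surjective, flat and locally of finite presentation. -/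
theorem result
    (S : Scheme.{u}) (𝒳 𝒴 : AlgSt.Cat S)
    (h𝒳 : AlgSt.IsAlgStack Scheme.fppfPrecoverage 𝒳) (h𝒴 : AlgSt.IsAlgStack Scheme.fppfPrecoverage 𝒴)
    (f : 𝒳 ⥤ᵇ 𝒴) :
    Gerb.IsGerbeOver (QuotSh.J Scheme.fppfPrecoverage S) f ↔
      (AlgSt.IsSurjective f ∧ AlgSt.LocQ (AlgSp.LocP @Flat) f ∧
        AlgSt.LocQ (AlgSp.LocP @LocallyOfFinitePresentation) f) ∧
      (AlgSt.IsSurjective (FibCat.diag f) ∧ AlgSt.LocQ (AlgSp.LocP @Flat) (FibCat.diag f) ∧
        AlgSt.LocQ (AlgSp.LocP @LocallyOfFinitePresentation) (FibCat.diag f)) := 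
  ⟨fun h => Groth.Agent.GerbFlat.fppf_and_diag_of_isGerbeOver h𝒳 h𝒴 h,
    fun ⟨⟨a, b, c⟩, a', b', c'⟩ => Groth.Agent.GerbFlat.isGerbeOver_of_fppf h𝒳 h𝒴 a b c a' b' c'⟩
end Groth.Agent.S16860
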