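import Groth.Statements.S16867
import Groth.Agent.GerbFlat.Main

set_option backward.isDefEq.respectTransparency false
set_option backward.isDefEq.respectTransparency.types false
-- import your own Groth.Agent.* helpers here

set_option autoImplicit false
universe u
open CategoryTheory AlgebraicGeometry
open CategoryTheory.Functor CategoryTheory.Limits Opposite AlgSp
open Groth.Agent.FibBase Groth.Agent.AlgSpLib Groth.Agent.AlgStLib Groth.Agent.GerbFlat
open Gerb

namespace Groth.Agent.S16867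

/-- Let π : 𝒳 → U make the algebraic stack 𝒳 a gerbe over the scheme U, let x be a section of π, and let
G be a group scheme over U representing the automorphism functor of x. Then G is flat and locally of
finite presentation over U. (Stated for U a scheme and the automorphism group a scheme; in general
both are algebraic spaces.) -/
theorem result
    (S : Scheme.{u}) (U : Over S) (𝒳 : AlgSt.Cat S) (h𝒳 : AlgSt.IsAlgStack Scheme.fppfPrecoverage 𝒳)
    (π : 𝒳 ⥤ᵇ FibCat.overCat U) (hπ : Gerb.IsGerbeOver (QuotSh.J Scheme.fppfPrecoverage S) π)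
    (x : FibCat.overCat U ⥤ᵇ 𝒳) (e : BasedFunctor.comp x π ≅ BasedFunctor.id (FibCat.overCat U))
    (G : Over U.left) [GrpObj G] (r : Gerb.AutRep x (Gerb.ptsGrp U G)) :
    Flat G.hom ∧ LocallyOfFinitePresentation G.hom :=  by
  obtain ⟨W, w, hw, hw'⟩ := h𝒳.atlas
  have hx := (section_fppf h𝒳 hπ.2 e w hw hw').1
  have hg := h𝒳.isStack.1
  have hfp : FibCat.IsFibGrpd (FibCat.fp x x).p := fp_isFibGrpd (isFibGrpd_overCat U) (isFibGrpd_overCat U) hg
  have hfaith : (FibCat.fp x x).p.Faithful :=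
    (isFibSetoid_iff.1 (isFibSetoid_of_repByAlgSp (repByAlgSp1_of_repByAlgSpWith hx U x))).2
  let Gs : Over S := Over.mk (G.hom ≫ U.hom)
  let g0 : Gs ⟶ U := Over.homMk G.hom rfl
  let T0 : Over U := Over.mk g0
  let a0 : (Gerb.ptsGrp U G).obj (op T0) :=
    (Over.homMk (𝟙 G.left) (Category.id_comp _) : (Over.iteratedSliceForward U).obj T0 ⟶ G)
  let η0 : (FibCat.fp x x).obj := ⟨⟨T0, T0, ofFiberIso (r.iso T0 a0)⟩,
    isHomLift_id_congr (x.w_obj T0) (r.iso T0 a0).hom.2⟩
  obtain ⟨Φ, ε, hε⟩ := exists_overCat_obj hfp η0 (rfl : (FibCat.fp x x).p.obj η0 = Gs)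
  have hε₀ : (FibCat.fp x x).p.IsHomLift (𝟙 Gs) ε.hom := hε
  -- the vertical map between the two components of an object
  have hj : ∀ η : (FibCat.fp x x).obj, ∃ (j : η.obj.fst ≅ η.obj.snd)
      (α : Gerb.AutO (x.obj η.obj.fst)), (FibCat.overCat U).p.IsHomLift (𝟙 η.obj.fst.left) j.hom ∧
        α.hom.1 ≫ x.map j.hom = η.obj.iso.hom := fun η => by
    have hi : 𝒳.p.IsHomLift (𝟙 η.obj.fst.left) η.obj.iso.hom := η.property
    have : (FibCat.overCat U).p.IsHomLift (𝟙 η.obj.fst.left) (π.map η.obj.iso.hom) :=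
      π.preserves_isHomLift (𝟙 η.obj.fst.left) η.obj.iso.hom
    have hs : η.obj.snd.left = η.obj.fst.left := snd_proj η
    have h1 : (FibCat.overCat U).p.IsHomLift (𝟙 η.obj.fst.left) (isoApp e η.obj.fst).inv :=
      isoApp_inv_lift e rfl
    have h2 : (FibCat.overCat U).p.IsHomLift (𝟙 η.obj.fst.left) (isoApp e η.obj.snd).hom :=
      isoApp_lift e hs
    let j : η.obj.fst ≅ η.obj.snd :=
      (isoApp e η.obj.fst).symm ≪≫ π.toFunctor.mapIso η.obj.iso ≪≫ isoApp e η.obj.snd
    have hjl : (FibCat.overCat U).p.IsHomLift (𝟙 η.obj.fst.left) j.hom :=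
      inferInstanceAs ((FibCat.overCat U).p.IsHomLift (𝟙 η.obj.fst.left)
        ((isoApp e η.obj.fst).inv ≫ π.map η.obj.iso.hom ≫ (isoApp e η.obj.snd).hom))
    have hjl' : (FibCat.overCat U).p.IsHomLift (𝟙 η.obj.fst.left) j.inv := IsHomLift.lift_id_inv _ _ j
    have hx' : 𝒳.p.IsHomLift (𝟙 η.obj.fst.left) (x.map j.inv) := x.preserves_isHomLift _ j.inv
    have hfix : 𝒳.p.IsHomLift (𝟙 (𝒳.p.obj (x.obj η.obj.fst))) (η.obj.iso.hom ≫ x.map j.inv) :=
      isHomLift_id_congr (x.w_obj η.obj.fst).symm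
        (inferInstanceAs (𝒳.p.IsHomLift (𝟙 η.obj.fst.left) (η.obj.iso.hom ≫ x.map j.inv)))
    have := fiber_isGroupoid hg (𝒳.p.obj (x.obj η.obj.fst))
    refine ⟨j, asIso (⟨η.obj.iso.hom ≫ x.map j.inv, hfix⟩ : Gerb.fib (x.obj η.obj.fst) ⟶ Gerb.fib _), hjl, ?_⟩
    show (η.obj.iso.hom ≫ x.map j.inv) ≫ x.map j.hom = _
    rw [Category.assoc, ← x.toFunctor.map_comp, Iso.inv_hom_id, x.toFunctor.map_id, Category.comp_id]
  -- morphisms to the universal object are determined by their base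
  have key : ∀ {η : (FibCat.fp x x).obj} (n₁ n₂ : η ⟶ η0),
      n₁.hom.fst.left = n₂.hom.fst.left := fun {η} n₁ n₂ => by
    obtain ⟨j, α, hjl, hα⟩ := hj η
    have hsn : ∀ n : η ⟶ η0, j.hom ≫ n.hom.snd = n.hom.fst := fun n => by
      have hn : (FibCat.fp x x).p.IsHomLift n.hom.fst.left n := IsHomLift.map _ n
      have hn2 : (FibCat.overCat U).p.IsHomLift n.hom.fst.left n.hom.snd :=
        fp_isHomLift_snd' (F := x) (G := x) n.hom.fst.left n (h := hn)
      refine Over.OverMorphism.ext ?_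
      show (FibCat.overCat U).p.map j.hom ≫ (FibCat.overCat U).p.map n.hom.snd = n.hom.fst.left
      rw [IsHomLift.fac' (FibCat.overCat U).p (𝟙 η.obj.fst.left) j.hom,
        IsHomLift.fac' (FibCat.overCat U).p n.hom.fst.left n.hom.snd]
      simp
    have hr : ∀ n : η ⟶ η0, r.iso η.obj.fst ((Gerb.ptsGrp U G).map n.hom.fst.op a0) = α := fun n => by
      have := hg.isStronglyCartesian (x.map n.hom.fst)
      have hl := (r.iso η.obj.fst ((Gerb.ptsGrp U G).map n.hom.fst.op a0)).hom.2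
      have hl' := α.hom.2
      refine Aut.ext (Functor.Fiber.hom_ext (IsStronglyCartesian.ext 𝒳.p (𝒳.p.map (x.map n.hom.fst))
        (x.map n.hom.fst) (𝟙 (𝒳.p.obj (x.obj η.obj.fst))) ?_))
      refine (r.natural n.hom.fst a0).trans ?_
      have w : x.map n.hom.fst ≫ (ofFiberIso (r.iso T0 a0)).hom = η.obj.iso.hom ≫ x.map n.hom.snd := n.hom.w
      refine w.trans ?_
      rw [← hα, Category.assoc, ← x.toFunctor.map_comp, hsn]
      rfl
    have := congrArg (fun t : (Over.iteratedSliceForward U).obj η.obj.fst ⟶ G => t.left)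
      ((r.iso η.obj.fst).injective ((hr n₁).trans (hr n₂).symm))
    have h1 : n₁.hom.fst.left.left ≫ 𝟙 G.left = n₂.hom.fst.left.left ≫ 𝟙 G.left := this
    exact Over.OverMorphism.ext (((Category.comp_id _).symm.trans h1).trans (Category.comp_id _))
  have hΦa : ∀ a : Over Gs, ∃ n : Φ.obj a ⟶ η0, (FibCat.fp x x).p.IsHomLift a.hom n := fun a => by
    have : (FibCat.fp x x).p.IsHomLift a.hom (Φ.map (toId a)) := overMap_isHomLift Φ (toId a)
    exact ⟨Φ.map (toId a) ≫ ε.hom,
      IsHomLift.comp_lift_id_right' (FibCat.fp x x).p a.hom (Φ.map (toId a)) Gs ε.hom⟩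
  have heq : FibCat.IsEquivOver Φ := by
    refine isEquivOver_of_exists_iso _ ⟨fun {a b} m => ?_⟩
      ⟨fun {a b} φ ψ h => Over.OverMorphism.ext ?_⟩ fun η => ?_
    · obtain ⟨n, hn⟩ := hΦa a
      obtain ⟨n', hn'⟩ := hΦa b
      let g : a.left ⟶ b.left := eqToHom (Φ.w_obj a).symm ≫ (FibCat.fp x x).p.map m ≫ eqToHom (Φ.w_obj b)
      have hm : (FibCat.fp x x).p.IsHomLift g m :=
        IsHomLift.of_fac' _ g m (Φ.w_obj a) (Φ.w_obj b) (by simp [g])
      have h1 := IsHomLift.fac (FibCat.fp x x).p a.hom n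
      have h2 := IsHomLift.fac (FibCat.fp x x).p (g ≫ b.hom) (m ≫ n')
      have h3 : (FibCat.fp x x).p.map (m ≫ n') = (FibCat.fp x x).p.map n := (key n (m ≫ n')).symm
      have hgb : g ≫ b.hom = a.hom := by rw [h2, h3, ← h1]
      let φ : a ⟶ b := Over.homMk g hgb
      refine ⟨φ, hfaith.map_injective ?_⟩
      have hΦφ : (FibCat.fp x x).p.IsHomLift g (Φ.map φ) := overMap_isHomLift Φ φ
      rw [IsHomLift.fac' (FibCat.fp x x).p g (Φ.map φ), IsHomLift.fac' (FibCat.fp x x).p g m]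
    · have e₁ := overMap_isHomLift Φ φ
      have e₂ := overMap_isHomLift Φ ψ
      have h' : (FibCat.fp x x).p.map (Φ.map φ) = (FibCat.fp x x).p.map (Φ.map ψ) := congrArg _ h
      rw [IsHomLift.fac (FibCat.fp x x).p φ.left (Φ.map φ), IsHomLift.fac (FibCat.fp x x).p ψ.left (Φ.map ψ), h']
    · obtain ⟨j, α, hjl, hα⟩ := hj η
      let p : Over U := η.obj.fst
      let a : (Over.iteratedSliceForward U).obj p ⟶ G := (r.iso p).symm α
      let t : p.left ⟶ Gs := Over.homMk a.left (by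
        show a.left ≫ G.hom ≫ U.hom = p.left.hom
        rw [← Category.assoc, Over.w a]
        exact Over.w p.hom)
      let h : p ⟶ T0 := Over.homMk t (Over.OverMorphism.ext (Over.w a))
      have hp : (Gerb.ptsGrp U G).map h.op a0 = a := Over.OverMorphism.ext (Category.comp_id _)
      let η' : (FibCat.fp x x).obj := ⟨⟨p, p, ofFiberIso α⟩, isHomLift_id_congr (x.w_obj p) α.hom.2⟩
      have wh : x.map h ≫ (ofFiberIso (r.iso T0 a0)).hom = (ofFiberIso α).hom ≫ x.map h := by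
        have := r.natural h a0
        rw [hp, show r.iso p a = α from (r.iso p).apply_symm_apply α] at this
        exact this.symm
      let n : η' ⟶ η0 := ObjectProperty.homMk ⟨h, h, wh⟩
      have hn : (FibCat.fp x x).p.IsHomLift t n :=
        fp_isHomLift (F := x) (G := x) t n (h := overMap_isHomLift (BasedFunctor.id (FibCat.overCat U)) h)
      obtain ⟨n', hn'⟩ := hΦa (Over.mk t)
      have hn'' : (FibCat.fp x x).p.IsHomLift t n' := hn'
      obtain ⟨c, hc, -⟩ := exists_iso_of_lifts (hp := hfp) t n n'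
      let i : η' ≅ η := fpIsoMk (Iso.refl p) j (by
        show x.map (𝟙 p) ≫ η.obj.iso.hom = α.hom.1 ≫ x.map j.hom
        rw [x.toFunctor.map_id, Category.id_comp, hα])
      have hi : (FibCat.fp x x).p.IsHomLift (𝟙 p.left) i.hom :=
        fp_isHomLift (F := x) (G := x) (𝟙 p.left) _ (h := IsHomLift.id rfl)
      exact ⟨Over.mk t, c ≪≫ i, inferInstanceAs ((FibCat.fp x x).p.IsHomLift (𝟙 p.left) (c.hom ≫ i.hom))⟩
  obtain ⟨c, ⟨jc⟩⟩ := exists_overMap_iso (BasedFunctor.comp Φ (FibCat.fpFst x x))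
  have hc : c = g0 := by
    let m := (isoApp jc (Over.mk (𝟙 Gs))).inv ≫ ε.hom.hom.fst
    have : (FibCat.overCat U).p.IsHomLift (𝟙 Gs) (isoApp jc (Over.mk (𝟙 Gs))).inv := isoApp_inv_lift jc rfl
    have : (FibCat.overCat U).p.IsHomLift (𝟙 Gs) ε.hom.hom.fst :=
      IsHomLift.of_fac' (FibCat.overCat U).p _ ε.hom.hom.fst (IsHomLift.domain_eq (FibCat.fp x x).p (𝟙 Gs) ε.hom)
        (IsHomLift.codomain_eq (FibCat.fp x x).p (𝟙 Gs) ε.hom) (IsHomLift.fac' (FibCat.fp x x).p (𝟙 Gs) ε.hom)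
    have hml : (FibCat.overCat U).p.IsHomLift (𝟙 Gs) m := inferInstanceAs ((FibCat.overCat U).p.IsHomLift (𝟙 Gs)
      ((isoApp jc (Over.mk (𝟙 Gs))).inv ≫ ε.hom.hom.fst))
    have hm : m.left = 𝟙 Gs :=
      (map_eq_of_isHomLift_id (p := (FibCat.overCat U : AlgSt.Cat S).p) hml).trans (eqToHom_refl _ _)
    have := Over.w m
    rw [hm] at this
    exact (this.symm.trans (Category.id_comp _)).symm.trans (Category.id_comp c) |>.symm
  subst hc
  have hP := ((show RepOver P3 (FibCat.fpFst x x) from hx U x).property_of_stableBC stableBC_P3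
    (BasedFunctor.comp (AlgSt.toOverCat Gs) Φ) (isEquivOver_comp (isEquivOver_toOverCat Gs) heq)).2
  rw [spMapOfOver_congr (show BasedFunctor.comp (BasedFunctor.comp (AlgSt.toOverCat Gs) Φ) (FibCat.fpFst x x) ≅ _
    from whiskerLeftIso (AlgSt.toOverCat Gs) jc ≪≫ toOverCatMapIso g0),
    spMapOfOver_ofSpMap_toOverCat] at hP
  exact ⟨(locP_yon_map (P := @Flat) hP.1.2 : Flat g0.left),
    (locP_yon_map (P := @LocallyOfFinitePresentation) hP.2 : LocallyOfFinitePresentation g0.left)⟩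
end Groth.Agent.S16867
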