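import Groth.Statements.S16871
import Groth.Agent.H14Misc.ResGerbeOfGerbe

set_option backward.isDefEq.respectTransparency false
set_option backward.isDefEq.respectTransparency.types false

set_option autoImplicit false
universe u
open CategoryTheory AlgebraicGeometry
open Gerb

namespace Groth.Agent.S16871

/-- If an algebraic stack is a gerbe (over some algebraic space), then the residual gerbe exists at
every one of its points. (Non-triviality of the conclusion rests on the monomorphism condition.) -/
theorem result
    (S : Scheme.{u}) (𝒳 : AlgSt.Cat S) (h𝒳 : AlgSt.IsAlgStack Scheme.fppfPrecoverage 𝒳)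
    (X : AlgSp.Space S) (π : 𝒳 ⥤ᵇ AlgSt.ofSp X.obj)
    (hπ : Gerb.IsGerbeOver (QuotSh.J Scheme.fppfPrecoverage S) π) (x : AlgSt.Points 𝒳) :
    Gerb.ResGerbeExists Scheme.fppfPrecoverage 𝒳 x := by
  exact Groth.Agent.H14Misc.resGerbeExists_of_gerbe h𝒳 X π hπ x


end Groth.Agent.S16871
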