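import Groth.Statements.S16879
import Groth.Agent.GerbLib.SectionBG.SchemeOmega
import Groth.Agent.GerbLib.Equiv
import Groth.Agent.S16866
import Groth.Agent.AlgStLib.OfSp

set_option backward.isDefEq.respectTransparency false
set_option backward.isDefEq.respectTransparency.types false

set_option autoImplicit false
universe u
open AlgebraicGeometry Opposite
open CategoryTheory CategoryTheory.Limits Groth.Agent.GerbLib.SectionBG Groth.Agent.AlgStLib Groth.Agent.FibBase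
open CategoryTheory AlgebraicGeometry
open Gerb

namespace Groth.Agent.S16879

/-- A gerbe over the base scheme S with a section x is a classifying stack: if G is a group scheme
affine over S representing the automorphism functor of x, then 𝒳 is equivalent over (Sch/S) to
[S/G], the stack of fppf G-torsors. (The source allows any algebraic space as the base, lets G be
the group algebraic space of automorphisms, and its equivalence is a named one; here the base is S
itself, G is an affine group scheme, and existence of an equivalence is asserted.) -/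
theorem result
    (S : Scheme.{u}) (𝒳 : AlgSt.Cat S) (h𝒳 : AlgSt.IsAlgStack Scheme.fppfPrecoverage 𝒳)
    (π : 𝒳 ⥤ᵇ FibCat.overCat (Over.mk (𝟙 S)))
    (hπ : Gerb.IsGerbeOver (QuotSh.J Scheme.fppfPrecoverage S) π)
    (x : FibCat.overCat (Over.mk (𝟙 S)) ⥤ᵇ 𝒳)
    (e : BasedFunctor.comp x π ≅ BasedFunctor.id (FibCat.overCat (Over.mk (𝟙 S))))
    (G : Over S) [GrpObj G] [IsAffineHom G.hom]
    (r : Gerb.AutRep x (Gerb.ptsGrp (Over.mk (𝟙 S)) G)) :
    AlgSt.IsQuotientOf Scheme.fppfPrecoverage G (AlgSt.trivAction G) 𝒳 := by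
  obtain ⟨hX, hdiag, hatlas⟩ := h𝒳
  let U : AlgSp.Space S := (AlgSp.ofScheme S).obj (Over.mk (𝟙 S))
  let π' : 𝒳 ⥤ᵇ AlgSt.ofSp U.obj := BasedFunctor.comp π (AlgSt.ofOverCat (Over.mk (𝟙 S)))
  have hid : Gerb.IsGerbeOver (QuotSh.J Scheme.fppfPrecoverage S) (BasedFunctor.id (AlgSt.ofSp U.obj)) := by
    refine ⟨fun y => ⟨⊤, GrothendieckTopology.top_mem _ _, fun V f _ => ?_⟩, fun a a' b hb =>
      ⟨⊤, GrothendieckTopology.top_mem _ _, fun V f _ => ?_⟩⟩
    · exact ⟨⟨V, U.obj.obj.map f.op y.sec⟩, ⟨f, rfl⟩, IsHomLift.of_fac' _ f _ rfl rfl (by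
        simp only [eqToHom_refl, Category.id_comp, Category.comp_id]; rfl)⟩
    · let φ : (⟨V, U.obj.obj.map f.op a.sec⟩ : (AlgSt.ofSp U.obj).obj) ⟶ a := ⟨f, rfl⟩
      have hφ : (AlgSt.ofSp U.obj).p.IsHomLift f φ := IsHomLift.of_fac' _ f _ rfl rfl (by
        simp only [eqToHom_refl, Category.id_comp, Category.comp_id]; rfl)
      refine ⟨_, φ, φ ≫ b, hφ, ?_, rfl⟩
      have := hb
      exact inferInstanceAs ((AlgSt.ofSp U.obj).p.IsHomLift f (φ ≫ b))
  have hof : Gerb.IsGerbeOver (QuotSh.J Scheme.fppfPrecoverage S) (AlgSt.ofOverCat (Over.mk (𝟙 S))) :=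
    Groth.Agent.GerbLib.isGerbeOver_equiv_comp (isEquivOver_ofOverCat _) hid
  have hπ' : Gerb.IsGerbeOver (QuotSh.J Scheme.fppfPrecoverage S) π' :=
    Groth.Agent.GerbLib.isGerbeOver_comp hX.1 (isFibGrpd_overCat _) (Stk.isFibGrpd_ofPsh _) hπ hof
  let x' : AlgSt.ofSp U.obj ⥤ᵇ 𝒳 := sx x
  have i₀ : BasedFunctor.comp (AlgSt.toOverCat (Over.mk (𝟙 S))) (AlgSt.ofOverCat (Over.mk (𝟙 S))) ≅
      BasedFunctor.id (AlgSt.ofSp U.obj) := pshIso _ _ fun a => rfl
  have e' : BasedFunctor.comp x' π' ≅ BasedFunctor.id (AlgSt.ofSp U.obj) :=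
    whiskerLeftIso (AlgSt.toOverCat (Over.mk (𝟙 S))) (whiskerRightIso e (AlgSt.ofOverCat (Over.mk (𝟙 S)))) ≪≫ i₀
  let D : Sect (B₀ S) 𝒳 :=
    ⟨x', π', e', U.property, hX, repByAlgSp1_of_repByAlgSpWith (Groth.Agent.S16866.result S 𝒳 ⟨hX, hdiag, hatlas⟩ U π' hπ' x' e').1⟩
  obtain ⟨θ, hres, hmul, hone⟩ := exists_repEquiv r D rfl
  let Θ : RepEquiv D G := ⟨θ, hres, hmul, hone⟩
  obtain ⟨k, hk, -⟩ := exists_equiv_spBG (D := D) hπ'
  exact ⟨BasedFunctor.comp (omega Θ) k, isEquivOver_comp (isEquivOver_omega Θ) hk⟩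

end Groth.Agent.S16879
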