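import Groth.Statements.S1688
import Groth.Agent.QCoh.LocFree
import Groth.Agent.QCoh.Support
import Groth.Agent.DimFormula.DedekindFlat
import Groth.Agent.SchTop.Closed

set_option autoImplicit false
universe u
open CategoryTheory CategoryTheory.Limits AlgebraicGeometry TopologicalSpace
open SDiv

namespace Groth.Agent.S1688

/-- Let X be a locally Noetherian integral scheme of dimension at most 1 all of whose local rings are
regular, and F a coherent module on X. Then F is torsion free (every stalk is a torsion-free module
over the local ring) if and only if F is finite locally free. -/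
theorem result (X : Scheme.{u}) [IsIntegral X] [IsLocallyNoetherian X] (hreg : ∀ x : ↥X, IsRegularLocalRing (X.presheaf.stalk x))
    (hdim : topologicalKrullDim ↥X ≤ 1) (F : X.Modules) (hF : Coh.IsCoh F) :
    (∀ x : ↥X, NoZeroSMulDivisors (X.presheaf.stalk x) (F.presheaf.stalk x)) ↔ FlatMod.IsFinLocFree F := by
  constructor
  · intro h
    refine Groth.Agent.QCoh.isFinLocFree_iff.2 ⟨Groth.Agent.QCoh.isCoh_iff_isFP.1 hF, fun x => ?_⟩
    haveI := hreg x
    haveI := h x
    haveI := Groth.Agent.DimFormula.isPrincipalIdealRing_of_regular_dim_le_one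
      (R := X.presheaf.stalk x) ((Groth.Agent.SchTop.ringKrullDim_stalk_le x).trans hdim)
    haveI : IsDomain (X.presheaf.stalk x) := RegLoc6.isDomain_of_isRegularLocalRing _
    haveI : Module.Finite (X.presheaf.stalk x) (F.presheaf.stalk x) :=
      Groth.Agent.QCoh.finite_stalk_of_isFT (Groth.Agent.QCoh.isCoh_iff.1 hF).1
        (Groth.Agent.QCoh.isFT_of_isFP (Groth.Agent.QCoh.isCoh_iff_isFP.1 hF)) x
    exact Module.free_of_finite_type_torsion_free'
  · intro h x
    haveI := hreg x
    haveI : IsDomain (X.presheaf.stalk x) := RegLoc6.isDomain_of_isRegularLocalRing _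
    haveI := Groth.Agent.QCoh.free_stalk_of_isFinLocFree h x
    exact ⟨fun {c m} hcm => smul_eq_zero.1 hcm⟩

end Groth.Agent.S1688
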