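import Groth.Statements.S16880
import Groth.Agent.GerbLib.SectionBG.Equiv
import Groth.Agent.GerbLib.SectionBG.SpBGGerbe
import Groth.Agent.AlgStLib.LocSurjObj
import Groth.Agent.AlgSpLib.SmoothLocalInst
import Groth.Agent.AlgStLib.LocQInst
import Groth.Agent.GerbFlat.Main
import Groth.Agent.S16881

set_option backward.isDefEq.respectTransparency false
set_option backward.isDefEq.respectTransparency.types false

set_option autoImplicit false
universe u
open Groth.Agent.AlgStLib Groth.Agent.AlgSpLib Groth.Agent.FibBase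
open CategoryTheory AlgebraicGeometry
open Gerb

namespace Groth.Agent.S16880

/-- A morphism π : 𝒳 → 𝒴 of algebraic stacks makes 𝒳 a gerbe over 𝒴 if and only if, after base change
along some surjective, flat, locally finitely presented morphism U → 𝒴 from an algebraic space, 𝒳
becomes equivalent over U to a classifying stack [U/G], where G is a group algebraic space over U
that is flat over U and locally of finite presentation. (Here [U/G] is the stack of fppf-locally
trivial G-torsors given as fppf sheaves over U; 'over U' means the equivalence followed by the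
projection to U is 2-isomorphic to the structure functor of [U/G].) -/
theorem result
    (S : Scheme.{u}) (𝒳 𝒴 : AlgSt.Cat S)
    (h𝒳 : AlgSt.IsAlgStack Scheme.fppfPrecoverage 𝒳) (h𝒴 : AlgSt.IsAlgStack Scheme.fppfPrecoverage 𝒴)
    (π : 𝒳 ⥤ᵇ 𝒴) :
    Gerb.IsGerbeOver (QuotSh.J Scheme.fppfPrecoverage S) π ↔
      ∃ (U : AlgSp.Space S) (G : Over U.obj) (_ : GrpObj G),
        AlgSp.IsAlgSpace G.left ∧ AlgSp.LocP @Flat G.hom ∧ AlgSp.LocP @LocallyOfFinitePresentation G.hom ∧
        ∃ u : AlgSt.ofSp U.obj ⥤ᵇ 𝒴,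
          AlgSt.RepByAlgSpWith (AlgSp.LocP @Flat) u ∧
          AlgSt.RepByAlgSpWith (AlgSp.LocP @LocallyOfFinitePresentation) u ∧
          AlgSt.RepByAlgSpWith AlgSp.IsSurjectiveMor u ∧
          ∃ e : AlgSt.SpBG Scheme.fppfPrecoverage G ⥤ᵇ FibCat.fp u π,
            FibCat.IsEquivOver e ∧
            Nonempty (BasedFunctor.comp e (FibCat.fpFst u π) ≅
              W4stkstmgerbes.spQuotToBase Scheme.fppfPrecoverage G (AlgSt.trivGAction G)) := by
  refine ⟨fun hπ => ?_, ?_⟩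
  · obtain ⟨V, v, hv, hv'⟩ := h𝒳.atlas
    let U : AlgSp.Space S := (AlgSp.ofScheme S).obj V
    have hU : AlgSt.IsAlgStack Scheme.fppfPrecoverage (AlgSt.ofSp U.obj) := isAlgStack_ofSp U
    let z : AlgSt.ofSp U.obj ⥤ᵇ 𝒳 := BasedFunctor.comp (AlgSt.toOverCat V) v
    let u : AlgSt.ofSp U.obj ⥤ᵇ 𝒴 := BasedFunctor.comp z π
    have hzs : AlgSt.RepByAlgSpWith (AlgSp.LocP @Smooth) z := repByAlgSpWith_precomp (isEquivOver_toOverCat V) hv
    have hz' : AlgSt.RepByAlgSpWith AlgSp.IsSurjectiveMor z := repByAlgSpWith_precomp (isEquivOver_toOverCat V) hv'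
    have hu : AlgSt.RepByAlgSp1 u := repByAlgSp1_iff_top.2 (repByAlgSpWith_precomp (isEquivOver_toOverCat V)
      (repByAlgSp1_iff_top.1 (repByAlgSp1_of_diag h𝒴.isStack.1 h𝒴.diag V (BasedFunctor.comp v π))))
    obtain ⟨⟨hs, hf, hp⟩, -⟩ := Groth.Agent.GerbFlat.fppf_and_diag_of_isGerbeOver h𝒳 h𝒴 hπ
    have huf : AlgSt.RepByAlgSpWith (AlgSp.LocP @Flat) u :=
      (locQ_iff_repByAlgSpWith isSmoothLocalST_flat stableBC_locP (isLocalOnBase_fppf_locP _) hU h𝒴 hu).1
        (locQ_comp isSmoothLocalST_flat stableComp_locP hU h𝒳 h𝒴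
          ((locQ_iff_repByAlgSpWith isSmoothLocalST_flat stableBC_locP (isLocalOnBase_fppf_locP _) hU h𝒳
            (repByAlgSp1_of_repByAlgSpWith hzs)).2 (repByAlgSpWith_flat_of_smooth hzs)) hf)
    have hup : AlgSt.RepByAlgSpWith (AlgSp.LocP @LocallyOfFinitePresentation) u :=
      (locQ_iff_repByAlgSpWith isSmoothLocalST_lfp stableBC_locP (isLocalOnBase_fppf_locP _) hU h𝒴 hu).1
        (locQ_comp isSmoothLocalST_lfp stableComp_locP hU h𝒳 h𝒴
          ((locQ_iff_repByAlgSpWith isSmoothLocalST_lfp stableBC_locP (isLocalOnBase_fppf_locP _) hU h𝒳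
            (repByAlgSp1_of_repByAlgSpWith hzs)).2 (repByAlgSpWith_lfp_of_smooth hzs)) hp)
    have hus : AlgSt.RepByAlgSpWith AlgSp.IsSurjectiveMor u :=
      repByAlgSpWith_surjective_of_isSurjective hU.isStack.1 h𝒴.isStack.1 hu
        (isSurjective_comp (isSurjective_of_repByAlgSpWith hU.isStack.1 h𝒳.isStack.1 hU.atlas hz') hs)
    have hfp := isAlgStack_fp hU h𝒳 h𝒴.isStack h𝒴.diag u π
    have hg : Gerb.IsGerbeOver (QuotSh.J Scheme.fppfPrecoverage S) (FibCat.fpFst u π) :=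
      Groth.Agent.GerbLib.isGerbeOver_fpFst h𝒳.isStack.1 h𝒴.isStack.1 hU.isStack.1 u hπ
    obtain ⟨G, hG, hG1, hG2, hG3, e, he, hi⟩ := Groth.Agent.S16881.result S (FibCat.fp u π) hfp U (FibCat.fpFst u π) hg
      (FibCat.fpLift (BasedFunctor.id _) z (Iso.refl u)) (Iso.refl _)
    exact ⟨U, G, hG, hG1, hG2, hG3, u, huf, hup, hus, e, he, hi⟩
  · rintro ⟨U, G, hG, -, -, -, u, huf, hup, hus, e, he, ⟨i⟩⟩
    exact Groth.Agent.GerbLib.SectionBG.isGerbeOver_of_cover h𝒳.isStack.1 h𝒴.isStack.1 π u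
      (locSurjObj_of_locEssSurj h𝒴.isStack.1 (locEssSurj_of_repByAlgSp huf hup hus)) e he i

end Groth.Agent.S16880
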