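import Groth.Statements.S16884
import Groth.Agent.GerbLib.Equiv

set_option backward.isDefEq.respectTransparency false
set_option backward.isDefEq.respectTransparency.types false
-- import your own Groth.Agent.* helpers here

set_option autoImplicit false
open CategoryTheory
universe v u
open Gerb

namespace Groth.Agent.S16884

/-- Let `𝒳`, `𝒴`, `𝒳'`, `𝒴'` be stacks in groupoids over the site `(C, J)` forming a 2-cartesian square
over `C` with sides `F : 𝒳 ⟶ 𝒴`, `G : 𝒴' ⟶ 𝒴`, `F' : 𝒳' ⟶ 𝒴'`, `G' : 𝒳' ⟶ 𝒳` and 2-isomorphism `e :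
F' ⋙ G ≅ G' ⋙ F` over `C`. Suppose that every object of `𝒴` lies, locally on `C`, in the essential
image of `G` (for `y` over `U` there is a covering sieve of `U` on whose members `V ⟶ U` there are
an object `y'` of `𝒴'` and a morphism `G y' ⟶ y` lying over `V ⟶ U`). If `𝒳'` is a gerbe over `𝒴'`
along `F'`, then `𝒳` is a gerbe over `𝒴` along `F`: being a gerbe descends along such a base change. -/
theorem result {C : Type u} [Category.{v} C]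
    (J : GrothendieckTopology C) {𝒳 𝒴 𝒳' 𝒴' : BasedCategory.{v, max u v} C}
    (h𝒳 : Stk.IsStack J 𝒳) (h𝒴 : Stk.IsStack J 𝒴) (h𝒳' : Stk.IsStack J 𝒳') (h𝒴' : Stk.IsStack J 𝒴')
    (F : 𝒳 ⥤ᵇ 𝒴) (G : 𝒴' ⥤ᵇ 𝒴) (F' : 𝒳' ⥤ᵇ 𝒴') (G' : 𝒳' ⥤ᵇ 𝒳)
    (e : BasedFunctor.comp F' G ≅ BasedFunctor.comp G' F) (hc : FibCat.IsTwoCartOver F' G' e)
    (hG : Gerb.LocSurjObj J G) (hF' : Gerb.IsGerbeOver J F') : Gerb.IsGerbeOver J F := by
  obtain ⟨K, ⟨e₁⟩, ⟨e₂⟩⟩ := hc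
  refine Groth.Agent.GerbLib.isGerbeOver_of_fpFst h𝒳.1 h𝒴.1 h𝒴'.1 F G hG ?_
  have hKe : FibCat.IsEquivOver K := ⟨_, ⟨e₂⟩, ⟨e₁⟩⟩
  exact Groth.Agent.GerbLib.isGerbeOver_of_iso
    (Groth.Agent.FibBase.whiskerRightIso e₂ (FibCat.fpFst G F))
    (Groth.Agent.GerbLib.isGerbeOver_equiv_comp hKe hF')
end Groth.Agent.S16884
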