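import Groth.Statements.S16901
import Groth.Agent.Nakai.BigInt

set_option autoImplicit false
universe u
open CategoryTheory CategoryTheory.Limits AlgebraicGeometry
open Vanish

namespace Groth.Agent.S16901
set_option backward.isDefEq.respectTransparency false
set_option backward.isDefEq.respectTransparency.types false

/-- Let k be an algebraically closed field and X an integral proper k-scheme of dimension n with an
ample invertible O_X-module (a projective variety, not assumed non-singular), and let L be an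
invertible O_X-module. The Iitaka dimension of L is n, in the growth form the text adopts as its
working definition (for some ν > 0 there is a constant a > 0 with μ^n ≤ a · dim_k H^0(X, L^⊗νμ) for
all μ ≥ 1), if and only if for some ν > 0 there are an ample invertible module A and a monomorphism
A → L^⊗ν (that is, L^⊗ν(−C) is ample for some effective divisor C). -/
theorem result (k : Type u) [Field k] [IsAlgClosed k]
    (X : Scheme.{u}) [X.Over (Spec (CommRingCat.of k))] [IsIntegral X] [IsProper (X ↘ Spec (CommRingCat.of k))]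
    (n : ℕ) (hn : topologicalKrullDim X = n) (H : X.Modules) (hH : CohB1.IsAmple H)
    (L : X.Modules) (hL : PicF.IsInvertible L) :
    (∃ ν a : ℕ, 0 < ν ∧ 0 < a ∧ ∀ μ : ℕ, 1 ≤ μ →
        μ ^ n ≤ a * Module.finrank k (Coh.HH X (CohB1.tensorPow L (ν * μ)) 0)) ↔
      ∃ (ν : ℕ) (A : X.Modules) (φ : A ⟶ CohB1.tensorPow L ν), 0 < ν ∧ CohB1.IsAmple A ∧ Mono φ := by
  have hd := NefBig.deg_genericPoint_of_dim (k := k) hn
  constructor
  · rintro ⟨ν, a, hν, ha, h⟩
    have hg : NefBig.Grows k L n := ⟨ν, 1 / (a : ℚ), hν, by positivity, Filter.eventually_atTop.2 ⟨1, fun μ hμ => by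
      rw [div_mul_eq_mul_div, one_mul, div_le_iff₀ (by positivity), mul_comm]
      exact_mod_cast h μ hμ⟩⟩
    obtain ⟨m, φ, hm, hφ⟩ := NefBig.exists_mono_of_grows hd hL hg hH
    exact ⟨m, H, φ, hm, hH, hφ⟩
  · rintro ⟨ν, A, φ, hν, hA, hφ⟩
    obtain ⟨ν', c, hν', hc, hev, hone⟩ := NefBig.exists_lower_of_mono (k := k) hd hL hν hA φ
    obtain ⟨μ₀, hμ₀⟩ := Filter.eventually_atTop.1 hev
    obtain ⟨a₁, ha₁⟩ := exists_nat_gt (1 / c)
    refine ⟨ν', a₁ + μ₀ ^ n + 1, hν', Nat.succ_pos _, fun μ hμ => ?_⟩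
    rcases le_or_gt μ₀ μ with h | h
    · have h1 := hμ₀ μ h
      have h2 : (μ : ℚ) ^ n ≤ (a₁ + μ₀ ^ n + 1 : ℕ) * (NefBig.h0 k (CohB1.tensorPow L (ν' * μ)) : ℚ) := by
        rw [div_lt_iff₀ hc] at ha₁
        have h3 : (a₁ : ℚ) ≤ ((a₁ + μ₀ ^ n + 1 : ℕ) : ℚ) := Nat.cast_le.2 (by omega)
        have h4 : (0 : ℚ) ≤ (NefBig.h0 k (CohB1.tensorPow L (ν' * μ)) : ℚ) := Nat.cast_nonneg _
        have h5 : (0 : ℚ) ≤ (μ : ℚ) ^ n := by positivity
        nlinarith [mul_le_mul_of_nonneg_right ha₁.le h5, mul_le_mul_of_nonneg_left h1 (Nat.cast_nonneg a₁ : (0 : ℚ) ≤ a₁),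
          mul_le_mul_of_nonneg_right h3 h4]
      exact_mod_cast h2
    · calc μ ^ n ≤ μ₀ ^ n := Nat.pow_le_pow_left h.le n
        _ ≤ (a₁ + μ₀ ^ n + 1) * 1 := by omega
        _ ≤ _ := Nat.mul_le_mul_left _ (hone μ hμ)

end Groth.Agent.S16901
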