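import Groth.Statements.S16903
import Groth.Agent.Nakai.NumTrivInt

set_option autoImplicit false
universe u
open CategoryTheory CategoryTheory.Limits AlgebraicGeometry
open Vanish

namespace Groth.Agent.S16903

/-- Let k be an algebraically closed field of characteristic zero and X an irreducible proper smooth
k-scheme of dimension n with an ample invertible O_X-module (a projective manifold); let L be a
numerically effective invertible O_X-module with tensor inverse L⁻¹ and m a natural number such that
c_1(L)^m is numerically trivial, i.e. the intersection number (L^m · V) = ∫ c_1(L)^m [O_V] vanishes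
for every integral closed subscheme V ⊆ X of dimension m. Then κ(L) < m, in the growth form: there
are no ν > 0 and a > 0 with μ^m ≤ a · dim_k H^0(X, L^⊗νμ) for all μ ≥ 1. (This expresses ν(L) ≥
κ(L); only the characteristic-zero case is stated.) -/
theorem result (k : Type u) [Field k] [IsAlgClosed k] [CharZero k]
    (X : Scheme.{u}) [X.Over (Spec (CommRingCat.of k))] [IsProper (X ↘ Spec (CommRingCat.of k))]
    [Smooth (X ↘ Spec (CommRingCat.of k))] [IrreducibleSpace X] (n : ℕ) (hn : topologicalKrullDim X = n)
    (H : X.Modules) (hH : CohB1.IsAmple H) (L Linv : X.Modules) (hL : PicF.IsInvertible L) (hLinv : ClSub.IsInverseOf Linv L)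
    (hnef : (∀ (Y : Scheme.{u}) (i : Y ⟶ X) [IsClosedImmersion i], IsIntegral Y → topologicalKrullDim Y = 1 →
      0 ≤ Pic13.curveDeg k (i ≫ (X ↘ Spec (CommRingCat.of k))) ((Scheme.Modules.pullback i).obj L)))
    (m : ℕ) (hm : (∀ (V : Scheme.{u}) (i : V ⟶ X) [IsClosedImmersion i], IsIntegral V → topologicalKrullDim V = (m : ℕ) →
      FGA.intNum k X n (fun _ : Fin m => Linv) ((Scheme.Modules.pushforward i).obj (Coh.structureModule V)) = 0)) :
    ¬ (∃ ν a : ℕ, 0 < ν ∧ 0 < a ∧ ∀ μ : ℕ, 1 ≤ μ →
        μ ^ m ≤ a * Module.finrank k (Coh.HH X (CohB1.tensorPow L (ν * μ)) 0)) := by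
  exact NefTriv.not_growth hH hL hnef (NefTriv.numTriv_of_intNum hn hL hLinv hm)

end Groth.Agent.S16903
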