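import Groth.Statements.S16904
import Groth.Agent.Nakai.ChainGrowth

set_option autoImplicit false
universe u
open CategoryTheory CategoryTheory.Limits AlgebraicGeometry
open Vanish

namespace Groth.Agent.S16904
set_option backward.isDefEq.respectTransparency false
set_option backward.isDefEq.respectTransparency.types false

/-- Let k be an algebraically closed field of characteristic zero and X an irreducible proper smooth
k-scheme of dimension n with an ample invertible O_X-module (a projective manifold); let L be a
semi-ample invertible O_X-module (some L^⊗μ with μ > 0 is globally generated; such L is numerically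
effective) with tensor inverse L⁻¹. Then for every natural number m, c_1(L)^m is numerically trivial
— (L^m · V) = 0 for every integral closed subscheme V ⊆ X of dimension m — if and only if κ(L) < m
in the growth form: there are no ν > 0 and a > 0 with μ^m ≤ a · dim_k H^0(X, L^⊗νμ) for all μ ≥ 1.
(This expresses ν(L) = κ(L) for semi-ample L; characteristic zero only.) -/
theorem result (k : Type u) [Field k] [IsAlgClosed k] [CharZero k]
    (X : Scheme.{u}) [X.Over (Spec (CommRingCat.of k))] [IsProper (X ↘ Spec (CommRingCat.of k))]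
    [Smooth (X ↘ Spec (CommRingCat.of k))] [IrreducibleSpace X] (n : ℕ) (hn : topologicalKrullDim X = n)
    (H : X.Modules) (hH : CohB1.IsAmple H) (L Linv : X.Modules) (hL : PicF.IsInvertible L) (hLinv : ClSub.IsInverseOf Linv L)
    (hsa : ∃ μ : ℕ, 0 < μ ∧ Curv2.IsGloballyGenerated (CohB1.tensorPow L μ))
    (m : ℕ) :
    (∀ (V : Scheme.{u}) (i : V ⟶ X) [IsClosedImmersion i], IsIntegral V → topologicalKrullDim V = (m : ℕ) →
      FGA.intNum k X n (fun _ : Fin m => Linv) ((Scheme.Modules.pushforward i).obj (Coh.structureModule V)) = 0) ↔ ¬ (∃ ν a : ℕ, 0 < ν ∧ 0 < a ∧ ∀ μ : ℕ, 1 ≤ μ →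
        μ ^ m ≤ a * Module.finrank k (Coh.HH X (CohB1.tensorPow L (ν * μ)) 0)) := by
  obtain ⟨μ₀, hμ₀, hg⟩ := hsa
  constructor
  · intro h
    exact NefTriv.not_growth hH hL (NefTriv.nefC_of_semiample hL hμ₀ hg) (NefTriv.numTriv_of_intNum hn hL hLinv h)
  · intro h V i hi hV hVd
    haveI := hi; haveI := hV
    by_contra hne
    letI : V.Over (Spec (CommRingCat.of k)) := ⟨i ≫ (X ↘ (Spec (CommRingCat.of k)))⟩
    haveI : IsProper (V ↘ Spec (CommRingCat.of k)) := NefTriv.isProper_over i
    haveI := CurveCohLib.isNoetherian_of_proper (k := k) (X := V)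
    have hd : VarDim.deg (V ↘ Spec (CommRingCat.of k)) (genericPoint V) = m := by
      have h1 := VarDim.topologicalKrullDim_eq_deg_genericPoint (V ↘ Spec (CommRingCat.of k))
      rw [hVd] at h1
      exact_mod_cast h1.symm
    have hiL := PicClLib.isInvertible_pullback i hL
    obtain ⟨R, -, hR⟩ := NefCrit.exists_hasP (k := k) hiL hiL (F := Coh.structureModule V)
      QCoh.isCoh_structureModule' (m + 1) fun x _ => by have := NefCrit.deg_le_generic (k := k) x; omega
    have hdX : VarDim.deg (X ↘ Spec (CommRingCat.of k)) (i (genericPoint V)) = m :=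
      (NefCrit.deg_closed i _).symm.trans hd
    have hQ := NefTriv.powPoly_line i hR
    obtain ⟨c, hc, e⟩ := NefTriv.intNum_push hn hL hLinv i hdX hQ
    refine h (NefTriv.growth_of_semiample hL hH hμ₀ hg i hdX hQ fun h0 => hne ?_)
    rw [h0, mul_zero] at e
    exact_mod_cast e

end Groth.Agent.S16904
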