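import Groth.Statements.S16908
import Groth.Agent.H9Misc.QuotAffineDiag

set_option autoImplicit false
universe u
open CategoryTheory CategoryTheory.Limits AlgebraicGeometry MonoidalCategory
open ResProp

namespace Groth.Agent.S16908

/-- Let `G` be a group scheme over a scheme `S`, affine, flat and locally of finite presentation over
`S`, acting on a scheme `X` quasi-compact and quasi-separated over `S`. Then the quotient stack
`[X/G]` (fppf `G`-torsors given as schemes with an equivariant morphism to `X`) has affine diagonal
over `S` (its diagonal over `(Sch/S)` is representable by algebraic spaces and affine) if and only
if the diagonal morphism of `X` over `S` is affine. (The published statement is for an arbitrary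
property of morphisms of stacks that is stable under base change and fppf local on the base, for a
quasi-compact quasi-separated algebraic stack `X` over `S` acted on by a separated, flat, finitely
presented group algebraic space; this is the instance for the property affine, with `X` and `G`
schemes over a scheme `S` and `G` affine, where the two implications of the published statement
combine into an equivalence because the diagonal of an affine morphism is affine.) -/
theorem result (S : Scheme.{u}) (G : Over S) [GrpObj G]
    [IsAffineHom G.hom] [Flat G.hom] [LocallyOfFinitePresentation G.hom]
    (X : Over S) [QuasiCompact X.hom] [QuasiSeparated X.hom] (aX : AlgGrp.Action G X) :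
    AlgSt.RepByAlgSpWith AlgSp.IsAffineMor
        (FibCat.diag (FibCat.toSelf (AlgSt.QuotSt Scheme.fppfPrecoverage G aX))) ↔
      IsAffineHom (pullback.diagonal X.hom) := by
  exact Groth.Agent.H9Misc.QuotAffineDiag.iff_affine

end Groth.Agent.S16908
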