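import Groth.Statements.S16909
import Groth.Agent.AmpleX.QAGenerated

set_option autoImplicit false
set_option backward.isDefEq.respectTransparency false
set_option backward.isDefEq.respectTransparency.types false
set_option linter.style.haveILetI false
universe u
open CategoryTheory CategoryTheory.Limits AlgebraicGeometry
open ResProp

namespace Groth.Agent.S16909

open Groth.Agent Groth.Agent.AmpleX Groth.Agent.H23.PicMul TopologicalSpace Opposite in
theorem main (X : Scheme.{u}) [CompactSpace X]
    [QuasiSeparatedSpace X] (h : ∀ M : X.Modules, Coh.IsQCoh M → Curv2.IsGloballyGenerated M) :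
    X.IsQuasiAffine := by
  refine Scheme.IsQuasiAffine.of_forall_exists_mem_basicOpen X fun x => ?_
  obtain ⟨U, hU, hxU, -⟩ := exists_isAffineOpen_mem_and_subset (x := x) (U := ⊤) trivial
  let Z : Set X := (U : Set X)ᶜ
  let G := (QCoh.vanIdeal Z).toModules
  have hG : Coh.IsQCoh G := QCoh.isQCoh_vanIdeal Z
  have h1mem : (show Γ(Coh.structureModule X, U) from (1 : Γ(X, U))) ∈ (QCoh.vanIdeal Z).mem U :=
    fun z hz hzb => hz (X.basicOpen_le _ hzb)
  obtain ⟨e, he⟩ := (QCoh.vanIdeal Z).exists_app_eq h1mem
  let i : G ⟶ Coh.structureModule X := (QCoh.vanIdeal Z).ι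
  obtain ⟨σ, p, hp⟩ := h G hG
  have hex : ∃ k : σ, x ∈ X.basicOpen
      (show Γ(X, ⊤) from InvX.one (SheafOfModules.ιFree k ≫ p ≫ i)) := by
    by_contra hcon
    push Not at hcon
    let j := X.fromSpecResidueField x
    have hj : ∀ z, j z = x := fun z => by
      have hz : j z ∈ Set.range j := ⟨z, rfl⟩
      rwa [Scheme.range_fromSpecResidueField] at hz
    let φ : Coh.structureModule X ⟶ _ :=
      (Scheme.Modules.pullbackPushforwardAdjunction j).unit.app (Coh.structureModule X)
    have hinv := PicClLib.isInvertible_pullback j (InvX.isInvertible_structureModule (X := X))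
    have hq : p ≫ i ≫ φ = 0 := by
      refine Limits.Sigma.hom_ext _ _ fun k => ?_
      rw [Limits.comp_zero]
      refine AmpleX.eq_zero_of_one_eq_zero _ ?_
      show InvX.pullElt j (InvX.one (SheafOfModules.ιFree k ≫ p ≫ i)) = 0
      refine eq_zero_of_locus_eq_bot hinv _ ?_
      rw [locus_pullElt InvX.isInvertible_structureModule, eq_bot_iff]
      intro z hz
      have hz' : x ∈ locus (InvX.one (SheafOfModules.ιFree k ≫ p ≫ i)) := hj z ▸ hz
      refine absurd ?_ (hcon k)
      have h2 := locus_inf (InvX.one (SheafOfModules.ιFree k ≫ p ≫ i)) (le_refl (⊤ : X.Opens))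
        (InvX.isFrame_one ⊤) (g := show Γ(X, ⊤) from InvX.one (SheafOfModules.ιFree k ≫ p ≫ i))
        (by rw [AModX.res_self]; exact (mul_one (show Γ(X, ⊤) from InvX.one (SheafOfModules.ιFree k ≫ p ≫ i))).symm)
      rw [inf_top_eq] at h2
      exact h2 ▸ hz'
    have hi : i ≫ φ = 0 := by rw [← cancel_epi p, hq, Limits.comp_zero]
    have h0 : φ.app U (show Γ(Coh.structureModule X, U) from (1 : Γ(X, U))) = 0 := by
      rw [← he]
      show (i ≫ φ).app U e = 0
      rw [hi]
      rfl
    have hfr := InvX.isFrame_pullElt j (InvX.isFrame_one (X := X) U)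
    have h01 : (1 : Γ(Spec (X.residueField x), j ⁻¹ᵁ U)) = 0 := by
      refine (hfr _ le_rfl).1 ?_
      have he0 : InvX.pullElt j (show Γ(Coh.structureModule X, U) from (1 : Γ(X, U))) = 0 := h0
      simp only [AModX.res_self, he0, smul_zero]
    obtain ⟨z⟩ : Nonempty (Spec (X.residueField x)) := inferInstance
    have hz : z ∈ j ⁻¹ᵁ U := by
      show j z ∈ U
      rw [hj]; exact hxU
    rw [← Scheme.basicOpen_of_isUnit (Spec (X.residueField x)) (U := j ⁻¹ᵁ U) isUnit_one, h01,
      Scheme.basicOpen_zero] at hz
    exact hz
  obtain ⟨k, hk⟩ := hex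
  let g : Γ(X, ⊤) := InvX.one (SheafOfModules.ιFree k ≫ p ≫ i)
  refine ⟨g, ?_, hk⟩
  have hgU : X.basicOpen g ≤ U := fun z hz => by
    by_contra hzU
    exact (QCoh.vanIdeal Z).ι_app_mem ⊤ (InvX.one (SheafOfModules.ιFree k ≫ p)) z hzU hz
  have := hU.basicOpen (X.presheaf.map (homOfLE (le_top : U ≤ ⊤)).op g)
  rwa [Scheme.basicOpen_res, inf_eq_right.2 hgU] at this



/-- Let `X` be a quasi-compact and quasi-separated scheme on which every quasi-coherent module is
globally generated (a quotient of a free module on some index type, i.e. the structure sheaf is a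
generating family). Then `X` is quasi-affine. No separatedness hypothesis is made; it follows. (The
published statement is for an algebraic stack over an algebraic space with affine stabilizer groups
at closed points and concludes that it is representable by a quasi-affine morphism; that general
case rests on results outside this text, and this row is the final step of its proof, the case of a
scheme.) -/
theorem result (X : Scheme.{u}) [CompactSpace X]
    [QuasiSeparatedSpace X] (h : ∀ M : X.Modules, Coh.IsQCoh M → Curv2.IsGloballyGenerated M) :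
    X.IsQuasiAffine :=
  main X h

end Groth.Agent.S16909
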