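import Groth.Statements.S16914
import Groth.Agent.H9Misc.GeomStab

set_option autoImplicit false
universe u
open CategoryTheory CategoryTheory.Limits AlgebraicGeometry
open ResProp
open Groth.Agent.H9Misc.GeomStab Groth.Agent.AlgStLib Groth.Agent.FibBase

namespace Groth.Agent.S16914

/-- Let `𝒳` be an algebraic stack over `S` (fppf topology) whose diagonal is representable by algebraic
spaces, separated and quasi-compact. Then `𝒳` is representable by an algebraic space over `S` if and
only if its stabilizer groups vanish at all geometric points: whenever `x` is an object of `𝒳` whose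
scheme is the spectrum of an algebraically closed field, `ξ` an object with a morphism to `x` (a
pullback of `x` to some scheme) and `σ` an endomorphism of `ξ` lying over the identity, `σ` is the
identity. -/
theorem result (S : Scheme.{u}) (𝒳 : AlgSt.Cat S)
    (h𝒳 : AlgSt.IsAlgStack Scheme.fppfPrecoverage 𝒳)
    (hΔ : AlgSt.RepByAlgSpWith (AlgSp.IsSeparatedMor ⊓ AlgSp.IsQuasiCompactMor) (FibCat.diag (FibCat.toSelf 𝒳))) :
    AlgSt.RepByAlgSp 𝒳 ↔
      ∀ (k : Type u) [Field k] [IsAlgClosed k] (x : 𝒳.obj) (e : (𝒳.p.obj x).left ≅ Spec (CommRingCat.of k))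
        (ξ : 𝒳.obj) (φ : ξ ⟶ x) (σ : ξ ⟶ ξ), 𝒳.p.map σ = 𝟙 (𝒳.p.obj ξ) → σ = 𝟙 ξ := by
  constructor
  · intro hr k _ _ x e ξ φ σ hσ
    exact subsingleton_autO_of_iso h𝒳.isStack.1 (Iso.refl ξ) (trivial_stab_of_repByAlgSp hr ξ) hσ
  · intro H
    refine repByAlgSp_of_geom_trivial_stab h𝒳 fun k _ _ sk x T => ⟨fun α β => ?_⟩
    have key : ∀ γ : Gerb.AutO (x.obj T), γ.hom.1 = 𝟙 (x.obj T) := fun γ =>
      H k (x.obj (Over.mk (𝟙 _))) (eqToIso (congrArg (·.left) (x.w_obj (Over.mk (𝟙 _))))) (x.obj T)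
        (x.map (Over.homMk T.hom (Category.comp_id _))) γ.hom.1 (map_eq_of_isHomLift_id γ.hom.2)
    exact Iso.ext (Subtype.ext ((key α).trans (key β).symm))

end Groth.Agent.S16914
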