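import Groth.Statements.S16917
import Groth.Agent.Lib.UncountableAvoid

set_option autoImplicit false
open CategoryTheory AlgebraicGeometry
universe u
open Variety

namespace Groth.Agent.S16917

/-- Let k be an uncountable algebraically closed field, X a k-scheme of finite type and Z₀, Z₁, …
countably many closed subsets of X. Then the countable union of the Zₙ, read through closed points,
has a unique irredundant decomposition: there is exactly one countable family S of irreducible
closed subsets of X, pairwise not contained in one another, such that a closed point of X lies in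
some member of S if and only if it lies in some Zₙ. (The published statement is the existence and
uniqueness of the irredundant decomposition of a countable union of algebraic varieties into
c-components, a variety being read through its closed points; with all points of the scheme the
uniqueness would not need the uncountable field.) -/
theorem result (k : Type u) [Field k] [IsAlgClosed k]
    [Uncountable k] (X : Scheme.{u}) (sX : X ⟶ Spec (CommRingCat.of k)) [LocallyOfFiniteType sX]
    [QuasiCompact sX] (Z : ℕ → TopologicalSpace.Closeds X) :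
    ∃! S : Set (TopologicalSpace.Closeds X), S.Countable ∧ (∀ T ∈ S, IsIrreducible (T : Set X)) ∧
      IsAntichain (· ≤ ·) S ∧
      {x : X | IsClosed ({x} : Set X) ∧ ∃ T ∈ S, x ∈ T} =
        {x : X | IsClosed ({x} : Set X) ∧ ∃ n, x ∈ Z n} := by
  have : IsLocallyNoetherian X := LocallyOfFiniteType.isLocallyNoetherian sX
  have : CompactSpace X := QuasiCompact.compactSpace_of_compactSpace sX
  have : IsNoetherian X := {}
  choose C hCf hCc hCi hCu using fun n =>
    TopologicalSpace.NoetherianSpace.exists_finite_set_isClosed_irreducible (Z n).isClosed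
  let F : Set (TopologicalSpace.Closeds X) := {T | ∃ n, (T : Set X) ∈ C n}
  have hFc : F.Countable := by
    refine ((Set.countable_iUnion fun n => (hCf n).countable).preimage
      (SetLike.coe_injective (A := TopologicalSpace.Closeds X))).mono ?_
    rintro T ⟨n, hn⟩
    exact Set.mem_iUnion.mpr ⟨n, hn⟩
  have hFi : ∀ T ∈ F, IsIrreducible (T : Set X) := fun T ⟨n, hn⟩ => hCi n _ hn
  let S : Set (TopologicalSpace.Closeds X) := {T | Maximal (· ∈ F) T}
  have hSF : S ⊆ F := fun T hT => hT.prop
  have hcov : {x : X | IsClosed ({x} : Set X) ∧ ∃ T ∈ S, x ∈ T} =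
      {x : X | IsClosed ({x} : Set X) ∧ ∃ n, x ∈ Z n} := by
    ext x
    refine and_congr_right fun _ => ⟨?_, ?_⟩
    · rintro ⟨T, hT, hxT⟩
      obtain ⟨n, hn⟩ := hSF hT
      refine ⟨n, ?_⟩
      show x ∈ (Z n : Set X)
      rw [hCu n]
      exact ⟨_, hn, hxT⟩
    · rintro ⟨n, hxn⟩
      have hxn' : x ∈ (Z n : Set X) := hxn
      rw [hCu n] at hxn'
      obtain ⟨t, ht, hxt⟩ := hxn'
      obtain ⟨T, hT, hle⟩ := Groth.Agent.UncountableAvoid.exists_maximal_irreducible k X sX F hFi
        ⟨t, hCc n t ht⟩ ⟨n, ht⟩
      exact ⟨T, hT, hle hxt⟩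
  refine ⟨S, ⟨hFc.mono hSF, fun T hT => hFi T (hSF hT), setOfPred_maximal_antichain _, hcov⟩, ?_⟩
  rintro S' ⟨hS'c, hS'i, hS'a, hS'cov⟩
  have key : ∀ A B : Set (TopologicalSpace.Closeds X), B.Countable →
      (∀ T ∈ A, IsIrreducible (T : Set X)) →
      {x : X | IsClosed ({x} : Set X) ∧ ∃ T ∈ A, x ∈ T} =
        {x : X | IsClosed ({x} : Set X) ∧ ∃ T ∈ B, x ∈ T} →
      ∀ T ∈ A, ∃ T' ∈ B, T ≤ T' := by
    intro A B hB hA hAB T hT
    by_contra! h
    have := hB.to_subtype
    obtain ⟨x, hxT, hx, hxB⟩ := Groth.Agent.UncountableAvoid.exists_closedPoint_avoid k X sX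
      (T : Set X) T.isClosed (hA T hT) (fun T' : B => (T' : TopologicalSpace.Closeds X))
      (fun T' => h T' T'.2)
    have hmem : x ∈ {x : X | IsClosed ({x} : Set X) ∧ ∃ T ∈ A, x ∈ T} := ⟨hx, T, hT, hxT⟩
    rw [hAB] at hmem
    obtain ⟨-, T', hT', hxT'⟩ := hmem
    exact hxB ⟨T', hT'⟩ hxT'
  have h1 := key S' S (hFc.mono hSF) hS'i (hS'cov.trans hcov.symm)
  have h2 := key S S' hS'c (fun T hT => hFi T (hSF hT)) (hcov.trans hS'cov.symm)
  ext T
  refine ⟨fun hT => ?_, fun hT => ?_⟩
  · obtain ⟨T', hT', hle⟩ := h1 T hT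
    obtain ⟨T'', hT'', hle'⟩ := h2 T' hT'
    have : T = T'' := hS'a.eq hT hT'' (hle.trans hle')
    subst this
    exact le_antisymm hle hle' ▸ hT'
  · obtain ⟨T', hT', hle⟩ := h2 T hT
    obtain ⟨T'', hT'', hle'⟩ := h1 T' hT'
    have : T = T'' := (setOfPred_maximal_antichain _).eq hT hT'' (hle.trans hle')
    subst this
    exact le_antisymm hle hle' ▸ hT'

end Groth.Agent.S16917
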