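import Groth.Statements.S16918
import Groth.Agent.AGFLib.GenSubgroup
import Groth.Agent.Lib.UncountableAvoid
-- import your own Groth.Agent.* helpers here

set_option autoImplicit false
set_option linter.style.haveILetI false
set_option backward.isDefEq.respectTransparency false
set_option backward.isDefEq.respectTransparency.types false
set_option maxHeartbeats 1000000
universe u
open CategoryTheory MonoidalCategory CartesianMonoidalCategory MonObj GrpObj AlgebraicGeometry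
open GrpSch
open Groth.Agent.AGFLib.Gen

namespace Groth.Agent.S16918

/-- Let k be an uncountable algebraically closed field, A an abelian variety over k (a proper,
geometrically integral group scheme over k) and K a subgroup of the group of k-points of A (sections
of A over Spec k, a group through the group structure of A) which is the trace of a countable union
of closed subsets: a k-point belongs to K exactly when its image point lies in some Zₙ. Call an
irreducible closed subset T of A admissible when every k-point whose image lies in T belongs to K.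
Then there is exactly one maximal admissible T containing the image of the neutral element; that T
is contained in some Zₙ, and the k-points landing in T are closed under x, y ↦ x·y⁻¹, so that T is a
closed irreducible subgroup variety of A lying in one of the Zₙ. (The published statement says that
the irredundant decomposition of K has a unique component through 0 and that it is an abelian
subvariety; the maximal admissible subsets are exactly the components of that decomposition, each of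
which lies in some Zₙ, and this containment is the part of the conclusion that uses the
uncountability of k.) -/
theorem result (k : Type u)
    [Field k] [IsAlgClosed k] [Uncountable k] (A : Over (Spec (CommRingCat.of k))) [GrpObj A]
    [IsProper A.hom] [GeometricallyIntegral A.hom]
    (K : Subgroup (𝟙_ (Over (Spec (CommRingCat.of k))) ⟶ A))
    (Z : ℕ → TopologicalSpace.Closeds ↥A.left)
    (hK : ∀ x : 𝟙_ (Over (Spec (CommRingCat.of k))) ⟶ A,
      x ∈ K ↔ Set.range ⇑x.left.base ⊆ ⋃ n, (Z n : Set ↥A.left)) :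
    (∃! T : TopologicalSpace.Closeds ↥A.left,
      Maximal (fun T : TopologicalSpace.Closeds ↥A.left => IsIrreducible (T : Set ↥A.left) ∧
        ∀ x : 𝟙_ (Over (Spec (CommRingCat.of k))) ⟶ A, Set.range ⇑x.left.base ⊆ (T : Set ↥A.left) → x ∈ K) T ∧
      Set.range ⇑(1 : 𝟙_ (Over (Spec (CommRingCat.of k))) ⟶ A).left.base ⊆ (T : Set ↥A.left)) ∧
    ∀ T : TopologicalSpace.Closeds ↥A.left,
      Maximal (fun T : TopologicalSpace.Closeds ↥A.left => IsIrreducible (T : Set ↥A.left) ∧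
        ∀ x : 𝟙_ (Over (Spec (CommRingCat.of k))) ⟶ A, Set.range ⇑x.left.base ⊆ (T : Set ↥A.left) → x ∈ K) T →
      Set.range ⇑(1 : 𝟙_ (Over (Spec (CommRingCat.of k))) ⟶ A).left.base ⊆ (T : Set ↥A.left) →
      (∃ n, (T : Set ↥A.left) ⊆ (Z n : Set ↥A.left)) ∧
      ∀ x y : 𝟙_ (Over (Spec (CommRingCat.of k))) ⟶ A,
        Set.range ⇑x.left.base ⊆ (T : Set ↥A.left) → Set.range ⇑y.left.base ⊆ (T : Set ↥A.left) →
        Set.range ⇑(x * y⁻¹).left.base ⊆ (T : Set ↥A.left) := by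
  classical
  haveI : JacobsonSpace A.left := LocallyOfFiniteType.jacobsonSpace A.hom
  haveI hsub : Subsingleton ↥(𝟙_ (Over (Spec (CommRingCat.of k)))).left := inferInstanceAs (Subsingleton (PrimeSpectrum k))
  have hr : ∀ (x : 𝟙_ (Over (Spec (CommRingCat.of k))) ⟶ A) (S : Set A.left),
      Set.range ⇑x.left.base ⊆ S ↔ cp x ∈ S := fun x S =>
    ⟨fun h => h ⟨IsLocalRing.closedPoint k, rfl⟩, by
      rintro h _ ⟨p, rfl⟩; rwa [Subsingleton.elim p (IsLocalRing.closedPoint k)]⟩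
  simp only [hr] at hK ⊢
  let P : TopologicalSpace.Closeds ↥A.left → Prop := fun T => IsIrreducible (T : Set ↥A.left) ∧
    ∀ x : 𝟙_ (Over (Spec (CommRingCat.of k))) ⟶ A, cp x ∈ (T : Set ↥A.left) → x ∈ K
  show (∃! T, Maximal P T ∧ cp (1 : 𝟙_ (Over (Spec (CommRingCat.of k))) ⟶ A) ∈ (T : Set ↥A.left)) ∧
    ∀ T, Maximal P T → cp (1 : 𝟙_ (Over (Spec (CommRingCat.of k))) ⟶ A) ∈ (T : Set ↥A.left) →
      (∃ n, (T : Set ↥A.left) ⊆ (Z n : Set ↥A.left)) ∧
      ∀ x y : 𝟙_ (Over (Spec (CommRingCat.of k))) ⟶ A, cp x ∈ (T : Set ↥A.left) → cp y ∈ (T : Set ↥A.left) →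
        cp (x * y⁻¹) ∈ (T : Set ↥A.left)
  -- rational points are dense in closed sets
  have hdense : ∀ (T : TopologicalSpace.Closeds ↥A.left) (C : Set A.left), IsClosed C →
      (∀ x : 𝟙_ (Over (Spec (CommRingCat.of k))) ⟶ A, cp x ∈ (T : Set ↥A.left) → cp x ∈ C) → (T : Set A.left) ⊆ C := by
    intro T C hC h
    by_contra hne
    obtain ⟨z, hz, hz'⟩ := nonempty_inter_closedPoints (Z := (T : Set A.left) \ C) (Set.sdiff_nonempty.2 hne)
      (T.isClosed.isLocallyClosed.inter hC.isOpen_compl.isLocallyClosed)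
    obtain ⟨g, rfl⟩ := exists_cp hz'
    exact hz.2 (h g hz.1)
  -- an irreducible set whose points are covered lies in a member
  have hmem : ∀ (T : TopologicalSpace.Closeds ↥A.left) (C : ℕ → TopologicalSpace.Closeds ↥A.left),
      IsIrreducible (T : Set ↥A.left) →
      (∀ x : 𝟙_ (Over (Spec (CommRingCat.of k))) ⟶ A, cp x ∈ (T : Set ↥A.left) → ∃ n, cp x ∈ C n) →
      ∃ n, (T : Set ↥A.left) ⊆ (C n : Set ↥A.left) := by
    intro T C hT h
    by_contra hne
    obtain ⟨z, hz, hzc, hzC⟩ := UncountableAvoid.exists_closedPoint_avoid k A.left A.hom (T : Set A.left) T.isClosed hT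
      C (fun n hn => hne ⟨n, hn⟩)
    obtain ⟨g, rfl⟩ := exists_cp hzc
    obtain ⟨n, hn⟩ := h g hz
    exact hzC n hn
  have hZ : ∀ T, P T → ∀ x : 𝟙_ (Over (Spec (CommRingCat.of k))) ⟶ A, cp x ∈ (T : Set ↥A.left) →
      ∃ n, cp x ∈ Z n := fun T hT x hx => Set.mem_iUnion.1 ((hK x).1 (hT.2 x hx))
  -- products of two admissible sets
  have key : ∀ (ψ : A ⟶ A), (∀ y ∈ K, y ≫ ψ ∈ K) → ∀ T₁ T₂, P T₁ → P T₂ →
      ∃ W, P W ∧ ∀ x y : 𝟙_ (Over (Spec (CommRingCat.of k))) ⟶ A, cp x ∈ (T₁ : Set ↥A.left) →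
        cp y ∈ (T₂ : Set ↥A.left) → cp (x * (y ≫ ψ)) ∈ (W : Set ↥A.left) := by
    intro ψ hψ T₁ T₂ h₁ h₂
    let L : (𝟙_ (Over (Spec (CommRingCat.of k))) ⟶ A) → (A ⟶ A) := fun x => (toUnit A ≫ x) * ψ
    let R : (𝟙_ (Over (Spec (CommRingCat.of k))) ⟶ A) → (A ⟶ A) := fun y => 𝟙 A * (toUnit A ≫ y ≫ ψ)
    have hpt : ∀ g : 𝟙_ (Over (Spec (CommRingCat.of k))) ⟶ A, g ≫ toUnit A = 𝟙 _ := fun g => toUnit_unique _ _
    have hL : ∀ x y, (L x).left (cp y) = cp (x * (y ≫ ψ)) := fun x y => by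
      rw [← cp_comp, MonObj.comp_mul, reassoc_of% hpt y]
    have hR : ∀ x y, (R y).left (cp x) = cp (x * (y ≫ ψ)) := fun x y => by
      rw [← cp_comp, MonObj.comp_mul, Category.comp_id, reassoc_of% hpt x]
    let S : Set A.left := {z | ∃ x y, cp x ∈ (T₁ : Set ↥A.left) ∧ cp y ∈ (T₂ : Set ↥A.left) ∧
      cp (x * (y ≫ ψ)) = z}
    have hsub : ∀ (C : ℕ → TopologicalSpace.Closeds ↥A.left),
        (∀ z ∈ S, ∃ n, z ∈ C n) → ∃ n, S ⊆ (C n : Set A.left) := by
      intro C hC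
      let D : ℕ → TopologicalSpace.Closeds ↥A.left := fun n =>
        ⨅ y : {y : 𝟙_ (Over (Spec (CommRingCat.of k))) ⟶ A // cp y ∈ (T₂ : Set ↥A.left)},
          ⟨(R y.1).left ⁻¹' C n, (C n).isClosed.preimage (R y.1).left.continuous⟩
      have hD : ∀ n x, cp x ∈ D n ↔ ∀ y, cp y ∈ (T₂ : Set ↥A.left) → cp (x * (y ≫ ψ)) ∈ C n := fun n x => by
        rw [TopologicalSpace.Closeds.mem_iInf]
        exact ⟨fun h y hy => hR x y ▸ h ⟨y, hy⟩, fun h y => show (R y.1).left (cp x) ∈ C n from (hR x y.1).symm ▸ h y.1 y.2⟩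
      obtain ⟨n, hn⟩ := hmem T₁ D h₁.1 fun x hx => by
        obtain ⟨n, hn⟩ := hmem T₂ (fun n => ⟨(L x).left ⁻¹' C n, (C n).isClosed.preimage (L x).left.continuous⟩)
          h₂.1 fun y hy => by
            obtain ⟨n, hn⟩ := hC _ ⟨x, y, hx, hy, rfl⟩
            exact ⟨n, show (L x).left (cp y) ∈ C n from (hL x y).symm ▸ hn⟩
        exact ⟨n, (hD n x).2 fun y hy => hL x y ▸ hn hy⟩
      refine ⟨n, ?_⟩
      rintro _ ⟨x, y, hx, hy, rfl⟩
      exact (hD n x).1 (hn hx) y hy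
    have hSK : ∀ z ∈ S, ∃ n, z ∈ Z n := by
      rintro _ ⟨x, y, hx, hy, rfl⟩
      exact Set.mem_iUnion.1 ((hK _).1 (K.mul_mem (h₁.2 x hx) (hψ y (h₂.2 y hy))))
    obtain ⟨n, hn⟩ := hsub Z hSK
    have hne : S.Nonempty := by
      have aux : ∀ T, P T → ∃ x : 𝟙_ (Over (Spec (CommRingCat.of k))) ⟶ A, cp x ∈ (T : Set ↥A.left) := fun T hT => by
        obtain ⟨z, hz, hz'⟩ := nonempty_inter_closedPoints hT.1.nonempty T.isClosed.isLocallyClosed
        obtain ⟨g, rfl⟩ := exists_cp hz'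
        exact ⟨g, hz⟩
      obtain ⟨x, hx⟩ := aux T₁ h₁; obtain ⟨y, hy⟩ := aux T₂ h₂
      exact ⟨_, x, y, hx, hy, rfl⟩
    refine ⟨⟨closure S, isClosed_closure⟩, ⟨⟨hne.closure, isPreirreducible_iff_isClosed_union_isClosed.2 ?_⟩,
      fun x hx => (hK x).2 (Set.mem_iUnion.2 ⟨n, closure_minimal hn (Z n).isClosed hx⟩)⟩,
      fun x y hx hy => subset_closure ⟨x, y, hx, hy, rfl⟩⟩
    intro C₁ C₂ hC₁ hC₂ hcov
    obtain ⟨m, hm⟩ := hsub (fun m => if m = 0 then ⟨C₁, hC₁⟩ else ⟨C₂, hC₂⟩) fun z hz => by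
      rcases hcov (subset_closure hz) with h | h
      · exact ⟨0, by rw [if_pos rfl]; exact h⟩
      · exact ⟨1, by rw [if_neg one_ne_zero]; exact h⟩
    split_ifs at hm
    · exact Or.inl (closure_minimal hm hC₁)
    · exact Or.inr (closure_minimal hm hC₂)
  -- existence
  let T₀ : TopologicalSpace.Closeds ↥A.left :=
    ⟨{cp (1 : 𝟙_ (Over (Spec (CommRingCat.of k))) ⟶ A)}, isClosed_cp _⟩
  have hT₀ : P T₀ := ⟨isIrreducible_singleton, fun x hx => by
    rw [cp_injective (show cp x = cp 1 from hx)]; exact K.one_mem⟩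
  obtain ⟨T, hT, hle⟩ := UncountableAvoid.exists_maximal_irreducible k A.left A.hom {T | P T} (fun T hT => hT.1) T₀ hT₀
  have h1T : cp (1 : 𝟙_ (Over (Spec (CommRingCat.of k))) ⟶ A) ∈ (T : Set ↥A.left) := hle rfl
  have huniq : ∀ T₁ T₂, Maximal P T₁ → Maximal P T₂ → cp (1 : 𝟙_ (Over (Spec (CommRingCat.of k))) ⟶ A) ∈ (T₁ : Set ↥A.left) →
      cp (1 : 𝟙_ (Over (Spec (CommRingCat.of k))) ⟶ A) ∈ (T₂ : Set ↥A.left) → T₁ = T₂ := by
    intro T₁ T₂ h₁ h₂ e₁ e₂
    obtain ⟨W, hW, hWm⟩ := key (𝟙 A) (fun y hy => by rwa [Category.comp_id]) T₁ T₂ h₁.1 h₂.1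
    have hW₁ : T₁ = W := h₁.eq_of_le hW (hdense _ _ W.isClosed fun x hx => by simpa using hWm x 1 hx e₂)
    have hW₂ : T₂ = W := h₂.eq_of_le hW (hdense _ _ W.isClosed fun y hy => by simpa using hWm 1 y e₁ hy)
    rw [hW₁, hW₂]
  refine ⟨⟨T, ⟨hT, h1T⟩, fun T' hT' => huniq T' T hT'.1 hT hT'.2 h1T⟩, fun T hT h1 => ⟨hmem T Z hT.1.1 (hZ T hT.1), ?_⟩⟩
  obtain ⟨W, hW, hWm⟩ := key (𝟙 A)⁻¹ (fun y hy => by rw [GrpObj.comp_inv, Category.comp_id]; exact K.inv_mem hy) T T hT.1 hT.1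
  have hTW : T = W := hT.eq_of_le hW (hdense _ _ W.isClosed fun x hx => by
    simpa [GrpObj.comp_inv] using hWm x 1 hx h1)
  intro x y hx hy
  have := hWm x y hx hy
  rw [GrpObj.comp_inv, Category.comp_id, ← hTW] at this
  exact this

end Groth.Agent.S16918
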