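import Groth.Statements.S16919
import Mathlib.FieldTheory.IsAlgClosed.Classification
import Mathlib.RingTheory.AlgebraicIndependent.TranscendenceBasis
import Mathlib.SetTheory.Cardinal.Arithmetic
import Mathlib.RingTheory.FiniteStability
import Mathlib.RingTheory.AlgebraicIndependent.Transcendental
-- import your own Groth.Agent.* helpers here

set_option autoImplicit false
universe u
open TensorProduct
open CAlg

namespace Groth.Agent.S16919

theorem exists_equiv_of_trdeg {R K L : Type u} [CommRing R] [Field K] [IsAlgClosed K] [Algebra R K]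
    [Field L] [IsAlgClosed L] [Algebra R L] (hK : Function.Injective (algebraMap R K))
    (hL : Function.Injective (algebraMap R L)) (h : Algebra.trdeg R K = Algebra.trdeg R L) :
    ∃ e : K ≃+* L, ∀ r, e (algebraMap R K r) = algebraMap R L r := by
  haveI := (algebraMap R K).domain_nontrivial
  haveI := (faithfulSMul_iff_algebraMap_injective R K).2 hK
  haveI := (faithfulSMul_iff_algebraMap_injective R L).2 hL
  obtain ⟨ι, v, hv⟩ := exists_isTranscendenceBasis' R K
  obtain ⟨κ, w, hw⟩ := exists_isTranscendenceBasis' R L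
  obtain ⟨e⟩ : Nonempty (ι ≃ κ) := Cardinal.eq.1 (by rw [hv.cardinalMk_eq_trdeg, hw.cardinalMk_eq_trdeg, h])
  letI := IsAlgClosed.isAlgClosure_of_transcendence_basis v hv
  letI := IsAlgClosed.isAlgClosure_of_transcendence_basis w hw
  let e' : Algebra.adjoin R (Set.range v) ≃ₐ[R] Algebra.adjoin R (Set.range w) :=
    hv.1.aevalEquiv.symm.trans ((MvPolynomial.renameEquiv R e).trans hw.1.aevalEquiv)
  refine ⟨IsAlgClosure.equivOfEquiv K L e'.toRingEquiv, fun r => ?_⟩
  rw [IsScalarTower.algebraMap_apply R (Algebra.adjoin R (Set.range v)) K,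
    IsAlgClosure.equivOfEquiv_algebraMap,
    IsScalarTower.algebraMap_apply R (Algebra.adjoin R (Set.range w)) L]
  exact congrArg _ (e'.commutes r)

theorem eq_of_add_eq {a x κ : Cardinal.{u}} (ha : a < Cardinal.aleph0) (hκ : Cardinal.aleph0 ≤ κ)
    (h : a + x = κ) : x = κ := by
  have hx : Cardinal.aleph0 ≤ x := by
    by_contra! hx
    exact (Cardinal.add_lt_aleph0 ha hx).not_ge (h ▸ hκ)
  rw [← h, Cardinal.add_eq_right hx (ha.le.trans hx)]

/-- Let k₀ → k be an extension of fields with k algebraically closed and of infinite transcendence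
degree over k₀, R₀ a finitely generated k₀-algebra whose base change R = k ⊗ R₀ is an integral
domain (so Spec R is an integral affine k-scheme of finite type with the model Spec R₀ over k₀), and
P a k-point of Spec R, i.e. a k-algebra homomorphism ev : R → k, lying over the generic point of
Spec R₀, i.e. with ev injective on R₀. Then there is a field isomorphism e from an algebraic closure
of the fraction field of R (the function field of Spec R) onto k such that e(1 ⊗ r) = ev(1 ⊗ r) for
every r in R₀: e extends evaluation at P on R₀. (The published setting has k algebraically closed of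
characteristic zero and of infinite transcendence degree over its prime field, and k₀ the subfield
generated by the coefficients of equations of Spec R, which is finitely generated over the prime
field, so that k has infinite transcendence degree over k₀; only this last property and no
characteristic assumption enter here. The isomorphism is not canonical.) -/
theorem result (k₀ k : Type u)
    [Field k₀] [Field k] [Algebra k₀ k] [IsAlgClosed k] (hinf : ∃ x : ℕ → k, AlgebraicIndependent k₀ x)
    (R₀ : Type u) [CommRing R₀] [Algebra k₀ R₀] [Algebra.FiniteType k₀ R₀] [IsDomain (k ⊗[k₀] R₀)]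
    (ev : k ⊗[k₀] R₀ →ₐ[k] k) (hP : Function.Injective fun r : R₀ => ev (1 ⊗ₜ[k₀] r)) :
    ∃ e : AlgebraicClosure (FractionRing (k ⊗[k₀] R₀)) ≃+* k,
      ∀ r : R₀, e (algebraMap (k ⊗[k₀] R₀) (AlgebraicClosure (FractionRing (k ⊗[k₀] R₀)))
        (1 ⊗ₜ[k₀] r)) = ev (1 ⊗ₜ[k₀] r) := by
  obtain ⟨x, hx⟩ := hinf
  let R := k ⊗[k₀] R₀
  let Ω := AlgebraicClosure (FractionRing R)
  let j : R₀ →+* R := (Algebra.TensorProduct.includeRight : R₀ →ₐ[k₀] R).toRingHom
  have hP' : Function.Injective (ev.toRingHom.comp j) := hP
  have hj : Function.Injective j := fun a b h => hP (congrArg ev h)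
  haveI : IsDomain R₀ := hP'.isDomain _
  letI : Algebra R₀ Ω := ((algebraMap R Ω).comp j).toAlgebra
  haveI : IsScalarTower k₀ R₀ Ω := IsScalarTower.of_algebraMap_eq fun c => by
    show _ = algebraMap R Ω (j (algebraMap k₀ R₀ c))
    rw [show j (algebraMap k₀ R₀ c) = algebraMap k₀ R c from
      (Algebra.TensorProduct.includeRight : R₀ →ₐ[k₀] R).commutes c, ← IsScalarTower.algebraMap_apply]
  have hRΩ : Function.Injective (algebraMap R Ω) := by
    rw [IsScalarTower.algebraMap_eq R (FractionRing R) Ω]
    exact (algebraMap (FractionRing R) Ω).injective.comp (IsFractionRing.injective R (FractionRing R))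
  haveI : FaithfulSMul R₀ Ω := (faithfulSMul_iff_algebraMap_injective R₀ Ω).2 (hRΩ.comp hj)
  haveI : FaithfulSMul R Ω := (faithfulSMul_iff_algebraMap_injective R Ω).2 hRΩ
  haveI : FaithfulSMul k₀ R₀ := (faithfulSMul_iff_algebraMap_injective k₀ R₀).2 (algebraMap k₀ R₀).injective
  haveI : FaithfulSMul k R := (faithfulSMul_iff_algebraMap_injective k R).2 (algebraMap k R).injective
  haveI : FaithfulSMul k₀ R := (faithfulSMul_iff_algebraMap_injective k₀ R).2 (algebraMap k₀ R).injective
  have hκ : Cardinal.aleph0 ≤ Algebra.trdeg k₀ k := by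
    simpa using hx.lift_cardinalMk_le_trdeg
  have hR : Algebra.trdeg k₀ R = Algebra.trdeg k₀ k := by
    rw [← trdeg_add_eq k₀ k (A := R)]
    exact Cardinal.add_eq_left hκ ((trdeg_lt_aleph0_of_finiteType (R := k) (S := R)).le.trans hκ)
  have hΩ : Algebra.trdeg k₀ Ω = Algebra.trdeg k₀ k := by
    haveI : Algebra.IsAlgebraic R Ω := by
      haveI : Algebra.IsAlgebraic R (FractionRing R) := IsLocalization.isAlgebraic (FractionRing R) (nonZeroDivisors R)
      exact Algebra.IsAlgebraic.trans R (FractionRing R) Ω
    rw [← trdeg_add_eq k₀ R (A := Ω), trdeg_eq_zero (R := R) (A := Ω), add_zero, hR]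
  have hfin : Algebra.trdeg k₀ R₀ < Cardinal.aleph0 := trdeg_lt_aleph0_of_finiteType
  have hxΩ := eq_of_add_eq hfin hκ ((trdeg_add_eq k₀ R₀ (A := Ω)).trans hΩ)
  letI : Algebra R₀ k := (ev.toRingHom.comp j).toAlgebra
  haveI : IsScalarTower k₀ R₀ k := IsScalarTower.of_algebraMap_eq fun c => by
    show _ = ev (1 ⊗ₜ algebraMap k₀ R₀ c)
    rw [← Algebra.TensorProduct.includeRight_apply, AlgHom.commutes,
      IsScalarTower.algebraMap_apply k₀ k R, ev.commutes]
    rfl
  haveI : FaithfulSMul R₀ k := (faithfulSMul_iff_algebraMap_injective R₀ k).2 hP'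
  obtain ⟨e, he⟩ := exists_equiv_of_trdeg (R := R₀) (K := Ω) (L := k) (hRΩ.comp hj) hP'
    (hxΩ.trans (eq_of_add_eq hfin hκ (trdeg_add_eq k₀ R₀ (A := k))).symm)
  exact ⟨e, he⟩

end Groth.Agent.S16919
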