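import Groth.Statements.S1692
import Groth.Agent.AssPtX.Basic

set_option autoImplicit false
universe u
open CategoryTheory CategoryTheory.Limits AlgebraicGeometry TopologicalSpace
open SDiv

namespace Groth.Agent.S1692

/-- Let X be a locally Noetherian integral scheme and f a nonzero rational function. Then the closures
of the codimension-one points at which f has nonzero order of vanishing form a locally finite family
of closed subsets of X. -/
theorem result (X : Scheme.{u}) [IsIntegral X] [IsLocallyNoetherian X] (f : ↑X.functionField) (hf : f ≠ 0) :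
    LocallyFinite (fun ξ : {ξ : ↥X // Order.coheight ξ = 1 ∧ Scheme.ord f ξ ≠ 0} => closure ({ξ.1} : Set ↥X)) := by
  intro x
  obtain ⟨V, hV, hxV, -⟩ := exists_isAffineOpen_mem_and_subset (x := x) (U := ⊤) trivial
  refine ⟨(V : Set X), V.isOpen.mem_nhds hxV, ?_⟩
  haveI : Nonempty V := ⟨⟨x, hxV⟩⟩
  haveI : IsNoetherianRing Γ(X, V) := IsLocallyNoetherian.component_noetherian ⟨V, hV⟩
  haveI := functionField_isFractionRing_of_isAffineOpen X V hV
  obtain ⟨a, b, hb, hab⟩ := IsFractionRing.div_surjective (A := Γ(X, V)) f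
  have hb0 : b ≠ 0 := nonZeroDivisors.ne_zero hb
  have ha0 : a ≠ 0 := by
    rintro rfl
    exact hf (by rw [← hab, map_zero, zero_div])
  have hab' : f * X.germToFunctionField V b = X.germToFunctionField V a := by
    rw [← hab]
    exact div_mul_cancel₀ _ ((map_ne_zero_iff _ (Scheme.germToFunctionField_injective X V)).2 hb0)
  have hgen : ∀ c : Γ(X, V), c ≠ 0 → ∀ ξ : X, ∀ hξ : ξ ∈ V, ξ ∈ X.basicOpen c →
      Scheme.ord (X.germToFunctionField V c) ξ = 0 := by
    intro c hc ξ hξ hξc
    haveI : Nonempty (X.basicOpen c) := ⟨⟨ξ, hξc⟩⟩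
    have h1 : X.germToFunctionField (X.basicOpen c) (X.presheaf.map (homOfLE (X.basicOpen_le c)).op c) =
        X.germToFunctionField V c := X.presheaf.germ_res_apply _ _ _ c
    rw [← h1]
    exact Scheme.ord_of_isUnit (U := X.basicOpen c) (X.toRingedSpace.isUnit_res_basicOpen c) hξc
  have hkey : ∀ ξ : X, Order.coheight ξ = 1 → Scheme.ord f ξ ≠ 0 → ∀ hξ : ξ ∈ V,
      (hV.primeIdealOf ⟨ξ, hξ⟩).asIdeal ∈ (Ideal.span {a}).minimalPrimes ∪ (Ideal.span {b}).minimalPrimes := by
    intro ξ h1 h2 hξ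
    have hab0 : a ∈ (hV.primeIdealOf ⟨ξ, hξ⟩).asIdeal ∨ b ∈ (hV.primeIdealOf ⟨ξ, hξ⟩).asIdeal := by
      by_contra hc
      push Not at hc
      refine h2 ?_
      have := congrArg (fun t => Scheme.ord t ξ) hab'
      simp only [Scheme.ord_mul hf ((map_ne_zero_iff _ (Scheme.germToFunctionField_injective X V)).2 hb0),
        hgen a ha0 ξ hξ ((QCoh.mem_basicOpen_iff_notMem hV hξ a).2 hc.1),
        hgen b hb0 ξ hξ ((QCoh.mem_basicOpen_iff_notMem hV hξ b).2 hc.2), add_zero] at this
      exact this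
    have hmin : ∀ c : Γ(X, V), c ≠ 0 → c ∈ (hV.primeIdealOf ⟨ξ, hξ⟩).asIdeal →
        (hV.primeIdealOf ⟨ξ, hξ⟩).asIdeal ∈ (Ideal.span {c}).minimalPrimes := by
      intro c hc hcm
      refine ⟨⟨(hV.primeIdealOf ⟨ξ, hξ⟩).isPrime, (Ideal.span_singleton_le_iff_mem _).2 hcm⟩, fun q hq hle => ?_⟩
      obtain ⟨y, hy, hyq⟩ := QCoh.exists_point hV ⟨q, hq.1⟩
      by_contra hnle
      have hyξ : y ⤳ ξ := (AssPtX.primeIdealOf_le_iff hV hy hξ).1 (by rw [hyq]; exact hle)
      have hne : ¬ ξ ⤳ y := fun h => hnle (by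
        have h3 := (AssPtX.primeIdealOf_le_iff hV hξ hy).2 h
        rw [hyq] at h3
        exact h3)
      have hgV : genericPoint X ∈ V := ((genericPoint_spec X).mem_open_set_iff V.2).2 (by simpa using ⟨x, hxV⟩)
      have hgy : genericPoint X ⤳ y := (genericPoint_spec X).specializes trivial
      have hne2 : ¬ y ⤳ genericPoint X := fun h => hc ((map_eq_zero_iff _ (Scheme.germToFunctionField_injective X V)).1 (by
        have h3 := (AssPtX.primeIdealOf_le_iff hV hy hgV).2 h
        rw [hyq] at h3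
        have h4 : c ∈ (hV.primeIdealOf ⟨genericPoint X, hgV⟩).asIdeal :=
          h3 (hq.2 (Ideal.mem_span_singleton_self c))
        by_contra hne0
        refine (QCoh.mem_basicOpen_iff_notMem hV hgV c).1 ((X.mem_basicOpen c _ hgV).2 ?_) h4
        exact isUnit_iff_ne_zero.2 (show X.germToFunctionField V c ≠ 0 from hne0) ))
      have hlt1 : ξ < y := lt_of_le_not_ge hyξ hne
      have hlt2 : y < genericPoint X := lt_of_le_not_ge hgy hne2
      have hle1 := Order.coheight_add_one_le hlt1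
      have hle2 := Order.coheight_add_one_le hlt2
      have : (0 : ℕ∞) + 1 + 1 ≤ Order.coheight ξ :=
        le_trans (add_le_add (le_trans (add_le_add zero_le le_rfl) hle2) le_rfl) hle1
      rw [h1] at this
      exact absurd this (by decide)
    rcases hab0 with h | h
    · exact Or.inl (hmin a ha0 h)
    · exact Or.inr (hmin b hb0 h)
  have hfin : (hV.fromSpec '' ((fun P : PrimeSpectrum Γ(X, V) => P.asIdeal) ⁻¹'
      ((Ideal.span {a}).minimalPrimes ∪ (Ideal.span {b}).minimalPrimes))).Finite :=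
    (((Ideal.finite_minimalPrimes_of_isNoetherianRing Γ(X, V) _).union
      (Ideal.finite_minimalPrimes_of_isNoetherianRing Γ(X, V) _)).preimage
        (fun P _ Q _ h => PrimeSpectrum.ext h)).image _
  refine (hfin.preimage Subtype.val_injective.injOn).subset ?_
  rintro ⟨ξ, h1, h2⟩ ⟨z, hz, hzV⟩
  have hξ : ξ ∈ V := (specializes_iff_mem_closure.2 hz).mem_open V.2 hzV
  exact ⟨hV.primeIdealOf ⟨ξ, hξ⟩, hkey ξ h1 h2 hξ, hV.fromSpec_primeIdealOf ⟨ξ, hξ⟩⟩

end Groth.Agent.S1692
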