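import Groth.Statements.S1693


set_option autoImplicit false
universe u
open CategoryTheory CategoryTheory.Limits AlgebraicGeometry TopologicalSpace
open SDiv

namespace Groth.Agent.S1693

/-- Let X be a locally Noetherian scheme and Z a closed subset. Then the irreducible components of Z
form a locally finite family of subsets of X. -/
theorem result (X : Scheme.{u}) [IsLocallyNoetherian X] (Z : Set ↥X) (hZ : IsClosed Z) :
    LocallyFinite (fun T : ↥(irreducibleComponents ↥Z) => ((↑) '' (T.1 : Set ↥Z) : Set ↥X)) := by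
  intro x
  by_cases hx : x ∈ Z
  swap
  · refine ⟨Zᶜ, hZ.isOpen_compl.mem_nhds hx, ?_⟩
    convert Set.finite_empty
    rw [Set.eq_empty_iff_forall_notMem]
    rintro T ⟨y, ⟨⟨z, hz⟩, -, rfl⟩, hy⟩
    exact hy hz
  obtain ⟨V, hV, hxV, -⟩ := exists_isAffineOpen_mem_and_subset (X := X) (x := x) (U := ⊤) trivial
  refine ⟨(V : Set X), V.isOpen.mem_nhds hxV, ?_⟩
  haveI : IsNoetherianRing Γ(X, V) := IsLocallyNoetherian.component_noetherian ⟨V, hV⟩
  haveI : TopologicalSpace.NoetherianSpace (V : Set X) := noetherianSpace_of_isAffineOpen V hV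
  let W : Set ↥Z := Subtype.val ⁻¹' (V : Set X)
  have hW : IsOpen W := V.isOpen.preimage continuous_subtype_val
  haveI : TopologicalSpace.NoetherianSpace W := by
    have hind : Topology.IsInducing (fun w : W => (⟨w.1.1, w.2⟩ : (V : Set X))) :=
      Topology.IsInducing.subtypeVal.comp Topology.IsInducing.subtypeVal |>.codRestrict _
    exact hind.noetherianSpace
  refine Set.Finite.subset (((TopologicalSpace.NoetherianSpace.finite_irreducibleComponents (α := W)).image
    (fun C : Set W => closure (Subtype.val '' C))).preimage Subtype.val_injective.injOn) ?_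
  rintro ⟨T, hT⟩ ⟨y, ⟨z, hzT, rfl⟩, hzV⟩
  have h1 : IsIrreducible (Subtype.val ⁻¹' T : Set W) :=
    ⟨⟨⟨z, hzV⟩, hzT⟩, hT.1.2.preimage hW.isOpenEmbedding_subtypeVal⟩
  obtain ⟨C, hC, hTC⟩ := exists_mem_irreducibleComponents_subset_of_isIrreducible _ h1
  refine ⟨C, hC, ?_⟩
  have h2 : T ⊆ closure (Subtype.val '' C) := by
    refine (subset_closure_inter_of_isPreirreducible_of_isOpen hT.1.2 hW ⟨z, hzT, hzV⟩).trans
      (closure_mono ?_)
    rintro t ⟨htT, htW⟩
    exact ⟨⟨t, htW⟩, hTC htT, rfl⟩
  exact ((hT.2 ((hC.1.image _ continuous_subtype_val.continuousOn).closure) h2).antisymm h2)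

end Groth.Agent.S1693
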