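import Groth.Statements.S16948
import Groth.Agent.CohBCX.Comp

set_option backward.isDefEq.respectTransparency false
set_option backward.isDefEq.respectTransparency.types false

set_option autoImplicit false
universe u
open Coherent

namespace Groth.Agent.S16948

open AlgebraicGeometry CategoryTheory Scheme.Modules Groth.Agent in
theorem aux {X Y Z U V W : Scheme.{u}} (f : X ⟶ Y) (g : Y ⟶ Z) (ξ : X ⟶ U) (η : Y ⟶ V) (ζ : Z ⟶ W)
    (φ : U ⟶ V) (ψ : V ⟶ W) (w₁ : f ≫ η = ξ ≫ φ) (w₂ : g ≫ ζ = η ≫ ψ)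
    (hw : (f ≫ g) ≫ ζ = ξ ≫ (φ ≫ ψ))
    [HasInjectiveResolutions X.Modules] [HasInjectiveResolutions Y.Modules] [HasInjectiveResolutions Z.Modules]
    (L : Z.Modules) (p : ℕ)
    {Δζ : RDer.DerivedLES (pushforward ζ)} {Δη : RDer.DerivedLES (pushforward η)} {Δξ : RDer.DerivedLES (pushforward ξ)}
    (Eζ : CohCmp.SectCmp ζ Δζ) (Eη : CohCmp.SectCmp η Δη) (Eξ : CohCmp.SectCmp ξ Δξ)
    (B₂ : CohCmp.GenBC ζ ψ η g w₂ Eζ Eη) (B₁ : CohCmp.GenBC η φ ξ f w₁ Eη Eξ)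
    (B : CohCmp.GenBC ζ (φ ≫ ψ) ξ (f ≫ g) hw Eζ Eξ) (O : W.Opens) (x : Coh.HHon Z L (ζ ⁻¹ᵁ O) p) :
    let e := QCoh.pullSec φ _ (le_refl (φ ⁻¹ᵁ (ψ ⁻¹ᵁ O))) (QCoh.pullSec ψ _ (le_refl (ψ ⁻¹ᵁ O)) (Eζ.ε O L p x))
    ((pullbackComp φ ψ).hom.app ((Coh.Rpush ζ p).obj L) ≫ B.bc p L).app (φ ⁻¹ᵁ (ψ ⁻¹ᵁ O)) e =
      ((pullback φ).map (B₂.bc p L) ≫ B₁.bc p ((pullback g).obj L) ≫
        (Coh.Rpush ξ p).map ((pullbackComp f g).hom.app L)).app (φ ⁻¹ᵁ (ψ ⁻¹ᵁ O)) e := by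
  intro e
  let O₁ := ψ ⁻¹ᵁ O
  let O₂ := φ ⁻¹ᵁ O₁
  have hl : (B.bc p L).app O₂ (((pullbackComp φ ψ).hom.app ((Coh.Rpush ζ p).obj L)).app O₂ e) =
      Eξ.ε O₂ ((pullback (f ≫ g)).obj L) p
        (CohPull.pullOn (f ≫ g) (ζ ⁻¹ᵁ O) (ξ ⁻¹ᵁ O₂) (CohCmp.sqLE ζ (φ ≫ ψ) ξ (f ≫ g) hw O) L p x) := by
    refine (congrArg ((B.bc p L).app O₂) (ExistEasy.pullSec_comp φ ψ _ le_rfl le_rfl _)).trans ?_
    refine (CohBCX.bc_app_pullSec hw B p O O₂ le_rfl (Eζ.ε O L p x)).trans ?_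
    exact (QCoh.map_id' (M := (Coh.Rpush ξ p).obj ((pullback (f ≫ g)).obj L)) _ _).trans (B.compat O L p x)
  have hr : ((B₁.bc p ((pullback g).obj L)).app O₂ (((pullback φ).map (B₂.bc p L)).app O₂ e)) =
      Eξ.ε O₂ ((pullback f).obj ((pullback g).obj L)) p
        (CohPull.pullOn f (η ⁻¹ᵁ O₁) (ξ ⁻¹ᵁ O₂) (CohCmp.sqLE η φ ξ f w₁ O₁) _ p
          (CohPull.pullOn g (ζ ⁻¹ᵁ O) (η ⁻¹ᵁ O₁) (CohCmp.sqLE ζ ψ η g w₂ O) L p x)) := by
    refine (congrArg ((B₁.bc p ((pullback g).obj L)).app O₂) (ExistEasy.pullSec_natural φ (B₂.bc p L) le_rfl _)).trans ?_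
    refine (congrArg (fun t => (B₁.bc p ((pullback g).obj L)).app O₂ (QCoh.pullSec φ _ (le_refl O₂) t))
      ((CohBCX.bc_app_pullSec w₂ B₂ p O O₁ le_rfl (Eζ.ε O L p x)).trans
        ((QCoh.map_id' (M := (Coh.Rpush η p).obj ((pullback g).obj L)) _ _).trans (B₂.compat O L p x)))).trans ?_
    refine (CohBCX.bc_app_pullSec w₁ B₁ p O₁ O₂ le_rfl _).trans ?_
    exact (QCoh.map_id' (M := (Coh.Rpush ξ p).obj ((pullback f).obj ((pullback g).obj L))) _ _).trans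
      (B₁.compat O₁ ((pullback g).obj L) p _)
  refine hl.trans (Eq.trans ?_ (congrArg (((Coh.Rpush ξ p).map ((pullbackComp f g).hom.app L)).app O₂) hr).symm)
  exact (congrArg (Eξ.ε O₂ ((pullback (f ≫ g)).obj L) p)
    (CohBCX.pullOn_pullOn f g (ζ ⁻¹ᵁ O) (η ⁻¹ᵁ O₁) (ξ ⁻¹ᵁ O₂) _ _ _ L p x).symm).trans
      (Eξ.natural O₂ ((pullbackComp f g).hom.app L) p _)


open AlgebraicGeometry CategoryTheory Scheme.Modules in
/-- Take two cartesian squares of schemes side by side, f : X → Y over φ : U → V (vertical maps ξ : X →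
U and η : Y → V, f ≫ η = ξ ≫ φ) and g : Y → Z over ψ : V → W (vertical map ζ : Z → W, g ≫ ζ = η ≫
ψ), a quasi-coherent O_Z-module L and a natural number p. Write β for the degree-p base change maps
of higher direct images (R^p the p-th right derived functor of direct image on O-modules; the maps
are the pinned ones of the structure GenBC relative to pinned comparison data for ζ, η and ξ): B₂
for the right square, B₁ for the left square, B for the outer square. Then the composite of the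
composition isomorphism φ^* ψ^* R^p ζ_* L ≅ (φ ≫ ψ)^* R^p ζ_* L with β_B(L) equals φ^* β_{B₂}(L)
followed by β_{B₁}(g^* L) followed by R^p ξ_* of the composition isomorphism f^* g^* L ≅ (f ≫ g)^*
L. The source states this for arbitrary ζ and η; its verification evaluates both sides on sections
of R^p ζ_* L and R^p η_*(g^* L) over affine opens, identified with cohomology classes over their
preimages, and that identification is the one available for ζ and η quasi-compact and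
quasi-separated, which are therefore assumed here. -/
theorem result
    {X Y Z U V W : Scheme.{u}} (f : X ⟶ Y) (g : Y ⟶ Z) (ξ : X ⟶ U) (η : Y ⟶ V) (ζ : Z ⟶ W)
    (φ : U ⟶ V) (ψ : V ⟶ W) (h₁ : IsPullback f ξ η φ) (h₂ : IsPullback g η ζ ψ)
    (hw : (f ≫ g) ≫ ζ = ξ ≫ (φ ≫ ψ))
    [QuasiCompact ζ] [QuasiSeparated ζ] [QuasiCompact η] [QuasiSeparated η]
    [HasInjectiveResolutions X.Modules] [HasInjectiveResolutions Y.Modules] [HasInjectiveResolutions Z.Modules]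
    (L : Z.Modules) [Coh.IsQCoh L] (p : ℕ)
    {Δζ : RDer.DerivedLES (pushforward ζ)} {Δη : RDer.DerivedLES (pushforward η)} {Δξ : RDer.DerivedLES (pushforward ξ)}
    (Eζ : CohCmp.SectCmp ζ Δζ) (Eη : CohCmp.SectCmp η Δη) (Eξ : CohCmp.SectCmp ξ Δξ)
    (B₂ : CohCmp.GenBC ζ ψ η g h₂.w Eζ Eη) (B₁ : CohCmp.GenBC η φ ξ f h₁.w Eη Eξ)
    (B : CohCmp.GenBC ζ (φ ≫ ψ) ξ (f ≫ g) hw Eζ Eξ) :
    (pullbackComp φ ψ).hom.app ((Coh.Rpush ζ p).obj L) ≫ B.bc p L =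
      (pullback φ).map (B₂.bc p L) ≫ B₁.bc p ((pullback g).obj L) ≫
        (Coh.Rpush ξ p).map ((pullbackComp f g).hom.app L) := by
  refine Groth.Agent.CohBCX.hom_ext_pullSec φ ψ _ _ W.isBasis_affineOpens fun V₀ hV₀ t => ?_
  haveI := QCoh.preservesFiniteLimits_push ζ
  obtain ⟨x, rfl⟩ := (CohBCX.bijective_ε_affine ζ Eζ (inferInstance : Coh.IsQCoh L) hV₀ p).2 t
  exact aux f g ξ η ζ φ ψ h₁.w h₂.w hw L p Eζ Eη Eξ B₂ B₁ B V₀ x

end Groth.Agent.S16948
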