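import Groth.Statements.S16951
import Groth.Agent.SeesawX.Crit
import Groth.Agent.H23.PicMul
import Groth.Agent.GeomField.GlobalFunctions
import Groth.Agent.HilbPoly.Poly

set_option autoImplicit false
universe u
open PicF

namespace Groth.Agent.S16951
open Groth.Agent AlgebraicGeometry CategoryTheory

theorem exists_sec {V : Scheme.{u}} {N : V.Modules} (h : Nontrivial (Coh.HH V N 0)) : ∃ z : Γ(N, ⊤), z ≠ 0 := by
  let e := Sheaf.H.equiv₀ (Coh.toAb N) Limits.isTerminalTop
  obtain ⟨a, ha⟩ := exists_ne (0 : Coh.HH V N 0)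
  exact ⟨e a, fun h0 => ha (e.injective (h0.trans (map_zero e).symm))⟩

variable {X S : Scheme.{u}} (f : X ⟶ S) (s : S) (hc : Function.Bijective (f.fiberToSpecResidueField s).appTop)
include hc

theorem isUnit_const (c : Γ(f.fiber s, ⊤)) (h : c ≠ 0) : IsUnit c := by
  obtain ⟨a, rfl⟩ := (hc.comp (ConcreteCategory.bijective_of_isIso (Scheme.ΓSpecIso (S.residueField s)).inv)).2 c
  have ha : a ≠ 0 := fun h0 => h (by subst h0; simp)
  exact ((isUnit_iff_ne_zero.2 ha).map (Scheme.ΓSpecIso (S.residueField s)).inv.hom).map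
    (f.fiberToSpecResidueField s).appTop.hom

theorem fiberRank_one [IsProper f] {N : X.Modules} (e : CohIII.fiberMod f N s ≅ Coh.structureModule (f.fiber s)) :
    CohIII.fiberRank f N 0 s = 1 := by
  letI : (f.fiber s).Over (Spec (CommRingCat.of (S.residueField s))) := ⟨f.fiberToSpecResidueField s⟩
  letI := GeomField.globalAlgebra (S.residueField s) (f.fiber s)
  show Module.finrank (S.residueField s) (Coh.HH (f.fiber s) (CohIII.fiberMod f N s) 0) = 1
  refine (HilbPoly.finrank_HH_iso (S.residueField s) e 0).trans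
    ((GeomField.finrank_HH_zero (S.residueField s) (f.fiber s)).trans ?_)
  let g := ((f.fiberToSpecResidueField s).appTop.hom.comp (Scheme.ΓSpecIso (S.residueField s)).inv.hom)
  have hg : Function.Bijective g :=
    hc.comp (ConcreteCategory.bijective_of_isIso (Scheme.ΓSpecIso (S.residueField s)).inv)
  exact ((LinearEquiv.ofBijective (Algebra.linearMap (S.residueField s) Γ(f.fiber s, ⊤)) hg).finrank_eq).symm.trans
    (Module.finrank_self _)


open AlgebraicGeometry CategoryTheory Scheme.Modules in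
/-- Let f : X → S be a proper flat morphism of locally Noetherian schemes whose fibres are geometrically
integral, and let L be an invertible O_X-module with an inverse M (an isomorphism L ⊗ M ≅ O_X). Then
the following are equivalent: (a) L ≅ f^* L₀ for some invertible O_S-module L₀; (b) for N = L and
for N = M, at every point s of S the space H^0(X_s, N|_{X_s}) of sections over the scheme-theoretic
fibre is nonzero and the degree-0 base change map of the fibre square, κ(s)^* f_* N → (X_s → Spec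
κ(s))_* (N|_{X_s}), is an epimorphism. When this holds, dim_{κ(s)} H^0(X_s, N|_{X_s}) = 1 for every
s and both N, the counit f^* f_* L → L is an isomorphism, and any invertible L₀ with L ≅ f^* L₀ is
isomorphic to f_* L. -/
theorem result
    {X S : Scheme.{u}} (f : X ⟶ S) [IsProper f] [Flat f] [IsLocallyNoetherian X] [IsLocallyNoetherian S]
    [GeometricallyIntegral f] (L M : X.Modules) (hL : PicF.IsInvertible L)
    (hM : Nonempty (CohB1.tensorMod L M ≅ Coh.structureModule X)) :
    ((∃ L₀ : S.Modules, PicF.IsInvertible L₀ ∧ Nonempty (L ≅ (pullback f).obj L₀)) ↔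
      ((∀ s : S, Nontrivial (CohIII.fiberH f L s 0)) ∧ (∀ s : S, Nontrivial (CohIII.fiberH f M s 0)) ∧
        (∀ s : S, Epi (CohBC.bc0 f (S.fromSpecResidueField s) (f.fiberToSpecResidueField s) (f.fiberι s) (f.fiber_fac s) L)) ∧ (∀ s : S, Epi (CohBC.bc0 f (S.fromSpecResidueField s) (f.fiberToSpecResidueField s) (f.fiberι s) (f.fiber_fac s) M)))) ∧
    (((∀ s : S, Nontrivial (CohIII.fiberH f L s 0)) ∧ (∀ s : S, Nontrivial (CohIII.fiberH f M s 0)) ∧
        (∀ s : S, Epi (CohBC.bc0 f (S.fromSpecResidueField s) (f.fiberToSpecResidueField s) (f.fiberι s) (f.fiber_fac s) L)) ∧ (∀ s : S, Epi (CohBC.bc0 f (S.fromSpecResidueField s) (f.fiberToSpecResidueField s) (f.fiberι s) (f.fiber_fac s) M))) →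
      (∀ s : S, CohIII.fiberRank f L 0 s = 1 ∧ CohIII.fiberRank f M 0 s = 1) ∧
      IsIso ((pullbackPushforwardAdjunction f).counit.app L) ∧
      ∀ L₀ : S.Modules, PicF.IsInvertible L₀ → Nonempty (L ≅ (pullback f).obj L₀) →
        Nonempty (L₀ ≅ (pushforward f).obj L)) := by

    have hc := H23.RigidApply.constFibres_of_geometricallyIntegral f
    have hu : SeesawX.UnivPush f := fun T XT g fT gT hT W => SeesawX.bijective_app_baseChange f hc hT W
    have hf : ∀ W : S.Opens, Function.Bijective (f.app W) := fun W =>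
      SeesawX.bijective_app_baseChange f hc (IsPullback.of_horiz_isIso ⟨(Category.id_comp f).trans (Category.comp_id f).symm⟩ :
        IsPullback (𝟙 X) f f (𝟙 S)) W
    obtain ⟨φ⟩ := hM
    obtain ⟨D, hD, ⟨eD⟩⟩ := H23.PicInv.exists_inverse hL
    have hMi : PicF.IsInvertible M := H23.PicMul.isInvertible_of_iso
      ((H23.PicMul.unit D).some.symm ≪≫ PicGrp.tensorModIso (Iso.refl D) φ.symm ≪≫ (H23.PicMul.assoc D L M).some.symm ≪≫
        PicGrp.tensorModIso ((H23.PicMul.comm D L).some ≪≫ eD) (Iso.refl M) ≪≫ (H23.PicMul.comm _ M).some ≪≫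
        (H23.PicMul.unit M).some) hD
    have hsec : ∀ (N : X.Modules), PicF.IsInvertible N → (∀ s : S, Nontrivial (CohIII.fiberH f N s 0)) →
        ∀ s : S, ∃ z : Γ(CohIII.fiberMod f N s, ⊤), z ≠ 0 := fun N _ h s => exists_sec (h s)
    have htriv : (∀ s : S, Nontrivial (CohIII.fiberH f L s 0)) → (∀ s : S, Nontrivial (CohIII.fiberH f M s 0)) →
        ∀ s : S, Nonempty ((Scheme.Modules.pullback (f.fiberι s)).obj L ≅ Coh.structureModule (f.fiber s)) := fun h₁ h₂ s => by
      obtain ⟨a, ha⟩ := hsec L hL h₁ s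
      obtain ⟨b, hb⟩ := hsec M hMi h₂ s
      obtain ⟨p⟩ := H23.PicMul.pull (f.fiberι s) L M
      obtain ⟨o⟩ := PicClLib.nonempty_pullback_structureModule (f.fiberι s)
      exact SeesawX.triv_of_pair (PicClLib.isInvertible_pullback _ hL) (PicClLib.isInvertible_pullback _ hMi)
        (p.symm ≪≫ (Scheme.Modules.pullback (f.fiberι s)).mapIso φ ≪≫ o) (isUnit_const f s (hc s)) ha hb
    have hdir : ∀ (N : X.Modules) (N₀ : S.Modules), PicF.IsInvertible N₀ → (N ≅ (Scheme.Modules.pullback f).obj N₀) →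
        ∀ s : S, CohIII.fiberRank f N 0 s = 1 ∧ Epi (CohBC.bc0 f (S.fromSpecResidueField s) (f.fiberToSpecResidueField s)
          (f.fiberι s) (f.fiber_fac s) N) := fun N N₀ h₀ e s => by
      refine ⟨fiberRank_one f s (hc s) (SeesawX.fibre_triv_of_fromBase f h₀ e s).some, ?_⟩
      haveI := SeesawX.isIso_bc0_of_iso (f.fiber_fac s) e.symm (SeesawX.isIso_bc0_pullback (f.fiber_fac s) hf
        (SeesawX.bijective_fibre_app f s (hc s)) (SeesawX.isFinLocFreeOfRank_one h₀))
      infer_instance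
    have hab : (∀ s : S, Nontrivial (CohIII.fiberH f L s 0)) ∧ (∀ s : S, Nontrivial (CohIII.fiberH f M s 0)) ∧
          (∀ s : S, Epi (CohBC.bc0 f (S.fromSpecResidueField s) (f.fiberToSpecResidueField s) (f.fiberι s) (f.fiber_fac s) L)) ∧
          (∀ s : S, Epi (CohBC.bc0 f (S.fromSpecResidueField s) (f.fiberToSpecResidueField s) (f.fiberι s) (f.fiber_fac s) M)) →
        PicF.IsInvertible ((Scheme.Modules.pushforward f).obj L) ∧
          IsIso ((Scheme.Modules.pullbackPushforwardAdjunction f).counit.app L) := fun h =>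
      SeesawX.pushforward_of_epi f hc hL (htriv h.1 h.2.1) h.2.2.1
    refine ⟨⟨?_, fun h => ?_⟩, fun h => ?_⟩
    · rintro ⟨L₀, h₀, ⟨e⟩⟩
      obtain ⟨N₀, hN₀, ⟨eN⟩⟩ := H23.PicInv.exists_inverse h₀
      obtain ⟨o⟩ := PicClLib.nonempty_pullback_structureModule f
      let e' : CohB1.tensorMod L ((Scheme.Modules.pullback f).obj N₀) ≅ Coh.structureModule X :=
        PicGrp.tensorModIso e (Iso.refl _) ≪≫ (H23.PicMul.pull f L₀ N₀).some.symm ≪≫
          (Scheme.Modules.pullback f).mapIso eN ≪≫ o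
      let eM : M ≅ (Scheme.Modules.pullback f).obj N₀ := (H23.PicMul.unit M).some.symm ≪≫
        PicGrp.tensorModIso (Iso.refl M) e'.symm ≪≫ (H23.PicMul.assoc M L _).some.symm ≪≫
        PicGrp.tensorModIso ((H23.PicMul.comm M L).some ≪≫ φ) (Iso.refl _) ≪≫ (H23.PicMul.comm _ _).some ≪≫
        (H23.PicMul.unit _).some
      exact ⟨fun s => Module.nontrivial_of_finrank_eq_succ (R := S.residueField s) (hdir L L₀ h₀ e s).1,
        fun s => Module.nontrivial_of_finrank_eq_succ (R := S.residueField s) (hdir M N₀ hN₀ eM s).1,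
        fun s => (hdir L L₀ h₀ e s).2, fun s => (hdir M N₀ hN₀ eM s).2⟩
    · obtain ⟨h1, h2⟩ := hab h
      haveI := h2
      exact ⟨_, h1, ⟨(asIso ((Scheme.Modules.pullbackPushforwardAdjunction f).counit.app L)).symm⟩⟩
    · obtain ⟨h1, h2⟩ := hab h
      refine ⟨fun s => ⟨fiberRank_one f s (hc s) (htriv h.1 h.2.1 s).some, ?_⟩, h2, fun L₀ h₀ ⟨e⟩ => ?_⟩
      · obtain ⟨τ⟩ := htriv h.1 h.2.1 s
        obtain ⟨p⟩ := H23.PicMul.pull (f.fiberι s) L M
        obtain ⟨o⟩ := PicClLib.nonempty_pullback_structureModule (f.fiberι s)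
        exact fiberRank_one f s (hc s) ((H23.PicMul.unit _).some.symm ≪≫ PicGrp.tensorModIso (Iso.refl _) τ.symm ≪≫
          (H23.PicMul.comm _ _).some ≪≫ p.symm ≪≫ (Scheme.Modules.pullback (f.fiberι s)).mapIso φ ≪≫ o)
      · haveI := H23.PullPush.isIso_unit_of_isFinLocFree f hf L₀
          fun x => (SeesawX.isFinLocFreeOfRank_one h₀ x).elim fun U h => ⟨U, 1, h⟩
        exact ⟨asIso ((Scheme.Modules.pullbackPushforwardAdjunction f).unit.app L₀) ≪≫
          (Scheme.Modules.pushforward f).mapIso e.symm⟩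

end Groth.Agent.S16951
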