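import Groth.Statements.S16952
import Groth.Agent.CohPullX.Edge

set_option autoImplicit false
universe u
open Coherent

namespace Groth.Agent.S16952

open AlgebraicGeometry CategoryTheory Scheme.Modules in
/-- For O-modules on schemes, with the identification given by the edge map: let f : X → Y be a morphism
of schemes and G an O_X-module whose higher direct images R^q f_* G (right derived functors of
direct image on O-modules) vanish for all q > 0. Then for every p the edge map H^p(Y, f_* G) →
H^p(X, G), pullback of cohomology classes along f followed by the map induced by the counit f^* f_*
G → G, is bijective. -/
theorem result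
    {X Y : Scheme.{u}} (f : X ⟶ Y) [HasInjectiveResolutions X.Modules] (G : X.Modules)
    (hG : ∀ q : ℕ, 0 < q → Limits.IsZero ((Coh.Rpush f q).obj G)) (p : ℕ) :
    Function.Bijective (CohPull.pushEdge f G p) := by

    exact Groth.Agent.CohPullX.bijective_pushEdge f p G hG

end Groth.Agent.S16952
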