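import Groth.Statements.S16959
import Groth.Agent.H9Misc.SectCmp

set_option autoImplicit false
universe u
open CohCmp

namespace Groth.Agent.S16959

open AlgebraicGeometry CategoryTheory Scheme.Modules in
/-- The comparison map over an affine base is bijective: let f : X → S be a quasi-compact and
quasi-separated morphism of schemes with S affine, F a quasi-coherent O_X-module and q a natural
number; R^q f_* F is the q-th right derived functor of direct image on O-modules and ε_V : H^q(f⁻¹V,
F|_{f⁻¹V}) → Γ(V, R^q f_* F) the pinned comparison maps (the structure SectCmp, taken as a
hypothesis). Then ε over V = S, from the cohomology of F restricted to the open f⁻¹S = X to the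
global sections of R^q f_* F, is bijective. -/
theorem result
    {X S : Scheme.{u}} (f : X ⟶ S) [QuasiCompact f] [QuasiSeparated f] [IsAffine S]
    [HasInjectiveResolutions X.Modules]
    {Δ : RDer.DerivedLES (pushforward f)} (E : CohCmp.SectCmp f Δ) (F : X.Modules) [Coh.IsQCoh F] (q : ℕ) :
    Function.Bijective (E.ε ⊤ F q) := by
  exact H9Misc.SectCmp.bijective_top f E (inferInstanceAs (Coh.IsQCoh F)) q

end Groth.Agent.S16959
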