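import Groth.Agent.ConstQuot.AffineQuot
import Groth.Agent.ConstQuot.CoarseModuli

/-!
# The spectrum of invariants is a coarse moduli space of the quotient stack
-/

set_option backward.isDefEq.respectTransparency false
set_option backward.isDefEq.respectTransparency.types false

universe u

namespace Groth.Agent.S16960

open CategoryTheory AlgebraicGeometry in
theorem result (R : Type u) [CommRing R] [IsNoetherianRing R]
    (A : Type u) [CommRing A] [Algebra R A] [Algebra.FiniteType R A]
    (G : Type u) [Group G] [Fintype G] [DecidableEq G] [MulSemiringAction G A] [SMulCommClass G R A]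
    (π : ConstAct.quotSt R A G Scheme.fppfPrecoverage ⥤ᵇ AlgSt.ofSch (ConstAct.specInv R A G))
    (hπ : BasedFunctor.comp
        (AlgSt.quotMap Scheme.fppfPrecoverage (ConstAct.GR R G) (ConstAct.gaction R A G)) π =
      AlgSt.ofSpMap ((AlgSp.yon (Spec (CommRingCat.of R))).map (ConstAct.quot R A G))) :
    AlgSt.IsCoarseModuli π ∧
      ∀ (Ω : Type u) [Field Ω] [IsAlgClosed Ω] [Algebra R Ω],
        (∀ y : ↥(ConstAct.inv R A G) →ₐ[R] Ω, ∃ x : A →ₐ[R] Ω, x.comp (ConstAct.inv R A G).val = y) ∧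
        (∀ x x' : A →ₐ[R] Ω, x.comp (ConstAct.inv R A G).val = x'.comp (ConstAct.inv R A G).val →
          ∃ g : G, x' = x.comp (MulSemiringAction.toAlgEquiv R A g : A →ₐ[R] A)) := by
  open Groth.Agent.ConstQuot in
  haveI := flat_GR R G
  haveI := lfp_GR R G
  refine ⟨isCoarseModuli_of_orbits (q R A G) (fun Ω _ _ t y => ?_) (fun Ω _ _ t x x' e => ?_)
    (fun N hN ψ hψ => existsUnique_desc R A G hN ψ (yon_act_comp R A G ψ hψ)) π
    ((AlgStLib.spHom_congr (eqToIso hπ)).trans (AlgStLib.spHom_ofSpMap _)), fun Ω _ _ _ => ⟨fun y => ?_, ?_⟩⟩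
  · obtain ⟨z, hz⟩ := geom_surjective R A G Ω y.left
    refine ⟨Over.homMk z ?_, Over.OverMorphism.ext hz⟩
    rw [← Over.w (q R A G), ← Category.assoc, hz]
    exact Over.w y
  · obtain ⟨g, hg⟩ := geom_transitive R A G Ω x'.left x.left (congrArg CommaMorphism.left e.symm)
    exact ⟨_, (constSec_inv_act R A G x' g).trans (Over.OverMorphism.ext hg)⟩
  · haveI := isIntegral_inv R A G
    obtain ⟨φ, hφ⟩ := exists_comp_algebraMap_eq (A := A) y.toRingHom
    exact ⟨⟨φ, fun r => (congrArg (fun k : ↥(ConstAct.inv R A G) →+* Ω => k (algebraMap R _ r)) hφ).trans (y.commutes r)⟩,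
      AlgHom.coe_ringHom_injective hφ⟩
  · intro x x' e
    haveI := isInvariant_inv R A G
    obtain ⟨g, hg⟩ := exists_smul_of_agree (B := ↥(ConstAct.inv R A G)) (G := G) x.toRingHom x'.toRingHom
      fun b => congrArg (fun k => k b) e
    exact ⟨g, AlgHom.ext hg⟩

end Groth.Agent.S16960
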