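import Groth.Agent.ConstQuot.Basic
import Groth.Agent.QuotLib.CatModuli
import Groth.Agent.GrpSchLib.AntiAffineBC
import Groth.Prelude.Def_StMod2

/-!
# Invariant functions on the quotient stack of an affine scheme by a finite group
-/

set_option backward.isDefEq.respectTransparency false
set_option backward.isDefEq.respectTransparency.types false

universe v' w' u

open CategoryTheory CategoryTheory.Limits MonoidalCategory CartesianMonoidalCategory MonObj GrpObj AlgebraicGeometry AlgSp
  Opposite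

noncomputable section

namespace Groth.Agent.ConstQuot

open Groth.Agent.QuotLib Groth.Agent.AlgStLib Groth.Agent.FibBase Groth.Agent.AlgSpLib

section Target

variable {S : Scheme.{u}} {I : Over S} {𝒳 : BasedCategory.{v', w'} (Over S)} (π : 𝒳 ⥤ᵇ AlgSt.ofSch I)
  (E : EtOver ((yon S).obj I))

/-- The morphism to the target under an object. -/
def sh (ξ : 𝒳.obj) : 𝒳.p.obj ξ ⟶ I := (secAt π ξ).down

theorem map_sh {ξ' ξ : 𝒳.obj} (φ : ξ' ⟶ ξ) : 𝒳.p.map φ ≫ sh π ξ = sh π ξ' :=
  congrArg ULift.down (secAt_map π φ)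

/-- The structure map of an étale scheme over a representable sheaf. -/
def eHom : E.obj.left ⟶ I := (yon S).preimage E.obj.hom

theorem yon_map_eHom : (yon S).map (eHom E) = E.obj.hom := (yon S).map_preimage _

theorem etale_eHom : Etale (eHom E).left :=
  (repWith_yon_map_iff _ _).1 (by rw [yon_map_eHom]; exact E.property)

theorem sec_etaOf (T : Over S) (b : T ⟶ E.obj.left) :
    ((yon S).obj I).obj.map b.op (StMod.etaOf E).sec = ULift.up (b ≫ eHom E) := by
  have h := app_eq_uliftYonedaEquiv E.obj.hom b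
  refine h.symm.trans ?_
  rw [← yon_map_eHom]
  rfl

theorem baseOver_eHom {ξ : 𝒳.obj} (α : π.obj ξ ⟶ StMod.etaOf E) :
    StMod.baseOver π ξ α ≫ eHom E = sh π ξ := by
  have h1 := congrArg (((yon S).obj I).obj.map (eqToHom (π.w_obj ξ).symm).op) α.map_sec
  have h1' := ((((yon S).obj I).obj.map_comp_apply _ _ _).trans h1)
  have h2 := sec_etaOf E _ (StMod.baseOver π ξ α)
  exact congrArg ULift.down (h2.symm.trans h1')

/-- The morphism to an étale scheme over the target given by a morphism of schemes. -/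
def mkHom (ξ : 𝒳.obj) (b : 𝒳.p.obj ξ ⟶ E.obj.left) (hb : b ≫ eHom E = sh π ξ) : π.obj ξ ⟶ StMod.etaOf E :=
  ⟨eqToHom (π.w_obj ξ) ≫ b, by
    refine (sec_etaOf E _ _).trans ?_
    refine ULift.ext _ _ ?_
    show (eqToHom _ ≫ b) ≫ eHom E = _
    rw [Category.assoc, hb]
    show eqToHom (π.w_obj ξ) ≫ eqToHom (π.w_obj ξ).symm ≫ _ = _
    rw [eqToHom_trans_assoc, eqToHom_refl]
    exact Category.id_comp _⟩

theorem baseOver_mkHom (ξ : 𝒳.obj) (b : 𝒳.p.obj ξ ⟶ E.obj.left) (hb : b ≫ eHom E = sh π ξ) :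
    StMod.baseOver π ξ (mkHom π E ξ b hb) = b := by
  show eqToHom _ ≫ eqToHom _ ≫ b = b
  rw [eqToHom_trans_assoc, eqToHom_refl]
  exact Category.id_comp _

theorem hom_etaOf_ext {ξ : 𝒳.obj} {α β : π.obj ξ ⟶ StMod.etaOf E}
    (h : StMod.baseOver π ξ α = StMod.baseOver π ξ β) : α = β := by
  haveI := faithful_forget (((yon S).obj I).obj)
  exact (Stk.EltObj.forget _).map_injective ((cancel_epi (eqToHom (π.w_obj ξ).symm)).1 h)

end Target

variable {R : Type u} [CommRing R] {A : Type u} [CommRing A] [Algebra R A]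
  {G : Type u} [Group G] [Fintype G] [DecidableEq G] [MulSemiringAction G A] [SMulCommClass G R A]

theorem isPullback_whiskerLeft {S : Scheme.{u}} (K : Over S) {U V : Over S} (f : U ⟶ V) :
    IsPullback (K ◁ f) (snd K U) (snd K V) f where
  w := whiskerLeft_snd K f
  isLimit' := ⟨PullbackCone.IsLimit.mk _ (fun c => lift (c.fst ≫ fst K V) c.snd)
    (fun c => by
      refine CartesianMonoidalCategory.hom_ext _ _ ?_ ?_
      · simp
      · simp [c.condition])
    (fun c => by simp)
    (fun c m h₁ h₂ => by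
      refine CartesianMonoidalCategory.hom_ext _ _ ?_ ?_
      · simp [← h₁]
      · simp [← h₂])⟩

set_option maxHeartbeats 800000 in
-- the proof chases a morphism of stacks through several categories of elements
/-- The unit of a map from a quotient stack to an affine scheme whose functions are the invariant ones is bijective. -/
theorem unitIsIso_of_invExact {S : Scheme.{u}} {K : Over S} [GrpObj K] [Flat K.hom] [LocallyOfFinitePresentation K.hom]
    {X I : Over S} [IsAffine I.left] [IsAffine X.left] [IsAffine (K ⊗ X).left] (a : AlgGrp.Action K X) (q : X ⟶ I)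
    (hinv : a.act ≫ q = snd K X ≫ q) (hq : AlgSpDec.InvExact a.act.left (snd K X).left q.left)
    (π : AlgSt.QuotSt Scheme.fppfPrecoverage K a ⥤ᵇ AlgSt.ofSch I)
    (hπ' : restrHom π = (yon S).map q) :
    StMod.UnitIsIso π := by
  intro E
  have hsh : ∀ {T : Over S} (x : T ⟶ X),
      sh π (triv Scheme.fppfPrecoverage K a x) = x ≫ q := fun {T} x => by
    show (secAt π (triv Scheme.fppfPrecoverage K a x)).down = _
    rw [← restrHom_app, hπ']
    rfl
  -- the base change of the quotient map along the étale scheme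
  let e := eHom E
  haveI : Etale e.left := etale_eHom E
  let P := pullback q e
  let prX : P ⟶ X := pullback.fst _ _
  let prE : P ⟶ E.obj.left := pullback.snd _ _
  have hP : IsPullback prX prE q e := IsPullback.of_hasPullback _ _
  have hact : (K ◁ prX) ≫ a.act ≫ q = (snd K P ≫ prE) ≫ e := by
    rw [hinv, whiskerLeft_snd_assoc, Category.assoc, hP.w]
  let ã : K ⊗ P ⟶ P := hP.lift ((K ◁ prX) ≫ a.act) (snd K P ≫ prE) (by rw [Category.assoc]; exact hact)
  have hã₁ : ã ≫ prX = (K ◁ prX) ≫ a.act := hP.lift_fst _ _ _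
  have hã₂ : ã ≫ prE = snd K P ≫ prE := hP.lift_snd _ _ _
  -- invariant functions on the base change
  have hex : AlgSpDec.InvExact ã.left (snd K P).left prE.left := by
    refine invExact_flat hq (by rw [← Over.comp_left, ← Over.comp_left, hinv]) e.left
      (pR := prX.left) (p₂ := (K ◁ prX).left) (hP.map (Over.forget _)) ?_ ?_ ?_ ?_
    · rw [← Over.comp_left, ← Over.comp_left, hã₂, hinv]
      exact ((isPullback_whiskerLeft K prX).paste_vert hP).map (Over.forget _)
    · rw [← Over.comp_left, ← Over.comp_left, hã₁]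
    · rw [← Over.comp_left, ← Over.comp_left, whiskerLeft_snd]
    · rw [← Over.comp_left, ← Over.comp_left, hã₂]
  let ξ₀ := triv Scheme.fppfPrecoverage K a prX
  let α₀ : π.obj ξ₀ ⟶ StMod.etaOf E := mkHom π E ξ₀ prE (by rw [hsh]; exact hP.w.symm)
  have hα₀ : StMod.baseOver π ξ₀ α₀ = prE := baseOver_mkHom π E ξ₀ prE _
  refine ⟨fun r r' h => hex.1 ?_, fun s => ?_⟩
  · have h1 : (StMod.unitSect π (StMod.etaOf E) r).1 ξ₀ α₀ = (StMod.unitSect π (StMod.etaOf E) r').1 ξ₀ α₀ := by
      rw [h]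
    rw [StMod.unitSect_val, StMod.unitSect_val, hα₀] at h1
    exact h1
  · -- morphisms of trivial torsors into the universal one
    have key : ∀ {T : Over S} (x : T ⟶ X) (u : T ⟶ P) (g : T ⟶ K)
        (α : π.obj (triv Scheme.fppfPrecoverage K a x) ⟶ StMod.etaOf E),
        lift g (u ≫ prX) ≫ a.act = x → StMod.baseOver π _ α = u ≫ prE →
        s.1 _ α = u.left.appTop (s.1 ξ₀ α₀) := fun {T} x u g α hg hα => by
      obtain ⟨φ, hφ, -⟩ := (hom_triv_iff (K := Scheme.fppfPrecoverage) (G := K) (aX := a) u x prX).2 g hg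
      have hp : (AlgSt.QuotSt Scheme.fppfPrecoverage K a).p.map φ = u := hφ
      have h1 : α = π.map φ ≫ α₀ := hom_etaOf_ext π E (by
        rw [← StMod.map_comp_baseOver, hα₀, hα, hp])
      rw [h1, ← s.2 φ α₀, StMod.O_mapTop]
      show ((AlgSt.QuotSt Scheme.fppfPrecoverage K a).p.map φ).left.appTop _ = _
      rw [hp]
      rfl
    obtain ⟨r, hr⟩ := hex.2 (s.1 ξ₀ α₀) (by
      let x₁ : K ⊗ P ⟶ X := (K ◁ prX) ≫ a.act
      let α₁ := mkHom π E (triv Scheme.fppfPrecoverage K a x₁) (snd K P ≫ prE) (by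
        rw [hsh, Category.assoc, ← Category.assoc (snd K P) prE]; exact hact.symm)
      have hα₁ : StMod.baseOver π _ α₁ = snd K P ≫ prE := baseOver_mkHom π E _ _ _
      rw [← key x₁ ã (toUnit (K ⊗ P) ≫ η[K]) α₁ ?_ (hα₁.trans hã₂.symm), ← key x₁ (snd K P) (fst K P) α₁ ?_ hα₁]
      · show lift (fst K P) (snd K P ≫ prX) ≫ a.act = x₁
        congr 1
      · show lift (toUnit (K ⊗ P) ≫ η[K]) (ã ≫ prX) ≫ a.act = x₁
        have h1 : lift (toUnit (K ⊗ P) ≫ η[K]) (ã ≫ prX) = lift (toUnit _) (ã ≫ prX) ≫ (η[K] ▷ X) := by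
          apply CartesianMonoidalCategory.hom_ext <;> simp
        rw [h1, Category.assoc, a.one_act]
        simpa [x₁] using hã₁)
    refine ⟨r, StMod.Mod.RelSect.ext _ _ _ fun ξ α => ?_⟩
    rw [StMod.unitSect_val]
    let b := StMod.baseOver π ξ α
    haveI : Surjective ξ.π.left := (fppf_π ξ).1.1
    haveI : Flat ξ.π.left := (fppf_π ξ).1.2
    haveI : Epi ξ.π.left := Flat.epi_of_flat_of_surjective _
    apply GrpSchLib.AntiAffine.appTop_injective_of_epi ξ.π.left
    let t := trivHom ξ (𝟙 ξ.P) ξ.φ (Category.id_comp _)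
    have ht : (AlgSt.QuotSt Scheme.fppfPrecoverage K a).p.map t = ξ.π := Category.id_comp _
    have hb : ξ.π ≫ b ≫ e = ξ.φ ≫ q := by
      rw [baseOver_eHom π E α, ← hsh, ← ht]
      exact map_sh π t
    let u : ξ.P ⟶ P := hP.lift ξ.φ (ξ.π ≫ b) (by rw [Category.assoc, hb])
    have hu₁ : u ≫ prX = ξ.φ := hP.lift_fst _ _ _
    have hu₂ : u ≫ prE = ξ.π ≫ b := hP.lift_snd _ _ _
    have h1 : lift (toUnit ξ.P ≫ η[K]) (u ≫ prX) ≫ a.act = ξ.φ := by
      have h2 : lift (toUnit ξ.P ≫ η[K]) (u ≫ prX) = lift (toUnit _) (u ≫ prX) ≫ (η[K] ▷ X) := by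
        apply CartesianMonoidalCategory.hom_ext <;> simp
      rw [h2, Category.assoc, a.one_act]
      simp [hu₁]
    have h3 := key ξ.φ u (toUnit ξ.P ≫ η[K]) (π.map t ≫ α) h1 (by
      rw [← StMod.map_comp_baseOver, ht, hu₂])
    have h4 : ξ.π.left.appTop (s.1 ξ α) = s.1 _ (π.map t ≫ α) := by
      rw [← s.2 t α, StMod.O_mapTop]
      show _ = ((AlgSt.QuotSt Scheme.fppfPrecoverage K a).p.map t).left.appTop _
      rw [ht]
      rfl
    refine Eq.trans ?_ (h3.trans (congrArg u.left.appTop hr.symm) |>.symm.trans h4.symm)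
    have h5 : (ξ.π ≫ b).left.appTop r = (u ≫ prE).left.appTop r :=
      congrArg (fun k : ξ.P ⟶ E.obj.left => k.left.appTop r) hu₂.symm
    rw [Over.comp_left, Over.comp_left, Scheme.Hom.comp_appTop, Scheme.Hom.comp_appTop] at h5
    exact h5

theorem unitIsIso_quot
    (π : ConstAct.quotSt R A G Scheme.fppfPrecoverage ⥤ᵇ AlgSt.ofSch (ConstAct.specInv R A G))
    (hπ : BasedFunctor.comp
        (AlgSt.quotMap Scheme.fppfPrecoverage (ConstAct.GR R G) (ConstAct.gaction R A G)) π =
      AlgSt.ofSpMap ((AlgSp.yon (Spec (CommRingCat.of R))).map (ConstAct.quot R A G))) :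
    StMod.UnitIsIso π :=
  haveI := flat_GR R G
  haveI := lfp_GR R G
  haveI : IsAffine (ConstAct.specInv R A G).left := inferInstanceAs (IsAffine (Spec _))
  haveI : IsAffine (ConstAct.X R A).left := inferInstanceAs (IsAffine (Spec _))
  unitIsIso_of_invExact (ConstAct.gaction R A G) (q R A G) (act_q R A G) (invExact R A G) π
    ((spHom_congr (eqToIso hπ)).trans (spHom_ofSpMap _))

end Groth.Agent.ConstQuot

end

namespace Groth.Agent.S16961

open CategoryTheory AlgebraicGeometry in
theorem result (R : Type u) [CommRing R] [IsNoetherianRing R]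
    (A : Type u) [CommRing A] [Algebra R A] [Algebra.FiniteType R A]
    (G : Type u) [Group G] [Fintype G] [DecidableEq G] [MulSemiringAction G A] [SMulCommClass G R A]
    (π : ConstAct.quotSt R A G Scheme.fppfPrecoverage ⥤ᵇ AlgSt.ofSch (ConstAct.specInv R A G))
    (hπ : BasedFunctor.comp
        (AlgSt.quotMap Scheme.fppfPrecoverage (ConstAct.GR R G) (ConstAct.gaction R A G)) π =
      AlgSt.ofSpMap ((AlgSp.yon (Spec (CommRingCat.of R))).map (ConstAct.quot R A G))) :
    StMod.UnitIsIso π :=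
  Groth.Agent.ConstQuot.unitIsIso_quot π hπ

end Groth.Agent.S16961
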