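import Groth.Statements.S16962
import Groth.Agent.ComodLib.Basic
-- import your own Groth.Agent.* helpers here

set_option autoImplicit false
universe u
open ConstAct

namespace Groth.Agent.S16962

theorem ext_action {G B : Type u} [Monoid G] [CommRing B] (a b : MulSemiringAction G B)
    (h : ∀ (g : G) (x : B), a.smul g x = b.smul g x) : a = b := by
  cases a; cases b
  congr 1
  exact DistribMulAction.ext (funext fun g => funext fun x => h g x)

open TensorProduct in
open Groth.Agent.ComodLib in

/-- Let R be a commutative ring, Γ a finite group and B a commutative R-algebra equipped with a comodule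
structure over the Hopf algebra of R-valued functions on Γ (the coordinate ring of the constant
group scheme of Γ over Spec R, with basis the indicator functions e_γ) whose coaction B → B ⊗ Fun(Γ,
R) is a homomorphism of algebras, i.e. an action of the constant group scheme on Spec B. Then there
is exactly one action of Γ on B by R-algebra automorphisms whose associated coaction b ↦ Σ_γ (γ · b)
⊗ e_γ is the given coaction; and for that action the ring of invariants of the comodule algebra (the
b whose coaction is b ⊗ 1) equals the ring of elements fixed by Γ. (That the coaction associated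
with an action is a comodule algebra structure is the other direction of the published equivalence
and is a construction here.) -/
theorem result (R : Type u) [CommRing R]
    (B : Type u) [CommRing B] [Algebra R B] (Γ : Type u) [Group Γ] [Fintype Γ] [DecidableEq Γ]
    [HopfRep.Comod R (ConstGrp.F R Γ) B] [GLin.IsCoactAlg R (ConstGrp.F R Γ) B] :
    ∃! a : MulSemiringAction Γ B, ∃ _ : SMulCommClass Γ R B,
      ConstAct.coactLin R B Γ = HopfRep.Comod.coact (k := R) (A := ConstGrp.F R Γ) (V := B) ∧
        GLin.invariants R (ConstGrp.F R Γ) B = ConstAct.inv R B Γ := by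
  classical
  let act : Γ → B →ₗ[R] B := fun g => actF (ConstGrp.ev R g).toLinearMap
  have hmul : ∀ g h b, act g (act h b) = act (g * h) b := by
    intro g h b
    show actF (WithConv.toConv (ConstGrp.ev R g).toLinearMap).ofConv (actF (WithConv.toConv (ConstGrp.ev R h).toLinearMap).ofConv b) = _
    rw [← actF_convMul]
    congr 2
    refine ConstGrp.linearMap_ext fun x => ?_
    rw [LinearMap.convMul_apply, ConstGrp.comul_e, map_sum, map_sum]
    simp only [TensorProduct.map_tmul, LinearMap.mul'_apply, AlgHom.toLinearMap_apply, ConstGrp.ev_apply, ConstGrp.e_apply]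
    simp only [ite_mul, one_mul, zero_mul, Finset.sum_ite_eq, Finset.mem_univ, if_true]
    congr 1
    exact propext ⟨fun h1 => by rw [h1, mul_inv_cancel_left], fun h1 => by rw [← h1, inv_mul_cancel_left]⟩
  have hone : ∀ b, act 1 b = b := by
    intro b
    refine Eq.trans ?_ (actF_counit (k := R) (C := ConstGrp.F R Γ) b)
    show actF (ConstGrp.ev R (1 : Γ)).toLinearMap b = _
    congr 2
  have hsl : ∀ g (y y' : B ⊗[R] ConstGrp.F R Γ), slice (ConstGrp.ev R g).toLinearMap (y * y') =
      slice (ConstGrp.ev R g).toLinearMap y * slice (ConstGrp.ev R g).toLinearMap y' := by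
    intro g y y'
    induction y using TensorProduct.induction_on with
    | zero => simp
    | add u w hu hw => simp only [map_add, add_mul, hu, hw]
    | tmul u w =>
      induction y' using TensorProduct.induction_on with
      | zero => simp
      | add u' w' hu hw => simp only [map_add, mul_add, hu, hw]
      | tmul u' w' => simp [Algebra.TensorProduct.tmul_mul_tmul, smul_smul, mul_comm (w g)]
  have hact1 : ∀ g, act g 1 = 1 := by
    intro g
    show slice _ (HopfRep.Comod.coact (k := R) (A := ConstGrp.F R Γ) (1 : B)) = 1
    rw [GLin.IsCoactAlg.coact_one, Algebra.TensorProduct.one_def, slice_tmul, AlgHom.toLinearMap_apply, map_one, one_smul]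
  let a : MulSemiringAction Γ B :=
    { smul := fun g b => act g b
      one_smul := hone
      mul_smul := fun g h b => (hmul g h b).symm
      smul_zero := fun g => map_zero (act g)
      smul_add := fun g => map_add (act g)
      smul_one := hact1
      smul_mul := fun g b b' => by
        show slice _ (HopfRep.Comod.coact (k := R) (A := ConstGrp.F R Γ) (b * b')) = _
        rw [GLin.IsCoactAlg.coact_mul, hsl]
        rfl }
  have hexp : ∀ y : B ⊗[R] ConstGrp.F R Γ, y = ∑ g : Γ, slice (ConstGrp.ev R g).toLinearMap y ⊗ₜ[R] ConstGrp.e R g := by
    intro y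
    induction y using TensorProduct.induction_on with
    | zero => simp
    | add u w hu hw => simp only [map_add, TensorProduct.add_tmul, Finset.sum_add_distrib, ← hu, ← hw]
    | tmul u w =>
      simp only [slice_tmul, AlgHom.toLinearMap_apply, ConstGrp.ev_apply, TensorProduct.smul_tmul]
      rw [← TensorProduct.tmul_sum, ← ConstGrp.eq_sum_smul_e]
  letI := a
  haveI hc : SMulCommClass Γ R B := ⟨fun g r b => map_smul (act g) r b⟩
  have hco : ConstAct.coactLin R B Γ = HopfRep.Comod.coact (k := R) (A := ConstGrp.F R Γ) (V := B) := by
    ext b
    rw [ConstAct.coactLin_apply]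
    exact (hexp _).symm
  refine ⟨a, ⟨hc, hco, ?_⟩, ?_⟩
  · ext b
    rw [ConstAct.mem_inv]
    show HopfRep.Comod.coact (k := R) (A := ConstGrp.F R Γ) b = b ⊗ₜ[R] 1 ↔ _
    constructor
    · intro h g
      show slice _ _ = b
      rw [h]
      simp
    · intro h
      rw [hexp (HopfRep.Comod.coact (k := R) (A := ConstGrp.F R Γ) b)]
      rw [← ConstGrp.sum_e, TensorProduct.tmul_sum]
      exact Finset.sum_congr rfl fun g _ => by rw [show slice _ _ = b from h g]
  · intro a' ha'
    obtain ⟨hc', hco', -⟩ := ha'
    letI := a'
    suffices h : ∀ (g : Γ) (b : B), g • b = act g b from ext_action a' a h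
    intro g b
    have h1 := congrArg (slice (ConstGrp.ev R g).toLinearMap) (LinearMap.congr_fun hco' b)
    rw [ConstAct.coactLin_apply, map_sum] at h1
    refine Eq.trans ?_ h1
    rw [Finset.sum_eq_single g]
    · simp
      try rfl
    · intro x _ hx
      simp [ConstGrp.e_apply, hx.symm]
    · intro h; exact absurd (Finset.mem_univ _) h

end Groth.Agent.S16962
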