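import Groth.Statements.S16963
import Groth.Agent.ComodLib.Basic
-- import your own Groth.Agent.* helpers here

set_option autoImplicit false
universe u
open scoped BigOperators
open ConstAct

namespace Groth.Agent.S16963

open TensorProduct in
/-- Let R be a commutative ring and Γ a finite group acting on a commutative R-algebra B by R-algebra
automorphisms; regard B as a comodule algebra over the Hopf algebra of R-valued functions on Γ (the
constant group scheme of Γ acting on Spec B) through the coaction b ↦ Σ_γ (γ · b) ⊗ e_γ. Then the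
action is tame — there is a comodule map α from the Hopf algebra, with its regular coaction, to B
with α(1) = 1 (a total integral) — if and only if the trace b ↦ Σ_γ γ · b, which takes values in the
ring of invariants B^Γ, maps B onto B^Γ. -/
theorem result (R : Type u) [CommRing R]
    (B : Type u) [CommRing B] [Algebra R B] (Γ : Type u) [Group Γ] [Fintype Γ] [DecidableEq Γ]
    [MulSemiringAction Γ B] [SMulCommClass Γ R B] :
    letI := ConstAct.comod R B Γ
    (∃ α : ConstGrp.F R Γ →ₗ[R] B, Hoch.IsComodHom (ConstGrp.F R Γ) α ∧ α 1 = 1) ↔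
      ∀ c : B, c ∈ ConstAct.inv R B Γ → ∃ b : B, ∑ γ : Γ, γ • b = c := by
  classical
  letI := ConstAct.comod R B Γ
  have hco : ∀ b : B, HopfRep.Comod.coact (k := R) (A := ConstGrp.F R Γ) b = ∑ g : Γ, (g • b) ⊗ₜ[R] ConstGrp.e R g :=
    fun b => ConstAct.coactLin_apply R B Γ b
  constructor
  · rintro ⟨α, hα, h1⟩ c hc
    have hshift : ∀ g x : Γ, g • α (ConstGrp.e R x) = α (ConstGrp.e R (x * g⁻¹)) := by
      intro g x
      have h := congrArg (Groth.Agent.ComodLib.slice (ConstGrp.ev R g).toLinearMap) (LinearMap.congr_fun hα (ConstGrp.e R x))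
      rw [LinearMap.comp_apply, LinearMap.comp_apply, hco,
        show HopfRep.Comod.coact (k := R) (A := ConstGrp.F R Γ) (ConstGrp.e R x) = _ from ConstGrp.comul_e R Γ x,
        map_sum, map_sum, map_sum] at h
      simp only [LinearMap.rTensor_tmul, Groth.Agent.ComodLib.slice_tmul, AlgHom.toLinearMap_apply, ConstGrp.ev_apply,
        ConstGrp.e_apply, ite_smul, one_smul, zero_smul, Finset.sum_ite_eq, Finset.mem_univ, if_true] at h
      rw [h, Finset.sum_eq_single (x * g⁻¹)]
      · rw [if_pos (by group)]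
      · intro a _ ha
        rw [if_neg]
        intro hg
        exact ha (by rw [hg, mul_inv_rev, inv_inv, mul_inv_cancel_left])
      · intro hh; exact absurd (Finset.mem_univ _) hh
    refine ⟨c * α (ConstGrp.e R 1), ?_⟩
    simp only [smul_mul', show ∀ g : Γ, g • c = c from hc, hshift, one_mul, ← Finset.mul_sum]
    rw [Fintype.sum_equiv (Equiv.inv Γ) (fun g => α (ConstGrp.e R g⁻¹)) (fun g => α (ConstGrp.e R g)) (fun g => rfl),
      ← map_sum, ConstGrp.sum_e, h1, mul_one]
  · intro h
    obtain ⟨b, hb⟩ := h 1 (fun g => smul_one g)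
    let α : ConstGrp.F R Γ →ₗ[R] B := (ConstGrp.basis R Γ).constr R fun x => x⁻¹ • b
    have hαe : ∀ x, α (ConstGrp.e R x) = x⁻¹ • b := fun x => by
      rw [← ConstGrp.basis_apply]; exact (ConstGrp.basis R Γ).constr_basis R _ x
    refine ⟨α, ?_, ?_⟩
    · refine ConstGrp.linearMap_ext fun x => ?_
      rw [LinearMap.comp_apply, LinearMap.comp_apply, hco, hαe,
        show HopfRep.Comod.coact (k := R) (A := ConstGrp.F R Γ) (ConstGrp.e R x) = _ from ConstGrp.comul_e R Γ x, map_sum]
      simp only [LinearMap.rTensor_tmul, hαe]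
      refine Fintype.sum_equiv ((Equiv.inv Γ).trans (Equiv.mulLeft x)) _ _ fun g => ?_
      show (g • x⁻¹ • b) ⊗ₜ[R] ConstGrp.e R g = ((x * g⁻¹)⁻¹ • b) ⊗ₜ[R] ConstGrp.e R ((x * g⁻¹)⁻¹ * x)
      rw [mul_inv_rev, inv_inv, mul_assoc, inv_mul_cancel, mul_one, mul_smul]
    · rw [← ConstGrp.sum_e, map_sum]
      simp only [hαe]
      exact (Fintype.sum_equiv (Equiv.inv Γ) _ _ fun g => rfl).trans hb

end Groth.Agent.S16963
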