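import Groth.Agent.ConstQuot.UnivHomeo
import Groth.Agent.S16960
-- import your own Groth.Agent.* helpers here

set_option autoImplicit false
universe u
open ConstAct

namespace Groth.Agent.S16965

open CategoryTheory AlgebraicGeometry in
/-- Let R be a Noetherian commutative ring, A a commutative R-algebra of finite type, and G a finite
group acting on A by R-algebra automorphisms, with ring of invariants A^G. Let [Spec A/G] be the
quotient stack of Spec A by the constant group scheme of G over Spec R, the category over (Sch/Spec
R) whose objects are torsors under the constant group scheme, locally trivial for the fppf topology,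
with an equivariant morphism to Spec A; and let π : [Spec A/G] → Spec A^G be a functor over
(Sch/Spec R) whose composite with the canonical functor Spec A → [Spec A/G] is the functor of the
morphism Spec A → Spec A^G induced by the inclusion A^G ⊆ A. Then π is a universal homeomorphism:
for every algebraic stack 𝒵 over (Sch/Spec R) (fppf topology) and every functor 𝒵 → Spec A^G over
(Sch/Spec R), the first projection of the 2-fibre product 𝒵 ×_{Spec A^G} [Spec A/G] → 𝒵 induces a
homeomorphism on the spaces of points. (The published clause also asserts that π is proper and that
A^G is finitely generated over R; only the universal homeomorphism is stated here.) -/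
theorem result (R : Type u) [CommRing R] [IsNoetherianRing R]
    (A : Type u) [CommRing A] [Algebra R A] [Algebra.FiniteType R A]
    (G : Type u) [Group G] [Fintype G] [DecidableEq G] [MulSemiringAction G A] [SMulCommClass G R A]
    (π : ConstAct.quotSt R A G Scheme.fppfPrecoverage ⥤ᵇ AlgSt.ofSch (ConstAct.specInv R A G))
    (hπ : BasedFunctor.comp
        (AlgSt.quotMap Scheme.fppfPrecoverage (ConstAct.GR R G) (ConstAct.gaction R A G)) π =
      AlgSt.ofSpMap ((AlgSp.yon (Spec (CommRingCat.of R))).map (ConstAct.quot R A G))) :
    AlgSt.IsUnivHomeo Scheme.fppfPrecoverage π := by
  open Groth.Agent.ConstQuot in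
  haveI : Smooth (ConstAct.GR R G).hom :=
    haveI : Etale (ConstAct.GR R G).hom := (HasRingHomProperty.Spec_iff (P := @Etale)).mpr
      (RingHom.etale_algebraMap.mpr (inferInstanceAs (Algebra.Etale R (G → R))))
    inferInstance
  haveI : Algebra.IsIntegral ↥(ConstAct.inv R A G) A := isIntegral_inv R A G
  haveI := isFinite_q R A G
  haveI := surjective_q R A G
  exact isUnivHomeo_quotSt (q R A G) π hπ (Groth.Agent.S16960.result R A G π hπ).1.2

end Groth.Agent.S16965
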