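import Groth.Statements.S16966
import Groth.Agent.CurveCohLib.Clifford
-- import your own Groth.Agent.* helpers here

set_option autoImplicit false
universe u
open CategoryTheory CategoryTheory.Limits AlgebraicGeometry Opposite
open Curves

namespace Groth.Agent.S16966

/-- Let X be a smooth projective curve over an algebraically closed field k of characteristic 0 (an
integral scheme, proper over k, of dimension one, with all local rings regular), of genus g ≥ 1, and
L an invertible O_X-module with deg L > 2g. Then the morphism to projective space given by the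
complete linear system of L is linearly stable, stated through the criterion by invertible
subsheaves: for every invertible module M and every monomorphism ι : M ⟶ L that is not an
isomorphism, with dim_k H^0(X, M) ≥ 2, one has deg L · (h^0(M) - 1) < deg M · (h^0(L) - 1), i.e. the
reduced degree deg M / (h^0(M) - 1) of the projection exceeds the reduced degree deg L / (h^0(L) -
1). Degrees are χ(·) - χ(O_X). -/
theorem result (k : Type u) [Field k] [IsAlgClosed k] [CharZero k] (X : Scheme.{u}) [X.Over (Spec (CommRingCat.of k))]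
    [IsIntegral X] [IsProper (X ↘ (Spec (CommRingCat.of k)))] (hdim : topologicalKrullDim X = 1)
    (hreg : ∀ x : X, IsRegularLocalRing (X.presheaf.stalk x))
    (hg : 1 ≤ Curv2.genus k X) (L : X.Modules) (hL : PicF.IsInvertible L)
    (hdeg : 2 * (Curv2.genus k X : ℤ) < Curv2.deg k X L 1)
    (M : X.Modules) (hM : PicF.IsInvertible M) (ι : M ⟶ L) [Mono ι] (hι : ¬ IsIso ι)
    (h2 : 2 ≤ Module.finrank k (Coh.HH X M 0)) :
    Curv2.deg k X L 1 * ((Module.finrank k (Coh.HH X M 0) : ℤ) - 1) <
      Curv2.deg k X M 1 * ((Module.finrank k (Coh.HH X L 0) : ℤ) - 1) := by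
  obtain ⟨m, hm⟩ := Nat.exists_eq_add_of_le h2
  have hne : ι ≠ 0 := by
    intro h0
    haveI : Nontrivial (Coh.HH X M 0) := Module.nontrivial_of_finrank_pos (R := k) (by omega)
    obtain ⟨t, ht⟩ := exists_ne (0 : Coh.HH X M 0)
    refine Groth.Agent.CurveSpecial.homOfClass_ne_zero ht ((cancel_mono ι).1 ?_)
    rw [h0, Limits.comp_zero, Limits.zero_comp]
  obtain ⟨hle, heq⟩ := Groth.Agent.CurveDeg.deg_le_and_isIso k hdim.le hM hL ι hne
  have hlt : Curv2.deg k X M 1 < Curv2.deg k X L 1 := lt_of_le_of_ne hle fun h => hι (heq h)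
  have hdL := Groth.Agent.CurveCohLib.Clifford.deg_eq k hdim hL
  have hO := Groth.Agent.CurveCohLib.Nonspecial.euler_structure k hdim
    (Groth.Agent.CurveCohLib.Clifford.finrank_h0_structure k (X := X))
  haveI := Groth.Agent.CurveCohLib.isNoetherian_of_proper (k := k) (X := X)
  haveI := Groth.Agent.CurveCohLib.Nonspecial.h1_of_euler k hdim
    (Groth.Agent.CurveDeg.isCoh_of_isInvertible hL)
    (Groth.Agent.CurveCohLib.Nonspecial.section_of_sub k (Groth.Agent.CurveDeg.isCoh_of_isInvertible hL) hL (𝟙 L))
    (by have := hdeg; unfold Curv2.deg at this; rw [hO] at this; omega)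
  have h1 : Module.finrank k (Coh.HH X L 1) = 0 := Module.finrank_zero_of_subsingleton
  have := Groth.Agent.CurveCohLib.Clifford.slope_lt k hdim hM hg hdeg (m := m + 1) (by omega) (by omega) hle (Or.inl hlt)
  rw [hm]
  rw [h1] at hdL
  push_cast at this hdL ⊢
  have e : ((Module.finrank k (Coh.HH X L 0) : ℤ) - 1) = Curv2.deg k X L 1 - Curv2.genus k X := by omega
  rw [e]
  linarith

end Groth.Agent.S16966
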