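import Groth.Statements.S16968
import Groth.Agent.CurveCohLib.Clifford
import Groth.Agent.CurveCohLib.Pencil
import Groth.Agent.CurveCohLib.RegularCurve
import Groth.Agent.Lib.CurveCanonical
import Groth.Agent.CurveBC.Main
-- import your own Groth.Agent.* helpers here

set_option autoImplicit false
universe u
open CategoryTheory CategoryTheory.Limits AlgebraicGeometry Opposite
open Curves

set_option linter.style.haveILetI false

namespace Groth.Agent.S16968

/-- Let X be a smooth projective curve over an algebraically closed field k of characteristic 0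
(integral, proper over k, of dimension one, all local rings regular) of genus g ≥ 3 which is
hyperelliptic, with a g^1_2 given as an invertible module N of degree 2 and two k-linearly
independent global sections t_0, t_1. Then the canonical morphism of X is linearly semistable but
not linearly stable, stated through the criterion by invertible subsheaves: (i) for every invertible
module M and every monomorphism ι : M ⟶ Ω_{X/k} which is not an isomorphism, with dim_k H^0(X, M) ≥
2, one has deg Ω_{X/k} · (h^0(M) - 1) ≤ deg M · (h^0(Ω_{X/k}) - 1); (ii) N admits a monomorphism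
into Ω_{X/k} which is not an isomorphism and for which equality holds. Degrees are χ(·) - χ(O_X).
(The published statement gives no genus bound for the hyperelliptic case; here g ≥ 3 is assumed,
since for g = 2 the module N is the canonical module itself and clause (ii) fails.) -/
theorem result (k : Type u) [Field k] [IsAlgClosed k] [CharZero k] (X : Scheme.{u}) [X.Over (Spec (CommRingCat.of k))]
    [IsIntegral X] [IsProper (X ↘ (Spec (CommRingCat.of k)))] (hdim : topologicalKrullDim X = 1)
    (hreg : ∀ x : X, IsRegularLocalRing (X.presheaf.stalk x))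
    (hg : 3 ≤ Curv2.genus k X)
    (N : X.Modules) (t : Fin 2 → LinSer.Sect X N) (hN : LinSer.IsLinSer k X N 2 1 t) :
    (∀ (M : X.Modules) (ι : M ⟶ Omega.sheaf (X ↘ (Spec (CommRingCat.of k)))), PicF.IsInvertible M → Mono ι → ¬ IsIso ι →
        2 ≤ Module.finrank k (Coh.HH X M 0) →
        Curv2.deg k X (Omega.sheaf (X ↘ (Spec (CommRingCat.of k)))) 1 * ((Module.finrank k (Coh.HH X M 0) : ℤ) - 1) ≤
          Curv2.deg k X M 1 * ((Module.finrank k (Coh.HH X (Omega.sheaf (X ↘ (Spec (CommRingCat.of k)))) 0) : ℤ) - 1)) ∧
      ∃ ι : N ⟶ Omega.sheaf (X ↘ (Spec (CommRingCat.of k))), Mono ι ∧ ¬ IsIso ι ∧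
        Curv2.deg k X (Omega.sheaf (X ↘ (Spec (CommRingCat.of k)))) 1 * ((Module.finrank k (Coh.HH X N 0) : ℤ) - 1) =
          Curv2.deg k X N 1 * ((Module.finrank k (Coh.HH X (Omega.sheaf (X ↘ (Spec (CommRingCat.of k)))) 0) : ℤ) - 1) := by
  haveI := CurveCohLib.RegularCurve.smooth_of_regular k (X := X) fun x _ => hreg x
  haveI := CurveCohLib.isNoetherian_of_proper (k := k) (X := X)
  have hO := CurveCohLib.Clifford.finrank_h0_structure k (X := X)
  obtain ⟨ω, μ, hω⟩ := CurveDuality.exists_isDualizing k hdim
  obtain ⟨hg0, hg1, hgd⟩ := CurveDuality.canonical_invariants k hO hω hdim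
  obtain ⟨eω⟩ := CurveBC.nonempty_iso_omega k X hdim hO hω.inv hgd hg0.ge
  have hdΩ : Curv2.deg k X (Omega.sheaf (X ↘ (Spec (CommRingCat.of k)))) 1 = 2 * (Curv2.genus k X : ℤ) - 2 :=
    (CurveRR.deg_congr k eω.symm 1).trans hgd
  have h0Ω : Module.finrank k (Coh.HH X (Omega.sheaf (X ↘ (Spec (CommRingCat.of k)))) 0) = Curv2.genus k X :=
    ((CurveCohLib.hhEquiv (k := k) eω.symm 0).finrank_eq).trans hg0
  obtain ⟨hNi, hNd, hNl⟩ := hN
  have hN2 := CurveCohLib.Pencil.le_h0_of_linIndep k (CurveDeg.isCoh_of_isInvertible hNi) t hNl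
  have hRR := CurveCohLib.Clifford.deg_eq k hdim hNi
  haveI := CurveCohLib.finite_HH (k := k) (CurveDeg.isCoh_of_isInvertible hNi) 0
  haveI := CurveCohLib.finite_HH (k := k) (CurveDeg.isCoh_of_isInvertible hNi) 1
  have hN0 : Module.finrank k (Coh.HH X N 0) = 2 := by
    have h := CurveCohLib.Clifford.h0_add_h1_le k hdim hNi (Module.nontrivial_of_finrank_pos (R := k) (by omega))
      (Module.nontrivial_of_finrank_pos (R := k) (by rw [hNd] at hRR; push_cast at hRR; omega))
    rw [hNd] at hRR
    push_cast at hRR
    omega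
  rw [hdΩ, h0Ω]
  refine ⟨fun M ι hM hι _ h2 => ?_, ?_⟩
  · haveI := hι
    haveI := CurveCohLib.finite_HH (k := k) (CurveDeg.isCoh_of_isInvertible hM) 0
    haveI := CurveCohLib.finite_HH (k := k) (CurveDeg.isCoh_of_isInvertible hM) 1
    have hne : ι ≫ eω.inv ≠ 0 := fun h => by
      have h' : ι = 0 := (cancel_mono eω.inv).1 (h.trans zero_comp.symm)
      haveI : Subsingleton (Coh.HH X M 0) := by
        refine subsingleton_of_forall_eq 0 fun z => ?_
        by_contra hz
        exact CurveSpecial.homOfClass_ne_zero hz ((cancel_mono ι).1 (by rw [h', comp_zero, zero_comp]))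
      rw [Module.finrank_zero_of_subsingleton] at h2
      omega
    have hsur := CurveSpecial.surjective_mapLin_one k hdim hM hω.inv _ hne
    have h1 : Nontrivial (Coh.HH X M 1) := by
      by_contra hc
      rw [not_nontrivial_iff_subsingleton] at hc
      haveI := hsur.subsingleton
      rw [Module.finrank_zero_of_subsingleton] at hg1
      exact zero_ne_one hg1
    have hC := CurveCohLib.Clifford.h0_add_h1_le k hdim hM (Module.nontrivial_of_finrank_pos (R := k) (by omega)) h1
    have hR := CurveCohLib.Clifford.deg_eq k hdim hM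
    nlinarith
  · have h1 : ¬ Subsingleton (Coh.HH X N 1) := fun hs => by
      rw [Module.finrank_zero_of_subsingleton (R := k) (M := Coh.HH X N 1), hNd] at hRR
      push_cast at hRR
      omega
    rw [CurveDuality.subsingleton_HH_one_iff k hω hdim (CurveStable.isFinLocFree_of_rank (InvEnd.isFinLocFreeOfRank_one hNi))] at h1
    push Not at h1
    obtain ⟨φ, hφ⟩ := h1
    haveI : Mono φ := InvEnd.mono_of_ne_zero hNi hω.inv φ hφ
    refine ⟨φ ≫ eω.hom, inferInstance, fun hiso => ?_, by rw [hN0, hNd]; push_cast; ring⟩
    haveI := hiso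
    have := CurveRR.deg_congr k (asIso (φ ≫ eω.hom)) 1
    rw [hNd, hdΩ] at this
    push_cast at this
    omega

end Groth.Agent.S16968
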