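import Groth.Statements.S16976
import Groth.Agent.SurfRows.Zariski
import Groth.Agent.SurfRows.FibreZero
import Groth.Agent.SurfRows.OrthClass
import Groth.Agent.Lib.ZarConn
import Groth.Agent.AlgSpLib.CartierCompl

set_option autoImplicit false
set_option backward.isDefEq.respectTransparency false
set_option backward.isDefEq.respectTransparency.types false
set_option linter.style.haveILetI false
set_option linter.unusedSectionVars false
set_option maxHeartbeats 800000
universe u
open CategoryTheory CategoryTheory.Limits AlgebraicGeometry TopologicalSpace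
open Surf

namespace Groth.Agent.S16976

open Groth.Agent.H23
attribute [local instance] PicMul.clMonoid

/-- Let f : S ⟶ B be a relatively minimal fibration of genus at least 2 over an algebraically closed
field k of characteristic 0 (S a smooth projective integral surface, B a smooth projective integral
curve, f a surjective k-morphism with O_B ⟶ f_*O_S an isomorphism, every closed fibre with χ(O_F) <
0, and no (-1)-curve in a fibre: every integral closed curve E ⊆ S with regular local rings, mapped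
to a point and with χ(O_E) = 1, has E.E ≠ -1). Let F = f⁻¹(p) be the fibre over a closed point, with
ideal sheaf I_F = m_p·O_S. Then F is a positive multiple m·E of a 1-connected effective divisor E:
for every m ≥ 1 and every locally principal ideal sheaf I_E with I_E^m = I_F that is not the n-th
power (n ≥ 2) of a locally principal ideal sheaf (so that E = F/m with m the greatest common divisor
of the multiplicities of F), and for every factorisation I_E = I_A · I_B with I_A, I_B locally
principal ideal sheaves different from O_S (an effective decomposition E = A + B), the intersection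
number A.B — computed as the intersection number of the ideal sheaves I_A, I_B on S — is at least 1. -/
theorem result (k : Type u) [Field k] [IsAlgClosed k] [CharZero k]
    (S : Scheme.{u}) [S.Over (Spec (CommRingCat.of k))] [IsProper (S ↘ (Spec (CommRingCat.of k)))]
    [Smooth (S ↘ (Spec (CommRingCat.of k)))] [IsIntegral S] (hdimS : topologicalKrullDim S = 2)
    (B : Scheme.{u}) [B.Over (Spec (CommRingCat.of k))] [IsProper (B ↘ (Spec (CommRingCat.of k)))]
    [Smooth (B ↘ (Spec (CommRingCat.of k)))] [IsIntegral B] (hdimB : topologicalKrullDim B = 1)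
    (f : S ⟶ B) [f.IsOver (Spec (CommRingCat.of k))] [Surjective f] (hconn : IsIso (ClSub.unitToPush f))
    (hg : ∀ p : B, IsClosed ({p} : Set B) → Curv2.euler k S (ClSub.quotMod (f.fiberι p).ker) < 0)
    (hmin : ∀ (E : Scheme.{u}) (j : E ⟶ S), IsClosedImmersion j → IsIntegral E → topologicalKrullDim E = 1 →
      (∀ e : E, IsRegularLocalRing (E.presheaf.stalk e)) → (∃ p : B, Set.range (j ≫ f).base ⊆ {p}) →
      Curv2.euler k S (ClSub.quotMod j.ker) = 1 →
      FGA.intNum k S 2 ![ClSub.idealMod j.ker, ClSub.idealMod j.ker] (Coh.structureModule S) ≠ -1)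
    (p : B) (hp : IsClosed ({p} : Set B))
    (m : ℕ) (hm : 1 ≤ m) (IE : S.IdealSheafData) (hIE : Curv2.IsLocPrincipal IE)
    (hpow : IE ^ m = (Scheme.IdealSheafData.vanishingIdeal ⟨{p}, hp⟩).comap f)
    (hprim : ∀ n : ℕ, 2 ≤ n → ∀ J : S.IdealSheafData, Curv2.IsLocPrincipal J → J ^ n ≠ IE)
    (IA IB : S.IdealSheafData) (hIA : Curv2.IsLocPrincipal IA) (hIB : Curv2.IsLocPrincipal IB)
    (hA : IA ≠ ⊤) (hB : IB ≠ ⊤) (hAB : IA * IB = IE) :
    1 ≤ FGA.intNum k S 2 ![ClSub.idealMod IA, ClSub.idealMod IB] (Coh.structureModule S) := by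
  classical
  obtain ⟨hFc, hFs, hFz⟩ := SurfRows.fibre_facts k hdimS hdimB f p hp
  -- factors of an effective Cartier divisor are effective Cartier
  have heff : ∀ A : S.IdealSheafData, Curv2.IsLocPrincipal A →
      (Scheme.IdealSheafData.vanishingIdeal ⟨{p}, hp⟩).comap f ≤ A → BlowUp.IsEffCartierIdeal A := fun A hA hle x => by
    obtain ⟨U, hxU, a, hUa⟩ := Groth.Agent.AlgSpLib.Cartier.isLocPrincipal_of_curv2 hA x
    haveI : Nonempty U.1 := ⟨⟨x, hxU⟩⟩
    refine ⟨U, hxU, a, mem_nonZeroDivisors_of_ne_zero fun h0 => ?_, hUa⟩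
    obtain ⟨V, hxV, b, hb, hVb⟩ := hFc x
    obtain ⟨W, hW, hxW, hWle⟩ := exists_isAffineOpen_mem_and_subset (show x ∈ U.1 ⊓ V.1 from ⟨hxU, hxV⟩)
    haveI : Nonempty W := ⟨⟨x, hxW⟩⟩
    haveI : Nonempty U.1 := ⟨⟨x, hxU⟩⟩
    haveI : Nonempty V.1 := ⟨⟨x, hxV⟩⟩
    have h1 := hle ⟨W, hW⟩
    rw [← Scheme.IdealSheafData.map_ideal _ (U := ⟨W, hW⟩) (V := V) (hWle.trans inf_le_right), hVb,
      ← A.map_ideal (U := ⟨W, hW⟩) (V := U) (hWle.trans inf_le_left), hUa, h0, Ideal.span_singleton_eq_bot.2 rfl,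
      Ideal.map_bot, Ideal.map_span, Set.image_singleton, le_bot_iff, Ideal.span_singleton_eq_bot] at h1
    exact nonZeroDivisors.ne_zero hb (map_injective_of_isIntegral S (homOfLE (hWle.trans inf_le_right)) (h1.trans (map_zero _).symm))
  have hleA : IE ≤ IA := fun U => by
    rw [← hAB, Scheme.IdealSheafData.ideal_mul, Pi.mul_apply]
    exact Ideal.mul_le_left
  have hleB : IE ≤ IB := fun U => by
    rw [← hAB, Scheme.IdealSheafData.ideal_mul, Pi.mul_apply]
    exact Ideal.mul_le_right
  have hleE : IE ^ m ≤ IE := fun U => by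
    obtain ⟨n, rfl⟩ := Nat.exists_eq_succ_of_ne_zero (by omega : m ≠ 0)
    rw [pow_succ, Scheme.IdealSheafData.ideal_mul, Pi.mul_apply]
    exact Ideal.mul_le_right
  rw [hpow] at hleE
  obtain ⟨sA, hsA, eA⟩ := SurfRows.exists_curves k hdimS (heff IA hIA (hleE.trans hleA))
  obtain ⟨sB, hsB, eB⟩ := SurfRows.exists_curves k hdimS (heff IB hIB (hleE.trans hleB))
  set sE := sA + sB with hsEdef
  have hsE : ∀ C ∈ sE, IsIntegral C.subscheme ∧ topologicalKrullDim (C.support : Set S) = 1 := fun C hC =>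
    (Multiset.mem_add.1 hC).elim (hsA C) (hsB C)
  have eE : IE = sE.prod := by rw [hsEdef, Multiset.prod_add, ← eA, ← eB, hAB]
  have hsuppE : (IE.support : Set S) = f ⁻¹' {p} := by
    rw [← hFs, ← hpow, Scheme.IdealSheafData.support_pow _ _ (by omega)]
  let ι := {C : S.IdealSheafData // C ∈ sE.toFinset}
  have hι : ∀ i : ι, IsIntegral i.1.subscheme ∧ topologicalKrullDim (i.1.support : Set S) = 1 := fun i =>
    hsE _ (Multiset.mem_toFinset.1 i.2)
  have hsub : ∀ C ∈ sE, (C.support : Set S) ⊆ f ⁻¹' {p} := fun C hC => by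
    rw [← hsuppE, eE]
    exact Scheme.IdealSheafData.support_antitone (SurfRows.eq_top_or_le sE hC)
  have hunion : (⋃ i : ι, (i.1.support : Set S)) = f ⁻¹' {p} := by
    refine Set.Subset.antisymm (Set.iUnion_subset fun i => hsub _ (Multiset.mem_toFinset.1 i.2)) fun x hx => ?_
    rw [← hsuppE, eE] at hx
    obtain ⟨C, hC, hxC⟩ := SurfRows.exists_mem_support sE hx
    exact Set.mem_iUnion.2 ⟨⟨C, Multiset.mem_toFinset.2 hC⟩, hxC⟩
  haveI := hconn
  haveI := CurveCohLib.isNoetherian_of_proper (k := k) (X := B)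
  haveI : IsProper f := MorphismProperty.of_postcomp (W := @IsProper) (W' := @IsSeparated) f
    (B ↘ Spec (CommRingCat.of k)) inferInstance (by rw [comp_over]; infer_instance)
  have happ : ∀ U : B.Opens, IsIso (f.app U) := fun U => by
    rw [ConcreteCategory.isIso_iff_bijective]
    have h : Function.Bijective ((ClSub.unitToPush f).app U) := ConcreteCategory.bijective_of_isIso _
    exact h
  haveI := ZarConn.connectedSpace_fibre f happ p
  have hpre : _root_.IsPreconnected (⋃ i : ι, (i.1.support : Set S)) := by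
    rw [hunion, ← Scheme.Hom.range_fiberι f p]
    exact isPreconnected_range (f.fiberι p).continuous
  let G : ι → ι → ℤ := fun i j => SurfPairing.pair k (PicF.cl (ClSub.idealMod i.1)) (PicF.cl (ClSub.idealMod j.1))
  have hconnG : ∀ T : Finset ι, T.Nonempty → Tᶜ.Nonempty → ∃ i ∈ T, ∃ j ∈ Tᶜ, 1 ≤ G i j :=
    SurfRows.graph_connected k hdimS (fun i : ι => i.1) Subtype.val_injective (fun i => (hι i).1) (fun i => (hι i).2) hpre
  let a : ι → ℤ := fun i => sA.count i.1
  let e : ι → ℤ := fun i => sE.count i.1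
  have he : ∀ i, 0 < e i := fun i => by
    show (0 : ℤ) < (sE.count i.1 : ℤ)
    exact_mod_cast Multiset.count_pos.2 (Multiset.mem_toFinset.1 i.2)
  have hsum : ∀ (t : Multiset S.IdealSheafData), t ≤ sE → ∀ g : S.IdealSheafData → ℤ,
      (t.map g).sum = ∑ i : ι, (t.count i.1 : ℤ) * g i.1 := fun t ht g => by
    rw [Finset.sum_multiset_map_count, Finset.sum_coe_sort sE.toFinset (fun C => (t.count C : ℤ) * g C)]
    refine Finset.sum_subset (fun C hC => Multiset.mem_toFinset.2 (Multiset.mem_of_le ht (Multiset.mem_toFinset.1 hC)))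
      (fun C _ hC => ?_) |>.trans ?_
    · rw [Multiset.count_eq_zero.2 fun h => hC (Multiset.mem_toFinset.2 h), zero_smul]
    · exact Finset.sum_congr rfl fun C _ => by rw [nsmul_eq_mul]
  have hEeff := SurfRows.eff_prod k hdimS sE hsE
  have hGe : ∀ i, ∑ j, e j * G i j = 0 := fun i => by
    have h1 : SurfPairing.pair k (PicF.cl (ClSub.idealMod sE.prod)) (PicF.cl (ClSub.idealMod i.1)) = ∑ j, e j * G i j := by
      rw [hEeff.2 _ (SurfNef.invertible_ideal k hdimS (hι i).1 (hι i).2), hsum sE le_rfl]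
      exact Finset.sum_congr rfl fun j _ => by rw [SurfPairing.pair_comm]
    have h2 := hFz i.1 (hι i).1 (hι i).2 (hsub _ (Multiset.mem_toFinset.1 i.2))
    rw [← hpow, eE, ← Multiset.prod_nsmul, SurfPairing.pair_comm] at h2
    rw [(SurfRows.eff_prod k hdimS (m • sE) (fun C hC => hsE C (Multiset.mem_of_mem_nsmul hC))).2 _
      (SurfNef.invertible_ideal k hdimS (hι i).1 (hι i).2), Multiset.map_nsmul, Multiset.sum_nsmul,
      ← hEeff.2 _ (SurfNef.invertible_ideal k hdimS (hι i).1 (hι i).2), h1, nsmul_eq_mul] at h2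
    rcases mul_eq_zero.1 h2 with h | h
    · exact absurd (Int.natCast_eq_zero.1 h) (by omega)
    · exact h
  have hAi := (S8914.result IA).2 (heff IA hIA (hleE.trans hleA))
  have hBi := (S8914.result IB).2 (heff IB hIB (hleE.trans hleB))
  have hpairAB : SurfPairing.pair k (PicF.cl (ClSub.idealMod IA)) (PicF.cl (ClSub.idealMod IB)) =
      -∑ i, ∑ j, a i * a j * G i j := by
    have h1 : ∀ (M : S.Modules), PicF.IsInvertible M → SurfPairing.pair k (PicF.cl (ClSub.idealMod IA)) (PicF.cl M) =
        ∑ i : ι, a i * SurfPairing.pair k (PicF.cl (ClSub.idealMod i.1)) (PicF.cl M) := fun M hM => by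
      rw [eA, (SurfRows.eff_prod k hdimS sA hsA).2 M hM, hsum sA (Multiset.le_add_right _ _)]
    rw [h1 _ hBi, ← Finset.sum_neg_distrib]
    refine Finset.sum_congr rfl fun i _ => ?_
    rw [eB, SurfPairing.pair_comm, (SurfRows.eff_prod k hdimS sB hsB).2 _ (SurfNef.invertible_ideal k hdimS (hι i).1 (hι i).2),
      hsum sB (Multiset.le_add_left _ _)]
    have h2 : ∀ j : ι, (sB.count j.1 : ℤ) = e j - a j := fun j => by
      simp only [a, e, hsEdef, Multiset.count_add]
      push_cast
      ring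
    simp only [h2, sub_mul, Finset.sum_sub_distrib, mul_sub]
    rw [show (∑ j, e j * SurfPairing.pair k (PicF.cl (ClSub.idealMod j.1)) (PicF.cl (ClSub.idealMod i.1))) = 0 from
      (Finset.sum_congr rfl fun j _ => by rw [SurfPairing.pair_comm]).trans (hGe i), mul_zero, zero_sub, Finset.mul_sum]
    congr 1
    exact Finset.sum_congr rfl fun j _ => by rw [SurfPairing.pair_comm]; ring
  obtain ⟨hQ, hQ0⟩ := SurfRows.zariski_lemma G (fun i j => SurfPairing.pair_comm k _ _)
    (fun i j hij => SurfRows.pair_curves_nonneg k hdimS (hι i).1 (hι i).2 (hι j).1 (hι j).2 fun h => hij (Subtype.ext h))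
    hconnG e he (fun i => (hGe i).le) a
  rw [SurfPairing.intNum_eq_pair k hdimS.le hAi hBi, hpairAB]
  by_contra hlt
  obtain ⟨hprop, -⟩ := hQ0 (by omega)
  obtain ⟨C₀, hC₀⟩ : ∃ C, C ∈ sA := Multiset.exists_mem_of_ne_zero fun h => hA (by
    rw [eA, h, Multiset.prod_zero, Scheme.IdealSheafData.one_eq_top])
  obtain ⟨D₀, hD₀⟩ : ∃ D, D ∈ sB := Multiset.exists_mem_of_ne_zero fun h => hB (by
    rw [eB, h, Multiset.prod_zero, Scheme.IdealSheafData.one_eq_top])
  let i₀ : ι := ⟨C₀, Multiset.mem_toFinset.2 (Multiset.mem_add.2 (Or.inl hC₀))⟩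
  let j₀ : ι := ⟨D₀, Multiset.mem_toFinset.2 (Multiset.mem_add.2 (Or.inr hD₀))⟩
  set A₀ := sA.count C₀ with hA₀
  set E₀ := sE.count C₀ with hE₀
  have hrel : ∀ C ∈ sE, sA.count C * E₀ = A₀ * sE.count C := fun C hC => by
    have h := hprop ⟨C, Multiset.mem_toFinset.2 hC⟩ i₀
    simp only [a, e, i₀] at h
    exact_mod_cast h
  have hlt0 : A₀ < E₀ := by
    have h := hrel D₀ (Multiset.mem_add.2 (Or.inr hD₀))
    have hd : sA.count D₀ < sE.count D₀ := by
      have := Multiset.count_pos.2 hD₀
      rw [hsEdef, Multiset.count_add]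
      omega
    have hE0 : 0 < E₀ := Multiset.count_pos.2 (Multiset.mem_add.2 (Or.inl hC₀))
    nlinarith
  have hA0 : 0 < A₀ := Multiset.count_pos.2 hC₀
  set g := Nat.gcd A₀ E₀ with hg'
  obtain ⟨a', ha'⟩ : g ∣ A₀ := Nat.gcd_dvd_left _ _
  obtain ⟨q, hq⟩ : g ∣ E₀ := Nat.gcd_dvd_right _ _
  have hg0 : 0 < g := Nat.gcd_pos_of_pos_left _ hA0
  have hcop : Nat.Coprime a' q := by
    have h := Nat.gcd_mul_left g a' q
    rw [← ha', ← hq, ← hg'] at h
    exact Nat.eq_of_mul_eq_mul_left hg0 (h.symm.trans (mul_one g).symm)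
  have ha0 : 0 < a' := by
    rcases Nat.eq_zero_or_pos a' with h | h
    · rw [h, mul_zero] at ha'; omega
    · exact h
  have hq2 : 2 ≤ q := by
    have : g * a' < g * q := by omega
    have := Nat.lt_of_mul_lt_mul_left this
    omega
  have hdvd : ∀ C ∈ sE, q ∣ sE.count C := fun C hC => by
    have h := hrel C hC
    rw [ha', hq, mul_left_comm, mul_assoc] at h
    exact (Nat.Coprime.dvd_of_dvd_mul_left (Nat.Coprime.symm hcop) ⟨sA.count C, by
      have := Nat.eq_of_mul_eq_mul_left hg0 h
      rw [← this, mul_comm]⟩)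
  let t : Multiset S.IdealSheafData := ∑ C ∈ sE.toFinset, Multiset.replicate (sE.count C / q) C
  have ht : ∀ C ∈ t, IsIntegral C.subscheme ∧ topologicalKrullDim (C.support : Set S) = 1 := fun C hC => by
    obtain ⟨D, hD, hCD⟩ := Multiset.mem_sum.1 hC
    rw [Multiset.eq_of_mem_replicate hCD]
    exact hsE D (Multiset.mem_toFinset.1 hD)
  refine hprim q hq2 t.prod (fun x _ => ?_) ?_
  · obtain ⟨U, hxU, b, -, hb⟩ := (SurfRows.eff_prod k hdimS t ht).1 x
    exact ⟨U, hxU, b, hb⟩
  · rw [eE, Multiset.prod_sum, ← Finset.prod_pow, Finset.prod_multiset_count sE]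
    refine Finset.prod_congr rfl fun C hC => ?_
    rw [Multiset.prod_replicate, ← pow_mul, Nat.div_mul_cancel (hdvd C (Multiset.mem_toFinset.1 hC))]

end Groth.Agent.S16976
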