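import Groth.Statements.S16978
import Groth.Agent.CliffCover.Basic

set_option autoImplicit false
universe u
open CategoryTheory CategoryTheory.Limits AlgebraicGeometry Opposite
open Curves

namespace Groth.Agent.S16978
set_option backward.isDefEq.respectTransparency false
set_option backward.isDefEq.respectTransparency.types false


/-- Let X be a smooth projective curve over an algebraically closed field k of characteristic 0
(integral, proper over k, of dimension one, all local rings regular), and L an invertible O_X-module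
of degree d which is special (dim_k H^1(X, L) ≥ 1) with dim_k H^0(X, L) = r + 1. Suppose the map of
the complete linear system of L factors as X ⟶ Γ ⟶ Y ⟶ P^r_k where π : X ⟶ Γ is a k-morphism, finite
and flat of constant rank a, onto a smooth projective curve Γ over k of genus γ, Y ⟶ P^r_k is an
integral closed subscheme, ψ : Γ ⟶ Y restricts to an isomorphism over a nonempty open subset of Y,
the pullback of O(1) along the composite embeds in L by a monomorphism ι, and every nonzero global
section of O(1) pulls back to a nonzero section (so the composite is the map of the complete linear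
system, through an a-sheeted cover followed by a birational map). Then: (1) if a = 2, either 2r + 2γ
≤ d or 4r ≤ d; (2) if a ≥ 3, 3r ≤ d. Degrees are χ(·) - χ(O_X). -/
theorem result (k : Type u) [Field k] [IsAlgClosed k] [CharZero k] (X : Scheme.{u}) [X.Over (Spec (CommRingCat.of k))]
    [IsIntegral X] [IsProper (X ↘ (Spec (CommRingCat.of k)))] (hdim : topologicalKrullDim X = 1)
    (hreg : ∀ x : X, IsRegularLocalRing (X.presheaf.stalk x))
    (L : X.Modules) (hL : PicF.IsInvertible L) (r : ℕ)
    (h0 : Module.finrank k (Coh.HH X L 0) = r + 1) (h1 : 1 ≤ Module.finrank k (Coh.HH X L 1))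
    (Γ : Scheme.{u}) [Γ.Over (Spec (CommRingCat.of k))] [IsIntegral Γ] [IsProper (Γ ↘ (Spec (CommRingCat.of k)))]
    (hdimΓ : topologicalKrullDim Γ = 1) (hregΓ : ∀ y : Γ, IsRegularLocalRing (Γ.presheaf.stalk y))
    (π : X ⟶ Γ) (hπ : π ≫ (Γ ↘ Spec (CommRingCat.of k)) = X ↘ Spec (CommRingCat.of k))
    [IsFinite π] [Flat π] (a : ℕ) (ha : ∀ y : Γ, Scheme.Hom.finrank π y = a)
    (Y : Scheme.{u}) [IsIntegral Y] (j : Y ⟶ CohB1.ProjSpace r k) [IsClosedImmersion j] (ψ : Γ ⟶ Y)
    (hψ : ψ ≫ j ≫ CohB1.ProjSpace.toSpec r k = Γ ↘ Spec (CommRingCat.of k))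
    (hbir : ∃ U : Y.Opens, (U : Set Y).Nonempty ∧ IsIso (ψ ∣_ U))
    (ι : (Scheme.Modules.pullback (π ≫ ψ ≫ j)).obj (Twist.twistProjSpace r k 1) ⟶ L) [Mono ι]
    (hnd : ∀ s : LinSer.Sect (CohB1.ProjSpace r k) (Twist.twistProjSpace r k 1), s ≠ 0 → OmegaSh.pullSect (π ≫ ψ ≫ j) (Twist.twistProjSpace r k 1) ⊤ s ≠ 0) :
    (a = 2 → 2 * (r : ℤ) + 2 * Curv2.genus k Γ ≤ Curv2.deg k X L 1 ∨ 4 * (r : ℤ) ≤ Curv2.deg k X L 1) ∧
      (3 ≤ a → 3 * (r : ℤ) ≤ Curv2.deg k X L 1) := by
  haveI := Groth.Agent.CurveCohLib.isNoetherian_of_proper (k := k) (X := X)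
  obtain ⟨m, hm, hcl⟩ := Groth.Agent.CliffCover.exists_deg k hdim hdimΓ π hπ ha (ψ ≫ j)
    (by rw [Category.assoc]; exact hψ) (by simpa using hnd)
  let P := (Scheme.Modules.pullback (π ≫ ψ ≫ j)).obj (Twist.twistProjSpace r k 1)
  have hP : PicF.IsInvertible P :=
    Groth.Agent.PicClLib.isInvertible_pullback _ (Groth.Agent.CliffCover.isInvertible_twist k r)
  have hι : ι ≠ 0 := by
    intro h
    obtain ⟨hle⟩ : Nonempty (Nontrivial (Coh.HH X P 0)) := ⟨Module.nontrivial_of_finrank_pos (R := k)
      (by have := Groth.Agent.CliffCover.le_h0_of_nondeg k r (π ≫ ψ ≫ j)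
            (by rw [Category.assoc, Category.assoc, hψ, hπ]) hnd
          show 0 < Module.finrank k (Coh.HH X P 0); exact lt_of_lt_of_le (Nat.succ_pos r) this)⟩
    obtain ⟨t, ht⟩ := exists_ne (0 : Coh.HH X P 0)
    refine Groth.Agent.CurveSpecial.homOfClass_ne_zero ht ((cancel_mono ι).1 ?_)
    rw [h, Limits.comp_zero, Limits.zero_comp]
  have hle : Curv2.deg k X P 1 ≤ Curv2.deg k X L 1 :=
    (Groth.Agent.CurveDeg.deg_le_and_isIso k hdim.le hP hL ι hι).1
  have hmr : (r : ℤ) ≤ m := by rcases hcl with h | h <;> omega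
  rw [show Curv2.deg k X P 1 = (a : ℤ) * m from hm] at hle
  refine ⟨fun h2 => ?_, fun h3 => ?_⟩
  · subst h2
    rcases hcl with h | h
    · left; omega
    · right; omega
  · have : (3 : ℤ) * r ≤ a * m := mul_le_mul (by exact_mod_cast h3) hmr (by omega) (by omega)
    omega


end Groth.Agent.S16978
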