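import Groth.Statements.S16979
import Mathlib

set_option autoImplicit false
universe u v
open CAlg

namespace Groth.Agent.S16979

/-- Let R be an integral domain with fraction field K and φ a square matrix over R whose characteristic
polynomial becomes separable in K[T] (equivalently, K[T] modulo the characteristic polynomial is
geometrically reduced over K). Then a polynomial f over R satisfies f(φ) = 0 exactly when the
characteristic polynomial of φ divides f in R[T]: the kernel of evaluation at φ (the minimal ideal
of φ) is the principal ideal generated by the characteristic polynomial. -/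
theorem result
    {R : Type u} [CommRing R] [IsDomain R] {n : Type v} [Fintype n] [DecidableEq n]
    (φ : Matrix n n R)
    (hsep : (φ.charpoly.map (algebraMap R (FractionRing R))).Separable) :
    RingHom.ker (Polynomial.aeval (R := R) φ) = Ideal.span {φ.charpoly} := by
  classical
  let K := FractionRing R
  let φK : Matrix n n K := φ.map (algebraMap R K)
  have hcp : φK.charpoly = φ.charpoly.map (algebraMap R K) := Matrix.charpoly_map φ _
  ext f
  rw [RingHom.mem_ker, Ideal.mem_span_singleton]
  constructor
  · intro hf
    rw [← Polynomial.map_dvd_map (algebraMap R K) (IsFractionRing.injective R K) φ.charpoly_monic, ← hcp]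
    have hfK : Polynomial.aeval φK (f.map (algebraMap R K)) = 0 := by
      rw [Polynomial.aeval_map_algebraMap]
      show Polynomial.aeval ((Algebra.ofId R K).mapMatrix φ) f = 0
      rw [Polynomial.aeval_algHom_apply, hf, map_zero]
    refine dvd_trans ?_ (minpoly.dvd K φK hfK)
    let L := AlgebraicClosure K
    rw [← Polynomial.map_dvd_map' (algebraMap K L)]
    rw [IsAlgClosed.dvd_iff_roots_le_roots ((φK.charpoly_monic.map _).ne_zero)
      ((minpoly.monic (Matrix.isIntegral φK)).map _).ne_zero]
    have hnd : (φK.charpoly.map (algebraMap K L)).roots.Nodup :=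
      Polynomial.nodup_roots (hcp ▸ hsep).map
    rw [Multiset.le_iff_subset hnd]
    intro μ hμ
    rw [Polynomial.mem_roots ((minpoly.monic (Matrix.isIntegral φK)).map _).ne_zero]
    have h1 : (φK.map (algebraMap K L)).charpoly.IsRoot μ := by
      rw [Matrix.charpoly_map]; exact (Polynomial.mem_roots'.1 hμ).2
    have h2 : Module.End.HasEigenvalue (Matrix.toLin' (φK.map (algebraMap K L))) μ := by
      rw [Module.End.hasEigenvalue_iff_isRoot_charpoly, ← LinearMap.charpoly_toMatrix _ (Pi.basisFun L n),
        ← Matrix.toLin_eq_toLin', LinearMap.toMatrix_toLin]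
      exact h1
    obtain ⟨v, hv⟩ := h2.exists_hasEigenvector
    have h3 := Module.End.aeval_apply_of_hasEigenvector
      (p := (minpoly K φK).map (algebraMap K L)) hv
    rw [show Polynomial.aeval (Matrix.toLin' (φK.map (algebraMap K L))) ((minpoly K φK).map (algebraMap K L)) = 0 from ?_,
      LinearMap.zero_apply] at h3
    · exact (smul_eq_zero.1 h3.symm).resolve_right hv.2
    · show Polynomial.aeval (Matrix.toLinAlgEquiv' (φK.map (algebraMap K L))) _ = 0
      rw [Polynomial.aeval_algHom_apply]
      rw [Polynomial.aeval_map_algebraMap]
      show Matrix.toLinAlgEquiv' (Polynomial.aeval ((Algebra.ofId K L).mapMatrix φK) (minpoly K φK)) = 0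
      rw [Polynomial.aeval_algHom_apply, minpoly.aeval, map_zero, map_zero]
  · rintro ⟨g, rfl⟩
    rw [map_mul, Matrix.aeval_self_charpoly, zero_mul]

end Groth.Agent.S16979
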