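import Mathlib
import Groth.Statements.S16980
-- import your own Groth.Agent.* helpers here

set_option autoImplicit false
universe u
open CAlg

noncomputable section

namespace Groth.Agent.S16980

section helpers

open LaurentPolynomial TensorProduct
open scoped LaurentPolynomial

variable {R : Type u} [CommRing R]

/-- The two branches of the node. -/
def branch (τ : R) (i : Fin 2) : MvPolynomial (Fin 2) R →ₐ[R] R[T;T⁻¹] :=
  MvPolynomial.aeval (if i = 0 then ![T 1, C τ * T (-1)] else ![C τ * T (-1), T 1])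

lemma branch_rel (τ : R) (i : Fin 2) :
    branch τ i (MvPolynomial.X 0 * MvPolynomial.X 1 - MvPolynomial.C τ) = 0 := by
  have h : (T 1 : R[T;T⁻¹]) * T (-1) = 1 := by rw [← T_add, add_neg_cancel, T_zero]
  fin_cases i <;> simp [branch] <;> linear_combination C τ * h

lemma coeff_neg_part (τ : R) (P : Polynomial R) (n : ℕ) :
    ((C τ * T (-1)) * Polynomial.aeval (C τ * T (-1) : R[T;T⁻¹]) P).coeff (n : ℤ) = 0 := by
  induction P using Polynomial.induction_on' with
  | add p q hp hq =>
    rw [map_add, mul_add, AddMonoidAlgebra.coeff_add, Finsupp.add_apply, hp, hq, add_zero]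
  | monomial j a =>
    have e : (C τ * T (-1) : R[T;T⁻¹]) * Polynomial.aeval (C τ * T (-1) : R[T;T⁻¹]) (Polynomial.monomial j a) =
        C (a * τ ^ (j + 1)) * T (-((j : ℤ) + 1)) := by
      rw [Polynomial.aeval_monomial, show algebraMap R R[T;T⁻¹] a = C a from rfl, map_mul, map_pow,
        show (-((j : ℤ) + 1)) = ((j + 1 : ℕ) : ℤ) * (-1) by push_cast; ring, ← T_pow]
      ring
    rw [e, ← single_eq_C_mul_T, AddMonoidAlgebra.coeff_single, Finsupp.single_apply, if_neg (by omega)]

lemma eq_zero_of_pos {τ : R} {P Q : Polynomial R}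
    (h : Polynomial.aeval (T 1 : R[T;T⁻¹]) P + (C τ * T (-1)) * Polynomial.aeval (C τ * T (-1) : R[T;T⁻¹]) Q = 0) :
    P = 0 := by
  have hP : Polynomial.aeval (T 1 : R[T;T⁻¹]) P = Polynomial.toLaurent P := by
    rw [← Polynomial.toLaurentAlg_apply]
    congr 1
    ext
    simp [Polynomial.toLaurent_X]
  ext n
  have hn := congrArg (fun f : R[T;T⁻¹] => f.coeff (n : ℤ)) h
  simp only [AddMonoidAlgebra.coeff_add, Finsupp.add_apply, coeff_neg_part, hP, add_zero,
    AddMonoidAlgebra.coeff_zero, Finsupp.zero_apply] at hn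
  rw [Polynomial.coeff_zero]
  exact (by simp [Polynomial.toLaurent_apply, Finsupp.mapDomain_apply Nat.cast_injective, Polynomial.coeff] : (Polynomial.toLaurent P).coeff (n : ℤ) = P.coeff n).symm.trans hn

variable {S : Type u} [CommRing S] [Algebra R S] (x y : S) (τ : R)

/-- Normal forms at the node. -/
lemma normal_form (hxy : x * y = algebraMap R S τ) (p : MvPolynomial (Fin 2) R) :
    ∃ P Q : Polynomial R, MvPolynomial.aeval ![x, y] p = Polynomial.aeval x P + y * Polynomial.aeval y Q := by
  induction p using MvPolynomial.induction_on with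
  | C a => exact ⟨Polynomial.C a, 0, by simp⟩
  | add p q hp hq =>
    obtain ⟨P, Q, e⟩ := hp
    obtain ⟨P', Q', e'⟩ := hq
    exact ⟨P + P', Q + Q', by rw [map_add, e, e', map_add, map_add]; ring⟩
  | mul_X p i hp =>
    obtain ⟨P, Q, e⟩ := hp
    rw [map_mul, e, MvPolynomial.aeval_X]
    fin_cases i
    · refine ⟨Polynomial.X * P + Polynomial.C (τ * Q.coeff 0), Polynomial.C τ * Q.divX, ?_⟩
      have hQ := congrArg (Polynomial.aeval y) (Polynomial.X_mul_divX_add Q)
      simp only [map_add, map_mul, Polynomial.aeval_X, Polynomial.aeval_C] at hQ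
      simp only [map_add, map_mul, Polynomial.aeval_X, Polynomial.aeval_C]
      show _ * x = _
      linear_combination (Polynomial.aeval y Q) * hxy - algebraMap R S τ * hQ
    · refine ⟨Polynomial.C τ * P.divX, Polynomial.C (P.coeff 0) + Polynomial.X * Q, ?_⟩
      have hP := congrArg (Polynomial.aeval x) (Polynomial.X_mul_divX_add P)
      simp only [map_add, map_mul, Polynomial.aeval_X, Polynomial.aeval_C] at hP
      simp only [map_add, map_mul, Polynomial.aeval_X, Polynomial.aeval_C]
      show _ * y = _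
      linear_combination (Polynomial.aeval x P.divX) * hxy - y * hP

/-- The branch maps separate the points of the node. -/
lemma exists_branches (hsurj : Function.Surjective (MvPolynomial.aeval ![x, y] : MvPolynomial (Fin 2) R →ₐ[R] S))
    (hker : RingHom.ker (MvPolynomial.aeval ![x, y] : MvPolynomial (Fin 2) R →ₐ[R] S) =
      Ideal.span {MvPolynomial.X 0 * MvPolynomial.X 1 - MvPolynomial.C τ}) :
    ∃ ψ : Fin 2 → (S →ₐ[R] R[T;T⁻¹]), ∀ s, (∀ i, ψ i s = 0) → s = 0 := by
  let e := Ideal.quotientKerAlgEquivOfSurjective hsurj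
  have hle : ∀ i, ∀ a ∈ RingHom.ker (MvPolynomial.aeval ![x, y] : MvPolynomial (Fin 2) R →ₐ[R] S),
      branch τ i a = 0 := fun i a ha => by
    rw [hker, Ideal.mem_span_singleton] at ha
    obtain ⟨c, rfl⟩ := ha
    rw [map_mul, branch_rel, zero_mul]
  let ψ : Fin 2 → (S →ₐ[R] R[T;T⁻¹]) := fun i => (Ideal.Quotient.liftₐ _ (branch τ i) (hle i)).comp e.symm.toAlgHom
  have hψ : ∀ i p, ψ i (MvPolynomial.aeval ![x, y] p) = branch τ i p := fun i p => by
    have : e.symm (MvPolynomial.aeval ![x, y] p) = Ideal.Quotient.mk _ p :=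
      e.symm_apply_eq.mpr (Ideal.quotientKerAlgEquivOfSurjective_apply hsurj p).symm
    show Ideal.Quotient.liftₐ _ (branch τ i) (hle i) (e.symm _) = _
    rw [this]
    rfl
  refine ⟨ψ, fun s hs => ?_⟩
  have hx : x = MvPolynomial.aeval ![x, y] (MvPolynomial.X 0 : MvPolynomial (Fin 2) R) := by simp
  have hy : y = MvPolynomial.aeval ![x, y] (MvPolynomial.X 1 : MvPolynomial (Fin 2) R) := by simp
  have hxy : x * y = algebraMap R S τ := by
    have h : MvPolynomial.X 0 * MvPolynomial.X 1 - MvPolynomial.C τ ∈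
        RingHom.ker (MvPolynomial.aeval ![x, y] : MvPolynomial (Fin 2) R →ₐ[R] S) :=
      hker ▸ Ideal.mem_span_singleton_self _
    rw [RingHom.mem_ker, map_sub, map_mul, MvPolynomial.aeval_C, sub_eq_zero] at h
    simpa using h
  obtain ⟨p, rfl⟩ := hsurj s
  obtain ⟨P, Q, e⟩ := normal_form x y τ hxy p
  have h0 := hs 0
  rw [e, map_add, map_mul, ← Polynomial.aeval_algHom_apply, ← Polynomial.aeval_algHom_apply,
    show ψ 0 x = T 1 by rw [hx, hψ]; simp [branch], show ψ 0 y = C τ * T (-1) by rw [hy, hψ]; simp [branch]] at h0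
  have hP := eq_zero_of_pos h0
  have h1 := hs 1
  rw [e, hP, map_zero, zero_add, map_mul, ← Polynomial.aeval_algHom_apply,
    show ψ 1 y = T 1 by rw [hy, hψ]; simp [branch]] at h1
  have hQ : Q = 0 := eq_zero_of_pos (τ := τ) (Q := 0) (by
    rw [map_zero, mul_zero, add_zero]
    exact (isUnit_T 1).mul_right_eq_zero.mp h1)
  rw [e, hP, hQ, map_zero, map_zero, mul_zero, add_zero]

end helpers

/-- Let A be a commutative ring, J an A-module, A′ = A ⊕ εJ the trivial square-zero extension of A by J,
and τ any element of A′. Let B′ be the A′-algebra A′[x,y]/(xy − τ), presented by two generators x, y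
with the evaluation map from the polynomial ring in two variables over A′ surjective and with kernel
generated by XY − τ. Let I ⊆ B′ be the ideal generated by the square-zero ideal J of A′, so that B =
B′/I is A[x,y]/(xy − t) with t the A-component of τ. Then the first map of the conormal sequence of
B′ → B relative to A, namely I → B ⊗_{B′} Ω_{B′/A}, i ↦ 1 ⊗ di, is injective (so the sequence 0 → I
→ B ⊗_{B′} Ω_{B′/A} → Ω_{B/A} → 0 is exact on the left as well; this is the local computation at a
node for first-order deformations of nodal curves). -/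
theorem result
    (A : Type u) [CommRing A] (J : Type u) [AddCommGroup J] [Module A J] [Module Aᵐᵒᵖ J]
    [IsCentralScalar A J] (τ : TrivSqZeroExt A J)
    (B' : Type u) [CommRing B'] [Algebra (TrivSqZeroExt A J) B'] [Algebra A B']
    [IsScalarTower A (TrivSqZeroExt A J) B'] (x y : B')
    (hsurj : Function.Surjective
      (MvPolynomial.aeval ![x, y] : MvPolynomial (Fin 2) (TrivSqZeroExt A J) →ₐ[TrivSqZeroExt A J] B'))
    (hker : RingHom.ker
      (MvPolynomial.aeval ![x, y] : MvPolynomial (Fin 2) (TrivSqZeroExt A J) →ₐ[TrivSqZeroExt A J] B') =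
      Ideal.span {MvPolynomial.X 0 * MvPolynomial.X 1 - MvPolynomial.C τ}) :
    Function.Injective (KaehlerDifferential.kerToTensor A B'
      (B' ⧸ Ideal.map (algebraMap (TrivSqZeroExt A J) B') (TrivSqZeroExt.kerIdeal A J))) := by
  classical
  set I := Ideal.map (algebraMap (TrivSqZeroExt A J) B') (TrivSqZeroExt.kerIdeal A J)
  obtain ⟨ψ₀, hψ₀⟩ := exists_branches x y τ hsurj hker
  let L := Fin 2 → LaurentPolynomial (TrivSqZeroExt A J)
  let ψ : B' →ₐ[(TrivSqZeroExt A J)] L := AlgHom.pi ψ₀
  -- forget the nilpotent part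
  let σ₁ : (TrivSqZeroExt A J) →ₐ[A] (TrivSqZeroExt A J) := (TrivSqZeroExt.inlAlgHom A A J).comp (TrivSqZeroExt.fstHom A A J)
  let σL : LaurentPolynomial (TrivSqZeroExt A J) →ₐ[A] LaurentPolynomial (TrivSqZeroExt A J) := AddMonoidAlgebra.mapAlgHom ℤ σ₁
  let σ : L →ₐ[A] L := AlgHom.pi fun i => σL.comp (Pi.evalAlgHom A (fun _ => LaurentPolynomial (TrivSqZeroExt A J)) i)
  let ψA : B' →ₐ[A] L := ψ.restrictScalars A
  let φ : B' →ₐ[A] L := σ.comp ψA
  let K : Ideal (LaurentPolynomial (TrivSqZeroExt A J)) := (TrivSqZeroExt.kerIdeal A J).map LaurentPolynomial.C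
  have hK : K * K = ⊥ := by
    rw [← Ideal.map_mul, ← pow_two, TrivSqZeroExt.kerIdeal_sq, Ideal.map_bot]
  have hdiff : ∀ f : LaurentPolynomial (TrivSqZeroExt A J), f - σL f ∈ K := fun f => by
    induction f using LaurentPolynomial.induction_on' with
    | add p q hp hq => rw [map_add, add_sub_add_comm]; exact add_mem hp hq
    | C_mul_T n a =>
      have : σL (LaurentPolynomial.C a * LaurentPolynomial.T n) =
          LaurentPolynomial.C (σ₁ a) * LaurentPolynomial.T n := by
        rw [← LaurentPolynomial.single_eq_C_mul_T, ← LaurentPolynomial.single_eq_C_mul_T]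
        exact AddMonoidAlgebra.mapAlgHom_single _ _ _
      rw [this, ← sub_mul, ← map_sub]
      refine Ideal.mul_mem_right _ _ (Ideal.mem_map_of_mem _ ?_)
      rw [TrivSqZeroExt.mem_kerIdeal_iff_inr]
      ext <;> simp [σ₁]
  have hsq : ∀ f g : B', (ψA f - φ f) * (ψA g - φ g) = 0 := fun f g => funext fun i =>
    (Submodule.mem_bot _).mp (hK ▸ Ideal.mul_mem_mul (hdiff (ψA f i)) (hdiff (ψA g i)))
  have hφI : ∀ b ∈ I, φ b = 0 := by
    suffices h : I ≤ RingHom.ker φ.toRingHom from h
    refine Ideal.map_le_iff_le_comap.mpr fun j hj => funext fun i => ?_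
    show σL (ψ₀ i (algebraMap (TrivSqZeroExt A J) B' j)) = 0
    rw [(ψ₀ i).commutes, show algebraMap (TrivSqZeroExt A J) (LaurentPolynomial (TrivSqZeroExt A J)) j = LaurentPolynomial.C j * LaurentPolynomial.T 0 by
      rw [LaurentPolynomial.T_zero, mul_one]; rfl, ← LaurentPolynomial.single_eq_C_mul_T]
    rw [(TrivSqZeroExt.mem_kerIdeal_iff_inr _ _ j).mp hj]
    refine (AddMonoidAlgebra.mapAlgHom_single _ _ _).trans ?_
    simp [σ₁]
  letI algB : Algebra (B' ⧸ I) L := (Ideal.Quotient.lift I φ.toRingHom hφI).toAlgebra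
  letI algB' : Algebra B' L := φ.toRingHom.toAlgebra
  haveI : IsScalarTower B' (B' ⧸ I) L := IsScalarTower.of_algebraMap_eq' rfl
  haveI : IsScalarTower A B' L := IsScalarTower.of_algebraMap_eq' φ.comp_algebraMap.symm
  let D : Derivation A B' L := Derivation.mk' (ψA.toLinearMap - φ.toLinearMap) fun f g => by
    show ψA (f * g) - φ (f * g) = φ f * (ψA g - φ g) + φ g * (ψA f - φ f)
    rw [map_mul, map_mul]
    linear_combination hsq f g
  let Φ := D.liftKaehlerDifferential.liftBaseChange (B' ⧸ I)
  rw [injective_iff_map_eq_zero]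
  intro i hi
  have hiI : (i : B') ∈ I := Ideal.Quotient.eq_zero_iff_mem.mp i.2
  have h := congrArg Φ hi
  rw [map_zero, KaehlerDifferential.kerToTensor_apply, LinearMap.liftBaseChange_tmul, one_smul,
    Derivation.liftKaehlerDifferential_comp_D] at h
  change ψA i - φ i = 0 at h
  rw [hφI _ hiI, sub_zero] at h
  exact Subtype.ext (hψ₀ _ fun t => congrFun h t)

end Groth.Agent.S16980
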