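import Groth.Statements.S16981
import Groth.Agent.Adic7.Basic
import Mathlib.RingTheory.Filtration
import Mathlib.RingTheory.AdicCompletion.Basic

set_option autoImplicit false
universe u v
open CAlg

namespace Groth.Agent.S16981
open IsLocalRing

/-- Let A be a complete Noetherian local ring and f : E → A a surjective ring homomorphism whose kernel
has square zero and is finitely generated (equivalently, is a finite A-module for the induced module
structure). Then E is separated and complete for the adic topology of the inverse image of the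
maximal ideal of A. (The published statement takes A to be the completion of a local ring of a
scheme of finite type over an Artinian local ring and the kernel the completion of a finite module;
this row assumes only that A is complete Noetherian local and the kernel finitely generated.) -/
theorem result
    {A : Type u} {E : Type v} [CommRing A] [CommRing E] [IsNoetherianRing A] [IsLocalRing A]
    [IsAdicComplete (IsLocalRing.maximalIdeal A) A]
    (f : E →+* A) (hf : Function.Surjective f)
    (hsq : RingHom.ker f ^ 2 = ⊥) (hfg : (RingHom.ker f).FG) :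
    IsAdicComplete ((IsLocalRing.maximalIdeal A).comap f) E := by
  let K : Ideal E := RingHom.ker f
  have hKK : ∀ x ∈ K, ∀ k ∈ K, x * k = 0 := fun x hx k hk => by
    have := Ideal.mul_mem_mul hx hk
    rwa [← sq, hsq, Ideal.mem_bot] at this
  let φ : A →+* AddMonoid.End K := f.liftOfSurjective hf ⟨Module.toAddMonoidEnd E K, fun x hx => by
    rw [RingHom.mem_ker]
    ext k
    exact hKK x hx k k.2⟩
  have hφ : ∀ (e : E) (k : K), φ (f e) k = e • k := fun e k => by
    simp only [φ, RingHom.liftOfSurjective_comp_apply]
    rfl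
  letI : Module A K := Module.compHom K φ
  letI : Algebra E A := f.toAlgebra
  haveI : IsScalarTower E A K := ⟨fun e a k => by
    obtain ⟨a, rfl⟩ := hf a
    rw [Algebra.smul_def, RingHom.algebraMap_toAlgebra, ← map_mul]
    show φ (f (e * a)) k = e • φ (f a) k
    rw [hφ, hφ, mul_smul]⟩
  haveI : Module.Finite E K := Module.Finite.of_fg hfg
  haveI : Module.Finite A K := Module.Finite.of_restrictScalars_finite E A K
  haveI hKA : IsNoetherian A K := inferInstance
  haveI hKE : IsNoetherian E K := isNoetherian_mk
    ⟨((Submodule.orderIsoOfAlgebraMapSurjective (R := E) (S := A) (M := K) hf).symm.toOrderEmbedding.dual).wellFounded hKA.wf⟩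
  haveI hAE : IsNoetherian E A := isNoetherian_mk
    ⟨((Submodule.orderIsoOfAlgebraMapSurjective (R := E) (S := A) (M := A) hf).symm.toOrderEmbedding.dual).wellFounded (inferInstance : IsNoetherian A A).wf⟩
  haveI : IsNoetherianRing E := isNoetherian_of_range_eq_ker K.subtype (Algebra.linearMap E A) (by
    rw [Submodule.range_subtype]; rfl)
  let J : Ideal E := (maximalIdeal A).comap f
  have hJ : J.map (algebraMap E A) = maximalIdeal A := Ideal.map_comap_of_surjective _ hf _
  haveI : IsAdicComplete (maximalIdeal A) K := Groth.Agent.Adic7.isAdicComplete_of_finite _ K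
  haveI hK : IsAdicComplete J K := (IsAdicComplete.map_algebraMap_iff J K).1 (by rw [hJ]; infer_instance)
  obtain ⟨c, hc⟩ := Ideal.exists_pow_inf_eq_pow_smul J (M := E) K
  -- Artin--Rees
  have hAR : ∀ (n : ℕ) (x : K), (x : E) ∈ J ^ (n + c) → x ∈ (J ^ n • ⊤ : Submodule E K) := by
    intro n x hx
    have h1 : (x : E) ∈ J ^ n • K := by
      have h2 : (x : E) ∈ J ^ (n + c) • (⊤ : Submodule E E) ⊓ K :=
        ⟨by rwa [smul_eq_mul, Ideal.mul_top], x.2⟩
      rw [hc (n + c) (by omega), Nat.add_sub_cancel] at h2
      exact Submodule.smul_mono le_rfl inf_le_right h2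
    exact (Submodule.mem_smul_top_iff (J ^ n) K x).2 h1
  have hpow : ∀ n, (J ^ n).map f = maximalIdeal A ^ n := fun n => by
    rw [Ideal.map_pow]; exact congrArg (· ^ n) hJ
  refine { toIsHausdorff := ⟨fun x hx => ?_⟩, toIsPrecomplete := ⟨fun u hu => ?_⟩ }
  · have hx' : ∀ n, x ∈ J ^ n := fun n => by simpa [SModEq.zero] using hx n
    have hxK : x ∈ K := by
      rw [RingHom.mem_ker]
      refine IsHausdorff.haus (IsAdicComplete.toIsHausdorff (I := maximalIdeal A) (M := A)) _ fun n => ?_
      rw [SModEq.zero, smul_eq_mul, Ideal.mul_top, ← hpow]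
      exact Ideal.mem_map_of_mem f (hx' n)
    exact congrArg Subtype.val (IsHausdorff.haus hK.toIsHausdorff ⟨x, hxK⟩ fun n =>
      SModEq.zero.2 (hAR n _ (hx' _)))
  · have hu' : ∀ {m n}, m ≤ n → u m - u n ∈ J ^ m := fun {m n} h => by
      simpa [SModEq.sub_mem] using hu h
    obtain ⟨a, ha⟩ := IsPrecomplete.prec (IsAdicComplete.toIsPrecomplete (I := maximalIdeal A) (M := A))
      (f := fun n => f (u n)) (fun {m n} h => by
        rw [SModEq.sub_mem, smul_eq_mul, Ideal.mul_top, ← hpow, ← map_sub]
        exact Ideal.mem_map_of_mem f (hu' h))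
    obtain ⟨e, rfl⟩ := hf a
    have hj : ∀ n, ∃ j ∈ J ^ n, u n - e - j ∈ K := fun n => by
      have := ha n
      rw [SModEq.sub_mem, smul_eq_mul, Ideal.mul_top, ← hpow, ← map_sub,
        Ideal.mem_map_iff_of_surjective f hf] at this
      obtain ⟨j, hj, hje⟩ := this
      exact ⟨j, hj, by rw [RingHom.mem_ker, map_sub, hje, sub_self]⟩
    choose j hj hy using hj
    obtain ⟨z, hz⟩ := IsPrecomplete.prec hK.toIsPrecomplete
      (f := fun n => (⟨_, hy (n + c)⟩ : K)) (fun {m n} h => SModEq.sub_mem.2 (hAR m _ (by
        have h1 := hu' (show m + c ≤ n + c by omega)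
        have h2 := Ideal.pow_le_pow_right (show m + c ≤ n + c by omega) (hj (n + c))
        convert Ideal.add_mem _ (Ideal.sub_mem _ h1 (hj (m + c))) h2 using 1
        show u (m + c) - e - j (m + c) - (u (n + c) - e - j (n + c)) = _
        ring)))
    refine ⟨e + z, fun n => ?_⟩
    rw [SModEq.sub_mem, smul_eq_mul, Ideal.mul_top]
    have h4 := (Submodule.mem_smul_top_iff (J ^ n) K _).1 (SModEq.sub_mem.1 (hz n))
    rw [smul_eq_mul] at h4
    have h3 : u (n + c) - e - j (n + c) - (z : E) ∈ J ^ n := by
      have h5 := (Ideal.mul_le_left (I := J ^ n) (J := K)) h4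
      simpa using h5
    convert Ideal.add_mem _ (Ideal.add_mem _ (hu' (Nat.le_add_right n c))
      (Ideal.pow_le_pow_right (Nat.le_add_right n c) (hj (n + c)))) h3 using 1
    ring

end Groth.Agent.S16981
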