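import Groth.Statements.S16982
import Groth.Agent.PSLib.Basic
import Groth.Agent.S16981
import Mathlib.RingTheory.MvPowerSeries.Rename

set_option autoImplicit false
universe u v w w'
open CAlg

namespace Groth.Agent.S16982
open IsLocalRing MvPowerSeries

/-- Let R be a commutative ring, A a complete Noetherian local R-algebra written as a quotient of a
power series ring over R in finitely many variables by a surjective R-algebra map π, and f : E → A a
surjective R-algebra map whose kernel has square zero and is finitely generated. Then π lifts along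
f to an R-algebra map λ from the power series ring to E with f ∘ λ = π. (The published statement
takes R Artinian local and asks for a lift that is continuous for the adic topologies; this row
allows any commutative R and asks for any lift.) -/
theorem result
    {R : Type u} [CommRing R] {σ : Type v} [Finite σ]
    {A : Type w} {E : Type w'} [CommRing A] [CommRing E] [Algebra R A] [Algebra R E]
    [IsNoetherianRing A] [IsLocalRing A] [IsAdicComplete (IsLocalRing.maximalIdeal A) A]
    (π : MvPowerSeries σ R →ₐ[R] A) (hπ : Function.Surjective π)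
    (f : E →ₐ[R] A) (hf : Function.Surjective f)
    (hsq : RingHom.ker f.toRingHom ^ 2 = ⊥) (hfg : (RingHom.ker f.toRingHom).FG) :
    ∃ l : MvPowerSeries σ R →ₐ[R] E, f.comp l = π := by
  cases nonempty_fintype σ
  let e := Fintype.equivFin σ
  let r : MvPowerSeries σ R ≃ₐ[R] MvPowerSeries (Fin (Fintype.card σ)) R := MvPowerSeries.renameEquiv R e
  let π' := π.comp r.symm.toAlgHom
  have hπ' : Function.Surjective π' := hπ.comp r.symm.surjective
  have hX : ∀ i, π' (X i) ∈ maximalIdeal A := by
    intro i
    by_contra h
    obtain ⟨u, hu⟩ := IsLocalRing.notMem_maximalIdeal.1 h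
    obtain ⟨g, hg⟩ := hπ' (-(u⁻¹ : Aˣ) : A)
    have h0 : (X i : MvPowerSeries (Fin (Fintype.card σ)) R) ∈ Groth.Agent.PSLib.vars (Fintype.card σ) R := by
      rw [Groth.Agent.PSLib.vars]
      exact Ideal.subset_span (Set.mem_range_self i)
    have h3 := (Groth.Agent.PSLib.vars_le_jacobson (n := Fintype.card σ) (R := R)) h0
    rw [Ideal.mem_jacobson_bot] at h3
    have h1 : IsUnit (X i * g + 1) := h3 g
    have h2 := h1.map π'
    rw [map_add, map_mul, map_one, hg, ← hu] at h2
    simp at h2
  let J : Ideal E := (maximalIdeal A).comap f.toRingHom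
  haveI : IsAdicComplete J E := Groth.Agent.S16981.result f.toRingHom hf hsq hfg
  choose b hb using fun i => hf (π' (X i))
  obtain ⟨ψ, hψ⟩ := Groth.Agent.PSLib.exists_algHom (R := R) J b (fun i => by
    show f (b i) ∈ maximalIdeal A
    rw [hb]; exact hX i)
  have key : f.comp ψ = π' := Groth.Agent.PSLib.algHom_ext (I := maximalIdeal A) _ _
    (fun i => by simp [hψ, hb, hX i]) (fun i => by simp [hψ, hb])
  refine ⟨ψ.comp r.toAlgHom, ?_⟩
  rw [← AlgHom.comp_assoc, key]
  ext p
  simp [π']

end Groth.Agent.S16982
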