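import Groth.Statements.S16983
import Mathlib


set_option autoImplicit false
universe u
open DeformData

namespace Groth.Agent.S16983

/-- Let p be a prime, s ≥ 1, B a finite index set with a subset B₀ of exactly three elements, m_j ≥ 1
integers coprime to p, and σ_{i,j} (i < s, j ∈ B) rational numbers with m_j σ_{i,j} an integer, such
that Σ_j (σ_{i,j} − 1) = −2 for every i, the fractional part of σ_{i,j} equals that of p^i σ_{0,j},
no σ_{i,j} equals 1, and the minimum over i of ⌊σ_{i,j}⌋ is 0 for j ∈ B₀ and 1 for j ∉ B₀. Then for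
every i the fractional parts ⟨σ_{i,j}⟩ sum over j to 1 (purity), and ⌊σ_{i,j}⌋ is 0 on B₀ and 1 off
B₀ for every i. (The hypotheses are exactly the properties of the signature of a special deformation
datum on the projective line: each entry is an integer divided by a stabilizer order m_j in a group
of order prime to p, the degree identity coming from Riemann–Hurwitz, the Frobenius-twist relation
between fractional parts, and the speciality conditions; the statement is given here for any such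
tuple.) -/
theorem result
    {B : Type u} [Fintype B] [DecidableEq B] (B₀ : Finset B) (hB₀ : B₀.card = 3)
    (p : ℕ) (hp : p.Prime) (s : ℕ) (hs : 0 < s)
    (m : B → ℕ) (hm : ∀ j, 0 < m j) (hmp : ∀ j, Nat.Coprime (m j) p)
    (σ : Fin s → B → ℚ) (hint : ∀ i j, ∃ h : ℤ, σ i j = (h : ℚ) / (m j : ℚ))
    (hsum : ∀ i, ∑ j, (σ i j - 1) = -2)
    (hfract : ∀ i j, Int.fract (σ i j) = Int.fract ((p : ℚ) ^ (i : ℕ) * σ ⟨0, hs⟩ j))
    (hne : ∀ i j, σ i j ≠ 1)
    (hB₀min : ∀ j ∈ B₀, (∃ i, ⌊σ i j⌋ = 0) ∧ ∀ i, 0 ≤ ⌊σ i j⌋)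
    (hBmin : ∀ j ∉ B₀, (∃ i, ⌊σ i j⌋ = 1) ∧ ∀ i, 1 ≤ ⌊σ i j⌋) :
    (∀ i, ∑ j, Int.fract (σ i j) = 1) ∧ (∀ i j, ⌊σ i j⌋ = if j ∈ B₀ then 0 else 1) := by
  classical
  set c : B → ℤ := fun j => if j ∈ B₀ then 0 else 1 with hcdef
  have hge : ∀ i j, c j ≤ ⌊σ i j⌋ := fun i j => by
    simp only [hcdef]
    split_ifs with hj
    · exact (hB₀min j hj).2 i
    · exact (hBmin j hj).2 i
  have hc : ∀ i, ∑ j, Int.fract (σ i j) + ((∑ j, (⌊σ i j⌋ - c j) : ℤ) : ℚ) = 1 := by
    intro i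
    have h0 := hsum i
    rw [Finset.sum_sub_distrib, Finset.sum_const, Finset.card_univ, nsmul_one] at h0
    have h1 : (∑ j, c j : ℤ) = (Fintype.card B : ℤ) - 3 := by
      have : ∀ j, c j = 1 - (if j ∈ B₀ then (1 : ℤ) else 0) := fun j => by
        simp only [hcdef]; split_ifs <;> simp
      rw [Finset.sum_congr rfl (fun j _ => this j), Finset.sum_sub_distrib, Finset.sum_boole]
      simp [hB₀]
    rw [Finset.sum_sub_distrib, h1]
    push_cast
    have h2 : ∑ j, σ i j = ∑ j, Int.fract (σ i j) + ∑ j, (⌊σ i j⌋ : ℚ) := by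
      rw [← Finset.sum_add_distrib]
      exact Finset.sum_congr rfl fun j _ => (Int.fract_add_floor _).symm
    linarith
  have hpos : ∀ i, 0 < ∑ j, Int.fract (σ i j) := by
    intro i
    refine lt_of_le_of_ne (Finset.sum_nonneg fun j _ => Int.fract_nonneg _) (fun h0 => ?_)
    have hz := (Finset.sum_eq_zero_iff_of_nonneg (fun j _ => Int.fract_nonneg (σ i j))).mp h0.symm
    have hall : ∀ i' j, Int.fract (σ i' j) = 0 := by
      intro i' j
      obtain ⟨a, ha⟩ := hint ⟨0, hs⟩ j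
      have h3 := hz j (Finset.mem_univ j)
      rw [hfract i j, Int.fract_eq_iff] at h3
      obtain ⟨-, -, b, hb⟩ := h3
      have hmj : (m j : ℚ) ≠ 0 := by exact_mod_cast (hm j).ne'
      rw [ha, sub_zero, mul_div_assoc', div_eq_iff hmj] at hb
      have hdvd : (m j : ℤ) ∣ (p : ℤ) ^ (i : ℕ) * a := ⟨b, by
        have : (((p : ℤ) ^ (i : ℕ) * a : ℤ) : ℚ) = (((m j : ℤ) * b : ℤ) : ℚ) := by push_cast; linarith
        exact_mod_cast this⟩
      have hco : IsCoprime (m j : ℤ) ((p : ℤ) ^ (i : ℕ)) := (Nat.isCoprime_iff_coprime.mpr (hmp j)).pow_right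
      obtain ⟨e, he⟩ := hco.dvd_of_dvd_mul_left hdvd
      have h4 : σ ⟨0, hs⟩ j = (e : ℚ) := by
        rw [ha, he]; push_cast; field_simp
      rw [hfract i' j, h4, ← Nat.cast_pow, show ((p ^ (i' : ℕ) : ℕ) : ℚ) * (e : ℚ) = (((p ^ (i' : ℕ) : ℕ) : ℤ) * e : ℤ) by push_cast; ring]
      exact Int.fract_intCast _
    have hfl : ∀ i' j, σ i' j = ⌊σ i' j⌋ := fun i' j => by
      have := Int.fract_add_floor (σ i' j)
      rw [hall i' j, zero_add] at this
      exact this.symm
    by_cases hB : ∃ j, j ∉ B₀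
    · obtain ⟨j, hj⟩ := hB
      obtain ⟨i', hi'⟩ := (hBmin j hj).1
      exact hne i' j (by rw [hfl i' j, hi']; simp)
    · push Not at hB
      have h5 := hc i
      rw [← h0, zero_add] at h5
      have h6 : ∑ j, ⌊σ i j⌋ = 1 := by
        have : ∑ j, (⌊σ i j⌋ - c j) = 1 := by exact_mod_cast h5
        rw [← this]
        exact Finset.sum_congr rfl fun j _ => by simp [hcdef, hB j]
      obtain ⟨j, hj⟩ : ∃ j, ⌊σ i j⌋ ≠ 0 := by
        by_contra hn
        push Not at hn
        simp [hn] at h6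
      have h7 : ⌊σ i j⌋ ≤ 1 := h6 ▸ Finset.single_le_sum (f := fun j => ⌊σ i j⌋) (fun x _ => (hB₀min x (hB x)).2 i) (Finset.mem_univ j)
      have h8 : ⌊σ i j⌋ = 1 := by have := (hB₀min j (hB j)).2 i; omega
      exact hne i j (by rw [hfl i j, h8]; simp)
  have hE : ∀ i, ∑ j, (⌊σ i j⌋ - c j) = 0 := fun i => by
    have h1 : (0 : ℤ) ≤ ∑ j, (⌊σ i j⌋ - c j) := Finset.sum_nonneg fun j _ => sub_nonneg.mpr (hge i j)
    have h2 : ((∑ j, (⌊σ i j⌋ - c j) : ℤ) : ℚ) < 1 := by linarith [hc i, hpos i]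
    have h3 : ∑ j, (⌊σ i j⌋ - c j) < 1 := by exact_mod_cast h2
    omega
  refine ⟨fun i => ?_, fun i j => ?_⟩
  · have := hc i
    rw [hE i] at this
    simpa using this
  · have := (Finset.sum_eq_zero_iff_of_nonneg fun x _ => sub_nonneg.mpr (hge i x)).mp (hE i) j (Finset.mem_univ j)
    have h := sub_eq_zero.mp this
    simpa [hcdef] using h


end Groth.Agent.S16983
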