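import Groth.Statements.S1699
import Groth.Agent.AssPtX.Noeth

set_option autoImplicit false
universe u
open CategoryTheory CategoryTheory.Limits AlgebraicGeometry TopologicalSpace
open SDiv

namespace Groth.Agent.S1699

/-- (1) if and only if (3): let X be a locally Noetherian scheme and U an open subscheme. Then U is
scheme-theoretically dense in X if and only if U contains every associated point of X (every point
whose local ring has its maximal ideal as an associated prime). -/
theorem result (X : Scheme.{u}) [IsLocallyNoetherian X] (U : X.Opens) :
    CInt.IsSchematicallyDense U ↔ ∀ x : ↥X, IsAssociatedPrime (IsLocalRing.maximalIdeal ↑(X.presheaf.stalk x)) ↑(X.presheaf.stalk x) → x ∈ U := by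
  exact AssPtX.isSchematicallyDense_iff U

end Groth.Agent.S1699
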