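import Groth.Statements.S16990
import Groth.Agent.QFormLib.Conj
-- import your own Groth.Agent.* helpers here

set_option autoImplicit false
universe u v
open QuadGrp

open Groth.Agent

namespace Groth.Agent.S16990

/-- Comparison with SO′: over a commutative ring in which 2 is invertible, for a quadratic form Q on a
finite free module of even rank 2m ≥ 2 whose polar form is a perfect pairing, the isometries
satisfying the Dickson condition are exactly the isometries of determinant one. -/
theorem result {R : Type u} [CommRing R] [Invertible (2 : R)]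
    {M : Type v} [AddCommGroup M] [Module R M] [Module.Free R M] [Module.Finite R M]
    (m : ℕ) (hm : 1 ≤ m) (hM : Module.finrank R M = 2 * m) (Q : QuadraticForm R M) (hQ : QuadGrp.IsRegular Q) :
    QuadGrp.SOeven Q = QuadGrp.SO' Q := by
  obtain ⟨b⟩ := QFormLib.exists_basis hM
  ext g
  constructor
  · rintro ⟨hg, hD⟩
    obtain ⟨e, he, hδ, hz⟩ := QFormLib.exists_dickson b Q rfl hQ hm g hg
    have h0 := (QFormLib.isDicksonTrivial_iff b Q rfl hQ hm g hg hδ hz).mp hD
    refine ⟨hg, MonoidHom.mem_ker.mpr (Units.ext ?_)⟩
    rw [LinearEquiv.coe_det, hδ, h0, mul_zero, sub_zero, Units.val_one]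
  · rintro ⟨hg, hd⟩
    obtain ⟨e, he, hδ, hz⟩ := QFormLib.exists_dickson b Q rfl hQ hm g hg
    have h1 : LinearMap.det (g : M →ₗ[R] M) = 1 := by
      rw [← LinearEquiv.coe_det, MonoidHom.mem_ker.mp hd, Units.val_one]
    have h2 : 2 * e = 0 := by linear_combination hδ - h1
    refine ⟨hg, (QFormLib.isDicksonTrivial_iff b Q rfl hQ hm g hg hδ hz).mpr ?_⟩
    exact (isUnit_of_invertible (2 : R)).mul_right_eq_zero.mp h2

end Groth.Agent.S16990
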