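import Groth.Statements.S16992
import Groth.Agent.QFormLib.OddRank
-- import your own Groth.Agent.* helpers here

set_option autoImplicit false
universe u v
open QuadGrp

open Groth.Agent

namespace Groth.Agent.S16992

/-- Let Q be a quadratic form on a free module with a basis indexed by Fin (2m+1) over a commutative
ring, whose half-discriminant in that basis is a unit. If z is a central element of the Clifford
algebra C(Q) which is odd for its ℤ/2-grading, then the principal anti-involution of C(Q) (the one
extending v ↦ −v on the module) sends z to (−1)^(m+1) z. Equivalently: on the centre this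
anti-involution is the identity when the rank is 3 mod 4, and is the involution negating the odd
part when the rank is 1 mod 4. -/
theorem result {R : Type u} [CommRing R] {M : Type v} [AddCommGroup M] [Module R M]
    (m : ℕ) (b : Module.Basis (Fin (2 * m + 1)) R M) (Q : QuadraticForm R M)
    (hQ : QuadGrp.IsSemiregular b (LinearEquiv.refl R R) Q)
    (z : CliffordAlgebra Q) (hz : z ∈ Subalgebra.center R (CliffordAlgebra Q))
    (hz1 : z ∈ CliffordAlgebra.evenOdd Q 1) :
    star z = ((-1 : R) ^ (m + 1)) • z := by
  obtain ⟨r, rfl⟩ := QFormLib.eq_smul_wEl b Q rfl hQ hz1 fun v => (Subalgebra.mem_center_iff.mp hz _).symm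
  rw [CliffordAlgebra.star_smul, QFormLib.star_wEl_odd b Q rfl, smul_comm]

end Groth.Agent.S16992
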