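import Groth.Statements.S16999
import Groth.Agent.QFormLib.OddRank
-- import your own Groth.Agent.* helpers here

set_option autoImplicit false
universe u v
open QuadGrp

open Groth.Agent

namespace Groth.Agent.S16999

/-- Centre over a local base: over a local ring R, let Q be a quadratic form on a free module M with a
basis indexed by Fin (2m+1) whose half-discriminant in that basis is a unit. Then the centre of the
Clifford algebra C(Q) is generated by the square root of a unit: there is a central unit z, odd for
the ℤ/2-grading, with z² a scalar, such that 1, z are linearly independent and span the centre. (The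
published statement: the centre is a ℤ/2-graded locally free module of rank 2 with degree-0 part the
structure sheaf and degree-1 part an invertible sheaf squaring to it; over a local base this is the
form stated.) -/
theorem result {R : Type u} [CommRing R] [IsLocalRing R]
    {M : Type v} [AddCommGroup M] [Module R M]
    (m : ℕ) (b : Module.Basis (Fin (2 * m + 1)) R M) (Q : QuadraticForm R M)
    (hQ : QuadGrp.IsSemiregular b (LinearEquiv.refl R R) Q) :
    ∃ z : CliffordAlgebra Q, z ∈ Subalgebra.center R (CliffordAlgebra Q) ∧ z ∈ CliffordAlgebra.evenOdd Q 1 ∧ IsUnit z ∧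
      z * z ∈ (algebraMap R (CliffordAlgebra Q)).range ∧ LinearIndependent R ![(1 : CliffordAlgebra Q), z] ∧
      Subalgebra.toSubmodule (Subalgebra.center R (CliffordAlgebra Q)) = Submodule.span R {1, z} := by
  have hW := QFormLib.isUnit_wEl_odd b Q rfl hQ
  refine ⟨QFormLib.wEl b Q, QFormLib.wEl_mem_center b Q rfl, QFormLib.wEl_mem_odd b Q rfl, hW,
    ⟨_, (QFormLib.wEl_sq_odd b Q rfl).symm⟩, LinearIndependent.pair_iff.mpr fun s t h => ?_, ?_⟩
  · exact QFormLib.wEl_indep b Q rfl hQ (by rwa [Algebra.algebraMap_eq_smul_one])
  · refine le_antisymm (fun x hx => ?_) (Submodule.span_le.mpr ?_)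
    · obtain ⟨a, r, rfl⟩ := QFormLib.exists_of_center b Q rfl hQ fun v => (Subalgebra.mem_center_iff (R := R) |>.mp hx _).symm
      rw [Algebra.algebraMap_eq_smul_one]
      exact Submodule.mem_span_pair.mpr ⟨a, r, rfl⟩
    · rintro x (rfl | rfl)
      · exact Subalgebra.one_mem _
      · exact QFormLib.wEl_mem_center b Q rfl

end Groth.Agent.S16999
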