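import Groth.Statements.S1700
import Groth.Agent.UfdExt16.Ass
-- import your own Groth.Agent.* helpers here

set_option autoImplicit false
universe u
open CategoryTheory CategoryTheory.Limits AlgebraicGeometry TopologicalSpace
open SDiv

namespace Groth.Agent.S1700
open Groth.Agent

/-- Let X be a Noetherian scheme and 𝓘 a quasi-coherent ideal sheaf with closed subscheme Z such that
(1) Z has no embedded points: every point of Z whose local ring has its maximal ideal associated is
a maximal point of Z; (2) every maximal point of Z has codimension 1 in X (the local ring of X there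
has dimension 1); (3) the local ring of X at every point of Z is a unique factorisation domain. Then
𝓘 is the ideal sheaf of an effective Cartier divisor. -/
theorem result (X : Scheme.{u}) [IsNoetherian X] (𝓘 : X.IdealSheafData)
    (h1 : ∀ z : ↥𝓘.subscheme, IsAssociatedPrime (IsLocalRing.maximalIdeal ↑(𝓘.subscheme.presheaf.stalk z)) ↑(𝓘.subscheme.presheaf.stalk z) → ∀ z' : ↥𝓘.subscheme, z' ⤳ z → z' = z)
    (h2 : ∀ z : ↥𝓘.subscheme, (∀ z' : ↥𝓘.subscheme, z' ⤳ z → z' = z) →
      ringKrullDim (X.presheaf.stalk (𝓘.subschemeι z)) = 1)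
    (h3 : ∀ x : ↥X, x ∈ 𝓘.support → IsDomain (X.presheaf.stalk x) ∧ UniqueFactorizationMonoid (X.presheaf.stalk x)) :
    BlowUp.IsEffCartierIdeal 𝓘 := by
  exact UfdExt16.isEffCartier_of_noEmbedded 𝓘 h1 h2 h3

end Groth.Agent.S1700
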