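import Groth.Statements.S17000
import Groth.Agent.QRepLib.Naive
import Mathlib.Algebra.Field.ZMod
import Mathlib.Data.Nat.Prime.Int

set_option autoImplicit false
open CategoryTheory AlgebraicGeometry
open QuadGrp

namespace Groth.Agent.S17000

open Groth.Agent

/-- For m ≥ 1, a group scheme over Spec ℤ which is the naive special orthogonal group (kernel of the
determinant on the orthogonal group) of the standard split quadratic form in 2m variables is a
reduced scheme and is not flat over ℤ. (The published statement also identifies the complement of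
the Dickson special orthogonal group inside it with the non-identity component of the orthogonal
group in characteristic 2.) -/
theorem result (m : ℕ) (hm : 1 ≤ m)
    (G : Over (Spec (CommRingCat.of ℤ))) [GrpObj G] (D : QuadGrp.SOrth'Rep (QuadGrp.splitForm ℤ (2 * m)) G) :
    AlgebraicGeometry.IsReduced G.left ∧ ¬ AlgebraicGeometry.Flat G.hom := by
  have hQ := QRepLib.isRegular_splitForm ℤ m
  obtain ⟨h1, h2⟩ := QRepLib.naive_scheme _ D
  haveI : _root_.IsReduced (ℤ ⧸ Ideal.span {(2 : ℤ)}) := by
    haveI : (Ideal.span {(2 : ℤ)}).IsPrime := (Ideal.span_singleton_prime two_ne_zero).mpr (Nat.prime_iff_prime_int.mp Nat.prime_two)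
    infer_instance
  obtain ⟨v, hv⟩ := QRepLib.splitForm_hyperbolic ℤ m hm
  haveI : Fact (Nat.Prime 2) := ⟨Nat.prime_two⟩
  refine ⟨h1 (QRepLib.isReduced_naive _ rfl hm hQ), fun hf =>
    QRepLib.not_flat_naive _ rfl hm hQ v hv (ZMod 2) (by exact_mod_cast ZMod.natCast_self 2) (fun x hx => by omega) (h2 hf)⟩

end Groth.Agent.S17000
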