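import Groth.Statements.S17007
import Groth.Agent.QFormLib.EvenLocal
-- import your own Groth.Agent.* helpers here

set_option autoImplicit false
universe u v
open QuadGrp

open Groth.Agent

namespace Groth.Agent.S17007

/-- Over a local ring, for a quadratic form Q on a finite free module of even rank 2m ≥ 2 whose polar
form is a perfect pairing, the isometries satisfying the Dickson condition form a subgroup of index
2 in the group of all isometries. (Points-level form, over a local base, of: the Dickson invariant
from the orthogonal group onto the constant group ℤ/2 is surjective with kernel the special
orthogonal group.) -/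
theorem result {R : Type u} [CommRing R] [IsLocalRing R]
    {M : Type v} [AddCommGroup M] [Module R M] [Module.Free R M] [Module.Finite R M]
    (m : ℕ) (hm : 1 ≤ m) (hM : Module.finrank R M = 2 * m) (Q : QuadraticForm R M) (hQ : QuadGrp.IsRegular Q) :
    ((QuadGrp.SOeven Q).subgroupOf (QuadGrp.O Q)).index = 2 := by
  obtain ⟨b⟩ := QFormLib.exists_basis hM
  exact QFormLib.index_SOeven b Q rfl hQ hm

end Groth.Agent.S17007
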