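import Groth.Statements.S17010
import Groth.Agent.QRepLib.Cliff

set_option autoImplicit false
universe u
open CategoryTheory AlgebraicGeometry
open QuadGrp

namespace Groth.Agent.S17010

open Groth.Agent

/-- Let Q be a quadratic form on R^{2m}, m ≥ 1, over a commutative ring R, whose polar form is a perfect
pairing, and let G be a group scheme over Spec R which is the Clifford group of Q (its A-valued
points are the locally homogeneous units of the Clifford algebra of Q_A normalising the module,
naturally in A). Then G is smooth and affine over Spec R. -/
theorem result (R : Type u) [CommRing R] (m : ℕ) (hm : 1 ≤ m)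
    (Q : QuadraticForm R (Fin (2 * m) → R)) (hQ : QuadGrp.IsRegular Q)
    (G : Over (Spec (CommRingCat.of R))) [GrpObj G] (D : QuadGrp.GPinRep Q G) :
    AlgebraicGeometry.Smooth G.hom ∧ IsAffineHom G.hom := by
  exact (QRepLib.cutGPin Q).smooth D (QRepLib.liftGPin_even Q rfl hm hQ)

end Groth.Agent.S17010
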