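import Groth.Statements.S17016
import Mathlib

set_option autoImplicit false
universe u
open QuadGrp

namespace Groth.Agent.S17016

/-- For the standard split quadratic form Σ x_{2i} x_{2i+1} on R^{2m} over any commutative ring R, with
standard basis vectors e_j in the Clifford algebra, the product w of the elements 1 − 2 e_{2i}
e_{2i+1} (i < m, which pairwise commute) satisfies w² = 1 and anticommutes with every e_j. (Hence w
is central in the even Clifford algebra; over rings in which 2 is invertible (1 − w)/2 is the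
non-trivial central idempotent of the even part.) -/
theorem result (R : Type u) [CommRing R] (m : ℕ) :
    let Q := QuadGrp.splitForm R (m * 2)
    let e : Fin (m * 2) → CliffordAlgebra Q := fun j => CliffordAlgebra.ι Q (Pi.single j 1)
    let w : CliffordAlgebra Q :=
      ((List.finRange m).map fun i => 1 - 2 * (e (finProdFinEquiv (i, 0)) * e (finProdFinEquiv (i, 1)))).prod
    w * w = 1 ∧ ∀ j : Fin (m * 2), e j * w = -(w * e j) := by
  intro Q e w
  classical
  have hn : m * 2 / 2 = m := by omega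
  have hpol : ∀ x y : Fin (m * 2) → R, QuadraticMap.polar Q x y = ∑ i : Fin (m * 2 / 2),
      (x ⟨2 * i + (m * 2) % 2, by omega⟩ * y ⟨2 * i + 1 + (m * 2) % 2, by omega⟩ +
        y ⟨2 * i + (m * 2) % 2, by omega⟩ * x ⟨2 * i + 1 + (m * 2) % 2, by omega⟩) := by
    intro x y
    simp only [Q, QuadraticMap.polar, QuadGrp.splitForm, dif_neg (show ¬ (m * 2) % 2 = 1 by omega), add_zero,
      QuadraticMap.sum_apply, QuadraticMap.linMulLin_apply, LinearMap.proj_apply, Pi.add_apply,
      ← Finset.sum_sub_distrib]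
    exact Finset.sum_congr rfl fun i _ => by ring
  have hQ0 : ∀ j, Q (Pi.single j 1) = 0 := by
    intro j
    simp only [Q, QuadGrp.splitForm, dif_neg (show ¬ (m * 2) % 2 = 1 by omega), add_zero,
      QuadraticMap.sum_apply, QuadraticMap.linMulLin_apply, LinearMap.proj_apply]
    refine Finset.sum_eq_zero fun i _ => ?_
    rcases eq_or_ne j ⟨2 * i + (m * 2) % 2, by omega⟩ with h | h
    · rw [Pi.single_eq_of_ne (i := j) (i' := ⟨2 * i + 1 + (m * 2) % 2, by omega⟩) (by rw [h]; simp [Fin.ext_iff]), mul_zero]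
    · rw [Pi.single_eq_of_ne h.symm, zero_mul]
  -- anticommutation
  have hanti : ∀ j l : Fin (m * 2), (j : ℕ) / 2 ≠ (l : ℕ) / 2 → e j * e l = -(e l * e j) := by
    intro j l hjl
    refine eq_neg_of_add_eq_zero_left ?_
    rw [CliffordAlgebra.ι_mul_ι_add_swap, hpol, Finset.sum_eq_zero, map_zero]
    intro i _
    simp only [Pi.single_apply, Fin.ext_iff]
    split_ifs with h1 h2 h3 h4 <;> simp <;> omega
  have hpair : ∀ i : Fin m, e (finProdFinEquiv (i, 0)) * e (finProdFinEquiv (i, 1)) +
      e (finProdFinEquiv (i, 1)) * e (finProdFinEquiv (i, 0)) = 1 := by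
    intro i
    rw [CliffordAlgebra.ι_mul_ι_add_swap, hpol, Finset.sum_eq_single (⟨(i : ℕ), by omega⟩ : Fin (m * 2 / 2))]
    · simp [Pi.single_apply, Fin.ext_iff, finProdFinEquiv]
      intro h; exact absurd (by omega) h
    · intro b _ hb
      have hb' : (b : ℕ) ≠ (i : ℕ) := fun h => hb (Fin.ext h)
      simp [Pi.single_apply, Fin.ext_iff, finProdFinEquiv]
      simp only [if_neg hb', ite_self, add_zero, zero_add]
      split_ifs with k1 k2 <;> first | rfl | omega
    · simp
  have hsq : ∀ j, e j * e j = 0 := fun j => by rw [CliffordAlgebra.ι_sq_scalar, hQ0, map_zero]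
  let t : Fin m → CliffordAlgebra Q := fun i => 1 - 2 * (e (finProdFinEquiv (i, 0)) * e (finProdFinEquiv (i, 1)))
  have htsq : ∀ i, t i * t i = 1 := fun i => by
    have h := hpair i
    have hs := hsq (finProdFinEquiv (i, 0))
    set a := e (finProdFinEquiv (i, 0)) with ha
    set b := e (finProdFinEquiv (i, 1)) with hb
    have hba : b * a = 1 - a * b := eq_sub_of_add_eq' h
    have hidem : a * b * (a * b) = a * b := by
      rw [mul_assoc a b, ← mul_assoc b a b, hba, sub_mul, one_mul, mul_sub, ← mul_assoc, ← mul_assoc, hs, zero_mul,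
        zero_mul, sub_zero]
    show (1 - 2 * (a * b)) * (1 - 2 * (a * b)) = 1
    have e2 : (1 - 2 * (a * b)) * (1 - 2 * (a * b)) = 1 - (4 : ℤ) • (a * b) + (4 : ℤ) • (a * b * (a * b)) := by
      simp only [two_mul, mul_sub, sub_mul, mul_add, add_mul, one_mul, mul_one]
      abel
    rw [e2, hidem]
    abel
  have htanti : ∀ (i : Fin m) (j : Fin (m * 2)), (j : ℕ) / 2 = (i : ℕ) → e j * t i = -(t i * e j) := by
    intro i j hj
    have h := hpair i
    have hs := hsq (finProdFinEquiv (i, 0))
    have hs' := hsq (finProdFinEquiv (i, 1))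
    set a := e (finProdFinEquiv (i, 0)) with ha
    set b := e (finProdFinEquiv (i, 1)) with hb
    have hba : b * a = 1 - a * b := eq_sub_of_add_eq' h
    show e j * (1 - 2 * (a * b)) = -((1 - 2 * (a * b)) * e j)
    rcases Nat.mod_two_eq_zero_or_one (j : ℕ) with hm2 | hm2
    · rw [show j = finProdFinEquiv (i, 0) from Fin.ext (by simp [finProdFinEquiv]; omega), ← ha]
      simp only [two_mul, mul_sub, sub_mul, mul_add, add_mul, one_mul, mul_one]
      rw [← mul_assoc, hs, zero_mul, mul_assoc a b a, hba, mul_sub, mul_one, ← mul_assoc, hs, zero_mul]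
      abel
    · rw [show j = finProdFinEquiv (i, 1) from Fin.ext (by simp [finProdFinEquiv]; omega), ← hb]
      simp only [two_mul, mul_sub, sub_mul, mul_add, add_mul, one_mul, mul_one]
      rw [mul_assoc a b b, hs', mul_zero, ← mul_assoc b a b, hba, sub_mul, one_mul, mul_assoc a b b, hs', mul_zero]
      abel
  have htcomm : ∀ (i : Fin m) (j : Fin (m * 2)), (j : ℕ) / 2 ≠ (i : ℕ) → e j * t i = t i * e j := by
    intro i j hj
    show e j * (1 - 2 * (_ * _)) = _ * e j
    have h0 := hanti j (finProdFinEquiv (i, 0)) (by simp [finProdFinEquiv]; omega)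
    have h1 := hanti j (finProdFinEquiv (i, 1)) (by simp [finProdFinEquiv]; omega)
    simp only [t, two_mul, mul_sub, sub_mul, mul_add, add_mul, one_mul, mul_one]
    rw [← mul_assoc, h0, neg_mul, mul_assoc, h1, mul_neg, neg_neg, ← mul_assoc]
  have hc : ∀ i l : Fin m, i ≠ l → Commute (t i) (t l) := fun i l hil => by
    have c0 := htcomm l (finProdFinEquiv (i, 0)) (by simp [finProdFinEquiv]; omega)
    have c1 := htcomm l (finProdFinEquiv (i, 1)) (by simp [finProdFinEquiv]; omega)
    refine (Commute.one_left _).sub_left ((Commute.ofNat_left 2 _).mul_left ?_)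
    exact Commute.mul_left c0 c1
  have key : ∀ L : List (Fin m), L.Nodup → (L.map t).prod * (L.map t).prod = 1 ∧
      ∀ j : Fin (m * 2), e j * (L.map t).prod =
        (if ∃ i ∈ L, (i : ℕ) = (j : ℕ) / 2 then -((L.map t).prod * e j) else (L.map t).prod * e j) := by
    intro L hL
    induction L with
    | nil => simp
    | cons i L ih =>
      rw [List.nodup_cons] at hL
      obtain ⟨h1, h2⟩ := ih hL.2
      have hcL : Commute (t i) (L.map t).prod := Commute.list_prod_right _ _ fun x hx => by
        obtain ⟨l, hl, rfl⟩ := List.mem_map.mp hx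
        exact hc i l fun h => hL.1 (h ▸ hl)
      rw [List.map_cons, List.prod_cons]
      refine ⟨by rw [mul_assoc, ← mul_assoc (L.map t).prod, ← hcL.eq, ← mul_assoc, ← mul_assoc, htsq, one_mul, h1],
        fun j => ?_⟩
      by_cases hj : (j : ℕ) / 2 = (i : ℕ)
      · have hno : ¬ ∃ l ∈ L, (l : ℕ) = (j : ℕ) / 2 := fun ⟨l, hl, hlj⟩ => hL.1 (Fin.ext (hlj.trans hj) ▸ hl)
        rw [if_pos ⟨i, List.mem_cons_self, hj.symm⟩, ← mul_assoc, htanti i j hj, neg_mul, mul_assoc, h2 j, if_neg hno,
          mul_assoc]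
      · rw [← mul_assoc, htcomm i j hj, mul_assoc, h2 j]
        have hiff : (∃ l ∈ i :: L, (l : ℕ) = (j : ℕ) / 2) ↔ ∃ l ∈ L, (l : ℕ) = (j : ℕ) / 2 :=
          ⟨fun ⟨l, hl, hlj⟩ => ⟨l, (List.mem_cons.mp hl).resolve_left fun h => hj (by rw [← hlj, h]), hlj⟩,
            fun ⟨l, hl, hlj⟩ => ⟨l, List.mem_cons_of_mem _ hl, hlj⟩⟩
        simp only [hiff]
        split_ifs with h
        · rw [mul_neg, mul_assoc]
        · rw [mul_assoc]
  obtain ⟨h1, h2⟩ := key (List.finRange m) (List.nodup_finRange m)
  refine ⟨h1, fun j => ?_⟩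
  rw [show e j * w = _ from h2 j, if_pos ⟨⟨(j : ℕ) / 2, by omega⟩, List.mem_finRange _, rfl⟩]

end Groth.Agent.S17016
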