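import Groth.Statements.S17019
import Groth.Agent.H26.GeomGenericCurve
import Groth.Agent.H26.GenericFieldTensor
import Groth.Agent.H26.TensorDvr
import Groth.Agent.S17018

set_option autoImplicit false
universe u
open CategoryTheory CategoryTheory.Limits AlgebraicGeometry
open scoped TensorProduct
open Models

namespace Groth.Agent.S17019

/-- Let R be a discrete valuation ring with algebraically closed residue field and f : X → Spec R a
proper flat morphism whose generic fibre (base change to the fraction field of R) is smooth of
relative dimension 1 and connected and whose special fibre (base change to the residue field) is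
connected and reduced; let ξ be the generic point of an irreducible component of the special fibre
and B a discrete valuation ring given with an isomorphism from the local ring of X at ξ under which
R → B is the map induced by f; let R' be a discrete valuation ring with an injective local
homomorphism R → R' which is generically finite (Frac R ⊗_R R' is a finite module over Frac R). Then
B ⊗_R R' is an integral domain and a discrete valuation ring. (The published setting takes
everything essentially of finite type over a field of characteristic zero; the printed argument does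
not use this and it is not imposed here.) -/
theorem result
    (R : Type u) [CommRing R] [IsDomain R] [IsDiscreteValuationRing R]
    [IsAlgClosed (IsLocalRing.ResidueField R)]
    (X : Scheme.{u}) (f : X ⟶ Spec (CommRingCat.of R)) [IsProper f] [Flat f]
    (XK : Scheme.{u}) (gK : XK ⟶ X) (fK : XK ⟶ Spec (CommRingCat.of (FractionRing R)))
    (hK : IsPullback gK fK f (Spec.map (CommRingCat.ofHom (algebraMap R (FractionRing R)))))
    [SmoothOfRelativeDimension 1 fK] [ConnectedSpace XK]
    (Xs : Scheme.{u}) (gs : Xs ⟶ X) (fs : Xs ⟶ Spec (CommRingCat.of (IsLocalRing.ResidueField R)))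
    (hs : IsPullback gs fs f (Spec.map (CommRingCat.ofHom (IsLocalRing.residue R))))
    [ConnectedSpace Xs] [IsReduced Xs]
    (ξ : Xs) (hξ : closure ({ξ} : Set Xs) ∈ irreducibleComponents Xs)
    (B : Type u) [CommRing B] [IsDomain B] [IsDiscreteValuationRing B] [Algebra R B]
    (e : X.presheaf.stalk (gs.base ξ) ≅ CommRingCat.of B)
    (he : e.hom.hom.comp ((X.presheaf.germ ⊤ (gs.base ξ) trivial).hom.comp (Coh.toGlobal f)) =
      algebraMap R B)
    (R' : Type u) [CommRing R'] [IsDomain R'] [IsDiscreteValuationRing R'] [Algebra R R']
    (hinj : Function.Injective (algebraMap R R')) [IsLocalHom (algebraMap R R')]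
    [Module.Finite (FractionRing R) (FractionRing R ⊗[R] R')] :
    ∃ _ : IsDomain (B ⊗[R] R'), IsDiscreteValuationRing (B ⊗[R] R') := by
  haveI := MorphismProperty.of_isPullback hs ‹IsProper f›
  have hinjB := Groth.Agent.H26.GeomGenericCurve.algebraMap_injective f (gs.base ξ) B e he
  have hm := Groth.Agent.S17018.result R X f XK gK fK hK Xs gs fs hs ξ hξ B e he
  let K := FractionRing R
  haveI : Module.IsTorsionFree R R' := Module.isTorsionFree_iff_smul_eq_zero.2 fun c x h => by
    rw [Algebra.smul_def, mul_eq_zero, map_eq_zero_iff _ hinj] at h
    exact h
  haveI : Algebra.IsAlgebraic R R' := ⟨fun a => by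
    have hi : Function.Injective (Algebra.TensorProduct.includeRight : R' →ₐ[R] K ⊗[R] R') :=
      Algebra.TensorProduct.includeRight_injective (IsFractionRing.injective R K)
    have h1 : IsAlgebraic R ((Algebra.TensorProduct.includeRight : R' →ₐ[R] K ⊗[R] R') a) :=
      (IsFractionRing.isAlgebraic_iff R K (K ⊗[R] R')).2 (Algebra.IsAlgebraic.isAlgebraic _)
    exact (isAlgebraic_algHom_iff _ hi).1 h1⟩
  let L := FractionRing R'
  have hL : Function.Injective (algebraMap R L) := by
    rw [IsScalarTower.algebraMap_eq R R' L]
    exact (IsFractionRing.injective R' L).comp hinj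
  haveI : FaithfulSMul R R' := (faithfulSMul_iff_algebraMap_injective R R').2 hinj
  haveI : Algebra.IsAlgebraic R' L := IsLocalization.isAlgebraic L (nonZeroDivisors R')
  haveI : Algebra.IsAlgebraic R L := Algebra.IsAlgebraic.trans R R' L
  exact Groth.Agent.H26.TensorDvr.isDVR_tensor B hinjB hm R' hinj
    (Groth.Agent.H26.GenericFieldTensor.isField_tensor R X f XK gK fK hK Xs gs fs hs (gs.base ξ) B e he hm L hL)

end Groth.Agent.S17019
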