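import Groth.Statements.S17020
import Groth.Agent.H26.GeomGenericCurve
import Groth.Agent.S17018
import Mathlib.FieldTheory.IsAlgClosed.AlgebraicClosure

set_option autoImplicit false
universe u
open CategoryTheory CategoryTheory.Limits AlgebraicGeometry
open scoped TensorProduct
open Models

namespace Groth.Agent.S17020

/-- Let R be a discrete valuation ring with algebraically closed residue field and f : X → Spec R a
proper flat morphism whose generic fibre (base change to the fraction field of R) is smooth of
relative dimension 1 and connected and whose special fibre (base change to the residue field) is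
connected and reduced; let ξ be the generic point of an irreducible component of the special fibre
and B a discrete valuation ring given with an isomorphism from the local ring of X at ξ under which
R → B is the map induced by f. Then for F the algebraic closure of the fraction field of R, the ring
F ⊗_R B is a field. (The published setting takes everything essentially of finite type over a field
of characteristic zero; the printed argument does not use this and it is not imposed here.) -/
theorem result
    (R : Type u) [CommRing R] [IsDomain R] [IsDiscreteValuationRing R]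
    [IsAlgClosed (IsLocalRing.ResidueField R)]
    (X : Scheme.{u}) (f : X ⟶ Spec (CommRingCat.of R)) [IsProper f] [Flat f]
    (XK : Scheme.{u}) (gK : XK ⟶ X) (fK : XK ⟶ Spec (CommRingCat.of (FractionRing R)))
    (hK : IsPullback gK fK f (Spec.map (CommRingCat.ofHom (algebraMap R (FractionRing R)))))
    [SmoothOfRelativeDimension 1 fK] [ConnectedSpace XK]
    (Xs : Scheme.{u}) (gs : Xs ⟶ X) (fs : Xs ⟶ Spec (CommRingCat.of (IsLocalRing.ResidueField R)))
    (hs : IsPullback gs fs f (Spec.map (CommRingCat.ofHom (IsLocalRing.residue R))))
    [ConnectedSpace Xs] [IsReduced Xs]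
    (ξ : Xs) (hξ : closure ({ξ} : Set Xs) ∈ irreducibleComponents Xs)
    (B : Type u) [CommRing B] [IsDomain B] [IsDiscreteValuationRing B] [Algebra R B]
    (e : X.presheaf.stalk (gs.base ξ) ≅ CommRingCat.of B)
    (he : e.hom.hom.comp ((X.presheaf.germ ⊤ (gs.base ξ) trivial).hom.comp (Coh.toGlobal f)) =
      algebraMap R B) :
    IsField (AlgebraicClosure (FractionRing R) ⊗[R] B) := by
  haveI := MorphismProperty.of_isPullback hs ‹IsProper f›
  have hinj := Groth.Agent.H26.GeomGenericCurve.algebraMap_injective f (gs.base ξ) B e he
  let K := FractionRing R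
  let L := AlgebraicClosure K
  have hL : Function.Injective (algebraMap R L) := by
    rw [IsScalarTower.algebraMap_eq R K L]
    exact (algebraMap K L).injective.comp (IsFractionRing.injective R K)
  haveI := Groth.Agent.H26.GeomGenericCurve.nontrivial_tensor hinj L hL
  haveI : IsDomain (B ⊗[R] L) := Groth.Agent.H26.GeomGeneric.isDomain_tensor_stalk f
    (Groth.Agent.H26.GeomGenericCurve.isIntegral_generic f gK fK hK gs fs hs L (algebraMap K L)
      (IsScalarTower.algebraMap_eq R K L).symm) (gs.base ξ) B e he
  let D := L ⊗[R] B
  let c : D ≃+* B ⊗[R] L := (Algebra.TensorProduct.comm R L B).toRingEquiv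
  haveI : IsDomain D := c.toMulEquiv.isDomain
  let jL : L →+* D := Algebra.TensorProduct.includeLeftRingHom
  let jB : B →+* D := (Algebra.TensorProduct.includeRight : B →ₐ[R] D).toRingHom
  have hj : ∀ r : R, jL (algebraMap R L r) = jB (algebraMap R B r) := fun r => by
    show algebraMap R L r ⊗ₜ[R] (1 : B) = (1 : L) ⊗ₜ[R] algebraMap R B r
    rw [Algebra.algebraMap_eq_smul_one, Algebra.algebraMap_eq_smul_one, TensorProduct.smul_tmul]
  obtain ⟨ϖ, hirr⟩ := IsDiscreteValuationRing.exists_irreducible R
  have hm := Groth.Agent.S17018.result R X f XK gK fK hK Xs gs fs hs ξ hξ B e he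
  rw [hirr.maximalIdeal_eq, Ideal.map_span, Set.image_singleton] at hm
  have hirrB : Irreducible (algebraMap R B ϖ) := IsDiscreteValuationRing.irreducible_iff_uniformizer _ |>.2 hm
  have hunit : ∀ b : B, b ≠ 0 → IsUnit (jB b) := fun b hb => by
    obtain ⟨n, v, rfl⟩ := IsDiscreteValuationRing.eq_unit_mul_pow_irreducible hb hirrB
    rw [map_mul, map_pow, ← hj]
    exact (v.isUnit.map jB).mul (((Ne.isUnit ((map_ne_zero_iff _ hL).2 hirr.ne_zero)).map jL).pow n)
  let T := FractionRing B
  let jT : T →+* D := IsLocalization.lift (M := nonZeroDivisors B) (g := jB)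
    fun y => hunit _ (nonZeroDivisors.ne_zero y.2)
  letI : Algebra T D := jT.toAlgebra
  haveI : Algebra.IsIntegral T D := by
    refine ⟨fun z => ?_⟩
    induction z using TensorProduct.induction_on with
    | zero => exact isIntegral_zero
    | tmul l b =>
      rw [show l ⊗ₜ[R] b = jL l * jB b by
        show _ = (l ⊗ₜ[R] (1 : B)) * ((1 : L) ⊗ₜ[R] b)
        rw [Algebra.TensorProduct.tmul_mul_tmul, mul_one, one_mul]]
      refine IsIntegral.mul ?_ ?_
      · obtain ⟨p, hp, hpl⟩ := (Algebra.IsIntegral.isIntegral (R := K) l : IsIntegral K l)
        have hψ : Function.Injective ((algebraMap B T).comp (algebraMap R B)) :=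
          (IsFractionRing.injective B T).comp hinj
        let ψ : K →+* T := IsFractionRing.lift hψ
        have hc : jT.comp ψ = jL.comp (algebraMap K L) := IsLocalization.ringHom_ext (nonZeroDivisors R)
          (RingHom.ext fun r => by
            show jT (ψ (algebraMap R K r)) = jL (algebraMap K L (algebraMap R K r))
            rw [IsFractionRing.lift_algebraMap, ← IsScalarTower.algebraMap_apply, hj]
            exact IsLocalization.lift_eq _ _)
        refine ⟨p.map ψ, hp.map ψ, ?_⟩
        show (p.map ψ).eval₂ jT (jL l) = 0
        rw [Polynomial.eval₂_map, hc, ← Polynomial.hom_eval₂, hpl, map_zero]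
      · rw [← show jT (algebraMap B T b) = jB b from IsLocalization.lift_eq _ _]
        exact isIntegral_algebraMap
    | add a b ha hb => exact ha.add hb
  exact isField_of_isIntegral_of_isField' (R := T) (Field.toIsField T)

end Groth.Agent.S17020
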