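import Groth.Statements.S17022
import Groth.Agent.CurveTwoBranch.Basic
import Groth.Agent.S2501
import Groth.Agent.S7834
import Groth.Agent.RatPicProd.Core
import Groth.Agent.LefPenLib.Bertini
import Groth.Agent.S11332
import Groth.Agent.PicTangent.JacDeg

set_option autoImplicit false
universe u
open CategoryTheory CategoryTheory.Limits AlgebraicGeometry
open Curves

namespace Groth.Agent.S17022
open Groth.Agent Groth.Agent.CurveTwoBranch
attribute [local instance] Curv2.resAlgebra


/-- Let k be an algebraically closed field of characteristic zero, C a connected scheme which is proper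
and smooth of relative dimension 1 over k, and f : C → P¹_k a surjective morphism over k which is
étale over the complement of two closed points p, q of P¹_k (p = q is allowed). Then C is isomorphic
to P¹_k over k, and f has exactly one point over p and exactly one point over q. (Existence of an
isomorphism only; the published statement moreover identifies f, in suitable coordinates, with (a :
b) ↦ (aⁿ : bⁿ) for some n. The published statement leaves implicit that the ground field is
algebraically closed and that C is a connected smooth proper curve; its argument uses both, and over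
a non-closed field the projective line over a finite extension is a connected cover with no
ramification.) -/
theorem result (k : Type u) [Field k]
    [IsAlgClosed k] [CharZero k] {C : Scheme.{u}} (s : C ⟶ Spec (CommRingCat.of k))
    [IsProper s] [SmoothOfRelativeDimension 1 s] [ConnectedSpace C]
    (f : C ⟶ CohB1.ProjSpace 1 k) (hf : f ≫ CohB1.ProjSpace.toSpec 1 k = s) [Surjective f]
    (p q : ↥(CohB1.ProjSpace 1 k)) (hp : IsClosed ({p} : Set ↥(CohB1.ProjSpace 1 k))) (hq : IsClosed ({q} : Set ↥(CohB1.ProjSpace 1 k)))
    (W : (CohB1.ProjSpace 1 k).Opens) (hW : (W : Set ↥(CohB1.ProjSpace 1 k)) = {p, q}ᶜ) [Etale (f ∣_ W)] :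
    (∃ e : C ≅ CohB1.ProjSpace 1 k, e.hom ≫ CohB1.ProjSpace.toSpec 1 k = s) ∧
      (∀ x y : C, f.base x = p → f.base y = p → x = y) ∧
      (∀ x y : C, f.base x = q → f.base y = q → x = y) := by
  classical
  letI : C.Over (Spec (CommRingCat.of k)) := ⟨s⟩
  let Y := CohB1.ProjSpace 1 k
  haveI : IsProper (C ↘ Spec (CommRingCat.of k)) := ‹IsProper s›
  haveI : Smooth s := SmoothOfRelativeDimension.smooth 1 s
  haveI : Smooth (C ↘ Spec (CommRingCat.of k)) := ‹Smooth s›
  haveI := CurveCohLib.isNoetherian_of_proper (k := k) (X := C)
  haveI : IsIntegral C := CurveCohLib.isIntegral_of_smooth_connected s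
  have hdC : topologicalKrullDim C = 1 := LefPenLib.topologicalKrullDim_eq_of_smoothRelDim (k := k) s
  haveI := CurveCover.isProper_line k
  haveI := CurveCover.isIntegral_line k
  haveI := CurveCover.smooth_line k
  haveI := CurveCohLib.isNoetherian_of_proper (k := k) (X := Y)
  have hdY : topologicalKrullDim Y = 1 := CurveCover.dim_line k
  haveI : IsProper f := by
    haveI : IsProper (f ≫ CohB1.ProjSpace.toSpec 1 k) := by rw [hf]; infer_instance
    haveI : IsSeparated (CohB1.ProjSpace.toSpec 1 k) :=
      (inferInstance : IsSeparated (Y ↘ Spec (CommRingCat.of k)))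
    exact MorphismProperty.of_postcomp (W := @IsProper) (W' := @IsSeparated) f (CohB1.ProjSpace.toSpec 1 k) inferInstance inferInstance
  have hgcl : ∀ x : C, IsClosed ({x} : Set C) → IsClosed ({f x} : Set Y) := fun x hx => by
    rw [← Set.image_singleton]; exact f.isClosedMap _ hx
  have e : f (genericPoint C) = genericPoint Y := by
    obtain ⟨x, hx⟩ := f.surjective (genericPoint Y)
    by_cases hxc : IsClosed ({x} : Set C)
    · exact absurd (hgcl x hxc) (hx ▸ CurveEmbed.genericPoint_not_closed hdY)
    · rwa [← CurveCohLib.eq_genericPoint_of_not_isClosed hdC hxc]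
  haveI : IsFinite f := by
    rw [IsFinite.iff_isProper_and_locallyQuasiFinite]
    refine ⟨inferInstance, LocallyQuasiFinite.of_finite_preimage_singleton f fun y => ?_⟩
    by_cases hy : genericPoint C ∈ f ⁻¹' {y}
    · obtain rfl : f (genericPoint C) = y := hy
      refine Set.Finite.subset (Set.finite_singleton (genericPoint C)) fun x hx => ?_
      by_contra hne
      have hxc : IsClosed ({x} : Set C) := by
        by_contra h; exact hne (CurveCohLib.eq_genericPoint_of_not_isClosed hdC h)
      exact CurveEmbed.genericPoint_not_closed hdY (e ▸ (show f x = f (genericPoint C) from hx) ▸ hgcl x hxc)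
    · have hyc : IsClosed ({y} : Set Y) := by
        by_contra h
        exact hy (e.trans (CurveCohLib.eq_genericPoint_of_not_isClosed hdY h).symm)
      refine CurveCohLib.finite_of_closedPoints (hyc.preimage f.continuous) fun x hx => ?_
      by_contra h
      exact hy (CurveCohLib.eq_genericPoint_of_not_isClosed hdC h ▸ hx)
  haveI : Flat f := H23.CurveCorr.flat_of_dominant (Y ↘ Spec (CommRingCat.of k)) hdY.le f e
  have hsep : letI := ((Y.presheaf.stalkSpecializes (specializes_of_eq e) ≫ f.stalkMap (genericPoint C)).hom).toAlgebra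
      Algebra.IsSeparable Y.functionField C.functionField := by
    let σk : k →+* Y.functionField :=
      (Y.presheaf.germ ⊤ (genericPoint Y) trivial).hom.comp (Coh.toGlobal (Y ↘ Spec (CommRingCat.of k)))
    letI aKL : Algebra Y.functionField C.functionField := (CurveTrace.ff e).toAlgebra
    haveI : CharZero Y.functionField := charZero_of_injective_ringHom σk.injective
    haveI : FiniteDimensional Y.functionField C.functionField := by
      refine Module.finite_of_finrank_pos ?_
      rw [show Module.finrank Y.functionField C.functionField = f.residueDegree (genericPoint C) from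
        finrank_ff_eq_residueDegree f e]
      haveI : LocallyOfFinitePresentation (f ≫ (Y ↘ Spec (CommRingCat.of k))) := by
        rw [show f ≫ (Y ↘ Spec (CommRingCat.of k)) = s from hf]; infer_instance
      haveI : LocallyOfFinitePresentation f :=
        AlgSpPts.locallyOfFinitePresentation_of_comp f (Y ↘ Spec (CommRingCat.of k))
      rw [CurveHurwitz.residueDegree_eq k hdC hdY e]
      exact CurveBC.coverDeg_pos f
    exact Algebra.IsAlgebraic.isSeparable_of_perfectField
  have hnC : Pi1.IsNormalScheme C := Neron6.isNormalScheme_of_smooth s FrobTwist.isNormalScheme_Spec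
  obtain ⟨-, heq⟩ := S11571.result k C Y (CurveTwoBranch.exists_embedding k hdC)
    (CurveTwoBranch.exists_embedding k hdY) hdC hdY hnC (CurveCover.isNormal_line k) f hf e hsep
  have hram0 : ∀ x : C, IsClosed ({x} : Set C) → 1 ≤ ram f x := fun x => one_le_ram f k hdC hdY e
  have hch : ∀ x : C, IsClosed ({x} : Set C) →
      (letI := (f.residueFieldMap x).hom.toAlgebra
       Algebra.IsSeparable (Y.residueField (f x)) (C.residueField x)) ∧
        ((ram f x : ℕ) : Y.residueField (f x)) ≠ 0 := fun x hx => by
    haveI : CharZero (Y.residueField (f x)) :=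
      charZero_of_injective_ringHom (algebraMap k (Y.residueField (f x))).injective
    refine ⟨?_, Nat.cast_ne_zero.2 (Nat.one_le_iff_ne_zero.1 (hram0 x hx))⟩
    letI := (f.residueFieldMap x).hom.toAlgebra
    have hsurj : Function.Surjective (algebraMap (Y.residueField (f x)) (C.residueField x)) := fun z => by
      obtain ⟨c, rfl⟩ := (bijective_resMap k hx).2 z
      exact ⟨algebraMap k (Y.residueField (f x)) c, (CurveHurwitz18.resMap_comp f k hf x c).symm⟩
    haveI : Module.Finite (Y.residueField (f x)) (C.residueField x) :=
      Module.Finite.of_surjective (Algebra.linearMap _ _) hsurj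
    exact Algebra.IsAlgebraic.isSeparable_of_perfectField
  have h := heq.2 hch
  rw [finrank_ff_eq_residueDegree f e] at h
  haveI : GeometricallyConnected s := S2501.result s
  have hχC : Curv2.euler k C (Coh.structureModule C) = 1 - (Curv2.genus k C : ℤ) :=
    CurveRR.euler_structureModule k hdC.le
  have hχY : Curv2.euler k Y (Coh.structureModule Y) = 1 - (Curv2.genus k Y : ℤ) :=
    CurveRR.euler_structureModule k hdY.le
  have hgY : Curv2.genus k Y = 0 := CurveCover.genus_line k
  rw [hgY] at hχY
  rw [hχC, hχY] at h
  obtain ⟨Fp, hFp, hFpc, hsp⟩ := sum_ram f k hf hdC hdY e hp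
  obtain ⟨Fq, hFq, hFqc, hsq⟩ := sum_ram f k hf hdC hdY e hq
  set n := f.residueDegree (genericPoint C)
  have hS : ∀ T : Finset C, (∀ x ∈ T, IsClosed ({x} : Set C)) → (∀ x, x ∉ T → f x ≠ p ∧ f x ≠ q) →
      (∑ᶠ x : C, (letI := (f.stalkMap x).hom.toAlgebra
      if IsClosed ({x} : Set C) then
        (((Ideal.ramificationIdx (IsLocalRing.maximalIdeal (C.presheaf.stalk x)) (Y.presheaf.stalk (f x)) - 1 : ℕ) : ℤ) *
          (Module.finrank k (C.residueField x) : ℤ))
      else 0)) = (∑ x ∈ T, (ram f x : ℤ)) - T.card := fun T hTc hT => by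
    rw [finsum_eq_sum_of_support_subset _ (s := T) (fun x hx => ?_)]
    · rw [Finset.card_eq_sum_ones, Nat.cast_sum, ← Finset.sum_sub_distrib]
      refine Finset.sum_congr rfl fun x hx => ?_
      rw [if_pos (hTc x hx), finrank_residueField k (hTc x hx), Nat.cast_one, mul_one]
      exact Nat.cast_sub (hram0 x (hTc x hx))
    · by_contra hxT
      obtain ⟨hxp, hxq⟩ := hT x hxT
      have hxW : f x ∈ W := by
        rw [← SetLike.mem_coe, hW]; simp [hxp, hxq]
      refine hx ?_
      have h1 := ram_eq_one_of_etale f W hxW
      unfold ram at h1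
      show (if IsClosed ({x} : Set C) then _ else _) = (0 : ℤ)
      rw [h1]
      simp
  have hpne : Fp.Nonempty := let ⟨x, hx⟩ := f.surjective p; ⟨x, (hFp x).2 hx⟩
  have hqne : Fq.Nonempty := let ⟨x, hx⟩ := f.surjective q; ⟨x, (hFq x).2 hx⟩
  have key : Curv2.genus k C = 0 ∧ Fp.card = 1 ∧ Fq.card = 1 := by
    have hp1 := hpne.card_pos
    have hq1 := hqne.card_pos
    have hspz : (∑ x ∈ Fp, (ram f x : ℤ)) = n := by rw [← hsp]; push_cast; rfl
    have hsqz : (∑ x ∈ Fq, (ram f x : ℤ)) = n := by rw [← hsq]; push_cast; rfl
    by_cases hpq : p = q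
    · have hFF : Fq = Fp := Finset.ext fun x => by rw [hFp, hFq, hpq]
      rw [hS Fp hFpc fun x hx => ⟨fun h' => hx ((hFp x).2 h'), fun h' => hx ((hFp x).2 (hpq ▸ h'))⟩, hspz] at h
      have hn1 : Fp.card ≤ n := by
        rw [← hsp, Finset.card_eq_sum_ones]
        exact Finset.sum_le_sum fun x hx => hram0 x (hFpc x hx)
      rw [hFF]
      push_cast at h
      omega
    · have hdis : Disjoint Fp Fq := Finset.disjoint_left.2 fun x h1 h2 =>
        hpq (((hFp x).1 h1).symm.trans ((hFq x).1 h2))
      rw [hS (Fp ∪ Fq) (fun x hx => (Finset.mem_union.1 hx).elim (hFpc x) (hFqc x))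
        fun x hx => ⟨fun h' => hx (Finset.mem_union_left _ ((hFp x).2 h')),
          fun h' => hx (Finset.mem_union_right _ ((hFq x).2 h'))⟩,
        Finset.sum_union hdis, Finset.card_union_of_disjoint hdis, hspz, hsqz] at h
      push_cast at h
      omega
  obtain ⟨hg, hcp, hcq⟩ := key
  refine ⟨?_, fun x y hx hy => ?_, fun x y hx hy => ?_⟩
  · haveI : GeometricallyIntegral (C ↘ Spec (CommRingCat.of k)) := PicTangent.JacDeg.geometricallyIntegral s
    exact S7834.result k C hdC hg
  · exact Finset.card_le_one.1 hcp.le x ((hFp x).2 hx) y ((hFp y).2 hy)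
  · exact Finset.card_le_one.1 hcq.le x ((hFq x).2 hx) y ((hFq y).2 hy)


end Groth.Agent.S17022
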