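import Groth.Statements.S17023
import Mathlib
import Groth.Agent.HTopAwn.PtFun

set_option autoImplicit false
universe u
open FlatMor

namespace Groth.Agent.S17023

/-- Let B be a discrete valuation ring, A a B-algebra of finite type and p a prime ideal of A which lies
over the maximal ideal of B (a point of the special fibre), at which A is smooth over B (the
localization A_p is formally smooth over B), and such that B maps onto the residue field κ(p). Then
there are a discrete valuation ring B' and a ring map ψ : A → B' pulling the maximal ideal of B'
back to p, such that the composite B → A → B' is injective, the maximal ideal of B generates the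
maximal ideal of B', and B maps onto the residue field of B'; in other words Spec B' → Spec A → Spec
B is surjective and unramified with trivial residue field extension. (The published statement does
not say that the closed point of Spec B' goes to p; it is required here. The published setting takes
A essentially of finite type over a field of characteristic zero; here A is taken of finite type
over B, with no ground field.) -/
theorem result
    (B : Type u) [CommRing B] [IsDomain B] [IsDiscreteValuationRing B]
    (A : Type u) [CommRing A] [Algebra B A] [Algebra.FiniteType B A]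
    (p : Ideal A) [p.IsPrime] (hp : p.comap (algebraMap B A) = IsLocalRing.maximalIdeal B)
    [Algebra.IsSmoothAt B p]
    (hres : Function.Surjective ((algebraMap A p.ResidueField).comp (algebraMap B A))) :
    ∃ (B' : Type u) (_ : CommRing B') (_ : IsDomain B') (_ : IsDiscreteValuationRing B') (ψ : A →+* B'),
      Ideal.comap ψ (IsLocalRing.maximalIdeal B') = p ∧
      Function.Injective (ψ.comp (algebraMap B A)) ∧
      Ideal.map (ψ.comp (algebraMap B A)) (IsLocalRing.maximalIdeal B) = IsLocalRing.maximalIdeal B' ∧
      Function.Surjective ((IsLocalRing.residue B').comp (ψ.comp (algebraMap B A))) := by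
  obtain ⟨hdom, hdvr, hinj⟩ := Groth.Agent.HTopAwn.isDVR_completion (V := B)
  let Bh := AdicCompletion (IsLocalRing.maximalIdeal B) B
  let σ : B →+* p.ResidueField := (algebraMap A p.ResidueField).comp (algebraMap B A)
  have hσker : RingHom.ker σ = IsLocalRing.maximalIdeal B := by
    rw [← hp]
    ext b
    simp [σ, RingHom.mem_ker]
  let e : (B ⧸ RingHom.ker σ) ≃+* p.ResidueField := RingHom.quotientKerEquivOfSurjective hres
  let r : (B ⧸ RingHom.ker σ) →+* Bh ⧸ IsLocalRing.maximalIdeal Bh :=
    Ideal.Quotient.lift _ ((Ideal.Quotient.mk _).comp (algebraMap B Bh)) (fun b hb => by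
      rw [RingHom.comp_apply, Ideal.Quotient.eq_zero_iff_mem, AdicCompletion.maximalIdeal_eq_map]
      exact Ideal.mem_map_of_mem _ (hσker.le hb))
  let f₀ : Localization.AtPrime p →+* Bh ⧸ IsLocalRing.maximalIdeal Bh :=
    r.comp (e.symm.toRingHom.comp (IsLocalRing.residue (Localization.AtPrime p)))
  let f : Localization.AtPrime p →ₐ[B] Bh ⧸ IsLocalRing.maximalIdeal Bh :=
    { f₀ with
      commutes' := fun b => by
        show r (e.symm (IsLocalRing.residue _ (algebraMap B (Localization.AtPrime p) b))) = _
        have hb : IsLocalRing.residue _ (algebraMap B (Localization.AtPrime p) b) = σ b := by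
          rw [IsScalarTower.algebraMap_apply B A (Localization.AtPrime p)]
          rfl
        rw [hb, show σ b = e (Ideal.Quotient.mk _ b) from rfl, RingEquiv.symm_apply_apply]
        rfl }
  obtain ⟨g, hg⟩ := Algebra.FormallySmooth.exists_mkₐ_comp_eq_of_isAdicComplete (I := IsLocalRing.maximalIdeal Bh) f
  let ψ : A →+* Bh := g.toRingHom.comp (algebraMap A (Localization.AtPrime p))
  have hψB : ψ.comp (algebraMap B A) = algebraMap B Bh := by
    ext1 b
    show g (algebraMap A (Localization.AtPrime p) (algebraMap B A b)) = _
    rw [← IsScalarTower.algebraMap_apply, AlgHom.commutes]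
  refine ⟨Bh, inferInstance, hdom, hdvr, ψ, ?_, ?_, ?_, ?_⟩
  · ext a
    rw [Ideal.mem_comap, ← Ideal.Quotient.eq_zero_iff_mem]
    show Ideal.Quotient.mkₐ B _ (g (algebraMap A (Localization.AtPrime p) a)) = 0 ↔ _
    rw [← AlgHom.comp_apply, hg]
    show f₀ (algebraMap A (Localization.AtPrime p) a) = 0 ↔ _
    have hrinj : Function.Injective r := by
      have : (RingHom.ker σ).IsMaximal := hσker ▸ IsLocalRing.maximalIdeal.isMaximal B
      let := Ideal.Quotient.field (RingHom.ker σ)
      exact r.injective
    show r (e.symm _) = 0 ↔ _
    rw [map_eq_zero_iff r hrinj, map_eq_zero_iff _ e.symm.injective, IsLocalRing.residue_eq_zero_iff,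
      IsLocalization.AtPrime.to_map_mem_maximal_iff (Localization.AtPrime p) p]
  · rw [hψB]; exact hinj
  · rw [hψB]; exact (AdicCompletion.maximalIdeal_eq_map).symm
  · rw [hψB]
    intro y
    obtain ⟨x, hx⟩ := (AdicCompletion.residueField_map_bijective (R := B)).2 y
    obtain ⟨b, rfl⟩ := IsLocalRing.residue_surjective x
    exact ⟨b, hx⟩

end Groth.Agent.S17023
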