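import Groth.Statements.S17024
import Groth.Agent.H26.FMod.Extension

set_option autoImplicit false
open CategoryTheory CategoryTheory.Limits
universe u
open FSch

namespace Groth.Agent.S17024

/-- Let 𝔛 be a Noetherian formal scheme (an adic system of thickenings with locally Noetherian levels
whose common underlying space is quasi-compact) and F₀ ⟶ F₁ ⟶ F₂ ⟶ F₃ ⟶ F₄ an exact sequence of
O_𝔛-modules. If F₀, F₁, F₃ and F₄ are each a small filtered colimit of coherent O_𝔛-modules, then so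
is F₂. (The published statement takes direct limits over directed sets; small filtered colimits of
coherent modules yield the same class of modules. It is stated there for 𝔛 only locally Noetherian;
without quasi-compactness of the underlying space the assertion can fail, so it is stated here for
Noetherian 𝔛.) -/
theorem result (𝔛 : FSch.Sys.{u}) (h𝔛 : 𝔛.IsLocNoethFormal)
    [CompactSpace (𝔛.X 0)] (S : ComposableArrows (FSch.ModF 𝔛 h𝔛.1) 4) (hS : S.Exact)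
    (h₀ : (ObjectProperty.ind.{u} fun 𝔊 : FSch.ModF 𝔛 h𝔛.1 => FSch.IsCohF 𝔛 h𝔛.1 𝔊) (S.obj 0)) (h₁ : (ObjectProperty.ind.{u} fun 𝔊 : FSch.ModF 𝔛 h𝔛.1 => FSch.IsCohF 𝔛 h𝔛.1 𝔊) (S.obj 1)) (h₃ : (ObjectProperty.ind.{u} fun 𝔊 : FSch.ModF 𝔛 h𝔛.1 => FSch.IsCohF 𝔛 h𝔛.1 𝔊) (S.obj 3)) (h₄ : (ObjectProperty.ind.{u} fun 𝔊 : FSch.ModF 𝔛 h𝔛.1 => FSch.IsCohF 𝔛 h𝔛.1 𝔊) (S.obj 4)) :
    (ObjectProperty.ind.{u} fun 𝔊 : FSch.ModF 𝔛 h𝔛.1 => FSch.IsCohF 𝔛 h𝔛.1 𝔊) (S.obj 2) := by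
  obtain ⟨T, hT, ⟨e₁⟩, e₂, ⟨e₃⟩⟩ := Groth.Agent.H26.FMod.exists_shortExact_five S hS
  exact e₂ ▸ Groth.Agent.H26.FMod.ind_ext_compact h𝔛 hT
    (Groth.Agent.H26.FMod.ind_of_iso h𝔛 e₁ (Groth.Agent.H26.FMod.ind_cokernel h𝔛 h₀ h₁ (S.map' 0 1)))
    (Groth.Agent.H26.FMod.ind_of_iso h𝔛 e₃ (Groth.Agent.H26.FMod.ind_kernel h𝔛 h₃ h₄ (S.map' 3 4)))

end Groth.Agent.S17024
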