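import Groth.Statements.S1703
import Groth.Agent.RelQR16.H1Flat
-- import your own Groth.Agent.* helpers here

set_option autoImplicit false
universe u
open CategoryTheory CategoryTheory.Limits AlgebraicGeometry TopologicalSpace
open SDiv

namespace Groth.Agent.S1703

/-- Let f : X ⟶ S be locally of finite presentation and 𝓘 the ideal sheaf of an effective Cartier
divisor D ⊂ X with D ⟶ S flat. Then there is an open subscheme U of X containing D such that U ⟶ S
is flat. -/
theorem result {X S : Scheme.{u}} (f : X ⟶ S) [LocallyOfFinitePresentation f] (𝓘 : X.IdealSheafData)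
    (hD : (BlowUp.IsEffCartierIdeal 𝓘 ∧ Flat (𝓘.subschemeι ≫ f))) : ∃ U : X.Opens, (𝓘.support : Set ↥X) ⊆ U ∧ Flat (U.ι ≫ f) := by
  have hi : RegImm.IsRelRegularImmersion RegImm.Kind.h1 f 𝓘.subschemeι := by
    refine ⟨⟨inferInstance, fun z => ?_⟩, hD.2⟩
    obtain ⟨U, hzU, g, hg, hgU⟩ := hD.1 (𝓘.subschemeι z)
    haveI : IsClosedImmersion (𝓘.subschemeι ∣_ U.1) :=
      IsZariskiLocalAtTarget.restrict (inferInstanceAs (IsClosedImmersion 𝓘.subschemeι)) U.1
    refine ⟨U, hzU, ‹_›, [g], ?_, ?_⟩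
    · show CAlgX.IsH1Regular [g].get
      intro a ha
      have ha' : a = 0 := by
        funext j
        obtain ⟨j, hj⟩ := j
        obtain rfl : j = 0 := by simpa using hj
        have h0 : a ⟨0, hj⟩ * g = 0 := by simpa using ha
        exact (mul_right_mem_nonZeroDivisors_eq_zero_iff hg).1 h0
      rw [ha']
      exact zero_mem _
    · rw [show RingHom.ker (𝓘.subschemeι.app U.1).hom = 𝓘.ideal U from 𝓘.ker_subschemeι_app U, hgU]
      simp [Ideal.ofList]
  obtain ⟨U, hU, hfl⟩ := RelQR16.exists_flat_open f (Set.range fun z => 𝓘.subschemeι z)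
    (by rintro _ ⟨z, rfl⟩; exact RelQR16.flat_stalkMap_h1 f 𝓘.subschemeι hi z)
  refine ⟨U, fun x hx => hU ?_, hfl⟩
  rw [← Scheme.IdealSheafData.range_subschemeι] at hx
  exact hx

end Groth.Agent.S1703
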