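import Groth.Statements.S17031
import Groth.Agent.H26.FMod.Coherator
import Groth.Agent.SiteBase.RpushD.Gen
import Groth.Agent.SiteBase.ModGroth

set_option autoImplicit false
open CategoryTheory CategoryTheory.Limits
universe u
attribute [local instance] HasDerivedCategory.standard
open FSch
open CategoryTheory CategoryTheory.Limits Groth.Agent.H26
attribute [local instance] HasDerivedCategory.standard

namespace Groth.Agent.S17031

/-- Let 𝔛 be a locally Noetherian formal scheme (an adic system of thickenings with locally Noetherian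
levels) and A the full subcategory of O_𝔛-modules that are small filtered colimits of coherent ones;
assume (as holds here) that it contains 0, is closed under kernels, cokernels and finite products,
and that its inclusion is exact. Then the functor D(A) ⥤ D(O_𝔛) induced on unbounded derived
categories by the inclusion has a right adjoint. -/
theorem result (𝔛 : FSch.Sys.{u}) (h𝔛 : 𝔛.IsLocNoethFormal)
    [(ObjectProperty.ind.{u} fun 𝔊 : FSch.ModF 𝔛 h𝔛.1 => FSch.IsCohF 𝔛 h𝔛.1 𝔊).ContainsZero] [(ObjectProperty.ind.{u} fun 𝔊 : FSch.ModF 𝔛 h𝔛.1 => FSch.IsCohF 𝔛 h𝔛.1 𝔊).IsClosedUnderKernels]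
    [(ObjectProperty.ind.{u} fun 𝔊 : FSch.ModF 𝔛 h𝔛.1 => FSch.IsCohF 𝔛 h𝔛.1 𝔊).IsClosedUnderCokernels] [(ObjectProperty.ind.{u} fun 𝔊 : FSch.ModF 𝔛 h𝔛.1 => FSch.IsCohF 𝔛 h𝔛.1 𝔊).IsClosedUnderFiniteProducts]
    [PreservesFiniteLimits (ObjectProperty.ind.{u} fun 𝔊 : FSch.ModF 𝔛 h𝔛.1 => FSch.IsCohF 𝔛 h𝔛.1 𝔊).ι] [PreservesFiniteColimits (ObjectProperty.ind.{u} fun 𝔊 : FSch.ModF 𝔛 h𝔛.1 => FSch.IsCohF 𝔛 h𝔛.1 𝔊).ι] :
    ((ObjectProperty.ind.{u} fun 𝔊 : FSch.ModF 𝔛 h𝔛.1 => FSch.IsCohF 𝔛 h𝔛.1 𝔊).ι.mapDerivedCategory).IsLeftAdjoint := by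
  haveI := FMod.isLeftAdjoint_indι h𝔛
  let L := (ObjectProperty.ind.{u} fun 𝔊 : FSch.ModF 𝔛 h𝔛.1 => FSch.IsCohF 𝔛 h𝔛.1 𝔊).ι
  let adj := Adjunction.ofIsLeftAdjoint L
  haveI : L.rightAdjoint.Additive := adj.right_adjoint_additive
  haveI := SiteBase.RpushD.qh_isLeftAdjoint (A := FSch.ModF 𝔛 h𝔛.1)
  let adjQ := Adjunction.ofIsLeftAdjoint (DerivedCategory.Qh (C := FSch.ModF 𝔛 h𝔛.1))
  let W := HomotopyCategory.quasiIso (FSch.ModF 𝔛 h𝔛.1) (ComplexShape.up ℤ)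
  let Φ := L.rightAdjoint.mapHomotopyCategory (ComplexShape.up ℤ) ⋙ DerivedCategory.Qh
  have := TriCat.isRightDerivedFunctor_of_adjunction adjQ W Φ
  haveI : Φ.HasRightDerivedFunctor W :=
    Functor.HasRightDerivedFunctor.mk' (W := W) (DerivedCategory.Qh.rightAdjoint ⋙ Φ)
      (Functor.whiskerRight adjQ.unit Φ : Φ ⟶ DerivedCategory.Qh ⋙ DerivedCategory.Qh.rightAdjoint ⋙ Φ)
  obtain ⟨a⟩ := SiteBase.RpushD.nonempty_adj (A := FSch.ModF 𝔛 h𝔛.1) L.rightAdjoint adj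
  exact a.isLeftAdjoint

end Groth.Agent.S17031
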