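import Groth.Statements.S17032
import Groth.Agent.H26.FMod.DimD
import Groth.Agent.H26.FMod.CohSerre

set_option autoImplicit false
open CategoryTheory CategoryTheory.Limits
universe u
attribute [local instance] HasDerivedCategory.standard
open FSch
open CategoryTheory CategoryTheory.Limits TopologicalSpace Groth.Agent.H26

namespace Groth.Agent.S17032

/-- Let f : 𝔛 ⟶ 𝔜 be a morphism of formal schemes given as systems of thickenings with quasi-compact
underlying spaces, 𝔛 adic with locally Noetherian levels (a Noetherian formal scheme), and assume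
the total right derived functor Rf_* on unbounded derived categories of modules exists. Then Rf_* is
bounded above on complexes with lim-coherent cohomology: there is an integer e ≥ 0 such that
whenever G ∈ D(O_𝔛) has every cohomology sheaf a small filtered colimit of coherent O_𝔛-modules and
H^i(G) = 0 for all i ≥ i₀, then H^i(Rf_* G) = 0 for all i ≥ i₀ + e. -/
theorem result (𝔛 𝔜 : FSch.Sys.{u}) (h𝔛 : 𝔛.IsLocNoethFormal)
    [CompactSpace (𝔛.X 0)] (h𝔜 : 𝔜.IsFormal) [CompactSpace (𝔜.X 0)] (f : 𝔛 ⟶ 𝔜)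
    [SiteCmp.HasRpushD (FSch.homMor f h𝔛.1 h𝔜)] :
    ∃ e : ℕ, ∀ (G : DerivedCategory (FSch.ModF 𝔛 h𝔛.1)),
      (∀ i : ℤ, (ObjectProperty.ind.{u} fun 𝔊 : FSch.ModF 𝔛 h𝔛.1 => FSch.IsCohF 𝔛 h𝔛.1 𝔊) (SiteCmp.HMod G i)) →
      ∀ i₀ : ℤ, (∀ i : ℤ, i₀ ≤ i → IsZero (SiteCmp.HMod G i)) →
        ∀ i : ℤ, i₀ + e ≤ i → IsZero (SiteCmp.HMod ((SiteCmp.RpushD (FSch.homMor f h𝔛.1 h𝔜)).obj G) i) := by
  haveI : HasInjectiveResolutions (FSch.ModF 𝔛 h𝔛.1) := inferInstance
  obtain ⟨N, hN⟩ := Dim.exists_rpush_bound h𝔛 h𝔜 f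
  refine ⟨N, fun G hG i₀ hi₀ i hi => ?_⟩
  exact Dim.isZero_rpushD (FSch.homMor f h𝔛.1 h𝔜) (Dim.IndCoh h𝔛) (Dim.isCoveredBy_affine _)
    (Dim.locBound_ind h𝔛) (Dim.isCoveredBy_affine _) (fun V hV => Dim.locBound_preimage h𝔛 h𝔜 f V hV)
    (N : ℤ) (fun F hF p hp => hN F hF p (by omega)) (Dim.isClosedUnderIsomorphisms_ind h𝔛)
    (fun Z hZ => ObjectProperty.le_ind _ _ (FMod.isCohF_zero hZ))
    G hG (i₀ - 1) (fun q hq => hi₀ q (by omega)) i (by omega)

end Groth.Agent.S17032
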