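import Groth.Statements.S17035
import Groth.Agent.H26.FMod.CoprodPush

set_option autoImplicit false
open CategoryTheory CategoryTheory.Limits
universe u
attribute [local instance] HasDerivedCategory.standard
open FSch
open CategoryTheory CategoryTheory.Limits Groth.Agent.H26

namespace Groth.Agent.S17035

/-- Let f : 𝔛 ⟶ 𝔜 be a morphism of formal schemes given as systems of thickenings with quasi-compact
underlying spaces, 𝔛 adic with locally Noetherian levels (a Noetherian formal scheme), and assume
the total right derived functor Rf_* exists on unbounded derived categories of modules. For every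
small family (E_a) of objects of D(O_𝔛) whose cohomology sheaves are small filtered colimits of
coherent O_𝔛-modules, Rf_* preserves the coproduct of the family (the natural map from the direct
sum of the Rf_* E_a to Rf_* of the direct sum is an isomorphism). -/
theorem result (𝔛 𝔜 : FSch.Sys.{u}) (h𝔛 : 𝔛.IsLocNoethFormal)
    [CompactSpace (𝔛.X 0)] (h𝔜 : 𝔜.IsFormal) [CompactSpace (𝔜.X 0)] (f : 𝔛 ⟶ 𝔜)
    [SiteCmp.HasRpushD (FSch.homMor f h𝔛.1 h𝔜)]
    (ι : Type u) (E : ι → DerivedCategory (FSch.ModF 𝔛 h𝔛.1))
    (hE : ∀ (a : ι) (i : ℤ), (ObjectProperty.ind.{u} fun 𝔊 : FSch.ModF 𝔛 h𝔛.1 => FSch.IsCohF 𝔛 h𝔛.1 𝔊) (SiteCmp.HMod (E a) i)) :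
    PreservesColimit (Discrete.functor E) (SiteCmp.RpushD (FSch.homMor f h𝔛.1 h𝔜)) := by
  exact FMod.preservesColimit_rpushD_ind h𝔛 h𝔜 f E hE

end Groth.Agent.S17035
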