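import Groth.Statements.S17041
import Groth.Agent.H26.FMod.QC

set_option autoImplicit false
open CategoryTheory CategoryTheory.Limits
universe u
open FSch

namespace Groth.Agent.S17041

/-- On a locally Noetherian formal scheme 𝔛 (an adic system of thickenings with locally Noetherian
levels), a quasi-coherent quotient O_𝔛-module of a coherent O_𝔛-module is coherent. -/
theorem result (𝔛 : FSch.Sys.{u}) (h𝔛 : 𝔛.IsLocNoethFormal)
    {𝔉 𝔊 : FSch.ModF 𝔛 h𝔛.1} (h𝔉 : FSch.IsCohF 𝔛 h𝔛.1 𝔉) [SheafOfModules.IsQuasicoherent.{u} 𝔊]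
    (π : 𝔉 ⟶ 𝔊) [Epi π] : FSch.IsCohF 𝔛 h𝔛.1 𝔊 := by
  exact Groth.Agent.H26.FMod.isCohF_quot h𝔛 h𝔉 π

end Groth.Agent.S17041
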