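import Groth.Statements.S17042
import Groth.Agent.H26.FMod.HomQC

set_option autoImplicit false
open CategoryTheory CategoryTheory.Limits
universe u
open FSch

namespace Groth.Agent.S17042

/-- On a locally Noetherian formal scheme 𝔛 (an adic system of thickenings with locally Noetherian
levels), for a coherent O_𝔛-module F and a quasi-coherent O_𝔛-module G the sheaf Hom(F, G) of
O_𝔛-modules is quasi-coherent, and it is coherent if G is also coherent. -/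
theorem result (𝔛 : FSch.Sys.{u}) (h𝔛 : 𝔛.IsLocNoethFormal)
    (𝔉 𝔊 : FSch.ModF 𝔛 h𝔛.1) (h𝔉 : FSch.IsCohF 𝔛 h𝔛.1 𝔉) [SheafOfModules.IsQuasicoherent.{u} 𝔊]
    [ModSite.HasSheafHom 𝔉] :
    SheafOfModules.IsQuasicoherent.{u} ((ModSite.sheafHom 𝔉).obj 𝔊) ∧
      (FSch.IsCohF 𝔛 h𝔛.1 𝔊 → FSch.IsCohF 𝔛 h𝔛.1 ((ModSite.sheafHom 𝔉).obj 𝔊)) := by
  haveI hq := Groth.Agent.H26.FMod.isQC_hMod h𝔛 (G := 𝔊) h𝔉
  refine ⟨(SheafOfModules.isQuasicoherent.{u} (ModSite.ringSh (𝔛.Osh h𝔛.1))).prop_of_iso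
      ((Groth.Agent.HHom.sheafHomIso 𝔉).app 𝔊) hq, fun hG => ?_⟩
  exact ObjectProperty.prop_of_iso _ ((Groth.Agent.HHom.sheafHomIso 𝔉).app 𝔊)
    (Groth.Agent.H26.FMod.isCohF_hMod h𝔛 h𝔉 hG)

end Groth.Agent.S17042
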