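import Groth.Statements.S17045
import Groth.Agent.H26.FMod.AlgQC

set_option autoImplicit false
open CategoryTheory CategoryTheory.Limits AlgebraicGeometry
universe u
open FSch

namespace Groth.Agent.S17045

/-- Let A be a Noetherian I-adically complete ring, f : X ⟶ Spec A proper, 𝔛 the completion of X along
the inverse-image ideal of I and κ : 𝔛 ⟶ X the completion morphism of ringed spaces. Then for
quasi-coherent O_X-modules G and H, κ^* induces a bijection Hom_X(G, H) ⟶ Hom_𝔛(κ^*G, κ^*H). -/
theorem result (A : Type u) [CommRing A] [IsNoetherianRing A] (I : Ideal A) [IsAdicComplete I A]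
    {X : Scheme.{u}} (f : X ⟶ Spec (CommRingCat.of A)) [IsProper f]
    (𝓘 : X.IdealSheafData) (h𝓘 : 𝓘 = (FSch.idealSpec A I).comap f)
    (hX : (FSch.completionAlong X 𝓘).IsFormal)
    (G H : X.Modules) [SheafOfModules.IsQuasicoherent.{u} G] [SheafOfModules.IsQuasicoherent.{u} H] :
    Function.Bijective (fun φ : G ⟶ H => (FSch.toSchemeMor (FSch.completionAlong X 𝓘) hX (FSch.completionToX X 𝓘) (FSch.completionToX_comm X 𝓘)).pull.map φ) := by
  letI : X.Over (Spec (CommRingCat.of A)) := ⟨f⟩
  haveI : IsProper (X ↘ Spec (CommRingCat.of A)) := ‹IsProper f›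
  haveI : CompactSpace X := QuasiCompact.compactSpace_of_compactSpace f
  haveI : IsLocallyNoetherian X := LocallyOfFiniteType.isLocallyNoetherian f
  haveI : AlgebraicGeometry.IsNoetherian X := { __ := ‹IsLocallyNoetherian X›, __ := ‹CompactSpace X› }
  exact H26.FMod.AlgQC.bijective_qcoh I 𝓘 h𝓘 (S3854.result X 𝓘) ‹G.IsQuasicoherent› ‹H.IsQuasicoherent›

end Groth.Agent.S17045
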