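import Groth.Statements.S17050
import Groth.Agent.H26.FMod.AdjPush
import Groth.Agent.H26.FMod.TorsRpush

set_option autoImplicit false
open CategoryTheory CategoryTheory.Limits
universe u
attribute [local instance] HasDerivedCategory.standard
open FTors
open CategoryTheory CategoryTheory.Limits Groth.Agent.H26
attribute [local instance] HasDerivedCategory.standard

namespace Groth.Agent.S17050

/-- Let f : 𝔛 ⟶ 𝔜 be a morphism of Noetherian formal schemes (adic systems of thickenings with locally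
Noetherian levels and quasi-compact underlying spaces), and assume the total right derived functor
Rf_* exists on unbounded derived categories of modules. Let A_qct be the full subcategory of
quasi-coherent torsion O_𝔛-modules, assumed (as holds) to contain 0, to be closed under kernels,
cokernels and finite products and to have exact inclusion; assume further that the induced functor
D(A_qct) ⥤ D(O_𝔛) is fully faithful with essential image D_qct(𝔛), the complexes with quasi-coherent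
torsion cohomology sheaves — the case the published proof establishes first, valid when 𝔛 is
separated or of finite Krull dimension. Then the restriction of Rf_* to D_qct(𝔛) has a right
adjoint. (The published statement also removes the hypothesis on 𝔛 when f is separated, by gluing
over an open cover, and gives a bounded-below right adjoint compatible with the triangulated
structures.) -/
theorem result (𝔛 𝔜 : FSch.Sys.{u}) (h𝔛 : 𝔛.IsLocNoethFormal) (h𝔜 : 𝔜.IsLocNoethFormal)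
    [CompactSpace (𝔛.X 0)] [CompactSpace (𝔜.X 0)] (f : 𝔛 ⟶ 𝔜)
    [SiteCmp.HasRpushD (FSch.homMor f h𝔛.1 h𝔜.1)]
    [(FTors.IsQCT 𝔛 h𝔛.1).ContainsZero] [(FTors.IsQCT 𝔛 h𝔛.1).IsClosedUnderKernels]
    [(FTors.IsQCT 𝔛 h𝔛.1).IsClosedUnderCokernels] [(FTors.IsQCT 𝔛 h𝔛.1).IsClosedUnderFiniteProducts]
    [PreservesFiniteLimits (FTors.IsQCT 𝔛 h𝔛.1).ι] [PreservesFiniteColimits (FTors.IsQCT 𝔛 h𝔛.1).ι]
    (hj : (FTors.IsQCT 𝔛 h𝔛.1).ι.mapDerivedCategory.Full ∧ (FTors.IsQCT 𝔛 h𝔛.1).ι.mapDerivedCategory.Faithful ∧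
      ∀ G : DerivedCategory (FSch.ModF 𝔛 h𝔛.1),
        (FTors.IsQCT 𝔛 h𝔛.1).ι.mapDerivedCategory.essImage G ↔ FTors.IsDQCT 𝔛 h𝔛.1 G) :
    ((FTors.IsDQCT 𝔛 h𝔛.1).ι ⋙ SiteCmp.RpushD (FSch.homMor f h𝔛.1 h𝔜.1)).IsLeftAdjoint := by
  haveI := FMod.isWeakSerre_qct h𝔛
  haveI := FMod.isGrothendieckAbelian_qct h𝔛
  haveI := FMod.isLeftAdjoint_qctι h𝔛
  haveI := hj.1
  haveI := hj.2.1
  let ιD := (FTors.IsQCT 𝔛 h𝔛.1).ι.mapDerivedCategory
  let R := SiteCmp.RpushD (FSch.homMor f h𝔛.1 h𝔜.1)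
  haveI : (ιD ⋙ R).IsLeftAdjoint :=
    FMod.isLeftAdjoint_mapD_rpushD h𝔛 h𝔜.1 f (FTors.IsQCT 𝔛 h𝔛.1) fun M hM => FMod.ind_of_qct h𝔛 hM
  let e := ObjectProperty.lift (FTors.IsDQCT 𝔛 h𝔛.1) ιD fun K =>
    (hj.2.2 _).1 ⟨K, ⟨Iso.refl _⟩⟩
  haveI : e.Full := ⟨fun {a b} g => by
    obtain ⟨g', hg'⟩ := ιD.map_surjective g.hom
    exact ⟨g', ObjectProperty.hom_ext _ hg'⟩⟩
  haveI : e.Faithful := ⟨fun {a b} g g' hg => ιD.map_injective (congrArg (fun t => t.hom) hg)⟩
  haveI : e.EssSurj := ⟨fun K => by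
    obtain ⟨K', ⟨i⟩⟩ := (hj.2.2 K.obj).2 K.property
    exact ⟨K', ⟨(FTors.IsDQCT 𝔛 h𝔛.1).ι.preimageIso i⟩⟩⟩
  haveI : e.IsEquivalence := { }
  let E := e.asEquivalence
  let i : E.inverse ⋙ (ιD ⋙ R) ≅ (FTors.IsDQCT 𝔛 h𝔛.1).ι ⋙ R :=
    (Functor.isoWhiskerLeft E.inverse (NatIso.ofComponents (fun K => Iso.refl _)
      (fun g => (Category.comp_id _).trans (Category.id_comp _).symm) :
        ιD ⋙ R ≅ E.functor ⋙ ((FTors.IsDQCT 𝔛 h𝔛.1).ι ⋙ R))) ≪≫
      (Functor.associator _ _ _).symm ≪≫ Functor.isoWhiskerRight E.counitIso _ ≪≫ Functor.leftUnitor _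
  exact Functor.isLeftAdjoint_of_iso i

end Groth.Agent.S17050
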