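import Groth.Statements.S17051
import Groth.Agent.H26.FMod.TorsClose

set_option autoImplicit false
open CategoryTheory CategoryTheory.Limits
universe u
open FTors

namespace Groth.Agent.S17051

/-- On a locally Noetherian formal scheme 𝔛 (an adic system of thickenings with locally Noetherian
levels), if F₀ ⟶ F₁ ⟶ F₂ ⟶ F₃ ⟶ F₄ is an exact sequence of O_𝔛-modules with F₀, F₁, F₃, F₄
quasi-coherent torsion modules, then F₂ is a quasi-coherent torsion module. -/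
theorem result (𝔛 : FSch.Sys.{u}) (h𝔛 : 𝔛.IsLocNoethFormal)
    (S : ComposableArrows (FSch.ModF 𝔛 h𝔛.1) 4) (hS : S.Exact)
    (h₀ : FTors.IsQCT 𝔛 h𝔛.1 (S.obj 0)) (h₁ : FTors.IsQCT 𝔛 h𝔛.1 (S.obj 1)) (h₃ : FTors.IsQCT 𝔛 h𝔛.1 (S.obj 3)) (h₄ : FTors.IsQCT 𝔛 h𝔛.1 (S.obj 4)) :
    FTors.IsQCT 𝔛 h𝔛.1 (S.obj 2) := by
  obtain ⟨T, hT, ⟨e₁⟩, e₂, ⟨e₃⟩⟩ := Groth.Agent.H26.FMod.exists_shortExact_five S hS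
  have hq₀ : FTors.IsQCT 𝔛 h𝔛.1 (S.obj' 0) := h₀
  have hq₁ : FTors.IsQCT 𝔛 h𝔛.1 (S.obj' 1) := h₁
  have hq₃ : FTors.IsQCT 𝔛 h𝔛.1 (S.obj' 3) := h₃
  have hq₄ : FTors.IsQCT 𝔛 h𝔛.1 (S.obj' 4) := h₄
  haveI := hq₀.2
  haveI := hq₁.2
  haveI := hq₃.2
  haveI := hq₄.2
  haveI hA := Groth.Agent.H26.FMod.isQC_cokernel h𝔛 (S.map' 0 1)
  haveI hB := Groth.Agent.H26.FMod.isQC_kernel h𝔛 (S.map' 3 4)
  haveI : SheafOfModules.IsQuasicoherent.{u} (R := ModSite.ringSh (𝔛.Osh h𝔛.1)) T.X₁ :=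
    ObjectProperty.prop_of_iso (SheafOfModules.isQuasicoherent.{u} (ModSite.ringSh (𝔛.Osh h𝔛.1))) e₁ hA
  haveI : SheafOfModules.IsQuasicoherent.{u} (R := ModSite.ringSh (𝔛.Osh h𝔛.1)) T.X₃ :=
    ObjectProperty.prop_of_iso (SheafOfModules.isQuasicoherent.{u} (ModSite.ringSh (𝔛.Osh h𝔛.1))) e₃ hB
  have t₁ : FTors.IsTorsF 𝔛 h𝔛.1 T.X₁ :=
    Groth.Agent.H26.FMod.isTorsF_of_epi h𝔛 (cokernel.π (S.map' 0 1) ≫ e₁.hom) hq₁.1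
  have t₃ : FTors.IsTorsF 𝔛 h𝔛.1 T.X₃ :=
    Groth.Agent.H26.FMod.isTorsF_of_mono h𝔛 (e₃.inv ≫ kernel.ι (S.map' 3 4)) hq₃.1
  exact e₂ ▸ (⟨Groth.Agent.H26.FMod.isTorsF_ext h𝔛 hT t₁ t₃, Groth.Agent.H26.FMod.isQC_ext h𝔛 hT⟩ :
    FTors.IsQCT 𝔛 h𝔛.1 T.X₂)

end Groth.Agent.S17051
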