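import Groth.Statements.S17056
import Groth.Agent.H26.FMod.QctRgamma

set_option autoImplicit false
open CategoryTheory CategoryTheory.Limits
universe u
attribute [local instance] HasDerivedCategory.standard
open FTors
open Groth.Agent

namespace Groth.Agent.S17056

/-- On a locally Noetherian formal scheme 𝔛 (an adic system of thickenings with locally Noetherian
levels), with RΓ'_𝔛 the total right derived functor of the torsion functor (assumed to exist), if E
∈ D(O_𝔛) has quasi-coherent cohomology sheaves then every cohomology sheaf of RΓ'_𝔛 E is a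
quasi-coherent torsion module. -/
theorem result (𝔛 : FSch.Sys.{u}) (h𝔛 : 𝔛.IsLocNoethFormal)
    [FTors.HasRgammaT 𝔛 h𝔛.1] (E : DerivedCategory (FSch.ModF 𝔛 h𝔛.1))
    (hE : ∀ i : ℤ, SheafOfModules.IsQuasicoherent.{u} (SiteCmp.HMod E i)) :
    FTors.IsDQCT 𝔛 h𝔛.1 ((FTors.RgammaT 𝔛 h𝔛.1).obj E) := by
  exact fun i => ⟨H26.FMod.GStab.isDTors_rgamma _ E i, H26.FMod.isQC_hMod_rgammaT h𝔛 E hE i⟩

end Groth.Agent.S17056
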