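import Groth.Statements.S17058
import Groth.Agent.H26.FMod.TorsRpush

set_option autoImplicit false
open CategoryTheory CategoryTheory.Limits
universe u
attribute [local instance] HasDerivedCategory.standard
open FTors
open CategoryTheory CategoryTheory.Limits TopologicalSpace Groth.Agent.H26

namespace Groth.Agent.S17058

/-- Let f : 𝔛 ⟶ 𝔜 be a morphism of Noetherian formal schemes (adic systems of thickenings with locally
Noetherian levels, quasi-compact underlying spaces), and assume the total right derived functor Rf_*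
exists on unbounded derived categories of modules. Then Rf_* carries complexes with quasi-coherent
torsion cohomology sheaves to complexes with quasi-coherent torsion cohomology sheaves. (The
published statement also asserts that Rf_* is bounded on such complexes; this row does not.) -/
theorem result (𝔛 𝔜 : FSch.Sys.{u}) (h𝔛 : 𝔛.IsLocNoethFormal) (h𝔜 : 𝔜.IsLocNoethFormal)
    [CompactSpace (𝔛.X 0)] [CompactSpace (𝔜.X 0)] (f : 𝔛 ⟶ 𝔜)
    [SiteCmp.HasRpushD (FSch.homMor f h𝔛.1 h𝔜.1)] (K : DerivedCategory (FSch.ModF 𝔛 h𝔛.1))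
    (hK : FTors.IsDQCT 𝔛 h𝔛.1 K) :
    FTors.IsDQCT 𝔜 h𝔜.1 ((SiteCmp.RpushD (FSch.homMor f h𝔛.1 h𝔜.1)).obj K) := by
  haveI : HasInjectiveResolutions (FSch.ModF 𝔛 h𝔛.1) := inferInstance
  haveI := FMod.isWeakSerre_qct h𝔛
  haveI := FMod.isWeakSerre_qct h𝔜
  exact FMod.cohIn_rpushD h𝔛 f h𝔜 (FTors.IsQCT 𝔛 h𝔛.1) (fun F hF => FMod.ind_of_qct h𝔛 hF)
    (FTors.IsQCT 𝔜 h𝔜.1) (fun F hF => FMod.ind_of_qct h𝔜 hF)
    (fun F hF p => FMod.rpush_qct h𝔛 h𝔜 f hF p) K hK

end Groth.Agent.S17058
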