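import Groth.Statements.S17061
import Groth.Agent.H26.FMod.TorsGood
import Groth.Agent.SiteBase.SerreCorefl

set_option autoImplicit false
open CategoryTheory CategoryTheory.Limits
universe u
attribute [local instance] HasDerivedCategory.standard
open FTors
open Groth.Agent

namespace Groth.Agent.S17061

/-- On a locally Noetherian formal scheme 𝔛 (an adic system of thickenings with locally Noetherian
levels), with A_t the full subcategory of torsion O_𝔛-modules (assumed, as holds, to contain 0, to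
be closed under kernels, cokernels and finite products and to have exact inclusion), the induced
functor D(A_t) ⥤ D(O_𝔛) is fully faithful and its essential image consists exactly of the complexes
with torsion cohomology sheaves. (The second equivalence, D_qc(A_t) ≃ D_qct(𝔛), is not restated.) -/
theorem result (𝔛 : FSch.Sys.{u}) (h𝔛 : 𝔛.IsLocNoethFormal)
    [(FTors.IsTorsF 𝔛 h𝔛.1).ContainsZero] [(FTors.IsTorsF 𝔛 h𝔛.1).IsClosedUnderKernels]
    [(FTors.IsTorsF 𝔛 h𝔛.1).IsClosedUnderCokernels] [(FTors.IsTorsF 𝔛 h𝔛.1).IsClosedUnderFiniteProducts]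
    [PreservesFiniteLimits (FTors.IsTorsF 𝔛 h𝔛.1).ι] [PreservesFiniteColimits (FTors.IsTorsF 𝔛 h𝔛.1).ι] :
    (FTors.IsTorsF 𝔛 h𝔛.1).ι.mapDerivedCategory.Full ∧ (FTors.IsTorsF 𝔛 h𝔛.1).ι.mapDerivedCategory.Faithful ∧
      ∀ G : DerivedCategory (FSch.ModF 𝔛 h𝔛.1),
        (FTors.IsTorsF 𝔛 h𝔛.1).ι.mapDerivedCategory.essImage G ↔ FTors.IsDTorsF 𝔛 h𝔛.1 G := by
  have hiso : ∀ X : (FTors.IsTorsF 𝔛 h𝔛.1).FullSubcategory, IsIso ((FTors.gammaTι 𝔛 h𝔛.1).app X.obj) :=
    fun X => H26.FMod.GStab.isIso_gammaι' _ X.property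
  let t : FSch.ModF 𝔛 h𝔛.1 ⥤ (FTors.IsTorsF 𝔛 h𝔛.1).FullSubcategory :=
    ObjectProperty.lift _ (FTors.gammaT 𝔛 h𝔛.1) (H26.FMod.GStab.isTors_gamma _)
  haveI : t.Additive := ⟨fun {X Y} {f g} => InducedCategory.hom_ext ((FTors.gammaT 𝔛 h𝔛.1).map_add)⟩
  have hmono : ∀ M, Mono ((FTors.gammaTι 𝔛 h𝔛.1).app M) := fun M =>
    H26.FMod.mono_gammaι
  let adj : (FTors.IsTorsF 𝔛 h𝔛.1).ι ⊣ t :=
    { unit :=
        { app := fun X => ObjectProperty.homMk (haveI := hiso X; inv ((FTors.gammaTι 𝔛 h𝔛.1).app X.obj))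
          naturality := fun X Y f => InducedCategory.hom_ext (by
            haveI := hiso X
            haveI := hiso Y
            show f.hom ≫ inv _ = inv _ ≫ (FTors.gammaT 𝔛 h𝔛.1).map f.hom
            rw [IsIso.comp_inv_eq, Category.assoc, IsIso.eq_inv_comp]
            exact ((FTors.gammaTι 𝔛 h𝔛.1).naturality f.hom).symm) }
      counit :=
        { app := fun M => (FTors.gammaTι 𝔛 h𝔛.1).app M
          naturality := fun M N f => (FTors.gammaTι 𝔛 h𝔛.1).naturality f }
      left_triangle_components := fun X => by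
        haveI := hiso X
        exact IsIso.inv_hom_id _
      right_triangle_components := fun M => InducedCategory.hom_ext (by
        haveI := hmono M
        haveI := hiso (t.obj M)
        refine (cancel_mono ((FTors.gammaTι 𝔛 h𝔛.1).app M)).1 ?_
        show (inv _ ≫ (FTors.gammaT 𝔛 h𝔛.1).map ((FTors.gammaTι 𝔛 h𝔛.1).app M)) ≫ _ = 𝟙 _ ≫ _
        rw [Category.assoc, Category.id_comp]
        exact (congrArg (inv _ ≫ ·) ((FTors.gammaTι 𝔛 h𝔛.1).naturality ((FTors.gammaTι 𝔛 h𝔛.1).app M))).trans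
          (IsIso.inv_hom_id_assoc _ _)) }
  obtain ⟨h1, h2, h3⟩ := SiteBase.SerreCorefl.main adj (FTors.IsTorsF 𝔛 h𝔛.1) (fun X => X.property)
    (fun M => by
      obtain ⟨I, f, h₁, h₂, -, h₄⟩ := TriCat.exists_kInjective_resolution' M
      exact ⟨I, f, h₁, h₂, h₄⟩)
    (fun I hI hH => H26.FMod.stable_opI h𝔛 I hI hH)
  exact ⟨h1, h2, fun G => (h3 G).symm⟩

end Groth.Agent.S17061
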