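import Groth.Statements.S17062
import Groth.Agent.H26.FMod.DimD
import Groth.Agent.H26.FMod.CohSerre

set_option autoImplicit false
open CategoryTheory CategoryTheory.Limits
universe u
attribute [local instance] HasDerivedCategory.standard
open FSch
open CategoryTheory CategoryTheory.Limits TopologicalSpace Groth.Agent.H26

namespace Groth.Agent.S17062

/-- Let 𝔛 be a Noetherian formal scheme (adic system of thickenings with locally Noetherian levels and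
quasi-compact underlying space). Then RΓ(𝔛, –) is bounded above on complexes with lim-coherent
cohomology sheaves: there is e ≥ 0 such that whenever G ∈ D(O_𝔛) has every cohomology sheaf a small
filtered colimit of coherent O_𝔛-modules and H^i(G) = 0 for all i ≥ i₀, the groups Hom_{D(O_𝔛)}(O_𝔛,
G[i]) (the hypercohomology H^i(𝔛, G)) vanish for all i ≥ i₀ + e. -/
theorem result (𝔛 : FSch.Sys.{u}) (h𝔛 : 𝔛.IsLocNoethFormal) [CompactSpace (𝔛.X 0)] :
    ∃ e : ℕ, ∀ (G : DerivedCategory (FSch.ModF 𝔛 h𝔛.1)),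
      (∀ i : ℤ, (ObjectProperty.ind.{u} fun 𝔊 : FSch.ModF 𝔛 h𝔛.1 => FSch.IsCohF 𝔛 h𝔛.1 𝔊) (SiteCmp.HMod G i)) →
      ∀ i₀ : ℤ, (∀ i : ℤ, i₀ ≤ i → IsZero (SiteCmp.HMod G i)) →
        ∀ i : ℤ, i₀ + e ≤ i →
          Subsingleton (SiteCmp.inD (𝔛.Osh h𝔛.1) (FSch.unitF 𝔛 h𝔛.1) ⟶ (shiftFunctor (DerivedCategory (FSch.ModF 𝔛 h𝔛.1)) i).obj G) := by
  haveI := FMod.noetherianSpace_sys h𝔛 0
  obtain ⟨d, hd⟩ := Dim.exists_bound (⊤ : (𝔛.X 0).Opens) (by simpa using isCompact_univ)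
    (fun U W _ _ _ _ _ _ => NoetherianSpace.isCompact _)
  refine ⟨d, fun G hG i₀ hi₀ i hi => subsingleton_of_forall_eq 0 fun φ => ?_⟩
  refine Dim.hom_unit_eq_zero (𝔛.Osh h𝔛.1) (Dim.IndCoh h𝔛) (Dim.isCoveredBy_affine _)
    (Dim.locBound_ind h𝔛) (T := (⊤ : (𝔛.X 0).Opens)) isTerminalTop d
    (fun F hF k hk => DLimA.vanish_of_subsingleton_HU _ _ _ _ ?_) G hG i₀ hi₀ i (by omega) φ
  have := hd 1 _ (Dim.acAff_ind h𝔛 F hF) k hk
  rwa [(𝔛.X 0).basicOpen_of_isUnit isUnit_one] at this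

end Groth.Agent.S17062
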