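import Groth.Statements.S17063
import Groth.Agent.S17050
import Groth.Agent.H26.FMod.GammaCoprod
import Groth.Agent.H26.FMod.TorsGood

set_option autoImplicit false
open CategoryTheory CategoryTheory.Limits
universe u
attribute [local instance] HasDerivedCategory.standard
open FTors
open Groth.Agent.H26

namespace Groth.Agent.S17063

/-- Let f : 𝔛 ⟶ 𝔜 be a morphism of Noetherian formal schemes (adic systems of thickenings with locally
Noetherian levels and quasi-compact underlying spaces), with RΓ'_𝔛 and Rf_* assumed to exist on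
unbounded derived categories; let A_qct (quasi-coherent torsion O_𝔛-modules) contain 0, be closed
under kernels, cokernels and finite products with exact inclusion, and assume the induced functor
D(A_qct) ⥤ D(O_𝔛) is fully faithful with essential image D_qct(𝔛) (true for 𝔛 separated or of finite
Krull dimension). Then Rf_* ∘ RΓ'_𝔛 restricted to D̃_qc(𝔛) — the complexes E with RΓ'_𝔛 E in
D_qct(𝔛) — has a right adjoint. (The published statement names it f^# = Λ_𝔛 f_t^× and shows it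
bounded below; only existence is asserted here.) -/
theorem result (𝔛 𝔜 : FSch.Sys.{u})
    (h𝔛 : 𝔛.IsLocNoethFormal) (h𝔜 : 𝔜.IsLocNoethFormal) [CompactSpace (𝔛.X 0)] [CompactSpace (𝔜.X 0)]
    (f : 𝔛 ⟶ 𝔜) [FTors.HasRgammaT 𝔛 h𝔛.1] [SiteCmp.HasRpushD (FSch.homMor f h𝔛.1 h𝔜.1)]
    [(FTors.IsQCT 𝔛 h𝔛.1).ContainsZero] [(FTors.IsQCT 𝔛 h𝔛.1).IsClosedUnderKernels]
    [(FTors.IsQCT 𝔛 h𝔛.1).IsClosedUnderCokernels] [(FTors.IsQCT 𝔛 h𝔛.1).IsClosedUnderFiniteProducts]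
    [PreservesFiniteLimits (FTors.IsQCT 𝔛 h𝔛.1).ι] [PreservesFiniteColimits (FTors.IsQCT 𝔛 h𝔛.1).ι]
    (hj : (FTors.IsQCT 𝔛 h𝔛.1).ι.mapDerivedCategory.Full ∧ (FTors.IsQCT 𝔛 h𝔛.1).ι.mapDerivedCategory.Faithful ∧
      ∀ G : DerivedCategory (FSch.ModF 𝔛 h𝔛.1),
        (FTors.IsQCT 𝔛 h𝔛.1).ι.mapDerivedCategory.essImage G ↔ FTors.IsDQCT 𝔛 h𝔛.1 G) :
    (ObjectProperty.ι (FTors.IsDQCTilde 𝔛 h𝔛.1) ⋙ FTors.RgammaT 𝔛 h𝔛.1 ⋙
      SiteCmp.RpushD (FSch.homMor f h𝔛.1 h𝔜.1)).IsLeftAdjoint := by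
  haveI hpush := Groth.Agent.S17050.result 𝔛 𝔜 h𝔛 h𝔜 f hj
  haveI := FMod.isWeakSerre_qct h𝔛
  have hgood : ∀ (V : (𝔛.X 0).Opens), ∀ y ∈ V, ∃ U : (𝔛.X 0).Opens,
      U ≤ V ∧ y ∈ U ∧ FMod.GStab.Good (FMod.opI h𝔛) U := fun V y hy => by
    obtain ⟨_, ⟨U, hU, rfl⟩, hyU, hle⟩ := (𝔛.X 0).isBasis_affineOpens.exists_subset_of_mem_open hy V.2
    exact ⟨U, hle, hyU, FMod.good_of_isAffineOpen h𝔛 hU⟩
  have hst := FMod.stable_opI h𝔛
  haveI := FMod.GStab.isLeftAdjoint_rgamma hst hgood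
  let Γ := FTors.RgammaT 𝔛 h𝔛.1
  let Q := FTors.IsDQCT 𝔛 h𝔛.1
  let P := FTors.IsDQCTilde 𝔛 h𝔛.1
  have hQiso : ∀ {K L : DerivedCategory (FSch.ModF 𝔛 h𝔛.1)}, (K ≅ L) → Q K → Q L := fun e hK i =>
    (FTors.IsQCT 𝔛 h𝔛.1).prop_of_iso ((DerivedCategory.homologyFunctor _ i).mapIso e) (hK i)
  let adj := Adjunction.ofIsLeftAdjoint Γ
  let G := ObjectProperty.lift Q (P.ι ⋙ Γ) fun K => K.property
  let R := ObjectProperty.lift P (Q.ι ⋙ Γ.rightAdjoint) fun K => by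
    haveI := FMod.GStab.isIso_counit hst adj (G := K.obj) fun i => (K.property i).1
    exact hQiso (asIso (adj.counit.app K.obj)).symm K.property
  haveI : G.IsLeftAdjoint := ⟨R, ⟨adj.restrictFullyFaithful P.fullyFaithfulι Q.fullyFaithfulι
    (NatIso.ofComponents (fun _ => Iso.refl _) fun g => (Category.comp_id _).trans (Category.id_comp _).symm)
    (NatIso.ofComponents (fun _ => Iso.refl _) fun g => (Category.comp_id _).trans (Category.id_comp _).symm)⟩⟩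
  have : (G ⋙ (Q.ι ⋙ SiteCmp.RpushD (FSch.homMor f h𝔛.1 h𝔜.1))).IsLeftAdjoint := inferInstance
  exact Functor.isLeftAdjoint_of_iso (F := G ⋙ (Q.ι ⋙ SiteCmp.RpushD (FSch.homMor f h𝔛.1 h𝔜.1)))
    (NatIso.ofComponents (fun _ => Iso.refl _) fun g => (Category.comp_id _).trans (Category.id_comp _).symm)

end Groth.Agent.S17063
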