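import Groth.Statements.S17065
import Mathlib

set_option autoImplicit false
universe u
open CAlg

namespace Groth.Agent.S17065

/-- The local algebraic statement its proof establishes: let A be a Noetherian ring, I ≤ J radical
ideals and Â the J-adic completion of A. If J^n Â ⊆ I Â for some n, then the closed set V(J) is open
inside V(I) ⊆ Spec A. (Globally: if X₂ ⊆ X₁ are the completions of a locally Noetherian scheme along
nested closed subsets Z₂ ⊆ Z₁ and the ideal of Z₁ generates an ideal of definition of X₂, then X₂ is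
a union of connected components of X₁.) -/
theorem result (A : Type u) [CommRing A] [IsNoetherianRing A]
    (I J : Ideal A) (hIJ : I ≤ J) (hI : I.IsRadical) (hJ : J.IsRadical) (n : ℕ)
    (h : (J ^ n).map (algebraMap A (AdicCompletion J A)) ≤ I.map (algebraMap A (AdicCompletion J A))) :
    IsOpen ((fun x : PrimeSpectrum.zeroLocus (I : Set A) => (x : PrimeSpectrum A)) ⁻¹'
      PrimeSpectrum.zeroLocus (J : Set A)) := by
  classical
  have hkey : J ^ n ≤ I ⊔ J • J ^ n := by
    intro x hx
    have h1 := h (Ideal.mem_map_of_mem _ hx)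
    have h2 := Ideal.mem_map_of_mem (AdicCompletion.evalₐ J (n + 1)).toRingHom h1
    rw [Ideal.map_map, AlgHom.toRingHom_eq_coe, AlgHom.comp_algebraMap] at h2
    change AdicCompletion.evalₐ J (n + 1) (algebraMap A _ x) ∈ _ at h2
    rw [AlgHom.commutes, Ideal.Quotient.algebraMap_eq, ← Ideal.mem_comap,
      Ideal.comap_map_of_surjective _ Ideal.Quotient.mk_surjective, ← RingHom.ker_eq_comap_bot, Ideal.mk_ker,
      pow_succ'] at h2
    exact h2
  obtain ⟨r, hr1, hr2⟩ := Submodule.exists_sub_one_mem_and_smul_eq_zero_of_fg_of_le_smul J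
    (Submodule.map (Submodule.mkQ I) (J ^ n)) ((IsNoetherian.noetherian _).map _) (by
      refine (Submodule.map_mono hkey).trans ?_
      rw [Submodule.map_sup, Submodule.map_smul'', sup_le_iff]
      refine ⟨?_, le_rfl⟩
      rw [Submodule.map_le_iff_le_comap]
      intro y hy
      rw [Submodule.mem_comap, Submodule.mkQ_apply, (Submodule.Quotient.mk_eq_zero _).2 hy]
      exact zero_mem _)
  convert (PrimeSpectrum.basicOpen r).isOpen.preimage
    (continuous_subtype_val : Continuous fun x : PrimeSpectrum.zeroLocus (I : Set A) => (x : PrimeSpectrum A)) using 1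
  ext ⟨p, hp⟩
  simp only [Set.mem_preimage, PrimeSpectrum.mem_zeroLocus, SetLike.coe_subset_coe, SetLike.mem_coe,
    PrimeSpectrum.mem_basicOpen]
  constructor
  · intro hJp hrp
    exact p.2.ne_top ((Ideal.eq_top_iff_one _).2 (by simpa using p.asIdeal.sub_mem hrp (hJp hr1)))
  · intro hrp
    refine p.2.le_of_pow_le (n := n) fun x hx => ?_
    have h3 := hr2 _ (Submodule.mem_map_of_mem hx)
    rw [Submodule.mkQ_apply, ← Submodule.Quotient.mk_smul, Submodule.Quotient.mk_eq_zero, smul_eq_mul] at h3
    exact (p.2.mem_or_mem (hp h3)).resolve_left hrp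

end Groth.Agent.S17065
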