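import Groth.Statements.S17067
import Groth.Agent.H26.FMod.DimD
import Groth.Agent.H26.FMod.CohSerre

set_option autoImplicit false
open CategoryTheory CategoryTheory.Limits
universe u
attribute [local instance] HasDerivedCategory.standard
open FSch
open CategoryTheory CategoryTheory.Limits TopologicalSpace Groth.Agent.H26

namespace Groth.Agent.S17067

/-- Let g : 𝔛 ⟶ 𝔜 be a morphism of locally Noetherian formal schemes (adic systems of thickenings with
locally Noetherian levels) whose morphism of smallest levels is an affine morphism of schemes, and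
assume the total right derived functor Rg_* exists on unbounded derived categories of modules. If G
∈ D(O_𝔛) has lim-coherent cohomology sheaves (small filtered colimits of coherent modules) vanishing
in all degrees > e, then the cohomology sheaves of Rg_* G also vanish in all degrees > e. -/
theorem result (𝔛 𝔜 : FSch.Sys.{u}) (h𝔛 : 𝔛.IsLocNoethFormal) (h𝔜 : 𝔜.IsLocNoethFormal)
    (g : 𝔛 ⟶ 𝔜) [AlgebraicGeometry.IsAffineHom ((g : FSch.Hom 𝔛 𝔜).app 0)]
    [SiteCmp.HasRpushD (FSch.homMor g h𝔛.1 h𝔜.1)] (G : DerivedCategory (FSch.ModF 𝔛 h𝔛.1))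
    (hG : ∀ i : ℤ, (ObjectProperty.ind.{u} fun 𝔊 : FSch.ModF 𝔛 h𝔛.1 => FSch.IsCohF 𝔛 h𝔛.1 𝔊) (SiteCmp.HMod G i)) (e : ℤ) (he : ∀ i : ℤ, e < i → IsZero (SiteCmp.HMod G i))
    (i : ℤ) (hi : e < i) :
    IsZero (SiteCmp.HMod ((SiteCmp.RpushD (FSch.homMor g h𝔛.1 h𝔜.1)).obj G) i) := by
  haveI : HasInjectiveResolutions (FSch.ModF 𝔛 h𝔛.1) := inferInstance
  refine Dim.isZero_rpushD (FSch.homMor g h𝔛.1 h𝔜.1) (Dim.IndCoh h𝔛) (Dim.isCoveredBy_affine _)
    (Dim.locBound_ind h𝔛) (Dim.isCoveredBy_affine _) (fun V hV => ?_) 0 (fun F hF p hp => ?_)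
    (Dim.isClosedUnderIsomorphisms_ind h𝔛) (fun Z hZ => ?_) G hG e he i (by omega)
  · have hV' : AlgebraicGeometry.IsAffineOpen V := hV
    refine ⟨0, fun T hT => ?_⟩
    obtain ⟨ι, a, h₁, h₂⟩ := Dim.exists_cover_basic hV' T hT
    exact ⟨ι, _, _, h₁, h₂, fun i F hF k hk =>
      Dim.vanish_ind h𝔛 hF ((hV'.basicOpen (a i)).preimage ((g : FSch.Hom 𝔛 𝔜).app 0)) k hk⟩
  · obtain ⟨q, rfl⟩ := Nat.exists_eq_succ_of_ne_zero (show p ≠ 0 by omega)
    exact FMod.isZero_rpush_affine h𝔛 h𝔜 g F hF q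
  · exact ObjectProperty.le_ind _ _ (FMod.isCohF_zero hZ)

end Groth.Agent.S17067
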