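import Groth.Statements.S17068
import Groth.Agent.H26.FMod.TorsCompact

set_option autoImplicit false
open CategoryTheory CategoryTheory.Limits
universe u
open FTors

namespace Groth.Agent.S17068

/-- On a Noetherian formal scheme 𝔛 (adic system of thickenings with locally Noetherian levels and
quasi-compact underlying space), any right adjoint Q_t of the inclusion of quasi-coherent torsion
O_𝔛-modules into all O_𝔛-modules preserves small filtered colimits. (The published statement is for
direct limits over directed sets.) -/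
theorem result (𝔛 : FSch.Sys.{u}) (h𝔛 : 𝔛.IsLocNoethFormal)
    [CompactSpace (𝔛.X 0)] (Q : FSch.ModF 𝔛 h𝔛.1 ⥤ (FTors.IsQCT 𝔛 h𝔛.1).FullSubcategory) (adj : (FTors.IsQCT 𝔛 h𝔛.1).ι ⊣ Q)
    (J : Type u) [SmallCategory J] [IsFiltered J] (K : J ⥤ FSch.ModF 𝔛 h𝔛.1) :
    PreservesColimit K Q := by
  exact Groth.Agent.H26.FMod.preservesColimit_qct h𝔛 Q adj K

end Groth.Agent.S17068
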