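import Groth.Statements.S17069
import Groth.Agent.H26.FMod.ComplTorsUnit
import Groth.Agent.S3854

set_option autoImplicit false
open CategoryTheory CategoryTheory.Limits AlgebraicGeometry
universe u
open FTors

namespace Groth.Agent.S17069

/-- Let X be a locally Noetherian scheme, 𝓘 a quasi-coherent ideal of O_X, X̂ the completion of X along
𝓘 and κ : X̂ ⟶ X the completion morphism of ringed spaces. Then κ^* and κ_* are mutually inverse
between 𝓘-power-torsion O_X-modules and torsion O_X̂-modules: κ^* of an 𝓘-power-torsion module is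
torsion with the unit an isomorphism, and κ_* of a torsion module is 𝓘-power torsion with the counit
an isomorphism. -/
theorem result (X : Scheme.{u}) [IsLocallyNoetherian X]
    (𝓘 : X.IdealSheafData) (hX : (FSch.completionAlong X 𝓘).IsFormal) :
    (∀ N : ModSite.Mod X.sheaf, FTors.IsTorsZp X 𝓘 N →
      FTors.IsTorsF (FSch.completionAlong X 𝓘) hX ((FSch.toSchemeMor (FSch.completionAlong X 𝓘) hX (FSch.completionToX X 𝓘) (FSch.completionToX_comm X 𝓘)).pull.obj N) ∧ IsIso ((FSch.toSchemeMor (FSch.completionAlong X 𝓘) hX (FSch.completionToX X 𝓘) (FSch.completionToX_comm X 𝓘)).adj.unit.app N)) ∧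
    (∀ M : FSch.ModF (FSch.completionAlong X 𝓘) hX, FTors.IsTorsF (FSch.completionAlong X 𝓘) hX M →
      FTors.IsTorsZp X 𝓘 ((FSch.toSchemeMor (FSch.completionAlong X 𝓘) hX (FSch.completionToX X 𝓘) (FSch.completionToX_comm X 𝓘)).push.obj M) ∧ IsIso ((FSch.toSchemeMor (FSch.completionAlong X 𝓘) hX (FSch.completionToX X 𝓘) (FSch.completionToX_comm X 𝓘)).adj.counit.app M)) := by
  exact ⟨fun N hN => ⟨H26.FMod.isTorsF_pull 𝓘 (S3854.result X 𝓘) hN,
      H26.FMod.isIso_unit_toX 𝓘 (S3854.result X 𝓘) hN⟩,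
    fun M hM => ⟨H26.FMod.isTorsZp_push 𝓘 (S3854.result X 𝓘) hM,
      H26.FMod.isIso_counit_toX 𝓘 (S3854.result X 𝓘) hM⟩⟩

end Groth.Agent.S17069
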