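import Groth.Statements.S17073
import Groth.Agent.GrLib8.TopRepresent
-- import your own Groth.Agent.* helpers here

set_option autoImplicit false
open CategoryTheory
universe u
open LocCoh

namespace Groth.Agent.S17073

/-- Let R → S be a homomorphism of Noetherian rings, J an ideal of S containing elements u₁, …, u_d such
that S/(u₁, …, u_d) is a finite R-module and J lies in the radical of (u₁, …, u_d), and let F be a
finite R-module. Then the functor sending an S-module E to the set Hom_R(H^d_J(E), F) (d-th local
cohomology supported in J, scalars restricted to R) is representable by an S-module. (The published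
statement gives the representing module as the degree −d cohomology of RHom_R(RΓ_J S, F) and a
bifunctorial isomorphism; only representability is asserted here.) -/
theorem result
    (R S : Type u) [CommRing R] [CommRing S] [IsNoetherianRing R] [IsNoetherianRing S] [Algebra R S]
    (J : Ideal S) (d : ℕ) (u : Fin d → S) (hu : ∀ i, u i ∈ J)
    (hJ : J ≤ (Ideal.span (Set.range u)).radical) [Module.Finite R (S ⧸ Ideal.span (Set.range u))]
    (F : Type u) [AddCommGroup F] [Module R F] [Module.Finite R F] :
    ((localCohomology J d ⋙ ModuleCat.restrictScalars (algebraMap R S)).op ⋙
      yoneda.obj (ModuleCat.of R F)).IsRepresentable := by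
  classical
  refine Groth.Agent.GrLib8.TopRepresent.isRepresentable R S J d F ?_
  refine Groth.Agent.LC.cdLE_of_radical_eq (I := Ideal.span ((Finset.univ.image u : Finset S) : Set S)) ?_ ?_
  · rw [Finset.coe_image, Finset.coe_univ, Set.image_univ]
    refine le_antisymm (Ideal.radical_mono ?_) (Ideal.radical_le_radical_iff.2 hJ)
    rw [Ideal.span_le]
    rintro _ ⟨i, rfl⟩
    exact hu i
  · intro M _ _ i hi
    exact Groth.Agent.LC.cdLE_span_finset (Finset.univ.image u) M i
      (lt_of_le_of_lt (Finset.card_image_le.trans (by simp)) hi)

end Groth.Agent.S17073
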