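import Groth.Statements.S17076
import Groth.Agent.H9Misc.IsoNearFibre
import Mathlib.AlgebraicGeometry.Morphisms.FlatDescent

set_option autoImplicit false
set_option backward.isDefEq.respectTransparency false
set_option backward.isDefEq.respectTransparency.types false
set_option linter.style.haveILetI false
universe u
open CategoryTheory CategoryTheory.Limits AlgebraicGeometry
open MorSch

namespace Groth.Agent.S17076

section
open CategoryTheory CategoryTheory.Limits AlgebraicGeometry

variable {X Y S : Scheme.{u}} (p : X ⟶ Y) (g : X ⟶ S) (h : Y ⟶ S) (w : p ≫ h = g)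

/-- The base change of a morphism over `S`. -/
noncomputable def bcMap {T : Scheme.{u}} (k : T ⟶ S) : pullback g k ⟶ pullback h k :=
  pullback.map g k h k p (𝟙 _) (𝟙 _) ((Category.comp_id g).trans w.symm)
    ((Category.comp_id _).trans (Category.id_comp _).symm)

theorem isPullback_bcMap {T : Scheme.{u}} (k : T ⟶ S) :
    IsPullback (pullback.fst g k) (bcMap p g h w k) p (pullback.fst h k) := by
  refine (IsPullback.of_bot ?_ (pullback.lift_fst _ _ _).symm (IsPullback.of_hasPullback h k))
  rw [show bcMap p g h w k ≫ pullback.snd h k = pullback.snd g k from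
    (pullback.lift_snd _ _ _).trans (Category.comp_id _), w]
  exact IsPullback.of_hasPullback g k

/-- A factorisation of the base gives a base change square of base changed maps. -/
theorem exists_isPullback_of_factor {T T' : Scheme.{u}} (k : T ⟶ S) (l : T' ⟶ T) :
    ∃ a b, IsPullback a (bcMap p g h w (l ≫ k)) (bcMap p g h w k) b ∧
      IsPullback b (pullback.snd h (l ≫ k)) (pullback.snd h k) l := by
  let b : pullback h (l ≫ k) ⟶ pullback h k :=
    pullback.lift (pullback.fst _ _) (pullback.snd _ _ ≫ l) (by rw [Category.assoc]; exact pullback.condition)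
  let a : pullback g (l ≫ k) ⟶ pullback g k :=
    pullback.lift (pullback.fst _ _) (pullback.snd _ _ ≫ l) (by rw [Category.assoc]; exact pullback.condition)
  refine ⟨a, b, IsPullback.of_right ?_ ?_ (isPullback_bcMap p g h w k), ?_⟩
  · rw [pullback.lift_fst, pullback.lift_fst]
    exact isPullback_bcMap p g h w (l ≫ k)
  · refine pullback.hom_ext ?_ ?_ <;> simp [a, b, bcMap]
  · refine IsPullback.of_right ?_ (pullback.lift_snd _ _ _) (IsPullback.of_hasPullback h k)
    rw [pullback.lift_fst]
    exact IsPullback.of_hasPullback h (l ≫ k)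

/-- Over the open where it is an isomorphism. -/
theorem isIso_bcMap_of_range {T : Scheme.{u}} (k : T ⟶ S) (U : S.Opens) (hU : IsIso (p ∣_ (h ⁻¹ᵁ U)))
    (hk : Set.range k ⊆ U) : IsIso (bcMap p g h w k) := by
  have hr : Set.range (pullback.fst h k) ⊆ Set.range (h ⁻¹ᵁ U).ι := by
    rintro _ ⟨z, rfl⟩
    rw [Scheme.Opens.range_ι]
    show h (pullback.fst h k z) ∈ U
    rw [← Scheme.Hom.comp_apply, pullback.condition, Scheme.Hom.comp_apply]
    exact hk ⟨_, rfl⟩
  have sqU := (isPullback_morphismRestrict p (h ⁻¹ᵁ U)).flip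
  let l := IsOpenImmersion.lift (h ⁻¹ᵁ U).ι (pullback.fst h k) hr
  have hl : l ≫ (h ⁻¹ᵁ U).ι = pullback.fst h k := IsOpenImmersion.lift_fac _ _ _
  have sq := isPullback_bcMap p g h w k
  let a := sqU.lift (pullback.fst g k) (bcMap p g h w k ≫ l) (by rw [Category.assoc, hl]; exact sq.w)
  have h2 : IsPullback a (bcMap p g h w k) (p ∣_ (h ⁻¹ᵁ U)) l := by
    refine IsPullback.of_right ?_ (sqU.lift_snd _ _ _) sqU
    rw [sqU.lift_fst, hl]
    exact sq
  exact MorphismProperty.of_isPullback (P := MorphismProperty.isomorphisms Scheme.{u}) h2 hU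

/-- Descent along a field extension. -/
theorem isIso_of_fieldExt {s : S} {K : Type u} [Field K] (φ : S.residueField s ⟶ CommRingCat.of K)
    (hφ : IsIso (bcMap p g h w (Spec.map φ ≫ S.fromSpecResidueField s))) :
    IsIso (bcMap p g h w (S.fromSpecResidueField s)) := by
  obtain ⟨a, b, h1, h2⟩ := exists_isPullback_of_factor p g h w (S.fromSpecResidueField s) (Spec.map φ)
  haveI : Surjective (Spec.map φ) := ⟨fun x => ⟨(IsLocalRing.closedPoint K : PrimeSpectrum K),
    @Subsingleton.elim _ (inferInstanceAs (Subsingleton (PrimeSpectrum (S.residueField s)))) _ _⟩⟩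
  haveI : Flat (Spec.map φ) := by
    rw [HasRingHomProperty.Spec_iff (P := @Flat)]
    algebraize [φ.hom]
    show Module.Flat (S.residueField s) K
    exact Module.Flat.of_free
  have hb : (@Surjective ⊓ @Flat ⊓ @QuasiCompact : MorphismProperty Scheme.{u}) b :=
    ⟨⟨MorphismProperty.of_isPullback h2.flip ‹Surjective (Spec.map φ)›,
      MorphismProperty.of_isPullback h2.flip ‹Flat (Spec.map φ)›⟩,
      MorphismProperty.of_isPullback h2.flip (inferInstance : QuasiCompact (Spec.map φ))⟩
  exact MorphismProperty.of_isPullback_of_descendsAlong (P := MorphismProperty.isomorphisms Scheme.{u})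
    h1.flip hb hφ

end

/-- Let S be a locally Noetherian scheme, X and Y schemes proper over S with X flat over S, and f : X →
Y an S-morphism. Then there is an open subset S₀ of S such that, for every locally Noetherian scheme
S' and every morphism h : S' → S, the image of h lies in S₀ if and only if the base change X ×_S S'
→ Y ×_S S' of f is an isomorphism. (The published statement also supposes that some fibre of f is an
isomorphism; that hypothesis only serves to make S₀ nonempty and is not needed.) -/
theorem result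
    {S : Scheme.{u}} [IsLocallyNoetherian S] (X Y : Over S) [IsProper X.hom] [IsProper Y.hom]
    [Flat X.hom] (f : X ⟶ Y) :
    ∃ S₀ : S.Opens, ∀ (S' : Scheme.{u}) [IsLocallyNoetherian S'] (h : S' ⟶ S),
      Set.range h ⊆ (S₀ : Set S) ↔ IsIso ((Over.pullback h).map f).left := by
  let g := X.hom
  let h := Y.hom
  let p := f.left
  have w : p ≫ h = g := Over.w f
  let P : S → Prop := fun s => IsIso (bcMap p g h w (S.fromSpecResidueField s))
  have hopen : ∀ s, P s → ∃ U : S.Opens, s ∈ U ∧ IsIso (p ∣_ (h ⁻¹ᵁ U)) := fun s hs => by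
    haveI : IsIso (CohIII.fiberMapOver p g h w s) := hs
    exact Groth.Agent.H9Misc.IsoNearFibre.main p g h w s
  let S₀ : S.Opens := ⟨{s | P s}, isOpen_iff_forall_mem_open.2 fun s hs => by
    obtain ⟨U, hsU, hU⟩ := hopen s hs
    exact ⟨U, fun s' hs' => isIso_bcMap_of_range p g h w _ U hU
      (by rintro _ ⟨z, rfl⟩; rw [Scheme.fromSpecResidueField_apply]; exact hs'), U.2, hsU⟩⟩
  have hS₀ : IsIso (p ∣_ (h ⁻¹ᵁ S₀)) := by
    choose U hsU hU using fun s : {s // P s} => hopen s.1 s.2
    let V : ∀ (y : Y.left), P (h y) → Y.left.Opens := fun y hy => h ⁻¹ᵁ U ⟨h y, hy⟩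
    haveI : IsIso (p ∣_ (⨆ (y : Y.left) (hy : P (h y)), V y hy)) :=
      Groth.Agent.H9Misc.IsoNearFibre.isIso_restrict_iSup p V fun y hy => hU ⟨h y, hy⟩
    refine Groth.Agent.H9Misc.IsoNearFibre.isIso_restrict_of_le p
      (O := ⨆ (y : Y.left) (hy : P (h y)), V y hy) (fun y hy => ?_)
    exact TopologicalSpace.Opens.mem_iSup.2 ⟨y, TopologicalSpace.Opens.mem_iSup.2 ⟨hy, hsU ⟨h y, hy⟩⟩⟩
  refine ⟨S₀, fun S' _ k => ?_⟩
  have hk : IsIso ((Over.pullback k).map f).left ↔ IsIso (bcMap p g h w k) := by
    rw [show ((Over.pullback k).map f).left = bcMap p g h w k from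
      pullback.hom_ext ((pullback.lift_fst _ _ _).trans (pullback.lift_fst _ _ _).symm)
        ((pullback.lift_snd _ _ _).trans ((pullback.lift_snd _ _ _).trans (Category.comp_id _)).symm)]
  rw [hk]
  refine ⟨fun hr => isIso_bcMap_of_range p g h w k S₀ hS₀ hr, fun hi => ?_⟩
  rintro _ ⟨s', rfl⟩
  haveI := hi
  show IsIso (bcMap p g h w (S.fromSpecResidueField (k s')))
  refine isIso_of_fieldExt p g h w (k.residueFieldMap s') ?_
  rw [Scheme.Hom.SpecMap_residueFieldMap_fromSpecResidueField]
  obtain ⟨a, b, h1, -⟩ := exists_isPullback_of_factor p g h w k (S'.fromSpecResidueField s')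
  exact MorphismProperty.of_isPullback (P := MorphismProperty.isomorphisms Scheme.{u}) h1 hi

end Groth.Agent.S17076
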