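import Groth.Statements.S17077
import Mathlib.RingTheory.Nullstellensatz
import Mathlib.Algebra.MvPolynomial.Division


set_option autoImplicit false
universe u
open RatCurve

namespace Groth.Agent.S17077

/-- Let k be an algebraically closed field and F_0, …, F_{n-1} homogeneous polynomials in k[u, v] (of
possibly different degrees). Then the F_i have a common factor which is not a unit if and only if
they have a common zero (a, b) ≠ (0, 0) in k², that is, a common zero in the projective line. -/
theorem result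
    {k : Type u} [Field k] [IsAlgClosed k] {n : ℕ} (F : Fin n → MvPolynomial (Fin 2) k)
    (d : Fin n → ℕ) (hF : ∀ i, (F i).IsHomogeneous (d i)) :
    (∃ H : MvPolynomial (Fin 2) k, ¬ IsUnit H ∧ ∀ i, H ∣ F i) ↔
      ∃ a : Fin 2 → k, a ≠ 0 ∧ ∀ i, MvPolynomial.eval a (F i) = 0 := by
  classical
  have haev : ∀ (i : Fin n) (b : Fin 2 → k) (P : MvPolynomial (Fin 2) k),
      MvPolynomial.aeval (fun j => MvPolynomial.C (b j) * P) (F i) =
        MvPolynomial.C (MvPolynomial.eval b (F i)) * P ^ (d i) := by
    intro i b P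
    rw [MvPolynomial.aeval_def, MvPolynomial.eval₂_eq', MvPolynomial.eval_eq', map_sum, Finset.sum_mul]
    refine Finset.sum_congr rfl fun m hm => ?_
    have hdeg : ∑ j, m j = d i := by
      have := hF i (MvPolynomial.mem_support_iff.1 hm)
      simpa [Finsupp.weight_apply, Finsupp.sum_fintype] using this
    simp [mul_pow, Finset.prod_mul_distrib, Finset.prod_pow_eq_pow_sum, hdeg, map_prod, mul_assoc]
  constructor
  · rintro ⟨H, hH, hdvd⟩
    by_contra hcon
    push_neg at hcon
    by_cases hH0 : H = 0
    · obtain ⟨i, hi⟩ := hcon (fun _ => 1) (by simp [funext_iff])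
      exact hi (by rw [show F i = 0 by simpa [hH0] using hdvd i, map_zero])
    have hz : ∀ b : Fin 2 → k, MvPolynomial.eval b H = 0 → b = 0 := by
      intro b hb
      by_contra hb0
      obtain ⟨i, hi⟩ := hcon b hb0
      obtain ⟨G, hG⟩ := hdvd i
      exact hi (by rw [hG, map_mul, hb, zero_mul])
    have hrad : ∀ j : Fin 2, ∃ m : ℕ, H ∣ (MvPolynomial.X j : MvPolynomial (Fin 2) k) ^ m := by
      intro j
      have hmem : (MvPolynomial.X j : MvPolynomial (Fin 2) k) ∈
          MvPolynomial.vanishingIdeal k (MvPolynomial.zeroLocus k (Ideal.span {H})) := by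
        rw [MvPolynomial.mem_vanishingIdeal_iff]
        intro b hb
        rw [MvPolynomial.mem_zeroLocus_iff] at hb
        have := hb H (Ideal.mem_span_singleton_self H)
        simp only [MvPolynomial.aeval_eq_eval] at this ⊢
        simp [hz b this]
      rw [MvPolynomial.vanishingIdeal_zeroLocus_eq_radical] at hmem
      obtain ⟨m, hm⟩ := hmem
      exact ⟨m, Ideal.mem_span_singleton.1 hm⟩
    obtain ⟨m, hm⟩ := hrad 0
    obtain ⟨m', hm'⟩ := hrad 1
    obtain ⟨p, hp, hHp⟩ := (dvd_prime_pow (MvPolynomial.X_prime (i := (0 : Fin 2))) m).1 hm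
    rcases Nat.eq_zero_or_pos p with rfl | hp0
    · exact hH (hHp.isUnit_iff.2 (by simp))
    have h01 : (MvPolynomial.X 0 : MvPolynomial (Fin 2) k) ∣ MvPolynomial.X 1 ^ m' :=
      ((dvd_pow_self _ hp0.ne').trans hHp.symm.dvd).trans hm'
    obtain ⟨G, hG⟩ := (MvPolynomial.X_prime (i := (0 : Fin 2))).dvd_of_dvd_pow h01
    have := congrArg (MvPolynomial.eval (fun j : Fin 2 => if j = 0 then (0 : k) else 1)) hG
    simp at this
  · rintro ⟨a, ha, haF⟩
    obtain ⟨j, hj⟩ : ∃ j, a j ≠ 0 := Function.ne_iff.1 ha
    obtain ⟨l, hlj⟩ : ∃ l : Fin 2, l ≠ j := exists_ne j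
    let L : MvPolynomial (Fin 2) k :=
      MvPolynomial.X l - MvPolynomial.C (a l) * (MvPolynomial.C (a j)⁻¹ * MvPolynomial.X j)
    refine ⟨L, fun hu => ?_, fun i => ?_⟩
    · have := hu.map (MvPolynomial.eval (0 : Fin 2 → k))
      simp [L] at this
    · have key : (Ideal.Quotient.mkₐ k (Ideal.span {L})).comp
          (MvPolynomial.aeval fun t => MvPolynomial.C (a t) * (MvPolynomial.C (a j)⁻¹ * MvPolynomial.X j)) =
          Ideal.Quotient.mkₐ k (Ideal.span {L}) := by
        apply MvPolynomial.algHom_ext
        intro t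
        simp only [AlgHom.comp_apply, MvPolynomial.aeval_X, Ideal.Quotient.mkₐ_eq_mk]
        rw [eq_comm, Ideal.Quotient.eq, Ideal.mem_span_singleton]
        by_cases ht : t = j
        · subst ht
          rw [← mul_assoc, ← map_mul, mul_inv_cancel₀ hj, map_one, one_mul, sub_self]
          exact dvd_zero _
        · have : t = l := by omega
          subst this
          exact dvd_rfl
      have h0 := DFunLike.congr_fun key (F i)
      rw [AlgHom.comp_apply, haev, haF, map_zero, zero_mul, map_zero, eq_comm,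
        Ideal.Quotient.mkₐ_eq_mk, Ideal.Quotient.eq_zero_iff_dvd] at h0
      exact h0

end Groth.Agent.S17077
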