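import Groth.Statements.S17078
import Groth.Agent.S17077
import Mathlib.RingTheory.Nullstellensatz
import Mathlib.RingTheory.MvPolynomial.Homogeneous

set_option autoImplicit false
universe u
open RatCurve

namespace Groth.Agent.S17078

/-- Let k be an algebraically closed field and F_0, …, F_{n-1} homogeneous polynomials of degree d in
k[u, v]. Then the F_i have no common factor other than units if and only if there is an integer m ≥
d such that every homogeneous polynomial of degree m can be written Σ_i F_i G_i with each G_i
homogeneous of degree m − d, i.e. the k-linear map (G_i)_i ↦ Σ_i F_i G_i from n copies of k[u,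
v]_{m−d} to k[u, v]_m is surjective. -/
theorem result
    {k : Type u} [Field k] [IsAlgClosed k] {n : ℕ} (F : Fin n → MvPolynomial (Fin 2) k)
    (d : ℕ) (hF : ∀ i, (F i).IsHomogeneous d) :
    (¬ ∃ H : MvPolynomial (Fin 2) k, ¬ IsUnit H ∧ ∀ i, H ∣ F i) ↔
      ∃ m : ℕ, d ≤ m ∧ ∀ P : MvPolynomial (Fin 2) k, P.IsHomogeneous m →
        ∃ G : Fin n → MvPolynomial (Fin 2) k, (∀ i, (G i).IsHomogeneous (m - d)) ∧
          P = ∑ i, F i * G i := by
  classical
  rw [S17077.result F (fun _ => d) hF]
  constructor
  · intro hno
    have hrad : ∀ j : Fin 2, (MvPolynomial.X j : MvPolynomial (Fin 2) k) ∈ (Ideal.span (Set.range F)).radical := by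
      intro j
      rw [← MvPolynomial.vanishingIdeal_zeroLocus_eq_radical (k := k) (K := k), MvPolynomial.mem_vanishingIdeal_iff]
      intro b hb
      rw [MvPolynomial.mem_zeroLocus_iff] at hb
      have hb0 : b = 0 := by
        by_contra hne
        exact hno ⟨b, hne, fun i => by
          simpa [MvPolynomial.aeval_eq_eval] using hb (F i) (Ideal.subset_span ⟨i, rfl⟩)⟩
      simp [hb0]
    choose q hq using hrad
    refine ⟨d + q 0 + q 1, by omega, fun P hP => ?_⟩
    have hmem : P ∈ Ideal.span (Set.range F) := by
      rw [P.as_sum]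
      refine Ideal.sum_mem _ fun s hs => ?_
      have hdeg : s 0 + s 1 = d + q 0 + q 1 := by
        have := hP (MvPolynomial.mem_support_iff.1 hs)
        simpa [Finsupp.weight_apply, Finsupp.sum_fintype, Fin.sum_univ_two] using this
      rw [MvPolynomial.monomial_eq, Finsupp.prod_fintype _ _ (fun i => by simp), Fin.prod_univ_two]
      refine Ideal.mul_mem_left _ _ ?_
      by_cases h0 : q 0 ≤ s 0
      · exact Ideal.mul_mem_right _ _ (Ideal.pow_mem_of_pow_mem _ (hq 0) h0)
      · exact Ideal.mul_mem_left _ _ (Ideal.pow_mem_of_pow_mem _ (hq 1) (by omega))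
    obtain ⟨g, hg⟩ := Ideal.mem_span_range_iff_exists_fun.1 hmem
    refine ⟨fun i => MvPolynomial.homogeneousComponent (d + q 0 + q 1 - d) (g i),
      fun i => MvPolynomial.homogeneousComponent_isHomogeneous _ _, ?_⟩
    have key : ∀ i, MvPolynomial.homogeneousComponent (d + q 0 + q 1) (F i * g i) =
        F i * MvPolynomial.homogeneousComponent (d + q 0 + q 1 - d) (g i) := by
      intro i
      conv_lhs => rw [← MvPolynomial.sum_homogeneousComponent (g i), Finset.mul_sum, map_sum]
      have hterm : ∀ e, MvPolynomial.homogeneousComponent (d + q 0 + q 1)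
          (F i * MvPolynomial.homogeneousComponent e (g i)) =
          if d + q 0 + q 1 = d + e then F i * MvPolynomial.homogeneousComponent e (g i) else 0 := fun e =>
        MvPolynomial.homogeneousComponent_of_mem ((MvPolynomial.mem_homogeneousSubmodule _ _).2
          ((hF i).mul (MvPolynomial.homogeneousComponent_isHomogeneous e (g i))))
      rw [Finset.sum_congr rfl fun e _ => hterm e]
      by_cases he : d + q 0 + q 1 - d ∈ Finset.range ((g i).totalDegree + 1)
      · rw [Finset.sum_eq_single (d + q 0 + q 1 - d) (fun e _ hne => if_neg (by omega))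
          (fun h => absurd he h), if_pos (by omega)]
      · rw [MvPolynomial.homogeneousComponent_eq_zero _ _ (by simp at he; omega), mul_zero]
        exact Finset.sum_eq_zero fun e hm => if_neg (by simp at he hm; omega)
    simp only [← key, ← map_sum]
    rw [show (∑ i, F i * g i) = P from by rw [← hg]; exact Finset.sum_congr rfl fun i _ => mul_comm _ _,
      MvPolynomial.homogeneousComponent_eq_self hP]
  · rintro ⟨m, hm, h⟩ ⟨a, ha, haF⟩
    obtain ⟨j, hj⟩ : ∃ j, a j ≠ 0 := Function.ne_iff.1 ha
    obtain ⟨G, -, hG⟩ := h (MvPolynomial.X j ^ m) (by simpa using (MvPolynomial.isHomogeneous_X k j).pow m)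
    have := congrArg (MvPolynomial.eval a) hG
    simp [haF, hj] at this

end Groth.Agent.S17078
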