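import Groth.Statements.S17079
import Mathlib

set_option autoImplicit false
universe u
open CategoryTheory CategoryTheory.Limits AlgebraicGeometry
open MorSch

namespace Groth.Agent.S17079

noncomputable section

set_option backward.isDefEq.respectTransparency false
set_option backward.isDefEq.respectTransparency.types false

variable {X Y S S' : Scheme.{u}} (gX : X ⟶ S) (gY : Y ⟶ S) (h : S' ⟶ S)

/-- `T ×_{S'} X' ⟶ T ×_S X`. -/
def down {A : Scheme.{u}} (a : A ⟶ S') : pullback a (pullback.snd gX h) ⟶ pullback (a ≫ h) gX :=
  pullback.lift (pullback.fst _ _) (pullback.snd _ _ ≫ pullback.fst _ _) (by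
    rw [Category.assoc, pullback.condition_assoc, pullback.condition])

/-- `T ×_S X ⟶ T ×_{S'} X'`. -/
def up {A : Scheme.{u}} (a : A ⟶ S') : pullback (a ≫ h) gX ⟶ pullback a (pullback.snd gX h) :=
  pullback.lift (pullback.fst _ _) (pullback.lift (pullback.snd _ _) (pullback.fst _ _ ≫ a)
    (by rw [Category.assoc, pullback.condition])) (pullback.lift_snd _ _ _).symm

theorem down_up {A : Scheme.{u}} (a : A ⟶ S') : down gX h a ≫ up gX h a = 𝟙 _ := by
  unfold down up
  apply pullback.hom_ext
  · simp
  · apply pullback.hom_ext <;> simp [pullback.condition]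

theorem up_down {A : Scheme.{u}} (a : A ⟶ S') : up gX h a ≫ down gX h a = 𝟙 _ := by
  unfold down up
  apply pullback.hom_ext <;> simp

theorem up_naturality {A A' : Scheme.{u}} (a : A ⟶ S') (a' : A' ⟶ S') (φ : A' ⟶ A) (w : φ ≫ a = a') :
    pullback.lift (f := a ≫ h) (g := gX) (pullback.fst (a' ≫ h) gX ≫ φ) (pullback.snd _ _)
        (by rw [Category.assoc, reassoc_of% w, pullback.condition]) ≫ up gX h a =
      up gX h a' ≫ pullback.lift (f := a) (g := pullback.snd gX h) (pullback.fst _ _ ≫ φ) (pullback.snd _ _)
        (by rw [Category.assoc, w, pullback.condition]) := by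
  subst w
  unfold up
  apply pullback.hom_ext
  · simp
  · apply pullback.hom_ext <;> simp

theorem up_cond {A : Scheme.{u}} (a : A ⟶ S') :
    up gX h a ≫ pullback.snd a (pullback.snd gX h) ≫ pullback.snd gX h ≫ h =
      pullback.snd (a ≫ h) gX ≫ gX := by
  simp [up, ← pullback.condition]

theorem down_cond {A : Scheme.{u}} (a : A ⟶ S') :
    down gX h a ≫ pullback.snd (a ≫ h) gX ≫ gX =
      (pullback.snd a (pullback.snd gX h) ≫ pullback.snd gX h) ≫ h := by
  simp [down, pullback.condition]

/-- The comparison of the two morphism functors. -/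
def E (T : Over S') : (Flatn.morS (pullback.snd gX h) (pullback.snd gY h)).obj (Opposite.op T) ≃
    (Flatn.morS gX gY).obj (Opposite.op ((Over.map h).obj T)) where
  toFun b := Over.homMk (up gX h T.hom ≫ b.left ≫ pullback.fst gY h) (by
    change (up gX h T.hom ≫ b.left ≫ pullback.fst gY h) ≫ gY = pullback.snd (T.hom ≫ h) gX ≫ gX
    have w : b.left ≫ pullback.snd gY h = pullback.snd T.hom (pullback.snd gX h) ≫ pullback.snd gX h :=
      Over.w b
    simp only [Category.assoc, pullback.condition, reassoc_of% w]
    exact up_cond gX h T.hom)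
  invFun c := Over.homMk (pullback.lift (down gX h T.hom ≫ c.left)
      (pullback.snd T.hom (pullback.snd gX h) ≫ pullback.snd gX h) (by
      have w : c.left ≫ gY = pullback.snd (T.hom ≫ h) gX ≫ gX := Over.w c
      exact (Category.assoc _ _ _).trans ((congrArg (down gX h T.hom ≫ ·) w).trans (down_cond gX h T.hom)))) (pullback.lift_snd _ _ _)
  left_inv b := Over.OverMorphism.ext (pullback.hom_ext
    ((pullback.lift_fst _ _ _).trans (by
      change down gX h T.hom ≫ up gX h T.hom ≫ b.left ≫ pullback.fst gY h = _
      rw [reassoc_of% (down_up gX h T.hom)]))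
    ((pullback.lift_snd _ _ _).trans (Over.w b).symm))
  right_inv c := Over.OverMorphism.ext (by
    change up gX h T.hom ≫ pullback.lift _ _ _ ≫ pullback.fst gY h = c.left
    rw [pullback.lift_fst, reassoc_of% (up_down gX h T.hom)])

theorem E_naturality {T T' : Over S'} (φ : T' ⟶ T)
    (b : (Flatn.morS (pullback.snd gX h) (pullback.snd gY h)).obj (Opposite.op T)) :
    E gX gY h T' ((Flatn.morS (pullback.snd gX h) (pullback.snd gY h)).map φ.op b) =
      (Flatn.morS gX gY).map ((Over.map h).map φ).op (E gX gY h T b) :=
  Over.OverMorphism.ext ((Category.assoc _ _ _).symm.trans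
    ((congrArg (· ≫ pullback.fst gY h) ((Category.assoc _ _ _).symm.trans
      (congrArg (· ≫ b.left) (up_naturality gX h T.hom T'.hom φ.left (Over.w φ)).symm))).trans
      (by simp only [Category.assoc]; rfl)))

end


/-- Let gX : X → S and gY : Y → S be morphisms and suppose the functor Mor_S(X, Y) — sending an S-scheme
T to the set of S-morphisms T ×_S X → Y, with base change as transition maps — is represented by an
S-scheme M. Then for every morphism h : S' → S the functor Mor_{S'}(X ×_S S', Y ×_S S') on
S'-schemes is represented by M ×_S S'. (The published statement assumes X and Y projective over S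
with X flat and S, S' locally Noetherian; this row assumes only that the functor is represented by
M. Only the existence of a representing structure on M ×_S S' is asserted, not its compatibility
with the one on M.) -/
theorem result
    {X Y S S' : Scheme.{u}} (gX : X ⟶ S) (gY : Y ⟶ S) (h : S' ⟶ S)
    (M : Over S) (e : (Flatn.morS gX gY).RepresentableBy M) :
    Nonempty ((Flatn.morS (pullback.snd gX h) (pullback.snd gY h)).RepresentableBy
      (Over.mk (pullback.snd M.hom h))) := by
  refine ⟨⟨fun {T} =>
      (((Over.mapPullbackAdj h).homEquiv T M).symm.trans e.homEquiv).trans (E gX gY h T).symm,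
    fun {T T'} φ f => ?_⟩⟩
  apply (E gX gY h T).injective
  simp only [Equiv.trans_apply, Equiv.apply_symm_apply]
  refine Eq.trans ?_ (E_naturality gX gY h φ _).symm
  rw [Equiv.apply_symm_apply]
  exact (congrArg e.homEquiv ((Over.mapPullbackAdj h).homEquiv_naturality_left_symm φ f)).trans
    (e.homEquiv_comp _ _)

end Groth.Agent.S17079
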