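import Groth.Statements.S17080
import Mathlib.AlgebraicGeometry.PullbackCarrier
-- import your own Groth.Agent.* helpers here

set_option autoImplicit false
set_option backward.isDefEq.respectTransparency false
set_option backward.isDefEq.respectTransparency.types false
universe u
open CategoryTheory CategoryTheory.Limits AlgebraicGeometry
open MorSch

namespace Groth.Agent.S17080

open AlgebraicGeometry CategoryTheory Limits in
/-- The base change of a morphism of `S`-schemes hits every point over its range. -/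
theorem exists_over {X S : Scheme.{u}} (gX : X ⟶ S) {T M : Over S} (φ : T ⟶ M)
    (z : ↑(pullback M.hom gX)) (t : T.left) (h : pullback.fst M.hom gX z = φ.left t) :
    ∃ w : ↑(pullback T.hom gX), ((Over.pullback gX).map φ).left w = z ∧ pullback.fst T.hom gX w = t := by
  let m : pullback T.hom gX ⟶ pullback M.hom gX :=
    pullback.lift (pullback.fst T.hom gX ≫ φ.left) (pullback.snd T.hom gX)
      (by rw [Category.assoc, Over.w φ, pullback.condition])
  have hsq : IsPullback m (pullback.fst T.hom gX) (pullback.fst M.hom gX) φ.left := by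
    refine IsPullback.of_right ?_ (pullback.lift_fst _ _ _) (IsPullback.of_hasPullback M.hom gX).flip
    rw [show m ≫ pullback.snd M.hom gX = pullback.snd T.hom gX from pullback.lift_snd _ _ _, Over.w φ]
    exact (IsPullback.of_hasPullback T.hom gX).flip
  obtain ⟨y, hy1, hy2⟩ := Scheme.Pullback.exists_preimage_pullback z t h
  refine ⟨hsq.isoPullback.inv y, ?_, ?_⟩
  · show m (hsq.isoPullback.inv y) = z
    rw [← Scheme.Hom.comp_apply, hsq.isoPullback_inv_fst, hy1]
  · rw [← Scheme.Hom.comp_apply, hsq.isoPullback_inv_snd, hy2]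

/-- Let gX : X → S be proper and flat, gY : Y → S separated and j : U → Y an open immersion, and suppose
the functor Mor_S(X, Y) — S-schemes T ↦ S-morphisms T ×_S X → Y — is represented by an S-scheme M
via e. Then there are an open subset M₀ of M and a representation e₀ of Mor_S(X, U) by the open
subscheme M₀ (viewed over S through M) which is compatible with e: for every S-morphism φ : T → M₀,
the S-morphism T ×_S X → Y classified by φ followed by the inclusion M₀ → M is the S-morphism T ×_S
X → U classified by φ, followed by j. In particular the morphism Mor_S(X, U) → Mor_S(X, Y) induced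
by j is an open immersion. (Published for X projective and flat and Y quasi-projective over a
locally Noetherian S, which is how M is known to exist there; representability is taken as a
hypothesis here.) -/
theorem result
    {X Y U S : Scheme.{u}} (gX : X ⟶ S) [IsProper gX] [Flat gX] (gY : Y ⟶ S) [IsSeparated gY]
    (j : U ⟶ Y) [IsOpenImmersion j] (M : Over S) (e : (Flatn.morS gX gY).RepresentableBy M) :
    ∃ (M₀ : M.left.Opens)
      (e₀ : (Flatn.morS gX (j ≫ gY)).RepresentableBy (Over.mk (M₀.ι ≫ M.hom))),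
      ∀ (T : Over S) (φ : T ⟶ Over.mk (M₀.ι ≫ M.hom)),
        (e.homEquiv (φ ≫ Over.homMk M₀.ι rfl) :
            (Over.map gX).obj ((Over.pullback gX).obj T) ⟶ Over.mk gY) =
          (e₀.homEquiv φ : (Over.map gX).obj ((Over.pullback gX).obj T) ⟶ Over.mk (j ≫ gY)) ≫
            (Over.homMk j rfl : Over.mk (j ≫ gY) ⟶ Over.mk gY) := by
  let b : (Over.map gX).obj ((Over.pullback gX).obj M) ⟶ Over.mk gY := e.homEquiv (𝟙 M)
  let b₀ : pullback M.hom gX ⟶ Y := b.left
  let bad : Set M.left := pullback.fst M.hom gX '' (b₀ ⁻¹' (Set.range j)ᶜ)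
  have hbad : IsClosed bad := (pullback.fst M.hom gX).isClosedMap _
    (j.isOpenEmbedding.isOpen_range.isClosed_compl.preimage b₀.continuous)
  let M₀ : M.left.Opens := ⟨badᶜ, hbad.isOpen_compl⟩
  have hev : ∀ {T : Over S} (g : T ⟶ M),
      ((e.homEquiv g : (Over.map gX).obj ((Over.pullback gX).obj T) ⟶ Over.mk gY)).left =
        ((Over.pullback gX).map g).left ≫ b₀ := fun {T} g => by
    have h := e.homEquiv_comp g (𝟙 M)
    rw [Category.comp_id] at h
    exact congrArg CommaMorphism.left h
  have hiff : ∀ {T : Over S} (g : T ⟶ M), Set.range g.left ⊆ (M₀ : Set M.left) ↔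
      Set.range ((e.homEquiv g : (Over.map gX).obj ((Over.pullback gX).obj T) ⟶ Over.mk gY)).left ⊆ Set.range j := by
    intro T g
    rw [hev g]
    constructor
    · rintro h _ ⟨w, rfl⟩
      by_contra hw
      refine h ⟨pullback.fst T.hom gX w, rfl⟩ ⟨((Over.pullback gX).map g).left w, hw, ?_⟩
      exact (congrArg (fun m : pullback T.hom gX ⟶ M.left => m w)
        (pullback.lift_fst (f := M.hom) (g := gX) (pullback.fst T.hom gX ≫ g.left) (pullback.snd T.hom gX)
          (by rw [Category.assoc, Over.w g, pullback.condition])))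
    · rintro h _ ⟨t, rfl⟩ ⟨z, hz, hzt⟩
      obtain ⟨w, hw, -⟩ := exists_over gX g z t hzt
      exact hz (hw ▸ h ⟨w, rfl⟩ : b₀ z ∈ Set.range j)
  let incl : Over.mk (M₀.ι ≫ M.hom) ⟶ M := Over.homMk M₀.ι rfl
  let J : Over.mk (j ≫ gY) ⟶ Over.mk gY := Over.homMk j rfl
  have hrange : ∀ {T : Over S} (φ : T ⟶ Over.mk (M₀.ι ≫ M.hom)),
      Set.range (φ ≫ incl).left ⊆ (M₀ : Set M.left) := by
    rintro T φ _ ⟨t, rfl⟩
    exact (φ.left t).2
  haveI : Mono M₀.ι := inferInstance
  let toU : ∀ (T : Over S), (T ⟶ Over.mk (M₀.ι ≫ M.hom)) →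
      ((Over.map gX).obj ((Over.pullback gX).obj T) ⟶ Over.mk (j ≫ gY)) := fun T φ =>
    Over.homMk (IsOpenImmersion.lift j _ ((hiff (φ ≫ incl)).1 (hrange φ))) (by
      show IsOpenImmersion.lift j _ _ ≫ j ≫ gY = _
      rw [IsOpenImmersion.lift_fac_assoc]
      exact Over.w (e.homEquiv (φ ≫ incl) : (Over.map gX).obj ((Over.pullback gX).obj T) ⟶ Over.mk gY))
  have htoU : ∀ (T : Over S) (φ : T ⟶ Over.mk (M₀.ι ≫ M.hom)),
      toU T φ ≫ J = (e.homEquiv (φ ≫ incl) : (Over.map gX).obj ((Over.pullback gX).obj T) ⟶ Over.mk gY) :=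
    fun T φ => Over.OverMorphism.ext (IsOpenImmersion.lift_fac _ _ _)
  have hJ : ∀ {A : Over S} (a a' : A ⟶ Over.mk (j ≫ gY)), a ≫ J = a' ≫ J → a = a' := fun a a' h =>
    Over.OverMorphism.ext ((cancel_mono j).1 (congrArg CommaMorphism.left h))
  have hbij : ∀ T, Function.Bijective (toU T) := by
    intro T
    refine ⟨fun φ φ' h => ?_, fun c => ?_⟩
    · have h1 := e.homEquiv.injective
        ((htoU T φ).symm.trans ((congrArg (· ≫ J) h).trans (htoU T φ')))
      exact Over.OverMorphism.ext ((cancel_mono M₀.ι).1 (congrArg CommaMorphism.left h1))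
    · let g : T ⟶ M := e.homEquiv.symm (c ≫ J)
      have hg : e.homEquiv g = c ≫ J := e.homEquiv.apply_symm_apply _
      have hr : Set.range g.left ⊆ (M₀ : Set M.left) := (hiff g).2 (by
        rw [hg]
        rintro _ ⟨w, rfl⟩
        exact ⟨c.left w, rfl⟩)
      let φ : T ⟶ Over.mk (M₀.ι ≫ M.hom) := Over.homMk
        (IsOpenImmersion.lift M₀.ι g.left (hr.trans (Scheme.Opens.range_ι M₀).ge)) (by
        show IsOpenImmersion.lift _ _ _ ≫ M₀.ι ≫ M.hom = _
        rw [IsOpenImmersion.lift_fac_assoc]
        exact Over.w g)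
      have hφ : φ ≫ incl = g := Over.OverMorphism.ext (IsOpenImmersion.lift_fac _ _ _)
      exact ⟨φ, hJ _ _ (by rw [htoU, hφ, hg])⟩
  refine ⟨M₀, { homEquiv := fun {T} => Equiv.ofBijective (toU T) (hbij T), homEquiv_comp := ?_ },
    fun T φ => (htoU T φ).symm⟩
  intro T T' k φ
  refine hJ _ _ ?_
  show toU T (k ≫ φ) ≫ J = ((Over.map gX).map ((Over.pullback gX).map k) ≫ toU T' φ) ≫ J
  rw [Category.assoc, htoU, htoU, Category.assoc, e.homEquiv_comp]
  rfl

end Groth.Agent.S17080
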