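import Groth.Statements.S17081
import Groth.Agent.ArtFunLib.HilbLink

set_option autoImplicit false
set_option backward.isDefEq.respectTransparency false
set_option backward.isDefEq.respectTransparency.types false
universe u
open CategoryTheory CategoryTheory.Limits AlgebraicGeometry
open MorSch

namespace Groth.Agent.S17081

open Groth.Agent.ArtFunLib

/-- An `S'`-scheme, seen over `S`. -/
noncomputable abbrev down {S S' : Scheme.{u}} (h : S' ⟶ S) (T : Over S') : Over S :=
  Over.mk (T.hom ≫ h)

/-- `(X ×_S S') ×_{S'} T ≅ X ×_S T`. -/
noncomputable abbrev eIso {X S S' : Scheme.{u}} (f : X ⟶ S) (h : S' ⟶ S) (T : Over S') :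
    PicF.XT (pullback.snd f h) T ≅ PicF.XT f (down h T) :=
  pullbackLeftPullbackSndIso f h T.hom

/-- Let S and S' be Noetherian schemes, h : S' → S and f : X → S morphisms, and (H, Z) a pair
representing the Hilbert functor of X over S on locally Noetherian S-schemes (H locally Noetherian
over S; Z ⊆ X ×_S H closed, proper and flat over H; every closed subscheme of X ×_S T proper and
flat over a locally Noetherian S-scheme T is the pullback of Z along a unique S-morphism T → H),
with H locally of finite type over S. Write X' = X ×_S S' → S' and H' = H ×_S S' → S', and let Z' ⊆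
X' ×_{S'} H' be the closed subscheme pulled back from Z along the morphism X' ×_{S'} H' → X ×_S H
induced by the projections X' → X and H' → H. Then (H', Z') represents the Hilbert functor of X'
over S'. (Published for X flat and projective over S, which is how (H, Z) is known to exist there;
representability is taken as a hypothesis here; the hypothesis that H is locally of finite type over
S is added here (it holds for the Hilbert scheme of a flat projective scheme) so that H ×_S S' is
locally Noetherian.) -/
theorem result
    {X S S' : Scheme.{u}} [IsNoetherian S] [IsNoetherian S'] (f : X ⟶ S) (h : S' ⟶ S)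
    (H : Over S) (Z : FGA.HilbSet f H) (hH : FGA.HilbRepresentedBy f H Z)
    [LocallyOfFiniteType H.hom]
    (Z' : FGA.HilbSet (pullback.snd f h) (Over.mk (pullback.snd H.hom h)))
    (hZ' : Z'.1 = Z.1.comap (pullback.map (pullback.snd f h) (pullback.snd H.hom h) f H.hom
      (pullback.fst f h) (pullback.fst H.hom h) h pullback.condition.symm pullback.condition.symm)) :
    FGA.HilbRepresentedBy (pullback.snd f h) (Over.mk (pullback.snd H.hom h)) Z' := by
  refine ⟨?_, ?_⟩
  · haveI := hH.1
    show IsLocallyNoetherian (pullback H.hom h)
    exact LocallyOfFiniteType.isLocallyNoetherian (pullback.snd H.hom h)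
  intro T hT Y
  let e := eIso f h T
  haveI : IsLocallyNoetherian (down h T).left := hT
  have hprop : IsProper ((Y.1.comap e.inv).subschemeι ≫ PicF.XTproj f (down h T)) ∧
      Flat ((Y.1.comap e.inv).subschemeι ≫ PicF.XTproj f (down h T)) := by
    have hp : e.inv ≫ PicF.XTproj (pullback.snd f h) T = PicF.XTproj f (down h T) :=
      pullbackLeftPullbackSndIso_inv_snd_snd f h T.hom
    have he : (Y.1.comap e.inv).subschemeι ≫ PicF.XTproj f (down h T) =
        ((Y.1.comapIso e.inv).hom ≫ pullback.snd e.inv Y.1.subschemeι) ≫
          Y.1.subschemeι ≫ PicF.XTproj (pullback.snd f h) T := by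
      rw [← hp, ← Scheme.IdealSheafData.comapIso_hom_fst]
      simp only [Category.assoc]
      rw [pullback.condition_assoc]
    haveI := Y.2.1
    haveI := Y.2.2
    rw [he]
    exact ⟨inferInstance, inferInstance⟩
  obtain ⟨g, hg, hguniq⟩ := hH.2 (down h T) ⟨Y.1.comap e.inv, hprop⟩
  have key : ∀ (g' : T ⟶ Over.mk (pullback.snd H.hom h)) (g₀ : down h T ⟶ H),
      g'.left ≫ pullback.fst H.hom h = g₀.left →
      FGA.hilbPull (pullback.snd f h) g' Z'.1 = (FGA.hilbPull f g₀ Z.1).comap e.hom := by
    intro g' g₀ hgg
    rw [HilbLink.hilbPull_eq_comap, HilbLink.hilbPull_eq_comap, hZ']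
    erw [← Scheme.IdealSheafData.comap_comp]
    rw [← Scheme.IdealSheafData.comap_comp]
    congr 1
    apply pullback.hom_ext
    · rw [Category.assoc, pullback.map, pullback.lift_fst]
      erw [reassoc_of% (FGA.XTmap_fst (pullback.snd f h) g')]
      rw [Category.assoc, FGA.XTmap_fst]
      exact (pullbackLeftPullbackSndIso_hom_fst f h T.hom).symm
    · rw [Category.assoc, pullback.map, pullback.lift_snd]
      erw [reassoc_of% (HilbLink.XTmap_snd (pullback.snd f h) g')]
      erw [Category.assoc, HilbLink.XTmap_snd f g₀]
      have hs : e.hom ≫ PicF.XTproj f (down h T) = PicF.XTproj (pullback.snd f h) T :=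
        pullbackLeftPullbackSndIso_hom_snd f h T.hom
      erw [reassoc_of% hs]
      rw [hgg]
  refine ⟨Over.homMk (pullback.lift g.left T.hom (by simpa using Over.w g)) (pullback.lift_snd _ _ _),
    ?_, ?_⟩
  · show FGA.hilbPull _ _ Z'.1 = _
    rw [key _ g (pullback.lift_fst _ _ _), hg, ← Scheme.IdealSheafData.comap_comp, e.hom_inv_id,
      Scheme.IdealSheafData.comap_id]
  · intro g' hg'
    let g₀ : down h T ⟶ H := Over.homMk (g'.left ≫ pullback.fst H.hom h) (by
      show (g'.left ≫ pullback.fst H.hom h) ≫ H.hom = T.hom ≫ h
      rw [Category.assoc, pullback.condition, ← Category.assoc]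
      congr 1
      exact Over.w g')
    have h0 : g₀ = g := by
      apply hguniq
      show FGA.hilbPull f g₀ Z.1 = Y.1.comap e.inv
      rw [← hg', key g' g₀ rfl, ← Scheme.IdealSheafData.comap_comp, e.inv_hom_id,
        Scheme.IdealSheafData.comap_id]
    refine Over.OverMorphism.ext (pullback.hom_ext ?_ ?_)
    · rw [← h0]
      exact (pullback.lift_fst _ _ _).symm
    · exact (Over.w g').trans (pullback.lift_snd _ _ _).symm

end Groth.Agent.S17081
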