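import Groth.Statements.S17082
import Groth.Agent.ArtFunLib.HilbLink

set_option autoImplicit false
set_option backward.isDefEq.respectTransparency false
set_option backward.isDefEq.respectTransparency.types false
set_option linter.style.haveILetI false
universe u
open CategoryTheory CategoryTheory.Limits AlgebraicGeometry
open MorSch

namespace Groth.Agent.S17082

open Groth.Agent.ArtFunLib

variable {X U S : Scheme.{u}} (f : X ⟶ S) (j : U ⟶ X)

/-- `U ×_S T ⟶ X ×_S T`. -/
noncomputable def jT (T : Over S) : PicF.XT (j ≫ f) T ⟶ PicF.XT f T :=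
  pullback.map (j ≫ f) T.hom f T.hom j (𝟙 _) (𝟙 _) (Category.comp_id _) (by simp)

theorem jT_fst (T : Over S) :
    jT f j T ≫ pullback.fst f T.hom = pullback.fst (j ≫ f) T.hom ≫ j := pullback.lift_fst _ _ _

theorem jT_snd (T : Over S) : jT f j T ≫ PicF.XTproj f T = PicF.XTproj (j ≫ f) T :=
  (pullback.lift_snd _ _ _).trans (Category.comp_id _)

variable [IsOpenImmersion j]

instance (T : Over S) : IsOpenImmersion (jT f j T) := by
  rw [jT]; infer_instance

theorem mem_range_jT (T : Over S) (w : ↥(PicF.XT f T)) :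
    w ∈ Set.range (jT f j T) ↔ pullback.fst f T.hom w ∈ Set.range j := by
  rw [jT, Scheme.Pullback.range_map]
  simp

theorem proper_hilbPull {T T' : Over S} (g : T' ⟶ T) (I : (PicF.XT f T).IdealSheafData)
    (hI : IsProper (I.subschemeι ≫ PicF.XTproj f T)) :
    IsProper ((FGA.hilbPull f g I).subschemeι ≫ PicF.XTproj f T') := by
  rw [HilbLink.hilbPull_eq_comap]
  have sq : IsPullback (pullback.snd (PicF.XTmap f g) I.subschemeι)
      (pullback.fst (PicF.XTmap f g) I.subschemeι ≫ PicF.XTproj f T') (I.subschemeι ≫ PicF.XTproj f T) g.left :=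
    IsPullback.paste_vert (IsPullback.of_hasPullback (PicF.XTmap f g) I.subschemeι).flip
      (HilbLink.isPullback_XTmap f g)
  have hp : IsProper (pullback.fst (PicF.XTmap f g) I.subschemeι ≫ PicF.XTproj f T') :=
    MorphismProperty.of_isPullback (P := @IsProper) sq hI
  rw [← Scheme.IdealSheafData.comapIso_hom_fst, Category.assoc]
  haveI := hp
  infer_instance

/-- The families of `X` inside `U`. -/
def InU {T : Over S} (I : (PicF.XT f T).IdealSheafData) : Prop :=
  ∀ w ∈ (I.support : Set ↥(PicF.XT f T)), pullback.fst f T.hom w ∈ Set.range j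

variable {T : Over S} {I : (PicF.XT f T).IdealSheafData}

theorem isIso_snd (hI : InU f j I) : IsIso (pullback.snd (jT f j T) I.subschemeι) := by
  haveI : Surjective (pullback.snd (jT f j T) I.subschemeι) := ⟨fun z => by
    have hz : I.subschemeι z ∈ (I.support : Set ↥(PicF.XT f T)) := by
      rw [← I.range_subschemeι]; exact ⟨z, rfl⟩
    obtain ⟨y, hy⟩ := (mem_range_jT f j T _).2 (hI _ hz)
    obtain ⟨x, -, hx⟩ := Scheme.Pullback.exists_preimage_pullback y z hy
    exact ⟨x, hx⟩⟩
  exact (isIso_iff_isOpenImmersion_and_epi_base _).mpr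
    ⟨inferInstance, (TopCat.epi_iff_surjective _).mpr (pullback.snd (jT f j T) I.subschemeι).surjective⟩

theorem comap_jT_prop (hI : InU f j I) (hp : IsProper (I.subschemeι ≫ PicF.XTproj f T))
    (hf : Flat (I.subschemeι ≫ PicF.XTproj f T)) :
    IsProper ((I.comap (jT f j T)).subschemeι ≫ PicF.XTproj (j ≫ f) T) ∧
      Flat ((I.comap (jT f j T)).subschemeι ≫ PicF.XTproj (j ≫ f) T) := by
  haveI := isIso_snd f j hI
  have he : (I.comap (jT f j T)).subschemeι ≫ PicF.XTproj (j ≫ f) T =
      ((I.comapIso (jT f j T)).hom ≫ pullback.snd (jT f j T) I.subschemeι) ≫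
        I.subschemeι ≫ PicF.XTproj f T := by
    rw [← jT_snd, ← Scheme.IdealSheafData.comapIso_hom_fst]
    simp only [Category.assoc]
    rw [pullback.condition_assoc]
  haveI := hp
  haveI := hf
  rw [he]
  exact ⟨inferInstance, inferInstance⟩

theorem eq_ker_comap (hI : InU f j I) :
    I = ((I.comap (jT f j T)).subschemeι ≫ jT f j T).ker := by
  haveI := isIso_snd f j hI
  rw [← Scheme.IdealSheafData.comapIso_hom_fst, Category.assoc, pullback.condition,
    ← Category.assoc, Scheme.Hom.ker_comp_of_isIso, Scheme.IdealSheafData.ker_subschemeι]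

/-- Let f : X → S be a separated morphism, j : U → X an open immersion, and (H, Z) a pair representing
the Hilbert functor of X over S on locally Noetherian S-schemes (H locally Noetherian over S; Z ⊆ X
×_S H closed, proper and flat over H; every closed subscheme of X ×_S T proper and flat over a
locally Noetherian S-scheme T is the pullback of Z along a unique S-morphism T → H). Then there are
an open subset H₀ of H and a closed subscheme Z₀ ⊆ U ×_S H₀, proper and flat over H₀, such that Z₀
is the pullback of Z along the morphism U ×_S H₀ → X ×_S H induced by j and the inclusion of H₀, and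
(H₀, Z₀) represents the Hilbert functor of U over S. So the Hilbert scheme of U over S exists and is
an open subscheme of that of X. (Published for X projective and flat over a Noetherian S in the
representable case; this row assumes only X separated over S and takes the Hilbert scheme of X as
given.) -/
theorem result
    {X U S : Scheme.{u}} (f : X ⟶ S) [IsSeparated f] (j : U ⟶ X) [IsOpenImmersion j]
    (H : Over S) (Z : FGA.HilbSet f H) (hH : FGA.HilbRepresentedBy f H Z) :
    ∃ (H₀ : H.left.Opens) (Z₀ : FGA.HilbSet (j ≫ f) (Over.mk (H₀.ι ≫ H.hom))),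
      Z₀.1 = Z.1.comap (pullback.map (j ≫ f) (H₀.ι ≫ H.hom) f H.hom j H₀.ι (𝟙 S)
        (Category.comp_id _) (Category.comp_id _)) ∧
      FGA.HilbRepresentedBy (j ≫ f) (Over.mk (H₀.ι ≫ H.hom)) Z₀ := by
  haveI : IsProper (Z.1.subschemeι ≫ PicF.XTproj f H) := Z.2.1
  let q := Z.1.subschemeι ≫ PicF.XTproj f H
  let r := Z.1.subschemeι ≫ pullback.fst f H.hom
  have hcl : IsClosed (q '' (r ⁻¹' (Set.range j)ᶜ)) :=
    q.isClosedMap _ (j.isOpenEmbedding.isOpen_range.isClosed_compl.preimage r.continuous)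
  let H₀ : H.left.Opens := ⟨(q '' (r ⁻¹' (Set.range j)ᶜ))ᶜ, hcl.isOpen_compl⟩
  let H₀' : Over S := Over.mk (H₀.ι ≫ H.hom)
  let i₀ : H₀' ⟶ H := Over.homMk H₀.ι rfl
  haveI : IsLocallyNoetherian H.left := hH.1
  have hInU : ∀ (T : Over S) (g : T ⟶ H), Set.range g.left ⊆ (H₀ : Set H.left) →
      InU f j (FGA.hilbPull f g Z.1) := by
    intro T g hg w hw
    rw [HilbLink.hilbPull_eq_comap, Scheme.IdealSheafData.support_comap] at hw
    have hw' : PicF.XTmap f g w ∈ Set.range Z.1.subschemeι := by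
      rw [Z.1.range_subschemeι]; exact hw
    obtain ⟨z, hz⟩ := hw'
    by_contra hc
    refine hg ⟨PicF.XTproj f T w, rfl⟩ ⟨z, ?_, ?_⟩
    · intro hrz
      apply hc
      have : pullback.fst f T.hom w = pullback.fst f H.hom (PicF.XTmap f g w) :=
        congr($(FGA.XTmap_fst f g).base w).symm
      rw [this, ← hz]
      exact hrz
    · show PicF.XTproj f H (Z.1.subschemeι z) = _
      rw [hz]
      exact congr($(HilbLink.XTmap_snd f g).base w)
  have hrange₀ : Set.range i₀.left ⊆ (H₀ : Set H.left) := by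
    show Set.range H₀.ι ⊆ _
    rw [Scheme.Opens.range_ι]
  have hM : ∀ (T : Over S) (g : T ⟶ H₀'), PicF.XTmap (j ≫ f) g ≫ pullback.map (j ≫ f) (H₀.ι ≫ H.hom)
      f H.hom j H₀.ι (𝟙 S) (Category.comp_id _) (Category.comp_id _) =
      jT f j T ≫ PicF.XTmap f (g ≫ i₀) := by
    intro T g
    apply pullback.hom_ext
    · rw [Category.assoc, pullback.map, pullback.lift_fst, Category.assoc, FGA.XTmap_fst, jT_fst]
      erw [reassoc_of% (FGA.XTmap_fst (j ≫ f) g)]
    · rw [Category.assoc, pullback.map, pullback.lift_snd]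
      erw [reassoc_of% (HilbLink.XTmap_snd (j ≫ f) g)]
      erw [Category.assoc, HilbLink.XTmap_snd f (g ≫ i₀)]
      rw [reassoc_of% (jT_snd f j T)]
      rfl
  have hid : PicF.XTmap (j ≫ f) (𝟙 H₀') = 𝟙 _ := by
    apply pullback.hom_ext
    · rw [FGA.XTmap_fst, Category.id_comp]
    · erw [HilbLink.XTmap_snd]
      simp
  have hM₀ : pullback.map (j ≫ f) (H₀.ι ≫ H.hom) f H.hom j H₀.ι (𝟙 S) (Category.comp_id _)
      (Category.comp_id _) = jT f j H₀' ≫ PicF.XTmap f i₀ := by
    have := hM H₀' (𝟙 _)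
    rw [hid] at this
    erw [Category.id_comp, Category.id_comp] at this
    exact this
  have hZ₀ := comap_jT_prop f j (hInU _ i₀ hrange₀) (proper_hilbPull f i₀ Z.1 Z.2.1)
    (HilbLink.flat_hilbPull f i₀ Z.1 Z.2.2)
  rw [HilbLink.hilbPull_eq_comap, ← Scheme.IdealSheafData.comap_comp] at hZ₀
  refine ⟨H₀, ⟨_, hZ₀⟩, congrArg Z.1.comap hM₀.symm, ?_, ?_⟩
  · exact isLocallyNoetherian_of_isOpenImmersion H₀.ι
  intro T hT J
  haveI : IsSeparated (PicF.XTproj f T) := inferInstanceAs (IsSeparated (pullback.snd f T.hom))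
  haveI hcj : IsClosedImmersion (J.1.subschemeι ≫ jT f j T) := by
    haveI : IsProper ((J.1.subschemeι ≫ jT f j T) ≫ PicF.XTproj f T) := by
      rw [Category.assoc, jT_snd]; exact J.2.1
    haveI : IsProper (J.1.subschemeι ≫ jT f j T) :=
      IsProper.of_comp (J.1.subschemeι ≫ jT f j T) (PicF.XTproj f T)
    exact (IsClosedImmersion.iff_isProper_and_mono _).mpr ⟨inferInstance, inferInstance⟩
  let I := (J.1.subschemeι ≫ jT f j T).ker
  have hIJ : I.comap (jT f j T) = J.1 := by
    haveI : IsIso (Scheme.Hom.toImage (J.1.subschemeι ≫ jT f j T)) := inferInstance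
    have hcomp : I.subschemeι = inv (Scheme.Hom.toImage (J.1.subschemeι ≫ jT f j T)) ≫
        J.1.subschemeι ≫ jT f j T := by
      rw [IsIso.eq_inv_comp, Scheme.Hom.toImage_imageι]
    have sq : IsPullback (Scheme.Hom.toImage (J.1.subschemeι ≫ jT f j T)) J.1.subschemeι
        I.subschemeι (jT f j T) :=
      IsPullback.of_horiz_isIso_mono ⟨Scheme.Hom.toImage_imageι _⟩
    rw [Scheme.IdealSheafData.comap, ← sq.flip.isoPullback_inv_fst, Scheme.Hom.ker_comp_of_isIso,
      Scheme.IdealSheafData.ker_subschemeι]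
  have hIprop : IsProper (I.subschemeι ≫ PicF.XTproj f T) ∧ Flat (I.subschemeι ≫ PicF.XTproj f T) := by
    have he : I.subschemeι ≫ PicF.XTproj f T =
        inv (Scheme.Hom.toImage (J.1.subschemeι ≫ jT f j T)) ≫
          J.1.subschemeι ≫ PicF.XTproj (j ≫ f) T := by
      rw [IsIso.eq_inv_comp]
      erw [← Category.assoc, Scheme.Hom.toImage_imageι]
      rw [Category.assoc, jT_snd]
    haveI := J.2.1
    haveI := J.2.2
    rw [he]
    exact ⟨inferInstance, inferInstance⟩
  have hIin : InU f j I := by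
    intro w hw
    have : w ∈ Set.range (J.1.subschemeι ≫ jT f j T) := by
      rw [← (J.1.subschemeι ≫ jT f j T).isClosedEmbedding.isClosed_range.closure_eq,
        ← Scheme.Hom.support_ker]
      exact hw
    obtain ⟨v, rfl⟩ := this
    exact (mem_range_jT f j T _).1 ⟨_, rfl⟩
  obtain ⟨g, hg, hguniq⟩ := hH.2 T ⟨I, hIprop⟩
  have hgr : Set.range g.left ⊆ (H₀ : Set H.left) := by
    rintro _ ⟨t, rfl⟩ ⟨z, hz, hzt⟩
    obtain ⟨w, hw1, hw2⟩ := Scheme.exists_preimage_of_isPullback
      (HilbLink.isPullback_XTmap f g) (Z.1.subschemeι z) t hzt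
    apply hz
    have hwI : w ∈ (I.support : Set ↥(PicF.XT f T)) := by
      rw [show I = FGA.hilbPull f g Z.1 from hg.symm, HilbLink.hilbPull_eq_comap,
        Scheme.IdealSheafData.support_comap]
      show PicF.XTmap f g w ∈ (Z.1.support : Set _)
      rw [hw1, ← Z.1.range_subschemeι]
      exact ⟨z, rfl⟩
    have := hIin w hwI
    show pullback.fst f H.hom (Z.1.subschemeι z) ∈ Set.range j
    rw [← hw1]
    exact congr($(FGA.XTmap_fst f g).base w) ▸ this
  let l := IsOpenImmersion.lift H₀.ι g.left (by rw [Scheme.Opens.range_ι]; exact hgr)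
  let g₀ : T ⟶ H₀' := Over.homMk l (by
    show l ≫ H₀.ι ≫ H.hom = T.hom
    rw [← Category.assoc, IsOpenImmersion.lift_fac]
    exact Over.w g)
  have hg₀ : g₀ ≫ i₀ = g := Over.OverMorphism.ext (IsOpenImmersion.lift_fac _ _ _)
  have hpull : ∀ g' : T ⟶ H₀', FGA.hilbPull (j ≫ f) g' (Z.1.comap (jT f j H₀' ≫ PicF.XTmap f i₀)) =
      (FGA.hilbPull f (g' ≫ i₀) Z.1).comap (jT f j T) := by
    intro g'
    rw [HilbLink.hilbPull_eq_comap, HilbLink.hilbPull_eq_comap, ← hM₀]
    erw [← Scheme.IdealSheafData.comap_comp]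
    rw [← Scheme.IdealSheafData.comap_comp, ← hM T g']
  refine ⟨g₀, ?_, ?_⟩
  · show FGA.hilbPull _ g₀ _ = J.1
    rw [hpull, hg₀, hg, hIJ]
  · intro g' hg'
    have hin : InU f j (FGA.hilbPull f (g' ≫ i₀) Z.1) := hInU T _ (by
      rintro _ ⟨t, rfl⟩
      exact (g'.left t).2)
    have h1 : FGA.hilbPull f (g' ≫ i₀) Z.1 = I := by
      rw [eq_ker_comap f j hin, ← hpull]
      erw [hg']
    have h2 := hguniq (g' ≫ i₀) h1
    refine Over.OverMorphism.ext ((cancel_mono H₀.ι).1 ?_)
    show _ = l ≫ H₀.ι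
    rw [IsOpenImmersion.lift_fac]
    exact congr_arg (fun e : T ⟶ H => e.left) h2

end Groth.Agent.S17082
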