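import Groth.Statements.S17083
import Groth.Agent.BlowUpLib.Glue
import Groth.Agent.BlowUpX.Basic
import Groth.Agent.S1683

set_option backward.isDefEq.respectTransparency false
set_option backward.isDefEq.respectTransparency.types false
set_option linter.style.haveILetI false
-- import your own Groth.Agent.* helpers here

set_option autoImplicit false
universe u
open CategoryTheory CategoryTheory.Limits AlgebraicGeometry
open MorSch

namespace Groth.Agent.S17083

theorem isEffCartier_near {Y W : Scheme.{u}} (f : W ⟶ Y) [IsOpenImmersion f] {I : Y.IdealSheafData}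
    (h : BlowUp.IsEffCartierIdeal (I.comap f)) (w : W) :
    ∃ U : Y.affineOpens, f w ∈ U.1 ∧
      ∃ t : Γ(Y, U.1), t ∈ nonZeroDivisors Γ(Y, U.1) ∧ I.ideal U = Ideal.span {t} := by
  obtain ⟨U', hw, t, ht, hI⟩ := h w
  let V : Y.affineOpens := ⟨f ''ᵁ U'.1, U'.2.image_of_isOpenImmersion f⟩
  have e : U'.1 ≤ f ⁻¹ᵁ V.1 := (f.preimage_image_eq U'.1).ge
  rw [ModPairLib.ideal_comap I f V U' e] at hI
  have : IsIso (f.appLE V.1 U'.1 e) := by
    have : f.appLE V.1 U'.1 e = f.app V.1 ≫ W.presheaf.map (eqToHom (f.preimage_image_eq U'.1).symm).op := rfl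
    rw [this]
    haveI := Scheme.Hom.isIso_app f V.1 (f.image_le_opensRange U'.1)
    infer_instance
  let e' : Γ(Y, V.1) ≃+* Γ(W, U'.1) := (asIso (f.appLE V.1 U'.1 e)).commRingCatIsoToRingEquiv
  refine ⟨V, ⟨w, hw, rfl⟩, e'.symm t, ?_, ?_⟩
  · rw [← MulEquivClass.map_nonZeroDivisors e'.symm]
    exact ⟨t, ht, rfl⟩
  · have h2 := congrArg (Ideal.map e'.symm.toRingHom) hI
    rw [Ideal.map_span, Set.image_singleton, Ideal.map_map] at h2
    have h3 : e'.symm.toRingHom.comp (f.appLE V.1 U'.1 e).hom = RingHom.id _ :=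
      RingHom.ext fun a => e'.symm_apply_apply a
    rw [h3, Ideal.map_id] at h2
    exact h2

theorem isBlowUp_pullback {X B₁ B₂ : Scheme.{u}} {I₁ I₂ : X.IdealSheafData} (hdisj : I₁ ⊔ I₂ = ⊤)
    {σ₁ : B₁ ⟶ X} (hσ₁ : BlowUp.IsBlowUp σ₁ I₁) {σ₂ : B₂ ⟶ X} (hσ₂ : BlowUp.IsBlowUp σ₂ I₂) :
    BlowUp.IsBlowUp (pullback.fst σ₁ σ₂) (I₂.comap σ₁) := by
  refine ⟨?_, fun Y g hg => ?_⟩
  · intro z
    rw [← Scheme.IdealSheafData.comap_comp]
    let x := (pullback.fst σ₁ σ₂ ≫ σ₁) z
    by_cases hx : x ∈ I₂.support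
    · have hx1 : x ∉ I₁.support := fun hx1 => by
        have : x ∈ (I₁ ⊔ I₂).support := by
          rw [Scheme.IdealSheafData.support_sup]; exact ⟨hx1, hx⟩
        rw [hdisj, Scheme.IdealSheafData.support_top] at this
        exact this
      let V : X.Opens := I₁.support.compl
      haveI : IsIso (σ₁ ∣_ V) := BlowUpX.isIso_restrict hσ₁
      let j := (σ₂ ⁻¹ᵁ V).ι
      let p₂ := pullback.snd σ₁ σ₂
      have hV : IsPullback (σ₁ ⁻¹ᵁ V).ι (σ₁ ∣_ V) σ₁ V.ι := (isPullback_morphismRestrict σ₁ V).flip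
      have hA : IsPullback (pullback.fst p₂ j ≫ pullback.fst σ₁ σ₂) (pullback.snd p₂ j) σ₁ (j ≫ σ₂) :=
        (IsPullback.of_hasPullback p₂ j).paste_horiz (IsPullback.of_hasPullback σ₁ σ₂)
      let l := hV.lift (pullback.fst p₂ j ≫ pullback.fst σ₁ σ₂) (pullback.snd p₂ j ≫ σ₂ ∣_ V)
        (hA.w.trans (by rw [Category.assoc, morphismRestrict_ι]))
      have hl : IsPullback l (pullback.snd p₂ j) (σ₁ ∣_ V) (σ₂ ∣_ V) :=
        IsPullback.of_right (by rw [hV.lift_fst, morphismRestrict_ι]; exact hA) (hV.lift_snd _ _ _) hV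
      haveI : IsIso (pullback.snd p₂ j) :=
        MorphismProperty.of_isPullback (P := MorphismProperty.isomorphisms Scheme) hl
          (inferInstanceAs (IsIso (σ₁ ∣_ V)))
      have hzj : z ∈ Set.range (pullback.fst p₂ j) := by
        rw [Scheme.Pullback.range_fst, Scheme.Opens.range_ι]
        show σ₂ (p₂ z) ∈ V
        rw [← Scheme.Hom.comp_apply, ← pullback.condition]
        exact hx1
      obtain ⟨w, hw⟩ := hzj
      rw [← hw]
      refine isEffCartier_near (pullback.fst p₂ j) ?_ w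
      rw [← Scheme.IdealSheafData.comap_comp, pullback.condition, pullback.condition_assoc,
        ← Category.assoc, Scheme.IdealSheafData.comap_comp]
      exact BlowUpLib.isEffCartier_comap_flat (pullback.snd p₂ j ≫ j) hσ₂.1
    · let W : (pullback σ₁ σ₂).Opens := (pullback.fst σ₁ σ₂ ≫ σ₁) ⁻¹ᵁ I₂.support.compl
      have hz : z ∈ Set.range W.ι := by rw [Scheme.Opens.range_ι]; exact hx
      obtain ⟨w, hw⟩ := hz
      rw [← hw]
      refine isEffCartier_near W.ι ?_ w
      rw [← Scheme.IdealSheafData.comap_comp]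
      exact BlowUpX.isEffCartier_comap_of_avoid I₂ _ fun y => y.2
  · rw [← Scheme.IdealSheafData.comap_comp] at hg
    obtain ⟨h, hh, hu⟩ := hσ₂.2 Y (g ≫ σ₁) hg
    refine ⟨pullback.lift g h hh.symm, pullback.lift_fst _ _ _, fun h' hh' => pullback.hom_ext ?_ ?_⟩
    · rw [hh', pullback.lift_fst]
    · rw [pullback.lift_snd]
      refine hu _ ?_
      show (h' ≫ pullback.snd σ₁ σ₂) ≫ σ₂ = g ≫ σ₁
      rw [Category.assoc, ← pullback.condition, reassoc_of% hh']

/-- The closed immersion constructed in its proof, as follows. Let X be a scheme, I₁ and I₂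
quasi-coherent ideal sheaves on X with I₁ + I₂ = O_X, so that they cut out disjoint closed
subschemes Z₁ and Z₂, let σ : B → X be a blow-up of X in the ideal I₁ ∩ I₂ of Z₁ ∪ Z₂, and let σ₁ :
B₁ → X and σ₂ : B₂ → X be blow-ups of X in Z₁ and in Z₂ (blow-up in the sense of the universal
property: the inverse image ideal is effective Cartier, finally so). Then there is a morphism ι : B
→ B₁ ×_X B₂ over X which is a closed immersion; the components B → B_i are necessarily the unique
X-morphisms given by the universal properties. (Published for X a projective space over an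
algebraically closed field, Z₂ a closed point and Z₁ a finite set of closed points not containing
it, and iterated there to embed the blow-up at r distinct points as a closed subscheme of the fibre
product over X of the r blow-ups at single points.) -/
theorem result
    {X B B₁ B₂ : Scheme.{u}} (I₁ I₂ : X.IdealSheafData) (hdisj : I₁ ⊔ I₂ = ⊤)
    (σ : B ⟶ X) (hσ : BlowUp.IsBlowUp σ (I₁ ⊓ I₂))
    (σ₁ : B₁ ⟶ X) (hσ₁ : BlowUp.IsBlowUp σ₁ I₁) (σ₂ : B₂ ⟶ X) (hσ₂ : BlowUp.IsBlowUp σ₂ I₂) :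
    ∃ ι : B ⟶ pullback σ₁ σ₂, IsClosedImmersion ι ∧ ι ≫ pullback.fst σ₁ σ₂ ≫ σ₁ = σ := by
  have hmul : I₁ ⊓ I₂ = I₁ * I₂ := by
    ext U : 2
    have h1 : I₁.ideal U ⊔ I₂.ideal U = ⊤ := by
      have := congrArg (fun I : X.IdealSheafData => I.ideal U) hdisj
      simpa using this
    simp only [Scheme.IdealSheafData.ideal_inf, Scheme.IdealSheafData.ideal_mul, Pi.inf_apply, Pi.mul_apply]
    exact (Ideal.mul_eq_inf_of_coprime h1).symm
  have hb := Groth.Agent.S1683.result I₁ I₂ σ₁ hσ₁ (pullback.fst σ₁ σ₂) (isBlowUp_pullback hdisj hσ₁ hσ₂)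
  rw [← hmul] at hb
  obtain ⟨e, he⟩ := BlowUpLib.exists_iso hσ hb
  exact ⟨e.hom, inferInstance, he⟩

end Groth.Agent.S17083
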