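import Groth.Statements.S17084
import Mathlib

set_option autoImplicit false
universe u
open CategoryTheory CategoryTheory.Limits AlgebraicGeometry
open MorSch

namespace Groth.Agent.S17084

/-- Let (X_i)_{i ∈ ι} be a finite family of schemes over S with structure morphisms g_i : X_i → S, let Y
→ S be a scheme over S and T an S-scheme. Then for every family of S-morphisms a_i : T ×_S X_i → Y
there is a unique S-morphism b : T ×_S (∐_i X_i) → Y whose restriction along each T ×_S X_i → T ×_S
(∐_i X_i) is a_i. In other words the canonical map Mor_S(∐_i X_i, Y) → ∏_i Mor_S(X_i, Y) of functors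
on S-schemes is an isomorphism. -/
theorem result
    {S Y : Scheme.{u}} {ι : Type u} [Finite ι] (X : ι → Scheme.{u}) (g : ∀ i, X i ⟶ S)
    (gY : Y ⟶ S) (T : Over S) (a : ∀ i, (Flatn.morS (g i) gY).obj (Opposite.op T)) :
    ∃! b : (Flatn.morS (Sigma.desc g) gY).obj (Opposite.op T),
      ∀ i, pullback.map T.hom (g i) T.hom (Sigma.desc g) (𝟙 T.left) (Sigma.ι X i) (𝟙 S)
          ((Category.comp_id _).trans (Category.id_comp _).symm)
          ((Category.comp_id _).trans (Sigma.ι_desc g i).symm) ≫ b.left = (a i).left := by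
  let P := pullback T.hom (Sigma.desc g)
  let j : ∀ i, pullback T.hom (g i) ⟶ P := fun i =>
    pullback.map T.hom (g i) T.hom (Sigma.desc g) (𝟙 T.left) (Sigma.ι X i) (𝟙 S)
      ((Category.comp_id _).trans (Category.id_comp _).symm)
      ((Category.comp_id _).trans (Sigma.ι_desc g i).symm)
  have hfst : ∀ i, j i ≫ pullback.fst T.hom (Sigma.desc g) = pullback.fst T.hom (g i) := fun i =>
    (pullback.lift_fst _ _ _).trans (Category.comp_id _)
  have hsnd : ∀ i, j i ≫ pullback.snd T.hom (Sigma.desc g) = pullback.snd T.hom (g i) ≫ Sigma.ι X i :=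
    fun i => pullback.lift_snd _ _ _
  have hpb : ∀ i, IsPullback (pullback.snd T.hom (g i)) (j i) (Sigma.ι X i)
      (pullback.snd T.hom (Sigma.desc g)) := fun i => by
    refine IsPullback.of_bot (v₂₁ := pullback.fst T.hom (Sigma.desc g)) (v₂₂ := Sigma.desc g)
      (h₃₁ := T.hom) ?_ (hsnd i).symm (IsPullback.of_hasPullback T.hom (Sigma.desc g)).flip
    rw [hfst, Sigma.ι_desc]
    exact (IsPullback.of_hasPullback T.hom (g i)).flip
  haveI : ∀ i, IsOpenImmersion (j i) := fun i =>
    MorphismProperty.of_isPullback (P := @IsOpenImmersion) (hpb i) inferInstance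
  have hr : ∀ i, (j i).opensRange =
      pullback.snd T.hom (Sigma.desc g) ⁻¹ᵁ (Sigma.ι X i).opensRange := fun i => by
    ext x
    refine ⟨?_, ?_⟩
    · rintro ⟨y, rfl⟩
      exact ⟨pullback.snd T.hom (g i) y,
        congrArg (fun φ : pullback T.hom (g i) ⟶ ∐ X => φ y) (hsnd i).symm⟩
    · rintro ⟨y, hy⟩
      obtain ⟨o, -, ho⟩ := Scheme.exists_preimage_of_isPullback (hpb i) y x hy
      exact ⟨o, ho⟩
  obtain ⟨hc⟩ := nonempty_isColimit_cofanMk_of j (by
      simp only [hr]
      rw [eq_top_iff]
      intro x _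
      obtain ⟨i, y, hy⟩ := (sigmaOpenCover X).exists_eq (pullback.snd T.hom (Sigma.desc g) x)
      exact TopologicalSpace.Opens.mem_iSup.2 ⟨i, y, hy⟩) (fun i k hik => by
      simp only [Function.onFun, hr]
      rw [disjoint_iff, eq_bot_iff]
      exact fun x hx => ((disjoint_iff.1 (disjoint_opensRange_sigmaι X i k hik)).le hx).elim)
  refine ⟨Over.homMk (Cofan.IsColimit.desc hc fun i => (a i).left)
    (Cofan.IsColimit.hom_ext hc _ _ fun i => ?_), fun i => Cofan.IsColimit.fac hc _ i,
    fun b hb => Over.OverMorphism.ext (Cofan.IsColimit.hom_ext hc _ _ fun i => ?_)⟩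
  · erw [Cofan.IsColimit.fac_assoc]
    refine (Over.w (a i)).trans ?_
    change pullback.snd T.hom (g i) ≫ g i = j i ≫ pullback.snd T.hom (Sigma.desc g) ≫ Sigma.desc g
    rw [reassoc_of% (hsnd i), Sigma.ι_desc]
  · refine (hb i).trans ?_
    exact (Cofan.IsColimit.fac hc (fun i => (a i).left) i).symm

end Groth.Agent.S17084
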