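import Groth.Statements.S17085
import Groth.Agent.RatCurveImg.Main
import Groth.Agent.H23.RedSub

set_option autoImplicit false
universe u
open CategoryTheory CategoryTheory.Limits AlgebraicGeometry
open RatCurve

namespace Groth.Agent.S17085
set_option backward.isDefEq.respectTransparency false
set_option backward.isDefEq.respectTransparency.types false
open Groth.Agent


/-- Let k be an algebraically closed field and C ⊆ P^n_k a closed subscheme which is an integral scheme
of dimension one (a projective curve). Then C is rational — some nonempty open subscheme of C is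
isomorphic over k to an open subscheme of the projective line P^1_k — if and only if C is the
scheme-theoretic image of some k-morphism f : P^1_k → P^n_k, i.e. the ideal sheaf of C in P^n_k is
the kernel ideal sheaf of f. -/
theorem result
    {k : Type u} [Field k] [IsAlgClosed k] {n : ℕ} (C : Scheme.{u})
    (i : C ⟶ CohB1.ProjSpace n k) [IsClosedImmersion i] [IsIntegral C]
    (hdim : topologicalKrullDim C = 1) :
    (∃ (U : C.Opens) (V : (CohB1.ProjSpace 1 k).Opens) (e : (↑U : Scheme.{u}) ≅ ↑V),
        Nonempty U ∧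
          e.hom ≫ V.ι ≫ CohB1.ProjSpace.toSpec 1 k = U.ι ≫ i ≫ CohB1.ProjSpace.toSpec n k) ↔
      ∃ f : CohB1.ProjSpace 1 k ⟶ CohB1.ProjSpace n k,
        f ≫ CohB1.ProjSpace.toSpec n k = CohB1.ProjSpace.toSpec 1 k ∧ f.ker = i.ker := by
  letI := H23.PnChart.isIntegral_projSpace 1 k
  haveI : IsProper (CohB1.ProjSpace.toSpec n k) := PnCoh.Chow.isProper_toSpec n k
  haveI : IsProper (CohB1.ProjSpace.toSpec 1 k) := PnCoh.Chow.isProper_toSpec 1 k
  let f₀ := i ≫ CohB1.ProjSpace.toSpec n k
  haveI : IsProper f₀ := inferInstanceAs (IsProper (i ≫ CohB1.ProjSpace.toSpec n k))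
  constructor
  · rintro ⟨U, V, e, hU, he⟩
    obtain ⟨H, hH, hd⟩ := RatCurveImg.exists_dominant k f₀ U V e hU he
    haveI := hd
    refine ⟨H ≫ i, by rw [Category.assoc]; exact hH, ?_⟩
    haveI : IsProper (H ≫ f₀) := by rw [hH]; infer_instance
    haveI : C.IsSeparated := ⟨by rw [← Limits.terminal.comp_from f₀]; infer_instance⟩
    haveI : IsProper H := IsProper.of_comp H f₀
    haveI : IsSchemeTheoreticallyDominant H := .of_isDominant H
    rw [Scheme.Hom.ker_comp, H.ker_eq_bot, Scheme.IdealSheafData.map_bot]
  · rintro ⟨g, hg, hker⟩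
    let H : CohB1.ProjSpace 1 k ⟶ C := IsClosedImmersion.lift i g hker.ge
    have hHi : H ≫ i = g := IsClosedImmersion.lift_fac _ _ _
    haveI : IsProper (g ≫ CohB1.ProjSpace.toSpec n k) := by rw [hg]; infer_instance
    haveI : (CohB1.ProjSpace n k).IsSeparated := ⟨by rw [← Limits.terminal.comp_from (CohB1.ProjSpace.toSpec n k)]; infer_instance⟩
    haveI : IsProper g := IsProper.of_comp g (CohB1.ProjSpace.toSpec n k)
    haveI : IsDominant H := ⟨by
      rw [DenseRange, dense_iff_closure_eq, Set.eq_univ_iff_forall]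
      intro c
      have h1 : i c ∈ g.ker.support := by
        rw [hker]
        exact i.range_subset_ker_support ⟨c, rfl⟩
      rw [← SetLike.mem_coe, Scheme.Hom.support_ker, ← hHi] at h1
      rw [Scheme.Hom.comp_base, TopCat.coe_comp, Set.range_comp, i.isClosedEmbedding.closure_image_eq] at h1
      obtain ⟨c', hc', hcc⟩ := h1
      rwa [← i.isClosedEmbedding.injective hcc]⟩
    obtain ⟨U, V, e, hU, he⟩ := RatCurveImg.exists_open_iso k f₀ hdim H (by
      show H ≫ i ≫ CohB1.ProjSpace.toSpec n k = _
      rw [← Category.assoc, hHi, hg])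
    exact ⟨U, V, e, hU, he⟩


end Groth.Agent.S17085
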