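import Groth.Statements.S17086
import Groth.Agent.H23.PnChart
import Mathlib.RingTheory.PrincipalIdealDomain

set_option autoImplicit false
set_option backward.isDefEq.respectTransparency false
set_option backward.isDefEq.respectTransparency.types false
set_option linter.style.haveILetI false
universe u
open CategoryTheory CategoryTheory.Limits AlgebraicGeometry
open RatCurve

namespace Groth.Agent.S17086

/-- A nonzero ideal sheaf on the projective line is effective Cartier. -/
theorem isEffCartier_of_support_ne_top (k : Type u) [Field k]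
    (I : (CohB1.ProjSpace 1 k).IdealSheafData) (hI : (I.support : Set (CohB1.ProjSpace 1 k)) ≠ Set.univ) :
    BlowUp.IsEffCartierIdeal I := by
  classical
  haveI := Groth.Agent.H23.PnChart.isIntegral_projSpace 1 k
  intro x
  obtain ⟨i, y, hy⟩ := Groth.Agent.ZetaLib.exists_mem_chart x
  let c := Groth.Agent.ZetaLib.chart 1 k i
  let U : (CohB1.ProjSpace 1 k).affineOpens := ⟨c ''ᵁ ⊤, (isAffineOpen_top _).image_of_isOpenImmersion c⟩
  have hxU : x ∈ U.1 := ⟨y, trivial, hy⟩
  refine ⟨U, hxU, ?_⟩
  haveI : Nonempty U.1 := ⟨⟨x, hxU⟩⟩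
  haveI : IsPrincipalIdealRing Γ(CohB1.ProjSpace 1 k, U.1) := by
    haveI : Unique (Groth.Agent.H23.PnChart.Idx.{u} 1 i) :=
      { default := ULift.up ⟨i + 1, by fin_cases i <;> decide⟩
        uniq := fun ⟨⟨j, hj⟩⟩ => by
          fin_cases i <;> fin_cases j <;> first | rfl | exact absurd rfl hj }
    let e1 := (MvPolynomial.uniqueAlgEquiv k (Groth.Agent.H23.PnChart.Idx.{u} 1 i)).symm.toRingEquiv
    let e2 := RingEquiv.ofBijective (Groth.Agent.H23.PnChart.fromChart 1 k i)
      ⟨Groth.Agent.H23.PnChart.fromChart_injective 1 k i, Groth.Agent.H23.PnChart.fromChart_surjective 1 k i⟩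
    let e3 := ((c.appIso ⊤) ≪≫ Scheme.ΓSpecIso _).commRingCatIsoToRingEquiv
    exact IsPrincipalIdealRing.of_surjective ((e1.trans e2).trans e3.symm).toRingHom
      ((e1.trans e2).trans e3.symm).surjective
  obtain ⟨g, hg⟩ := (IsPrincipalIdealRing.principal (I.ideal U)).principal
  rw [Ideal.submodule_span_eq] at hg
  refine ⟨g, mem_nonZeroDivisors_of_ne_zero fun h0 => hI ?_, hg⟩
  rw [h0, Ideal.span_singleton_zero] at hg
  refine Set.eq_univ_of_forall fun z => ?_
  have hgen : genericPoint (CohB1.ProjSpace 1 k) ∈ U.1 :=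
    (genericPoint_spec _).specializes (Set.mem_univ x) |>.mem_open U.1.2 hxU
  refine ((genericPoint_spec _).specializes (Set.mem_univ z)).mem_closed I.support.isClosed ?_
  refine (Scheme.IdealSheafData.mem_support_iff_of_mem (U := U) hgen).2 ?_
  rw [hg, Scheme.mem_zeroLocus_iff]
  intro a ha
  rw [Ideal.mem_bot.1 ha, Scheme.basicOpen_zero]
  exact id

/-- Let k be an algebraically closed field, X a closed subscheme of P^n_k, Z ⊆ X a closed subscheme and
σ : B → X a blow-up of X along Z (the inverse image ideal of Z is effective Cartier and σ is final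
with this property). Then every k-morphism f : P^1_k → X whose image is not contained in Z lifts
uniquely along σ: there is exactly one morphism g : P^1_k → B with g ≫ σ = f. Equivalently, over the
open locus of morphisms meeting X ∖ Z, the morphism Mor(P^1_k, B) → Mor(P^1_k, X) induced by σ is a
bijection on k-points. -/
theorem result
    {k : Type u} [Field k] [IsAlgClosed k] {n : ℕ} (X : Scheme.{u})
    (c : X ⟶ CohB1.ProjSpace n k) [IsClosedImmersion c]
    (Z : Scheme.{u}) (iZ : Z ⟶ X) [IsClosedImmersion iZ]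
    (B : Scheme.{u}) (σ : B ⟶ X) (hσ : BlowUp.IsBlowUp σ iZ.ker)
    (f : CohB1.ProjSpace 1 k ⟶ X)
    (hf : f ≫ c ≫ CohB1.ProjSpace.toSpec n k = CohB1.ProjSpace.toSpec 1 k)
    (hfZ : ¬ Set.range f ⊆ Set.range iZ) :
    ∃! g : CohB1.ProjSpace 1 k ⟶ B, g ≫ σ = f := by
  refine hσ.2 _ f (isEffCartier_of_support_ne_top k _ fun h => hfZ ?_)
  rintro _ ⟨p, rfl⟩
  have hp := h.ge (Set.mem_univ p)
  rw [Scheme.IdealSheafData.support_comap] at hp
  have hp' : f p ∈ iZ.ker.support := hp
  rw [← SetLike.mem_coe, Scheme.Hom.support_ker, IsClosed.closure_eq iZ.isClosedEmbedding.isClosed_range] at hp'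
  exact hp'

end Groth.Agent.S17086
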