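import Groth.Statements.S17087
import Groth.Agent.ArtFunLib.HilbLink
import Groth.Agent.S10888
import Mathlib.AlgebraicGeometry.Morphisms.FlatDescent

set_option autoImplicit false
set_option backward.isDefEq.respectTransparency false
set_option backward.isDefEq.respectTransparency.types false
set_option linter.style.haveILetI false
universe u
open CategoryTheory CategoryTheory.Limits AlgebraicGeometry
open MorSch

namespace Groth.Agent.S17087

open Groth.Agent.ArtFunLib

variable {X Y S : Scheme.{u}} (gX : X ⟶ S) (gY : Y ⟶ S)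

/-- The projection `(X ×_S Y)_T ⟶ X_T`. -/
noncomputable def qX (T : Over S) : PicF.XT (pullback.fst gX gY ≫ gX) T ⟶ PicF.XT gX T :=
  pullback.map _ _ _ _ (pullback.fst gX gY) (𝟙 _) (𝟙 _) (Category.comp_id _) (by simp)

theorem qX_fst (T : Over S) : qX gX gY T ≫ pullback.fst gX T.hom =
    pullback.fst (pullback.fst gX gY ≫ gX) T.hom ≫ pullback.fst gX gY := pullback.lift_fst _ _ _

theorem qX_snd (T : Over S) : qX gX gY T ≫ PicF.XTproj gX T = PicF.XTproj (pullback.fst gX gY ≫ gX) T :=
  (pullback.lift_snd _ _ _).trans (Category.comp_id _)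

theorem isPullback_qX {T T' : Over S} (g : T' ⟶ T) :
    IsPullback (PicF.XTmap (pullback.fst gX gY ≫ gX) g) (qX gX gY T') (qX gX gY T) (PicF.XTmap gX g) := by
  refine IsPullback.of_bot ?_ ?_ (HilbLink.isPullback_XTmap gX g)
  · rw [qX_snd, qX_snd]
    exact HilbLink.isPullback_XTmap (pullback.fst gX gY ≫ gX) g
  · apply pullback.hom_ext
    · simp only [Category.assoc]
      rw [qX_fst, FGA.XTmap_fst, qX_fst, ← Category.assoc, FGA.XTmap_fst]
    · refine (Category.assoc _ _ _).trans ?_
      refine (congrArg (fun k => _ ≫ k) (qX_snd gX gY T)).trans ?_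
      refine (HilbLink.XTmap_snd _ g).trans ?_
      refine Eq.trans ?_ (Category.assoc _ _ _).symm
      refine Eq.trans ?_ (congrArg (fun k => _ ≫ k) (HilbLink.XTmap_snd gX g)).symm
      refine Eq.trans ?_ (Category.assoc _ _ _)
      exact (congrArg (fun k => k ≫ g.left) (qX_snd gX gY T')).symm

/-- The family over `T` is a graph. -/
def IsGraph {T : Over S} (I : (PicF.XT (pullback.fst gX gY ≫ gX) T).IdealSheafData) : Prop :=
  IsIso (I.subschemeι ≫ qX gX gY T)

theorem isGraph_hilbPull_iff {T T' : Over S} (g : T' ⟶ T)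
    (I : (PicF.XT (pullback.fst gX gY ≫ gX) T).IdealSheafData) :
    IsGraph gX gY (FGA.hilbPull (pullback.fst gX gY ≫ gX) g I) ↔
      IsIso (pullback.fst (PicF.XTmap (pullback.fst gX gY ≫ gX) g) I.subschemeι ≫ qX gX gY T') := by
  rw [HilbLink.hilbPull_eq_comap, IsGraph, ← Scheme.IdealSheafData.comapIso_hom_fst, Category.assoc]
  exact ⟨fun h => IsIso.of_isIso_comp_left (I.comapIso (PicF.XTmap (pullback.fst gX gY ≫ gX) g)).hom _,
    fun h => inferInstance⟩

theorem sqZ {T T' : Over S} (g : T' ⟶ T)
    (I : (PicF.XT (pullback.fst gX gY ≫ gX) T).IdealSheafData) :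
    IsPullback (pullback.snd (PicF.XTmap (pullback.fst gX gY ≫ gX) g) I.subschemeι)
      (pullback.fst (PicF.XTmap (pullback.fst gX gY ≫ gX) g) I.subschemeι ≫ qX gX gY T')
      (I.subschemeι ≫ qX gX gY T) (PicF.XTmap gX g) :=
  IsPullback.paste_vert (IsPullback.of_hasPullback (PicF.XTmap (pullback.fst gX gY ≫ gX) g) I.subschemeι).flip
    (isPullback_qX gX gY g)

variable [IsSeparated gY]

theorem exists_open [IsProper gX] [Flat gX] (H : Over S) [IsLocallyNoetherian H.left]
    (Z : FGA.HilbSet (pullback.fst gX gY ≫ gX) H) :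
    ∃ H₀ : H.left.Opens, ∀ (T : Over S) (g : T ⟶ H),
      IsGraph gX gY (FGA.hilbPull (pullback.fst gX gY ≫ gX) g Z.1) ↔ Set.range g.left ⊆ (H₀ : Set H.left) := by
  let pZ := Z.1.subschemeι ≫ PicF.XTproj (pullback.fst gX gY ≫ gX) H
  let pX := PicF.XTproj gX H
  let ζ := Z.1.subschemeι ≫ qX gX gY H
  haveI : IsProper pZ := Z.2.1
  haveI : Flat pZ := Z.2.2
  haveI : IsProper pX := inferInstanceAs (IsProper (pullback.snd gX H.hom))
  haveI : LocallyOfFinitePresentation pZ := inferInstance
  haveI : LocallyOfFinitePresentation pX := inferInstance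
  have hw : ζ ≫ pX = pZ := by rw [Category.assoc, qX_snd]
  obtain ⟨H₀, hH₀, hiso⟩ := Groth.Agent.S10888.result pZ pX ζ hw
  refine ⟨H₀, fun T g => ⟨fun hg => ?_, fun hg => ?_⟩⟩
  · rintro _ ⟨t, rfl⟩
    rw [SetLike.mem_coe, hH₀]
    let h := g.left t
    let ρ := Spec.map (g.left.residueFieldMap t)
    let u : Over.mk pZ ⟶ Over.mk pX := Over.homMk ζ hw
    let φ : pullback pZ (H.left.fromSpecResidueField h) ⟶ pullback pX (H.left.fromSpecResidueField h) :=
      ((Over.pullback (H.left.fromSpecResidueField h)).map u).left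
    have hφ : IsPullback (pullback.fst pZ (H.left.fromSpecResidueField h)) φ ζ
        (pullback.fst pX (H.left.fromSpecResidueField h)) :=
      GrpSchLib.HomFibre.map_isPullback u (H.left.fromSpecResidueField h)
    have hQρ : (@Surjective ⊓ @Flat ⊓ @QuasiCompact : MorphismProperty Scheme.{u}) ρ := by
      letI := (g.left.residueFieldMap t).hom.toAlgebra
      refine ⟨⟨⟨fun z => ⟨IsLocalRing.closedPoint _, Subsingleton.elim _ _⟩⟩, ?_⟩, inferInstance⟩
      rw [Flat.SpecMap_iff]
      exact (inferInstance : Module.Flat (H.left.residueField h) (T.left.residueField t))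
    let c := pullback.fst (pullback.snd pX (H.left.fromSpecResidueField h)) ρ
    have hQc : (@Surjective ⊓ @Flat ⊓ @QuasiCompact : MorphismProperty Scheme.{u}) c :=
      MorphismProperty.pullback_fst _ _ hQρ
    haveI : IsIso φ := by
      refine MorphismProperty.of_pullback_fst_of_descendsAlong (P := MorphismProperty.isomorphisms Scheme)
        (Q := @Surjective ⊓ @Flat ⊓ @QuasiCompact) (f := c) hQc ?_
      show IsIso (pullback.fst c φ)
      have sqA : IsPullback (pullback.snd c φ ≫ pullback.fst pZ (H.left.fromSpecResidueField h))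
          (pullback.fst c φ) ζ (c ≫ pullback.fst pX (H.left.fromSpecResidueField h)) :=
        (IsPullback.of_hasPullback c φ).flip.paste_horiz hφ
      let d : pullback (pullback.snd pX (H.left.fromSpecResidueField h)) ρ ⟶ PicF.XT gX T :=
        pullback.lift (c ≫ pullback.fst pX _ ≫ pullback.fst gX H.hom)
          (pullback.snd _ ρ ≫ T.left.fromSpecResidueField t) (by
            simp only [Category.assoc]
            rw [pullback.condition (f := gX), ← Over.w g, pullback.condition_assoc (f := pX)]
            rw [← Category.assoc (pullback.fst _ ρ), pullback.condition, Category.assoc]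
            congr 1
            rw [← Category.assoc ρ]
            erw [Scheme.Hom.SpecMap_residueFieldMap_fromSpecResidueField]
            rw [Category.assoc])
      have hd : d ≫ PicF.XTmap gX g = c ≫ pullback.fst pX (H.left.fromSpecResidueField h) := by
        apply pullback.hom_ext
        · rw [Category.assoc, FGA.XTmap_fst, pullback.lift_fst, Category.assoc]
        · rw [Category.assoc]
          erw [HilbLink.XTmap_snd]
          rw [← Category.assoc]
          erw [pullback.lift_snd]
          rw [Category.assoc, Category.assoc]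
          show pullback.snd _ ρ ≫ T.left.fromSpecResidueField t ≫ g.left = c ≫ pullback.fst pX _ ≫ pX
          rw [pullback.condition (f := pX), ← Category.assoc c, show c = pullback.fst _ ρ from rfl,
            pullback.condition, Category.assoc]
          congr 1
          exact (Scheme.Hom.SpecMap_residueFieldMap_fromSpecResidueField _ _).symm
      let m := pullback.fst (PicF.XTmap (pullback.fst gX gY ≫ gX) g) Z.1.subschemeι ≫ qX gX gY T
      haveI : IsIso m := (isGraph_hilbPull_iff gX gY g Z.1).1 hg
      have sqB : IsPullback (pullback.snd d m ≫ pullback.snd (PicF.XTmap (pullback.fst gX gY ≫ gX) g) Z.1.subschemeι)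
          (pullback.fst d m) ζ (d ≫ PicF.XTmap gX g) :=
        (IsPullback.of_hasPullback d m).flip.paste_horiz (sqZ gX gY g Z.1)
      rw [hd] at sqB
      rw [← IsPullback.isoIsPullback_hom_snd _ _ sqA sqB]
      infer_instance
    exact ⟨asIso φ, hφ.w.symm⟩
  · rw [isGraph_hilbPull_iff]
    let V := pX ⁻¹ᵁ H₀
    have hr : Set.range (PicF.XTmap gX g) ⊆ Set.range V.ι := by
      rw [Scheme.Opens.range_ι]
      rintro _ ⟨w, rfl⟩
      show pX (PicF.XTmap gX g w) ∈ H₀
      have e : pX (PicF.XTmap gX g w) = g.left (PicF.XTproj gX T w) := by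
        rw [← Scheme.Hom.comp_apply]
        exact congr($(HilbLink.XTmap_snd gX g).base w)
      rw [e]
      exact hg ⟨_, rfl⟩
    let k := IsOpenImmersion.lift V.ι (PicF.XTmap gX g) hr
    have hk : k ≫ V.ι = PicF.XTmap gX g := IsOpenImmersion.lift_fac _ _ _
    let sq := sqZ gX gY g Z.1
    let k' := (isPullback_morphismRestrict ζ V).lift
      (pullback.fst (PicF.XTmap (pullback.fst gX gY ≫ gX) g) Z.1.subschemeι ≫ qX gX gY T ≫ k)
      (pullback.snd (PicF.XTmap (pullback.fst gX gY ≫ gX) g) Z.1.subschemeι) (by
        simp only [Category.assoc]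
        rw [hk]
        simpa only [Category.assoc] using sq.w.symm)
    have h1 : IsPullback k' (pullback.fst (PicF.XTmap (pullback.fst gX gY ≫ gX) g) Z.1.subschemeι ≫ qX gX gY T)
        (ζ ∣_ V) k := by
      refine IsPullback.of_right ?_ ?_ (isPullback_morphismRestrict ζ V).flip
      · rw [show k' ≫ (ζ ⁻¹ᵁ V).ι = _ from (isPullback_morphismRestrict ζ V).lift_snd _ _ _, hk]
        exact sq
      · rw [show k' ≫ ζ ∣_ V = _ from (isPullback_morphismRestrict ζ V).lift_fst _ _ _, Category.assoc]
    exact MorphismProperty.of_isPullback (P := MorphismProperty.isomorphisms Scheme) h1 hiso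

/-- The graph of a family of morphisms. -/
noncomputable def graph {T : Over S} (a : (Flatn.morS gX gY).obj (Opposite.op T)) :
    pullback T.hom gX ⟶ PicF.XT (pullback.fst gX gY ≫ gX) T :=
  pullback.lift (pullback.lift (pullback.snd T.hom gX) a.left (Over.w a).symm) (pullback.fst T.hom gX)
    ((pullback.lift_fst_assoc _ _ _ _).trans pullback.condition.symm)

theorem graph_qX {T : Over S} (a : (Flatn.morS gX gY).obj (Opposite.op T)) :
    graph gX gY a ≫ qX gX gY T = (pullbackSymmetry T.hom gX).hom := by
  apply pullback.hom_ext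
  · rw [Category.assoc, qX_fst, graph, pullback.lift_fst_assoc, pullback.lift_fst,
      pullbackSymmetry_hom_comp_fst]
  · rw [Category.assoc]
    erw [qX_snd, pullback.lift_snd, pullbackSymmetry_hom_comp_snd]

theorem graph_a {T : Over S} (a : (Flatn.morS gX gY).obj (Opposite.op T)) :
    graph gX gY a ≫ pullback.fst (pullback.fst gX gY ≫ gX) T.hom ≫ pullback.snd gX gY = a.left := by
  rw [graph, pullback.lift_fst_assoc, pullback.lift_snd]

theorem isClosedImmersion_graph [IsProper gX] {T : Over S} (a : (Flatn.morS gX gY).obj (Opposite.op T)) :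
    IsClosedImmersion (graph gX gY a) := by
  haveI : IsSeparated (qX gX gY T ≫ PicF.XTproj gX T) := by
    rw [qX_snd]
    exact inferInstanceAs (IsSeparated (pullback.snd (pullback.fst gX gY ≫ gX) T.hom))
  haveI : IsSeparated (qX gX gY T) := IsSeparated.of_comp (qX gX gY T) (PicF.XTproj gX T)
  haveI : IsClosedImmersion (graph gX gY a ≫ qX gX gY T) := by rw [graph_qX]; infer_instance
  exact IsClosedImmersion.of_comp (graph gX gY a) (qX gX gY T)

/-- Let S be a locally Noetherian scheme, gX : X → S proper and flat, gY : Y → S separated, and (H, Z) a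
pair representing the Hilbert functor of X ×_S Y over S on locally Noetherian S-schemes (H locally
Noetherian; Z ⊆ (X ×_S Y) ×_S H closed, proper and flat over H; universal). For an S-morphism a : T
×_S X → Y write Γ_a : T ×_S X → (X ×_S Y) ×_S T for its graph, a closed immersion. Then there is an
open subset H₀ of H such that, for every locally Noetherian S-scheme T: every S-morphism a : T ×_S X
→ Y has exactly one S-morphism g : T → H with image in H₀ along which Z pulls back to the closed
subscheme defined by Γ_a; and every S-morphism g : T → H with image in H₀ pulls Z back to the graph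
of exactly one such a. Thus the functor Mor_S(X, Y) on locally Noetherian S-schemes is represented
by the open subscheme H₀ of the Hilbert scheme of X ×_S Y, the universal family being a graph.
(Published for X and Y projective over S, with X flat; the Hilbert scheme is taken as given here.
The published statement also asserts that each irreducible component of the representing scheme is
of finite type over S; that clause is not part of this row.) -/
theorem result
    {X Y S : Scheme.{u}} [IsLocallyNoetherian S] (gX : X ⟶ S) [IsProper gX] [Flat gX]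
    (gY : Y ⟶ S) [IsSeparated gY]
    (H : Over S) (Z : FGA.HilbSet (pullback.fst gX gY ≫ gX) H)
    (hH : FGA.HilbRepresentedBy (pullback.fst gX gY ≫ gX) H Z) :
    ∃ H₀ : H.left.Opens, ∀ (T : Over S) [IsLocallyNoetherian T.left],
      (∀ a : (Flatn.morS gX gY).obj (Opposite.op T),
        ∃! g : T ⟶ H, Set.range g.left ⊆ (H₀ : Set H.left) ∧
          FGA.hilbPull (pullback.fst gX gY ≫ gX) g Z.1 =
            (pullback.lift
              (pullback.lift (pullback.snd T.hom gX) a.left (Over.w a).symm)
              (pullback.fst T.hom gX)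
              ((pullback.lift_fst_assoc _ _ _ _).trans pullback.condition.symm)
              : pullback T.hom gX ⟶ PicF.XT (pullback.fst gX gY ≫ gX) T).ker) ∧
      (∀ g : T ⟶ H, Set.range g.left ⊆ (H₀ : Set H.left) →
        ∃! a : (Flatn.morS gX gY).obj (Opposite.op T),
          FGA.hilbPull (pullback.fst gX gY ≫ gX) g Z.1 =
            (pullback.lift
              (pullback.lift (pullback.snd T.hom gX) a.left (Over.w a).symm)
              (pullback.fst T.hom gX)
              ((pullback.lift_fst_assoc _ _ _ _).trans pullback.condition.symm)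
              : pullback T.hom gX ⟶ PicF.XT (pullback.fst gX gY ≫ gX) T).ker) := by
  haveI := hH.1
  obtain ⟨H₀, hH₀⟩ := exists_open gX gY H Z
  refine ⟨H₀, fun T hT => ⟨fun a => ?_, fun g hg => ?_⟩⟩
  · haveI := isClosedImmersion_graph gX gY a
    let I := (graph gX gY a).ker
    have hI : IsProper (I.subschemeι ≫ PicF.XTproj _ T) ∧ Flat (I.subschemeι ≫ PicF.XTproj _ T) ∧
        IsGraph gX gY I := by
      have e : I.subschemeι = inv (graph gX gY a).toImage ≫ graph gX gY a := by
        rw [IsIso.eq_inv_comp, Scheme.Hom.toImage_imageι]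
      have e' : graph gX gY a ≫ PicF.XTproj (pullback.fst gX gY ≫ gX) T = pullback.fst T.hom gX :=
        pullback.lift_snd _ _ _
      rw [IsGraph, e, Category.assoc, e', Category.assoc, graph_qX]
      exact ⟨inferInstance, inferInstance, inferInstance⟩
    obtain ⟨g, hg, hu⟩ := hH.2 T ⟨I, hI.1, hI.2.1⟩
    refine ⟨g, ⟨(hH₀ T g).1 ?_, hg⟩, fun g' hg' => hu g' hg'.2⟩
    rw [show FGA.hilbPull (pullback.fst gX gY ≫ gX) g Z.1 = I from hg]
    exact hI.2.2
  · have hgr := (hH₀ T g).2 hg
    let I := FGA.hilbPull (pullback.fst gX gY ≫ gX) g Z.1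
    haveI : IsIso (I.subschemeι ≫ qX gX gY T) := hgr
    obtain ⟨Γ₀, hΓdef⟩ : ∃ Γ₀ : pullback T.hom gX ⟶ PicF.XT (pullback.fst gX gY ≫ gX) T,
        Γ₀ = (pullbackSymmetry T.hom gX).hom ≫ inv (I.subschemeι ≫ qX gX gY T) ≫ I.subschemeι := ⟨_, rfl⟩
    have hΓ₀ : Γ₀ ≫ qX gX gY T = (pullbackSymmetry T.hom gX).hom := by
      simp only [hΓdef, Category.assoc]
      rw [IsIso.inv_hom_id, Category.comp_id]
    have hΓ1 : Γ₀ ≫ pullback.fst (pullback.fst gX gY ≫ gX) T.hom ≫ pullback.fst gX gY = pullback.snd T.hom gX := by
      rw [← qX_fst, reassoc_of% hΓ₀, pullbackSymmetry_hom_comp_fst]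
    have hΓ2 : Γ₀ ≫ pullback.snd (pullback.fst gX gY ≫ gX) T.hom = pullback.fst T.hom gX := by
      show Γ₀ ≫ PicF.XTproj (pullback.fst gX gY ≫ gX) T = _
      rw [← qX_snd, reassoc_of% hΓ₀]
      exact pullbackSymmetry_hom_comp_snd _ _
    let a : (Flatn.morS gX gY).obj (Opposite.op T) :=
      Over.homMk (Γ₀ ≫ pullback.fst (pullback.fst gX gY ≫ gX) T.hom ≫ pullback.snd gX gY) (by
        show (Γ₀ ≫ pullback.fst (pullback.fst gX gY ≫ gX) T.hom ≫ pullback.snd gX gY) ≫ gY =
          pullback.snd T.hom gX ≫ gX
        rw [Category.assoc, Category.assoc, ← pullback.condition (f := gX) (g := gY), ← hΓ1]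
        simp only [Category.assoc])
    have hga : graph gX gY a = Γ₀ := by
      apply pullback.hom_ext
      · rw [graph, pullback.lift_fst]
        apply pullback.hom_ext
        · rw [pullback.lift_fst, Category.assoc, hΓ1]
        · rw [pullback.lift_snd, Category.assoc]
          rfl
      · rw [graph, pullback.lift_snd, hΓ2]
    refine ⟨a, ?_, fun b hb => ?_⟩
    · show I = (graph gX gY a).ker
      rw [hga, hΓdef, ← Category.assoc, Scheme.Hom.ker_comp_of_isIso, Scheme.IdealSheafData.ker_subschemeι]
    · change I = (graph gX gY b).ker at hb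
      let e := IsClosedImmersion.lift I.subschemeι (graph gX gY b)
        (by rw [Scheme.IdealSheafData.ker_subschemeι]; exact hb.le)
      have he : e ≫ I.subschemeι = graph gX gY b := IsClosedImmersion.lift_fac _ _ _
      have he' : e = (pullbackSymmetry T.hom gX).hom ≫ inv (I.subschemeι ≫ qX gX gY T) := by
        rw [IsIso.eq_comp_inv, reassoc_of% he, graph_qX]
      have hab : graph gX gY b = graph gX gY a := by
        rw [hga, hΓdef, ← he, he', Category.assoc]
      apply Over.OverMorphism.ext
      rw [← graph_a gX gY b, ← graph_a gX gY a, hab]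

end Groth.Agent.S17087
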