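import Groth.Statements.S17088
import Mathlib

set_option autoImplicit false
universe u
open CategoryTheory CategoryTheory.Limits AlgebraicGeometry
open MorSch

namespace Groth.Agent.S17088

/-- Let f : X → S be a separated morphism, ι : W → X an immersion and T an S-scheme. For every closed
subscheme V of W ×_S T which is proper and flat over T — a T-point of the Hilbert functor of W over
S — the composite V → W ×_S T → X ×_S T is a closed immersion, and the map sending V to the ideal
sheaf of this composite, from T-points of the Hilbert functor of W to ideal sheaves on X ×_S T, is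
injective: an immersion induces a monomorphism of Hilbert functors. -/
theorem result
    {W X S : Scheme.{u}} (f : X ⟶ S) [IsSeparated f] (ι : W ⟶ X) [IsImmersion ι]
    (T : Over S) :
    (∀ V : FGA.HilbSet (ι ≫ f) T,
      IsClosedImmersion (V.1.subschemeι ≫ pullback.map (ι ≫ f) T.hom f T.hom ι (𝟙 T.left) (𝟙 S)
          (Category.comp_id _) ((Category.comp_id _).trans (Category.id_comp _).symm))) ∧
    Function.Injective (fun V : FGA.HilbSet (ι ≫ f) T =>
      (V.1.subschemeι ≫ pullback.map (ι ≫ f) T.hom f T.hom ι (𝟙 T.left) (𝟙 S)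
          (Category.comp_id _) ((Category.comp_id _).trans (Category.id_comp _).symm)).ker) := by
  let π := pullback.map (ι ≫ f) T.hom f T.hom ι (𝟙 T.left) (𝟙 S)
    (Category.comp_id _) ((Category.comp_id _).trans (Category.id_comp _).symm)
  haveI : MorphismProperty.IsStableUnderComposition (@IsImmersion : MorphismProperty Scheme.{u}) :=
    ⟨fun f g _ _ => IsImmersion.comp f g⟩
  haveI : IsImmersion π := MorphismProperty.pullback_map (P := @IsImmersion) ‹IsImmersion ι›
    (inferInstance : IsImmersion (𝟙 T.left)) (by simp) (by simp)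
  have hπ : π ≫ pullback.snd f T.hom = pullback.snd (ι ≫ f) T.hom :=
    (pullback.lift_snd _ _ _).trans (Category.comp_id _)
  have hcl : ∀ V : FGA.HilbSet (ι ≫ f) T, IsClosedImmersion (V.1.subschemeι ≫ π) := fun V => by
    haveI hp : IsProper ((V.1.subschemeι ≫ π) ≫ pullback.snd f T.hom) := by
      rw [Category.assoc, hπ]; exact V.2.1
    haveI : IsProper (V.1.subschemeι ≫ π) := IsProper.of_comp _ (pullback.snd f T.hom)
    exact IsClosedImmersion.of_isPreimmersion _ (Scheme.Hom.isClosedMap _).isClosed_range
  refine ⟨hcl, fun V V' h => ?_⟩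
  have hle : ∀ A B : FGA.HilbSet (ι ≫ f) T,
      (A.1.subschemeι ≫ π).ker ≤ (B.1.subschemeι ≫ π).ker → A.1 ≤ B.1 := fun A B hAB => by
    haveI := hcl A
    have hg : IsClosedImmersion.lift (A.1.subschemeι ≫ π) (B.1.subschemeι ≫ π) hAB ≫ A.1.subschemeι =
        B.1.subschemeι := by
      rw [← cancel_mono π, Category.assoc, IsClosedImmersion.lift_fac]
    rw [← A.1.ker_subschemeι, ← B.1.ker_subschemeι, ← hg]
    exact Scheme.Hom.le_ker_comp _ _
  exact Subtype.ext (le_antisymm (hle V V' h.le) (hle V' V h.ge))

end Groth.Agent.S17088
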