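import Groth.Statements.S17089
import Groth.Agent.SolvGrp.NormUnip
import Groth.Agent.SolvGrp.UnipBC
import Groth.Agent.SolvGrp.BC
import Groth.Agent.SolvGrp.MaxTorus
import Groth.Agent.GrpSchLib.LargestNormalSep
-- import your own Groth.Agent.* helpers here

set_option autoImplicit false
universe u
open CategoryTheory MonoidalCategory CartesianMonoidalCategory MonObj GrpObj AlgebraicGeometry
open AGF

namespace Groth.Agent.S17089

set_option backward.isDefEq.respectTransparency false
set_option backward.isDefEq.respectTransparency.types false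

open SolvGrp GrpSchLib AGFLib

/-- Let k be a field, U' an affine, smooth, connected k-group scheme whose geometric fibre contains no
non-trivial subtorus (a smooth connected unipotent group), i : U ⟶ U' a closed subgroup scheme which
is smooth and connected and whose inclusion is not an isomorphism, and n : N ⟶ U' the normalizer of
U in U'. Then N is strictly larger than U: the inclusion of N does not factor through U. -/
theorem result (k : Type u) [Field k]
    (U' : Over (Spec (CommRingCat.of k))) [GrpObj U'] [IsAffine U'.left] [Smooth U'.hom] [ConnectedSpace ↥U'.left]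
    (hU' : ∀ s : ↥(Spec (CommRingCat.of k)),
      Red.HasNoSubtorus (AlgebraicClosure ((Spec (CommRingCat.of k)).residueField s)) (Red.geomFibre s U'))
    (U : Over (Spec (CommRingCat.of k))) [GrpObj U] (i : U ⟶ U') [IsMonHom i] (hi : IsClosedImmersion i.left)
    [Smooth U.hom] [ConnectedSpace ↥U.left] (hne : ¬ IsIso i.left)
    (N : Over (Spec (CommRingCat.of k))) [GrpObj N] (n : N ⟶ U') (hn : Red.IsNormalizerOf i n) :
    ¬ ∃ f : N ⟶ U, f ≫ i = n := by
  haveI := hi
  let φ := algebraMap k (AlgebraicClosure k)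
  let σ := Spec.map (CommRingCat.ofHom φ)
  let F := Over.pullback σ
  haveI : IsAffine U.left := isAffine_of_isAffineHom i.left
  haveI : IsAffine (F.obj U').left := inferInstanceAs (IsAffine (Limits.pullback U'.hom σ))
  haveI : Smooth (F.obj U').hom := inferInstanceAs (Smooth (Limits.pullback.snd U'.hom σ))
  haveI : ConnectedSpace (F.obj U').left := AntiAffine.connectedSpace_bc U' φ
  haveI : Smooth (F.obj U).hom := inferInstanceAs (Smooth (Limits.pullback.snd U.hom σ))
  haveI : ConnectedSpace (F.obj U).left := AntiAffine.connectedSpace_bc U φ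
  haveI : IsClosedImmersion (F.map i).left := MorphismProperty.baseChange_map (P := @IsClosedImmersion) σ i hi
  haveI : IsReduced (F.obj U').left := isReduced_of_smooth_field (F.obj U').hom
  haveI : IsReduced (F.obj U).left := isReduced_of_smooth_field (F.obj U).hom
  haveI : LocallyOfFiniteType (F.obj U).hom := inferInstance
  let s₀ := AGFLib.GeomBC.pt k
  have hcs : ConnectedSpace (Red.geomFibre s₀ U').left := by
    obtain ⟨φ₀, hφ₀⟩ := Spec.map_surjective (Red.geomPt s₀)
    show ConnectedSpace (Red.bc (Red.geomPt s₀) U').left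
    rw [← hφ₀]
    exact AntiAffine.connectedSpace_bc U' φ₀.hom
  have hu : ∀ g : 𝟙_ (Over (Spec (CommRingCat.of (AlgebraicClosure k)))) ⟶ F.obj U', IsUnipPt g :=
    isUnipPt_of_hasNoSubtorus (UnipBC.bc_algClosed_props s₀ hcs (hU' s₀) σ)
  rintro ⟨f, hf⟩
  haveI : Mono (F.map i).left := inferInstance
  haveI : Mono (F.map i) := (Over.forget _).mono_of_mono_map (inferInstanceAs (Mono (F.map i).left))
  have htop : rangePts (F.map i) ≠ ⊤ := by
    intro h
    obtain ⟨q, -, hq⟩ := exists_fac_sub (F.map i) (𝟙 (F.obj U')) (h ▸ le_top)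
    obtain ⟨f', hf'⟩ := LargestNormalSep.exists_factor_of_bc φ (𝟙 U') i q (hq.trans (F.map_id U').symm)
    haveI : Mono i.left := inferInstance
    haveI : IsSplitEpi i.left := IsSplitEpi.mk' ⟨f'.left, by rw [← Over.comp_left, hf']; rfl⟩
    exact hne (isIso_of_mono_of_isSplitEpi i.left)
  obtain ⟨D, _, d, hd, -, -, -, hnle, hnorm⟩ := NormUnip.exists_normalizing hu (rangePts (F.map i)) htop
  haveI := hd
  obtain ⟨hmn, -, hN⟩ := isNormalizerOf_bc σ i n hn
  refine hnle fun x hx => ?_
  have hconj : ∀ y ∈ rangePts d, ∃ c, c ≫ F.map i = F.map i ≫ AGFLib.Borel.conjM y := fun y hy => by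
    obtain ⟨c, -, hc⟩ := exists_fac_sub (F.map i) (F.map i ≫ AGFLib.Borel.conjM y) (by
      rintro _ ⟨z, rfl⟩
      show z ≫ F.map i ≫ AGFLib.Borel.conjM y ∈ _
      rw [← Category.assoc, comp_conjM_pt]
      exact hnorm y hy _ ⟨z, rfl⟩)
    exact ⟨c, hc⟩
  obtain ⟨z, hz⟩ := (hN _ x).mpr fun X' e h => by
    obtain ⟨c, hc⟩ := hconj x hx
    obtain ⟨c', hc'⟩ := hconj x⁻¹ (inv_mem hx)
    refine ⟨⟨h ≫ c, ?_⟩, ⟨h ≫ c', ?_⟩⟩
    · rw [Category.assoc, hc, ← Category.assoc, AGFLib.Borel.comp_conjM, toUnit_unique (toUnit X') e]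
    · rw [Category.assoc, hc', ← Category.assoc, AGFLib.Borel.comp_conjM, toUnit_unique (toUnit X') e]
      rw [GrpObj.comp_inv, _root_.inv_inv]
  refine ⟨z ≫ F.map f, ?_⟩
  show (z ≫ F.map f) ≫ F.map i = x
  rw [Category.assoc, ← F.map_comp, hf, hz]
end Groth.Agent.S17089
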