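import Groth.Statements.S17090
import Groth.Agent.SolvGrp.NormUnip
import Groth.Agent.SolvGrp.UnipBC
import Groth.Agent.SolvGrp.MaxUnip
import Groth.Agent.GrpSchLib.LargestNormalSep
import Groth.Agent.FibDim.BaseField
-- import your own Groth.Agent.* helpers here

set_option autoImplicit false
universe u
open CategoryTheory MonoidalCategory CartesianMonoidalCategory MonObj GrpObj AlgebraicGeometry
open AGF

namespace Groth.Agent.S17090

set_option backward.isDefEq.respectTransparency false
set_option backward.isDefEq.respectTransparency.types false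

open SolvGrp GrpSchLib AGFLib

/-- The particular case of codimension one: let k be a field, U' an affine, smooth, connected k-group
scheme whose geometric fibre contains no non-trivial subtorus (a smooth connected unipotent group)
and i : U ⟶ U' a closed subgroup scheme which is smooth and connected. If dim U' = dim U + 1
(dimensions of the underlying topological spaces), then U is a normal subgroup of U'. -/
theorem result (k : Type u) [Field k]
    (U' : Over (Spec (CommRingCat.of k))) [GrpObj U'] [IsAffine U'.left] [Smooth U'.hom] [ConnectedSpace ↥U'.left]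
    (hU' : ∀ s : ↥(Spec (CommRingCat.of k)),
      Red.HasNoSubtorus (AlgebraicClosure ((Spec (CommRingCat.of k)).residueField s)) (Red.geomFibre s U'))
    (U : Over (Spec (CommRingCat.of k))) [GrpObj U] (i : U ⟶ U') [IsMonHom i] (hi : IsClosedImmersion i.left)
    [Smooth U.hom] [ConnectedSpace ↥U.left]
    (d : ℕ) (hd : topologicalKrullDim ↥U.left = (d : WithBot ℕ∞))
    (hd' : topologicalKrullDim ↥U'.left = ((d + 1 : ℕ) : WithBot ℕ∞)) :
    AlgGrp.IsNormalHom i := by
  haveI := hi
  let φ := algebraMap k (AlgebraicClosure k)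
  let σ := Spec.map (CommRingCat.ofHom φ)
  let F := Over.pullback σ
  haveI : IsAffine U.left := isAffine_of_isAffineHom i.left
  haveI : IsAffine (F.obj U').left := inferInstanceAs (IsAffine (Limits.pullback U'.hom σ))
  haveI : Smooth (F.obj U').hom := inferInstanceAs (Smooth (Limits.pullback.snd U'.hom σ))
  haveI : ConnectedSpace (F.obj U').left := AntiAffine.connectedSpace_bc U' φ
  haveI : Smooth (F.obj U).hom := inferInstanceAs (Smooth (Limits.pullback.snd U.hom σ))
  haveI : ConnectedSpace (F.obj U).left := AntiAffine.connectedSpace_bc U φ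
  haveI : IsClosedImmersion (F.map i).left := MorphismProperty.baseChange_map (P := @IsClosedImmersion) σ i hi
  haveI : IsReduced (F.obj U').left := isReduced_of_smooth_field (F.obj U').hom
  haveI : IsReduced (F.obj U).left := isReduced_of_smooth_field (F.obj U).hom
  haveI : LocallyOfFiniteType (F.obj U).hom := inferInstance
  let s₀ := AGFLib.GeomBC.pt k
  have hcs : ConnectedSpace (Red.geomFibre s₀ U').left := by
    obtain ⟨φ₀, hφ₀⟩ := Spec.map_surjective (Red.geomPt s₀)
    show ConnectedSpace (Red.bc (Red.geomPt s₀) U').left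
    rw [← hφ₀]
    exact AntiAffine.connectedSpace_bc U' φ₀.hom
  have hu : ∀ g : 𝟙_ (Over (Spec (CommRingCat.of (AlgebraicClosure k)))) ⟶ F.obj U', IsUnipPt g :=
    isUnipPt_of_hasNoSubtorus (UnipBC.bc_algClosed_props s₀ hcs (hU' s₀) σ)
  haveI : Subsingleton ↥(Spec (CommRingCat.of k)) := inferInstanceAs (Subsingleton (PrimeSpectrum k))
  haveI : Subsingleton ↥(Spec (CommRingCat.of (AlgebraicClosure k))) :=
    inferInstanceAs (Subsingleton (PrimeSpectrum (AlgebraicClosure k)))
  haveI : Nonempty ↥(Spec (CommRingCat.of (AlgebraicClosure k))) :=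
    inferInstanceAs (Nonempty (PrimeSpectrum (AlgebraicClosure k)))
  have hdim : ∀ (A : Over (Spec (CommRingCat.of k))) [LocallyOfFiniteType A.hom],
      topologicalKrullDim ↥(F.obj A).left = topologicalKrullDim ↥A.left := fun A _ => by
    haveI : LocallyOfFiniteType (Limits.pullback.snd A.hom σ) := inferInstance
    exact Groth.Agent.FibDim.topologicalKrullDim_baseChange (IsPullback.of_hasPullback A.hom σ)
  haveI : LocallyOfFiniteType U.hom := inferInstance
  have hN : AlgGrp.IsNormalHom (F.map i) := isNormalHom_of_pts (F.map i)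
    (NormUnip.normal_of_codim_one hu (F.map i) ((hdim U).trans hd) ((hdim U').trans hd'))
  intro T g n
  let Φ : U' ⊗ U ⟶ U' := fst U' U * (snd U' U ≫ i) * (fst U' U)⁻¹
  obtain ⟨a, ha⟩ := hN _ (F.map (fst U' U)) (F.map (snd U' U))
  have ha' : a ≫ F.map i = F.map Φ := by
    refine ha.symm.trans ?_
    rw [← F.map_comp]
    show _ = F.homMonoidHom Φ
    simp only [Φ, map_mul, map_inv]
    rfl
  obtain ⟨f', hf'⟩ := LargestNormalSep.exists_factor_of_bc φ Φ i a ha'
  refine ⟨lift g n ≫ f', ?_⟩
  rw [Category.assoc, hf']
  simp [Φ, MonObj.comp_mul, GrpObj.comp_inv]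
end Groth.Agent.S17090
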