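import Groth.Statements.S17091
import Groth.Agent.SolvGrp.MaxUnip

set_option autoImplicit false
universe u
open CategoryTheory MonoidalCategory CartesianMonoidalCategory MonObj GrpObj AlgebraicGeometry
open AGF

namespace Groth.Agent.S17091

set_option backward.isDefEq.respectTransparency false
set_option backward.isDefEq.respectTransparency.types false

/-- Let k be an algebraically closed field, G an affine, smooth, connected k-group scheme, u : U ⟶ G its
unipotent radical (the largest normal closed subgroup scheme of G, smooth and quasi-compact over k,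
whose geometric fibre is connected and contains no non-trivial subtorus), B a Borel subgroup of G
and v : V ⟶ B the unipotent radical of B. Then U is contained in V: u factors through v. -/
theorem result (k : Type u) [Field k] [IsAlgClosed k]
    (G : Over (Spec (CommRingCat.of k))) [GrpObj G] [IsAffine G.left] [Smooth G.hom] [ConnectedSpace ↥G.left]
    (U : Over (Spec (CommRingCat.of k))) [GrpObj U] (u : U ⟶ G) (hU : Par.IsUnipotentRadical u)
    (B : Over (Spec (CommRingCat.of k))) [GrpObj B] (iB : B ⟶ G) (hB : Red.IsBorelOver k iB)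
    (V : Over (Spec (CommRingCat.of k))) [GrpObj V] (v : V ⟶ B) (hV : Par.IsUnipotentRadical v) :
    ∃ f : U ⟶ V, f ≫ v ≫ iB = u := by
  obtain ⟨hum, hucl, hun, husm, huqc, hufib, -⟩ := hU
  haveI := hum
  haveI := hucl
  haveI := husm
  obtain ⟨haU, hlU, -, -, -⟩ := SolvGrp.sub_props u
  haveI := haU
  haveI := hlU
  haveI := hB.1
  haveI := hB.2.1
  haveI := hB.2.2.1
  obtain ⟨haB, hlB, -, hmB, -⟩ := SolvGrp.sub_props iB
  haveI := haB
  haveI := hlB
  haveI := hmB
  let s := AGFLib.GeomBC.pt k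
  haveI : ConnectedSpace U.left := SolvGrp.connectedSpace_of_geomFibre s (hufib s).1
  haveI : IsReduced U.left := GrpSchLib.isReduced_of_smooth_field U.hom
  haveI : Group.IsNilpotent (𝟙_ (Over (Spec (CommRingCat.of k))) ⟶ U) :=
    SolvGrp.isNilpotent_pts (SolvGrp.isUnipPt_of_hasNoSubtorus (SolvGrp.hasNoSubtorus_of_geomFibre s (hufib s).2))
  obtain ⟨m, hm⟩ := (inferInstance : Group.IsSolvable (𝟙_ (Over (Spec (CommRingCat.of k))) ⟶ U)).solvable
  obtain ⟨B₀, _, iB₀, hm₀, hB₀, hle⟩ := SolvGrp.exists_borel_containing u (AGFLib.ProperSpace.isSolvableGrp_of_pts m hm)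
  haveI := hm₀
  obtain ⟨g, f, hf⟩ := AGFLib.Borel.conjugate iB₀ iB hB₀ hB
  have hsub : SolvGrp.rangePts u ≤ SolvGrp.rangePts iB := by
    rintro _ ⟨x, rfl⟩
    obtain ⟨y, hy⟩ := hun _ g⁻¹ x
    obtain ⟨c, hc⟩ := hle ⟨y, rfl⟩
    change c ≫ iB₀ = y ≫ u at hc
    refine ⟨c ≫ f.hom, ?_⟩
    show (c ≫ f.hom) ≫ iB = x ≫ u
    rw [Category.assoc, hf, AGFLib.Borel.conjBy_eq, ← Category.assoc, hc, SolvGrp.comp_conjM_pt, ← hy]
    group
  obtain ⟨u₁, hu₁, hu₁e⟩ := SolvGrp.exists_fac_sub iB u hsub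
  haveI := hu₁
  haveI : IsClosedImmersion (u₁.left ≫ iB.left) := by rw [← Over.comp_left, hu₁e]; infer_instance
  haveI : IsClosedImmersion u₁.left := IsClosedImmersion.of_comp u₁.left iB.left
  obtain ⟨φ, hφ⟩ := hV.2.2.2.2.2.2 U u₁ inferInstance (fun X b x => by
    obtain ⟨y, hy⟩ := hun X (b ≫ iB) x
    refine ⟨y, (cancel_mono iB).mp ?_⟩
    rw [Category.assoc y, hu₁e, ← hy, MonObj.mul_comp, MonObj.mul_comp, GrpObj.inv_comp, Category.assoc x, hu₁e])
    inferInstance huqc hufib
  exact ⟨φ, by rw [← Category.assoc, hφ, hu₁e]⟩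

end Groth.Agent.S17091
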