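import Groth.Statements.S17092
import Groth.Agent.SolvGrp.LunaCor

set_option autoImplicit false
universe u
open CategoryTheory MonoidalCategory CartesianMonoidalCategory MonObj GrpObj AlgebraicGeometry
open AGF

namespace Groth.Agent.S17092

set_option backward.isDefEq.respectTransparency false
set_option backward.isDefEq.respectTransparency.types false

/-- Let k be an algebraically closed field, G an affine, smooth, connected k-group scheme, u : U ⟶ G its
unipotent radical (the largest normal closed subgroup scheme, smooth and quasi-compact over k, whose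
geometric fibre is connected and contains no non-trivial subtorus), T a maximal torus of G and j : H
⟶ G a closed subgroup scheme which is smooth and connected. If H lies in the unipotent radical of
every Borel subgroup of G containing T, then H lies in U: j factors through u. (Together with the
inclusion of U in the unipotent radical of every Borel subgroup of G, this says that the identity
component of the reduced intersection of the unipotent radicals of the Borel subgroups containing T
is U; it is trivial when G is reductive.) -/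
theorem result (k : Type u) [Field k] [IsAlgClosed k]
    (G : Over (Spec (CommRingCat.of k))) [GrpObj G] [IsAffine G.left] [Smooth G.hom] [ConnectedSpace ↥G.left]
    (U : Over (Spec (CommRingCat.of k))) [GrpObj U] (u : U ⟶ G) (hU : Par.IsUnipotentRadical u)
    (T : Over (Spec (CommRingCat.of k))) [GrpObj T] (iT : T ⟶ G) (hT : AGF.IsMaxTorus iT)
    (H : Over (Spec (CommRingCat.of k))) [GrpObj H] (j : H ⟶ G) [IsMonHom j] (hj : IsClosedImmersion j.left)
    [Smooth H.hom] [ConnectedSpace ↥H.left]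
    (hH : ∀ (B : Over (Spec (CommRingCat.of k))) [GrpObj B] (iB : B ⟶ G) (t : T ⟶ B), Red.IsBorelOver k iB → t ≫ iB = iT →
      ∀ (V : Over (Spec (CommRingCat.of k))) [GrpObj V] (v : V ⟶ B), Par.IsUnipotentRadical v → ∃ f : H ⟶ V, f ≫ v ≫ iB = j) :
    ∃ g : H ⟶ U, g ≫ u = j := by
  classical
  haveI := hT.1
  haveI : IsClosedImmersion j.left := hj
  haveI : IsReduced G.left := GrpSchLib.isReduced_of_smooth_field G.hom
  obtain ⟨haH, hlH, -, hmH, hevH⟩ := SolvGrp.sub_props j
  haveI := haH
  haveI := hlH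
  haveI : IsReduced H.left := GrpSchLib.isReduced_of_smooth_field H.hom
  obtain ⟨hT1, -, hTt, -⟩ := id hT
  obtain ⟨B, _, iB, hmB, hB, hTB, -⟩ := SolvGrp.exists_borel_torus_pt iT hTt 1 (fun s _ => Commute.one_left s)
  haveI := hB.2.1
  obtain ⟨haT, hsT, -, -⟩ := SolvGrp.torus_props hTt
  haveI := haT
  haveI := hsT
  -- the points of H are unipotent and lie in the conjugates through T
  have key : ∀ g : 𝟙_ (Over (Spec (CommRingCat.of k))) ⟶ G, (∀ t, g⁻¹ * (t ≫ iT) * g ∈ SolvGrp.rangePts iB) →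
      ∀ h : 𝟙_ (Over (Spec (CommRingCat.of k))) ⟶ H,
        g⁻¹ * (h ≫ j) * g ∈ SolvGrp.rangePts iB ∧ SolvGrp.IsUnipPt (h ≫ j) := by
    intro g hg h
    haveI : IsMonHom (AGF.conjBy g iB) := by rw [AGFLib.Borel.conjBy_eq]; infer_instance
    have hB' := AGFLib.Borel.isBorel_conj iB hB g
    haveI := hB'.2.1
    haveI := hB'.2.2.1
    haveI := hB'.2.2.2.1
    obtain ⟨haB, hlB, -, -, -⟩ := SolvGrp.sub_props (AGF.conjBy g iB)
    haveI := haB
    haveI := hlB
    haveI : IsReduced B.left := GrpSchLib.isReduced_of_smooth_field B.hom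
    obtain ⟨t, -, ht⟩ := SolvGrp.exists_fac_sub (AGF.conjBy g iB) iT (by
      rintro _ ⟨x, rfl⟩
      exact (SolvGrp.rangePts_conjBy g iB _).mpr (hg x))
    obtain ⟨V, _, v, hv, hcv, hsV, hcV, haV, hnV, hV⟩ := SolvGrp.exists_unipRad hB'.2.2.2.2.1
    haveI := hv
    haveI := hcv
    haveI := hsV
    haveI := hcV
    haveI := haV
    haveI : IsReduced V.left := GrpSchLib.isReduced_of_smooth_field V.hom
    obtain ⟨-, hlV, -, -, hevV⟩ := SolvGrp.sub_props v
    haveI := hlV
    have hrad : Par.IsUnipotentRadical v := SolvGrp.isUnipotentRadical_of_pts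
      (SolvGrp.hasNoSubtorus_of_isUnipPt fun x => SolvGrp.IsUnipPt.map v hevV ((hV _).mp ⟨x, rfl⟩))
      v hnV fun b hb => (hV b).mpr hb
    obtain ⟨f, hf⟩ := hH B (AGF.conjBy g iB) t hB' ht V v hrad
    have hval : (h ≫ f ≫ v) ≫ AGF.conjBy g iB = h ≫ j := by rw [← hf]; simp only [Category.assoc]
    refine ⟨(SolvGrp.rangePts_conjBy g iB _).mp ⟨h ≫ f ≫ v, hval⟩, ?_⟩
    rw [← hval]
    exact (SolvGrp.map_isSsPt_isUnipPt _ _).2 ((hV _).mp ⟨h ≫ f, (Category.assoc _ _ _)⟩)
  have hu : ∀ h : 𝟙_ (Over (Spec (CommRingCat.of k))) ⟶ H, SolvGrp.IsUnipPt h := fun h => by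
    have hone := fun t : 𝟙_ (Over (Spec (CommRingCat.of k))) ⟶ T => hTB ⟨t, rfl⟩
    have hg : ∀ t, (1 : 𝟙_ (Over (Spec (CommRingCat.of k))) ⟶ G)⁻¹ * (t ≫ iT) * 1 ∈ SolvGrp.rangePts iB := fun t => by
      rw [inv_one, _root_.one_mul, _root_.mul_one]; exact hone t
    exact SolvGrp.IsUnipPt.map j hevH (key 1 hg h).2
  obtain ⟨D, _, iD, hmD, hcD, hsD, hconnD, hnD, htD, hle⟩ :=
    SolvGrp.exists_unipNormal iB hB iT hT j hu fun g hg h => (key g hg h).1
  haveI := hsD
  haveI := hconnD
  haveI := hcD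
  obtain ⟨-, hlD, hqD, -, -⟩ := SolvGrp.sub_props iD
  haveI := hlD
  haveI := hqD
  obtain ⟨φ, hφ⟩ := hU.2.2.2.2.2.2 D iD hcD hnD hsD hqD fun s => SolvGrp.geomFibre_props htD s
  obtain ⟨ψ, -, hψ⟩ := SolvGrp.exists_fac_sub iD j hle
  exact ⟨ψ ≫ φ, by rw [Category.assoc, hφ, hψ]⟩

end Groth.Agent.S17092
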