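import Groth.Statements.S17093
import Groth.Agent.SolvGrp.Reductive4
-- import your own Groth.Agent.* helpers here

set_option autoImplicit false
universe u
open CategoryTheory MonoidalCategory CartesianMonoidalCategory MonObj GrpObj AlgebraicGeometry
open AGF

namespace Groth.Agent.S17093

set_option backward.isDefEq.respectTransparency false
set_option backward.isDefEq.respectTransparency.types false

/-- Let k be an algebraically closed field, G and G' affine, smooth, connected k-group schemes, π : G ⟶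
G' a surjective homomorphism, u : U ⟶ G the unipotent radical of G and u' : U' ⟶ G' that of G'
(largest normal closed subgroup schemes, smooth and quasi-compact over k, with connected geometric
fibre containing no non-trivial subtorus). Then π carries U onto U': u ≫ π factors through u' by a
morphism U ⟶ U' which is surjective. -/
theorem result (k : Type u) [Field k] [IsAlgClosed k]
    (G G' : Over (Spec (CommRingCat.of k))) [GrpObj G] [GrpObj G'] [IsAffine G.left] [Smooth G.hom] [ConnectedSpace ↥G.left]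
    [IsAffine G'.left] [Smooth G'.hom] [ConnectedSpace ↥G'.left]
    (π : G ⟶ G') [IsMonHom π] (hπ : Surjective π.left)
    (U : Over (Spec (CommRingCat.of k))) [GrpObj U] (u : U ⟶ G) (hU : Par.IsUnipotentRadical u)
    (U' : Over (Spec (CommRingCat.of k))) [GrpObj U'] (u' : U' ⟶ G') (hU' : Par.IsUnipotentRadical u') :
    ∃ f : U ⟶ U', f ≫ u' = u ≫ π ∧ Surjective f.left := by
  haveI := hπ
  obtain ⟨hmu, hcu, hnu, hsU, hqU, hgU, hmaxU⟩ := id hU
  obtain ⟨hmu', hcu', hnu', hsU', hqU', hgU', hmaxU'⟩ := id hU'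
  haveI := hmu
  haveI := hcu
  haveI := hsU
  haveI := hmu'
  haveI := hcu'
  haveI := hsU'
  let s := AGFLib.GeomBC.pt k
  haveI : ConnectedSpace U.left := SolvGrp.connectedSpace_of_geomFibre s (hgU s).1
  haveI : ConnectedSpace U'.left := SolvGrp.connectedSpace_of_geomFibre s (hgU' s).1
  obtain ⟨haU, hlU, -, -, -⟩ := SolvGrp.sub_props u
  haveI := haU
  haveI := hlU
  haveI : IsReduced U.left := GrpSchLib.isReduced_of_smooth_field U.hom
  obtain ⟨haU', hlU', -, hmU', -⟩ := SolvGrp.sub_props u'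
  haveI := haU'
  haveI := hlU'
  haveI : IsReduced U'.left := GrpSchLib.isReduced_of_smooth_field U'.hom
  haveI : QuasiCompact U.hom := hqU
  have hn : (SolvGrp.rangePts u).Normal := ⟨fun z hz g => by
    obtain ⟨x, rfl⟩ := hz
    obtain ⟨y, hy⟩ := hnu _ g x
    exact ⟨y, hy.symm⟩⟩
  have hn' : (SolvGrp.rangePts u').Normal := ⟨fun z hz g => by
    obtain ⟨x, rfl⟩ := hz
    obtain ⟨y, hy⟩ := hnu' _ g x
    exact ⟨y, hy.symm⟩⟩
  obtain ⟨D, _, iD, hiD, hcD, hsD, hconnD, hnD, htD, he⟩ :=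
    SolvGrp.exists_unip_image π u hn (SolvGrp.isUnipPt_of_hasNoSubtorus (SolvGrp.hasNoSubtorus_of_geomFibre s (hgU s).2))
  haveI := hiD
  haveI := hcD
  haveI := hconnD
  obtain ⟨a, ha⟩ := hmaxU' D iD hcD hnD hsD (SolvGrp.sub_props iD).2.2.1 fun t => SolvGrp.geomFibre_props htD t
  have hle : SolvGrp.rangePts (u ≫ π) ≤ SolvGrp.rangePts u' := he ▸ fun x hx => by
    obtain ⟨d, rfl⟩ := hx
    exact ⟨d ≫ a, by show (d ≫ a) ≫ u' = d ≫ iD; rw [Category.assoc, ha]⟩
  obtain ⟨f, hfm, hf⟩ := SolvGrp.exists_fac_sub u' (u ≫ π) hle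
  haveI := hfm
  haveI : Mono u' := hmU'
  refine ⟨f, hf, SolvGrp.surjective_of_rangePts f fun g => ?_⟩
  obtain ⟨_, ⟨x, rfl⟩, hy⟩ := SolvGrp.le_map_unipRad π u hn (fun V _ v _ hcv hsV hcV hnV htV => by
    haveI := hcv
    haveI := hsV
    haveI := hcV
    haveI : ConnectedSpace V.left := hcV
    obtain ⟨w, hw⟩ := hmaxU V v hcv (SolvGrp.isNormalHom_of_pts v hnV) hsV (SolvGrp.sub_props v).2.2.1
      fun t => SolvGrp.geomFibre_props htV t
    rintro _ ⟨z, rfl⟩
    exact ⟨z ≫ w, by show (z ≫ w) ≫ u = z ≫ v; rw [Category.assoc, hw]⟩) u' hn'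
    (SolvGrp.isUnipPt_of_hasNoSubtorus (SolvGrp.hasNoSubtorus_of_geomFibre s (hgU' s).2))
    (⟨g, rfl⟩ : g ≫ u' ∈ SolvGrp.rangePts u')
  refine ⟨x, (cancel_mono u').mp ?_⟩
  show (x ≫ f) ≫ u' = g ≫ u'
  rw [Category.assoc, hf, ← Category.assoc]
  exact hy

end Groth.Agent.S17093
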