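import Groth.Statements.S17095
import Groth.Agent.SolvGrp.MaxToriSep
import Groth.Agent.S3936
-- import your own Groth.Agent.* helpers here

set_option autoImplicit false
universe u
open CategoryTheory MonoidalCategory CartesianMonoidalCategory MonObj GrpObj AlgebraicGeometry
open AGF

namespace Groth.Agent.S17095

set_option backward.isDefEq.respectTransparency false
set_option backward.isDefEq.respectTransparency.types false

open SolvGrp GrpSchLib GrpSchLib.Kunneth GrpSchLib.LineGroups WeilCmp.Unip AGFLib AGFLib.Gen AGFLib.BorelFixed AGFLib.BorelExist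

/-- Morphisms out of a product with a scheme with separating rational points. -/
theorem hom_ext_dense {k : Type u} [Field k] {G X Y : Over (Spec (CommRingCat.of k))} [IsAffine G.left] [IsAffine X.left]
    [IsAffine Y.left] (S : Set (𝟙_ (Over (Spec (CommRingCat.of k))) ⟶ G))
    (hS : ∀ F : Fn G, (∀ s ∈ S, vl s F = 0) → F = 0) (a b : G ⊗ X ⟶ Y)
    (h : ∀ s ∈ S, lift (toUnit X ≫ s) (𝟙 X) ≫ a = lift (toUnit X ≫ s) (𝟙 X) ≫ b) : a = b := by
  classical
  haveI : IsAffineHom X.hom := isAffineHom_of_isAffine X.hom
  haveI : IsAffineHom G.hom := isAffineHom_of_isAffine G.hom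
  haveI : IsAffine (G ⊗ X).left := inferInstanceAs (IsAffine (Limits.pullback G.hom X.hom))
  refine ext_ev (AlgHom.ext fun F => sub_eq_zero.mp ?_)
  generalize hz : ev a F - ev b F = z
  let c := Module.Free.chooseBasis k (Fn X)
  obtain ⟨t, q, hq⟩ := exists_expand (X := G) (Y := X) c z
  have hq0 : ∀ l ∈ t, q l = 0 := by
    intro l hl
    refine hS _ fun s hs => ?_
    have h0 : ev (lift (toUnit X ≫ s) (𝟙 X)) z = 0 := by rw [← hz, map_sub, ev_ev, ev_ev, h s hs, sub_self]
    rw [hq, map_sum] at h0
    have h2 : ∑ l ∈ t, vl s (q l) • c l = 0 := by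
      rw [← h0]
      refine Finset.sum_congr rfl fun l _ => ?_
      rw [map_mul, ev_ev, ev_ev, lift_fst, lift_snd, ev_id, ← ev_ev, ← AGFLib.ProjAct.algebraMap_toK (k := k) (ev s (q l)),
        AlgHom.commutes, Algebra.smul_def]
      rfl
    exact Fintype.linearIndependent_iff.mp (c.linearIndependent.comp (fun x : t => (x : _)) Subtype.val_injective)
      (fun x => vl s (q x)) (by rw [← h2, ← Finset.sum_coe_sort t]; rfl) ⟨l, hl⟩
  rw [hq]
  exact Finset.sum_eq_zero fun l hl => by rw [hq0 l hl, map_zero, zero_mul]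


/-- Let k be a separably closed field, G a reductive k-group scheme and z : Z ⟶ G its centre. Then Z is
the scheme-theoretic intersection of the maximal k-tori of G: for every k-scheme X and every
X-valued point g of G, g factors through Z if and only if g factors through the inclusion of every
maximal torus of G. -/
theorem result (k : Type u) [Field k] [IsSepClosed k]
    (G : Over (Spec (CommRingCat.of k))) [GrpObj G] (hG : Red.IsReductive G)
    (Z : Over (Spec (CommRingCat.of k))) [GrpObj Z] (z : Z ⟶ G) (hz : Red.IsCentre z)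
    (X : Over (Spec (CommRingCat.of k))) (g : X ⟶ G) :
    (∃ c : X ⟶ Z, c ≫ z = g) ↔
      ∀ (T : Over (Spec (CommRingCat.of k))) [GrpObj T] (iT : T ⟶ G), Red.IsMaximalTorus iT → ∃ t : X ⟶ T, t ≫ iT = g := by
  haveI := hG.2.1
  haveI : IsAffine G.left := by haveI := hG.1; exact isAffine_of_isAffineHom G.hom
  haveI : ConnectedSpace G.left := connectedSpace_of_isReductive hG
  haveI : IsReduced G.left := isReduced_of_smooth_field G.hom
  constructor
  · rintro ⟨c, rfl⟩ T _ iT hT
    obtain ⟨f, hf⟩ := Groth.Agent.S3936.result k G hG Z z hz T iT hT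
    exact ⟨c ≫ f, by rw [Category.assoc, hf]⟩
  intro hg
  have key : ∀ (U : Over (Spec (CommRingCat.of k))) [IsAffine U.left] (g h : U ⟶ G),
      (∀ (T : Over (Spec (CommRingCat.of k))) [GrpObj T] (iT : T ⟶ G), Red.IsMaximalTorus iT → ∃ t : U ⟶ T, t ≫ iT = g) →
      Commute g h := by
    intro U _ g h hg
    haveI : IsAffineHom U.hom := isAffineHom_of_isAffine U.hom
    haveI : IsAffineHom G.hom := isAffineHom_of_isAffine G.hom
    have hd : ∀ d ∈ torusPts G, Commute g (toUnit U ≫ d) := by
      intro d hd
      induction hd using Subgroup.closure_induction with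
      | mem x hx =>
        obtain ⟨T, _, iT, hT, t, rfl⟩ := hx
        haveI := hT.1
        obtain ⟨u, rfl⟩ := hg T iT hT
        show _ = _
        rw [← Category.assoc, ← MonObj.mul_comp, ← MonObj.mul_comp,
          GrpSchLib.MultTypeComm.points_comm (TorusQI.isMultTypeFT_of_isTorus hT.2.2.1)]
      | one => rw [MonObj.comp_one]; exact Commute.one_right _
      | mul x y _ _ hx hy => rw [MonObj.comp_mul]; exact hx.mul_right hy
      | inv x _ hx => rw [GrpObj.comp_inv]; exact hx.inv_right
    have e := hom_ext_dense (X := U) (torusPts G : Set _)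
      (fun F hF => eq_zero_of_dense _ (fun O ⟨x, hx⟩ => by
        by_contra hne
        push Not at hne
        exact ((dense_torusPts hG (Oᶜ : Set G.left) O.isOpen.isClosed_compl fun d hd => hne d hd).ge (Set.mem_univ x)) hx) F hF)
      ((snd G U ≫ g) * fst G U) (fst G U * (snd G U ≫ g)) (fun d hd' => by
        simp only [MonObj.comp_mul, lift_fst, lift_snd_assoc, Category.id_comp]
        exact hd d hd')
    have e2 := congrArg (lift h (𝟙 U) ≫ ·) e
    simp only [MonObj.comp_mul, lift_fst, lift_snd_assoc, Category.id_comp] at e2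
    exact e2
  refine ((hz.2.2 X g).mpr fun X' x h => ?_)
  rw [Category.comp_id]
  refine Over.OverMorphism.ext (Scheme.Cover.hom_ext X'.left.affineCover _ _ fun j => ?_)
  let U : Over (Spec (CommRingCat.of k)) := Over.mk (X'.left.affineCover.f j ≫ X'.hom)
  let w : U ⟶ X' := Over.homMk (X'.left.affineCover.f j) rfl
  haveI : IsAffine U.left := inferInstanceAs (IsAffine (X'.left.affineCover.X j))
  have h1 : w ≫ ((x ≫ g) * h) = w ≫ (h * (x ≫ g)) := by
    rw [MonObj.comp_mul, MonObj.comp_mul]
    exact key U _ _ fun T _ iT hT => by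
      obtain ⟨t, ht⟩ := hg T iT hT
      exact ⟨w ≫ x ≫ t, by rw [Category.assoc, Category.assoc, ht]⟩
  exact congrArg (fun m : U ⟶ G => m.left) h1

end Groth.Agent.S17095
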