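import Groth.Statements.S17096
import Groth.Agent.SolvGrp.CentralIsogeny
import Groth.Agent.SolvGrp.Radical2
import Groth.Agent.SolvGrp.FinitePts
import Groth.Agent.NIsog.Kernel
import Groth.Agent.SolvGrp.Torus
import Groth.Agent.TorusQI.Torus
-- import your own Groth.Agent.* helpers here

set_option autoImplicit false
universe u
open CategoryTheory MonoidalCategory CartesianMonoidalCategory MonObj GrpObj AlgebraicGeometry
open AGF

namespace Groth.Agent.S17096

set_option backward.isDefEq.respectTransparency false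
set_option backward.isDefEq.respectTransparency.types false

/-- Let k be a field, H' and H reductive k-group schemes and f : H' ⟶ H a central isogeny: a surjective
homomorphism whose kernel K ⟶ H' has finitely many points, all central in H'. Let i : T ⟶ H be a
maximal torus and i' : T' ⟶ H' its scheme-theoretic preimage (the square T' ⟶ H' ⟶ H, T' ⟶ T ⟶ H is
cartesian), with its induced subgroup structure. Then T' is a maximal torus of H'. -/
theorem result (k : Type u) [Field k]
    (H' H : Over (Spec (CommRingCat.of k))) [GrpObj H'] [GrpObj H] (hH' : Red.IsReductive H') (hH : Red.IsReductive H)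
    (f : H' ⟶ H) [IsMonHom f] (hf : Surjective f.left)
    (K : Over (Spec (CommRingCat.of k))) [GrpObj K] (iK : K ⟶ H') (hK : AlgGrp.IsKernel iK f) (hKf : Finite ↥K.left)
    (hKc : ∀ (X : Over (Spec (CommRingCat.of k))) (x : X ⟶ K) (X' : Over (Spec (CommRingCat.of k))) (y : X' ⟶ X) (h : X' ⟶ H'),
      (y ≫ x ≫ iK) * h = h * (y ≫ x ≫ iK))
    (T : Over (Spec (CommRingCat.of k))) [GrpObj T] (i : T ⟶ H) (hT : Red.IsMaximalTorus i)
    (T' : Over (Spec (CommRingCat.of k))) [GrpObj T'] (i' : T' ⟶ H') [IsMonHom i'] (p : T' ⟶ T) (hsq : IsPullback i' p f i) :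
    Red.IsMaximalTorus i' := by
  obtain ⟨haff', hsm', hfib'⟩ := id hH'
  obtain ⟨haff, hsm, hfib⟩ := id hH
  haveI := hsm'
  haveI := hsm
  haveI : IsAffine H'.left := isAffine_of_isAffineHom H'.hom
  haveI : IsAffine H.left := isAffine_of_isAffineHom H.hom
  haveI := SolvGrp.connectedSpace_of_isReductive hH'
  haveI := SolvGrp.connectedSpace_of_isReductive hH
  haveI := hf
  have hcen : ∀ (X : Over (Spec (CommRingCat.of k))) (z g : X ⟶ H'), z ≫ f = 1 → z * g = g * z := by
    intro X z g hz
    have h1 : z ≫ f = toUnit X ≫ η[H] := by rw [hz, Hom.one_def]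
    have h2 := hKc X (hK.lift z (toUnit X) h1) X (𝟙 X) g
    rwa [Category.id_comp, hK.lift_fst] at h2
  haveI := hT.1
  haveI := hT.2.1
  haveI : Mono i' := by
    refine ⟨fun a b hab => hsq.hom_ext hab ?_⟩
    rw [← cancel_mono i, Category.assoc, Category.assoc, ← hsq.w, ← Category.assoc, hab, Category.assoc]
  haveI : QuasiCompact H.hom := inferInstance
  haveI : QuasiCompact H'.hom := inferInstance
  have hfib_iso : ∀ s : Spec (CommRingCat.of k),
      ∃ (S : Over (Spec (CommRingCat.of (AlgebraicClosure ((Spec (CommRingCat.of k)).residueField s))))) (_ : GrpObj S)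
        (j : S ⟶ Red.geomFibre s H') (e : S ≅ Red.geomFibre s T'),
        IsMonHom e.hom ∧ AGF.IsMaxTorus j ∧ e.hom ≫ (Over.pullback (Red.geomPt s)).map i' = j := by
    intro s
    let F := Over.pullback (Red.geomPt s)
    obtain ⟨haK, hsK, hcK, -⟩ := id (hfib' s)
    haveI := haK
    haveI := hsK
    haveI := hcK
    obtain ⟨haKH, hsKH, hcKH, -⟩ := id (hfib s)
    haveI := haKH
    haveI := hsKH
    haveI := hcKH
    haveI : (Over.pullback (Red.geomPt s)).IsRightAdjoint := (Over.mapPullbackAdj (Red.geomPt s)).isRightAdjoint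
    have hTK := SolvGrp.isMaxTorus_geomFibre hT s
    haveI := hTK.1
    haveI := hTK.2.1
    haveI : Surjective (F.map f).left := MorphismProperty.baseChange_map (P := @Surjective) (Red.geomPt s) f hf
    haveI : IsClosedImmersion iK.left := by
      haveI := GrpSchLib.AntiAffine.isSeparated_grp H
      haveI : IsClosedImmersion (η[H] : 𝟙_ _ ⟶ H).left := by
        haveI : IsClosedImmersion ((η[H] : 𝟙_ _ ⟶ H).left ≫ H.hom) := by
          rw [Over.w]; exact inferInstanceAs (IsClosedImmersion (𝟙 _))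
        exact IsClosedImmersion.of_comp (η[H] : 𝟙_ _ ⟶ H).left H.hom
      exact MorphismProperty.of_isPullback (P := @IsClosedImmersion) ((hK.map (Over.forget _)).flip) ‹IsClosedImmersion (η[H] : 𝟙_ _ ⟶ H).left›
    haveI : LocallyOfFiniteType K.hom := by rw [← Over.w iK]; infer_instance
    haveI : IsAffine K.left := isAffine_of_isAffineHom iK.left
    haveI : QuasiCompact K.hom := inferInstance
    haveI := hKf
    haveI := SolvGrp.finite_pts_geomFibre (X := K) s
    have hkerF : AlgGrp.IsKernel (F.map iK) (F.map f) := NIsog.isKernel_bc (Red.geomPt s) hK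
    have hfin : {x : 𝟙_ _ ⟶ Red.geomFibre s H' | x ≫ F.map f = 1}.Finite := by
      refine (Set.finite_range fun z : 𝟙_ _ ⟶ Red.geomFibre s K => z ≫ F.map iK).subset fun x hx => ?_
      exact ⟨hkerF.lift x (toUnit _) (by rw [← Hom.one_def]; exact hx), hkerF.lift_fst _ _ _⟩
    obtain ⟨S, _, j, p₀, hj, hfl, hsu, hqc, hp₀⟩ := SolvGrp.exists_maxTorus_over (F.map f) hfin (F.map i) hTK
    haveI := hfl
    haveI := hsu
    haveI := hqc
    haveI := hj.1
    haveI := hj.2.1
    have hpb : IsPullback j p₀ (F.map f) (F.map i) := SolvGrp.isPullback_of_selfCent (F.map f) j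
      (SolvGrp.selfCent_of_isMaxTorus (hfib' s) j hj)
      (fun X a b => GrpSchLib.MultTypeComm.points_comm (TorusQI.isMultTypeFT_of_isTorus hj.2.2.1) a b)
      (F.map i) p₀ hp₀ (fun X z g hz => by
        obtain ⟨a, rfl⟩ := (AVTors.bcPts (Red.geomPt s) X H').surjective z
        obtain ⟨b, rfl⟩ := (AVTors.bcPts (Red.geomPt s) X H').surjective g
        rw [← AVTors.bcPts_comp, ← map_one (AVTors.bcPts (Red.geomPt s) X H)] at hz
        rw [← map_mul, ← map_mul, hcen _ a b ((AVTors.bcPts (Red.geomPt s) X H).injective hz)])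
    have hsqF : IsPullback (F.map i') (F.map p) (F.map f) (F.map i) := hsq.map F
    let e : S ≅ Red.geomFibre s T' := hpb.isoIsPullback _ _ hsqF
    have he : e.hom ≫ F.map i' = j := hpb.isoIsPullback_hom_fst _ _ hsqF
    refine ⟨S, inferInstance, j, e, AGFLib.isMonHom_of_mul e.hom fun X a b => ?_, hj, he⟩
    rw [← cancel_mono (F.map i')]
    simp only [MonObj.mul_comp, Category.assoc, he]
  refine ⟨inferInstance, inferInstance, ?_, fun s T₁ _ j₁ _ _ f₁ hT₁ hf₁ => ?_⟩
  · obtain ⟨S, _, j, e, he, hj, -⟩ := hfib_iso (AGFLib.GeomBC.pt k)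
    haveI := he
    exact SolvGrp.isTorus_of_geomFibre _ (SolvGrp.isTorus_of_iso (Grp.mkIso' e).symm hj.2.2.1)
  · obtain ⟨S, _, j, e, he, hj, hej⟩ := hfib_iso s
    haveI : IsIso (e.hom ≫ f₁) := hj.2.2.2 T₁ j₁ (e.hom ≫ f₁) hT₁ (by rw [Category.assoc, hf₁, hej])
    exact IsIso.of_isIso_comp_left e.hom f₁

end Groth.Agent.S17096
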