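import Groth.Statements.S17097
import Groth.Agent.SolvGrp.CentralIsogeny
import Groth.Agent.SolvGrp.Radical2
import Groth.Agent.S3917
import Groth.Agent.TorusQI.Torus
-- import your own Groth.Agent.* helpers here

set_option autoImplicit false
universe u
open CategoryTheory MonoidalCategory CartesianMonoidalCategory MonObj GrpObj AlgebraicGeometry
open AGF

namespace Groth.Agent.S17097

set_option backward.isDefEq.respectTransparency false
set_option backward.isDefEq.respectTransparency.types false

/-- Let k be a field, H' and H reductive k-group schemes and f : H' ⟶ H a central isogeny: a surjective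
homomorphism whose kernel K ⟶ H' has finitely many points, all central in H'. Then every maximal
torus j : S' ⟶ H' is the scheme-theoretic preimage of a maximal torus of H: there are a maximal
torus i : T ⟶ H and a morphism S' ⟶ T making the square with j, f and i cartesian. -/
theorem result (k : Type u) [Field k]
    (H' H : Over (Spec (CommRingCat.of k))) [GrpObj H'] [GrpObj H] (hH' : Red.IsReductive H') (hH : Red.IsReductive H)
    (f : H' ⟶ H) [IsMonHom f] (hf : Surjective f.left)
    (K : Over (Spec (CommRingCat.of k))) [GrpObj K] (iK : K ⟶ H') (hK : AlgGrp.IsKernel iK f) (hKf : Finite ↥K.left)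
    (hKc : ∀ (X : Over (Spec (CommRingCat.of k))) (x : X ⟶ K) (X' : Over (Spec (CommRingCat.of k))) (y : X' ⟶ X) (h : X' ⟶ H'),
      (y ≫ x ≫ iK) * h = h * (y ≫ x ≫ iK))
    (S' : Over (Spec (CommRingCat.of k))) [GrpObj S'] (j : S' ⟶ H') (hS' : Red.IsMaximalTorus j) :
    ∃ (T : Over (Spec (CommRingCat.of k))) (_ : GrpObj T) (i : T ⟶ H) (p : S' ⟶ T),
      Red.IsMaximalTorus i ∧ IsPullback j p f i := by
  obtain ⟨haff', hsm', hfib'⟩ := id hH'
  obtain ⟨haff, hsm, hfib⟩ := id hH
  haveI := hsm'
  haveI := hsm
  haveI : IsAffine H'.left := isAffine_of_isAffineHom H'.hom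
  haveI : IsAffine H.left := isAffine_of_isAffineHom H.hom
  haveI := SolvGrp.connectedSpace_of_isReductive hH'
  haveI := SolvGrp.connectedSpace_of_isReductive hH
  haveI := hf
  have hcen : ∀ (X : Over (Spec (CommRingCat.of k))) (z g : X ⟶ H'), z ≫ f = 1 → z * g = g * z := by
    intro X z g hz
    have h1 : z ≫ f = toUnit X ≫ η[H] := by rw [hz, Hom.one_def]
    have h2 := hKc X (hK.lift z (toUnit X) h1) X (𝟙 X) g
    rwa [Category.id_comp, hK.lift_fst] at h2
  haveI := hS'.1
  haveI := hS'.2.1
  obtain ⟨hcl, hsS, hcS⟩ := SolvGrp.torus_sub_field j hS'.2.2.1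
  haveI := hcl
  haveI := hsS
  haveI := hcS
  haveI : IsAffine S'.left := isAffine_of_isAffineHom j.left
  haveI : QuasiCompact S'.hom := inferInstance
  haveI : QuasiCompact H.hom := inferInstance
  haveI : QuasiCompact H'.hom := inferInstance
  obtain ⟨T, _, p, i, hp, hi, hpi, hci, hfl, hsu, hlT, hqT⟩ := GrpSchLib.ImageFactor.exists_image (j ≫ f)
  haveI := hp
  haveI := hi
  haveI := hci
  haveI := hfl
  haveI := hsu
  haveI := hlT
  haveI := hqT
  haveI : Smooth T.hom := GrpSchLib.smooth_of_quotient p
  haveI : ConnectedSpace T.left := p.left.surjective.connectedSpace p.left.continuous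
  haveI : IsAffine T.left := isAffine_of_isAffineHom i.left
  haveI : Mono i := (Over.forget _).mono_of_mono_map (inferInstanceAs (Mono i.left))
  haveI : QuasiCompact p.left := by
    haveI := GrpSchLib.AntiAffine.isSeparated_grp T
    haveI : QuasiCompact (p.left ≫ T.hom) := by rw [Over.w p]; infer_instance
    exact QuasiCompact.of_comp p.left T.hom
  have htor : Red.IsTorus T := by
    let s := AGFLib.GeomBC.pt k
    exact SolvGrp.isTorus_of_geomFibre s
      (SolvGrp.isTorus_of_surjective (SolvGrp.isTorus_bc (Red.geomPt s) hS'.2.2.1) ((Over.pullback (Red.geomPt s)).map p))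
  refine ⟨T, inferInstance, i, p, ⟨inferInstance, inferInstance, htor, fun s T₁ _ j₁ _ _ f₁ hT₁ hf₁ => ?_⟩, ?_⟩
  · obtain ⟨haK, hsK, hcK, -⟩ := id (hfib' s)
    haveI := haK
    haveI := hsK
    haveI := hcK
    obtain ⟨haKH, hsKH, hcKH, -⟩ := id (hfib s)
    haveI := haKH
    haveI := hsKH
    haveI := hcKH
    let F := Over.pullback (Red.geomPt s)
    haveI : IsClosedImmersion (F.map i).left := MorphismProperty.baseChange_map (P := @IsClosedImmersion) (Red.geomPt s) i hci
    haveI : Smooth (F.obj T).hom := inferInstanceAs (Smooth (Limits.pullback.snd T.hom (Red.geomPt s)))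
    haveI : IsReduced (F.obj T).left := GrpSchLib.isReduced_of_smooth_field (F.obj T).hom
    exact (Groth.Agent.S3927.result _ (Red.geomFibre s H') (Red.geomFibre s H) (F.map f) (Red.geomFibre s S') (F.map j)
      (SolvGrp.isMaxTorus_geomFibre hS' s) (Red.geomFibre s T) (F.map i) inferInstance (F.map p)
      (by rw [← Functor.map_comp, ← Functor.map_comp, hpi])).2.2.2 T₁ j₁ f₁ hT₁ hf₁
  · exact SolvGrp.isPullback_of_selfCent f j
      ((Groth.Agent.S3917.result k H' hH' S' j hS'.2.2.1).mp hS')
      (fun X a b => GrpSchLib.MultTypeComm.points_comm (TorusQI.isMultTypeFT_of_isTorus hS'.2.2.1) a b)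
      i p hpi hcen

end Groth.Agent.S17097
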