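import Groth.Statements.S17098
import Groth.Agent.SolvGrp.DerivedPts
import Groth.Agent.SolvGrp.Radical2
-- import your own Groth.Agent.* helpers here

set_option autoImplicit false
universe u
open CategoryTheory MonoidalCategory CartesianMonoidalCategory MonObj GrpObj AlgebraicGeometry
open AGF

namespace Groth.Agent.S17098

set_option backward.isDefEq.respectTransparency false
set_option backward.isDefEq.respectTransparency.types false

/-- Let k be a field and G a reductive k-group scheme (affine, smooth, with connected reductive
geometric fibre). If G is perfect, i.e. every homomorphism from G to a commutative k-group scheme is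
trivial, then G is semisimple. (The published equivalence of the three conditions 'the geometric
radical is trivial', 'reductive with finite centre', 'reductive with perfect identity component' is
asserted for smooth affine groups that need not be connected; the orthogonal group O_2 in
characteristic different from 2 has finite centre and unipotent radical 1 while its identity
component SO_2 is a non-trivial torus, so the equivalence holds only for connected G, where the
other implications are the finite-centre criterion and the perfectness of semisimple groups.) -/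
theorem result (k : Type u) [Field k]
    (G : Over (Spec (CommRingCat.of k))) [GrpObj G] (hG : Red.IsReductive G)
    (hperf : ∀ (H : Over (Spec (CommRingCat.of k))) [GrpObj H] [IsCommMonObj H] (f : G ⟶ H) [IsMonHom f], f = toUnit G ≫ η[H]) :
    Red.IsSemisimple G := by
  obtain ⟨haffG, hsmG, hfib⟩ := id hG
  haveI := hsmG
  haveI : IsAffine G.left := isAffine_of_isAffineHom G.hom
  haveI := SolvGrp.connectedSpace_of_isReductive hG
  refine ⟨haffG, hsmG, fun s => ⟨hfib s, fun T _ i _ hci hn hT => ?_⟩⟩
  obtain ⟨haK, hsK, hcK, -⟩ := id (hfib s)
  haveI := haK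
  haveI := hsK
  haveI := hcK
  haveI := hci
  haveI : IsReduced (Red.geomFibre s G).left := GrpSchLib.isReduced_of_smooth_field (Red.geomFibre s G).hom
  obtain ⟨haT, hsT, hcT, -⟩ := SolvGrp.torus_props hT
  haveI := haT
  haveI := hsT
  haveI := hcT
  obtain ⟨-, hlT, -, hmi, -⟩ := SolvGrp.sub_props i
  haveI := hlT
  haveI := hmi
  haveI : IsReduced T.left := GrpSchLib.isReduced_of_smooth_field T.hom
  obtain ⟨Q, _, _, -, -, q, hq, hker⟩ := SolvGrp.DerField.exists_commHom G s
  haveI := hq
  have hq1 : q = 1 := by rw [hperf Q q, Hom.one_def]
  have hnr : (SolvGrp.rangePts i).Normal := ⟨fun z hz g => by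
    obtain ⟨x, rfl⟩ := hz
    obtain ⟨y, hy⟩ := hn _ g x
    exact ⟨y, hy.symm⟩⟩
  have hfin := SolvGrp.finite_torus_inter_commutator i hT
    (fun g => SolvGrp.commute_of_normal_torus i hT hnr g)
  haveI := hfin.to_subtype
  have : Finite (𝟙_ (Over (Spec (CommRingCat.of (AlgebraicClosure ((Spec (CommRingCat.of k)).residueField s))))) ⟶ T) := by
    refine Finite.of_injective (fun x => (⟨x ≫ i, ⟨x, rfl⟩, hker _ ?_⟩ :
      {g | g ∈ SolvGrp.rangePts i ∧ g ∈ _root_.commutator _})) fun a b hab => (cancel_mono i).mp (congrArg Subtype.val hab)
    rw [hq1]
    have h1 : (Over.pullback (Red.geomPt s)).map (1 : G ⟶ Q) = 1 :=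
      map_one ((Over.pullback (Red.geomPt s)).homMonoidHom : (G ⟶ Q) →* _)
    rw [h1, MonObj.comp_one]
  exact SolvGrp.isTrivialGrp_of_pts fun x => SolvGrp.eq_one_of_finite this x

end Groth.Agent.S17098
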