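import Groth.Statements.S17099
import Groth.Agent.SolvGrp.PFinite
import Groth.Agent.SolvGrp.CentralIsogeny
import Groth.Agent.SolvGrp.TorusSepClosed
import Groth.Agent.SolvGrp.BC
-- import your own Groth.Agent.* helpers here

set_option autoImplicit false
universe u
open CategoryTheory MonoidalCategory CartesianMonoidalCategory MonObj GrpObj AlgebraicGeometry
open AGF

namespace Groth.Agent.S17099

set_option backward.isDefEq.respectTransparency false
set_option backward.isDefEq.respectTransparency.types false

open SolvGrp GrpSchLib GrpSchLib.Kunneth AGFLib AGFLib.Gen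

/-- A homomorphism to the centre whose source has no group-like functions but `1` is not a monomorphism. -/
theorem not_mono (k : Type u) [Field k] {G : Over (Spec (CommRingCat.of k))} [GrpObj G] (hG : Red.IsReductive G)
    {Z : Over (Spec (CommRingCat.of k))} [GrpObj Z] {z : Z ⟶ G} (hz : Red.IsCentre z)
    {A : Type u} [CommRing A] [HopfAlgebra k A]
    (h : ∀ (K : Type u) [Field K] [Algebra k K] (a : TensorProduct k K A), IsGroupLikeElem K a → a = 1)
    (hne : ∃ a : A, algebraMap k A (Bialgebra.counitAlgHom k A a) ≠ a)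
    (φ : (Spec (CommRingCat.of A)).asOver (Spec (CommRingCat.of k)) ⟶ Z) [IsMonHom φ] : ¬ Mono φ.left := by
  classical
  intro hm
  let s₀ := AGFLib.GeomBC.pt k
  obtain ⟨φ₀, hφ⟩ := Spec.map_surjective (Red.geomPt s₀)
  let K := AlgebraicClosure ((Spec (CommRingCat.of k)).residueField s₀)
  letI : Algebra k K := φ₀.hom.toAlgebra
  have hσ : Red.geomPt s₀ = Spec.map (CommRingCat.ofHom (algebraMap k K)) := hφ.symm
  let F := Over.pullback (Red.geomPt s₀)
  haveI : F.IsRightAdjoint := (Over.mapPullbackAdj (Red.geomPt s₀)).isRightAdjoint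
  haveI := hz.1
  haveI := hz.2.1
  have hK := hG.2.2 s₀
  haveI := hK.1
  haveI := hK.2.1
  haveI := hK.2.2.1
  haveI : IsReduced (Red.geomFibre s₀ G).left := isReduced_of_smooth_field (Red.geomFibre s₀ G).hom
  let X : Over (Spec (CommRingCat.of k)) := AffineHopf.sp k A
  obtain ⟨T, _, iT, hT⟩ := exists_maxTorus_closed (Red.geomFibre s₀ G)
  haveI := hT.1
  haveI := hT.2.1
  have hzK := isCentralizerOf_bc (Red.geomPt s₀) (𝟙 G) z hz
  have hc := (hzK.2.2 _ (F.map φ ≫ F.map z)).mp ⟨F.map φ, rfl⟩
  obtain ⟨t, ht⟩ := ((selfCent_of_isMaxTorus hK iT hT).2.2 _ (F.map φ ≫ F.map z)).mpr fun X' x h => by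
    have := hc X' x (h ≫ iT)
    rwa [F.map_id, Category.comp_id] at this
  haveI : IsMonHom t := by
    haveI : IsMonHom (F.map φ ≫ F.map z) := inferInstance
    exact ⟨(cancel_mono iT).mp (by rw [Category.assoc, ht, IsMonHom.one_hom, IsMonHom.one_hom]),
      (cancel_mono iT).mp (by
        rw [Category.assoc, ht, Category.assoc, IsMonHom.mul_hom, IsMonHom.mul_hom, ← Category.assoc,
          tensorHom_comp_tensorHom, ht])⟩
  obtain ⟨e₁⟩ := AffineHopf.nonempty_bc_iso (Red.geomPt s₀) _ hσ X
  obtain ⟨e₂⟩ := AffineHopf.nonempty_bc_sp (R := k) K A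
  have h1 : t = 1 := PFinite.hom_torus_eq_one (h K) (e₁ ≪≫ e₂) hT.2.2.1 t
  have h2 : F.map (φ ≫ z) = 1 := by rw [F.map_comp, ← ht, h1, MonObj.one_comp]
  have h3 : φ ≫ z = 1 := geomPt_map_injective s₀ (h2.trans F.map_one.symm)
  have h4 : φ = 1 := (cancel_mono z).mp (by rw [h3, MonObj.one_comp])
  haveI : Mono φ := (Over.forget _).mono_of_mono_map hm
  have h5 : 𝟙 X = 1 := (cancel_mono φ).mp (by rw [h4, Category.id_comp]; exact (MonObj.comp_one _).symm)
  obtain ⟨a, ha⟩ := hne
  refine ha ?_
  have h6 : AffineHopf.spMap (AlgHom.id k A) =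
      AffineHopf.spMap (1 : WithConv (A →ₐ[k] A)).ofConv := by
    rw [AffineHopf.spMap_id, h5, AffineHopf.spMap_eq_mapMulEquiv]
    exact (map_one Spec.mapMulEquiv).symm
  have h7 := DFunLike.congr_fun (AffineHopf.spMap_injective h6) a
  simpa [AlgHom.convOne_apply] using h7.symm

/-- Let p be a prime, k a field of characteristic p, G a reductive k-group scheme (affine, smooth,
connected reductive geometric fibre) and z : Z ⟶ G its scheme-theoretic centre. Then Z contains
neither α_p nor Z/pZ as a subgroup scheme: no homomorphism of k-group schemes from α_p (the spectrum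
of k[X]/(X^p) with X primitive) to Z is a monomorphism, and no homomorphism from the constant
k-group scheme of the cyclic group of order p to Z is a monomorphism. (Stated over every field of
characteristic p; applied over an algebraic closure of k to the base change of G, whose centre is
the base change of Z, this is the published assertion about the geometric centre.) -/
theorem result (p : ℕ) [Fact p.Prime]
    (k : Type u) [Field k] [CharP k p]
    (G : Over (Spec (CommRingCat.of k))) [GrpObj G] (hG : Red.IsReductive G)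
    (Z : Over (Spec (CommRingCat.of k))) [GrpObj Z] (z : Z ⟶ G) (hz : Red.IsCentre z) :
    (∀ (φ : (Spec (CommRingCat.of (AlphaP.A p k))).asOver (Spec (CommRingCat.of k)) ⟶ Z), IsMonHom φ → ¬ Mono φ.left) ∧
      (∀ (ψ : (Spec (CommRingCat.of (ConstGrp.F k (Multiplicative (ZMod p))))).asOver (Spec (CommRingCat.of k)) ⟶ Z),
        IsMonHom ψ → ¬ Mono ψ.left) := by
  constructor
  · intro φ hφ
    haveI := hφ
    refine not_mono k hG hz (fun K _ _ a ha => ?_) ⟨AlphaP.x p k, ?_⟩ φ
    · haveI : CharP K p := charP_of_injective_algebraMap (algebraMap k K).injective p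
      exact PFinite.groupLike_alphaP_bc p a ha
    · rw [Bialgebra.counitAlgHom_apply, AlphaP.counit_x, map_zero]
      intro h0
      have := congrArg (GrpSchLib.δ₁ p k) h0
      simp at this
  · intro ψ hψ
    haveI := hψ
    refine not_mono k hG hz (fun K _ _ a ha => ?_) ⟨ConstGrp.e k (Multiplicative.ofAdd (1 : ZMod p)), ?_⟩ ψ
    · haveI : CharP K p := charP_of_injective_algebraMap (algebraMap k K).injective p
      exact PFinite.groupLike_const_bc a ha
    · rw [Bialgebra.counitAlgHom_apply, ConstGrp.counit_apply]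
      have hne : (1 : Multiplicative (ZMod p)) ≠ Multiplicative.ofAdd (1 : ZMod p) := fun h => by
        have h0 : (0 : ZMod p) = 1 := congrArg Multiplicative.toAdd h
        exact zero_ne_one h0
      rw [ConstGrp.e_apply_of_ne hne, map_zero]
      intro h0
      have := congrFun h0 (Multiplicative.ofAdd (1 : ZMod p))
      simp at this

end Groth.Agent.S17099
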