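import Groth.Statements.S17102
import Groth.Agent.LogNCD2.Sub

set_option autoImplicit false
universe u
open CategoryTheory CategoryTheory.Limits AlgebraicGeometry
open LogNCD

namespace Groth.Agent.S17102

/-- Let f : X → S be smooth, (Ω', d) a universal receptacle for the differentials of X over S, D = (D_1,
…, D_r) a relative strict normal crossing divisor and Ω¹(log D) the pinned sheaf of differentials
with logarithmic poles, with its inclusion ι of Ω' and residues res_j : Ω¹(log D) → O_{D_j}. Then
the residue sequence 0 → Ω' → Ω¹(log D) → ⊕_{j} O_{D_j} → 0, whose second map is the map into the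
product (a finite direct sum) with components res_j, is a short exact sequence of O_X-modules. The
argument h, the vanishing of the composite, holds since every res_j ∘ ι vanishes; it is an argument
only so that the short complex can be formed. (Stated relative to an arbitrary base; the published
statement is over an algebraically closed field.) -/
theorem result {X S : Scheme.{u}} (f : X ⟶ S) [Smooth f]
    {Ω' : X.Modules} (d : OmegaSh.Der f Ω') (hd : OmegaSh.IsUniversal d)
    {r : ℕ} (D : Fin r → X.IdealSheafData) (hD : LogNCD.IsNCD D f) (Λ : LogNCD.LogMod d D)
    (h : Λ.ι ≫ Pi.lift Λ.res = 0) :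
    (ShortComplex.mk Λ.ι (Pi.lift Λ.res) h).ShortExact := by
  exact LogNCD2.shortExact_res hD Λ h


end Groth.Agent.S17102
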