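import Groth.Statements.S17140
import Groth.Agent.IsocLib.Slopes
-- import your own Groth.Agent.* helpers here

set_option autoImplicit false
universe u v
open Isoc

namespace Groth.Agent.S17140

/-- Let k be a perfect field of characteristic p, a ∈ ℤ, W = W(k) with fraction field L, and (N, F) a
σ^a-F-isocrystal over k (N finite-dimensional over L, F a bijective σ^a-semilinear endomorphism) of
height h, b an L-basis of N indexed by Fin h and d the p-adic order of the determinant coefficient
of F in b. Let M be a W-lattice in N (so (M, F|M) is a σ^a-F-crystal), n ≥ 1, r = ord_M(F) and rn =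
ord_M(F^n), i.e. F(M) ⊆ p^r M, F(M) ⊄ p^(r+1) M and similarly for F^n with rn. Then ord(F) ≤
ord(F^n)/n ≤ orddet(F)/h, that is, n · r ≤ rn and rn · h ≤ n · d. -/
theorem result (p : ℕ) [Fact p.Prime] (k : Type u) [Field k] [CharP k p] [PerfectRing k p] (a : ℤ)
    (N : Type v) [AddCommGroup N] [Module (WittVector p k) N] [Module (FractionRing (WittVector p k)) N]
    [IsScalarTower (WittVector p k) (FractionRing (WittVector p k)) N]
    (F : N →ₛₗ[Isoc.frob p k a] N) (hF : Isoc.IsIsoc F)
    (h : ℕ) (b : Module.Basis (Fin h) (FractionRing (WittVector p k)) N)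
    (d : ℤ) (hd : Isoc.IsOrdP (Isoc.detCoeff b F) d)
    (M : Submodule (WittVector p k) N) (hM : M.IsLattice (FractionRing (WittVector p k)))
    (n : ℕ) (hn : 1 ≤ n) (r rn : ℤ) (hr : Isoc.IsOrd M F 1 r) (hrn : Isoc.IsOrd M F n rn) :
    (n : ℤ) * r ≤ rn ∧ rn * h ≤ n * d := by
    have hτ := IsocLib.good_frob (p := p) (k := k) a
    refine ⟨IsocLib.le_of_isOrd F hrn ?_, by rw [mul_comm rn]; exact IsocLib.det_le hτ F b hd hM hrn.1⟩
    have := IsocLib.le_iterate F hτ hr.1 n
    rwa [one_mul, mul_comm r] at this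

end Groth.Agent.S17140
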