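import Groth.Statements.S17145
import Groth.Agent.IsocLib.Slopes
-- import your own Groth.Agent.* helpers here

set_option autoImplicit false
universe u v
open Isoc

namespace Groth.Agent.S17145

/-- Let k be a perfect field of characteristic p, a ∈ ℤ, W = W(k) with fraction field L, and (N, F) a
σ^a-F-isocrystal over k (N finite-dimensional over L, F a bijective σ^a-semilinear endomorphism)
with first Newton slope λ₁(N, F) = lam. If r ∈ ℤ and s > 0 satisfy r/s ≤ lam, then there exists a
W-lattice M in N with F^s(M) ⊆ p^r · M. (The hypothesis is the non-strict inequality λ₁ ≥ r/s, which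
is how the lemma is applied later in the section.) -/
theorem result (p : ℕ) [Fact p.Prime] (k : Type u) [Field k] [CharP k p] [PerfectRing k p] (a : ℤ)
    (N : Type v) [AddCommGroup N] [Module (WittVector p k) N] [Module (FractionRing (WittVector p k)) N]
    [IsScalarTower (WittVector p k) (FractionRing (WittVector p k)) N]
    (F : N →ₛₗ[Isoc.frob p k a] N) (hF : Isoc.IsIsoc F) (lam : ℝ) (hlam : Isoc.IsFirstSlope F lam)
    (r : ℤ) (s : ℕ) (hs : 0 < s) (hrs : (r : ℝ) / s ≤ lam) :
    ∃ M : Submodule (WittVector p k) N, M.IsLattice (FractionRing (WittVector p k)) ∧ Isoc.latImg F s M ≤ Isoc.pPow r M := by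
    haveI := hF.finite
    exact IsocLib.exists_le_pPow_of_div_le F (IsocLib.good_frob a) (Module.finBasis _ N) hlam hs hrs

end Groth.Agent.S17145
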