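import Groth.Statements.S17149
import Groth.Agent.IsocLib.Isoclinic
-- import your own Groth.Agent.* helpers here

set_option autoImplicit false
universe u v
open Isoc

namespace Groth.Agent.S17149

/-- Let k be a perfect field of characteristic p, a ∈ ℤ, W = W(k) with fraction field L, and (N, F) a
σ^a-F-isocrystal over k (N finite-dimensional over L, F a bijective σ^a-semilinear endomorphism)
that is isoclinic of slope μ (some W-lattice M, r ∈ ℤ, s > 0 with r/s = μ and F^s(M) = p^r · M).
Then for every L-subspace P of N with F(P) ⊆ P, the quotient N/P with the σ^a-semilinear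
endomorphism induced by F is again isoclinic of slope μ. -/
theorem result (p : ℕ) [Fact p.Prime] (k : Type u) [Field k] [CharP k p] [PerfectRing k p] (a : ℤ)
    (N : Type v) [AddCommGroup N] [Module (WittVector p k) N] [Module (FractionRing (WittVector p k)) N]
    [IsScalarTower (WittVector p k) (FractionRing (WittVector p k)) N]
    (F : N →ₛₗ[Isoc.frob p k a] N) (hF : Isoc.IsIsoc F) (μ : ℚ) (hμ : Isoc.IsIsoclinic F μ)
    (P : Submodule (FractionRing (WittVector p k)) N) (hP : P ≤ P.comap F) :
    Isoc.IsIsoclinic (P.mapQ P F hP) μ := by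
    have hτ := IsocLib.good_frob (p := p) (k := k) a
    obtain ⟨M, hM, r, s, hs, hr, he⟩ := hμ
    have hq : ∀ n x, (⇑(P.mapQ P F hP))^[n] (Submodule.Quotient.mk x) = Submodule.Quotient.mk ((⇑F)^[n] x) := fun n x => by
      induction n with
      | zero => rfl
      | succ n ih => rw [Function.iterate_succ_apply', Function.iterate_succ_apply', ih, Submodule.mapQ_apply]
    let π : N →ₗ[WittVector p k] N ⧸ P := P.mkQ.restrictScalars (WittVector p k)
    refine ⟨M.map π, ⟨hM.fg.map _, ?_⟩, r, s, hs, hr, ?_⟩
    · rw [Submodule.map_coe, LinearMap.coe_restrictScalars, ← Submodule.map_span, hM.span_eq_top, Submodule.map_top,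
        Submodule.range_mkQ]
    · ext x
      rw [IsocLib.mem_latImg _ hτ, IsocLib.mem_pPow]
      constructor
      · rintro ⟨_, ⟨m, hm, rfl⟩, rfl⟩
        refine ⟨_, IsocLib.mem_pPow.1 (he ▸ IsocLib.mem_latImg_of_mem F hm), ?_⟩
        exact (map_smul P.mkQ _ _).trans (congrArg _ (hq s m).symm)
      · rintro ⟨y, hy, hyx⟩
        obtain ⟨m, hm, hmy⟩ := (IsocLib.mem_latImg F hτ).1 (he.symm ▸ IsocLib.smul_mem_pPow (r := r) hy)
        refine ⟨π m, ⟨m, hm, rfl⟩, (hq s m).trans ?_⟩
        rw [hmy, Submodule.Quotient.mk_smul]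
        change (p : FractionRing (WittVector p k)) ^ r • π y = x
        rw [hyx, smul_smul, ← zpow_add₀ IsocLib.ne_zero_p, add_neg_cancel, zpow_zero, one_smul]

end Groth.Agent.S17149
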