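import Groth.Statements.S1715
import Groth.Agent.KFlatLib.Ring.DualizingSerre
import Groth.Agent.KFlatLib.Ring.DualizingDepth
-- import your own Groth.Agent.* helpers here

set_option autoImplicit false
universe u
open CategoryTheory
attribute [local instance] HasDerivedCategory.standard
open LocCoh

namespace Groth.Agent.S1715

/-- For an affine scheme: let A be a Noetherian ring with a dualizing complex and M a finite A-module
satisfying Serre's condition (S_k). Then there are only finitely many primes p such that M_p has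
depth exactly k while its support has dimension greater than k. (The source states this for coherent
modules on a Noetherian scheme with a dualizing complex.) -/
theorem result (A : Type u) [CommRing A] [IsNoetherianRing A] (hA : ∃ ω : Dual.D A, Dual.IsDualizing A ω) (M : Type u) [AddCommGroup M] [Module A M] [Module.Finite A M] (k : ℕ) (hM : LocCoh.HasSk k A M) : Set.Finite {p : PrimeSpectrum A | LocCoh.depth (Localization.AtPrime p.asIdeal) (LocalizedModule p.asIdeal.primeCompl M) = k ∧ (k : WithBot ℕ∞) < Module.supportDim (Localization.AtPrime p.asIdeal) (LocalizedModule p.asIdeal.primeCompl M)} := by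
  classical
  obtain ⟨ω, hω⟩ := hA
  obtain ⟨n, hn, -, hmono, -⟩ := KFlatLib.exists_extDegree hω
  obtain ⟨a, b, hab⟩ := KFlatLib.exists_ext_bounds hω hn M
  haveI : ∀ i : ℤ, Module.Finite A (Dual.inD A M ⟶ ω⟦i⟧) := fun i => by
    obtain ⟨a₀, b₀, -, ha₀, -⟩ := KFlatLib.exists_bounds_of_isDualizing hω
    haveI := ha₀
    exact KFlatLib.finite_hom_module ω a₀ hω.finite_cohomology M i
  refine Set.Finite.subset ((Finset.Icc a b ×ˢ Finset.Icc a b).finite_toSet.biUnion fun x _ =>
    (((Module.annihilator A (Dual.inD A M ⟶ ω⟦x.1⟧)) ⊔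
      Module.annihilator A (Dual.inD A M ⟶ ω⟦x.2⟧)).finite_minimalPrimes_of_isNoetherianRing).preimage
        (f := PrimeSpectrum.asIdeal) fun p _ q _ h => PrimeSpectrum.ext h) ?_
  rintro p ⟨hδ, hlt⟩
  have hp : p ∈ Module.support A M := by
    by_contra hcon
    rw [KFlatLib.supportDim_localized_eq_bot M p hcon] at hlt
    exact not_lt_bot hlt
  obtain ⟨δ, d, hδ', hd⟩ := KFlatLib.exists_depth_dim p M hp
  obtain rfl : δ = k := by exact_mod_cast hδ'.symm.trans hδ
  have hkd : δ < d := by rw [hd] at hlt; exact_mod_cast hlt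
  obtain ⟨-, h2, h3⟩ := KFlatLib.localized_ext_range hω hn p M δ d hδ' hd
  refine Set.mem_biUnion (x := (n p - (δ : ℤ), n p - (d : ℤ))) (Finset.mem_coe.2 (Finset.mem_product.2
    ⟨Finset.mem_Icc.2 (hab _ p h3), Finset.mem_Icc.2 (hab _ p h2)⟩)) ?_
  rw [Module.support_eq_zeroLocus] at h2 h3
  refine ⟨⟨p.isPrime, sup_le h3 h2⟩, fun r hr hrp => ?_⟩
  by_contra hne
  let q : PrimeSpectrum A := ⟨r, hr.1⟩
  have hqp : q < p := lt_of_le_not_ge hrp hne
  have hqi : q ∈ Module.support A (Dual.inD A M ⟶ ω⟦n p - δ⟧) := by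
    rw [Module.support_eq_zeroLocus]; exact le_sup_left.trans hr.2
  have hqj : q ∈ Module.support A (Dual.inD A M ⟶ ω⟦n p - d⟧) := by
    rw [Module.support_eq_zeroLocus]; exact le_sup_right.trans hr.2
  obtain ⟨δ₁, d₁, hδ₁, hd₁⟩ := KFlatLib.exists_depth_dim q M (KFlatLib.support_hom_subset M _ hqi)
  obtain ⟨g1, -, -⟩ := KFlatLib.localized_ext_range hω hn q M δ₁ d₁ hδ₁ hd₁
  have hi := g1 _ hqi
  have hj := g1 _ hqj
  haveI := q.isPrime
  have hk := (KFlatLib.min_le_depth_iff δ q M δ₁ d₁ hδ₁ hd₁).1 (hM q.asIdeal)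
  have := hmono hqp
  omega

end Groth.Agent.S1715
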