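import Groth.Statements.S17155
import Groth.Agent.IsocLib.Classify
-- import your own Groth.Agent.* helpers here

set_option autoImplicit false
universe u v
open Isoc

namespace Groth.Agent.S17155

/-- Let k be an algebraically closed field of characteristic p, a ∈ ℤ with a ≠ 0, and (N, F) a
σ^a-F-isocrystal over k. Then (N, F) is isomorphic to a finite direct sum of standard isocrystals
N_λ (λ = d/h in lowest terms, h > 0; N_λ is L^h with F e_j = e_{j+1} for j + 1 < h and F e_{h−1} =
p^d · e_0): there are t ∈ ℕ, integers d_i and natural numbers h_i > 0 with gcd(d_i, h_i) = 1 (i <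
t), and an L-linear isomorphism e from N to the product of the spaces L^{h_i} such that e ∘ F is the
product of the standard Frobenii composed with e. Moreover, for every μ ∈ ℚ, the sum of the h_i over
those i with d_i/h_i = μ equals the multiplicity m_μ of μ as a Newton slope of (N, F), i.e. the
L-dimension of the slope-μ part of N; so N_λ occurs m_λ/h(λ) times. (Both a ≠ 0 and k algebraically
closed are needed.) -/
theorem result (p : ℕ) [Fact p.Prime] (k : Type u) [Field k] [CharP k p] [PerfectRing k p] [IsAlgClosed k]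
    (a : ℤ) (ha : a ≠ 0)
    (N : Type v) [AddCommGroup N] [Module (WittVector p k) N] [Module (FractionRing (WittVector p k)) N]
    [IsScalarTower (WittVector p k) (FractionRing (WittVector p k)) N]
    (F : N →ₛₗ[Isoc.frob p k a] N) (hF : Isoc.IsIsoc F) :
    ∃ (t : ℕ) (d : Fin t → ℤ) (h : Fin t → ℕ)
      (e : N ≃ₗ[(FractionRing (WittVector p k))] ((i : Fin t) → (Fin (h i) → (FractionRing (WittVector p k))))),
      (∀ i, 0 < h i ∧ Int.gcd (d i) (h i) = 1) ∧
      (∀ (x : N) (i : Fin t), e (F x) i = Isoc.stdIsoc (Isoc.frob p k a) (d i) (h i) (e x i)) ∧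
      ∀ μ : ℚ, Isoc.newtonMult F μ = ∑ i : Fin t, (if ((d i : ℚ) / (h i : ℚ)) = μ then h i else 0) := by
  haveI := hF.finite
  obtain ⟨t, d, h, f, hdh, hf, hinj, hc, hs⟩ := IsocLib.exists_std_complement ha F hF ⊥
    (fun x hx => by rw [(Submodule.mem_bot _).1 hx, map_zero]; exact zero_mem _)
  have hsurj : Function.Surjective f := LinearMap.range_eq_top.1 (bot_sup_eq (LinearMap.range f) ▸ hc.sup_eq_top)
  let e := (LinearEquiv.ofBijective f ⟨hinj, hsurj⟩).symm
  have hef : ∀ x, e (f x) = x := fun x => (LinearEquiv.ofBijective f ⟨hinj, hsurj⟩).symm_apply_apply x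
  refine ⟨t, d, h, e, hdh, fun x i => ?_, fun μ => ?_⟩
  · obtain ⟨y, rfl⟩ := hsurj x
    rw [← hf y, hef, hef]
  classical
  let K := FractionRing (WittVector p k)
  let T : ℚ → Submodule K ((i : Fin t) → (Fin (h i) → K)) := fun ν =>
    Submodule.pi Set.univ fun i => if (d i : ℚ) / h i = ν then ⊤ else ⊥
  have hT : ∀ ν (x : (i : Fin t) → (Fin (h i) → K)), x ∈ T ν ↔ ∀ i, (d i : ℚ) / h i ≠ ν → x i = 0 := by
    intro ν x
    simp only [T, Submodule.mem_pi, Set.mem_univ, true_implies]
    refine forall_congr' fun i => ?_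
    split <;> simp_all
  let G : ℚ → Submodule K N := fun ν => (T ν).map f
  have hGS : ∀ ν, G ν ≤ Isoc.slopePart F ν := by
    intro ν
    rintro _ ⟨x, hx, rfl⟩
    rw [← Finset.univ_sum_single x, map_sum]
    refine Submodule.sum_mem _ fun i _ => ?_
    by_cases hi : (d i : ℚ) / h i = ν
    · exact hi ▸ hs i (x i)
    · rw [(hT ν x).1 hx i hi, Pi.single_zero, map_zero]; exact zero_mem _
  have hGtop : ⨆ ν, G ν = ⊤ := by
    refine eq_top_iff.2 fun y _ => ?_
    obtain ⟨x, rfl⟩ := hsurj y
    rw [← Finset.univ_sum_single x, map_sum]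
    refine Submodule.sum_mem _ fun i _ => Submodule.mem_iSup_of_mem ((d i : ℚ) / h i) ⟨_, ?_, rfl⟩
    exact (hT _ _).2 fun j hj => Pi.single_eq_of_ne (fun e => hj (by rw [e])) _
  have heq : Isoc.slopePart F μ = G μ := by
    refine le_antisymm ?_ (hGS μ)
    have h1 : G μ ⊔ (⨆ ν ≠ μ, Isoc.slopePart F ν) = ⊤ := by
      refine top_unique (hGtop.symm.le.trans (iSup_le fun ν => ?_))
      rcases eq_or_ne ν μ with rfl | hν
      · exact le_sup_left
      · exact le_sup_of_le_right ((hGS ν).trans (le_iSup₂_of_le ν hν le_rfl))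
    calc Isoc.slopePart F μ = (G μ ⊔ (⨆ ν ≠ μ, Isoc.slopePart F ν)) ⊓ Isoc.slopePart F μ := by rw [h1, top_inf_eq]
      _ = G μ ⊔ (⨆ ν ≠ μ, Isoc.slopePart F ν) ⊓ Isoc.slopePart F μ := sup_inf_assoc_of_le _ (hGS μ)
      _ = G μ := by
        rw [inf_comm, disjoint_iff.1 (IsocLib.iSupIndep_slopePart F hF (IsocLib.good_frob a) μ), sup_bot_eq]
      _ ≤ G μ := le_rfl
  let E : T μ ≃ₗ[K] ((i : {i : Fin t // (d i : ℚ) / h i = μ}) → (Fin (h i.1) → K)) :=
    { toFun := fun x i => x.1 i.1
      map_add' := fun _ _ => rfl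
      map_smul' := fun _ _ => rfl
      invFun := fun y => ⟨fun i => if hi : (d i : ℚ) / h i = μ then y ⟨i, hi⟩ else 0, (hT μ _).2 fun i hi => dif_neg hi⟩
      left_inv := fun x => Subtype.ext (funext fun i => by
        by_cases hi : (d i : ℚ) / h i = μ
        · exact dif_pos hi
        · exact (dif_neg hi).trans ((hT μ x.1).1 x.2 i hi).symm)
      right_inv := fun y => funext fun i => dif_pos i.2 }
  change Module.finrank K (Isoc.slopePart F μ) = _
  rw [heq, ← (Submodule.equivMapOfInjective f hinj (T μ)).finrank_eq, E.finrank_eq, Module.finrank_pi_fintype,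
    ← Finset.sum_filter]
  simp only [Module.finrank_fintype_fun_eq_card, Fintype.card_fin]
  exact (Finset.sum_subtype (F := inferInstance) _ (fun i => by simp) (fun i => h i)).symm

end Groth.Agent.S17155
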