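import Groth.Statements.S17157
import Groth.Agent.IsocLib.Basic
import Mathlib.FieldTheory.Finite.Basic
import Mathlib.Tactic.LinearCombination
import Mathlib.Tactic.FinCases
import Mathlib.Tactic.Abel
-- import your own Groth.Agent.* helpers here

set_option autoImplicit false
universe u
open Isoc

namespace Groth.Agent.S17157

/-- Let k be a finite field of characteristic p, W = W(k), L its fraction field with Frobenius σ, and
let U be the σ-semilinear endomorphism of L² = (Fin 2 → L) determined by U(e₀) = e₀ and U(e₁) = e₀ +
e₁ on the standard basis. Then (L², U) is an F-isocrystal in which the sub-isocrystal L · e₀ admits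
no U-stable complementary L-subspace; in particular the category of F-isocrystals over a finite
field is not semisimple. (Over an algebraically closed field a complement exists.) -/
theorem result
    (p : ℕ) [Fact p.Prime] (k : Type u) [Field k] [CharP k p] [PerfectRing k p] [Finite k]
    (U : (Fin 2 → (FractionRing (WittVector p k))) →ₛₗ[Isoc.frob p k 1] (Fin 2 → (FractionRing (WittVector p k))))
    (hU0 : U (Pi.single 0 1) = Pi.single 0 1)
    (hU1 : U (Pi.single 1 1) = Pi.single 0 1 + Pi.single 1 1)
    (Q : Submodule (FractionRing (WittVector p k)) (Fin 2 → (FractionRing (WittVector p k)))) (hQ : ∀ x ∈ Q, U x ∈ Q) :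
    ¬ IsCompl (Submodule.span (FractionRing (WittVector p k)) {(Pi.single 0 1 : Fin 2 → (FractionRing (WittVector p k)))}) Q := by
    intro hc
    set e0 : Fin 2 → (FractionRing (WittVector p k)) := Pi.single 0 1
    set e1 : Fin 2 → (FractionRing (WittVector p k)) := Pi.single 1 1
    have hdec : ∀ x : Fin 2 → (FractionRing (WittVector p k)), x = x 0 • e0 + x 1 • e1 := fun x => by
      funext i; fin_cases i <;> simp [e0, e1]
    have hU : ∀ x, U x = ((Isoc.frob p k 1) (x 0) + (Isoc.frob p k 1) (x 1)) • e0 + (Isoc.frob p k 1) (x 1) • e1 := fun x => by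
      conv_lhs => rw [hdec x]
      rw [map_add, map_smulₛₗ, map_smulₛₗ, hU0, hU1, smul_add, add_smul]
      abel
    obtain ⟨y, hy, z, hz, hyz⟩ := Submodule.mem_sup.1
      (show e1 ∈ Submodule.span (FractionRing (WittVector p k)) {e0} ⊔ Q by rw [hc.sup_eq_top]; trivial)
    obtain ⟨c, rfl⟩ := Submodule.mem_span_singleton.1 hy
    have hz0 : z 0 = -c := by have := congrFun hyz 0; simp [e0, e1] at this; linear_combination this
    have hz1 : z 1 = 1 := by have := congrFun hyz 1; simpa [e0, e1] using this
    have h0 : (Isoc.frob p k 1) (-c) + 1 = -c := by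
      have h1 : U z - z ∈ Q := sub_mem (hQ z hz) hz
      have h2 : U z - z = ((Isoc.frob p k 1) (-c) + 1 - -c) • e0 := by
        rw [hU z, hz0, hz1, map_one]
        funext i
        fin_cases i <;> simp [e0, e1, hz0, hz1]
      have h3 : U z - z = 0 := Submodule.disjoint_def.1 hc.disjoint _
        (h2 ▸ Submodule.smul_mem _ _ (Submodule.mem_span_singleton_self e0)) h1
      have h4 := congrFun (h2.symm.trans h3) 0
      simp [e0] at h4; rw [map_neg]; linear_combination h4
    have h5 : ∀ n : ℕ, (⇑(Isoc.frob p k 1))^[n] (-c) = -c - n := by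
      intro n
      induction n with
      | zero => simp
      | succ n ih => rw [Function.iterate_succ_apply', ih, map_sub, map_natCast, eq_sub_of_add_eq h0]; push_cast; ring
    haveI := Fintype.ofFinite k
    obtain ⟨m, hm⟩ : ∃ m : ℕ+, Fintype.card k = p ^ (m : ℕ) := by
      obtain ⟨m, -, hm⟩ := FiniteField.card k p
      exact ⟨m, hm⟩
    have hk : ∀ x : k, (frobenius k p)^[(m : ℕ)] x = x := fun x => by
      rw [iterate_frobenius, ← hm, FiniteField.pow_card]
    have hW : ∀ (n : ℕ) (w : WittVector p k), (⇑(Isoc.frob p k 1))^[n] (algebraMap _ (FractionRing (WittVector p k)) w) = algebraMap _ (FractionRing (WittVector p k)) (((WittVector.frobenius : WittVector p k →+* WittVector p k))^[n] w) := by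
      intro n w
      induction n with
      | zero => rfl
      | succ n ih =>
        rw [Function.iterate_succ_apply', ih, Isoc.frob_algebraMap, zpow_one, Function.iterate_succ_apply']
        rfl
    have hid : ∀ w : WittVector p k, ((WittVector.frobenius : WittVector p k →+* WittVector p k))^[(m : ℕ)] w = w := by
      intro w
      have : ∀ (n : ℕ) (i : ℕ), (((WittVector.frobenius : WittVector p k →+* WittVector p k))^[n] w).coeff i = (frobenius k p)^[n] (w.coeff i) := fun n i => by
        induction n with
        | zero => rfl
        | succ n ih =>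
          rw [Function.iterate_succ_apply', Function.iterate_succ_apply', WittVector.coeff_frobenius_charP, ih]
          rfl
      ext i
      rw [this, hk]
    obtain ⟨x, w, hw, hcw⟩ := IsFractionRing.div_surjective (WittVector p k) (-c)
    have h6 : (⇑(Isoc.frob p k 1))^[(m : ℕ)] (-c) = -c := by
      rw [← hcw, ← RingHom.coe_pow, map_div₀, RingHom.coe_pow, hW, hW, hid, hid]
    have h7 := h5 m
    rw [h6, eq_comm, sub_eq_self] at h7
    have h8 : ((m : ℕ) : WittVector p k) = 0 := by
      refine IsFractionRing.injective (WittVector p k) (FractionRing (WittVector p k)) ?_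
      rw [map_natCast, map_zero]; exact h7
    obtain ⟨e, b, hb, hmb⟩ := Nat.exists_eq_pow_mul_and_not_dvd m.pos.ne' p (Fact.out : p.Prime).ne_one
    rw [hmb, Nat.cast_mul, Nat.cast_pow, mul_eq_zero, or_iff_right (pow_ne_zero _ (WittVector.p_nonzero p k))] at h8
    refine hb ((CharP.cast_eq_zero_iff k p b).1 ?_)
    rw [← map_natCast (WittVector.constantCoeff : WittVector p k →+* k), h8, map_zero]

end Groth.Agent.S17157
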