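import Groth.Statements.S17158
import Groth.Agent.IsocLib.Decomp
import Mathlib.Algebra.DirectSum.Module
import Mathlib.LinearAlgebra.Matrix.Block
import Mathlib.Algebra.BigOperators.Finprod
-- import your own Groth.Agent.* helpers here

set_option autoImplicit false
universe u v
open Isoc

namespace Groth.Agent.S17158

/-- Let k be a perfect field of characteristic p, a ∈ ℤ, W = W(k) with fraction field L, and (N, F) a
σ^a-F-isocrystal over k of height h, with b an L-basis of N indexed by Fin h and d the p-adic order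
of the determinant coefficient of F in b. Then the Newton polygon of (N, F) ends at the point (h,
d), the end point of the Hodge polygon of any lattice: the sum over all μ ∈ ℚ of μ · m_μ, where m_μ
is the multiplicity of μ as a Newton slope (the L-dimension of the slope-μ part of N, zero for all
but finitely many μ), equals orddet(F) = d. (The comparison 'Newton polygon on or above the Hodge
polygon' of the same result is not stated here.) -/
theorem result (p : ℕ) [Fact p.Prime] (k : Type u) [Field k] [CharP k p] [PerfectRing k p] (a : ℤ)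
    (N : Type v) [AddCommGroup N] [Module (WittVector p k) N] [Module (FractionRing (WittVector p k)) N]
    [IsScalarTower (WittVector p k) (FractionRing (WittVector p k)) N]
    (F : N →ₛₗ[Isoc.frob p k a] N) (hF : Isoc.IsIsoc F)
    (h : ℕ) (b : Module.Basis (Fin h) (FractionRing (WittVector p k)) N)
    (d : ℤ) (hd : Isoc.IsOrdP (Isoc.detCoeff b F) d) :
    ∑ᶠ μ : ℚ, μ * (Isoc.newtonMult F μ : ℚ) = d := by
    classical
    have hτ := IsocLib.good_frob (p := p) (k := k) a
    haveI := hF.finite
    set K := FractionRing (WittVector p k)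
    have hind := IsocLib.iSupIndep_slopePart F hF hτ
    have hfin : {μ : ℚ | Isoc.slopePart F μ ≠ ⊥}.Finite := WellFoundedGT.finite_ne_bot_of_iSupIndep hind
    set s := hfin.toFinset
    let A : s → Submodule K N := fun μ => Isoc.slopePart F μ
    have hA : DirectSum.IsInternal A := by
      refine DirectSum.isInternal_submodule_of_iSupIndep_of_iSup_eq_top (hind.comp Subtype.val_injective) (eq_top_iff.2 ?_)
      rw [← IsocLib.iSup_slopePart F hF hτ]
      refine iSup_le fun μ => ?_
      by_cases hμ : Isoc.slopePart F μ = ⊥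
      · rw [hμ]; exact bot_le
      · exact le_iSup_of_le (f := A) ⟨μ, hfin.mem_toFinset.2 hμ⟩ le_rfl
    let m : s → ℕ := fun μ => Module.finrank K (A μ)
    let bA : ∀ μ, Module.Basis (Fin (m μ)) K (A μ) := fun μ => Module.finBasis K (A μ)
    let B := hA.collectedBasis bA
    let e : (Σ μ : s, Fin (m μ)) ≃ Fin h := B.indexEquiv b
    let Mx : Matrix (Σ μ : s, Fin (m μ)) (Σ μ : s, Fin (m μ)) K := Matrix.of fun i j => B.repr (F (B j)) i
    have hstab : ∀ μ : s, ∀ x ∈ A μ, F x ∈ A μ := fun μ => (IsocLib.slopePart_spec F hF hτ μ).1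
    have hdetA : ∀ μ : s, Isoc.IsOrdP (Isoc.detCoeff (bA μ) (F.restrict (hstab μ)))
        (((μ : ℚ) * (m μ : ℚ)).num) ∧ ((((μ : ℚ) * (m μ : ℚ)).num : ℤ) : ℚ) = (μ : ℚ) * (m μ : ℚ) := by
      intro μ
      obtain ⟨M, hM, r, t, ht, hr, he⟩ :=
        (IsocLib.isIsoclinic_restrict_iff F (hstab μ) μ).2 (IsocLib.slopePart_spec F hF hτ μ).2
      have hinj := (IsocLib.isIsoc_restrict F hF hτ (hstab μ)).bijective.1
      obtain ⟨d', hd'⟩ := IsocLib.ordP_exists (IsocLib.detCoeff_ne_zero hτ (bA μ) (F.restrict (hstab μ)) hinj)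
      have h1 : (m μ : ℤ) * r = t * d' := IsocLib.det_eq_of_eq hτ _ (bA μ) hd' hM he
      have h1' : (m μ : ℚ) * r = t * d' := by exact_mod_cast h1
      have h2 : (μ : ℚ) * (m μ : ℚ) = d' := by
        rw [← hr, div_mul_eq_mul_div, div_eq_iff (by exact_mod_cast ht.ne')]
        linear_combination h1'
      rw [h2, Rat.num_intCast]
      exact ⟨hd', rfl⟩
    have htri : Mx.BlockTriangular (fun i => i.1) := fun i j hij => by
      refine hA.collectedBasis_repr_of_mem_ne bA (i := j.1) (j := i.1) (fun he => hij.ne he) (hstab _ _ ?_)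
      exact hA.collectedBasis_mem bA j
    have hblock : ∀ μ : s, (Mx.toSquareBlock (fun i => i.1) μ).det = Isoc.detCoeff (bA μ) (F.restrict (hstab μ)) := by
      intro μ
      let ε : Fin (m μ) ≃ {i : Σ ν : s, Fin (m ν) // i.1 = μ} :=
        { toFun := fun i => ⟨⟨μ, i⟩, rfl⟩
          invFun := fun i => i.2 ▸ i.1.2
          left_inv := fun i => rfl
          right_inv := fun ⟨⟨ν, i⟩, hν⟩ => by subst hν; rfl }
      rw [← Matrix.det_submatrix_equiv_self ε, IsocLib.detCoeff_eq]
      congr 1
      ext i j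
      change B.repr (F (B ⟨μ, j⟩)) ⟨μ, i⟩ = (bA μ).repr (F.restrict (hstab μ) (bA μ j)) i
      have hB : B ⟨μ, j⟩ = (bA μ j : N) := congrFun (hA.collectedBasis_coe bA) ⟨μ, j⟩
      rw [hB, hA.collectedBasis_repr_of_mem bA (hstab μ _ (bA μ j).2)]
      rfl
    have hdet : Mx.det = Isoc.detCoeff (B.reindex e) F := by
      rw [IsocLib.detCoeff_eq, ← Matrix.det_submatrix_equiv_self e.symm Mx]
      congr 1
      ext i j
      simp [Mx, IsocLib.mat]
    have hprod : ∀ t : Finset s, Isoc.IsOrdP (∏ μ ∈ t, Isoc.detCoeff (bA μ) (F.restrict (hstab μ)))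
        (∑ μ ∈ t, ((μ : ℚ) * (m μ : ℚ)).num) := by
      intro t
      induction t using Finset.induction_on with
      | empty => exact IsocLib.ordP_one
      | insert μ t hμ ih => rw [Finset.prod_insert hμ, Finset.sum_insert hμ]; exact IsocLib.ordP_mul (hdetA μ).1 ih
    have hd2 := IsocLib.ordP_detCoeff_basis hτ b (B.reindex e) F hd
    rw [← hdet, htri.det_fintype, Finset.prod_congr rfl fun μ _ => hblock μ] at hd2
    have hsum := IsocLib.ordP_unique hd2 (hprod Finset.univ)
    rw [finsum_eq_sum_of_support_subset (fun μ : ℚ => μ * (Isoc.newtonMult F μ : ℚ)) (s := s) ?_, hsum, Int.cast_sum,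
      ← Finset.sum_coe_sort s]
    · exact Finset.sum_congr rfl fun μ _ => (hdetA μ).2.symm
    · intro μ hμ
      refine hfin.mem_toFinset.2 fun h0 => hμ ?_
      simp [Isoc.newtonMult, h0]

end Groth.Agent.S17158
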