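import Groth.Statements.S17171
import Mathlib.RingTheory.MvPowerSeries.Basic
import Mathlib.RingTheory.MvPolynomial.Homogeneous
import Mathlib.Data.Finset.Sort

set_option autoImplicit false
set_option backward.isDefEq.respectTransparency false
set_option backward.isDefEq.respectTransparency.types false
open QSymFn

namespace Groth.Agent.S17171

/-- The ring QSym of quasisymmetric functions over ℤ, with its restriction maps to the polynomial rings
in finitely many ordered variables, is the limit of the diagram S ↦ ℤ[α_s : s ∈ S] over finite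
ordered sets S and order-preserving injections (an injection φ : S → T acting by α_t ↦ α_s when t =
φ s and α_t ↦ 0 otherwise), the limit being taken in graded rings. Stated here on degree-d
components, with the variables indexed by ℕ in place of the positive integers and the finite ordered
sets taken to be the Fin n: (a) if F is a formal power series over ℤ in variables indexed by ℕ which
is quasisymmetric (for strictly increasing i, j : Fin ℓ → ℕ and positive exponents a, the
coefficients of ∏ x_{i t}^{a t} and ∏ x_{j t}^{a t} agree) and all of whose monomials have degree d,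
then its restrictions to the initial segments Fin n ⊂ ℕ are compatible with every order embedding
Fin n ↪o Fin m; (b) every family of degree-d homogeneous polynomials f n ∈ ℤ[x_s : s ∈ Fin n],
compatible with all order embeddings Fin n ↪o Fin m in this sense, is the family of restrictions of
exactly one such quasisymmetric F of degree d. -/
theorem result (d : ℕ) :
    (∀ F : MvPowerSeries ℕ ℤ,
      (∀ (ℓ : ℕ) (i j : Fin ℓ → ℕ) (a : Fin ℓ → ℕ), StrictMono i → StrictMono j → (∀ t, 0 < a t) →
        MvPowerSeries.coeff (∑ t : Fin ℓ, Finsupp.single (i t) (a t)) F =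
          MvPowerSeries.coeff (∑ t : Fin ℓ, Finsupp.single (j t) (a t)) F) →
      (∀ e : ℕ →₀ ℕ, MvPowerSeries.coeff e F ≠ 0 → e.degree = d) →
      ∀ (n m : ℕ) (φ : Fin n ↪o Fin m) (e : Fin n →₀ ℕ),
        MvPowerSeries.coeff (Finsupp.mapDomain Fin.val e) F =
          MvPowerSeries.coeff (Finsupp.mapDomain Fin.val (Finsupp.mapDomain φ e)) F) ∧
    (∀ f : (n : ℕ) → MvPolynomial (Fin n) ℤ,
      (∀ n, (f n).IsHomogeneous d) →
      (∀ (n m : ℕ) (φ : Fin n ↪o Fin m) (e : Fin n →₀ ℕ),
        MvPolynomial.coeff e (f n) = MvPolynomial.coeff (Finsupp.mapDomain φ e) (f m)) →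
      ∃! F : MvPowerSeries ℕ ℤ,
        (∀ (ℓ : ℕ) (i j : Fin ℓ → ℕ) (a : Fin ℓ → ℕ), StrictMono i → StrictMono j → (∀ t, 0 < a t) →
          MvPowerSeries.coeff (∑ t : Fin ℓ, Finsupp.single (i t) (a t)) F =
            MvPowerSeries.coeff (∑ t : Fin ℓ, Finsupp.single (j t) (a t)) F) ∧
        (∀ e : ℕ →₀ ℕ, MvPowerSeries.coeff e F ≠ 0 → e.degree = d) ∧
        (∀ (n : ℕ) (e : Fin n →₀ ℕ),
          MvPowerSeries.coeff (Finsupp.mapDomain Fin.val e) F = MvPolynomial.coeff e (f n))) := by
  classical
  have hdeg : ∀ {n : ℕ} (e : Fin n →₀ ℕ), (Finsupp.mapDomain Fin.val e).degree = e.degree := fun e => by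
    induction e using Finsupp.induction_linear with
    | zero => rw [Finsupp.mapDomain_zero]; simp
    | add a b ha hb => rw [Finsupp.mapDomain_add, map_add, map_add, ha, hb]
    | single a b => rw [Finsupp.mapDomain_single, Finsupp.degree_single, Finsupp.degree_single]
  refine ⟨fun F hF _ n m φ e => ?_, fun f hf hc => ?_⟩
  · let ι := e.support.orderEmbOfFin rfl
    have he : ∑ t : Fin e.support.card, Finsupp.single (ι t) (e (ι t)) = e := by
      conv_rhs => rw [← Finsupp.sum_single e, Finsupp.sum, ← Finset.map_orderEmbOfFin_univ e.support rfl, Finset.sum_map]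
      rfl
    have h1 := hF e.support.card (fun t => (ι t : ℕ)) (fun t => (φ (ι t) : ℕ)) (fun t => e (ι t))
      (Fin.val_strictMono.comp ι.strictMono) (Fin.val_strictMono.comp (φ.strictMono.comp ι.strictMono))
      fun t => Nat.pos_of_ne_zero (Finsupp.mem_support_iff.1 (Finset.orderEmbOfFin_mem _ rfl t))
    have h2 : ∀ {M : ℕ} (ψ : Fin n → Fin M), ∑ t : Fin e.support.card, Finsupp.single (ψ (ι t) : ℕ) (e (ι t)) =
        Finsupp.mapDomain Fin.val (Finsupp.mapDomain ψ e) := fun ψ => by
      conv_rhs => rw [← he, Finsupp.mapDomain_finsetSum, Finsupp.mapDomain_finsetSum]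
      simp only [Finsupp.mapDomain_single]
    have h3 := h2 (id : Fin n → Fin n)
    rw [Finsupp.mapDomain_id] at h3
    rw [← h3, ← h2 φ]
    exact h1
  · have hex : ∀ e : ℕ →₀ ℕ, ∃ (N : ℕ) (e' : Fin N →₀ ℕ), Finsupp.mapDomain Fin.val e' = e := fun e => by
      refine ⟨e.support.sup id + 1, e.comapDomain Fin.val Fin.val_injective.injOn, ?_⟩
      refine Finsupp.mapDomain_comapDomain _ Fin.val_injective _ fun x hx => ?_
      exact ⟨⟨x, Nat.lt_succ_of_le (Finset.le_sup (f := id) hx)⟩, rfl⟩
    choose N e' he' using hex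
    let F : MvPowerSeries ℕ ℤ := fun e => MvPolynomial.coeff (e' e) (f (N e))
    have hind : ∀ (n : ℕ) (x : Fin n →₀ ℕ), MvPowerSeries.coeff (Finsupp.mapDomain Fin.val x) F =
        MvPolynomial.coeff x (f n) := fun n x => by
      show MvPolynomial.coeff (e' _) (f (N _)) = _
      set e := Finsupp.mapDomain Fin.val x with hx
      rw [hc _ (max (N e) n) (Fin.castLEOrderEmb (le_max_left _ _)), hc n (max (N e) n) (Fin.castLEOrderEmb (le_max_right _ _))]
      congr 1
      apply Finsupp.mapDomain_injective Fin.val_injective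
      rw [← Finsupp.mapDomain_comp, ← Finsupp.mapDomain_comp]
      exact (he' e).trans hx
    refine ⟨F, ⟨fun ℓ i j a hi hj _ => ?_, fun e he => ?_, hind⟩, fun G hG => MvPowerSeries.ext fun e => ?_⟩
    · let e₀ : Fin ℓ →₀ ℕ := ∑ t : Fin ℓ, Finsupp.single t (a t)
      have key : ∀ (i : Fin ℓ → ℕ), StrictMono i → MvPowerSeries.coeff (∑ t : Fin ℓ, Finsupp.single (i t) (a t)) F =
          MvPolynomial.coeff e₀ (f ℓ) := fun i hi => by
        let M := Finset.univ.sup i + 1
        let ψ : Fin ℓ ↪o Fin M := OrderEmbedding.ofStrictMono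
          (fun t => ⟨i t, Nat.lt_succ_of_le (Finset.le_sup (Finset.mem_univ t))⟩) fun a b h => hi h
        rw [hc ℓ M ψ e₀, ← hind M (Finsupp.mapDomain ψ e₀)]
        congr 2
        rw [← Finsupp.mapDomain_comp, Finsupp.mapDomain_finsetSum]
        simp only [Finsupp.mapDomain_single]
        rfl
      rw [key i hi, key j hj]
    · rw [← he' e, hdeg, Finsupp.degree_eq_weight_one]
      exact hf _ he
    · rw [← he' e, hG.2.2, hind]

end Groth.Agent.S17171
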