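import Groth.Statements.S17175
import Mathlib.RingTheory.PowerSeries.NoZeroDivisors

set_option autoImplicit false
universe u
open CAlg

namespace Groth.Agent.S17175
open PowerSeries

open PowerSeries in
/-- Let k be a field, O₀ = k[[x, y]]/(xy) the complete local ring of a node and Õ₀ = k[[x]] × k[[y]] its
normalization, O₀ being embedded in Õ₀ by h ↦ (h(x, 0), h(0, y)) as the subring of pairs with equal
constant coefficients. Regard Õ₀ as an O₀-module: it is the rank-one torsion-free O₀-module that is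
not free. Then every O₀-linear endomorphism of this module is Õ₀-linear, i.e. it is multiplication
by a unique element of Õ₀; consequently its O₀-endomorphism ring is Õ₀ and its O₀-automorphism group
is the unit group of Õ₀. Here an O₀-linear endomorphism is an additive map of k[[X]] × k[[X]]
commuting with multiplication by every pair whose two constant coefficients agree. (The source works
over an algebraically closed field; only the field structure is used.) -/
theorem result (k : Type u) [Field k]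
    (φ : (k⟦X⟧ × k⟦X⟧) →+ (k⟦X⟧ × k⟦X⟧))
    (hφ : ∀ a s : k⟦X⟧ × k⟦X⟧, constantCoeff a.1 = constantCoeff a.2 → φ (a * s) = a * φ s) :
    ∃! b : k⟦X⟧ × k⟦X⟧, ∀ s : k⟦X⟧ × k⟦X⟧, φ s = b * s := by
  refine ⟨φ 1, ?_, fun b hb => by rw [hb 1, mul_one]⟩
  have h1 : ∀ a : k⟦X⟧ × k⟦X⟧, constantCoeff a.1 = constantCoeff a.2 → φ a = a * φ 1 := fun a ha => by
    conv_lhs => rw [← mul_one a, hφ a 1 ha]
  have key : ∀ e : k⟦X⟧ × k⟦X⟧, e * e = e → (∀ a : k⟦X⟧ × k⟦X⟧, constantCoeff a.1 = constantCoeff a.2 → a * e = 0 → a * φ e = 0) := by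
    intro e _ a ha hae
    rw [← hφ a e ha, hae, map_zero]
  have hX : (X : k⟦X⟧) ≠ 0 := X_ne_zero
  have e1 : φ (1, 0) = (1, 0) * φ 1 := by
    have ha : constantCoeff ((X, 0) : k⟦X⟧ × k⟦X⟧).1 = constantCoeff ((X, 0) : k⟦X⟧ × k⟦X⟧).2 := by simp
    have hb : constantCoeff ((0, X) : k⟦X⟧ × k⟦X⟧).1 = constantCoeff ((0, X) : k⟦X⟧ × k⟦X⟧).2 := by simp
    have u := hφ _ (1, 0) ha
    have v := hφ _ (1, 0) hb
    rw [show ((X, 0) : k⟦X⟧ × k⟦X⟧) * (1, 0) = (X, 0) by simp, h1 _ ha] at u
    rw [show ((0, X) : k⟦X⟧ × k⟦X⟧) * (1, 0) = 0 by simp, map_zero] at v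
    have u1 := congrArg Prod.fst u
    have v2 := congrArg Prod.snd v
    simp only [Prod.fst_mul, Prod.snd_mul, Prod.snd_zero] at u1 v2
    refine Prod.ext ?_ ?_
    · simpa using (mul_left_cancel₀ hX u1).symm
    · simpa using (mul_eq_zero.1 v2.symm).resolve_left hX
  have e2 : φ (0, 1) = (0, 1) * φ 1 := by
    have : ((0, 1) : k⟦X⟧ × k⟦X⟧) = 1 - (1, 0) := by ext1 <;> simp
    rw [this, map_sub, e1, sub_mul, one_mul]
  intro s
  have hC : ∀ (c : k) (e : k⟦X⟧ × k⟦X⟧), φ ((C c, C c) * e) = (C c, C c) * φ e := fun c e => hφ _ e rfl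
  have hs : s = (s.1 - C (constantCoeff s.1), s.2 - C (constantCoeff s.2)) +
      ((C (constantCoeff s.1), C (constantCoeff s.1)) * (1, 0) + (C (constantCoeff s.2), C (constantCoeff s.2)) * (0, 1)) := by
    ext1 <;> simp
  rw [hs, map_add, map_add, hC, hC, e1, e2, h1 _ (by simp)]
  ring

end Groth.Agent.S17175
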