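import Groth.Statements.S17176
import Mathlib.Tactic.Ring
import Mathlib.Tactic.LinearCombination
import Mathlib.Tactic.Linarith
import Mathlib.RingTheory.Coprime.Lemmas

set_option autoImplicit false
open Curves

namespace Groth.Agent.S17176

/-- Fix integers g ≥ 3 and d. For a complete subcurve Y of arithmetic genus g_Y of a nodal curve of
genus g, meeting the rest of the curve in k points, the lower extreme of the Basic Inequality for
line bundles of degree d is m = d(2g_Y - 2 + k)/(2g - 2) - k/2, which is an integer exactly when 2(g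
- 1) divides d(2g_Y - 2 + k) - k(g - 1). Then gcd(d - g + 1, 2g - 2) = 1 if and only if m is not an
integer for all integers g_Y, k with 0 < g_Y < g - 1, k ≥ 1 and k + 2g_Y - 2 < 2g - 2. (The row
makes explicit the bound 2g_Y - 2 + k < 2g - 2, which is automatic for subcurves of stable curves
and is satisfied by every subcurve to which the source applies the lemma; the source leaves the
ambient curve's class implicit.) -/
theorem result (g d : ℤ) (hg : 3 ≤ g) :
    Int.gcd (d - g + 1) (2 * g - 2) = 1 ↔
      ∀ gY k : ℤ, 0 < gY → gY < g - 1 → 1 ≤ k → k + 2 * gY - 2 < 2 * g - 2 →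
        ¬ (2 * (g - 1) ∣ d * (2 * gY - 2 + k) - k * (g - 1)) := by
  constructor
  · intro hgcd gY k hY1 hY2 hk hm hdvd
    have hco : IsCoprime (2 * (g - 1)) (d - g + 1) := by
      rw [show 2 * (g - 1) = 2 * g - 2 by ring]
      exact (Int.isCoprime_iff_gcd_eq_one.2 hgcd).symm
    have h : 2 * (g - 1) ∣ (d - g + 1) * (2 * gY - 2 + k) := by
      have := dvd_sub hdvd (Dvd.intro (gY - 1) rfl : 2 * (g - 1) ∣ 2 * (g - 1) * (gY - 1))
      convert! this using 1; ring
    have h2 := hco.dvd_of_dvd_mul_left h
    have := Int.le_of_dvd (by omega) h2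
    omega
  · intro h
    by_contra hne
    obtain ⟨a, ha⟩ := Int.gcd_dvd_left (d - g + 1) (2 * g - 2)
    obtain ⟨m, hm⟩ := Int.gcd_dvd_right (d - g + 1) (2 * g - 2)
    set c : ℤ := (Int.gcd (d - g + 1) (2 * g - 2) : ℤ)
    have hc : 2 ≤ c := by
      have : Int.gcd (d - g + 1) (2 * g - 2) ≠ 0 := by
        simp only [ne_eq, Int.gcd_eq_zero_iff]; omega
      omega
    have hm1 : 1 ≤ m := by by_contra; nlinarith
    have hm2 : m < 2 * g - 2 := by nlinarith
    refine h 1 m one_pos (by omega) hm1 (by omega) ⟨a, ?_⟩
    linear_combination m * ha - a * hm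

end Groth.Agent.S17176
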