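import Groth.Statements.S17177
import Groth.Agent.CurveGor18.DualCok
import Groth.Agent.CurveGor18.ConormalGen
import Groth.Agent.CurveGor18.Euler1
import Groth.Agent.GrpOmega.Section
import Groth.Agent.PnCoh.Chow.Proper
import Groth.Agent.ZClosLib.CohDescent
import Groth.Agent.NormalLib.Finite
import Groth.Agent.Synt29.LMHom
import Groth.Agent.S9524

set_option backward.isDefEq.respectTransparency false
set_option backward.isDefEq.respectTransparency.types false
set_option maxHeartbeats 1600000
-- import your own Groth.Agent.* helpers here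

set_option autoImplicit false
universe u
open CategoryTheory CategoryTheory.Limits AlgebraicGeometry
attribute [local instance] HasDerivedCategory.standard
open Curves

namespace Groth.Agent.S17177

open Groth.Agent.H23.PicMul in
/-- Let k be an algebraically closed field, r ≥ 1, and X ⊆ P^r_k a closed subscheme, cut out by a
quasi-coherent ideal sheaf I, which is a connected nodal curve: reduced, connected, of dimension
one, with at-worst-nodal singularities over k. Suppose H^1(X, O_X(1)) = 0, O_X(1) being the
pull-back of O(1). Let N = Hom_{O_X}(I/I², O_X) be the normal sheaf (the sheaf Hom, assumed to exist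
as the right adjoint of tensoring with the conormal sheaf I/I²). Then H^1(X, N) = 0. (In the paper X
is a curve of degree d ≥ 20(g - 1) and genus g ≥ 3 whose Hilbert point is semistable, for which
H^1(X, O_X(1)) = 0 holds, and the vanishing is used to conclude that the Hilbert scheme is
nonsingular of dimension r(r + 2) + 4g - 3 at the point of X; that deduction, through the
identification of the tangent space with H^0(X, N) and Riemann–Roch, is not part of this row.) -/
theorem result
    (k : Type u) [Field k] [IsAlgClosed k] (r : ℕ) (hr : 1 ≤ r)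
    (I₀ : (CohB1.ProjSpace r k).IdealSheafData) [I₀.subscheme.Over (Spec (CommRingCat.of k))]
    (hX : I₀.subscheme ↘ Spec (CommRingCat.of k) = I₀.subschemeι ≫ (CohB1.ProjSpace r k ↘ Spec (CommRingCat.of k)))
    [IsReduced I₀.subscheme] [ConnectedSpace I₀.subscheme] (hdim : topologicalKrullDim I₀.subscheme = 1)
    (hnod : Curv2.AtWorstNodal k I₀.subscheme)
    (h1 : Subsingleton (Coh.HH I₀.subscheme
      ((Scheme.Modules.pullback I₀.subschemeι).obj (Twist.twistProjSpace r k 1)) 1))
    [DCoh.HasSheafHom (Omega.conormal I₀.subschemeι)] :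
    Subsingleton (Coh.HH I₀.subscheme
      ((DCoh.sheafHom (Omega.conormal I₀.subschemeι)).obj (Coh.structureModule I₀.subscheme)) 1) := by
  let i := I₀.subschemeι
  let f := CohB1.ProjSpace.toSpec r k
  haveI : IsProper f := PnCoh.Chow.isProper_toSpec r k
  haveI hpX : IsProper (I₀.subscheme ↘ Spec (CommRingCat.of k)) := by
    rw [hX]
    exact inferInstanceAs (IsProper (i ≫ f))
  haveI : IsLocallyNoetherian (CohB1.ProjSpace r k) := LocallyOfFiniteType.isLocallyNoetherian f
  haveI : IsLocallyNoetherian I₀.subscheme :=
    LocallyOfFiniteType.isLocallyNoetherian (I₀.subscheme ↘ Spec (CommRingCat.of k))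
  obtain ⟨φ, hφ⟩ := GrpOmega.exists_conormalDiff f i _ (OmegaSh.dOmega f)
  obtain ⟨E, u, N, a, b, hE, hu, hab⟩ := CurveGor18.exists_euler_one r k
  let G := Scheme.Modules.pullback i
  have hC : Coh.IsCoh (Omega.conormal i) := NormalLib.isCoh_conormal i
  have hE' : Coh.IsCoh (G.obj E) :=
    ZClosLib.isCoh_pullback i ((QCoh.isCoh_iff_isFP).2 (QCoh.isFP_of_isFinLocFree hE))
  -- the dual of `O(-1)` on `X` is `O(1)`
  let L := G.obj (Twist.twistProjSpace r k (-1))
  have hL : PicF.IsInvertible L := PicClLib.isInvertible_pullback i (Synt29.PnEuler.isInvertible_O r k (-1))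
  have hmul : PicF.cl (G.obj (Twist.twistProjSpace r k 1)) * PicF.cl L = 1 := by
    show PicF.pullCl i (Synt29.PnEuler.tw r k 1) * PicF.pullCl i (Synt29.PnEuler.tw r k (-1)) = 1
    rw [← H23.PicMul.pullCl_mul, Synt29.PnEuler.tw_add, show (1 : ℤ) + -1 = 0 from rfl, Synt29.PnEuler.tw_zero,
      H23.PicMul.pullCl_one]
  obtain ⟨eL⟩ := H23.PicMul.cl_eq_iff.1 ((H23.PicMul.isUnit_cl hL).mul_left_injective
    ((Synt29.LMHom.cl_hom_unit hL).trans hmul.symm))
  have hEH : Subsingleton (Coh.HH I₀.subscheme ((SheafHomX.hom (G.obj E)).obj (Coh.structureModule _)) 1) :=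
    CurveGor18.subsingleton_H1_dual_sum k (fun j => G.map (a j)) (fun j => G.map (b j))
      (by
        have h := congrArg G.map hab
        rw [G.map_id, G.map_sum] at h
        rw [← h]
        exact Finset.sum_congr rfl fun j _ => (G.map_comp _ _).symm)
      (QCoh.subsingleton_HH_of_iso eL.symm 1 h1)
  -- injectivity at the generic points
  have hinj : ∀ x : I₀.subscheme, ¬ IsClosed ({x} : Set I₀.subscheme) →
      Function.Injective ((DerSch.stalkFunctor I₀.subscheme x).map (φ ≫ G.map u)).hom := fun x hx => by
    have hfld : IsField (I₀.subscheme.presheaf.stalk x) :=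
      MeroX.isField_stalk fun y hy => CurveGor18.maximal_of_not_isClosed hdim.le hx y hy
    have hs : (f.stalkMap (i x) ≫ i.stalkMap x).hom.FormallySmooth := by
      rw [← Scheme.Hom.stalkMap_comp i f x]
      haveI : LocallyOfFiniteType (i ≫ f) := inferInstance
      exact CurveGor18.formallySmooth_stalk k (i ≫ f) x hfld
    have h1' := CurveGor18.injective_stalk_conormalDiff i f _ (OmegaSh.dOmega f) (OmegaUniv.isUniversal_dOmega f) φ
      hφ x hs
    let P := KFlatLib.stalkPullbackIso i x
    let T := DerSch.stalkFunctor (CohB1.ProjSpace r k) (i x)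
    let X' := ModuleCat.extendScalars.{u, u, u} (i.stalkMap x).hom
    haveI : IsSplitMono (T.map u) := hu (i x)
    haveI : IsSplitMono (X'.map (T.map u)) := inferInstance
    have h2' : Function.Injective ((DerSch.stalkFunctor I₀.subscheme x).map (G.map u)).hom := by
      have hn : (DerSch.stalkFunctor I₀.subscheme x).map (G.map u) =
          P.hom.app _ ≫ X'.map (T.map u) ≫ P.inv.app _ := (NatIso.naturality_2 P u).symm
      rw [hn]
      let g := P.hom.app _ ≫ X'.map (T.map u) ≫ P.inv.app _
      let g' := P.hom.app _ ≫ retraction (X'.map (T.map u)) ≫ P.inv.app _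
      have hg : g ≫ g' = 𝟙 _ := by simp [g, g']
      exact Function.LeftInverse.injective (g := g'.hom) fun z => congr($hg z)
    rw [Functor.map_comp]
    exact h2'.comp h1'
  haveI := CurveGor18.subsingleton_H1_dual k hdim.le (φ ≫ G.map u) hC hE' hinj hEH
  exact QCoh.subsingleton_HH_of_iso ((S9524.sheafHomIso (Omega.conormal i)).app _) 1 ‹_›

end Groth.Agent.S17177
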