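import Groth.Statements.S17178
import Groth.Agent.PureLib.Supported

set_option autoImplicit false
universe u
open CategoryTheory CategoryTheory.Limits AlgebraicGeometry
open Curves

namespace Groth.Agent.S17178

/-- Let k be an algebraically closed field and X a nodal curve over k: proper over k, reduced,
connected, every irreducible component of dimension one, with at-worst-nodal singularities. Let J be
a coherent O_X-module which is pure of dimension one (every nonzero coherent submodule has
one-dimensional support), for instance a pure quotient with one-dimensional support of a rank-one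
torsion-free sheaf. Let U be an open subset and f a function on U vanishing at every point of U
lying in the support Y of J. Then f acts as zero on J over U: for every x ∈ U the germ of f at x
annihilates the stalk J_x. In other words the ideal sheaf of the reduced subcurve Y annihilates J,
so J is an O_Y-module; this is the first assertion in the proof that every such quotient q : I → J
of a rank-one torsion-free I factors through the torsion-free restriction of I to Y, the remaining
assertion (that the induced map is an isomorphism) not being part of this row. -/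
theorem result
    (k : Type u) [Field k] [IsAlgClosed k] (X : Scheme.{u}) [X.Over (Spec (CommRingCat.of k))]
    [IsProper (X ↘ Spec (CommRingCat.of k))] [IsReduced X] [ConnectedSpace X]
    (hequi : ∀ Z ∈ irreducibleComponents (X : Type u), topologicalKrullDim Z = 1)
    (hX : Curv2.AtWorstNodal k X)
    (J : X.Modules) (hJc : Coh.IsCoh J) (hJp : ShStab.IsPure X J 1)
    (U : X.Opens) (f : X.presheaf.obj (Opposite.op U))
    (hf : ∀ x : X, x ∈ U → x ∈ CohB1.support J → x ∉ X.basicOpen f)
    (x : X) (hx : x ∈ U) (t : J.presheaf.stalk x) :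
    (X.presheaf.germ U x hx f) • t = 0 := by
  haveI : IsLocallyNoetherian X := LocallyOfFiniteType.isLocallyNoetherian (X ↘ Spec (CommRingCat.of k))
  haveI : CompactSpace X := QuasiCompact.compactSpace_of_compactSpace (X ↘ Spec (CommRingCat.of k))
  haveI : AlgebraicGeometry.IsNoetherian X := {}
  obtain ⟨W, hxW, σ, rfl⟩ := TopCat.Presheaf.exists_germ_eq J.presheaf t
  obtain ⟨_, ⟨V, hV, rfl⟩, hxV, hle⟩ :=
    X.isBasis_affineOpens.exists_subset_of_mem_open (show x ∈ U ⊓ W from ⟨hx, hxW⟩) (U ⊓ W).2
  have hVU : V ≤ U := fun _ h => (hle h).1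
  have hVW : V ≤ W := fun _ h => (hle h).2
  let fV : Γ(X, V) := X.presheaf.map (homOfLE hVU).op f
  let s : Γ(J, V) := fV • J.presheaf.map (homOfLE hVW).op σ
  have hgerm : ∀ y (hy : y ∈ V), J.presheaf.germ V y hy s =
      X.presheaf.germ U y (hVU hy) f • J.presheaf.germ W y (hVW hy) σ := by
    intro y hy
    rw [QCoh.germ_smul', TopCat.Presheaf.germ_res_apply, TopCat.Presheaf.germ_res_apply]
  by_contra hne
  rw [← hgerm x hxV] at hne
  -- the points where `s` is nonzero are closed
  have hclosed : ∀ y (hy : y ∈ V), J.presheaf.germ V y hy s ≠ 0 → IsClosed ({y} : Set X) := by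
    intro y hy h
    by_contra hc
    apply h
    by_cases hys : y ∈ CohB1.support J
    · have hfy : y ∉ X.basicOpen fV := by
        rw [Scheme.basicOpen_res]; exact fun hb => hf y (hVU hy) hys hb.2
      rw [QCoh.germ_smul', PureLib.germ_eq_zero_of_notClosed hequi hV fV hy hc hfy, zero_smul]
    · exact (not_not.1 hys).elim _ _
  have hxc := hclosed x hxV hne
  let Bad : Set V := {y | J.presheaf.germ V y.1 y.2 s ≠ 0}
  have hBad : IsClosed Bad := by
    rw [← isOpen_compl_iff, isOpen_iff_forall_mem_open]
    intro y hy
    obtain ⟨V', hyV', i, j, e⟩ := J.presheaf.germ_eq y.1 y.2 y.2 s 0 ((not_not.1 hy).trans (map_zero _).symm)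
    refine ⟨Subtype.val ⁻¹' (V' : Set X), fun z hz => ?_, V'.2.preimage continuous_subtype_val, hyV'⟩
    simp only [Bad, Set.mem_compl_iff, Set.mem_setOf_eq, ne_eq, not_not]
    rw [← TopCat.Presheaf.germ_res_apply J.presheaf i z.1 hz s, e, map_zero, map_zero]
  haveI : TopologicalSpace.NoetherianSpace V := inferInstanceAs (TopologicalSpace.NoetherianSpace (V : Set X))
  have hfin : Bad.Finite := by
    obtain ⟨T, hTfin, hTcl, hTirr, hTeq⟩ := TopologicalSpace.NoetherianSpace.exists_finite_set_isClosed_irreducible hBad
    rw [hTeq]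
    refine hTfin.sUnion fun Z hZ => Set.Subsingleton.finite ?_
    haveI : QuasiSober V := inferInstanceAs (QuasiSober (V : Scheme.{u}))
    obtain ⟨g, hg⟩ := QuasiSober.sober (hTirr Z hZ) (hTcl Z hZ)
    have hgB : g ∈ Bad := by rw [hTeq]; exact ⟨Z, hZ, hg.mem⟩
    have hgc : IsClosed ({g} : Set V) := by
      have he : ({g} : Set V) = (fun z : V => (z : X)) ⁻¹' {g.1} := by
        ext z; exact Subtype.ext_iff
      rw [he]
      exact IsClosed.preimage continuous_subtype_val (hclosed g.1 g.2 hgB)
    rw [← hg, closure_eq_iff_isClosed.2 hgc]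
    exact Set.subsingleton_singleton
  let B' : Set X := Subtype.val '' (Bad \ {⟨x, hxV⟩})
  have hB' : IsClosed B' := by
    refine (Set.biUnion_of_singleton B') ▸ Set.Finite.isClosed_biUnion ((hfin.subset Set.sdiff_subset).image _) ?_
    rintro _ ⟨y, hy, rfl⟩
    exact hclosed y.1 y.2 hy.1
  let V' : X.Opens := V ⊓ ⟨B'ᶜ, hB'.isOpen_compl⟩
  have hxV' : x ∈ V' := ⟨hxV, fun ⟨y, hy, e⟩ => hy.2 (Subtype.ext e)⟩
  have hmem : J.presheaf.map (homOfLE (inf_le_left : V' ≤ V)).op s ∈ (PureLib.supported J {x}).mem V' := by
    intro z hz hzx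
    rw [TopCat.Presheaf.germ_res_apply]
    by_contra hzs
    exact hz.2 ⟨⟨z, hz.1⟩, ⟨hzs, fun e => hzx (congrArg Subtype.val e)⟩, rfl⟩
  obtain ⟨τ, hτ⟩ := (PureLib.supported J {x}).exists_app_eq hmem
  have hnz : ¬ IsZero (PureLib.supported J {x}).toModules := by
    intro h0
    apply hne
    have : (PureLib.supported J {x}).ι = 0 := h0.eq_of_src _ _
    rw [← TopCat.Presheaf.germ_res_apply J.presheaf (homOfLE (inf_le_left : V' ≤ V)) x hxV' s, ← hτ, this]
    exact map_zero _
  have hdim := hJp _ (PureLib.supported J {x}).ι inferInstance (PureLib.isCoh_supported hJc hxc) hnz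
  have hle0 : topologicalKrullDim ↥(CohB1.support (PureLib.supported J {x}).toModules) ≤ 0 := by
    haveI : Subsingleton ↥(CohB1.support (PureLib.supported J {x}).toModules) :=
      ⟨fun a b => Subtype.ext ((PureLib.support_supported hJc hxc a.2).trans (PureLib.support_supported hJc hxc b.2).symm)⟩
    rw [topologicalKrullDim, Order.krullDim]
    refine iSup_le fun p => ?_
    by_contra hp
    have hp0 : 0 < p.length := by
      rcases Nat.eq_zero_or_pos p.length with h | h
      · exact absurd (by rw [h]; rfl) hp
      · exact h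
    have hlt := p.step ⟨0, hp0⟩
    refine (ne_of_lt (show _ < _ from hlt)) (TopologicalSpace.IrreducibleCloseds.ext ?_)
    obtain ⟨a, ha⟩ := (p (Fin.castSucc ⟨0, hp0⟩)).2.nonempty
    obtain ⟨b, hb⟩ := (p (Fin.succ ⟨0, hp0⟩)).2.nonempty
    exact Set.Subsingleton.eq_singleton_of_mem Set.subsingleton_of_subsingleton ha |>.trans
      (Subsingleton.elim a b ▸ (Set.Subsingleton.eq_singleton_of_mem Set.subsingleton_of_subsingleton hb).symm)
  rw [hdim] at hle0
  exact absurd hle0 (by decide)

end Groth.Agent.S17178
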