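import Groth.Statements.S17180
import Groth.Agent.SurfRows.RegularFibred
import Groth.Agent.H26.InterDiv
import Groth.Agent.Lib.SurfAmple

set_option autoImplicit false
set_option backward.isDefEq.respectTransparency false
set_option backward.isDefEq.respectTransparency.types false
set_option linter.style.haveILetI false
set_option linter.unusedSectionVars false
set_option maxHeartbeats 800000
universe u
open CategoryTheory CategoryTheory.Limits AlgebraicGeometry
open Surf

namespace Groth.Agent.S17180

open CategoryTheory CategoryTheory.Limits Groth.Agent Groth.Agent.H23 Groth.Agent.SurfRows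
attribute [local instance] PicMul.clMonoid

/-- Let k be a field, X an integral proper k-scheme of dimension 2 with regular local rings which is
geometrically irreducible over k, C an integral proper smooth k-scheme of dimension 1, and f : X → C
a surjective k-morphism. Let L be an invertible O_X-module whose intersection number with every
vertical integral curve (a closed integral one-dimensional E ⊆ X sent by f to a single point) is 0,
and whose intersection number with some horizontal integral curve P (closed, integral,
one-dimensional, with f(P) not a single point) is 0. Then (L·L) ≤ 0, and if (L·L) = 0 then L is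
numerically trivial: its intersection number with every closed integral curve of X is 0. Here (L·L)
= χ(O_X) − 2χ(L) + χ(L ⊗ L) and the number with a curve Y is χ(O_Y) − χ(L ⊗ O_Y), both packaged as
FGA.intNum. (The published assertion is the positive-definiteness of the pairing −(D·D′) on classes
of divisors of degree 0 on the generic fibre modulo classes of fibre components, after tensoring
with the rationals; this row gives that content for divisor classes up to numerical equivalence,
which is what the printed argument establishes, and leaves aside the identification of the pairing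
with a canonical height. The published setting also takes X to be the relatively minimal regular
model, projective over k, of a smooth projective geometrically irreducible curve of positive genus
over the function field of C, with C projective and geometrically irreducible; this row keeps only
the hypotheses the printed argument uses.) -/
theorem result (k : Type u) [Field k]
    (X : Scheme.{u}) [X.Over (Spec (CommRingCat.of k))] [IsProper (X ↘ Spec (CommRingCat.of k))]
    [IsIntegral X] [GeometricallyIrreducible (X ↘ Spec (CommRingCat.of k))]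
    (hreg : ∀ x : X, IsRegularLocalRing (X.presheaf.stalk x)) (hdim : topologicalKrullDim X = 2)
    (C : Scheme.{u}) [C.Over (Spec (CommRingCat.of k))] [IsProper (C ↘ Spec (CommRingCat.of k))]
    [Smooth (C ↘ Spec (CommRingCat.of k))] [IsIntegral C] (hdimC : topologicalKrullDim C = 1)
    (f : X ⟶ C) [f.IsOver (Spec (CommRingCat.of k))] [Surjective f]
    (L : X.Modules) (hL : PicF.IsInvertible L)
    (hvert : ∀ (E : Scheme.{u}) (ι : E ⟶ X) [IsClosedImmersion ι] [IsIntegral E],
      topologicalKrullDim E = 1 → (Set.range (fun e : E => f (ι e))).Subsingleton →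
      FGA.intNum k X 2 ![L] ((Coh.push ι).obj (Coh.structureModule E)) = 0)
    (P : Scheme.{u}) (ιP : P ⟶ X) [IsClosedImmersion ιP] [IsIntegral P] (hP : topologicalKrullDim P = 1)
    (hPh : (Set.range (fun q : P => f (ιP q))).Nontrivial)
    (hLP : FGA.intNum k X 2 ![L] ((Coh.push ιP).obj (Coh.structureModule P)) = 0) :
    FGA.intNum k X 2 ![L, L] (Coh.structureModule X) ≤ 0 ∧
      (FGA.intNum k X 2 ![L, L] (Coh.structureModule X) = 0 →
        ∀ (Y : Scheme.{u}) (ι : Y ⟶ X) [IsClosedImmersion ι] [IsIntegral Y], topologicalKrullDim Y = 1 →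
          FGA.intNum k X 2 ![L] ((Coh.push ι).obj (Coh.structureModule Y)) = 0) := by
  haveI := CurveCohLib.isNoetherian_of_proper (k := k) (X := X)
  haveI := CurveCohLib.isNoetherian_of_proper (k := k) (X := C)
  haveI : IsProper (f ≫ (C ↘ Spec (CommRingCat.of k))) := by
    rw [comp_over f (Spec (CommRingCat.of k))]; infer_instance
  haveI : IsProper f := IsProper.of_comp f (C ↘ Spec (CommRingCat.of k))
  have hgen : f (genericPoint X) = genericPoint C := by
    obtain ⟨z, hz⟩ := f.surjective (genericPoint C)
    have h : f (genericPoint X) ⤳ genericPoint C := hz ▸ (genericPoint_specializes z).map f.continuous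
    exact (h.antisymm (genericPoint_specializes _)).eq
  haveI : Flat f := H23.CurveCorr.flat_of_dominant (C ↘ Spec (CommRingCat.of k)) hdimC.le f hgen
  obtain ⟨c, -, hc⟩ := VarDim.exists_closed_specialization (C ↘ Spec (CommRingCat.of k)) (genericPoint C)
  have hn : IsIntegrallyClosed (C.presheaf.stalk c) := by
    haveI := GrpSchLib.isRegularLocalRing_stalk_of_smooth (C ↘ Spec (CommRingCat.of k)) c
    exact RegLoc6.isIntegrallyClosed_of_isRegularLocalRing _
  have hI := CurveEmbed.isEffCartier_point k hdimC hc hn
  let J := (Scheme.IdealSheafData.vanishingIdeal ⟨{c}, hc⟩).comap f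
  have hJ : BlowUp.IsEffCartierIdeal J := S10855.result f _ hI
  have hJi := (S8914.result J).2 hJ
  have hsupp : (J.support : Set X) = f ⁻¹' {c} := by
    show (((Scheme.IdealSheafData.vanishingIdeal ⟨{c}, hc⟩).comap f).support : Set X) = _
    rw [Scheme.IdealSheafData.support_comap]
    simp
  obtain ⟨eJ⟩ := H26.InterDiv.nonempty_pullback_idealMod f _ hI hJ
  have hJJ : SurfPairing.pair k (PicF.cl (ClSub.idealMod J)) (PicF.cl (ClSub.idealMod J)) = 0 :=
    Reg.pair_eq_zero k hdim hreg hJ hJi fun E hE hE1 hEs => by
      have h := Reg.pair_pullback_point k hdim hreg f ((S8914.result _).2 hI) c hc hE hE1 (hEs.trans hsupp.le)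
      rw [PicMul.cl_eq_iff.2 ⟨eJ⟩] at h
      exact h
  have hLJ : SurfPairing.pair k (PicF.cl (ClSub.idealMod J)) (PicF.cl L) = 0 :=
    Reg.pair_eq_zero k hdim hreg hJ hL fun E hE hE1 hEs => by
      haveI := hE
      have hd : topologicalKrullDim E.subscheme = 1 := topologicalKrullDim_subscheme.trans hE1
      have hv : (Set.range fun e : E.subscheme => f (E.subschemeι e)).Subsingleton := by
        rintro _ ⟨e₁, rfl⟩ _ ⟨e₂, rfl⟩
        have h1 : f (E.subschemeι e₁) = c := hsupp.le (hEs (E.range_subschemeι.le ⟨e₁, rfl⟩))
        have h2 : f (E.subschemeι e₂) = c := hsupp.le (hEs (E.range_subschemeι.le ⟨e₂, rfl⟩))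
        exact h1.trans h2.symm
      have h := hvert E.subscheme E.subschemeι hd hv
      rw [Reg.intNum_curve k hdim hreg E.subschemeι hd hL, Scheme.IdealSheafData.ker_subschemeι] at h
      exact h
  obtain ⟨hP1, hPs, hP2⟩ := Reg.integral_ker ιP hP
  have hPi := Reg.curve_invertible k hdim hreg hP1 hP2
  rw [Reg.intNum_curve k hdim hreg ιP hP hL] at hLP
  have hsurj : ∀ b : C, ∃ q : P, f (ιP q) = b := by
    have hirr : IsIrreducible (Set.range fun q : P => f (ιP q)) := by
      rw [← Set.image_univ]
      exact (IrreducibleSpace.isIrreducible_univ _).image _ (f.continuous.comp ιP.continuous).continuousOn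
    have hcl : IsClosed (Set.range fun q : P => f (ιP q)) := by
      rw [show (fun q : P => f (ιP q)) = f ∘ ιP from rfl, Set.range_comp]
      exact f.isClosedMap _ ιP.isClosedEmbedding.isClosed_range
    obtain ⟨τ, hτ⟩ := QuasiSober.sober hirr hcl
    intro b
    by_cases hτc : IsClosed ({τ} : Set C)
    · exfalso
      rw [← hτ.def, hτc.closure_eq] at hPh
      exact Set.not_nontrivial_singleton hPh
    · obtain rfl := CurveCohLib.eq_genericPoint_of_not_isClosed hdimC hτc
      exact hτ.def.le (specializes_iff_mem_closure.1 (genericPoint_specializes b))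
  obtain ⟨q, hq⟩ := hsurj c
  have hb : 0 < SurfPairing.pair k (PicF.cl (ClSub.idealMod ιP.ker)) (PicF.cl (ClSub.idealMod J)) :=
    Reg.pair_pos_of_meet k hdim hreg hP1 hP2 hJ (fun hsub => by
      obtain ⟨x, ⟨q₁, rfl⟩, y, ⟨q₂, rfl⟩, hne⟩ := hPh
      have h1 : f (ιP q₁) = c := hsupp.le (hsub (hPs.ge ⟨q₁, rfl⟩))
      have h2 : f (ιP q₂) = c := hsupp.le (hsub (hPs.ge ⟨q₂, rfl⟩))
      exact hne (h1.trans h2.symm))
      (z := ιP q) (hPs.ge ⟨q, rfl⟩) (hsupp.ge hq)
  let a := SurfPairing.pair k (PicF.cl (ClSub.idealMod ιP.ker)) (PicF.cl (ClSub.idealMod ιP.ker))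
  let b := SurfPairing.pair k (PicF.cl (ClSub.idealMod ιP.ker)) (PicF.cl (ClSub.idealMod J))
  let m : ℕ := a.natAbs + 1
  let Jm := CohB1.tensorPow (ClSub.idealMod J) m
  have hJm : PicF.IsInvertible Jm := PicMul.isInvertible_tensorPow hJi m
  let H := CohB1.tensorMod (ClSub.idealMod ιP.ker) Jm
  have hH : PicF.IsInvertible H := PicMul.isInvertible_tensor hPi hJm
  have hpm : ∀ {M : X.Modules}, PicF.IsInvertible M →
      SurfPairing.pair k (PicF.cl M) (PicF.cl H) =
        SurfPairing.pair k (PicF.cl M) (PicF.cl (ClSub.idealMod ιP.ker)) +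
          m * SurfPairing.pair k (PicF.cl M) (PicF.cl (ClSub.idealMod J)) := fun {M} hM => by
    show SurfPairing.pair k (PicF.cl M) (PicF.cl (CohB1.tensorMod (ClSub.idealMod ιP.ker) Jm)) = _
    rw [PicMul.cl_tensor, SurfPairing.pair_mul k hdim.le hM hPi hJm, SurfAmple.pair_pow hdim.le hM hJi m]
  have hLH : SurfPairing.pair k (PicF.cl L) (PicF.cl H) = 0 := by
    rw [hpm hL, SurfPairing.pair_comm, hLP, SurfPairing.pair_comm, hLJ, mul_zero, add_zero]
  have hPH : SurfPairing.pair k (PicF.cl (ClSub.idealMod ιP.ker)) (PicF.cl H) = a + m * b := hpm hPi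
  have hHH : SurfPairing.pair k (PicF.cl H) (PicF.cl H) = a + 2 * (m * b) := by
    rw [hpm hH, SurfPairing.pair_comm k (PicF.cl H), hPH, SurfPairing.pair_comm k (PicF.cl H), hpm hJi, hJJ,
      SurfPairing.pair_comm k (PicF.cl (ClSub.idealMod J))]
    show a + m * b + m * (b + _ * 0) = _
    ring
  have hpos : 0 < a + (m : ℤ) * b := by
    have h1 : (m : ℤ) ≤ m * b := le_mul_of_one_le_right (by positivity) hb
    have h2 : (m : ℤ) = |a| + 1 := by simp [m]
    have h3 := neg_abs_le a
    linarith
  have hmb : 0 < (m : ℤ) * b := mul_pos (by positivity) hb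
  obtain ⟨H', hH', hHH'⟩ := PicInv.exists_inverse hH
  obtain ⟨L', hL', hLL'⟩ := PicInv.exists_inverse hL
  have hcH : PicF.cl H * PicF.cl H' = 1 := by
    rw [← PicMul.cl_tensor, PicMul.one_def]; exact PicMul.cl_eq_iff.2 hHH'
  have hcL : PicF.cl L * PicF.cl L' = 1 := by
    rw [← PicMul.cl_tensor, PicMul.one_def]; exact PicMul.cl_eq_iff.2 hLL'
  have hpos' : 0 < SurfPairing.pair k (PicF.cl H) (PicF.cl H) := by rw [hHH]; linarith
  rw [SurfPairing.intNum_eq_pair k hdim.le hL hL]
  have hle : SurfPairing.pair k (PicF.cl L) (PicF.cl L) ≤ 0 := by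
    by_contra hgt
    have hNT := Pic13Lib.Hodge.index_surface_proper (k := k) hdim hL hL' hH hH' hcL hcH (not_le.1 hgt)
      (by rw [SurfPairing.pair_comm]; exact hLH) hpos'.le
    have h0 := Reg.pair_of_numEquivZero k hdim hreg hH hNT ιP hP
    rw [hPH] at h0
    linarith
  refine ⟨hle, fun h0 Y ι _ _ hY => ?_⟩
  have hNT := Pic13Lib.Hodge.index_surface_proper (k := k) hdim hH hH' hL hL' hcH hcL hpos' hLH h0.ge
  rw [Reg.intNum_curve k hdim hreg ι hY hL]
  exact Reg.pair_of_numEquivZero k hdim hreg hL hNT ι hY

end Groth.Agent.S17180
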