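import Groth.Statements.S17181
import Mathlib

set_option autoImplicit false
universe u
open CategoryTheory CategoryTheory.Limits AlgebraicGeometry
open FBase

namespace Groth.Agent.S17181

open CategoryTheory.Limits

/-- Let k be a field, C an irreducible k-scheme which is geometrically irreducible over k, and f : X → C
a flat k-morphism locally of finite type with X irreducible. If the generic fibre of f is
geometrically irreducible over the residue field of the generic point of C, then X is geometrically
irreducible over k. (The published setting is a regular proper surface mapping onto a smooth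
projective geometrically irreducible curve with smooth projective geometrically irreducible generic
fibre; the printed argument uses only the hypotheses kept here.) -/
theorem result (k : Type u) [Field k]
    (X C : Scheme.{u}) [X.Over (Spec (CommRingCat.of k))] [C.Over (Spec (CommRingCat.of k))]
    (f : X ⟶ C) [f.IsOver (Spec (CommRingCat.of k))] [IrreducibleSpace X] [IrreducibleSpace C]
    [GeometricallyIrreducible (C ↘ Spec (CommRingCat.of k))] [Flat f] [LocallyOfFiniteType f]
    [GeometricallyIrreducible (f.fiberToSpecResidueField (genericPoint C))] :
    GeometricallyIrreducible (X ↘ Spec (CommRingCat.of k)) := by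
  set pC := C ↘ Spec (CommRingCat.of k)
  have hfp : f ≫ pC = X ↘ Spec (CommRingCat.of k) := CategoryTheory.comp_over f (Spec (CommRingCat.of k))
  rw [← hfp]
  refine ⟨geometrically_iff_of_isClosedUnderIsomorphisms.mpr fun K _ x => ?_⟩
  rw [← (pullbackRightPullbackFstIso pC x f).hom.homeomorph.irreducibleSpace_iff]
  let CK := pullback pC x
  let fK := pullback.snd f (pullback.fst pC x)
  haveI : Subsingleton ↥(Spec (CommRingCat.of k)) := inferInstance
  haveI : IrreducibleSpace ↥(pullback pC x) := GeometricallyIrreducible.geometrically_irreducibleSpace x _ _ (IsPullback.of_hasPullback pC x)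
  set ξ := genericPoint ↥(pullback pC x) with hξ
  haveI : Flat x := by
    obtain ⟨φ, hφ⟩ := Spec.map_surjective (R := CommRingCat.of k) (S := CommRingCat.of K) x
    rw [← hφ, Flat.SpecMap_iff]
    letI := φ.hom.toAlgebra
    exact (inferInstance : Module.Flat k K)
  have hgen : pullback.fst pC x ξ = genericPoint C := by
    haveI : Nonempty ↥(pullback pC x) := inferInstance
    obtain ⟨z', hz', hzz'⟩ : ∃ w, w ⤳ ξ ∧ pullback.fst pC x w = genericPoint C :=
      (Flat.generalizingMap (pullback.fst pC x)) ((genericPoint_spec C).specializes trivial)
    rw [← hzz', ((hz'.antisymm ((genericPoint_spec _).specializes trivial)).eq : z' = ξ)]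
  have sq := isPullback_fiberToSpecResidueField_of_isPullback (IsPullback.of_hasPullback f (pullback.fst pC x)) ξ
  haveI : GeometricallyIrreducible (f.fiberToSpecResidueField (pullback.fst pC x ξ)) := by rw [hgen]; infer_instance
  haveI : GeometricallyIrreducible (fK.fiberToSpecResidueField ξ) :=
    MorphismProperty.of_isPullback (P := @GeometricallyIrreducible) sq ‹_›
  haveI : IrreducibleSpace ↥(fK.fiber ξ) :=
    GeometricallyIrreducible.irreducibleSpace_of_subsingleton (fK.fiberToSpecResidueField ξ)
  have hirr : IsIrreducible (fK ⁻¹' {ξ}) := by
    rw [← fK.range_fiberι, ← Set.image_univ]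
    exact (IrreducibleSpace.isIrreducible_univ _).image _ (fK.fiberι ξ).continuous.continuousOn
  have hdense : closure (fK ⁻¹' {ξ}) = Set.univ := by
    refine Set.eq_univ_of_forall fun z => ?_
    obtain ⟨w, hw, hwξ⟩ := (Flat.generalizingMap fK) ((genericPoint_spec _).specializes (trivial : fK z ∈ Set.univ))
    exact closure_mono (Set.singleton_subset_iff.2 (show w ∈ fK ⁻¹' {ξ} from hwξ)) (specializes_iff_mem_closure.1 hw)
  have h := hirr.closure
  rw [hdense] at h
  exact (irreducibleSpace_def _).2 h

end Groth.Agent.S17181
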