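import Groth.Prelude.Def_EtAcyc
import Groth.Agent.HenselConn.Milnor

set_option autoImplicit false
universe u
open CategoryTheory CategoryTheory.Limits AlgebraicGeometry Opposite
open EtAcyc

namespace Groth.Agent.S17210

open Groth.Agent.HenselConn.Radicial in
theorem exists_irreducible_affine {S : Scheme.{u}} [IsNoetherian S] {O : Set S} (hO : IsOpen O) (hne : O.Nonempty) :
    ∃ V : S.Opens, (V : Set S) ⊆ O ∧ ∃ hV : IsAffineOpen V, (nilradical Γ(S, V)).IsPrime := by
  classical
  obtain ⟨p, hp⟩ := hne
  haveI : TopologicalSpace.NoetherianSpace O := TopologicalSpace.NoetherianSpace.set O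
  obtain ⟨o, ho, ⟨q, hq⟩, hoZ⟩ := TopologicalSpace.NoetherianSpace.exists_isOpen_nonempty_subset_irreducibleComponent
    (irreducibleComponent (⟨p, hp⟩ : O)) (irreducibleComponent_mem_irreducibleComponents _)
  have hirr : IsPreirreducible o :=
    isIrreducible_irreducibleComponent.2.open_subset ho hoZ
  have himg : IsOpen (Subtype.val '' o) := hO.isOpenMap_subtype_val o ho
  obtain ⟨_, ⟨V, hV, rfl⟩, hqV, hVo⟩ := S.isBasis_affineOpens.exists_subset_of_mem_open (Set.mem_image_of_mem _ hq) himg
  replace hV : IsAffineOpen V := hV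
  refine ⟨V, hVo.trans (Subtype.coe_image_subset _ _), hV, PrimeSpectrum.irreducibleSpace_iff_isPrime_nilradical.1 ?_⟩
  have h1 : IsPreirreducible (hV.fromSpec ⁻¹' (V : Set S)) :=
    ((hirr.image _ continuous_subtype_val.continuousOn).open_subset V.2 hVo).preimage
      hV.fromSpec.isOpenEmbedding
  rw [Set.preimage_eq_univ_iff.2 hV.range_fromSpec.le] at h1
  haveI : PreirreducibleSpace (PrimeSpectrum Γ(S, V)) := ⟨h1⟩
  haveI : Nonempty (PrimeSpectrum Γ(S, V)) := ⟨hV.primeIdealOf ⟨q.1, hqV⟩⟩
  exact ⟨inferInstance⟩

theorem connected_of_algClosure {X Y : Scheme.{u}} (g : X ⟶ Y) (Ω : Type u) [Field Ω]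
    (s : Spec (CommRingCat.of Ω) ⟶ Y)
    (h : ∀ s' : Spec (CommRingCat.of (AlgebraicClosure Ω)) ⟶ Y, ConnectedSpace ↥(pullback g s')) :
    ConnectedSpace ↥(pullback g s) := by
  let j : Spec (CommRingCat.of (AlgebraicClosure Ω)) ⟶ Spec (CommRingCat.of Ω) :=
    Spec.map (CommRingCat.ofHom (algebraMap Ω (AlgebraicClosure Ω)))
  haveI : Surjective j := ⟨fun x => ⟨⟨⊥, Ideal.isPrime_bot⟩, Subsingleton.elim _ _⟩⟩
  haveI := h (j ≫ s)
  let m : pullback g (j ≫ s) ⟶ pullback g s :=
    (pullbackLeftPullbackSndIso g s j).inv ≫ pullback.fst (pullback.snd g s) j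
  exact m.surjective.connectedSpace m.continuous

/-- Let S be a Noetherian scheme and f : X → S a morphism of finite type. There is a dense open U of S
such that for every morphism b : S' → S whose image lies in U and every cartesian square exhibiting
f' : X' → S' as the base change of f, all Milnor fibres of f' are nonempty and connected: for every
point x' of X', all strict henselizations R of the local ring of S' at f' x' and R' of the local
ring of X' at x' with a compatible local homomorphism R → R', and every geometric point of Spec R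
with values in a separably closed field algebraic over the residue field of a point of Spec R, the
fibre of Spec R' → Spec R at that geometric point is nonempty and connected. (Equivalently: for
every finite set E the constant sheaf E on X_U is universally locally acyclic for X_U → U, local
acyclicity of a sheaf of sets meaning that its sections over each strict localization map
bijectively to its sections over every Milnor fibre. The published statement asserts the conclusion
for f itself rather than for its restriction over U, one dense open U serving both for this and for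
the companion statement on principal covers of the Milnor fibres; in the unrestricted form it fails,
for instance for the inclusion of a closed point in the affine line over a field, whose Milnor fibre
over the generic point is empty; this row states it over U, which is what the proof gives.) -/
theorem result {X S : Scheme.{u}} (f : X ⟶ S) [IsNoetherian S]
    [LocallyOfFiniteType f] [QuasiCompact f] :
    ∃ U : S.Opens, Dense (U : Set S) ∧
      ∀ ⦃X' S' : Scheme.{u}⦄ (b : S' ⟶ S), Set.range b.base ⊆ (U : Set S) →
        ∀ (f' : X' ⟶ S') (b' : X' ⟶ X), IsPullback b' f' f b →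
          EtAcyc.OnStrictLocalizations f' (fun _ _ h => EtAcyc.GeomFibresAcyclicN Set.univ 0 h) := by
  let GoodOn : S.Opens → Prop := fun W => ∀ ⦃X₁ S₁ : Scheme.{u}⦄ (b : S₁ ⟶ S) (g₁ : X₁ ⟶ S₁) (b' : X₁ ⟶ X),
    IsPullback b' g₁ f b → ∀ (x : X₁), b (g₁ x) ∈ W →
        ∀ (RY RX : Type u) [CommRing RY] [CommRing RX] [IsLocalRing RY] [IsLocalRing RX]
          [Algebra (S₁.presheaf.stalk (g₁ x)) RY] [IsLocalHom (algebraMap (S₁.presheaf.stalk (g₁ x)) RY)]
          [Hensel.IsStrictHenselization (S₁.presheaf.stalk (g₁ x)) RY]
          [Algebra (X₁.presheaf.stalk x) RX] [IsLocalHom (algebraMap (X₁.presheaf.stalk x) RX)]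
          [Hensel.IsStrictHenselization (X₁.presheaf.stalk x) RX]
          [Algebra RY RX] [IsLocalHom (algebraMap RY RX)],
          (algebraMap RY RX).comp (algebraMap (S₁.presheaf.stalk (g₁ x)) RY) =
              (algebraMap (X₁.presheaf.stalk x) RX).comp (g₁.stalkMap x).hom →
          ∀ (Ω : Type u) [Field Ω] [IsAlgClosed Ω] (s : Spec (CommRingCat.of Ω) ⟶ Spec (CommRingCat.of RY)),
            ConnectedSpace ↥(pullback (Spec.map (CommRingCat.ofHom (algebraMap RY RX))) s)
  refine ⟨sSup {W | GoodOn W}, dense_iff_inter_open.2 fun O hO hne => ?_, ?_⟩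
  · obtain ⟨V, hVO, hV, hprime⟩ := exists_irreducible_affine hO hne
    haveI := hprime
    obtain ⟨a, ⟨z, hz⟩, hgood⟩ := Groth.Agent.HenselConn.Radicial.exists_good_basicOpen f hV
    exact ⟨z, hVO (S.basicOpen_le a hz), TopologicalSpace.Opens.mem_sSup.2 ⟨S.basicOpen a, hgood, hz⟩⟩
  · intro X' S' b hb f' b' H x RY RX _ _ _ _ _ _ _ _ _ _ _ _ hsq y Ω _ _ _ _
    obtain ⟨W, hW, hxW⟩ := TopologicalSpace.Opens.mem_sSup.1 (hb ⟨f' x, rfl⟩)
    have hc := connected_of_algClosure _ Ω (geomPt (Spec (CommRingCat.of RY)) y Ω)
      fun s' => hW b f' b' H x hxW RY RX hsq (AlgebraicClosure Ω) s'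
    exact ⟨hc.toNonempty, hc, fun _ _ _ q hq hq' => absurd (hq.trans hq') (by omega)⟩

end Groth.Agent.S17210
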