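import Groth.Statements.S17220
import Groth.Agent.H23.GammaCap.Push
-- import your own Groth.Agent.* helpers here

set_option autoImplicit false
universe u
open IntSh

namespace Groth.Agent.S17220

open CategoryTheory CategoryTheory.Limits AlgebraicGeometry in
/-- Let Y be a normal separated Noetherian integral scheme, π : X → Y a proper surjective morphism with
X Noetherian and connected, K^•(X) given through a λ-ring model acting on K_•(X) = K_0(Coh X), and
π_* : K_•(X) → K_•(Y) the proper push-forward. Fix d ≥ 0 and let ξ lie in the subgroup K_π^{(d)}(X)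
of K_•(X) generated by the classes of coherent modules whose support meets the fibre over every
point y with dim O_{Y,y} ≤ 1 in dimension at most d. Then π_*(F^{d+1} K^•(X) · ξ) lies in the first
step and π_*(F^{d+2} K^•(X) · ξ) in the second step of the coniveau filtration of K_•(Y). (X is
taken connected so that K^•(X) has a λ-ring model; the source allows any Noetherian X.) -/
theorem result
    {X Y : Scheme.{u}} [IsNoetherian X] [IsNoetherian Y] [IsIntegral Y] [Y.IsSeparated] [ConnectedSpace X]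
    (hYn : Pi1.IsNormalScheme Y) (π : X ⟶ Y) [IsProper π] [Surjective π] [HasInjectiveResolutions X.Modules]
    (d : ℕ)
    (KX : Type u) [CommRing KX] [LambdaRing.LambdaOps KX] (PX : LambdaRing.PosStructure KX)
    (φX : SGA6.Kvb X →+ KX) (hKX : KRR.IsModel X KX PX φX)
    (μ : KX →+ SGA6.Kcoh X →+ SGA6.Kcoh X) (hμ : KDet.IsCap φX μ)
    (N : ℕ) (gc : SGA6.Kcoh X →+ SGA6.Kcoh Y) (hgc : KRR.IsPushCoh π N gc)
    (ξ : SGA6.Kcoh X) (hξ : ξ ∈ KDet.Kpi π d) :
    (∀ x ∈ LambdaRing.gammaFiltration PX (d + 1), gc (μ x ξ) ∈ KDet.coniv Y 1) ∧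
      ∀ x ∈ LambdaRing.gammaFiltration PX (d + 2), gc (μ x ξ) ∈ KDet.coniv Y 2 := by
  have key : ∀ q : ℕ, 1 ≤ q → q ≤ 2 → ∀ x ∈ LambdaRing.gammaFiltration PX (d + q), gc (μ x ξ) ∈ KDet.coniv Y q := by
    intro q hq1 hq2 x hx
    refine (AddSubgroup.closure_le ((KDet.coniv Y q).comap (gc.comp (μ x)))).2 ?_ hξ
    rintro _ ⟨T, hT, rfl⟩
    refine Groth.Agent.H23.GammaCap.push_cap_mem π hKX hμ hgc hT.1 hx (fun {Z} i _ _ hr z hz => ?_)
    obtain ⟨n, hn⟩ := Groth.Agent.FlatDvr.exists_dim_eq (Y.presheaf.stalk ((i ≫ π) z))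
    rw [hn]
    by_contra hlt
    have hnq : n < q := by exact_mod_cast not_le.1 hlt
    have := Groth.Agent.H23.GammaCap.deep_le π hT i hr hz hn (by omega)
    omega
  exact ⟨key 1 le_rfl one_le_two, key 2 one_le_two le_rfl⟩

end Groth.Agent.S17220
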