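import Groth.Statements.S17221
import Groth.Agent.H23.FibGamma
import Groth.Agent.H23.LocTriv
import Groth.Agent.H23.AFProj

set_option autoImplicit false
universe u
open IntSh

namespace Groth.Agent.S17221

open CategoryTheory CategoryTheory.Limits AlgebraicGeometry in
/-- Let Y be a normal separated Noetherian integral scheme, π : X → Y a proper surjective morphism with
X Noetherian and connected, K^•(X) given through a λ-ring model acting on K_•(X) = K_0(Coh X), and
π_* : K_•(X) → K_•(Y) the proper push-forward, and det-hat : K_•(Y) → Ref¹(Y) the determinant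
homomorphism to rank-one reflexive classes. Assume π locally projective and let F be a coherent
O_X-module whose support meets every fibre of π in dimension at most d. Then for every η in F^{d+1}
K^•(X) the intersection sheaf det-hat(π_*(η · [F])) is the class of an invertible O_Y-module. (X is
taken connected so that K^•(X) has a λ-ring model; the source allows any Noetherian X.) -/
theorem result
    {X Y : Scheme.{u}} [IsNoetherian X] [IsNoetherian Y] [IsIntegral Y] [Y.IsSeparated] [ConnectedSpace X]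
    (hYn : Pi1.IsNormalScheme Y) (π : X ⟶ Y) [IsProper π] [Surjective π] [HasInjectiveResolutions X.Modules]
    (hπ : RelProj.IsLocallyProjective π)
    (F : X.Modules) (hF : Coh.IsCoh F)
    (d : ℕ) (hd : ∀ y : Y, topologicalKrullDim ↥(CohB1.support F ∩ π.base ⁻¹' {y}) ≤ (d : WithBot ℕ∞))
    (KX : Type u) [CommRing KX] [LambdaRing.LambdaOps KX] (PX : LambdaRing.PosStructure KX)
    (φX : SGA6.Kvb X →+ KX) (hKX : KRR.IsModel X KX PX φX)
    (μ : KX →+ SGA6.Kcoh X →+ SGA6.Kcoh X) (hμ : KDet.IsCap φX μ)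
    (N : ℕ) (gc : SGA6.Kcoh X →+ SGA6.Kcoh Y) (hgc : KRR.IsPushCoh π N gc)
    [RefFun.Law Y] (dh : SGA6.Kcoh Y →+ Additive (RefFun.Ref1Set Y)) (hdh : KDet.IsDetHat Y dh)
    (η : KX) (hη : η ∈ LambdaRing.gammaFiltration PX (d + 1)) :
    ∃ (L : Y.Modules) (hR : RefHull.IsRef1 L), PicF.IsInvertible L ∧
      dh (gc (μ η (KDet.clc X F))) = Additive.ofMul (RefFun.cls L hR) := by
  obtain ⟨φ, hφ⟩ := Groth.Agent.H23.WeilDet.exists_detHom (X := Y)
  refine Groth.Agent.H23.LocTriv.exists_invertible hφ hYn hdh (fun y => ?_)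
  have hη' : η ∈ Groth.Agent.H23.FibOp.Op π y μ (d + 1) :=
    Groth.Agent.H23.FibOp.gammaFiltration_le_op (π := π) (y := y)
      (fun T hT => Groth.Agent.H23.AFProj.exists_affine π hπ y T hT) μ hKX hμ (d + 1) hη
  have hF' : KDet.clc X F ∈ Groth.Agent.H23.FibOp.FF π y (0 + (d + 1)) := by
    rw [zero_add]
    exact Groth.Agent.H23.FibOp.mem_ff hF (Groth.Agent.H23.FibSmall.small_of_dim (hd y))
  refine Groth.Agent.H23.FibOp.ff_le_comap (π := π) (y := y) (e := 0) gc _ (fun G hG hs => ?_) (hη' 0 _ hF')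
  exact Groth.Agent.H23.LocTriv.push_mem hφ π hgc hG fun w hw hwy =>
    hs w (show w ∈ CohB1.support G ∩ π ⁻¹' {y} from ⟨hw, hwy⟩)

end Groth.Agent.S17221
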