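import Groth.Statements.S17222
import Groth.Agent.H23.FibLine
import Groth.Agent.H23.LocTriv

set_option autoImplicit false
universe u
open IntSh

namespace Groth.Agent.S17222

open CategoryTheory CategoryTheory.Limits AlgebraicGeometry in
/-- Let Y be a normal separated Noetherian integral scheme, π : X → Y a proper surjective morphism with
X Noetherian and connected, K^•(X) given through a λ-ring model acting on K_•(X) = K_0(Coh X), and
π_* : K_•(X) → K_•(Y) the proper push-forward, and det-hat : K_•(Y) → Ref¹(Y) the determinant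
homomorphism to rank-one reflexive classes. Let F be a coherent O_X-module whose support meets every
fibre in dimension at most d, and L_0, …, L_d invertible O_X-modules with inverses M_0, …, M_d such
that every adjunction map π^*π_*L_i → L_i is surjective. Then the intersection sheaf I_{F/Y}(L_0, …,
L_d), the image under det-hat of π_*(δ · [F]) with δ = ∏ (1 − [M_i]), is the class of an invertible
O_Y-module. (X is taken connected so that K^•(X) has a λ-ring model; the source allows any
Noetherian X.) -/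
theorem result
    {X Y : Scheme.{u}} [IsNoetherian X] [IsNoetherian Y] [IsIntegral Y] [Y.IsSeparated] [ConnectedSpace X]
    (hYn : Pi1.IsNormalScheme Y) (π : X ⟶ Y) [IsProper π] [Surjective π] [HasInjectiveResolutions X.Modules]
    (F : X.Modules) (hF : Coh.IsCoh F)
    (d : ℕ) (hd : ∀ y : Y, topologicalKrullDim ↥(CohB1.support F ∩ π.base ⁻¹' {y}) ≤ (d : WithBot ℕ∞))
    (KX : Type u) [CommRing KX] [LambdaRing.LambdaOps KX] (PX : LambdaRing.PosStructure KX)
    (φX : SGA6.Kvb X →+ KX) (hKX : KRR.IsModel X KX PX φX)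
    (μ : KX →+ SGA6.Kcoh X →+ SGA6.Kcoh X) (hμ : KDet.IsCap φX μ)
    (N : ℕ) (gc : SGA6.Kcoh X →+ SGA6.Kcoh Y) (hgc : KRR.IsPushCoh π N gc)
    [RefFun.Law Y] (dh : SGA6.Kcoh Y →+ Additive (RefFun.Ref1Set Y)) (hdh : KDet.IsDetHat Y dh)
    (L M : Fin (d + 1) → X.Modules) (hL : ∀ i, PicF.IsInvertible (L i)) (hM : ∀ i, PicF.IsInvertible (M i))
    (hLM : ∀ i, ClSub.IsInverseOf (L i) (M i))
    (hgen : ∀ i, Epi ((Scheme.Modules.pullbackPushforwardAdjunction π).counit.app (L i))) :
    ∃ (I : Y.Modules) (hR : RefHull.IsRef1 I), PicF.IsInvertible I ∧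
      dh (gc (μ (KDet.delta φX M) (KDet.clc X F))) = Additive.ofMul (RefFun.cls I hR) := by
  obtain ⟨φ, hφ⟩ := Groth.Agent.H23.WeilDet.exists_detHom (X := Y)
  refine Groth.Agent.H23.LocTriv.exists_invertible hφ hYn hdh (fun y => ?_)
  have hδ : KDet.delta φX M ∈ Groth.Agent.H23.FibOp.Op π y μ (d + 1) := by
    have := Groth.Agent.H23.FibOp.prod_mem_op (π := π) (y := y) hKX hμ Finset.univ
      (fun i => 1 - φX (KRR.cl X (M i))) fun i _ =>
        Groth.Agent.H23.FibOp.one_sub_inv_mem hKX hμ (hL i) (hM i) (hLM i)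
          (Groth.Agent.H23.FibOp.one_sub_mem_of_gen hKX hμ (hL i) (hgen i))
    simpa [KDet.delta] using this
  have hF' : KDet.clc X F ∈ Groth.Agent.H23.FibOp.FF π y (0 + (d + 1)) := by
    rw [zero_add]
    exact Groth.Agent.H23.FibOp.mem_ff hF (Groth.Agent.H23.FibSmall.small_of_dim (hd y))
  refine Groth.Agent.H23.FibOp.ff_le_comap (π := π) (y := y) (e := 0) gc _ (fun G hG hs => ?_) (hδ 0 _ hF')
  exact Groth.Agent.H23.LocTriv.push_mem hφ π hgc hG fun w hw hwy =>
    hs w (show w ∈ CohB1.support G ∩ π ⁻¹' {y} from ⟨hw, hwy⟩)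

end Groth.Agent.S17222
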