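import Groth.Statements.S17223
import Groth.Agent.H23.AcyclicRes.PushF
import Groth.Agent.H28.LamTwist
-- import your own Groth.Agent.* helpers here

set_option autoImplicit false
universe u
open IntSh

namespace Groth.Agent.S17223

open CategoryTheory CategoryTheory.Limits AlgebraicGeometry in
/-- Let π : X → Y be a projective morphism of Noetherian schemes with X and Y connected, F a coherent
O_X-module flat over Y whose support meets every fibre of π in dimension d, and assume that π is
flat or that Y carries an ample invertible module; K^•(X) and K^•(Y) are given through λ-ring models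
and π_*^F : K^•(X) → K^•(Y) denotes the push-forward on bundle classes twisted by F, det : K^•(Y) →
Pic(Y) is the determinant and π^* : K^•(Y) → K^•(X) the pull-back on bundle classes. For an
invertible O_Y-module M with inverse M' and x in F^d K^•(X), the intersection sheaf of x · δ(π^*M),
where δ(π^*M) = 1 − π^*[M'] represents the first Chern class of π^*M, is the i-th tensor power of M
with i = ε(π_*^F(x)) the relative intersection number of x: in Pic(Y) written additively, det
π_*^F(x · (1 − π^*[M'])) = ε(π_*^F(x)) • [M]. (The source lets X be an arbitrary Noetherian scheme;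
X is taken connected here so that K^•(X) has a λ-ring model with integer-valued rank.) -/
theorem result
    {X Y : Scheme.{u}} [IsNoetherian X] [IsNoetherian Y] [ConnectedSpace X] [ConnectedSpace Y] (π : X ⟶ Y)
    (hπ : RelProj.IsProjective π) [HasInjectiveResolutions X.Modules]
    (F : X.Modules) (hF : Coh.IsCoh F) (hFf : FlatMod.IsFlatOver π F)
    (d : ℕ) (hd : ∀ y : Y, topologicalKrullDim ↥(CohB1.support F ∩ π.base ⁻¹' {y}) = d)
    (hAB : Flat π ∨ ∃ H : Y.Modules, CohB1.IsAmple H)
    (KX : Type u) [CommRing KX] [LambdaRing.LambdaOps KX] (PX : LambdaRing.PosStructure KX)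
    (φX : SGA6.Kvb X →+ KX) (hKX : KRR.IsModel X KX PX φX)
    (KY : Type u) [CommRing KY] [LambdaRing.LambdaOps KY] (PY : LambdaRing.PosStructure KY)
    (φY : SGA6.Kvb Y →+ KY) (hKY : KRR.IsModel Y KY PY φY)
    (g : KX →+ KY) (hg : KDet.IsPushF π F φX φY g)
    [PicGrp.Law Y] (dt : KY →+ Additive (PicLoc.PicSet Y)) (hdt : KDet.IsDet φY dt)
    (pX : KY →+ KX) (hpX : KRR.IsPull π φY φX pX)
    (M M' : Y.Modules) (hM : PicF.IsInvertible M) (hM' : PicF.IsInvertible M') (hMM' : ClSub.IsInverseOf M M')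
    (x : KX) (hx : x ∈ LambdaRing.gammaFiltration PX d) :
    dt (g (x * (1 - pX (φY (KRR.cl Y M'))))) = (PY.aug (g x)) • Additive.ofMul (PicGrp.cls M hM) := by
  obtain ⟨hq, hp⟩ := Groth.Agent.ProjCl17.isQuasiProjective_and_isProper hπ
  haveI := hp
  have hd' : ∀ y : Y, topologicalKrullDim ↥{z : X | z ∈ CohB1.support F ∧ π.base z = y} ≤ d := fun y =>
    (hd y).le
  have hproj := Groth.Agent.H23.AcyclicRes.pushF_mul_pull π hq hAB hF hFf d hd' hKX hKY hg hpX
    x (φY (KRR.cl Y M'))
  rw [mul_sub, mul_one, map_sub, hproj]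
  generalize g x = z
  obtain ⟨a, rfl⟩ := hKY.bijective.2 z
  obtain ⟨A, B, hA, hB, rfl⟩ := Groth.Agent.H28.KvbModel.exists_sub a
  suffices key : ∀ G : Y.Modules, FlatMod.IsFinLocFree G →
      dt (φY (KRR.cl Y G) - φY (KRR.cl Y G) * φY (KRR.cl Y M')) =
        (PY.aug (φY (KRR.cl Y G))) • Additive.ofMul (PicGrp.cls M hM) by
    have hA' := key A hA
    have hB' := key B hB
    simp only [map_sub, sub_mul, sub_smul] at hA' hB' ⊢
    rw [← hA', ← hB']
    abel
  intro G hG
  obtain ⟨n, hn⟩ := Groth.Agent.H28.KvbModel.exists_rank hG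
  let L := Groth.Agent.H28.ExtBase.L G n
  have hL : PicF.IsInvertible L :=
    Groth.Agent.H28.PBCores.isInvertible_iff_rank.2 (Groth.Agent.H28.PBCores.rank_top hn)
  let P := CohB1.tensorPow M' n
  have hP : PicF.IsInvertible P := Groth.Agent.InvX.isInvertible_tensorPow hM' n
  have hPL : PicF.IsInvertible (CohB1.tensorMod P L) := Groth.Agent.H23.PicMul.isInvertible_tensor hP hL
  have lM' : FlatMod.IsFinLocFree M' :=
    Groth.Agent.H28.KvbModel.lf_of_rank (Groth.Agent.H28.PBCores.isInvertible_iff_rank.1 hM')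
  have hrank : FlatMod.IsFinLocFreeOfRank n (CohB1.tensorMod M' G) := by
    refine Groth.Agent.H28.KvbModel.rank_of_frameAt fun y => ?_
    obtain ⟨r, hr⟩ := Groth.Agent.H28.KvbModel.exists_rank
      (Groth.Agent.KFlatLib.isFinLocFree_tensor lM' hG)
    obtain rfl : r = 1 * n := Groth.Agent.H28.KvbModel.rank_tens
      (Groth.Agent.H28.PBCores.isInvertible_iff_rank.1 hM') hn hr y
    rw [one_mul] at hr
    exact Groth.Agent.H28.KvbModel.frameAt_of_rank hr y
  have h1 : φY (KRR.cl Y G) * φY (KRR.cl Y M') = φY (KRR.cl Y (CohB1.tensorMod M' G)) := by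
    rw [mul_comm, hKY.map_mul M' G lM' hG]
    rfl
  have dG := hdt n G L hL hn (Groth.Agent.H28.ExtSh.isExtPow_L n hG)
  have dMG := hdt n (CohB1.tensorMod M' G) _ hPL hrank (Groth.Agent.H28.LamTwist.isExtPow_twist hM' hG n)
  rw [map_sub, h1, dG, dMG, hKY.aug_cl n G hn, natCast_zsmul, sub_eq_iff_eq_add, ← ofMul_pow, ← ofMul_mul]
  refine congrArg Additive.ofMul (Subtype.ext ?_)
  obtain ⟨u⟩ := hMM'
  letI := Groth.Agent.H23.PicMul.clMonoid Y
  have hval : ∀ (a b : PicLoc.PicSet Y), (a * b).1 = a.1 * b.1 := fun a b => PicGrp.Law.mul_val a b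
  have hpow : ∀ (k : ℕ), ((PicGrp.cls M hM) ^ k).1 = PicF.cl M ^ k := fun k => by
    induction k with
    | zero => rw [pow_zero, pow_zero]; exact (congrArg Subtype.val (PicGrp.Law.one_eq (Y := Y))).trans Groth.Agent.H23.PicMul.one_def.symm
    | succ k ih => rw [pow_succ, pow_succ, hval, ih]; rfl
  rw [hval, hpow]
  show PicF.cl L = PicF.cl M ^ n * PicF.cl (CohB1.tensorMod P L)
  rw [Groth.Agent.H23.PicMul.cl_tensor, Groth.Agent.H23.PicMul.cl_tensorPow, ← mul_assoc, ← mul_pow]
  rw [show PicF.cl M * PicF.cl M' = 1 from (Groth.Agent.H23.PicMul.cl_tensor M M').symm.trans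
    ((Groth.Agent.H23.PicMul.cl_eq_iff.2 ⟨u⟩).trans Groth.Agent.H23.PicMul.one_def.symm), one_pow, one_mul]

end Groth.Agent.S17223
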