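import Groth.Statements.S17224
import Groth.Agent.H23.GammaCap.Push
-- import your own Groth.Agent.* helpers here

set_option autoImplicit false
universe u
open IntSh

namespace Groth.Agent.S17224

open CategoryTheory CategoryTheory.Limits AlgebraicGeometry in
/-- Let Y be a normal separated Noetherian integral scheme, π : X → Y a proper surjective morphism with
X Noetherian and connected, K^•(X) given through a λ-ring model acting on K_•(X) = K_0(Coh X), and
π_* : K_•(X) → K_•(Y) the proper push-forward. Fix d ≥ 0 and let T be a coherent O_X-module whose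
support meets the fibre over every point y with dim O_{Y,y} ≤ 1 in dimension at most d and does not
dominate Y, i.e. the image of Supp T misses the generic point of Y. Then π_*(x · [T]) lies in the
second step of the coniveau filtration of K_•(Y) for every x in F^{d+1} K^•(X). Applied to the
largest coherent submodule of a module F of this kind whose support does not dominate Y, this shows
that the intersection sheaves of F and of its torsion-free quotient over Y agree, the determinant
homomorphism to Ref¹(Y) vanishing on that second step. (X is taken connected so that K^•(X) has a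
λ-ring model; the source allows any Noetherian X.) -/
theorem result
    {X Y : Scheme.{u}} [IsNoetherian X] [IsNoetherian Y] [IsIntegral Y] [Y.IsSeparated] [ConnectedSpace X]
    (hYn : Pi1.IsNormalScheme Y) (π : X ⟶ Y) [IsProper π] [Surjective π] [HasInjectiveResolutions X.Modules]
    (d : ℕ)
    (KX : Type u) [CommRing KX] [LambdaRing.LambdaOps KX] (PX : LambdaRing.PosStructure KX)
    (φX : SGA6.Kvb X →+ KX) (hKX : KRR.IsModel X KX PX φX)
    (μ : KX →+ SGA6.Kcoh X →+ SGA6.Kcoh X) (hμ : KDet.IsCap φX μ)
    (N : ℕ) (gc : SGA6.Kcoh X →+ SGA6.Kcoh Y) (hgc : KRR.IsPushCoh π N gc)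
    (T : X.Modules) (hT : KDet.CohPi π d T)
    (hTd : genericPoint Y ∉ π.base '' CohB1.support T)
    (x : KX) (hx : x ∈ LambdaRing.gammaFiltration PX (d + 1)) :
    gc (μ x (KDet.clc X T)) ∈ KDet.coniv Y 2 := by
  refine Groth.Agent.H23.GammaCap.push_cap_mem π hKX hμ hgc hT.1 hx (fun {Z} i _ _ hr z hz => ?_)
  haveI : IsNoetherian Z := Groth.Agent.H28.PushComp.isNoetherian_of_closed i
  obtain ⟨n, hn⟩ := Groth.Agent.FlatDvr.exists_dim_eq (Y.presheaf.stalk ((i ≫ π) z))
  rw [hn]
  by_contra hlt
  have hn2 : n < 2 := by exact_mod_cast not_le.1 hlt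
  have hle := Groth.Agent.H23.GammaCap.deep_le π hT i hr hz hn (by omega)
  set y := (i ≫ π) z
  have hy : (i ≫ π) (genericPoint Z) = y := by
    by_contra hne
    have hs : (i ≫ π) (genericPoint Z) ⤳ y := (genericPoint_specializes z).map (i ≫ π).continuous
    have hne' : genericPoint Y ≠ (i ≫ π) (genericPoint Z) :=
      fun h => hTd ⟨i (genericPoint Z), hr ⟨genericPoint Z, rfl⟩, h.symm⟩
    have h2 : Groth.Agent.H23.GammaCap.Deep (Set.univ : Set Y) 2 y :=
      ⟨trivial, _, ⟨trivial, genericPoint Y, trivial, genericPoint_specializes _, hne'⟩, hs, hne⟩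
    have h3 := h2.le_dim
    rw [hn] at h3
    have : 2 ≤ n := by exact_mod_cast h3
    omega
  obtain ⟨w, -, hw⟩ := (Groth.Agent.H23.GammaCap.deep_fibre (i ≫ π) hy rfl hz).exists_map
    ((i ≫ π).fiberι y) ((i ≫ π).fiberι y).isEmbedding.isInducing
  have hy1 : ringKrullDim (Y.presheaf.stalk y) ≤ 1 := by rw [hn]; exact_mod_cast (show n ≤ 1 by omega)
  have h4 := hw.le_dim.trans ((Groth.Agent.SchTop.ringKrullDim_stalk_le w).trans
    ((Groth.Agent.H23.GammaCap.dim_fibre_le π i hr y).trans (hT.2 y hy1)))
  have : d + 1 ≤ d := by exact_mod_cast h4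
  omega

end Groth.Agent.S17224
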