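import Groth.Statements.S3788
import Groth.Agent.H28.LineTwist
import Groth.Agent.H28.KvbPull
import Groth.Agent.KZ.CycleTensor
import Groth.Agent.KFlatLib.Perfect.Top
import Groth.Agent.H28.GenPush
-- import your own Groth.Agent.* helpers here

set_option autoImplicit false
universe v u
open CategoryTheory CategoryTheory.Limits AlgebraicGeometry
attribute [local instance] HasDerivedCategory.standard
open KRR Groth.Agent Groth.Agent.H28

namespace Groth.Agent.S3788

/-- The relation satisfied by the tautological class: let X be a connected Noetherian scheme, E finite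
locally free of rank r + 1, and (π : P ⟶ X, O(1), q) its projective bundle P(E) (universal property
for invertible quotients of pull-backs of E), P connected Noetherian. With models of K(X), K(P), g =
π^K, e = [E] and ℓ = [O(1)]: Σ_{i=0}^{r+1} (-1)^i π^K(λ^i e) ℓ^{r+1-i} = 0 in K(P). -/
theorem result (X P : Scheme.{u}) [IsNoetherian X] [ConnectedSpace ↥X] [IsNoetherian P] [ConnectedSpace ↥P]
    (r : ℕ) (E : X.Modules) (hE : FlatMod.IsFinLocFreeOfRank (r + 1) E)
    (π : P ⟶ X) (O1 : P.Modules) (q : (Scheme.Modules.pullback π).obj E ⟶ O1) (hPB : KRR.IsProjBundle π E O1 q)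
    (KX : Type v) [CommRing KX] [LambdaRing.LambdaOps KX] (PX : LambdaRing.PosStructure KX) (φX : SGA6.Kvb X →+ KX) (hKX : KRR.IsModel X KX PX φX)
    (KP : Type v) [CommRing KP] [LambdaRing.LambdaOps KP] (PP : LambdaRing.PosStructure KP) (φP : SGA6.Kvb P →+ KP) (hKP : KRR.IsModel P KP PP φP)
    (g : KX →+ KP) (hg : KRR.IsPull π φX φP g) :
    ∑ i ∈ Finset.range (r + 2), (-1 : KP) ^ i * g (LambdaRing.LambdaOps.lam i (φX (KRR.cl X E))) * φP (KRR.cl P O1) ^ (r + 1 - i) = 0 := by
  haveI := hPB.epi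
  have hEl := KvbModel.lf_of_rank hE
  have hOl := KvbModel.lf_of_rank hPB.invertible
  have hπE : FlatMod.IsFinLocFree ((Scheme.Modules.pullback π).obj E) := KvbPull.lf_pull π hEl
  have hK : FlatMod.IsFinLocFree (kernel q) := KFlatLib.isFinLocFree_kernel q hπE hOl
  set ℓ := φP (KRR.cl P O1) with hℓ
  set e' := φP (KRR.cl P (kernel q)) with he'
  have hsum : g (φX (KRR.cl X E)) = e' + ℓ := by
    rw [hg E hEl, he', hℓ, ← map_add]
    exact congrArg φP (KZ.clSub_ses (P := fun M : P.Modules => FlatMod.IsFinLocFree M)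
      (KZ.kerSeq_shortExact q) hK hπE hOl)
  obtain ⟨k, hk⟩ := KvbModel.exists_rank hK
  have hk' : PP.aug e' = k := hKP.aug_cl k _ hk
  have hl1 : PP.aug ℓ = 1 := by rw [hℓ, hKP.aug_cl 1 _ hPB.invertible, Nat.cast_one]
  have hkr : k = r := by
    have h := congrArg PP.aug hsum
    rw [LineTwist.aug_pull hKP hKX hg, hKX.aug_cl _ _ hE, map_add, hk', hl1] at h
    push_cast at h
    omega
  subst hkr
  have hvan : LambdaRing.LambdaOps.lam (k + 1) e' = 0 := by
    rw [he', hKP.map_lam _ _ _ hK (ExtSh.isFinLocFree_L _ hK) (ExtSh.isExtPow_L _ hK),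
      show KRR.cl P (ExtBase.L (kernel q) (k + 1)) = 0 from
        KZ.clSub_isZero _ (KvbModel.isZero_L hk (by omega)), map_zero]
  have hline : ∀ i, 2 ≤ i → LambdaRing.LambdaOps.lam i ℓ = 0 := fun i hi =>
    PP.lam_eq_zero ℓ ((hKP.mem_pos_iff _).2 ⟨1, O1, le_rfl, hPB.invertible, rfl⟩) i (by rw [hl1]; exact_mod_cast hi)
  have hlam : ∀ i, LambdaRing.LambdaOps.lam (i + 1) (e' + ℓ) =
      LambdaRing.LambdaOps.lam (i + 1) e' + LambdaRing.LambdaOps.lam i e' * ℓ := fun i => by
    rw [LambdaRing.LambdaOps.lam_add, Finset.sum_range_succ, Finset.sum_range_succ,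
      Finset.sum_eq_zero (fun j hj => by
        rw [hline (i + 1 - j) (by rw [Finset.mem_range] at hj; omega), mul_zero])]
    rw [show i + 1 - i = 1 by omega, Nat.sub_self, LambdaRing.LambdaOps.lam_zero, LambdaRing.LambdaOps.lam_one]
    ring
  let S : ℕ → KP := fun i => (-1 : KP) ^ i * LambdaRing.LambdaOps.lam i e' * ℓ ^ (k + 1 - i)
  have hterm : ∀ i, i ≤ k → (-1 : KP) ^ (i + 1) * g (LambdaRing.LambdaOps.lam (i + 1) (φX (KRR.cl X E))) *
      ℓ ^ (k + 1 - (i + 1)) = S (i + 1) - S i := fun i hi => by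
    rw [KvbPull.map_lam hKP hKX hg, hsum, hlam]
    show _ = (-1 : KP) ^ (i + 1) * _ * _ - (-1 : KP) ^ i * _ * ℓ ^ (k + 1 - i)
    rw [show k + 1 - i = (k + 1 - (i + 1)) + 1 by omega, pow_succ ℓ, pow_succ]
    ring
  rw [Finset.sum_range_succ', Finset.sum_congr rfl fun i hi => hterm i (by rw [Finset.mem_range] at hi; omega),
    Finset.sum_range_sub S, LambdaRing.LambdaOps.lam_zero, KvbPull.map_one hKP hKX hg]
  simp only [S, hvan, LambdaRing.LambdaOps.lam_zero]
  ring

end Groth.Agent.S3788
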