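import Groth.Statements.S17231
import Groth.Agent.H23.AcyclicRes.PBPushF
import Groth.Agent.H28.PullVB
import Groth.Agent.S3788
import Groth.Agent.ProjCl17.Basic
-- import your own Groth.Agent.* helpers here

set_option autoImplicit false
universe u
open IntSh

namespace Groth.Agent.S17231

open CategoryTheory CategoryTheory.Limits AlgebraicGeometry in
/-- Let Y be a connected Noetherian scheme, E a locally free O_Y-module of rank r and π : X → Y a
projective bundle of E, i.e. X = P(E) with universal invertible quotient π^*E → O(1) (X Noetherian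
and connected, π projective and flat); let O(−1) be an inverse of O(1), D an r-th exterior power of
E (so D = det E) and D' an inverse of D. With λ-ring models of K^•(X), K^•(Y) and the push-forward
π_* on bundle classes (twisted by O_X), writing δ(O(1)) = 1 − [O(−1)], one has π_*(δ(O(1))^l) = 1
for every 0 ≤ l < r and π_*(δ(O(1))^r) = δ(det E) = 1 − [D']. (The source's further Segre-class
relation is not stated. X is taken connected, which it is for r ≥ 1 and Y connected.) -/
theorem result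
    {X Y : Scheme.{u}} [IsNoetherian X] [IsNoetherian Y] [ConnectedSpace X] [ConnectedSpace Y] (π : X ⟶ Y)
    (hπ : RelProj.IsProjective π) [Flat π] [HasInjectiveResolutions X.Modules]
    (r : ℕ) (E : Y.Modules) (hE : FlatMod.IsFinLocFreeOfRank r E)
    (O1 : X.Modules) (q : (Scheme.Modules.pullback π).obj E ⟶ O1) (hP : KRR.IsProjBundle π E O1 q)
    (Om : X.Modules) (hOm : PicF.IsInvertible Om) (hOOm : ClSub.IsInverseOf O1 Om)
    (D D' : Y.Modules) (hD : ExtPow.IsExtPow r E D) (hDi : PicF.IsInvertible D) (hD'i : PicF.IsInvertible D')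
    (hDD' : ClSub.IsInverseOf D D')
    (KX : Type u) [CommRing KX] [LambdaRing.LambdaOps KX] (PX : LambdaRing.PosStructure KX)
    (φX : SGA6.Kvb X →+ KX) (hKX : KRR.IsModel X KX PX φX)
    (KY : Type u) [CommRing KY] [LambdaRing.LambdaOps KY] (PY : LambdaRing.PosStructure KY)
    (φY : SGA6.Kvb Y →+ KY) (hKY : KRR.IsModel Y KY PY φY)
    (g : KX →+ KY) (hg : KDet.IsPushF π (Coh.structureModule X) φX φY g) :
    (∀ l : ℕ, l < r → g ((1 - φX (KRR.cl X Om)) ^ l) = 1) ∧
      g ((1 - φX (KRR.cl X Om)) ^ r) = 1 - φY (KRR.cl Y D') := by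
  obtain ⟨hq, hp⟩ := Groth.Agent.ProjCl17.isQuasiProjective_and_isProper hπ
  haveI := hp
  haveI := hP.epi
  obtain ⟨p, hpp, -⟩ := Groth.Agent.H28.PullVB.existsUnique_isPull π φX φY hKY.bijective
  have hEl := Groth.Agent.H28.KvbModel.lf_of_rank hE
  have hOl := Groth.Agent.H28.KvbModel.lf_of_rank hP.invertible
  have hπE := Groth.Agent.H28.KvbPull.lf_pull π hEl
  have hlfi : ∀ {Z : Scheme.{u}} {L : Z.Modules}, PicF.IsInvertible L → FlatMod.IsFinLocFree L := fun h =>
    Groth.Agent.H28.KvbModel.lf_of_rank (Groth.Agent.H28.PBCores.isInvertible_iff_rank.1 h)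
  have hr : 1 ≤ r := by
    by_contra h0
    have hK : FlatMod.IsFinLocFree (kernel q) := Groth.Agent.KFlatLib.isFinLocFree_kernel q hπE hOl
    obtain ⟨k, hk⟩ := Groth.Agent.H28.KvbModel.exists_rank hK
    have hsum : p (φY (KRR.cl Y E)) = φX (KRR.cl X (kernel q)) + φX (KRR.cl X O1) := by
      rw [hpp E hEl, ← map_add]
      exact congrArg φX (Groth.Agent.KZ.clSub_ses (P := fun M : X.Modules => FlatMod.IsFinLocFree M)
        (Groth.Agent.KZ.kerSeq_shortExact q) hK hπE hOl)
    have h := congrArg PX.aug hsum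
    rw [Groth.Agent.H28.LineTwist.aug_pull hKX hKY hpp, hKY.aug_cl _ _ hE, map_add, hKX.aug_cl _ _ hk,
      hKX.aug_cl _ _ hP.invertible] at h
    omega
  obtain ⟨n, rfl⟩ : ∃ n, r = n + 1 := ⟨r - 1, by omega⟩
  have hinv : ClSub.IsInverseOf Om O1 := by
    obtain ⟨e⟩ := hOOm
    obtain ⟨c⟩ := Groth.Agent.H23.PicMul.comm Om O1
    exact ⟨c ≪≫ e⟩
  obtain ⟨Dt, hD1, hD2⟩ := Groth.Agent.H28.PBBasis.exists_data hP hE Om hinv (hlfi hOm)
  set m := φX (KRR.cl X Om) with hm
  set l₁ := φX (KRR.cl X O1) with hl₁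
  have hm1 : l₁ * m = 1 := by
    rw [hl₁, hm, hKX.map_mul _ _ hOl (hlfi hOm), ← hKX.map_one]
    obtain ⟨e⟩ := hOOm
    exact congrArg φX (Groth.Agent.H28.KvbLam.cl_iso e
      (Groth.Agent.KFlatLib.isFinLocFree_tensor hOl (hlfi hOm)))
  have hval : ∀ a, a ≤ n → g (m ^ a) = if a = 0 then 1 else 0 := fun a ha => by
    have := Groth.Agent.H23.AcyclicRes.PBPushF.pushF_Oinv_pow Dt hKX hKY hg a ha
    rwa [hD2] at this
  have hbin : ∀ l : ℕ, g ((1 - m) ^ l) = ∑ a ∈ Finset.range (l + 1), ((-1) ^ a * (l.choose a : ℤ)) • g (m ^ a) :=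
    fun l => by
    rw [sub_eq_neg_add, add_pow, map_sum]
    refine Finset.sum_congr rfl fun a _ => ?_
    rw [← map_zsmul g, one_pow, mul_one, neg_pow m, zsmul_eq_mul]
    push_cast
    congr 1
    ring
  have hlow : ∀ l, l ≤ n → g ((1 - m) ^ l) = 1 := fun l hl => by
    rw [hbin, Finset.sum_eq_single 0]
    · rw [hval 0 (Nat.zero_le _), if_pos rfl]
      simp
    · intro a ha ha0
      rw [Finset.mem_range] at ha
      rw [hval a (by omega), if_neg ha0, smul_zero]
    · simp
  refine ⟨fun l hl => hlow l (by omega), ?_⟩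
  -- the relation
  have hrel := Groth.Agent.S3788.result Y X n E hE π O1 q hP KY PY φY hKY KX PX φX hKX p hpp
  rw [← hl₁] at hrel
  have hrel' : ∑ i ∈ Finset.range (n + 2),
      ((-1 : ℤ) ^ i) • (m ^ i * p (LambdaRing.LambdaOps.lam i (φY (KRR.cl Y E)))) = 0 := by
    refine Eq.trans ?_ ((congrArg (· * m ^ (n + 1)) hrel).trans (zero_mul _))
    rw [Finset.sum_mul]
    refine Finset.sum_congr rfl fun i hi => ?_
    rw [Finset.mem_range] at hi
    obtain ⟨j, hj⟩ : ∃ j, n + 1 = i + j := ⟨n + 1 - i, by omega⟩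
    rw [show n + 1 - i = j by omega, hj, pow_add, zsmul_eq_mul]
    push_cast
    calc (-1 : KX) ^ i * (m ^ i * p (LambdaRing.LambdaOps.lam i (φY (KRR.cl Y E))))
        = (-1 : KX) ^ i * (m ^ i * p (LambdaRing.LambdaOps.lam i (φY (KRR.cl Y E)))) * (l₁ * m) ^ j := by
          rw [hm1, one_pow, mul_one]
      _ = _ := by rw [mul_pow]; ring
  have hpush := congrArg g hrel'
  simp only [map_sum, map_zsmul, map_zero,
    Groth.Agent.H23.AcyclicRes.PBPushF.pushF_mul_pull Dt hq hKX hKY hg hpp] at hpush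
  rw [Finset.sum_range_succ, Finset.sum_eq_single 0, hval 0 (Nat.zero_le _), if_pos rfl,
    LambdaRing.LambdaOps.lam_zero, hKY.map_lam (n + 1) E D hEl (hlfi hDi) hD] at hpush
  · have hDD : φY (KRR.cl Y D) * φY (KRR.cl Y D') = 1 := by
      rw [hKY.map_mul _ _ (hlfi hDi) (hlfi hD'i), ← hKY.map_one]
      obtain ⟨e⟩ := hDD'
      exact congrArg φY (Groth.Agent.H28.KvbLam.cl_iso e
        (Groth.Agent.KFlatLib.isFinLocFree_tensor (hlfi hDi) (hlfi hD'i)))
    rw [hbin, Finset.sum_range_succ, Finset.sum_eq_single 0, hval 0 (Nat.zero_le _), if_pos rfl, Nat.choose_self]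
    · simp only [pow_zero, Nat.choose_zero_right, Nat.cast_one, mul_one, one_smul, zsmul_eq_mul] at hpush ⊢
      push_cast at hpush ⊢
      linear_combination φY (KRR.cl Y D') * hpush - (-1 : KY) ^ (n + 1) * g (m ^ (n + 1)) * hDD
    · intro a ha ha0
      rw [Finset.mem_range] at ha
      rw [hval a (by omega), if_neg ha0, smul_zero]
    · simp
  · intro a ha ha0
    rw [Finset.mem_range] at ha
    rw [hval a (by omega), if_neg ha0, zero_mul, smul_zero]
  · simp

end Groth.Agent.S17231
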