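import Groth.Statements.S17232
import Groth.Agent.H23.AcyclicRes.BaseChange
import Groth.Agent.H28.LamTwist
-- import your own Groth.Agent.* helpers here

set_option autoImplicit false
universe u
open IntSh

namespace Groth.Agent.S17232

open CategoryTheory CategoryTheory.Limits AlgebraicGeometry in
/-- Base change of the intersection sheaf: let π : X → Y be a projective morphism of Noetherian schemes
with X and Y connected, F a coherent O_X-module flat over Y whose support meets every fibre of π in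
dimension d, and assume that π is flat or that Y carries an ample invertible module; K^•(X) and
K^•(Y) are given through λ-ring models and π_*^F : K^•(X) → K^•(Y) denotes the push-forward on
bundle classes twisted by F; det denotes the determinant K^• → Pic on Y and on Y'. Let h : Y' → Y be
a morphism from a connected Noetherian scheme Y' which carries an ample invertible module in case π
is not flat, X' = X ×_Y Y' with projections q_1, q_2 (X' Noetherian and connected, with its own
λ-ring model), F' = q_1^*F, and q_{2*}^{F'} the push-forward on bundle classes twisted by F'. Then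
for every x in F^{d+1} K^•(X) the pull-back along h of the intersection sheaf det π_*^F(x) is the
intersection sheaf det q_{2*}^{F'}(q_1^* x) in Pic(Y'); pulling back classes along h is
multiplicative, which is carried as a hypothesis. (X and X' are taken connected so that λ-ring
models exist; the source allows any X.) -/
theorem result
    {X Y : Scheme.{u}} [IsNoetherian X] [IsNoetherian Y] [ConnectedSpace X] [ConnectedSpace Y] (π : X ⟶ Y)
    (hπ : RelProj.IsProjective π) [HasInjectiveResolutions X.Modules]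
    (F : X.Modules) (hF : Coh.IsCoh F) (hFf : FlatMod.IsFlatOver π F)
    (d : ℕ) (hd : ∀ y : Y, topologicalKrullDim ↥(CohB1.support F ∩ π.base ⁻¹' {y}) = d)
    (hAB : Flat π ∨ ∃ H : Y.Modules, CohB1.IsAmple H)
    (KX : Type u) [CommRing KX] [LambdaRing.LambdaOps KX] (PX : LambdaRing.PosStructure KX)
    (φX : SGA6.Kvb X →+ KX) (hKX : KRR.IsModel X KX PX φX)
    (KY : Type u) [CommRing KY] [LambdaRing.LambdaOps KY] (PY : LambdaRing.PosStructure KY)
    (φY : SGA6.Kvb Y →+ KY) (hKY : KRR.IsModel Y KY PY φY)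
    (g : KX →+ KY) (hg : KDet.IsPushF π F φX φY g)
    [PicGrp.Law Y] (dt : KY →+ Additive (PicLoc.PicSet Y)) (hdt : KDet.IsDet φY dt)
    {X' Y' : Scheme.{u}} [IsNoetherian X'] [IsNoetherian Y'] [ConnectedSpace X'] [ConnectedSpace Y']
    (h : Y' ⟶ Y) (q₁ : X' ⟶ X) (q₂ : X' ⟶ Y') (hsq : IsPullback q₁ q₂ π h)
    [HasInjectiveResolutions X'.Modules]
    (hB' : Flat π ∨ ∃ H' : Y'.Modules, CohB1.IsAmple H')
    (KX' : Type u) [CommRing KX'] [LambdaRing.LambdaOps KX'] (PX' : LambdaRing.PosStructure KX')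
    (φX' : SGA6.Kvb X' →+ KX') (hKX' : KRR.IsModel X' KX' PX' φX')
    (KY' : Type u) [CommRing KY'] [LambdaRing.LambdaOps KY'] (PY' : LambdaRing.PosStructure KY')
    (φY' : SGA6.Kvb Y' →+ KY') (hKY' : KRR.IsModel Y' KY' PY' φY')
    (pX : KX →+ KX') (hpX : KRR.IsPull q₁ φX φX' pX)
    (g' : KX' →+ KY') (hg' : KDet.IsPushF q₂ ((Scheme.Modules.pullback q₁).obj F) φX' φY' g')
    [PicGrp.Law Y'] (dt' : KY' →+ Additive (PicLoc.PicSet Y')) (hdt' : KDet.IsDet φY' dt')
    (hmul : PicGrp.PullMul h)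
    (x : KX) (hx : x ∈ LambdaRing.gammaFiltration PX (d + 1)) :
    PicGrp.pullHom h hmul (Additive.toMul (dt (g x))) = Additive.toMul (dt' (g' (pX x))) := by
  obtain ⟨hq, hp⟩ := Groth.Agent.ProjCl17.isQuasiProjective_and_isProper hπ
  haveI := hp
  haveI : IsProper q₂ := MorphismProperty.of_isPullback hsq hp
  clear hx
  obtain ⟨a, rfl⟩ := hKX.bijective.2 x
  apply Additive.ofMul.injective
  let P : Additive (PicLoc.PicSet Y) →+ Additive (PicLoc.PicSet Y') := (PicGrp.pullHom h hmul).toAdditive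
  show P (dt (g (φX a))) = dt' (g' (pX (φX a)))
  let h₁ : SGA6.Kvb X →+ Additive (PicLoc.PicSet Y') := P.comp (dt.comp (g.comp φX))
  let h₂ : SGA6.Kvb X →+ Additive (PicLoc.PicSet Y') := dt'.comp (g'.comp (pX.comp φX))
  suffices hmem : a ∈ (h₁ - h₂).ker from sub_eq_zero.1 hmem
  refine Groth.Agent.H23.AcyclicRes.generators_induction π hq hAB hF d (fun y => (hd y).le) _
    (fun E hE hv => sub_eq_zero.2 ?_) a
  show P (dt (g (φX (KRR.cl X E)))) = dt' (g' (pX (φX (KRR.cl X E))))
  obtain ⟨hl, hgE⟩ := Groth.Agent.H23.AcyclicRes.pushF_cl π hF hFf hg hE hv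
  obtain ⟨hR', hiso⟩ := Groth.Agent.H23.AcyclicRes.baseChange_acyclic hsq
    (Groth.Agent.CurveTensor.isCoh_tensor hE hF)
    (Groth.Agent.H23.AcyclicRes.isFlatOver_tensor_lf π hE hFf) hv
  let b := @asIso _ _ _ _ (CohBC.bc0 π h q₂ q₁ hsq.w (CohB1.tensorMod E F)) hiso
  let F' := (Scheme.Modules.pullback q₁).obj F
  have hF' : Coh.IsCoh F' :=
    ⟨Groth.Agent.QCoh.isQCoh_pullback q₁ hF.1, Groth.Agent.QCoh.isFT_pullback q₁ hF.1 hF.2⟩
  have hF'f : FlatMod.IsFlatOver q₂ F' := fun z =>
    Groth.Agent.MorLib.FlatBC.isFlatOverAt_baseChange π q₂ q₁ h hsq F z (hFf _)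
  obtain ⟨ep⟩ := Groth.Agent.H23.PicMul.pull q₁ E F
  obtain ⟨hl', hgE'⟩ := Groth.Agent.H23.AcyclicRes.pushF_cl q₂ hF' hF'f hg'
    (Groth.Agent.H28.KvbPull.lf_pull q₁ hE) (fun p hp => Groth.Agent.H28.RKoszul.rz_of_iso q₂ ep p (hR' p hp))
  let V := (Coh.push π).obj (CohB1.tensorMod E F)
  let e : (Coh.push q₂).obj (CohB1.tensorMod ((Scheme.Modules.pullback q₁).obj E) F') ≅
      (Scheme.Modules.pullback h).obj V :=
    ((Coh.push q₂).mapIso ep).symm ≪≫ b.symm
  obtain ⟨n, hn⟩ := Groth.Agent.H28.KvbModel.exists_rank (E := V) hl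
  have hL : PicF.IsInvertible (Groth.Agent.H28.ExtBase.L V n) :=
    Groth.Agent.H28.PBCores.isInvertible_iff_rank.2 (Groth.Agent.H28.PBCores.rank_top hn)
  have hn' := Groth.Agent.H28.LineTwist.rank_pull h hn
  have hL' : PicF.IsInvertible (Groth.Agent.H28.ExtBase.L ((Scheme.Modules.pullback h).obj V) n) :=
    Groth.Agent.H28.PBCores.isInvertible_iff_rank.2 (Groth.Agent.H28.PBCores.rank_top hn')
  have hcl : KRR.cl Y' ((Coh.push q₂).obj (CohB1.tensorMod ((Scheme.Modules.pullback q₁).obj E) F')) =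
      KRR.cl Y' ((Scheme.Modules.pullback h).obj V) := Groth.Agent.H28.KvbLam.cl_iso e hl'
  rw [hgE, hdt n V _ hL hn (Groth.Agent.H28.ExtSh.isExtPow_L n hl), hpX E hE, hgE', hcl,
    hdt' n _ _ hL' hn' (Groth.Agent.H28.ExtSh.isExtPow_L n (Groth.Agent.H28.KvbPull.lf_pull h hl))]
  obtain ⟨e'⟩ := Groth.Agent.H28.ExtPull.nonempty_pullback_L (f := h) (M := V) (m := n) hl
  exact congrArg Additive.ofMul (Subtype.ext ((PicGrp.cl_eq_cl_iff _ _).2 ⟨e'⟩))

end Groth.Agent.S17232
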