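import Groth.Statements.S17236
import Groth.Agent.H23.KoszClass
import Groth.Agent.H23.KoszPush
-- import your own Groth.Agent.* helpers here

set_option autoImplicit false
universe u
open IntSh

namespace Groth.Agent.S17236

open CategoryTheory CategoryTheory.Limits AlgebraicGeometry in
/-- Let Y be a normal separated Noetherian integral scheme, π : X → Y a proper surjective morphism with
X Noetherian and connected, K^•(X) given through a λ-ring model acting on K_•(X) = K_0(Coh X), and
π_* : K_•(X) → K_•(Y) the proper push-forward, det-hat : K_•(Y) → Ref¹(Y) the determinant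
homomorphism. Fix d ≥ 0; let F be a coherent O_X-module whose support meets the fibre over every
point y with dim O_{Y,y} ≤ 1 in dimension at most d, E' a locally free O_X-module of rank d + 1 and
s : E' → O_X a cosection, the dual of a section σ of the rank-(d+1) bundle E = E'^∨, with Koszul
complex K(E', s); assume σ is F-regular, i.e. F ⊗ K(E', s) is exact in all positive degrees, and let
F_V = coker(F ⊗ E' → F ⊗ O_X) be F ⊗ O_V for the zero scheme V of σ. Then, with λ_{-1}[E'] = Σ_i
(−1)^i [Λ^i E'] representing the top Chern class c^{d+1}(E) in F^{d+1} K^•(X): (i) the intersection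
sheaf det-hat(π_*(λ_{-1}[E'] · [F])) equals det-hat[π_* F_V] in Ref¹(Y) — the class of O_Y(D) for D
the codimension-one part of the push-forward of the cycle of F_V; and (ii) [π_* F_V] − π_*[F_V] lies
in the second step of the coniveau filtration of K_•(Y), the higher direct images of F_V being
supported in codimension ≥ 2. (X is taken connected so that K^•(X) has a λ-ring model; the source
allows any Noetherian X.) -/
theorem result
    {X Y : Scheme.{u}} [IsNoetherian X] [IsNoetherian Y] [IsIntegral Y] [Y.IsSeparated] [ConnectedSpace X]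
    (hYn : Pi1.IsNormalScheme Y) (π : X ⟶ Y) [IsProper π] [Surjective π] [HasInjectiveResolutions X.Modules]
    (d : ℕ)
    (KX : Type u) [CommRing KX] [LambdaRing.LambdaOps KX] (PX : LambdaRing.PosStructure KX)
    (φX : SGA6.Kvb X →+ KX) (hKX : KRR.IsModel X KX PX φX)
    (μ : KX →+ SGA6.Kcoh X →+ SGA6.Kcoh X) (hμ : KDet.IsCap φX μ)
    (N : ℕ) (gc : SGA6.Kcoh X →+ SGA6.Kcoh Y) (hgc : KRR.IsPushCoh π N gc)
    [RefFun.Law Y] (dh : SGA6.Kcoh Y →+ Additive (RefFun.Ref1Set Y)) (hdh : KDet.IsDetHat Y dh)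
    (F : X.Modules) (hF : KDet.CohPi π d F)
    (E' : X.Modules) (hE' : FlatMod.IsFinLocFreeOfRank (d + 1) E')
    (s : E' ⟶ Coh.structureModule X) (C : KoszSh.Cx E' s)
    (hreg : ∀ q : ℕ, 1 ≤ q →
      IsZero (((((DCoh.tensorBi (X := X)).obj F).mapHomologicalComplex (ComplexShape.down ℕ)).obj C.K).homology q)) :
    dh (gc (μ (KRR.lamAlt PX (φX (KRR.cl X E'))) (KDet.clc X F))) =
        dh (KDet.clc Y ((Coh.push π).obj (cokernel (((DCoh.tensorBi (X := X)).obj F).map (C.K.d 1 0))))) ∧
      KDet.clc Y ((Coh.push π).obj (cokernel (((DCoh.tensorBi (X := X)).obj F).map (C.K.d 1 0)))) -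
          gc (KDet.clc X (cokernel (((DCoh.tensorBi (X := X)).obj F).map (C.K.d 1 0)))) ∈ KDet.coniv Y 2 := by
  have hE1 := Groth.Agent.H28.KvbModel.lf_of_rank hE'
  have hcl := Groth.Agent.H23.KoszCut.cap_lamAlt hKX hμ hE' C hF.1 hreg
  have h1 := hreg 1 le_rfl
  set FV := cokernel (((DCoh.tensorBi (X := X)).obj F).map (C.K.d 1 0)) with hFV
  have hq : ∀ p, Coh.IsCoh (((DCoh.tensorBi (X := X)).obj F).obj (C.K.X p)) := fun p => by
    obtain ⟨e⟩ := Groth.Agent.H28.ExtSh.nonempty_iso_L (m := p) hE1 (C.isExtPow p)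
    obtain ⟨c⟩ := Groth.Agent.H23.PicMul.comm (C.K.X p) F
    exact Groth.Agent.RefX.isCoh_of_iso c (Groth.Agent.CurveTensor.isCoh_tensor
      (Groth.Agent.H28.PBAtlas.lf_of_iso e (Groth.Agent.H28.ExtSh.isFinLocFree_L p hE1)) hF.1)
  have hV : Coh.IsCoh FV := Groth.Agent.QCoh.isCoh_cokernel (hq 1).1 (hq 0) _
  obtain ⟨T, i, hi, G, hG, ⟨e⟩, hrange⟩ := Groth.Agent.H23.SheafPush.exists_closed_support F hF.1
  haveI := hi
  have hdeep := fun z (hz : z ∈ CohB1.support FV) =>
    Groth.Agent.H23.KoszCut.deep_of_mem_zero C F hE' hF.1 h1 hz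
  -- over a point of height at most one the zero scheme is finite
  have hfin : ∀ y : Y, ringKrullDim (Y.presheaf.stalk y) ≤ 1 →
      ∀ a ∈ CohB1.support FV, ∀ b ∈ CohB1.support FV, π a = y → π b = y → a ⤳ b → a = b := by
    intro y hy a ha b hb hay hby hab
    by_contra hne
    have hb1 : Groth.Agent.H23.GammaCap.Deep (CohB1.support FV) 1 b := ⟨hb, a, ha, hab, hne⟩
    have hb2 : Groth.Agent.H23.GammaCap.Deep (CohB1.support F) (d + 1 + 1) b :=
      Groth.Agent.H23.GammaCap.Deep.trans (fun v hv => (hdeep v hv).2) hb1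
    have hsub : CohB1.support F ⊆ Set.range i := fun x hx =>
      (hrange x).2 (not_subsingleton_iff_nontrivial.1 hx)
    obtain ⟨w, rfl, hw⟩ := (hb2.mono hsub).exists_map i i.isClosedEmbedding.isInducing
    obtain ⟨n, hn⟩ := Groth.Agent.FlatDvr.exists_dim_eq (Y.presheaf.stalk y)
    have hn1 : n ≤ 1 := by rw [hn] at hy; exact_mod_cast hy
    have hle := Groth.Agent.H23.GammaCap.deep_le π hF i
      (fun _ ⟨t, ht⟩ => ht ▸ not_subsingleton_iff_nontrivial.2 ((hrange _).1 ⟨t, rfl⟩))
      (hw.mono (Set.subset_univ _)) (n := n) (show ringKrullDim (Y.presheaf.stalk (π (i w))) = n by rw [hby, hn]) hn1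
    omega
  haveI : HasInjectiveResolutions Y.Modules := Groth.Agent.KFlatLib.hasInjectiveResolutions_modules
  have hR : ∀ q, Coh.IsCoh ((Coh.Rpush π q).obj FV) := fun q =>
    Groth.Agent.QCoh.isCoh_Rpush_of_finiteness π hV q
      (fun A _ _ Z _ _ N hN k => Groth.Agent.S0002.result A Z N hN k)
  have hpos : ∀ q : ℕ, 0 < q → KDet.clc Y ((Coh.Rpush π q).obj FV) ∈ KDet.coniv Y 2 := fun q hq0 => by
    refine AddSubgroup.subset_closure ⟨_, hR q, fun y hy => ?_, rfl⟩
    obtain ⟨n, hn⟩ := Groth.Agent.FlatDvr.exists_dim_eq (Y.presheaf.stalk y)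
    rw [hn]
    by_contra hlt
    have hn2 : n < 2 := by exact_mod_cast not_le.1 hlt
    exact Groth.Agent.H23.KoszCut.notMem_support_rpush π hV
      (hfin y (by rw [hn]; exact_mod_cast (show n ≤ 1 by omega))) hq0 hy
  have hzero : KDet.clc Y ((Coh.push π).obj FV) = KDet.clc Y ((Coh.Rpush π 0).obj FV) := by
    haveI := Groth.Agent.SpObjSS.enoughInjectives_of_hasInjectiveResolutions (C := X.Modules)
    haveI := Groth.Agent.QCoh.preservesFiniteLimits_push π
    let e0 := (Scheme.Modules.pushforward π).rightDerivedZeroIsoSelf.app FV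
    exact (Groth.Agent.H28.PBCohPush.clc_iso e0 (hR 0) (Groth.Agent.RefX.isCoh_of_iso e0 (hR 0))).symm
  have hmem : KDet.clc Y ((Coh.push π).obj FV) - gc (KDet.clc X FV) ∈ KDet.coniv Y 2 := by
    rw [show gc (KDet.clc X FV) = _ from hgc.2 FV hV, Finset.sum_range_succ', pow_zero, one_smul, hzero,
      sub_add_eq_sub_sub, sub_right_comm, show KZero.clSub (fun M : Y.Modules => Coh.IsCoh M)
        ((Coh.Rpush π 0).obj FV) = KDet.clc Y ((Coh.Rpush π 0).obj FV) from rfl, sub_self, zero_sub]
    exact neg_mem (sum_mem fun q _ => AddSubgroup.zsmul_mem _ (hpos (q + 1) q.succ_pos) _)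
  refine ⟨?_, hmem⟩
  rw [show μ (KRR.lamAlt PX (φX (KRR.cl X E'))) (KDet.clc X F) = KDet.clc X FV from hcl]
  refine (sub_eq_zero.1 ?_).symm
  rw [← map_sub]
  exact hdh.map_coniv_two _ hmem

end Groth.Agent.S17236
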