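import Groth.Statements.S17239
import Groth.Agent.H23.AcyclicRes.PBPushF
import Groth.Agent.H23.AcyclicRes.PBDual
import Groth.Agent.H28.PullVB
import Groth.Agent.ProjCl17.Basic
-- import your own Groth.Agent.* helpers here

set_option autoImplicit false
universe u
open IntSh

namespace Groth.Agent.S17239

open CategoryTheory CategoryTheory.Limits AlgebraicGeometry in
/-- Let Y be a connected Noetherian scheme, E a locally free O_Y-module of rank r with dual module E^∨,
and π : X → Y a projective bundle of E, i.e. X = P(E) with universal invertible quotient π^*E → O(1)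
(X Noetherian and connected, π projective and flat); let O(−1) be an inverse of O(1). With λ-ring
models of K^•(X) and K^•(Y), the γ-operations of K^•(Y) and the push-forward π_* on bundle classes
(twisted by O_X), writing δ(O(1)) = 1 − [O(−1)]: for every i ≥ 0, Σ_{k=0}^{r} γ^{r−k}([E^∨] − r) ·
π_*(δ(O(1))^{i+k}) = 0 in K^•(Y); consequently π_*(δ(O(1))^{r+i−1}) represents the i-th Segre class
of E. (X is taken connected, which it is for r ≥ 1 and Y connected.) -/
theorem result
    {X Y : Scheme.{u}} [IsNoetherian X] [IsNoetherian Y] [ConnectedSpace X] [ConnectedSpace Y] (π : X ⟶ Y)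
    (hπ : RelProj.IsProjective π) [Flat π] [HasInjectiveResolutions X.Modules]
    (r : ℕ) (E : Y.Modules) (hE : FlatMod.IsFinLocFreeOfRank r E)
    (O1 : X.Modules) (q : (Scheme.Modules.pullback π).obj E ⟶ O1) (hP : KRR.IsProjBundle π E O1 q)
    (Om : X.Modules) (hOm : PicF.IsInvertible Om) (hOOm : ClSub.IsInverseOf O1 Om)
    (KX : Type u) [CommRing KX] [LambdaRing.LambdaOps KX] (PX : LambdaRing.PosStructure KX)
    (φX : SGA6.Kvb X →+ KX) (hKX : KRR.IsModel X KX PX φX)
    (KY : Type u) [CommRing KY] [LambdaRing.LambdaOps KY] (PY : LambdaRing.PosStructure KY)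
    (φY : SGA6.Kvb Y →+ KY) (hKY : KRR.IsModel Y KY PY φY)
    (g : KX →+ KY) (hg : KDet.IsPushF π (Coh.structureModule X) φX φY g) (i : ℕ) :
    ∑ k ∈ Finset.range (r + 1),
        LambdaRing.gamma (r - k) (φY (KRR.cl Y (RefHull.dual E)) - (r : KY)) * g ((1 - φX (KRR.cl X Om)) ^ (i + k)) = 0 := by
  obtain ⟨hq, hpr⟩ := Groth.Agent.ProjCl17.isQuasiProjective_and_isProper hπ
  haveI := hpr
  obtain ⟨p, hp, -⟩ := Groth.Agent.H28.PullVB.existsUnique_isPull π φX φY hKY.bijective
  obtain ⟨hr, hrel⟩ := Groth.Agent.H23.AcyclicRes.PBDual.relation hE hP hOm hOOm hKX hKY hp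
  obtain ⟨n, rfl⟩ : ∃ n, r = n + 1 := ⟨r - 1, by omega⟩
  have hinv : ClSub.IsInverseOf Om O1 := by
    obtain ⟨e⟩ := hOOm
    obtain ⟨c⟩ := Groth.Agent.H23.PicMul.comm Om O1
    exact ⟨c ≪≫ e⟩
  obtain ⟨Dt, -, -⟩ := Groth.Agent.H28.PBBasis.exists_data hP hE Om hinv
    (Groth.Agent.H28.KvbModel.lf_of_rank (Groth.Agent.H28.PBCores.isInvertible_iff_rank.1 hOm))
  rw [← Finset.sum_range_reflect]
  refine Eq.trans ?_ ((congrArg (fun z => g ((1 - φX (KRR.cl X Om)) ^ i * z)) hrel).trans
    (by simp only [mul_zero, map_zero]))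
  simp only [Finset.mul_sum, map_sum]
  refine Finset.sum_congr rfl fun j hj => ?_
  rw [Finset.mem_range] at hj
  rw [← mul_assoc, Groth.Agent.H23.AcyclicRes.PBPushF.pushF_mul_pull Dt hq hKX hKY hg hp, ← pow_add,
    show n + 1 + 1 - 1 - j = n + 1 - j by omega, show n + 1 - (n + 1 - j) = j by omega, mul_comm]

end Groth.Agent.S17239
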