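import Groth.Statements.S17240
import Groth.Agent.H23.NormDet
import Groth.Agent.ProjCl17.Basic
import Groth.Agent.H9Misc.RpushZero
import Groth.Agent.QCoh.CechStd
import Groth.Agent.H28.KvbLam
import Groth.Agent.H28.PBCores
import Groth.Agent.KFlatLib.Perfect.Tensor
import Groth.Agent.KFlatLib.Scheme.ResolutionDescent
import Groth.Agent.FibDim.AffineSpaceFibre
import Mathlib.AlgebraicGeometry.ZariskisMainTheorem
-- import your own Groth.Agent.* helpers here

set_option autoImplicit false
set_option backward.isDefEq.respectTransparency false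
set_option backward.isDefEq.respectTransparency.types false
set_option linter.style.haveILetI false
universe u
open IntSh

namespace Groth.Agent.S17240

open CategoryTheory CategoryTheory.Limits AlgebraicGeometry TopologicalSpace in
/-- A proper morphism with fibres of dimension zero is finite. -/
theorem isFinite_of_dim_zero {X Y : Scheme.{u}} (π : X ⟶ Y) [IsProper π]
    (hd : ∀ y : Y, topologicalKrullDim (↥(π.fiber y) : Type u) = 0) : IsFinite π := by
  haveI : LocallyQuasiFinite π := by
    refine LocallyQuasiFinite.of_finite_preimage_singleton π fun y => ?_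
    haveI : IsLocallyNoetherian (π.fiber y) := DimFormula.isLocallyNoetherian_fiber π y
    haveI : IsNoetherian (π.fiber y) := {}
    have hclosed : ∀ b c : π.fiber y, b ⤳ c → b = c := fun b c hbc => by
      by_contra hne
      have h1 := FibDim.rd_lt π (hbc.map (π.fiberι y).continuous)
        (fun h => hne ((π.fiberι y).isEmbedding.injective h))
        ((FibDim.fiber_apply_fiberι π b).trans (FibDim.fiber_apply_fiberι π c).symm)
      have h2 := (FibDim.le_topologicalKrullDim_fiber_iff π y 1).2
        ⟨π.fiberι y b, FibDim.fiber_apply_fiberι π b, by omega⟩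
      rw [hd] at h2
      have : (1 : ℕ) ≤ 0 := by exact_mod_cast h2
      omega
    obtain ⟨𝒮, h𝒮f, h𝒮c, h𝒮i, hU⟩ :=
      NoetherianSpace.exists_finite_set_isClosed_irreducible (α := π.fiber y) isClosed_univ
    have hF : Finite (π.fiber y) := by
      refine Set.finite_univ_iff.1 (hU ▸ h𝒮f.sUnion fun C hC => ?_)
      refine Set.Subsingleton.finite fun b hb c hc => ?_
      have hgen := (h𝒮i C hC).isGenericPoint_genericPoint_closure
      rw [(h𝒮c C hC).closure_eq] at hgen
      exact (hclosed _ _ (hgen.specializes hb)).symm.trans (hclosed _ _ (hgen.specializes hc))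
    have := (π.fiberHomeo y).finite_iff.1 hF
    exact Set.toFinite _
  exact IsFinite.of_isProper_of_locallyQuasiFinite π

open CategoryTheory CategoryTheory.Limits AlgebraicGeometry in
/-- The push-forward on bundle classes along a finite flat morphism. -/
theorem push_cl {X Y : Scheme.{u}} (π : X ⟶ Y) [IsFinite π] [Flat π] [LocallyOfFinitePresentation π]
    [HasInjectiveResolutions X.Modules] {KX KY : Type u} [CommRing KX] [CommRing KY]
    (φX : SGA6.Kvb X →+ KX) (φY : SGA6.Kvb Y →+ KY) (g : KX →+ KY)
    (hg : KDet.IsPushF π (Coh.structureModule X) φX φY g) {E : X.Modules} (hE : FlatMod.IsFinLocFree E) :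
    g (φX (KRR.cl X E)) = φY (KRR.cl Y ((Coh.push π).obj E)) := by
  let e := KFlatLib.structureTensorIso E
  have hE' : FlatMod.IsFinLocFree (((DCoh.tensorBi (X := X)).obj (Coh.structureModule X)).obj E) :=
    fun x => by
      obtain ⟨U, r, hx, ⟨i⟩⟩ := hE x
      exact ⟨U, r, hx, ⟨(Scheme.Modules.restrictFunctor U.ι).mapIso e ≪≫ i⟩⟩
  have hpush : ∀ {F : X.Modules}, FlatMod.IsFinLocFree F → FlatMod.IsFinLocFree ((Coh.push π).obj F) :=
    fun hF => KFlatLib.isFinLocFree_push_of_finLocFree π hF
  refine (hg E hE (fun p hp => ?_) (hpush hE')).trans (congrArg φY ?_)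
  · refine H9Misc.RpushZero.isZero_Rpush π (QCoh.isQCoh_of_isFinLocFree hE') p fun V hV => ?_
    haveI : IsAffine (π ⁻¹ᵁ V : X.Opens) := hV.preimage π
    obtain ⟨q, rfl⟩ := Nat.exists_eq_add_of_le' hp
    exact QCoh.subsingleton_HH_of_isAffine (QCoh.isQCoh_restrict _ (QCoh.isQCoh_of_isFinLocFree hE')) q
  · exact H28.KvbLam.cl_iso ((Coh.push π).mapIso e) (hpush hE')

open CategoryTheory CategoryTheory.Limits AlgebraicGeometry in
/-- Let π : X → Y be a projective flat morphism of Noetherian schemes with X and Y connected, of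
relative dimension d = 0 (every fibre has Krull dimension 0, so π is finite flat), take λ-ring
models of K^•(X) and K^•(Y), the push-forward π_* = π_*^{O_X} on bundle classes and the determinant
det : K^•(Y) → Pic(Y), and let L be an invertible O_X-module with inverse M. Then the intersection
sheaf I_{X/Y}(L) = det π_*(δ(L)), δ(L) = 1 − [M], is the norm of L: in Pic(Y) written additively it
equals det[π_*O_X] − det[π_*M] and also det[π_*L] − det[π_*O_X], the direct images π_*O_X, π_*L,
π_*M being finite locally free. (X is taken connected so that K^•(X) has a λ-ring model; the source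
allows any X.) -/
theorem result
    {X Y : Scheme.{u}} [IsNoetherian X] [IsNoetherian Y] [ConnectedSpace X] [ConnectedSpace Y] (π : X ⟶ Y)
    (hπ : RelProj.IsProjective π) [Flat π] [HasInjectiveResolutions X.Modules]
    (hd : ∀ y : Y, topologicalKrullDim (↥(π.fiber y) : Type u) = 0)
    (KX : Type u) [CommRing KX] [LambdaRing.LambdaOps KX] (PX : LambdaRing.PosStructure KX)
    (φX : SGA6.Kvb X →+ KX) (hKX : KRR.IsModel X KX PX φX)
    (KY : Type u) [CommRing KY] [LambdaRing.LambdaOps KY] (PY : LambdaRing.PosStructure KY)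
    (φY : SGA6.Kvb Y →+ KY) (hKY : KRR.IsModel Y KY PY φY)
    (g : KX →+ KY) (hg : KDet.IsPushF π (Coh.structureModule X) φX φY g)
    [PicGrp.Law Y] (dt : KY →+ Additive (PicLoc.PicSet Y)) (hdt : KDet.IsDet φY dt)
    (L M : X.Modules) (hL : PicF.IsInvertible L) (hM : PicF.IsInvertible M) (hLM : ClSub.IsInverseOf L M) :
    dt (g (1 - φX (KRR.cl X M))) =
        dt (φY (KRR.cl Y ((Coh.push π).obj (Coh.structureModule X)))) - dt (φY (KRR.cl Y ((Coh.push π).obj M))) ∧
      dt (g (1 - φX (KRR.cl X M))) =
        dt (φY (KRR.cl Y ((Coh.push π).obj L))) - dt (φY (KRR.cl Y ((Coh.push π).obj (Coh.structureModule X)))) := by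
  haveI : IsProper π := (ProjCl17.isQuasiProjective_and_isProper hπ).2
  haveI : IsFinite π := isFinite_of_dim_zero π hd
  haveI : LocallyOfFinitePresentation π := inferInstance
  let O := Coh.structureModule X
  have hO : PicF.IsInvertible O := InvX.isInvertible_structureModule
  have lf : ∀ {E : X.Modules}, PicF.IsInvertible E → FlatMod.IsFinLocFree E := fun h =>
    H23.PullPush.isFinLocFree_of_isInvertible h
  obtain ⟨n, hn⟩ := H28.KvbModel.exists_rank
    (KFlatLib.isFinLocFree_push_of_finLocFree π (lf hO) : FlatMod.IsFinLocFree ((Coh.push π).obj O))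
  have hrank : ∀ {E : X.Modules}, PicF.IsInvertible E → FlatMod.IsFinLocFreeOfRank n ((Coh.push π).obj E) :=
    fun {E} hE => H28.KvbModel.rank_of_frameAt (E := (Coh.push π).obj E) (r := n) fun y => by
      obtain ⟨V₁, b, hy₁, hb⟩ := H28.KvbModel.frameAt_of_rank hn y
      obtain ⟨V₂, hy₂, e, he⟩ := PicNormLib.exists_frame_near_fibre π hE y
      have hb' : H23.Frame.IsFrame ((Coh.push π).obj O)
          (fun i => AModX.res _ (inf_le_left : V₁ ⊓ V₂ ≤ V₁) (b i)) := fun W h => by
        refine (congrArg Function.Bijective (funext fun d => ?_)).mp (hb W (h.trans inf_le_left))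
        exact Finset.sum_congr rfl fun i _ => congrArg (d i • ·) (AModX.res_res inf_le_left h (b i)).symm
      exact ⟨V₁ ⊓ V₂, _, ⟨hy₁, hy₂⟩, H23.NormDet.isFrame_smul π hb' (he.res (π.preimage_mono inf_le_right))⟩
  obtain ⟨φ⟩ := hLM
  let D := fun E : X.Modules => H28.ExtBase.L ((Coh.push π).obj E) n
  have hD : ∀ {E : X.Modules}, PicF.IsInvertible E → PicF.IsInvertible (D E) := fun hE =>
    H28.PBCores.isInvertible_iff_rank.2 (H28.PBCores.rank_top (hrank hE))
  have hdet : ∀ {E : X.Modules} (hE : PicF.IsInvertible E),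
      dt (φY (KRR.cl Y ((Coh.push π).obj E))) = Additive.ofMul (PicGrp.cls (D E) (hD hE)) := fun hE =>
    hdt n _ _ (hD hE) (hrank hE) (H28.ExtSh.isExtPow_L n (H28.KvbModel.lf_of_rank (hrank hE)))
  have key : dt (φY (KRR.cl Y ((Coh.push π).obj L))) + dt (φY (KRR.cl Y ((Coh.push π).obj M))) =
      dt (φY (KRR.cl Y ((Coh.push π).obj O))) + dt (φY (KRR.cl Y ((Coh.push π).obj O))) := by
    rw [hdet hL, hdet hM, hdet hO, ← ofMul_mul, ← ofMul_mul]
    obtain ⟨i⟩ := H23.NormDet.nonempty_iso π hn hL hM φ
    refine congrArg Additive.ofMul (Subtype.ext ?_)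
    rw [PicGrp.cls_mul_cls_val, PicGrp.cls_mul_cls_val]
    exact (PicGrp.cl_eq_cl_iff _ _).2 ⟨i⟩
  have h1 : dt (g (1 - φX (KRR.cl X M))) =
      dt (φY (KRR.cl Y ((Coh.push π).obj O))) - dt (φY (KRR.cl Y ((Coh.push π).obj M))) := by
    rw [← hKX.map_one, map_sub, map_sub, push_cl π φX φY g hg (lf hO), push_cl π φX φY g hg (lf hM)]
  refine ⟨h1, h1.trans ?_⟩
  rw [sub_eq_sub_iff_add_eq_add, key]

end Groth.Agent.S17240
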