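import Groth.Statements.S17241
import Mathlib
import Groth.Agent.W4c4Lib.PolarSpace

set_option autoImplicit false
open W4c4effdivwronsk2

namespace Groth.Agent.S17241

open Polynomial in
/-- Let `k` be a field of characteristic zero and take, on the projective line over `k`, the point `∞`
and `m` further distinct points `r_1, …, r_m` of the affine line, with positive integers `b` (at
`∞`) and `a_1, …, a_m`; put `N = b + ∑ a_j`. The sum of the spaces of differentials with a single
pole, of order at most `b + 1` at `∞`, resp. at most `a_j + 1` at `r_j`, `V = H⁰(ω((b+1)∞)) + ∑_j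
H⁰(ω((a_j+1)r_j)) ⊆ H⁰(ω((b+1)∞ + ∑_j (a_j+1)r_j)) ≅ H⁰(O(d))`, `d = b - 1 + ∑ (a_j+1)`, becomes,
after multiplying by `dX⁻¹ ∏_j (X - r_j)^(a_j+1)`, the subspace of `k[X]_{≤ d}` spanned by
`D·k[X]_{<b}` and the `D_i·k[X]_{<a_i}`, where `D = ∏_j (X - r_j)^(a_j+1)` and `D_i` omits the
`i`-th factor; a member `h` vanishes to order `n` at a point `q` of the affine line when `(X - q)^n
∣ h`, and to order `d - deg h` at `∞`. Then `dim V = N`, and at each marked point the vanishing
orders of the members of `V` are `0, …, e - 1, e + 1, …, N`, where `e = a_i` at `r_i` and `e = b` at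
`∞`: the subspace vanishing to order at least `n` there has dimension `N - n` for `n ≤ e` and `N + 1
- n` for `n > e` (so the weight at `r_i` is `∑_{j ≠ i} a_j + b`). (The published statement is over
the complex numbers, with all marked points arbitrary; one of them is placed at `∞` here.) -/
theorem result
    (k : Type*) [Field k] [CharZero k] (m : ℕ) (r : Fin m → k) (hr : Function.Injective r)
    (a : Fin m → ℕ) (ha : ∀ j, 1 ≤ a j) (b : ℕ) (hb : 1 ≤ b) (N d : ℕ)
    (hN : N = (∑ j, a j) + b) (hd : d + 1 = (∑ j, (a j + 1)) + b)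
    (V : Submodule k (Polynomial k))
    (hV : V = (Polynomial.degreeLT k b).map (LinearMap.mulLeft k (∏ j, (X - C (r j)) ^ (a j + 1))) ⊔
      ⨆ i, (Polynomial.degreeLT k (a i)).map
        (LinearMap.mulLeft k (∏ j ∈ Finset.univ.erase i, (X - C (r j)) ^ (a j + 1)))) :
    Module.finrank k ↥V = N ∧
    (∀ (i : Fin m) (n : ℕ), Module.finrank k ↥(V ⊓ (Ideal.span {(X - C (r i)) ^ n}).restrictScalars k) =
        if n ≤ a i then N - n else N + 1 - n) ∧
    (∀ n : ℕ, Module.finrank k ↥(V ⊓ Polynomial.degreeLT k (d + 1 - n)) =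
        if n ≤ b then N - n else N + 1 - n) := by
  classical
  subst hV
  rw [Groth.Agent.W4c4Lib.Polar.map_T_eq hr b, ← hN]
  exact ⟨Groth.Agent.W4c4Lib.Polar.finrank_all hN,
    fun i n => Groth.Agent.W4c4Lib.Polar.finrank_vanishing hr hN i n,
    fun n => Groth.Agent.W4c4Lib.Polar.finrank_infty (fun h => by subst h; simp) hN hd n⟩

end Groth.Agent.S17241
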