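import Groth.Statements.S17243
import Mathlib
import Groth.Agent.W4c4Lib.Hyperplane

set_option autoImplicit false
open W4c4effdivwronsk2

namespace Groth.Agent.S17243

open Polynomial in
/-- Let `k` be a field of characteristic zero and take, on the projective line over `k`, the point `∞`
and `m` further distinct points `r_1, …, r_m` of the affine line, with positive integers `b` (at
`∞`) and `a_1, …, a_m`; put `N = b + ∑ a_j`. The sum of the spaces of differentials with a single
pole, of order at most `b + 1` at `∞`, resp. at most `a_j + 1` at `r_j`, `V = H⁰(ω((b+1)∞)) + ∑_j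
H⁰(ω((a_j+1)r_j)) ⊆ H⁰(ω((b+1)∞ + ∑_j (a_j+1)r_j)) ≅ H⁰(O(d))`, `d = b - 1 + ∑ (a_j+1)`, becomes,
after multiplying by `dX⁻¹ ∏_j (X - r_j)^(a_j+1)`, the subspace of `k[X]_{≤ d}` spanned by
`D·k[X]_{<b}` and the `D_i·k[X]_{<a_i}`, where `D = ∏_j (X - r_j)^(a_j+1)` and `D_i` omits the
`i`-th factor; a member `h` vanishes to order `n` at a point `q` of the affine line when `(X - q)^n
∣ h`, and to order `d - deg h` at `∞`. Let `V₁ ⊆ V` be a hyperplane (`dim V₁ = N - 1`) containing
`H⁰(ω((b-1)∞)) + ∑_j H⁰(ω((a_j+1)r_j))`, i.e. containing `D·k[X]_{<b-2}` and every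
`D_i·k[X]_{<a_i}`. Then `V₁` has at most one ramification point off the marked points, and that
point is simple: at every point `q` of the affine line other than the `r_j` the weight of `V₁` is at
most one (no nonzero member divisible by `(X - q)^N`, at most a line of members divisible by `(X -
q)^(N-2)`), and at most one such `q` has positive weight (a nonzero member divisible by `(X -
q)^(N-1)`). (The published statement is over the complex numbers with the distinguished marked point
arbitrary; it is placed at `∞` here, so that the unmarked points are the points of the affine line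
other than the `r_j`.) -/
theorem result
    (k : Type*) [Field k] [CharZero k] (m : ℕ) (r : Fin m → k) (hr : Function.Injective r)
    (a : Fin m → ℕ) (ha : ∀ j, 1 ≤ a j) (b : ℕ) (hb : 1 ≤ b) (N d : ℕ)
    (hN : N = (∑ j, a j) + b) (hd : d + 1 = (∑ j, (a j + 1)) + b)
    (V : Submodule k (Polynomial k))
    (hV : V = (Polynomial.degreeLT k b).map (LinearMap.mulLeft k (∏ j, (X - C (r j)) ^ (a j + 1))) ⊔
      ⨆ i, (Polynomial.degreeLT k (a i)).map
        (LinearMap.mulLeft k (∏ j ∈ Finset.univ.erase i, (X - C (r j)) ^ (a j + 1))))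
    (V₁ : Submodule k (Polynomial k)) (hV₁ : V₁ ≤ V) (hfin : Module.finrank k ↥V₁ + 1 = N)
    (hU : (Polynomial.degreeLT k (b - 2)).map (LinearMap.mulLeft k (∏ j, (X - C (r j)) ^ (a j + 1))) ⊔
      (⨆ i, (Polynomial.degreeLT k (a i)).map
        (LinearMap.mulLeft k (∏ j ∈ Finset.univ.erase i, (X - C (r j)) ^ (a j + 1)))) ≤ V₁) :
    (∀ q : k, (∀ j, q ≠ r j) →
      (V₁ ⊓ (Ideal.span {(X - C q) ^ N}).restrictScalars k) = ⊥ ∧
      Module.finrank k ↥(V₁ ⊓ (Ideal.span {(X - C q) ^ (N - 2)}).restrictScalars k) ≤ 1) ∧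
    (∀ q q' : k, (∀ j, q ≠ r j) → (∀ j, q' ≠ r j) →
      (V₁ ⊓ (Ideal.span {(X - C q) ^ (N - 1)}).restrictScalars k) ≠ ⊥ →
      (V₁ ⊓ (Ideal.span {(X - C q') ^ (N - 1)}).restrictScalars k) ≠ ⊥ → q = q') := by
  classical
  have hU' := hU
  subst hV
  rw [Groth.Agent.W4c4Lib.Polar.map_T_eq hr b, ← hN] at hV₁
  exact Groth.Agent.W4c4Lib.Polar.hyperplane_ramification hV₁ hN hfin
    (fun {P} hP => Groth.Agent.W4c4Lib.Polar.low_mem hr hN hU' hP)

end Groth.Agent.S17243
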