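import Groth.Statements.S17247
import Groth.Agent.FFLib.RR
import Groth.Agent.FFLib.Elliptic
import Groth.Agent.FFLib.Fibre
import Groth.Agent.FFLib.Gaps
import Groth.Agent.FFLib.Embed

set_option autoImplicit false
open FunFld

namespace Groth.Agent.S17247

open Groth.Agent

/-- Let `K/k` be a function field of one variable of genus one over an algebraically closed field `k` of
characteristic zero (an elliptic curve `E`), `A` a place, and `g ≥ 3` an odd integer. Inside
`H⁰(O_E((2g-2)A)) = L((2g-2)A)` consider `V = L(gA)` (dimension `g`) and any hyperplane `V₁` of it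
containing `L((g-2)A)`: `L((g-2)A) ⊆ V₁ ⊆ L(gA)`, `dim V₁ = g - 1`. Vanishing orders are those of
sections of `O_E((2g-2)A)`: a member `f` vanishes to order at least `n` at a place `Q` when `f ∈
L((2g-2)A - nQ)`, and the weight of `V₁` at `Q` is `∑_{n=1}^{2g-2} dim (V₁ ∩ L((2g-2)A - nQ)) - (g-1
choose 2)` (the sum of the `g - 1` vanishing orders minus `0 + 1 + ⋯ + (g-2)`). Then the weight of
`V₁` at every place `Q ≠ A` is at most `2`. (The published statement is for a smooth elliptic curve
over the complex numbers and allows every odd positive `g`; for `g = 1` the inclusion `O(gA) ⊆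
O((2g-2)A)` it uses fails, so `g ≥ 3` here.) -/
theorem result
    (k K : Type*) [Field k] [IsAlgClosed k] [CharZero k] [Field K] [Algebra k K]
    (hK : FunFld.IsFunctionField k K) (hg1 : FunFld.genus k K = 1)
    (g : ℕ) (hodd : Odd g) (h3 : 3 ≤ g) (A : FunFld.Place k K)
    (V₁ : Submodule k K) (hlo : FunFld.L (Finsupp.single A ((g : ℤ) - 2)) ≤ V₁)
    (hhi : V₁ ≤ FunFld.L (Finsupp.single A (g : ℤ))) (hdim : Module.finrank k ↥V₁ + 1 = g)
    (Q : FunFld.Place k K) (hQ : Q ≠ A) :
    (∑ n ∈ Finset.range (2 * g - 2), Module.finrank k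
        ↥(V₁ ⊓ FunFld.L (Finsupp.single A (2 * (g : ℤ) - 2) - Finsupp.single Q ((n : ℤ) + 1)))) ≤
      (g - 1).choose 2 + 2 := by

  classical
  have hF := hK.1
  have hdeg : ∀ P : FunFld.Place k K, P.deg = 1 := FFLib.deg_eq_one hF
  have hfin := FFLib.L_finite hF
  let E : ℤ → FunFld.Divisor k K := fun n => Finsupp.single A (g : ℤ) - Finsupp.single Q n
  have hdegE : ∀ a n : ℤ, FunFld.Divisor.deg (Finsupp.single A a - Finsupp.single Q n : FunFld.Divisor k K) = a - n := fun a n => by
    rw [FFLib.Divisor.deg_sub, FFLib.Divisor.deg_single, FFLib.Divisor.deg_single, hdeg, hdeg]; simp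
  have hell : ∀ a n : ℤ, 0 < a - n →
      (FunFld.ell (Finsupp.single A a - Finsupp.single Q n : FunFld.Divisor k K) : ℤ) = a - n := fun a n h => by
    have := FFLib.ell_of_deg_gt hK (D := Finsupp.single A a - Finsupp.single Q n) (by rw [hdegE, hg1]; omega)
    rw [hdegE, hg1] at this
    omega
  have hd : ∀ n : ℕ, V₁ ⊓ FunFld.L (Finsupp.single A (2 * (g : ℤ) - 2) - Finsupp.single Q (n : ℤ)) =
      V₁ ⊓ FunFld.L (E n) := fun n => by
    ext x
    simp only [Submodule.mem_inf, E, FFLib.mem_L_sub_single (Int.natCast_nonneg n), Finsupp.single_apply,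
      if_neg hQ.symm]
    exact ⟨fun h => ⟨h.1, hhi h.1, h.2.2⟩, fun h => ⟨h.1,
      FFLib.L_mono (Finsupp.single_le_single.mpr (by omega)) (hhi h.1), h.2.2⟩⟩
  let d : ℕ → ℕ := fun n => Module.finrank k ↥(V₁ ⊓ FunFld.L (E n))
  have hdle : ∀ n : ℕ, d n ≤ FunFld.ell (E n) := fun n =>
    haveI := hfin (E n)
    Submodule.finrank_mono inf_le_right
  have hlt : ∀ n : ℕ, ¬ FunFld.L (E n) ≤ V₁ → d n < FunFld.ell (E n) := fun n h =>
    haveI := hfin (E n)
    Submodule.finrank_lt_finrank_of_lt (lt_of_le_of_ne inf_le_right fun e => h (e ▸ inf_le_left))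
  have hcontain : ∀ n : ℕ, n + 2 ≤ g → FunFld.L (E n) ≤ V₁ →
      g - n - 1 ≤ FunFld.ell (Finsupp.single A ((g : ℤ) - 2) - Finsupp.single Q (n : ℤ) : FunFld.Divisor k K) := by
    intro n hn h
    haveI := hfin (E n)
    haveI := hfin (Finsupp.single A ((g : ℤ) - 2))
    haveI := hfin (Finsupp.single A (g : ℤ))
    haveI : FiniteDimensional k V₁ := Submodule.finiteDimensional_of_le hhi
    have h1 := Submodule.finrank_sup_add_finrank_inf_eq (FunFld.L (Finsupp.single A ((g : ℤ) - 2))) (FunFld.L (E n))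
    have h2 : FunFld.L (Finsupp.single A ((g : ℤ) - 2)) ⊓ FunFld.L (E n) =
        FunFld.L (Finsupp.single A ((g : ℤ) - 2) - Finsupp.single Q (n : ℤ)) := by
      ext x
      simp only [Submodule.mem_inf, E, FFLib.mem_L_sub_single (Int.natCast_nonneg n), Finsupp.single_apply,
        if_neg hQ.symm]
      exact ⟨fun h => ⟨h.1, h.2.2⟩, fun h => ⟨h.1, FFLib.L_mono (Finsupp.single_le_single.mpr (by omega)) h.1, h.2⟩⟩
    rw [h2] at h1
    have h3 := Submodule.finrank_mono (sup_le hlo h)
    have h4 := hell ((g : ℤ) - 2) 0 (by omega)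
    have h5 := hell (g : ℤ) n (by omega)
    rw [Finsupp.single_zero, sub_zero] at h4
    simp only [FunFld.ell, E] at h1 h4 h5 h3 ⊢
    omega
  have hsmall : ∀ n : ℕ, n + 3 ≤ g → d n + n + 1 ≤ g := fun n hn => by
    by_cases h : FunFld.L (E n) ≤ V₁
    · have h1 := hcontain n (by omega) h
      have h2 := hell ((g : ℤ) - 2) n (by omega)
      omega
    · have h1 := hlt n h
      have h2 : (FunFld.ell (E n) : ℤ) = g - n := hell g n (by omega)
      omega
  obtain ⟨j, rfl⟩ : ∃ j, g = j + 3 := ⟨g - 3, by omega⟩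
  have hz : ∀ n, j + 3 < n → d n = 0 := fun n hn => Nat.le_zero.mp <| (hdle n).trans_eq <|
    FFLib.ell_eq_zero_of_deg_neg hF (by rw [hdegE]; omega)
  have hprin : ∀ D : FunFld.Divisor k K, D.deg = 0 → 0 < FunFld.ell D →
      ∃ w : K, w ≠ 0 ∧ (∀ P : FunFld.Place k K, P.ord w = -D P) ∧ FunFld.ell D = 1 := fun D hD h => by
    obtain ⟨w, hw, -, hle⟩ := FFLib.exists_le_add_div hF h
    have he := FFLib.deg_eq_of_le hF hle
      (by rw [FFLib.Divisor.deg_add, FFLib.deg_div hF, hD, FFLib.Divisor.deg_zero]; simp)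
    refine ⟨w, hw, fun P => ?_, ?_⟩
    · have := DFunLike.congr_fun he P
      simp [FFLib.div_apply hF] at this
      omega
    · rw [show D = 0 + FunFld.div k w⁻¹ by rw [FFLib.div_inv hF, zero_add, eq_neg_iff_add_eq_zero, ← he],
        FFLib.ell_add_div hF _ (inv_ne_zero hw), FFLib.ell_zero hK]
  have hdegj : (E ((j + 3 : ℕ) : ℤ)).deg = 0 := by rw [hdegE]; omega
  have htop : d (j + 3) ≤ 1 := by
    by_contra hc
    have := hdle (j + 3)
    obtain ⟨w, -, -, h1⟩ := hprin _ hdegj (by omega)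
    omega
  have hthree : d (j + 1) + d (j + 2) + d (j + 3) ≤ 3 := by
    have h1 : (FunFld.ell (E ((j + 1 : ℕ) : ℤ)) : ℤ) = 2 := (hell _ _ (by omega)).trans (by omega)
    have h2 : (FunFld.ell (E ((j + 2 : ℕ) : ℤ)) : ℤ) = 1 := (hell _ _ (by omega)).trans (by omega)
    have h1' := hdle (j + 1)
    have h2' := hdle (j + 2)
    have h3' := hdle (j + 3)
    by_contra hc
    obtain ⟨w, hw, hordw, -⟩ := hprin _ hdegj (by omega)
    have hfull : FunFld.L (E ((j + 1 : ℕ) : ℤ)) ≤ V₁ := by
      by_contra h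
      have := hlt (j + 1) h
      omega
    have hpos := hcontain (j + 1) (by omega) hfull
    obtain ⟨z, hz0, hordz, -⟩ := hprin (Finsupp.single A (((j + 3 : ℕ) : ℤ) - 2) - Finsupp.single Q ((j + 1 : ℕ) : ℤ))
      (by rw [hdegE]; omega) (by omega)
    obtain ⟨m, hm⟩ := hodd
    have hwz : (w * z⁻¹) ^ m ≠ 0 := pow_ne_zero _ (mul_ne_zero hw (inv_ne_zero hz0))
    let x : K := w * ((w * z⁻¹) ^ m)⁻¹
    have hx0 : x ≠ 0 := mul_ne_zero hw (inv_ne_zero hwz)
    have hordx : ∀ P : FunFld.Place k K,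
        P.ord x = -((Finsupp.single A 1 - Finsupp.single Q 1 : FunFld.Divisor k K) P) := fun P => by
      rw [FFLib.ord_mul P hw (inv_ne_zero hwz), FFLib.ord_inv,
        FFLib.ord_pow, FFLib.ord_mul P hw (inv_ne_zero hz0), FFLib.ord_inv, hordw, hordz]
      simp only [E, Finsupp.sub_apply, Finsupp.single_apply]
      have hj : (j : ℤ) = 2 * m - 2 := by omega
      split_ifs
      all_goals push_cast
      all_goals (try rw [hj])
      all_goals ring
    have hxA : x ∈ FunFld.L (Finsupp.single A (1 : ℤ)) := (FFLib.mem_L_iff_ord hx0).mpr fun P => by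
      rw [hordx]
      simp only [Finsupp.sub_apply, Finsupp.single_apply]
      split_ifs <;> omega
    have h01 : FunFld.L (0 : FunFld.Divisor k K) = FunFld.L (Finsupp.single A (1 : ℤ)) :=
      haveI := hfin (Finsupp.single A (1 : ℤ))
      Submodule.eq_of_le_of_finrank_eq (FFLib.L_mono (Finsupp.single_nonneg.mpr zero_le_one)) (by
        have h := FFLib.ell_single_of_genus_one hK hg1 (hdeg A) (le_refl 1)
        have h0 := FFLib.ell_zero hK
        simp only [FunFld.ell] at h h0
        rw [h0]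
        exact_mod_cast h.symm)
    rw [← h01, FFLib.L_zero_eq hK] at hxA
    obtain ⟨c, hc'⟩ := hxA
    have := hordx A
    rw [← hc', Algebra.linearMap_apply, FFLib.ord_algebraMap] at this
    simp [Finsupp.single_apply, hQ] at this
  have hsum : ∀ i : ℕ, ∑ n ∈ Finset.range i, (i + 1 - n) + 1 = (i + 2).choose 2 := fun i => by
    induction i with
    | zero => simp
    | succ i ih =>
      rw [Finset.sum_range_succ', show (i + 1 + 2).choose 2 = (i + 2).choose 1 + (i + 2).choose 2 from
        Nat.choose_succ_succ _ 1, Nat.choose_one_right, ← ih,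
        Finset.sum_congr (g := fun n => i + 1 - n) rfl fun n _ => show i + 1 + 1 - (n + 1) = i + 1 - n by omega]
      simp only [Nat.sub_zero]
      omega
  calc ∑ n ∈ Finset.range (2 * (j + 3) - 2), Module.finrank k
        ↥(V₁ ⊓ FunFld.L (Finsupp.single A (2 * ((j + 3 : ℕ) : ℤ) - 2) - Finsupp.single Q ((n : ℤ) + 1)))
      = ∑ n ∈ Finset.range (2 * (j + 3) - 2), d (n + 1) := Finset.sum_congr rfl fun n _ => by
        rw [← Nat.cast_succ, hd]
    _ = ∑ n ∈ Finset.range (j + 3), d (n + 1) := (Finset.sum_subset (Finset.range_mono (by omega))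
        fun n _ hn => hz (n + 1) (by simp at hn; omega)).symm
    _ ≤ (j + 3 - 1).choose 2 + 2 := by
        rw [Finset.sum_range_succ, Finset.sum_range_succ, Finset.sum_range_succ, show j + 3 - 1 = j + 2 from rfl,
          ← hsum j]
        have : ∑ n ∈ Finset.range j, d (n + 1) ≤ ∑ n ∈ Finset.range j, (j + 1 - n) :=
          Finset.sum_le_sum fun n hn => by
            have := hsmall (n + 1) (by simp at hn; omega)
            simp at hn; omega
        rw [show j + 1 + 1 = j + 2 from rfl, show j + 2 + 1 = j + 3 from rfl]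
        omega

end Groth.Agent.S17247
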