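import Groth.Statements.S17248
import Groth.Agent.FFLib.Small

set_option autoImplicit false
open FunFld Groth.Agent.FFLib WithZero

namespace Groth.Agent.S17248

/-- Let `K/k` be a function field of one variable of genus one over an algebraically closed field `k` of
characteristic zero (an elliptic curve `E`), `A` a place, and `g ≥ 3` an integer. Inside
`H⁰(O_E((2g-2)A)) = L((2g-2)A)` consider `V = L(gA)` (dimension `g`) and any hyperplane `V₁` of it
containing `L((g-2)A)`: `L((g-2)A) ⊆ V₁ ⊆ L(gA)`, `dim V₁ = g - 1`. Vanishing orders are those of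
sections of `O_E((2g-2)A)`: a member `f` vanishes to order at least `n` at a place `Q` when `f ∈
L((2g-2)A - nQ)`, and the weight of `V₁` at `Q` is `∑_{n=1}^{2g-2} dim (V₁ ∩ L((2g-2)A - nQ)) - (g-1
choose 2)` (the sum of the `g - 1` vanishing orders minus `0 + 1 + ⋯ + (g-2)`). Then the weight of
`V₁` at `A` is `(g-1)² + ε` with `ε ∈ {0, 1}`. (The published statement is for a smooth elliptic
curve over the complex numbers and `g` odd positive; `g ≥ 3` here since the ambient inclusion needs
it; this row does not assume `g` odd.) -/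
theorem result
    (k K : Type*) [Field k] [IsAlgClosed k] [CharZero k] [Field K] [Algebra k K]
    (hK : FunFld.IsFunctionField k K) (hg1 : FunFld.genus k K = 1)
    (g : ℕ) (h3 : 3 ≤ g) (A : FunFld.Place k K)
    (V₁ : Submodule k K) (hlo : FunFld.L (Finsupp.single A ((g : ℤ) - 2)) ≤ V₁)
    (hhi : V₁ ≤ FunFld.L (Finsupp.single A (g : ℤ))) (hdim : Module.finrank k ↥V₁ + 1 = g) :
    ∃ ε : ℕ, ε ≤ 1 ∧
      (∑ n ∈ Finset.range (2 * g - 2), Module.finrank k
        ↥(V₁ ⊓ FunFld.L (Finsupp.single A (2 * (g : ℤ) - 2) - Finsupp.single A ((n : ℤ) + 1)))) =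
      (g - 1).choose 2 + (g - 1) ^ 2 + ε := by
  classical
  have hd := deg_eq_one hK.1 A
  have hV : FiniteDimensional k V₁ :=
    have := L_finite hK.1 (Finsupp.single A (g : ℤ)); Submodule.finiteDimensional_of_le hhi
  have hell : ∀ m : ℕ, 1 ≤ m → FunFld.ell (Finsupp.single A (m : ℤ)) = m := fun m hm => by
    have := ell_of_deg_gt hK (D := Finsupp.single A (m : ℤ)) (by
      rw [Divisor.deg_single, hd, hg1]; simp; omega)
    rw [Divisor.deg_single, hd, hg1] at this
    omega
  let f : ℕ → ℕ := fun m => Module.finrank k ↥(V₁ ⊓ FunFld.L (Finsupp.single A (m : ℤ)))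
  have hlow : ∀ m : ℕ, m + 2 ≤ g → f m = FunFld.ell (Finsupp.single A (m : ℤ)) := fun m hm => by
    show Module.finrank k _ = _
    rw [inf_eq_right.mpr ((L_mono (Finsupp.single_le_single.mpr (by omega))).trans hlo)]
    rfl
  have hhigh : ∀ m : ℕ, g ≤ m → f m = g - 1 := fun m hm => by
    show Module.finrank k _ = _
    rw [inf_eq_left.mpr (hhi.trans (L_mono (Finsupp.single_le_single.mpr (by omega))))]
    omega
  have hmid : g - 2 ≤ f (g - 1) ∧ f (g - 1) ≤ g - 1 := by
    constructor
    · have h1 := hlow (g - 2) (by omega)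
      rw [hell (g - 2) (by omega)] at h1
      rw [← h1]
      have : FiniteDimensional k ↥(V₁ ⊓ FunFld.L (Finsupp.single A ((g - 1 : ℕ) : ℤ))) :=
        Submodule.finiteDimensional_of_le inf_le_left
      exact Submodule.finrank_mono (inf_le_inf_left _ (L_mono (Finsupp.single_le_single.mpr (by omega))))
    · have := L_finite hK.1 (Finsupp.single A ((g - 1 : ℕ) : ℤ))
      exact (Submodule.finrank_mono inf_le_right).trans (hell (g - 1) (by omega)).le
  have hsum : (∑ n ∈ Finset.range (2 * g - 2), Module.finrank k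
        ↥(V₁ ⊓ FunFld.L (Finsupp.single A (2 * (g : ℤ) - 2) - Finsupp.single A ((n : ℤ) + 1)))) =
      ∑ m ∈ Finset.range (2 * g - 2), f m := by
    rw [← Finset.sum_range_reflect f (2 * g - 2)]
    refine Finset.sum_congr rfl fun n hn => ?_
    have := Finset.mem_range.mp hn
    simp only [f]
    rw [← Finsupp.single_sub, show 2 * (g : ℤ) - 2 - ((n : ℤ) + 1) = ((2 * g - 2 - 1 - n : ℕ) : ℤ) by omega]
  obtain ⟨c, rfl⟩ : ∃ c, g = c + 3 := ⟨g - 3, by omega⟩
  refine ⟨f (c + 2) - (c + 1), by simp only [Nat.add_one_sub_one] at hmid; omega, ?_⟩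
  rw [hsum, show 2 * (c + 3) - 2 = (c + 2) + (1 + (c + 1)) by omega,
    Finset.sum_range_add f (c + 2) (1 + (c + 1)),
    Finset.sum_range_add (fun x => f (c + 2 + x)) 1 (c + 1), Finset.sum_range_one, add_zero]
  have h1 : ∀ j : ℕ, j + 1 ≤ c + 2 → ∑ m ∈ Finset.range (j + 1), f m = (j + 1).choose 2 + 1 := by
    intro j
    induction j with
    | zero =>
      intro _
      simp [hlow 0 (by omega), ell_zero hK]
    | succ j ih =>
      intro hj
      rw [Finset.sum_range_succ, ih (by omega), hlow (j + 1) (by omega), hell (j + 1) (by omega),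
        Nat.choose_succ_succ (j + 1) 1, Nat.choose_one_right]
      rw [show Nat.succ 1 = 2 from rfl]
      omega
  rw [show ∑ m ∈ Finset.range (c + 2), f m = (c + 2).choose 2 + 1 from h1 (c + 1) le_rfl]
  have h2 : ∀ x ∈ Finset.range (c + 1), f (c + 2 + (1 + x)) = c + 2 := fun x _ => by
    rw [hhigh _ (by omega)]; omega
  rw [Finset.sum_congr rfl h2, Finset.sum_const, Finset.card_range, smul_eq_mul]
  simp only [show c + 3 - 1 = c + 2 by omega] at hmid ⊢
  have e : (c + 2) ^ 2 = (c + 1) * (c + 2) + (c + 2) := by ring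
  omega

end Groth.Agent.S17248
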