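import Groth.Statements.S17249
import Groth.Agent.FFLib.Small

set_option autoImplicit false
open FunFld Groth.Agent.FFLib WithZero

namespace Groth.Agent.S17249

/-- Let `K/k` be a function field of one variable of genus two over an algebraically closed field `k` of
characteristic zero (a smooth curve `X` of genus `2`), `C` a canonical divisor, `A` a place with
`ℓ(2A) = 1` (not a Weierstrass point), and `P`, `Q` places with `Q ≠ A`. Then `ℓ(C + 2A - P - 3Q) =
1` and `ℓ(C + 2A - P - Q) = 2` do not both hold: the two-dimensional complete system `H⁰(ω_X(2A -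
P))` (of degree `3`) has no point `Q ≠ A` of weight three. (The published statement concerns a
general pointed curve `(X, A)` of genus two over the complex numbers and a point `P` of `X`; this
row assumes only `ℓ(2A) = 1`.) -/
theorem result
    (k K : Type*) [Field k] [IsAlgClosed k] [CharZero k] [Field K] [Algebra k K]
    (hK : FunFld.IsFunctionField k K) (hg : FunFld.genus k K = 2)
    (C : FunFld.Divisor k K) (hC : FunFld.IsCanonical k K C)
    (A P Q : FunFld.Place k K) (hA : Module.finrank k ↥(FunFld.L (Finsupp.single A (2 : ℤ))) = 1) (hQ : Q ≠ A) :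
    ¬ (Module.finrank k ↥(FunFld.L (C + Finsupp.single A (2 : ℤ) - Finsupp.single P (1 : ℤ) - Finsupp.single Q (3 : ℤ))) = 1 ∧
       Module.finrank k ↥(FunFld.L (C + Finsupp.single A (2 : ℤ) - Finsupp.single P (1 : ℤ) - Finsupp.single Q (1 : ℤ))) = 2) := by
  classical
  rintro ⟨-, h⟩
  have hd := deg_eq_one hK.1
  have hA' : FunFld.ell (Finsupp.single A (2 : ℤ)) = 1 := hA
  obtain ⟨w, hw0, hw⟩ := exists_div_canonical hK hC
    (E := C + Finsupp.single A (2 : ℤ) - Finsupp.single P (1 : ℤ) - Finsupp.single Q (1 : ℤ))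
    (by simp [Divisor.deg_sub, Divisor.deg_add, hd, deg_canonical hK hC]; omega)
    (by rw [hg]; exact h)
  have hwm : w⁻¹ ∈ FunFld.L (Finsupp.single A (2 : ℤ)) := by
    refine (mem_L_iff_ord (inv_ne_zero hw0)).mpr fun R => ?_
    have := congrArg (fun D : FunFld.Divisor k K => D R) hw
    simp [div_apply hK.1, ord_inv, Finsupp.single_apply] at this ⊢
    split_ifs at this ⊢ <;> omega
  have hm : w⁻¹ ∈ FunFld.L (0 : FunFld.Divisor k K) := by
    have := L_finite hK.1 (Finsupp.single A (2 : ℤ))
    rw [Submodule.eq_of_le_of_finrank_eq (L_mono (Finsupp.single_nonneg.mpr (by norm_num)))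
      ((ell_zero hK).trans hA'.symm)]
    exact hwm
  rw [L_zero_eq hK] at hm
  obtain ⟨c, hc⟩ := hm
  have hQ0 : Q.ord w = 0 := by
    have e : Q.ord w⁻¹ = 0 := by rw [← hc]; exact ord_algebraMap Q c
    rw [ord_inv] at e
    omega
  have := congrArg (fun D : FunFld.Divisor k K => D Q) hw
  simp [div_apply hK.1, Finsupp.single_apply, Ne.symm hQ, hQ0] at this
  split_ifs at this <;> omega

end Groth.Agent.S17249
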