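import Groth.Statements.S17250
import Groth.Agent.FFLib.Small

set_option autoImplicit false
open FunFld Groth.Agent.FFLib WithZero

namespace Groth.Agent.S17250

/-- Let `K/k` be a function field of one variable of genus two over an algebraically closed field `k` of
characteristic zero (a smooth curve `X` of genus `2`), `C` a canonical divisor, `A` a place with
`ℓ(2A) = 1`, and `P`, `Q` places different from `A`. Then `ℓ(C + 3A - P - 4Q) = 1` and `ℓ(C + 3A - P
- 2Q) = 2` do not both hold (the three-dimensional complete system `H⁰(ω_X(3A - P))`, of degree `4`,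
has no point `Q ≠ A` with two independent sections vanishing to order at least `2` there and one
vanishing to order at least `4`). (The published statement concerns a general pointed curve `(X, A)`
of genus two over the complex numbers and a point `P ≠ A`; this row assumes `ℓ(2A) = 1` in place of
generality.) -/
theorem result
    (k K : Type*) [Field k] [IsAlgClosed k] [CharZero k] [Field K] [Algebra k K]
    (hK : FunFld.IsFunctionField k K) (hg : FunFld.genus k K = 2)
    (C : FunFld.Divisor k K) (hC : FunFld.IsCanonical k K C)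
    (A P Q : FunFld.Place k K) (hA : Module.finrank k ↥(FunFld.L (Finsupp.single A (2 : ℤ))) = 1) (hP : P ≠ A) (hQ : Q ≠ A) :
    ¬ (Module.finrank k ↥(FunFld.L (C + Finsupp.single A (3 : ℤ) - Finsupp.single P (1 : ℤ) - Finsupp.single Q (4 : ℤ))) = 1 ∧
       Module.finrank k ↥(FunFld.L (C + Finsupp.single A (3 : ℤ) - Finsupp.single P (1 : ℤ) - Finsupp.single Q (2 : ℤ))) = 2) := by
  classical
  rintro ⟨h4, h⟩
  have hd := deg_eq_one hK.1
  have hA' : FunFld.ell (Finsupp.single A (2 : ℤ)) = 1 := hA
  obtain ⟨w, hw0, hw⟩ := exists_div_canonical hK hC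
    (E := C + Finsupp.single A (3 : ℤ) - Finsupp.single P (1 : ℤ) - Finsupp.single Q (2 : ℤ))
    (by simp [Divisor.deg_sub, Divisor.deg_add, hd, deg_canonical hK hC]; omega)
    (by rw [hg]; exact h)
  obtain ⟨v, hv0, hv⟩ := exists_div_of_deg_zero hK.1
    (E := C + Finsupp.single A (3 : ℤ) - Finsupp.single P (1 : ℤ) - Finsupp.single Q (4 : ℤ))
    (by simp [Divisor.deg_sub, Divisor.deg_add, hd, deg_canonical hK hC]; omega)
    (by show 0 < FunFld.ell _; unfold FunFld.ell; omega)
  have hw' : Finsupp.single A (3 : ℤ) = Finsupp.single P 1 + Finsupp.single Q 2 + FunFld.div k w := by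
    rw [← sub_eq_zero, ← neg_eq_zero]
    rw [show -(Finsupp.single A (3 : ℤ) - (Finsupp.single P 1 + Finsupp.single Q 2 + FunFld.div k w)) =
      C - (C + Finsupp.single A (3 : ℤ) - Finsupp.single P 1 - Finsupp.single Q 2) + FunFld.div k w by abel]
    exact hw
  have hCP : FunFld.ell (C + Finsupp.single P 1) = FunFld.ell C := by
    have h1 := ell_of_deg_gt hK (D := C + Finsupp.single P 1) (by
      simp [Divisor.deg_add, hd, deg_canonical hK hC])
    rw [Divisor.deg_add, Divisor.deg_single, hd, deg_canonical hK hC] at h1
    rw [ell_canonical hK hC]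
    omega
  -- `3A` is equivalent to `C + P`, which has `P` as a base point
  let s : K := v * w ^ 2
  have hs0 : s ≠ 0 := mul_ne_zero hv0 (pow_ne_zero _ hw0)
  have hs : ∀ R : FunFld.Place k K, (C + Finsupp.single P 1 : FunFld.Divisor k K) R + R.ord s =
      (Finsupp.single A (3 : ℤ) : FunFld.Divisor k K) R := fun R => by
    have e1 := congrArg (fun D : FunFld.Divisor k K => D R) hw'
    have e2 := congrArg (fun D : FunFld.Divisor k K => D R) hv
    simp only [Finsupp.add_apply, Finsupp.sub_apply, Finsupp.coe_zero, Pi.zero_apply, div_apply hK.1,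
      Finsupp.single_apply] at e1 e2 ⊢
    simp only [s]
    rw [ord_mul R hv0 (pow_ne_zero _ hw0), ord_pow]
    push_cast
    split_ifs at e1 e2 ⊢ <;> omega
  have hsC : s ∈ FunFld.L C := by
    have := L_finite hK.1 (C + Finsupp.single P 1)
    rw [Submodule.eq_of_le_of_finrank_eq (L_mono (le_add_single C P)) hCP.symm]
    refine (mem_L_iff_ord hs0).mpr fun R => ?_
    have := hs R
    simp [Finsupp.single_apply] at this ⊢
    split_ifs at this ⊢ <;> omega
  have := (mem_L_iff_ord hs0).mp hsC P
  have h2 := hs P
  simp [Finsupp.single_apply, Ne.symm hP] at h2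
  omega

end Groth.Agent.S17250
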