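import Groth.Statements.S17251
import Groth.Agent.FFLib.Small

set_option autoImplicit false
open FunFld Groth.Agent.FFLib WithZero

namespace Groth.Agent.S17251

/-- Let `K/k` be a function field of one variable of genus two over an algebraically closed field `k` of
characteristic zero (a smooth curve `Y` of genus `2`), `C` a canonical divisor, `B` a place with
`ℓ(2B) = 1` (not a Weierstrass point) and `Q ≠ B` a place. Then `ℓ(C + B - 2Q) = 1` and `ℓ(C + 3B -
4Q) = 1` do not both hold: the complete systems `H⁰(ω_Y(B))` (dimension `2`, degree `3`) and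
`H⁰(ω_Y(3B))` (dimension `4`, degree `5`) have no ramification point in common on `Y` minus `B`.
(The published statement concerns a general pointed curve `(Y, B)` of genus two over the complex
numbers; this row assumes only `ℓ(2B) = 1`.) -/
theorem result
    (k K : Type*) [Field k] [IsAlgClosed k] [CharZero k] [Field K] [Algebra k K]
    (hK : FunFld.IsFunctionField k K) (hg : FunFld.genus k K = 2)
    (C : FunFld.Divisor k K) (hC : FunFld.IsCanonical k K C)
    (B Q : FunFld.Place k K) (hB : Module.finrank k ↥(FunFld.L (Finsupp.single B (2 : ℤ))) = 1) (hQ : Q ≠ B) :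
    ¬ (Module.finrank k ↥(FunFld.L (C + Finsupp.single B (1 : ℤ) - Finsupp.single Q (2 : ℤ))) = 1 ∧
       Module.finrank k ↥(FunFld.L (C + Finsupp.single B (3 : ℤ) - Finsupp.single Q (4 : ℤ))) = 1) := by
  classical
  rintro ⟨h2, h4⟩
  have hd := deg_eq_one hK.1
  have hB' : FunFld.ell (Finsupp.single B (2 : ℤ)) = 1 := hB
  have hbase : ∀ R : FunFld.Place k K, FunFld.L (C + Finsupp.single R 1) = FunFld.L C := fun R => by
    have h1 := ell_of_deg_gt hK (D := C + Finsupp.single R 1) (by
      simp [Divisor.deg_add, hd, deg_canonical hK hC])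
    rw [Divisor.deg_add, Divisor.deg_single, hd, deg_canonical hK hC] at h1
    have := L_finite hK.1 (C + Finsupp.single R 1)
    refine (Submodule.eq_of_le_of_finrank_eq (L_mono (le_add_single C R)) ?_).symm
    show FunFld.ell C = FunFld.ell (C + Finsupp.single R 1)
    rw [ell_canonical hK hC]
    omega
  -- the first condition gives `C ∼ 2Q`
  obtain ⟨v, hv0, hv⟩ : ∃ v : K, v ≠ 0 ∧ C - Finsupp.single Q 2 + FunFld.div k v = 0 := by
    refine exists_div_of_deg_zero hK.1 (by simp [Divisor.deg_sub, hd, deg_canonical hK hC]; omega) ?_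
    have := L_finite hK.1 (C - Finsupp.single Q 2)
    refine lt_of_lt_of_le (b := Module.finrank k ↥(FunFld.L (C + Finsupp.single B (1 : ℤ) -
      Finsupp.single Q (2 : ℤ)))) (by omega) (Submodule.finrank_mono fun x hx => ?_)
    rw [mem_L_sub_single (by omega)] at hx ⊢
    refine ⟨hbase B ▸ hx.1, ?_⟩
    simpa [hQ] using hx.2
  obtain ⟨R, u, -, hu0, hu⟩ := exists_single_of_deg_one hK.1
    (E := C + Finsupp.single B (3 : ℤ) - Finsupp.single Q (4 : ℤ))
    (by simp [Divisor.deg_add, Divisor.deg_sub, hd, deg_canonical hK hC]; omega)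
    (by unfold FunFld.ell; omega)
  let s : K := v ^ 2 / u
  have hs0 : s ≠ 0 := div_ne_zero (pow_ne_zero _ hv0) hu0
  have hs : ∀ S : FunFld.Place k K, (C + Finsupp.single R 1 : FunFld.Divisor k K) S + S.ord s =
      (Finsupp.single B (3 : ℤ) : FunFld.Divisor k K) S := fun S => by
    have e1 := congrArg (fun D : FunFld.Divisor k K => D S) hv
    have e2 := congrArg (fun D : FunFld.Divisor k K => D S) hu
    simp only [Finsupp.add_apply, Finsupp.sub_apply, Finsupp.coe_zero, Pi.zero_apply, div_apply hK.1,
      Finsupp.single_apply] at e1 e2 ⊢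
    simp only [s]
    rw [div_eq_mul_inv, ord_mul S (pow_ne_zero _ hv0) (inv_ne_zero hu0), ord_inv, ord_pow]
    push_cast
    split_ifs at e1 e2 ⊢ <;> omega
  have hsC : s ∈ FunFld.L C := by
    rw [← hbase R]
    refine (mem_L_iff_ord hs0).mpr fun S => ?_
    have := hs S
    simp [Finsupp.single_apply] at this ⊢
    split_ifs at this ⊢ <;> omega
  have h5 := (mem_L_iff_ord hs0).mp hsC R
  have h6 := hs R
  rcases eq_or_ne R B with rfl | hRB
  · -- then `2B ∼ C`
    have hm : FunFld.ell (Finsupp.single R (2 : ℤ)) = FunFld.ell (C + FunFld.div k s) := by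
      congr 1
      ext S
      have := hs S
      simp [div_apply hK.1, Finsupp.single_apply] at this ⊢
      split_ifs at this ⊢ <;> omega
    rw [hB', ell_add_div hK.1 C hs0, ell_canonical hK hC] at hm
    omega
  · simp [Finsupp.single_apply, Ne.symm hRB] at h6
    omega

end Groth.Agent.S17251
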