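import Groth.Statements.S17253
import Groth.Agent.Lib.AVMulN
import Groth.Agent.Lib.AVDual
import Groth.Agent.H23.Isogeny
import Groth.Agent.S19572
import Groth.Agent.S4717

set_option autoImplicit false
set_option backward.isDefEq.respectTransparency false
set_option backward.isDefEq.respectTransparency.types false
set_option linter.style.haveILetI false
set_option linter.unusedSectionVars false
set_option maxHeartbeats 400000
universe u
open CategoryTheory CategoryTheory.Limits MonoidalCategory CartesianMonoidalCategory MonObj GrpObj AlgebraicGeometry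
open AbVar

namespace Groth.Agent.S17253


open CategoryTheory.Limits

theorem zpow_comp {C : Type*} [Category C] [CartesianMonoidalCategory C] {T A B : C} [GrpObj A] [GrpObj B]
    (f : A ⟶ B) [IsMonHom f] (u : T ⟶ A) (d : ℤ) : (u ^ d) ≫ f = (u ≫ f) ^ d :=
  map_zpow (MonoidHom.mk' (fun u : T ⟶ A => u ≫ f) fun a b => MonObj.mul_comp a b f) u d

theorem comp_zpow' {C : Type*} [Category C] [CartesianMonoidalCategory C] {T T' A : C} [GrpObj A]
    (f : T' ⟶ T) (u : T ⟶ A) (d : ℤ) : f ≫ (u ^ d) = (f ≫ u) ^ d :=
  map_zpow (MonoidHom.mk' (fun u : T ⟶ A => f ≫ u) fun a b => MonObj.comp_mul f a b) u d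

/-- Let k be a field and A, B abelian varieties over k (smooth proper k-group schemes with geometrically
connected fibres), f : A → B a homomorphism, g : B → A an isogeny (a homomorphism which is finite,
flat and surjective) and d a nonzero integer with g ∘ f = [d]_A, the d-th power of the identity in
the group of endomorphisms of A. Then f is an isogeny as well — finite, flat and surjective — and f
∘ g = [d]_B. -/
theorem result (k : Type u) [Field k]
    (A B : Over (Spec (CommRingCat.of k)))
    [GrpObj A] [Smooth A.hom] [IsProper A.hom] [GeometricallyConnected A.hom]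
    [GrpObj B] [Smooth B.hom] [IsProper B.hom] [GeometricallyConnected B.hom]
    (f : A ⟶ B) [IsMonHom f] (g : B ⟶ A) [IsMonHom g] [IsFinite g.left] [Flat g.left] [Surjective g.left]
    (d : ℤ) (hd : d ≠ 0) (h : f ≫ g = 𝟙 A ^ d) :
    IsFinite f.left ∧ Flat f.left ∧ Surjective f.left ∧ g ≫ f = 𝟙 B ^ d := by
  haveI := AVDual.geometricallyIntegral_of_smooth A
  haveI := AVDual.geometricallyIntegral_of_smooth B
  haveI := GeometricallyIntegral.isIntegral_of_subsingleton A.hom
  haveI := GeometricallyIntegral.isIntegral_of_subsingleton B.hom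
  have hfin : IsFinite (𝟙 A ^ d : A ⟶ A).left ∧ Surjective (𝟙 A ^ d : A ⟶ A).left := by
    have h1 := AVMulN.isFinite_pow (A := A) d.natAbs (Int.natAbs_pos.2 hd)
    have h2 := AVMulN.surjective_pow (A := A) d.natAbs (Int.natAbs_pos.2 hd)
    rcases Int.natAbs_eq d with e | e
    · rw [e, zpow_natCast]
      exact ⟨h1, h2⟩
    · haveI : IsIso ((𝟙 A)⁻¹ : A ⟶ A).left := by
        refine ⟨((𝟙 A)⁻¹ : A ⟶ A).left, ?_, ?_⟩ <;>
          rw [← Over.comp_left, GrpObj.comp_inv, Category.comp_id, _root_.inv_inv, Over.id_left]
      rw [e, zpow_neg, zpow_natCast, show (𝟙 A ^ d.natAbs)⁻¹ = (𝟙 A ^ d.natAbs) ≫ (𝟙 A)⁻¹ by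
        rw [GrpObj.comp_inv, Category.comp_id], Over.comp_left]
      exact ⟨inferInstance, inferInstance⟩
  haveI : IsFinite (f.left ≫ g.left) := by rw [← Over.comp_left, h]; exact hfin.1
  haveI : IsFinite f.left := MorphismProperty.of_postcomp @IsFinite f.left g.left
    (inferInstance : IsSeparated g.left) inferInstance
  haveI : IsLocallyNoetherian A.left := LocallyOfFiniteType.isLocallyNoetherian A.hom
  haveI : IsLocallyNoetherian B.left := LocallyOfFiniteType.isLocallyNoetherian B.hom
  have hdim : topologicalKrullDim A.left = topologicalKrullDim B.left := ((S4717.result g.left).2 g.left.surjective).symm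
  haveI : Surjective f.left := H23.Isogeny.surjective_of_isFinite A.hom B.hom f.left (Over.w f) hdim
  refine ⟨inferInstance, (S19572.result k A B f hdim).2, inferInstance, ?_⟩
  haveI : IsDominant f.left := inferInstance
  have e : f ≫ g ≫ f = f ≫ 𝟙 B ^ d := by
    rw [← Category.assoc, h, zpow_comp, Category.id_comp, comp_zpow', Category.comp_id]
  exact Over.OverMorphism.ext (ext_of_isDominant_of_isSeparated B.hom ((Over.w _).trans (Over.w _).symm) f.left
    (by simpa using congrArg CommaMorphism.left e))

end Groth.Agent.S17253
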