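import Groth.Statements.S17255
import Groth.Agent.H23.Isogeny

set_option autoImplicit false
universe u
open CategoryTheory CategoryTheory.Limits MonoidalCategory CartesianMonoidalCategory MonObj GrpObj AlgebraicGeometry
open AbVar

namespace Groth.Agent.S17255

/-- Let k be a field, A and B abelian varieties over k (smooth proper k-group schemes with geometrically
connected fibres) with dim A = dim B (Krull dimensions of the underlying spaces), and f : A → B a
homomorphism. Then flatness of f is equivalent to finiteness of f. -/
theorem result (k : Type u) [Field k]
    (A B : Over (Spec (CommRingCat.of k)))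
    [GrpObj A] [Smooth A.hom] [IsProper A.hom] [GeometricallyConnected A.hom]
    [GrpObj B] [Smooth B.hom] [IsProper B.hom] [GeometricallyConnected B.hom]
    (f : A ⟶ B) [IsMonHom f] (hdim : topologicalKrullDim A.left = topologicalKrullDim B.left) :
    Flat f.left ↔ IsFinite f.left := by
  have hA : GeometricallyIntegral A.hom := by
    have := Groth.Agent.H23.RigidGamma.geometricallyReduced_of_smooth A.hom
    have : ConnectedSpace A.left := GeometricallyConnected.connectedSpace_of_subsingleton A.hom
    exact Groth.Agent.H23.MaxAbelian.geometricallyIntegral_of_connected A
  have hB : GeometricallyIntegral B.hom := by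
    have := Groth.Agent.H23.RigidGamma.geometricallyReduced_of_smooth B.hom
    have : ConnectedSpace B.left := GeometricallyConnected.connectedSpace_of_subsingleton B.hom
    exact Groth.Agent.H23.MaxAbelian.geometricallyIntegral_of_connected B
  have := Groth.Agent.H23.MaxAbelian.isIntegral_of_geometricallyIntegral (X := A)
  have := Groth.Agent.H23.MaxAbelian.isIntegral_of_geometricallyIntegral (X := B)
  have : IsProper (f.left ≫ B.hom) := by rw [Over.w f]; infer_instance
  have : IsProper f.left := IsProper.of_comp f.left B.hom
  refine ⟨fun _ => Groth.Agent.H23.Isogeny.isFinite_of_flat A.hom B.hom f.left (Over.w f) hdim, fun _ => ?_⟩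
  have := Groth.Agent.H23.Isogeny.surjective_of_isFinite A.hom B.hom f.left (Over.w f) hdim
  exact Groth.Agent.GrpSchLib.flat_of_surjective_hom f

end Groth.Agent.S17255
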