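import Groth.Statements.S17258
import Groth.Agent.CurveTree.Comps

set_option autoImplicit false
universe u
open Curves

namespace Groth.Agent.S17258
set_option backward.isDefEq.respectTransparency false
set_option backward.isDefEq.respectTransparency.types false
set_option maxHeartbeats 1000000
open Groth.Agent Groth.Agent.CurveGor


open CategoryTheory AlgebraicGeometry in
/-- Let Ω be an algebraically closed field of characteristic zero and let C be a scheme proper over Ω
which is connected, of dimension one and has at-worst-nodal singularities. Then the first cohomology
of the structure sheaf of C vanishes if and only if C is a rational tree: every irreducible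
component of C is the image of a closed immersion of the projective line over Ω, and the number of
nodes of C plus one equals the number of irreducible components. (The source phrases the second
condition as the absence of closed chains of components; for a connected nodal curve whose
components are projective lines the two conditions agree, a connected graph being a tree exactly
when it has one more vertex than edges. The source takes Ω an algebraically closed extension of the
complex numbers.) -/
theorem result (Ω : Type u) [Field Ω] [IsAlgClosed Ω] [CharZero Ω]
    (C : Scheme.{u}) [C.Over (Spec (CommRingCat.of Ω))] [IsProper (C ↘ Spec (CommRingCat.of Ω))]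
    [ConnectedSpace ↥C] (hdim : topologicalKrullDim ↥C = 1) (hnod : Curv2.AtWorstNodal Ω C) :
    Curv2.genus Ω C = 0 ↔
      ((∀ E ∈ irreducibleComponents (↥C : Type u), CurvSt.IsSmRatComp Ω C (C ↘ Spec (CommRingCat.of Ω)) E) ∧
        {x : ↥C | Curv2.IsNode Ω C x}.encard + 1 = (irreducibleComponents (↥C : Type u)).encard) := by
  classical
  haveI := CurveCohLib.isNoetherian_of_proper (k := Ω) (X := C)
  haveI := isReduced_of_nodal (k := Ω) hdim hnod
  haveI := S0002.result Ω C (Coh.structureModule C) QCoh.isCoh_structureModule' 1
  have hGf : (genericPoints (C : Type u)).Finite := CurveGor.finite_genericPoints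
  have himg : irreducibleComponents (C : Type u) = (fun η => closure ({η} : Set C)) '' genericPoints (C : Type u) := by
    ext E
    constructor
    · intro hE
      have hcl := isClosed_of_mem_irreducibleComponents _ hE
      have e := hE.1.closure_genericPoint hcl
      exact ⟨hE.1.genericPoint, (show closure ({hE.1.genericPoint} : Set C) ∈ irreducibleComponents (C : Type u) from e.symm ▸ hE), e⟩
    · rintro ⟨η, hη, rfl⟩
      exact hη
  have hcard : (irreducibleComponents (C : Type u)).encard = ((genericPoints (C : Type u)).ncard : ℕ∞) := by
    rw [himg, Set.InjOn.encard_image (fun a _ b _ h => (inseparable_iff_closure_eq.2 h).eq), hGf.cast_ncard_eq]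
  constructor
  · intro hg
    have hs : Subsingleton (Coh.HH C (Coh.structureModule C) 1) := (Module.finrank_zero_iff (R := Ω)).1 hg
    have h0 : ∀ η ∈ genericPoints (C : Type u), genusY Ω (closure ({η} : Set C)) isClosed_closure = 0 :=
      fun η _ => genusY_eq_zero (k := Ω) hdim.le hs _ isClosed_closure
    obtain ⟨hNf, hN⟩ := CurveTree.node_count Ω hdim hnod h0
    refine ⟨fun E hE => ?_, ?_⟩
    · rw [himg] at hE
      obtain ⟨η, hη, rfl⟩ := hE
      exact CurveTree.isSmRatComp_of_genus Ω hdim hnod hη (h0 η hη)
    · rw [hcard, ← hNf.cast_ncard_eq]
      rw [hg, add_zero] at hN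
      exact_mod_cast hN
  · rintro ⟨hE, hN⟩
    have h0 : ∀ η ∈ genericPoints (C : Type u), genusY Ω (closure ({η} : Set C)) isClosed_closure = 0 :=
      fun η hη => CurveTree.genus_of_isSmRatComp Ω (hE _ hη)
    obtain ⟨hNf, hN'⟩ := CurveTree.node_count Ω hdim hnod h0
    rw [hcard, ← hNf.cast_ncard_eq] at hN
    have hN'' : {x : C | Curv2.IsNode Ω C x}.ncard + 1 = (genericPoints (C : Type u)).ncard := by exact_mod_cast hN
    omega


end Groth.Agent.S17258
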