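import Groth.Statements.S17259
-- imports

set_option autoImplicit false
open CAlg

namespace Groth.Agent.S17259

/-- Let A, B, C be rings, f : B → A and g : B → C ring homomorphisms, and φ : A → B a homomorphism of
additive groups such that the sequence A → B → C → 0 (maps φ, g) is exact and f ∘ φ is
multiplication by a central element a of A which is not a zero divisor. Then the projection p : A →
A/(a) composed with f factors through g as a ring homomorphism q : C → A/(a), the homomorphism (f,
g) : B → A × C is injective, and its image is the fibre product of A and C over A/(a) along p and q;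
thus (f, g) is a ring isomorphism from B onto that fibre product. (The two-sidedness of the ideal
generated by a, automatic for a central element, is carried as an instance hypothesis.) -/
theorem result {A B C : Type*} [Ring A] [Ring B] [Ring C]
    (f : B →+* A) (g : B →+* C) (φ : A →+ B) (a : A)
    (hc : ∀ x : A, Commute a x) (ha : a ∈ nonZeroDivisors A)
    (hex : Function.Exact φ g) (hg : Function.Surjective g)
    (hφ : ∀ x : A, f (φ x) = a * x)
    [(Ideal.span ({a} : Set A)).IsTwoSided] :
    ∃ q : C →+* A ⧸ Ideal.span ({a} : Set A),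
      q.comp g = (Ideal.Quotient.mk (Ideal.span ({a} : Set A))).comp f ∧
      Function.Injective (f.prod g) ∧
      (f.prod g).range = (Ideal.Quotient.mk (Ideal.span ({a} : Set A))).pullback q := by
  have hker : ∀ b, g b = 0 → Ideal.Quotient.mk (Ideal.span ({a} : Set A)) (f b) = 0 := by
    intro b hb
    obtain ⟨x, rfl⟩ := (hex b).1 hb
    rw [Ideal.Quotient.eq_zero_iff_mem, hφ, (hc x).eq]
    exact Ideal.mul_mem_left _ _ (Ideal.subset_span rfl)
  let q : C →+* A ⧸ Ideal.span ({a} : Set A) :=
    g.liftOfSurjective hg ⟨(Ideal.Quotient.mk (Ideal.span ({a} : Set A))).comp f, fun b hb => hker b hb⟩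
  have hq : ∀ b, q (g b) = Ideal.Quotient.mk _ (f b) := fun b =>
    RingHom.liftOfRightInverse_comp_apply _ _ _ _ b
  have hinj : Function.Injective (f.prod g) := by
    rw [injective_iff_map_eq_zero]
    intro b hb
    simp [Prod.ext_iff] at hb
    obtain ⟨x, rfl⟩ := (hex b).1 hb.2
    have : a * x = 0 := by rw [← hφ]; exact hb.1
    rw [(mem_nonZeroDivisors_iff.1 ha).1 x this, map_zero]
  refine ⟨q, RingHom.ext hq, hinj, ?_⟩
  ext ⟨y, c⟩
  constructor
  · rintro ⟨b, hb⟩
    cases hb
    exact (hq b).symm
  · intro h
    obtain ⟨b, rfl⟩ := hg c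
    replace h : Ideal.Quotient.mk _ y = q (g b) := h
    rw [hq, Ideal.Quotient.mk_eq_mk_iff_sub_mem, Ideal.mem_span_singleton'] at h
    obtain ⟨x, hx⟩ := h
    refine ⟨b + φ x, ?_⟩
    have : g (φ x) = 0 := (hex _).2 ⟨x, rfl⟩
    simp [Prod.ext_iff, this, hφ, (hc x).eq, hx]

end Groth.Agent.S17259
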