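import Groth.Statements.S17262
import Groth.Agent.CurveGor.DualGraph
import Groth.Agent.CurveDual.Dual
import Groth.Agent.H23.PicInv

set_option autoImplicit false
universe u
open CategoryTheory CategoryTheory.Limits AlgebraicGeometry
attribute [local instance] HasDerivedCategory.standard
open Curves

namespace Groth.Agent.S17262
set_option backward.isDefEq.respectTransparency false
set_option backward.isDefEq.respectTransparency.types false
set_option synthInstance.maxHeartbeats 200000
set_option maxHeartbeats 2000000
attribute [local instance] HasDerivedCategory.standard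
open Groth.Agent Groth.Agent.CurveGor TFOneX in


/-- Let Ω be an algebraically closed field of characteristic zero and C a scheme proper over Ω which is
connected, of dimension one, at-worst-nodal, with vanishing first cohomology of the structure sheaf,
and with at most three nodes. Let ω be the dualizing module of C over Ω (via the upper-shriek
functor, whose existence is assumed) and ω' an O_C-module with ω' ⊗ ω ≅ O_C. Then ω ⊗ ω has no
nonzero global sections, the first cohomology of ω' vanishes, and the global sections of ω' form a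
three-dimensional Ω-vector space. (The source states that for a family of such curves with at most
three nodes in each fibre the direct image of the inverse of the relative dualizing sheaf is locally
free of rank three and commutes with base change; this row is the statement on each geometric fibre
from which that follows. The published statement is over the complex numbers; it is stated here over
any algebraically closed field of characteristic zero.) -/
theorem result (Ω : Type u) [Field Ω] [IsAlgClosed Ω] [CharZero Ω]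
    (C : Scheme.{u}) [C.Over (Spec (CommRingCat.of Ω))] [IsProper (C ↘ Spec (CommRingCat.of Ω))] [ConnectedSpace ↥C]
    (hdim : topologicalKrullDim ↥C = 1) (hnod : Curv2.AtWorstNodal Ω C) (hg : Curv2.genus Ω C = 0)
    (h3 : {x : ↥C | Curv2.IsNode Ω C x}.encard ≤ 3)
    [DCoh.HasRpush (C ↘ Spec (CommRingCat.of Ω))] (h : DCoh.RpushPreservesQCoh (C ↘ Spec (CommRingCat.of Ω))) [DCoh.HasShriek (C ↘ Spec (CommRingCat.of Ω)) h]
    (OY : DCoh.DQCoh (Spec (CommRingCat.of Ω))) (hOY : Nonempty (OY.obj ≅ DCoh.inD (Spec (CommRingCat.of Ω)) (Coh.structureModule (Spec (CommRingCat.of Ω)))))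
    (ωd : C.Modules) (hωd : ClSub.IsInverseOf ωd (DCoh.dualizingMod (C ↘ Spec (CommRingCat.of Ω)) h OY 1)) :
    Subsingleton (Coh.HH C (CohB1.tensorPow (DCoh.dualizingMod (C ↘ Spec (CommRingCat.of Ω)) h OY 1) 2) 0) ∧
      Subsingleton (Coh.HH C ωd 1) ∧ Module.finrank Ω (Coh.HH C ωd 0) = 3 := by
  classical
  haveI := CurveCohLib.isNoetherian_of_proper (k := Ω) (X := C)
  haveI := isReduced_of_nodal (k := Ω) hdim hnod
  obtain ⟨t, ht, -⟩ := CurveDual.exists_dual hdim.le h OY hOY
  have hgen := notClosed_of_generic (k := Ω) hdim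
  have hi := isInvertible_dualizing_of_nodal hdim hnod h OY hOY
  obtain ⟨e⟩ := hωd
  generalize DCoh.dualizingMod (C ↘ Spec (CommRingCat.of Ω)) h OY 1 = ω at t ht hi e ⊢
  obtain ⟨D, hD, ⟨eD⟩⟩ := H23.PicInv.exists_inverse hi
  have hωdi : PicF.IsInvertible ωd := by
    letI := H23.PicMul.clMonoid C
    obtain ⟨e'⟩ : Nonempty (D ≅ ωd) := by
      refine H23.PicMul.cl_eq_iff.1 ?_
      have h1 : PicF.cl (CohB1.tensorMod ωd ω) = PicF.cl (Coh.structureModule C) := H23.PicMul.cl_eq_iff.2 ⟨e⟩
      have h2 : PicF.cl (CohB1.tensorMod ω D) = PicF.cl (Coh.structureModule C) := H23.PicMul.cl_eq_iff.2 ⟨eD⟩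
      rw [H23.PicMul.cl_tensor] at h1 h2
      calc PicF.cl D = PicF.cl ωd * PicF.cl ω * PicF.cl D := by rw [h1]; exact (one_mul _).symm
        _ = PicF.cl ωd := by rw [mul_assoc, h2]; exact mul_one _
    exact H23.PicMul.isInvertible_of_iso e' hD
  haveI hO1 : Subsingleton (Coh.HH C (Coh.structureModule C) 1) := by
    haveI := S0002.result Ω C (Coh.structureModule C) QCoh.isCoh_structureModule' 1
    exact (Module.finrank_zero_iff (R := Ω)).1 hg
  have hdeg : ∀ (Y : Set C) (hY : IsClosed Y), IsCompUnion Y →
      degOn Ω ωd 1 Y hY = 2 * chiY Ω Y hY - kY Ω Y hY := fun Y hY hc => by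
    have h0 : degOn Ω (Coh.structureModule C) 1 Y hY = 0 := by
      have := degOn_pow (k := Ω) hdim.le hi hY 0
      rw [Nat.cast_zero, zero_mul] at this
      exact this
    have h1 := degOn_congr (k := Ω) e (InvX.isInvertible_tensorMod hωdi hi) hY
    rw [degOn_tensor hdim.le hωdi hi hY, h0, degOn_dualizing hdim.le hgen ht hi hY hc] at h1
    omega
  have hu : IsCompUnion (Set.univ : Set C) := fun x _ =>
    let ⟨η, hη, hsp⟩ := NormAmpleX.exists_generic_specializes x; ⟨η, hη, trivial, hsp⟩
  have hH1 : Subsingleton (Coh.HH C ωd 1) := by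
    refine subsingleton_H1_of_deg hdim.le hgen ht hi hωdi fun Y hY hc hconn => ?_
    rw [hdeg Y hY hc, chiY_eq hdim.le hY hconn, genusY_eq_zero (k := Ω) hdim.le hO1 Y hY,
      kY_eq_card hdim.le hnod hY hc, Nat.card_coe_set_eq]
    have hle : (Y ∩ closure Yᶜ).ncard ≤ 3 := by
      have hsub : Y ∩ closure Yᶜ ⊆ {x : ↥C | Curv2.IsNode Ω C x} := fun x hx => by
        refine (hnod x (isClosed_singleton_of_meet hdim.le hY hx)).resolve_left fun hs => ?_
        haveI := isDomain_of_smooth (k := Ω) hs
        obtain ⟨η', hη', hη'Y, hsp'⟩ := hc x hx.1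
        obtain ⟨η, hη, hηY, hsp⟩ := closure_compl_subset _ hY hx.2
        exact hηY (eq_of_isDomain hη' hη hsp' hsp ▸ hη'Y)
      have := (Set.encard_le_encard hsub).trans h3
      exact ENat.toNat_le_of_le_natCast this
    push_cast
    omega
  refine ⟨?_, hH1, ?_⟩
  · haveI := hH1
    have hP := CurveDual.finrank_H0_twist ht (M := ωd) (CurveDeg.isCoh_of_isInvertible hωdi).1 hi e.symm
    obtain ⟨w⟩ : Nonempty (CohB1.tensorMod ω ω ≅ CohB1.tensorPow ω 2) := by
      letI := H23.PicMul.clMonoid C
      refine H23.PicMul.cl_eq_iff.1 ?_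
      rw [H23.PicMul.cl_tensor, H23.PicMul.cl_tensorPow, pow_two]
    haveI := S0002.result Ω C _ (CurveDeg.isCoh_of_isInvertible (H23.PicMul.isInvertible_tensorPow hi 2)) 0
    refine (Module.finrank_zero_iff (R := Ω)).1 ?_
    rw [← (CurveCohLib.hhEquiv (k := Ω) w 0).finrank_eq]
    exact hP.trans Module.finrank_zero_of_subsingleton
  · haveI := hH1
    have hd := hdeg Set.univ isClosed_univ hu
    have hk0 : kY Ω (Set.univ : Set C) isClosed_univ = 0 := by
      rw [kY_eq_card hdim.le hnod isClosed_univ hu]
      simp [Nat.card_eq_zero]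
    rw [degOn_univ Ω hdim.le (InvEnd.isFinLocFreeOfRank_one hωdi), hk0, chiY_univ] at hd
    unfold Curv2.deg at hd
    rw [NefH1.euler_eq Ω hdim.le (CurveDeg.isCoh_of_isInvertible hωdi).1,
      euler_structure_eq hdim.le, hg, Module.finrank_zero_of_subsingleton (M := Coh.HH C ωd 1)] at hd
    push_cast at hd
    omega


end Groth.Agent.S17262
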