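import Groth.Statements.S17271
import Groth.Agent.AlgStLib.EtLocal

set_option backward.isDefEq.respectTransparency false
set_option backward.isDefEq.respectTransparency.types false
-- import your own Groth.Agent.* helpers here

set_option autoImplicit false
open CategoryTheory CategoryTheory.Limits AlgebraicGeometry
universe u
open AlgSt

namespace Groth.Agent.S17271

/-- Let S be a scheme, P a property of morphisms of algebraic spaces over S (fppf sheaves on (Sch/S)
with representable diagonal and an etale surjective map from a scheme) which is stable under base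
change (along every pullback square of sheaves whose corners are algebraic spaces) and under
composition, and let 𝒳, 𝒴 be algebraic stacks over (Sch/S) for the etale topology (stacks in
groupoids with diagonal representable by algebraic spaces and a smooth surjective presentation by a
scheme), with a functor f : 𝒳 → 𝒴 over (Sch/S). Then the diagonal 𝒳 → 𝒳 ×_𝒴 𝒳 of f is representable
by algebraic spaces and has property P if and only if for every scheme T over S and every functor y
: (Sch/T) → 𝒴 over (Sch/S) the diagonal of the base change (Sch/T) ×_𝒴 𝒳 → (Sch/T) (first projection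
of the 2-fibre product) is representable by algebraic spaces and has property P. -/
theorem result (S : Scheme.{u}) (𝒳 𝒴 : AlgSt.Cat S)
    (h𝒳 : AlgSt.IsAlgStack Scheme.etalePrecoverage 𝒳) (h𝒴 : AlgSt.IsAlgStack Scheme.etalePrecoverage 𝒴)
    (P : MorphismProperty (AlgSp.Sp S))
    (hPb : ∀ ⦃X₁ Y₁ X₂ Y₂ : AlgSp.Sp S⦄, AlgSp.IsAlgSpace X₁ → AlgSp.IsAlgSpace Y₁ → AlgSp.IsAlgSpace X₂ →
      AlgSp.IsAlgSpace Y₂ → ∀ (a : X₁ ⟶ Y₁) (b : Y₂ ⟶ Y₁) (a' : X₂ ⟶ Y₂) (b' : X₂ ⟶ X₁),
      IsPullback b' a' a b → P a → P a')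
    (hPc : ∀ ⦃X Y Z : AlgSp.Sp S⦄, AlgSp.IsAlgSpace X → AlgSp.IsAlgSpace Y → AlgSp.IsAlgSpace Z →
      ∀ (a : X ⟶ Y) (b : Y ⟶ Z), P a → P b → P (a ≫ b))
    (f : 𝒳 ⥤ᵇ 𝒴) :
    AlgSt.RepByAlgSpWith P (FibCat.diag f) ↔
      ∀ (T : Over S) (y : FibCat.overCat T ⥤ᵇ 𝒴), AlgSt.RepByAlgSpWith P (FibCat.diag (FibCat.fpFst y f)) := ⟨fun h _ _ => Groth.Agent.AlgStLib.repByAlgSpWith_diag_fpFst h, fun h => Groth.Agent.AlgStLib.repByAlgSpWith_diag_of_fpFst h⟩
end Groth.Agent.S17271
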