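import Groth.Statements.S17276
import Groth.Agent.Lib.CurvePsi

set_option autoImplicit false
set_option linter.style.haveILetI false
universe u
open CategoryTheory CategoryTheory.Limits AlgebraicGeometry TopologicalSpace
open Variety

namespace Groth.Agent.S17276

/-- Let X be a proper scheme over a field k of dimension one (possibly reducible or non-reduced) and L
an invertible O_X-module that is nef, meaning χ(O_C ⊗ L) - χ(O_C) ≥ 0 for every integral closed
subscheme C ⊆ X of dimension one. Then the degree of L on X, namely χ(L) - χ(O_X), is nonnegative. -/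
theorem result (k : Type u) [Field k] (X : Scheme.{u})
    [X.Over (Spec (CommRingCat.of k))] [IsProper (X ↘ (Spec (CommRingCat.of k)))]
    (hdim : topologicalKrullDim X = 1) (L : X.Modules) (hL : PicF.IsInvertible L)
    (hnef : ∀ C : X.IdealSheafData, IsIntegral C.subscheme →
      topologicalKrullDim (C.support : Set X) = 1 →
        0 ≤ Curv2.euler k X (CohB1.tensorMod (ClSub.quotMod C) L) - Curv2.euler k X (ClSub.quotMod C)) :
    0 ≤ Curv2.deg k X L 1 := by
  haveI := Groth.Agent.CurveCohLib.isNoetherian_of_proper (k := k) (X := X)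
  have hL1 := Groth.Agent.InvEnd.isFinLocFreeOfRank_one hL
  let ψ := Groth.Agent.CurvePsi.eulerPsi k hL1
  have main : 0 ≤ ψ.toFun (Coh.structureModule X) := by
    refine Groth.Agent.QCoh.devissage_ideals (fun M => Coh.IsCoh M → 0 ≤ ψ.toFun M)
      (fun M N ⟨e⟩ h hN => ψ.congr e ▸ h ⟨(Groth.Agent.QCoh.isQCoh_iff_iso e).2 hN.1,
        (Groth.Agent.QCoh.isCoh_of_epi e.inv hN ((Groth.Agent.QCoh.isQCoh_iff_iso e).2 hN.1)).2⟩)
      (fun M h hM => (ψ.eq_zero_of_isZero hM h).ge) Set.univ
      (fun S hS h₁ h₂ h₃ p₁ p₃ _ => by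
        rw [ψ.add S.f S.g S.zero hS h₁ h₂ h₃]
        exact add_nonneg (p₁ h₁) (p₃ h₃))
      (fun ξ _ _ Z i _ _ hr I ι _ hI hI0 hc => ?_)
      Groth.Agent.QCoh.isCoh_structureModule' (Set.subset_univ _) Groth.Agent.QCoh.isCoh_structureModule'
    have hξ : i (genericPoint Z) = ξ :=
      ((isGenericPoint_def.2 ((Groth.Agent.QCoh.range_eq_closure i).symm.trans hr)).eq
        (isGenericPoint_def.2 rfl))
    have hsupp : CohB1.support ((Coh.push i).obj (Coh.structureModule Z)) ⊆ closure ({ξ} : Set X) :=
      hr ▸ Groth.Agent.QCoh.support_push_subset i Groth.Agent.QCoh.isQCoh_structureModule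
    have hsuppI : CohB1.support ((Coh.push i).obj I) ⊆ closure ({ξ} : Set X) :=
      hr ▸ Groth.Agent.QCoh.support_push_subset i hI
    by_cases hcl : IsClosed ({ξ} : Set X)
    · refine (ψ.zero hc fun x hx => ?_).ge
      rw [hcl.closure_eq] at hsuppI
      exact Set.mem_singleton_iff.1 (hsuppI hx) ▸ hcl
    haveI : IsNoetherian Z :=
      { __ := LocallyOfFiniteType.isLocallyNoetherian i
        __ := QuasiCompact.compactSpace_of_compactSpace i }
    have hO := Groth.Agent.QCoh.isCoh_push_structure i
    have hoff : ∀ x, x ≠ ξ → ¬ IsClosed ({x} : Set X) → x ∉ closure ({ξ} : Set X) := fun x hne hx h =>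
      hx (Groth.Agent.CurvePsi.isClosed_of_dim_le_one hdim.le (specializes_iff_mem_closure.2 h) hne)
    have hzero : ∀ {M : X.Modules}, CohB1.support M ⊆ closure ({ξ} : Set X) → ∀ x, x ≠ ξ →
        ¬ IsClosed ({x} : Set X) → Subsingleton (M.presheaf.stalk x) := fun h x hne hx =>
      not_not.1 fun h' => hoff x hne hx (h h')
    have heq : ψ.toFun ((Coh.push i).obj I) = ψ.toFun ((Coh.push i).obj (Coh.structureModule Z)) := by
      refine ψ.eq_of_map hc hO ((Coh.push i).map ι) fun x hx => ?_
      haveI : Mono ((Coh.push i).map ι) := inferInstance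
      haveI : Mono ((DerSch.stalkFunctor X x).map ((Coh.push i).map ι)) := inferInstance
      haveI : Epi ((DerSch.stalkFunctor X x).map ((Coh.push i).map ι)) := by
        have hsub : Subsingleton ((cokernel ((Coh.push i).map ι)).presheaf.stalk x) := by
          by_cases hne : x = ξ
          · subst hne
            rw [← hξ]
            exact not_not.1 (Groth.Agent.QCoh.mem_support_push_ideal i ι hI hI0).2
          · haveI : Subsingleton ((DerSch.stalkFunctor X x).obj ((Coh.push i).obj (Coh.structureModule Z))) :=
              hzero hsupp x hne hx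
            exact ((ModuleCat.epi_iff_surjective
              ((DerSch.stalkFunctor X x).map (cokernel.π ((Coh.push i).map ι)))).1 inferInstance).subsingleton
        haveI : Subsingleton ((DerSch.stalkFunctor X x).obj (cokernel ((Coh.push i).map ι))) := hsub
        exact Preadditive.epi_of_isZero_cokernel _ ((ModuleCat.isZero_of_subsingleton _).of_iso
          (PreservesCokernel.iso (DerSch.stalkFunctor X x) ((Coh.push i).map ι)).symm)
      exact isIso_of_mono_of_epi _
    rw [heq]
    let C := Scheme.IdealSheafData.vanishingIdeal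
      (⟨closure {ξ}, isClosed_closure⟩ : TopologicalSpace.Closeds X)
    have hrC : Set.range C.subschemeι = closure ({ξ} : Set X) := by
      rw [Scheme.IdealSheafData.range_subschemeι]
      rfl
    obtain ⟨eC, -⟩ := Groth.Agent.QCoh.closedImmersion_iso_of_range i C.subschemeι (hrC.trans hr.symm)
    haveI : Nonempty C.subscheme := ⟨eC.inv (genericPoint Z)⟩
    haveI : IsIntegral C.subscheme := isIntegral_of_isOpenImmersion eC.hom
    have hs : (C.support : Set X) = closure ({ξ} : Set X) :=
      rfl
    have hd1 : topologicalKrullDim (C.support : Set X) = 1 := by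
      rw [hs]
      refine le_antisymm ((Topology.IsInducing.subtypeVal.topologicalKrullDim_le).trans hdim.le) ?_
      obtain ⟨y, hy, hyne⟩ : ∃ y ∈ closure ({ξ} : Set X), y ≠ ξ := by
        by_contra h'
        push Not at h'
        exact hcl (closure_eq_iff_isClosed.1 (Set.Subset.antisymm h' subset_closure))
      let T := (closure ({ξ} : Set X))
      let cl : T → IrreducibleCloseds T := fun z =>
        ⟨closure {z}, isIrreducible_singleton.closure, isClosed_closure⟩
      have hsp : (⟨ξ, subset_closure rfl⟩ : T) ⤳ ⟨y, hy⟩ :=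
        subtype_specializes_iff _ _ |>.2 (specializes_iff_mem_closure.2 hy)
      have hlt : cl ⟨y, hy⟩ < cl ⟨ξ, subset_closure rfl⟩ :=
        lt_of_le_of_ne (specializes_iff_closure_subset.1 hsp) fun he =>
          hyne (congrArg Subtype.val (inseparable_iff_closure_eq.2 (congrArg SetLike.coe he)).eq)
      exact Order.LTSeries.length_le_krullDim
        (⟨1, ![cl ⟨y, hy⟩, cl ⟨ξ, subset_closure rfl⟩], fun i => by fin_cases i; exact hlt⟩ :
          LTSeries (IrreducibleCloseds T))
    obtain ⟨eq⟩ := Groth.Agent.QCoh.push_structure_iso C.subschemeι i (hr.trans hrC.symm)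
    rw [ψ.congr eq]
    refine le_of_le_of_eq (hnef C inferInstance hd1) ?_
    show _ = Curv2.euler k X _ - ((1 : ℕ) : ℤ) * Curv2.euler k X _
    rw [Nat.cast_one, one_mul]
    exact congrArg (· - Curv2.euler k X (ClSub.quotMod C))
      (Groth.Agent.Euler.euler_congr k (Groth.Agent.CurveTensor.commIso (ClSub.quotMod C) L))
  have h1 : ψ.toFun (Coh.structureModule X) = Curv2.deg k X L 1 := by
    show Curv2.euler k X _ - _ = _
    rw [Groth.Agent.Euler.euler_congr k (Groth.Agent.KFlatLib.tensorUnitIso L)]
    rfl
  rw [← h1]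
  exact main

end Groth.Agent.S17276
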