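import Groth.Statements.S17277
import Groth.Agent.Lib.BigVol

set_option autoImplicit false
set_option backward.isDefEq.respectTransparency false
set_option backward.isDefEq.respectTransparency.types false
set_option linter.style.haveILetI false
set_option linter.unusedSectionVars false
set_option maxHeartbeats 400000
universe u
open CategoryTheory CategoryTheory.Limits AlgebraicGeometry TopologicalSpace
open Variety

namespace Groth.Agent.S17277

/-- Let X be a proper scheme over a field k of dimension d and L an invertible O_X-module that is big: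
there is a real constant c > 0 with dim_k H^0(X, L^{⊗n}) > c·n^d for all sufficiently large n. Then
for every closed subscheme Z ⊆ X of dimension < d, with quasi-coherent ideal sheaf I_Z, there is an
integer m > 0 with H^0(X, I_Z ⊗ L^{⊗m}) ≠ 0. -/
theorem result (k : Type u) [Field k] (X : Scheme.{u})
    [X.Over (Spec (CommRingCat.of k))] [IsProper (X ↘ (Spec (CommRingCat.of k)))]
    (d : ℕ) (hdim : topologicalKrullDim X = d) (L : X.Modules) (hL : PicF.IsInvertible L)
    (hbig : ∃ c : ℝ, 0 < c ∧ ∀ᶠ n : ℕ in Filter.atTop,
      c * (n : ℝ) ^ d < (Module.finrank k (Coh.HH X (CohB1.tensorPow L n) 0) : ℝ))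
    (Z : X.IdealSheafData) (hZ : topologicalKrullDim (Z.support : Set X) < d) :
    ∃ m : ℕ, 0 < m ∧
      Nontrivial (Coh.HH X (CohB1.tensorMod (ClSub.idealMod Z) (CohB1.tensorPow L m)) 0) := by
  obtain ⟨c, hc, hev⟩ := hbig
  exact BigVol.exists_sections_idealMod k hdim.le hL Z hZ ⟨c, hc, (hev.mono fun m hm => hm.le).frequently⟩

end Groth.Agent.S17277
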