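import Groth.Statements.S17278
import Groth.Agent.Nakai.Big

set_option autoImplicit false
set_option backward.isDefEq.respectTransparency false
set_option backward.isDefEq.respectTransparency.types false
set_option maxHeartbeats 1000000
universe u
open CategoryTheory CategoryTheory.Limits AlgebraicGeometry TopologicalSpace
open Variety
open Groth.Agent.H23 Groth.Agent.H23.TrivBasic Groth.Agent.H23.PicMul Groth.Agent.NefBig

namespace Groth.Agent.S17278

attribute [local instance] PicMul.clMonoid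

/-- Let X be a projective variety over a field k (an integral scheme, proper over k, carrying an ample
invertible module A₀) of dimension d, and L an invertible O_X-module. Then L is big, meaning that
for some real c > 0 one has dim_k H^0(X, L^{⊗n}) > c·n^d for all sufficiently large n, if and only
if for every ample invertible O_X-module A, with a tensor inverse A' (A' ⊗ A ≅ O_X), there is an
integer m > 0 with H^0(X, A' ⊗ L^{⊗m}) ≠ 0. -/
theorem result (k : Type u) [Field k]
    (X : Scheme.{u}) [X.Over (Spec (CommRingCat.of k))] [IsProper (X ↘ (Spec (CommRingCat.of k)))] [IsIntegral X]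
    (A₀ : X.Modules) (hA₀ : CohB1.IsAmple A₀)
    (d : ℕ) (hdim : topologicalKrullDim X = d) (L : X.Modules) (hL : PicF.IsInvertible L) :
    (∃ c : ℝ, 0 < c ∧ ∀ᶠ n : ℕ in Filter.atTop,
        c * (n : ℝ) ^ d < (Module.finrank k (Coh.HH X (CohB1.tensorPow L n) 0) : ℝ)) ↔
      ∀ (A A' : X.Modules), CohB1.IsAmple A → ClSub.IsInverseOf A' A →
        ∃ m : ℕ, 0 < m ∧ Nontrivial (Coh.HH X (CohB1.tensorMod A' (CohB1.tensorPow L m)) 0) := by
  have hn := deg_genericPoint_of_dim (k := k) (X := X) hdim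
  constructor
  · rintro ⟨c, hc, hev⟩ A A' hA ⟨e⟩
    obtain ⟨q, hq0, hqc⟩ := exists_rat_btwn hc
    have hg : Grows k L d := ⟨1, q, one_pos, by exact_mod_cast hq0, hev.mono fun μ hμ => by
      rw [one_mul]
      have : (q : ℝ) * (μ : ℝ) ^ d ≤ (h0 k (CohB1.tensorPow L μ) : ℝ) :=
        (mul_le_mul_of_nonneg_right hqc.le (pow_nonneg (Nat.cast_nonneg _) _)).trans hμ.le
      exact_mod_cast this⟩
    obtain ⟨m, φ, hm, hφ⟩ := exists_mono_of_grows hn hL hg hA
    have hinv : PicF.IsInvertible A' := by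
      obtain ⟨B, hB, ⟨eB⟩⟩ := PicInv.exists_inverse hA.1
      refine PicMul.isInvertible_of_iso (cl_eq_iff.1 ?_).some hB
      have h1 : PicF.cl A' * PicF.cl A = 1 := by rw [← cl_tensor, PicMul.one_def]; exact cl_eq_iff.2 ⟨e⟩
      have h2 : PicF.cl A * PicF.cl B = 1 := by rw [← cl_tensor, PicMul.one_def]; exact cl_eq_iff.2 ⟨eB⟩
      exact (left_inv_eq_right_inv h1 h2).symm
    haveI := hφ
    obtain ⟨ψ, hψ⟩ := mono_twist φ hinv
    obtain ⟨e₁⟩ := cl_eq_iff.1 (show PicF.cl (Coh.structureModule X) = PicF.cl (CohB1.tensorMod A A') by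
      rw [cl_tensor, mul_comm, ← cl_tensor]; exact (cl_eq_iff.2 ⟨e⟩).symm)
    obtain ⟨e₂⟩ := cl_eq_iff.1 (show PicF.cl (CohB1.tensorMod (CohB1.tensorPow L m) A') =
        PicF.cl (CohB1.tensorMod A' (CohB1.tensorPow L m)) by rw [cl_tensor, cl_tensor, mul_comm])
    haveI := hψ
    exact ⟨m, hm, CurveAmple.nontrivial_h0 (one_ne_zero_of_mono (e₁.hom ≫ ψ ≫ e₂.hom))⟩
  · intro h
    obtain ⟨c, hc, hev⟩ := growth_of_forall_mono (k := k) hn hA₀ hL fun A hA => by
      obtain ⟨A', hA', ⟨e⟩⟩ := PicInv.exists_inverse hA.1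
      obtain ⟨e'⟩ := cl_eq_iff.1 (show PicF.cl (CohB1.tensorMod A' A) = PicF.cl (Coh.structureModule X) by
        rw [cl_tensor, mul_comm, ← cl_tensor]; exact cl_eq_iff.2 ⟨e⟩)
      obtain ⟨m, hm, hnt⟩ := h A A' hA ⟨e'⟩
      obtain ⟨σ, hσ⟩ := CurveAmple.exists_section_ne_zero hnt
      have hLm := InvX.isInvertible_tensorPow hL m
      haveI := CurveAmple.mono_ofSect (InvX.isInvertible_tensorMod hA' hLm) hσ
      obtain ⟨g, hg⟩ := mono_of_mono_unit (InvX.ofSect σ) hA.1 (Q := CohB1.tensorPow L m) (by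
        rw [cl_tensor, mul_right_comm, ← cl_tensor, cl_eq_iff.2 ⟨e'⟩, ← PicMul.one_def, one_mul])
      exact ⟨m, g, hm, hg⟩
    refine ⟨(c : ℝ) / 2, by positivity, ?_⟩
    filter_upwards [hev, Filter.eventually_gt_atTop 0] with μ h1 h2
    have h3 : (c : ℝ) * (μ : ℝ) ^ d ≤ (h0 k (CohB1.tensorPow L μ) : ℝ) := by exact_mod_cast h1
    have h4 : (0 : ℝ) < (c : ℝ) * (μ : ℝ) ^ d := by positivity
    show (c : ℝ) / 2 * (μ : ℝ) ^ d < (h0 k (CohB1.tensorPow L μ) : ℝ)
    linarith

end Groth.Agent.S17278
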