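import Groth.Statements.S1728
import Groth.Agent.LC.InjNoeth

set_option autoImplicit false
universe u
open InjHull

namespace Groth.Agent.S1728

/-- Let I be an injective R-module and E a submodule of I. Then E is an injective module if and only if
every submodule E' of I containing E, such that every nonzero submodule of E' meets E nontrivially,
is equal to E. -/
theorem result (R : Type u) [CommRing R] (I : Type u) [AddCommGroup I] [Module R I] [Module.Injective R I] (E : Submodule R I) : Module.Injective R E ↔ ∀ E' : Submodule R I, E ≤ E' → (∀ N : Submodule R I, N ≤ E' → N ≠ ⊥ → N ⊓ E ≠ ⊥) → E' = E := by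
  constructor
  · intro hE E' hle h
    have he : InjHull.IsEssentialInj (Submodule.inclusion hle) := by
      refine Groth.Agent.LC.isEssentialInj_iff.2 ⟨Submodule.inclusion_injective _, fun x hx => ?_⟩
      obtain ⟨y, ⟨hy1, hy2⟩, hy0⟩ := (Submodule.ne_bot_iff _).1 (h (R ∙ (x : I)) ((Submodule.span_singleton_le_iff_mem _ _).2 x.2) (by simpa using hx))
      obtain ⟨r, rfl⟩ := Submodule.mem_span_singleton.1 hy1
      exact ⟨r, ⟨⟨_, hy2⟩, rfl⟩, fun h0 => hy0 (congrArg Subtype.val h0)⟩
    refine le_antisymm (fun x hx => ?_) hle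
    obtain ⟨y, hy⟩ := Groth.Agent.LC.surjective_of_isEssentialInj he ⟨x, hx⟩
    have := congrArg Subtype.val hy
    simp only [Submodule.coe_inclusion] at this
    exact this ▸ y.2
  · intro h
    obtain ⟨C, hC⟩ := Groth.Agent.LC.exists_isCompl_of_forall_essential E fun E' hle he => h E' hle fun N hN hN0 => by
      obtain ⟨x, hx, hx0⟩ := (Submodule.ne_bot_iff _).1 hN0
      obtain ⟨r, hr, hr0⟩ := he x (hN hx) hx0
      exact (Submodule.ne_bot_iff _).2 ⟨r • x, ⟨N.smul_mem r hx, hr⟩, hr0⟩
    exact Groth.Agent.LC.injective_of_isCompl hC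

end Groth.Agent.S1728
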