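import Groth.Statements.S17280
import Groth.Agent.CurveCohLib.Stable
import Groth.Agent.LinSerLib.Morphism
import Groth.Agent.SeesawX.Glue

set_option autoImplicit false
set_option backward.isDefEq.respectTransparency false
set_option backward.isDefEq.respectTransparency.types false
set_option linter.style.haveILetI false
set_option linter.unusedSectionVars false
set_option maxHeartbeats 400000
universe u
open CategoryTheory CategoryTheory.Limits AlgebraicGeometry TopologicalSpace
open Variety

namespace Groth.Agent.S17280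

/-- Scheme case, curve-test form of nefness: let X be a proper scheme over a field k and 0 → E' → E →
E'' → 0 a short exact sequence whose three terms are finite locally free O_X-modules. Assume that E'
and E'' are nef in the curve-test sense: for every regular projective curve C over k (integral,
proper over k, of dimension one, all local rings regular), every k-morphism f : C → X and every
invertible quotient M of the pulled-back module, deg M = χ(M) - χ(O_C) ≥ 0. Then E is nef in the
same sense. (The source states this for proper algebraic spaces and nefness of O(1) on P(E); on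
proper schemes the two senses agree by the Barton–Kleiman criterion.) -/
theorem result (k : Type u) [Field k] (X : Scheme.{u})
    [X.Over (Spec (CommRingCat.of k))] [IsProper (X ↘ (Spec (CommRingCat.of k)))] (S : ShortComplex X.Modules) (hS : S.ShortExact)
    (h₁ : FlatMod.IsFinLocFree S.X₁) (h₂ : FlatMod.IsFinLocFree S.X₂) (h₃ : FlatMod.IsFinLocFree S.X₃)
    (hnef₁ : ∀ (C : Scheme.{u}) [C.Over (Spec (CommRingCat.of k))] [IsProper (C ↘ (Spec (CommRingCat.of k)))] [IsIntegral C],
      topologicalKrullDim C = 1 → (∀ x : C, IsRegularLocalRing (C.presheaf.stalk x)) →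
      ∀ (f : C ⟶ X), f ≫ (X ↘ (Spec (CommRingCat.of k))) = C ↘ (Spec (CommRingCat.of k)) →
      ∀ (M : C.Modules), PicF.IsInvertible M →
      ∀ (q : (Scheme.Modules.pullback f).obj S.X₁ ⟶ M), Epi q → 0 ≤ Curv2.deg k C M 1)
    (hnef₃ : ∀ (C : Scheme.{u}) [C.Over (Spec (CommRingCat.of k))] [IsProper (C ↘ (Spec (CommRingCat.of k)))] [IsIntegral C],
      topologicalKrullDim C = 1 → (∀ x : C, IsRegularLocalRing (C.presheaf.stalk x)) →
      ∀ (f : C ⟶ X), f ≫ (X ↘ (Spec (CommRingCat.of k))) = C ↘ (Spec (CommRingCat.of k)) →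
      ∀ (M : C.Modules), PicF.IsInvertible M →
      ∀ (q : (Scheme.Modules.pullback f).obj S.X₃ ⟶ M), Epi q → 0 ≤ Curv2.deg k C M 1) :
    ∀ (C : Scheme.{u}) [C.Over (Spec (CommRingCat.of k))] [IsProper (C ↘ (Spec (CommRingCat.of k)))] [IsIntegral C],
    topologicalKrullDim C = 1 → (∀ x : C, IsRegularLocalRing (C.presheaf.stalk x)) →
    ∀ (f : C ⟶ X), f ≫ (X ↘ (Spec (CommRingCat.of k))) = C ↘ (Spec (CommRingCat.of k)) →
    ∀ (M : C.Modules), PicF.IsInvertible M →
    ∀ (q : (Scheme.Modules.pullback f).obj S.X₂ ⟶ M), Epi q → 0 ≤ Curv2.deg k C M 1 := by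
  intro C _ _ _ hC hreg f hf M hM q hq
  haveI := hq
  haveI := Groth.Agent.CurveCohLib.isNoetherian_of_proper (k := k) (X := C)
  haveI : PreservesColimits (Scheme.Modules.pullback f) := (Scheme.Modules.pullbackPushforwardAdjunction f).leftAdjoint_preservesColimits
  haveI : (Scheme.Modules.pullback f).Additive := Functor.additive_of_preserves_binary_products _
  let φ := (Scheme.Modules.pullback f).map S.f ≫ q
  have hpid : ∀ x : C, IsPrincipalIdealRing (C.presheaf.stalk x) := fun x => by
    haveI := hreg x
    exact Groth.Agent.DimFormula.isPrincipalIdealRing_of_regular_dim_le_one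
      ((Groth.Agent.CurveCohLib.ringKrullDim_stalk_le_topologicalKrullDim x).trans hC.le)
  have hM1 := Groth.Agent.InvEnd.isFinLocFreeOfRank_one hM
  have hMf := (Groth.Agent.ConsPropLib.isFinLocFreeOfRank_iff.1 hM1).1
  have hE' : FlatMod.IsFinLocFree ((Scheme.Modules.pullback f).obj S.X₁) :=
    Groth.Agent.SeesawX.isFinLocFree_pullback f h₁
  have hEc : Coh.IsCoh ((Scheme.Modules.pullback f).obj S.X₁) :=
    Groth.Agent.QCoh.isCoh_iff_isFP.2 (Groth.Agent.QCoh.isFP_of_isFinLocFree hE')
  have hMc := Groth.Agent.AmpleVan.isCoh_invertible hM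
  have hI : Coh.IsCoh (Abelian.image φ) :=
    Groth.Agent.QCoh.isCoh_kernel hMc (Groth.Agent.QCoh.isCoh_cokernel hEc.1 hMc φ) _
  have hIr := Groth.Agent.CurveCohLib.isFinLocFreeOfRank_of_mono hpid (Abelian.image.ι φ) hI hMf
  have hle : Groth.Agent.CurveCohLib.genRank (Abelian.image φ) ≤ 1 := by
    have h := Groth.Agent.CurveCohLib.genRank_add (S := ShortComplex.mk (Abelian.image.ι φ)
      (cokernel.π (Abelian.image.ι φ)) (cokernel.condition _))
      { exact := ShortComplex.exact_of_g_is_cokernel _ (cokernelIsCokernel _) } hMc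
    change Groth.Agent.CurveCohLib.genRank M = _ at h
    rw [Groth.Agent.CurveCohLib.genRank_eq hM1] at h
    exact h ▸ Nat.le_add_right _ _
  rcases Nat.eq_zero_or_pos (Groth.Agent.CurveCohLib.genRank (Abelian.image φ)) with h0 | h1
  · rw [h0] at hIr
    have hz := Groth.Agent.CurveCohLib.isZero_of_isFinLocFreeOfRank_zero hIr
    have hφ : (Scheme.Modules.pullback f).map S.f ≫ q = 0 := by
      show φ = 0
      rw [← Abelian.image.fac φ, hz.eq_of_tgt (Abelian.factorThruImage φ) 0, zero_comp]
    obtain ⟨q', hq'⟩ := CokernelCofork.IsColimit.desc'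
      (isColimitCoforkMapOfIsColimit' (Scheme.Modules.pullback f) S.zero hS.gIsCokernel) q hφ
    exact hnef₃ C hC hreg f hf M hM q' (epi_of_epi_fac hq')
  · have hr1 : Groth.Agent.CurveCohLib.genRank (Abelian.image φ) = 1 := by omega
    rw [hr1] at hIr
    have hIinv := Groth.Agent.CurveDuality.isInvertible_of_rank_one hIr
    exact (hnef₁ C hC hreg f hf _ hIinv (Abelian.factorThruImage φ) inferInstance).trans
      (Groth.Agent.CurveCohLib.deg_le_of_mono k hC (Abelian.image.ι φ) hIr hM1).1

end Groth.Agent.S17280
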