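import Groth.Statements.S17282
import Groth.Agent.NefVB.TensorNef

set_option autoImplicit false
universe u
open CategoryTheory CategoryTheory.Limits AlgebraicGeometry TopologicalSpace
open Variety

namespace Groth.Agent.S17282

/-- Scheme case, curve-test form of nefness: let X be a proper scheme over a field k and E, E' finite
locally free O_X-modules, both nef in the curve-test sense: for every regular projective curve C
over k (integral, proper over k, of dimension one, all local rings regular), every k-morphism f : C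
→ X and every invertible quotient M of the pulled-back module, deg M = χ(M) - χ(O_C) ≥ 0. Then E ⊗
E', the tensor powers E^{⊗n} (n ≥ 0) and the exterior powers Λ^n E (any module that is
affine-locally the n-th exterior power of E, compatibly with restrictions) are nef in the same
sense. (The source states this for proper algebraic spaces, with nefness of O(1) on P(E), and also
for the symmetric and divided powers, which are not stated here; on proper schemes the two senses of
nef agree by the Barton–Kleiman criterion.) -/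
theorem result (k : Type u) [Field k] (X : Scheme.{u})
    [X.Over (Spec (CommRingCat.of k))] [IsProper (X ↘ (Spec (CommRingCat.of k)))]
    (E E' : X.Modules) (hE : FlatMod.IsFinLocFree E) (hE' : FlatMod.IsFinLocFree E')
    (hnef : ∀ (C : Scheme.{u}) [C.Over (Spec (CommRingCat.of k))] [IsProper (C ↘ (Spec (CommRingCat.of k)))] [IsIntegral C],
      topologicalKrullDim C = 1 → (∀ x : C, IsRegularLocalRing (C.presheaf.stalk x)) →
      ∀ (f : C ⟶ X), f ≫ (X ↘ (Spec (CommRingCat.of k))) = C ↘ (Spec (CommRingCat.of k)) →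
      ∀ (M : C.Modules), PicF.IsInvertible M →
      ∀ (q : (Scheme.Modules.pullback f).obj E ⟶ M), Epi q → 0 ≤ Curv2.deg k C M 1)
    (hnef' : ∀ (C : Scheme.{u}) [C.Over (Spec (CommRingCat.of k))] [IsProper (C ↘ (Spec (CommRingCat.of k)))] [IsIntegral C],
      topologicalKrullDim C = 1 → (∀ x : C, IsRegularLocalRing (C.presheaf.stalk x)) →
      ∀ (f : C ⟶ X), f ≫ (X ↘ (Spec (CommRingCat.of k))) = C ↘ (Spec (CommRingCat.of k)) →
      ∀ (M : C.Modules), PicF.IsInvertible M →
      ∀ (q : (Scheme.Modules.pullback f).obj E' ⟶ M), Epi q → 0 ≤ Curv2.deg k C M 1) :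
    (∀ (C : Scheme.{u}) [C.Over (Spec (CommRingCat.of k))] [IsProper (C ↘ (Spec (CommRingCat.of k)))] [IsIntegral C],
      topologicalKrullDim C = 1 → (∀ x : C, IsRegularLocalRing (C.presheaf.stalk x)) →
      ∀ (f : C ⟶ X), f ≫ (X ↘ (Spec (CommRingCat.of k))) = C ↘ (Spec (CommRingCat.of k)) →
      ∀ (M : C.Modules), PicF.IsInvertible M →
      ∀ (q : (Scheme.Modules.pullback f).obj (CohB1.tensorMod E E') ⟶ M), Epi q → 0 ≤ Curv2.deg k C M 1) ∧
    (∀ n : ℕ, ∀ (C : Scheme.{u}) [C.Over (Spec (CommRingCat.of k))] [IsProper (C ↘ (Spec (CommRingCat.of k)))] [IsIntegral C],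
        topologicalKrullDim C = 1 → (∀ x : C, IsRegularLocalRing (C.presheaf.stalk x)) →
        ∀ (f : C ⟶ X), f ≫ (X ↘ (Spec (CommRingCat.of k))) = C ↘ (Spec (CommRingCat.of k)) →
        ∀ (M : C.Modules), PicF.IsInvertible M →
        ∀ (q : (Scheme.Modules.pullback f).obj (CohB1.tensorPow E n) ⟶ M), Epi q → 0 ≤ Curv2.deg k C M 1) ∧
    (∀ (n : ℕ) (Λ : X.Modules), ExtPow.IsExtPow n E Λ →
      ∀ (C : Scheme.{u}) [C.Over (Spec (CommRingCat.of k))] [IsProper (C ↘ (Spec (CommRingCat.of k)))] [IsIntegral C],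
        topologicalKrullDim C = 1 → (∀ x : C, IsRegularLocalRing (C.presheaf.stalk x)) →
        ∀ (f : C ⟶ X), f ≫ (X ↘ (Spec (CommRingCat.of k))) = C ↘ (Spec (CommRingCat.of k)) →
        ∀ (M : C.Modules), PicF.IsInvertible M →
        ∀ (q : (Scheme.Modules.pullback f).obj Λ ⟶ M), Epi q → 0 ≤ Curv2.deg k C M 1) := by
  refine ⟨Groth.Agent.NefVB.curveNef_tensor k hE hE' hnef hnef',
    fun n => (Groth.Agent.NefVB.curveNef_tensorPow k hE hnef n).2, fun n Λ hΛ => ?_⟩
  obtain ⟨e⟩ := Groth.Agent.H28.ExtSh.nonempty_iso_L hE hΛ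
  exact Groth.Agent.NefVB.curveNef_of_epi k e.hom (Groth.Agent.NefVB.curveNef_ext k hE hnef n)

end Groth.Agent.S17282
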