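import Groth.Statements.S17283
import Groth.Agent.CurveTest.Basic

set_option backward.isDefEq.respectTransparency false
set_option backward.isDefEq.respectTransparency.types false

set_option autoImplicit false
universe u
open CategoryTheory CategoryTheory.Limits AlgebraicGeometry TopologicalSpace
open Variety

namespace Groth.Agent.S17283

/-- Scheme case, curve-test form of nefness: let f : Y → X be a surjective k-morphism of proper schemes
over a field k and E a finite locally free O_X-module. If the pullback f^*E is nef on Y in the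
curve-test sense (for every regular projective curve C over k — integral, proper over k, of
dimension one, all local rings regular — every k-morphism g : C → Y and every invertible quotient M
of g^*(f^*E), deg M = χ(M) - χ(O_C) ≥ 0), then E is nef on X in the same sense. (The source states
this for proper algebraic spaces with nefness of O(1) on P(E); on proper schemes the senses agree by
the Barton–Kleiman criterion.) -/
theorem result (k : Type u) [Field k] (X Y : Scheme.{u})
    [X.Over (Spec (CommRingCat.of k))] [IsProper (X ↘ (Spec (CommRingCat.of k)))] [Y.Over (Spec (CommRingCat.of k))] [IsProper (Y ↘ (Spec (CommRingCat.of k)))]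
    (f : Y ⟶ X) (hf : f ≫ (X ↘ (Spec (CommRingCat.of k))) = Y ↘ (Spec (CommRingCat.of k))) [Surjective f]
    (E : X.Modules) (hE : FlatMod.IsFinLocFree E)
    (hnef : ∀ (C : Scheme.{u}) [C.Over (Spec (CommRingCat.of k))] [IsProper (C ↘ (Spec (CommRingCat.of k)))] [IsIntegral C],
      topologicalKrullDim C = 1 → (∀ x : C, IsRegularLocalRing (C.presheaf.stalk x)) →
      ∀ (g : C ⟶ Y), g ≫ (Y ↘ (Spec (CommRingCat.of k))) = C ↘ (Spec (CommRingCat.of k)) →
      ∀ (M : C.Modules), PicF.IsInvertible M →
      ∀ (q : (Scheme.Modules.pullback g).obj ((Scheme.Modules.pullback f).obj E) ⟶ M), Epi q → 0 ≤ Curv2.deg k C M 1) :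
    ∀ (C : Scheme.{u}) [C.Over (Spec (CommRingCat.of k))] [IsProper (C ↘ (Spec (CommRingCat.of k)))] [IsIntegral C],
    topologicalKrullDim C = 1 → (∀ x : C, IsRegularLocalRing (C.presheaf.stalk x)) →
    ∀ (g : C ⟶ X), g ≫ (X ↘ (Spec (CommRingCat.of k))) = C ↘ (Spec (CommRingCat.of k)) →
    ∀ (M : C.Modules), PicF.IsInvertible M →
    ∀ (q : (Scheme.Modules.pullback g).obj E ⟶ M), Epi q → 0 ≤ Curv2.deg k C M 1 := by
  intro C _ _ _ hC hreg g hg M hM q hq
  let Z := pullback g f
  let pr : Z ⟶ C := pullback.fst g f
  let h : Z ⟶ Y := pullback.snd g f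
  letI : Z.Over (Spec (CommRingCat.of k)) := ⟨pr ≫ (C ↘ Spec (CommRingCat.of k))⟩
  haveI : IsProper (f ≫ (X ↘ Spec (CommRingCat.of k))) := hf ▸ ‹_›
  haveI : IsProper f := IsProper.of_comp f (X ↘ Spec (CommRingCat.of k))
  haveI : IsProper pr := inferInstanceAs (IsProper (pullback.fst g f))
  haveI : IsProper (Z ↘ Spec (CommRingCat.of k)) := inferInstanceAs (IsProper (pr ≫ _))
  haveI : Surjective pr := MorphismProperty.pullback_fst g f ‹_›
  have hh : h ≫ (Y ↘ Spec (CommRingCat.of k)) = Z ↘ Spec (CommRingCat.of k) := by
    show _ = pr ≫ (C ↘ Spec (CommRingCat.of k))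
    rw [← hf, ← hg, ← Category.assoc, ← Category.assoc, pullback.condition]
  let q' : (Scheme.Modules.pullback h).obj ((Scheme.Modules.pullback f).obj E) ⟶ (Scheme.Modules.pullback pr).obj M :=
    ((Scheme.Modules.pullbackComp h f).app E).hom ≫
      ((Scheme.Modules.pullbackCongr (pullback.condition (f := g) (g := f)).symm).app E).hom ≫
      ((Scheme.Modules.pullbackComp pr g).app E).inv ≫ (Scheme.Modules.pullback pr).map q
  haveI : Epi ((Scheme.Modules.pullback pr).map q) := inferInstance
  haveI : Epi q' := inferInstance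
  have hZ := CurveTest.isNef_of_quotient (fun D _ _ _ => hnef D) h hh (PicClLib.isInvertible_pullback pr hM) q'
  have hC' := NefPull.isNef_of_pullback pr rfl hM hZ
  refine (NefPull.deg_nonneg hC (𝟙 C) (Category.id_comp _) hM hC').trans_eq ?_
  exact CurveRR.deg_congr k ((Scheme.Modules.pullbackId C).app M) 1

end Groth.Agent.S17283
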