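import Groth.Statements.S17285
import Groth.Agent.Lib.GenFinPush
import Groth.Agent.Lib.BigVol

set_option autoImplicit false
set_option backward.isDefEq.respectTransparency false
set_option backward.isDefEq.respectTransparency.types false
set_option linter.style.haveILetI false
set_option linter.unusedSectionVars false
set_option maxHeartbeats 400000
universe u
open CategoryTheory CategoryTheory.Limits AlgebraicGeometry TopologicalSpace
open Variety

namespace Groth.Agent.S17285

/-- Let X and Y be proper varieties over a field k (integral schemes, proper over k) of the same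
dimension d, f : Y → X a birational k-morphism (generic point to generic point, with a single point
in that fibre and the same residue field there), and L an invertible O_X-module. Then L is big,
meaning that some real c > 0 has dim_k H^0(X, L^{⊗n}) > c·n^d for all sufficiently large n, if and
only if f^*L is big on Y in the same sense. (The source states this for birational morphisms of
proper schemes over k; it is stated here for integral X and Y, the case in which the printed
argument's injectivity of O_X → f_*O_Y holds.) -/
theorem result (k : Type u) [Field k] (X Y : Scheme.{u})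
    [X.Over (Spec (CommRingCat.of k))] [IsProper (X ↘ (Spec (CommRingCat.of k)))] [IsIntegral X]
    [Y.Over (Spec (CommRingCat.of k))] [IsProper (Y ↘ (Spec (CommRingCat.of k)))] [IsIntegral Y]
    (f : Y ⟶ X) (hf : f ≫ (X ↘ (Spec (CommRingCat.of k))) = Y ↘ (Spec (CommRingCat.of k))) (hbir : RadPt.IsBirational f)
    (d : ℕ) (hdimX : topologicalKrullDim X = d) (hdimY : topologicalKrullDim Y = d)
    (L : X.Modules) (hL : PicF.IsInvertible L) :
    (∃ c : ℝ, 0 < c ∧ ∀ᶠ n : ℕ in Filter.atTop,
        c * (n : ℝ) ^ d < (Module.finrank k (Coh.HH X (CohB1.tensorPow L n) 0) : ℝ)) ↔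
      (∃ c : ℝ, 0 < c ∧ ∀ᶠ n : ℕ in Filter.atTop,
        c * (n : ℝ) ^ d < (Module.finrank k (Coh.HH Y (CohB1.tensorPow ((Scheme.Modules.pullback f).obj L) n) 0) : ℝ)) := by
  have hg : ∀ Z : Scheme.{u}, ∀ [IsIntegral Z], genericPoint Z ∈ genericPoints Z := fun Z _ => by rw [genericPoints_eq_singleton]; exact Set.mem_singleton _
  have hdom : f (genericPoint Y) = genericPoint X := by
    have h := hbir.1.1 (hg Y)
    rw [genericPoints_eq_singleton] at h
    exact h
  have hd : f.residueDegree (genericPoint Y) = 1 := by
    have h := (hbir.2 _ (hg X)).2 (genericPoint Y) hdom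
    unfold Scheme.Hom.residueDegree
    letI := (f.residueFieldMap (genericPoint Y)).hom.toAlgebra
    exact (AlgEquiv.ofBijective (Algebra.ofId _ _) h).symm.toLinearEquiv.finrank_eq.trans (Module.finrank_self _)
  obtain ⟨C, hC⟩ := GenFinPush.exists_dist_pullback k f hf hdom hd one_pos hdimX.le hL
  constructor <;> rintro ⟨c, hc, hev⟩ <;> refine ⟨c / 2, half_pos hc, ?_⟩ <;>
    filter_upwards [hev, BigVol.eventually_w_lt C (half_pos hc) d] with m h1 h2 <;>
    have h3 := hC m <;> rw [_root_.one_mul] at h3 <;> simp only [Nat.dist] at h3
  · have h4 : (Module.finrank k (Coh.HH X (CohB1.tensorPow L m) 0) : ℝ) ≤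
        (Module.finrank k (Coh.HH Y (CohB1.tensorPow ((Scheme.Modules.pullback f).obj L) m) 0) : ℝ) +
          ((C * CohGrowth.w d m : ℕ) : ℝ) := by
      exact_mod_cast (show _ ≤ _ + _ by omega)
    nlinarith
  · have h4 : (Module.finrank k (Coh.HH Y (CohB1.tensorPow ((Scheme.Modules.pullback f).obj L) m) 0) : ℝ) ≤
        (Module.finrank k (Coh.HH X (CohB1.tensorPow L m) 0) : ℝ) + ((C * CohGrowth.w d m : ℕ) : ℝ) := by
      exact_mod_cast (show _ ≤ _ + _ by omega)
    nlinarith

end Groth.Agent.S17285
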