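import Groth.Statements.S17286
import Groth.Agent.NefVB.Tensor

set_option backward.isDefEq.respectTransparency false
set_option backward.isDefEq.respectTransparency.types false

set_option autoImplicit false
universe u
open CategoryTheory CategoryTheory.Limits AlgebraicGeometry TopologicalSpace
open Variety

namespace Groth.Agent.S17286

/-- (iii) ⇔ (iv), algebraically closed base field; scheme case: let X be a proper scheme over an
algebraically closed field k and E a finite locally free O_X-module. Then E is nef in the curve-test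
sense (for every regular projective curve C over k — integral, proper over k, of dimension one, all
local rings regular — every k-morphism f : C → X and every invertible quotient f^*E → M, deg M =
χ(M) - χ(O_C) ≥ 0) if and only if for every such f : C → X and every ample invertible O_C-module H,
the finite locally free module H ⊗ f^*E is ample: the fundamental module O(1) of its projective
bundle P(H ⊗ f^*E) = Proj(Sym(H ⊗ f^*E)) → C (any relative-Proj data of the graded symmetric algebra
with its O(1)) is ample. (The source states this for proper algebraic spaces X; this is the case of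
schemes.) -/
theorem result (k : Type u) [Field k] [IsAlgClosed k]
    (X : Scheme.{u}) [X.Over (Spec (CommRingCat.of k))] [IsProper (X ↘ (Spec (CommRingCat.of k)))] (E : X.Modules) (hE : FlatMod.IsFinLocFree E) :
    (∀ (C : Scheme.{u}) [C.Over (Spec (CommRingCat.of k))] [IsProper (C ↘ (Spec (CommRingCat.of k)))] [IsIntegral C],
      topologicalKrullDim C = 1 → (∀ x : C, IsRegularLocalRing (C.presheaf.stalk x)) →
      ∀ (f : C ⟶ X), f ≫ (X ↘ (Spec (CommRingCat.of k))) = C ↘ (Spec (CommRingCat.of k)) →
      ∀ (M : C.Modules), PicF.IsInvertible M →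
      ∀ (q : (Scheme.Modules.pullback f).obj E ⟶ M), Epi q → 0 ≤ Curv2.deg k C M 1) ↔
    (∀ (C : Scheme.{u}) [C.Over (Spec (CommRingCat.of k))] [IsProper (C ↘ (Spec (CommRingCat.of k)))] [IsIntegral C],
      topologicalKrullDim C = 1 → (∀ x : C, IsRegularLocalRing (C.presheaf.stalk x)) →
      ∀ (f : C ⟶ X), f ≫ (X ↘ (Spec (CommRingCat.of k))) = C ↘ (Spec (CommRingCat.of k)) →
      ∀ (H : C.Modules), CohB1.IsAmple H →
      ∀ (𝒮 : RelProj.QCGrAlg C) (j : (CohB1.tensorMod H ((Scheme.Modules.pullback f).obj E)) ⟶ 𝒮.toModule) (P : Scheme.{u}) (p : P ⟶ C)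
        (chart : ∀ (U : C.Opens) (hU : IsAffineOpen U),
          (((p ⁻¹ᵁ U : P.Opens) : Scheme.{u}) ≅ Proj (𝒮.deg U hU)))
        (O1 : P.Modules)
        (lam : ∀ (U : C.Opens) (hU : IsAffineOpen U),
          O1 ⟶ (Scheme.Modules.pushforward (RelProj.emb p chart U hU)).obj (GrTwist.twist (𝒮.deg U hU) 1)),
        RelProj.IsGrSymAlg (CohB1.tensorMod H ((Scheme.Modules.pullback f).obj E)) 𝒮 j → RelProj.IsRelProj 𝒮 p chart → RelProj.IsRelTwist 𝒮 p chart 1 O1 lam →
        CohB1.IsAmple O1) := by
  refine ⟨fun h C _ _ _ hC hreg f hf H hH 𝒮 j P p chart O1 lam h1 h2 h3 => ?_,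
    fun h C _ _ _ hC hreg f hf M hM q hq => ?_⟩
  · have hE' : FlatMod.IsFinLocFree ((Scheme.Modules.pullback f).obj E) := SeesawX.isFinLocFree_pullback f hE
    refine NefVB.isAmple_O1_tensor k hE' hH (fun D _ _ _ hD hDreg g hg M hM q hq => ?_)
      ⟨QCoh.isQCoh_of_isFinLocFree (KFlatLib.isFinLocFree_tensor
        (CurveStable.isFinLocFree_of_rank (InvEnd.isFinLocFreeOfRank_one hH.1)) hE'), 𝒮, j, h1, P, p, chart, h2, O1, lam, h3⟩
    haveI := hq
    exact h D hD hDreg (g ≫ f) (by rw [Category.assoc, hf, hg]) M hM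
      (((Scheme.Modules.pullbackComp g f).app E).inv ≫ q) (epi_comp _ _)
  · haveI := hq
    exact NefVB.deg_quot_nonneg k hC hreg (SeesawX.isFinLocFree_pullback f hE)
      (fun H hH B => h C hC hreg f hf H hH B.𝒮 B.j B.P B.p B.chart B.O1 B.lam B.hj B.hP B.hO1) hM q

end Groth.Agent.S17286
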