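import Groth.Statements.S17287
import Groth.Agent.VarDim.Fibre
import Groth.Agent.H23.RedSub

set_option backward.isDefEq.respectTransparency.types false
set_option backward.isDefEq.respectTransparency false
set_option linter.style.haveILetI false
-- import your own Groth.Agent.* helpers here

set_option autoImplicit false
universe u
open CategoryTheory CategoryTheory.Limits AlgebraicGeometry TopologicalSpace
open Variety

namespace Groth.Agent.S17287

/-- Let f : Y → X be a surjective k-morphism of proper schemes over a field k and C ⊆ X an integral
closed subscheme of dimension one. Then there is an integral closed subscheme C' ⊆ Y of dimension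
one with f(C') = C as closed subsets. (The source states this for proper algebraic spaces over k;
this is the case of schemes.) -/
theorem result (k : Type u) [Field k] (X Y : Scheme.{u})
    [X.Over (Spec (CommRingCat.of k))] [IsProper (X ↘ (Spec (CommRingCat.of k)))] [Y.Over (Spec (CommRingCat.of k))] [IsProper (Y ↘ (Spec (CommRingCat.of k)))]
    (f : Y ⟶ X) (hf : f ≫ (X ↘ (Spec (CommRingCat.of k))) = Y ↘ (Spec (CommRingCat.of k))) [Surjective f]
    (C : X.IdealSheafData) [IsIntegral C.subscheme] (hC : topologicalKrullDim (C.support : Set X) = 1) :
    ∃ C' : Y.IdealSheafData, IsIntegral C'.subscheme ∧ topologicalKrullDim (C'.support : Set Y) = 1 ∧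
      f.base '' (C'.support : Set Y) = (C.support : Set X) := by
  open TopologicalSpace Groth.Agent in
  classical
  let p := X ↘ (Spec (CommRingCat.of k))
  let q := Y ↘ (Spec (CommRingCat.of k))
  haveI : IsProper (f ≫ p) := by rw [hf]; infer_instance
  haveI : IsProper f := IsProper.of_comp f p
  obtain ⟨η, hη⟩ : ∃ η : X, closure ({η} : Set X) = (C.support : Set X) := by
    refine ⟨C.subschemeι (genericPoint C.subscheme), ?_⟩
    rw [← Set.image_singleton, C.subschemeι.isClosedEmbedding.closure_image_eq,
      genericPoint_spec C.subscheme, Set.image_univ, C.range_subschemeι]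
  have hdeg : VarDim.deg p η = 1 := by
    have h := VarDim.topologicalKrullDim_closure_singleton p η
    rw [hη, hC] at h
    exact_mod_cast h.symm
  -- a closed point of the fibre over `η`
  haveI : CompactSpace (f.fiber η) := QuasiCompact.compactSpace_of_compactSpace (f.fiberToSpecResidueField η)
  obtain ⟨y₀, hy₀⟩ := f.surjective η
  haveI : Nonempty (f.fiber η) := ⟨(f.fiberHomeo η).symm ⟨y₀, hy₀⟩⟩
  obtain ⟨z, -, hz⟩ := IsClosed.exists_closed_singleton (isClosed_univ (X := f.fiber η)) Set.univ_nonempty
  have h0 : VarDim.fdeg f (f.fiberι η z) = 0 := by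
    rw [← VarDim.deg_fiber f η z]
    exact (VarDim.closedPoint_iff_deg_eq_zero (k := X.residueField η) (f.fiberToSpecResidueField η) z).1 hz
  set y := f.fiberι η z with hy
  have hfy : f y = η := by
    have : y ∈ Set.range (f.fiberι η) := ⟨z, rfl⟩
    rwa [f.range_fiberι] at this
  have hdy : VarDim.deg q y = 1 := by
    rw [VarDim.deg_eq_add f p hf, hfy, hdeg, h0]
  let Z : Closeds Y := ⟨closure {y}, isClosed_closure⟩
  let J := Scheme.IdealSheafData.vanishingIdeal Z
  have hr : Set.range J.subschemeι = closure {y} := H23.RedSub.range_vanishingIdeal Z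
  have hs : (J.support : Set Y) = closure {y} := J.range_subschemeι.symm.trans hr
  refine ⟨J, ?_, ?_, ?_⟩
  · haveI : IsReduced J.subscheme := H23.RedSub.isReduced_vanishingIdeal Z
    obtain ⟨w, hw⟩ : y ∈ Set.range J.subschemeι := hr ▸ subset_closure rfl
    have hd : closure {w} = (Set.univ : Set J.subscheme) := by
      rw [J.subschemeι.isClosedEmbedding.isInducing.closure_eq_preimage_closure_image,
        Set.image_singleton, hw, ← hr, Set.preimage_range]
    haveI : IrreducibleSpace J.subscheme :=
      (irreducibleSpace_def _).2 (show IsIrreducible (Set.univ : Set J.subscheme) from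
        hd ▸ isIrreducible_singleton.closure)
    exact isIntegral_of_irreducibleSpace_of_isReduced _
  · rw [hs, VarDim.topologicalKrullDim_closure_singleton q y, hdy]
    rfl
  · rw [hs, ← f.isClosedMap.closure_image_eq_of_continuous f.continuous, Set.image_singleton, ← hη]
    exact congrArg (fun a => closure ({a} : Set X)) hfy

end Groth.Agent.S17287
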