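import Groth.Statements.S17288
import Groth.Agent.GGDiv5.Main
-- import your own Groth.Agent.* helpers here

set_option autoImplicit false
universe u
open CategoryTheory CategoryTheory.Limits AlgebraicGeometry TopologicalSpace
open Variety

namespace Groth.Agent.S17288

/-- Let X be a proper scheme over a field k, D ⊆ X an effective Cartier divisor, i.e. a closed subscheme
whose quasi-coherent ideal I_D is an invertible O_X-module, and O_X(D) an invertible module with
O_X(D) ⊗ I_D ≅ O_X. If the restriction of O_X(D) to D is ample on D, then O_X(mD) = O_X(D)^{⊗m} is
generated by its global sections for all sufficiently large m. (The source states this for proper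
algebraic spaces over k; this is the case of schemes.) -/
theorem result (k : Type u) [Field k] (X : Scheme.{u})
    [X.Over (Spec (CommRingCat.of k))] [IsProper (X ↘ (Spec (CommRingCat.of k)))] (D : X.IdealSheafData)
    (hD : PicF.IsInvertible (ClSub.idealMod D)) (LD : X.Modules) (hLD : ClSub.IsInverseOf LD (ClSub.idealMod D))
    (hample : CohB1.IsAmple ((Scheme.Modules.pullback D.subschemeι).obj LD)) :
    ∀ᶠ m : ℕ in Filter.atTop, Curv2.IsGloballyGenerated (CohB1.tensorPow LD m) := by
  exact Groth.Agent.GGDiv5.eventually_gg k D hD hLD hample

end Groth.Agent.S17288
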