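import Groth.Statements.S1729
-- import your own Groth.Agent.* helpers here

set_option autoImplicit false
universe u
open Dual2

namespace Groth.Agent.S1729

/-- Over a local ring, every finite module M admits a projective cover: a surjection from a projective
module P onto M such that no proper submodule of P maps onto M. -/
theorem result (R : Type u) [CommRing R] [IsLocalRing R] (M : Type u) [AddCommGroup M] [Module R M] [Module.Finite R M] : ∃ (P : Type u) (_ : AddCommGroup P) (_ : Module R P) (f : P →ₗ[R] M), Dual2.IsProjectiveCover f := by
  classical
  obtain ⟨s, hs, hspan⟩ := (Submodule.FG.exists_span_finset_card_eq_spanFinrank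
    (Module.Finite.fg_top (R := R) (M := M)))
  let f : (s → R) →ₗ[R] M := Fintype.linearCombination R (fun x : s => (x : M))
  refine ⟨s → R, inferInstance, inferInstance, f, inferInstance, ?_, ?_⟩
  · rw [← LinearMap.range_eq_top, Fintype.range_linearCombination, Subtype.range_coe_subtype]
    exact hspan
  · intro N hN
    have hk : LinearMap.ker f ≤ IsLocalRing.maximalIdeal R • (⊤ : Submodule R (s → R)) := by
      intro c hc
      have hc' : ∀ i, c i ∈ IsLocalRing.maximalIdeal R := by
        intro i
        by_contra hi
        have hu : IsUnit (c i) := IsLocalRing.notMem_maximalIdeal.1 hi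
        have h0 : ∑ j, c j • (j : M) = 0 := hc
        rw [← Finset.add_sum_erase _ _ (Finset.mem_univ i), add_eq_zero_iff_eq_neg] at h0
        have hmem : c i • (i : M) ∈ Submodule.span R ((s.erase i : Finset M) : Set M) := by
          rw [h0]
          refine neg_mem (Submodule.sum_mem _ fun j hj => Submodule.smul_mem _ _ (Submodule.subset_span ?_))
          rw [Finset.mem_coe, Finset.mem_erase]
          exact ⟨fun e => (Finset.mem_erase.1 hj).1 (Subtype.ext e), j.2⟩
        have hi2 : (i : M) ∈ Submodule.span R ((s.erase i : Finset M) : Set M) := by
          have := Submodule.smul_mem _ (↑(hu.unit⁻¹) : R) hmem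
          rwa [smul_smul, IsUnit.val_inv_mul, one_smul] at this
        have htop : Submodule.span R ((s.erase i : Finset M) : Set M) = ⊤ := by
          refine top_le_iff.1 (hspan.ge.trans (Submodule.span_le.2 fun x hx => ?_))
          by_cases hxi : x = i
          · rw [hxi]; exact hi2
          · exact Submodule.subset_span (Finset.mem_coe.2 (Finset.mem_erase.2 ⟨hxi, hx⟩))
        have hle := Submodule.spanFinrank_span_le_ncard_of_finite (R := R) (s.erase (i : M)).finite_toSet
        rw [htop, Set.ncard_coe_finset, Finset.card_erase_of_mem i.2] at hle
        have hpos : 0 < s.card := Finset.card_pos.2 ⟨_, i.2⟩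
        omega
      rw [pi_eq_sum_univ c]
      exact Submodule.sum_mem _ fun i _ => Submodule.smul_mem_smul (hc' i) trivial
    have hsup : N ⊔ LinearMap.ker f = ⊤ := by
      rw [← Submodule.comap_map_eq, hN, Submodule.comap_top]
    exact top_le_iff.1 (Submodule.le_of_le_smul_of_le_jacobson_bot Module.Finite.fg_top
      (IsLocalRing.maximalIdeal_le_jacobson _) (hsup.ge.trans (sup_le_sup_left hk _)))


end Groth.Agent.S1729
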