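import Groth.Statements.S17290
import Groth.Agent.NefVB.FieldBC

set_option backward.isDefEq.respectTransparency false
set_option backward.isDefEq.respectTransparency.types false

set_option autoImplicit false
universe u
open CategoryTheory CategoryTheory.Limits AlgebraicGeometry TopologicalSpace
open Variety

namespace Groth.Agent.S17290

/-- Scheme case, curve-test form of nefness: let X be a proper scheme over a field k, E a finite locally
free O_X-module, k'/k a field extension, X' = X ×_k Spec k' and E' the pullback of E to X'. Then E
is nef over k in the curve-test sense (for every regular projective curve C over k — integral,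
proper over k, of dimension one, all local rings regular — every k-morphism f : C → X and every
invertible quotient f^*E → M, deg M = χ(M) - χ(O_C) ≥ 0) if and only if E' is nef over k' in the
same sense (test curves being regular projective curves over k' with k'-morphisms to X'). (The
published statement asserts that E is nef if and only if its pullback is nef for every field
extension k' of k, and its converse is the case k' = k; this row states the equivalence for one
given extension k', so its converse, that nefness over k' implies nefness over k, is stronger than
the published one. The source states this for proper algebraic spaces with nefness of O(1) on P(E);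
on proper schemes the two senses of nef agree by the Barton–Kleiman criterion.) -/
theorem result (k : Type u) [Field k] (X : Scheme.{u})
    [X.Over (Spec (CommRingCat.of k))] [IsProper (X ↘ (Spec (CommRingCat.of k)))] (E : X.Modules) (hE : FlatMod.IsFinLocFree E)
    (k' : Type u) [Field k'] [Algebra k k'] :
    (∀ (C : Scheme.{u}) [C.Over (Spec (CommRingCat.of k))] [IsProper (C ↘ (Spec (CommRingCat.of k)))] [IsIntegral C],
      topologicalKrullDim C = 1 → (∀ x : C, IsRegularLocalRing (C.presheaf.stalk x)) →
      ∀ (f : C ⟶ X), f ≫ (X ↘ (Spec (CommRingCat.of k))) = C ↘ (Spec (CommRingCat.of k)) →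
      ∀ (M : C.Modules), PicF.IsInvertible M →
      ∀ (q : (Scheme.Modules.pullback f).obj E ⟶ M), Epi q → 0 ≤ Curv2.deg k C M 1) ↔
    (∀ (C' : Scheme.{u}) [C'.Over (Spec (CommRingCat.of k'))] [IsProper (C' ↘ (Spec (CommRingCat.of k')))] [IsIntegral C'],
      topologicalKrullDim C' = 1 → (∀ x : C', IsRegularLocalRing (C'.presheaf.stalk x)) →
      ∀ (g : C' ⟶ (Curv2.bc k X k')), g ≫ Curv2.bcSnd k X k' = C' ↘ (Spec (CommRingCat.of k')) →
      ∀ (M : C'.Modules), PicF.IsInvertible M →
      ∀ (q : (Scheme.Modules.pullback g).obj ((Scheme.Modules.pullback (Curv2.bcFst k X k')).obj E) ⟶ M), Epi q → 0 ≤ Curv2.deg k' C' M 1) :=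
  NefVB.curveNef_bc_iff k k' hE

end Groth.Agent.S17290
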