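import Groth.Statements.S17292
import Groth.Agent.NefVB.Open

set_option backward.isDefEq.respectTransparency false
set_option backward.isDefEq.respectTransparency.types false

set_option autoImplicit false
universe u
open CategoryTheory CategoryTheory.Limits AlgebraicGeometry TopologicalSpace
open Variety

namespace Groth.Agent.S17292

/-- Let Y be a Noetherian scheme, f : X → Y a proper morphism of schemes and E a finite locally free
O_X-module. Then the set of points y of Y such that the restriction E_y of E to the fibre X_y is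
ample — meaning that the fundamental module O(1) of the projective bundle P(E_y) = Proj(Sym E_y) →
X_y is ample, for any relative-Proj data of the graded symmetric algebra of E_y with its O(1) — is
open in Y: if E_y is ample then E_{y'} is ample for every y' in some open neighbourhood of y. (The
source allows X to be an algebraic space proper over Y; this is the case of schemes.) -/
theorem result (X Y : Scheme.{u}) [IsNoetherian Y] (f : X ⟶ Y) [IsProper f]
    (E : X.Modules) (hE : FlatMod.IsFinLocFree E) :
    IsOpen {y : Y | ∀ (𝒮 : RelProj.QCGrAlg (f.fiber y)) (j : ((Scheme.Modules.pullback (f.fiberι y)).obj E) ⟶ 𝒮.toModule) (P : Scheme.{u}) (p : P ⟶ (f.fiber y))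
        (chart : ∀ (U : (f.fiber y).Opens) (hU : IsAffineOpen U),
          (((p ⁻¹ᵁ U : P.Opens) : Scheme.{u}) ≅ Proj (𝒮.deg U hU)))
        (O1 : P.Modules)
        (lam : ∀ (U : (f.fiber y).Opens) (hU : IsAffineOpen U),
          O1 ⟶ (Scheme.Modules.pushforward (RelProj.emb p chart U hU)).obj (GrTwist.twist (𝒮.deg U hU) 1)),
        RelProj.IsGrSymAlg ((Scheme.Modules.pullback (f.fiberι y)).obj E) 𝒮 j → RelProj.IsRelProj 𝒮 p chart → RelProj.IsRelTwist 𝒮 p chart 1 O1 lam →
        CohB1.IsAmple O1} := by
  obtain ⟨B⟩ := RelVA16.PB.exists_of_isQCoh (E := E) (QCoh.isQCoh_of_isFinLocFree hE)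
  haveI := NefVB.isProper_p hE B
  haveI : LocallyOfFinitePresentation (B.p ≫ f) := inferInstance
  refine isOpen_iff_forall_mem_open.2 fun y hy => ?_
  obtain ⟨V, hV, hyV, -⟩ := exists_isAffineOpen_mem_and_subset (x := y) (U := ⊤) trivial
  obtain ⟨U, hUV, -, hiff, -⟩ := AmpleDesc5.exists_ampleLocus (B.p ≫ f) (NefVB.isInvertible_O1 B) hV
  refine ⟨U, fun z hz 𝒮 j P p chart O1 lam h1 h2 h3 => ?_, U.2, ?_⟩
  · exact (NefVB.isAmple_fibre_bundle_iff f hE B z
      ⟨QCoh.isQCoh_of_isFinLocFree (SeesawX.isFinLocFree_pullback _ hE), 𝒮, j, h1, P, p, chart, h2, O1, lam, h3⟩).2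
      ((hiff z (hUV hz)).1 hz)
  · obtain ⟨B'⟩ := RelVA16.PB.exists_of_isQCoh
      (E := (Scheme.Modules.pullback (f.fiberι y)).obj E)
      (QCoh.isQCoh_of_isFinLocFree (SeesawX.isFinLocFree_pullback _ hE))
    exact (hiff y hyV).2 ((NefVB.isAmple_fibre_bundle_iff f hE B y B').1
      (hy B'.𝒮 B'.j B'.P B'.p B'.chart B'.O1 B'.lam B'.hj B'.hP B'.hO1))

end Groth.Agent.S17292
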