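import Groth.Statements.S17306
import Groth.Agent.CurvLocusLib.LocP

set_option autoImplicit false
universe u
open CurvSt

namespace Groth.Agent.S17306

open CategoryTheory AlgebraicGeometry in
/-- Let X be a proper scheme of dimension at most 1 over a field k, and Spec k → S a point of the base.
The classifying object of X in the stack of curves over S lies in the Cohen–Macaulay open substack —
by definition of that substack: the morphism of sheaves h_X → h_{Spec k} induced by X → Spec k is,
in every etale chart diagram, a morphism of schemes flat with Cohen–Macaulay fibre local rings at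
every point — if and only if X is Cohen–Macaulay, i.e. all local rings of X are Cohen–Macaulay local
rings. -/
theorem result (S : Scheme.{u}) (k : Type u) [Field k] (t : Spec (CommRingCat.of k) ⟶ S)
    (X : Scheme.{u}) (p : X ⟶ Spec (CommRingCat.of k)) [IsProper p] (hdim : topologicalKrullDim ↥X ≤ 1) :
    AlgSp.LocP (fun _ _ g => ∀ x, MoreMor.IsCMAt g x) ((AlgSp.yon S).map (Over.homMk p rfl : Over.mk (p ≫ t) ⟶ Over.mk t)) ↔
      ∀ x : ↥X, LocCoh.IsCohenMacaulayLocalRing (X.presheaf.stalk x) := by
  haveI : IsLocallyNoetherian X := LocallyOfFiniteType.isLocallyNoetherian p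
  constructor
  · intro h x
    obtain ⟨_, ⟨e⟩⟩ := Groth.Agent.CurvLocusLib.fibre_of_etale_base p (𝟙 _) x
    exact Groth.Agent.Triage.CMMor.isCM_of_equiv e.symm (AlgSp.locP_yon_map h x).2
  · intro h U V a b m ha hb w
    obtain ⟨a, rfl⟩ := (AlgSp.yon S).map_surjective a
    obtain ⟨b, rfl⟩ := (AlgSp.yon S).map_surjective b
    replace ha := (AlgSp.repWith_yon_map_iff _ _).1 ha
    replace hb := (AlgSp.repWith_yon_map_iff _ _).1 hb
    haveI := ha
    haveI : IsLocallyNoetherian (Over.mk (p ≫ t)).left := ‹IsLocallyNoetherian X›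
    haveI : Etale b.left := hb
    intro u
    obtain ⟨hflat, ⟨e⟩⟩ := Groth.Agent.CurvLocusLib.fibre_of_etale_base m.left b.left u
    exact ⟨hflat, Groth.Agent.Triage.CMMor.isCM_of_equiv e ((Groth.Agent.CurvLocusLib.cm_gor_of_etale a.left u).1 (h _))⟩

end Groth.Agent.S17306
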