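import Groth.Statements.S1731
import Groth.Agent.LocCohDepth.TorsionBCMain
-- import your own Groth.Agent.* helpers here

set_option autoImplicit false
universe u
open CategoryTheory
open scoped TensorProduct
attribute [local instance] HasDerivedCategory.standard
open LocCoh

namespace Groth.Agent.S1731

/-- Statement for modules: let A → B be a flat ring map and I a finitely generated ideal of A such that
A → B/IB is surjective with kernel I (so A/I ≅ B/IB). If M is an I-power torsion A-module, then for
every A-module N and every integer i the group of maps M → N[i] in D(A) is isomorphic to the group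
of maps B ⊗_A M → (B ⊗_A N)[i] in D(B). (Only the existence of an isomorphism is asserted; the
published statement shows that the base-change map is one.) -/
theorem result (A B : Type u) [CommRing A] [CommRing B] [Algebra A B] [Module.Flat A B] (I : Ideal A) (hI : I.FG) (hs : Function.Surjective ((Ideal.Quotient.mk (I.map (algebraMap A B))).comp (algebraMap A B))) (hk : RingHom.ker ((Ideal.Quotient.mk (I.map (algebraMap A B))).comp (algebraMap A B)) = I) (M N : Type u) [AddCommGroup M] [Module A M] [AddCommGroup N] [Module A N] (hM : LocCoh.IsPowerTorsion I M) (i : ℤ) : Nonempty ((Dual.inD A M ⟶ (Dual.inD A N)⟦i⟧) ≃+ (Dual.inD B (B ⊗[A] M) ⟶ (Dual.inD B (B ⊗[A] N))⟦i⟧)) := by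
  classical
  obtain ⟨t, ht⟩ := hI
  let fs := t.toList
  have hIfs : Ideal.span {x | x ∈ fs} = I := by
    rw [← ht]
    congr 1
    ext x
    exact Finset.mem_toList
  have hq : Function.Bijective (Ideal.quotientMap (I.map (algebraMap A B)) (algebraMap A B) Ideal.le_comap_map) := by
    refine ⟨(injective_iff_map_eq_zero _).2 fun x hx => ?_, fun y => ?_⟩
    · obtain ⟨a, rfl⟩ := Ideal.Quotient.mk_surjective x
      rw [Ideal.quotientMap_mk] at hx
      rw [Ideal.Quotient.eq_zero_iff_mem, ← hk]
      exact hx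
    · obtain ⟨a, ha⟩ := hs y
      exact ⟨Ideal.Quotient.mk I a, ha⟩
  have hM' : ∀ f ∈ fs, ∀ x : M, ∃ n : ℕ, f ^ n • x = 0 := fun f hf x => by
    obtain ⟨n, hn⟩ := hM x
    exact ⟨n, hn _ (Ideal.pow_mem_pow (hIfs ▸ Ideal.subset_span hf) n)⟩
  have htors : ∀ (H : Type u) [AddCommGroup H] [Module A H], (∀ f ∈ fs, ∀ x : H, ∃ n : ℕ, f ^ n • x = 0) →
      Function.Bijective (TensorProduct.mk A B H 1) := fun H _ _ h => by
    refine Groth.Agent.EtGlue7.Formal.bijective_mk hq H fun x => ?_
    have hJ : I ≤ Ideal.radical (LinearMap.ker (LinearMap.toSpanSingleton A H x)) := by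
      rw [← hIfs]
      exact Ideal.span_le.2 fun f hf => let ⟨n, hn⟩ := h f hf x; ⟨n, hn⟩
    obtain ⟨n, hn⟩ := Ideal.exists_pow_le_of_le_radical_of_fg hJ ⟨t, ht⟩
    exact ⟨n, fun a ha => hn ha⟩
  have hflat : (algebraMap A B).Flat := RingHom.flat_algebraMap_iff.2 inferInstance
  have key : ∀ φ : A →+* B, letI := φ.toAlgebra; φ.Flat →
      (∀ (H : Type u) [AddCommGroup H] [Module A H], (∀ f ∈ fs, ∀ x : H, ∃ n : ℕ, f ^ n • x = 0) →
        Function.Bijective (TensorProduct.mk A B H 1)) →
      Nonempty ((Dual.inD A M ⟶ (Dual.inD A N)⟦i⟧) ≃+ (Dual.inD B (B ⊗[A] M) ⟶ (Dual.inD B (B ⊗[A] N))⟦i⟧)) := by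
    intro φ
    letI := φ.toAlgebra
    intro hf hb
    haveI := ModuleCat.preservesFiniteLimits_extendScalars_of_flat hf
    exact Groth.Agent.LocCohDepth.TorsBC.nonempty_equiv φ fs (fun H hH => hb H hH) (ModuleCat.of A M) hM'
      (ModuleCat.of A N) i
  have he : (algebraMap A B).toAlgebra = ‹Algebra A B› := Algebra.algebra_ext _ _ fun _ => rfl
  have := key (algebraMap A B)
  rw [he] at this
  exact this hflat htors

end Groth.Agent.S1731
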