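import Groth.Statements.S17310
import Groth.Agent.CurvLocusLib.GeomFib

set_option autoImplicit false
universe u
open CurvSt

namespace Groth.Agent.S17310

open CategoryTheory AlgebraicGeometry in
/-- Let X be a proper scheme of dimension at most 1 over a field k with structure morphism p, and Spec k
→ S a point of the base. The classifying object of X in the stack of curves over S lies in the open
substack of curves with geometrically reduced, connected fibres of dimension 1 — by definition:
every geometric fibre of h_X → h_{Spec k}, realised as a scheme over an algebraically closed field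
through a cartesian square of sheaves, is reduced, connected and of Krull dimension 1 — if and only
if X is geometrically reduced and geometrically connected over k and has Krull dimension 1. -/
theorem result (S : Scheme.{u}) (k : Type u) [Field k] (t : Spec (CommRingCat.of k) ⟶ S)
    (X : Scheme.{u}) (p : X ⟶ Spec (CommRingCat.of k)) [IsProper p] (hdim : topologicalKrullDim ↥X ≤ 1) :
    CurvSt.GeomFib (fun _ _ _ X' _ _ => IsReduced X' ∧ ConnectedSpace ↥X' ∧ topologicalKrullDim ↥X' = 1) ((CurvSt.toSpFam S 0).obj ⟨Over.mk t, X, p, Fin.elim0, fun i => i.elim0⟩) ↔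
      GeometricallyReduced p ∧ GeometricallyConnected p ∧ topologicalKrullDim ↥X = 1 := by
  refine (Groth.Agent.CurvLocusLib.geomFib_iff (Over.mk t) p
    fun _ _ _ X' _ => IsReduced X' ∧ ConnectedSpace ↥X' ∧ topologicalKrullDim ↥X' = 1).trans ⟨fun h => ?_, fun h => ?_⟩
  · refine ⟨⟨Groth.Agent.CurvLocusLib.geometrically_of_algClosed (P := fun Z : Scheme.{u} => IsReduced Z)
      (fun q _ _ hZ => haveI := hZ; Groth.Agent.FBaseLib.isReduced_of_flat_surjective q) p
      fun Ω _ _ τ X' q g hg => (h Ω τ X' q g hg).1⟩, ⟨Groth.Agent.CurvLocusLib.geometrically_of_algClosed (P := fun Z : Scheme.{u} => ConnectedSpace ↥Z)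
      (fun q _ _ hZ => haveI := hZ; Groth.Agent.FBaseLib.connectedSpace_of_surjective q) p
      fun Ω _ _ τ X' q g hg => (h Ω τ X' q g hg).2.1⟩, ?_⟩
    let τ := Groth.Agent.CurvLocusLib.closPt k
    have hg := CategoryTheory.IsPullback.of_hasPullback p τ
    haveI : LocallyOfFiniteType (Limits.pullback.snd p τ) := inferInstance
    haveI : Subsingleton ↥(Spec (CommRingCat.of k)) := inferInstanceAs (Subsingleton (PrimeSpectrum k))
    haveI : Subsingleton ↥(Spec (CommRingCat.of (AlgebraicClosure k))) :=
      inferInstanceAs (Subsingleton (PrimeSpectrum (AlgebraicClosure k)))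
    haveI : Nonempty ↥(Spec (CommRingCat.of (AlgebraicClosure k))) := ⟨IsLocalRing.closedPoint (AlgebraicClosure k)⟩
    rw [← Groth.Agent.FibDim.topologicalKrullDim_baseChange hg]
    exact (h (AlgebraicClosure k) τ _ (Limits.pullback.snd p τ) (Limits.pullback.fst p τ) hg).2.2
  · intro Ω _ _ τ X' q g hg
    obtain ⟨hr, hc, hd⟩ := h
    refine ⟨Groth.Agent.CurvLocusLib.of_geometrically p hr.geometrically_isReduced Ω τ X' q g hg,
      Groth.Agent.CurvLocusLib.of_geometrically (P := fun Z : Scheme.{u} => ConnectedSpace ↥Z) p
        hc.geometrically_connectedSpace Ω τ X' q g hg, ?_⟩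
    haveI : LocallyOfFiniteType q := MorphismProperty.of_isPullback hg inferInstance
    haveI : Subsingleton ↥(Spec (CommRingCat.of k)) := inferInstanceAs (Subsingleton (PrimeSpectrum k))
    haveI : Subsingleton ↥(Spec (CommRingCat.of Ω)) := inferInstanceAs (Subsingleton (PrimeSpectrum Ω))
    haveI : Nonempty ↥(Spec (CommRingCat.of Ω)) := ⟨IsLocalRing.closedPoint Ω⟩
    rw [Groth.Agent.FibDim.topologicalKrullDim_baseChange (f := p) (g := τ) hg]
    exact hd

end Groth.Agent.S17310
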