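import Groth.Statements.S17311
import Groth.Agent.CurvLocusLib.GeomFib

set_option autoImplicit false
universe u
open CurvSt

namespace Groth.Agent.S17311

open CategoryTheory AlgebraicGeometry in
/-- Let X be a proper scheme of dimension at most 1 over a field k with structure morphism p, and Spec k
→ S a point of the base. The classifying object of X in the stack of curves over S lies in the open
substack of curves with isolated singularities — by definition: every geometric fibre of h_X →
h_{Spec k}, realised as a scheme over an algebraically closed field Ω through a cartesian square of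
sheaves, is smooth over Ω outside a finite set of points — if and only if p : X → Spec k is smooth
outside a finite set of points of X. -/
theorem result (S : Scheme.{u}) (k : Type u) [Field k] (t : Spec (CommRingCat.of k) ⟶ S)
    (X : Scheme.{u}) (p : X ⟶ Spec (CommRingCat.of k)) [IsProper p] (hdim : topologicalKrullDim ↥X ≤ 1) :
    CurvSt.GeomFib (fun _ _ _ X' q _ => Set.Finite {x : ↥X' | ¬ ∃ U : X'.Opens, x ∈ U ∧ Smooth (U.ι ≫ q)}) ((CurvSt.toSpFam S 0).obj ⟨Over.mk t, X, p, Fin.elim0, fun i => i.elim0⟩) ↔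
      Set.Finite {x : ↥X | ¬ ∃ U : X.Opens, x ∈ U ∧ Smooth (U.ι ≫ p)} := by
  have main : ∀ (Ω : Type u) [Field Ω] [IsAlgClosed Ω] (τ : Spec (CommRingCat.of Ω) ⟶ Spec (CommRingCat.of k))
      (X' : Scheme.{u}) (q : X' ⟶ Spec (CommRingCat.of Ω)) (g : X' ⟶ X), IsPullback g q p τ →
      (Set.Finite {x : ↥X' | ¬ ∃ U : X'.Opens, x ∈ U ∧ Smooth (U.ι ≫ q)} ↔
        Set.Finite {x : ↥X | ¬ ∃ U : X.Opens, x ∈ U ∧ Smooth (U.ι ≫ p)}) := by
    intro Ω _ _ τ X' q g hg
    haveI : IsLocallyNoetherian X := LocallyOfFiniteType.isLocallyNoetherian p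
    haveI : LocallyOfFinitePresentation p := inferInstance
    haveI : LocallyOfFinitePresentation q := MorphismProperty.of_isPullback hg inferInstance
    haveI : Flat τ := by
      obtain ⟨φ, rfl⟩ := Spec.map_surjective τ
      algebraize [φ.hom]
      rw [HasRingHomProperty.Spec_iff (P := @Flat)]
      exact (inferInstanceAs (Module.Flat k Ω))
    have he : g ⁻¹ᵁ p.smoothLocus = q.smoothLocus :=
      le_antisymm (Groth.Agent.MorLib.SmoothLoc.preimage_le p τ q g hg)
        fun y hy => Groth.Agent.MorLib.SmoothLoc.sm_descend p τ q g hg y hy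
    rw [Groth.Agent.CurvLocusLib.setOf_not_smooth_nhd, Groth.Agent.CurvLocusLib.setOf_not_smooth_nhd, ← he,
      Scheme.Hom.coe_preimage, ← Set.preimage_compl]
    exact Groth.Agent.CurvLocusLib.finite_preimage_iff p τ q g hg p.smoothLocus.2.isClosed_compl
  refine (Groth.Agent.CurvLocusLib.geomFib_iff (Over.mk t) p fun _ _ _ X' q =>
    Set.Finite {x : ↥X' | ¬ ∃ U : X'.Opens, x ∈ U ∧ Smooth (U.ι ≫ q)}).trans ⟨fun h => ?_, fun h => ?_⟩
  · have hg := CategoryTheory.IsPullback.of_hasPullback p (Groth.Agent.CurvLocusLib.closPt k)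
    exact (main _ _ _ _ _ hg).1 (h _ _ _ _ _ hg)
  · intro Ω _ _ τ X' q g hg
    exact (main Ω τ X' q g hg).2 h

end Groth.Agent.S17311
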