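import Groth.Statements.S17315
import Groth.Agent.H9Gen.AffBC

set_option autoImplicit false
universe u
open CategoryTheory CategoryTheory.Limits AlgebraicGeometry
open ResProp
open Groth.Agent.H9Gen Groth.Agent.StModLib Groth.Agent.AlgStLib Groth.Agent.FibBase

namespace Groth.Agent.S17315

/-- Let `f : 𝒳 → 𝒴` be a quasi-compact and quasi-separated morphism of algebraic stacks over a scheme
`S` (fppf topology; diagonals representable, separated and quasi-compact, the text's standing
convention), `E` a family of quasi-coherent modules of finite presentation on `𝒳`, and `y a : (Sch/T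
a) → 𝒴` a family of morphisms from affine schemes `T a`, each representable by algebraic spaces and
flat, and jointly surjective on points of `𝒴`. If for every `a` the family `E` pulled back to the
fibre product `𝒳 ×_𝒴 T a` is a generating family (a morphism of quasi-coherent modules on it killed
by every morphism from a member is zero), then `E` is generating relative to `f`: the same holds
over every object of `𝒴` with affine scheme. -/
theorem result (S : Scheme.{u}) (𝒳 𝒴 : AlgSt.Cat S)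
    (h𝒳 : AlgSt.IsAlgStack Scheme.fppfPrecoverage 𝒳) (h𝒴 : AlgSt.IsAlgStack Scheme.fppfPrecoverage 𝒴)
    (hΔ𝒳 : AlgSt.RepByAlgSpWith (AlgSp.IsSeparatedMor ⊓ AlgSp.IsQuasiCompactMor) (FibCat.diag (FibCat.toSelf 𝒳)))
    (hΔ𝒴 : AlgSt.RepByAlgSpWith (AlgSp.IsSeparatedMor ⊓ AlgSp.IsQuasiCompactMor) (FibCat.diag (FibCat.toSelf 𝒴)))
    (f : 𝒳 ⥤ᵇ 𝒴) (hfqc : AlgSt.IsQuasiCompactMor Scheme.fppfPrecoverage f) (hfqs : AlgSt.IsQuasiSeparatedMor f)
    {ι : Type u} (E : ι → StMod.QCoh 𝒳) (hE : ∀ i, (E i).obj.IsFinPres)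
    {A : Type u} (T : A → Over S) (hT : ∀ a, IsAffine (T a).left)
    (y : ∀ a, FibCat.overCat (T a) ⥤ᵇ 𝒴) (hfl : ∀ a, AlgSt.RepByAlgSpWith (AlgSp.LocP @Flat) (y a))
    (hsurj : ∀ p : AlgSt.Points 𝒴, ∃ (a : A) (t : (T a).left), AlgSt.Points.ofChart (y a) t = p)
    (hgen : ∀ a, StMod.IsGenFam (fun i => (StMod.comapQ (FibCat.fpFst f (y a))).obj (E i))) :
    StMod.IsRelGenFam f E := by
  have hx := h𝒳.isStack.1
  have hp := h𝒴.isStack.1
  refine isRelGenFam_of_flat_cover f hx h𝒴 hfqc hfqs E hE fun η _ t => ?_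
  obtain ⟨a, z, φ, θ, hz, hflat, -, ht⟩ := exists_flat_cover_of_charts hp η T y hfl hsurj t
  refine ⟨z, φ, hz, hflat, ht, ?_⟩
  haveI : IsAffine (T a).left := hT a
  refine isGenFam_of_morphism f h𝒳 h𝒴 θ hz (isAffine_map (y a) (x := topOver (T a)) (hT a)) E ?_
  haveI := toFibTop_full f (T a) (y a)
  haveI := fibSndFun_full f (y a) (topOver (T a)) hp (isFibGrpd_overCat (T a))
  have hfp := fp_isFibGrpd hx (isFibGrpd_overCat (T a)) hp (F := f) (G := y a)
  refine isGenFam_of_comap (fibSndFun f (y a) (topOver (T a))) (isFibGrpd_fibCat _ _ hfp) (isFibGrpd_fibCat f _ hx)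
    (fun b => fibSndFun_surj f (y a) (topOver (T a)) hx hp (isFibGrpd_overCat (T a)) b.1) _ ?_
  refine isGenFam_of_comap (toFibTop f (T a) (y a)) hfp (isFibGrpd_fibCat _ _ hfp)
    (fun b => toFibTop_surj f (T a) (y a) b.1) _ (isGenFam_of_iso (fun i => ?_) (hgen a))
  exact (StMod.comapCompIso (StMod.fibFst f ((y a).obj (topOver (T a))))
      (BasedFunctor.comp (toFibTop f (T a) (y a)) (fibSndFun f (y a) (topOver (T a)))) (E i).obj) ≪≫
    StMod.comapCompIso (fibSndFun f (y a) (topOver (T a))) (toFibTop f (T a) (y a)) _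

end Groth.Agent.S17315
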