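import Groth.Statements.S17321
import Mathlib.RingTheory.Artinian.Ring
import Mathlib.RingTheory.Ideal.IdempotentFG
import Mathlib.RingTheory.Ideal.AssociatedPrime.Localization
import Mathlib.FieldTheory.IsAlgClosed.Basic
import Mathlib.RingTheory.Derivation.Basic

set_option autoImplicit false
universe u v
open CAlg

namespace Groth.Agent.S17321


/-- Let k be an algebraically closed field and A a commutative k-algebra which is finite-dimensional as
a k-vector space (the coordinate ring of a finite k-scheme). Then the space Der(A) of k-derivations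
A → A is zero if and only if A is reduced. -/
theorem result (k : Type u) [Field k] [IsAlgClosed k]
    (A : Type v) [CommRing A] [Algebra k A] [Module.Finite k A] :
    Subsingleton (Derivation k A A) ↔ IsReduced A := by
  haveI : IsArtinianRing A := IsArtinianRing.of_finite k A
  haveI : IsNoetherianRing A := IsNoetherianRing.of_finite k A
  have hres : ∀ (m : Ideal A), m.IsMaximal → ∀ a : A, ∃ c : k, a - algebraMap k A c ∈ m := by
    intro m hm a
    haveI : IsDomain (A ⧸ m) := Ideal.Quotient.isDomain m
    obtain ⟨c, hc⟩ := (IsAlgClosed.algebraMap_bijective_of_isIntegral (k := k) (K := A ⧸ m)).2 (Ideal.Quotient.mk m a)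
    refine ⟨c, ?_⟩
    rw [← Ideal.Quotient.eq, ← hc, ← Ideal.Quotient.mk_algebraMap]
  constructor
  · intro hsub
    by_contra hred
    -- some maximal ideal is not idempotent
    obtain ⟨m, hm, hm2⟩ : ∃ m : Ideal A, m.IsMaximal ∧ ¬ m ≤ m * m := by
      by_contra! hall
      refine hred ⟨fun x hx => ?_⟩
      by_contra h0
      obtain ⟨m, hm, hle⟩ := Ideal.exists_le_maximal (LinearMap.ker (LinearMap.toSpanSingleton A A x))
        (fun h => h0 (by
          have := h.ge (Submodule.mem_top (x := (1 : A)))
          simpa using this))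
      haveI := hm
      obtain ⟨e, he, heq⟩ := (Ideal.isIdempotentElem_iff_of_fg m (IsNoetherian.noetherian m)).1
        (le_antisymm Ideal.mul_le_right (hall m hm))
      rw [show Submodule.span A {e} = Ideal.span {e} from rfl] at heq
      have hxm : x ∈ m := Ideal.IsPrime.mem_of_pow_mem inferInstance hx.choose (by rw [hx.choose_spec]; exact zero_mem m)
      obtain ⟨c, hc⟩ := Ideal.mem_span_singleton'.1 (heq ▸ hxm : x ∈ Ideal.span {e})
      have h1 : 1 - e ∈ m := hle (by
        rw [LinearMap.mem_ker, LinearMap.toSpanSingleton_apply, smul_eq_mul, ← hc, sub_mul, one_mul,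
          mul_left_comm, show e * e = e from he, sub_self])
      refine hm.ne_top ((Ideal.eq_top_iff_one m).2 ?_)
      simpa using m.add_mem h1 (heq ▸ Ideal.mem_span_singleton_self e : e ∈ m)
    -- a socle element at `m`
    have hmin : m ∈ (Module.annihilator A A).minimalPrimes := by
      refine ⟨⟨hm.isPrime, ?_⟩, fun q hq hle => ?_⟩
      · rw [Module.annihilator_eq_bot.2 inferInstance]; exact bot_le
      · haveI := hq.1
        exact ((IsArtinianRing.isMaximal_of_isPrime q).eq_of_le hm.ne_top hle).ge
    obtain ⟨-, s, hs⟩ := isAssociatedPrime_iff.1 (Module.associatedPrimes.minimalPrimes_annihilator_subset_associatedPrimes A A hmin)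
    have hms : ∀ a ∈ m, a * s = 0 := fun a ha => by
      rw [hs] at ha
      simpa [Submodule.mem_colon_singleton] using ha
    have hs0 : s ≠ 0 := fun h0 => hm.ne_top (by rw [hs, h0, Submodule.colon_eq_top_iff_subset]; simp)
    -- a linear form killing `1` and `m * m`
    let W : Submodule k A := Submodule.span k {1} ⊔ (m * m).restrictScalars k
    have hW : W ≠ ⊤ := by
      intro h
      refine hm2 fun x hx => ?_
      obtain ⟨y, hy, z, hz, hxyz⟩ := Submodule.mem_sup.1 (h.ge (Submodule.mem_top (x := x)))
      obtain ⟨c, rfl⟩ := Submodule.mem_span_singleton.1 hy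
      have hc : c • (1 : A) ∈ m := by
        rw [eq_sub_of_add_eq hxyz]
        exact m.sub_mem hx (Ideal.mul_le_right hz)
      have hc0 : c = 0 := by
        by_contra hc0
        refine hm.ne_top (Ideal.eq_top_of_isUnit_mem _ hc ?_)
        rw [← Algebra.algebraMap_eq_smul_one]
        exact (isUnit_iff_ne_zero.2 hc0).map _
      rw [hc0, zero_smul, zero_add] at hxyz
      exact hxyz ▸ hz
    obtain ⟨ψ, hψ, hψW⟩ := W.exists_le_ker_of_lt_top hW.lt_top
    choose c hc using hres m hm
    have hleib : ∀ a b : A, ψ (a * b) = c a * ψ b + c b * ψ a := by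
      intro a b
      have h1 : ψ 1 = 0 := hψW (Submodule.mem_sup_left (Submodule.mem_span_singleton_self 1))
      have h2 : ψ ((a - algebraMap k A (c a)) * (b - algebraMap k A (c b))) = 0 :=
        hψW (Submodule.mem_sup_right (Ideal.mul_mem_mul (hc a) (hc b)))
      have h3 : a * b = c a • b + c b • a - (c a * c b) • (1 : A) + (a - algebraMap k A (c a)) * (b - algebraMap k A (c b)) := by
        simp only [Algebra.smul_def, map_mul]; ring
      rw [h3, map_add, map_sub, map_add, map_smul, map_smul, map_smul, h1, h2]
      simp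
    have hsm : ∀ a : A, a * s = c a • s := fun a => by
      rw [Algebra.smul_def, ← sub_eq_zero, ← sub_mul]
      exact hms _ (hc a)
    let D : Derivation k A A := Derivation.mk' (LinearMap.smulRight ψ s) (fun a b => by
      simp only [LinearMap.smulRight_apply, smul_eq_mul, hleib, add_smul, mul_smul_comm]
      rw [hsm a, hsm b, smul_smul, smul_smul, mul_comm (ψ b), mul_comm (ψ a)])
    apply hψ
    ext a
    have h0 : ψ a • s = 0 := congrArg (fun d : Derivation k A A => d a) (Subsingleton.elim D 0)
    exact (smul_eq_zero.1 h0).resolve_right hs0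
  · intro hred
    refine ⟨fun D E => Derivation.ext fun a => sub_eq_zero.1 ?_⟩
    rw [← Derivation.sub_apply]
    generalize D - E = F
    have hsq : ∀ x : A, ∃ y, x = x * (x * y) := by
      intro x
      obtain ⟨n, y, hy⟩ := IsArtinian.exists_pow_succ_smul_dvd (M := A) x 1
      refine ⟨y, sub_eq_zero.1 (hred.eq_zero _ ⟨n + 1, ?_⟩)⟩
      have : x ^ n * (1 - x * y) = 0 := by
        simp only [smul_eq_mul, mul_one, pow_succ] at hy
        linear_combination -hy
      rw [show x - x * (x * y) = x * (1 - x * y) by ring, mul_pow, pow_succ' (1 - x * y), pow_succ,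
        show x ^ n * x * ((1 - x * y) * (1 - x * y) ^ n) = x ^ n * (1 - x * y) * (x * (1 - x * y) ^ n) by ring,
        this, zero_mul]
    refine hred.eq_zero _ (mem_nilradical.1 ?_)
    rw [nilradical_eq_sInf, Ideal.mem_sInf]
    intro m (hm : m.IsPrime)
    haveI := hm
    obtain ⟨c, hc⟩ := hres m inferInstance a
    obtain ⟨y, hy⟩ := hsq (a - algebraMap k A c)
    have : F a = F (a - algebraMap k A c) := by rw [map_sub, Derivation.map_algebraMap, sub_zero]
    rw [this, hy, Derivation.leibniz]
    exact add_mem (m.mul_mem_right _ hc) (m.mul_mem_right _ (m.mul_mem_right y hc))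

end Groth.Agent.S17321
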