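import Groth.Statements.S17322
import Mathlib.RingTheory.HopfAlgebra.Convolution
import Mathlib.RingTheory.Adjoin.Tower
import Mathlib.LinearAlgebra.Charpoly.BaseChange
import Mathlib.RingTheory.TensorProduct.Free


set_option autoImplicit false
universe u v w
open Hopf

namespace Groth.Agent.S17322

open TensorProduct WithConv

variable {k : Type u} [Field k] {A : Type v} [CommRing A] [HopfAlgebra k A] [Module.Finite k A]
  {R : Type w} [CommRing R] [Algebra k R]

theorem charpoly_algEquiv {S M : Type*} [CommRing S] [CommRing M] [Algebra S M] [Module.Free S M] [Module.Finite S M]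
    (e : M ≃ₐ[S] M) (x : M) : (Algebra.lmul S M (e x)).charpoly = (Algebra.lmul S M x).charpoly := by
  rw [show Algebra.lmul S M (e x) = e.toLinearEquiv.conj (Algebra.lmul S M x) from ?_, LinearEquiv.charpoly_conj]
  ext y
  simp [LinearEquiv.conj_apply]

theorem charpoly_map_eq {S : Type*} [CommRing S] [Algebra k S] (f : R →ₐ[k] S) (z : R ⊗[k] A) :
    (Algebra.lmul S (S ⊗[k] A) (Algebra.TensorProduct.map f (AlgHom.id k A) z)).charpoly =
      (Algebra.lmul R (R ⊗[k] A) z).charpoly.map f.toRingHom := by
  classical
  let b := Module.Free.chooseBasis k A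
  rw [← LinearMap.charpoly_toMatrix _ (Algebra.TensorProduct.basis S b),
    ← LinearMap.charpoly_toMatrix _ (Algebra.TensorProduct.basis R b), ← Matrix.charpoly_map]
  congr 1
  have key : ∀ (w : R ⊗[k] A) i, (Algebra.TensorProduct.basis S b).repr (Algebra.TensorProduct.map f (AlgHom.id k A) w) i =
      f ((Algebra.TensorProduct.basis R b).repr w i) := by
    intro w i
    induction w using TensorProduct.induction_on with
    | zero => simp
    | tmul r a =>
      rw [Algebra.TensorProduct.map_tmul]
      simp [Algebra.TensorProduct.basis_repr_tmul, Algebra.algebraMap_eq_smul_one]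
    | add a c ha hc => simp [map_add, ha, hc]
  ext i j
  rw [Matrix.map_apply, LinearMap.toMatrix_apply, LinearMap.toMatrix_apply]
  show (Algebra.TensorProduct.basis S b).repr (Algebra.TensorProduct.map f (AlgHom.id k A) z * Algebra.TensorProduct.basis S b j) i =
    f ((Algebra.TensorProduct.basis R b).repr (z * Algebra.TensorProduct.basis R b j) i)
  rw [← key, map_mul (Algebra.TensorProduct.map f (AlgHom.id k A)), show Algebra.TensorProduct.map f (AlgHom.id k A) (Algebra.TensorProduct.basis R b j) =
    Algebra.TensorProduct.basis S b j by simp [Algebra.TensorProduct.basis_apply]]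

theorem exists_twist [HopfRep.Comod k A R] [GLin.IsCoactAlg k A R] :
    ∃ Ψ : (R ⊗[k] A) ⊗[k] A ≃ₐ[R ⊗[k] A] (R ⊗[k] A) ⊗[k] A,
      (∀ r, Algebra.TensorProduct.map (GLin.coactAlgHom k A R) (AlgHom.id k A) (GLin.coactAlgHom k A R r) =
        Ψ (Algebra.TensorProduct.map (Algebra.TensorProduct.includeLeft : R →ₐ[k] R ⊗[k] A) (AlgHom.id k A)
          (GLin.coactAlgHom k A R r))) ∧ True := by
  let S := R ⊗[k] A
  let T := S ⊗[k] A
  let il : A →ₐ[k] T := Algebra.TensorProduct.includeLeft.comp Algebra.TensorProduct.includeRight
  let ir : A →ₐ[k] T := Algebra.TensorProduct.includeRight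
  let d : A →ₐ[k] T := (toConv il * toConv ir).ofConv
  let Φ : T →ₐ[S] T := Algebra.TensorProduct.lift (Algebra.ofId S T) d fun _ _ => Commute.all _ _
  have hΦl : (Φ.restrictScalars k).comp il = il := by
    ext a
    show Algebra.TensorProduct.lift (Algebra.ofId S T) d (fun _ _ => Commute.all _ _) ((Algebra.TensorProduct.includeRight a : S) ⊗ₜ[k] (1 : A)) = _
    rw [Algebra.TensorProduct.lift_tmul, map_one, _root_.mul_one]
    rfl
  have hΦr : (Φ.restrictScalars k).comp ir = d := by
    ext a
    show Algebra.TensorProduct.lift (Algebra.ofId S T) d (fun _ _ => Commute.all _ _) ((1 : S) ⊗ₜ[k] a) = _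
    rw [Algebra.TensorProduct.lift_tmul, map_one, _root_.one_mul]
  have hS : toConv (il.comp (HopfAlgebra.antipodeAlgHom k A)) * toConv il = 1 := by
    have h : toConv (HopfAlgebra.antipodeAlgHom k A) * toConv (AlgHom.id k A) = 1 := by
      apply WithConv.ofConv_injective
      apply AlgHom.toLinearMap_injective
      apply WithConv.toConv_injective
      rw [AlgHom.toLinearMap_convMul, AlgHom.toLinearMap_convOne]
      simp [LinearMap.antipode_mul_id]
    apply WithConv.ofConv_injective
    have h2 := AlgHom.comp_convMul_distrib il (toConv (HopfAlgebra.antipodeAlgHom k A)) (toConv (AlgHom.id k A))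
    simp only [WithConv.ofConv_toConv, AlgHom.comp_id] at h2
    rw [← h2, h]
    ext a
    exact il.commutes _
  have hsurj : Function.Surjective Φ := by
    let g := ((toConv (il.comp (HopfAlgebra.antipodeAlgHom k A)) * toConv ir).ofConv : A →ₐ[k] T)
    have hg : (Φ.restrictScalars k).comp g = ir := by
      refine congrArg ofConv ((?_ : toConv ((Φ.restrictScalars k).comp g) = toConv ir))
      rw [AlgHom.comp_convMul_distrib]
      simp only [WithConv.toConv_ofConv, ← AlgHom.comp_assoc, hΦl, hΦr]
      rw [show toConv d = toConv il * toConv ir from rfl]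
      exact ((_root_.mul_assoc (toConv (il.comp (HopfAlgebra.antipodeAlgHom k A))) (toConv il) (toConv ir)).symm.trans (congrArg (· * toConv ir) hS)).trans (_root_.one_mul (toConv ir))
    intro z
    induction z using TensorProduct.induction_on with
    | zero => exact ⟨0, map_zero _⟩
    | tmul s b =>
      refine ⟨s • g b, ?_⟩
      rw [map_smul, show Φ (g b) = ir b from AlgHom.congr_fun hg b]
      show s • ((1 : S) ⊗ₜ[k] b) = _
      rw [TensorProduct.smul_tmul', smul_eq_mul, _root_.mul_one]
    | add x y hx hy =>
      obtain ⟨x', rfl⟩ := hx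
      obtain ⟨y', rfl⟩ := hy
      exact ⟨x' + y', map_add _ _ _⟩
  have hbij : Function.Bijective Φ :=
    ⟨OrzechProperty.injective_of_surjective_endomorphism Φ.toLinearMap hsurj, hsurj⟩
  refine ⟨AlgEquiv.ofBijective Φ hbij, fun r => ?_, trivial⟩
  have hco : ∀ z : S, Φ (Algebra.TensorProduct.map (Algebra.TensorProduct.includeLeft : R →ₐ[k] S) (AlgHom.id k A) z) =
      (TensorProduct.assoc k R A A).symm ((Coalgebra.comul (R := k) (A := A)).lTensor R z) := by
    intro z
    induction z using TensorProduct.induction_on with
    | zero => simp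
    | add x y hx hy => simp only [map_add, hx, hy]
    | tmul x a =>
      show Φ ((x ⊗ₜ[k] (1 : A)) ⊗ₜ[k] a) = _
      rw [Algebra.TensorProduct.lift_tmul, LinearMap.lTensor_tmul]
      show ((x ⊗ₜ[k] (1 : A)) ⊗ₜ[k] (1 : A)) * (toConv il * toConv ir).ofConv a = _
      rw [AlgHom.convMul_def]
      show _ * Algebra.TensorProduct.lmul' k (Algebra.TensorProduct.map il ir (Coalgebra.comul a)) = _
      induction (Coalgebra.comul a : A ⊗[k] A) using TensorProduct.induction_on with
      | zero => simp
      | tmul p q =>
        rw [Algebra.TensorProduct.map_tmul, Algebra.TensorProduct.lmul'_apply_tmul, TensorProduct.assoc_symm_tmul]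
        show ((x ⊗ₜ[k] (1 : A)) ⊗ₜ[k] (1 : A)) * ((((1 : R) ⊗ₜ[k] p) ⊗ₜ[k] (1 : A)) * (((1 : S)) ⊗ₜ[k] q)) = _
        rw [Algebra.TensorProduct.tmul_mul_tmul, Algebra.TensorProduct.tmul_mul_tmul, _root_.one_mul, _root_.one_mul,
          _root_.mul_one, Algebra.TensorProduct.tmul_mul_tmul, _root_.one_mul, _root_.mul_one]
      | add p q hp hq => simp only [map_add, mul_add, TensorProduct.tmul_add, hp, hq]
  show _ = Φ _
  rw [hco]
  have h := LinearMap.congr_fun (HopfRep.Comod.coassoc (k := k) (A := A) (V := R)) r
  simp only [LinearMap.comp_apply, LinearEquiv.coe_coe] at h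
  show _ = (TensorProduct.assoc k R A A).symm ((Coalgebra.comul (R := k) (A := A)).lTensor R
    (HopfRep.Comod.coact (k := k) (A := A) r))
  rw [← h, LinearEquiv.symm_apply_apply]
  rfl

/-- Let k be an algebraically closed field, A a commutative Hopf algebra over k which is
finite-dimensional as a k-vector space (a finite group scheme G = Spec A over k), and R a finitely
generated commutative k-algebra with an A-comodule structure whose coaction R → R ⊗ A is a k-algebra
homomorphism (an action of G on the affine scheme Spec R). Then the subalgebra R^G of invariants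
(elements whose coaction is r ⊗ 1) is finitely generated as a k-algebra, and R is finitely generated
as a module over R^G. -/
theorem result (k : Type u) [Field k] [IsAlgClosed k]
    (A : Type v) [CommRing A] [HopfAlgebra k A] [Module.Finite k A]
    (R : Type w) [CommRing R] [Algebra k R] [Algebra.FiniteType k R]
    [HopfRep.Comod k A R] [GLin.IsCoactAlg k A R] :
    Algebra.FiniteType k ↥(GLin.invariants k A R) ∧ Module.Finite ↥(GLin.invariants k A R) R := by
  classical
  let K := GLin.invariants k A R
  let S := R ⊗[k] A
  let ρ : R →ₐ[k] S := GLin.coactAlgHom k A R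
  let ι : R →ₐ[k] S := Algebra.TensorProduct.includeLeft
  haveI : Module.Free R S := Module.Free.tensor
  have hint : ∀ r : R, IsIntegral K r := by
    intro r
    let P : Polynomial R := (Algebra.lmul R S (ρ r)).charpoly
    have hroot : P.eval r = 0 := by
      let e : S →ₐ[R] R := (Algebra.TensorProduct.rid k R R).toAlgHom.comp
        (Algebra.TensorProduct.map (AlgHom.id R R) (Bialgebra.counitAlgHom k A))
      have he : e (ρ r) = r := by
        have h := congrArg (TensorProduct.rid k R)
          (LinearMap.congr_fun (HopfRep.Comod.counit_comp (k := k) (A := A) (V := R)) r)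
        simp only [LinearMap.flip_apply, TensorProduct.mk_apply, TensorProduct.rid_tmul, one_smul] at h
        refine Eq.trans ?_ h
        show (Algebra.TensorProduct.rid k R R) ((Algebra.TensorProduct.map (AlgHom.id R R) (Bialgebra.counitAlgHom k A))
          (HopfRep.Comod.coact (k := k) (A := A) r)) = _
        rw [LinearMap.comp_apply]
        induction HopfRep.Comod.coact (k := k) (A := A) r using TensorProduct.induction_on with
        | zero => simp
        | tmul a b => simp
        | add a b ha hb => simp only [map_add, ha, hb]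
      have h1 : Polynomial.aeval (ρ r) P = 0 := by
        have h := LinearMap.aeval_self_charpoly (Algebra.lmul R S (ρ r))
        rw [Polynomial.aeval_algHom_apply] at h
        have h2 := LinearMap.congr_fun h (1 : S)
        exact (_root_.mul_one _).symm.trans h2
      have h2 := congrArg e h1
      rw [← Polynomial.aeval_algHom_apply, map_zero, he, Polynomial.coe_aeval_eq_eval] at h2
      exact h2
    have hinv : P.map ρ.toRingHom = P.map ι.toRingHom := by
      obtain ⟨Ψ, hρ, hι⟩ := exists_twist (k := k) (A := A) (R := R)
      have hmap : ∀ f : R →ₐ[k] S,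
          (Algebra.lmul S (S ⊗[k] A) (Algebra.TensorProduct.map f (AlgHom.id k A) (ρ r))).charpoly =
            P.map f.toRingHom :=
        fun f => charpoly_map_eq f (ρ r)
      rw [← hmap ρ, ← hmap ι, hρ r]
      exact charpoly_algEquiv Ψ _
    have hmem : ∀ n, P.coeff n ∈ K := fun n => by
      have h := congrArg (fun Q => Q.coeff n) hinv
      simp only [Polynomial.coeff_map] at h
      exact h
    have hmonic : P.Monic := LinearMap.charpoly_monic _
    rcases subsingleton_or_nontrivial R with hR | hR
    · exact ⟨1, Polynomial.monic_one, Subsingleton.elim _ _⟩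
    obtain ⟨Q, hQ, hQd, hQm⟩ := Polynomial.lifts_and_degree_eq_and_monic
      ((Polynomial.lifts_iff_coeff_lifts P).2 fun n => ⟨⟨P.coeff n, hmem n⟩, rfl⟩ : P ∈ Polynomial.lifts (algebraMap K R))
      hmonic
    exact ⟨Q, hQm, by rw [← Polynomial.eval_map, hQ]; exact hroot⟩
  haveI : Algebra.IsIntegral K R := ⟨hint⟩
  haveI : Algebra.FiniteType K R := Algebra.FiniteType.of_restrictScalars_finiteType k K R
  haveI : Module.Finite K R := Algebra.IsIntegral.finite
  exact ⟨⟨fg_of_fg_of_fg k K R Algebra.FiniteType.out Module.Finite.fg_top Subtype.val_injective⟩, this⟩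

end Groth.Agent.S17322
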