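import Groth.Statements.S17323
import Mathlib

set_option autoImplicit false
universe u v
open CAlg

namespace Groth.Agent.S17323

theorem formallyEtale_of_reduced {k : Type*} [Field k] [PerfectField k] {C : Type v} [CommRing C]
    [Algebra k C] [Module.Finite k C] [IsReduced C] : Algebra.FormallyEtale k C := by
  have : IsArtinianRing C := isArtinian_of_tower k inferInstance
  rw [Algebra.FormallyEtale.iff_of_equiv ((IsArtinianRing.equivPi C).restrictScalars k),
    Algebra.FormallyEtale.pi_iff]
  intro m
  letI := Ideal.Quotient.field m.asIdeal
  exact Algebra.FormallyEtale.of_isSeparable k _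


/-- Let k be an algebraically closed field and A a commutative k-algebra which is finite-dimensional as
a k-vector space. Then A has a largest reduced subalgebra: a k-subalgebra B which is reduced and
contains every reduced k-subalgebra of A; moreover the composite of the inclusion B → A with the
projection A → A/nilradical(A) is bijective. -/
theorem result (k : Type u) [Field k] [IsAlgClosed k]
    (A : Type v) [CommRing A] [Algebra k A] [Module.Finite k A] :
    ∃ B : Subalgebra k A, IsReduced ↥B ∧ (∀ C : Subalgebra k A, IsReduced ↥C → C ≤ B) ∧
      Function.Bijective ((Ideal.Quotient.mkₐ k (nilradical A)).comp B.val) := by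
  have hA : IsArtinianRing A := isArtinian_of_tower k inferInstance
  have hnil : IsNilpotent (nilradical A) := IsNoetherianRing.isNilpotent_nilradical A
  have hred : IsReduced (A ⧸ nilradical A) :=
    (Ideal.isRadical_iff_quotient_reduced _).1 (Ideal.radical_isRadical _)
  have := formallyEtale_of_reduced (k := k) (C := A ⧸ nilradical A)
  let s : (A ⧸ nilradical A) →ₐ[k] A :=
    Algebra.FormallySmooth.lift (nilradical A) hnil (AlgHom.id k (A ⧸ nilradical A))
  have hs : ∀ z, Ideal.Quotient.mk (nilradical A) (s z) = z := fun z =>
    Algebra.FormallySmooth.mk_lift (nilradical A) hnil (AlgHom.id k _) z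
  have hsi : Function.Injective s := Function.LeftInverse.injective hs
  refine ⟨s.range, isReduced_of_injective (AlgEquiv.ofInjective s hsi).symm (EquivLike.injective _),
    fun C hC => ?_, ?_, fun z => ⟨⟨s z, ⟨z, rfl⟩⟩, hs z⟩⟩
  · intro c hc
    have := formallyEtale_of_reduced (k := k) (C := C)
    have h : C.val = s.comp ((Ideal.Quotient.mkₐ k (nilradical A)).comp C.val) :=
      Algebra.FormallyUnramified.ext (nilradical A) hnil fun z => (hs _).symm
    exact ⟨_, (AlgHom.congr_fun h ⟨c, hc⟩).symm⟩
  · rintro ⟨_, a, rfl⟩ ⟨_, b, rfl⟩ h
    have h' : a = b := (hs a).symm.trans (h.trans (hs b))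
    subst h'; rfl

end Groth.Agent.S17323
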