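import Groth.Statements.S17324
import Mathlib

set_option autoImplicit false
universe u v
open CAlg

namespace Groth.Agent.S17324

/-- (i) ⟺ (ii): let k be an algebraically closed field, A a commutative k-algebra which is
finite-dimensional as a k-vector space and is a local ring with maximal ideal m, and a_1, …, a_m ∈
m. Then A is generated as a k-algebra by a_1, …, a_m if and only if m is generated as an ideal by
a_1, …, a_m. (The printed lemma has a third equivalent condition, that the images of the a_i span
m/m²; its equivalence with (ii) is Nakayama's lemma.) -/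
theorem result (k : Type u) [Field k] [IsAlgClosed k]
    (A : Type v) [CommRing A] [Algebra k A] [Module.Finite k A] [IsLocalRing A]
    (m : ℕ) (a : Fin m → A) (ha : ∀ i, a i ∈ IsLocalRing.maximalIdeal A) :
    Algebra.adjoin k (Set.range a) = ⊤ ↔ Ideal.span (Set.range a) = IsLocalRing.maximalIdeal A := by
  classical
  let 𝔪 := IsLocalRing.maximalIdeal A
  have hres : ∀ x : A, ∃ c : k, x - algebraMap k A c ∈ 𝔪 := fun x => by
    have : Module.Finite k (IsLocalRing.ResidueField A) :=
      Module.Finite.of_surjective (IsScalarTower.toAlgHom k A (IsLocalRing.ResidueField A)).toLinearMap IsLocalRing.residue_surjective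
    obtain ⟨c, hc⟩ := (IsAlgClosed.algebraMap_bijective_of_isIntegral (k := k)).2 (IsLocalRing.residue A x)
    exact ⟨c, (IsLocalRing.residue_eq_zero_iff _).1 (by rw [map_sub, ← hc]; exact sub_self _)⟩
  constructor
  · intro h
    refine le_antisymm (Ideal.span_le.2 (by rintro _ ⟨i, rfl⟩; exact ha i)) fun x hx => ?_
    have hx' : x ∈ Algebra.adjoin k (Set.range a) := h ▸ Algebra.mem_top
    have key : ∃ c : k, x - algebraMap k A c ∈ Ideal.span (Set.range a) := by
      clear hx
      induction hx' using Algebra.adjoin_induction with
      | mem y hy => exact ⟨0, by simpa using Ideal.subset_span hy⟩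
      | algebraMap r => exact ⟨r, by simp⟩
      | add y z _ _ hy hz =>
        obtain ⟨c, hc⟩ := hy; obtain ⟨d, hd⟩ := hz
        exact ⟨c + d, by rw [map_add, add_sub_add_comm]; exact add_mem hc hd⟩
      | mul y z _ _ hy hz =>
        obtain ⟨c, hc⟩ := hy; obtain ⟨d, hd⟩ := hz
        refine ⟨c * d, ?_⟩
        rw [map_mul, show y * z - algebraMap k A c * algebraMap k A d =
          (y - algebraMap k A c) * z + algebraMap k A c * (z - algebraMap k A d) by ring]
        exact add_mem (Ideal.mul_mem_right _ _ hc) (Ideal.mul_mem_left _ _ hd)
    obtain ⟨c, hc⟩ := key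
    have h1 : algebraMap k A c ∈ 𝔪 := by
      rw [show algebraMap k A c = x - (x - algebraMap k A c) by ring]
      exact Ideal.sub_mem _ hx ((Ideal.span_le.2 (by rintro _ ⟨i, rfl⟩; exact ha i) : Ideal.span (Set.range a) ≤ 𝔪) hc)
    rcases eq_or_ne c 0 with rfl | hne
    · simpa using hc
    · exact absurd h1 ((IsLocalRing.notMem_maximalIdeal).2 ((Ne.isUnit hne).map _))
  · intro h
    have hprod : ∀ l : List (Fin m), (l.map a).prod ∈ 𝔪 ^ l.length := fun l => by
      induction l with
      | nil => simp
      | cons i l ihl => rw [List.map_cons, List.prod_cons, List.length_cons, pow_succ']; exact Ideal.mul_mem_mul (ha i) ihl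
    let S := (Algebra.adjoin k (Set.range a)).toSubmodule
    have hpow : ∀ N, (⊤ : Submodule k A) ≤ S ⊔ (𝔪 ^ N).restrictScalars k := by
      intro N
      induction N with
      | zero => simp
      | succ N ih =>
        refine ih.trans (sup_le le_sup_left ?_)
        intro x hx
        have hgen : ∀ y ∈ 𝔪 ^ N, y ∈ Ideal.span ((fun l : List (Fin m) => (l.map a).prod) '' {l | l.length = N}) := by
          intro y hy
          have : 𝔪 ^ N ≤ Ideal.span ((fun l : List (Fin m) => (l.map a).prod) '' {l | l.length = N}) := by
            clear hy hx ih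
            induction N with
            | zero => intro z _; rw [show Ideal.span ((fun l : List (Fin m) => (l.map a).prod) '' {l | l.length = 0}) = ⊤ from (Ideal.eq_top_iff_one _).2 (Ideal.subset_span ⟨[], rfl, rfl⟩)]; trivial
            | succ N ih =>
              rw [pow_succ, show 𝔪 = Ideal.span (Set.range a) from h.symm]
              rw [show 𝔪 = Ideal.span (Set.range a) from h.symm] at ih
              refine (Ideal.mul_mono_left ih).trans ?_
              rw [Ideal.span_mul_span', Ideal.span_le]
              rintro _ ⟨_, ⟨l, hl, rfl⟩, _, ⟨i, rfl⟩, rfl⟩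
              refine Ideal.subset_span ⟨l ++ [i], by simpa using hl, by simp⟩
          exact this hy
        have hx' := hgen x hx
        clear hx
        induction hx' using Submodule.span_induction with
        | mem y hy =>
          obtain ⟨l, hl, rfl⟩ := hy
          refine Submodule.mem_sup_left ?_
          exact Subalgebra.list_prod_mem _ fun z hz => by
            obtain ⟨i, -, rfl⟩ := List.mem_map.1 hz; exact Algebra.subset_adjoin ⟨i, rfl⟩
        | zero => exact zero_mem _
        | add y z _ _ hy hz => exact add_mem hy hz
        | smul r y hy ihy =>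
          obtain ⟨c, hc⟩ := hres r
          rw [smul_eq_mul, show r * y = c • y + (r - algebraMap k A c) * y by rw [Algebra.smul_def]; ring]
          refine add_mem (Submodule.smul_mem _ _ ihy) (Submodule.mem_sup_right ?_)
          show _ ∈ 𝔪 ^ (N + 1)
          rw [pow_succ']
          refine Ideal.mul_mem_mul hc ?_
          exact (Ideal.span_le.2 (by
            rintro _ ⟨l, hl, rfl⟩
            exact (show l.length = N from hl) ▸ hprod l)) hy
    have : IsArtinianRing A := IsArtinianRing.of_finite k A
    obtain ⟨N, hN⟩ := IsArtinianRing.isNilpotent_jacobson_bot (R := A)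
    rw [IsLocalRing.jacobson_eq_maximalIdeal _ bot_ne_top] at hN
    have h2 := hpow N
    rw [hN] at h2
    refine top_unique fun x _ => ?_
    simpa [S] using h2 (show x ∈ (⊤ : Submodule k A) from trivial)

end Groth.Agent.S17324
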