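import Groth.Statements.S17325
import Mathlib

set_option autoImplicit false
universe u v
open LieAlg

namespace Groth.Agent.S17325

/-- Let k be an algebraically closed field of characteristic p > 0, V a finite-dimensional k-vector
space and g a nonzero k-linear subspace of End_k(V) closed under the p-th power map u ↦ u^p. Then g
contains a nonzero u with u^p = c u for some c ∈ k, i.e. a line k u closed under p-th powers. (The
published lemma concerns an abstract nonzero finite-dimensional restricted Lie algebra; this row
concerns subspaces of End_k(V) closed under p-th powers, a class that contains every restricted Lie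
subalgebra of gl(V).) -/
theorem result (k : Type u) [Field k] [IsAlgClosed k]
    (p : ℕ) [Fact p.Prime] [CharP k p] (V : Type v) [AddCommGroup V] [Module k V] [FiniteDimensional k V]
    (g : Submodule k (Module.End k V)) (hg : ∀ u ∈ g, u ^ p ∈ g) (hne : g ≠ ⊥) :
    ∃ u ∈ g, u ≠ 0 ∧ ∃ c : k, u ^ p = c • u := by
  classical
  have hp : p.Prime := Fact.out
  by_cases hnil : ∃ u ∈ g, u ≠ 0 ∧ u ^ p = 0
  · obtain ⟨u, hu, hu0, hup⟩ := hnil
    exact ⟨u, hu, hu0, 0, by rw [hup, zero_smul]⟩
  push Not at hnil
  obtain ⟨v, hv, hv0⟩ := Submodule.exists_mem_ne_zero_of_ne_bot hne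
  have : Nontrivial (Module.End k V) := nontrivial_of_ne v 0 hv0
  have : CharP (Module.End k V) p := charP_of_injective_algebraMap (algebraMap k (Module.End k V)).injective p
  let F : ℕ → Module.End k V := fun i => v ^ (p ^ i)
  have hFsucc : ∀ i, F (i + 1) = F i ^ p := fun i => by simp only [F, ← pow_mul, pow_succ]
  have hF : ∀ i, F i ∈ g ∧ F i ≠ 0 := by
    intro i
    induction i with
    | zero => simp [F, hv, hv0]
    | succ i ih => rw [hFsucc]; exact ⟨hg _ ih.1, hnil _ ih.1 ih.2⟩
  have hex : ∃ m, F m ∈ Submodule.span k (F '' (Finset.range m : Set ℕ)) := by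
    by_contra hno
    push Not at hno
    have hli : ∀ n, LinearIndependent k (fun i : Fin n => F i) := by
      intro n
      induction n with
      | zero => exact linearIndependent_empty_type
      | succ n ih =>
        rw [linearIndependent_fin_succ']
        refine ⟨ih, ?_⟩
        have hr : Set.range (Fin.init fun i : Fin (n + 1) => F i) = F '' (Finset.range n : Set ℕ) := by
          ext y
          simp only [Set.mem_range, Fin.init, Fin.val_castSucc, Set.mem_image, Finset.coe_range, Set.mem_Iio]
          exact ⟨fun ⟨i, hi⟩ => ⟨i, i.2, hi⟩, fun ⟨i, h, hi⟩ => ⟨⟨i, h⟩, hi⟩⟩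
        rw [hr]
        simpa using hno n
    have := (hli (Module.finrank k (Module.End k V) + 1)).fintype_card_le_finrank
    simp at this
  obtain ⟨m, hspan, hmin⟩ : ∃ m, F m ∈ Submodule.span k (F '' (Finset.range m : Set ℕ)) ∧
      ∀ j < m, F j ∉ Submodule.span k (F '' (Finset.range j : Set ℕ)) :=
    ⟨Nat.find hex, Nat.find_spec hex, fun j hj => Nat.find_min hex hj⟩
  obtain ⟨M, rfl⟩ : ∃ M, m = M + 1 := by
    rcases m with _ | M
    · simp [(hF 0).2] at hspan
    · exact ⟨M, rfl⟩
  obtain ⟨a, ha⟩ := Submodule.mem_span_image_finset_iff_exists_fun k |>.1 hspan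
  let b : ℕ → k := fun i => if h : i ∈ Finset.range (M + 1) then a ⟨i, h⟩ else 0
  have hb : F (M + 1) = ∑ i ∈ Finset.range (M + 1), b i • F i := by
    rw [← ha, ← Finset.sum_coe_sort (Finset.range (M + 1))]
    refine Finset.sum_congr rfl fun i _ => ?_
    simp only [b, dif_pos i.2]
  let Q : ℕ → Polynomial k := fun i => Nat.rec (Polynomial.C (b 0) * Polynomial.X ^ p)
    (fun i q => q ^ p + Polynomial.C (b (i + 1)) * Polynomial.X ^ p) i
  have hderiv : ∀ i, Polynomial.derivative (Q i) = 0 := by
    intro i
    cases i <;> simp [Q, Polynomial.derivative_pow, CharP.cast_eq_zero]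
  have hdeg : ∀ j, (∃ i ≤ j, b i ≠ 0) → p ≤ (Q j).natDegree := by
    intro j
    induction j with
    | zero =>
      rintro ⟨i, hi, hbi⟩
      obtain rfl : i = 0 := by omega
      simp [Q, Polynomial.natDegree_C_mul_X_pow p _ hbi]
    | succ j ih =>
      rintro ⟨i, hi, hbi⟩
      change p ≤ (Q j ^ p + Polynomial.C (b (j + 1)) * Polynomial.X ^ p).natDegree
      by_cases hj : ∃ i ≤ j, b i ≠ 0
      · have h1 := ih hj
        have h2 : (Q j ^ p).natDegree = p * (Q j).natDegree := Polynomial.natDegree_pow _ _
        have h3 := Polynomial.natDegree_C_mul_X_pow_le (b (j + 1)) p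
        have h4 : p * 2 ≤ p * (Q j).natDegree := Nat.mul_le_mul_left _ (hp.two_le.trans h1)
        rw [Polynomial.natDegree_add_eq_left_of_natDegree_lt (by have := hp.two_le; omega), h2]
        omega
      · push Not at hj
        have hQ : ∀ l ≤ j, Q l = 0 := by
          intro l hl
          induction l with
          | zero => simp [Q, hj 0 (Nat.zero_le _)]
          | succ l ihl =>
            change Q l ^ p + Polynomial.C (b (l + 1)) * Polynomial.X ^ p = 0
            rw [ihl (by omega), zero_pow hp.ne_zero, hj _ hl]; simp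
        have hij : i = j + 1 := by
          by_contra hne'
          exact hbi (hj i (by omega))
        subst hij
        rw [hQ j le_rfl, zero_pow hp.ne_zero, zero_add, Polynomial.natDegree_C_mul_X_pow p _ hbi]
  have hdegM : p ≤ (Q M).natDegree := hdeg M (by
    by_contra hz
    push Not at hz
    refine (hF (M + 1)).2 (hb.trans (Finset.sum_eq_zero fun i hi => ?_))
    rw [hz i (by simpa [Nat.lt_succ_iff] using hi), zero_smul])
  let R := Q M - Polynomial.X
  have hsep : R.Separable := by
    rw [Polynomial.separable_def, map_sub, hderiv, Polynomial.derivative_X, zero_sub]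
    exact isCoprime_one_right.neg_right
  have hRdeg : 2 ≤ R.natDegree := by
    have : (Polynomial.X : Polynomial k).natDegree < (Q M).natDegree := by
      rw [Polynomial.natDegree_X]; have := hp.two_le; omega
    change 2 ≤ (Q M - Polynomial.X).natDegree
    rw [Polynomial.natDegree_sub_eq_left_of_natDegree_lt this]
    have := hp.two_le; omega
  obtain ⟨t, ht, ht0⟩ : ∃ t, R.IsRoot t ∧ t ≠ 0 := by
    by_contra hno
    push Not at hno
    have hR0 : R ≠ 0 := fun h => by simp [h] at hRdeg
    have hcard := (IsAlgClosed.splits R).natDegree_eq_card_roots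
    have hsub : R.roots.toFinset ⊆ ({0} : Finset k) := by
      intro x hx
      simpa using hno x (Polynomial.isRoot_of_mem_roots (Multiset.mem_toFinset.1 hx))
    have := Finset.card_le_card hsub
    rw [Multiset.toFinset_card_of_nodup (Polynomial.nodup_roots hsep), ← hcard,
      Finset.card_singleton] at this
    omega
  have htM : (Q M).eval t = t := by
    simpa [R, Polynomial.IsRoot, sub_eq_zero] using ht
  let x : Module.End k V := ∑ i ∈ Finset.range (M + 1), (Q i).eval t • F i
  have hx : x ∈ g := Submodule.sum_mem _ fun i _ => g.smul_mem _ (hF i).1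
  have hx0 : x ≠ 0 := by
    intro h
    apply hmin M (by omega)
    simp only [x, Finset.sum_range_succ, htM] at h
    have h' : F M = t⁻¹ • (-∑ i ∈ Finset.range M, (Q i).eval t • F i) := by
      rw [← eq_neg_of_add_eq_zero_right h, smul_smul, inv_mul_cancel₀ ht0, one_smul]
    rw [h']
    exact Submodule.smul_mem _ _ (Submodule.neg_mem _ (Submodule.sum_mem _ fun i hi =>
      Submodule.smul_mem _ _ (Submodule.subset_span ⟨i, hi, rfl⟩)))
  have hpow : ∀ (N : ℕ) (c : ℕ → k),
      (∑ i ∈ Finset.range N, c i • F i) ^ p = ∑ i ∈ Finset.range N, (c i) ^ p • F (i + 1) := by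
    intro N c
    induction N with
    | zero => simp [hp.ne_zero]
    | succ N ih =>
      have hcomm : Commute (∑ i ∈ Finset.range N, c i • F i) (c N • F N) :=
        Commute.sum_left _ _ _ fun i _ =>
          ((Commute.pow_pow (Commute.refl v) _ _).smul_left _).smul_right _
      rw [Finset.sum_range_succ, Finset.sum_range_succ, add_pow_char_of_commute p hcomm, ih,
        smul_pow, ← hFsucc]
  refine ⟨x, hx, hx0, 1, ?_⟩
  rw [one_smul]
  change (∑ i ∈ Finset.range (M + 1), (Q i).eval t • F i) ^ p = ∑ i ∈ Finset.range (M + 1), (Q i).eval t • F i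
  rw [hpow, Finset.sum_range_succ, htM, hb, Finset.smul_sum]
  conv_rhs => rw [Finset.sum_range_succ']
  rw [Finset.sum_range_succ', ← add_assoc, ← Finset.sum_add_distrib]
  refine congrArg₂ (· + ·) (Finset.sum_congr rfl fun i _ => ?_) ?_
  · change _ = Polynomial.eval t (Q i ^ p + Polynomial.C (b (i + 1)) * Polynomial.X ^ p) • _
    rw [smul_smul, ← add_smul]
    congr 1
    rw [Polynomial.eval_add, Polynomial.eval_pow, Polynomial.eval_mul, Polynomial.eval_C, Polynomial.eval_pow, Polynomial.eval_X]
    ring
  · rw [smul_smul]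
    congr 1
    change t ^ p * b 0 = Polynomial.eval t (Polynomial.C (b 0) * Polynomial.X ^ p)
    rw [Polynomial.eval_mul, Polynomial.eval_C, Polynomial.eval_pow, Polynomial.eval_X]
    ring

end Groth.Agent.S17325
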