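import Groth.Statements.S17326
import Mathlib

set_option autoImplicit false
universe u v
open CAlg

namespace Groth.Agent.S17326

/-- Let k be an algebraically closed field of characteristic p > 0, A a commutative k-algebra which is
finite-dimensional as a k-vector space (a finite k-scheme X), and n ≥ 1. The n-th iterated relative
Frobenius morphism X → X^(p^n) is an isomorphism if and only if X is reduced; on rings: the map a ↦
a^(p^n) of A to itself (which is the ring homomorphism underlying the relative Frobenius, the twist
A^(p^n) having the same underlying ring as A) is bijective if and only if A is reduced. -/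
theorem result (k : Type u) [Field k] [IsAlgClosed k]
    (p : ℕ) [Fact p.Prime] [CharP k p] (A : Type v) [CommRing A] [Algebra k A] [Module.Finite k A]
    (n : ℕ) (hn : 1 ≤ n) :
    Function.Bijective (fun a : A => a ^ p ^ n) ↔ IsReduced A := by
  constructor
  · intro h
    refine ⟨fun a ha => ?_⟩
    obtain ⟨N, hN⟩ := ha
    have hp : 1 < p ^ n := Nat.one_lt_pow (by omega) (Fact.out : p.Prime).one_lt
    have key : ∀ j : ℕ, ∀ b : A, b ^ (p ^ n) ^ j = 0 → b = 0 := by
      intro j
      induction j with
      | zero => simp
      | succ j ih =>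
        intro b hb
        rw [pow_succ, pow_mul] at hb
        refine ih b (h.1 ?_)
        show (b ^ (p ^ n) ^ j) ^ p ^ n = 0 ^ p ^ n
        rw [hb, zero_pow (by omega)]
    obtain ⟨j, hj⟩ : ∃ j, N ≤ (p ^ n) ^ j := ⟨N, (Nat.lt_pow_self hp).le⟩
    exact key j a (pow_eq_zero_of_le hj hN)
  · intro hA
    rcases subsingleton_or_nontrivial A with h | h
    · exact ⟨fun _ _ _ => Subsingleton.elim _ _, fun _ => ⟨0, Subsingleton.elim _ _⟩⟩
    have : CharP A p := charP_of_injective_algebraMap (algebraMap k A).injective p
    have : IsArtinianRing A := isArtinian_of_tower k inferInstance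
    refine ⟨iterateFrobenius_inj A p n, fun a => ?_⟩
    have hm : ∀ m : MaximalSpectrum A, ∀ z : A ⧸ m.asIdeal, ∃ w, w ^ p ^ n = z := by
      intro m z
      obtain ⟨c, rfl⟩ := (IsAlgClosed.algebraMap_bijective_of_isIntegral (k := k) (K := A ⧸ m.asIdeal)).2 z
      obtain ⟨d, hd⟩ := IsAlgClosed.exists_pow_nat_eq c (n := p ^ n) (pow_pos (Fact.out : p.Prime).pos n)
      exact ⟨algebraMap k _ d, by rw [← map_pow, hd]⟩
    choose w hw using hm
    refine ⟨(IsArtinianRing.equivPi A).symm fun m => w m (IsArtinianRing.equivPi A a m), ?_⟩
    apply (IsArtinianRing.equivPi A).injective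
    ext m
    rw [map_pow, Pi.pow_apply]
    erw [RingEquiv.apply_symm_apply]
    exact hw m _

end Groth.Agent.S17326
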