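import Groth.Statements.S17327
import Groth.Agent.GrpSchLib.HopfExt
import Mathlib.RingTheory.Unramified.Field
import Mathlib.RingTheory.Finiteness.Finsupp


set_option autoImplicit false
universe u v
open Hopf

namespace Groth.Agent.S17327

/-- Let k be an algebraically closed field of characteristic p > 0, A a commutative Hopf algebra over k
which is finite-dimensional as a k-vector space (a finite group scheme G = Spec A), I the
augmentation ideal (kernel of the counit) and n ≥ 1. The n-th Frobenius kernel G_n is the closed
subgroup scheme cut out by the ideal generated by the p^n-th powers f^(p^n), f ∈ I; it is trivial,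
i.e. that ideal equals I, if and only if G is reduced. -/
theorem result (k : Type u) [Field k] [IsAlgClosed k]
    (p : ℕ) [Fact p.Prime] [CharP k p] (A : Type v) [CommRing A] [HopfAlgebra k A] [Module.Finite k A]
    (n : ℕ) (hn : 1 ≤ n) :
    Ideal.span ((fun f : A => f ^ p ^ n) '' (RingHom.ker (Bialgebra.counitAlgHom k A) : Set A)) =
      RingHom.ker (Bialgebra.counitAlgHom k A) ↔ IsReduced A := by
  let ε := Bialgebra.counitAlgHom k A
  let m := RingHom.ker ε
  set q := p ^ n with hq
  have hq2 : 2 ≤ q := le_trans (Fact.out : p.Prime).two_le (Nat.le_self_pow (by omega) p)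
  constructor
  · intro h
    have hle : m ≤ m ^ 2 := by
      refine h.ge.trans (Ideal.span_le.2 ?_)
      rintro _ ⟨f, hf, rfl⟩
      exact Ideal.pow_le_pow_right hq2 (Ideal.pow_mem_pow hf q)
    haveI := Groth.Agent.GrpSchLib.HopfExt.formallyUnramified_of_aug hle
    exact Algebra.FormallyUnramified.isReduced_of_field k A
  · intro hred
    refine le_antisymm (Ideal.span_le.2 ?_) fun f hf => ?_
    · rintro _ ⟨f, hf, rfl⟩
      exact Ideal.pow_mem_of_mem _ hf q (by omega)
    · haveI : Nontrivial A := ε.toRingHom.domain_nontrivial
      haveI : CharP A p := charP_of_injective_algebraMap (algebraMap k A).injective p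
      haveI : ExpChar A p := .prime Fact.out
      haveI : Invertible (1 : A) := invertibleOne
      let b := Module.finBasis k A
      have hsum : ∀ c : Fin (Module.finrank k A) → k,
          (∑ i, c i • b i) ^ q = ∑ i, (c i ^ q) • b i ^ q := fun c => by
        rw [hq, sum_pow_char_pow p n]
        simp [smul_pow]
      have hroot : ∀ c : k, ∃ d : k, d ^ q = c := fun c => IsAlgClosed.exists_pow_nat_eq c (by omega)
      choose r hr using hroot
      have hli : LinearIndependent k (fun i => b i ^ q) := by
        rw [Fintype.linearIndependent_iff]
        intro c hc i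
        have h0 : ∑ j, r (c j) • b j = 0 := by
          refine IsReduced.eq_zero _ ⟨q, ?_⟩
          rw [hsum]
          simpa [hr] using hc
        rw [← hr (c i), Fintype.linearIndependent_iff.1 b.linearIndependent _ h0 i, zero_pow (by omega)]
      have hsp := hli.span_eq_top_of_card_eq_finrank' (by simp)
      have hmem : f ∈ Submodule.span k (Set.range fun i => b i ^ q) := hsp ▸ Submodule.mem_top
      rw [Submodule.mem_span_range_iff_exists_fun] at hmem
      obtain ⟨c, hc⟩ := hmem
      have hg : (∑ i, r (c i) • b i) ^ q = f := by rw [hsum]; simpa [hr] using hc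
      refine Ideal.subset_span ⟨∑ i, r (c i) • b i, ?_, hg⟩
      rw [SetLike.mem_coe, RingHom.mem_ker]
      refine (pow_eq_zero_iff (show q ≠ 0 by omega)).1 ?_
      rw [← map_pow, hg]
      exact hf

end Groth.Agent.S17327
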