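import Groth.Statements.S17328
import Groth.Agent.FinGrpLib.Order


set_option autoImplicit false
universe u v
open Hopf

namespace Groth.Agent.S17328

theorem finrank_cotangent {k : Type u} [Field k] {A : Type v} [CommRing A] [Algebra k A] (ε : A →ₐ[k] k) {n : ℕ}
    (x : Fin n → A) (D : Fin n → Derivation k A A) (hx : ∀ i, ε (x i) = 0)
    (hD : ∀ i j, D i (x j) = if i = j then 1 else 0)
    (hgen : Function.Surjective (MvPolynomial.aeval x : MvPolynomial (Fin n) k →ₐ[k] A)) :
    Module.finrank k (RingHom.ker ε).Cotangent = n := by
  classical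
  let I : Ideal A := RingHom.ker ε
  have hxI : ∀ i, x i ∈ I := fun i => RingHom.mem_ker.mpr (hx i)
  let v : Fin n → I.Cotangent := fun i => I.toCotangent ⟨x i, hxI i⟩
  have hli : LinearIndependent k v := by
    rw [Fintype.linearIndependent_iff]
    intro g hg i
    have h2 : I.toCotangent (∑ j, algebraMap k A (g j) • (⟨x j, hxI j⟩ : I)) = 0 := by
      rw [map_sum, ← hg]
      exact Finset.sum_congr rfl fun j _ => by rw [map_smul, algebraMap_smul]
    rw [Ideal.toCotangent_eq_zero] at h2
    have h3 : ∀ z ∈ I ^ 2, ε (D i z) = 0 := fun z hz => by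
      rw [pow_two] at hz
      refine Submodule.mul_induction_on hz (fun a ha b hb => ?_) (fun a b ha hb => by simp [ha, hb])
      rw [RingHom.mem_ker] at ha hb
      simp [ha, hb]
    have h4 := h3 _ h2
    simpa [hD, Finset.sum_ite_eq, mul_ite] using h4
  have hsp : ⊤ ≤ Submodule.span k (Set.range v) := by
    rintro w -
    obtain ⟨⟨z, hz⟩, rfl⟩ := I.toCotangent_surjective w
    obtain ⟨P, rfl⟩ := hgen z
    let L : MvPolynomial (Fin n) k → A := fun P => ∑ j, algebraMap k A (MvPolynomial.coeff (Finsupp.single j 1) P) * x j
    have key : ∀ P : MvPolynomial (Fin n) k,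
        MvPolynomial.aeval x P - algebraMap k A (MvPolynomial.coeff 0 P) - L P ∈ I ^ 2 := by
      intro P
      induction P using MvPolynomial.induction_on with
      | C a =>
        have : L (MvPolynomial.C a) = 0 := Finset.sum_eq_zero fun j _ => by
          rw [MvPolynomial.coeff_C, if_neg (fun h => by simpa using congrArg (fun f => f j) h.symm), map_zero, zero_mul]
        simp [this]
      | add a b ha hb =>
        have : MvPolynomial.aeval x (a + b) - algebraMap k A (MvPolynomial.coeff 0 (a + b)) - L (a + b) =
            (MvPolynomial.aeval x a - algebraMap k A (MvPolynomial.coeff 0 a) - L a) +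
              (MvPolynomial.aeval x b - algebraMap k A (MvPolynomial.coeff 0 b) - L b) := by
          simp only [L, map_add, MvPolynomial.coeff_add, add_mul, Finset.sum_add_distrib]; ring
        rw [this]
        exact add_mem ha hb
      | mul_X a j ha =>
        have hc0 : MvPolynomial.coeff 0 (a * MvPolynomial.X j) = 0 := by simp [MvPolynomial.coeff_mul_X']
        have hc1 : L (a * MvPolynomial.X j) = algebraMap k A (MvPolynomial.coeff 0 a) * x j := by
          rw [show L (a * MvPolynomial.X j) = ∑ l, algebraMap k A (MvPolynomial.coeff (Finsupp.single l 1) (a * MvPolynomial.X j)) * x l from rfl,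
            Finset.sum_eq_single j]
          · congr 2
            have := MvPolynomial.coeff_mul_X 0 j a
            simpa using this
          · intro l _ hl
            rw [MvPolynomial.coeff_mul_X', if_neg (by simp [Finsupp.support_single_ne_zero, Ne.symm hl]), map_zero, zero_mul]
          · simp
        rw [map_mul, MvPolynomial.aeval_X, hc0, map_zero, sub_zero, hc1, ← sub_mul, pow_two]
        have hL : L a ∈ I := sum_mem fun l _ => I.mul_mem_left _ (hxI l)
        refine Ideal.mul_mem_mul ?_ (hxI j)
        have := add_mem (Ideal.pow_le_self two_ne_zero ha) hL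
        simpa using this
    have h0 : MvPolynomial.coeff 0 P = 0 := by
      have h2 := RingHom.mem_ker.mp (Ideal.pow_le_self two_ne_zero (key P))
      rw [RingHom.mem_ker] at hz
      simpa [L, hx, hz] using h2
    have h5 : I.toCotangent ⟨_, hz⟩ = I.toCotangent (∑ j, algebraMap k A (MvPolynomial.coeff (Finsupp.single j 1) P) • (⟨x j, hxI j⟩ : I)) := by
      rw [Ideal.toCotangent_eq]
      simpa [L, h0, Algebra.smul_def] using key P
    rw [h5, map_sum]
    refine Submodule.sum_mem _ fun j _ => ?_
    rw [map_smul, algebraMap_smul]
    exact Submodule.smul_mem _ _ (Submodule.subset_span ⟨j, rfl⟩)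
  exact (Module.finrank_eq_card_basis (Module.Basis.mk hli hsp)).trans (Fintype.card_fin n)

theorem counit_left {K : Type u} [Field K] {A : Type v} [CommRing A] [Bialgebra K A] (a : A) :
    Algebra.TensorProduct.lift ((Algebra.ofId K A).comp (Bialgebra.counitAlgHom K A)) (AlgHom.id K A)
      (fun _ _ => .all _ _) (Coalgebra.comul (R := K) a) = a := by
  have h := congrArg (TensorProduct.lid K A) (Coalgebra.rTensor_counit_comul (R := K) a)
  rw [TensorProduct.lid_tmul, one_smul] at h
  conv_rhs => rw [← h]
  generalize Coalgebra.comul (R := K) a = z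
  induction z using TensorProduct.induction_on with
  | zero => simp
  | add z₁ z₂ h₁ h₂ => simp only [map_add, h₁, h₂]
  | tmul x y => simp [Algebra.smul_def]

theorem counit_right {K : Type u} [Field K] {A : Type v} [CommRing A] [Bialgebra K A] (a : A) :
    Algebra.TensorProduct.lift (AlgHom.id K A) ((Algebra.ofId K A).comp (Bialgebra.counitAlgHom K A))
      (fun _ _ => .all _ _) (Coalgebra.comul (R := K) a) = a := by
  have h := congrArg (TensorProduct.rid K A) (Coalgebra.lTensor_counit_comul (R := K) a)
  rw [TensorProduct.rid_tmul, one_smul] at h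
  conv_rhs => rw [← h]
  generalize Coalgebra.comul (R := K) a = z
  induction z using TensorProduct.induction_on with
  | zero => simp
  | add z₁ z₂ h₁ h₂ => simp only [map_add, h₁, h₂]
  | tmul x y => simp [Algebra.smul_def, mul_comm]

/-- Let k be an algebraically closed field of characteristic p > 0 and A a commutative Hopf algebra over
k, finite-dimensional as a k-vector space, with augmentation ideal I (kernel of the counit), such
that f^p = 0 for every f ∈ I (the finite group scheme G = Spec A is infinitesimal of height at most
one: A is then a local ring with maximal ideal I). Then the order of G is dim_k A = p^n where n =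
dim_k I/I² is the dimension of the Lie algebra of G. -/
theorem result (k : Type u) [Field k] [IsAlgClosed k]
    (p : ℕ) [Fact p.Prime] [CharP k p] (A : Type v) [CommRing A] [HopfAlgebra k A] [Module.Finite k A]
    (h1 : ∀ f : A, Bialgebra.counitAlgHom k A f = 0 → f ^ p = 0) :
    Module.finrank k A = p ^ Module.finrank k (RingHom.ker (Bialgebra.counitAlgHom k A)).Cotangent := by
  classical
  let ε := Bialgebra.counitAlgHom k A
  have hnil : ∀ b, ε b = 0 → IsNilpotent b := fun b hb => ⟨p, h1 b hb⟩
  haveI : Nontrivial A := (ε : A →+* k).domain_nontrivial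
  haveI : CharP A p := charP_of_injective_algebraMap (algebraMap k A).injective p
  haveI : IsLocalRing A := FinGrpLib.isLocalRing_of_ker_nil ε hnil
  let c : FinGrpLib.CounitalComul k A :=
    { ε := ε
      Δ := Bialgebra.comulAlgHom k A
      lid := fun b => counit_left b
      rid := fun b => counit_right b }
  obtain ⟨n, x₀, D, hD₀, hgen₀⟩ := FinGrpLib.exists_generators_dual c
  let x : Fin n → A := fun i => x₀ i - algebraMap k A (ε (x₀ i))
  have hx : ∀ i, ε (x i) = 0 := fun i => by simp [x]
  have hD : ∀ i j, D i (x j) = if i = j then 1 else 0 := fun i j => by simp [x, hD₀]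
  have hgen : Function.Surjective (MvPolynomial.aeval x : MvPolynomial (Fin n) k →ₐ[k] A) := by
    intro b
    obtain ⟨P, rfl⟩ := hgen₀ b
    refine ⟨MvPolynomial.aeval (fun i => MvPolynomial.X i + MvPolynomial.C (ε (x₀ i))) P, ?_⟩
    rw [← AlgHom.comp_apply, MvPolynomial.comp_aeval]
    refine congrArg (fun f => (MvPolynomial.aeval f : MvPolynomial (Fin n) k →ₐ[k] A) P) (funext fun i => ?_)
    simp [x]
  have hK0 : FinGrpLib.pthPowers (k := k) p (B := A) = ⊥ := by
    refine le_antisymm (fun y hy => ?_) bot_le
    obtain ⟨a, rfl⟩ := FinGrpLib.mem_pthPowers p hy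
    refine ⟨ε a ^ p, ?_⟩
    show algebraMap k A (ε a ^ p) = a ^ p
    have h := h1 (a - algebraMap k A (ε a)) (by simp [ε])
    rw [sub_pow_char, sub_eq_zero] at h
    rw [h, map_pow]
  rw [FinGrpLib.finrank_eq_pow_mul p x D hD hgen, hK0, Subalgebra.finrank_bot, _root_.mul_one]
  congr 1
  exact (finrank_cotangent (Bialgebra.counitAlgHom k A) x D hx hD hgen).symm

end Groth.Agent.S17328
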