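import Groth.Statements.S1733
import Mathlib

set_option autoImplicit false
universe u
open LocCoh

namespace Groth.Agent.S1733

/-- Let f_1, …, f_r and g be elements of a ring (r ≥ 1). If the family f_1, …, f_{r-1}, f_r g is
independent (every linear relation has coefficients in the ideal the family generates), then f_1, …,
f_r is independent. -/
theorem result (A : Type u) [CommRing A] (r : ℕ) (f : Fin (r + 1) → A) (g : A) (h : Dual2.Independent (Function.update f (Fin.last r) (f (Fin.last r) * g))) : Dual2.Independent f := by
  classical
  intro a ha
  set f' := Function.update f (Fin.last r) (f (Fin.last r) * g) with hf'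
  have hle : Ideal.span (Set.range f') ≤ Ideal.span (Set.range f) := by
    rw [Ideal.span_le]
    rintro _ ⟨i, rfl⟩
    rcases eq_or_ne i (Fin.last r) with rfl | hi
    · rw [hf', Function.update_self]; exact Ideal.mul_mem_right _ _ (Ideal.subset_span ⟨_, rfl⟩)
    · rw [hf', Function.update_of_ne hi]; exact Ideal.subset_span ⟨i, rfl⟩
  have e1 : ∀ i : Fin r, f' i.castSucc = f i.castSucc := fun i => by
    rw [hf', Function.update_of_ne (Fin.castSucc_lt_last i).ne]
  have e2 : f' (Fin.last r) = f (Fin.last r) * g := by rw [hf', Function.update_self]
  have hr : a (Fin.last r) ∈ Ideal.span (Set.range f') := by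
    have := h (Fin.snoc (fun i => a i.castSucc * g) (a (Fin.last r))) (by
      rw [Fin.sum_univ_castSucc] at ha ⊢
      simp only [Fin.snoc_castSucc, Fin.snoc_last, e1, e2]
      calc ∑ i : Fin r, a i.castSucc * g * f i.castSucc + a (Fin.last r) * (f (Fin.last r) * g)
          = g * (∑ i : Fin r, a i.castSucc * f i.castSucc + a (Fin.last r) * f (Fin.last r)) := by
            rw [mul_add, Finset.mul_sum]
            congr 1
            · exact Finset.sum_congr rfl fun i _ => by ring
            · ring
        _ = 0 := by rw [ha, mul_zero]) (Fin.last r)
    rwa [Fin.snoc_last] at this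
  obtain ⟨c, hc⟩ := (Submodule.mem_span_range_iff_exists_fun A).1 hr
  simp only [smul_eq_mul] at hc
  intro i
  induction i using Fin.lastCases with
  | last => exact hle hr
  | cast i =>
    have := h (Fin.snoc (fun j => a j.castSucc + c j.castSucc * f (Fin.last r))
        (c (Fin.last r) * f (Fin.last r))) (by
      rw [Fin.sum_univ_castSucc] at ha hc ⊢
      simp only [Fin.snoc_castSucc, Fin.snoc_last, e1, e2] at hc ⊢
      rw [← hc] at ha
      rw [← ha]
      simp only [add_mul, Finset.sum_add_distrib, Finset.sum_mul]
      rw [add_assoc]
      congr 1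
      congr 1
      · exact Finset.sum_congr rfl fun i _ => by ring
      · ring) i.castSucc
    rw [Fin.snoc_castSucc] at this
    exact (Submodule.add_mem_iff_left _ (Ideal.mul_mem_left _ _ (Ideal.subset_span (Set.mem_range_self (Fin.last r))))).1 (hle this)

end Groth.Agent.S1733
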