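import Groth.Statements.S17331
import Groth.Agent.GrpSchLib.PrimeClassify


set_option autoImplicit false
universe u v
open Hopf

namespace Groth.Agent.S17331

/-- Let k be an algebraically closed field of characteristic p > 0, ℓ a prime, and A a commutative Hopf
algebra over k of dimension ℓ as a k-vector space (a finite group scheme G of prime order ℓ). If ℓ ≠
p then G ≅ ℤ/ℓ: A is isomorphic as a bialgebra to the algebra of k-valued functions on the cyclic
group of order ℓ. If ℓ = p then G is isomorphic to ℤ/p, μ_p or α_p: A is isomorphic as a bialgebra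
to the algebra of functions on the cyclic group of order p, to its group algebra (group elements
group-like), or to k[X]/(X^p) with X primitive. -/
theorem result (k : Type u) [Field k] [IsAlgClosed k]
    (p : ℕ) [Fact p.Prime] [CharP k p] (A : Type v) [CommRing A] [HopfAlgebra k A]
    (ℓ : ℕ) [Fact ℓ.Prime] (hA : Module.finrank k A = ℓ) :
    (ℓ ≠ p → Nonempty (A ≃ₐc[k] ConstGrp.F k (Multiplicative (ZMod ℓ)))) ∧
      (ℓ = p → Nonempty (A ≃ₐc[k] ConstGrp.F k (Multiplicative (ZMod p))) ∨
        Nonempty (A ≃ₐc[k] MonoidAlgebra k (Multiplicative (ZMod p))) ∨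
        Nonempty (A ≃ₐc[k] AlphaP.A p k)) := by
  classical
  haveI : Module.Finite k A := Module.finite_of_finrank_pos (by rw [hA]; exact (Fact.out : ℓ.Prime).pos)
  by_cases hred : IsReduced A
  · have hG := GrpSchLib.card_points_eq_finrank_of_isReduced (k := k) (Fact.out : ℓ.Prime) hA
    haveI : IsCyclic (WithConv (A →ₐ[k] k)) := isCyclic_of_prime_card (p := ℓ) hG
    let e : Multiplicative (ZMod ℓ) ≃* WithConv (A →ₐ[k] k) := (hG ▸ zmodCyclicMulEquiv ‹IsCyclic _› :)
    have hev : Function.Bijective fun (a : A) (g : WithConv (A →ₐ[k] k)) => g.ofConv a :=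
      GrpSchLib.points_eval_bijective (p := ℓ) hG hA
    have h : Nonempty (A ≃ₐc[k] ConstGrp.F k (Multiplicative (ZMod ℓ))) :=
      GrpSchLib.nonempty_bialgEquiv_constGrp_of_bijective k A e.toMonoidHom e.bijective hev
    exact ⟨fun _ => h, fun hℓ => by subst hℓ; exact Or.inl h⟩
  · haveI hMu : Module.Finite k (MonoidAlgebra k (Multiplicative (ZMod p))) :=
      Module.Finite.of_basis (MonoidAlgebra.basis (Multiplicative (ZMod p)) k)
    have hmu : Module.finrank k (MonoidAlgebra k (Multiplicative (ZMod p))) = p := by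
      rw [Module.finrank_eq_card_basis (MonoidAlgebra.basis (Multiplicative (ZMod p)) k)]; simp
    have hlep : ℓ = p := by
      rcases GrpSchLib.deriv_or_card_points_of_finrank_prime (k := k) (Fact.out : ℓ.Prime) hA with ⟨y, x, _, _, _, h0⟩ | hG
      · exact ((Nat.prime_dvd_prime_iff_eq Fact.out Fact.out).mp ((CharP.cast_eq_zero_iff k p ℓ).mp h0)).symm
      · exfalso
        have hev := GrpSchLib.points_eval_bijective (p := ℓ) hG hA
        exact hred ⟨fun a ha => hev.1 (funext fun g => ((ha.map g.ofConv).eq_zero).trans (map_zero g.ofConv).symm)⟩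
    refine ⟨fun h => absurd hlep h, fun _ => ?_⟩
    rcases GrpSchLib.exists_surjective_mu_or_alpha (k := k) p hred with ⟨f, hf⟩ | ⟨f, hf⟩
    · exact Or.inr (Or.inl (GrpSchLib.nonempty_bialgEquiv_of_surjective f hf (by rw [hA, hlep, hmu])))
    · exact Or.inr (Or.inr (GrpSchLib.nonempty_bialgEquiv_of_surjective f hf (by rw [hA, hlep, AlphaP.finrank_eq])))

end Groth.Agent.S17331
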