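import Groth.Statements.S17332
import Mathlib
-- imports

set_option autoImplicit false
universe u v w
open CAlg

namespace Groth.Agent.S17332

/-- Let k be a field, E and F finite sets, and O(E), O(F) the k-algebras of k-valued functions with
pointwise operations. Then every k-algebra homomorphism u : O(F) → O(E) is pull-back along a unique
map φ : E → F, i.e. u(g) = g ∘ φ for all g. (In the source k is algebraically closed; the printed
argument only uses that k is a field.) -/
theorem result (k : Type u) [Field k] (E : Type v) [Finite E]
    (F : Type w) [Finite F] (u : (F → k) →ₐ[k] (E → k)) :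
    ∃! φ : E → F, ∀ g : F → k, u g = g ∘ φ := by
  classical
  cases nonempty_fintype F
  have hmul : ∀ (g : F → k) (x : F), g * Pi.single x 1 = g x • (Pi.single x 1 : F → k) := fun g x => by
    funext y
    by_cases h : y = x
    · subst h; simp
    · simp [h]
  have hex : ∀ e : E, ∃ x : F, u (Pi.single x 1) e ≠ 0 := fun e => by
    by_contra h
    push Not at h
    have h1 : u 1 e = 1 := by simp
    rw [show (1 : F → k) = ∑ x, Pi.single x 1 from (Finset.univ_sum_single 1).symm, map_sum, Finset.sum_apply,
      Finset.sum_eq_zero (fun x _ => h x)] at h1
    exact zero_ne_one h1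
  choose φ hφ using hex
  have key : ∀ g : F → k, u g = g ∘ φ := fun g => funext fun e => by
    have h1 := congrFun (congrArg u (hmul g (φ e))) e
    rw [map_mul, map_smul, Pi.mul_apply, Pi.smul_apply, smul_eq_mul] at h1
    exact mul_right_cancel₀ (hφ e) h1
  refine ⟨φ, key, fun ψ hψ => funext fun e => ?_⟩
  by_contra hne
  have h1 := congrFun ((key (Pi.single (φ e) 1)).symm.trans (hψ (Pi.single (φ e) 1))) e
  simp [hne] at h1

end Groth.Agent.S17332
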