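import Groth.Statements.S17333
import Mathlib

set_option autoImplicit false
universe u v w
open CAlg

namespace Groth.Agent.S17333

/-- Let k be a field and A = B × C a decomposable commutative k-algebra. Then the natural map Der(B) ×
Der(C) → Der(A) is bijective: every k-derivation D : A → A is (b, c) ↦ (D₁ b, D₂ c) for a unique
pair of k-derivations D₁ : B → B, D₂ : C → C. Compatibility with brackets is not stated. (The
published statement takes k algebraically closed; this row takes any field.) -/
theorem result (k : Type u) [Field k] (B : Type v) [CommRing B] [Algebra k B]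
    (C : Type w) [CommRing C] [Algebra k C] (D : Derivation k (B × C) (B × C)) :
    ∃! P : Derivation k B B × Derivation k C C, ∀ (b : B) (c : C), D (b, c) = (P.1 b, P.2 c) := by
  have he : ∀ (e : B × C), e * e = e → D e = 0 := fun e h => by
    have h1 : D e = e • D e + e • D e := by conv_lhs => rw [← h, D.leibniz]
    simp only [smul_eq_mul] at h1
    have h2 : e * D e = 0 := by
      have := congrArg (e * ·) h1
      simp only [mul_add, ← mul_assoc, h] at this
      exact left_eq_add.1 this
    rw [h2, add_zero] at h1
    exact h1
  have hB : ∀ b, D (b, 0) = ((D (b, 0)).1, 0) := fun b => by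
    have h : D (((1, 0) : B × C) * (b, 0)) = _ := D.leibniz _ _
    rw [he (1, 0) (by simp), smul_zero, add_zero, smul_eq_mul] at h
    simp only [Prod.mk_mul_mk, one_mul, mul_zero] at h
    conv_lhs => rw [h]
    ext <;> simp
  have hC : ∀ c, D (0, c) = (0, (D (0, c)).2) := fun c => by
    have h : D (((0, 1) : B × C) * (0, c)) = _ := D.leibniz _ _
    rw [he (0, 1) (by simp), smul_zero, add_zero, smul_eq_mul] at h
    simp only [Prod.mk_mul_mk, one_mul, mul_zero] at h
    conv_lhs => rw [h]
    ext <;> simp
  let D₁ : Derivation k B B := Derivation.mk'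
    { toFun := fun b => (D (b, 0)).1
      map_add' := fun a b => by
        rw [show ((a + b, 0) : B × C) = (a, 0) + (b, 0) by simp, map_add]; rfl
      map_smul' := fun r a => by
        rw [show ((r • a, 0) : B × C) = r • (a, 0) by simp, D.map_smul]; rfl }
    (fun a b => by
      show (D (a * b, 0)).1 = _
      rw [show ((a * b, 0) : B × C) = (a, 0) * (b, 0) by simp, D.leibniz]
      simp)
  let D₂ : Derivation k C C := Derivation.mk'
    { toFun := fun c => (D (0, c)).2
      map_add' := fun a b => by
        rw [show ((0, a + b) : B × C) = (0, a) + (0, b) by simp, map_add]; rfl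
      map_smul' := fun r a => by
        rw [show ((0, r • a) : B × C) = r • (0, a) by simp, D.map_smul]; rfl }
    (fun a b => by
      show (D (0, a * b)).2 = _
      rw [show ((0, a * b) : B × C) = (0, a) * (0, b) by simp, D.leibniz]
      simp)
  have hD : ∀ b c, D (b, c) = (D₁ b, D₂ c) := fun b c => by
    rw [show ((b, c) : B × C) = (b, 0) + (0, c) by simp, map_add, hB, hC]
    simp [D₁, D₂]
  refine ⟨(D₁, D₂), hD, fun P hP => ?_⟩
  refine Prod.ext (Derivation.ext fun b => ?_) (Derivation.ext fun c => ?_)
  · have := hP b 0
    rw [hD] at this
    exact (congrArg Prod.fst this).symm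
  · have := hP 0 c
    rw [hD] at this
    exact (congrArg Prod.snd this).symm

end Groth.Agent.S17333
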