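import Groth.Statements.S17334
import Mathlib.RingTheory.Artinian.Module
import Mathlib.RingTheory.Artinian.Ring
import Mathlib.RingTheory.Nilpotent.Basic

set_option autoImplicit false
universe u v
open CAlg

namespace Groth.Agent.S17334

/-- Let k be a field and A a nonzero commutative k-algebra which is finite-dimensional as a k-vector
space. Then A is indecomposable (no decomposition as a product of two nonzero rings, i.e. no
idempotent other than 0 and 1) if and only if A is a local ring. (In the source k is algebraically
closed and the lemma adds that the maximal ideal is then the nilradical, is nilpotent, and has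
residue field k; the equivalence itself uses only that k is a field, and the zero algebra is
excluded here explicitly.) -/
theorem result (k : Type u) [Field k]
    (A : Type v) [CommRing A] [Algebra k A] [Module.Finite k A] [Nontrivial A] :
    (∀ e : A, IsIdempotentElem e → e = 0 ∨ e = 1) ↔ IsLocalRing A := by
  constructor
  · intro h
    haveI : IsArtinianRing A := IsArtinianRing.of_finite k A
    refine IsLocalRing.of_isUnit_or_isUnit_one_sub_self fun a => ?_
    obtain ⟨n, y, hy⟩ := IsArtinian.exists_pow_succ_smul_dvd a (1 : A)
    simp only [smul_eq_mul, mul_one] at hy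
    have h1 : ∀ m, a ^ (n + m) * y ^ m = a ^ n := by
      intro m; induction m with
      | zero => simp
      | succ m ih =>
        calc a ^ (n + (m + 1)) * y ^ (m + 1) = (a ^ (n + 1) * y) * (a ^ m * y ^ m) := by ring
          _ = a ^ n * (a ^ m * y ^ m) := by rw [hy]
          _ = a ^ n := by rw [← mul_assoc, ← pow_add, ih]
    have he : IsIdempotentElem (a ^ n * y ^ n) := by
      show a ^ n * y ^ n * (a ^ n * y ^ n) = a ^ n * y ^ n
      calc a ^ n * y ^ n * (a ^ n * y ^ n) = (a ^ (n + n) * y ^ n) * y ^ n := by ring
        _ = a ^ n * y ^ n := by rw [h1]
    rcases h _ he with h0 | h0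
    · right
      refine IsNilpotent.isUnit_one_sub (r := a) ⟨n, ?_⟩
      rw [← h1 n, pow_add, mul_assoc, h0, mul_zero]
    · rcases n with _ | n
      · left
        simp only [zero_add, pow_one, pow_zero] at hy
        exact IsUnit.of_mul_eq_one y hy
      · left
        refine IsUnit.of_mul_eq_one (a ^ n * y ^ (n + 1)) ?_
        rw [← h0]; ring
  · intro h e he
    rcases IsLocalRing.isUnit_or_isUnit_one_sub_self e with hu | hu
    · right; exact hu.mul_left_cancel (by rw [mul_one]; exact he)
    · left; exact hu.mul_right_eq_zero.1 (by rw [sub_mul, one_mul, he.eq, sub_self])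

end Groth.Agent.S17334
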