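import Groth.Statements.S17335
import Mathlib

set_option autoImplicit false
universe u v
open CAlg

namespace Groth.Agent.S17335

/-- Let k be an algebraically closed field and A a commutative k-algebra which is finite-dimensional as
a k-vector space, and let E be the set of k-algebra homomorphisms A → k. Then E is finite, and the
evaluation homomorphism A → O(E) = (E → k), a ↦ (f ↦ f(a)), is surjective with kernel the nilradical
of A; it therefore induces an isomorphism of A_red = A/nilradical(A) onto O(E). -/
theorem result (k : Type u) [Field k]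
    [IsAlgClosed k] (A : Type v) [CommRing A] [Algebra k A] [Module.Finite k A] :
    Finite (A →ₐ[k] k) ∧
      Function.Surjective (AlgHom.pi (R := k) (fun f : A →ₐ[k] k => f)) ∧
      RingHom.ker (AlgHom.pi (R := k) (fun f : A →ₐ[k] k => f)) = nilradical A := by
  classical
  have hli : LinearIndependent k (fun f : A →ₐ[k] k => f.toLinearMap) := by
    have h := linearIndependent_monoidHom A k
    have h2 : LinearIndependent k (fun f : A →ₐ[k] k => (f : A → k)) :=
      h.comp (fun f : A →ₐ[k] k => (f.toRingHom.toMonoidHom : A →* k)) fun f g hfg => AlgHom.ext fun a => DFunLike.congr_fun hfg a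
    exact LinearIndependent.of_comp
      ({ toFun := fun f => f, map_add' := fun _ _ => rfl, map_smul' := fun _ _ => rfl } : (A →ₗ[k] k) →ₗ[k] A → k) h2
  have hfin : Finite (A →ₐ[k] k) := hli.finite
  refine ⟨hfin, ?_, ?_⟩
  · cases nonempty_fintype (A →ₐ[k] k)
    let P : A →ₗ[k] ((A →ₐ[k] k) → k) := LinearMap.pi fun f => f.toLinearMap
    have hP : LinearMap.range P = ⊤ := by
      by_contra hne
      obtain ⟨φ, hφ, hφ0⟩ := Submodule.exists_dual_map_eq_bot_of_lt_top (lt_top_iff_ne_top.2 hne) inferInstance
      apply hφ
      have hker : ∀ a, φ (P a) = 0 := fun a => by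
        have : φ (P a) ∈ Submodule.map φ (LinearMap.range P) := Submodule.mem_map_of_mem (LinearMap.mem_range_self P a)
        rwa [hφ0, Submodule.mem_bot] at this
      have hsum : ∑ f : A →ₐ[k] k, φ (Pi.single f 1) • f.toLinearMap = 0 := by
        ext a
        have h1 : P a = ∑ f : A →ₐ[k] k, f a • (Pi.single f 1 : (A →ₐ[k] k) → k) := by
          funext g
          simp [P, Finset.sum_apply, Pi.single_apply]
        have h2 := hker a
        rw [h1, map_sum] at h2
        simp only [map_smul, smul_eq_mul] at h2
        rw [LinearMap.sum_apply, LinearMap.zero_apply, ← h2]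
        exact Finset.sum_congr rfl fun f _ => mul_comm _ _
      have hall := Fintype.linearIndependent_iff.1 hli _ hsum
      apply LinearMap.pi_ext
      intro f x
      rw [show (Pi.single f x : (A →ₐ[k] k) → k) = x • Pi.single f 1 by rw [← Pi.single_smul]; simp, map_smul, hall f]
      simp
    intro v
    exact (LinearMap.range_eq_top.1 hP) v
  · ext a
    rw [RingHom.mem_ker, mem_nilradical]
    constructor
    · intro ha
      rw [← mem_nilradical, nilradical_eq_sInf, Submodule.mem_sInf]
      intro (P : Ideal A) (hP : P.IsPrime)
      haveI : IsArtinianRing A := IsArtinianRing.of_finite k A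
      haveI : P.IsMaximal := IsArtinianRing.isMaximal_of_isPrime P
      letI : Field (A ⧸ P) := Ideal.Quotient.field P
      haveI : Module.Finite k (A ⧸ P) := Module.Finite.of_surjective (Ideal.Quotient.mkₐ k P).toLinearMap Ideal.Quotient.mk_surjective
      let e : (A ⧸ P) ≃ₐ[k] k := (AlgEquiv.ofBijective (Algebra.ofId k (A ⧸ P))
        (IsAlgClosed.algebraMap_bijective_of_isIntegral)).symm
      have := congrFun ha (e.toAlgHom.comp (Ideal.Quotient.mkₐ k P))
      exact Ideal.Quotient.eq_zero_iff_mem.1 (e.injective (this.trans (map_zero e).symm))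
    · intro ha
      funext f
      exact (ha.map f).eq_zero

end Groth.Agent.S17335
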