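import Groth.Statements.S17336
import Mathlib

set_option autoImplicit false
universe u v
open CAlg

namespace Groth.Agent.S17336

/-- Let k be an algebraically closed field and A a commutative k-algebra which is finite-dimensional as
a k-vector space (a finite scheme X = Spec A with largest reduced subscheme X_red = Spec
(A/nilradical A) and immersion i : X_red → X). Then there is a unique morphism r : X → X_red with r
∘ i = id; on rings: the projection A → A/nilradical(A) admits exactly one section that is a
k-algebra homomorphism. -/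
theorem result (k : Type u) [Field k]
    [IsAlgClosed k] (A : Type v) [CommRing A] [Algebra k A] [Module.Finite k A] :
    ∃! s : (A ⧸ nilradical A) →ₐ[k] A,
      (Ideal.Quotient.mkₐ k (nilradical A)).comp s = AlgHom.id k (A ⧸ nilradical A) := by
  classical
  haveI : IsArtinianRing A := IsArtinianRing.of_finite k A
  let π : A →+* A ⧸ nilradical A := Ideal.Quotient.mk _
  have hnil : ∀ x ∈ RingHom.ker π, IsNilpotent x := fun x hx => by
    rw [Ideal.mk_ker] at hx
    exact hx
  -- `A/nilradical` is a finite product of copies of `k`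
  let E := {P : Ideal A // P.IsMaximal}
  haveI : Finite E := (IsArtinianRing.setOfPred_isMaximal_finite A).to_subtype
  cases nonempty_fintype E
  have hbij : ∀ P : E, Function.Bijective (algebraMap k (A ⧸ P.1)) := fun P => by
    haveI := P.2
    letI : Field (A ⧸ P.1) := Ideal.Quotient.field P.1
    haveI : Module.Finite k (A ⧸ P.1) := Module.Finite.of_surjective (Ideal.Quotient.mkₐ k P.1).toLinearMap Ideal.Quotient.mk_surjective
    exact IsAlgClosed.algebraMap_bijective_of_isIntegral
  let χ : E → ((A ⧸ nilradical A) →ₐ[k] k) := fun P =>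
    ((AlgEquiv.ofBijective (Algebra.ofId k (A ⧸ P.1)) (hbij P)).symm.toAlgHom).comp
      (Ideal.Quotient.factorₐ k (by haveI := P.2; exact nilradical_le_prime P.1))
  let Χ : (A ⧸ nilradical A) →ₐ[k] (E → k) := Pi.algHom k _ χ
  have hΧinj : Function.Injective Χ := by
    rw [injective_iff_map_eq_zero]
    intro x hx
    obtain ⟨a, rfl⟩ := Ideal.Quotient.mk_surjective x
    rw [Ideal.Quotient.eq_zero_iff_mem, nilradical_eq_sInf, Submodule.mem_sInf]
    intro (P : Ideal A) (hP : P.IsPrime)
    have hm : P.IsMaximal := IsArtinianRing.isMaximal_of_isPrime P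
    have h := congrFun hx (⟨P, hm⟩ : E)
    exact Ideal.Quotient.eq_zero_iff_mem.1
      ((AlgEquiv.ofBijective (Algebra.ofId k (A ⧸ P)) (hbij ⟨P, hm⟩)).symm.injective (h.trans (map_zero _).symm))
  have hΧsurj : Function.Surjective Χ := by
    let ψ : A ⧸ nilradical A → ∀ P : E, A ⧸ P.1 := fun x P =>
      Ideal.Quotient.factorₐ k (by haveI := P.2; exact nilradical_le_prime P.1) x
    intro v
    obtain ⟨a, ha⟩ := Ideal.quotientInfToPiQuotient_surj
      (I := fun P : E => P.1)
      (fun P Q h => by
        haveI := P.2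
        exact Ideal.isCoprime_iff_sup_eq.2 (P.2.coprime_of_ne Q.2 fun e => h (Subtype.ext e)))
      (fun P => algebraMap k (A ⧸ P.1) (v P))
    obtain ⟨a, rfl⟩ := Ideal.Quotient.mk_surjective a
    refine ⟨Ideal.Quotient.mk _ a, funext fun P => ?_⟩
    show (AlgEquiv.ofBijective (Algebra.ofId k (A ⧸ P.1)) (hbij P)).symm (Ideal.Quotient.mk P.1 a) = v P
    rw [AlgEquiv.symm_apply_eq]
    exact congrFun ha P
  let Θ := AlgEquiv.ofBijective Χ ⟨hΧinj, hΧsurj⟩
  let e : E → A ⧸ nilradical A := fun P => Θ.symm (Pi.single P 1)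
  have he : CompleteOrthogonalIdempotents e :=
    (CompleteOrthogonalIdempotents.single (fun _ : E => k)).map (Θ.symm : (E → k) →+* A ⧸ nilradical A)
  obtain ⟨e', he', hee⟩ := CompleteOrthogonalIdempotents.lift_of_isNilpotent_ker π hnil he
    (fun P => Ideal.Quotient.mk_surjective (e P))
  have hx : ∀ x, x = ∑ P, Χ x P • e P := fun x => by
    apply Θ.injective
    rw [map_sum]
    funext Q
    simp [e, Θ, Finset.sum_apply, Pi.single_apply]
    rw [Finset.sum_eq_single Q (fun b _ hb => if_neg hb.symm) (by simp), if_pos rfl]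
    all_goals rfl
  let s₀ : (A ⧸ nilradical A) →ₗ[k] A :=
    ∑ P, ((LinearMap.proj P : (E → k) →ₗ[k] k) ∘ₗ Χ.toLinearMap).smulRight (e' P)
  have hs₀ : ∀ x, s₀ x = ∑ P, Χ x P • e' P := fun x => by simp [s₀]
  let s : (A ⧸ nilradical A) →ₐ[k] A := AlgHom.ofLinearMap s₀
    (by rw [hs₀]; simp [he'.complete])
    (fun x y => by
      simp only [hs₀, Finset.sum_mul, Finset.mul_sum, map_mul, Pi.mul_apply]
      refine Finset.sum_congr rfl fun P _ => ?_
      rw [Finset.sum_eq_single P]
      · rw [smul_mul_smul_comm, (he'.idem P).eq]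
      · intro Q _ hQ
        rw [smul_mul_smul_comm, he'.ortho hQ, smul_zero]
      · simp)
  refine ⟨s, AlgHom.ext fun x => ?_, fun s' hs' => AlgHom.ext fun x => ?_⟩
  · show Ideal.Quotient.mkₐ k (nilradical A) (s₀ x) = x
    rw [hs₀, map_sum]
    conv_rhs => rw [hx x]
    refine Finset.sum_congr rfl fun P _ => ?_
    rw [map_smul]
    exact congrArg _ (congrFun hee P)
  · show s' x = s₀ x
    rw [hs₀]
    conv_lhs => rw [hx x, map_sum]
    refine Finset.sum_congr rfl fun P _ => ?_
    rw [map_smul]
    congr 1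
    refine (existsUnique_isIdempotentElem_eq_of_ker_isNilpotent π hnil (e P) (Ideal.Quotient.mk_surjective _) (he.idem P)).unique
      ⟨(he.idem P).map s', ?_⟩ ⟨he'.idem P, congrFun hee P⟩
    exact DFunLike.congr_fun hs' (e P)

end Groth.Agent.S17336
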