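import Groth.Statements.S17338
import Groth.Agent.RestrictedHopf.Primitive
import Groth.Agent.RestrictedHopf.Dual


set_option autoImplicit false
universe u v
open Hopf

namespace Groth.Agent.S17338

/-- Let k be an algebraically closed field of characteristic p > 0 and (L, x ↦ x^[p]) a
finite-dimensional restricted Lie algebra over k. Then L is the Lie algebra of an infinitesimal
group scheme of height at most one: there are a commutative Hopf algebra A over k,
finite-dimensional as a k-vector space, with f^p = 0 for every f in the augmentation ideal, and an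
injective k-linear map e from L to the k-derivations of A whose image is exactly the set of
left-invariant derivations (those D with Δ ∘ D = (id ⊗ D) ∘ Δ), such that e takes brackets to
commutators of derivations and x^[p] to the p-th power of e(x) as an endomorphism of A. (The
assignment G ↦ Lie(G) is moreover fully faithful on height ≤ 1 groups; that half is not stated
here.) -/
theorem result (k : Type u) [Field k]
    [IsAlgClosed k] (p : ℕ) [Fact p.Prime] [CharP k p]
    (L : Type u) [LieRing L] [LieAlgebra k L] [Module.Finite k L] (φ : PLie.PMap k p L) :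
    ∃ (A : Type u) (_ : CommRing A) (_ : HopfAlgebra k A), Module.Finite k A ∧
      (∀ f : A, Bialgebra.counitAlgHom k A f = 0 → f ^ p = 0) ∧
      ∃ e : L →ₗ[k] Derivation k A A, Function.Injective e ∧
        Set.range e = {D : Derivation k A A | CoalgebraStruct.comul (R := k) (A := A) ∘ₗ D.toLinearMap =
          LinearMap.lTensor A D.toLinearMap ∘ₗ CoalgebraStruct.comul (R := k) (A := A)} ∧
        (∀ x y : L, e ⁅x, y⁆ = ⁅e x, e y⁆) ∧
        (∀ x : L, (e (φ x)).toLinearMap = (e x).toLinearMap ^ p) := by
  classical
  let b := Module.finBasis k L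
  let E := RestrictedHopf.Env b φ
  let e₀ := RestrictedHopf.e b φ
  have hprim : ∀ x, Coalgebra.comul (e₀ x) = e₀ x ⊗ₜ[k] (1 : E) + (1 : E) ⊗ₜ[k] e₀ x := RestrictedHopf.comul_e b φ
  have hgen : Algebra.adjoin k {t : E | Coalgebra.comul t = t ⊗ₜ[k] (1 : E) + (1 : E) ⊗ₜ[k] t} = ⊤ :=
    eq_top_iff.mpr fun u _ => RestrictedHopf.env_induction b φ (fun r => Subalgebra.algebraMap_mem _ r)
      (fun x => Algebra.subset_adjoin (hprim x)) (fun u v => mul_mem) (fun u v => add_mem) u
  let d : L →ₗ[k] Derivation k (CartDual.D k E) (CartDual.D k E) :=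
    { toFun := fun x => RestrictedHopf.primDeriv (hprim x)
      map_add' := fun x y => Derivation.ext fun f => WithConv.ofConv_injective (LinearMap.ext fun a => by
        show f.ofConv (a * e₀ (x + y)) = f.ofConv (a * e₀ x) + f.ofConv (a * e₀ y)
        rw [map_add, mul_add, map_add])
      map_smul' := fun r x => Derivation.ext fun f => WithConv.ofConv_injective (LinearMap.ext fun a => by
        show f.ofConv (a * e₀ (r • x)) = r • f.ofConv (a * e₀ x)
        rw [map_smul, mul_smul_comm, map_smul]) }
  refine ⟨CartDual.D k E, inferInstance, inferInstance, inferInstance, fun f hf => ?_, d, fun x y hxy => ?_, ?_, ?_, ?_⟩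
  · exact RestrictedHopf.pow_eq_zero_of_generated p (Fact.out : p.Prime).ne_zero hgen f hf
  · refine RestrictedHopf.e_injective b φ (GrpSchLib.eq_of_forall_form (R := k) (A := E) fun f => ?_)
    have h := congrArg (fun D : Derivation k (CartDual.D k E) (CartDual.D k E) => (D f).ofConv 1) hxy
    simpa [d, RestrictedHopf.primDeriv_apply, RestrictedHopf.rmul_apply] using h
  · ext D
    constructor
    · rintro ⟨x, rfl⟩
      exact RestrictedHopf.leftInvariant_rmul _
    · intro hD
      obtain ⟨t, ht, hDt⟩ := RestrictedHopf.exists_primitive_of_leftInvariant D hD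
      obtain ⟨x, hx⟩ := RestrictedHopf.mem_range_e_of_primitive b φ ht
      refine ⟨x, Derivation.ext fun f => ?_⟩
      show RestrictedHopf.rmul (e₀ x) f = D.toLinearMap f
      rw [hDt, show e₀ x = t from hx]
  · intro x y
    refine Derivation.ext fun f => WithConv.ofConv_injective (LinearMap.ext fun a => ?_)
    rw [Derivation.commutator_apply]
    show f.ofConv (a * e₀ ⁅x, y⁆) = f.ofConv (a * e₀ x * e₀ y) - f.ofConv (a * e₀ y * e₀ x)
    rw [show e₀ ⁅x, y⁆ = e₀ x * e₀ y - e₀ y * e₀ x from RestrictedHopf.e_lie b φ x y, mul_sub, map_sub, mul_assoc,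
      mul_assoc]
  · intro x
    have key : ∀ (n : ℕ) (f : CartDual.D k E) (a : E),
        (((d x).toLinearMap ^ n) f).ofConv a = f.ofConv (a * e₀ x ^ n) := by
      intro n
      induction n with
      | zero => intro f a; simp
      | succ n ih =>
        intro f a
        rw [pow_succ, Module.End.mul_apply, ih]
        show f.ofConv (a * e₀ x ^ n * e₀ x) = _
        rw [mul_assoc, ← pow_succ]
    refine LinearMap.ext fun f => WithConv.ofConv_injective (LinearMap.ext fun a => ?_)
    rw [key]
    show f.ofConv (a * e₀ (φ x)) = _
    rw [show e₀ (φ x) = e₀ x ^ p from RestrictedHopf.e_pow b φ x]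

end Groth.Agent.S17338
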