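import Groth.Statements.S17341
import Groth.Agent.Synt29.SerreMain

set_option autoImplicit false
set_option linter.style.haveILetI false
set_option backward.isDefEq.respectTransparency false
set_option backward.isDefEq.respectTransparency.types false
set_option maxHeartbeats 1000000
universe u
open CategoryTheory CategoryTheory.Limits AlgebraicGeometry
open AdjLin

namespace Groth.Agent.S17341

/-- Let k be an algebraically closed field of characteristic zero and X a smooth projective surface over
k (irreducible, proper, smooth of dimension 2, with an ample invertible module), ω a second exterior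
power of Ω_{X/k}, L an invertible O_X-module and Z ⊆ X a finite set of closed points, viewed as a
reduced finite subscheme with ideal sheaf I_Z (the vanishing ideal of the closed set Z). Then the
following are equivalent: (a) there are a locally free O_X-module E of rank 2, a section s : O_X → E
and a map E → L ⊗ I_Z making 0 → O_X → E → L ⊗ I_Z → 0 a short exact sequence (the Koszul complex of
a rank-2 bundle of determinant L with a section vanishing exactly on Z); (b) for every point z of Z,
every global section of L ⊗ ω whose zero scheme contains all the other points of Z also vanishes at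
z. -/
theorem result (k : Type u) [Field k] [IsAlgClosed k] [CharZero k]
    (X : Scheme.{u}) [X.Over (Spec (CommRingCat.of k))] [IsProper (X ↘ (Spec (CommRingCat.of k)))]
    [Smooth (X ↘ (Spec (CommRingCat.of k)))] [IrreducibleSpace X] (hdim : topologicalKrullDim X = 2)
    (H : X.Modules) (hH : CohB1.IsAmple H)
    (L : X.Modules) (hL : PicF.IsInvertible L)
    (ω : X.Modules) (hω : ExtPow.IsExtPow 2 (Omega.sheaf (X ↘ (Spec (CommRingCat.of k)))) ω)
    (Z : Finset X) (hZc : IsClosed ((Z : Set X))) (hZ : ∀ z ∈ Z, IsClosed ({z} : Set X)) :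
    (∃ (E : X.Modules) (sE : Coh.structureModule X ⟶ E)
        (p : E ⟶ CohB1.tensorMod L (ClSub.idealMod (Scheme.IdealSheafData.vanishingIdeal ⟨(Z : Set X), hZc⟩)))
        (w : sE ≫ p = 0), FlatMod.IsFinLocFreeOfRank 2 E ∧ (ShortComplex.mk sE p w).ShortExact) ↔
      (∀ z ∈ Z, ∀ σ : Coh.structureModule X ⟶ CohB1.tensorMod L ω,
        (∀ z' ∈ Z, z' ≠ z → z' ∈ (PicF2.zeroScheme (CohB1.tensorMod L ω) σ).support) →
          z ∈ (PicF2.zeroScheme (CohB1.tensorMod L ω) σ).support) := by
  classical
  open Groth.Agent Groth.Agent.Synt29 Groth.Agent.Synt29.SerreMain Groth.Agent.H23.PicMul in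
  haveI : IsNoetherian X := CurveCohLib.isNoetherian_of_proper (k := k)
  haveI : IsIntegral X := CurveCohLib.isIntegral_of_smooth_connected (X ↘ Spec (CommRingCat.of k))
  haveI := CurveFin.smoothOfRelativeDimension_of_dim (f := X ↘ Spec (CommRingCat.of k)) (d := 2) hdim
  have hωi := SmoothTop.isInvertible_top (X ↘ Spec (CommRingCat.of k)) 2 hω
  have hsupp : ((Scheme.IdealSheafData.vanishingIdeal ⟨(Z : Set X), hZc⟩).support : Set X) = Z :=
    Scheme.IdealSheafData.coe_support_vanishingIdeal ..
  letI := H23.PicMul.clMonoid (X := X)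
  rw [SerreMain.serre_iff (Λ := CohB1.tensorMod L ω) hdim hH hω InvX.isInvertible_structureModule hωi
    (by rw [← H23.PicMul.one_def, one_mul]) hL (InvX.isInvertible_tensorMod hL hωi) (cl_tensor L ω).symm _
    (hsupp.symm ▸ Z.finite_toSet) (fun z hz => ⟨1, SerreSocle.isSocleGen_vanishing Z hZc hZ (hsupp ▸ hz :)⟩)]
  refine ⟨fun h z hz σ hσ => ?_, fun h I' hI' σ hσ => ?_⟩
  · have h1 := h _ ((covBy_vanishing_iff Z hZc hZ).2 ⟨z, hz, rfl⟩) σ
      (Scheme.IdealSheafData.le_support_iff_le_vanishingIdeal.1 fun y hy =>
        hσ y (Finset.mem_of_mem_erase hy) (Finset.ne_of_mem_erase hy))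
    exact Scheme.IdealSheafData.le_support_iff_le_vanishingIdeal.2 h1 hz
  · obtain ⟨z, hz, rfl⟩ := (covBy_vanishing_iff Z hZc hZ).1 hI'
    refine Scheme.IdealSheafData.le_support_iff_le_vanishingIdeal.1 fun y hy => ?_
    have h1 : ∀ w ∈ Z, w ≠ z → w ∈ (PicF2.zeroScheme (CohB1.tensorMod L ω) σ).support := fun w hw hne =>
      Scheme.IdealSheafData.le_support_iff_le_vanishingIdeal.2 hσ (Finset.mem_erase.2 ⟨hne, hw⟩)
    by_cases hyz : y = z
    · exact hyz ▸ h z hz σ h1
    · exact h1 y hy hyz

end Groth.Agent.S17341
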