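import Groth.Statements.S17344
import Groth.Agent.GrLib8.JetCount.Main

set_option autoImplicit false
universe u
open CategoryTheory CategoryTheory.Limits AlgebraicGeometry
open AdjLin

namespace Groth.Agent.S17344

/-- Let k be an algebraically closed field of characteristic zero, X a smooth projective surface over k
(irreducible, proper, smooth of dimension 2, with an ample invertible module), L an ample invertible
O_X-module with tensor inverse L⁻¹, and Z a finite set of closed points of X such that the
self-intersection number (L²), the alternating sum of Euler characteristics attached to two copies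
of L⁻¹, exceeds 4 · #Z. Then for every sufficiently large m there is a non-zero global section of
(⋂_{z ∈ Z} m_z^(2m+1)) ⊗ L^{⊗m}: a divisor in the linear series of L^{⊗m} with multiplicity greater
than 2m at every point of Z. (In the source L is the ample determinant of a globally generated
rank-2 bundle E and Z the reduced zero set of a section of E, so that (L²) = c_1(E)² and #Z =
c_2(E); the assertion is the dimension count under c_1(E)² > 4 c_2(E).) -/
theorem result (k : Type u) [Field k] [IsAlgClosed k] [CharZero k]
    (X : Scheme.{u}) [X.Over (Spec (CommRingCat.of k))] [IsProper (X ↘ (Spec (CommRingCat.of k)))]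
    [Smooth (X ↘ (Spec (CommRingCat.of k)))] [IrreducibleSpace X] (hdim : topologicalKrullDim X = 2)
    (H : X.Modules) (hH : CohB1.IsAmple H)
    (L Linv : X.Modules) (hL : CohB1.IsAmple L) (hLinv : ClSub.IsInverseOf Linv L)
    (Z : Finset X) (hZ : ∀ z ∈ Z, IsClosed ({z} : Set X))
    (hsq : 4 * (Z.card : ℤ) < FGA.intNum k X 2 (fun _ : Fin 2 => Linv) (Coh.structureModule X)) :
    ∃ m₀ : ℕ, ∀ m : ℕ, m₀ ≤ m →
      Nontrivial (Coh.HH X (CohB1.tensorMod
        (ClSub.idealMod (⨅ z : ↥Z, (W4c2seshadripos.pointIdeal (z : X) (hZ z z.2)) ^ (2 * m + 1)))
        (CohB1.tensorPow L m)) 0) := by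
  exact Groth.Agent.GrLib8.JetCount.nontrivial_sections Z hZ k hdim hL hLinv hsq

end Groth.Agent.S17344
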