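import Groth.Statements.S17346
import Groth.Agent.GrLib8.PointPow.Coh
import Groth.Agent.CurveCohLib.SmoothCurve

set_option autoImplicit false
universe u
open CategoryTheory CategoryTheory.Limits AlgebraicGeometry
open AdjLin
open Groth.Agent Groth.Agent.H23.PicMul
attribute [local instance] Groth.Agent.H23.PicMul.clMonoid

namespace Groth.Agent.S17346

/-- Let k be an algebraically closed field of characteristic zero, X a smooth projective surface over k
(irreducible, proper, smooth of dimension 2, with an ample invertible module), ω_X a second exterior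
power of Ω_{X/k}, L an invertible O_X-module, x a closed point with ideal sheaf m_x, r > 0 an
integer, f : Y → X a blow-up of X at x over k with exceptional ideal I_E = m_x · O_Y, and ω_Y a
second exterior power of Ω_{Y/k}. Then for every i the k-vector spaces H^i(X, m_x^r ⊗ (L ⊗ ω_X)) and
H^i(Y, I_E^(r+1) ⊗ (f^*L ⊗ ω_Y)) have the same dimension; in divisor notation H^i(X, O_X(K_X + L) ⊗
m_x^r) ≅ H^i(Y, O_Y(K_Y + f^*L − (r+1)E)). (The published statement gives isomorphisms of these
cohomology groups; this row states only that their dimensions agree.) -/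
theorem result (k : Type u) [Field k] [IsAlgClosed k] [CharZero k]
    (X : Scheme.{u}) [X.Over (Spec (CommRingCat.of k))] [IsProper (X ↘ (Spec (CommRingCat.of k)))]
    [Smooth (X ↘ (Spec (CommRingCat.of k)))] [IrreducibleSpace X] (hdim : topologicalKrullDim X = 2)
    (H : X.Modules) (hH : CohB1.IsAmple H)
    (ωX : X.Modules) (hωX : ExtPow.IsExtPow 2 (Omega.sheaf (X ↘ (Spec (CommRingCat.of k)))) ωX)
    (L : X.Modules) (hL : PicF.IsInvertible L)
    (x : X) (hx : IsClosed ({x} : Set X)) (r : ℕ) (hr : 0 < r)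
    (Y : Scheme.{u}) [Y.Over (Spec (CommRingCat.of k))] (f : Y ⟶ X) (hf : f ≫ (X ↘ (Spec (CommRingCat.of k))) = Y ↘ (Spec (CommRingCat.of k)))
    (hbl : BlowUp.IsBlowUp f (W4c2seshadripos.pointIdeal x hx))
    (ωY : Y.Modules) (hωY : ExtPow.IsExtPow 2 (Omega.sheaf (Y ↘ (Spec (CommRingCat.of k)))) ωY) (i : ℕ) :
    Module.finrank k (Coh.HH X (CohB1.tensorMod (ClSub.idealMod ((W4c2seshadripos.pointIdeal x hx) ^ r))
        (CohB1.tensorMod L ωX)) i) =
      Module.finrank k (Coh.HH Y (CohB1.tensorMod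
        (ClSub.idealMod ((BlowUp.exceptional f (W4c2seshadripos.pointIdeal x hx)) ^ (r + 1)))
        (CohB1.tensorMod ((Scheme.Modules.pullback f).obj L) ωY)) i) := by
  haveI := CurveCohLib.isNoetherian_of_proper (k := k) (X := X)
  haveI : IsIntegral X := CurveCohLib.isIntegral_of_smooth_connected (X ↘ (Spec (CommRingCat.of k)))
  obtain ⟨N, ι, a, -, hι, -, -⟩ := AmpleEmbedPow.exists_closedImmersion (X ↘ (Spec (CommRingCat.of k))) hH
  haveI := hι
  have geom := S14520.blowUp_geometry k X hdim x hx Y f hbl ι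
  haveI hYs : Smooth (Y ↘ Spec (CommRingCat.of k)) := hf ▸ geom.1
  haveI hYp : IsProper (Y ↘ Spec (CommRingCat.of k)) := hf ▸ geom.2.1
  haveI := geom.2.1
  haveI := geom.2.2
  have hdimY := S14520.blowUp_dim k X hdim x hx Y f hbl
  have hcan := SurfRows.blowPt_canonical k x hx f hf.symm hbl hdim hdimY hωX hωY
  have hω := SurfAdj.isInvertible_W k hdim hωX
  obtain ⟨-, hcl⟩ := H26.IdealCl.eff_and_cl_prod ({()} : Finset Unit)
    (fun _ => BlowUp.exceptional f (W4c2seshadripos.pointIdeal x hx)) (fun _ => hbl.1) (fun _ => r + 1)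
  obtain ⟨-, hcl'⟩ := H26.IdealCl.eff_and_cl_prod ({()} : Finset Unit)
    (fun _ => BlowUp.exceptional f (W4c2seshadripos.pointIdeal x hx)) (fun _ => hbl.1) (fun _ => r)
  rw [Finset.prod_singleton, Finset.prod_singleton] at hcl hcl'
  obtain ⟨e₁⟩ := cl_eq_iff.1 (show PicF.cl (CohB1.tensorMod
      (ClSub.idealMod ((W4c2seshadripos.pointIdeal x hx) ^ r)) (CohB1.tensorMod L ωX)) =
      PicF.cl (CohB1.tensorMod (CohB1.tensorMod L ωX) (ClSub.idealMod ((W4c2seshadripos.pointIdeal x hx) ^ r))) by
    rw [cl_tensor, cl_tensor (A := CohB1.tensorMod L ωX), mul_comm])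
  obtain ⟨e₂⟩ := cl_eq_iff.1 (show PicF.cl (CohB1.tensorMod ((Scheme.Modules.pullback f).obj (CohB1.tensorMod L ωX))
        (ClSub.idealMod ((BlowUp.exceptional f (W4c2seshadripos.pointIdeal x hx)) ^ r))) =
      PicF.cl (CohB1.tensorMod (ClSub.idealMod ((BlowUp.exceptional f (W4c2seshadripos.pointIdeal x hx)) ^ (r + 1)))
        (CohB1.tensorMod ((Scheme.Modules.pullback f).obj L) ωY)) by
    have hp : PicF.cl ((Scheme.Modules.pullback f).obj (CohB1.tensorMod L ωX)) =
        PicF.cl ((Scheme.Modules.pullback f).obj L) * PicF.cl ((Scheme.Modules.pullback f).obj ωX) := by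
      show PicF.pullCl f (PicF.cl _) = _
      rw [cl_tensor, pullCl_mul]
      rfl
    rw [cl_tensor, hp, cl_tensor, cl_tensor, hcl, hcl', pow_succ, ← hcan]
    simp only [BlowUp.exceptional, W4c2seshadripos.pointIdeal]
    ac_rfl)
  rw [HilbPoly.finrank_HH_iso k e₁ i, ← HilbPoly.finrank_HH_iso k e₂ i]
  exact GrLib8.PointPow.finrank_HH k hdim hx f hf hbl
    (H23.PullPush.isFinLocFree_of_isInvertible (InvX.isInvertible_tensorMod hL hω)) r i

end Groth.Agent.S17346
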