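import Groth.Statements.S17355
import Groth.Agent.AzInvLib.Unitary
import Mathlib.Tactic.LinearCombination

set_option autoImplicit false
universe u v w
open scoped TensorProduct
open AzInv

namespace Groth.Agent.S17355

open Groth.Agent

/-- Let `R` be a commutative ring with an involution `lam` whose fixed ring is exactly `S`, assume that
units have square roots locally for the etale topology of `S` (every unit of an etale `S`-algebra
becomes a square in some etale faithfully flat extension), and let `A` be an Azumaya `R`-algebra of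
degree `n ≥ 1` with a `lam`-involution `t`. Then every `R`-algebra automorphism `ψ` of `A` that
commutes with `t` is, locally for the etale topology of `S`, conjugation by a unitary element: there
are an etale faithfully flat `S`-algebra `S'` and a unit `u` of `S' ⊗_S A` with `(id ⊗ t)(u) * u =
1` such that `id ⊗ ψ` is `x ↦ u x u⁻¹` (the map from the unitary group to the automorphism sheaf of
`(A, t)` is an epimorphism). This row states the surjectivity part only; the published statement
also identifies the kernel of the map from the unitary group as the group of norm-one elements of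
`R` (the units `r` of `R` with `lam r * r = 1`), so that the projective unitary group of `(A, t)` is
its automorphism sheaf. (The source states this for an exact quotient of a locally ringed topos with
involution; the row is the affine case `Spec R → Spec S`, with etale coverings of `Spec S` replaced
by a single etale faithfully flat `S`-algebra.) -/
theorem result (S : Type u) (R : Type v) [CommRing S] [CommRing R] [Algebra S R]
    (lam : R ≃ₐ[S] R) (hlam : ∀ r, lam (lam r) = r) (hfix : RInv.IsFixedRing S R lam.toRingEquiv)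
    (hsq : ∀ (S₁ : Type u) [CommRing S₁] [Algebra S S₁] [Algebra.Etale S S₁] (x : S₁ˣ),
      ∃ (S₂ : Type u) (_ : CommRing S₂) (_ : Algebra S₁ S₂) (_ : Algebra.Etale S₁ S₂)
        (_ : Module.FaithfullyFlat S₁ S₂) (y : S₂), y * y = algebraMap S₁ S₂ ↑x)
    (A : Type w) [Ring A] [Algebra S A] [Algebra R A] [IsScalarTower S R A]
    (n : ℕ) (hn : 0 < n) (hA : AzInv.IsAzumayaDeg R A n) (t : AzInv.LamInv R A lam)
    (ψ : A ≃ₐ[R] A) (hψ : AzInv.IsInvHom t t ψ) :
    ∃ (S' : Type u) (_ : CommRing S') (_ : Algebra S S') (_ : Algebra.Etale S S')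
      (_ : Module.FaithfullyFlat S S') (u : (S' ⊗[S] A)ˣ),
      t.bc S lam S' (↑u : S' ⊗[S] A) * ↑u = 1 ∧
        ∀ x : S' ⊗[S] A,
          Algebra.TensorProduct.congr (AlgEquiv.refl : S' ≃ₐ[S'] S') (ψ.restrictScalars S) x =
            ↑u * x * ↑u⁻¹ := by
  haveI := hA.1
  obtain ⟨S₁, _, _, het, hff, u, hu⟩ := AzInvLib.exists_cover_inner (lam := lam.toRingEquiv) hlam hfix ψ
  obtain ⟨d, hd⟩ := AzInvLib.exists_norm_scalar hlam hfix t ψ hψ S₁ u hu
  obtain ⟨S₂, _, _, _, _, y, hy⟩ := hsq S₁ d
  letI : Algebra S S₂ := ((algebraMap S₁ S₂).comp (algebraMap S S₁)).toAlgebra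
  haveI : IsScalarTower S S₁ S₂ := IsScalarTower.of_algebraMap_eq fun _ => rfl
  let α : S₁ →ₐ[S] S₂ := IsScalarTower.toAlgHom S S₁ S₂
  let F := AzInvLib.bcMap A α
  obtain ⟨y', hy'⟩ := isUnit_iff_exists_inv.mp (isUnit_of_mul_isUnit_left (hy ▸ d.isUnit.map (algebraMap S₁ S₂)) : IsUnit y)
  let U : (S₂ ⊗[S] A)ˣ :=
    { val := algebraMap S₂ _ y' * F (↑u : S₁ ⊗[S] A)
      inv := F (↑u⁻¹ : S₁ ⊗[S] A) * algebraMap S₂ _ y
      val_inv := by rw [mul_assoc, ← mul_assoc (F _), ← map_mul F, Units.mul_inv, map_one, one_mul, ← map_mul, mul_comm, hy', map_one]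
      inv_val := by rw [mul_assoc, ← mul_assoc (algebraMap S₂ _ y), ← map_mul (algebraMap S₂ _), hy', map_one, one_mul, ← map_mul F, Units.inv_mul, map_one] }
  refine ⟨S₂, inferInstance, inferInstance, Algebra.Etale.comp S S₁ S₂, Module.FaithfullyFlat.trans S S₁ S₂, U, ?_, fun x => ?_⟩
  · show t.bc S lam S₂ (algebraMap S₂ _ y' * F (↑u : S₁ ⊗[S] A)) * (algebraMap S₂ _ y' * F (↑u : S₁ ⊗[S] A)) = 1
    rw [← Algebra.smul_def, map_smul,
      show t.bc S lam S₂ (F (↑u : S₁ ⊗[S] A)) = F (t.bc S lam S₁ (↑u : S₁ ⊗[S] A)) from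
        (AzInvLib.bcMap_baseChange (t.linS S lam) α _).symm,
      smul_mul_assoc, mul_smul_comm, smul_smul, ← map_mul F, hd, AzInvLib.bcMap_algebraMap, Algebra.smul_def,
      ← map_mul (algebraMap S₂ (S₂ ⊗[S] A))]
    rw [show α (d : S₁) = y * y from hy.symm, show y' * y' * (y * y) = 1 by linear_combination (y * y' + 1) * hy', map_one]
  · have hUinv : (↑U⁻¹ : S₂ ⊗[S] A) = F (↑u⁻¹ : S₁ ⊗[S] A) * algebraMap S₂ _ y := rfl
    rw [hUinv, show (↑U : S₂ ⊗[S] A) = algebraMap S₂ _ y' * F (↑u : S₁ ⊗[S] A) from rfl]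
    have key : ∀ z, Algebra.TensorProduct.congr (AlgEquiv.refl : S₂ ≃ₐ[S₂] S₂) (ψ.restrictScalars S) z =
        F (↑u : S₁ ⊗[S] A) * z * F (↑u⁻¹ : S₁ ⊗[S] A) := fun z => by
      induction z using TensorProduct.induction_on with
      | zero => simp
      | add a b ha hb => rw [map_add, mul_add, add_mul, ha, hb]
      | tmul c a =>
        have e := congrArg (fun w => algebraMap S₂ (S₂ ⊗[S] A) c * F w) (hu ((1 : S₁) ⊗ₜ a))
        simp only [map_mul] at e
        rw [← mul_assoc, ← mul_assoc, Algebra.commutes c (F (↑u : S₁ ⊗[S] A)), mul_assoc (F (↑u : S₁ ⊗[S] A)),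
          show algebraMap S₂ (S₂ ⊗[S] A) c * F ((1 : S₁) ⊗ₜ a) = c ⊗ₜ a by simp [F, AzInvLib.bcMap]] at e
        rw [← e]
        simp [F, AzInvLib.bcMap]
    rw [key]
    calc F (↑u : S₁ ⊗[S] A) * x * F (↑u⁻¹ : S₁ ⊗[S] A)
        = algebraMap S₂ _ (y' * y) * (F (↑u : S₁ ⊗[S] A) * x * F (↑u⁻¹ : S₁ ⊗[S] A)) := by
          rw [mul_comm y', hy', map_one, one_mul]
      _ = _ := by
          rw [map_mul, mul_assoc, Algebra.commutes y]
          simp only [mul_assoc]

end Groth.Agent.S17355
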