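import Groth.Statements.S17356
import Groth.Agent.AzInvLib.Mat

set_option autoImplicit false
universe u v w
open scoped TensorProduct
open AzInv

namespace Groth.Agent.S17356

open Groth.Agent

/-- Let `R` be a commutative ring with an involution `lam` whose fixed ring is exactly `S`, and let `A`
be an Azumaya `R`-algebra of degree `n ≥ 1`. Then `A` becomes a matrix algebra after base change
along an etale covering of `S` (and not merely of `R`): there are an etale faithfully flat
`S`-algebra `S'` and an `S'`-algebra isomorphism from `S' ⊗_S A` to the `n × n` matrices over `S'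
⊗_S R` that carries multiplication by `1 ⊗ r`, for `r` in `R`, to multiplication by the scalar
matrix `1 ⊗ r`. (The source states this for a good quotient of schemes by an involution; the row is
the affine case `Spec R → Spec S`.) -/
theorem result (S : Type u) (R : Type v) [CommRing S] [CommRing R] [Algebra S R]
    (lam : R ≃ₐ[S] R) (hlam : ∀ r, lam (lam r) = r) (hfix : RInv.IsFixedRing S R lam.toRingEquiv)
    (A : Type w) [Ring A] [Algebra S A] [Algebra R A] [IsScalarTower S R A]
    (n : ℕ) (hn : 0 < n) (hA : AzInv.IsAzumayaDeg R A n) :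
    ∃ (S' : Type u) (_ : CommRing S') (_ : Algebra S S') (_ : Algebra.Etale S S')
      (_ : Module.FaithfullyFlat S S') (f : S' ⊗[S] A ≃ₐ[S'] Matrix (Fin n) (Fin n) (S' ⊗[S] R)),
      ∀ (r : R) (x : S' ⊗[S] A),
        f (((1 : S') ⊗ₜ[S] algebraMap R A r) * x) = Matrix.scalar (Fin n) ((1 : S') ⊗ₜ[S] r) * f x := by
  haveI := hA.1
  obtain ⟨S', _, _, het, hff, e, he, -⟩ := AzInvLib.exists_cover_iso (S := S) (R := R) (A := A)
    (A' := Matrix (Fin n) (Fin n) R) id LinearMap.id LinearMap.id (fun _ _ => rfl) (fun _ _ => rfl) fun L _ _ hL => by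
      letI : Algebra R (Groth.Agent.Hensel.Henz S L ⊗[S] R) := Algebra.TensorProduct.rightAlgebra
      obtain ⟨f⟩ := AzInvLib.exists_split_point (L := L) hlam hfix hA hn
      refine ⟨AzInvLib.ofFibre (f.trans (AzInvLib.matBase R n _).symm), fun r z => AzInvLib.ofFibre_rho _ r z, fun z => ?_⟩
      simp
  refine ⟨S', inferInstance, inferInstance, het, hff, e.trans (AzInvLib.matTensor S S' R n), fun r x => ?_⟩
  show AzInvLib.matTensor S S' R n (e (AzInvLib.rho A S' r * x)) = _
  rw [he, map_mul]
  congr 1
  ext i j
  rw [AzInvLib.rho_apply, AzInvLib.matTensor_tmul, Matrix.scalar_apply, Matrix.algebraMap_matrix_apply]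
  by_cases h : i = j
  · subst h; simp
  · simp [h, Matrix.diagonal_apply_ne _ h]

end Groth.Agent.S17356
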