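import Groth.Statements.S17358
import Groth.Agent.AzInvLib.Ordinary

set_option autoImplicit false
universe u v w
open scoped TensorProduct
open AzInv

namespace Groth.Agent.S17358

open Groth.Agent

/-- Let `R` be a commutative ring with an involution `lam` whose fixed ring is exactly `S`; assume that
units have square roots locally for the etale topology of `S` (every unit of an etale `S`-algebra
becomes a square in some etale faithfully flat extension), and that either `2` is a unit in `S` and
the quotient `Spec R → Spec S` is everywhere ramified (for no prime `p` of `S` is `S_p ⊗_S R` a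
quadratic etale `S_p`-algebra; the case `R = S` is included), or `R` is a quadratic etale
`S`-algebra (the unramified case). Then every `lam`-involution `t` of an Azumaya `R`-algebra `A` of
degree `n ≥ 1` is ordinary: there are a global invertible `n × n` matrix `w` over `R` and an element
`e` of `R` with `lam`-transpose of `w` equal to `e • w` and `lam e * e = 1`, such that `(A, t)`
becomes isomorphic, after an etale faithfully flat base change of `S`, to the matrix algebra over
`R` with the involution `x ↦ w * (lam-transpose of x) * w⁻¹` (equivalently `x ↦ (a x a⁻¹)` followed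
by the `lam`-transpose, for the global matrix `a` whose `lam`-transpose is `w⁻¹`). (The source
states this for an exact quotient of a locally ringed topos with involution; the row is the affine
case `Spec R → Spec S`, with etale coverings of `Spec S` replaced by a single etale faithfully flat
`S`-algebra.) -/
theorem result (S : Type u) (R : Type v) [CommRing S] [CommRing R] [Algebra S R]
    (lam : R ≃ₐ[S] R) (hlam : ∀ r, lam (lam r) = r) (hfix : RInv.IsFixedRing S R lam.toRingEquiv)
    (hsq : ∀ (S₁ : Type u) [CommRing S₁] [Algebra S S₁] [Algebra.Etale S S₁] (x : S₁ˣ),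
      ∃ (S₂ : Type u) (_ : CommRing S₂) (_ : Algebra S₁ S₂) (_ : Algebra.Etale S₁ S₂)
        (_ : Module.FaithfullyFlat S₁ S₂) (y : S₂), y * y = algebraMap S₁ S₂ ↑x)
    (hram : (IsUnit (2 : S) ∧ ∀ p : PrimeSpectrum S,
        ¬ RInv.IsQuadEtale (Localization.AtPrime p.asIdeal) (Localization.AtPrime p.asIdeal ⊗[S] R)) ∨
      RInv.IsQuadEtale S R)
    (A : Type w) [Ring A] [Algebra S A] [Algebra R A] [IsScalarTower S R A]
    (n : ℕ) (hn : 0 < n) (hA : AzInv.IsAzumayaDeg R A n) (t : AzInv.LamInv R A lam) :
    ∃ (w : (Matrix (Fin n) (Fin n) R)ˣ) (e : R)
      (hw : AzInv.LamInv.transpose lam (Fin n) hlam (↑w : Matrix (Fin n) (Fin n) R) = e • (↑w : Matrix (Fin n) (Fin n) R))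
      (he : lam e * e = 1),
      AzInv.LocIsoEt S lam t ((AzInv.LamInv.transpose lam (Fin n) hlam).conj w e hw he) := by
  exact AzInvLib.ordinary hlam hfix (fun L _ _ _ => AzInvLib.ptSquares_of_hsq L hsq) hram hn hA t

end Groth.Agent.S17358
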