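import Groth.Statements.S17359
import Groth.Agent.AzInvLib.Ramified
import Groth.Agent.S17362

set_option autoImplicit false
universe u w
open scoped TensorProduct
open AzInv

namespace Groth.Agent.S17359

open Groth.Agent

/-- Let `R` be a nontrivial commutative ring with connected spectrum in which `2` is a unit, with the
trivial involution (so that the involutions considered are of the first kind and the quotient is the
trivial one). Then there are exactly two types, the orthogonal and the symplectic one; this row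
states the first half: every involution of the first kind `t` of an Azumaya `R`-algebra `A` of
degree `n ≥ 1` has the same type either as the identity of `R` or as the standard symplectic
involution `x ↦ J xᵀ J⁻¹` of the `2 × 2` matrix algebra, `J` the matrix with rows `(0, -1)` and `(1,
0)` (same type: suitable matrix algebras over the two, with the induced involutions, become
isomorphic as `R`-algebras with involution after an etale faithfully flat base change of `R`). (The
source states that the monoid of types is isomorphic to the group of global square roots of `1`, for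
a locally ringed topos with trivial involution and `2` invertible; the row is the affine case with
connected spectrum, where that group is `{1, -1}`.) -/
theorem result (R : Type u) [CommRing R] (hlam : ∀ r : R, (AlgEquiv.refl : R ≃ₐ[R] R) ((AlgEquiv.refl : R ≃ₐ[R] R) r) = r)
    [Nontrivial R] [ConnectedSpace (PrimeSpectrum R)] (h2 : IsUnit (2 : R))
    (J : (Matrix (Fin 2) (Fin 2) R)ˣ) (hJ : (↑J : Matrix (Fin 2) (Fin 2) R) = Matrix.of ![![0, -1], ![1, 0]])
    (hJt : AzInv.LamInv.transpose (AlgEquiv.refl : R ≃ₐ[R] R) (Fin 2) hlam (↑J : Matrix (Fin 2) (Fin 2) R) = (-1 : R) • (↑J : Matrix (Fin 2) (Fin 2) R))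
    (hneg : (AlgEquiv.refl : R ≃ₐ[R] R) (-1) * (-1) = 1)
    (A : Type w) [Ring A] [Algebra R A]
    (n : ℕ) (hn : 0 < n) (hA : AzInv.IsAzumayaDeg R A n) (t : AzInv.LamInv R A (AlgEquiv.refl : R ≃ₐ[R] R)) :
    AzInv.SameType R (AlgEquiv.refl : R ≃ₐ[R] R) t (AzInv.LamInv.self (AlgEquiv.refl : R ≃ₐ[R] R) hlam) ∨
      AzInv.SameType R (AlgEquiv.refl : R ≃ₐ[R] R) t ((AzInv.LamInv.transpose (AlgEquiv.refl : R ≃ₐ[R] R) (Fin 2) hlam).conj J (-1) hJt hneg) := by

  have hfix : RInv.IsFixedRing R R (AlgEquiv.refl : R ≃ₐ[R] R).toRingEquiv :=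
    ⟨fun a b h => h, fun x => ⟨fun _ => ⟨x, rfl⟩, fun _ => rfl⟩⟩
  have hq : ∀ (q : PrimeSpectrum R) (r : R), (AlgEquiv.refl : R ≃ₐ[R] R) r - r ∈ q.asIdeal := fun q r => by simp
  have hlc : IsLocallyConstant (fun q : PrimeSpectrum R => AzInvLib.OrthAt t n q) :=
    (IsLocallyConstant.iff_exists_open _).mpr fun q => by
      obtain ⟨f, hf, hf'⟩ := S17362.result R R _ hlam hfix h2 A n hn hA t q (hq q)
      exact ⟨PrimeSpectrum.basicOpen f, (PrimeSpectrum.basicOpen f).isOpen, hf,
        fun q' hq' => propext (hf' q' (hq q') hq')⟩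
  have hconst : ∀ q q' : PrimeSpectrum R, AzInvLib.OrthAt t n q → AzInvLib.OrthAt t n q' :=
    fun q q' h => (hlc.apply_eq_of_preconnectedSpace q q') ▸ h
  by_cases ho : ∃ q, AzInvLib.OrthAt t n q
  · obtain ⟨q₀, hq₀⟩ := ho
    refine Or.inl ((AzInvLib.sameType_iff hlam hfix h2 hn one_pos hA (AzInvLib.isAzumayaDeg_self R) _ _).mpr
      fun q _ => iff_of_true (hconst q₀ q hq₀) ?_)
    obtain ⟨L, _, _, hL, hker⟩ := AzInvLib.exists_point q.asIdeal
    exact (AzInvLib.orth_iff_sign hlam hfix h2 (AzInvLib.isAzumayaDeg_self R) one_pos (hq q) L (by rw [hker]; rfl)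
      (Or.inl rfl) (AzInvLib.ptSign_self hlam L)).mpr rfl
  · refine Or.inr ((AzInvLib.sameType_iff hlam hfix h2 hn two_pos hA (AzInvLib.isAzumayaDeg_matrix R two_pos) _ _).mpr
      fun q _ => iff_of_false (fun h => ho ⟨q, h⟩) fun h => ?_)
    obtain ⟨L, _, _, hL, hker⟩ := AzInvLib.exists_point q.asIdeal
    have hs := AzInvLib.ptSign_transpose_conj hlam L J (-1) hJt hneg
    rw [map_neg, map_one] at hs
    have he := (AzInvLib.orth_iff_sign hlam hfix h2 (AzInvLib.isAzumayaDeg_matrix R two_pos) two_pos (hq q) L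
      (by rw [hker]; rfl) (Or.inr rfl) hs).mp h
    have h2T := h2.map (algebraMap R (Hensel.Henz R L ⊗[R] R))
    rw [map_ofNat, show (2 : Hensel.Henz R L ⊗[R] R) = 0 by linear_combination -he] at h2T
    haveI := AzInvLib.nontrivial_of_fixed (RInvLib.bcLam_involutive (Hensel.Henz R L) _ hlam)
      (AzInvLib.isFixedRing_point (L := L) hlam hfix)
    exact not_isUnit_zero h2T

end Groth.Agent.S17359
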