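import Groth.Statements.S17360
import Groth.Agent.AzInvLib.Standard

set_option autoImplicit false
universe u
open scoped TensorProduct
open AzInv

namespace Groth.Agent.S17360

open Groth.Agent

/-- Let `R` be a nontrivial commutative ring in which `2` is a unit, with the trivial involution. This
row states the second half of the count of types: the identity of `R` (the orthogonal type) and the
standard symplectic involution `x ↦ J xᵀ J⁻¹` of the `2 × 2` matrix algebra, `J` the matrix with
rows `(0, -1)` and `(1, 0)`, do not have the same type, i.e. for no positive sizes do the matrix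
algebras over `R` with the transpose and over `M_2(R)` with the involution induced by the symplectic
one become isomorphic as `R`-algebras with involution after an etale faithfully flat base change of
`R`. (The source states that the monoid of types is isomorphic to the group of global square roots
of `1`, for a locally ringed topos with trivial involution and `2` invertible; the row is the affine
case.) -/
theorem result (R : Type u) [CommRing R] (hlam : ∀ r : R, (AlgEquiv.refl : R ≃ₐ[R] R) ((AlgEquiv.refl : R ≃ₐ[R] R) r) = r)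
    [Nontrivial R] (h2 : IsUnit (2 : R))
    (J : (Matrix (Fin 2) (Fin 2) R)ˣ) (hJ : (↑J : Matrix (Fin 2) (Fin 2) R) = Matrix.of ![![0, -1], ![1, 0]])
    (hJt : AzInv.LamInv.transpose (AlgEquiv.refl : R ≃ₐ[R] R) (Fin 2) hlam (↑J : Matrix (Fin 2) (Fin 2) R) = (-1 : R) • (↑J : Matrix (Fin 2) (Fin 2) R))
    (hneg : (AlgEquiv.refl : R ≃ₐ[R] R) (-1) * (-1) = 1) :
    ¬ AzInv.SameType R (AlgEquiv.refl : R ≃ₐ[R] R) (AzInv.LamInv.self (AlgEquiv.refl : R ≃ₐ[R] R) hlam) ((AzInv.LamInv.transpose (AlgEquiv.refl : R ≃ₐ[R] R) (Fin 2) hlam).conj J (-1) hJt hneg) := by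

  rintro ⟨m, m', hm, hm', hiso⟩
  obtain ⟨p, hp⟩ := Ideal.exists_maximal R
  obtain ⟨L, _, _, hL, -⟩ := AzInvLib.exists_point p
  letI : Algebra R (Hensel.Henz R L ⊗[R] R) := Algebra.TensorProduct.rightAlgebra
  have hfix : RInv.IsFixedRing R R (AlgEquiv.refl : R ≃ₐ[R] R).toRingEquiv :=
    ⟨fun a b h => h, fun x => ⟨fun _ => ⟨x, rfl⟩, fun _ => rfl⟩⟩
  have hid : ∀ x, AzInvLib.ptLam L (AlgEquiv.refl : R ≃ₐ[R] R) x - x ∈
      Ring.jacobson (Hensel.Henz R L ⊗[R] R) := fun x => by
    have e : AzInvLib.ptLam L (AlgEquiv.refl : R ≃ₐ[R] R) x = x := by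
      induction x using TensorProduct.induction_on with
      | zero => simp
      | add x y hx hy => rw [map_add, hx, hy]
      | tmul a r => exact RInvLib.bcLam_tmul (Hensel.Henz R L) (AlgEquiv.refl : R ≃ₐ[R] R) a r
    rw [e, sub_self]; exact zero_mem _
  have h2T : IsUnit (2 : Hensel.Henz R L ⊗[R] R) := by
    have h := h2.map (algebraMap R (Hensel.Henz R L ⊗[R] R))
    rwa [map_ofNat] at h
  have e1 := AzInvLib.ptSign_of_locIso hlam (L := L) hiso
    (AzInvLib.ptSign_matrix hlam L (AzInvLib.ptSign_self hlam L) m)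
  have e2 := AzInvLib.ptSign_matrix hlam L (AzInvLib.ptSign_transpose_conj hlam L J (-1) hJt hneg) m'
  rw [map_neg, map_one] at e2
  exact AzInvLib.ptSign_unique hlam hfix hid h2T (Nat.mul_pos hm' two_pos)
    (AzInvLib.split_matrix L (AzInvLib.split_matrix_self L) m') e1 e2

end Groth.Agent.S17360
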