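import Groth.Statements.S17363
import Groth.Agent.RInvLib.SqrtCover

set_option autoImplicit false
universe u v
open scoped TensorProduct
open RInv

namespace Groth.Agent.S17363

open Groth.Agent

/-- Let `A` be a commutative ring with an involution `lam` whose fixed ring `B` is local; assume that
`lam` is the identity modulo the Jacobson radical of `A`, that `2` is a unit of `A`, and that `h` is
an invertible `2 × 2` matrix over `A` with `h = -(lam h)ᵀ` whose entries are congruent modulo the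
Jacobson radical to those of the matrix with rows `(0, 1)`, `(-1, 0)`. Then there are units `s, t`
of `B`, finitely many elements `f_i` of `B' = B[X, Y]/(X² - s, Y² - t)` (`B` with square roots of
`s` and `t` adjoined) that generate the unit ideal, and for every `i` an invertible `2 × 2` matrix
`v` over `B'_{f_i} ⊗_B A` (that is, `A` with the two square roots adjoined, localised at `f_i`;
`lam` extends so as to fix the square roots) such that `(lam v)ᵀ h v` is the matrix with rows `(0,
1)`, `(-1, 0)`. (The published statement writes the congruence with the plain transpose `vᵀ h v`,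
which fails in general: for a field `k` of characteristic not `2`, the ring `A` of formal power
series in `y` over `k`, with `B` its subring of series in `y²`, `lam y = -y` and `h` with rows `(y,
1)`, `(-1, y)`, satisfies every hypothesis, while `vᵀ h v` equal to the matrix with rows `(0, 1)`,
`(-1, 0)` would, added to its transpose, give `2y · vᵀ v = 0` and hence `det v = 0` over a nonzero
ring in which `y` is not a zero divisor. The proof computes the Gram matrix of the hermitian form
`(a, b) ↦ (lam a)ᵀ h b` in a new basis, which is `(lam v)ᵀ h v`, and that is what is stated here.) -/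
theorem result (B : Type u) (A : Type v) [CommRing B] [CommRing A]
    [Algebra B A] (lam : A ≃ₐ[B] A) (hlam : ∀ a, lam (lam a) = a) (hB : RInv.IsFixedRing B A lam.toRingEquiv)
    [IsLocalRing B] (hid : ∀ a : A, lam a - a ∈ Ring.jacobson A) (h2 : IsUnit (2 : A))
    (h : Matrix (Fin 2) (Fin 2) A) (hh : IsUnit h) (herm : -(h.map lam).transpose = h)
    (hJ : ∀ i j : Fin 2, h i j - Matrix.of ![![(0 : A), 1], ![-1, 0]] i j ∈ Ring.jacobson A) :
    ∃ (s t : Bˣ) (r : ℕ) (f : Fin r → (MvPolynomial (Fin 2) B ⧸ Ideal.span ({MvPolynomial.X 0 ^ 2 - MvPolynomial.C (s : B), MvPolynomial.X 1 ^ 2 - MvPolynomial.C (t : B)} : Set (MvPolynomial (Fin 2) B)))),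
      Ideal.span (Set.range f) = ⊤ ∧
      ∀ i : Fin r, ∃ v : Matrix (Fin 2) (Fin 2) (Localization.Away (f i) ⊗[B] A), IsUnit v ∧
        (v.map (Algebra.TensorProduct.congr (AlgEquiv.refl : Localization.Away (f i) ≃ₐ[Localization.Away (f i)] Localization.Away (f i)) lam)).transpose * h.map (Algebra.TensorProduct.includeRight : A →ₐ[B] Localization.Away (f i) ⊗[B] A) * v
          = (Matrix.of ![![(0 : A), 1], ![-1, 0]]).map (Algebra.TensorProduct.includeRight : A →ₐ[B] Localization.Away (f i) ⊗[B] A) := by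
  classical
  obtain ⟨u, hu⟩ := h2
  have hJ00 : h 0 0 ∈ Ring.jacobson A := by simpa using hJ 0 0
  have hJ11 : h 1 1 ∈ Ring.jacobson A := by simpa using hJ 1 1
  have hJ01 : h 0 1 - 1 ∈ Ring.jacobson A := by simpa using hJ 0 1
  have jac : ∀ x : A, x ∈ Ring.jacobson A → IsUnit (1 + x) := fun x hx => by
    rw [Ring.jacobson_eq_sInf_isMaximal] at hx
    by_contra hn
    obtain ⟨M, hM, hxM⟩ := Ideal.exists_le_maximal (Ideal.span {1 + x}) (by rwa [Ne, Ideal.span_singleton_eq_top])
    refine hM.ne_top ((Ideal.eq_top_iff_one _).mpr ?_)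
    have := M.sub_mem (hxM (Ideal.mem_span_singleton_self _)) (Submodule.mem_sInf.mp hx M hM)
    simpa using this
  obtain ⟨b', hb'⟩ := isUnit_iff_exists_inv.mp (show IsUnit (h 0 1) by simpa using jac _ hJ01)
  have hskew : ∀ i j, lam (h i j) = -h j i := fun i j => by
    have e := congrFun (congrFun herm j) i
    simp only [Matrix.neg_apply, Matrix.transpose_apply, Matrix.map_apply] at e
    rw [← e, neg_neg]
  obtain ⟨m, hm⟩ : ∃ m, m = 1 + h 0 0 * (lam b' * h 1 1 * b') := ⟨_, rfl⟩
  have hmf : lam m = m := by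
    rw [hm]; simp only [map_add, map_one, map_mul, hlam, hskew]; ring
  have hmu : IsUnit m := hm ▸ jac _ (Ideal.mul_mem_right _ _ hJ00)
  -- descent of units to the fixed ring
  have fixedUnit : ∀ x : A, lam x = x → IsUnit x → ∃ s : Bˣ, algebraMap B A s = x := fun x hx hxu => by
    obtain ⟨y, hy⟩ := isUnit_iff_exists_inv.mp hxu
    have hyf : lam y = y := by
      have h1 : x * lam y = 1 := by
        calc x * lam y = lam x * lam y := by rw [hx]
          _ = 1 := by rw [← map_mul, hy, map_one]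
      calc lam y = (x * y) * lam y := by rw [hy, one_mul]
        _ = (x * lam y) * y := by ring
        _ = y := by rw [h1, one_mul]
    obtain ⟨s₀, hs₀⟩ := (hB.2 x).mp hx
    obtain ⟨t₀, ht₀⟩ := (hB.2 y).mp hyf
    have hst : s₀ * t₀ = 1 := hB.1 (by rw [map_mul, hs₀, ht₀, hy, map_one])
    exact ⟨Units.mkOfMulEqOne _ _ hst, hs₀⟩
  obtain ⟨s, hs⟩ := fixedUnit m hmf hmu
  obtain ⟨two, htwo⟩ := fixedUnit 2 (map_ofNat lam 2) ⟨u, hu⟩
  have h2B : IsUnit (2 : B) := by
    rw [show (2 : B) = two from hB.1 (by rw [htwo, map_ofNat])]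
    exact two.isUnit
  let I : Ideal (MvPolynomial (Fin 2) B) := Ideal.span ({MvPolynomial.X 0 ^ 2 - MvPolynomial.C (s : B),
    MvPolynomial.X 1 ^ 2 - MvPolynomial.C ((1 : Bˣ) : B)} : Set (MvPolynomial (Fin 2) B))
  have hX : (Ideal.Quotient.mk I (MvPolynomial.X 0)) ^ 2 = algebraMap B _ (s : B) := by
    rw [← map_pow]
    exact Ideal.Quotient.eq.mpr (Ideal.subset_span (Set.mem_insert _ _))
  refine ⟨s, 1, 2, fun i => 1 + (if i = 0 then 1 else -1) * Ideal.Quotient.mk I (MvPolynomial.X 0), ?_, fun i => ?_⟩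
  · rw [Ideal.eq_top_iff_one]
    obtain ⟨c, hc⟩ := (h2B.map (algebraMap B (MvPolynomial (Fin 2) B ⧸ I))).exists_left_inv
    suffices hsum : (2 : MvPolynomial (Fin 2) B ⧸ I) ∈ Ideal.span (Set.range fun i : Fin 2 =>
        1 + (if i = 0 then 1 else -1) * Ideal.Quotient.mk I (MvPolynomial.X 0)) by
      have h1 := Ideal.mul_mem_left _ c hsum
      rw [map_ofNat] at hc
      rwa [hc] at h1
    rw [show (2 : MvPolynomial (Fin 2) B ⧸ I) = (1 + (if (0 : Fin 2) = 0 then 1 else -1) * Ideal.Quotient.mk I (MvPolynomial.X 0))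
      + (1 + (if (1 : Fin 2) = 0 then 1 else -1) * Ideal.Quotient.mk I (MvPolynomial.X 0)) by simp; ring]
    exact Ideal.add_mem _ (Ideal.subset_span ⟨0, rfl⟩) (Ideal.subset_span ⟨1, rfl⟩)
  obtain ⟨y, hy⟩ : ∃ y, y = (if i = 0 then (1 : MvPolynomial (Fin 2) B ⧸ I) else -1) * Ideal.Quotient.mk I (MvPolynomial.X 0) := ⟨_, rfl⟩
  have hy2 : y * y = algebraMap B _ (s : B) := by
    rw [← hX, hy]; split_ifs <;> ring
  let C := Localization.Away (1 + y)
  suffices hgoal : ∃ v : Matrix (Fin 2) (Fin 2) (C ⊗[B] A), IsUnit v ∧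
      (v.map (Algebra.TensorProduct.congr (AlgEquiv.refl : C ≃ₐ[C] C) lam)).transpose * h.map (Algebra.TensorProduct.includeRight : A →ₐ[B] C ⊗[B] A) * v
        = (Matrix.of ![![(0 : A), 1], ![-1, 0]]).map (Algebra.TensorProduct.includeRight : A →ₐ[B] C ⊗[B] A) by
    subst hy; exact hgoal
  obtain ⟨q, hq⟩ : ∃ q : C, q * q = algebraMap B C (s : B) ∧ IsUnit (1 + q) :=
    ⟨algebraMap _ C y, by rw [← map_mul, hy2]; exact (IsScalarTower.algebraMap_apply B _ C _).symm,
      by have h1 := IsLocalization.map_units C (⟨1 + y, Submonoid.mem_powers _⟩ : Submonoid.powers (1 + y)); simpa using h1⟩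
  obtain ⟨w, hw⟩ := isUnit_iff_exists_inv'.mp hq.2
  have hqu : IsUnit q := isUnit_of_mul_isUnit_left (hq.1 ▸ s.isUnit.map (algebraMap B C))
  obtain ⟨x', hx⟩ := isUnit_iff_exists_inv'.mp hqu
  obtain ⟨half, hhalf⟩ := isUnit_iff_exists_inv'.mp (h2B.map (algebraMap B C))
  let ρ : A →ₐ[B] C ⊗[B] A := Algebra.TensorProduct.includeRight
  let γ : C →+* C ⊗[B] A := Algebra.TensorProduct.includeLeftRingHom
  let L := Algebra.TensorProduct.congr (AlgEquiv.refl : C ≃ₐ[C] C) lam
  have hLρ : ∀ x, L (ρ x) = ρ (lam x) := fun x => by simp [L, ρ]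
  have hLγ : ∀ x, L (γ x) = γ x := fun x => by simp [L, γ]
  obtain ⟨v, hv, hvh⟩ := RInvLib.exists_congr_std (L : C ⊗[B] A →+* C ⊗[B] A)
    (a := ρ (h 0 0)) (b := ρ (h 0 1)) (c := ρ (h 1 0)) (d := ρ (h 1 1)) (β := ρ b') (X := γ q) (w := γ w)
    (x' := γ x') (half := γ half)
    (by simp [hLρ, hskew]) (by simp [hLρ, hskew]) (by simp [hLρ, hskew]) (by rw [← map_mul, hb', map_one])
    (by
      simp only [RingHom.coe_coe, hLρ]
      rw [← map_mul, hq.1, ← map_mul ρ, ← map_mul ρ, ← map_mul ρ, ← map_one ρ, ← map_add ρ, ← hm, ← hs]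
      simp [ρ, γ])
    (hLγ q) (by rw [← map_one γ, ← map_add, ← map_mul, hw]) (hLγ w) (by rw [← map_mul, hx, map_one]) (hLγ x')
    (by rw [← map_ofNat γ 2, ← map_mul, ← map_ofNat (algebraMap B C) 2, hhalf, map_one]) (hLγ half)
    (by simp [hLρ, hlam])
  refine ⟨v, hv, ?_⟩
  have e1 : h.map ρ = !![ρ (h 0 0), ρ (h 0 1); ρ (h 1 0), ρ (h 1 1)] := by
    ext i j; fin_cases i <;> fin_cases j <;> rfl
  have e2 : (Matrix.of ![![(0 : A), 1], ![-1, 0]]).map ρ = !![0, 1; -1, 0] := by
    ext i j; fin_cases i <;> fin_cases j <;> simp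
  rw [e1, e2]
  exact hvh

end Groth.Agent.S17363
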