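import Groth.Statements.S17364
import Groth.Agent.RInvLib.Spread

set_option autoImplicit false
universe u v
open scoped TensorProduct
open RInv

namespace Groth.Agent.S17364

open Groth.Agent

/-- Let `A` be a commutative ring with an involution `lam` whose fixed ring is `B`, let `ε = ±1`, and
let `h, h'` be invertible `n × n` matrices over `A` with `h = ε (lam h)ᵀ` and `h' = ε (lam h')ᵀ`.
Let `p` be a prime of `B` and suppose there are units `s_1, …, s_l` of the local ring `B_p`,
elements `f_1, …, f_r` of `B_p[X_1, …, X_l]/(X_k² - s_k)` (square roots of the `s_k` adjoined)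
generating the unit ideal, and for each `i` an invertible matrix `v` over `C ⊗_B A` for the
localisation `C` of that ring at `f_i` (any `B`-algebra with the universal property of that
localisation) (`lam` extended so as to fix the square roots and `B_p`) with `(lam v)ᵀ h v = h'`.
Then there is `b ∉ p` in `B` such that the same kind of data exists with `B_p` replaced by `B_b`:
units of `B_b`, a finite family generating the unit ideal of `B_b[X_1, …, X_l]/(X_k² - s_k)`, and
invertible matrices over the corresponding localisations tensored with `A` congruating `h` to `h'`. -/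
theorem result (B : Type u) (A : Type v) [CommRing B] [CommRing A]
    [Algebra B A] (lam : A ≃ₐ[B] A) (hlam : ∀ a, lam (lam a) = a) (hB : RInv.IsFixedRing B A lam.toRingEquiv)
    (n : ℕ) (ε : A) (hε : ε = 1 ∨ ε = -1) (h h' : Matrix (Fin n) (Fin n) A) (hh : IsUnit h) (hh' : IsUnit h')
    (herm : ε • (h.map lam).transpose = h) (herm' : ε • (h'.map lam).transpose = h')
    (p : Ideal B) [p.IsPrime]
    (hdata : (∃ (l : ℕ) (s : Fin l → (Localization.AtPrime p)ˣ) (r : ℕ) (f : Fin r → (MvPolynomial (Fin l) (Localization.AtPrime p) ⧸ Ideal.span (Set.range fun k : Fin l => MvPolynomial.X k ^ 2 - MvPolynomial.C (s k : Localization.AtPrime p)))),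
        Ideal.span (Set.range f) = ⊤ ∧
        ∀ (i : Fin r) (C : Type u) [CommRing C] [Algebra B C]
          [Algebra (MvPolynomial (Fin l) (Localization.AtPrime p) ⧸ Ideal.span (Set.range fun k : Fin l => MvPolynomial.X k ^ 2 - MvPolynomial.C (s k : Localization.AtPrime p))) C]
          [IsScalarTower B (MvPolynomial (Fin l) (Localization.AtPrime p) ⧸ Ideal.span (Set.range fun k : Fin l => MvPolynomial.X k ^ 2 - MvPolynomial.C (s k : Localization.AtPrime p))) C]
          [IsLocalization.Away (f i) C],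
          ∃ v : Matrix (Fin n) (Fin n) (C ⊗[B] A), IsUnit v ∧
            (v.map (Algebra.TensorProduct.congr (AlgEquiv.refl : C ≃ₐ[C] C) lam)).transpose * h.map (Algebra.TensorProduct.includeRight : A →ₐ[B] C ⊗[B] A) * v = h'.map (Algebra.TensorProduct.includeRight : A →ₐ[B] C ⊗[B] A))) :
    ∃ b : B, b ∉ p ∧
      (∃ (l : ℕ) (s : Fin l → (Localization.Away b)ˣ) (r : ℕ) (f : Fin r → (MvPolynomial (Fin l) (Localization.Away b) ⧸ Ideal.span (Set.range fun k : Fin l => MvPolynomial.X k ^ 2 - MvPolynomial.C (s k : Localization.Away b)))),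
        Ideal.span (Set.range f) = ⊤ ∧
        ∀ (i : Fin r) (C : Type u) [CommRing C] [Algebra B C]
          [Algebra (MvPolynomial (Fin l) (Localization.Away b) ⧸ Ideal.span (Set.range fun k : Fin l => MvPolynomial.X k ^ 2 - MvPolynomial.C (s k : Localization.Away b))) C]
          [IsScalarTower B (MvPolynomial (Fin l) (Localization.Away b) ⧸ Ideal.span (Set.range fun k : Fin l => MvPolynomial.X k ^ 2 - MvPolynomial.C (s k : Localization.Away b))) C]
          [IsLocalization.Away (f i) C],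
          ∃ v : Matrix (Fin n) (Fin n) (C ⊗[B] A), IsUnit v ∧
            (v.map (Algebra.TensorProduct.congr (AlgEquiv.refl : C ≃ₐ[C] C) lam)).transpose * h.map (Algebra.TensorProduct.includeRight : A →ₐ[B] C ⊗[B] A) * v = h'.map (Algebra.TensorProduct.includeRight : A →ₐ[B] C ⊗[B] A)) := by
  classical
  obtain ⟨l, s, r, f, hspan, hdata⟩ := hdata
  obtain ⟨M, hMdef⟩ : ∃ M, M = p.primeCompl := ⟨_, rfl⟩
  have hnum : ∀ k, ∃ a d : B, a ∈ M ∧ d ∈ M ∧
      algebraMap B (Localization.AtPrime p) d * (s k : Localization.AtPrime p) = algebraMap B _ a := fun k => by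
    obtain ⟨⟨a, d⟩, hk⟩ := IsLocalization.surj p.primeCompl (s k : Localization.AtPrime p)
    refine ⟨a, d, hMdef ▸ ?_, hMdef ▸ d.2, by rw [mul_comm]; exact hk⟩
    refine (IsLocalization.AtPrime.isUnit_to_map_iff (Localization.AtPrime p) p a).mp ?_
    rw [← hk]
    exact (s k).isUnit.mul (IsLocalization.map_units _ d)
  choose a d ha hd hs using hnum
  obtain ⟨b₀, hb₀def⟩ : ∃ b₀, b₀ = (∏ k, a k) * ∏ k, d k := ⟨_, rfl⟩
  have hb₀ : b₀ ∈ M := hb₀def ▸ M.mul_mem (M.prod_mem fun k _ => ha k) (M.prod_mem fun k _ => hd k)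
  let D₀ := Localization.Away b₀
  have hu₀ : ∀ (T : Type u) [CommRing T] [Algebra B T], IsUnit (algebraMap B T b₀) →
      ∀ k, IsUnit (algebraMap B T (a k)) ∧ IsUnit (algebraMap B T (d k)) := fun T _ _ hT k => by
    rw [hb₀def, map_mul, IsUnit.mul_iff, map_prod, map_prod, IsUnit.prod_univ_iff, IsUnit.prod_univ_iff] at hT
    exact ⟨hT.1 k, hT.2 k⟩
  have hsu : ∀ (T : Type u) [CommRing T] [Algebra B T], IsUnit (algebraMap B T b₀) →
      ∀ k, ∃ σ : Tˣ, algebraMap B T (d k) * σ = algebraMap B T (a k) := fun T _ _ hT k => by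
    obtain ⟨⟨α, hα⟩, ⟨δ, hδ⟩⟩ := hu₀ T hT k
    exact ⟨δ⁻¹ * α, by rw [← hα, ← hδ, ← Units.val_mul, mul_inv_cancel_left]⟩
  choose s₀ hs₀ using hsu D₀ (IsLocalization.Away.algebraMap_isUnit b₀)
  let P₀ := RInvLib.SqrtRing D₀ (fun k => (s₀ k : D₀))
  let Pp := MvPolynomial (Fin l) (Localization.AtPrime p) ⧸ Ideal.span (Set.range fun k : Fin l =>
    MvPolynomial.X k ^ 2 - MvPolynomial.C (s k : Localization.AtPrime p))
  let L₀ := Localization (Algebra.algebraMapSubmonoid P₀ M)
  have hL₀ : ∀ m ∈ M, IsUnit (algebraMap B L₀ m) := fun m hm => RInvLib.isUnit_algebraMap_loc M (R := P₀) (S := L₀) hm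
  let φp : Localization.AtPrime p →ₐ[B] L₀ :=
    IsLocalization.liftAlgHom (M := p.primeCompl) (S := Localization.AtPrime p) (P := L₀) (f := Algebra.ofId B L₀) fun m => hL₀ m (hMdef ▸ m.2)
  let ι₀ : P₀ →ₐ[B] L₀ := IsScalarTower.toAlgHom B P₀ L₀
  let π : Pp →ₐ[B] L₀ := RInvLib.sqrtLift φp (fun k => ι₀ (RInvLib.sqrtRoot D₀ _ k)) fun k => by
    refine (hL₀ _ (hd k)).mul_left_cancel ?_
    have e1 := congrArg (ι₀.comp (IsScalarTower.toAlgHom B D₀ P₀)) (hs₀ k)
    have e2 := congrArg φp (hs k)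
    simp only [map_mul, AlgHom.commutes] at e1 e2
    rw [← map_pow, RInvLib.sqrtRoot_sq, e2]
    exact e1
  have hnumf : ∀ i, ∃ m ∈ M, ∃ x : P₀, π (f i) * algebraMap B L₀ m = ι₀ x := fun i => by
    obtain ⟨⟨x, _, m, hm, rfl⟩, hx⟩ := IsLocalization.surj (Algebra.algebraMapSubmonoid P₀ M) (π (f i))
    exact ⟨m, hm, x, by rwa [IsScalarTower.algebraMap_apply B P₀ L₀]⟩
  choose m hm f₀ hf₀ using hnumf
  obtain ⟨mS, hmS, hmem⟩ : ∃ mS ∈ M, algebraMap B P₀ mS ∈ Ideal.span (Set.range f₀) := by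
    have h1 : (1 : L₀) ∈ (Ideal.span (Set.range f₀)).map (algebraMap P₀ L₀) := by
      have := Ideal.mem_map_of_mem π (hspan ▸ Submodule.mem_top : (1 : Pp) ∈ Ideal.span (Set.range f))
      rw [map_one, Ideal.map_span] at this
      refine Ideal.span_le.mpr ?_ this
      rintro _ ⟨_, ⟨i, rfl⟩, rfl⟩
      refine (Ideal.unit_mul_mem_iff_mem _ (hL₀ _ (hm i))).mp ?_
      rw [show algebraMap B L₀ (m i) * π (f i) = ι₀ (f₀ i) from (mul_comm (algebraMap B L₀ (m i)) (π (f i))).trans (hf₀ i)]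
      exact Ideal.mem_map_of_mem (algebraMap P₀ L₀) (Ideal.subset_span ⟨i, rfl⟩)
    obtain ⟨⟨⟨x, hx⟩, ⟨_, μ, hμ, rfl⟩⟩, he⟩ :=
      (IsLocalization.mem_map_algebraMap_iff (Algebra.algebraMapSubmonoid P₀ M) L₀).mp h1
    rw [one_mul] at he
    obtain ⟨⟨_, ν, hν, rfl⟩, he'⟩ := (IsLocalization.eq_iff_exists (Algebra.algebraMapSubmonoid P₀ M) L₀).mp he
    exact ⟨ν * μ, M.mul_mem hν hμ, by rw [map_mul, he']; exact Ideal.mul_mem_left _ _ hx⟩
  have step : ∀ i, ∃ b ∈ M, ∀ (T : Type u) [CommRing T] [Algebra B T] (ψ : Localization.Away (f₀ i) →ₐ[B] T),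
      IsUnit (algebraMap B T b) → ∃ v : Matrix (Fin n) (Fin n) (T ⊗[B] A), IsUnit v ∧
        (v.map (Algebra.TensorProduct.congr (AlgEquiv.refl : T ≃ₐ[T] T) lam)).transpose * h.map (Algebra.TensorProduct.includeRight : A →ₐ[B] T ⊗[B] A) * v = h'.map (Algebra.TensorProduct.includeRight : A →ₐ[B] T ⊗[B] A) := by
    intro i
    let C₀ := Localization.Away (f₀ i)
    let LC := Localization (Algebra.algebraMapSubmonoid C₀ M)
    have hLC : ∀ m ∈ M, IsUnit (algebraMap B LC m) := fun m hm => RInvLib.isUnit_algebraMap_loc M (R := C₀) (S := LC) hm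
    let q : L₀ →ₐ[B] LC := RInvLib.locLift M P₀ L₀ (T := LC)
      ((IsScalarTower.toAlgHom B C₀ LC).comp (IsScalarTower.toAlgHom B P₀ C₀)) hLC
    let C := Localization.Away (f i)
    have hfu : IsUnit ((q.comp π) (f i)) := by
      refine isUnit_of_mul_isUnit_left (y := q (algebraMap B L₀ (m i))) ?_
      rw [AlgHom.comp_apply, ← map_mul, hf₀ i]
      erw [RInvLib.locLift_algebraMap]
      exact (IsLocalization.Away.algebraMap_isUnit (f₀ i)).map (algebraMap C₀ LC)
    let φ : C →ₐ[B] LC := IsLocalization.liftAlgHom (M := Submonoid.powers (f i)) (S := C) (P := LC) (f := q.comp π) fun y => by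
      obtain ⟨j, hj⟩ := y.2
      rw [← hj]
      change IsUnit ((q.comp π) (f i ^ j))
      rw [map_pow]
      exact hfu.pow j
    obtain ⟨v, hv, hveq⟩ := hdata i C
    exact RInvLib.spread_tensor M lam φ h h' hv hveq
  choose bi hbi hstep using step
  refine ⟨b₀ * mS * ∏ i, bi i, fun hc => ?_, ?_⟩
  · have hbM := M.mul_mem (M.mul_mem hb₀ hmS) (M.prod_mem (t := Finset.univ) fun i _ => hbi i)
    rw [hMdef] at hbM
    exact hbM hc
  obtain ⟨b, hb⟩ : ∃ b, b = b₀ * mS * ∏ i, bi i := ⟨_, rfl⟩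
  rw [← hb]
  let D := Localization.Away b
  have hbu : IsUnit (algebraMap B D (b₀ * mS * ∏ i, bi i)) := by
    rw [← hb]; exact IsLocalization.Away.algebraMap_isUnit b
  rw [map_mul, map_mul, IsUnit.mul_iff, IsUnit.mul_iff, map_prod, IsUnit.prod_univ_iff] at hbu
  obtain ⟨⟨hb₀u, hmSu⟩, hbiu⟩ := hbu
  choose σ hσ using hsu D hb₀u
  let φD : D₀ →ₐ[B] D := IsLocalization.liftAlgHom (M := Submonoid.powers b₀) (S := D₀) (P := D) (f := Algebra.ofId B D) fun y => by
    obtain ⟨j, hj⟩ := y.2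
    rw [← hj]
    change IsUnit (algebraMap B D (b₀ ^ j))
    rw [map_pow]
    exact hb₀u.pow j
  let P := RInvLib.SqrtRing D (fun k => (σ k : D))
  let ρ : P₀ →ₐ[B] P := RInvLib.sqrtLift ((IsScalarTower.toAlgHom B D P).comp φD)
    (fun k => RInvLib.sqrtRoot D _ k) fun k => by
      rw [RInvLib.sqrtRoot_sq, AlgHom.comp_apply, IsScalarTower.coe_toAlgHom']
      congr 1
      refine (hu₀ D hb₀u k).2.mul_left_cancel ?_
      have e1 := congrArg φD (hs₀ k)
      simp only [map_mul, AlgHom.commutes] at e1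
      rw [hσ k, e1]
  refine ⟨l, σ, r, fun i => ρ (f₀ i), ?_, ?_⟩
  · rw [Ideal.eq_top_iff_one]
    have h1 := Ideal.mem_map_of_mem ρ hmem
    rw [AlgHom.commutes, Ideal.map_span, ← Set.range_comp] at h1
    obtain ⟨c, hc⟩ := (hmSu.map (algebraMap D P)).exists_left_inv
    rw [← IsScalarTower.algebraMap_apply B D P] at hc
    have h2 := Ideal.mul_mem_left _ c h1
    rwa [hc] at h2
  · intro i C _ _ _ _ _
    let g : P₀ →ₐ[B] C := (IsScalarTower.toAlgHom B P C).comp ρ
    let ψ : Localization.Away (f₀ i) →ₐ[B] C :=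
      IsLocalization.liftAlgHom (M := Submonoid.powers (f₀ i)) (S := Localization.Away (f₀ i)) (P := C) (f := g) fun y => by
        obtain ⟨j, hj⟩ := y.2
        rw [← hj]
        change IsUnit (g (f₀ i ^ j))
        rw [map_pow]
        exact (IsLocalization.Away.algebraMap_isUnit (ρ (f₀ i))).pow j
    refine hstep i C ψ ?_
    have h1 := ((hbiu i).map (algebraMap D P)).map (algebraMap P C)
    rwa [← IsScalarTower.algebraMap_apply B D P, ← IsScalarTower.algebraMap_apply B P C] at h1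

end Groth.Agent.S17364
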