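import Groth.Statements.S1737
import Groth.Agent.Alg6.AssDepth
import Mathlib.Algebra.Module.LocalizedModule.Exact

set_option autoImplicit false
universe u
open LocCoh

namespace Groth.Agent.S1737

/-- Let A be a Noetherian ring, T ⊆ Spec A stable under specialization and M a finite A-module. There
are a finite A-module M' and a surjection M → M' which is bijective after localizing at every prime
outside T and such that M'_p has depth ≥ 1 over A_p for every p in T. (The source states this for
coherent modules on a Noetherian scheme, with uniqueness.) -/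
theorem result (A : Type u) [CommRing A] [IsNoetherianRing A] (T : Set (PrimeSpectrum A)) (hT : StableUnderSpecialization T) (M : Type u) [AddCommGroup M] [Module A M] [Module.Finite A M] : ∃ (M' : Type u) (_ : AddCommGroup M') (_ : Module A M') (_ : Module.Finite A M') (f : M →ₗ[A] M'), Function.Surjective f ∧ (∀ p : PrimeSpectrum A, p ∉ T → Function.Bijective (LocalizedModule.map p.asIdeal.primeCompl f)) ∧ ∀ p : PrimeSpectrum A, p ∈ T → 1 ≤ LocCoh.depth (Localization.AtPrime p.asIdeal) (LocalizedModule p.asIdeal.primeCompl M') := by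
  classical
  let P : Submodule A M → Prop := fun N => ∀ q : PrimeSpectrum A, q ∈ Module.support A N → q ∈ T
  have hne : {N : Submodule A M | P N}.Nonempty := ⟨⊥, fun q hq => by
    rw [Module.support_eq_empty] at hq
    exact hq.elim⟩
  obtain ⟨N, hN, hmax⟩ := set_has_maximal_iff_noetherian.2 inferInstance _ hne
  refine ⟨M ⧸ N, inferInstance, inferInstance, inferInstance, N.mkQ, Submodule.mkQ_surjective N, fun p hp => ?_, fun p hp => ?_⟩
  · haveI : Subsingleton (LocalizedModule p.asIdeal.primeCompl N) :=
      Module.notMem_support_iff.1 fun h => hp (hN p h)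
    refine ⟨?_, LocalizedModule.map_surjective _ _ (Submodule.mkQ_surjective N)⟩
    rw [injective_iff_map_eq_zero]
    intro z hz
    obtain ⟨w, rfl⟩ := (LocalizedModule.map_exact p.asIdeal.primeCompl N.subtype N.mkQ (LinearMap.exact_subtype_mkQ N) z).1 hz
    rw [Subsingleton.elim w 0, map_zero]
  · refine (Groth.Agent.Alg6.one_le_depth_atPrime_iff (M := M ⧸ N) _).2 fun hass => ?_
    obtain ⟨-, z, hz⟩ := Groth.Agent.Alg6.mem_ass_iff.1 hass
    obtain ⟨m, rfl⟩ := Submodule.Quotient.mk_surjective _ z
    have hlt : N < N ⊔ A ∙ m := by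
      refine lt_of_le_of_ne le_sup_left fun e => ?_
      have hm : m ∈ N := e ▸ Submodule.mem_sup_right (Submodule.mem_span_singleton_self m)
      exact p.isPrime.ne_top ((Ideal.eq_top_iff_one _).2 ((hz 1).2 (by
        rw [(Submodule.Quotient.mk_eq_zero N).2 hm, smul_zero])))
    refine hmax _ (show P (N ⊔ A ∙ m) from fun q hq => ?_) hlt
    by_contra hqT
    have hqp : ¬ p.asIdeal ≤ q.asIdeal := fun hle => hqT (hT (show p ⤳ q from (PrimeSpectrum.le_iff_specializes p q).1 hle) hp)
    obtain ⟨x, hxp, hxq⟩ := SetLike.not_le_iff_exists.1 hqp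
    refine (Module.notMem_support_iff'.2 ?_) hq
    rintro ⟨y, hy⟩
    have hqN : q ∉ Module.support A N := fun h => hqT (hN q h)
    rw [Module.notMem_support_iff'] at hqN
    have hxy : x • y ∈ N := by
      obtain ⟨u, hu, v, hv, rfl⟩ := Submodule.mem_sup.1 hy
      obtain ⟨r, rfl⟩ := Submodule.mem_span_singleton.1 hv
      rw [smul_add]
      refine N.add_mem (N.smul_mem _ hu) ?_
      rw [smul_comm]
      exact N.smul_mem r ((Submodule.Quotient.mk_eq_zero N).1 (by rw [Submodule.Quotient.mk_smul]; exact (hz x).1 hxp))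
    obtain ⟨r, hr, hr0⟩ := hqN ⟨x • y, hxy⟩
    exact ⟨r * x, q.asIdeal.primeCompl.mul_mem hr hxq, Subtype.ext (by
      show (r * x) • y = 0
      rw [mul_smul]
      exact congrArg Subtype.val hr0)⟩

end Groth.Agent.S1737
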