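import Groth.Statements.S17373
import Groth.Agent.Lib.NumTrivAny
import Groth.Agent.Nakai.Big

set_option autoImplicit false
set_option backward.isDefEq.respectTransparency false
set_option backward.isDefEq.respectTransparency.types false
set_option linter.style.haveILetI false
set_option linter.unusedSectionVars false
set_option maxHeartbeats 400000
universe u
open CategoryTheory CategoryTheory.Limits AlgebraicGeometry
open Variety

namespace Groth.Agent.S17373

/-- Let X be a geometrically integral scheme proper over a field k and L an ample invertible module on
X. Then there is an integer m₀ such that for all m ≥ m₀ and every numerically trivial invertible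
module N (degree zero on every integral closed one-dimensional subscheme), H^0(X, L^m ⊗ N) has the
same k-dimension as H^0(X, L^m), and that dimension is positive. (The published statement is for a
big divisor D and asserts that every invertible module numerically equivalent to O(mD) comes from an
effective divisor for m large; its argument reduces to ample D and establishes exactly the equality
of dimensions stated here.) -/
theorem result (k : Type u) [Field k] (X : Scheme.{u})
    [X.Over (Spec (CommRingCat.of k))] [IsIntegral X] [GeometricallyIntegral (X ↘ Spec (CommRingCat.of k))]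
    [IsProper (X ↘ Spec (CommRingCat.of k))]
    (L : X.Modules) (hL : CohB1.IsAmple L) :
    ∃ m₀ : ℕ, ∀ m : ℕ, m₀ ≤ m → ∀ N : X.Modules, PicF.IsInvertible N → Pic13.IsNumEquivZero k X N →
      Module.finrank k (Coh.HH X (CohB1.tensorMod (CohB1.tensorPow L m) N) 0) =
          Module.finrank k (Coh.HH X (CohB1.tensorPow L m) 0) ∧
        0 < Module.finrank k (Coh.HH X (CohB1.tensorPow L m) 0) := by
  haveI := Groth.Agent.CurveCohLib.isNoetherian_of_proper (k := k) (X := X)
  obtain ⟨d₀, hd₀⟩ := Groth.Agent.NumTrivTw.exists_h0_eq k hL
  obtain ⟨a₀, -, ha₀⟩ := Groth.Agent.NefBig.exists_generated k hL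
  refine ⟨d₀ + a₀, fun m hm N hN hNT => ⟨hd₀ m (by omega) N ⟨hN, hNT⟩, ?_⟩⟩
  obtain ⟨s, hs⟩ := Groth.Agent.NefBig.exists_section_of_generated
    (Groth.Agent.InvX.isInvertible_tensorPow hL.1 m) (ha₀ m (by omega))
  haveI := Groth.Agent.CurveAmple.nontrivial_h0 hs
  haveI := Groth.Agent.CurveCohLib.finite_HH (k := k)
    (Groth.Agent.AmpleVan.isCoh_invertible (Groth.Agent.InvX.isInvertible_tensorPow hL.1 m)) 0
  exact Module.finrank_pos

end Groth.Agent.S17373
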