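import Groth.Statements.S17374
import Groth.Agent.Lib.NumTrivAny
import Groth.Agent.Lib.AsympCoh
import Groth.Agent.Lib.BigVol
import Groth.Agent.Nakai.Big

set_option autoImplicit false
set_option backward.isDefEq.respectTransparency false
set_option backward.isDefEq.respectTransparency.types false
set_option linter.style.haveILetI false
set_option linter.unusedSectionVars false
set_option maxHeartbeats 400000
universe u
open CategoryTheory CategoryTheory.Limits AlgebraicGeometry
open scoped ENNReal
open Variety

namespace Groth.Agent.S17374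

/-- Let X be a geometrically integral scheme of dimension d, proper over a field k and admitting an
ample invertible module, and let L, N be invertible modules on X with N numerically trivial (degree
zero on every integral closed one-dimensional subscheme). Then the upper limits of dim_k H^0(X, (L ⊗
N)^m) / m^d and of dim_k H^0(X, L^m) / m^d as m → ∞, taken in the extended non-negative reals,
agree; that is, the volume of an invertible module depends only on its numerical equivalence class. -/
theorem result (k : Type u) [Field k] (X : Scheme.{u})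
    [X.Over (Spec (CommRingCat.of k))] [IsIntegral X] [GeometricallyIntegral (X ↘ Spec (CommRingCat.of k))]
    [IsProper (X ↘ Spec (CommRingCat.of k))]
    (hproj : ∃ A : X.Modules, CohB1.IsAmple A) (d : ℕ) (hd : topologicalKrullDim X = d)
    (L N : X.Modules) (hL : PicF.IsInvertible L) (hN : PicF.IsInvertible N) (hNum : Pic13.IsNumEquivZero k X N) :
    Filter.limsup (fun m : ℕ => (Module.finrank k (Coh.HH X (CohB1.tensorPow (CohB1.tensorMod L N) m) 0) : ℝ≥0∞) /
        (m : ℝ≥0∞) ^ d) Filter.atTop =
      Filter.limsup (fun m : ℕ => (Module.finrank k (Coh.HH X (CohB1.tensorPow L m) 0) : ℝ≥0∞) /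
        (m : ℝ≥0∞) ^ d) Filter.atTop := by
  obtain ⟨A, hA⟩ := hproj
  have hle : topologicalKrullDim X ≤ d := hd.le
  obtain ⟨C, hC⟩ := Groth.Agent.NumTrivTw.exists_dist_any k hA hle hL 0
  have hN' : Groth.Agent.Pic13Lib.NumTriv.IsNT k N := ⟨hN, hNum⟩
  have hLN := Groth.Agent.InvX.isInvertible_tensorMod hL hN
  have hf := Groth.Agent.AsympCoh.isOrd_pow k hle hLN 0
  have hg := Groth.Agent.AsympCoh.isOrd_pow k hle hL 0
  rw [Groth.Agent.AsympCoh.limsup_ennreal hf, Groth.Agent.AsympCoh.limsup_ennreal hg,
    Groth.Agent.AsympCoh.limsup_eq_of_dist (c := (1 : ℝ)) ⟨C, fun m => ?_⟩ hf hg zero_le_one]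
  have h := hC m (CohB1.tensorPow N m) (hN'.pow k m)
  have hcl : PicF.cl (CohB1.tensorPow (CohB1.tensorMod L N) m) =
      PicF.cl (CohB1.tensorMod (CohB1.tensorPow L m) (CohB1.tensorPow N m)) := by
    open scoped Groth.Agent.H23.PicMul in
    rw [Groth.Agent.H23.PicMul.cl_tensor, Groth.Agent.H23.PicMul.cl_tensorPow, Groth.Agent.H23.PicMul.cl_tensorPow,
      Groth.Agent.H23.PicMul.cl_tensorPow, Groth.Agent.H23.PicMul.cl_tensor, mul_pow]
  show Nat.dist (Module.finrank k _) _ ≤ _
  rw [(Groth.Agent.CurveCohLib.hhEquiv (k := k) (Groth.Agent.H23.PicMul.cl_eq_iff.1 hcl).some 0).finrank_eq]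
  exact h

end Groth.Agent.S17374
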