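import Groth.Statements.S17375
import Groth.Agent.Lib.GenFinPush
import Groth.Agent.Lib.BigVol

set_option autoImplicit false
set_option backward.isDefEq.respectTransparency false
set_option backward.isDefEq.respectTransparency.types false
set_option linter.style.haveILetI false
set_option linter.unusedSectionVars false
set_option maxHeartbeats 400000
universe u
open CategoryTheory CategoryTheory.Limits AlgebraicGeometry Asymptotics
open Variety

namespace Groth.Agent.S17375

/-- Let X and Y be geometrically integral schemes proper over a field k, each admitting an ample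
invertible module, with X of dimension d, and let f : Y → X be a k-morphism which is dominant and
generically finite of degree n ≥ 1: f maps the generic point of Y to the generic point of X and the
induced extension of function fields has finite degree n. Then for every invertible module L on X
the difference dim_k H^0(Y, (f^*L)^m) − n · dim_k H^0(X, L^m) is O(m^(d−1)) as m → ∞ (so the volume
of f^*L is n times that of L). -/
theorem result (k : Type u) [Field k] (X Y : Scheme.{u})
    [X.Over (Spec (CommRingCat.of k))] [Y.Over (Spec (CommRingCat.of k))] [IsIntegral X] [IsIntegral Y]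
    [GeometricallyIntegral (X ↘ Spec (CommRingCat.of k))] [GeometricallyIntegral (Y ↘ Spec (CommRingCat.of k))]
    [IsProper (X ↘ Spec (CommRingCat.of k))] [IsProper (Y ↘ Spec (CommRingCat.of k))]
    (hXproj : ∃ A : X.Modules, CohB1.IsAmple A) (hYproj : ∃ B : Y.Modules, CohB1.IsAmple B)
    (d : ℕ) (hd : topologicalKrullDim X = d)
    (f : Y ⟶ X) (hf : f ≫ (X ↘ Spec (CommRingCat.of k)) = Y ↘ Spec (CommRingCat.of k))
    (hdom : f.base (genericPoint Y) = genericPoint X) (n : ℕ) (hn : f.residueDegree (genericPoint Y) = n) (hn0 : 0 < n)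
    (L : X.Modules) (hL : PicF.IsInvertible L) :
    (fun m : ℕ => (Module.finrank k (Coh.HH Y (CohB1.tensorPow ((Scheme.Modules.pullback f).obj L) m) 0) : ℝ) -
        n * Module.finrank k (Coh.HH X (CohB1.tensorPow L m) 0)) =O[Filter.atTop]
      (fun m : ℕ => (m : ℝ) ^ (d - 1)) := by
  obtain ⟨C, hC⟩ := GenFinPush.exists_dist_pullback k f hf hdom hn hn0 hd.le hL
  refine Asymptotics.IsBigO.of_bound ((C * 2 ^ (d - 1) : ℕ) : ℝ) (Filter.eventually_atTop.2 ⟨1, fun m hm => ?_⟩)
  have h1 := hC m
  have h2 : CohGrowth.w d m ≤ 2 ^ (d - 1) * m ^ (d - 1) := by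
    unfold CohGrowth.w
    split_ifs
    · exact Nat.zero_le _
    · rw [← mul_pow]
      exact Nat.pow_le_pow_left (by omega) _
  set a := Module.finrank k (Coh.HH Y (CohB1.tensorPow ((Scheme.Modules.pullback f).obj L) m) 0)
  set b := Module.finrank k (Coh.HH X (CohB1.tensorPow L m) 0)
  have h3 : Nat.dist a (n * b) ≤ C * 2 ^ (d - 1) * m ^ (d - 1) :=
    h1.trans (le_of_le_of_eq (Nat.mul_le_mul_left C h2) (by ring))
  rw [Real.norm_eq_abs, Real.norm_eq_abs, abs_of_nonneg (show (0 : ℝ) ≤ (m : ℝ) ^ (d - 1) by positivity),
    abs_sub_le_iff]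
  simp only [Nat.dist] at h3
  constructor
  · rw [sub_le_iff_le_add]
    exact_mod_cast (show a ≤ C * 2 ^ (d - 1) * m ^ (d - 1) + n * b by omega)
  · rw [sub_le_iff_le_add]
    exact_mod_cast (show n * b ≤ C * 2 ^ (d - 1) * m ^ (d - 1) + a by omega)

end Groth.Agent.S17375
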