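import Groth.Statements.S17376
import Mathlib.RingTheory.Norm.Basic
import Mathlib.RingTheory.Polynomial.IsIntegral
import Mathlib.RingTheory.MvPolynomial.Basic
import Mathlib.LinearAlgebra.Eigenspace.Charpoly
import Mathlib.LinearAlgebra.Eigenspace.Minpoly
import Mathlib.LinearAlgebra.Matrix.Charpoly.Eigs
import Mathlib.FieldTheory.IsAlgClosed.AlgebraicClosure
import Mathlib.RingTheory.Flat.Basic
import Mathlib.RingTheory.TensorProduct.Finite
import Mathlib.LinearAlgebra.TensorProduct.Finiteness
import Mathlib.RingTheory.IntegralClosure.IntegralRestrict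
import Groth.Agent.McCoy.Basic
set_option autoImplicit false
universe u
open scoped TensorProduct
open CAlg

namespace Groth.Agent.S17376

section
open MvPolynomial

/-- The determinant of an integral matrix is integral. -/
theorem isIntegral_det {R T ι : Type*} [CommRing R] [CommRing T] [IsDomain T] [Algebra R T]
    [Fintype ι] [DecidableEq ι] (M : Matrix ι ι T) (hM : IsIntegral R M) : IsIntegral R M.det := by
  let Ω := AlgebraicClosure (FractionRing T)
  have hinj : Function.Injective (algebraMap T Ω) := by
    rw [IsScalarTower.algebraMap_eq T (FractionRing T) Ω]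
    exact (algebraMap (FractionRing T) Ω).injective.comp (IsFractionRing.injective T _)
  refine (isIntegral_algebraMap_iff hinj).1 ?_
  set g := (IsScalarTower.toAlgHom R T Ω).mapMatrix M with hg_def
  have hg : g = (algebraMap T Ω).mapMatrix M := rfl
  rw [RingHom.map_det, ← hg, Matrix.det_eq_prod_roots_charpoly]
  refine IsIntegral.multiset_prod fun μ hμ => ?_
  obtain ⟨P, hPm, hP⟩ := hM.map (IsScalarTower.toAlgHom R T Ω).mapMatrix
  refine ⟨P, hPm, ?_⟩
  rw [← Polynomial.aeval_def] at hP ⊢
  have hroot : (g.toLin').charpoly.IsRoot μ := by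
    rw [Matrix.charpoly_toLin']
    exact (Polynomial.mem_roots (Matrix.charpoly_monic g).ne_zero).1 hμ
  rw [← Module.End.hasEigenvalue_iff_isRoot_charpoly] at hroot
  obtain ⟨v, hv⟩ := hroot.exists_hasEigenvector
  have h1 := Module.End.aeval_apply_of_hasEigenvector (p := P.map (algebraMap R Ω)) hv
  rw [Polynomial.aeval_map_algebraMap] at h1
  have h2 : Polynomial.aeval (g.toLin') P = (Polynomial.aeval g P).toLin' :=
    Polynomial.aeval_algHom_apply
      ((Matrix.toLinAlgEquiv' (R := Ω) (n := ι)).toAlgHom.restrictScalars R) g P
  rw [h2, hP, map_zero, LinearMap.zero_apply, Polynomial.eval_map, ← Polynomial.aeval_def, eq_comm,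
    smul_eq_zero] at h1
  exact h1.resolve_right hv.2

/-- The norm form of integral elements has coefficients in a normal domain. -/
theorem normForm_mem (A K L : Type u) [CommRing A] [IsDomain A] [IsIntegrallyClosed A]
    [Field K] [Algebra A K] [IsFractionRing A K] [Field L] [Algebra K L] [Algebra A L] [IsScalarTower A K L]
    {ι : Type u} [Fintype ι] [DecidableEq ι] (bs : Module.Basis ι K L) {σ : Type u} [Fintype σ]
    (l : σ → L) (hl : ∀ j, IsIntegral A (l j)) :
    ∃ D : MvPolynomial σ A, MvPolynomial.map (algebraMap A K) D =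
      (∑ j, (X j : MvPolynomial σ K) • (Algebra.leftMulMatrix bs (l j)).map (C : K →+* MvPolynomial σ K)).det := by
  classical
  letI alg : Algebra (MvPolynomial σ A) (MvPolynomial σ K) := MvPolynomial.algebraMvPolynomial
  haveI : IsScalarTower A (MvPolynomial σ A) (MvPolynomial σ K) :=
    IsScalarTower.of_algebraMap_eq fun a => by simp [MvPolynomial.algebraMap_apply]
  let ψ : L →ₐ[A] Matrix ι ι (MvPolynomial σ K) :=
    ((IsScalarTower.toAlgHom A K (MvPolynomial σ K)).mapMatrix).comp
      ((Algebra.leftMulMatrix bs).restrictScalars A)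
  let Sc : Subalgebra (MvPolynomial σ A) (Matrix ι ι (MvPolynomial σ K)) :=
    Algebra.adjoin (MvPolynomial σ A) (Set.range ψ)
  letI : CommRing Sc := Algebra.adjoinCommRingOfComm _ (by
    rintro _ ⟨a, rfl⟩ _ ⟨b, rfl⟩; rw [← map_mul, ← map_mul, mul_comm])
  set M := ∑ j, (X j : MvPolynomial σ K) • (Algebra.leftMulMatrix bs (l j)).map (C : K →+* MvPolynomial σ K)
    with hMdef
  have hM : IsIntegral (MvPolynomial σ A) M := by
    let y : σ → Sc := fun j => ⟨ψ (l j), Algebra.subset_adjoin ⟨l j, rfl⟩⟩
    have hy : IsIntegral (MvPolynomial σ A)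
        (∑ j, algebraMap (MvPolynomial σ A) Sc (X j) * y j : Sc) := by
      refine IsIntegral.sum _ fun j _ => isIntegral_algebraMap.mul ?_
      rw [← isIntegral_algHom_iff Sc.val Subtype.val_injective]
      exact ((hl j).map ψ).tower_top
    convert hy.map Sc.val using 1
    rw [map_sum, hMdef]
    refine Finset.sum_congr rfl fun j _ => ?_
    rw [map_mul, AlgHom.commutes, ← Algebra.smul_def,
      ← IsScalarTower.algebraMap_smul (MvPolynomial σ K) (X j : MvPolynomial σ A)]
    simp only [MvPolynomial.algebraMap_def, MvPolynomial.map_X]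
    rfl
  have hdet := isIntegral_det M hM
  have hmem : M.det ∈ RingHom.range (MvPolynomial.map (algebraMap A K)) :=
    MvPolynomial.mem_range_map_iff_coeffs_subset.mpr fun c hc => by
      obtain ⟨d, -, rfl⟩ := MvPolynomial.mem_coeffs_iff.1 hc
      exact IsIntegrallyClosed.isIntegral_iff.mp (MvPolynomial.isIntegral_iff_isIntegral_coeff.1 hdet d)
  exact hmem

end

/-- Let k be a field, A an integrally closed domain over k with fraction field K, L a finite extension
of K, B the integral closure of A in L, and R an arbitrary commutative k-algebra; view L ⊗_k R as an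
algebra over K ⊗_k R through K → L. Then L ⊗_k R is finite free over K ⊗_k R, so the norm
(determinant of multiplication) L ⊗_k R → K ⊗_k R is defined; the norm of any element β of B ⊗_k R
(mapped into L ⊗_k R) lies in the image of A ⊗_k R; and β is a nonzerodivisor in B ⊗_k R if and only
if its norm is a nonzerodivisor in K ⊗_k R. (Nonzerodivisors of A ⊗_k R are exactly its elements
that are nonzerodivisors in K ⊗_k R, the latter being a localisation of the former at
nonzerodivisors, so this is the source's formulation with the norm regarded in A ⊗_k R.) -/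
theorem result (k A K L R : Type u) [Field k]
    [CommRing A] [IsDomain A] [IsIntegrallyClosed A] [Algebra k A]
    [Field K] [Algebra A K] [IsFractionRing A K] [Algebra k K] [IsScalarTower k A K]
    [Field L] [Algebra K L] [FiniteDimensional K L] [Algebra A L] [IsScalarTower A K L]
    [Algebra k L] [IsScalarTower k K L] [IsScalarTower k A L]
    [CommRing R] [Algebra k R] :
    letI : Algebra (K ⊗[k] R) (L ⊗[k] R) :=
      (Algebra.TensorProduct.map (IsScalarTower.toAlgHom k K L) (AlgHom.id k R)).toRingHom.toAlgebra
    Module.Free (K ⊗[k] R) (L ⊗[k] R) ∧ Module.Finite (K ⊗[k] R) (L ⊗[k] R) ∧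
      ∀ b : (integralClosure A L) ⊗[k] R,
        Algebra.norm (K ⊗[k] R)
            (Algebra.TensorProduct.map ((integralClosure A L).val.restrictScalars k) (AlgHom.id k R) b) ∈
          Set.range (Algebra.TensorProduct.map (IsScalarTower.toAlgHom k A K) (AlgHom.id k R)) ∧
        (IsRegular b ↔ IsRegular (Algebra.norm (K ⊗[k] R)
            (Algebra.TensorProduct.map ((integralClosure A L).val.restrictScalars k) (AlgHom.id k R) b))) := by
  classical
  letI algKL : Algebra (K ⊗[k] R) (L ⊗[k] R) :=
    (Algebra.TensorProduct.map (IsScalarTower.toAlgHom k K L) (AlgHom.id k R)).toRingHom.toAlgebra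
  let ι := Module.Free.ChooseBasisIndex K L
  let b : Module.Basis ι K L := Module.Free.chooseBasis K L
  have hsmul : ∀ (x : K ⊗[k] R) (z : L ⊗[k] R), x • z =
      Algebra.TensorProduct.map (IsScalarTower.toAlgHom k K L) (AlgHom.id k R) x * z := fun _ _ => rfl
  let f : (ι → K ⊗[k] R) →ₗ[K ⊗[k] R] L ⊗[k] R := Fintype.linearCombination _ (fun i => b i ⊗ₜ[k] (1 : R))
  have hf : ∀ c, f c = ∑ i, c i • (b i ⊗ₜ[k] (1 : R)) := fun c => Fintype.linearCombination_apply _ _ c
  let g : L ⊗[k] R →ₗ[k] (ι → K ⊗[k] R) := LinearMap.pi fun i =>
    TensorProduct.map (((b.coord i).restrictScalars k)) LinearMap.id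
  have hgf : ∀ (c : ι → K ⊗[k] R), g (f c) = c := by
    intro c
    funext i
    rw [hf, map_sum, Finset.sum_apply, Finset.sum_eq_single i]
    · generalize c i = x
      rw [hsmul]
      induction x using TensorProduct.induction_on with
      | zero => simp
      | tmul a r => simp [g, ← Algebra.smul_def]
      | add x y hx hy => simp only [map_add, add_mul, Pi.add_apply, hx, hy]
    · intro j _ hj
      generalize c j = x
      rw [hsmul]
      induction x using TensorProduct.induction_on with
      | zero => simp
      | tmul a r => simp [g, ← Algebra.smul_def, hj]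
      | add x y hx hy => simp only [map_add, add_mul, Pi.add_apply, hx, hy, add_zero]
    · exact fun h => absurd (Finset.mem_univ i) h
  have hfg : Function.Surjective f := by
    intro z
    induction z using TensorProduct.induction_on with
    | zero => exact ⟨0, map_zero _⟩
    | tmul l r =>
      refine ⟨fun i => b.repr l i ⊗ₜ[k] r, ?_⟩
      rw [hf]
      simp only [hsmul, Algebra.TensorProduct.map_tmul, Algebra.TensorProduct.tmul_mul_tmul,
        IsScalarTower.coe_toAlgHom', AlgHom.id_apply, mul_one, ← Algebra.smul_def, ← TensorProduct.sum_tmul,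
        b.sum_repr]
    | add x y hx hy =>
      obtain ⟨c, rfl⟩ := hx; obtain ⟨d, rfl⟩ := hy
      exact ⟨c + d, map_add _ _ _⟩
  let e : (ι → K ⊗[k] R) ≃ₗ[K ⊗[k] R] L ⊗[k] R :=
    LinearEquiv.ofBijective f ⟨Function.LeftInverse.injective hgf, hfg⟩
  let B := Module.Basis.ofEquivFun e.symm
  have hBg : ∀ z i, B.repr z i = g z i := by
    intro z i
    obtain ⟨c, rfl⟩ := hfg z
    rw [hgf]
    show e.symm (e c) i = c i
    rw [e.symm_apply_apply]
  have hBb : ∀ i, B i = b i ⊗ₜ[k] (1 : R) := by
    intro i
    simp only [B, Module.Basis.coe_ofEquivFun, LinearEquiv.symm_symm]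
    show f (Pi.single i 1) = _
    simp [f]
  refine ⟨Module.Free.of_basis B, Module.Finite.of_basis B, fun β => ?_⟩
  set incl := Algebra.TensorProduct.map ((integralClosure A L).val.restrictScalars k) (AlgHom.id k R) with hincl
  set Mx := Algebra.leftMulMatrix B (incl β) with hMx
  have hnorm : Algebra.norm (K ⊗[k] R) (incl β) = Mx.det := Algebra.norm_eq_matrix_det B _
  constructor
  · obtain ⟨S, hS⟩ := TensorProduct.exists_finset β
    let l : ↥S → L := fun j => ((j.1.1 : integralClosure A L) : L)
    obtain ⟨D, hD⟩ := normForm_mem A K L b l (fun j => j.1.1.2)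
    set jA := Algebra.TensorProduct.map (IsScalarTower.toAlgHom k A K) (AlgHom.id k R)
    let θA : MvPolynomial ↥S A →+* A ⊗[k] R := MvPolynomial.eval₂Hom
      Algebra.TensorProduct.includeLeftRingHom (fun j => (1 : A) ⊗ₜ[k] (j.1.2 : R))
    let θ : MvPolynomial ↥S K →+* K ⊗[k] R := MvPolynomial.eval₂Hom
      Algebra.TensorProduct.includeLeftRingHom (fun j => (1 : K) ⊗ₜ[k] (j.1.2 : R))
    refine ⟨θA D, ?_⟩
    have hθ : jA.toRingHom.comp θA = θ.comp (MvPolynomial.map (algebraMap A K)) := by
      refine MvPolynomial.ringHom_ext (fun a => ?_) (fun j => ?_) <;> simp [jA, θA, θ]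
    rw [hnorm]
    refine (RingHom.congr_fun hθ D).trans ?_
    rw [RingHom.comp_apply, hD, RingHom.map_det]
    congr 1
    have hx : incl β = ∑ j : ↥S, l j ⊗ₜ[k] (j.1.2 : R) := by
      rw [hS, map_sum, ← Finset.sum_coe_sort]
      rfl
    refine Matrix.ext fun i i' => ?_
    rw [RingHom.mapMatrix_apply, Matrix.map_apply, Matrix.sum_apply, map_sum, hMx, hx,
      Algebra.leftMulMatrix_eq_repr_mul, Finset.sum_mul, map_sum, Finsupp.finsetSum_apply]
    refine Finset.sum_congr rfl fun j _ => ?_
    rw [hBg, hBb, Algebra.TensorProduct.tmul_mul_tmul, mul_one]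
    simp only [Matrix.smul_apply, Matrix.map_apply, smul_eq_mul, map_mul, θ, MvPolynomial.eval₂Hom_X',
      MvPolynomial.eval₂Hom_C, g, LinearMap.pi_apply, TensorProduct.map_tmul, Algebra.leftMulMatrix_eq_repr_mul,
      Algebra.TensorProduct.includeLeftRingHom_apply, Algebra.TensorProduct.tmul_mul_tmul, one_mul, mul_one,
      LinearMap.id_apply]
    rfl
  · rw [hnorm]
    have hinj : Function.Injective incl :=
      Module.Flat.rTensor_preserves_injective_linearMap
        (((integralClosure A L).val.restrictScalars k).toLinearMap) Subtype.val_injective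
    have hden : ∀ z : L ⊗[k] R, ∃ a : A, a ≠ 0 ∧
        (algebraMap A L a) ⊗ₜ[k] (1 : R) * z ∈ Set.range incl := by
      intro z
      induction z using TensorProduct.induction_on with
      | zero => exact ⟨1, one_ne_zero, 0, by simp⟩
      | tmul x r =>
        obtain ⟨⟨c, hc⟩, a, ha, hca⟩ : ∃ c : integralClosure A L, ∃ a : A, a ≠ 0 ∧
            (c : L) = algebraMap A L a * x := by
          have halg : IsAlgebraic A x :=
            (IsFractionRing.isAlgebraic_iff A K L).2 (Algebra.IsAlgebraic.isAlgebraic x)
          obtain ⟨a, ha, hint⟩ := halg.exists_integral_multiple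
          exact ⟨⟨a • x, hint⟩, a, ha, Algebra.smul_def a x⟩
        exact ⟨a, ha, ⟨c, hc⟩ ⊗ₜ r, by simp [hincl, show c = algebraMap A L a * x from hca]⟩
      | add x y hx hy =>
        obtain ⟨a, ha, u, hu⟩ := hx
        obtain ⟨a', ha', v, hv⟩ := hy
        refine ⟨a * a', mul_ne_zero ha ha',
          (algebraMap A (integralClosure A L) a') ⊗ₜ[k] (1 : R) * u +
          (algebraMap A (integralClosure A L) a) ⊗ₜ[k] (1 : R) * v, ?_⟩
        rw [map_add incl, map_mul incl, map_mul incl, hu, hv]
        simp only [hincl, Algebra.TensorProduct.map_tmul, AlgHom.id_apply, map_mul]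
        rw [← mul_assoc, ← mul_assoc, Algebra.TensorProduct.tmul_mul_tmul,
          Algebra.TensorProduct.tmul_mul_tmul, mul_add, mul_one]
        simp only [AlgHom.coe_restrictScalars', Subalgebra.coe_val]
        erw [mul_comm (algebraMap A L a')]
        rfl
    have hreg : IsRegular β ↔ Function.Injective Mx.mulVecLin := by
      have h1 : IsRegular β ↔ ∀ z : L ⊗[k] R, incl β * z = 0 → z = 0 := by
        constructor
        · intro hβ z hz
          obtain ⟨a, ha, w, hw⟩ := hden z
          have hw0 : w = 0 := hβ.left (show β * w = β * 0 from hinj (by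
            rw [map_mul, hw, mul_zero, map_zero, mul_left_comm, hz, mul_zero]))
          rw [hw0, map_zero] at hw
          have hu : IsUnit ((algebraMap A L a) ⊗ₜ[k] (1 : R)) := by
            have : IsUnit (algebraMap A L a) := by
              rw [isUnit_iff_ne_zero, IsScalarTower.algebraMap_apply A K L]
              exact (map_ne_zero_iff _ (algebraMap K L).injective).2
                ((map_ne_zero_iff _ (IsFractionRing.injective A K)).2 ha)
            exact this.map (Algebra.TensorProduct.includeLeftRingHom (R := k) (B := R))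
          exact hu.mul_right_eq_zero.1 hw.symm
        · intro h
          refine (Commute.isRegular_iff (Commute.all _)).2 fun x y hxy => sub_eq_zero.1 ?_
          apply hinj
          rw [map_zero]
          refine h _ ?_
          rw [← map_mul, mul_sub, sub_eq_zero.2 hxy, map_zero]
      rw [h1, injective_iff_map_eq_zero]
      constructor
      · intro h v hv
        have h0 : f v = 0 := h _ (B.repr.injective (Finsupp.ext fun i => by
          have := congrFun hv i
          rw [map_zero, Finsupp.zero_apply]
          rw [Matrix.mulVecLin_apply, Pi.zero_apply] at this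
          rw [← this, hMx, Matrix.mulVec, dotProduct, hf, Finset.mul_sum, map_sum, Finsupp.finsetSum_apply]
          refine Finset.sum_congr rfl fun j _ => ?_
          rw [Algebra.leftMulMatrix_eq_repr_mul, mul_smul_comm, map_smul, Finsupp.smul_apply, smul_eq_mul, hBb,
            mul_comm]))
        exact (Function.LeftInverse.injective hgf) (by rw [h0, map_zero])
      · intro h z hz
        have := h (B.equivFun z) (by
          rw [Matrix.mulVecLin_apply, hMx]
          have := Algebra.leftMulMatrix_mulVec_repr B (incl β) z
          rw [hz, map_zero] at this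
          exact this)
        exact B.equivFun.injective (by rw [this, map_zero])
    rw [hreg]
    obtain ⟨m, ⟨em⟩⟩ : ∃ m, Nonempty (ι ≃ Fin m) := ⟨_, ⟨Fintype.equivFin ι⟩⟩
    have hM' : Function.Injective Mx.mulVecLin ↔
        Function.Injective (Mx.submatrix em.symm em.symm).mulVecLin := by
      constructor
      · intro h v w hvw
        have := @h (v ∘ em) (w ∘ em) (funext fun i => by
          have := congrFun hvw (em i)
          simpa [Matrix.mulVecLin_apply, Matrix.submatrix_mulVec_equiv] using this)
        exact funext fun j => by simpa using congrFun this (em.symm j)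
      · intro h v w hvw
        have := @h (v ∘ em.symm) (w ∘ em.symm) (funext fun i => by
          have := congrFun hvw (em.symm i)
          simpa [Matrix.mulVecLin_apply, Matrix.submatrix_mulVec_equiv, Function.comp_assoc] using this)
        exact funext fun j => by simpa using congrFun this (em j)
    let Me : Matrix (Fin m) (Fin m) (K ⊗[k] R) := Mx.submatrix em.symm em.symm
    have hdet : Mx.det = Me.det := (Matrix.det_submatrix_equiv_self em.symm Mx).symm
    rw [hM', hdet]
    constructor
    · intro h
      have hann := (McCoy.injective_iff Me).1 h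
      refine (Commute.isRegular_iff (Commute.all _)).2 fun x y hxy => sub_eq_zero.1 ?_
      have : x - y ∈ (CAlgX.minorIdeal Me m).annihilator := by
        rw [McCoy.mem_annihilator_minorIdeal]
        intro f' g'
        have hp := McCoy.det_submatrix_perm Me
        by_cases hfi : Function.Injective f'
        · let ef := Equiv.ofBijective f' (Finite.injective_iff_bijective.1 hfi)
          obtain ⟨c, hc⟩ := Ideal.mem_span_singleton'.1 (hp f' g')
          have hrow : (Me.submatrix f' id).det = ((Equiv.Perm.sign ef : ℤ) : K ⊗[k] R) * Me.det :=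
            Matrix.det_permute ef Me
          rw [← hc, hrow]
          linear_combination (c * ((Equiv.Perm.sign ef : ℤ) : K ⊗[k] R)) * hxy
        · simp only [Function.Injective, not_forall] at hfi
          obtain ⟨i, j, hij, hne⟩ := hfi
          rw [Matrix.det_zero_of_row_eq hne (funext fun l => by simp [hij]), mul_zero]
      rw [hann] at this
      exact this
    · intro h
      exact Matrix.mulVec_injective_of_det_mem_nonZeroDivisors (isRegular_iff_mem_nonZeroDivisors.1 h)

end Groth.Agent.S17376
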