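import Groth.Statements.S17377
import Groth.Agent.BlowUpLib.Local
import Groth.Agent.S4808

set_option autoImplicit false
universe u
open CategoryTheory CategoryTheory.Limits AlgebraicGeometry
open Variety

namespace Groth.Agent.S17377

set_option backward.isDefEq.respectTransparency false
set_option backward.isDefEq.respectTransparency.types false

/-- An integral closed subscheme which is open in an effective Cartier divisor is effective Cartier. -/
theorem isEffCartier_of_openImmersion {Y : Scheme.{u}} [IsIntegral Y] {I E : Y.IdealSheafData}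
    (hI : FGA.IsEffCartier I) (i : E.subscheme ⟶ I.subscheme) [IsOpenImmersion i]
    (hi : i ≫ I.subschemeι = E.subschemeι) : FGA.IsEffCartier E := by
  have hsub : ∀ (W : Y.affineOpens), Nonempty (W : Y.Opens) → ∀ a : Γ(Y, W), a ≠ 0 → a ∈ nonZeroDivisors Γ(Y, W) :=
    fun W hW a ha => mem_nonZeroDivisors_of_ne_zero ha
  intro y
  by_cases hy : y ∈ E.support
  swap
  · obtain ⟨W, hW, hyW, hWc⟩ := exists_isAffineOpen_mem_and_subset
      (U := (⟨(E.support : Set Y)ᶜ, E.support.isClosed.isOpen_compl⟩ : Y.Opens)) hy
    refine ⟨⟨W, hW⟩, hyW, 1, one_mem _, ?_⟩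
    rw [Ideal.span_singleton_one, ← E.ker_subschemeι_app ⟨W, hW⟩]
    haveI : IsEmpty ↥(E.subschemeι ⁻¹ᵁ W) := ⟨fun z => hWc z.2 (by
      rw [← Scheme.IdealSheafData.range_subschemeι]
      exact ⟨z.1, rfl⟩)⟩
    have hbot : E.subschemeι ⁻¹ᵁ W = ⊥ := by
      ext z
      simp only [TopologicalSpace.Opens.coe_bot, Set.mem_empty_iff_false, iff_false]
      exact fun h => IsEmpty.false (⟨z, h⟩ : ↥(E.subschemeι ⁻¹ᵁ W))
    refine eq_top_iff.2 fun a _ => ?_
    rw [RingHom.mem_ker]
    haveI : Subsingleton Γ(E.subscheme, E.subschemeι ⁻¹ᵁ W) := by rw [hbot]; infer_instance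
    exact Subsingleton.elim _ _
  obtain ⟨U, hyU, a, ha, hU⟩ := hI y
  obtain ⟨V, hVo, hV⟩ := I.subschemeι.isClosedEmbedding.isEmbedding.isInducing.isOpen_iff.1 i.opensRange.isOpen
  have hyV : y ∈ V := by
    rw [← SetLike.mem_coe, ← Scheme.IdealSheafData.range_subschemeι] at hy
    obtain ⟨e, rfl⟩ := hy
    have h1 : i e ∈ I.subschemeι ⁻¹' V := hV.symm ▸ (⟨e, rfl⟩ : i e ∈ Set.range i)
    rw [← hi, Scheme.Hom.comp_apply]
    exact h1
  obtain ⟨b, hbV, hyb⟩ := U.2.exists_basicOpen_le (V := ⟨V, hVo⟩) ⟨y, hyV⟩ hyU
  let W := Y.affineBasicOpen (U := U) b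
  have hWne : Nonempty (W : Y.Opens) := ⟨⟨y, hyb⟩⟩
  let r := (Y.presheaf.map (homOfLE (Y.basicOpen_le b)).op).hom
  haveI : Nonempty (U : Y.Opens) := ⟨⟨y, hyU⟩⟩
  haveI : Nonempty (Y.basicOpen b) := ⟨⟨y, hyb⟩⟩
  refine ⟨W, hyb, r a, hsub W hWne _ fun h0 => nonZeroDivisors.ne_zero ha
    (map_injective_of_isIntegral Y (homOfLE (Y.basicOpen_le b)) (h0.trans (map_zero _).symm)), ?_⟩
  have heq : E.ideal W = I.ideal W := by
    rw [← E.ker_subschemeι_app W, ← I.ker_subschemeι_app W]
    have hle : I.subschemeι ⁻¹ᵁ (W : Y.Opens) ≤ i.opensRange := fun z hz => by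
      have : z ∈ I.subschemeι ⁻¹' V := hbV hz
      rwa [hV] at this
    haveI : IsIso (i.app (I.subschemeι ⁻¹ᵁ (W : Y.Opens))) := i.isIso_app _ hle
    have key : ∀ j, i ≫ I.subschemeι = j →
        RingHom.ker (j.app W).hom = RingHom.ker (I.subschemeι.app W).hom := by
      rintro _ rfl
      rw [Scheme.Hom.comp_app, CommRingCat.hom_comp]
      ext x
      simp only [RingHom.mem_ker, RingHom.comp_apply]
      exact map_eq_zero_iff _ ((ConcreteCategory.bijective_of_isIso _).1)
    exact key _ hi
  rw [heq, show I.ideal W = (I.ideal U).map r from (I.map_ideal_basicOpen U b).symm, hU, Ideal.map_span,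
    Set.image_singleton]
  rfl

/-- Let X and Y be integral normal schemes locally of finite type over a field k and f : Y → X a finite
étale k-morphism; let D ⊆ X be a closed subscheme which is an effective Cartier divisor and is
integral and normal as a scheme, and E ⊆ Y an integral closed subscheme mapping to D by a surjective
morphism g compatible with the inclusions whose residue-field extension at the generic point of E
has degree 1 (so E is a prime divisor of Y over D with the same function field: D splits in Y at the
level of Weil divisors). Then g is an isomorphism and E is an effective Cartier divisor on Y; in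
particular D is the image of the relative Cartier divisor E (D is c-split). (The source works with
projective, geometrically normal and geometrically integral X, Y of dimension at least 2 and
geometrically normal, geometrically integral D; those hypotheses only serve base change to extension
fields and are dropped here.) -/
theorem result (k : Type u) [Field k] (X Y : Scheme.{u})
    [X.Over (Spec (CommRingCat.of k))] [Y.Over (Spec (CommRingCat.of k))]
    [LocallyOfFiniteType (X ↘ Spec (CommRingCat.of k))] [LocallyOfFiniteType (Y ↘ Spec (CommRingCat.of k))]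
    [IsIntegral X] [IsIntegral Y] (hX : Pi1.IsNormalScheme X) (hY : Pi1.IsNormalScheme Y)
    (f : Y ⟶ X) (hf : f ≫ (X ↘ Spec (CommRingCat.of k)) = Y ↘ Spec (CommRingCat.of k)) [IsFinite f] [Etale f]
    (D : X.IdealSheafData) (hD : FGA.IsEffCartier D) [IsIntegral D.subscheme] (hDn : Pi1.IsNormalScheme D.subscheme)
    (E : Y.IdealSheafData) [IsIntegral E.subscheme]
    (g : (E.subscheme : Scheme.{u}) ⟶ D.subscheme) (hg : g ≫ D.subschemeι = E.subschemeι ≫ f)
    (hsurj : Function.Surjective g.base) (hdeg : g.residueDegree (genericPoint E.subscheme) = 1) :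
    IsIso g ∧ FGA.IsEffCartier E := by
  haveI : IsFinite (g ≫ D.subschemeι) := hg ▸ inferInstance
  haveI : IsFinite g := IsFinite.of_comp g D.subschemeι
  have hgen : g (genericPoint E.subscheme) = genericPoint D.subscheme := by
    refine IsGenericPoint.eq ?_ (genericPoint_spec D.subscheme)
    have := (genericPoint_spec E.subscheme).image g.continuous
    rwa [Set.image_univ, hsurj.range_eq, closure_univ] at this
  haveI : IsIso g := by
    refine S4808.result (fun y => (hDn y).2) g hgen ?_
    rw [ConcreteCategory.isIso_iff_bijective]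
    let η := genericPoint E.subscheme
    letI := (g.residueFieldMap η).hom.toAlgebra
    have hb : Function.Bijective (g.residueFieldMap η).hom :=
      Algebra.finrank_eq_one_iff_bijective_algebraMap.1 hdeg
    have hD : IsField (D.subscheme.presheaf.stalk (g η)) := by
      rw [hgen]; exact Field.toIsField D.subscheme.functionField
    have hE : IsField (E.subscheme.presheaf.stalk η) := Field.toIsField E.subscheme.functionField
    letI := hD.toField
    letI := hE.toField
    refine ⟨(g.stalkMap η).hom.injective, fun v => ?_⟩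
    obtain ⟨w, hw⟩ := hb.2 ((E.subscheme.residue η).hom v)
    obtain ⟨w, rfl⟩ := D.subscheme.residue_surjective (g η) w
    refine ⟨w, (E.subscheme.residue η).hom.injective ?_⟩
    rw [← hw]
    exact DFunLike.congr_fun (congrArg CommRingCat.Hom.hom (Scheme.residue_residueFieldMap g η).symm) w
  refine ⟨inferInstance, ?_⟩
  let P := D.comap f
  have hP : FGA.IsEffCartier P := BlowUpLib.isEffCartier_comap_flat f hD
  let i : E.subscheme ⟶ P.subscheme := pullback.lift E.subschemeι g hg.symm ≫ (D.comapIso f).inv
  have hi : i ≫ P.subschemeι = E.subschemeι := by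
    rw [Category.assoc, Scheme.IdealSheafData.comapIso_inv_subschemeι, pullback.lift_fst]
  haveI : IsClosedImmersion i := by
    haveI : IsClosedImmersion (i ≫ P.subschemeι) := hi ▸ inferInstance
    exact IsClosedImmersion.of_comp i P.subschemeι
  haveI : Etale i := by
    have h1 : i ≫ (D.comapIso f).hom ≫ pullback.snd f D.subschemeι = g := by
      rw [Category.assoc, Iso.inv_hom_id_assoc, pullback.lift_snd]
    haveI : Etale ((D.comapIso f).hom ≫ pullback.snd f D.subschemeι) := inferInstance
    haveI : Etale (i ≫ (D.comapIso f).hom ≫ pullback.snd f D.subschemeι) := by rw [h1]; infer_instance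
    exact Etale.of_comp i ((D.comapIso f).hom ≫ pullback.snd f D.subschemeι)
  haveI : IsOpenImmersion i := IsOpenImmersion.of_flat_of_mono i
  exact isEffCartier_of_openImmersion hP i hi

end Groth.Agent.S17377
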