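import Groth.Statements.S1738
import Groth.Agent.GrLib8.FaltingsDual.S2ify
-- import your own Groth.Agent.* helpers here

set_option autoImplicit false
universe u
open CategoryTheory
attribute [local instance] HasDerivedCategory.standard
open LocCoh

namespace Groth.Agent.S1738

/-- Let A be a Noetherian ring with a dualizing complex, T' ⊆ Spec A stable under specialization, and M
a finite A-module such that depth(M_p) ≥ 1 whenever q covers p in Spec A with q in T' and p outside
T'. Then there are a finite A-module M'' and a map M → M'' which is bijective after localizing at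
every prime outside T' and such that M''_p has depth ≥ 2 for every p in T'. (The source: coherent
modules on a Noetherian scheme locally having a dualizing complex, with uniqueness and a pullback
clause.) -/
theorem result (A : Type u) [CommRing A] [IsNoetherianRing A] (hA : ∃ ω : Dual.D A, Dual.IsDualizing A ω) (T' : Set (PrimeSpectrum A)) (hT : StableUnderSpecialization T') (M : Type u) [AddCommGroup M] [Module A M] [Module.Finite A M] (hM : ∀ p q : PrimeSpectrum A, p ⋖ q → q ∈ T' → p ∉ T' → 1 ≤ LocCoh.depth (Localization.AtPrime p.asIdeal) (LocalizedModule p.asIdeal.primeCompl M)) : ∃ (M'' : Type u) (_ : AddCommGroup M'') (_ : Module A M'') (_ : Module.Finite A M'') (f : M →ₗ[A] M''), (∀ p : PrimeSpectrum A, p ∉ T' → Function.Bijective (LocalizedModule.map p.asIdeal.primeCompl f)) ∧ ∀ p : PrimeSpectrum A, p ∈ T' → 2 ≤ LocCoh.depth (Localization.AtPrime p.asIdeal) (LocalizedModule p.asIdeal.primeCompl M'') := by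
  exact Groth.Agent.GrLib8.FaltingsDual.exists_depth_two hA T' hT M hM

end Groth.Agent.S1738
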