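import Groth.Statements.S17380
import Groth.Agent.Lib.NumTrivAny
import Groth.Agent.Lib.AsympCoh
import Groth.Agent.Lib.BigVol
import Groth.Agent.Nakai.Big

set_option autoImplicit false
set_option backward.isDefEq.respectTransparency false
set_option backward.isDefEq.respectTransparency.types false
set_option linter.style.haveILetI false
set_option linter.unusedSectionVars false
set_option maxHeartbeats 400000
universe u
open CategoryTheory CategoryTheory.Limits AlgebraicGeometry
open scoped ENNReal
open Variety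

namespace Groth.Agent.S17380

/-- Let X be a geometrically integral scheme of dimension d, proper over a field k and admitting an
ample invertible module, and L an invertible module on X which is big, i.e. the lower limit of dim_k
H^0(X, L^m)/m^d as m → ∞ is positive. Then some power L^a, a > 0, is such that H^0(X, L^(aj) ⊗ N) ≠
0 for every j > 0 and every numerically trivial invertible module N (degree zero on every integral
closed one-dimensional subscheme); in other words every invertible module numerically equivalent to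
L^(aj) comes from an effective divisor. (The published statement asserts this for all sufficiently
large powers of L; its printed reduction to an ample module yields one power a and its multiples,
which is what is stated.) -/
theorem result (k : Type u) [Field k] (X : Scheme.{u})
    [X.Over (Spec (CommRingCat.of k))] [IsIntegral X] [GeometricallyIntegral (X ↘ Spec (CommRingCat.of k))]
    [IsProper (X ↘ Spec (CommRingCat.of k))] (hproj : ∃ A : X.Modules, CohB1.IsAmple A)
    (d : ℕ) (hd : topologicalKrullDim X = d) (L : X.Modules) (hL : PicF.IsInvertible L)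
    (hbig : 0 < Filter.liminf (fun m : ℕ => (Module.finrank k (Coh.HH X (CohB1.tensorPow L m) 0) : ℝ≥0∞) /
        (m : ℝ≥0∞) ^ d) Filter.atTop) :
    ∃ a : ℕ, 0 < a ∧ ∀ j : ℕ, 0 < j → ∀ N : X.Modules, PicF.IsInvertible N → Pic13.IsNumEquivZero k X N →
      0 < Module.finrank k (Coh.HH X (CohB1.tensorMod (CohB1.tensorPow L (a * j)) N) 0) := by
  haveI := Groth.Agent.CurveCohLib.isNoetherian_of_proper (k := k) (X := X)
  obtain ⟨H, hH⟩ := hproj
  have hord := Groth.Agent.AsympCoh.isOrd_pow k hd.le hL 0
  have hpos : 0 < Filter.limsup (Groth.Agent.AsympCoh.nseq 1 d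
      (fun m => Module.finrank k (Coh.HH X (CohB1.tensorPow L m) 0))) Filter.atTop := by
    have h1 := lt_of_lt_of_le hbig (Filter.liminf_le_limsup)
    rw [Groth.Agent.AsympCoh.limsup_ennreal hord] at h1
    exact ENNReal.ofReal_pos.1 h1
  obtain ⟨d₀, hd₀⟩ := Groth.Agent.NumTrivTw.exists_h0_eq k hH
  obtain ⟨a₀, ha₀, hgen⟩ := Groth.Agent.NefBig.exists_generated k hH
  let A := CohB1.tensorPow H (d₀ + a₀)
  have hA : CohB1.IsAmple A := Groth.Agent.AmpleX.isAmple_tensorPow hH (by omega)
  obtain ⟨a, φ, ha, hφ⟩ := Groth.Agent.BigVol.exists_mono_ample k hd hL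
    (Groth.Agent.BigVol.oftenGrows_of_limsup_pos zero_le_one hpos) hA
  obtain ⟨A', hA', ⟨eA⟩⟩ := Groth.Agent.H23.PicInv.exists_inverse hA.1
  let B := CohB1.tensorMod (CohB1.tensorPow L a) A'
  have hB : PicF.IsInvertible B :=
    Groth.Agent.InvX.isInvertible_tensorMod (Groth.Agent.InvX.isInvertible_tensorPow hL a) hA'
  open scoped Groth.Agent.H23.PicMul in
  have hAA : PicF.cl A * PicF.cl A' = 1 := by
    rw [← Groth.Agent.H23.PicMul.cl_tensor, Groth.Agent.H23.PicMul.one_def]
    exact Groth.Agent.H23.PicMul.cl_eq_iff.2 ⟨eA⟩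
  haveI := hφ
  obtain ⟨g, hg⟩ := Groth.Agent.NefBig.mono_twist φ hA'
  obtain ⟨f, hf⟩ : ∃ f : Coh.structureModule X ⟶ B, Mono f :=
    ⟨eA.inv ≫ g, haveI := hg; CategoryTheory.mono_comp _ _⟩
  have hBj : ∀ j, ∃ f : Coh.structureModule X ⟶ CohB1.tensorPow B j, Mono f := by
    intro j
    induction j with
    | zero => exact ⟨𝟙 _, (inferInstance : Mono (𝟙 (Coh.structureModule X)))⟩
    | succ j ih =>
      obtain ⟨fj, hfj⟩ := ih
      haveI := hf
      open scoped Groth.Agent.H23.PicMul in
      obtain ⟨g', hg'⟩ := Groth.Agent.NefBig.mono_of_mono_unit f (Groth.Agent.InvX.isInvertible_tensorPow hB j)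
        (Q := CohB1.tensorPow B (j + 1)) (by
          rw [Groth.Agent.H23.PicMul.cl_tensorPow, Groth.Agent.H23.PicMul.cl_tensorPow, pow_succ'])
      exact ⟨fj ≫ g', haveI := hfj; haveI := hg'; CategoryTheory.mono_comp _ _⟩
  refine ⟨a, ha, fun j hj N hN hNT => ?_⟩
  obtain ⟨fj, hfj⟩ := hBj j
  let P := CohB1.tensorMod (CohB1.tensorPow H ((d₀ + a₀) * j)) N
  have hP : PicF.IsInvertible P :=
    Groth.Agent.InvX.isInvertible_tensorMod (Groth.Agent.InvX.isInvertible_tensorPow hH.1 _) hN
  haveI := hfj
  open scoped Groth.Agent.H23.PicMul in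
  obtain ⟨ψ, hψ⟩ := Groth.Agent.NefBig.mono_of_mono_unit fj hP
    (Q := CohB1.tensorMod (CohB1.tensorPow L (a * j)) N) (by
      simp only [P, B, Groth.Agent.H23.PicMul.cl_tensor, Groth.Agent.H23.PicMul.cl_tensorPow, mul_pow, ← pow_mul]
      rw [pow_mul (PicF.cl H), show PicF.cl H ^ (d₀ + a₀) = PicF.cl A from
        (Groth.Agent.H23.PicMul.cl_tensorPow _ _).symm, mul_assoc, ← mul_assoc (PicF.cl A' ^ j), ← mul_pow,
        mul_comm (PicF.cl A'), hAA, one_pow, one_mul])
  haveI := hψ
  have hle : d₀ + a₀ ≤ (d₀ + a₀) * j := Nat.le_mul_of_pos_right _ hj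
  have h2 := hd₀ ((d₀ + a₀) * j) (by omega) N ⟨hN, hNT⟩
  obtain ⟨s, hs⟩ := Groth.Agent.NefBig.exists_section_of_generated
    (Groth.Agent.InvX.isInvertible_tensorPow hH.1 _) (hgen ((d₀ + a₀) * j) (by omega))
  haveI := Groth.Agent.CurveAmple.nontrivial_h0 hs
  haveI := Groth.Agent.CurveCohLib.finite_HH (k := k)
    (Groth.Agent.AmpleVan.isCoh_invertible (Groth.Agent.InvX.isInvertible_tensorPow hH.1 ((d₀ + a₀) * j))) 0
  refine lt_of_lt_of_le ?_ (Groth.Agent.NefBig.h0_le_of_mono ψ
    (Groth.Agent.AmpleVan.isCoh_invertible (Groth.Agent.InvX.isInvertible_tensorMod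
      (Groth.Agent.InvX.isInvertible_tensorPow hL _) hN)))
  show 0 < Module.finrank k _
  rw [h2]
  exact Module.finrank_pos

end Groth.Agent.S17380
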