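import Groth.Statements.S17386
import Groth.Agent.BlowSep17.Strict

set_option backward.isDefEq.respectTransparency false
set_option backward.isDefEq.respectTransparency.types false
set_option linter.style.haveILetI false
-- import your own Groth.Agent.* helpers here

set_option autoImplicit false
universe u
open BlowUp

namespace Groth.Agent.S17386

open AlgebraicGeometry CategoryTheory Limits in
/-- Let X be any scheme, J_1, …, J_n quasi-coherent ideals on X with closed subschemes Y_i, and b : X' →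
X a blowing up of X in the ideal J_1 + ⋯ + J_n of the intersection of the Y_i. For each i let b_i' :
Y_i' → Y_i be a blowing up of Y_i in the inverse image of J_1 + ⋯ + J_n and k_i : Y_i' → X' the
morphism with k_i ≫ b = b_i' ≫ (Y_i → X), so that the image of k_i is the strict transform of Y_i.
Then the strict transforms have empty common intersection: no point of X' lies in the image of every
k_i. -/
theorem result
    {X X' : Scheme.{u}} {n : ℕ} (𝓙 : Fin n → X.IdealSheafData) (b : X' ⟶ X)
    (hb : BlowUp.IsBlowUp b (⨆ i, 𝓙 i))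
    (Y' : Fin n → Scheme.{u}) (b' : ∀ i, Y' i ⟶ (𝓙 i).subscheme)
    (hb' : ∀ i, BlowUp.IsBlowUp (b' i) ((⨆ j, 𝓙 j).comap (𝓙 i).subschemeι))
    (k : ∀ i, Y' i ⟶ X') (hk : ∀ i, k i ≫ b = b' i ≫ (𝓙 i).subschemeι) :
    (⋂ i, Set.range (fun y => k i y)) = (∅ : Set X') := by
  rw [Set.eq_empty_iff_forall_notMem]
  intro x hx
  obtain ⟨W, hxW, t, ht, hJ⟩ := hb.1 x
  let P : Ideal Γ(X', W.1) := (IsLocalRing.maximalIdeal _).comap (X'.presheaf.germ W.1 x hxW).hom
  have hle : ∀ i, ((𝓙 i).comap b).ideal W ≤ P * Ideal.span {t} := by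
    intro i r hr
    have hri : r ∈ ((⨆ j, 𝓙 j).comap b).ideal W :=
      Scheme.IdealSheafData.comap_mono b (le_iSup 𝓙 i) W hr
    rw [hJ] at hri
    obtain ⟨a, rfl⟩ := Ideal.mem_span_singleton'.1 hri
    refine Ideal.mul_mem_mul ?_ (Ideal.mem_span_singleton_self t)
    rw [Ideal.mem_comap, IsLocalRing.mem_maximalIdeal]
    intro hu
    obtain ⟨y, hy⟩ := Set.mem_iInter.1 hx i
    have hyx : k i y = x := hy
    refine BlowSep17.notMem_basicOpen_of_mul_mem (k i) (J := (⨆ j, 𝓙 j).comap b) (K := (𝓙 i).comap b) ?_ ?_ W hJ hr y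
      (by rw [hyx]; exact hxW) (by rw [hyx, X'.mem_basicOpen a x hxW]; exact hu)
    · rw [← Scheme.IdealSheafData.comap_comp, hk, Scheme.IdealSheafData.comap_comp]
      exact (hb' i).1
    · rw [← Scheme.IdealSheafData.comap_comp, hk, Scheme.IdealSheafData.comap_comp,
        BlowSep17.comap_subschemeι_self, Scheme.IdealSheafData.comap_bot]
  have hsum : Ideal.span {t} ≤ P * Ideal.span {t} := by
    refine le_trans hJ.ge ?_
    have : (⨆ j, 𝓙 j).comap b = ⨆ j, (𝓙 j).comap b := (Scheme.IdealSheafData.map_gc b).l_iSup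
    rw [this, Scheme.IdealSheafData.ideal_iSup, iSup_apply]
    exact iSup_le hle
  obtain ⟨c, hc, hct⟩ := Ideal.mem_mul_span_singleton.1 (hsum (Ideal.mem_span_singleton_self t))
  have hc1 : c = 1 := by
    refine sub_eq_zero.1 ((mem_nonZeroDivisors_iff_right.1 ht) _ ?_)
    rw [sub_mul, hct, one_mul, sub_self]
  subst hc1
  rw [Ideal.mem_comap, map_one] at hc
  exact (IsLocalRing.mem_maximalIdeal _).1 hc isUnit_one

end Groth.Agent.S17386
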