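import Groth.Statements.S17392
import Groth.Agent.S9823
import Groth.Agent.BlowSep17.Basic

set_option backward.isDefEq.respectTransparency false
set_option backward.isDefEq.respectTransparency.types false
set_option linter.style.haveILetI false
-- import your own Groth.Agent.* helpers here

set_option autoImplicit false
universe u
open AlgebraicGeometry CategoryTheory CategoryTheory.Limits
open BlowUp

namespace Groth.Agent.S17392

open AlgebraicGeometry CategoryTheory Limits in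
open AlgebraicGeometry CategoryTheory Limits TopologicalSpace in
/-- A sub ideal sheaf of finite type with support still avoiding a quasi-compact open. -/
theorem exists_fg_sub {X : Scheme.{u}} [CompactSpace X] [QuasiSeparatedSpace X] (J : X.IdealSheafData)
    (U : X.Opens) (hU : IsCompact (U : Set X)) (hJ : Disjoint (J.support : Set X) (U : Set X)) :
    ∃ I : X.IdealSheafData, BlowUp.IsFiniteTypeIdeal I ∧ I ≤ J ∧ Disjoint (I.support : Set X) (U : Set X) := by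
  classical
  have hpt : ∀ x : U, ∃ (V : X.affineOpens) (s : Γ(X, V.1)), s ∈ J.ideal V ∧ (x : X) ∈ X.basicOpen s := by
    intro x
    obtain ⟨V, hV, hxV, -⟩ := exists_isAffineOpen_mem_and_subset (X := X) (x := x.1) (U := ⊤) trivial
    by_contra hne
    refine Set.disjoint_left.1 hJ ((BlowSep17.mem_support_iff_forall J ⟨V, hV⟩ hxV).mpr ?_) x.2
    exact fun s hs hxs => hne ⟨⟨V, hV⟩, s, hs, hxs⟩
  choose V s hs hxs using hpt
  obtain ⟨t, ht⟩ := hU.elim_finite_subcover (fun x : U => (X.basicOpen (s x) : Set X))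
    (fun x => (X.basicOpen (s x)).2) (fun x hx => Set.mem_iUnion.mpr ⟨⟨x, hx⟩, hxs ⟨x, hx⟩⟩)
  choose K hK using fun x : U => Groth.Agent.MorLib.IdealFG.exists_sub_mem J (V x) (hs x)
  obtain ⟨M, hM⟩ := Finset.exists_le (α := Groth.Agent.MorLib.IdealFG.Sub J) (t.image K)
  refine ⟨M.1, M.2.2, M.2.1, Set.disjoint_left.2 fun x hx hxU => ?_⟩
  obtain ⟨y, hy, hxy⟩ := Set.mem_iUnion₂.mp (ht hxU)
  have hxV : x ∈ (V y).1 := X.basicOpen_le _ hxy
  exact (BlowSep17.mem_support_iff_forall M.1 (V y) hxV).mp hx (s y)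
    (Scheme.IdealSheafData.ideal_mono ((hM (K y) (Finset.mem_image_of_mem K hy)) : (K y).1 ≤ M.1) (V y) (hK y)) hxy

/-- Let X₁ and X₂ be quasi-compact quasi-separated schemes, q : X₂ → X₁ a quasi-compact separated
morphism, V₁ ⊆ X₁ a quasi-compact open subscheme and U ⊆ q⁻¹(V₁) an open subscheme of X₂ on which q
restricts to an open immersion (so U is identified with an open of V₁). Let Z₁ ⊆ X₁ be a closed
subset whose open complement is quasi-compact, put Y₁ = Z₁ ∩ V₁, and let Z₂ ⊆ X₂ be a closed subset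
whose open complement is also quasi-compact, with q⁻¹(Y₁) ⊆ Z₂. Then there is a quasi-coherent ideal
E of finite type on X₁ with support contained in Z₁ ∖ V₁ (so that blowing up E is V₁-admissible)
such that, for every blowing up c : X₁' → X₁ of X₁ in E with base change q' : X₂' = X₂ ×_{X₁} X₁' →
X₁' and c₂ : X₂' → X₂, one has q'⁻¹(closure of c⁻¹(Y₁)) ∩ closure(c₂⁻¹(U)) ⊆ c₂⁻¹(Z₂) as subsets of
X₂'. -/
theorem result
    {X₁ X₂ : Scheme.{u}} [CompactSpace X₁] [QuasiSeparatedSpace X₁] [CompactSpace X₂] [QuasiSeparatedSpace X₂]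
    (q : X₂ ⟶ X₁) [QuasiCompact q] [IsSeparated q]
    (V₁ : X₁.Opens) (hV₁ : IsCompact (V₁ : Set X₁))
    (U : X₂.Opens) (hU : U ≤ q ⁻¹ᵁ V₁) [IsOpenImmersion (U.ι ≫ q)]
    (Z₁ : Set X₁) (hZ₁ : IsClosed Z₁) (hZ₁c : IsCompact Z₁ᶜ)
    (Z₂ : Set X₂) (hZ₂ : IsClosed Z₂) (hZ₂c : IsCompact Z₂ᶜ)
    (hYZ : (fun x => q x) ⁻¹' (Z₁ ∩ (V₁ : Set X₁)) ⊆ Z₂) :
    ∃ 𝓔 : X₁.IdealSheafData, BlowUp.IsFiniteTypeIdeal 𝓔 ∧ (𝓔.support : Set X₁) ⊆ Z₁ \ (V₁ : Set X₁) ∧
      ∀ (X₁' : Scheme.{u}) (c : X₁' ⟶ X₁), BlowUp.IsBlowUp c 𝓔 →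
        (fun z => (pullback.snd q c) z) ⁻¹' closure ((fun x => c x) ⁻¹' (Z₁ ∩ (V₁ : Set X₁))) ∩
            closure ((fun z => (pullback.fst q c) z) ⁻¹' (U : Set X₂)) ⊆
          (fun z => (pullback.fst q c) z) ⁻¹' Z₂ := by
  obtain ⟨I₁, hI₁fg, hI₁⟩ := (S9823.result X₁ ⟨Z₁ᶜ, hZ₁.isOpen_compl⟩).1 hZ₁c
  have hI₁' : (I₁.support : Set X₁) = Z₁ := hI₁.trans (compl_compl Z₁)
  let O : X₂.Opens := ⟨Z₂ᶜ, hZ₂.isOpen_compl⟩
  haveI : CompactSpace O.toScheme := isCompact_iff_compactSpace.1 hZ₂c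
  let p := O.ι ≫ q
  haveI : QuasiCompact O.ι := quasiCompact_of_compactSpace O.ι
  haveI : QuasiCompact p := MorphismProperty.comp_mem _ _ _ inferInstance inferInstance
  let J := (I₁.comap p).map p
  have hJd : Disjoint (J.support : Set X₁) (V₁ : Set X₁) := by
    rw [Scheme.IdealSheafData.support_map]
    refine Set.disjoint_left.2 fun x hx hxV => ?_
    obtain ⟨y, hyV, z, hz, hzy⟩ := mem_closure_iff.1 hx _ V₁.2 hxV
    subst hzy
    have hz1 : p z ∈ Z₁ := hI₁'.le ((BlowSep17.mem_support_comap I₁ p z).1 hz)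
    exact z.2 (hYZ ⟨hz1, hyV⟩)
  obtain ⟨I₂, hI₂fg, hI₂le, hI₂d⟩ := exists_fg_sub J V₁ hV₁ hJd
  refine ⟨I₁ ⊔ I₂, fun W => ?_, ?_, ?_⟩
  · rw [Scheme.IdealSheafData.ideal_sup, Pi.sup_apply]
    exact Submodule.FG.sup (hI₁fg W) (hI₂fg W)
  · rw [Scheme.IdealSheafData.support_sup]
    exact fun x hx => ⟨hI₁'.le hx.1, fun hxV => Set.disjoint_left.1 hI₂d hx.2 hxV⟩
  rintro X₁' c hc z ⟨hz1, hz2⟩
  show pullback.fst q c z ∈ Z₂
  by_contra hzO
  let j : pullback p c ⟶ pullback q c := pullback.map p c q c O.ι (𝟙 _) (𝟙 _) (by simp [p]) (by simp)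
  haveI : IsOpenImmersion j := inferInstance
  have hj1 : j ≫ pullback.fst q c = pullback.fst p c ≫ O.ι := pullback.lift_fst _ _ _
  have hj2 : j ≫ pullback.snd q c = pullback.snd p c := (pullback.lift_snd _ _ _).trans (Category.comp_id _)
  obtain ⟨z₀, hz₀⟩ : z ∈ Set.range j := by
    have hr := Scheme.Pullback.range_map p c q c O.ι (𝟙 _) (𝟙 _) (by simp [p]) (by simp)
    rw [hr]
    exact ⟨by rw [Scheme.Opens.range_ι]; exact hzO, by simp⟩
  subst hz₀
  let f := X₂.homOfLE (inf_le_right : U ⊓ O ≤ O)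
  have hS₂ : Disjoint (Z₁ ∩ (V₁ : Set X₁)) (I₂.support : Set X₁) :=
    Set.disjoint_left.2 fun x hx hx2 => Set.disjoint_left.1 hI₂d hx2 hx.2
  have hmain := BlowSep17.disjoint_closure p f c (Z₁ ∩ (V₁ : Set X₁)) (𝓘₁ := I₁) (𝓘₂ := I₂)
    (fun x hx => hI₁'.ge hx.1) hS₂ (fun y hy => by
      rw [Scheme.IdealSheafData.support_sup] at hy
      have he : p (f y) = q ((U ⊓ O).ι y) := by
        rw [← Scheme.Hom.comp_apply, ← Scheme.Hom.comp_apply]
        simp [p, f]
      rw [he] at hy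
      exact Set.disjoint_left.1 hI₂d hy.2 (hU y.2.1))
    ((Scheme.IdealSheafData.le_map_iff_comap_le.1 hI₂le).trans le_sup_left) hc.1
  have key := Set.disjoint_left.1 hmain
  refine @key z₀ ?_ ?_
  · have h := j.isOpenEmbedding.isOpenMap.preimage_closure_eq_closure_preimage j.continuous
      ((fun z => (pullback.fst q c) z) ⁻¹' (U : Set X₂))
    refine closure_mono ?_ (h.le hz2)
    intro w hw
    show w ∈ Set.range (pullback.snd f (pullback.fst p c))
    rw [Scheme.Pullback.range_snd]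
    have he : (pullback.fst q c) (j w) = O.ι ((pullback.fst p c) w) := by
      rw [← Scheme.Hom.comp_apply, hj1, Scheme.Hom.comp_apply]
    have hwU : O.ι ((pullback.fst p c) w) ∈ U := he ▸ hw
    refine ⟨⟨O.ι ((pullback.fst p c) w), hwU, ((pullback.fst p c) w).2⟩, ?_⟩
    apply O.ι.isOpenEmbedding.injective
    rw [← Scheme.Hom.comp_apply, Scheme.homOfLE_ι]
    rfl
  · show pullback.snd p c z₀ ∈ closure ((fun x => c x) ⁻¹' (Z₁ ∩ (V₁ : Set X₁)))
    rw [← hj2, Scheme.Hom.comp_apply]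
    exact hz1

end Groth.Agent.S17392
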