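import Groth.Statements.S17393
import Groth.Agent.BlowSep17.Strict

set_option backward.isDefEq.respectTransparency false
set_option backward.isDefEq.respectTransparency.types false
set_option linter.style.haveILetI false
-- import your own Groth.Agent.* helpers here

set_option autoImplicit false
universe u
open BlowUp

namespace Groth.Agent.S17393

open AlgebraicGeometry CategoryTheory Limits in
/-- Let X be any scheme, I and I' quasi-coherent ideals on X (of closed subschemes Y and Y'), b : X' → X
a blowing up of X in I + I' (the ideal of Y ∩ Y'), b' : Ỹ → Y a blowing up of Y = V(I) in the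
inverse image of I + I' and k : Ỹ → X' the morphism with k ≫ b = b' ≫ (Y → X), whose image is the
strict transform of Y. For an affine open V of X, a section s of I over V, and an affine open V' ⊆
b⁻¹(V) of X' which meets the image of k, the ideal of the inverse image ideal sheaf (I + I')·O_X' on
V' is not the principal ideal generated by the pullback of s. Equivalently the strict transform of Y
does not meet the open locus U(s) where s generates the (invertible) inverse image ideal; since the
U(s) for s ranging over local sections of I and of I' cover X', the strict transform of Y lies in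
the union of the U(s) with s a local section of I'. -/
theorem result
    {X X' Yt : Scheme.{u}} (𝓘 𝓘' : X.IdealSheafData) (b : X' ⟶ X) (hb : BlowUp.IsBlowUp b (𝓘 ⊔ 𝓘'))
    (b' : Yt ⟶ 𝓘.subscheme) (hb' : BlowUp.IsBlowUp b' ((𝓘 ⊔ 𝓘').comap 𝓘.subschemeι))
    (k : Yt ⟶ X') (hk : k ≫ b = b' ≫ 𝓘.subschemeι)
    (V : X.affineOpens) (s : Γ(X, V.1)) (hs : s ∈ 𝓘.ideal V)
    (V' : X'.affineOpens) (hV' : V'.1 ≤ b ⁻¹ᵁ V.1)
    (hmeet : (Set.range (fun y => k y) ∩ (V'.1 : Set X')).Nonempty) :
    ((𝓘 ⊔ 𝓘').comap b).ideal V' ≠ Ideal.span {(b.appLE V.1 V'.1 hV').hom s} := by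
  intro h
  obtain ⟨x, ⟨y, hy⟩, hxV⟩ := hmeet
  have hyV : k y ∈ V'.1 := by rw [show k y = x from hy]; exact hxV
  refine BlowSep17.notMem_basicOpen_of_mul_mem k (J := (𝓘 ⊔ 𝓘').comap b) (K := 𝓘.comap b) ?_ ?_ V' h (a := 1) ?_
    y hyV (by rw [Scheme.basicOpen_of_isUnit _ isUnit_one]; exact hyV)
  · rw [← Scheme.IdealSheafData.comap_comp, hk, Scheme.IdealSheafData.comap_comp]
    exact hb'.1
  · rw [← Scheme.IdealSheafData.comap_comp, hk, Scheme.IdealSheafData.comap_comp,
      BlowSep17.comap_subschemeι_self, Scheme.IdealSheafData.comap_bot]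
  · rw [one_mul, ModPairLib.ideal_comap _ b V V' hV']
    exact Ideal.mem_map_of_mem _ hs

end Groth.Agent.S17393
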