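import Groth.Statements.S17394
import Groth.Agent.S9823
import Groth.Agent.BlowSep17.Basic
import Groth.Agent.BlowUpX.Basic
import Mathlib.RingTheory.Nakayama

set_option backward.isDefEq.respectTransparency false
set_option backward.isDefEq.respectTransparency.types false
set_option linter.style.haveILetI false
-- import your own Groth.Agent.* helpers here

set_option autoImplicit false
universe u
open AlgebraicGeometry CategoryTheory CategoryTheory.Limits
open FlatMor

namespace Groth.Agent.S17394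

open AlgebraicGeometry CategoryTheory Limits in
/-- A sub ideal sheaf of finite type with support still avoiding a quasi-compact open. -/
theorem exists_fg_sub {X : Scheme.{u}} [CompactSpace X] [QuasiSeparatedSpace X] (J : X.IdealSheafData)
    (U : X.Opens) (hU : IsCompact (U : Set X)) (hJ : Disjoint (J.support : Set X) (U : Set X)) :
    ∃ I : X.IdealSheafData, BlowUp.IsFiniteTypeIdeal I ∧ I ≤ J ∧ Disjoint (I.support : Set X) (U : Set X) := by
  classical
  have hpt : ∀ x : U, ∃ (V : X.affineOpens) (s : Γ(X, V.1)), s ∈ J.ideal V ∧ (x : X) ∈ X.basicOpen s := by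
    intro x
    obtain ⟨V, hV, hxV, -⟩ := exists_isAffineOpen_mem_and_subset (X := X) (x := x.1) (U := ⊤) trivial
    by_contra hne
    refine Set.disjoint_left.1 hJ ((BlowSep17.mem_support_iff_forall J ⟨V, hV⟩ hxV).mpr ?_) x.2
    exact fun s hs hxs => hne ⟨⟨V, hV⟩, s, hs, hxs⟩
  choose V s hs hxs using hpt
  obtain ⟨t, ht⟩ := hU.elim_finite_subcover (fun x : U => (X.basicOpen (s x) : Set X))
    (fun x => (X.basicOpen (s x)).2) (fun x hx => Set.mem_iUnion.mpr ⟨⟨x, hx⟩, hxs ⟨x, hx⟩⟩)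
  choose K hK using fun x : U => Groth.Agent.MorLib.IdealFG.exists_sub_mem J (V x) (hs x)
  obtain ⟨M, hM⟩ := Finset.exists_le (α := Groth.Agent.MorLib.IdealFG.Sub J) (t.image K)
  refine ⟨M.1, M.2.2, M.2.1, Set.disjoint_left.2 fun x hx hxU => ?_⟩
  obtain ⟨y, hy, hxy⟩ := Set.mem_iUnion₂.mp (ht hxU)
  have hxV : x ∈ (V y).1 := X.basicOpen_le _ hxy
  exact (BlowSep17.mem_support_iff_forall M.1 (V y) hxV).mp hx (s y)
    (Scheme.IdealSheafData.ideal_mono ((hM (K y) (Finset.mem_image_of_mem K hy)) : (K y).1 ≤ M.1) (V y) (hK y)) hxy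

theorem isProper_base : ∀ (n : ℕ) {S : Scheme.{u}} (Y : Fin n → Scheme.{u}) (g : ∀ i, Y i ⟶ S)
    [∀ i, IsProper (g i)], IsProper (WidePullback.base g)
  | 0, S, Y, g, _ => by
    haveI : IsIso (WidePullback.base g) := by
      refine ⟨WidePullback.lift (𝟙 S) (fun i => i.elim0) (fun i => i.elim0), ?_, WidePullback.lift_base ..⟩
      refine WidePullback.hom_ext _ _ _ (fun i => i.elim0) ?_
      rw [Category.assoc, WidePullback.lift_base, Category.comp_id, Category.id_comp]
    infer_instance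
  | n + 1, S, Y, g, _ => by
    haveI := isProper_base n (fun i => Y i.succ) (fun i => g i.succ)
    let b := WidePullback.base (fun i : Fin n => g i.succ)
    let rest : widePullback S Y g ⟶ widePullback S (fun i : Fin n => Y i.succ) (fun i => g i.succ) :=
      WidePullback.lift (WidePullback.base g) (fun i => WidePullback.π g i.succ)
        (fun i => WidePullback.π_arrow _ i.succ)
    have hr : rest ≫ b = WidePullback.base g := WidePullback.lift_base ..
    have w : WidePullback.π g 0 ≫ g 0 = rest ≫ b := by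
      rw [hr]; exact WidePullback.π_arrow _ 0
    let a := pullback.lift (WidePullback.π g 0) rest w
    let a' : pullback (g 0) b ⟶ widePullback S Y g :=
      WidePullback.lift (pullback.snd (g 0) b ≫ b)
        (Fin.cases (pullback.fst (g 0) b) fun i => pullback.snd (g 0) b ≫ WidePullback.π (fun i : Fin n => g i.succ) i)
        (fun i => by
          induction i using Fin.cases with
          | zero => exact pullback.condition
          | succ i =>
            simp only [Fin.cases_succ, Category.assoc]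
            rw [WidePullback.π_arrow (fun i : Fin n => g i.succ) i])
    haveI : IsIso a := by
      refine ⟨a', ?_, ?_⟩
      · refine WidePullback.hom_ext _ _ _ (fun i => ?_) ?_
        · induction i using Fin.cases with
          | zero => simp [a, a']
          | succ i => simp [a, a', rest]
        · simp [a, a', hr, b, rest]
      · refine pullback.hom_ext ?_ ?_
        · simp [a, a']
        · refine WidePullback.hom_ext _ _ _ (fun i => ?_) ?_
          · simp [a, a', rest]
          · simp [a, a', rest, b]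
    rw [← hr, show rest = a ≫ pullback.snd (g 0) b from (pullback.lift_snd _ _ _).symm]
    infer_instance

/-- In the closure of `U`, lying over one of the open pieces forces lying over each of them. -/
theorem mem_range_of_closure {S X U : Scheme.{u}} {m : ℕ} (gX : X ⟶ S) [IsSeparated gX]
    (Xi Xb : Fin m → Scheme.{u}) (gb : ∀ i, Xb i ⟶ S) [∀ i, IsProper (gb i)]
    (o : ∀ i, Xi i ⟶ Xb i) [∀ i, IsOpenImmersion (o i)]
    (q : ∀ i, Xi i ⟶ X) [∀ i, IsProper (q i)] (hq : ∀ i, q i ≫ gX = o i ≫ gb i)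
    (jU : U ⟶ X) (v : ∀ i, U ⟶ Xi i) (hv : ∀ i, v i ≫ q i = jU) (w : ∀ i, (v i ≫ o i) ≫ gb i = jU ≫ gX)
    {z : (widePullback S Xb gb : Scheme.{u})}
    (hz : z ∈ closure (Set.range (WidePullback.lift (jU ≫ gX) (fun i => v i ≫ o i) w)))
    (i : Fin m) (hzi : (WidePullback.π gb i) z ∈ Set.range (o i)) (j : Fin m) :
    (WidePullback.π gb j) z ∈ Set.range (o j) := by
  let ι := WidePullback.lift (jU ≫ gX) (fun i => v i ≫ o i) w
  let O := (WidePullback.π gb i) ⁻¹ᵁ (o i).opensRange
  have hr : Set.range (O.ι ≫ WidePullback.π gb i) ⊆ Set.range (o i) := by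
    rintro _ ⟨y, rfl⟩; exact y.2
  let l := IsOpenImmersion.lift (o i) (O.ι ≫ WidePullback.π gb i) hr
  have hl : l ≫ o i = O.ι ≫ WidePullback.π gb i := IsOpenImmersion.lift_fac _ _ _
  let g := pullback.lift (f := gb j) (g := gX) (O.ι ≫ WidePullback.π gb j) (l ≫ q i) (by
    rw [Category.assoc, Category.assoc, hq, reassoc_of% hl, WidePullback.π_arrow, WidePullback.π_arrow])
  let G := pullback.lift (f := gb j) (g := gX) (o j) (q j) (hq j).symm
  haveI : IsProper (G ≫ pullback.snd (gb j) gX) := by rw [pullback.lift_snd]; infer_instance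
  haveI : IsProper G := IsProper.of_comp G (pullback.snd (gb j) gX)
  have hU : Set.range ι ⊆ (O : Set _) := by
    rintro _ ⟨y, rfl⟩
    show (ι ≫ WidePullback.π gb i) y ∈ Set.range (o i)
    rw [WidePullback.lift_π, Scheme.Hom.comp_apply]
    exact ⟨_, rfl⟩
  let ιO := IsOpenImmersion.lift O.ι ι (by rwa [Scheme.Opens.range_ι])
  have hιO : ιO ≫ O.ι = ι := IsOpenImmersion.lift_fac _ _ _
  have hlι : ιO ≫ l = v i := by
    rw [← cancel_mono (o i), Category.assoc, hl, reassoc_of% hιO, WidePullback.lift_π]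
  have hg : ιO ≫ g = v j ≫ G := by
    apply pullback.hom_ext
    · rw [Category.assoc, pullback.lift_fst, reassoc_of% hιO, WidePullback.lift_π, Category.assoc, pullback.lift_fst]
    · rw [Category.assoc, pullback.lift_snd, reassoc_of% hlι, hv, Category.assoc, pullback.lift_snd, hv]
  let zO : O.toScheme := ⟨z, hzi⟩
  have hcl : zO ∈ closure (Set.range ιO) := by
    have h := O.ι.isOpenEmbedding.isOpenMap.preimage_closure_eq_closure_preimage O.ι.continuous (Set.range ι)
    refine closure_mono ?_ (h.le (show O.ι zO ∈ closure (Set.range ι) from hz))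
    rintro y ⟨y', hy'⟩
    refine ⟨y', O.ι.isOpenEmbedding.injective ?_⟩
    rw [← Scheme.Hom.comp_apply, hιO]
    exact hy'
  have h2 : g zO ∈ Set.range G := by
    refine closure_minimal ?_ G.isClosedMap.isClosed_range (image_closure_subset_closure_image g.continuous ⟨zO, hcl, rfl⟩)
    rintro _ ⟨_, ⟨y, rfl⟩, rfl⟩
    exact ⟨v j y, by rw [← Scheme.Hom.comp_apply, ← hg, Scheme.Hom.comp_apply]⟩
  obtain ⟨y, hy⟩ := h2
  refine ⟨y, ?_⟩
  have h3 := congrArg (pullback.fst (gb j) gX) hy
  rw [← Scheme.Hom.comp_apply, pullback.lift_fst, ← Scheme.Hom.comp_apply, pullback.lift_fst,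
    Scheme.Hom.comp_apply] at h3
  exact h3

/-- Let S be a quasi-compact quasi-separated scheme, X → S separated of finite type, and for i = 1, …, m
let X̄_i → S be proper, o_i : X_i → X̄_i a quasi-compact open immersion and q_i : X_i → X a proper
S-morphism; let U be a scheme with quasi-compact open immersions jU : U → X and v_i : U → X_i such
that v_i ≫ q_i = jU, with U dense in X, in each X_i and in each X̄_i (via v_i ≫ o_i). Let Y_i ⊆ X_i
be closed subschemes of finite presentation. Let Ū ⊆ X̄_1 ×_S ⋯ ×_S X̄_m be the closure of the image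
of U (the scheme-theoretic closure, the morphism being quasi-compact) with projections π_i : Ū →
X̄_i, and assume ⋂_i π_i⁻¹(Y_i) = ∅. Then there are blowing ups c_i : X̄_i' → X̄_i in quasi-coherent
ideals of finite type with support disjoint from X_i (X_i-admissible), with the lifts v_i' : U →
X̄_i' of v_i ≫ o_i, such that, writing Ū' for the closure of the image of U in X̄_1' ×_S ⋯ ×_S X̄_m'
with projections π_i' and Ȳ_i' for the closure in X̄_i' of c_i⁻¹(Y_i), one has ⋂_i (π_i')⁻¹(Ȳ_i') =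
∅. -/
theorem result
    {S X U : Scheme.{u}} [CompactSpace S] [QuasiSeparatedSpace S] {m : ℕ}
    (gX : X ⟶ S) [IsSeparated gX] [QuasiCompact gX] [LocallyOfFiniteType gX]
    (Xi Xb : Fin m → Scheme.{u}) (gb : ∀ i, Xb i ⟶ S) [∀ i, IsProper (gb i)]
    (o : ∀ i, Xi i ⟶ Xb i) [∀ i, IsOpenImmersion (o i)] [∀ i, QuasiCompact (o i)]
    (q : ∀ i, Xi i ⟶ X) [∀ i, IsProper (q i)] (hq : ∀ i, q i ≫ gX = o i ≫ gb i)
    (jU : U ⟶ X) [IsOpenImmersion jU] [QuasiCompact jU] [IsDominant jU]
    (v : ∀ i, U ⟶ Xi i) [∀ i, IsOpenImmersion (v i)] [∀ i, QuasiCompact (v i)] [∀ i, IsDominant (v i)]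
    [∀ i, IsDominant (v i ≫ o i)]
    (hv : ∀ i, v i ≫ q i = jU) (w : ∀ i, (v i ≫ o i) ≫ gb i = jU ≫ gX)
    (Y : ∀ i, (Xi i).IdealSheafData) (hY : ∀ i, BlowUp.IsFiniteTypeIdeal (Y i))
    (hempty : ∀ z ∈ closure (Set.range (fun x => (WidePullback.lift (jU ≫ gX) (fun i => v i ≫ o i) w) x)),
      ∃ i, (WidePullback.π gb i) z ∉ (fun x => o i x) '' ((Y i).support : Set (Xi i))) :
    ∃ (𝓔 : ∀ i, (Xb i).IdealSheafData) (Xb' : Fin m → Scheme.{u}) (c : ∀ i, Xb' i ⟶ Xb i)
      (v' : ∀ i, U ⟶ Xb' i) (w' : ∀ i, v' i ≫ c i ≫ gb i = jU ≫ gX),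
      (∀ i, BlowUp.IsBlowUp (c i) (𝓔 i) ∧ BlowUp.IsAdmissibleFor (o i).opensRange (𝓔 i) ∧
        v' i ≫ c i = v i ≫ o i) ∧
      ∀ z ∈ closure (Set.range (fun x => (WidePullback.lift (jU ≫ gX) (fun i => v' i) w') x)),
        ∃ i, (WidePullback.π (fun i => c i ≫ gb i) i) z ∉
          closure ((fun y => c i y) ⁻¹' ((fun x => o i x) '' ((Y i).support : Set (Xi i)))) := by
  classical
  let W := widePullback S Xb gb
  let ι : U ⟶ W := WidePullback.lift (jU ≫ gX) (fun i => v i ≫ o i) w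
  haveI := isProper_base m Xb gb
  haveI : CompactSpace W := QuasiCompact.compactSpace_of_compactSpace (WidePullback.base gb)
  haveI : QuasiSeparatedSpace W := quasiSeparatedSpace_of_quasiSeparated (WidePullback.base gb)
  haveI : CompactSpace X := QuasiCompact.compactSpace_of_compactSpace gX
  haveI : CompactSpace U := QuasiCompact.compactSpace_of_compactSpace jU
  haveI : QuasiCompact ι := quasiCompact_of_compactSpace ι
  haveI : ∀ i, CompactSpace (Xb i) := fun i => QuasiCompact.compactSpace_of_compactSpace (gb i)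
  haveI : ∀ i, QuasiSeparatedSpace (Xb i) := fun i => quasiSeparatedSpace_of_quasiSeparated (gb i)
  haveI : ∀ i, CompactSpace (Xi i) := fun i => QuasiCompact.compactSpace_of_compactSpace (o i)
  haveI : ∀ i, QuasiSeparatedSpace (Xi i) := fun i => QuasiSeparatedSpace.of_isOpenEmbedding (o i).isOpenEmbedding
  haveI : ∀ i, QuasiCompact (WidePullback.π gb i) := fun i => quasiCompact_of_compactSpace _
  -- finite type ideals cutting out the closures of the given closed sets
  have hI₁ : ∀ i, ∃ I : (Xb i).IdealSheafData, (∀ V, (I.ideal V).FG) ∧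
      (I.support : Set (Xb i)) = (o i '' ((Y i).support : Set (Xi i))ᶜ)ᶜ := by
    intro i
    have hc : IsCompact (((Y i).support.compl : (Xi i).Opens) : Set (Xi i)) :=
      (S9823.result (Xi i) _).2 ⟨Y i, hY i, (compl_compl _).symm⟩
    exact (S9823.result (Xb i) (o i ''ᵁ (Y i).support.compl)).1 (hc.image (o i).continuous)
  choose I₁ hI₁fg hI₁s using hI₁
  have hZ : ∀ i (y : Xi i), o i y ∈ (I₁ i).support ↔ y ∈ (Y i).support := fun i y => by
    show o i y ∈ ((I₁ i).support : Set (Xb i)) ↔ _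
    rw [hI₁s, Set.mem_compl_iff, (o i).isOpenEmbedding.injective.mem_set_image, Set.mem_compl_iff, not_not]
    rfl
  let J : W.IdealSheafData := (⨆ j, (I₁ j).comap (WidePullback.π gb j)) ⊔ ι.ker
  have hJd : ∀ i, Disjoint ((J.map (WidePullback.π gb i)).support : Set (Xb i)) ((o i).opensRange : Set (Xb i)) := by
    intro i
    rw [Scheme.IdealSheafData.support_map]
    refine Set.disjoint_left.2 fun x hx hxo => ?_
    obtain ⟨x', hx'o, z, hz, hzx⟩ := mem_closure_iff.1 hx _ (o i).opensRange.2 hxo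
    subst hzx
    have hz' : z ∈ (⨆ j, (I₁ j).comap (WidePullback.π gb j)).support ⊓ ι.ker.support := by
      rw [← Scheme.IdealSheafData.support_sup]; exact hz
    rw [Scheme.IdealSheafData.support_iSup] at hz'
    have hzc : z ∈ closure (Set.range ι) := by
      rw [← Scheme.Hom.support_ker]; exact hz'.2
    obtain ⟨j, hj⟩ := hempty z hzc
    obtain ⟨y, hy⟩ := mem_range_of_closure gX Xi Xb gb o q hq jU v hv w hzc i hx'o j
    refine hj ⟨y, ?_, hy⟩
    have h1 : z ∈ ((I₁ j).comap (WidePullback.π gb j)).support := TopologicalSpace.Closeds.mem_iInf.1 hz'.1 j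
    rw [BlowSep17.mem_support_comap, ← hy, hZ] at h1
    exact h1
  have hI₂ : ∀ i, ∃ I : (Xb i).IdealSheafData, BlowUp.IsFiniteTypeIdeal I ∧ I ≤ J.map (WidePullback.π gb i) ∧
      Disjoint (I.support : Set (Xb i)) ((o i).opensRange : Set (Xb i)) := fun i =>
    exists_fg_sub _ _ (by rw [Scheme.Hom.coe_opensRange]; exact isCompact_range (o i).continuous) (hJd i)
  choose I₂ hI₂fg hI₂le hI₂d using hI₂
  choose Xb' c hc using fun i => BlowUpLib.exists_blowUp (C := I₁ i ⊔ I₂ i)
  have havoid : ∀ i (y : U), (v i ≫ o i) y ∉ ((I₁ i ⊔ I₂ i).support : Set (Xb i)) := fun i y hy => by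
    rw [Scheme.IdealSheafData.support_sup] at hy
    exact Set.disjoint_left.1 (hI₂d i) hy.2 ⟨v i y, (Scheme.Hom.comp_apply _ _ _).symm⟩
  choose v' hv' _ using fun i => (hc i).2 U (v i ≫ o i) (BlowUpX.isEffCartier_comap_of_avoid _ _ (havoid i))
  have hv'' : ∀ i, v' i ≫ c i = v i ≫ o i := hv'
  refine ⟨fun i => I₁ i ⊔ I₂ i, Xb', c, v', fun i => by rw [reassoc_of% (hv'' i), ← w i, Category.assoc],
    fun i => ⟨hc i, ⟨fun V => ?_, ?_⟩, hv'' i⟩, ?_⟩
  · rw [Scheme.IdealSheafData.ideal_sup, Pi.sup_apply]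
    exact Submodule.FG.sup (hI₁fg i V) (hI₂fg i V)
  · rw [Scheme.IdealSheafData.support_sup]
    exact Set.disjoint_left.2 fun x hx hxo => Set.disjoint_left.1 (hI₂d i) hx.2 hxo
  intro z hz
  by_contra hne
  replace hne : ∀ i, (WidePullback.π (fun i => c i ≫ gb i) i) z ∈
      closure ((fun y => c i y) ⁻¹' ((fun x => o i x) '' ((Y i).support : Set (Xi i)))) := fun i =>
    by_contra fun h => hne ⟨i, h⟩
  let W' := widePullback S Xb' (fun i => c i ≫ gb i)
  let π' : ∀ i, W' ⟶ Xb' i := fun i => WidePullback.π (fun i => c i ≫ gb i) i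
  let P : W' ⟶ W := WidePullback.lift (WidePullback.base _) (fun i => π' i ≫ c i)
    (fun i => by rw [Category.assoc]; exact WidePullback.π_arrow (fun i => c i ≫ gb i) i)
  have hP : ∀ i, P ≫ WidePullback.π gb i = π' i ≫ c i := fun i => WidePullback.lift_π ..
  let ι' : U ⟶ W' := WidePullback.lift (jU ≫ gX) (fun i => v' i)
    (fun i => by rw [reassoc_of% (hv'' i), ← w i, Category.assoc])
  have hι' : ∀ i, ι' ≫ π' i = v' i := fun i => WidePullback.lift_π ..
  have hιP : ι' ≫ P = ι := by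
    refine WidePullback.hom_ext _ _ _ (fun i => ?_) ?_
    · rw [Category.assoc, hP, reassoc_of% (hι' i), hv'' i, WidePullback.lift_π]
    · rw [Category.assoc, WidePullback.lift_base, WidePullback.lift_base, WidePullback.lift_base]
  have hzP : P z ∈ closure (Set.range ι) := by
    refine closure_mono ?_ (image_closure_subset_closure_image P.continuous ⟨z, hz, rfl⟩)
    rintro _ ⟨_, ⟨y, rfl⟩, rfl⟩
    exact ⟨y, by rw [← hιP, Scheme.Hom.comp_apply]⟩
  obtain ⟨i₀, -⟩ := hempty (P z) hzP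
  choose Wc hzc t ht hJc using fun i => (hc i).1 (π' i z)
  have hres := fun i => BlowSep17.residual ((fun x => o i x) '' ((Y i).support : Set (Xi i)))
    (I₁ := I₁ i) (I₂ := I₂ i) (by rintro _ ⟨y, hy, rfl⟩; exact (hZ i y).2 hy)
    (Set.disjoint_left.2 (by rintro _ ⟨y, -, rfl⟩ hy; exact Set.disjoint_left.1 (hI₂d i) hy ⟨y, rfl⟩))
    (Wc i) (t i) (ht i) (hJc i) (hzc i) (hne i)
  choose A hA hAvan a ha hza using hres
  obtain ⟨V, hV, hzV, hVle⟩ := exists_isAffineOpen_mem_and_subset (x := z)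
    (U := ⨅ i, π' i ⁻¹ᵁ (Wc i).1) (by
      rw [← SetLike.mem_coe, TopologicalSpace.Opens.coe_iInf, Set.mem_iInter]; exact hzc)
  let V' : W'.affineOpens := ⟨V, hV⟩
  have e : ∀ i, V'.1 ≤ π' i ⁻¹ᵁ (Wc i).1 := fun i => hVle.trans (iInf_le (fun i => π' i ⁻¹ᵁ (Wc i).1) i)
  let φ : ∀ i, Γ(Xb' i, (Wc i).1) →+* Γ(W', V) := fun i => ((π' i).appLE (Wc i).1 V (e i)).hom
  let K := ι'.ker.ideal V'
  have hcm : ∀ i (I : (Xb i).IdealSheafData),
      ((I.comap (WidePullback.π gb i)).comap P).ideal V' = ((I.comap (c i)).ideal (Wc i)).map (φ i) := fun i I => by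
    rw [← Scheme.IdealSheafData.comap_comp, hP, Scheme.IdealSheafData.comap_comp,
      ModPairLib.ideal_comap _ (π' i) (Wc i) V' (e i)]
  have hincl : ∀ i, φ i (a i) * φ i (t i) ∈ (⨆ j, (A j).map (φ j) * Ideal.span {φ j (t j)}) ⊔ K := by
    intro i
    have h1 : (I₂ i).comap (WidePullback.π gb i) ≤ J :=
      Scheme.IdealSheafData.le_map_iff_comap_le.1 (hI₂le i)
    have h2 := Scheme.IdealSheafData.comap_mono P h1 V'
      (show φ i (a i) * φ i (t i) ∈ _ by rw [hcm, ← map_mul]; exact Ideal.mem_map_of_mem _ (ha i))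
    have h3 : ι.ker.comap P ≤ ι'.ker := by
      rw [← Scheme.IdealSheafData.le_map_iff_comap_le, Scheme.IdealSheafData.map_ker, hιP]
    have h4 : (J.comap P).ideal V' ≤ (⨆ j, (A j).map (φ j) * Ideal.span {φ j (t j)}) ⊔ K := by
      show ((((⨆ j, (I₁ j).comap (WidePullback.π gb j)) ⊔ ι.ker)).comap P).ideal V' ≤ _
      rw [Scheme.IdealSheafData.comap_sup, Scheme.IdealSheafData.ideal_sup, Pi.sup_apply]
      refine sup_le_sup ?_ (h3 V')
      rw [(Scheme.IdealSheafData.map_gc P).l_iSup, Scheme.IdealSheafData.ideal_iSup, iSup_apply]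
      refine iSup_mono fun j => ?_
      rw [hcm]
      refine (Ideal.map_mono (hA j)).trans ?_
      rw [Ideal.map_mul, Ideal.map_span, Set.image_singleton]
    exact h4 h2
  -- Nakayama at `z`
  let R := W'.presheaf.stalk z
  letI : Algebra Γ(W', V) R := (W'.presheaf.germ V z hzV).hom.toAlgebra
  haveI : IsLocalization.AtPrime R (hV.primeIdealOf ⟨z, hzV⟩).asIdeal := hV.isLocalization_stalk ⟨z, hzV⟩
  let α := algebraMap Γ(W', V) R
  have hpt : ∀ i (x : Γ(Xb' i, (Wc i).1)), z ∈ W'.basicOpen (φ i x) ↔ π' i z ∈ (Xb' i).basicOpen x := fun i x => by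
    show z ∈ W'.basicOpen ((π' i).appLE (Wc i).1 V (e i) x) ↔ _
    rw [Scheme.basicOpen_appLE]
    exact ⟨fun h => h.2, fun h => ⟨hzV, h⟩⟩
  let M : Ideal R := Ideal.span (Set.range fun i => α (φ i (t i)))
  have hM : M ≤ K.map α ⊔ IsLocalRing.maximalIdeal R • M := by
    refine Ideal.span_le.2 ?_
    rintro _ ⟨i, rfl⟩
    have hu : IsUnit (α (φ i (a i))) := (W'.mem_basicOpen _ z hzV).1 ((hpt i (a i)).2 (hza i))
    obtain ⟨b, hb⟩ := hu.exists_left_inv
    have h1 := Ideal.mem_map_of_mem α (hincl i)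
    rw [Ideal.map_sup, Ideal.map_iSup, map_mul] at h1
    have h2 : (⨆ j, ((A j).map (φ j) * Ideal.span {φ j (t j)}).map α) ⊔ K.map α ≤ K.map α ⊔ IsLocalRing.maximalIdeal R • M := by
      refine sup_le (iSup_le fun j => le_sup_of_le_right ?_) le_sup_left
      rw [Ideal.map_mul, Ideal.map_span, Set.image_singleton, smul_eq_mul, Ideal.map_map]
      refine Ideal.mul_mono (Ideal.map_le_iff_le_comap.2 fun x hx => ?_) (Ideal.span_mono (by rintro _ rfl; exact ⟨j, rfl⟩))
      rw [Ideal.mem_comap, IsLocalRing.mem_maximalIdeal]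
      intro hx'
      exact hAvan j x hx ((hpt j x).1 ((W'.mem_basicOpen _ z hzV).2 hx'))
    have h3 := Ideal.mul_mem_left _ b (h2 h1)
    rwa [← mul_assoc, hb, one_mul] at h3
  have hMK : M ≤ K.map α := Submodule.le_of_le_smul_of_le_jacobson_bot
    (Submodule.fg_span (Set.finite_range _)) (IsLocalRing.maximalIdeal_le_jacobson _) hM
  obtain ⟨sU, hsU, hst⟩ : ∃ sU : Γ(W', V), sU ∉ (hV.primeIdealOf ⟨z, hzV⟩).asIdeal ∧ sU * φ i₀ (t i₀) ∈ K :=
    (IsLocalization.algebraMap_mem_map_algebraMap_iff (hV.primeIdealOf ⟨z, hzV⟩).asIdeal.primeCompl R K _).1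
      (hMK (Ideal.subset_span ⟨i₀, rfl⟩))
  have hzs : z ∈ W'.basicOpen sU :=
    (W'.mem_basicOpen sU z hzV).2 ((IsLocalization.AtPrime.isUnit_to_map_iff R _ sU).2 hsU)
  obtain ⟨_, hxs, y, rfl⟩ := mem_closure_iff.1 hz _ (W'.basicOpen sU).2 hzs
  change ι' y ∈ W'.basicOpen sU at hxs
  have hyV : ι' y ∈ V'.1 := W'.basicOpen_le _ hxs
  have hyt : ι' y ∈ W'.basicOpen (φ i₀ (t i₀)) := by
    show ι' y ∈ W'.basicOpen ((π' i₀).appLE (Wc i₀).1 V (e i₀) (t i₀))
    rw [Scheme.basicOpen_appLE]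
    refine ⟨hyV, ?_⟩
    by_contra hn
    refine havoid i₀ y ?_
    rw [← hv'', Scheme.Hom.comp_apply]
    refine (BlowSep17.mem_support_comap (I₁ i₀ ⊔ I₂ i₀) (c i₀) (v' i₀ y)).1 ?_
    rw [← hι', Scheme.Hom.comp_apply]
    refine (BlowSep17.mem_support_iff_forall _ (Wc i₀) (e i₀ hyV)).2 fun r hr hr' => hn ?_
    rw [hJc] at hr
    obtain ⟨c', rfl⟩ := Ideal.mem_span_singleton'.1 hr
    rw [Scheme.basicOpen_mul] at hr'
    exact hr'.2
  have := (BlowSep17.mem_support_iff_forall _ V' hyV).1 (ι'.range_subset_ker_support ⟨y, rfl⟩) _ hst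
  rw [Scheme.basicOpen_mul] at this
  exact this ⟨hxs, hyt⟩

end Groth.Agent.S17394
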