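import Groth.Statements.S17397
import Groth.Agent.CycCov7.Local

set_option autoImplicit false
universe u
open CycCov

namespace Groth.Agent.S17397

open CategoryTheory AlgebraicGeometry in
/-- For X integral and smooth over an algebraically closed field k, L an invertible module, N ≥ 1
invertible in k, D_1, …, D_r a strict normal crossing divisor on X with multiplicities α_j, s a
global section of the N-th tensor power of L whose divisor of zeros is D = Σ α_j D_j, and π : Y → X
with its root datum the normalised cyclic N-th-root cover of X defined by s, the open π⁻¹W of Y is
smooth over k (Y is non-singular there) for every open W of X through each point of which at most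
one of the components D_j with α_j > 0 passes, that is, W avoids the singular points of the reduced
divisor of D. (The published claim allows any effective divisor on a manifold; it is stated here for
components forming a strict normal crossing divisor.) -/
theorem result {k : Type u} [Field k] [IsAlgClosed k] {X Y : Scheme.{u}}
    (f : X ⟶ Spec (CommRingCat.of k)) [Smooth f] [IsIntegral X]
    (L : X.Modules) (hL : PicF.IsInvertible L) (N : ℕ) (hN : 0 < N) (hNk : (N : k) ≠ 0)
    {r : ℕ} (D : Fin r → X.IdealSheafData) (α : Fin r → ℕ) (hD : LogNCD.IsNCD D f)
    (s : Coh.structureModule X ⟶ CohB1.tensorPow L N) (hs : CycCov.IsZeroDiv (CohB1.tensorPow L N) s (CycCov.divIdeal D α))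
    (π : Y ⟶ X) (R : CycCov.Root L N s π) (hR : CycCov.IsCover R)
    (W : X.Opens) (hW : ∀ x ∈ W, ∀ j j' : Fin r, 0 < α j → 0 < α j' → x ∈ (D j).support → x ∈ (D j').support → j = j') :
    Smooth ((π ⁻¹ᵁ W).ι ≫ π ≫ f) := by
  exact Groth.Agent.CycCov7.smooth_one_branch f hL hN hNk D α hD hs R hR W hW


end Groth.Agent.S17397
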