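import Groth.Statements.S1740
import Groth.Agent.LC.TorMap
-- import your own Groth.Agent.* helpers here

set_option autoImplicit false
universe u
open CategoryTheory
attribute [local instance] HasDerivedCategory.standard
open LocCoh

namespace Groth.Agent.S1740

/-- Let α : M → M' be a map of R-modules with M finitely presented such that the induced map Tor_1(M, N)
→ Tor_1(M', N) is zero for every R-module N. Then α is the composite of a map from M into a free
R-module and a map from that free module to M'. -/
theorem result (R : Type u) [CommRing R] (M M' : Type u) [AddCommGroup M] [Module R M] [Module.FinitePresentation R M] [AddCommGroup M'] [Module R M'] (α : M →ₗ[R] M') (h : ∀ (N : Type u) [AddCommGroup N] [Module R N], ((CategoryTheory.Tor (ModuleCat.{u} R) 1).map (ModuleCat.ofHom α)).app (ModuleCat.of R N) = 0) : ∃ (ι : Type u) (g : M →ₗ[R] (ι →₀ R)) (h : (ι →₀ R) →ₗ[R] M'), α = h ∘ₗ g := by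
  open TensorProduct Groth.Agent.LC in
  classical
  obtain ⟨n, K, e, hK⟩ := Module.FinitePresentation.exists_fin R M
  obtain ⟨l, v, hv⟩ := Submodule.fg_iff_exists_fin_generating_family.1 hK
  let π : (Fin n → R) →ₗ[R] M := e.symm.toLinearMap ∘ₗ K.mkQ
  have hπ : Function.Surjective π := e.symm.surjective.comp (Submodule.mkQ_surjective K)
  have hπv : ∀ j, π (v j) = 0 := fun j => by
    show e.symm (K.mkQ (v j)) = 0
    rw [Submodule.mkQ_apply, (Submodule.Quotient.mk_eq_zero K).2 (hv ▸ Submodule.subset_span ⟨j, rfl⟩), map_zero]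
  let m : Fin n → M := fun i => π (Pi.single i 1)
  let T : (Fin n → R) →ₗ[R] (Fin l → R) := LinearMap.pi fun j => Fintype.linearCombination R (v j)
  let q : (Fin l → R) →ₗ[R] ((Fin l → R) ⧸ LinearMap.range T) := (LinearMap.range T).mkQ
  let T' : (Fin n → R) →ₗ[R] LinearMap.ker q := T.codRestrict _ fun c => by
    show q (T c) = 0
    exact (Submodule.Quotient.mk_eq_zero _).2 ⟨c, rfl⟩
  have hT' : Function.Surjective T' := by
    rintro ⟨y, hy⟩
    obtain ⟨c, hc⟩ := (Submodule.Quotient.mk_eq_zero _).1 (show (LinearMap.range T).mkQ y = 0 from hy)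
    exact ⟨c, Subtype.ext hc⟩
  let η : M ⊗[R] (Fin n → R) := ∑ i, m i ⊗ₜ Pi.single i 1
  have hη : (LinearMap.ker q).subtype.lTensor M (T'.lTensor M η) = 0 := by
    rw [← LinearMap.comp_apply, ← LinearMap.lTensor_comp, show (LinearMap.ker q).subtype ∘ₗ T' = T from rfl]
    apply (TensorProduct.piScalarRight R R M (Fin l)).injective
    funext j
    rw [map_zero]
    simp only [η, map_sum, LinearMap.lTensor_tmul, Finset.sum_apply, Pi.zero_apply,
      TensorProduct.piScalarRight_apply, TensorProduct.piScalarRightHom_tmul]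
    refine Eq.trans ?_ (hπv j)
    conv_rhs => rw [pi_eq_sum_univ' (v j), map_sum]
    refine Finset.sum_congr rfl fun i _ => ?_
    rw [map_smul]
    congr 1
    show Fintype.linearCombination R (v j) (Pi.single i 1) = v j i
    rw [Fintype.linearCombination_apply_single, one_smul]
  have h0 := rTensor_eq_zero_of_tor_map_zero α (h ((Fin l → R) ⧸ LinearMap.range T)) q
    (Submodule.mkQ_surjective _) (T'.lTensor M η) hη
  rw [← LinearMap.comp_apply, LinearMap.rTensor_comp_lTensor, ← LinearMap.lTensor_comp_rTensor,
    LinearMap.comp_apply] at h0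
  obtain ⟨z, hz⟩ := (lTensor_exact M' (LinearMap.exact_subtype_ker_map T') hT' _).1 h0
  obtain ⟨S, hS⟩ := TensorProduct.exists_finset z
  have hker : ∀ t : S, ∀ j, ∑ i, (t.1.2 : Fin n → R) i • v j i = 0 := fun t j => by
    have hc : T t.1.2.1 = 0 := congrArg Subtype.val (show T' t.1.2.1 = 0 from t.1.2.2)
    exact congrFun hc j
  have hle : ∀ t : S, LinearMap.ker π ≤ LinearMap.ker (Fintype.linearCombination R (t.1.2 : Fin n → R)) := by
    intro t y hy
    have hy' : y ∈ K := (Submodule.Quotient.mk_eq_zero K).1 (e.symm.injective (hy.trans (map_zero _).symm))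
    rw [← hv] at hy'
    refine Submodule.span_le.2 ?_ hy'
    rintro _ ⟨j, rfl⟩
    show Fintype.linearCombination R _ (v j) = 0
    rw [Fintype.linearCombination_apply, ← hker t j]
    exact Finset.sum_congr rfl fun i _ => mul_comm _ _
  let γ : S → (M →ₗ[R] R) := fun t =>
    (LinearMap.ker π).liftQ _ (hle t) ∘ₗ (LinearMap.quotKerEquivOfSurjective π hπ).symm.toLinearMap
  have hγ : ∀ t i, γ t (m i) = (t.1.2 : Fin n → R) i := fun t i => by
    show (LinearMap.ker π).liftQ _ (hle t) ((LinearMap.quotKerEquivOfSurjective π hπ).symm (π (Pi.single i 1))) = _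
    rw [LinearMap.quotKerEquivOfSurjective_symm_apply]
    show Fintype.linearCombination R _ (Pi.single i 1) = _
    rw [Fintype.linearCombination_apply_single, one_smul]
  refine ⟨S, (Finsupp.linearEquivFunOnFinite R R S).symm.toLinearMap ∘ₗ LinearMap.pi γ,
    Fintype.linearCombination R (fun t : S => t.1.1) ∘ₗ (Finsupp.linearEquivFunOnFinite R R S).toLinearMap, ?_⟩
  refine LinearMap.ext fun y => ?_
  obtain ⟨c, rfl⟩ := hπ y
  rw [pi_eq_sum_univ' c]
  simp only [map_sum, map_smul]
  refine Finset.sum_congr rfl fun i _ => congrArg _ ?_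
  have hi : α (m i) = ∑ t : S, (t.1.2 : Fin n → R) i • t.1.1 := by
    have e1 := congrArg (fun w => (TensorProduct.piScalarRight R R M' (Fin n) w) i) hz
    rw [hS] at e1
    simp only [η, map_sum, LinearMap.lTensor_tmul, LinearMap.rTensor_tmul, Finset.sum_apply,
      TensorProduct.piScalarRight_apply, TensorProduct.piScalarRightHom_tmul, Submodule.subtype_apply] at e1
    rw [Finset.sum_eq_single i (fun k _ hk => by rw [Pi.single_eq_of_ne (Ne.symm hk), zero_smul])
      (fun hk => absurd (Finset.mem_univ i) hk), Pi.single_eq_same, one_smul] at e1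
    rw [← e1]
    exact (Finset.sum_coe_sort S fun w : M' × LinearMap.ker T' => (w.2 : Fin n → R) i • w.1).symm
  refine hi.trans ?_
  simp only [LinearMap.coe_comp, LinearEquiv.coe_coe, Function.comp_apply, LinearEquiv.apply_symm_apply,
    Fintype.linearCombination_apply, LinearMap.pi_apply]
  exact Finset.sum_congr rfl fun t _ => by rw [← hγ t i]

end Groth.Agent.S1740
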