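import Groth.Statements.S17400
import Groth.Agent.CycCov7.Branch

set_option autoImplicit false
universe u
open CycCov

namespace Groth.Agent.S17400

open CategoryTheory AlgebraicGeometry in
/-- For X integral and smooth over an algebraically closed field k, L an invertible module, N ≥ 1
invertible in k, D_1, …, D_r a strict normal crossing divisor on X with multiplicities α_j, s a
global section of the N-th tensor power of L whose divisor of zeros is D = Σ α_j D_j, and π : Y → X
with its root datum the normalised cyclic N-th-root cover of X defined by s, each reduced preimage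
Δ_j = (π^*D_j)_red has ramification index e_j = N / gcd(N, α_j) over D_j, that is π^*D_j = e_j Δ_j;
stated as an equality of ideals over the affine opens V of Y lying over an open W of X through each
point of which at most one component passes (there Y is regular): the pulled-back ideal of D_j
agrees on V with rad(π^*𝓘_{D_j})^{e_j}. (The published clause assumes Y irreducible and speaks of
the components of Δ_j; in this divisorial form irreducibility is not needed, and for α_j = 0 the
exponent is 1.) (The published claim allows any effective divisor on a manifold; it is stated here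
for components forming a strict normal crossing divisor.) -/
theorem result {k : Type u} [Field k] [IsAlgClosed k] {X Y : Scheme.{u}}
    (f : X ⟶ Spec (CommRingCat.of k)) [Smooth f] [IsIntegral X]
    (L : X.Modules) (hL : PicF.IsInvertible L) (N : ℕ) (hN : 0 < N) (hNk : (N : k) ≠ 0)
    {r : ℕ} (D : Fin r → X.IdealSheafData) (α : Fin r → ℕ) (hD : LogNCD.IsNCD D f)
    (s : Coh.structureModule X ⟶ CohB1.tensorPow L N) (hs : CycCov.IsZeroDiv (CohB1.tensorPow L N) s (CycCov.divIdeal D α))
    (π : Y ⟶ X) (R : CycCov.Root L N s π) (hR : CycCov.IsCover R)
    (W : X.Opens) (hW : ∀ x ∈ W, ∀ j j' : Fin r, x ∈ (D j).support → x ∈ (D j').support → j = j')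
    (j : Fin r) (V : Y.affineOpens) (hV : V.1 ≤ π ⁻¹ᵁ W) :
    ((D j).comap π).ideal V = (((D j).comap π).radical ^ (N / Nat.gcd N (α j))).ideal V := by
  refine Groth.Agent.CycCov7.ideal_eq_of_locally V fun y hy => ?_
  obtain ⟨V', hy', h⟩ := Groth.Agent.CycCov7.exists_branch f hL hN hNk D α hD hs R hR W hW y (hV hy)
  refine ⟨V', hy', ?_⟩
  rw [Scheme.IdealSheafData.ideal_pow, Pi.pow_apply, Scheme.IdealSheafData.radical_ideal]
  exact h j


end Groth.Agent.S17400
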