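import Groth.Statements.S17410
import Mathlib.RingTheory.AdjoinRoot
import Mathlib.RingTheory.Localization.Integral
import Mathlib.RingTheory.IntegralClosure.IsIntegralClosure.Basic
import Mathlib.RingTheory.Localization.FractionRing
import Mathlib.RingTheory.TensorProduct.Basic
import Mathlib.RingTheory.MvPolynomial.Basic
import Mathlib.RingTheory.Polynomial.UniqueFactorization
-- import your own Groth.Agent.* helpers here

set_option autoImplicit false
universe u
open Prym5

namespace Groth.Agent.S17410

/-- Over a perfect field K of characteristic different from 2 and 3, let h be an irreducible polynomial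
of degree 2 in the variable z with coefficients in K[x, y] and A = K[x, y][z]/(h). For every
multiplicative subset S of K[x, y], the localisation S⁻¹A is integral over S⁻¹K[x, y] if and only if
the leading coefficient of h is invertible in S⁻¹K[x, y]; and K(x, y) ⊗ A is a K(x, y)-vector space
of dimension 2. (Geometrically: for a quartic surface with an ordinary double point, written u₂ x₃²
+ 2 u₃ x₃ + u₄ = 0 with the node at (0:0:0:1), the projection from the node restricted to a standard
affine chart of the plane is given by such an algebra A with leading coefficient the dehomogenised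
u₂, so the projection is finite of degree two exactly over the locus u₂ ≠ 0. Stated for any
irreducible h of degree 2, which is all the argument uses.) -/
theorem result (K : Type u) [Field K]
    [PerfectField K] (h2 : (2 : K) ≠ 0) (h3 : (3 : K) ≠ 0)
    (h : Polynomial (MvPolynomial (Fin 2) K)) (hirr : Irreducible h) (hdeg : h.natDegree = 2)
    (S : Submonoid (MvPolynomial (Fin 2) K)) :
    (Algebra.IsIntegral (Localization S) (Localization (Algebra.algebraMapSubmonoid (AdjoinRoot h) S))
        ↔ IsUnit (algebraMap (MvPolynomial (Fin 2) K) (Localization S) h.leadingCoeff))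
      ∧ Module.finrank (FractionRing (MvPolynomial (Fin 2) K))
          (TensorProduct (MvPolynomial (Fin 2) K) (FractionRing (MvPolynomial (Fin 2) K)) (AdjoinRoot h)) = 2 := by
  classical
  have hh0 : h ≠ 0 := hirr.ne_zero
  let R := MvPolynomial (Fin 2) K
  let R' := Localization S
  let A' := Localization (Algebra.algebraMapSubmonoid (AdjoinRoot h) S)
  refine ⟨?_, ?_⟩
  · let t : A' := algebraMap (AdjoinRoot h) A' (AdjoinRoot.root h)
    have ht : ∀ P : Polynomial R, Polynomial.aeval t (P.map (algebraMap R R')) =
        algebraMap (AdjoinRoot h) A' (AdjoinRoot.mk h P) := fun P => by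
      rw [Polynomial.aeval_map_algebraMap, ← AdjoinRoot.aeval_eq, Polynomial.aeval_algebraMap_apply]
    constructor
    · intro hint
      by_cases hS : (0 : R) ∈ S
      · haveI : Subsingleton R' := IsLocalization.subsingleton hS
        exact isUnit_of_subsingleton _
      have hle : S ≤ nonZeroDivisors R := le_nonZeroDivisors_of_noZeroDivisors hS
      obtain ⟨P, hP, hP0⟩ := hint.isIntegral t
      obtain ⟨b, hb, hQ⟩ := IsLocalization.integerNormalization_spec S P
      set Q := IsLocalization.integerNormalization S P
      have h0 : algebraMap (AdjoinRoot h) A' (AdjoinRoot.mk h Q) = 0 := by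
        have hP0' : Polynomial.aeval t P = 0 := hP0
        rw [← ht, hQ, Algebra.smul_def, map_mul, hP0', mul_zero]
      obtain ⟨⟨_, s, hs, rfl⟩, hs0⟩ :=
        (IsLocalization.map_eq_zero_iff (Algebra.algebraMapSubmonoid (AdjoinRoot h) S) A' _).mp h0
      have hdvd : h ∣ Polynomial.C s * Q := by
        rw [← AdjoinRoot.mk_eq_zero, map_mul, AdjoinRoot.mk_C]
        exact hs0
      have hb0 : (algebraMap R R') b ≠ 0 := fun h0 =>
        hS ((IsLocalization.injective R' hle (h0.trans (map_zero _).symm)) ▸ hb)
      have hlcQ : Q.leadingCoeff = b := by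
        apply IsLocalization.injective R' hle
        rw [← Polynomial.leadingCoeff_map_of_injective (IsLocalization.injective R' hle), hQ]
        show (b • P).leadingCoeff = _
        rw [Algebra.smul_def, Polynomial.algebraMap_apply, Polynomial.leadingCoeff_mul_monic hP,
          Polynomial.leadingCoeff_C]
      obtain ⟨c, hc⟩ := hdvd
      have := congrArg Polynomial.leadingCoeff hc
      rw [Polynomial.leadingCoeff_mul, Polynomial.leadingCoeff_C, hlcQ, Polynomial.leadingCoeff_mul] at this
      have hu : IsUnit (algebraMap R R' (s * b)) := IsLocalization.map_units R' (⟨s * b, S.mul_mem hs hb⟩ : S)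
      rw [this, map_mul] at hu
      exact isUnit_of_mul_isUnit_left hu
    · intro hu
      obtain ⟨u, hu'⟩ := hu
      rcases subsingleton_or_nontrivial R' with hsub | hnt
      · haveI : Subsingleton A' := Module.subsingleton R' A'
        exact ⟨fun x => (Subsingleton.elim (0 : A') x) ▸ isIntegral_zero⟩
      have htint : IsIntegral R' t := by
        refine ⟨Polynomial.C (↑u⁻¹ : R') * h.map (algebraMap R R'), ?_, ?_⟩
        · apply Polynomial.monic_C_mul_of_mul_leadingCoeff_eq_one
          rw [Polynomial.leadingCoeff_map_of_leadingCoeff_ne_zero _ (by rw [← hu']; exact u.ne_zero), ← hu']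
          exact u.inv_mul
        · show Polynomial.aeval t _ = 0
          rw [map_mul, ht, AdjoinRoot.mk_self, map_zero, mul_zero]
      refine ⟨fun x => ?_⟩
      obtain ⟨a, ⟨_, s, hs, rfl⟩, rfl⟩ := IsLocalization.exists_mk'_eq (Algebra.algebraMapSubmonoid (AdjoinRoot h) S) x
      obtain ⟨P, rfl⟩ := AdjoinRoot.mk_surjective a
      have h1 : IsIntegral R' (algebraMap (AdjoinRoot h) A' (AdjoinRoot.mk h P)) := by
        rw [← ht]
        exact adjoin_le_integralClosure htint (Polynomial.aeval_mem_adjoin_singleton _ _)
      have h2 : IsLocalization.mk' A' (AdjoinRoot.mk h P)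
          (⟨algebraMap R (AdjoinRoot h) s, s, hs, rfl⟩ : Algebra.algebraMapSubmonoid (AdjoinRoot h) S) =
          algebraMap R' A' (IsLocalization.mk' R' 1 (⟨s, hs⟩ : S)) * algebraMap (AdjoinRoot h) A' (AdjoinRoot.mk h P) := by
        rw [IsLocalization.mk'_eq_iff_eq_mul, mul_right_comm,
          show algebraMap (AdjoinRoot h) A' (algebraMap R (AdjoinRoot h) s) = algebraMap R' A' (algebraMap R R' s) by
            rw [← IsScalarTower.algebraMap_apply R R' A', ← IsScalarTower.algebraMap_apply R (AdjoinRoot h) A'],
          ← map_mul, IsLocalization.mk'_spec, map_one, map_one, one_mul]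
      exact h2 ▸ isIntegral_algebraMap.mul h1
  · let K' := FractionRing R
    let e := (AdjoinRoot.tensorAlgEquiv (R := R) (T := K') h (h.map
      (Algebra.TensorProduct.includeRight (R := R) (A := K') (B := R)).toRingHom) rfl).trans
      (AdjoinRoot.mapAlgEquiv (Algebra.TensorProduct.rid R K' K') _ (h.map (algebraMap R K')) (by
        rw [Polynomial.map_map]
        refine Associated.of_eq (congrArg (h.map ·) (RingHom.ext fun r => ?_))
        simp [Algebra.smul_def]))
    rw [e.toLinearEquiv.finrank_eq, PowerBasis.finrank (AdjoinRoot.powerBasis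
      ((Polynomial.map_ne_zero_iff (IsFractionRing.injective R K')).mpr hh0)), AdjoinRoot.powerBasis_dim,
      Polynomial.natDegree_map_eq_of_injective (IsFractionRing.injective R K'), hdeg]

end Groth.Agent.S17410
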