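import Groth.Statements.S17411
import Groth.Agent.H23.CurveCorr
-- import your own Groth.Agent.* helpers here

set_option autoImplicit false
universe u
open CategoryTheory AlgebraicGeometry
open Prym5

namespace Groth.Agent.S17411

/-- Let k be an algebraically closed field of characteristic zero and X, Y, Z schemes of finite type
over k, with Y and Z irreducible of the same dimension, η : Y → Z a dominant k-morphism and ρ : X →
Y a k-morphism. Then the composite ρ ≫ η is dominant exactly when ρ is dominant. (The published
statement concerns the forgetful map from the moduli space of étale double covers of genus-five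
curves to the moduli space of genus-five curves, both irreducible of dimension 12, and a morphism
into the former; its argument uses only the hypotheses kept here.) -/
theorem result (k : Type u) [Field k] [IsAlgClosed k]
    [CharZero k] (X Y Z : Scheme.{u}) [X.Over (Spec (CommRingCat.of k))] [Y.Over (Spec (CommRingCat.of k))]
    [Z.Over (Spec (CommRingCat.of k))]
    [LocallyOfFiniteType (X ↘ Spec (CommRingCat.of k))] [QuasiCompact (X ↘ Spec (CommRingCat.of k))]
    [LocallyOfFiniteType (Y ↘ Spec (CommRingCat.of k))] [QuasiCompact (Y ↘ Spec (CommRingCat.of k))]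
    [LocallyOfFiniteType (Z ↘ Spec (CommRingCat.of k))] [QuasiCompact (Z ↘ Spec (CommRingCat.of k))]
    [IrreducibleSpace Y] [IrreducibleSpace Z] (hdim : topologicalKrullDim Y = topologicalKrullDim Z)
    (ρ : X ⟶ Y) [ρ.IsOver (Spec (CommRingCat.of k))] (η : Y ⟶ Z) [η.IsOver (Spec (CommRingCat.of k))]
    [IsDominant η] :
    IsDominant (ρ ≫ η) ↔ IsDominant ρ := by
  exact Groth.Agent.H23.CurveCorr.isDominant_comp_iff (X ↘ Spec (CommRingCat.of k)) (Y ↘ Spec (CommRingCat.of k)) (Z ↘ Spec (CommRingCat.of k)) hdim ρ η (CategoryTheory.comp_over η _)

end Groth.Agent.S17411
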