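import Groth.Statements.S17412
import Groth.Agent.H23.ProjEquivCan

set_option autoImplicit false
universe u
open CategoryTheory CategoryTheory.Limits AlgebraicGeometry
open Prym5

namespace Groth.Agent.S17412

/-- Let k be an algebraically closed field of characteristic zero, g ≥ 3, and X₁, X₂ smooth proper
integral curves of genus g over k. Suppose each X_j is canonically embedded: i_j : X_j → P^{g-1}_k
is a closed immersion over k, the pullback i_j^* O(1) is isomorphic to the sheaf of differentials of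
X_j over k, and X_j lies in no hyperplane (the restriction map from the global sections of O(1) to
those of i_j^* O(1) is injective). Then X₁ and X₂ are isomorphic over k exactly when they are
projectively equivalent: there are a k-automorphism σ of P^{g-1}_k and an isomorphism ψ : X₁ ≅ X₂
with i₁ ≫ σ = ψ ≫ i₂. (Projective equivalence is expressed through k-automorphisms of the scheme
P^{g-1}_k; that these are exactly the projective linear transformations is classical and not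
restated.) -/
theorem result (k : Type u) [Field k] [IsAlgClosed k]
    [CharZero k] (g : ℕ) (hg : 3 ≤ g)
    (X₁ X₂ : Scheme.{u}) [X₁.Over (Spec (CommRingCat.of k))] [X₂.Over (Spec (CommRingCat.of k))]
    [AlgebraicGeometry.IsIntegral X₁] [AlgebraicGeometry.IsIntegral X₂]
    [IsProper (X₁ ↘ Spec (CommRingCat.of k))] [IsProper (X₂ ↘ Spec (CommRingCat.of k))]
    [Smooth (X₁ ↘ Spec (CommRingCat.of k))] [Smooth (X₂ ↘ Spec (CommRingCat.of k))]
    (hd₁ : topologicalKrullDim X₁ = 1) (hd₂ : topologicalKrullDim X₂ = 1)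
    (hg₁ : Curv2.genus k X₁ = g) (hg₂ : Curv2.genus k X₂ = g)
    (i₁ : X₁ ⟶ CohB1.ProjSpace (g - 1) k) (i₂ : X₂ ⟶ CohB1.ProjSpace (g - 1) k)
    [IsClosedImmersion i₁] [IsClosedImmersion i₂]
    (hi₁ : i₁ ≫ CohB1.ProjSpace.toSpec (g - 1) k = X₁ ↘ Spec (CommRingCat.of k))
    (hi₂ : i₂ ≫ CohB1.ProjSpace.toSpec (g - 1) k = X₂ ↘ Spec (CommRingCat.of k))
    (e₁ : (Scheme.Modules.pullback i₁).obj (Twist.twistProjSpace (g - 1) k 1)
      ≅ Omega.sheaf (X₁ ↘ Spec (CommRingCat.of k)))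
    (e₂ : (Scheme.Modules.pullback i₂).obj (Twist.twistProjSpace (g - 1) k 1)
      ≅ Omega.sheaf (X₂ ↘ Spec (CommRingCat.of k)))
    (hnd₁ : Function.Injective
      (((Scheme.Modules.pullbackPushforwardAdjunction i₁).unit.app (Twist.twistProjSpace (g - 1) k 1)).app ⊤))
    (hnd₂ : Function.Injective
      (((Scheme.Modules.pullbackPushforwardAdjunction i₂).unit.app (Twist.twistProjSpace (g - 1) k 1)).app ⊤)) :
    (∃ φ : X₁ ≅ X₂, φ.hom ≫ (X₂ ↘ Spec (CommRingCat.of k)) = X₁ ↘ Spec (CommRingCat.of k)) ↔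
      ∃ (σ : CohB1.ProjSpace (g - 1) k ≅ CohB1.ProjSpace (g - 1) k) (ψ : X₁ ≅ X₂),
        σ.hom ≫ CohB1.ProjSpace.toSpec (g - 1) k = CohB1.ProjSpace.toSpec (g - 1) k ∧
        i₁ ≫ σ.hom = ψ.hom ≫ i₂ := by
  obtain ⟨N, rfl⟩ : ∃ N, g = N + 1 := ⟨g - 1, by omega⟩
  constructor
  · rintro ⟨φ, hφ⟩
    obtain ⟨eΩ⟩ := Groth.Agent.H23.ProjEquiv.omega_iso φ hφ
    obtain ⟨σ, hσ, hfac⟩ := Groth.Agent.H23.ProjEquiv.exists_linear_equiv (X := X₁) (N := N + 1 - 1) hd₁
      (by rw [hg₁]; omega) i₁ (φ.hom ≫ i₂) hi₁ (by rw [Category.assoc, hi₂, hφ]) e₁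
      (Groth.Agent.H23.ProjEquiv.compIso φ.hom i₂ _ e₂ ≪≫ eΩ) hnd₁
      (Groth.Agent.H23.ProjEquiv.injective_comp φ i₂ hnd₂)
    exact ⟨σ, φ, hσ, hfac⟩
  · rintro ⟨σ, ψ, hσ, hfac⟩
    refine ⟨ψ, ?_⟩
    rw [← hi₂, ← Category.assoc, ← hfac, Category.assoc, hσ, hi₁]

end Groth.Agent.S17412
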