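import Groth.Statements.S17414
import Groth.Agent.PrymLib.Discr
-- import your own Groth.Agent.* helpers here

set_option autoImplicit false
universe u
open Prym5

namespace Groth.Agent.S17414

/-- Over a perfect field K of characteristic different from 2 and 3, let G₂, G₃, G₄ be polynomials in x,
y, let h = G₂ z² + 2 G₃ z + G₄ in K[x, y, z] and D = G₃² − G₂ G₄ in K[x, y]. Suppose h ∈ (x, y, z) —
the origin Q lies on the surface h = 0 — and D ∈ (x, y) — the image of Q under (x, y, z) ↦ (x, y)
lies on the discriminant curve D = 0. Then D ∈ (x, y)², i.e. the image point is singular on the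
discriminant curve, if and only if either h ∈ (x, y, z)², i.e. Q is a singular point of the surface,
or G₂, G₃, G₄ ∈ (x, y), i.e. Q lies on all three cones G₂ = G₃ = G₄ = 0. (Affine-local form, in a
chart where the node projected from sits at infinity on the z-axis and Q at the origin, of the
published claim: for a point Q ≠ P of the nodal quartic whose projection lies on the branch sextic,
the projection is singular on the sextic exactly when Q is singular on the quartic or lies on the
cones u₂ = u₃ = u₄ = 0.) -/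
theorem result (K : Type u) [Field K] [PerfectField K]
    (h2 : (2 : K) ≠ 0) (h3 : (3 : K) ≠ 0) (G₂ G₃ G₄ : MvPolynomial (Fin 2) K)
    (hQ : MvPolynomial.rename (Fin.castSucc : Fin 2 → Fin 3) G₂ * MvPolynomial.X (2 : Fin 3) ^ 2
        + 2 * MvPolynomial.rename (Fin.castSucc : Fin 2 → Fin 3) G₃ * MvPolynomial.X (2 : Fin 3)
        + MvPolynomial.rename (Fin.castSucc : Fin 2 → Fin 3) G₄
        ∈ Ideal.span (Set.range (MvPolynomial.X : Fin 3 → MvPolynomial (Fin 3) K)))
    (hD : G₃ ^ 2 - G₂ * G₄ ∈ Ideal.span (Set.range (MvPolynomial.X : Fin 2 → MvPolynomial (Fin 2) K))) :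
    G₃ ^ 2 - G₂ * G₄ ∈ (Ideal.span (Set.range (MvPolynomial.X : Fin 2 → MvPolynomial (Fin 2) K))) ^ 2 ↔
      (MvPolynomial.rename (Fin.castSucc : Fin 2 → Fin 3) G₂ * MvPolynomial.X (2 : Fin 3) ^ 2
          + 2 * MvPolynomial.rename (Fin.castSucc : Fin 2 → Fin 3) G₃ * MvPolynomial.X (2 : Fin 3)
          + MvPolynomial.rename (Fin.castSucc : Fin 2 → Fin 3) G₄
          ∈ (Ideal.span (Set.range (MvPolynomial.X : Fin 3 → MvPolynomial (Fin 3) K))) ^ 2 ∨
        (G₂ ∈ Ideal.span (Set.range (MvPolynomial.X : Fin 2 → MvPolynomial (Fin 2) K)) ∧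
          G₃ ∈ Ideal.span (Set.range (MvPolynomial.X : Fin 2 → MvPolynomial (Fin 2) K)) ∧
          G₄ ∈ Ideal.span (Set.range (MvPolynomial.X : Fin 2 → MvPolynomial (Fin 2) K)))) := by
  exact Groth.Agent.PrymLib.discr_mem_sq_iff h2 hQ hD

end Groth.Agent.S17414
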