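import Groth.Agent.QCoh.Support
import Groth.Agent.MorLib.FlatBC
import Groth.Agent.LimModLib.FP
import Mathlib
import Groth.Statements.S17417
-- import your own Groth.Agent.* helpers here

set_option autoImplicit false
open CategoryTheory CategoryTheory.Limits AlgebraicGeometry
universe u
open ModSt

namespace Groth.Agent.S17417

set_option backward.isDefEq.respectTransparency false
set_option backward.isDefEq.respectTransparency.types false
open ModSt AlgebraicGeometry CategoryTheory CategoryTheory.Limits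

variable {X S : Scheme.{u}} {f : X ⟶ S}

lemma pushforwardCongr_refl {Y Z : Scheme.{u}} (h : Y ⟶ Z) (M : Y.Modules) :
    (Scheme.Modules.pushforwardCongr (rfl : h = h)).hom.app M = 𝟙 _ := by
  ext U x
  simp

/-- A cartesian comparison map along a composite factors uniquely, by a cartesian one. -/
lemma exists_factor {Y Z W : Scheme.{u}} {h₁ : Y ⟶ Z} {h₂ : Z ⟶ W} {h : Y ⟶ W} (e : h₁ ≫ h₂ = h)
    {P : W.Modules} {N : Z.Modules} {M : Y.Modules}
    {c₂ : P ⟶ (Scheme.Modules.pushforward h₂).obj N} (hc₂ : IsCart h₂ c₂)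
    {c : P ⟶ (Scheme.Modules.pushforward h).obj M} (hc : IsCart h c) :
    ∃ c₁ : N ⟶ (Scheme.Modules.pushforward h₁).obj M, IsCart h₁ c₁ ∧
      (c₂ ≫ (Scheme.Modules.pushforward h₂).map c₁ ≫ (Scheme.Modules.pushforwardComp h₁ h₂).hom.app M) ≫
        (Scheme.Modules.pushforwardCongr e).hom.app M = c := by
  subst e
  obtain ⟨c₁, hc₁⟩ := (hc₂ _).2 (c ≫ (Scheme.Modules.pushforwardComp h₁ h₂).inv.app M)
  simp only at hc₁
  have hkey : c₂ ≫ (Scheme.Modules.pushforward h₂).map c₁ ≫ (Scheme.Modules.pushforwardComp h₁ h₂).hom.app M = c := by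
    rw [← Category.assoc, hc₁, Category.assoc, Iso.inv_hom_id_app, Category.comp_id]
  refine ⟨c₁, fun M' => ?_, by rw [pushforwardCongr_refl, Category.comp_id, hkey]⟩
  have h2 := hc M'
  have heq : (fun v : M ⟶ M' => c ≫ (Scheme.Modules.pushforward (h₁ ≫ h₂)).map v) =
      ((Scheme.Modules.pushforwardComp h₁ h₂).app M').homToEquiv ∘
        (fun w : N ⟶ (Scheme.Modules.pushforward h₁).obj M' => c₂ ≫ (Scheme.Modules.pushforward h₂).map w) ∘
        (fun v : M ⟶ M' => c₁ ≫ (Scheme.Modules.pushforward h₁).map v) := by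
    funext v
    rw [← hkey]
    simp only [Function.comp_apply, Iso.homToEquiv_apply, Iso.app_hom, Category.assoc, Functor.map_comp]
    rw [← (Scheme.Modules.pushforwardComp h₁ h₂).hom.naturality v]
    rfl
  rw [heq] at h2
  exact ((hc₂ _).of_comp_iff' _).1 (((Equiv.bijective _).of_comp_iff' _).1 h2)

/-- Equality of morphisms with the same underlying maps. -/
lemma hom_ext_congr {A B : Obj f} {φ ψ : A ⟶ B} (hb : φ.base = ψ.base) (ht : φ.top = ψ.top)
    (hc : φ.c ≫ (Scheme.Modules.pushforwardCongr ht).hom.app A.E = ψ.c) : φ = ψ := by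
  obtain ⟨b, t, wp, wq, c, hcart⟩ := φ
  obtain ⟨b', t', wp', wq', c', hcart'⟩ := ψ
  cases hb
  cases ht
  rw [pushforwardCongr_refl] at hc
  simp only [Category.comp_id] at hc
  cases hc
  rfl

/-- Morphisms over a given map of bases are cancelled on the right. -/
lemma lift_unique {A B C : Obj f} (φ : B ⟶ A) {χ χ' : C ⟶ B} (hb : χ.base = χ'.base)
    (h : χ ≫ φ = χ' ≫ φ) : χ = χ' := by
  have ht : χ.top = χ'.top := φ.isPullback_top.hom_ext (congrArg (fun m : C ⟶ A => m.top) h)
    (by rw [χ.w_q, χ'.w_q, hb])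
  obtain ⟨b, t, wp, wq, c, hcart⟩ := χ
  obtain ⟨b', t', wp', wq', c', hcart'⟩ := χ'
  cases hb
  cases ht
  have hc := eq_of_heq (Sigma.mk.inj (congrArg (fun m : C ⟶ A =>
    (⟨m.top, m.c⟩ : Σ t : C.XT ⟶ A.XT, A.E ⟶ (Scheme.Modules.pushforward t).obj C.E)) h)).2
  simp only [Obj.comp_c, ← Category.assoc, cancel_mono] at hc
  have := (φ.cart _).1 hc
  cases this
  rfl

lemma lift_exists {A B C : Obj f} (φ : B ⟶ A) (ψ : C ⟶ A) (g : C.base ⟶ B.base) (hg : g ≫ φ.base = ψ.base) :
    ∃ χ : C ⟶ B, χ.base = g ∧ χ ≫ φ = ψ := by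
  have w : ψ.top ≫ A.q = (C.q ≫ g.left) ≫ φ.base.left := by
    rw [ψ.w_q, ← hg, Over.comp_left, Category.assoc]
  let t := φ.isPullback_top.lift ψ.top (C.q ≫ g.left) w
  have ht : t ≫ φ.top = ψ.top := φ.isPullback_top.lift_fst _ _ _
  obtain ⟨c₁, hc₁, hc₁'⟩ := exists_factor ht φ.cart ψ.cart
  refine ⟨{ base := g, top := t, w_p := ?_, w_q := φ.isPullback_top.lift_snd _ _ _, c := c₁, cart := hc₁ }, rfl, ?_⟩
  · rw [← φ.w_p, ← Category.assoc, ht, ψ.w_p]
  · exact hom_ext_congr hg ht hc₁'

/-- Every morphism of bases lifts. -/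
lemma exists_lift_coh (A : Obj f) (hA : IsCohObj A) {V : Over S} (g : V ⟶ A.base) :
    ∃ (B : Obj f) (_ : IsCohObj B) (hb : B.base = V) (φ : B ⟶ A), φ.base = eqToHom hb ≫ g := by
  have hq : Coh.IsQCoh A.E := Groth.Agent.QCoh.isQCoh_of_isFP hA.2
  have hpb := IsPullback.of_hasPullback A.q g.left
  let B : Obj f :=
    { base := V
      XT := pullback A.q g.left
      p := pullback.fst A.q g.left ≫ A.p
      q := pullback.snd A.q g.left
      isPullback := by have := hpb.paste_horiz A.isPullback; rwa [Over.w g] at this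
      E := (Scheme.Modules.pullback (pullback.fst A.q g.left)).obj A.E }
  refine ⟨B, ⟨fun x => Groth.Agent.MorLib.FlatBC.isFlatOverAt_baseChange A.q B.q _ g.left hpb A.E x (hA.1 _),
    Groth.Agent.LimModLib.isFP_pullback _ hq hA.2⟩, rfl,
    { base := g
      top := pullback.fst A.q g.left
      w_p := rfl
      w_q := hpb.w
      c := (Scheme.Modules.pullbackPushforwardAdjunction (pullback.fst A.q g.left)).unit.app A.E
      cart := fun M' => ?_ }, by simp⟩
  have h := ((Scheme.Modules.pullbackPushforwardAdjunction (pullback.fst A.q g.left)).homEquiv A.E M').bijective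
  convert h using 1
  funext v
  exact ((Scheme.Modules.pullbackPushforwardAdjunction (pullback.fst A.q g.left)).homEquiv_unit A.E M' v).symm

/-- Let `f : X ⟶ S` be a morphism of schemes. The category over `(Sch/S)` of finitely presented modules
flat over the base (objects over `T`: a cartesian square `X_T` over `T` and a finitely presented
`T`-flat module on `X_T`; morphisms: cartesian comparison maps over morphisms of bases) is fibred in
groupoids. (The source states this for a morphism of finite presentation of algebraic spaces `X → B`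
over a base scheme and for modules whose support is moreover proper over the base; this row is the
case of schemes with base `S = B`, for the category without the support condition, and for any
morphism `f`.) -/
theorem result {X S : Scheme.{u}} (f : X ⟶ S) :
    FibCat.IsFibGrpd (ModSt.Coh f).p := by
  constructor
  · intro x V g
    obtain ⟨B, hB, rfl, φ, hφ⟩ := exists_lift_coh x.obj x.property g
    refine ⟨⟨B, hB⟩, ObjectProperty.homMk φ, ?_⟩
    simp only [eqToHom_refl, Category.id_comp] at hφ
    subst hφ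
    exact IsHomLift.map (ModSt.Coh f).p (ObjectProperty.homMk φ : (⟨B, hB⟩ : (ModSt.Coh f).obj) ⟶ x)
  · intro y x φ
    haveI : (ModSt.Coh f).p.IsHomLift ((ModSt.Coh f).p.map φ) φ := IsHomLift.map _ φ
    refine ⟨fun {z} g ψ hψ => ?_⟩
    have hfac : ψ.hom.base = g ≫ φ.hom.base := by
      have := IsHomLift.fac' (ModSt.Coh f).p (g ≫ (ModSt.Coh f).p.map φ) ψ
      simp at this
      exact this
    obtain ⟨χ, hχb, hχ⟩ := lift_exists φ.hom ψ.hom g hfac.symm
    refine ⟨ObjectProperty.homMk χ, ⟨?_, ObjectProperty.hom_ext _ hχ⟩, fun χ' hχ' => ?_⟩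
    · subst hχb
      exact IsHomLift.map (ModSt.Coh f).p (ObjectProperty.homMk χ)
    · refine ObjectProperty.hom_ext _ (lift_unique φ.hom ?_ ?_)
      · have := hχ'.1
        have h2 := IsHomLift.fac' (ModSt.Coh f).p g χ'
        simp at h2
        exact h2.trans hχb.symm
      · exact ((congrArg (fun m : z ⟶ x => m.hom) hχ'.2).trans hχ.symm)

end Groth.Agent.S17417
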