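import Groth.Statements.S1742
import Groth.Agent.Alg6.AssDepth
import Mathlib.RingTheory.Regular.RegularSequence
import Mathlib.RingTheory.Localization.AtPrime.Basic
import Mathlib.RingTheory.Spectrum.Prime.Topology
import Mathlib.RingTheory.Noetherian.Basic

set_option autoImplicit false
universe u
open LocCoh

namespace Groth.Agent.S1742

open RingTheory.Sequence

theorem mem_smul_top_localized {A : Type u} [CommRing A] (S : Submonoid A) (J : Ideal A)
    (M : Type u) [AddCommGroup M] [Module A M] {m : M}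
    (hm : LocalizedModule.mkLinearMap S M m ∈ J • (⊤ : Submodule A (LocalizedModule S M))) :
    ∃ t ∈ S, t • m ∈ J • (⊤ : Submodule A M) := by
  have key : ∀ x ∈ J • (⊤ : Submodule A (LocalizedModule S M)),
      ∃ n ∈ J • (⊤ : Submodule A M), ∃ s : S, (s : A) • x = LocalizedModule.mkLinearMap S M n := by
    intro x hx
    refine Submodule.smul_induction_on hx (fun r hr y _ => ?_) ?_
    · obtain ⟨⟨n, s⟩, hn⟩ := IsLocalizedModule.surj S (LocalizedModule.mkLinearMap S M) y
      refine ⟨r • n, Submodule.smul_mem_smul hr Submodule.mem_top, s, ?_⟩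
      rw [map_smul, ← hn, smul_comm]
      rfl
    · rintro a b ⟨n, hn, s, e⟩ ⟨n', hn', s', e'⟩
      refine ⟨(s' : A) • n + (s : A) • n', add_mem (Submodule.smul_mem _ _ hn)
        (Submodule.smul_mem _ _ hn'), s * s', ?_⟩
      rw [map_add, map_smul, map_smul, ← e, ← e', smul_add, Submonoid.coe_mul, smul_smul, smul_smul,
        mul_comm (s' : A)]
  obtain ⟨n, hn, s, e⟩ := key _ hm
  rw [← map_smul] at e
  obtain ⟨c, hc⟩ := IsLocalizedModule.exists_of_eq (S := S) (f := LocalizedModule.mkLinearMap S M) e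
  refine ⟨(c : A) * s, S.mul_mem c.2 s.2, ?_⟩
  rw [mul_smul, show (c : A) • (s : A) • m = (c : A) • n from hc]
  exact Submodule.smul_mem _ _ hn

theorem mkLinearMap_mem_smul_top {A : Type u} [CommRing A] (S : Submonoid A) (J : Ideal A)
    (M : Type u) [AddCommGroup M] [Module A M] {m : M} (hm : m ∈ J • (⊤ : Submodule A M)) :
    LocalizedModule.mkLinearMap S M m ∈ J • (⊤ : Submodule A (LocalizedModule S M)) := by
  have := Submodule.mem_map_of_mem (f := LocalizedModule.mkLinearMap S M) hm
  rw [Submodule.map_smul''] at this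
  exact Submodule.smul_mono le_rfl le_top this

/-- Weak regularity passes to unit multiples. -/
theorem isWeaklyRegular_of_unit_mul {B : Type u} [CommRing B] {N : Type u} [AddCommGroup N]
    [Module B N] (g : B → B) (rs : List B) (hg : ∀ r ∈ rs, ∃ u : Bˣ, g r = u * r)
    (h : IsWeaklyRegular N rs) : IsWeaklyRegular N (rs.map g) := by
  refine ⟨fun i hi => ?_⟩
  have hi' : i < rs.length := by simpa using hi
  have hI : Ideal.ofList ((rs.map g).take i) = Ideal.ofList (rs.take i) := by
    rw [← List.map_take]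
    refine le_antisymm (Ideal.span_le.2 fun x hx => ?_) (Ideal.span_le.2 fun x hx => ?_)
    · obtain ⟨r, hr, rfl⟩ := List.mem_map.1 hx
      obtain ⟨u, hu⟩ := hg r (List.mem_of_mem_take hr)
      rw [hu]
      exact Ideal.mul_mem_left _ _ (Ideal.subset_span hr)
    · obtain ⟨u, hu⟩ := hg x (List.mem_of_mem_take hx)
      have hmem : g x ∈ Ideal.ofList ((rs.take i).map g) :=
        Ideal.subset_span (List.mem_map.2 ⟨x, hx, rfl⟩)
      rw [hu] at hmem
      exact (Ideal.unit_mul_mem_iff_mem _ u.isUnit).1 hmem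
  rw [hI]
  obtain ⟨u, hu⟩ := hg _ (List.getElem_mem hi')
  rw [List.getElem_map, hu]
  exact (IsSMulRegular.of_mul_eq_one u.inv_mul).mul (h.regular_mod_prev i hi')

theorem spread {A : Type u} [CommRing A] [IsNoetherianRing A] (M : Type u) [AddCommGroup M]
    [Module A M] [Module.Finite A M] (p : Ideal A) [p.IsPrime] (as : List A)
    (h : IsWeaklyRegular (LocalizedModule p.primeCompl M) as) :
    ∃ f ∉ p, ∀ (q : Ideal A) [q.IsPrime], f ∉ q →
      IsWeaklyRegular (LocalizedModule q.primeCompl M) as := by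
  classical
  have hK : ∀ i : Fin as.length, ∃ f ∉ p, ∀ m : M,
      as[i.1] • m ∈ Ideal.ofList (as.take i) • (⊤ : Submodule A M) →
        f • m ∈ Ideal.ofList (as.take i) • (⊤ : Submodule A M) := by
    intro i
    set J := Ideal.ofList (as.take i) • (⊤ : Submodule A M)
    let K : Submodule A M := J.comap (as[i.1] • LinearMap.id)
    obtain ⟨s, hs⟩ := IsNoetherian.noetherian K
    have hm : ∀ m ∈ K, ∃ t, t ∉ p ∧ t • m ∈ J := by
      intro m hm
      have h1 : LocalizedModule.mkLinearMap p.primeCompl M (as[i.1] • m) ∈ Ideal.ofList (as.take i) • (⊤ : Submodule A _) :=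
        mkLinearMap_mem_smul_top _ _ _ hm
      have h2 : LocalizedModule.mkLinearMap p.primeCompl M m ∈ Ideal.ofList (as.take i) • (⊤ : Submodule A _) := by
        refine (Submodule.Quotient.mk_eq_zero _).1 ((h.regular_mod_prev i i.2) ?_)
        change as[i.1] • Submodule.Quotient.mk _ = as[i.1] • (0 : _ ⧸ _)
        rw [smul_zero, ← Submodule.Quotient.mk_smul, Submodule.Quotient.mk_eq_zero, ← map_smul]
        exact h1
      obtain ⟨t, ht, htm⟩ := mem_smul_top_localized _ _ _ h2
      exact ⟨t, ht, htm⟩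
    choose! t ht htm using hm
    have hsK : ∀ x ∈ s, x ∈ K := fun x hx => hs ▸ Submodule.subset_span hx
    refine ⟨∏ x ∈ s, t x, fun hmem => ?_, fun m hm => ?_⟩
    · obtain ⟨x, hx, hxp⟩ := Ideal.IsPrime.prod_mem_iff.1 hmem
      exact ht x (hsK x hx) hxp
    · have hle : K ≤ J.comap ((∏ x ∈ s, t x) • LinearMap.id) := by
        rw [← hs, Submodule.span_le]
        intro x hx
        rw [SetLike.mem_coe, Submodule.mem_comap, LinearMap.smul_apply, LinearMap.id_apply,
          ← Finset.prod_erase_mul s t hx, mul_smul]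
        exact Submodule.smul_mem _ _ (htm x (hsK x hx))
      exact hle hm
  choose f hf hfm using hK
  refine ⟨∏ i, f i, fun hmem => ?_, fun q _ hq => ⟨fun i hi => ?_⟩⟩
  · obtain ⟨i, -, hi⟩ := Ideal.IsPrime.prod_mem_iff.1 hmem
    exact hf i hi
  · refine isSMulRegular_iff_right_eq_zero_of_smul.2 fun x hx => ?_
    obtain ⟨x, rfl⟩ := Submodule.mkQ_surjective _ x
    rw [← map_smul, Submodule.mkQ_apply, Submodule.Quotient.mk_eq_zero] at hx
    rw [Submodule.mkQ_apply, Submodule.Quotient.mk_eq_zero]
    obtain ⟨⟨m, s⟩, hms⟩ := IsLocalizedModule.surj q.primeCompl (LocalizedModule.mkLinearMap _ M) x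
    change (s : A) • x = _ at hms
    have hmul : LocalizedModule.mkLinearMap q.primeCompl M (as[i] • m) ∈
        Ideal.ofList (as.take i) • (⊤ : Submodule A _) := by
      rw [map_smul, ← hms, smul_comm]
      exact Submodule.smul_mem _ _ hx
    obtain ⟨c, hc, hcm⟩ := mem_smul_top_localized _ _ _ hmul
    rw [smul_comm] at hcm
    have h3 := mkLinearMap_mem_smul_top q.primeCompl _ M (hfm ⟨i, hi⟩ (c • m) hcm)
    rw [map_smul, map_smul, ← hms, smul_smul, smul_smul] at h3
    have hu : IsUnit (algebraMap A (Module.End A (LocalizedModule q.primeCompl M))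
        (f ⟨i, hi⟩ * c * s)) := by
      refine IsLocalizedModule.map_units (LocalizedModule.mkLinearMap q.primeCompl M)
        ⟨_, q.primeCompl.mul_mem (q.primeCompl.mul_mem (fun hm => hq ?_) hc) s.2⟩
      exact Ideal.mem_of_dvd _ (Finset.dvd_prod_of_mem f (Finset.mem_univ _)) hm
    obtain ⟨g, hg⟩ := hu.exists_left_inv
    have := Submodule.smul_top_le_comap_smul_top (Ideal.ofList (as.take i)) g h3
    have e : g ((f ⟨i, hi⟩ * c * s) • x) = x := LinearMap.congr_fun hg x
    rwa [Submodule.mem_comap, e] at this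

end Groth.Agent.S1742

namespace Groth.Agent.S1742

open RingTheory.Sequence


/-- Let A be a Noetherian ring, I an ideal, M a finite A-module and p a prime containing I such that the
IA_p-depth of M_p is a finite number e. Then there is an open subset U of Spec A meeting V(p) such
that the IA_q-depth of M_q is at least e for every q in U ∩ V(p). -/
theorem result (A : Type u) [CommRing A] [IsNoetherianRing A] (I : Ideal A) (M : Type u) [AddCommGroup M] [Module A M] [Module.Finite A M] (p : PrimeSpectrum A) (hp : I ≤ p.asIdeal) (e : ℕ) (he : LocCoh.idealDepth (I.map (algebraMap A (Localization.AtPrime p.asIdeal))) (LocalizedModule p.asIdeal.primeCompl M) = e) : ∃ U : Set (PrimeSpectrum A), IsOpen U ∧ (U ∩ PrimeSpectrum.zeroLocus (p.asIdeal : Set A)).Nonempty ∧ ∀ q : PrimeSpectrum A, q ∈ U → p ≤ q → (e : ℕ∞) ≤ LocCoh.idealDepth (I.map (algebraMap A (Localization.AtPrime q.asIdeal))) (LocalizedModule q.asIdeal.primeCompl M) := by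
  classical
  set Ap := Localization.AtPrime p.asIdeal
  set N := LocalizedModule p.asIdeal.primeCompl M
  have hne : I.map (algebraMap A Ap) • (⊤ : Submodule Ap N) ≠ ⊤ := by
    intro htop
    rw [LocCoh.idealDepth, if_pos htop] at he
    exact absurd he (ENat.top_ne_coe e)
  obtain ⟨rs, hrs, hrsI, hlen⟩ := Alg6.exists_length_ge_of_le_idealDepth hne he.ge
  have hg : ∀ r ∈ rs, ∃ a ∈ I, ∃ v : Apˣ, algebraMap A Ap a = v * r := by
    intro r hr
    obtain ⟨⟨a, s⟩, has⟩ := (IsLocalization.mem_map_algebraMap_iff p.asIdeal.primeCompl Ap).1 (hrsI r hr)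
    refine ⟨a, a.2, (IsLocalization.map_units Ap s).unit, ?_⟩
    rw [IsUnit.unit_spec, mul_comm, ← has]
  choose! g hgI v hv using hg
  have hreg : IsWeaklyRegular N (rs.map g) := by
    rw [← isWeaklyRegular_map_algebraMap_iff Ap N, List.map_map]
    exact isWeaklyRegular_of_unit_mul _ rs (fun r hr => ⟨v r, hv r hr⟩) hrs
  obtain ⟨f, hf, hspread⟩ := spread M p.asIdeal _ hreg
  refine ⟨PrimeSpectrum.basicOpen f, (PrimeSpectrum.basicOpen f).2, ⟨p, hf, le_refl (p.asIdeal : Set A)⟩,
    fun q hq _ => ?_⟩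
  have h := (isWeaklyRegular_map_algebraMap_iff (Localization.AtPrime q.asIdeal)
    (LocalizedModule q.asIdeal.primeCompl M) (rs.map g)).2 (hspread q.asIdeal hq)
  refine le_trans ?_ (Alg6.length_le_idealDepth h ?_)
  · rw [List.length_map, List.length_map]; exact_mod_cast hlen
  · intro r hr
    simp only [List.mem_map] at hr
    obtain ⟨a, ⟨r', hr', rfl⟩, rfl⟩ := hr
    exact Ideal.mem_map_of_mem _ (hgI r' hr')

end Groth.Agent.S1742
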