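import Groth.Statements.S17421
import Groth.Agent.AlgStLib.OpenSub
import Groth.Agent.Lib.RankOpenBase
-- import your own Groth.Agent.* helpers here

set_option autoImplicit false
open CategoryTheory CategoryTheory.Limits AlgebraicGeometry
universe u
open ModSt

namespace Groth.Agent.S17421

set_option backward.isDefEq.respectTransparency false
set_option backward.isDefEq.respectTransparency.types false

section
open CategoryTheory CategoryTheory.Functor CategoryTheory.Limits AlgebraicGeometry Opposite AlgSp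
open Groth.Agent.FibBase Groth.Agent.AlgSpLib Groth.Agent.AlgStLib

/-- A condition cut out on every chart by an open set of the base gives an open immersion. -/
theorem isOpenImm_of_locus {S : Scheme.{u}} {𝒳 : AlgSt.Cat S} (Q : 𝒳.obj → Prop)
    (hQ : ∀ ⦃y x : 𝒳.obj⦄, (y ⟶ x) → Q x → Q y)
    (hloc : ∀ (U : Over S) (y : FibCat.overCat U ⥤ᵇ 𝒳), ∃ V : U.left.Opens, ∀ a : Over U,
      Q (y.obj a) ↔ Set.range a.hom.left ⊆ (V : Set U.left)) :
    AlgSt.IsOpenImm (AlgSt.subIncl 𝒳 Q) := fun U y => by
  obtain ⟨V, hV⟩ := hloc U y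
  let Vs : Over S := Over.mk (V.ι ≫ U.hom)
  let j : Vs ⟶ U := Over.homMk V.ι rfl
  have hmem : ∀ c : Over Vs, Q (y.obj ((AlgSt.overMap j).obj c)) := fun c => (hV _).2 (by
    rintro _ ⟨w, rfl⟩
    show V.ι (c.hom.left w) ∈ (V : Set U.left)
    exact (c.hom.left w).2)
  let y' : FibCat.overCat Vs ⥤ᵇ AlgSt.fullSub 𝒳 Q :=
    { toFunctor := ObjectProperty.lift _ (BasedFunctor.comp (AlgSt.overMap j) y).toFunctor hmem
      w := (BasedFunctor.comp (AlgSt.overMap j) y).w }
  let e : FibCat.overCat Vs ⥤ᵇ FibCat.fp y (AlgSt.subIncl 𝒳 Q) :=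
    FibCat.fpLift (AlgSt.overMap j) y' (Iso.refl (BasedFunctor.comp (AlgSt.overMap j) y))
  have he : FibCat.IsEquivOver e := by
    refine isEquivOver_of_exists_iso _ ⟨fun {a b} t => ?_⟩ ⟨fun {a b} t t' h => ?_⟩ fun η => ?_
    · have hw : t.hom.fst.left ≫ b.hom ≫ j = a.hom ≫ j := Over.w t.hom.fst
      have hm : t.hom.fst.left ≫ b.hom = a.hom := by
        refine Over.OverMorphism.ext ((cancel_mono V.ι).1 ?_)
        have := congrArg CommaMorphism.left hw
        simp only [Over.comp_left] at this ⊢
        exact (Category.assoc _ _ _).trans this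
      let φ : a ⟶ b := Over.homMk t.hom.fst.left hm
      have hfst : (AlgSt.overMap j).map φ = t.hom.fst := Over.OverMorphism.ext rfl
      refine ⟨φ, ?_⟩
      refine ObjectProperty.hom_ext _ (CategoricalPullback.hom_ext hfst (ObjectProperty.hom_ext _ ?_))
      have h := t.hom.w
      have h' : y.map t.hom.fst ≫ 𝟙 _ = 𝟙 _ ≫ t.hom.snd.hom := h
      show y.map ((AlgSt.overMap j).map φ) = t.hom.snd.hom
      rw [hfst]
      exact ((Category.comp_id _).symm.trans h').trans (Category.id_comp _)
    · have := congrArg (fun k => k.hom.fst.left) h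
      exact Over.OverMorphism.ext this
    · let a := η.obj.fst
      have ha : Q (y.obj a) := hQ η.obj.iso.hom η.obj.snd.property
      have hr : Set.range a.hom.left ⊆ Set.range V.ι := by
        rw [Scheme.Opens.range_ι]
        exact (hV a).1 ha
      let l : a.left ⟶ Vs := Over.homMk (IsOpenImmersion.lift V.ι a.hom.left hr) (by
        show _ ≫ V.ι ≫ U.hom = _
        rw [← Category.assoc, IsOpenImmersion.lift_fac]
        exact Over.w a.hom)
      have hl : l ≫ j = a.hom := Over.OverMorphism.ext (IsOpenImmersion.lift_fac _ _ _)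
      let i₁ : (AlgSt.overMap j).obj (Over.mk l) ≅ a := Over.isoMk (Iso.refl a.left)
        ((Category.id_comp _).trans hl.symm)
      let i₂ : y'.obj (Over.mk l) ≅ η.obj.snd := ObjectProperty.isoMk _ (y.toFunctor.mapIso i₁ ≪≫ η.obj.iso)
      refine ⟨Over.mk l, fpIsoMk (x := e.obj (Over.mk l)) (y := η) i₁ i₂ ?_, ?_⟩
      · show y.map i₁.hom ≫ η.obj.iso.hom = 𝟙 _ ≫ (y.map i₁.hom ≫ η.obj.iso.hom)
        simp
      · exact fp_isHomLift (𝟙 _) _ (h := IsHomLift.of_fac _ _ _ rfl rfl (by
          show 𝟙 a.left = 𝟙 _ ≫ 𝟙 a.left ≫ 𝟙 _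
          simp))
  refine ⟨⟨(yon S).obj Vs, IsAlgSpace.yon_obj Vs⟩, BasedFunctor.comp (AlgSt.toOverCat Vs) e,
    isEquivOver_comp (isEquivOver_toOverCat Vs) he, ?_⟩
  rw [spMapOfOver_congr (show BasedFunctor.comp (BasedFunctor.comp (AlgSt.toOverCat Vs) e) (FibCat.fpFst y _) ≅
      BasedFunctor.comp (AlgSt.ofSpMap ((yon S).map j)) (AlgSt.toOverCat U) from toOverCatMapIso j),
    spMapOfOver_ofSpMap_toOverCat]
  exact (repWith_yon_map_iff _ j).2 (inferInstanceAs (IsOpenImmersion V.ι))


end

open AlgebraicGeometry CategoryTheory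

/-- A morphism of objects exhibits the source's module as the pullback. -/
theorem nonempty_iso_pullback {X S : Scheme.{u}} {f : X ⟶ S} {B A : ModSt.Obj f} (φ : B ⟶ A) :
    Nonempty ((Scheme.Modules.pullback φ.top).obj A.E ≅ B.E) := by
  let adj := Scheme.Modules.pullbackPushforwardAdjunction φ.top
  let v := (adj.homEquiv A.E B.E).symm φ.c
  haveI : IsIso v := by
    refine isIso_of_coyoneda_map_bijective v fun M' => ?_
    have e : (fun w : B.E ⟶ M' => v ≫ w) = (adj.homEquiv A.E M').symm ∘
        (fun w : B.E ⟶ M' => φ.c ≫ (Scheme.Modules.pushforward φ.top).map w) :=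
      funext fun w => (adj.homEquiv_naturality_right_symm φ.c w).symm
    rw [e]
    exact (adj.homEquiv A.E M').symm.bijective.comp (φ.cart M')
  exact ⟨asIso v⟩

theorem isFinLocFreeOfRank_mono {X S : Scheme.{u}} {f : X ⟶ S} {n : ℕ} ⦃B A : (ModSt.Coh f).obj⦄ (φ : B ⟶ A)
    (h : FlatMod.IsFinLocFreeOfRank n A.obj.E) : FlatMod.IsFinLocFreeOfRank n B.obj.E :=
  let ⟨e⟩ := nonempty_iso_pullback φ.hom
  (ConsPropLib.isFinLocFreeOfRank_iso e).1 (TFOneX.isFinLocFreeOfRank_pullback _ h)

theorem exists_locus {X S : Scheme.{u}} (f : X ⟶ S) [IsProper f] (n : ℕ) (U : Over S)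
    (y : FibCat.overCat U ⥤ᵇ ModSt.Coh f) : ∃ V : U.left.Opens, ∀ a : Over U,
      FlatMod.IsFinLocFreeOfRank n (y.obj a).obj.E ↔ Set.range a.hom.left ⊆ (V : Set U.left) := by
  let A := y.obj (Over.mk (𝟙 U))
  have hA : A.obj.base = U := y.w_obj (Over.mk (𝟙 U))
  haveI : IsProper A.obj.q := MorphismProperty.of_isPullback A.obj.isPullback ‹_›
  obtain ⟨VA, hVA⟩ := RankOpenBase.exists_open_of_isClosedMap A.obj.q A.obj.q.isClosedMap A.obj.E
    A.property.1 A.property.2 n
  refine ⟨(eqToHom hA.symm).left ⁻¹ᵁ VA, fun a => ?_⟩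
  let m : a ⟶ Over.mk (𝟙 U) := Over.homMk a.hom (Category.comp_id _)
  let φ := (y.map m).hom
  have ha : (y.obj a).obj.base = a.left := y.w_obj a
  have hb : φ.base = eqToHom ha ≫ a.hom ≫ eqToHom hA.symm := by
    have h := Functor.congr_hom y.w m
    exact h
  obtain ⟨e⟩ := nonempty_iso_pullback φ
  refine (ConsPropLib.isFinLocFreeOfRank_iso e).symm.trans ((hVA φ.top _ φ.base.left φ.isPullback_top).trans ?_)
  rw [hb]
  constructor
  · rintro h _ ⟨w, rfl⟩
    have h' := h ⟨(eqToHom ha.symm).left w, rfl⟩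
    rwa [← Scheme.Hom.comp_apply, ← Over.comp_left, eqToHom_trans_assoc, eqToHom_refl, Category.id_comp,
      Over.comp_left, Scheme.Hom.comp_apply] at h'
  · rintro h _ ⟨w, rfl⟩
    rw [Over.comp_left, Over.comp_left, Scheme.Hom.comp_apply, Scheme.Hom.comp_apply]
    exact h ⟨_, rfl⟩

/-- Let `f : X ⟶ S` be a flat proper morphism of schemes, locally of finite presentation. The inclusion,
into the stack of finitely presented flat modules on the base changes of `X`, of its full
subcategory on the objects whose module is finite locally free of rank `1` is representable by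
algebraic spaces and an open immersion. (The source states this for algebraic spaces `X → B` over a
base scheme, with the Picard stack of invertible modules as the source of the functor and modules
with proper support in the target; this row is the case of schemes with `S = B`: as `f` is flat and
proper, an invertible module on a base change `X_T`, i.e. one finite locally free of rank `1`, is
finitely presented, flat over `T` and of proper support, so the Picard stack is rendered as this
full subcategory.) -/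
theorem result {X S : Scheme.{u}} (f : X ⟶ S)
    [Flat f] [IsProper f] [LocallyOfFinitePresentation f] :
    AlgSt.IsOpenImm (AlgSt.subIncl (ModSt.Coh f) fun A => FlatMod.IsFinLocFreeOfRank 1 A.obj.E) := by
  exact isOpenImm_of_locus _ (fun _ _ φ => isFinLocFreeOfRank_mono φ) (exists_locus f 1)

end Groth.Agent.S17421
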