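import Groth.Statements.S17426
import Groth.Agent.CounitStage22.Main
-- import your own Groth.Agent.* helpers here

set_option autoImplicit false
universe u
open CategoryTheory AlgebraicGeometry
open Lim

namespace Groth.Agent.S17426

/-- Let S = lim S_i be a cofiltered limit of schemes with affine transition morphisms, with S_{i₀} a
quasi-compact quasi-separated stage; let X₀ and Y₀ be schemes of finite presentation over S_{i₀}, f₀
: X₀ → Y₀ an S_{i₀}-morphism and L₀ an invertible O_{X₀}-module. Let f : X → Y be the base change of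
f₀ along S → S_{i₀} and L the pullback of L₀ to X (base changes are expressed by pullback squares).
Call an invertible module generated relative to a morphism when the counit of the
pullback–pushforward adjunction, f^*f_*L → L, is an epimorphism. If L is generated relative to f,
then there is an index j over i₀ such that for every index k over j and every base change f_k : X_k
→ Y_k of f₀ along S_k → S_{i₀}, the pullback L_k of L₀ to X_k is generated relative to f_k. (Stated
for X₀, Y₀ of finite presentation over the quasi-compact quasi-separated stage, the setting in which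
all the schemes involved are quasi-compact and quasi-separated; the semi-ample variant of the
source, some positive tensor power generated, is not restated.) -/
theorem result {I : Type u} [SmallCategory I] [IsCofiltered I]
    (D : I ⥤ Scheme.{u}) (c : Limits.Cone D) (hc : Limits.IsLimit c)
    [∀ (i j : I) (u : i ⟶ j), IsAffineHom (D.map u)] (i₀ : I) [CompactSpace (D.obj i₀)] [QuasiSeparatedSpace (D.obj i₀)]
    {X₀ Y₀ : Scheme.{u}} (f₀ : X₀ ⟶ Y₀) (g₀ : Y₀ ⟶ D.obj i₀)
    [LocallyOfFinitePresentation g₀] [QuasiCompact g₀] [QuasiSeparated g₀]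
    [LocallyOfFinitePresentation (f₀ ≫ g₀)] [QuasiCompact (f₀ ≫ g₀)] [QuasiSeparated (f₀ ≫ g₀)]
    (L₀ : X₀.Modules) (hL₀ : PicF.IsInvertible L₀)
    {X Y : Scheme.{u}} (f : X ⟶ Y) (g : Y ⟶ c.pt) (qY : Y ⟶ Y₀) (qX : X ⟶ X₀)
    (hY : IsPullback qY g g₀ (c.π.app i₀)) (hX : IsPullback qX f f₀ qY)
    (hgen : Epi ((Scheme.Modules.pullbackPushforwardAdjunction f).counit.app ((Scheme.Modules.pullback qX).obj L₀))) :
    ∃ (j : I) (φ : j ⟶ i₀), ∀ (k : I) (ψ : k ⟶ j) (Xk Yk : Scheme.{u}) (fk : Xk ⟶ Yk) (gk : Yk ⟶ D.obj k)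
      (pY : Yk ⟶ Y₀) (pX : Xk ⟶ X₀), IsPullback pY gk g₀ (D.map (ψ ≫ φ)) → IsPullback pX fk f₀ pY →
        Epi ((Scheme.Modules.pullbackPushforwardAdjunction fk).counit.app ((Scheme.Modules.pullback pX).obj L₀)) := by
  haveI : ∀ {i j : I} (f : i ⟶ j), IsAffineHom (D.map f) := fun {i j} f => inferInstance
  let E := Groth.Agent.MorLib.BC.diag D g₀
  have hc' := Groth.Agent.MorLib.BC.isLimitCone D g₀ hY hc
  haveI : ∀ {a b : Over i₀} (r : a ⟶ b), IsAffineHom (E.map r) := fun r =>
    Groth.Agent.MorLib.BC.isAffineHom_map D g₀ r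
  haveI : CompactSpace Y₀ := QuasiCompact.compactSpace_of_compactSpace g₀
  haveI : QuasiSeparatedSpace Y₀ := quasiSeparatedSpace_of_quasiSeparated g₀
  haveI : ∀ a, CompactSpace (E.obj a) := fun a => Groth.Agent.MorLib.BC.compactSpace_obj D g₀ a
  haveI : ∀ a, QuasiSeparatedSpace (E.obj a) := fun a => Groth.Agent.MorLib.BC.quasiSeparatedSpace_obj D g₀ a
  let U : Over i₀ := Over.mk (𝟙 i₀)
  haveI : IsIso (D.map U.hom) := by show IsIso (D.map (𝟙 i₀)); infer_instance
  let q : E.obj U ⟶ Y₀ := Limits.pullback.fst g₀ (D.map U.hom)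
  haveI : IsIso q := inferInstanceAs (IsIso (Limits.pullback.fst g₀ (D.map U.hom)))
  haveI : QuasiCompact f₀ := QuasiCompact.of_comp f₀ g₀
  haveI : QuasiSeparated f₀ := QuasiSeparated.of_comp f₀ g₀
  let f' : X₀ ⟶ E.obj U := f₀ ≫ inv q
  have hπ : (Groth.Agent.MorLib.BC.cone D g₀ hY).π.app U ≫ q = qY :=
    Groth.Agent.MorLib.BC.proj_fst D g₀ hY U
  have hX' : IsPullback qX f f' ((Groth.Agent.MorLib.BC.cone D g₀ hY).π.app U) :=
    hX.of_iso (Iso.refl _) (Iso.refl _) (Iso.refl _) (asIso q).symm (by simp) (by simp) (by simp [f'])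
      (by simp [← hπ] <;> rfl)
  obtain ⟨a, φ, ha⟩ := Groth.Agent.CounitStage22.exists_gen_stage E hc' f' hL₀ hX'
    (Groth.Agent.CounitStage22.gen_of_epi f (Groth.Agent.PicClLib.isInvertible_pullback qX hL₀) hgen)
  refine ⟨a.left, a.hom, fun k ψ Xk Yk fk gk pY pX hpY hpX => ?_⟩
  let l : Yk ⟶ E.obj a := Limits.pullback.lift pY (gk ≫ D.map ψ) (by rw [hpY.w, Category.assoc, ← D.map_comp])
  have hl : l ≫ Limits.pullback.fst g₀ (D.map a.hom) = pY := Limits.pullback.lift_fst _ _ _
  have hφ : E.map φ ≫ q = Limits.pullback.fst g₀ (D.map a.hom) := Groth.Agent.MorLib.BC.map_fst D g₀ φ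
  let m : Xk ⟶ Limits.pullback f' (E.map φ) := Limits.pullback.lift pX (fk ≫ l) (by
    rw [← cancel_mono q]
    simp only [f', Category.assoc, IsIso.inv_hom_id, Category.comp_id, hφ, hl]
    exact hpX.w)
  have hm : m ≫ Limits.pullback.fst f' (E.map φ) = pX := Limits.pullback.lift_fst _ _ _
  have hw : m ≫ Limits.pullback.snd f' (E.map φ) = fk ≫ l := Limits.pullback.lift_snd _ _ _
  exact Groth.Agent.CounitStage22.epi_of_gen fk (Groth.Agent.CounitStage22.gen_of_iso fk
    ((Scheme.Modules.pullbackComp _ _).app L₀ ≪≫ (Scheme.Modules.pullbackCongr hm).app L₀)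
    (Groth.Agent.CounitStage22.gen_of_sq hw (Groth.Agent.PicClLib.isInvertible_pullback _ hL₀) ha))

end Groth.Agent.S17426
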