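import Groth.Statements.S17428
import Mathlib.RingTheory.AdicCompletion.AsTensorProduct

set_option autoImplicit false
universe u
open FrobAlg

namespace Groth.Agent.S17428

section
open AdicCompletion

variable {p : ℕ} [Fact p.Prime] {A : Type u} [CommRing A] [CharP A p]

lemma smul_twist (r : A) (t : FrobAlg.Twist p A) :
    (FrobAlg.toTwist p A).symm (r • t) = r ^ p * (FrobAlg.toTwist p A).symm t := by
  rw [Algebra.smul_def, FrobAlg.algebraMap_twist, map_mul, RingEquiv.symm_apply_apply]

lemma mem_pow_of_mem_smul_top (I : Ideal A) (n : ℕ) {t : FrobAlg.Twist p A}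
    (ht : t ∈ (I ^ n • ⊤ : Submodule A (FrobAlg.Twist p A))) :
    (FrobAlg.toTwist p A).symm t ∈ (I ^ n • ⊤ : Ideal A) := by
  rw [smul_eq_mul, ← Ideal.one_eq_top, mul_one]
  refine Submodule.smul_induction_on ht (fun r hr m _ => ?_) (fun x y hx hy => ?_)
  · rw [smul_twist]
    exact Ideal.mul_mem_right _ _ (Ideal.pow_mem_of_mem _ hr p (Nat.Prime.pos Fact.out))
  · rw [map_add]
    exact add_mem hx hy

lemma mem_smul_top_of_mem_map (I : Ideal A) (n : ℕ) {a : A}
    (ha : a ∈ (I ^ n).map (frobenius A p)) :
    FrobAlg.toTwist p A a ∈ (I ^ n • ⊤ : Submodule A (FrobAlg.Twist p A)) := by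
  refine Submodule.span_induction ?_ ?_ ?_ ?_ (show a ∈ Submodule.span A (frobenius A p '' (I ^ n : Ideal A)) from ha)
  · rintro _ ⟨r, hr, rfl⟩
    have : FrobAlg.toTwist p A (frobenius A p r) = r • (1 : FrobAlg.Twist p A) := by
      rw [Algebra.smul_def, mul_one]; rfl
    rw [this]
    exact Submodule.smul_mem_smul hr trivial
  · rw [_root_.map_zero]; exact zero_mem _
  · intro x y _ _ hx hy; rw [map_add]; exact add_mem hx hy
  · intro c x _ hx
    rw [smul_eq_mul, map_mul]
    refine Submodule.smul_induction_on hx (fun r hr m _ => ?_) (fun u v hu hv => ?_)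
    · rw [mul_smul_comm]
      exact Submodule.smul_mem_smul hr trivial
    · rw [mul_add]
      exact add_mem hu hv

variable (I : Ideal A)

/-- `T / I^n T → A / I^n`. -/
noncomputable def psi (n : ℕ) (x : FrobAlg.Twist p A ⧸ (I ^ n • ⊤ : Submodule A (FrobAlg.Twist p A))) :
    A ⧸ (I ^ n • ⊤ : Ideal A) :=
  Submodule.Quotient.mk ((FrobAlg.toTwist p A).symm (Function.surjInv (Submodule.Quotient.mk_surjective _) x))

lemma psi_mk (n : ℕ) (t : FrobAlg.Twist p A) :
    psi I n (Submodule.Quotient.mk t) = Submodule.Quotient.mk ((FrobAlg.toTwist p A).symm t) := by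
  rw [psi, Submodule.Quotient.eq, ← map_sub]
  exact mem_pow_of_mem_smul_top I n ((Submodule.Quotient.eq _).mp
    (Function.surjInv_eq (Submodule.Quotient.mk_surjective _) _))

/-- The map on completions. -/
noncomputable def Psi (t : AdicCompletion I (FrobAlg.Twist p A)) : AdicCompletion I A :=
  ⟨fun n => psi I n (t.val n), fun {m n} hmn => by
    obtain ⟨a, ha⟩ := Submodule.Quotient.mk_surjective _ (t.val n)
    have h := t.property hmn
    rw [← ha] at h
    change transitionMap I A hmn (psi I n (t.val n)) = psi I m (t.val m)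
    rw [← ha, ← h, psi_mk]
    erw [psi_mk]
    rfl⟩

lemma Psi_bijective [IsNoetherianRing A] : Function.Bijective (Psi (p := p) I) := by
  obtain ⟨k, hk⟩ : ∃ k, I ^ k ≤ I.map (frobenius A p) := by
    refine Ideal.exists_pow_le_of_le_radical_of_fg ?_ (IsNoetherian.noetherian I)
    intro x hx
    exact ⟨p, Ideal.mem_map_of_mem (frobenius A p) hx⟩
  have hkey : ∀ n, ∀ a ∈ I ^ (k * n + n),
      FrobAlg.toTwist p A a ∈ (I ^ n • ⊤ : Submodule A (FrobAlg.Twist p A)) := fun n a ha => by
    refine mem_smul_top_of_mem_map I n ?_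
    have := Ideal.pow_le_pow_right (Nat.le_add_right (k * n) n) ha
    rw [pow_mul] at this
    rw [Ideal.map_pow]
    exact Ideal.pow_right_mono hk n this
  constructor
  · intro s t h
    apply AdicCompletion.ext
    intro n
    obtain ⟨a, ha⟩ := Submodule.Quotient.mk_surjective _ (s.val (k * n + n))
    obtain ⟨b, hb⟩ := Submodule.Quotient.mk_surjective _ (t.val (k * n + n))
    have h' : psi I (k * n + n) (s.val (k * n + n)) = psi I (k * n + n) (t.val (k * n + n)) :=
      congrArg (fun z : AdicCompletion I A => z.val (k * n + n)) h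
    rw [← ha, ← hb, psi_mk, psi_mk, Submodule.Quotient.eq, ← map_sub, smul_eq_mul, ← Ideal.one_eq_top, mul_one] at h'
    rw [← s.property (Nat.le_add_left n (k * n)), ← t.property (Nat.le_add_left n (k * n)), ← ha, ← hb]
    refine (Submodule.Quotient.eq _).mpr ?_
    have := hkey n _ h'
    rwa [RingEquiv.apply_symm_apply] at this
  · intro y
    have hy : ∀ n, ∃ a : A, (Submodule.Quotient.mk a : A ⧸ (I ^ (k * n + n) • ⊤ : Ideal A)) = y.val (k * n + n) :=
      fun n => Submodule.Quotient.mk_surjective _ _
    choose a ha using hy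
    have hcomp : ∀ {m n : ℕ}, m ≤ n → a n - a m ∈ I ^ (k * m + m) := fun {m n} hmn => by
      have hle : k * m + m ≤ k * n + n := add_le_add (Nat.mul_le_mul_left k hmn) hmn
      have h := y.property hle
      rw [← ha n, ← ha m] at h
      have h' := (Submodule.Quotient.eq _).mp h
      rwa [smul_eq_mul, ← Ideal.one_eq_top, mul_one] at h'
    let t : AdicCompletion I (FrobAlg.Twist p A) :=
      ⟨fun n => Submodule.Quotient.mk (FrobAlg.toTwist p A (a n)), fun {m n} hmn => by
        refine (Submodule.Quotient.eq _).mpr ?_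
        change FrobAlg.toTwist p A (a n) - FrobAlg.toTwist p A (a m) ∈ _
        rw [← map_sub]
        exact hkey m _ (hcomp hmn)⟩
    refine ⟨t, ?_⟩
    apply AdicCompletion.ext
    intro n
    change psi I n (Submodule.Quotient.mk (FrobAlg.toTwist p A (a n))) = y.val n
    rw [psi_mk, RingEquiv.symm_apply_apply, ← y.property (Nat.le_add_left n (k * n)), ← ha n]
    rfl

lemma val_pow' (x : AdicCompletion I A) (m n : ℕ) : (x ^ m).val n = x.val n ^ m := by
  induction m with
  | zero => simp
  | succ m ih => rw [pow_succ, val_mul, ih, pow_succ]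

lemma relFrob_eq [CharP (AdicCompletion I A) p] (z : FrobAlg.BaseChange p A (AdicCompletion I A)) :
    FrobAlg.relFrob p A (AdicCompletion I A) z = Psi I (ofTensorProduct I (FrobAlg.Twist p A) z) := by
  apply AdicCompletion.ext
  intro n
  change _ = psi I n ((ofTensorProduct I (FrobAlg.Twist p A) z).val n)
  induction z using TensorProduct.induction_on with
  | zero =>
    rw [_root_.map_zero, _root_.map_zero, val_zero_apply, val_zero_apply]
    exact ((psi_mk I n 0).trans (congrArg _ (_root_.map_zero _))).symm
  | tmul x t =>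
    have hL : FrobAlg.relFrob p A (AdicCompletion I A) (x ⊗ₜ t) =
        x ^ p * algebraMap A (AdicCompletion I A) ((FrobAlg.toTwist p A).symm t) := rfl
    obtain ⟨r, hr⟩ := Ideal.Quotient.mk_surjective (x.val n)
    rw [hL, ofTensorProduct_tmul, val_mul, val_pow', smul_eval, ← hr]
    have h2 : (Ideal.Quotient.mk (I ^ n • ⊤ : Ideal A)) r • (of I (FrobAlg.Twist p A) t).val n =
        Submodule.Quotient.mk (r • t) := rfl
    rw [h2, psi_mk, smul_twist]
    rfl
  | add x y hx hy =>
    rw [map_add, map_add, val_add_apply, val_add_apply, hx, hy]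
    obtain ⟨a, ha⟩ := Submodule.Quotient.mk_surjective _ ((ofTensorProduct I (FrobAlg.Twist p A) x).val n)
    obtain ⟨b, hb⟩ := Submodule.Quotient.mk_surjective _ ((ofTensorProduct I (FrobAlg.Twist p A) y).val n)
    rw [← ha, ← hb, ← Submodule.Quotient.mk_add, psi_mk, psi_mk, psi_mk, map_add, Submodule.Quotient.mk_add]

end

/-- Let p be a prime, A a regular local ring of characteristic p whose absolute Frobenius a ↦ a^p is a
finite ring homomorphism, I an ideal of A and Â the I-adic completion of A. Then Spec Â → Spec A is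
relatively perfect: the relative Frobenius Â ⊗_{A,Frob} A → Â, b ⊗ a ↦ b^p a, is bijective. (Â is
also flat over A since A is Noetherian, so the morphism is flat and relatively perfect. The instance
hypothesis that Â has characteristic p holds as soon as I ≠ A.) -/
theorem result (p : ℕ) [Fact p.Prime]
    (A : Type u) [CommRing A] [IsRegularLocalRing A] [CharP A p] (hF : (frobenius A p).Finite)
    (I : Ideal A) [CharP (AdicCompletion I A) p] :
    Function.Bijective (FrobAlg.relFrob p A (AdicCompletion I A)) := by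
  haveI : Module.Finite A (FrobAlg.Twist p A) := hF
  have h : ⇑(FrobAlg.relFrob p A (AdicCompletion I A)) =
      Psi I ∘ ⇑(AdicCompletion.ofTensorProduct I (FrobAlg.Twist p A)) := funext (relFrob_eq I)
  rw [h]
  exact (Psi_bijective I).comp (AdicCompletion.ofTensorProduct_bijective_of_finite_of_isNoetherian I _)

end Groth.Agent.S17428
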