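import Groth.Statements.S17429
import Groth.Agent.GrLib8.OmegaFlat.Exterior
import Groth.Agent.GrLib8.OmegaFlat.Kaehler
import Groth.Agent.PopescuLib.Main
import Groth.Agent.GeomReg.Basic
import Groth.Agent.LC.Depth
import Groth.Agent.LC.CohCech
import Groth.Agent.S5150
import Groth.Agent.S0564
import Mathlib.FieldTheory.Finite.Basic
import Mathlib.RingTheory.Regular.Flat

set_option autoImplicit false
universe u
open LocCoh

namespace Groth.Agent.S17429

open TensorProduct in
/-- A regular algebra over a perfect field is regular as a homomorphism. -/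
theorem isRegularHom_of_perfect (K : Type u) [Field K] [PerfectField K] (A : Type u) [CommRing A]
    [Algebra K A] [IsRegularRing A] : CAlg.IsRegularHom K A := by
  refine ⟨inferInstance, fun q _ => ?_⟩
  let κ := q.ResidueField
  have hs : Function.Surjective (algebraMap K κ) := by
    haveI : q.IsMaximal := by
      rw [(Ideal.eq_bot_or_top q).resolve_right (Ideal.IsPrime.ne_top inferInstance)]
      exact Ideal.bot_isMaximal
    exact Ideal.algebraMap_residueField_surjective q
  let eK : K ≃+* κ := RingEquiv.ofBijective _ ⟨(algebraMap K κ).injective, hs⟩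
  haveI : IsNoetherianRing A := inferInstance
  let eF : A ≃+* q.Fiber A :=
    ((Algebra.TensorProduct.lid K A).symm.trans
      (Algebra.TensorProduct.congr (AlgEquiv.ofBijective (Algebra.ofId K κ) eK.bijective)
        AlgEquiv.refl)).toRingEquiv
  haveI : IsNoetherianRing (q.Fiber A) := isNoetherianRing_of_ringEquiv A eF
  refine ⟨this, fun k' _ _ hfin => ?_⟩
  letI : Algebra K k' := ((algebraMap κ k').comp (algebraMap K κ)).toAlgebra
  haveI : IsScalarTower K κ k' := IsScalarTower.of_algebraMap_eq fun _ => rfl
  haveI : Module.Finite K κ := Module.Finite.of_surjective (Algebra.linearMap K κ) hs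
  haveI : Module.Finite K k' := Module.Finite.trans κ k'
  haveI : Algebra.IsSeparable K k' := Algebra.IsAlgebraic.isSeparable_of_perfectField
  haveI : Algebra.EssFiniteType K k' := inferInstance
  haveI : Algebra.FormallyEtale K k' := Algebra.FormallyEtale.of_isSeparable K k'
  haveI : Algebra.FiniteType K k' := inferInstance
  haveI : Algebra.FinitePresentation K k' := Algebra.FinitePresentation.of_finiteType.1 inferInstance
  haveI : Algebra.Smooth K k' := ⟨inferInstance, inferInstance⟩
  haveI : Algebra.Smooth A (A ⊗[K] k') := inferInstance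
  haveI : IsRegularRing (A ⊗[K] k') := GeomReg.isRegularRing_of_smooth A (A ⊗[K] k')
  exact IsRegularRing.of_ringEquiv
    ((Algebra.TensorProduct.comm K A k').toRingEquiv.trans
      (Algebra.TensorProduct.cancelBaseChange K κ κ k' A).symm.toRingEquiv)

/-- Let p be a prime, A a regular local ring of characteristic p, t_1, …, t_r an A-regular sequence such
that A/(t_1, …, t_r) is again a regular local ring (a regular closed immersion Z ↪ X = Spec A of
codimension r with Z regular and non-empty), and I = (t_1, …, t_r). Then for every i and every j ≠ r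
the local cohomology module H^j_I(Ω^i_A) vanishes, where Ω^i_A is the i-th exterior power over A of
the module of Kähler differentials of A over ℤ (the same module as over the prime field). (Module
form, for X local, of the vanishing of the local cohomology sheaves H^j_Z(X, Ω^i_X), j ≠ r; the same
vanishing holds more generally for the de Rham–Witt sheaves W_mΩ^i_X and their quotients by
dV^{m-1}Ω^{i-1}_X on the étale site of a regular F_p-scheme, a form not stated here.) -/
theorem result (p : ℕ) [Fact p.Prime]
    (A : Type u) [CommRing A] [IsRegularLocalRing A] [CharP A p]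
    (ts : List A) (hreg : RingTheory.Sequence.IsRegular A ts)
    (hZ : IsRegularLocalRing (A ⧸ Ideal.ofList ts))
    (i j : ℕ) (hj : j ≠ ts.length) :
    Subsingleton (LocCoh.H (Ideal.ofList ts) j
      ↥(ExteriorAlgebra.exteriorPower A i (KaehlerDifferential ℤ A))) := by
  -- `A` as an algebra over the prime field
  let f₀ : ULift.{u} (ZMod p) →+* A :=
    (ZMod.castHom (dvd_refl p) A).comp ULift.ringEquiv.toRingHom
  letI : Field (ULift.{u} (ZMod p)) := inferInstance
  letI : Algebra (ULift.{u} (ZMod p)) A := f₀.toAlgebra
  haveI : PerfectField (ULift.{u} (ZMod p)) :=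
    PerfectField.ofFinite (K := ULift.{u} (ZMod p))
  haveI : IsRegularRing A := ⟨fun q _ => Groth.Agent.S0564.result A q⟩
  haveI hΩ : Module.Flat A (KaehlerDifferential (ULift.{u} (ZMod p)) A) := by
    refine GrLib8.OmegaFlat.flat_kaehler_of_indSmooth fun T _ _ _ f => ?_
    obtain ⟨B, hB1, hB2, hB3, g, φ, hφ⟩ := PopescuLib.indSmooth_of_isRegularHom
      (isRegularHom_of_perfect (ULift.{u} (ZMod p)) A) T inferInstance f
    exact ⟨B, hB1, hB2, hB3, g, φ, hφ⟩
  have hsurj : Function.Surjective (algebraMap ℤ (ULift.{u} (ZMod p))) := fun z => by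
    refine ⟨((z.down.val : ℕ) : ℤ), ?_⟩
    rw [eq_intCast, Int.cast_natCast]
    apply ULift.ext
    rw [ULift.down_natCast, ZMod.natCast_zmod_val]
  haveI : IsScalarTower ℤ (ULift.{u} (ZMod p)) A := IsScalarTower.of_algebraMap_eq fun z => by simp
  haveI : Module.Flat A (KaehlerDifferential ℤ A) :=
    GrLib8.OmegaFlat.flat_kaehler_of_surjective (k := ULift.{u} (ZMod p)) ℤ hsurj
  haveI : Module.Flat A ↥(ExteriorAlgebra.exteriorPower A i (KaehlerDifferential ℤ A)) :=
    GrLib8.OmegaFlat.flat_exteriorPower _ i
  rcases lt_or_gt_of_ne hj with hlt | hgt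
  · refine LC.H_subsingleton_of_qObj _ j _ fun m => ?_
    refine Groth.Agent.S5150.result A (Ideal.ofList ts) _ (A ⧸ Ideal.ofList ts ^ m) ts ?_
      (fun r hr => Ideal.subset_span hr) m (LC.smul_qObj_eq_bot _ m) j hlt
    exact (LinearEquiv.isWeaklyRegular_congr (TensorProduct.rid A _) ts).1
      (hreg.toIsWeaklyRegular.isWeaklyRegular_lTensor)
  · classical
    have : Ideal.ofList ts = Ideal.span (ts.toFinset : Set A) := by
      rw [Ideal.ofList]
      congr 1
      ext x
      simp
    rw [this]
    exact LC.subsingleton_of_card_lt ts.toFinset _ j (lt_of_le_of_lt (List.toFinset_card_le ts) hgt)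

end Groth.Agent.S17429
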