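import Groth.Statements.S17439
import Groth.Agent.QCoh.TensorSections
-- import your own Groth.Agent.* helpers here

set_option autoImplicit false
set_option backward.isDefEq.respectTransparency false
set_option backward.isDefEq.respectTransparency.types false
universe u
open CategoryTheory AlgebraicGeometry
open DefoSh

namespace Groth.Agent.S17439
open Groth.Agent CategoryTheory CategoryTheory.Limits AlgebraicGeometry Opposite

section
variable {X : Scheme.{u}} {Ω' M M' M'' : X.Modules}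

theorem tensor_hom_ext {N P : X.Modules} {f g : CohB1.tensorMod M N ⟶ P}
    (h : ∀ (U : X.Opens) (m : M.val.obj (op U)) (n : N.val.obj (op U)),
      (f.val.app (op U)).hom (SecTwist.tmul M N U m n) = (g.val.app (op U)).hom (SecTwist.tmul M N U m n)) :
    f = g := by
  let adj := PresheafOfModules.sheafificationAdjunction.{u, u, u, u}
    (J := Opens.grothendieckTopology X) (𝟙 X.ringCatSheaf.obj)
  refine (adj.homEquiv (show X.PresheafOfModules from CohB1.tensorPre M N) P).injective ?_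
  rw [adj.homEquiv_unit, adj.homEquiv_unit]
  refine PresheafOfModules.hom_ext fun U => ?_
  exact ModuleCat.MonoidalCategory.tensor_ext fun m n => h U.unop m n

theorem tmul_add_left {N : X.Modules} (U : X.Opens) (m m' : M.val.obj (op U)) (n : N.val.obj (op U)) :
    SecTwist.tmul M N U (m + m') n = SecTwist.tmul M N U m n + SecTwist.tmul M N U m' n :=
  (congrArg ((SecTwist.toTensor M N).app (op U)).hom (TensorProduct.add_tmul m m' n)).trans (map_add _ _ _)

theorem tmul_add_right {N : X.Modules} (U : X.Opens) (m : M.val.obj (op U)) (n n' : N.val.obj (op U)) :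
    SecTwist.tmul M N U m (n + n') = SecTwist.tmul M N U m n + SecTwist.tmul M N U m n' :=
  (congrArg ((SecTwist.toTensor M N).app (op U)).hom (TensorProduct.tmul_add m n n')).trans (map_add _ _ _)

theorem tmul_smul_left {N : X.Modules} (U : X.Opens) (c : Γ(X, U)) (m : Γ(M, U)) (n : Γ(N, U)) :
    SecTwist.tmul M N U (c • m : Γ(M, U)) n = (c • (show Γ(CohB1.tensorMod M N, U) from SecTwist.tmul M N U m n) :
      Γ(CohB1.tensorMod M N, U)) :=
  QCoh.tmS_smul_left M N c m n



theorem tensorMap_apply_comp (φ : M ⟶ M') (ψ : M' ⟶ M'') (U : X.Opens) (z : Γ(CohB1.tensorMod M Ω', U)) :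
    (KoszTw.tensorMap ψ (𝟙 Ω')).app U ((KoszTw.tensorMap φ (𝟙 Ω')).app U z) =
      (KoszTw.tensorMap (φ ≫ ψ) (𝟙 Ω')).app U z := by
  rw [show KoszTw.tensorMap (φ ≫ ψ) (𝟙 Ω') = KoszTw.tensorMap φ (𝟙 Ω') ≫ KoszTw.tensorMap ψ (𝟙 Ω') by
    rw [← KoszTw.tensorMap_comp, Category.id_comp]]
  rfl

theorem tensorMap_add (φ ψ : M ⟶ M') :
    KoszTw.tensorMap (φ + ψ) (𝟙 Ω') = KoszTw.tensorMap φ (𝟙 Ω') + KoszTw.tensorMap ψ (𝟙 Ω') := by
  rw [← KoszTw.tensorBi_map_app, ← KoszTw.tensorBi_map_app, ← KoszTw.tensorBi_map_app, Functor.map_add]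
  rfl

theorem tensorMap_zero : KoszTw.tensorMap (0 : M ⟶ M') (𝟙 Ω') = 0 := by
  rw [← KoszTw.tensorBi_map_app, Functor.map_zero]
  rfl

theorem isHorizontal_add {c : Coh.toAb M ⟶ Coh.toAb (CohB1.tensorMod M Ω')}
    {c' : Coh.toAb M' ⟶ Coh.toAb (CohB1.tensorMod M' Ω')} {φ ψ : M ⟶ M'}
    (hφ : ConnSh.IsHorizontal c c' φ) (hψ : ConnSh.IsHorizontal c c' ψ) : ConnSh.IsHorizontal c c' (φ + ψ) := by
  intro U e
  rw [tensorMap_add, Scheme.Modules.Hom.add_app]
  show ConnSh.secApp c' U (φ.app U e + ψ.app U e) = _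
  refine (map_add (ConnSh.secApp c' U) _ _).trans ?_
  rw [hφ U e, hψ U e]
  rfl

variable {k : Type u} [Field k] [X.Over (Spec (CommRingCat.of k))]
  (δ : OmegaSh.Der (X ↘ Spec (CommRingCat.of k)) Ω')

theorem isHorizontal_kid (c : Coh.toAb M ⟶ Coh.toAb (CohB1.tensorMod M Ω')) (hc : ConnSh.IsConn δ M c) (a : k) :
    ConnSh.IsHorizontal c c (a • 𝟙 M) := by
  intro U e
  let r : Γ(X, U) := X.presheaf.map (homOfLE (le_top : U ≤ ⊤)).op (Coh.toGlobal (X ↘ Spec (CommRingCat.of k)) a)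
  have hδ : δ.app U r = 0 := by
    have h0 : δ.app ⊤ (Coh.toGlobal (X ↘ Spec (CommRingCat.of k)) a) = 0 :=
      δ.d_app (X := op ⊤) ((Scheme.ΓSpecIso (CommRingCat.of k)).inv a)
    have h1 := δ.d_map (homOfLE (le_top : U ≤ ⊤)).op (Coh.toGlobal (X ↘ Spec (CommRingCat.of k)) a)
    rw [OmegaSh.Der.app_apply] at h0 ⊢
    exact h1.trans ((congrArg _ h0).trans (map_zero _))
  have hmap : KoszTw.tensorMap (a • 𝟙 M) (𝟙 Ω') = a • 𝟙 (CohB1.tensorMod M Ω') := by
    refine tensor_hom_ext fun V m n => ?_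
    show (KoszTw.tensorMap (a • 𝟙 M) (𝟙 Ω')).app V _ = (a • 𝟙 (CohB1.tensorMod M Ω')).app V _
    rw [KoszTw.tensorMap_tmul, KLin.smul_app_apply, KLin.smul_app_apply]
    exact tmul_smul_left V _ _ _
  rw [hmap, KLin.smul_app_apply, KLin.smul_app_apply]
  show ConnSh.secApp c U (r • e) = r • ConnSh.secApp c U e
  rw [hc U r e, hδ]
  have hz : SecTwist.tmul M Ω' U e (0 : Γ(Ω', U)) = 0 := by
    have h := tmul_add_right (M := M) (N := Ω') U e 0 0
    rw [add_zero] at h
    exact left_eq_add.1 h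
  rw [hz, add_zero]

variable {E : X.Modules} (nabla : Coh.toAb E ⟶ Coh.toAb (CohB1.tensorMod E Ω'))

/-- The direct sum of a connection with itself. -/
noncomputable def conn2 : Coh.toAb (E ⊞ E) ⟶ Coh.toAb (CohB1.tensorMod (E ⊞ E) Ω') :=
  (SheafOfModules.toSheaf X.ringCatSheaf).map (biprod.fst : E ⊞ E ⟶ E) ≫ nabla ≫
      (SheafOfModules.toSheaf X.ringCatSheaf).map (KoszTw.tensorMap (biprod.inl : E ⟶ E ⊞ E) (𝟙 Ω')) +
    (SheafOfModules.toSheaf X.ringCatSheaf).map (biprod.snd : E ⊞ E ⟶ E) ≫ nabla ≫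
      (SheafOfModules.toSheaf X.ringCatSheaf).map (KoszTw.tensorMap (biprod.inr : E ⟶ E ⊞ E) (𝟙 Ω'))

theorem secApp_conn2 (U : X.Opens) (e : Γ(E ⊞ E, U)) :
    ConnSh.secApp (conn2 nabla) U e =
      (KoszTw.tensorMap (biprod.inl : E ⟶ E ⊞ E) (𝟙 Ω')).app U
          (ConnSh.secApp nabla U ((biprod.fst : E ⊞ E ⟶ E).app U e)) +
        (KoszTw.tensorMap (biprod.inr : E ⟶ E ⊞ E) (𝟙 Ω')).app U
          (ConnSh.secApp nabla U ((biprod.snd : E ⊞ E ⟶ E).app U e)) := rfl

theorem isConn_conn2 (hn : ConnSh.IsConn δ E nabla) : ConnSh.IsConn δ (E ⊞ E) (conn2 nabla) := by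
  intro U t e
  let e' : Γ(E ⊞ E, U) := e
  show ConnSh.secApp (conn2 nabla) U (t • e' : Γ(E ⊞ E, U)) = _
  rw [secApp_conn2, secApp_conn2, Scheme.Modules.Hom.app_smul, Scheme.Modules.Hom.app_smul]
  erw [hn U t, hn U t]
  erw [map_add, map_add, Scheme.Modules.Hom.app_smul, Scheme.Modules.Hom.app_smul, KoszTw.tensorMap_tmul,
    KoszTw.tensorMap_tmul, smul_add]
  have htot : (biprod.inl : E ⟶ E ⊞ E).app U ((biprod.fst : E ⊞ E ⟶ E).app U e') +
      (biprod.inr : E ⟶ E ⊞ E).app U ((biprod.snd : E ⊞ E ⟶ E).app U e') = e' := by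
    have h : ((biprod.fst : E ⊞ E ⟶ E) ≫ biprod.inl + biprod.snd ≫ biprod.inr).app U e' =
      (𝟙 (E ⊞ E) : E ⊞ E ⟶ E ⊞ E).app U e' := by rw [biprod.total]
    exact h
  erw [add_add_add_comm, ← tmul_add_left, htot]
  rfl

theorem isHorizontal_fst : ConnSh.IsHorizontal (conn2 nabla) nabla (biprod.fst : E ⊞ E ⟶ E) := by
  intro U e
  erw [secApp_conn2, map_add, tensorMap_apply_comp, tensorMap_apply_comp, biprod.inl_fst, biprod.inr_fst,
    KoszTw.tensorMap_id, tensorMap_zero]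
  exact (add_zero _).symm

theorem isHorizontal_inr : ConnSh.IsHorizontal nabla (conn2 nabla) (biprod.inr : E ⟶ E ⊞ E) := by
  intro U e
  let e' : Γ(E, U) := e
  have h1 : (biprod.fst : E ⊞ E ⟶ E).app U ((biprod.inr : E ⟶ E ⊞ E).app U e') = (0 : Γ(E, U)) := by
    show ((biprod.inr : E ⟶ E ⊞ E) ≫ biprod.fst).app U e' = _
    rw [biprod.inr_fst]; rfl
  have h2 : (biprod.snd : E ⊞ E ⟶ E).app U ((biprod.inr : E ⟶ E ⊞ E).app U e') = e' := by
    show ((biprod.inr : E ⟶ E ⊞ E) ≫ biprod.snd).app U e' = _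
    rw [biprod.inr_snd]; rfl
  erw [secApp_conn2, h1, h2, map_zero, map_zero, zero_add]

end

/-- Let k be a field, X a scheme over k with a receptacle of differentials (Ω′, δ) over k, Ω′
quasi-coherent, and E a finite locally free O_X-module with a connection ∇ : E → E ⊗ Ω′. Then ∇ has
at least one deformation over the trivial first-order deformation E ⊕ εE of E (a connection on E ⊕
εE commuting with k[ε] and reducing to ∇), so the set of deformations of ∇ over the trivial
deformation (the set that corresponds to H⁰(End(E) ⊗ Ω′)) is not empty. The published statement is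
for a curve with its sheaf of differentials; this row takes any scheme over k with any
quasi-coherent receptacle of differentials, which the printed computation does not use. -/
theorem result (k : Type u) [Field k] (X : Scheme.{u})
    [X.Over (Spec (CommRingCat.of k))] (Ω' : X.Modules) (δ : OmegaSh.Der (X ↘ Spec (CommRingCat.of k)) Ω')
    (hΩ' : Coh.IsQCoh Ω') (E : X.Modules) (hE : FlatMod.IsFinLocFree E)
    (nabla : Coh.toAb E ⟶ Coh.toAb (CohB1.tensorMod E Ω')) (hn : ConnSh.IsConn δ E nabla) :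
    Nonempty (DefoSh.DefoConn δ nabla (DefoSh.Defo.trivDual k E)) := by
  refine ⟨{ conn := conn2 nabla, isConn := isConn_conn2 δ nabla hn, act_horizontal := fun a => ?_, π_horizontal := ?_ }⟩
  · have h1 := isHorizontal_kid δ (conn2 nabla) (isConn_conn2 δ nabla hn) a.fst
    have h2 := isHorizontal_kid δ (conn2 nabla) (isConn_conn2 δ nabla hn) a.snd
    show ConnSh.IsHorizontal (conn2 nabla) (conn2 nabla) (DefoSh.dualAct k E a : E ⊞ E ⟶ E ⊞ E)
    rw [DefoSh.dualAct_hom]
    refine isHorizontal_add h1 ?_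
    rw [show a.snd • ((biprod.fst : E ⊞ E ⟶ E) ≫ biprod.inr) =
      (a.snd • 𝟙 (E ⊞ E)) ≫ ((biprod.fst : E ⊞ E ⟶ E) ≫ biprod.inr) by rw [Linear.smul_comp, Category.id_comp]]
    exact DefoSh.isHorizontal_comp h2 (DefoSh.isHorizontal_comp (isHorizontal_fst nabla) (isHorizontal_inr nabla))
  · exact isHorizontal_fst nabla

end Groth.Agent.S17439
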