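import Groth.Statements.S17440
import Groth.Agent.DefoSh16.Conn
import Groth.Agent.QCoh.Extension
import Groth.Agent.QCoh.Support
import Groth.Agent.QCoh.Devissage
-- import your own Groth.Agent.* helpers here

set_option autoImplicit false
set_option backward.isDefEq.respectTransparency false
set_option backward.isDefEq.respectTransparency.types false
universe u
open CategoryTheory AlgebraicGeometry
open DefoSh

namespace Groth.Agent.S17440
open Groth.Agent CategoryTheory CategoryTheory.Limits AlgebraicGeometry Opposite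

/-- The morphism given by a global section. -/
noncomputable abbrev secHom {Y : Scheme.{u}} {P : Y.Modules} (z : Γ(P, ⊤)) : Coh.structureModule Y ⟶ P :=
  QCoh.homOfTop z

theorem secHom_one {Y : Scheme.{u}} {P : Y.Modules} (z : Γ(P, ⊤)) :
    (secHom z).app ⊤ (1 : Γ(Y, ⊤)) = z := by
  refine (QCoh.homOfTop_app z (1 : Γ(Y, ⊤))).trans ?_
  rw [one_smul]
  exact QCoh.map_id' _ z

theorem secHom_ext {Y : Scheme.{u}} {P : Y.Modules} {α β : Coh.structureModule Y ⟶ P}
    (h : α.app ⊤ (1 : Γ(Y, ⊤)) = β.app ⊤ (1 : Γ(Y, ⊤))) : α = β := by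
  refine Scheme.Modules.hom_ext _ _ fun W => ?_
  ext a
  have key : ∀ γ : Coh.structureModule Y ⟶ P,
      γ.app W a = (show Γ(Y, W) from a) • P.presheaf.map (homOfLE le_top).op (γ.app ⊤ (1 : Γ(Y, ⊤))) := fun γ => by
    have h1 : γ.app W (1 : Γ(Y, W)) = P.presheaf.map (homOfLE le_top).op (γ.app ⊤ (1 : Γ(Y, ⊤))) := by
      rw [← QCoh.map_app_comm γ (homOfLE le_top)]
      congr 1
      exact (map_one (Y.presheaf.map (homOfLE (le_top : W ≤ ⊤)).op).hom).symm
    rw [← h1]
    refine (congrArg _ (mul_one (show Γ(Y, W) from a)).symm).trans ?_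
    exact Scheme.Modules.Hom.app_smul (M := Coh.structureModule Y) γ (show Γ(Y, W) from a) (1 : Γ(Y, W))
  rw [key α, key β, h]

theorem restrict_smul_comp {k : Type u} [Field k] {X : Scheme.{u}} [X.Over (Spec (CommRingCat.of k))]
    (U : X.Opens) (c : k) {M N : X.Modules}
    (φ : (Scheme.Modules.restrictFunctor U.ι).obj M ⟶ (Scheme.Modules.restrictFunctor U.ι).obj N) :
    (Scheme.Modules.restrictFunctor U.ι).map (c • 𝟙 M) ≫ φ =
      φ ≫ (Scheme.Modules.restrictFunctor U.ι).map (c • 𝟙 N) := by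
  refine Scheme.Modules.hom_ext _ _ fun W => ?_
  ext m
  show φ.app W ((c • 𝟙 M).app (U.ι ''ᵁ W) m) = (c • 𝟙 N).app (U.ι ''ᵁ W) (φ.app W m)
  rw [KLin.smul_app_apply, KLin.smul_app_apply]
  obtain ⟨r, hr⟩ := (ConcreteCategory.bijective_of_isIso (U.ι.appIso W).inv).2
    (X.presheaf.map (homOfLE (le_top : U.ι ''ᵁ W ≤ ⊤)).op (Coh.toGlobal (X ↘ Spec (CommRingCat.of k)) c))
  rw [← hr]
  exact Scheme.Modules.Hom.app_smul φ r m

/-- Let k be a field, X a scheme over k, E a finite locally free O_X-module and D a first-order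
deformation of E, with reduction π : D.sheaf → E. Then D is locally trivial: every point of X has an
open neighbourhood U together with an isomorphism of O_U-modules between the restrictions to U of
D.sheaf and of E ⊕ εE which commutes with the actions of k[ε] and with the reductions to E. In
particular the deformed module is again a vector bundle over the dual numbers. -/
theorem result (k : Type u) [Field k] (X : Scheme.{u})
    [X.Over (Spec (CommRingCat.of k))] (E : X.Modules) (hE : FlatMod.IsFinLocFree E)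
    (D : DefoSh.Defo E (ArtFun.Art.dual k k)) (x : X) :
    ∃ (U : X.Opens) (e : D.sheaf.restrict U.ι ≅ (DefoSh.Defo.trivDual k E).sheaf.restrict U.ι), x ∈ U ∧
      e.hom ≫ (Scheme.Modules.restrictFunctor U.ι).map (DefoSh.Defo.trivDual k E).π =
        (Scheme.Modules.restrictFunctor U.ι).map D.π ∧
      ∀ a : ArtFun.Art.dual k k, (Scheme.Modules.restrictFunctor U.ι).map (D.act a) ≫ e.hom =
        e.hom ≫ (Scheme.Modules.restrictFunctor U.ι).map ((DefoSh.Defo.trivDual k E).act a) := by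
  obtain ⟨ι, hι⟩ := DefoSh16.exists_ι D
  have hS := DefoSh16.ext_shortExact D ι hι
  have := DefoSh16.epi_π D
  obtain ⟨U₀, n, hx₀, ⟨e₀⟩⟩ := hE x
  obtain ⟨_, ⟨V₁, hV₁, rfl⟩, hxU₁, hle₁⟩ :=
    X.isBasis_affineOpens.exists_subset_of_mem_open (show x ∈ U₀ from hx₀) U₀.isOpen
  obtain ⟨U, hU, hxU, hle⟩ : ∃ U : X.Opens, IsAffineOpen U ∧ x ∈ U ∧ U ≤ U₀ := ⟨V₁, hV₁, hxU₁, hle₁⟩
  have hqE := QCoh.isQCoh_of_isFinLocFree hE
  have hqD : Coh.IsQCoh D.sheaf := QCoh.isQCoh_X₂ hS hqE hqE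
  let R := Scheme.Modules.restrictFunctor U.ι
  have : R.Additive := inferInstance
  -- a section of the reduction over `U`
  have hUle : U ≤ U₀ := hle
  let eU : E.restrict U.ι ≅ FlatMod.freeMod (U : Scheme.{u}) n :=
    (Scheme.Modules.restrictFunctorCongr (show U.ι = X.homOfLE hUle ≫ U₀.ι from (Scheme.homOfLE_ι X hUle).symm)).app E ≪≫
      (QCoh.restrictRestrict E _ _).symm ≪≫ (Scheme.Modules.restrictFunctor _).mapIso e₀ ≪≫ QCoh.freeModRestrict _ n
  have hU' : IsAffineOpen (U.ι ''ᵁ ⊤) := by rw [Scheme.Opens.ι_image_top]; exact hU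
  have hlift : ∀ i : Fin n, ∃ z : Γ(D.sheaf, U.ι ''ᵁ ⊤), D.π.app (U.ι ''ᵁ ⊤) z =
      (show Γ(E, U.ι ''ᵁ ⊤) from ((Limits.Sigma.ι (fun _ : Fin n => Coh.structureModule (U : Scheme.{u})) i ≫ eU.inv).app ⊤
        (1 : Γ((U : Scheme.{u}), ⊤)))) := fun i =>
    QCoh.app_surjective_of_epi hqD hqE D.π hU' _
  choose z hz using hlift
  let σ' : FlatMod.freeMod (U : Scheme.{u}) n ⟶ D.sheaf.restrict U.ι := Limits.Sigma.desc fun i =>
    secHom (show Γ(D.sheaf.restrict U.ι, ⊤) from z i)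
  have hσ' : σ' ≫ R.map D.π = eU.inv := by
    refine Limits.Sigma.hom_ext _ _ fun i => secHom_ext ?_
    rw [← Category.assoc, Limits.Sigma.ι_desc]
    show D.π.app (U.ι ''ᵁ ⊤) ((secHom (show Γ(D.sheaf.restrict U.ι, ⊤) from z i)).app ⊤ (1 : Γ((U : Scheme.{u}), ⊤))) = _
    rw [secHom_one]
    exact hz i
  let σ : R.obj E ⟶ R.obj D.sheaf := eU.hom ≫ σ'
  have hσ : σ ≫ R.map D.π = 𝟙 (R.obj E) := by rw [Category.assoc, hσ', Iso.hom_inv_id]
  have hSR : ((DefoSh16.ext D ι hι).map R).ShortExact := hS.map_of_exact R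
  have := hSR.mono_f
  let spl : ((DefoSh16.ext D ι hι).map R).Splitting :=
    ShortComplex.Splitting.ofExactOfSection _ hSR.exact σ hσ inferInstance
  let ρ : R.obj D.sheaf ⟶ R.obj E := spl.r
  let e : D.sheaf.restrict U.ι ≅ (DefoSh.Defo.trivDual k E).sheaf.restrict U.ι :=
    { hom := R.map D.π ≫ R.map (biprod.inl : E ⟶ E ⊞ E) + ρ ≫ R.map (biprod.inr : E ⟶ E ⊞ E)
      inv := R.map (biprod.fst : E ⊞ E ⟶ E) ≫ σ + R.map (biprod.snd : E ⊞ E ⟶ E) ≫ R.map ι
      hom_inv_id := by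
        simp only [Preadditive.add_comp, Preadditive.comp_add, Category.assoc, ← R.map_comp_assoc,
          biprod.inl_fst, biprod.inl_snd, biprod.inr_fst, biprod.inr_snd, Functor.map_zero, Functor.map_id,
          CategoryTheory.Functor.map_id, zero_comp, comp_zero, Category.id_comp, add_zero, zero_add]
        rw [add_comm]
        exact spl.id
      inv_hom_id := by
        have h1 : R.map ι ≫ R.map D.π = 0 := by rw [← R.map_comp, DefoSh16.ι_π D ι hι, Functor.map_zero]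
        have h2 : R.map ι ≫ ρ = 𝟙 _ := spl.f_r
        have h3 : σ ≫ ρ = 0 := spl.s_r
        simp only [Preadditive.add_comp, Preadditive.comp_add, Category.assoc, reassoc_of% h1, reassoc_of% h2,
          reassoc_of% h3, reassoc_of% hσ, zero_comp, comp_zero, add_zero, zero_add, Category.id_comp]
        rw [← R.map_comp, ← R.map_comp, ← R.map_add, biprod.total, CategoryTheory.Functor.map_id]
        rfl }
  have he1 : e.hom ≫ R.map (biprod.fst : E ⊞ E ⟶ E) = R.map D.π := by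
    show (R.map D.π ≫ R.map (biprod.inl : E ⟶ E ⊞ E) + ρ ≫ R.map (biprod.inr : E ⟶ E ⊞ E)) ≫ R.map (biprod.fst : E ⊞ E ⟶ E) = _
    simp only [Preadditive.add_comp, Category.assoc, ← R.map_comp, biprod.inl_fst, biprod.inr_fst,
      Functor.map_zero, Category.comp_id, comp_zero, add_zero]
  have he2 : R.map ι ≫ e.hom = R.map (biprod.inr : E ⟶ E ⊞ E) := by
    show R.map ι ≫ (R.map D.π ≫ R.map (biprod.inl : E ⟶ E ⊞ E) + ρ ≫ R.map (biprod.inr : E ⟶ E ⊞ E)) = _
    rw [Preadditive.comp_add, ← Category.assoc, ← R.map_comp, DefoSh16.ι_π D ι hι, Functor.map_zero, zero_comp,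
      zero_add, ← Category.assoc, show R.map ι ≫ ρ = 𝟙 _ from spl.f_r, Category.id_comp]
  refine ⟨U, e, hxU, he1, fun a => ?_⟩
  let a' : DualNumber k := a
  have hsm : ∀ (c : k), R.map (c • 𝟙 D.sheaf) ≫ e.hom = e.hom ≫ R.map (c • 𝟙 (E ⊞ E)) := fun c =>
    restrict_smul_comp U c e.hom
  have hε : R.map (DefoSh16.εm D) ≫ e.hom = e.hom ≫ R.map ((biprod.fst : E ⊞ E ⟶ E) ≫ biprod.inr) := by
    rw [show DefoSh16.εm D = D.π ≫ ι from hι.symm, R.map_comp, R.map_comp, Category.assoc, he2, ← Category.assoc, he1]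
  have hsε : ∀ {M : X.Modules} (c : k) (f : M ⟶ M), c • f = (c • 𝟙 M) ≫ f := fun c f => by
    rw [Linear.smul_comp, Category.id_comp]
  show R.map (D.act a : D.sheaf ⟶ D.sheaf) ≫ e.hom = e.hom ≫ R.map (DefoSh.dualAct k E a' : E ⊞ E ⟶ E ⊞ E)
  erw [DefoSh16.act_hom_eq D a]
  rw [DefoSh.dualAct_hom]
  change R.map (a'.fst • 𝟙 D.sheaf + a'.snd • DefoSh16.εm D) ≫ e.hom =
    e.hom ≫ R.map (a'.fst • 𝟙 (E ⊞ E) + a'.snd • ((biprod.fst : E ⊞ E ⟶ E) ≫ biprod.inr))
  rw [hsε a'.snd (DefoSh16.εm D), hsε a'.snd ((biprod.fst : E ⊞ E ⟶ E) ≫ biprod.inr)]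
  simp only [Functor.map_add, Functor.map_comp, Preadditive.add_comp, Preadditive.comp_add, Category.assoc, hsm]
  rw [hε, ← Category.assoc (R.map (a'.snd • 𝟙 D.sheaf)) e.hom, hsm, Category.assoc]
  simp only [Functor.map_comp]

end Groth.Agent.S17440
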