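import Groth.Statements.S17442
import Groth.Agent.Lib.AVDual

set_option autoImplicit false
set_option backward.isDefEq.respectTransparency false
set_option backward.isDefEq.respectTransparency.types false
set_option maxHeartbeats 400000
universe u
open CategoryTheory CategoryTheory.Limits MonoidalCategory CartesianMonoidalCategory MonObj GrpObj AlgebraicGeometry
open AbVar

namespace Groth.Agent.S17442


set_option linter.style.haveILetI false
set_option linter.unusedSectionVars false
open Groth.Agent.H23 Groth.Agent.AVPair Groth.Agent.AVDual
open scoped Groth.Agent.H23.PicMul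

/-- Let k be a field, A an abelian variety over k (a proper smooth k-group scheme with geometrically
connected fibres), (A^t, φ) a given dual abelian variety of A for the fppf topology with A^t itself
an abelian variety, and P an invertible module on A ×_k A^t whose class is a Poincaré class (it lies
in Pic⁰ fibrewise over A^t, corresponds to the identity of A^t under φ, and is rigidified along the
unit section of A). For a natural number n write [n] for the n-th power of the identity in the group
of endomorphisms of A, resp. of A^t. Then the pull back of P along id_A × [n] and the pull back of P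
along [n] × id_{A^t} both have the same isomorphism class as the n-th tensor power of P. (The
published statement covers every integer n; only n ≥ 0 is stated here.) -/
theorem result (k : Type u) [Field k]
    (A At : Over (Spec (CommRingCat.of k))) [GrpObj A] [IsProper A.hom] [Smooth A.hom] [GeometricallyConnected A.hom]
    [GrpObj At] [IsProper At.hom] [Smooth At.hom] [GeometricallyConnected At.hom]
    (φ : ∀ T : Over (Spec (CommRingCat.of k)), PicF.Cl (PicF.XT A.hom T) → (T ⟶ At))
    (hφ : AbDual.IsDualAV Scheme.fppfPrecoverage A At φ)
    (P : (PicF.XT A.hom At).Modules) (hP : PicF.IsInvertible P)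
    (hξ : AbDual.IsPoincareCl A At φ (PicF.cl P)) (n : ℕ) :
    PicF.cl ((Scheme.Modules.pullback (PicF.XTmap A.hom (𝟙 At ^ n))).obj P) = PicF.cl (CohB1.tensorPow P n) ∧
      PicF.cl ((Scheme.Modules.pullback (AbDual.bcMap (𝟙 A ^ n) At)).obj P) = PicF.cl (CohB1.tensorPow P n) := by
  haveI := geometricallyIntegral_of_smooth A
  haveI := geometricallyIntegral_of_smooth At
  let c : PicF.Cl (A ⊗ At).left := PicF.cl P
  have hc : PicF.IsInvertibleCl c := ⟨P, rfl, hP⟩
  obtain ⟨h1, h2⟩ := poincare_axes hφ hξ
  have e0 : pl (lift (fst A At) (snd A At)) c = c := by rw [lift_fst_snd, pl_id]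
  have hr : ∀ m : ℕ, pl (lift (fst A At) (snd A At ^ m)) c = c ^ m := by
    intro m
    induction m with
    | zero =>
      rw [pow_zero, pow_zero, show lift (fst A At) (1 : A ⊗ At ⟶ At) = fst A At ≫ lift (𝟙 A) (1 : A ⟶ At) by
        rw [comp_lift, MonObj.comp_one, Category.comp_id], ← pl_pl, h2, map_one]
    | succ m ih => rw [pow_succ, pow_succ, add_right hc h1 h2, ih, e0]
  have hl : ∀ m : ℕ, pl (lift (fst A At ^ m) (snd A At)) c = c ^ m := by
    intro m
    induction m with
    | zero =>
      rw [pow_zero, pow_zero, show lift (1 : A ⊗ At ⟶ A) (snd A At) = snd A At ≫ lift (1 : At ⟶ A) (𝟙 At) by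
        rw [comp_lift, MonObj.comp_one, Category.comp_id], ← pl_pl, h1, map_one]
    | succ m ih => rw [pow_succ, pow_succ, add_left hc h1 h2, ih, e0]
  rw [PicMul.cl_tensorPow]
  constructor
  · show pl (A ◁ (𝟙 At ^ n)) c = c ^ n
    rw [← hr n]
    congr 2
    exact CartesianMonoidalCategory.hom_ext _ _ (by simp) (by simp [MonObj.comp_pow])
  · show pl ((𝟙 A ^ n) ▷ At) c = c ^ n
    rw [← hl n]
    congr 2
    exact CartesianMonoidalCategory.hom_ext _ _ (by simp [MonObj.comp_pow]) (by simp)

end Groth.Agent.S17442
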