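import Groth.Statements.S17443
import Groth.Agent.Lib.AVDual

set_option autoImplicit false
set_option backward.isDefEq.respectTransparency false
set_option backward.isDefEq.respectTransparency.types false
set_option maxHeartbeats 400000
universe u
open CategoryTheory CategoryTheory.Limits MonoidalCategory CartesianMonoidalCategory MonObj GrpObj AlgebraicGeometry
open AbVar

namespace Groth.Agent.S17443


set_option linter.style.haveILetI false
set_option linter.unusedSectionVars false
open Groth.Agent.H23 Groth.Agent.AVPair Groth.Agent.AVDual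
open scoped Groth.Agent.H23.PicMul

/-- Let k be a field, A an abelian variety over k (a proper smooth k-group scheme with geometrically
connected fibres), (A^t, φ) a given dual abelian variety of A for the fppf topology with A^t itself
an abelian variety, and P an invertible module on A ×_k A^t whose class is a Poincaré class (it lies
in Pic⁰ fibrewise over A^t, corresponds to the identity of A^t under φ, and is rigidified along the
unit section of A). Write [-1] for the inverse of the identity in the group of endomorphisms of A,
resp. of A^t (the inversion). Then the pull back of P along id_A × [-1] and the pull back of P along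
[-1] × id_{A^t} are both inverse to P: their tensor products with P have the class of the structure
sheaf. (This is the case n = -1 of the published statement, which asserts (id_A × [n])^*P ≅ P^{⊗n} ≅
([n] × id_{A^t})^*P for every integer n; together with the case n ≥ 0 it yields every integer n.) -/
theorem result (k : Type u) [Field k]
    (A At : Over (Spec (CommRingCat.of k))) [GrpObj A] [IsProper A.hom] [Smooth A.hom] [GeometricallyConnected A.hom]
    [GrpObj At] [IsProper At.hom] [Smooth At.hom] [GeometricallyConnected At.hom]
    (φ : ∀ T : Over (Spec (CommRingCat.of k)), PicF.Cl (PicF.XT A.hom T) → (T ⟶ At))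
    (hφ : AbDual.IsDualAV Scheme.fppfPrecoverage A At φ)
    (P : (PicF.XT A.hom At).Modules) (hP : PicF.IsInvertible P)
    (hξ : AbDual.IsPoincareCl A At φ (PicF.cl P)) :
    PicF.IsTrivialCl (PicF.cl (CohB1.tensorMod ((Scheme.Modules.pullback (PicF.XTmap A.hom (𝟙 At)⁻¹)).obj P) P)) ∧
      PicF.IsTrivialCl (PicF.cl (CohB1.tensorMod ((Scheme.Modules.pullback (AbDual.bcMap (𝟙 A)⁻¹ At)).obj P) P)) := by
  haveI := geometricallyIntegral_of_smooth A
  haveI := geometricallyIntegral_of_smooth At
  let c : PicF.Cl (A ⊗ At).left := PicF.cl P
  have hc : PicF.IsInvertibleCl c := ⟨P, rfl, hP⟩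
  obtain ⟨h1, h2⟩ := poincare_axes hφ hξ
  have e0 : pl (lift (fst A At) (snd A At)) c = c := by rw [lift_fst_snd, pl_id]
  constructor
  · show pl (A ◁ (𝟙 At)⁻¹) c * c = 1
    have := add_right hc h1 h2 (fst A At) (snd A At ≫ (𝟙 At)⁻¹) (snd A At)
    rw [GrpObj.comp_inv, Category.comp_id, inv_mul_cancel] at this
    rw [show A ◁ (𝟙 At)⁻¹ = lift (fst A At) (snd A At)⁻¹ from
      CartesianMonoidalCategory.hom_ext _ _ (by simp) (by simp [GrpObj.comp_inv])]
    rw [e0] at this
    refine this.symm.trans ?_
    rw [show lift (fst A At) (1 : A ⊗ At ⟶ At) = fst A At ≫ lift (𝟙 A) (1 : A ⟶ At) by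
      rw [comp_lift, MonObj.comp_one, Category.comp_id], ← pl_pl, h2, map_one]
  · show pl ((𝟙 A)⁻¹ ▷ At) c * c = 1
    have := add_left hc h1 h2 (fst A At ≫ (𝟙 A)⁻¹) (fst A At) (snd A At)
    rw [GrpObj.comp_inv, Category.comp_id, inv_mul_cancel] at this
    rw [show (𝟙 A)⁻¹ ▷ At = lift (fst A At)⁻¹ (snd A At) from
      CartesianMonoidalCategory.hom_ext _ _ (by simp [GrpObj.comp_inv]) (by simp)]
    rw [e0] at this
    refine this.symm.trans ?_
    rw [show lift (1 : A ⊗ At ⟶ A) (snd A At) = snd A At ≫ lift (1 : At ⟶ A) (𝟙 At) by
      rw [comp_lift, MonObj.comp_one, Category.comp_id], ← pl_pl, h1, map_one]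

end Groth.Agent.S17443
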