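import Groth.Statements.S17444
import Groth.Agent.H23.Unipotent

set_option autoImplicit false
universe u v
open SSRed

namespace Groth.Agent.S17444

/-- Let K be a field of characteristic zero, V a K-vector space and g a K-linear endomorphism of V such
that g - 1 is nilpotent (a unipotent automorphism). Then for every integer n > 0 the endomorphisms
gⁿ - 1 and g - 1 have the same kernel: a vector fixed by gⁿ is fixed by g. (The published statement
assumes V finite-dimensional; this row allows any V.) -/
theorem result (K : Type u) (V : Type v) [Field K] [CharZero K]
    [AddCommGroup V] [Module K V] (g : Module.End K V) (hg : IsNilpotent (g - 1)) (n : ℕ) (hn : 0 < n) :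
    LinearMap.ker (g ^ n - 1) = LinearMap.ker (g - 1) := by
  exact Groth.Agent.H23.Unipotent.ker_pow_sub_one g hg hn

end Groth.Agent.S17444
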