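import Groth.Statements.S17445
import Groth.Agent.H23.GcdProd

set_option autoImplicit false
open Finset
open SSRed

namespace Groth.Agent.S17445

/-- For natural numbers g and B with B ≥ 2g + 1, a natural number d divides ∏_{a=1}^{g} (ℓ^{2a} - 1) for
every prime ℓ > B if and only if d divides N(g) = 2^{3g + v₂(g!)} · ∏_{3 ≤ p ≤ 2g+1, p prime}
p^{[2g/(p-1)] + Σ_{1 ≤ i ≤ [2g/(p-1)]} v_p(i)}. In words: N(g) is the greatest common divisor of
these products as ℓ runs through the primes beyond any bound that is at least 2g + 1; its prime
factors are the primes p ≤ 2g + 1. (This is the number N(g) of the published result, which bounds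
the degree of the field of semistable reduction of a g-dimensional abelian variety over a strictly
henselian discretely valued field; the printed phrase is the greatest common divisor over all large
primes, made precise here by the bound 2g + 1, below which a prime ℓ ≤ 2g + 1 divides N(g) but not
its own product.) -/
theorem result (g B d : ℕ) (hB : 2 * g + 1 ≤ B) :
    (∀ ℓ : ℕ, ℓ.Prime → B < ℓ → d ∣ ∏ a ∈ Icc 1 g, (ℓ ^ (2 * a) - 1)) ↔
      d ∣ 2 ^ (3 * g + padicValNat 2 g.factorial) *
        ∏ p ∈ (Icc 3 (2 * g + 1)).filter Nat.Prime,
          p ^ ((2 * g) / (p - 1) + ∑ i ∈ Icc 1 ((2 * g) / (p - 1)), padicValNat p i) := by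
  exact Groth.Agent.H23.GcdProd.main g B d hB

end Groth.Agent.S17445
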