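import Groth.Statements.S17447
import Groth.Agent.HensSec7.Local
-- import your own Groth.Agent.* helpers here

set_option autoImplicit false
universe u
open CategoryTheory CategoryTheory.Limits AlgebraicGeometry
open Hensel

namespace Groth.Agent.S17447

/-- Let R be a henselian local ring and X → Spec R a quasi-finite separated morphism (locally of finite
type, quasi-compact, with discrete fibres). Then X decomposes uniquely as the disjoint union of an
open and closed subscheme finite over Spec R and an open and closed subscheme with empty special
fibre: there is exactly one open subset W of X which is closed, finite over Spec R (as an open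
subscheme) and contains every point lying over the closed point of Spec R. (No Noetherian hypothesis
on R.) -/
theorem result (R : Type u) [CommRing R] [HenselianLocalRing R]
    {X : Scheme.{u}} (f : X ⟶ Spec (CommRingCat.of R))
    [LocallyQuasiFinite f] [LocallyOfFiniteType f] [QuasiCompact f] [IsSeparated f] :
    ∃! W : X.Opens, IsClosed (W : Set X) ∧ IsFinite (W.ι ≫ f) ∧
      ∀ x : X, f.base x = IsLocalRing.closedPoint R → x ∈ W := by
  exact HensSec7.exists_finitePart f

end Groth.Agent.S17447
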