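import Groth.Statements.S17449
import Groth.Agent.Stein5.OneComp
import Groth.Agent.Stein5.Main
import Groth.Agent.Lsc5.Main
import Groth.Agent.FibDim.Comp
import Groth.Agent.FDescent.MaxPoint
-- import your own Groth.Agent.* helpers here

set_option autoImplicit false
universe u
open CategoryTheory CategoryTheory.Limits AlgebraicGeometry
open Stein

namespace Groth.Agent.S17449

/-- Let S be a Noetherian scheme and f : X → S a proper, flat and surjective morphism. Suppose that for
every generic point η of an irreducible component of S the fibre of f at η is geometrically
connected and smooth over the residue field κ(η). Then every fibre of f is geometrically connected. -/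
theorem result {X S : Scheme.{u}}
    (f : X ⟶ S) [IsProper f] [Flat f] [Surjective f] [IsNoetherian S]
    (h : ∀ (Z : Set ↑S) (η : ↑S), Z ∈ irreducibleComponents ↑S → IsGenericPoint η Z →
      GeometricallyConnected (f.fiberToSpecResidueField η) ∧ Smooth (f.fiberToSpecResidueField η)) :
    GeometricallyConnected f := by
  haveI : IsFinite f.fromNormalization := Groth.Agent.S1297.result f
  haveI : LocallyOfFinitePresentation f := inferInstance
  haveI : UniversallyOpen f := inferInstance
  refine (GeometricallyConnected.iff_geometricallyConnected_fiber (f := f)).mpr fun s => ?_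
  refine Stein5.geometricallyConnected_fibre_of_one f s (le_antisymm ?_ (Stein5.one_le_of_nonempty f s (f.surjective s)))
  obtain ⟨V, hV, hle⟩ := Lsc5.lsc_at f.fromNormalization s (fun p hp =>
    Stein5.isUnivOpenAt_fromNormalization f s (fun x _ => Lsc5.isUnivOpenAt_of_universallyOpen f x) p hp)
  obtain ⟨η, hη, hmax⟩ := FibDim.exists_maximal_generization s
  obtain ⟨O, hOV, hO, hsO⟩ := mem_nhds_iff.1 hV
  have h1 := hle η (hOV (hη.mem_open hO hsO))
  rw [← Stein5.nGeomConnComp_fromNormalization f s, ← Stein5.nGeomConnComp_fromNormalization f η] at h1
  haveI := (h (closure {η}) η (FDescent.closure_mem_irreducibleComponents hmax) (isGenericPoint_closure)).1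
  rwa [Stein5.one_of_geometricallyConnected f η] at h1

end Groth.Agent.S17449
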