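import Groth.Statements.S1745
import Groth.Agent.Alg6.AssDepth
import Mathlib
-- import your own Groth.Agent.* helpers here

set_option autoImplicit false
universe u
open scoped TensorProduct
open InjHull

namespace Groth.Agent.S1745

open TensorProduct

/-- A map on `pB` to `B ⊗ I` is given by an element. -/
theorem extends_map {A B : Type u} [CommRing A] [CommRing B] [Algebra A B] [IsNoetherianRing A]
    [Module.Flat A B] (I : Type u) [AddCommGroup I] [Module A I] [Module.Injective A I] (p : Ideal A)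
    (f : ↥(p.map (algebraMap A B)) →ₗ[B] B ⊗[A] I) : ∃ z : B ⊗[A] I, ∀ x, f x = (x : B) • z := by
  classical
  obtain ⟨r, a, ha⟩ := Submodule.fg_iff_exists_fin_generating_family.1 (IsNoetherian.noetherian p)
  let gen : (Fin r → A) →ₗ[A] A := Fintype.linearCombination A a
  obtain ⟨t, c, hc⟩ := Submodule.fg_iff_exists_fin_generating_family.1 (IsNoetherian.noetherian (LinearMap.ker gen))
  let α : I →ₗ[A] (Fin r → I) := LinearMap.pi fun i => a i • LinearMap.id
  let β : (Fin r → I) →ₗ[A] (Fin t → I) :=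
    LinearMap.pi fun j => ∑ i, c j i • LinearMap.proj i
  have hgen : ∀ w, gen w = ∑ i, w i * a i := fun w => by
    simp [gen, Fintype.linearCombination_apply, smul_eq_mul]
  have hex : Function.Exact α β := by
    intro y
    constructor
    · intro hy
      let ψ : (Fin r → A) →ₗ[A] I := Fintype.linearCombination A y
      have hker : LinearMap.ker gen ≤ LinearMap.ker ψ := by
        rw [← hc, Submodule.span_le]
        rintro _ ⟨j, rfl⟩
        have := congrFun hy j
        simpa [β, ψ, Fintype.linearCombination_apply] using this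
      let φ : ↥(LinearMap.range gen) →ₗ[A] I :=
        ((LinearMap.ker gen).liftQ ψ hker) ∘ₗ gen.quotKerEquivRange.symm.toLinearMap
      obtain ⟨Φ, hΦ⟩ := Module.Injective.extension_property A I (LinearMap.range gen) A
        (LinearMap.range gen).subtype Subtype.val_injective φ
      refine ⟨Φ 1, funext fun i => ?_⟩
      have h1 := LinearMap.congr_fun hΦ ⟨gen (Pi.single i 1), LinearMap.mem_range_self _ _⟩
      have e : gen.quotKerEquivRange.symm ⟨gen (Pi.single i 1), LinearMap.mem_range_self _ _⟩ =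
          Submodule.Quotient.mk (Pi.single i 1) := gen.quotKerEquivRange_symm_apply_image _ _
      simp only [LinearMap.comp_apply, Submodule.subtype_apply, φ, LinearEquiv.coe_coe, e,
        Submodule.liftQ_apply] at h1
      show a i • Φ 1 = y i
      rw [← map_smul, smul_eq_mul, mul_one]
      rw [show ψ (Pi.single i 1) = y i by simp [ψ]] at h1
      rw [← h1]
      congr 1
      simp [gen]
    · rintro ⟨m, rfl⟩
      funext j
      have hmem : c j ∈ LinearMap.ker gen := hc ▸ Submodule.subset_span ⟨j, rfl⟩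
      have h0 : ∑ i, c j i * a i = 0 := (hgen _).symm.trans hmem
      simp only [α, β, LinearMap.pi_apply, LinearMap.sum_apply, LinearMap.smul_apply, LinearMap.proj_apply,
        LinearMap.id_apply, smul_smul, ← Finset.sum_smul, h0, zero_smul, Pi.zero_apply]
  let Er := TensorProduct.piRight A A B (fun _ : Fin r => I)
  let Et := TensorProduct.piRight A A B (fun _ : Fin t => I)
  have hα : ∀ z i, Er (α.lTensor B z) i = algebraMap A B (a i) • z := fun z i => by
    induction z using TensorProduct.induction_on with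
    | zero => simp
    | tmul b m => simp [Er, α, TensorProduct.smul_tmul', Algebra.smul_def, TensorProduct.tmul_smul]
    | add u v hu hv => simp only [map_add, Pi.add_apply, hu, hv, smul_add]
  have hβ : ∀ z j, Et (β.lTensor B z) j = ∑ i, c j i • Er z i := fun z j => by
    induction z using TensorProduct.induction_on with
    | zero => simp
    | tmul b m => simp [Et, Er, β, TensorProduct.tmul_sum, TensorProduct.tmul_smul]
    | add u v hu hv => simp only [map_add, Pi.add_apply, hu, hv, smul_add, Finset.sum_add_distrib]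
  have hmem : ∀ i, algebraMap A B (a i) ∈ p.map (algebraMap A B) := fun i =>
    Ideal.mem_map_of_mem _ (ha ▸ Submodule.subset_span ⟨i, rfl⟩)
  let y : Fin r → B ⊗[A] I := fun i => f ⟨_, hmem i⟩
  have hy : β.lTensor B (Er.symm y) = 0 := Et.injective <| funext fun j => by
    rw [hβ, LinearEquiv.apply_symm_apply, map_zero, Pi.zero_apply]
    have hmem' : c j ∈ LinearMap.ker gen := hc ▸ Submodule.subset_span ⟨j, rfl⟩
    have h0 : ∑ i, c j i * a i = 0 := (hgen _).symm.trans hmem'
    have : ∀ i, c j i • y i = f (algebraMap A B (c j i) • ⟨_, hmem i⟩) := fun i => by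
      rw [map_smul, algebraMap_smul]
    rw [Finset.sum_congr rfl fun i _ => this i, ← map_sum]
    convert map_zero f
    refine Subtype.ext ?_
    simp only [Submodule.coe_sum, Submodule.coe_smul, smul_eq_mul, ← map_mul, ← map_sum, h0, map_zero,
      ZeroMemClass.coe_zero]
  obtain ⟨z, hz⟩ := (Module.Flat.lTensor_exact B hex _).1 hy
  refine ⟨z, fun x => ?_⟩
  have hi : ∀ i, f ⟨_, hmem i⟩ = algebraMap A B (a i) • z := fun i => by
    rw [← hα, hz, LinearEquiv.apply_symm_apply]
  obtain ⟨x, hx⟩ := x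
  have hspan : p.map (algebraMap A B) = Ideal.span (Set.range fun i => algebraMap A B (a i)) := by
    rw [← ha]
    exact (Ideal.map_span _ _).trans (by rw [← Set.range_comp]; rfl)
  obtain ⟨d, hd⟩ := Ideal.mem_span_range_iff_exists_fun.1 (hspan ▸ hx)
  have hxe : (⟨x, hx⟩ : ↥(p.map (algebraMap A B))) = ∑ i, d i • ⟨_, hmem i⟩ :=
    Subtype.ext (by simp [← hd])
  rw [hxe, map_sum, Submodule.coe_sum, Finset.sum_smul]
  refine Finset.sum_congr rfl fun i _ => ?_
  rw [map_smul, hi, Submodule.coe_smul, smul_smul, smul_eq_mul]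

/-- `pB` is radical. -/
theorem isRadical_map {A B : Type u} [CommRing A] [CommRing B] [Algebra A B] [IsNoetherianRing B]
    [Module.Flat A B] (h : ∀ q : PrimeSpectrum B, Ideal.map (algebraMap B (Localization.AtPrime q.asIdeal))
      ((q.asIdeal.comap (algebraMap A B)).map (algebraMap A B)) = IsLocalRing.maximalIdeal (Localization.AtPrime q.asIdeal))
    (p : Ideal A) [p.IsPrime] : (p.map (algebraMap A B)).IsRadical := by
  intro x ⟨n, hn⟩
  by_contra hx
  set J := p.map (algebraMap A B)
  have hne : Ideal.Quotient.mk J x ≠ 0 := fun h0 => hx (Ideal.Quotient.eq_zero_iff_mem.1 h0)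
  obtain ⟨q, hq, hle⟩ := exists_le_isAssociatedPrime_of_isNoetherianRing B (M := B ⧸ J) _ hne
  obtain ⟨hqp, m, hm⟩ := Alg6.mem_ass_iff.1 hq
  haveI := hqp
  -- `q` lies over `p`
  have hJq : J ≤ q := fun j hj => by
    refine (hm j).2 ?_
    obtain ⟨m, rfl⟩ := Ideal.Quotient.mk_surjective m
    exact Ideal.Quotient.eq_zero_iff_mem.2 (J.mul_mem_right m hj)
  have hover : q.comap (algebraMap A B) = p := by
    refine le_antisymm (fun s hs => ?_) (Ideal.map_le_iff_le_comap.1 hJq)
    by_contra hsp
    have hm0 : m ≠ 0 := fun h0 => hqp.ne_top ((Ideal.eq_top_iff_one _).2 ((hm 1).2 (by rw [h0, smul_zero])))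
    have hreg : IsSMulRegular (A ⧸ p) s := IsSMulRegular.of_right_eq_zero_of_smul fun z hz => by
      obtain ⟨z, rfl⟩ := Ideal.Quotient.mk_surjective z
      have hz' : Ideal.Quotient.mk p (s * z) = 0 := hz
      exact Ideal.Quotient.eq_zero_iff_mem.2
        ((Ideal.IsPrime.mem_or_mem ‹_› (Ideal.Quotient.eq_zero_iff_mem.1 hz')).resolve_left hsp)
    let e : B ⊗[A] (A ⧸ p) ≃ₗ[A] B ⧸ J :=
      (TensorProduct.tensorQuotEquivQuotSMul B p).trans
        ((Submodule.quotEquivOfEq _ _ (Ideal.smul_top_eq_map p)).trans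
          (Submodule.Quotient.restrictScalarsEquiv A J))
    have hreg' : IsSMulRegular (B ⧸ J) s := (e.isSMulRegular_congr s).1 (hreg.lTensor B)
    have hs0 : algebraMap A B s • m = 0 := (hm _).1 hs
    rw [algebraMap_smul] at hs0
    exact hm0 (hreg'.right_eq_zero_of_smul hs0)
  have hx_mem : x ∈ q := hqp.mem_of_pow_mem n (hJq hn)
  have h2 : algebraMap B (Localization.AtPrime q) x ∈ J.map (algebraMap B (Localization.AtPrime q)) := by
    have := h ⟨q, hqp⟩
    rw [hover] at this
    rw [this]
    exact (IsLocalization.AtPrime.to_map_mem_maximal_iff _ q x).2 hx_mem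
  obtain ⟨s, hs, hsx⟩ := (IsLocalization.algebraMap_mem_map_algebraMap_iff q.primeCompl _ _ _).1 h2
  refine hs (hle ?_)
  simp only [Submodule.mem_colon_singleton, Submodule.mem_bot, LinearMap.mem_ker, LinearMap.toSpanSingleton_apply]
  exact Ideal.Quotient.eq_zero_iff_mem.2 hsx

end Groth.Agent.S1745

namespace Groth.Agent.S1745

/-- Let A → B be a flat homomorphism of Noetherian rings such that for every prime q of B with
contraction p, the ideal p B_q equals the maximal ideal q B_q of B_q (for instance an étale map).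
Then for every injective A-module I the B-module B ⊗_A I is injective. -/
theorem result (A B : Type u) [CommRing A] [CommRing B] [Algebra A B] [IsNoetherianRing A] [IsNoetherianRing B] [Module.Flat A B] (h : ∀ q : PrimeSpectrum B, Ideal.map (algebraMap B (Localization.AtPrime q.asIdeal)) ((q.asIdeal.comap (algebraMap A B)).map (algebraMap A B)) = IsLocalRing.maximalIdeal (Localization.AtPrime q.asIdeal)) (I : Type u) [AddCommGroup I] [Module A I] [Module.Injective A I] : Module.Injective B (B ⊗[A] I) := by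
  classical
  refine Module.Baer.injective fun J f => ?_
  suffices H : ∀ (J : Ideal B) (f : J →ₗ[B] B ⊗[A] I), ∃ z, ∀ x, f x = (x : B) • z by
    obtain ⟨z, hz⟩ := H J f
    exact ⟨LinearMap.toSpanSingleton B _ z, fun x mem => (hz ⟨x, mem⟩).symm⟩
  intro J
  induction J using WellFoundedGT.induction with
  | _ q ih =>
  intro f
  by_cases htop : q = ⊤
  · refine ⟨f ⟨1, htop ▸ Submodule.mem_top⟩, fun x => ?_⟩
    rw [← map_smul]
    congr 1
    exact Subtype.ext (by simp)
  by_cases hq : q.IsPrime
  swap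
  · obtain ⟨a, ha, b, hb, hab⟩ : ∃ a, a ∉ q ∧ ∃ b, b ∉ q ∧ a * b ∈ q := by
      obtain ⟨a, b, hab, ha, hb⟩ : ∃ a b, a * b ∈ q ∧ a ∉ q ∧ b ∉ q := by
        simpa [Ideal.isPrime_iff, htop, not_or] using hq
      exact ⟨a, ha, b, hb, hab⟩
    let K : Ideal B := Submodule.comap (LinearMap.mulLeft B a) q
    have hlt : q < K := lt_of_le_not_ge (fun x hx => q.mul_mem_left a hx) fun hle => hb (hle hab)
    let g : K →ₗ[B] B ⊗[A] I := f ∘ₗ ((LinearMap.mulLeft B a).restrict fun x hx => hx)
    obtain ⟨n, hn⟩ := ih K hlt g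
    have hlt2 : q < q ⊔ Ideal.span {a} :=
      lt_of_le_not_ge le_sup_left fun hle => ha (hle (Ideal.mem_sup_right (Ideal.mem_span_singleton_self a)))
    have hrep : ∀ x : ↥(q ⊔ Ideal.span {a}), ∃ w : ↥q × B, (x : B) = (w.1 : B) + w.2 * a := fun x => by
      obtain ⟨u, hu, v, hv, e⟩ := Submodule.mem_sup.1 x.2
      obtain ⟨r, rfl⟩ := Ideal.mem_span_singleton'.1 hv
      exact ⟨(⟨u, hu⟩, r), e.symm⟩
    choose w hw using hrep
    have huniq : ∀ (u u' : ↥q) (r r' : B), (u : B) + r * a = u' + r' * a → f u + r • n = f u' + r' • n := by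
      intro u u' r r' e
      have hr : r - r' ∈ K := by
        show a * (r - r') ∈ q
        rw [show a * (r - r') = ((u' - u : ↥q) : B) by push_cast; linear_combination e]
        exact (u' - u).2
      have := hn ⟨r - r', hr⟩
      have e2 : g ⟨r - r', hr⟩ = f (u' - u) := by
        refine congrArg f (Subtype.ext ?_)
        show a * (r - r') = ((u' - u : ↥q) : B)
        push_cast; linear_combination e
      rw [e2, map_sub] at this
      replace this : f u' - f u = (r - r') • n := this
      rw [show (r - r') • n = r • n - r' • n from sub_smul r r' n] at this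
      exact ((sub_eq_sub_iff_add_eq_add.1 this).trans (add_comm _ _)).symm
    let F : ↥(q ⊔ Ideal.span {a}) →ₗ[B] B ⊗[A] I :=
      { toFun := fun x => f (w x).1 + (w x).2 • n
        map_add' := fun x y => by
          rw [huniq (w (x + y)).1 ((w x).1 + (w y).1) (w (x + y)).2 ((w x).2 + (w y).2)
            (by rw [← hw]; push_cast; rw [hw x, hw y]; ring), map_add, add_smul]
          abel
        map_smul' := fun c x => by
          rw [huniq (w (c • x)).1 (c • (w x).1) (w (c • x)).2 (c * (w x).2)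
            (by rw [← hw]; push_cast; rw [hw x, smul_eq_mul, smul_eq_mul]; ring), map_smul, RingHom.id_apply,
            smul_add, mul_smul] }
    obtain ⟨z, hz⟩ := ih _ hlt2 F
    refine ⟨z, fun x => ?_⟩
    rw [← hz ⟨x, Ideal.mem_sup_left x.2⟩]
    have := huniq x (w ⟨x, Ideal.mem_sup_left x.2⟩).1 0 (w ⟨x, Ideal.mem_sup_left x.2⟩).2
      (by rw [← hw]; simp)
    rwa [zero_smul, add_zero] at this
  let p : Ideal A := q.comap (algebraMap A B)
  let P : Ideal B := p.map (algebraMap A B)
  have hPq : P ≤ q := Ideal.map_comap_le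
  have hqmin : q ∈ P.minimalPrimes := by
    refine ⟨⟨hq, hPq⟩, fun q0 ⟨hq0, hPq0⟩ hle x hx => ?_⟩
    haveI := hq0
    have h2 : algebraMap B (Localization.AtPrime q) x ∈ P.map (algebraMap B (Localization.AtPrime q)) := by
      rw [h ⟨q, hq⟩]
      exact (IsLocalization.AtPrime.to_map_mem_maximal_iff _ q x).2 hx
    obtain ⟨s, hs, hsx⟩ := (IsLocalization.algebraMap_mem_map_algebraMap_iff q.primeCompl _ _ _).1 h2
    exact (hq0.mem_or_mem (hPq0 hsx)).resolve_left fun hs0 => hs (hle hs0)
  have hfin := P.finite_minimalPrimes_of_isNoetherianRing B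
  let S := hfin.toFinset.erase q
  let q' : Ideal B := S.inf id
  have hint : ∀ x, x ∈ q → x ∈ q' → x ∈ P := fun x h1 h2 => by
    have hr : P.IsRadical := Groth.Agent.S1745.isRadical_map h p
    rw [← hr.radical, ← Ideal.sInf_minimalPrimes, Submodule.mem_sInf]
    intro J hJ
    by_cases e : J = q
    · exact e ▸ h1
    · exact (Finset.inf_le (f := id) (Finset.mem_erase.2 ⟨e, hfin.mem_toFinset.2 hJ⟩)) h2
  have hnle : ¬ q' ≤ q := fun hle => by
    obtain ⟨J, hJ, hJle⟩ := (Ideal.IsPrime.inf_le' hq).1 hle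
    obtain ⟨hne, hJ'⟩ := Finset.mem_erase.1 hJ
    exact hne (le_antisymm hJle (hqmin.2 (hfin.mem_toFinset.1 hJ').1 hJle))
  obtain ⟨z0, hz0⟩ := Groth.Agent.S1745.extends_map I p (f ∘ₗ Submodule.inclusion hPq)
  let f1 : q →ₗ[B] B ⊗[A] I := f - (LinearMap.toSpanSingleton B _ z0) ∘ₗ q.subtype
  have hf1 : ∀ x : q, (x : B) ∈ q' → f1 x = 0 := fun x hx => by
    have := hz0 ⟨x, hint x x.2 hx⟩
    show f x - (x : B) • z0 = 0
    rw [sub_eq_zero]
    exact this
  let ρ : (↥q × ↥q') →ₗ[B] B := q.subtype.coprod q'.subtype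
  have hkerρ : LinearMap.ker ρ ≤ LinearMap.ker (f1 ∘ₗ LinearMap.fst B ↥q ↥q') := fun w hw => by
    have : (w.1 : B) = -(w.2 : B) := eq_neg_of_add_eq_zero_left hw
    exact hf1 _ (this ▸ neg_mem w.2.2)
  have hrange : LinearMap.range ρ = q ⊔ q' := by
    rw [LinearMap.range_coprod, Submodule.range_subtype, Submodule.range_subtype]
  let G : ↥(q ⊔ q') →ₗ[B] B ⊗[A] I :=
    (LinearMap.ker ρ).liftQ _ hkerρ ∘ₗ ρ.quotKerEquivRange.symm.toLinearMap ∘ₗ
      (LinearEquiv.ofEq _ _ hrange.symm).toLinearMap
  obtain ⟨z1, hz1⟩ := ih (q ⊔ q') (lt_of_le_not_ge le_sup_left fun hle => hnle (le_sup_right.trans hle)) G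
  refine ⟨z0 + z1, fun x => ?_⟩
  have hmem : (x : B) ∈ LinearMap.range ρ := ⟨(x, 0), by simp [ρ]⟩
  have hG : G ⟨x, Submodule.mem_sup_left x.2⟩ = f1 x := by
    show (LinearMap.ker ρ).liftQ _ hkerρ (ρ.quotKerEquivRange.symm ⟨(x : B), hmem⟩) = _
    rw [show (⟨(x : B), hmem⟩ : LinearMap.range ρ) = ⟨ρ (x, 0), LinearMap.mem_range_self _ _⟩ from
      Subtype.ext (by simp [ρ]), LinearMap.quotKerEquivRange_symm_apply_image]
    rfl
  rw [hz1] at hG
  rw [smul_add, hG]
  show f x = _ + (f x - (x : B) • z0)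
  abel


end Groth.Agent.S1745
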