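import Groth.Statements.S17450
import Groth.Agent.AGF20Lib.SemiabTors
-- import your own Groth.Agent.* helpers here

set_option autoImplicit false
set_option synthInstance.maxHeartbeats 400000
set_option backward.isDefEq.respectTransparency false
set_option backward.isDefEq.respectTransparency.types false
set_option linter.style.haveILetI false
set_option backward.isDefEq.respectTransparency.types false
set_option maxHeartbeats 1000000
universe u
open CategoryTheory MonoidalCategory CartesianMonoidalCategory MonObj GrpObj AlgebraicGeometry CategoryTheory.Limits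
open AlgGrp

namespace Groth.Agent.S17450

/-- Let k be a field with algebraic closure K and G a semi-abelian variety over k, that is, a smooth
connected commutative k-group scheme of finite type whose base change to K is an extension of an
abelian variety by a torus (there are a closed subgroup scheme T of G_K which is a torus and a flat
surjective homomorphism from G_K onto a proper smooth connected K-group scheme with kernel T). Let H
be a closed subgroup scheme of G and ℓ a prime number such that the ℓ-torsion subgroup scheme H[ℓ]
is trivial: every point h of H with values in any k-scheme satisfying h^ℓ = 1 is the unit. Then H is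
finite over k. -/
theorem result (k : Type u) [Field k]
    (G : Over (Spec (CommRingCat.of k))) [GrpObj G] [IsCommMonObj G] [Smooth G.hom] [QuasiCompact G.hom]
    [ConnectedSpace ↥G.left]
    (hK : (∃ (T : Over (Spec (CommRingCat.of (AlgebraicClosure k)))) (_ : GrpObj T) (i : T ⟶ Red.bc (Spec.map (CommRingCat.ofHom (algebraMap k (AlgebraicClosure k)))) G) (A : Over (Spec (CommRingCat.of (AlgebraicClosure k)))) (_ : GrpObj A) (q : Red.bc (Spec.map (CommRingCat.ofHom (algebraMap k (AlgebraicClosure k)))) G ⟶ A),
        IsMonHom i ∧ IsClosedImmersion i.left ∧ Red.IsTorus T ∧ IsMonHom q ∧ Surjective q.left ∧ Flat q.left ∧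
        AlgGrp.IsKernel i q ∧ IsProper A.hom ∧ Smooth A.hom ∧ ConnectedSpace ↥A.left))
    (H : Over (Spec (CommRingCat.of k))) [GrpObj H] (j : H ⟶ G) [IsMonHom j] [IsClosedImmersion j.left]
    (ℓ : ℕ) (hℓ : ℓ.Prime)
    (htors : ∀ (Y : Over (Spec (CommRingCat.of k))) (h : Y ⟶ H), h ^ ℓ = 1 → h = 1) :
    IsFinite H.hom := by
  let σ := Spec.map (CommRingCat.ofHom (algebraMap k (AlgebraicClosure k)))
  haveI : Mono j := GrpSchLib.SemiabIsog.mono_ci j
  haveI : Smooth (Red.bc σ G).hom := inferInstanceAs (Smooth (pullback.snd G.hom σ))
  haveI : IsCommMonObj (Red.bc σ G) := by open scoped CategoryTheory.Obj in infer_instance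
  haveI : LocallyOfFiniteType H.hom := by rw [← Over.w j]; infer_instance
  haveI : QuasiCompact H.hom := by rw [← Over.w j]; infer_instance
  haveI : LocallyOfFiniteType (Red.bc σ H).hom := inferInstanceAs (LocallyOfFiniteType (pullback.snd H.hom σ))
  haveI : QuasiCompact (Red.bc σ H).hom := inferInstanceAs (QuasiCompact (pullback.snd H.hom σ))
  let jj : Red.bc σ H ⟶ Red.bc σ G := (Over.pullback σ).map j
  haveI : IsMonHom jj := by open scoped CategoryTheory.Obj in infer_instance
  haveI : Mono jj := by infer_instance
  have h' : ∀ (Y : Over (Spec (CommRingCat.of (AlgebraicClosure k)))) (x : Y ⟶ Red.bc σ H), x ^ ℓ = 1 → x = 1 := by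
    intro Y x hx
    let φ : (Y ⟶ Red.bc σ H) →* ((Over.map σ).obj Y ⟶ H) := MonoidHom.mk' (DSPtsLib.theta σ) (DSPtsLib.theta_mul σ)
    refine (DSPtsLib.theta_bijective σ).injective ?_
    show φ x = φ 1
    rw [map_one]
    exact htors _ _ (by rw [← map_pow, hx, map_one])
  haveI := AGF20Lib.SemiabTors.isFinite_of_torsionFree (G := Red.bc σ G) hK jj hℓ h'
  haveI : Surjective σ := ⟨fun x => ⟨Classical.arbitrary _, Subsingleton.elim (α := PrimeSpectrum k) _ _⟩⟩
  haveI : Flat σ := Flat.SpecMap_iff.mpr (RingHom.flat_algebraMap_iff.mpr inferInstance)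
  haveI := EtFound.fpqc_isFinite.{u}
  exact MorphismProperty.of_isPullback_of_descendsAlong (P := @IsFinite) (Q := (@Surjective ⊓ @Flat ⊓ @QuasiCompact : MorphismProperty Scheme.{u}))
    (IsPullback.of_hasPullback H.hom σ).flip ⟨⟨inferInstance, inferInstance⟩, inferInstance⟩
    (‹IsFinite (Red.bc σ H).hom› : IsFinite (pullback.snd H.hom σ))

end Groth.Agent.S17450
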