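import Groth.Statements.S17453
import Groth.Agent.GrpSchLib.SemiabExt
import Groth.Agent.GrpSchLib.HomSplitLocal
-- import your own Groth.Agent.* helpers here

set_option autoImplicit false
set_option backward.isDefEq.respectTransparency.types false
set_option maxHeartbeats 1000000
universe u
open CategoryTheory MonoidalCategory CartesianMonoidalCategory MonObj GrpObj AlgebraicGeometry CategoryTheory.Limits
open AlgGrp

namespace Groth.Agent.S17453

/-- Let k be a field with algebraic closure K and 1 → G' → G → G'' → 1 a short exact sequence of smooth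
connected k-group schemes of finite type: G' → G is a homomorphism and a closed immersion, G → G''
is a flat surjective homomorphism, and G' is its kernel. Say that such a group is semi-abelian when
its base change to K, modulo a suitable torus, is an abelian variety (there are a closed subgroup
scheme of the base change which is a torus and a flat surjective homomorphism onto a proper smooth
connected K-group scheme with that kernel); commutativity is not assumed, it follows. Then G is
semi-abelian exactly when both G' and G'' are semi-abelian. -/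
theorem result (k : Type u) [Field k]
    (G' G G'' : Over (Spec (CommRingCat.of k))) [GrpObj G'] [GrpObj G] [GrpObj G'']
    [Smooth G'.hom] [QuasiCompact G'.hom] [ConnectedSpace ↥G'.left]
    [Smooth G.hom] [QuasiCompact G.hom] [ConnectedSpace ↥G.left]
    [Smooth G''.hom] [QuasiCompact G''.hom] [ConnectedSpace ↥G''.left]
    (j : G' ⟶ G) [IsMonHom j] [IsClosedImmersion j.left]
    (p : G ⟶ G'') [IsMonHom p] [Surjective p.left] [Flat p.left] (hex : AlgGrp.IsKernel j p) :
    (∃ (T : Over (Spec (CommRingCat.of (AlgebraicClosure k)))) (_ : GrpObj T) (i : T ⟶ Red.bc (Spec.map (CommRingCat.ofHom (algebraMap k (AlgebraicClosure k)))) G) (A : Over (Spec (CommRingCat.of (AlgebraicClosure k)))) (_ : GrpObj A) (q : Red.bc (Spec.map (CommRingCat.ofHom (algebraMap k (AlgebraicClosure k)))) G ⟶ A),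
        IsMonHom i ∧ IsClosedImmersion i.left ∧ Red.IsTorus T ∧ IsMonHom q ∧ Surjective q.left ∧ Flat q.left ∧
        AlgGrp.IsKernel i q ∧ IsProper A.hom ∧ Smooth A.hom ∧ ConnectedSpace ↥A.left) ↔
    ((∃ (T : Over (Spec (CommRingCat.of (AlgebraicClosure k)))) (_ : GrpObj T) (i : T ⟶ Red.bc (Spec.map (CommRingCat.ofHom (algebraMap k (AlgebraicClosure k)))) G') (A : Over (Spec (CommRingCat.of (AlgebraicClosure k)))) (_ : GrpObj A) (q : Red.bc (Spec.map (CommRingCat.ofHom (algebraMap k (AlgebraicClosure k)))) G' ⟶ A),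
        IsMonHom i ∧ IsClosedImmersion i.left ∧ Red.IsTorus T ∧ IsMonHom q ∧ Surjective q.left ∧ Flat q.left ∧
        AlgGrp.IsKernel i q ∧ IsProper A.hom ∧ Smooth A.hom ∧ ConnectedSpace ↥A.left) ∧
     (∃ (T : Over (Spec (CommRingCat.of (AlgebraicClosure k)))) (_ : GrpObj T) (i : T ⟶ Red.bc (Spec.map (CommRingCat.ofHom (algebraMap k (AlgebraicClosure k)))) G'') (A : Over (Spec (CommRingCat.of (AlgebraicClosure k)))) (_ : GrpObj A) (q : Red.bc (Spec.map (CommRingCat.ofHom (algebraMap k (AlgebraicClosure k)))) G'' ⟶ A),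
        IsMonHom i ∧ IsClosedImmersion i.left ∧ Red.IsTorus T ∧ IsMonHom q ∧ Surjective q.left ∧ Flat q.left ∧
        AlgGrp.IsKernel i q ∧ IsProper A.hom ∧ Smooth A.hom ∧ ConnectedSpace ↥A.left)) := by
  let σ := Spec.map (CommRingCat.ofHom (algebraMap k (AlgebraicClosure k)))
  let F := (Over.pullback σ).map p
  let J := (Over.pullback σ).map j
  haveI : Smooth (Red.bc σ G').hom := inferInstanceAs (Smooth (Limits.pullback.snd G'.hom σ))
  haveI : Smooth (Red.bc σ G).hom := inferInstanceAs (Smooth (Limits.pullback.snd G.hom σ))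
  haveI : Smooth (Red.bc σ G'').hom := inferInstanceAs (Smooth (Limits.pullback.snd G''.hom σ))
  haveI : QuasiCompact (Red.bc σ G').hom := inferInstanceAs (QuasiCompact (Limits.pullback.snd G'.hom σ))
  haveI : QuasiCompact (Red.bc σ G).hom := inferInstanceAs (QuasiCompact (Limits.pullback.snd G.hom σ))
  haveI : QuasiCompact (Red.bc σ G'').hom := inferInstanceAs (QuasiCompact (Limits.pullback.snd G''.hom σ))
  haveI : ConnectedSpace (Red.bc σ G').left := GrpSchLib.AntiAffine.connectedSpace_bc G' (algebraMap k (AlgebraicClosure k))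
  haveI : ConnectedSpace (Red.bc σ G).left := GrpSchLib.AntiAffine.connectedSpace_bc G (algebraMap k (AlgebraicClosure k))
  haveI : ConnectedSpace (Red.bc σ G'').left := GrpSchLib.AntiAffine.connectedSpace_bc G'' (algebraMap k (AlgebraicClosure k))
  haveI : Surjective F.left :=
    MorphismProperty.of_isPullback (P := @Surjective) (GrpSchLib.HomSplitLocal.isPullback_map p σ) inferInstance
  haveI : IsClosedImmersion J.left :=
    MorphismProperty.of_isPullback (P := @IsClosedImmersion) (GrpSchLib.HomSplitLocal.isPullback_map j σ) inferInstance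
  haveI : Mono J := AGFLib.BorelExist.mono_of_closedImmersion J
  have hk := NIsog.isKernel_bc σ hex
  show GrpSchLib.SemiabExt.IsSemiab (Red.bc σ G) ↔
    GrpSchLib.SemiabExt.IsSemiab (Red.bc σ G') ∧ GrpSchLib.SemiabExt.IsSemiab (Red.bc σ G'')
  refine ⟨fun h => ⟨GrpSchLib.SemiabExt.semiab_iff.2 (GrpSchLib.SemiabExt.lineConst_sub J
    (GrpSchLib.SemiabExt.semiab_iff.1 h)), GrpSchLib.SemiabExt.semiab_quot F h⟩, fun h => ?_⟩
  exact GrpSchLib.SemiabExt.semiab_iff.2 (GrpSchLib.SemiabExt.lineConst_ext J F hk
    (GrpSchLib.SemiabExt.semiab_iff.1 h.1) (GrpSchLib.SemiabExt.semiab_iff.1 h.2))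

end Groth.Agent.S17453
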