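import Groth.Statements.S17456
import Groth.Agent.AGF20Lib.SemiabDeg
import Groth.Agent.GenTransporter.Spread
import Groth.Agent.SolvGrp.Fibre
import Groth.Agent.NIsog.Kernel
import Groth.Agent.S4642
-- import your own Groth.Agent.* helpers here

set_option autoImplicit false
set_option synthInstance.maxHeartbeats 400000
set_option maxHeartbeats 1600000
set_option backward.isDefEq.respectTransparency false
set_option backward.isDefEq.respectTransparency.types false
set_option linter.style.haveILetI false
set_option backward.isDefEq.respectTransparency.types false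
set_option maxHeartbeats 1000000
universe u
open CategoryTheory MonoidalCategory CartesianMonoidalCategory MonObj GrpObj AlgebraicGeometry CategoryTheory.Limits
open AlgGrp

namespace Groth.Agent.S17456

/-- Let k be a field and G a smooth connected commutative k-group scheme of finite type which is an
extension of an abelian variety B of dimension a by a torus T of dimension t: T → G is a
homomorphism and a closed immersion with T a torus, G → B is a flat surjective homomorphism onto a
proper smooth connected k-group scheme, and T is its kernel. Then for every integer N ≥ 1, the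
characteristic of k being allowed to divide N, the N-torsion subgroup scheme G[N] (the kernel of
multiplication by N on G) is finite locally free over Spec k of degree N^(t + 2a). (In the source G
is the identity component of the special fibre of the Néron model of an abelian variety with
semistable reduction, which is such an extension.) -/
theorem result (k : Type u) [Field k]
    (G T B : Over (Spec (CommRingCat.of k))) [GrpObj G] [IsCommMonObj G] [GrpObj T] [GrpObj B]
    [Smooth G.hom] [QuasiCompact G.hom] [ConnectedSpace ↥G.left]
    (i : T ⟶ G) [IsMonHom i] [IsClosedImmersion i.left] (hT : Red.IsTorus T)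
    (q : G ⟶ B) [IsMonHom q] [Surjective q.left] [Flat q.left] (hk : AlgGrp.IsKernel i q)
    [IsProper B.hom] [Smooth B.hom] [ConnectedSpace ↥B.left]
    (t a : ℕ) (ht : topologicalKrullDim ↥T.left = t) (ha : topologicalKrullDim ↥B.left = a)
    (N : ℕ) (hN : 0 < N)
    (K : Over (Spec (CommRingCat.of k))) [GrpObj K] (κ : K ⟶ G) [IsMonHom κ]
    (hK : AlgGrp.IsKernel κ ((𝟙 G) ^ N)) :
    Mor2.IsFinLocFreeOfDeg (N ^ (t + 2 * a)) K.hom := by
  let L := AlgebraicClosure k
  let σ : Spec (CommRingCat.of L) ⟶ Spec (CommRingCat.of k) := Spec.map (CommRingCat.ofHom (algebraMap k L))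
  haveI : Smooth (Red.bc σ G).hom := inferInstanceAs (Smooth (pullback.snd G.hom σ))
  haveI : QuasiCompact (Red.bc σ G).hom := inferInstanceAs (QuasiCompact (pullback.snd G.hom σ))
  haveI : Smooth (Red.bc σ B).hom := inferInstanceAs (Smooth (pullback.snd B.hom σ))
  haveI : IsProper (Red.bc σ B).hom := inferInstanceAs (IsProper (pullback.snd B.hom σ))
  haveI : IsCommMonObj (Red.bc σ G) := by open scoped CategoryTheory.Obj in infer_instance
  haveI : ConnectedSpace ↥(Red.bc σ B).left := by
    haveI : GeometricallyReduced B.hom := H23.RigidGamma.geometricallyReduced_of_smooth B.hom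
    haveI : GeometricallyIntegral B.hom := H23.MaxAbelian.geometricallyIntegral_of_connected B
    haveI : IsIntegral (pullback B.hom σ) := GeometricallyIntegral.geometrically_isIntegral _ _ _ (IsPullback.of_hasPullback B.hom σ)
    exact inferInstanceAs (ConnectedSpace ↥(pullback B.hom σ))
  let i' : Red.bc σ T ⟶ Red.bc σ G := (Over.pullback σ).map i
  let q' : Red.bc σ G ⟶ Red.bc σ B := (Over.pullback σ).map q
  let κ' : Red.bc σ K ⟶ Red.bc σ G := (Over.pullback σ).map κ
  haveI : IsMonHom i' := by open scoped CategoryTheory.Obj in infer_instance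
  haveI : IsMonHom q' := by open scoped CategoryTheory.Obj in infer_instance
  haveI : IsClosedImmersion i'.left := MorphismProperty.of_isPullback (P := @IsClosedImmersion) (GenTransporter.isPullback_map_left i σ) inferInstance
  haveI : Surjective q'.left := MorphismProperty.of_isPullback (P := @Surjective) (GenTransporter.isPullback_map_left q σ) inferInstance
  haveI : Flat q'.left := MorphismProperty.of_isPullback (P := @Flat) (GenTransporter.isPullback_map_left q σ) inferInstance
  have hT' : Red.IsTorus (Red.bc σ T) := SolvGrp.isTorus_bc σ hT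
  have hk' : AlgGrp.IsKernel i' q' := NIsog.isKernel_bc σ hk
  have hK' : AlgGrp.IsKernel κ' ((𝟙 (Red.bc σ G)) ^ N) := by
    have h := NIsog.isKernel_bc σ hK
    have hp : ∀ j : ℕ, (Over.pullback σ).map ((𝟙 G) ^ j) = (𝟙 ((Over.pullback σ).obj G)) ^ j := fun j => by
      rw [← (Over.pullback σ).map_id G]
      exact map_pow (Functor.homMonoidHom (Over.pullback σ)) (𝟙 G) j
    rw [hp] at h
    exact h
  haveI : LocallyOfFiniteType T.hom := by rw [← Over.w i]; infer_instance
  have ht' : topologicalKrullDim ↥(Red.bc σ T).left = t := (S4642.result (K := L) T.hom).trans ht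
  have ha' : topologicalKrullDim ↥(Red.bc σ B).left = a := (S4642.result (K := L) B.hom).trans ha
  obtain ⟨hf, hr⟩ := AGF20Lib.SemiabDeg.semiab_kernel i' hT' q' hk' ht' ha' hN κ' hK'
  haveI : Surjective σ := ⟨fun x => ⟨Classical.arbitrary _, Subsingleton.elim (α := PrimeSpectrum k) _ _⟩⟩
  haveI : Flat σ := Flat.SpecMap_iff.mpr (RingHom.flat_algebraMap_iff.mpr inferInstance)
  haveI := EtFound.fpqc_isFinite.{u}
  haveI hfin : IsFinite K.hom := MorphismProperty.of_isPullback_of_descendsAlong (P := @IsFinite) (Q := (@Surjective ⊓ @Flat ⊓ @QuasiCompact : MorphismProperty Scheme.{u}))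
    (IsPullback.of_hasPullback K.hom σ).flip ⟨⟨inferInstance, inferInstance⟩, inferInstance⟩
    (hf : IsFinite (pullback.snd K.hom σ))
  haveI : Flat K.hom := inferInstance
  refine ⟨⟨hfin, inferInstance, inferInstance⟩, fun y => ?_⟩
  obtain ⟨x, rfl⟩ := σ.surjective y
  rw [← Scheme.Hom.finrank_pullback_snd]
  exact hr x

end Groth.Agent.S17456
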