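import Groth.Statements.S17461
-- import your own Groth.Agent.* helpers here

set_option autoImplicit false
universe u
open CategoryTheory CategoryTheory.Limits AlgebraicGeometry
open Hensel

namespace Groth.Agent.S17461

/-- Let R be a henselian local ring and let X and Y be quasi-finite separated schemes over Spec R
(locally of finite type, quasi-compact, with discrete fibres, separated). Let W_X ⊆ X and W_Y ⊆ Y be
their finite parts: open and closed subsets which are finite over Spec R as open subschemes and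
contain every point over the closed point. Then every morphism g : X → Y over Spec R carries W_X
into W_Y. -/
theorem result (R : Type u) [CommRing R] [HenselianLocalRing R]
    {X Y : Scheme.{u}} (f : X ⟶ Spec (CommRingCat.of R)) (f' : Y ⟶ Spec (CommRingCat.of R))
    [LocallyQuasiFinite f] [LocallyOfFiniteType f] [QuasiCompact f] [IsSeparated f]
    [LocallyQuasiFinite f'] [LocallyOfFiniteType f'] [QuasiCompact f'] [IsSeparated f']
    (WX : X.Opens) (hWX : (IsClosed (WX : Set ↥X) ∧ IsFinite (WX.ι ≫ f) ∧ ∀ x : ↥X, f.base x = IsLocalRing.closedPoint R → x ∈ WX))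
    (WY : Y.Opens) (hWY : (IsClosed (WY : Set ↥Y) ∧ IsFinite (WY.ι ≫ f') ∧ ∀ x : ↥Y, f'.base x = IsLocalRing.closedPoint R → x ∈ WY))
    (g : X ⟶ Y) (hg : g ≫ f' = f) (x : X) (hx : x ∈ WX) :
    g.base x ∈ WY := by
  haveI := hWX.2.1
  obtain ⟨x0, hspec, hx0⟩ : ∃ x0 : ↥(WX.toScheme), (⟨x, hx⟩ : ↥(WX.toScheme)) ⤳ x0 ∧
      (WX.ι ≫ f).base x0 = IsLocalRing.closedPoint R :=
    (WX.ι ≫ f).isClosedMap.specializingMap (IsLocalRing.specializes_closedPoint _)
  have h1 : g.base x ⤳ g.base (WX.ι.base x0) :=
    (hspec.map WX.ι.continuous).map g.continuous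
  refine h1.mem_open WY.isOpen (hWY.2.2 _ ?_)
  rw [← Scheme.Hom.comp_apply, hg]
  exact (Scheme.Hom.comp_apply WX.ι f x0) ▸ hx0

end Groth.Agent.S17461
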