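import Groth.Statements.S17463
import Groth.Agent.H23.Unipotent

set_option autoImplicit false
universe u v w
open SSRed

namespace Groth.Agent.S17463

/-- Let K be a field of characteristic zero, V a K-vector space, G a group with a K-linear action ρ : G
→ GL(V) such that every ρ(g) is unipotent (ρ(g) - 1 is nilpotent), and H a subgroup of G of finite
index. Then the H-invariants equal the G-invariants: a vector fixed by every element of H is fixed
by every element of G. (In the source G and H are the absolute Galois groups of K and of a finite
extension K', acting unipotently on the rational ℓ-adic Tate module of an abelian variety.) -/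
theorem result (K : Type u) (V : Type v) (G : Type w) [Field K] [CharZero K]
    [AddCommGroup V] [Module K V] [Group G] (ρ : G →* (V ≃ₗ[K] V))
    (hunip : ∀ g : G, IsNilpotent (((ρ g : V ≃ₗ[K] V) : Module.End K V) - 1))
    (H : Subgroup G) [H.FiniteIndex] (v : V) (hv : ∀ h ∈ H, ρ h v = v) (g : G) :
    ρ g v = v := by
  exact Groth.Agent.H23.Unipotent.fixed_of_fixed_finiteIndex ρ hunip H v hv g

end Groth.Agent.S17463
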