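import Groth.Statements.S17464
import Groth.Agent.TorusQI.Geom
import Groth.Agent.TorusQI.QuotientTorus
import Groth.Agent.S13371
import Groth.Agent.S5237
import Groth.Agent.GrpSchLib.RankOneNonComm
import Groth.Agent.AGFLib.QuasiComp.Albanese
-- import your own Groth.Agent.* helpers here

set_option autoImplicit false
set_option backward.isDefEq.respectTransparency false
set_option backward.isDefEq.respectTransparency.types false
set_option linter.style.haveILetI false
universe u
open CategoryTheory MonoidalCategory CartesianMonoidalCategory MonObj GrpObj AlgebraicGeometry CategoryTheory.Limits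
open AlgGrp

namespace Groth.Agent.S17464

set_option maxHeartbeats 1000000 in
set_option synthInstance.maxHeartbeats 400000 in
/-- Let k be an algebraically closed field, T a k-torus and U a smooth connected affine k-group scheme
of finite type with a composition series whose successive quotients are additive groups: closed
subgroup schemes U_0 → U_1 → … → U_n = U (homomorphisms which are closed immersions, U_i ↦ U_{i+1}),
with U_0 the trivial group, U_n identified with U by an isomorphism of group schemes, and each U_i
the kernel of a flat surjective homomorphism from U_{i+1} onto the additive group. Then every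
homomorphism from U to T is the trivial one. (The published statement is over an arbitrary field for
a torus and a smooth connected unipotent group, unipotent meaning that such a composition series
exists over an algebraic closure; this row states the case of an algebraically closed base field.
The companion assertion, that homomorphisms from T to U are trivial, is an existing statement about
groups of multiplicative type.) -/
theorem result (k : Type u) [Field k] [IsAlgClosed k]
    (T U : Over (Spec (CommRingCat.of k))) [GrpObj T] [GrpObj U] (hT : Red.IsTorus T)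
    [Smooth U.hom] [QuasiCompact U.hom] [ConnectedSpace ↥U.left] [IsAffine U.left]
    (n : ℕ) (Us : Fin (n + 1) → Over (Spec (CommRingCat.of k))) [∀ i, GrpObj (Us i)]
    (h0 : Red.IsTrivialGrp (Us 0))
    (e : Us (Fin.last n) ≅ U) [IsMonHom e.hom]
    (incl : ∀ i : Fin n, Us i.castSucc ⟶ Us i.succ) [∀ i, IsMonHom (incl i)]
    [∀ i, IsClosedImmersion (incl i).left]
    (quot : ∀ i : Fin n, Us i.succ ⟶ Red.Ga (Spec (CommRingCat.of k))) [∀ i, IsMonHom (quot i)]
    [∀ i, Surjective (quot i).left] [∀ i, Flat (quot i).left]
    (hker : ∀ i : Fin n, AlgGrp.IsKernel (incl i) (quot i))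
    (f : U ⟶ T) [IsMonHom f] :
    f = 1 := by
  haveI : IsReduced (Spec (CommRingCat.of k)) := inferInstance
  obtain ⟨r, ⟨eT⟩⟩ := Groth.Agent.TorusQI.exists_split_geom hT (𝟙 (Spec (CommRingCat.of k)))
  obtain ⟨e₀⟩ := Groth.Agent.TorusQI.nonempty_bc_id T
  let eT' := e₀.symm ≪≫ eT
  let τ : T ⟶ Red.DS (Spec (CommRingCat.of k)) (Fin r → ℤ) := eT'.hom.hom.hom
  haveI : IsMonHom τ := eT'.hom.hom.isMonHom_hom
  haveI : Mono τ := by
    haveI : IsIso τ := ⟨eT'.inv.hom.hom, congrArg (fun t => t.hom.hom) eT'.hom_inv_id,
      congrArg (fun t => t.hom.hom) eT'.inv_hom_id⟩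
    infer_instance
  have hGa : ∀ (g : Red.Ga (Spec (CommRingCat.of k)) ⟶ T) [IsMonHom g], g = 1 := fun g _ => by
    rw [← cancel_mono τ, MonObj.one_comp]
    refine Groth.Agent.HomRepLib.ev_ext fun m => ?_
    haveI := Groth.Agent.HomRepLib.isMonHom_chi (S := Spec (CommRingCat.of k)) m
    rw [← Groth.Agent.HomRepLib.gmFn_chi, Groth.Agent.S13371.result _ ((g ≫ τ) ≫ Red.chi _ m),
      Groth.Agent.HomRepLib.ev_one, ← Groth.Agent.HomRepLib.chi_one m, Groth.Agent.HomRepLib.gmFn_chi,
      Groth.Agent.HomRepLib.ev_one]
  -- the members of the series are of finite type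
  have hlft : ∀ j, LocallyOfFiniteType (Us j).hom := fun j => by
    induction j using Fin.reverseInduction with
    | last =>
      haveI : IsIso e.hom.left := ((Over.forget _).mapIso e).isIso_hom
      rw [← Over.w e.hom]; infer_instance
    | cast j ih => rw [← Over.w (incl j)]; infer_instance
  have main : ∀ (j) (g : Us j ⟶ T) [IsMonHom g], g = 1 := fun j => by
    induction j using Fin.induction with
    | zero =>
      intro g _
      haveI : IsIso (Us 0).hom := h0
      have hid : 𝟙 (Us 0) = 1 := Over.OverMorphism.ext (by rw [← cancel_mono (Us 0).hom, Over.w, Over.w])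
      rw [← Category.id_comp g, hid, MonObj.one_comp]
    | succ j ih =>
      intro g _
      haveI := hlft j.succ
      haveI : Mono (incl j) := (Over.forget _).mono_of_mono_map (inferInstanceAs (Mono (incl j).left))
      haveI : LocallyOfFinitePresentation (Us j.succ).hom := inferInstance
      haveI : LocallyOfFiniteType (Red.Ga (Spec (CommRingCat.of k))).hom := by
        haveI := Groth.Agent.GrpSchLib.RankOne.smooth_ga (Spec (CommRingCat.of k)); infer_instance
      haveI : LocallyOfFinitePresentation (quot j).left := by
        haveI : LocallyOfFinitePresentation ((quot j).left ≫ (Red.Ga (Spec (CommRingCat.of k))).hom) := by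
          rw [Over.w (quot j)]; infer_instance
        exact AlgSpPts.locallyOfFinitePresentation_of_comp (quot j).left (Red.Ga (Spec (CommRingCat.of k))).hom
      haveI hqm : IsMonHom (quot j) := ‹∀ i, IsMonHom (quot i)› j
      have hn : AlgGrp.IsNormalHom (incl j) := fun X u v => ⟨(hker j).lift (u * (v ≫ incl j) * u⁻¹) (toUnit X) (by
        have h1 : (v ≫ incl j) ≫ quot j = 1 := by
          rw [Category.assoc, (hker j).w, ← Category.assoc, comp_toUnit]; rfl
        let ψ : (X ⟶ Us j.succ) →* (X ⟶ Red.Ga (Spec (CommRingCat.of k))) :=
          MonoidHom.mk' (· ≫ quot j) fun a b => @MonObj.mul_comp _ _ _ _ _ _ _ _ a b (quot j) hqm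
        show ψ (u * (v ≫ incl j) * u⁻¹) = 1
        rw [map_mul, map_mul, show ψ (v ≫ incl j) = 1 from h1, _root_.mul_one, ← map_mul, mul_inv_cancel, map_one]
        ), ((hker j).lift_fst _ _ _).symm⟩
      obtain ⟨g', ⟨hg', hg'm⟩, -⟩ := Groth.Agent.S5237.result (incl j) hn (quot j)
        (Groth.Agent.AGFLib.QuasiComp.isQuotient_of_kernel (incl j) (quot j) (hker j)) g (ih (incl j ≫ g))
      haveI := hg'm
      rw [← hg', hGa g', MonObj.comp_one]
  have h := main (Fin.last n) (e.hom ≫ f)
  rw [← cancel_epi e.hom, h, MonObj.comp_one]

end Groth.Agent.S17464
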