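import Groth.Statements.S17466
import Mathlib
-- import your own Groth.Agent.* helpers here

set_option autoImplicit false
universe u v
open BigOperators
open NRGIT

namespace Groth.Agent.S17466

/-- Let A be a commutative algebra graded by the natural numbers, let σ_1, …, σ_n be homogeneous
elements of degree 1 and let s ≥ 1 be an integer such that, for every i, the degree-zero homogeneous
localisation of A away from σ_i is generated over A_0 by the fractions f / σ_i ^ s with f
homogeneous of degree s. Then for every exponent vector K = (k_1, …, k_n) with k_1 + ⋯ + k_n = s,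
the degree-zero homogeneous localisation of A away from the monomial σ^K = ∏ σ_i ^ (k_i) is
generated over A_0 by the fractions f / σ^K with f homogeneous of degree s. (Equivalently: the
natural map from the degree-zero localisation of the symmetric algebra on A_s, taken away from σ^K
viewed as an element of degree one, to the degree-zero localisation of A away from σ^K is
surjective. The published lemma concerns the algebra of invariant sections of the powers of a
linearised line bundle on an irreducible projective scheme over a field, with the σ_i a basis of a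
weight space of sections, and concludes a closed immersion of a quotient into an open piece of a
projective space; this row keeps only the graded-algebra step, for any commutative graded algebra,
with the base field replaced by A_0, which generates nothing new since a / 1 = a σ^s / σ^s for a of
degree zero.) -/
theorem result
    {R : Type u} {A : Type v} [CommRing R] [CommRing A] [Algebra R A]
    (𝒜 : ℕ → Submodule R A) [GradedAlgebra 𝒜]
    {n : ℕ} (σ : Fin n → A) (hσ : ∀ i, σ i ∈ 𝒜 1) {s : ℕ} (hs : 0 < s)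
    (hgen : ∀ i, Algebra.adjoin (𝒜 0)
      {z : HomogeneousLocalization.Away 𝒜 (σ i) |
        ∃ f ∈ 𝒜 s, z.val = Localization.mk f ⟨σ i ^ s, Submonoid.pow_mem _ (Submonoid.mem_powers (σ i)) s⟩} = ⊤)
    (K : Fin n → ℕ) (hK : ∑ i, K i = s) :
    Algebra.adjoin (𝒜 0)
      {z : HomogeneousLocalization.Away 𝒜 (∏ i, σ i ^ K i) |
        ∃ f ∈ 𝒜 s, z.val = Localization.mk f ⟨∏ i, σ i ^ K i, Submonoid.mem_powers _⟩} = ⊤ := by
  classical
  set P := ∏ i, σ i ^ K i with hPdef
  let M : ℕ → Submodule R A := fun m => 𝒜 0 * 𝒜 s ^ m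
  have h00 : 𝒜 0 * 𝒜 0 ≤ 𝒜 0 := Submodule.mul_le.2 fun x hx y hy => by
    simpa using SetLike.mul_mem_graded hx hy
  have hMmul : ∀ m l x y, x ∈ M m → y ∈ M l → x * y ∈ M (m + l) := by
    intro m l x y hx hy
    have h := Submodule.mul_mem_mul hx hy
    have heq : M m * M l = (𝒜 0 * 𝒜 0) * 𝒜 s ^ (m + l) := by
      simp only [M, pow_add]; ac_rfl
    rw [heq] at h
    exact (mul_le_mul_left h00 _ : _ ≤ 𝒜 0 * _) h
  have hM0 : ∀ x ∈ 𝒜 0, x ∈ M 0 := fun x hx => by
    simpa [M] using Submodule.mul_mem_mul hx (show (1 : A) ∈ 𝒜 s ^ 0 by rw [pow_zero]; exact Submodule.one_le.1 le_rfl)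
  have hM1 : ∀ x ∈ 𝒜 s, x ∈ M 1 := fun x hx => by
    simpa [M] using Submodule.mul_mem_mul (SetLike.one_mem_graded 𝒜) (show x ∈ 𝒜 s ^ 1 by simpa using hx)
  have hMpow : ∀ (x : A) (a : ℕ), x ∈ M 1 → x ^ a ∈ M a := by
    intro x a hx
    induction a with
    | zero => simpa using hM0 1 (SetLike.one_mem_graded 𝒜)
    | succ a ih => rw [pow_succ]; exact hMmul _ _ _ _ ih hx
  have hσs : ∀ i, σ i ^ s ∈ M 1 := fun i => hM1 _ (by simpa using SetLike.pow_mem_graded s (hσ i))
  -- membership in the adjoin for `σ i`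
  have key : ∀ i (z : HomogeneousLocalization.Away 𝒜 (σ i)), ∃ m, ∃ f ∈ M m,
      z.val = Localization.mk f ⟨σ i ^ (s * m), Submonoid.pow_mem _ (Submonoid.mem_powers _) _⟩ := by
    intro i z
    have hz : z ∈ Algebra.adjoin (𝒜 0) _ := (hgen i).symm ▸ Algebra.mem_top (R := 𝒜 0)
    induction hz using Algebra.adjoin_induction with
    | mem x hx =>
      obtain ⟨f, hf, hfx⟩ := hx
      refine ⟨1, f, hM1 f hf, hfx.trans ?_⟩
      congr 1; exact Subtype.ext (by simp)
    | algebraMap r =>
      refine ⟨0, r, hM0 _ r.2, ?_⟩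
      rw [HomogeneousLocalization.algebraMap_eq]
      exact (HomogeneousLocalization.val_mk _).trans (congrArg (Localization.mk _) (Subtype.ext (by simp)))
    | add x y _ _ hx hy =>
      obtain ⟨m, f, hf, hfx⟩ := hx
      obtain ⟨l, g, hg, hgy⟩ := hy
      refine ⟨m + l, (σ i ^ s) ^ l * f + (σ i ^ s) ^ m * g, add_mem ?_ ?_, ?_⟩
      · rw [add_comm]; exact hMmul _ _ _ _ (hMpow _ _ (hσs i)) hf
      · exact hMmul _ _ _ _ (hMpow _ _ (hσs i)) hg
      · rw [HomogeneousLocalization.val_add, hfx, hgy, Localization.add_mk]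
        exact congrArg₂ Localization.mk (by simp only [pow_mul]; ring) (Subtype.ext (by simp [← pow_add, mul_add]))
    | mul x y _ _ hx hy =>
      obtain ⟨m, f, hf, hfx⟩ := hx
      obtain ⟨l, g, hg, hgy⟩ := hy
      refine ⟨m + l, f * g, hMmul _ _ _ _ hf hg, ?_⟩
      rw [HomogeneousLocalization.val_mul, hfx, hgy, Localization.mk_mul]
      exact congrArg₂ Localization.mk rfl (Subtype.ext (by simp [← pow_add, mul_add]))
  have hPs : P ∈ 𝒜 s := by
    have h := SetLike.prod_mem_graded 𝒜 (fun i => K i • 1) (fun i => σ i ^ K i) (F := Finset.univ) (fun i _ => SetLike.pow_mem_graded (K i) (hσ i))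
    simpa [hK] using h
  set S := Algebra.adjoin (𝒜 0) {z : HomogeneousLocalization.Away 𝒜 P |
        ∃ f ∈ 𝒜 s, z.val = Localization.mk f ⟨P, Submonoid.mem_powers _⟩} with hSdef
  have back : ∀ m, ∀ f ∈ M m, ∃ z ∈ S,
      z.val = Localization.mk f ⟨P ^ m, Submonoid.pow_mem _ (Submonoid.mem_powers _) _⟩ := by
    have hpow : ∀ m, ∀ f ∈ 𝒜 s ^ m, ∃ z ∈ S,
        z.val = Localization.mk f ⟨P ^ m, Submonoid.pow_mem _ (Submonoid.mem_powers _) _⟩ := by
      intro m f hf
      induction hf using Submodule.pow_induction_on_left' with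
      | algebraMap r =>
        refine ⟨algebraMap (𝒜 0) _ ⟨algebraMap R A r, SetLike.algebraMap_mem_graded 𝒜 r⟩,
          Subalgebra.algebraMap_mem _ _, ?_⟩
        rw [HomogeneousLocalization.algebraMap_eq]
        exact (HomogeneousLocalization.val_mk _).trans (congrArg (Localization.mk _) (Subtype.ext (by simp)))
      | add x y i _ _ hx hy =>
        obtain ⟨z, hz, hzx⟩ := hx
        obtain ⟨w, hw, hwy⟩ := hy
        refine ⟨z + w, add_mem hz hw, ?_⟩
        rw [HomogeneousLocalization.val_add, hzx, hwy, Localization.add_mk_self]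
      | mem_mul x hx i y _ hy =>
        obtain ⟨z, hz, hzy⟩ := hy
        have hx' : x ∈ 𝒜 (1 • s) := by simpa using hx
        refine ⟨HomogeneousLocalization.Away.mk 𝒜 hPs 1 x hx' * z,
          mul_mem (Algebra.subset_adjoin ⟨x, hx, ?_⟩) hz, ?_⟩
        · rw [HomogeneousLocalization.Away.val_mk]
          congr 1; exact Subtype.ext (by simp)
        · rw [HomogeneousLocalization.val_mul, HomogeneousLocalization.Away.val_mk, hzy, Localization.mk_mul]
          exact congrArg₂ Localization.mk rfl (Subtype.ext (by simp [pow_succ']))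
    intro m f hf
    induction hf using Submodule.mul_induction_on' with
    | mem_mul_mem a ha b hb =>
      obtain ⟨z, hz, hzb⟩ := hpow m b hb
      refine ⟨algebraMap (𝒜 0) _ ⟨a, ha⟩ * z, mul_mem (Subalgebra.algebraMap_mem _ _) hz, ?_⟩
      rw [HomogeneousLocalization.val_mul, hzb, HomogeneousLocalization.algebraMap_eq,
        show (HomogeneousLocalization.fromZeroRingHom 𝒜 (Submonoid.powers P) ⟨a, ha⟩).val = Localization.mk a 1
          from (HomogeneousLocalization.val_mk _).trans (congrArg (Localization.mk _) (Subtype.ext rfl)),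
        Localization.mk_mul]
      exact congrArg (Localization.mk _) (one_mul _)
    | add x _ y _ hx hy =>
      obtain ⟨z, hz, hzx⟩ := hx
      obtain ⟨w, hw, hwy⟩ := hy
      refine ⟨z + w, add_mem hz hw, ?_⟩
      rw [HomogeneousLocalization.val_add, hzx, hwy, Localization.add_mk_self]
  rw [eq_top_iff]
  intro z _
  obtain ⟨m, f, hf, rfl⟩ := HomogeneousLocalization.Away.mk_surjective 𝒜 hPs z
  obtain ⟨i, -, hi⟩ : ∃ i ∈ Finset.univ, 0 < K i := by
    by_contra h
    push Not at h
    have : ∑ i, K i = 0 := Finset.sum_eq_zero fun i hi => Nat.le_zero.1 (h i hi)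
    omega
  obtain ⟨l, g, hg, hgz⟩ := key i (HomogeneousLocalization.Away.mk 𝒜 (hσ i) (m * s) f (by simpa [mul_comm] using hf))
  rw [HomogeneousLocalization.Away.val_mk, Localization.mk_eq_mk_iff, Localization.r_iff_exists] at hgz
  obtain ⟨⟨_, e, rfl⟩, he⟩ := hgz
  simp only at he
  have h1 : (σ i ^ s) ^ (e + l) * f ∈ M (e + m + l) := by
    have : (σ i ^ s) ^ (e + l) * f = (σ i ^ s) ^ (e + m) * g := by
      have hse : σ i ^ (s * e) = σ i ^ ((s - 1) * e) * σ i ^ e := by
        rw [← pow_add]; congr 1; rw [← Nat.succ_mul]; congr 1; omega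
      simp only [pow_add, ← pow_mul, hse]
      linear_combination (σ i ^ ((s - 1) * e)) * he
    rw [this]
    exact hMmul _ _ _ _ (hMpow _ _ (hσs i)) hg
  set N₀ := e + l
  let K' : Fin n → ℕ := Function.update K i (K i - 1)
  have hK' : ∑ j, K' j + 1 = s := by
    have := Finset.sum_update_of_mem (Finset.mem_univ i) K (K i - 1)
    have h2 := Finset.sum_eq_add_sum_sdiff_singleton_of_mem (Finset.mem_univ i) K
    simp only [K'] at *
    omega
  have h2 : ∀ (F : Finset (Fin n)), ∏ j ∈ F, ((σ j ^ s) ^ N₀) ^ K' j ∈ M (N₀ * ∑ j ∈ F, K' j) := by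
    intro F
    induction F using Finset.induction with
    | empty => simpa using hM0 1 (SetLike.one_mem_graded 𝒜)
    | insert a F ha ih =>
      rw [Finset.prod_insert ha, Finset.sum_insert ha, mul_add]
      refine hMmul _ _ _ _ ?_ ih
      rw [← pow_mul]
      exact hMpow _ _ (hσs a)
  have h3 : P ^ (s * N₀) = (σ i ^ s) ^ N₀ * ∏ j, ((σ j ^ s) ^ N₀) ^ K' j := by
    have h4 : ∀ j, σ j ^ K j = (if j = i then σ j else 1) * σ j ^ K' j := by
      intro j
      by_cases hj : j = i
      · subst hj; simp [K', ← pow_succ', Nat.sub_add_cancel hi]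
      · simp [K', hj]
    rw [hPdef, Finset.prod_congr rfl (fun j _ => h4 j), Finset.prod_mul_distrib, mul_pow]
    congr 1
    · simp [Finset.prod_ite_eq', pow_mul]
    · rw [← Finset.prod_pow]
      exact Finset.prod_congr rfl fun j _ => by rw [← pow_mul, ← pow_mul, ← pow_mul]; congr 1; ring
  have h5 : P ^ (s * N₀) * f ∈ M (s * N₀ + m) := by
    have := hMmul _ _ _ _ (h2 Finset.univ) h1
    rw [h3]
    have e1 : N₀ * ∑ j, K' j + (e + m + l) = s * N₀ + m := by
      have : N₀ * (∑ j, K' j + 1) = N₀ * s := by rw [hK']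
      rw [mul_comm s]; rw [mul_add] at this; omega
    rw [← e1]
    convert this using 1
    ring
  obtain ⟨w, hw, hwv⟩ := back _ _ h5
  have : w = HomogeneousLocalization.Away.mk 𝒜 hPs m f hf := by
    refine HomogeneousLocalization.val_injective _ ?_
    rw [hwv, HomogeneousLocalization.Away.val_mk, Localization.mk_eq_mk_iff, Localization.r_iff_exists]
    exact ⟨1, by simp [pow_add]; ring⟩
  exact this ▸ hw

end Groth.Agent.S17466
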