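import Groth.Statements.S17467
import Groth.Agent.H23.PrincipalGlobal
import Groth.Agent.GrpSchLib.FieldReduced
import Mathlib.AlgebraicGeometry.AlgClosed.Basic

set_option autoImplicit false
universe u
open CategoryTheory AlgebraicGeometry
open Variety

namespace Groth.Agent.S17467

set_option backward.isDefEq.respectTransparency false
set_option backward.isDefEq.respectTransparency.types false
set_option maxHeartbeats 1000000

open CategoryTheory.Limits

open scoped TensorProduct in
/-- Elements of a field equalised by the two coprojections come from the base field. -/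
theorem mem_range_of_tmul_eq {K L : Type u} [Field K] [Field L] [Algebra K L] {s : L}
    (h : s ⊗ₜ[K] (1 : L) = (1 : L) ⊗ₜ[K] s) : ∃ r : K, algebraMap K L r = s := by
  by_cases hs : s ∈ Submodule.span K ({1} : Set L)
  · obtain ⟨r, hr⟩ := Submodule.mem_span_singleton.1 hs
    exact ⟨r, by rw [Algebra.algebraMap_eq_smul_one]; exact hr⟩
  exfalso
  obtain ⟨φ, hφs, hφ⟩ := Submodule.exists_dual_map_eq_bot_of_notMem hs inferInstance
  have h1 : φ 1 = 0 := by
    have : φ 1 ∈ (Submodule.span K ({1} : Set L)).map φ :=
      Submodule.mem_map_of_mem (Submodule.mem_span_singleton_self 1)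
    rwa [hφ, Submodule.mem_bot] at this
  have h2 := congrArg (TensorProduct.rid K L ∘ₗ φ.lTensor L : L ⊗[K] L →ₗ[K] L) h
  simp [h1] at h2
  exact hφs ((smul_eq_zero.1 h2.symm).resolve_right one_ne_zero)

open scoped TensorProduct in
/-- A function with equal values on rationally identified points is, generically, pulled back from the base. -/
theorem exists_functionField {k : Type u} [Field k] [IsAlgClosed k] [CharZero k] {X Y : Scheme.{u}}
    [AlgebraicGeometry.IsIntegral X] [AlgebraicGeometry.IsIntegral Y]
    (qX : X ⟶ Spec (CommRingCat.of k)) (qY : Y ⟶ Spec (CommRingCat.of k))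
    [LocallyOfFiniteType qX] [QuasiCompact qX] [LocallyOfFiniteType qY] [IsSeparated qY]
    (f : X ⟶ Y) (hf : f ≫ qY = qX) (φ : Y.functionField →+* X.functionField)
    (hφ : X.fromSpecStalk (genericPoint X) ≫ f = Spec.map (CommRingCat.ofHom φ) ≫ Y.fromSpecStalk (genericPoint Y))
    (s : Γ(X, ⊤))
    (hs : ∀ x₁ x₂ : Spec (CommRingCat.of k) ⟶ X,
      x₁ ≫ qX = 𝟙 _ → x₂ ≫ qX = 𝟙 _ → x₁ ≫ f = x₂ ≫ f → x₁.appTop.hom s = x₂.appTop.hom s) :
    ∃ r : Y.functionField, φ r = X.presheaf.germ ⊤ (genericPoint X) trivial s := by
  haveI : LocallyOfFiniteType f := by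
    haveI : LocallyOfFiniteType (f ≫ qY) := hf ▸ inferInstance
    exact locallyOfFiniteType_of_comp f qY
  haveI : QuasiCompact f := by
    haveI : QuasiCompact (f ≫ qY) := hf ▸ inferInstance
    exact QuasiCompact.of_comp f qY
  let Z := pullback f f
  haveI : CompactSpace X := QuasiCompact.compactSpace_of_compactSpace qX
  haveI : CompactSpace Z := QuasiCompact.compactSpace_of_compactSpace (pullback.fst f f)
  let d : Γ(Z, ⊤) := (pullback.fst f f).appTop.hom s - (pullback.snd f f).appTop.hom s
  have hd : IsNilpotent d := by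
    rw [Scheme.isNilpotent_iff_basicOpen_eq_bot]
    by_contra hne
    haveI : JacobsonSpace Z := LocallyOfFiniteType.jacobsonSpace (pullback.fst f f ≫ qX)
    have hneS : ((Z.basicOpen d : Z.Opens) : Set Z).Nonempty := by
      rw [Set.nonempty_iff_ne_empty]
      exact fun h => hne (TopologicalSpace.Opens.ext h)
    obtain ⟨z, hz, hzc⟩ := nonempty_inter_closedPoints hneS (Z.basicOpen d).isOpen.isLocallyClosed
    let σ := pointOfClosedPoint (pullback.fst f f ≫ qX) z (mem_closedPoints_iff.1 hzc)
    have hσ : σ ≫ pullback.fst f f ≫ qX = 𝟙 _ := pointOfClosedPoint_comp _ z _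
    have h1 : (σ ≫ pullback.fst f f).appTop.hom s = (σ ≫ pullback.snd f f).appTop.hom s := by
      refine hs _ _ (by rw [Category.assoc]; exact hσ) ?_ (by rw [Category.assoc, Category.assoc, pullback.condition])
      rw [Category.assoc, ← hf, ← pullback.condition_assoc, hf]
      exact hσ
    have h2 : σ.appTop.hom d = 0 := by
      rw [map_sub, sub_eq_zero]
      simp only [Scheme.Hom.comp_appTop, CommRingCat.hom_comp, RingHom.comp_apply] at h1
      exact h1
    have h3 : IsLocalRing.closedPoint k ∈ σ ⁻¹ᵁ Z.basicOpen d := by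
      show σ (IsLocalRing.closedPoint k) ∈ Z.basicOpen d
      rw [pointOfClosedPoint_apply]
      exact hz
    rw [Scheme.preimage_basicOpen_top, h2, Scheme.basicOpen_zero] at h3
    exact h3
  letI : Algebra Y.functionField X.functionField := φ.toAlgebra
  let L := X.functionField
  let i₁ : L →+* L ⊗[Y.functionField] L := Algebra.TensorProduct.includeLeftRingHom
  let i₂ : L →+* L ⊗[Y.functionField] L :=
    (Algebra.TensorProduct.includeRight : L →ₐ[Y.functionField] L ⊗[Y.functionField] L).toRingHom
  let a := X.fromSpecStalk (genericPoint X)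
  let w : Spec (CommRingCat.of (L ⊗[Y.functionField] L)) ⟶ Z :=
    pullback.lift (Spec.map (CommRingCat.ofHom i₁) ≫ a) (Spec.map (CommRingCat.ofHom i₂) ≫ a) (by
      rw [Category.assoc, Category.assoc, hφ, ← Spec.map_comp_assoc, ← Spec.map_comp_assoc]
      congr 2
      refine CommRingCat.hom_ext (RingHom.ext fun r => ?_)
      exact (Algebra.TensorProduct.includeLeft (R := Y.functionField) (S := Y.functionField) (A := L) (B := L)).commutes r |>.trans
        ((Algebra.TensorProduct.includeRight : L →ₐ[Y.functionField] L ⊗[Y.functionField] L).commutes r).symm)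
  have hev : ∀ i : L →+* L ⊗[Y.functionField] L,
      (Spec.map (CommRingCat.ofHom i) ≫ a).appTop.hom s =
        (Scheme.ΓSpecIso (CommRingCat.of (L ⊗[Y.functionField] L))).inv.hom
          (i (X.presheaf.germ ⊤ (genericPoint X) trivial s)) := by
    intro i
    rw [Scheme.Hom.comp_appTop, Scheme.fromSpecStalk_appTop]
    simp only [homOfLE_refl, op_id, CategoryTheory.Functor.map_id, Category.comp_id, Category.assoc]
    rw [← Scheme.ΓSpecIso_inv_naturality]
    rfl
  have hd' : IsNilpotent (i₁ (X.presheaf.germ ⊤ (genericPoint X) trivial s) -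
      i₂ (X.presheaf.germ ⊤ (genericPoint X) trivial s)) := by
    have h1 := (hd.map w.appTop.hom).map (Scheme.ΓSpecIso (CommRingCat.of (L ⊗[Y.functionField] L))).hom.hom
    rw [map_sub, ← RingHom.comp_apply w.appTop.hom, ← RingHom.comp_apply w.appTop.hom,
      ← CommRingCat.hom_comp, ← CommRingCat.hom_comp, ← Scheme.Hom.comp_appTop, ← Scheme.Hom.comp_appTop,
      pullback.lift_fst, pullback.lift_snd, hev, hev, map_sub, Iso.inv_hom_id_apply, Iso.inv_hom_id_apply] at h1
    exact h1
  haveI : CharZero Y.functionField := charZero_of_injective_ringHom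
    (f := (Y.presheaf.germ ⊤ (genericPoint Y) trivial).hom.comp (qY.appTop.hom.comp (Scheme.ΓSpecIso (CommRingCat.of k)).inv.hom))
    (RingHom.injective _)
  haveI : PerfectField Y.functionField := PerfectField.ofCharZero
  haveI : _root_.IsReduced (L ⊗[Y.functionField] L) := GrpSchLib.isReduced_tensor_of_perfectField
  exact mem_range_of_tmul_eq (sub_eq_zero.1 hd'.eq_zero)

/-- Let k be an algebraically closed field of characteristic zero, X and Y integral separated schemes of
finite type over k with Y normal, and f : X → Y a k-morphism surjective on points. A global function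
s on X which takes equal values at any two k-rational points of X having the same image under f is
the pull-back of a global function on Y. (The published statement is phrased for set-theoretic
sections of a vector bundle on Y whose pull-back along f is a regular section; that form reduces to
the present one locally on Y, and the present one is the case of the trivial line bundle.) -/
theorem result
    (k : Type u) [Field k] [IsAlgClosed k] [CharZero k]
    (X Y : Over (Spec (CommRingCat.of k)))
    [AlgebraicGeometry.IsIntegral X.left] [AlgebraicGeometry.IsIntegral Y.left]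
    [LocallyOfFiniteType X.hom] [QuasiCompact X.hom] [IsSeparated X.hom]
    [LocallyOfFiniteType Y.hom] [QuasiCompact Y.hom] [IsSeparated Y.hom]
    (hY : Pi1.IsNormalScheme Y.left)
    (f : X ⟶ Y) (hf : Function.Surjective f.left.base)
    (s : Γ(X.left, ⊤))
    (hs : ∀ x₁ x₂ : Spec (CommRingCat.of k) ⟶ X.left,
      x₁ ≫ X.hom = 𝟙 _ → x₂ ≫ X.hom = 𝟙 _ → x₁ ≫ f.left = x₂ ≫ f.left →
        x₁.appTop.hom s = x₂.appTop.hom s) :
    ∃ r : Γ(Y.left, ⊤), f.left.appTop.hom r = s := by
  let η := genericPoint X.left
  have hη : f.left η = genericPoint Y.left := by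
    refine IsGenericPoint.eq ?_ (genericPoint_spec Y.left)
    have := (genericPoint_spec X.left).image f.left.continuous
    rwa [Set.image_univ, hf.range_eq, closure_univ] at this
  haveI : IsLocallyNoetherian Y.left := LocallyOfFiniteType.isLocallyNoetherian Y.hom
  let φ : Y.left.functionField →+* X.left.functionField :=
    (Y.left.presheaf.stalkSpecializes (specializes_of_eq hη) ≫ f.left.stalkMap η).hom
  have hφ : X.left.fromSpecStalk η ≫ f.left = Spec.map (CommRingCat.ofHom φ) ≫ Y.left.fromSpecStalk (genericPoint Y.left) := by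
    show _ = Spec.map (Y.left.presheaf.stalkSpecializes (specializes_of_eq hη) ≫ f.left.stalkMap η) ≫ _
    rw [Spec.map_comp, Category.assoc, Scheme.SpecMap_stalkSpecializes_fromSpecStalk,
      Scheme.SpecMap_stalkMap_fromSpecStalk]
  obtain ⟨r, hr⟩ := exists_functionField X.hom Y.hom f.left (Over.w f) φ hφ s hs
  have hloc : ∀ (x : X.left) (a : Y.left.presheaf.stalk (f.left x)),
      φ (algebraMap (Y.left.presheaf.stalk (f.left x)) Y.left.functionField a) =
        algebraMap (X.left.presheaf.stalk x) X.left.functionField ((f.left.stalkMap x).hom a) := by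
    intro x a
    show (Y.left.presheaf.stalkSpecializes (specializes_of_eq hη) ≫ f.left.stalkMap η).hom
      ((Y.left.presheaf.stalkSpecializes (genericPoint_specializes (f.left x))).hom a) =
      (f.left.stalkMap x ≫ X.left.presheaf.stalkSpecializes (genericPoint_specializes x)).hom a
    rw [← Scheme.Hom.stalkSpecializes_stalkMap f.left η x (genericPoint_specializes x)]
    rw [← RingHom.comp_apply, ← CommRingCat.hom_comp, TopCat.Presheaf.stalkSpecializes_comp_assoc]
  obtain ⟨g, hg⟩ : ∃ g : Γ(Y.left, ⊤), Y.left.presheaf.germ ⊤ (genericPoint Y.left) trivial g = r := by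
    rcases eq_or_ne r 0 with rfl | hr0
    · exact ⟨0, map_zero _⟩
    refine H23.PrincipalGlobal.exists_global_of_ord_nonneg hY hr0 fun z hz => CDiv6.reg_ord_nonneg hr0 ?_
    haveI := CDiv6.isDVR_of_coheight_one hY hz
    obtain ⟨x, rfl⟩ := hf z
    rcases ValuationRing.isInteger_or_isInteger (Y.left.presheaf.stalk (f.left x)) r with ⟨a, ha⟩ | ⟨a, ha⟩
    · exact ⟨a, ha⟩
    by_cases hau : IsUnit a
    · obtain ⟨u, rfl⟩ := hau
      refine ⟨↑u⁻¹, ?_⟩
      rw [map_units_inv, ha, inv_inv]
    exfalso
    have h1 : (f.left.stalkMap x).hom a * X.left.presheaf.germ ⊤ x trivial s = 1 := by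
      refine IsFractionRing.injective (X.left.presheaf.stalk x) X.left.functionField ?_
      rw [map_mul, ← hloc, ha, map_inv₀, hr, map_one,
        show algebraMap (X.left.presheaf.stalk x) X.left.functionField (X.left.presheaf.germ ⊤ x trivial s) =
          X.left.presheaf.germ ⊤ η trivial s from (TopCat.Presheaf.germ_stalkSpecializes_apply X.left.presheaf
            (U := ⊤) trivial (genericPoint_specializes x) s :)]
      refine inv_mul_cancel₀ fun h0 => hr0 ?_
      rw [← hr] at h0
      exact (map_eq_zero φ).1 h0
    exact hau (isUnit_of_map_unit (f.left.stalkMap x).hom a (IsUnit.of_mul_eq_one _ h1))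
  refine ⟨g, ?_⟩
  haveI : Nonempty (⊤ : X.left.Opens) := ⟨⟨η, trivial⟩⟩
  refine Scheme.germToFunctionField_injective X.left ⊤ ?_
  show X.left.presheaf.germ ⊤ η trivial (f.left.appTop.hom g) = X.left.presheaf.germ ⊤ η trivial s
  rw [← hr, ← hg]
  show _ = (f.left.stalkMap η).hom
    ((Y.left.presheaf.stalkSpecializes (specializes_of_eq hη)).hom
      (Y.left.presheaf.germ ⊤ (genericPoint Y.left) trivial g))
  exact (Scheme.Hom.germ_stalkMap_apply f.left ⊤ η trivial g).symm.trans
    (congrArg (f.left.stalkMap η).hom (TopCat.Presheaf.germ_stalkSpecializes_apply Y.left.presheaf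
      (U := ⊤) trivial (specializes_of_eq hη) g).symm)

end Groth.Agent.S17467
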