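import Groth.Statements.S17468
import Mathlib

set_option autoImplicit false
universe u v w
open LieRep

namespace Groth.Agent.S17468

/-- Let k be an algebraically closed field of characteristic zero, L a Lie algebra over k spanned by an
sl_2-triple (h, e, f), and V a finite-dimensional L-module written as an internal direct sum of
finitely many irreducible Lie submodules V_i. Then the trace on V of the square of the action of h
is 2 Σ_i C(dim V_i + 1, 3). (The published statement concerns a finite-dimensional representation V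
of a simple Lie algebra restricted to the copy of sl_2 attached to the highest root θ, with h the
coroot θ^∨; there Σ_i C(dim V_i + 1, 3) is the index of V, and the trace is the sum over the weights
λ of V, with multiplicity, of ⟨λ, θ^∨⟩².) -/
theorem result
    (k : Type u) [Field k] [IsAlgClosed k] [CharZero k]
    (L : Type v) [LieRing L] [LieAlgebra k L]
    (h e f : L) (t : IsSl2Triple h e f) (hspan : t.toLieSubalgebra k = ⊤)
    (V : Type w) [AddCommGroup V] [Module k V] [LieRingModule L V] [LieModule k L V]
    [FiniteDimensional k V]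
    (ι : Type) [Fintype ι] [DecidableEq ι] (W : ι → LieSubmodule k L V)
    (hW : DirectSum.IsInternal fun i => (W i).toSubmodule)
    (hirr : ∀ i, LieModule.IsIrreducible k L (W i)) :
    LinearMap.trace k V ((LieModule.toEnd k L V h) ^ 2) =
      2 * ∑ i, (((Module.finrank k (W i) + 1).choose 3 : ℕ) : k) := by
  classical
  have hsum : ∀ (N : ℕ) (a : k), 3 * ∑ i ∈ Finset.range N, (a - 2 * (i : k)) ^ 2 =
      3 * (N : k) * a ^ 2 - 6 * a * (N : k) * ((N : k) - 1) + 2 * (N : k) * ((N : k) - 1) * (2 * (N : k) - 1) := by
    intro N a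
    induction N with
    | zero => simp
    | succ N ih =>
      rw [Finset.sum_range_succ, mul_add, ih]
      push_cast
      ring
  have hirr' : ∀ (M : Type w) [AddCommGroup M] [Module k M] [LieRingModule L M] [LieModule k L M]
      [FiniteDimensional k M] [LieModule.IsIrreducible k L M],
      LinearMap.trace k M ((LieModule.toEnd k L M h) ^ 2) =
        2 * (((Module.finrank k M + 1).choose 3 : ℕ) : k) := by
    intro M _ _ _ _ _ hM
    haveI : Nontrivial M := (LieSubmodule.nontrivial_iff k L M).mp hM.toNontrivial
    obtain ⟨μ, v, hv, P⟩ := t.exists_hasPrimitiveVectorWith (R := k) (M := M)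
    obtain ⟨m, hm⟩ := P.exists_nat
    let ψ : Fin (m + 1) → M := fun i => ((LieModule.toEnd k L M f) ^ (i : ℕ)) v
    have hψh : ∀ i : Fin (m + 1), LieModule.toEnd k L M h (ψ i) = ((m : k) - 2 * (i : ℕ)) • ψ i :=
      fun i => (P.lie_h_pow_toEnd_f i).trans (by rw [hm])
    have hli : LinearIndependent k ψ := by
      refine Module.End.eigenvectors_linearIndependent' (LieModule.toEnd k L M h)
        (fun i : Fin (m + 1) => (m : k) - 2 * (i : ℕ)) (fun i j hij => Fin.ext ?_) ψ fun i => ?_
      · simpa using hij
      · exact Module.End.hasEigenvector_iff.mpr ⟨Module.End.mem_eigenspace_iff.mpr (hψh i),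
          P.pow_toEnd_f_ne_zero_of_eq_nat hm (Nat.lt_succ_iff.mp i.2)⟩
    let S := Submodule.span k (Set.range ψ)
    have hmem : ∀ n : ℕ, ((LieModule.toEnd k L M f) ^ n) v ∈ S := by
      intro n
      by_cases hn : n ≤ m
      · exact Submodule.subset_span ⟨⟨n, Nat.lt_succ_of_le hn⟩, rfl⟩
      · obtain ⟨d, rfl⟩ := Nat.exists_eq_add_of_le (Nat.lt_of_not_le hn : m + 1 ≤ n)
        rw [Nat.succ_eq_add_one, add_comm, pow_add, Module.End.mul_apply,
          P.pow_toEnd_f_eq_zero_of_eq_nat hm, map_zero]
        exact S.zero_mem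
    have hS : ∀ (x : L) (y : M), y ∈ S → ⁅x, y⁆ ∈ S := by
      intro x y hy
      obtain ⟨c₁, c₂, c₃, rfl⟩ := (IsSl2Triple.mem_toLieSubalgebra_iff (t := t)).mp
        (show x ∈ t.toLieSubalgebra k by rw [hspan]; trivial)
      rw [t.lie_e_f, add_lie, add_lie, smul_lie, smul_lie, smul_lie]
      induction hy using Submodule.span_induction with
      | mem z hz =>
        obtain ⟨i, rfl⟩ := hz
        refine S.add_mem (S.add_mem (S.smul_mem _ ?_) (S.smul_mem _ ?_)) (S.smul_mem _ ?_)
        · rcases Nat.eq_zero_or_pos (i : ℕ) with h0 | h0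
          · simp [ψ, h0, P.lie_e]
          · obtain ⟨j, hj⟩ := Nat.exists_eq_succ_of_ne_zero h0.ne'
            show ⁅e, ((LieModule.toEnd k L M f) ^ (i : ℕ)) v⁆ ∈ S
            rw [hj, P.lie_e_pow_succ_toEnd_f]
            exact S.smul_mem _ (hmem j)
        · show ⁅f, ((LieModule.toEnd k L M f) ^ (i : ℕ)) v⁆ ∈ S
          rw [P.lie_f_pow_toEnd_f]
          exact hmem _
        · show ⁅h, ((LieModule.toEnd k L M f) ^ (i : ℕ)) v⁆ ∈ S
          rw [P.lie_h_pow_toEnd_f]
          exact S.smul_mem _ (hmem _)
      | zero => simp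
      | add a b _ _ ha hb =>
        simp only [lie_add, smul_add]
        convert S.add_mem ha hb using 1
        abel
      | smul c a _ ha =>
        simp only [lie_smul]
        convert S.smul_mem c ha using 1
        simp only [smul_add, smul_comm c]
    let N : LieSubmodule k L M := { S with lie_mem := fun {x y} hy => hS x y hy }
    have hvN : v ∈ N := show v ∈ S by simpa using hmem 0
    have hN : N = ⊤ := (IsSimpleOrder.eq_bot_or_eq_top N).resolve_left fun h0 =>
      hv (by rw [h0] at hvN; exact (LieSubmodule.mem_bot v).mp hvN)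
    have hspan' : ⊤ ≤ S := fun z _ => show z ∈ N by rw [hN]; trivial
    let b := Module.Basis.mk hli hspan'
    have hfr : Module.finrank k M = m + 1 := by simpa using Module.finrank_eq_card_basis b
    rw [LinearMap.trace_eq_matrix_trace k b, Matrix.trace]
    have hdiag : ∀ i, Matrix.diag (LinearMap.toMatrix b b ((LieModule.toEnd k L M h) ^ 2)) i =
        ((m : k) - 2 * (i : ℕ)) ^ 2 := by
      intro i
      have hb : b i = ψ i := Module.Basis.mk_apply hli hspan' i
      have h2 : ((LieModule.toEnd k L M h) ^ 2) (b i) = (((m : k) - 2 * (i : ℕ)) ^ 2) • b i := by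
        rw [hb, pow_two, Module.End.mul_apply, hψh, map_smul, hψh, smul_smul, pow_two]
      rw [Matrix.diag_apply, LinearMap.toMatrix_apply, h2, map_smul]
      simp
    simp only [hdiag]
    rw [Fin.sum_univ_eq_sum_range (fun i => ((m : k) - 2 * (i : k)) ^ 2), hfr]
    have hc : 6 * (((m + 1 + 1).choose 3 : ℕ) : k) = ((m : k) + 2) * ((m : k) + 1) * (m : k) := by
      have := Nat.descFactorial_eq_factorial_mul_choose (m + 1 + 1) 3
      simp [Nat.descFactorial_succ, Nat.factorial] at this
      have h6 := congrArg (fun n : ℕ => (n : k)) this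
      push_cast at h6
      linear_combination -h6
    have h3 := hsum (m + 1) (m : k)
    push_cast at h3
    refine mul_left_cancel₀ (show (3 : k) ≠ 0 by norm_num) ?_
    linear_combination h3 - hc
  have hmaps : ∀ i, Set.MapsTo ((LieModule.toEnd k L V h) ^ 2 : Module.End k V)
      ((W i).toSubmodule : Set V) ((W i).toSubmodule : Set V) := by
    intro i x hx
    have e : ((LieModule.toEnd k L V h) ^ 2 : Module.End k V) x = ⁅h, ⁅h, x⁆⁆ := by
      simp [pow_two]
    rw [e]
    exact (W i).lie_mem ((W i).lie_mem hx)
  rw [LinearMap.trace_eq_sum_trace_restrict (N := fun i => (W i).toSubmodule) hW hmaps, Finset.mul_sum]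
  refine Finset.sum_congr rfl fun i _ => ?_
  haveI := hirr i
  refine Eq.trans ?_ (hirr' (W i))
  congr 1

end Groth.Agent.S17468
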