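import Groth.Statements.S17469
import Groth.Agent.VarGeom.Normal

set_option autoImplicit false
universe u
open CategoryTheory AlgebraicGeometry
open Variety

namespace Groth.Agent.S17469

/-- Let X be a locally Noetherian integral scheme all of whose local rings are integrally closed domains
and U an open subset of X. A section of O_X over U that is integral over the ring of global sections
of X, the latter acting through restriction, is itself the restriction of a global section. (The
published lemma is stated for an irreducible normal variety and for the graded ring of sections over
U of all non-negative powers of a line bundle, integral over the corresponding ring of sections over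
X; for the trivial line bundle its homogeneous components are the present statement, which is made
here for any locally Noetherian normal integral scheme.) -/
theorem result
    (X : Scheme.{u}) [AlgebraicGeometry.IsIntegral X] [IsLocallyNoetherian X]
    (hX : Pi1.IsNormalScheme X) (U : X.Opens) (b : Γ(X, U))
    (hb : (X.presheaf.map (homOfLE le_top : U ⟶ ⊤).op).hom.IsIntegralElem b) :
    b ∈ Set.range (X.presheaf.map (homOfLE le_top : U ⟶ ⊤).op).hom := by
  by_cases hU : Nonempty U
  · haveI := hU
    haveI : Nonempty (⊤ : X.Opens) := ⟨⟨hU.some.1, trivial⟩⟩
    have hc : (X.germToFunctionField ⊤).hom.IsIntegralElem (X.germToFunctionField U b) := by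
      obtain ⟨p, hp, hp0⟩ := hb
      refine ⟨p, hp, ?_⟩
      have he : (X.germToFunctionField ⊤).hom =
          (X.germToFunctionField U).hom.comp (X.presheaf.map (homOfLE le_top : U ⟶ ⊤).op).hom := by
        refine RingHom.ext fun a => ?_
        exact (X.presheaf.germ_res_apply (homOfLE le_top) (genericPoint X) _ a).symm
      rw [he, ← Polynomial.hom_eval₂, hp0, map_zero]
    obtain ⟨s, hs⟩ := Groth.Agent.VarGeom.exists_global_of_isIntegral (fun x => (hX x).2) _ hc
    refine ⟨s, Scheme.germToFunctionField_injective X U ?_⟩
    rw [← hs]
    exact X.presheaf.germ_res_apply (homOfLE le_top) (genericPoint X) _ s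
  · refine ⟨0, ?_⟩
    have : U = ⊥ := by
      ext x; simp only [TopologicalSpace.Opens.coe_bot, Set.mem_empty_iff_false, iff_false]
      exact fun hx => hU ⟨⟨x, hx⟩⟩
    subst this
    haveI : Subsingleton Γ(X, ⊥) := CommRingCat.subsingleton_of_isTerminal X.sheaf.isTerminalOfEmpty
    exact Subsingleton.elim _ _

end Groth.Agent.S17469
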