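import Groth.Statements.S17471
import Mathlib.LinearAlgebra.RootSystem.Finite.Lemmas
import Mathlib.LinearAlgebra.RootSystem.Base
import Mathlib.Tactic.Module

set_option autoImplicit false
universe u v w x
open RootCh

namespace Groth.Agent.S17471

/-- Let Φ be a finite, reduced, crystallographic, irreducible root system with a base, and θ a positive
root such that θ + β is a root for no positive root β (so θ is the highest root). Then Σ_{β>0} ⟨β,
θ^∨⟩² = 2 + Σ_{β>0} ⟨β, θ^∨⟩ = 2(1 + ⟨ρ, θ^∨⟩), ρ being half the sum of the positive roots; in the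
source the left side is the index of the adjoint representation obtained from its formal character,
and 1 + ⟨ρ, θ^∨⟩ is the dual Coxeter number. -/
theorem result
    {ι : Type u} {R : Type v} {M : Type w} {N : Type x}
    [Field R] [LinearOrder R] [IsStrictOrderedRing R]
    [AddCommGroup M] [Module R M] [AddCommGroup N] [Module R N] [Fintype ι]
    (P : RootPairing ι R M N) [P.IsRootSystem] [P.IsCrystallographic] [P.IsReduced]
    [P.IsIrreducible] (b : P.Base) (θ : ι) (hθ : b.IsPos θ)
    (hmax : ∀ i : ι, b.IsPos i → P.root θ + P.root i ∉ Set.range P.root) :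
    ∑ i ∈ Finset.univ.filter (fun i => 0 < b.height i), P.pairing i θ ^ 2 =
      2 + ∑ i ∈ Finset.univ.filter (fun i => 0 < b.height i), P.pairing i θ := by
  classical
  have : CharZero R := inferInstance
  have key : ∀ i ∈ Finset.univ.filter (fun i => 0 < b.height i), i ≠ θ →
      P.pairing i θ = 0 ∨ P.pairing i θ = 1 := by
    intro i hi hne
    have hip : b.IsPos i := (Finset.mem_filter.1 hi).2
    have hcast : P.pairing i θ = ((P.pairingIn ℤ i θ : ℤ) : R) := by
      rw [← P.algebraMap_pairingIn ℤ i θ]
      rfl
    have hno : ∀ j, b.IsPos j → P.pairingIn ℤ j θ < 0 → False := by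
      intro j hj hlt
      have hne' : P.root j ≠ -P.root θ := by
        intro e
        have e' : j = P.reflectionPerm θ θ := P.root.injective
          (e.trans (by rw [P.root_reflectionPerm, P.reflection_apply_self]))
        exact (RootPairing.Base.IsPos.neg_iff_not b θ).1 (show b.IsPos (P.reflectionPerm θ θ) from e' ▸ hj) hθ
      obtain ⟨k, hk⟩ := P.root_add_root_mem_of_pairingIn_neg hlt hne'
      exact hmax j hj ⟨k, by rw [hk, add_comm]⟩
    have h0 : 0 ≤ P.pairingIn ℤ i θ := by
      by_contra h
      exact hno i hip (lt_of_not_ge h)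
    have h1 : P.pairingIn ℤ i θ ≤ 1 := by
      by_contra h
      push Not at h
      obtain ⟨l, hl⟩ := P.root_sub_root_mem_of_pairingIn_pos (show 0 < P.pairingIn ℤ i θ by omega) hne
      by_cases hl' : b.IsPos l
      · exact hmax l hl' ⟨i, by rw [hl]; abel⟩
      · have hm := (RootPairing.Base.IsPos.neg_iff_not b l).2 hl'
        let m := P.reflectionPerm l l
        have hrm : P.root m = P.root θ - P.root i := by
          rw [P.root_reflectionPerm, P.reflection_apply_self, hl, neg_sub]
        have hpm : P.pairingIn ℤ m θ = 2 - P.pairingIn ℤ i θ := by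
          apply (algebraMap ℤ R).injective_int
          rw [map_sub, P.algebraMap_pairingIn, P.algebraMap_pairingIn, map_ofNat]
          have e := congrArg (fun v => P.toLinearMap v (P.coroot θ)) hrm
          simp only [map_sub, LinearMap.sub_apply, P.root_coroot_eq_pairing] at e
          rw [e, P.pairing_same]
        have hmpos : b.IsPos m := hm
        rcases lt_or_eq_of_le (show P.pairingIn ℤ m θ ≤ 0 by omega) with h' | h'
        · exact hno m hmpos h'
        · refine hmax m hmpos ⟨P.reflectionPerm (P.reflectionPerm θ i) (P.reflectionPerm θ i), ?_⟩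
          have h2 : P.pairing i θ = 2 := by
            rw [hcast, show P.pairingIn ℤ i θ = 2 by omega]; norm_num
          rw [P.root_reflectionPerm, P.reflection_apply_self, P.root_reflectionPerm,
            P.reflection_apply_root, h2, hrm]
          module
    rcases (show P.pairingIn ℤ i θ = 0 ∨ P.pairingIn ℤ i θ = 1 by omega) with h | h <;>
      simp [hcast, h]
  have hmem : θ ∈ Finset.univ.filter (fun i => 0 < b.height i) :=
    Finset.mem_filter.2 ⟨Finset.mem_univ _, hθ⟩
  rw [← Finset.add_sum_erase _ _ hmem, ← Finset.add_sum_erase _ _ hmem, P.pairing_same]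
  have : ∀ i ∈ (Finset.univ.filter (fun i => 0 < b.height i)).erase θ,
      P.pairing i θ ^ 2 = P.pairing i θ := fun i hi => by
    obtain ⟨hne, hi⟩ := Finset.mem_erase.1 hi
    rcases key i hi hne with h | h <;> simp [h]
  rw [Finset.sum_congr rfl this]
  ring

end Groth.Agent.S17471
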