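import Groth.Statements.S17472
import Mathlib
import Groth.Agent.S7963

set_option autoImplicit false
universe u
open HopfAlg

namespace Groth.Agent.S17472
open Groth.Agent.ComodLib WithConv in
theorem exists_point_ker {k A : Type u} [Field k] [IsAlgClosed k] [CommRing A] [Algebra k A]
    [Algebra.FiniteType k A] (M : Ideal A) [M.IsMaximal] : ∃ χ : A →ₐ[k] k, RingHom.ker χ = M := by
  letI : Field (A ⧸ M) := Ideal.Quotient.field M
  haveI : Module.Finite k (A ⧸ M) := finite_of_finite_type_of_isJacobsonRing k (A ⧸ M)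
  let e : k ≃ₐ[k] A ⧸ M := AlgEquiv.ofBijective (Algebra.ofId k (A ⧸ M))
    (IsAlgClosed.algebraMap_bijective_of_isIntegral (k := k) (K := A ⧸ M))
  refine ⟨e.symm.toAlgHom.comp (Ideal.Quotient.mkₐ k M), ?_⟩
  ext x
  simp [Ideal.Quotient.eq_zero_iff_mem]

open Groth.Agent.ComodLib WithConv TensorProduct in
theorem exists_locus {k A : Type u} [Field k] [CommRing A] [HopfAlgebra k A] (Q P : Ideal A) :
    ∃ C : Set A, ∀ χ : A →ₐ[k] k, Q ≤ P.comap (translatePt χ) ↔ ∀ c ∈ C, χ c = 0 := by
  classical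
  let ι := Module.Free.ChooseBasisIndex k (A ⧸ P)
  let b : Module.Basis ι k (A ⧸ P) := Module.Free.chooseBasis k (A ⧸ P)
  let π : A →ₗ[k] A ⧸ P := (Ideal.Quotient.mkₐ k P).toLinearMap
  let co : A → (ι →₀ A) := fun f =>
    TensorProduct.equivFinsuppOfBasisRight b (π.lTensor A (Coalgebra.comul (R := k) f))
  have key : ∀ (χ : A →ₐ[k] k) (f : A) (i : ι), b.repr (π (translatePt χ f)) i = χ (co f i) := by
    intro χ f i
    show b.repr (π (Algebra.TensorProduct.lid k A (Algebra.TensorProduct.map χ (AlgHom.id k A)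
      (Coalgebra.comul (R := k) f)))) i = χ (TensorProduct.equivFinsuppOfBasisRight b (π.lTensor A (Coalgebra.comul (R := k) f)) i)
    generalize Coalgebra.comul (R := k) f = y
    induction y using TensorProduct.induction_on with
    | zero => simp
    | tmul a c => simp [TensorProduct.equivFinsuppOfBasisRight_apply_tmul_apply, mul_comm]
    | add p q hp hq =>
      simp only [map_add, Finsupp.add_apply]
      rw [hp, hq]
  refine ⟨{c | ∃ f ∈ Q, ∃ i, c = co f i}, fun χ => ?_⟩
  constructor
  · rintro h c ⟨f, hf, i, rfl⟩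
    rw [← key]
    have : π (translatePt χ f) = 0 := Ideal.Quotient.eq_zero_iff_mem.2 (h hf)
    simp [this]
  · intro h f hf
    rw [Ideal.mem_comap]
    refine Ideal.Quotient.eq_zero_iff_mem.1 (b.repr.injective (Finsupp.ext fun i => ?_))
    rw [map_zero]
    exact (key χ f i).trans (h _ ⟨f, hf, i, rfl⟩)

theorem isAssociatedPrime_comap {A : Type u} [CommRing A] [IsNoetherianRing A] (σ : A ≃+* A) {P : Ideal A}
    (hP : IsAssociatedPrime P A) : IsAssociatedPrime (P.comap σ.toRingHom) A := by
  obtain ⟨hPp, x, hx⟩ := isAssociatedPrime_iff.1 hP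
  refine isAssociatedPrime_iff.2 ⟨hPp.comap σ.toRingHom, σ.symm x, ?_⟩
  ext r
  rw [Ideal.mem_comap, hx, Submodule.mem_colon_singleton, Submodule.mem_colon_singleton, Submodule.mem_bot,
    Submodule.mem_bot, smul_eq_mul, smul_eq_mul]
  show σ r * x = 0 ↔ r * σ.symm x = 0
  rw [← map_eq_zero_iff σ σ.injective (x := r * σ.symm x), map_mul, σ.apply_symm_apply]

open Groth.Agent.ComodLib WithConv in
theorem stable_of_connected {k A : Type u} [Field k] [IsAlgClosed k] [CommRing A] [HopfAlgebra k A]
    [Algebra.FiniteType k A] [IsNoetherianRing A]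
    (hconn : ∀ e : A, IsIdempotentElem e → e = 0 ∨ e = 1)
    {P : Ideal A} (hP : IsAssociatedPrime P A) (a : WithConv (A →ₐ[k] k)) :
    P ≤ P.comap (translatePt a.ofConv) := by
  classical
  haveI hPp := hP.isPrime
  choose C hC using fun Q : Ideal A => exists_locus (k := k) Q P
  let F : WithConv (A →ₐ[k] k) → Ideal A := fun b => P.comap (translatePt b.ofConv)
  have hF : ∀ b, IsAssociatedPrime (F b) A ∧ (F b).height = P.height := fun b =>
    ⟨isAssociatedPrime_comap (Groth.Agent.S7963.translateEquiv b).toRingEquiv hP,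
      RingEquiv.height_comap (Groth.Agent.S7963.translateEquiv b).toRingEquiv P⟩
  let Ω : Set (Ideal A) := {Q | IsAssociatedPrime Q A ∧ Q.height = P.height}
  have hfin : Ω.Finite := (associatedPrimes.finite A A).subset fun Q h => h.1
  have huniq : ∀ b, ∀ Q ∈ Ω, Q ≤ F b → Q = F b := fun b Q hQ hle => by
    haveI := hQ.1.isPrime
    exact Ideal.eq_of_le_of_height_le Q hle (by rw [hQ.2, (hF b).2])
  let V : Ideal A → Set (PrimeSpectrum A) := fun Q => PrimeSpectrum.zeroLocus (C Q)
  haveI : IsJacobsonRing A := isJacobsonRing_of_finiteType (A := k)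
  have hdisj : ∀ Q ∈ Ω, ∀ Q' ∈ Ω, Q ≠ Q' → Disjoint (V Q) (V Q') := by
    intro Q hQ Q' hQ' hne
    rw [Set.disjoint_left]
    intro x hx hx'
    obtain ⟨M, hM, hle⟩ := Ideal.exists_le_maximal x.asIdeal x.2.ne_top
    obtain ⟨χ, hχ⟩ := exists_point_ker (k := k) M
    have h1 : ∀ Q, x ∈ V Q → Q ≤ F (toConv χ) := fun Q hxQ =>
      (hC Q χ).2 fun c hc => by
        have : c ∈ RingHom.ker χ := hχ.symm ▸ hle (hxQ hc)
        exact this
    exact hne ((huniq _ Q hQ (h1 Q hx)).trans (huniq _ Q' hQ' (h1 Q' hx')).symm)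
  have hU : IsClosed (⋃ Q ∈ Ω, V Q) := hfin.isClosed_biUnion fun Q _ => PrimeSpectrum.isClosed_zeroLocus _
  have hcover : (⋃ Q ∈ Ω, V Q) = Set.univ := by
    obtain ⟨J, hJ⟩ := (PrimeSpectrum.isClosed_iff_zeroLocus_ideal _).1 hU
    have hJnil : J ≤ Ideal.jacobson ⊥ := by
      intro x hx
      rw [Ideal.jacobson, Ideal.mem_sInf]
      rintro M ⟨-, hM⟩
      haveI := hM
      obtain ⟨χ, hχ⟩ := exists_point_ker (k := k) M
      have hmem : (⟨M, hM.isPrime⟩ : PrimeSpectrum A) ∈ PrimeSpectrum.zeroLocus (J : Set A) := by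
        rw [← hJ]
        refine Set.mem_biUnion (hF (toConv χ)) fun c hc => ?_
        show c ∈ M
        rw [← hχ]
        exact (hC _ χ).1 le_rfl c hc
      exact hmem hx
    rw [hJ, PrimeSpectrum.zeroLocus_eq_univ_iff]
    rw [← Ideal.radical_eq_jacobson] at hJnil
    exact hJnil
  have hPΩ : P ∈ Ω := ⟨hP, rfl⟩
  have hclopen : IsClopen (V P) := by
    refine ⟨PrimeSpectrum.isClosed_zeroLocus _, ?_⟩
    have e : (V P)ᶜ = ⋃ Q ∈ Ω \ {P}, V Q := by
      ext x
      constructor
      · intro hx
        have hxu : x ∈ ⋃ Q ∈ Ω, V Q := hcover ▸ Set.mem_univ x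
        simp only [Set.mem_iUnion] at hxu ⊢
        obtain ⟨Q, hQ, hxQ⟩ := hxu
        exact ⟨Q, ⟨hQ, fun h => hx (Set.mem_singleton_iff.1 h ▸ hxQ)⟩, hxQ⟩
      · simp only [Set.mem_iUnion, Set.mem_compl_iff]
        rintro ⟨Q, ⟨hQ, hne⟩, hxQ⟩ hx
        exact Set.disjoint_left.1 (hdisj Q hQ P hPΩ fun h => hne (Set.mem_singleton_iff.2 h)) hxQ hx
    rw [← isClosed_compl_iff, e]
    exact (hfin.sdiff).isClosed_biUnion fun Q _ => PrimeSpectrum.isClosed_zeroLocus _
  have hone : (1 : WithConv (A →ₐ[k] k)).ofConv = Bialgebra.counitAlgHom k A := by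
    refine AlgHom.ext fun x => ?_
    simp
  have hVP : V P = Set.univ := by
    obtain ⟨e, he, hVe⟩ := PrimeSpectrum.isClopen_iff.1 hclopen
    rcases hconn e he with rfl | rfl
    · exfalso
      haveI : (RingHom.ker (Bialgebra.counitAlgHom k A)).IsPrime := RingHom.ker_isPrime _
      have hmem : (⟨_, this⟩ : PrimeSpectrum A) ∈ V P := by
        refine fun c hc => RingHom.mem_ker.2 ?_
        refine (hC P _).1 ?_ c hc
        rw [translatePt_counit]
        exact le_of_eq (Ideal.comap_id P).symm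
      rw [hVe, PrimeSpectrum.basicOpen_zero] at hmem
      exact hmem
    · rw [hVe, PrimeSpectrum.basicOpen_one]; rfl
  refine (hC P a.ofConv).2 fun c hc => ?_
  haveI : (RingHom.ker a.ofConv).IsPrime := RingHom.ker_isPrime _
  have : (⟨RingHom.ker a.ofConv, this⟩ : PrimeSpectrum A) ∈ V P := hVP ▸ Set.mem_univ _
  exact this hc


/-- Let k be an algebraically closed field and A a commutative Hopf algebra over k, finitely generated
as a k-algebra, whose only idempotents are 0 and 1 (so that Spec A is a connected affine algebraic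
group over k, possibly non-reduced). Let m be the kernel of the counit, the ideal of the neutral
element. Then the intersection of the powers m^n, n ≥ 0, is the zero ideal; equivalently the
infinitesimal neighbourhoods Spec (A/m^n) of the neutral element are jointly schematically dense.
(The published statement assumes the group smooth, that is, a connected linear algebraic group; the
statement here allows any connected affine algebraic group, possibly non-reduced, a case the
published argument also treats.) -/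
theorem result (k : Type u) [Field k] [IsAlgClosed k]
    (A : Type u) [CommRing A] [HopfAlgebra k A] [Algebra.FiniteType k A]
    (hconn : ∀ e : A, IsIdempotentElem e → e = 0 ∨ e = 1) :
    (⨅ n : ℕ, RingHom.ker (Bialgebra.counitAlgHom k A) ^ n) = ⊥ := by
  classical
  haveI : IsNoetherianRing A := Algebra.FiniteType.isNoetherianRing k A
  set m := RingHom.ker (Bialgebra.counitAlgHom k A) with hm
  rw [eq_bot_iff]
  intro x hx
  rw [Submodule.mem_bot]
  by_contra hx0
  have hx' : x ∈ (⨅ i : ℕ, m ^ i • ⊤ : Submodule A A) := by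
    simpa [smul_eq_mul, Ideal.mul_top] using hx
  obtain ⟨⟨r, hr⟩, hrx⟩ := (m.mem_iInf_smul_pow_eq_bot_iff x).1 hx'
  obtain ⟨P, hP, hle⟩ := exists_le_isAssociatedPrime_of_isNoetherianRing (R := A) x hx0
  have hr1 : 1 - r ∈ P := hle (by
    rw [Submodule.mem_colon_singleton, Submodule.mem_bot, smul_eq_mul, sub_mul, one_mul]
    have : r * x = x := hrx
    rw [this, sub_self])
  obtain ⟨M, hM, hPM⟩ := Ideal.exists_le_maximal P hP.isPrime.ne_top
  haveI := hM
  obtain ⟨χ, hχ⟩ := exists_point_ker (k := k) M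
  let c : WithConv (A →ₐ[k] k) := WithConv.toConv χ
  have h1 : P ≤ P.comap (Groth.Agent.ComodLib.translatePt (c⁻¹).ofConv) := stable_of_connected hconn hP c⁻¹
  have h2 : ∀ y ∈ P, Bialgebra.counitAlgHom k A y = 0 := by
    intro y hy
    have h3 : χ (Groth.Agent.ComodLib.translatePt (c⁻¹).ofConv y) = 0 := by
      have : Groth.Agent.ComodLib.translatePt (c⁻¹).ofConv y ∈ RingHom.ker χ := hχ.symm ▸ hPM (h1 hy)
      exact this
    have h4 := AlgHom.congr_fun (Groth.Agent.ComodLib.convMul_ofConv c⁻¹ c) y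
    rw [inv_mul_cancel, AlgHom.comp_apply] at h4
    rw [show c.ofConv = χ from rfl, h3] at h4
    simpa using h4
  have h5 := h2 _ hr1
  rw [map_sub, map_one, show Bialgebra.counitAlgHom k A r = 0 from hr, sub_zero] at h5
  exact one_ne_zero h5


end Groth.Agent.S17472
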