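import Groth.Statements.S17474
import Groth.Agent.Lib.AVPair

set_option autoImplicit false
set_option backward.isDefEq.respectTransparency false
set_option backward.isDefEq.respectTransparency.types false
set_option linter.style.haveILetI false
set_option linter.unusedSectionVars false
set_option maxHeartbeats 400000
universe u
open CategoryTheory MonoidalCategory CartesianMonoidalCategory MonObj GrpObj AlgebraicGeometry CategoryTheory.Limits
open AlgGrp

namespace Groth.Agent.S17474


open CategoryTheory.Limits
open Groth.Agent.AVPair Groth.Agent.H23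
open scoped Groth.Agent.H23.PicMul

/-- Over an algebraically closed field k, let X be a projective variety (an integral k-scheme admitting
a closed immersion into some projective space over k) and let a connected k-group scheme of finite
type G act on X. For a k-point g of G write t_g : X → X, x ↦ g · x. Then for every invertible
O_X-module L and every invertible M with L ⊗ M ≅ O_X (an inverse of L), the invertible module
t_g^*(L) ⊗ M is algebraically equivalent to zero. Equivalently, the neutral component of the
automorphism group scheme of X acts trivially on the Néron–Severi group of X. -/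
theorem result (k : Type u) [Field k] [IsAlgClosed k]
    (G X : Over (Spec (CommRingCat.of k))) [GrpObj G] [LocallyOfFiniteType G.hom] [QuasiCompact G.hom]
    [ConnectedSpace ↥G.left] [IsIntegral X.left] (hX : RelProj.IsHProjective X.hom)
    (a : AlgGrp.Action G X) (g : 𝟙_ (Over (Spec (CommRingCat.of k))) ⟶ G)
    (L M : X.left.Modules) (hL : PicF.IsInvertible L) (hM : PicF.IsInvertible M)
    (hLM : Nonempty (CohB1.tensorMod L M ≅ Coh.structureModule X.left)) :
    @Pic13.IsAlgEquivZero k _ X.left ⟨X.hom⟩
      (CohB1.tensorMod ((Scheme.Modules.pullback (lift (toUnit X ≫ g) (𝟙 X) ≫ a.act).left).obj L) M) := by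
  let φ : X ⊗ G ⟶ X := lift (snd X G) (fst X G) ≫ a.act
  let N : (X ⊗ G).left.Modules := CohB1.tensorMod ((Scheme.Modules.pullback φ.left).obj L)
    ((Scheme.Modules.pullback (fst X G).left).obj M)
  have hN : PicF.IsInvertible N :=
    PicMul.isInvertible_tensor (PicClLib.isInvertible_pullback _ hL) (PicClLib.isInvertible_pullback _ hM)
  have hs : ∀ p : 𝟙_ (Over (Spec (CommRingCat.of k))) ⟶ G,
      pl (lift (𝟙 X) (toUnit X ≫ p)) (PicF.cl N) =
        pl (lift (toUnit X ≫ p) (𝟙 X) ≫ a.act) (PicF.cl L) * PicF.cl M := fun p => by
    show pl _ (pl φ (PicF.cl L) * pl (fst X G) (PicF.cl M)) = _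
    rw [map_mul, pl_pl, pl_pl, lift_fst, pl_id]
    simp only [φ, comp_lift_assoc, lift_fst, lift_snd]
  have h1 : lift (toUnit X ≫ η[G]) (𝟙 X) ≫ a.act = 𝟙 X := by
    rw [show lift (toUnit X ≫ η[G]) (𝟙 X) = lift (toUnit X) (𝟙 X) ≫ (η[G] ▷ X) from (lift_whiskerRight _ _ _).symm,
      Category.assoc, a.one_act, leftUnitor_hom, lift_snd]
  refine ⟨G.left, G.hom, inferInstance, inferInstance, inferInstance, N, hN, g.left, η[G].left, Over.w g,
    Over.w η[G], ?_, ?_⟩
  · exact (PicGrp.cl_eq_cl_iff _ _).1 (hs g)
  · refine (PicGrp.cl_eq_cl_iff _ _).1 ((hs η[G]).trans ?_)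
    rw [h1, pl_id]
    exact (PicGrp.cl_eq_cl_iff _ _).2 hLM

end Groth.Agent.S17474
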