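import Groth.Statements.S17476
import Groth.Agent.FComplLib.AffSysSec
import Groth.Agent.Hartogs.Basic
import Groth.Agent.ParaFX.Ufd

set_option autoImplicit false
universe u
open CategoryTheory AlgebraicGeometry Opposite
open Coh

namespace Groth.Agent.S17476
set_option backward.isDefEq.respectTransparency false
set_option backward.isDefEq.respectTransparency.types false
open CategoryTheory AlgebraicGeometry TopologicalSpace Opposite
open Groth.Agent

theorem res_transfer {X : Scheme.{u}} {U V W : X.Opens} (e : V = U) (hV : V ≤ W) (hU : U ≤ W) :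
    (Function.Injective (X.presheaf.map (homOfLE hU).op) → Function.Injective (X.presheaf.map (homOfLE hV).op)) ∧
    (Function.Surjective (X.presheaf.map (homOfLE hU).op) → Function.Surjective (X.presheaf.map (homOfLE hV).op)) := by
  subst e; exact ⟨id, id⟩

theorem restrict_push_smul {X Y : Scheme.{u}} (f : X ⟶ Y) [IsOpenImmersion f] (P : Y.Modules) {W : Y.Opens}
    (c : Γ(Y, W)) (y : Γ((Scheme.Modules.pushforward f).obj ((Scheme.Modules.restrictFunctor f).obj P), W)) :
    c • y = ((f.appIso (f ⁻¹ᵁ W)).inv (f.app W c)) • (show Γ(P, f ''ᵁ (f ⁻¹ᵁ W)) from y) := rfl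

theorem hom_tilde_ext {R : Type u} [CommRing R] (M : ModuleCat.{u} (CommRingCat.of R))
    {P : (Spec (CommRingCat.of R)).Modules} (φ₁ φ₂ : tilde M ⟶ P)
    (h : ∀ x, φ₁.app ⊤ (FComplLib.θ M x) = φ₂.app ⊤ (FComplLib.θ M x)) : φ₁ = φ₂ := by
  refine ((tilde.adjunction (R := CommRingCat.of R)).homEquiv M P).injective ?_
  rw [Adjunction.homEquiv_unit, Adjunction.homEquiv_unit]
  ext x
  exact h x


/-- Let R be a Noetherian ring, Z = Spec R, M a finitely generated R-module with associated
quasi-coherent sheaf M~ (so that Hom_R(M, R) = Hom_Z(M~, O_Z)), and Z₀ ⊆ Z an open subscheme. (1) If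
the restriction of functions Γ(Z, O_Z) → Γ(Z₀, O_Z) is injective, then the restriction map Hom_Z(M~,
O_Z) → Hom_{Z₀}(M~|Z₀, O_{Z₀}) is injective. (2) If R is an integrally closed domain and the closed
complement of Z₀ has codimension at least 2 (every prime ideal outside Z₀ has height at least 2),
then that restriction map is bijective. (The published first assertion assumes only that Z₀ is
dense; for R = k[x,y]/(x², xy), M = R and Z₀ the locus y ≠ 0, which is dense, multiplication by x is
a nonzero element of Hom_R(M, R) restricting to zero, so schematic density is what is needed and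
what the printed argument uses. The published second assertion is for a normal irreducible affine
variety; any Noetherian integrally closed domain is allowed here.) -/
theorem result (R : Type u) [CommRing R] [IsNoetherianRing R]
    (M : ModuleCat.{u} (CommRingCat.of R)) [Module.Finite R M] (U : (Spec (CommRingCat.of R)).Opens) :
    (Function.Injective ((Spec (CommRingCat.of R)).presheaf.map (homOfLE (le_top : U ≤ ⊤)).op) →
      Function.Injective (fun φ : AlgebraicGeometry.tilde M ⟶ Coh.structureModule (Spec (CommRingCat.of R)) =>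
        (Scheme.Modules.restrictFunctor U.ι).map φ)) ∧
    (IsDomain R → IsIntegrallyClosed R → (∀ p : PrimeSpectrum R, p ∉ U → (2 : ℕ∞) ≤ p.asIdeal.height) →
      Function.Bijective (fun φ : AlgebraicGeometry.tilde M ⟶ Coh.structureModule (Spec (CommRingCat.of R)) =>
        (Scheme.Modules.restrictFunctor U.ι).map φ)) := by
  let R' := Scheme.Modules.restrictFunctor U.ι
  let adj := Scheme.Modules.restrictAdjunction U.ι
  let O := Coh.structureModule (Spec (CommRingCat.of R))
  have hO : U.ι ''ᵁ (U.ι ⁻¹ᵁ ⊤) = U := U.ι_image_top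
  have hinj : Function.Injective ((Spec (CommRingCat.of R)).presheaf.map (homOfLE (le_top : U ≤ ⊤)).op) →
      Function.Injective ((Spec (CommRingCat.of R)).presheaf.map (homOfLE (U.ι.image_preimage_le ⊤)).op) :=
    fun h => (res_transfer hO (U.ι.image_preimage_le ⊤) le_top).1 h
  have hsur : Function.Surjective ((Spec (CommRingCat.of R)).presheaf.map (homOfLE (le_top : U ≤ ⊤)).op) →
      Function.Surjective ((Spec (CommRingCat.of R)).presheaf.map (homOfLE (U.ι.image_preimage_le ⊤)).op) :=
    fun h => (res_transfer hO (U.ι.image_preimage_le ⊤) le_top).2 h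
  have I : Function.Injective ((Spec (CommRingCat.of R)).presheaf.map (homOfLE (le_top : U ≤ ⊤)).op) →
      Function.Injective (fun φ : AlgebraicGeometry.tilde M ⟶ O => R'.map φ) := fun h φ₁ φ₂ hφ => by
    refine hom_tilde_ext M φ₁ φ₂ fun x => hinj h ?_
    have e : φ₁ ≫ adj.unit.app O = φ₂ ≫ adj.unit.app O :=
      (adj.unit.naturality φ₁).trans ((congrArg (adj.unit.app _ ≫ (Scheme.Modules.pushforward U.ι).map ·) hφ).trans
        (adj.unit.naturality φ₂).symm)
    exact congr(($e).app ⊤ (FComplLib.θ M x))
  refine ⟨I, fun _ _ hht => ?_⟩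
  have hH := Hartogs.spec_bijective R U fun p hp => by
    haveI : IsIntegrallyClosed (Localization.AtPrime p.asIdeal) :=
      isIntegrallyClosed_of_isLocalization (Localization.AtPrime p.asIdeal) p.asIdeal.primeCompl
        p.asIdeal.primeCompl_le_nonZeroDivisors
    refine ParaFX.two_le_depth_of_normal _ ?_
    rw [IsLocalization.AtPrime.ringKrullDim_eq_height p.asIdeal]
    exact WithBot.coe_le_coe.2 (hht p hp)
  refine ⟨I hH.1, fun ψ => ?_⟩
  let ψ' := adj.homEquiv _ _ ψ
  choose g hg using fun x : M => hsur hH.2 (ψ'.app ⊤ (FComplLib.θ M x))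
  let g' : M →+ Γ(O, ⊤) := AddMonoidHom.mk' (fun x => (g x : Γ(O, ⊤))) fun x y => hinj hH.1 (by
    rw [map_add, hg, hg, hg]
    exact (congrArg (ψ'.app ⊤) (map_add _ x y)).trans (map_add _ _ _))
  obtain ⟨φ, hφ⟩ := FComplLib.exists_hom_tilde M O g' fun a x => hinj hH.1 (by
    refine (hg (a • x)).trans ?_
    rw [FComplLib.θ_smul, Scheme.Modules.Hom.app_smul]
    refine Eq.trans ?_ (map_mul _ _ _).symm
    symm
    refine (congrArg₂ (· * ·) rfl (hg x)).trans ?_
    refine Eq.trans (congrArg (fun r => r * (show Γ(Spec (CommRingCat.of R), U.ι ''ᵁ (U.ι ⁻¹ᵁ ⊤)) from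
      ψ'.app ⊤ (FComplLib.θ M x))) ?_) (restrict_push_smul U.ι O _ (ψ'.app ⊤ (FComplLib.θ M x))).symm
    exact congr($((U.ι.app_appIso_inv ⊤).symm).hom _))
  refine ⟨φ, (adj.homEquiv _ _).injective ?_⟩
  show adj.homEquiv _ _ (R'.map φ) = ψ'
  rw [Adjunction.homEquiv_unit]
  refine (adj.unit.naturality φ).symm.trans (hom_tilde_ext M _ _ fun x => ?_)
  show (adj.unit.app O).app ⊤ (φ.app ⊤ (FComplLib.θ M x)) = ψ'.app ⊤ (FComplLib.θ M x)
  rw [hφ]
  exact hg x

end Groth.Agent.S17476
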