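import Groth.Statements.S17479
import Groth.Agent.AGF20Lib.FixAmple
import Groth.Agent.S17474
import Groth.Agent.S0021
-- import your own Groth.Agent.* helpers here

set_option autoImplicit false
set_option linter.style.haveILetI false
set_option backward.isDefEq.respectTransparency.types false
set_option maxHeartbeats 1000000
universe u
open CategoryTheory MonoidalCategory CartesianMonoidalCategory MonObj GrpObj AlgebraicGeometry CategoryTheory.Limits
open AlgGrp

namespace Groth.Agent.S17479
open scoped Groth.Agent.H23.PicMul

/-- Over an algebraically closed field k, let X be a projective variety (an integral k-scheme with a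
closed immersion into some projective space over k) whose Picard variety is trivial: every
invertible O_X-module algebraically equivalent to zero is isomorphic to O_X. Let G be a connected
k-group scheme of finite type acting faithfully on X (for every k-scheme T, a T-point of G acting as
the identity on X × T is the unit). Then G is affine. (The published statement is that the neutral
component of the reduced automorphism group of X is linear; linear is read as affine, and the form
here is its consequence for connected algebraic groups acting faithfully, which are closed subgroup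
schemes of the neutral component of the automorphism group scheme. For a non-reduced such group this
says slightly more than the published corollary: one also uses that a Noetherian scheme whose
reduction is affine is affine.) -/
theorem result (k : Type u) [Field k] [IsAlgClosed k]
    (G X : Over (Spec (CommRingCat.of k))) [GrpObj G] [LocallyOfFiniteType G.hom] [QuasiCompact G.hom]
    [ConnectedSpace ↥G.left] [IsIntegral X.left] (hX : RelProj.IsHProjective X.hom)
    (hPic : ∀ L : X.left.Modules, PicF.IsInvertible L → @Pic13.IsAlgEquivZero k _ X.left ⟨X.hom⟩ L →
      Nonempty (L ≅ Coh.structureModule X.left))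
    (a : AlgGrp.Action G X)
    (hfaith : ∀ (T : Over (Spec (CommRingCat.of k))) (g : T ⟶ G),
      lift (fst T X ≫ g) (snd T X) ≫ a.act = snd T X → g = toUnit T ≫ η[G]) :
    IsAffine G.left := by
  haveI : IsLocallyNoetherian G.left := LocallyOfFiniteType.isLocallyNoetherian G.hom
  haveI : CompactSpace G.left := QuasiCompact.compactSpace_of_compactSpace G.hom
  haveI : IsNoetherian G.left := {}
  obtain ⟨H, _, i, hi, hic, hHr, his, hHl, hHq⟩ := GrpSchLib.RedSubgroup.exists_redSubgroup G
  haveI := hi; haveI := hic; haveI := hHr; haveI := his; haveI := hHl; haveI := hHq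
  haveI : Mono i := (Over.forget _).mono_of_mono_map (inferInstanceAs (Mono i.left))
  obtain ⟨L, hL⟩ := AGF20Lib.FixAmple.exists_ample X hX
  obtain ⟨M, hM, hLM⟩ := Groth.Agent.H23.PicInv.exists_inverse hL.1
  haveI : IsAffine H.left := AGF20Lib.FixAmple.isAffine_of_fix H X hX (AGF20Lib.FixAmple.restrict i a)
    (fun T g hg => by
      rw [AGF20Lib.FixAmple.lift_restrict_act, Category.assoc] at hg
      rw [← cancel_mono i, Category.assoc, IsMonHom.one_hom]
      exact hfaith T (g ≫ i) hg) L hL.1 hL fun g => by
    rw [show lift (toUnit X ≫ g) (𝟙 X) ≫ (AGF20Lib.FixAmple.restrict i a).act =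
      lift (toUnit X ≫ g ≫ i) (𝟙 X) ≫ a.act by rw [AGF20Lib.FixAmple.lift_restrict_act, Category.assoc]]
    let t := lift (toUnit X ≫ g ≫ i) (𝟙 X) ≫ a.act
    have hinv : PicF.IsInvertible (CohB1.tensorMod ((Scheme.Modules.pullback t.left).obj L) M) :=
      Groth.Agent.H23.PicMul.isInvertible_tensor (Groth.Agent.PicClLib.isInvertible_pullback _ hL.1) hM
    have h1 := (PicGrp.cl_eq_cl_iff _ _).2 (hPic _ hinv (Groth.Agent.S17474.result k G X hX a (g ≫ i) L M hL.1 hM hLM))
    have h2 := (PicGrp.cl_eq_cl_iff _ _).2 hLM
    rw [Groth.Agent.H23.PicMul.cl_tensor] at h1 h2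
    refine (PicGrp.cl_eq_cl_iff _ _).1 ?_
    show PicF.cl ((Scheme.Modules.pullback t.left).obj L) = PicF.cl L
    exact left_inv_eq_right_inv h1 ((mul_comm _ _).trans h2)
  exact Groth.Agent.S0021.result i.left

end Groth.Agent.S17479
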