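import Groth.Statements.S17480
import Groth.Agent.AGF20Lib.FiniteIndexQuot
import Groth.Agent.AGFLib.QuotProper
import Groth.Agent.AlgSpGrp.Artin
import Groth.Agent.EtFound.Descent
import Groth.Agent.GrpSchLib.Core
-- import your own Groth.Agent.* helpers here

set_option autoImplicit false
set_option linter.style.haveILetI false
set_option backward.isDefEq.respectTransparency false
set_option backward.isDefEq.respectTransparency.types false
set_option maxHeartbeats 1000000
set_option backward.isDefEq.respectTransparency.types false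
set_option maxHeartbeats 1000000
universe u
open CategoryTheory MonoidalCategory CartesianMonoidalCategory MonObj GrpObj AlgebraicGeometry CategoryTheory.Limits
open AlgGrp

namespace Groth.Agent.S17480

/-- Over an algebraically closed field k, let G be a connected linear algebraic group (a smooth, affine,
connected k-group scheme), i : H → G a closed subgroup scheme (not necessarily reduced), j : H⁰ → H
its neutral component (an open subgroup scheme which is connected), and n : N → G the normaliser of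
H⁰ in G. Let Q₁ = G/H and Q₂ = G/N be the quotients (G-actions with base points o₁, o₂ whose orbit
maps are flat and surjective, with G × H ≅ G ×_{Q₁} G and likewise for N), and let f : Q₁ → Q₂ be
the morphism under which the orbit map of o₁ composes to the orbit map of o₂ (it exists since H ⊆
N). Then f is an affine morphism. -/
theorem result (k : Type u) [Field k] [IsAlgClosed k]
    (G H H₀ N Q₁ Q₂ : Over (Spec (CommRingCat.of k))) [GrpObj G] [GrpObj H] [GrpObj H₀] [GrpObj N]
    [IsAffine G.left] [Smooth G.hom] [ConnectedSpace ↥G.left]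
    (i : H ⟶ G) [IsMonHom i] (hi : IsClosedImmersion i.left)
    (j : H₀ ⟶ H) [IsMonHom j] (hj : IsOpenImmersion j.left) [ConnectedSpace ↥H₀.left]
    (n : N ⟶ G) (hN : Red.IsNormalizerOf (j ≫ i) n)
    (a₁ : AlgGrp.Action G Q₁) (o₁ : 𝟙_ (Over (Spec (CommRingCat.of k))) ⟶ Q₁) (hQ₁ : AGF.IsQuotient i Q₁ a₁ o₁)
    (a₂ : AlgGrp.Action G Q₂) (o₂ : 𝟙_ (Over (Spec (CommRingCat.of k))) ⟶ Q₂) (hQ₂ : AGF.IsQuotient n Q₂ a₂ o₂)
    (f : Q₁ ⟶ Q₂) (hf : a₁.orbitMap o₁ ≫ f = a₂.orbitMap o₂) :
    IsAffineHom f.left := by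
  haveI := hi; haveI := hj
  obtain ⟨hl₁, hf₁, hs₁, sq₁⟩ := id hQ₁
  obtain ⟨hl₂, hf₂, hs₂, sq₂⟩ := id hQ₂
  obtain ⟨hnm, hnmono, hNpts⟩ := hN
  haveI := hnm; haveI := hnmono; haveI := hl₁; haveI := hl₂; haveI := hf₁; haveI := hs₁; haveI := hf₂; haveI := hs₂
  haveI : Mono i := H23.AMonExt.mono_of_isClosedImmersion i
  haveI : IsLocallyNoetherian Q₁.left := LocallyOfFiniteType.isLocallyNoetherian Q₁.hom
  haveI : IsLocallyNoetherian Q₂.left := LocallyOfFiniteType.isLocallyNoetherian Q₂.hom
  haveI : IsLocallyNoetherian G.left := LocallyOfFiniteType.isLocallyNoetherian G.hom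
  haveI : QuasiCompact G.hom := inferInstance
  haveI : CompactSpace G.left := inferInstance
  haveI : AlgebraicGeometry.IsNoetherian G.left := {}
  obtain ⟨hqc₁, hfp₁⟩ := AGFLib.QuotProper.quot_orbit_qc hQ₁
  obtain ⟨hqc₂, hfp₂⟩ := AGFLib.QuotProper.quot_orbit_qc hQ₂
  haveI := hqc₁; haveI := hfp₁; haveI := hqc₂; haveI := hfp₂
  have hr₁ : RedSub.IsQuotient i (a₁.orbitMap o₁) := ⟨hs₁, hf₁, hfp₁, sq₁⟩
  have hr₂ : RedSub.IsQuotient n (a₂.orbitMap o₂) := ⟨hs₂, hf₂, hfp₂, sq₂⟩
  have ho₂ : ∀ (T : Over (Spec (CommRingCat.of k))), (1 : T ⟶ G) ≫ a₂.orbitMap o₂ = toUnit T ≫ o₂ := fun T => by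
    rw [GrpSchLib.comp_orbitMap, GrpSchLib.act_one]
  have sqN : IsPullback n (toUnit N) (a₂.orbitMap o₂) o₂ := by
    have w : n ≫ a₂.orbitMap o₂ = toUnit N ≫ o₂ := by
      have := RedQuot.mul_comp hr₂ (1 : N ⟶ G) (𝟙 N)
      rwa [_root_.one_mul, Category.id_comp, ho₂] at this
    have hx : ∀ c : PullbackCone (a₂.orbitMap o₂) o₂, ∃ x : c.pt ⟶ N, x ≫ n = c.fst := fun c => by
      obtain ⟨x, hx⟩ := RedQuot.exists_mul_eq hr₂ (a := (1 : c.pt ⟶ G)) (b := c.fst) (by
        rw [ho₂, c.condition, toUnit_unique c.snd (toUnit _)])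
      exact ⟨x, by rw [← hx, _root_.one_mul]⟩
    exact ⟨⟨w⟩, ⟨PullbackCone.IsLimit.mk _ (fun c => (hx c).choose) (fun c => (hx c).choose_spec)
      (fun c => toUnit_unique _ _) (fun c m h₁ h₂ => by rw [← cancel_mono n, h₁, (hx c).choose_spec])⟩⟩
  haveI : IsImmersion o₂.left := by
    haveI : IsImmersion (o₂.left ≫ Q₂.hom) := by
      rw [Over.w o₂]; exact inferInstanceAs (IsImmersion (𝟙 (Spec (CommRingCat.of k))))
    exact IsImmersion.of_comp o₂.left Q₂.hom
  haveI : IsImmersion n.left := MorphismProperty.of_isPullback (sqN.map (Over.forget _)).flip ‹IsImmersion o₂.left›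
  haveI : QuasiCompact o₂.left := by
    haveI : QuasiCompact (o₂.left ≫ Q₂.hom) := by
      rw [Over.w o₂]; exact inferInstanceAs (QuasiCompact (𝟙 (Spec (CommRingCat.of k))))
    exact QuasiCompact.of_comp o₂.left Q₂.hom
  haveI : QuasiCompact n.left :=
    MorphismProperty.of_isPullback (sqN.map (Over.forget _)).flip ‹QuasiCompact o₂.left›
  haveI : LocallyOfFiniteType N.hom := by rw [← Over.w n]; infer_instance
  haveI : IsClosedImmersion n.left := AlgSpGrp.isClosedImmersion_of_mono n
  haveI : IsAffine N.left := isAffine_of_isAffineHom n.left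
  haveI : LocallyOfFiniteType H.hom := by rw [← Over.w i]; infer_instance
  haveI : IsAffine H.left := isAffine_of_isAffineHom i.left
  haveI : IsLocallyNoetherian H.left := LocallyOfFiniteType.isLocallyNoetherian H.hom
  haveI : LocallyOfFiniteType H₀.hom := by rw [← Over.w j]; infer_instance
  haveI : Mono j := (Over.forget _).mono_of_mono_map (inferInstanceAs (Mono j.left))
  haveI : QuasiCompact j.left := by
    haveI : AlgebraicGeometry.IsNoetherian H.left := {}
    infer_instance
  haveI : IsClosedImmersion j.left := AlgSpGrp.isClosedImmersion_of_mono j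
  -- `H` lies in `N`
  obtain ⟨incl, hincl⟩ : ∃ x : H ⟶ N, x ≫ n = i := by
    have e : (1 : H ⟶ G) ≫ a₂.orbitMap o₂ = i ≫ a₂.orbitMap o₂ := by
      have := RedQuot.mul_comp hr₁ (1 : H ⟶ G) (𝟙 H)
      rw [_root_.one_mul, Category.id_comp] at this
      rw [← hf, reassoc_of% this]
    obtain ⟨x, hx⟩ := RedQuot.exists_mul_eq hr₂ e
    exact ⟨x, by rw [← hx, _root_.one_mul]⟩
  haveI : IsMonHom incl := by constructor <;> simp [← cancel_mono n, hincl]
  haveI : IsClosedImmersion incl.left := by
    haveI : IsClosedImmersion (incl.left ≫ n.left) := by rw [← Over.comp_left, hincl]; exact hi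
    exact IsClosedImmersion.of_comp incl.left n.left
  have hnormal : AlgGrp.IsNormalHom (j ≫ incl) := fun T g x => by
    obtain ⟨⟨x', hx'⟩, -⟩ := (hNpts T (g ≫ n)).1 ⟨g, rfl⟩ T (𝟙 T) x
    rw [Category.id_comp, show x ≫ j ≫ i = (x ≫ j ≫ incl) ≫ n by simp [hincl]] at hx'
    exact ⟨x', by rw [← cancel_mono n, MonObj.mul_comp, MonObj.mul_comp, GrpObj.inv_comp, hx']; simp [hincl]⟩
  -- the fibre
  let F : Over (Spec (CommRingCat.of k)) := pullback f o₂
  let qF : N ⟶ F := pullback.lift (n ≫ a₁.orbitMap o₁) (toUnit N) (by rw [Category.assoc, hf, sqN.w])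
  have sqF : IsPullback n qF (a₁.orbitMap o₁) (pullback.fst f o₂) := by
    have outer : IsPullback (qF ≫ pullback.snd f o₂) n o₂ (a₁.orbitMap o₁ ≫ f) := by
      rw [hf, toUnit_unique (qF ≫ pullback.snd f o₂) (toUnit N)]; exact sqN.flip
    exact (IsPullback.of_right outer (pullback.lift_fst _ _ _) (IsPullback.of_hasPullback f o₂).flip).flip
  have sqF' := (sqF.map (Over.forget _))
  haveI : Mono incl := mono_of_mono_fac hincl
  have hF : RedSub.IsQuotient incl qF := by
    refine RedQuot.isQuotient_of_points incl qF (MorphismProperty.of_isPullback sqF' hs₁)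
      (MorphismProperty.of_isPullback sqF' hf₁) (MorphismProperty.of_isPullback sqF' hfp₁)
      (fun T a h => ?_) fun T a b hab => ?_
    · refine pullback.hom_ext ?_ (toUnit_unique _ _)
      simp only [qF, Category.assoc, pullback.lift_fst]
      rw [← Category.assoc, MonObj.mul_comp, Category.assoc h, hincl, RedQuot.mul_comp hr₁, Category.assoc]
    · have e := congrArg (· ≫ pullback.fst f o₂) hab
      simp only [qF, Category.assoc, pullback.lift_fst] at e
      obtain ⟨x, hx⟩ := RedQuot.exists_mul_eq hr₁ (a := a ≫ n) (b := b ≫ n) (by simpa using e)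
      exact ⟨x, by rw [← cancel_mono n, MonObj.mul_comp, Category.assoc, hincl, hx]⟩
  haveI : Mono incl := mono_of_mono_fac hincl
  haveI : IsAffine F.left := AGF20Lib.FiniteIndexQuot.isAffine_quot incl j hnormal qF hF
  -- equivariance
  have hw : ∀ {T : Over (Spec (CommRingCat.of k))} (g : T ⟶ G) (y : T ⟶ Q₁),
      (lift g y ≫ a₁.act) ≫ f = lift g (y ≫ f) ≫ a₂.act := fun {T} g y => by
    obtain ⟨T', c, a', hc, ha'⟩ := RedQuot.exists_lift hr₁ y
    haveI := hc.over_epi
    rw [← cancel_epi c, ← Category.assoc c, ← Category.assoc c, comp_lift, ← Category.assoc c, comp_lift,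
      ← Category.assoc c y, ← ha', GrpSchLib.comp_orbitMap, GrpSchLib.act_mul, ← GrpSchLib.comp_orbitMap,
      Category.assoc, hf, GrpSchLib.comp_orbitMap, ← GrpSchLib.comp_orbitMap a₁, Category.assoc a', hf,
      GrpSchLib.comp_orbitMap, GrpSchLib.act_mul]
  let ψ : G ⊗ F ⟶ Q₁ := lift (fst G F) (snd G F ≫ pullback.fst f o₂) ≫ a₁.act
  have sq2 : IsPullback ψ (fst G F) f (a₂.orbitMap o₂) := by
    have hc : ψ ≫ f = fst G F ≫ a₂.orbitMap o₂ := by
      rw [hw, GrpSchLib.comp_orbitMap, Category.assoc, pullback.condition, ← Category.assoc,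
        toUnit_unique (snd G F ≫ pullback.snd f o₂) (toUnit _)]
    have hst : ∀ s : PullbackCone f (a₂.orbitMap o₂),
        (lift s.snd⁻¹ s.fst ≫ a₁.act) ≫ f = toUnit _ ≫ o₂ := fun s => by
      rw [hw, s.condition, GrpSchLib.comp_orbitMap, GrpSchLib.act_mul, inv_mul_cancel, GrpSchLib.act_one]
    refine ⟨⟨hc⟩, ⟨PullbackCone.IsLimit.mk _ (fun s => lift s.snd (pullback.lift _ _ (hst s))) (fun s => ?_)
      (fun s => lift_fst _ _) (fun s m h1 h2 => ?_)⟩⟩
    · rw [← Category.assoc, comp_lift, lift_fst, ← Category.assoc, lift_snd, pullback.lift_fst, GrpSchLib.act_mul,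
        mul_inv_cancel, GrpSchLib.act_one]
    · apply CartesianMonoidalCategory.hom_ext
      · rw [h2, lift_fst]
      · rw [lift_snd]
        refine pullback.hom_ext ?_ (toUnit_unique _ _)
        rw [pullback.lift_fst, ← h1, ← h2, ← Category.assoc m, comp_lift, GrpSchLib.act_mul, inv_mul_cancel,
          GrpSchLib.act_one, Category.assoc]
  haveI : IsAffineHom F.hom := inferInstance
  haveI : IsAffineHom (fst G F).left := MorphismProperty.pullback_fst (P := @IsAffineHom) G.hom F.hom ‹_›
  haveI := EtFound.fpqc_isAffineHom.{u}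
  exact MorphismProperty.of_isPullback_of_descendsAlong (P := @IsAffineHom)
    (Q := @Surjective ⊓ @Flat ⊓ @QuasiCompact) (sq2.map (Over.forget _)).flip ⟨⟨hs₂, hf₂⟩, hqc₂⟩
    (inferInstanceAs (IsAffineHom (fst G F).left))

end Groth.Agent.S17480
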