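import Groth.Statements.S17482
import Groth.Agent.AffCompl.AmpleConn
import Groth.Agent.PnCoh.Chow.Proper

set_option autoImplicit false
set_option linter.style.haveILetI false
set_option backward.isDefEq.respectTransparency false
set_option backward.isDefEq.respectTransparency.types false
set_option maxHeartbeats 1000000
universe u
open CategoryTheory CategoryTheory.Limits AlgebraicGeometry
open Surf

open TopologicalSpace
open Groth.Agent Groth.Agent.H23

namespace Groth.Agent.S17482

/-- Let k be an algebraically closed field of characteristic zero and X a smooth projective surface over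
k (an integral scheme of dimension two with all local rings regular, admitting a closed immersion
into some P^n_k over k) such that H^1(X, O_X) = 0. Let D be a nonempty closed subscheme of X, given
by a quasi-coherent ideal sheaf whose associated O_X-module I_D is invertible (a nonzero effective
divisor). If H^1(X, I_D) = 0, then D is connected. (The published statement is for rational
surfaces; this row assumes only H^1(X, O_X) = 0. Since H^1(X, I_D) depends only on the isomorphism
class of I_D, the same holds for every effective divisor linearly equivalent to D.) -/
theorem result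
    (k : Type u) [Field k] [IsAlgClosed k] [CharZero k]
    (X : Scheme.{u}) [X.Over (Spec (CommRingCat.of k))] [AlgebraicGeometry.IsIntegral X]
    (hdim : topologicalKrullDim X = 2) (hreg : ∀ x : X, IsRegularLocalRing (X.presheaf.stalk x))
    (hproj : ∃ (n : ℕ) (ι : X ⟶ CohB1.ProjSpace n k), IsClosedImmersion ι ∧
      ι ≫ CohB1.ProjSpace.toSpec n k = (X ↘ (Spec (CommRingCat.of k))))
    (hH1 : Subsingleton (Coh.HH X (Coh.structureModule X) 1))
    (D : X.IdealSheafData) (hD : PicF.IsInvertible (ClSub.idealMod D)) (hne : Nonempty ↥D.subscheme)
    (hvan : Subsingleton (Coh.HH X (ClSub.idealMod D) 1)) :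
    ConnectedSpace ↥D.subscheme := by
  obtain ⟨n, ι₀, hι₀, hfac⟩ := hproj
  haveI := hι₀
  haveI := PnCoh.Chow.isProper_toSpec n k
  haveI : IsProper (X ↘ Spec (CommRingCat.of k)) := by rw [← hfac]; infer_instance
  have hsurj := AffCompl.surjective_of_subsingleton k D hvan
  letI := (isField_of_universallyClosed k (X ↘ Spec (CommRingCat.of k))).toField
  haveI : Nonempty ((⊤ : D.subscheme.Opens)) := ⟨⟨Classical.arbitrary _, trivial⟩⟩
  haveI : IsLocalRing Γ(D.subscheme, ⊤) := IsLocalRing.of_surjective' (D.subschemeι.app ⊤).hom hsurj
  exact ZarConn.connectedSpace_of_isLocalRing D.subscheme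

end Groth.Agent.S17482
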