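import Groth.Statements.S17483
import Groth.Agent.Lib.CurveOnSurf
import Groth.Agent.PnCoh.Chow.Proper
import Groth.Agent.GeomField.Reduced
import Groth.Agent.S1536
import Groth.Agent.S2501

set_option autoImplicit false
set_option linter.style.haveILetI false
set_option backward.isDefEq.respectTransparency false
set_option backward.isDefEq.respectTransparency.types false
set_option maxHeartbeats 1000000
universe u
open CategoryTheory CategoryTheory.Limits AlgebraicGeometry
open Surf

open TopologicalSpace
open Groth.Agent Groth.Agent.H23

namespace Groth.Agent.S17483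

/-- Let k be an algebraically closed field of characteristic zero and X a smooth projective surface over
k (an integral scheme of dimension two with all local rings regular, admitting a closed immersion
into some P^n_k over k) such that H^1(X, O_X) = 0. Let D be a closed subscheme of X, given by a
quasi-coherent ideal sheaf whose associated O_X-module I_D is invertible (an effective divisor). If
D is connected and reduced, then H^1(X, I_D) = 0. (The published statement asserts H^1(X, I_D) = 0
as soon as the linear system of D contains a connected curve, without reducedness; that fails: on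
the blow-up of the projective plane at a point, with exceptional curve E, the divisor D = 2E is
connected and is the only member of its linear system, yet H^0(O_{2E}) is three-dimensional, so
H^1(X, I_{2E}) is two-dimensional. The published statement is for rational surfaces; this row
assumes H^1(X, O_X) = 0 instead.) -/
theorem result
    (k : Type u) [Field k] [IsAlgClosed k] [CharZero k]
    (X : Scheme.{u}) [X.Over (Spec (CommRingCat.of k))] [AlgebraicGeometry.IsIntegral X]
    (hdim : topologicalKrullDim X = 2) (hreg : ∀ x : X, IsRegularLocalRing (X.presheaf.stalk x))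
    (hproj : ∃ (n : ℕ) (ι : X ⟶ CohB1.ProjSpace n k), IsClosedImmersion ι ∧
      ι ≫ CohB1.ProjSpace.toSpec n k = (X ↘ (Spec (CommRingCat.of k))))
    (hH1 : Subsingleton (Coh.HH X (Coh.structureModule X) 1))
    (D : X.IdealSheafData) (hD : PicF.IsInvertible (ClSub.idealMod D))
    [ConnectedSpace ↥D.subscheme] [IsReduced D.subscheme] :
    Subsingleton (Coh.HH X (ClSub.idealMod D) 1) := by
  obtain ⟨n, ι₀, hι₀, hfac⟩ := hproj
  haveI := hι₀
  haveI := PnCoh.Chow.isProper_toSpec n k
  haveI : IsProper (X ↘ Spec (CommRingCat.of k)) := by rw [← hfac]; infer_instance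
  let f := X ↘ Spec (CommRingCat.of k)
  haveI := CurveCohLib.isNoetherian_of_proper (k := k) (X := X)
  let W := D.subscheme
  letI : W.Over (Spec (CommRingCat.of k)) := ⟨D.subschemeι ≫ f⟩
  haveI : IsProper (W ↘ Spec (CommRingCat.of k)) := inferInstanceAs (IsProper (D.subschemeι ≫ f))
  haveI : GeometricallyReduced (W ↘ Spec (CommRingCat.of k)) :=
    (GeomField.geometricallyReduced_iff (k := k) (X := W)).2 fun x => GeomField.isGeomReducedAt_of_perfect x
  haveI := Groth.Agent.S2501.result (W ↘ Spec (CommRingCat.of k))
  have h1 := Groth.Agent.S1536.result k W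
  obtain ⟨b⟩ := DivisorExt.nonempty_quotMod_iso D.subschemeι
  rw [Scheme.IdealSheafData.ker_subschemeι] at b
  obtain ⟨e⟩ := PnCoh.exists_linearEquiv_push k D.subschemeι (rfl : D.subschemeι ≫ f = _)
    (QCoh.isQCoh_structureModule (X := W)) 0
  have hK : Module.finrank k (Coh.HH X (ClSub.quotMod D) 0) = 1 :=
    ((CurveCohLib.hhEquiv (k := k) b 0).trans e.symm).finrank_eq.trans h1
  have hS := DivisorExt.ideal_shortExact D
  haveI := CurveCohLib.finite_HH (k := k) (X := X) (ParShLib.isCoh_quotMod D) 0
  have hr : LinearMap.range (PnCoh.Finite.mapLin k (ClSub.toSubscheme D) 0) = ⊤ := by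
    refine Submodule.eq_top_of_finrank_eq (le_antisymm (Submodule.finrank_le _) (hK.le.trans ?_))
    rw [Submodule.one_le_finrank_iff, Ne, LinearMap.range_eq_bot]
    exact CurveOnSurf.mapLin_toSubscheme_ne_zero D
  have h0 : PnCoh.Finite.deltaLin k hS 0 = 0 := LinearMap.ker_eq_top.1 ((CurveCohLib.ker_deltaLin k hS 0).trans hr)
  have h2 := CurveCohLib.ker_mapLin_f_succ k hS 0
  rw [h0, LinearMap.range_zero] at h2
  exact (LinearMap.ker_eq_bot.1 h2).subsingleton

end Groth.Agent.S17483
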