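import Groth.Statements.S17486
import Groth.Agent.H9Misc.FittBound
import Groth.Agent.KZ.OpenExt

set_option autoImplicit false
universe u
open CategoryTheory CategoryTheory.Limits AlgebraicGeometry
open Coherent

namespace Groth.Agent.S17486

/-- Let k be an algebraically closed field of characteristic zero and Y a smooth projective variety over
k (an integral scheme, smooth over k, with a closed immersion into some P^n_k over k). Let A = A₁ ⊕
A₂ and B = B₁ ⊕ B₂ be finite locally free O_Y-modules with A_i of rank a_i ≥ 1 and B_j of rank b_j ≥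
1, a₁ + a₂ ≤ b₁ + b₂, such that the sheaves Hom(A₁, B₁), Hom(A₁, B₂), Hom(A₂, B₂) (right adjoints of
A_i ⊗ -, whose existence is the stated instance hypothesis; it holds) are globally generated while
every morphism A₂ → B₁ is zero (the sheaf Hom(A₂, B₁) has no nonzero global section). For φ : A → B
let Z(φ) ⊆ Y be the closed set where φ drops rank, i.e. where the rank of φ on fibres is less than
a₁ + a₂: the zero set of the (b₁ + b₂ - a₁ - a₂)-th Fitting ideal sheaf of the cokernel of φ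
(locally generated by the maximal minors of φ). If b₂ < a₂, then every φ : A → B drops rank at every
point of Y, i.e. Z(φ) = Y. -/
theorem result
    (k : Type u) [Field k] [IsAlgClosed k] [CharZero k]
    (Y : Scheme.{u}) [Y.Over (Spec (CommRingCat.of k))] [AlgebraicGeometry.IsIntegral Y]
    [Smooth (Y ↘ Spec (CommRingCat.of k))]
    (hproj : ∃ (N : ℕ) (ι : Y ⟶ CohB1.ProjSpace N k), IsClosedImmersion ι ∧
      ι ≫ CohB1.ProjSpace.toSpec N k = (Y ↘ (Spec (CommRingCat.of k))))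
    (A₁ A₂ B₁ B₂ : Y.Modules) (a₁ a₂ b₁ b₂ : ℕ)
    (hA₁ : FlatMod.IsFinLocFreeOfRank a₁ A₁) (hA₂ : FlatMod.IsFinLocFreeOfRank a₂ A₂)
    (hB₁ : FlatMod.IsFinLocFreeOfRank b₁ B₁) (hB₂ : FlatMod.IsFinLocFreeOfRank b₂ B₂)
    (ha₁ : 1 ≤ a₁) (ha₂ : 1 ≤ a₂) (hb₁ : 1 ≤ b₁) (hb₂ : 1 ≤ b₂) (hab : a₁ + a₂ ≤ b₁ + b₂)
    [DCoh.HasSheafHom A₁] [DCoh.HasSheafHom A₂]
    (h₁₁ : Curv2.IsGloballyGenerated ((DCoh.sheafHom A₁).obj B₁))
    (h₁₂ : Curv2.IsGloballyGenerated ((DCoh.sheafHom A₁).obj B₂))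
    (h₂₂ : Curv2.IsGloballyGenerated ((DCoh.sheafHom A₂).obj B₂))
    (h₂₁ : ∀ ψ : A₂ ⟶ B₁, ψ = 0) (hlt : b₂ < a₂) (φ : (A₁ ⊞ A₂) ⟶ (B₁ ⊞ B₂)) :
    (((Fitt.sheafIdeal (cokernel φ) (b₁ + b₂ - (a₁ + a₂))).support : TopologicalSpace.Closeds Y) : Set Y) = Set.univ := by
  haveI : IsLocallyNoetherian Y :=
    LocallyOfFiniteType.isLocallyNoetherian (Y ↘ Spec (CommRingCat.of k))
  have key : ∀ {r : ℕ} {M : Y.Modules}, FlatMod.IsFinLocFreeOfRank r M → Coh.IsCoh M :=
    fun h => Groth.Agent.QCoh.isCoh_iff_isFP.2 (Groth.Agent.QCoh.isFP_of_isFinLocFree fun x =>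
      let ⟨U, hU, he⟩ := h x
      ⟨U, _, hU, he⟩)
  have hA : Coh.IsCoh (A₁ ⊞ A₂) := Groth.Agent.KZ.isCoh_biprod (key hA₁) (key hA₂)
  have hB : Coh.IsCoh (B₁ ⊞ B₂) := Groth.Agent.KZ.isCoh_biprod (key hB₁) (key hB₂)
  have hC := Groth.Agent.QCoh.isCoh_cokernel hA.1 hB φ
  let u : A₁ ⟶ B₁ := biprod.inl ≫ φ ≫ biprod.fst
  have hzero : φ ≫ biprod.fst ≫ cokernel.π u = 0 := by
    apply biprod.hom_ext'
    · rw [comp_zero]
      have h := cokernel.condition u
      simp only [u, Category.assoc] at h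
      exact h
    · rw [comp_zero, ← Category.assoc φ, ← Category.assoc, h₂₁ (biprod.inr ≫ φ ≫ biprod.fst),
        zero_comp]
  let q : cokernel φ ⟶ cokernel u := cokernel.desc φ (biprod.fst ≫ cokernel.π u) hzero
  haveI : Epi q := by
    haveI : Epi (biprod.fst ≫ cokernel.π u : (B₁ ⊞ B₂) ⟶ cokernel u) := epi_comp _ _
    exact epi_of_epi_fac (cokernel.π_desc φ (biprod.fst ≫ cokernel.π u) hzero)
  refine Set.eq_univ_of_forall fun x => ?_
  by_contra hx
  obtain ⟨U, hxU, p, hp⟩ := (Groth.Agent.FittX.generated_iff hC.1 hC.2 x _).2 hx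
  haveI := hp
  haveI : (Scheme.Modules.restrictFunctor U.ι).PreservesEpimorphisms :=
    Functor.preservesEpimorphisms_of_adjunction (Scheme.Modules.restrictAdjunction U.ι)
  exact Groth.Agent.H9Misc.FittBound.not_generated_cokernel hA₁ hB₁ (key hA₁).1 (key hB₁).1 u
    (by omega) x U hxU (p ≫ (Scheme.Modules.restrictFunctor U.ι).map q) (epi_comp _ _)

end Groth.Agent.S17486
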