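import Groth.Statements.S1750
import Groth.Agent.LC.GorHullBC

set_option autoImplicit false
universe u
open InjHull

namespace Groth.Agent.S1750

/-- Let R → S be a flat local homomorphism of Noetherian local rings with m_R S = m_S inducing a
bijection on residue fields. If κ_S → E is an injective hull of the residue field of S over S, then
E regarded as an R-module is an injective hull of the residue field of R (for a suitable R-linear
map κ_R → E). -/
theorem result (R S : Type u) [CommRing R] [CommRing S] [IsLocalRing R] [IsLocalRing S] [IsNoetherianRing R] [IsNoetherianRing S] [Algebra R S] [IsLocalHom (algebraMap R S)] [Module.Flat R S] (hm : (IsLocalRing.maximalIdeal R).map (algebraMap R S) = IsLocalRing.maximalIdeal S) (hk : Function.Bijective (IsLocalRing.ResidueField.map (algebraMap R S))) (E : Type u) [AddCommGroup E] [Module S E] [Module R E] [IsScalarTower R S E] (f : IsLocalRing.ResidueField S →ₗ[S] E) (hf : InjHull.IsInjectiveHull f) : ∃ g : IsLocalRing.ResidueField R →ₗ[R] E, InjHull.IsInjectiveHull g := by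
  exact Groth.Agent.LC.exists_hull_of_restrict R S hm hk E f hf

end Groth.Agent.S1750
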