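import Groth.Statements.S17500
import Mathlib

set_option autoImplicit false
universe u
open TorsMod

namespace Groth.Agent.S17500

/-- Let p be a prime number, n a natural number and H a module over ℤ/p^nℤ. Then H is flat over ℤ/p^nℤ
if and only if, for every i with 0 ≤ i ≤ n, the kernel of multiplication by p^i on H coincides with
the image of multiplication by p^(n-i) on H. (The published item is phrased for an fppf sheaf of
ℤ/p^nℤ-modules on a scheme; this is the case of a single module, which is the case the argument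
treats.) -/
theorem result (p n : ℕ) [Fact p.Prime]
    (H : Type u) [AddCommGroup H] [Module (ZMod (p ^ n)) H] :
    Module.Flat (ZMod (p ^ n)) H ↔
      ∀ i : ℕ, i ≤ n →
        LinearMap.ker ((p ^ i : ZMod (p ^ n)) • (LinearMap.id : H →ₗ[ZMod (p ^ n)] H)) =
          LinearMap.range ((p ^ (n - i) : ZMod (p ^ n)) • (LinearMap.id : H →ₗ[ZMod (p ^ n)] H)) := by
  open TensorProduct in
  classical
  set R := ZMod (p ^ n)
  have hpn : ((p : R)) ^ n = 0 := by
    rw [← Nat.cast_pow]; exact ZMod.natCast_self _
  have hp0 : (p : ℤ) ≠ 0 := by exact_mod_cast (Fact.out : p.Prime).ne_zero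
  constructor
  · intro hflat i hi
    have hex : Function.Exact ((p ^ (n - i) : R) • (LinearMap.id : R →ₗ[R] R))
        ((p ^ i : R) • (LinearMap.id : R →ₗ[R] R)) := by
      intro r
      simp only [LinearMap.smul_apply, LinearMap.id_apply, smul_eq_mul, Set.mem_range]
      constructor
      · intro hr
        obtain ⟨z, rfl⟩ := ZMod.intCast_surjective r
        have hr' : (((p : ℤ) ^ i * z : ℤ) : R) = 0 := by
          rw [Int.cast_mul, Int.cast_pow, Int.cast_natCast]; exact hr
        rw [ZMod.intCast_zmod_eq_zero_iff_dvd] at hr'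
        have hd : (p : ℤ) ^ i * (p : ℤ) ^ (n - i) ∣ (p : ℤ) ^ i * z := by
          rw [← pow_add, Nat.add_sub_cancel' hi]; exact_mod_cast hr'
        obtain ⟨w, hw⟩ := (mul_dvd_mul_iff_left (pow_ne_zero i hp0)).mp hd
        exact ⟨(w : R), by rw [hw]; push_cast; ring⟩
      · rintro ⟨w, rfl⟩
        rw [← mul_assoc, ← pow_add, Nat.add_sub_cancel' hi, hpn, zero_mul]
    have h2 := Module.Flat.rTensor_exact H hex
    ext x
    rw [LinearMap.mem_ker, LinearMap.mem_range]
    let e := TensorProduct.lid R H
    have hc : ∀ (c : R) (t), e ((c • (LinearMap.id : R →ₗ[R] R)).rTensor H t) = c • e t := by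
      intro c t
      rw [LinearMap.rTensor_smul, LinearMap.rTensor_id, LinearMap.smul_apply, LinearMap.id_apply, map_smul]
    constructor
    · intro hx
      obtain ⟨y, hy⟩ := (h2 (e.symm x)).mp (e.injective (by
        rw [hc, LinearEquiv.apply_symm_apply, map_zero]; exact hx))
      exact ⟨e y, by simpa [hc] using congrArg e hy⟩
    · rintro ⟨y, rfl⟩
      simp only [LinearMap.smul_apply, LinearMap.id_apply, smul_smul]
      rw [← pow_add, Nat.add_sub_cancel' hi, hpn, zero_smul]
  · intro h
    rw [Module.Flat.iff_rTensor_injective']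
    have key : ∀ (J : Ideal R) (a : ↥J) (x : H),
        TensorProduct.lid R H (LinearMap.rTensor H (Submodule.subtype J) (a ⊗ₜ[R] x)) = (a : R) • x :=
      fun J a x => by simp
    intro I
    obtain ⟨d, hd⟩ := (IsPrincipalIdealRing.principal (I.comap (Int.castRingHom R))).principal
    have hI : I = Ideal.span {((d : ℤ) : R)} := by
      rw [← Ideal.map_comap_of_surjective (Int.castRingHom R) ZMod.intCast_surjective I, hd,
        Ideal.submodule_span_eq, Ideal.map_span, Set.image_singleton]
      rfl
    have hdvd : d ∣ ((p ^ n : ℕ) : ℤ) := by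
      have : ((p ^ n : ℕ) : ℤ) ∈ I.comap (Int.castRingHom R) := by
        rw [Ideal.mem_comap, eq_intCast, Int.cast_natCast, ZMod.natCast_self]; exact I.zero_mem
      rw [hd, Ideal.submodule_span_eq, Ideal.mem_span_singleton] at this
      exact this
    obtain ⟨i, hi, hdi⟩ := (Nat.dvd_prime_pow Fact.out).mp (Int.natCast_dvd_natCast.mp
      (Int.natAbs_dvd.mpr hdvd) : d.natAbs ∣ p ^ n)
    have hI' : I = Ideal.span {((p : R) ^ i)} := by
      rw [hI]
      rcases Int.natAbs_eq d with e | e <;> rw [e, hdi] <;> push_cast <;> simp [Ideal.span_singleton_neg]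
    subst hI'
    rw [injective_iff_map_eq_zero]
    intro t ht
    let g : ↥(Ideal.span {((p : R) ^ i)}) := ⟨_, Ideal.mem_span_singleton_self _⟩
    have hgen : ∀ t : ↥(Ideal.span {((p : R) ^ i)}) ⊗[R] H, ∃ x : H, t = g ⊗ₜ x := by
      intro t
      induction t using TensorProduct.induction_on with
      | zero => exact ⟨0, (TensorProduct.tmul_zero _ _).symm⟩
      | tmul a x =>
        obtain ⟨c, hc⟩ := Ideal.mem_span_singleton'.mp a.2
        refine ⟨c • x, ?_⟩
        rw [← TensorProduct.smul_tmul]
        congr 1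
        exact Subtype.ext (by simpa [g] using hc.symm)
      | add a b ha hb =>
        obtain ⟨x, rfl⟩ := ha
        obtain ⟨y, rfl⟩ := hb
        exact ⟨x + y, (TensorProduct.tmul_add _ _ _).symm⟩
    obtain ⟨x, rfl⟩ := hgen t
    have hx : (p : R) ^ i • x = 0 := by
      exact (key _ g x).symm.trans ((congrArg (TensorProduct.lid R H) ht).trans (map_zero _))
    have hk : x ∈ LinearMap.ker ((p ^ i : R) • (LinearMap.id : H →ₗ[R] H)) := by simpa using hx
    rw [h i hi] at hk
    obtain ⟨y, rfl⟩ := hk
    rw [LinearMap.smul_apply, LinearMap.id_apply, ← TensorProduct.smul_tmul]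
    have : ((p : R) ^ (n - i)) • g = 0 := by
      apply Subtype.ext
      change (p : R) ^ (n - i) * (p : R) ^ i = 0
      rw [← pow_add, Nat.sub_add_cancel hi, hpn]
    rw [this, TensorProduct.zero_tmul]

end Groth.Agent.S17500
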