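import Groth.Statements.S17508
import Groth.Agent.Lib.AVDuality
import Groth.Agent.Snapper.DimVanish
import Groth.Agent.H23.PicInv
import Groth.Agent.AlgStLib.Noetherian

set_option autoImplicit false
set_option backward.isDefEq.respectTransparency false
set_option backward.isDefEq.respectTransparency.types false
set_option linter.style.haveILetI false
set_option linter.unusedSectionVars false
set_option maxHeartbeats 400000
universe u
open CategoryTheory CategoryTheory.Limits MonoidalCategory CartesianMonoidalCategory MonObj GrpObj AlgebraicGeometry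
open AbVar

namespace Groth.Agent.S17508

/-- Let X be an abelian variety over a field k (a proper, geometrically integral k-group scheme) whose
underlying space has Krull dimension g, let L be an invertible O_X-module with an inverse L' (an
O_X-module with L ⊗ L' ≅ O_X), and let i be a natural number such that H^j(X, L) = 0 for j ≠ i and
H^i(X, L) ≠ 0. Then i ≤ g, H^j(X, L') = 0 for j ≠ g − i and H^{g−i}(X, L') ≠ 0: the index of the
inverse bundle is g − i(L). (Non-degeneracy with index i is expressed by the equivalent condition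
that the cohomology is concentrated in degree i and non-zero there.) -/
theorem result
    (k : Type u) [Field k] (X : Over (Spec (CommRingCat.of k))) [GrpObj X] [IsProper X.hom] [GeometricallyIntegral X.hom]
    (g : ℕ) (hg : topologicalKrullDim ↥X.left = g)
    (L L' : X.left.Modules) (hL : PicF.IsInvertible L)
    (hL' : Nonempty (CohB1.tensorMod L L' ≅ Coh.structureModule X.left)) (i : ℕ)
    (hvan : ∀ j : ℕ, j ≠ i → Subsingleton (Coh.HH X.left L j)) (hne : Nontrivial (Coh.HH X.left L i)) :
    i ≤ g ∧ (∀ j : ℕ, j ≠ g - i → Subsingleton (Coh.HH X.left L' j)) ∧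
      Nontrivial (Coh.HH X.left L' (g - i)) := by
  haveI : IsIntegral X.left := GeometricallyIntegral.isIntegral_of_subsingleton X.hom
  haveI : IsLocallyNoetherian X.left := LocallyOfFiniteType.isLocallyNoetherian X.hom
  haveI : LocallyOfFinitePresentation X.hom :=
    Groth.Agent.AlgStLib.locallyOfFinitePresentation_of_isLocallyNoetherian X.hom inferInstance
  haveI : Flat X.hom := inferInstance
  haveI : Smooth X.hom := Groth.Agent.S7795.result X
  haveI : SmoothOfRelativeDimension g X.hom := Groth.Agent.CurveFin.smoothOfRelativeDimension_of_dim X.hom hg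
  have hv : ∀ {M : X.left.Modules}, Coh.IsQCoh M → ∀ j, g < j → Subsingleton (Coh.HH X.left M j) := fun hM j hj =>
    haveI : X.left.IsSeparated := ⟨by rw [← Limits.terminal.comp_from X.hom]; infer_instance⟩
    haveI : CompactSpace X.left := QuasiCompact.compactSpace_of_compactSpace X.hom
    haveI : AlgebraicGeometry.IsNoetherian X.left := {}
    Groth.Agent.Snapper.subsingleton_HH_of_dim_le (d := g) (by rw [hg]) hM hj
  obtain ⟨D, hD, eD⟩ := Groth.Agent.H23.PicInv.exists_inverse hL
  letI := fun (Y : Scheme.{u}) => Groth.Agent.H23.PicMul.clMonoid (X := Y)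
  have h₁ : PicF.cl L * PicF.cl D = 1 := by
    rw [← Groth.Agent.H23.PicMul.cl_tensor, Groth.Agent.H23.PicMul.one_def]
    exact Groth.Agent.H23.PicMul.cl_eq_iff.2 eD
  have h : PicF.cl L * PicF.cl L' = 1 := by
    rw [← Groth.Agent.H23.PicMul.cl_tensor, Groth.Agent.H23.PicMul.one_def]
    exact Groth.Agent.H23.PicMul.cl_eq_iff.2 hL'
  obtain ⟨e⟩ := Groth.Agent.H23.PicMul.cl_eq_iff.1 (show PicF.cl D = PicF.cl L' by
    rw [← _root_.one_mul (PicF.cl D), ← h, mul_comm (PicF.cl L), _root_.mul_assoc, h₁, _root_.mul_one])
  have hL'i : PicF.IsInvertible L' := Groth.Agent.H23.PicMul.isInvertible_of_iso e hD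
  have hig : i ≤ g := not_lt.1 fun hlt =>
    (not_subsingleton_iff_nontrivial.2 hne) (hv (Groth.Agent.CurveDeg.isCoh_of_isInvertible hL).1 i hlt)
  refine ⟨hig, fun j hj => ?_, ?_⟩
  · rcases le_or_gt j g with hjg | hjg
    · obtain ⟨p, hp, rfl⟩ : ∃ p, p ≤ g ∧ j = g - p := ⟨g - j, by omega, by omega⟩
      exact (Groth.Agent.AVDuality.subsingleton_HH_dual g hL hL'i h p hp).2 (hvan p (by rintro rfl; exact hj rfl))
    · exact hv (Groth.Agent.CurveDeg.isCoh_of_isInvertible hL'i).1 j hjg
  · rw [← not_subsingleton_iff_nontrivial, Groth.Agent.AVDuality.subsingleton_HH_dual g hL hL'i h i hig]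
    exact not_subsingleton_iff_nontrivial.2 hne

end Groth.Agent.S17508
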