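import Groth.Statements.S17501
import Groth.Agent.Lib.AVIndexJump
import Groth.Agent.Lib.AVDuality
import Groth.Agent.S17508

set_option autoImplicit false
set_option backward.isDefEq.respectTransparency false
set_option backward.isDefEq.respectTransparency.types false
set_option linter.style.haveILetI false
set_option linter.unusedSectionVars false
set_option maxHeartbeats 400000
universe u
open CategoryTheory CategoryTheory.Limits MonoidalCategory CartesianMonoidalCategory MonObj GrpObj AlgebraicGeometry
open AbVar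

namespace Groth.Agent.S17501

open Groth.Agent Groth.Agent.H23
open scoped Groth.Agent.H23.PicMul

/-- Let X be an abelian variety over a field k (a proper, geometrically integral k-group scheme), let L
be an invertible O_X-module and i a natural number such that the cohomology of L is concentrated in
degree i: H^j(X, L) = 0 for j ≠ i and H^i(X, L) ≠ 0, let H be an ample invertible O_X-module, and
let Φ be a polynomial with rational coefficients such that Φ(n) = χ(X, L ⊗ H^{⊗ n}) for every
natural number n (the Hilbert polynomial of L with respect to H). Then all complex roots of Φ are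
real — the number of real roots of Φ counted with multiplicity equals its degree — and i equals the
number of positive real roots of Φ counted with multiplicity. (A line bundle on an abelian variety
is non-degenerate with index i exactly when its cohomology vanishes outside degree i and is non-zero
in degree i; this is how non-degeneracy and the index are expressed here.) -/
theorem result
    (k : Type u) [Field k] (X : Over (Spec (CommRingCat.of k))) [GrpObj X] [IsProper X.hom] [GeometricallyIntegral X.hom]
    (L : X.left.Modules) (hL : PicF.IsInvertible L) (i : ℕ)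
    (hvan : ∀ j : ℕ, j ≠ i → Subsingleton (Coh.HH X.left L j)) (hne : Nontrivial (Coh.HH X.left L i))
    (H : X.left.Modules) (hH : CohB1.IsAmple H)
    (Φ : Polynomial ℚ)
    (hΦ : ∀ n : ℕ, Φ.eval (n : ℚ) =
      (@Curv2.euler k _ X.left ⟨X.hom⟩ (CohB1.tensorMod L (CohB1.tensorPow H n)) : ℚ)) :
    Multiset.card (Φ.map (algebraMap ℚ ℝ)).roots = Φ.natDegree ∧
      i = Multiset.card ((Φ.map (algebraMap ℚ ℝ)).roots.filter (fun t => 0 < t)) := by
  classical
  obtain ⟨g, hg⟩ := AVTors.exists_dimNat X
  haveI : IsIntegral X.left := GeometricallyIntegral.isIntegral_of_subsingleton X.hom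
  letI : X.left.Over (Spec (CommRingCat.of k)) := ⟨X.hom⟩
  have hc : AVIndexStable.Conc X L i := AVIndexStable.conc_of (AVIndexStable.isCoh hL) hvan hne
  let P := Φ.map (algebraMap ℚ ℝ)
  have hpos := AVIndexJump.index_le_pos_roots hL hH hc Φ hΦ
  obtain ⟨D, hD, eD⟩ := PicInv.exists_inverse hH.1
  obtain ⟨L', hL', eL'⟩ := PicInv.exists_inverse hL
  obtain ⟨hig, hv', hn'⟩ := S17508.result k X g hg L L' hL eL' i hvan hne
  have hHD : PicF.cl H * PicF.cl D = 1 := by
    rw [← PicMul.cl_tensor, PicMul.one_def]
    exact (PicGrp.cl_eq_cl_iff _ _).2 eD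
  have hLL : PicF.cl L * PicF.cl L' = 1 := by
    rw [← PicMul.cl_tensor, PicMul.one_def]
    exact (PicGrp.cl_eq_cl_iff _ _).2 eL'
  -- the degree is at most g and the values at negative integers
  have hneg : ∀ m : ℕ, Φ.natDegree ≤ g ∧
      Φ.eval (-(m : ℚ)) = (@Curv2.euler k _ X.left ⟨X.hom⟩ (CohB1.tensorMod L (CohB1.tensorPow D m)) : ℚ) := by
    intro m
    let L₀ := CohB1.tensorMod L (CohB1.tensorPow D m)
    have hL₀ : PicF.IsInvertible L₀ := PicMul.isInvertible_tensor hL (PicMul.isInvertible_tensorPow hD m)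
    obtain ⟨Q, hQd, hQ⟩ := AVEulerHomog.exists_poly g hg hL₀ hH.1
    let Φ₀ : Polynomial ℚ := MvPolynomial.aeval ![1, Polynomial.X] Q
    have hev : ∀ n : ℕ, Φ₀.eval (n : ℚ) =
        (@Curv2.euler k _ X.left ⟨X.hom⟩ (CohB1.tensorMod L₀ (CohB1.tensorPow H n)) : ℚ) := fun n => by
      have h := hQ 1 n
      rw [pow_one, ← PicMul.cl_tensorPow, ← PicMul.cl_tensor] at h
      refine (AVIndexSegment.eval_aeval _ _ Q).trans (Eq.trans ?_ h.symm)
      refine congrArg (fun v => MvPolynomial.eval v Q) (funext fun i => ?_)
      fin_cases i <;> simp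
    have hΦ₀ : Φ = Φ₀.comp (Polynomial.X + Polynomial.C (m : ℚ)) := by
      refine Polynomial.eq_of_infinite_eval_eq _ _ ((Set.infinite_range_of_injective
        (Nat.cast_injective (R := ℚ))).mono ?_)
      rintro _ ⟨n, rfl⟩
      show Φ.eval (n : ℚ) = (Φ₀.comp _).eval (n : ℚ)
      rw [Polynomial.eval_comp, Polynomial.eval_add, Polynomial.eval_X, Polynomial.eval_C, hΦ, ← Nat.cast_add, hev]
      refine congrArg (fun z : ℤ => (z : ℚ)) (CurveCohLib.euler_congr ((PicGrp.cl_eq_cl_iff _ _).1 ?_).some)
      simp only [L₀, PicMul.cl_tensor, PicMul.cl_tensorPow, pow_add, _root_.mul_assoc]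
      rw [mul_left_comm (PicF.cl D ^ m), ← mul_pow _ _ m, mul_comm (PicF.cl D), hHD, one_pow, _root_.mul_one]
    refine ⟨?_, ?_⟩
    · rw [hΦ₀, Polynomial.natDegree_comp, Polynomial.natDegree_X_add_C, _root_.mul_one]
      show (MvPolynomial.aeval ![1, Polynomial.X] Q : Polynomial ℚ).natDegree ≤ g
      conv_lhs => rw [MvPolynomial.as_sum Q]
      rw [map_sum]
      refine Polynomial.natDegree_sum_le_of_forall_le _ _ fun v hv => ?_
      rw [MvPolynomial.aeval_monomial, Finsupp.prod_fintype _ _ (fun _ => pow_zero _), Fin.prod_univ_two]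
      simp only [Matrix.cons_val_zero, Matrix.cons_val_one, one_pow, _root_.one_mul, Polynomial.algebraMap_eq]
      refine (Polynomial.natDegree_C_mul_X_pow_le _ _).trans (le_trans ?_ hQd)
      refine le_trans ?_ (MvPolynomial.le_totalDegree hv)
      rw [Finsupp.sum_fintype _ _ (fun _ => rfl), Fin.sum_univ_two]
      exact Nat.le_add_left _ _
    · rw [hΦ₀, Polynomial.eval_comp, Polynomial.eval_add, Polynomial.eval_X, Polynomial.eval_C, neg_add_cancel,
        ← Nat.cast_zero, hev]
      exact congrArg (fun z : ℤ => (z : ℚ)) (CurveCohLib.euler_congr ((PicGrp.cl_eq_cl_iff _ _).1 (by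
        simp only [L₀, PicMul.cl_tensor, PicMul.cl_tensorPow, pow_zero, _root_.mul_one])).some)
  let Φ' : Polynomial ℚ := Polynomial.C ((-1 : ℚ) ^ g) * Φ.comp (Polynomial.C (-1 : ℚ) * Polynomial.X + Polynomial.C 0)
  have hΦ' : ∀ n : ℕ, Φ'.eval (n : ℚ) =
      (@Curv2.euler k _ X.left ⟨X.hom⟩ (CohB1.tensorMod L' (CohB1.tensorPow H n)) : ℚ) := fun n => by
    haveI : Smooth X.hom := S7795.result X
    haveI : SmoothOfRelativeDimension g X.hom := CurveFin.smoothOfRelativeDimension_of_dim X.hom hg
    have h1 : @Curv2.euler k _ X.left ⟨X.hom⟩ (CohB1.tensorMod L' (CohB1.tensorPow H n)) =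
        (-1) ^ g * @Curv2.euler k _ X.left ⟨X.hom⟩ (CohB1.tensorMod L (CohB1.tensorPow D n)) :=
      AVEulerHomog.euler_inverse g hg (PicMul.isInvertible_tensor hL (PicMul.isInvertible_tensorPow hD n))
        (PicMul.isInvertible_tensor hL' (PicMul.isInvertible_tensorPow hH.1 n)) (by
          simp only [PicMul.cl_tensor, PicMul.cl_tensorPow]
          rw [_root_.mul_mul_mul_comm, hLL, _root_.one_mul, ← mul_pow, mul_comm (PicF.cl D), hHD, one_pow])
    rw [h1]
    push_cast
    rw [← (hneg n).2]
    simp [Φ', Polynomial.eval_comp]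
  have hneg' := AVIndexJump.index_le_pos_roots hL' hH (AVIndexStable.conc_of (AVIndexStable.isCoh hL') hv' hn') Φ' hΦ'
  have hmap : (Φ'.map (algebraMap ℚ ℝ)).roots.filter (fun t => 0 < t) =
      (P.roots.filter (fun t => t < 0)).map (fun t => -t) := by
    have hP' : Φ'.map (algebraMap ℚ ℝ) = Polynomial.C ((-1 : ℝ) ^ g) *
        P.comp (Polynomial.C (-1 : ℝ) * Polynomial.X + Polynomial.C 0) := by
      simp [Φ', P, Polynomial.map_comp]
    rw [hP', Polynomial.roots_C_mul _ (pow_ne_zero _ (by norm_num))]
    refine Multiset.ext.2 fun t => ?_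
    conv_rhs => rw [show t = (fun s : ℝ => -s) (-t) from (neg_neg t).symm]
    rw [Multiset.count_map_eq_count' _ _ neg_injective, Multiset.count_filter, Multiset.count_filter,
      Polynomial.count_roots, Polynomial.count_roots,
      Polynomial.rootMultiplicity_comp_C_mul_X_add_C _ _ _ _ (by norm_num),
      show (-1 : ℝ) * t + 0 = -t by ring]
    exact if_congr neg_lt_zero.symm rfl rfl
  rw [hmap, Multiset.card_map] at hneg'
  have hsum : (P.roots.filter (fun t => t < 0)).card + (P.roots.filter (fun t => 0 < t)).card ≤ Multiset.card P.roots := by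
    conv_rhs => rw [← Multiset.filter_add_not (fun t : ℝ => t < 0) P.roots, Multiset.card_add]
    exact Nat.add_le_add_left (Multiset.card_le_card (Multiset.monotone_filter_right _ fun t ht => not_lt.2 ht.le)) _
  have hdeg := Polynomial.card_roots' P
  have hdeg' : P.natDegree = Φ.natDegree := Polynomial.natDegree_map (algebraMap ℚ ℝ)
  have hg' := (hneg 0).1
  show Multiset.card P.roots = Φ.natDegree ∧ i = Multiset.card (P.roots.filter (fun t => 0 < t))
  have hpos' : i ≤ (P.roots.filter (fun t => 0 < t)).card := hpos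
  omega

end Groth.Agent.S17501
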