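import Groth.Statements.S17504
import Groth.Agent.Lib.AVIndexAdd

set_option autoImplicit false
set_option backward.isDefEq.respectTransparency false
set_option backward.isDefEq.respectTransparency.types false
set_option linter.style.haveILetI false
set_option linter.unusedSectionVars false
set_option maxHeartbeats 400000
universe u
open CategoryTheory CategoryTheory.Limits MonoidalCategory CartesianMonoidalCategory MonObj GrpObj AlgebraicGeometry
open AbVar

namespace Groth.Agent.S17504

/-- Let X be an abelian variety over a field k (a proper, geometrically integral k-group scheme), let L₁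
and L₂ be invertible O_X-modules and M an O_X-module isomorphic to L₁ ⊗ L₂. Suppose that the
cohomology of L₁ is concentrated in degree i₁: H^j(X, L₁) = 0 for j ≠ i₁ and H^i₁(X, L₁) ≠ 0, that
likewise the cohomology of L₂ is concentrated in degree i₂, and that of M in degree i, each non-zero
in that degree (all three line bundles non-degenerate, with indices i₁, i₂, i). Then i ≤ i₁ + i₂. (A
line bundle on an abelian variety is non-degenerate with index i exactly when its cohomology
vanishes outside degree i and is non-zero in degree i; this is how non-degeneracy and the index are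
expressed here.) -/
theorem result
    (k : Type u) [Field k] (X : Over (Spec (CommRingCat.of k))) [GrpObj X] [IsProper X.hom] [GeometricallyIntegral X.hom]
    (L₁ L₂ M : X.left.Modules) (hL₁ : PicF.IsInvertible L₁) (hL₂ : PicF.IsInvertible L₂)
    (hM : Nonempty (M ≅ CohB1.tensorMod L₁ L₂)) (i₁ i₂ i : ℕ)
    (h₁ : ∀ j : ℕ, j ≠ i₁ → Subsingleton (Coh.HH X.left L₁ j)) (h₁' : Nontrivial (Coh.HH X.left L₁ i₁))
    (h₂ : ∀ j : ℕ, j ≠ i₂ → Subsingleton (Coh.HH X.left L₂ j)) (h₂' : Nontrivial (Coh.HH X.left L₂ i₂))
    (h : ∀ j : ℕ, j ≠ i → Subsingleton (Coh.HH X.left M j)) (h' : Nontrivial (Coh.HH X.left M i)) :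
    i ≤ i₁ + i₂ := by
  exact AVIndexAdd.index_le' hL₁ hL₂ hM.some (AVIndexStable.conc_of (AVIndexStable.isCoh hL₁) h₁ h₁')
    (AVIndexStable.conc_of (AVIndexStable.isCoh hL₂) h₂ h₂')
    (AVIndexStable.conc_of (AVIndexStable.isCoh (H23.PicMul.isInvertible_of_iso hM.some.symm
      (H23.PicMul.isInvertible_tensor hL₁ hL₂))) h h')

end Groth.Agent.S17504
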