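import Groth.Statements.S1751
import Groth.Agent.GrLib8.HTLib
-- import your own Groth.Agent.* helpers here

set_option autoImplicit false
universe u
open LocCoh

namespace Groth.Agent.S1751

/-- (1)⇔(2) for a general subset T ⊆ Spec A stable under specialization. Let A be a Noetherian ring, M a
finite A-module and n ≥ 0. Then H^i_T(M) is a finite A-module for all i ≤ n if and only if there is
an ideal J with V(J) ⊆ T annihilating H^i_T(M) for all i ≤ n. -/
theorem result (A : Type u) [CommRing A] [IsNoetherianRing A] (T : Set (PrimeSpectrum A)) (hT : StableUnderSpecialization T) (M : Type u) [AddCommGroup M] [Module A M] [Module.Finite A M] (n : ℕ) : (∀ i : ℕ, i ≤ n → Module.Finite A (Dual2.HT T i M)) ↔ ∃ J : Ideal A, PrimeSpectrum.zeroLocus (J : Set A) ⊆ T ∧ ∀ i : ℕ, i ≤ n → ∀ a ∈ J, ∀ x : Dual2.HT T i M, a • x = 0 := by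
  constructor
  · intro h
    have h' : ∀ i ≤ n, ∃ J : Ideal A, PrimeSpectrum.zeroLocus (J : Set A) ⊆ T ∧
        ∀ a ∈ J, ∀ x : Dual2.HT T i M, a • x = 0 := fun i hi =>
      haveI := h i hi
      GrLib8.HTLib.exists_kill_of_finite fun z => GrLib8.HTLib.isKilled i _ z
    choose! J hJ hk using h'
    refine ⟨∏ i ∈ Finset.Iic n, J i, Finset.prod_induction _ (fun J : Ideal A => PrimeSpectrum.zeroLocus (J : Set A) ⊆ T)
      (fun _ _ => GrLib8.HTLib.zeroLocus_mul_subset) (by simp) fun i hi => hJ i (Finset.mem_Iic.1 hi), ?_⟩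
    intro i hi a ha x
    exact hk i hi a (Ideal.le_of_dvd (Finset.dvd_prod_of_mem J (Finset.mem_Iic.2 hi)) ha) x
  · rintro ⟨J, hJ, hk⟩
    exact GrLib8.HTLib.finite_of_kill n M J hJ hk

end Groth.Agent.S1751
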