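import Groth.Statements.S17511
import Groth.Agent.CohPullX.Semicont
import Groth.Agent.FibDim.BaseField
import Groth.Agent.AVTors.Dense
import Groth.Agent.Lib.CurveDeg
import Groth.Agent.KZ.LFRes
import Groth.Agent.H23.Seesaw
import Groth.Agent.AlgStLib.Noetherian
import Groth.Agent.KFlatLib.Scheme.AcyclicPush

set_option autoImplicit false
set_option backward.isDefEq.respectTransparency false
set_option backward.isDefEq.respectTransparency.types false
set_option linter.style.haveILetI false
set_option linter.unusedSectionVars false
set_option maxHeartbeats 400000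
universe u
open CategoryTheory CategoryTheory.Limits MonoidalCategory CartesianMonoidalCategory MonObj GrpObj AlgebraicGeometry
open AbVar

namespace Groth.Agent.S17511

/-- In an algebraic family of line bundles the index cannot jump locally. Let X be an abelian variety
over a field k (a proper, geometrically integral k-group scheme), let T be a locally Noetherian
k-scheme, M an invertible module on X ×_k T, and for each point t of T let M_t be the pull-back of M
to the fibre X ×_k Spec k(t). Suppose every M_t is non-degenerate, with index idx(t): H^j(X ×_k Spec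
k(t), M_t) = 0 for j ≠ idx(t) and H^{idx(t)} ≠ 0. Then t ↦ idx(t) is a locally constant function on
T. (Non-degeneracy with index i is expressed by the equivalent condition that the cohomology is
concentrated in degree i and non-zero there.) -/
theorem result
    (k : Type u) [Field k] (X : Over (Spec (CommRingCat.of k))) [GrpObj X] [IsProper X.hom] [GeometricallyIntegral X.hom]
    (T : Over (Spec (CommRingCat.of k))) [IsLocallyNoetherian T.left]
    (M : (X ⊗ T).left.Modules) (hM : PicF.IsInvertible M)
    (idx : ↥T.left → ℕ)
    (hidx : ∀ t : ↥T.left,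
      (∀ j : ℕ, j ≠ idx t →
        Subsingleton (Coh.HH (pullback (snd X T).left (T.left.fromSpecResidueField t))
          ((Scheme.Modules.pullback (pullback.fst (snd X T).left (T.left.fromSpecResidueField t))).obj M) j)) ∧
      Nontrivial (Coh.HH (pullback (snd X T).left (T.left.fromSpecResidueField t))
          ((Scheme.Modules.pullback (pullback.fst (snd X T).left (T.left.fromSpecResidueField t))).obj M) (idx t))) :
    IsLocallyConstant idx := by
  obtain ⟨g, hg⟩ := Groth.Agent.AVTors.exists_dimNat X
  haveI : IsLocallyNoetherian X.left := LocallyOfFiniteType.isLocallyNoetherian X.hom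
  haveI : LocallyOfFinitePresentation X.hom :=
    Groth.Agent.AlgStLib.locallyOfFinitePresentation_of_isLocallyNoetherian X.hom inferInstance
  haveI : Flat X.hom := inferInstance
  haveI : IsProper (snd X T).left := inferInstanceAs (IsProper (pullback.snd X.hom T.hom))
  haveI : LocallyOfFinitePresentation (snd X T).left :=
    inferInstanceAs (LocallyOfFinitePresentation (pullback.snd X.hom T.hom))
  haveI : Flat (snd X T).left := inferInstanceAs (Flat (pullback.snd X.hom T.hom))
  haveI : IsLocallyNoetherian (X ⊗ T).left := LocallyOfFiniteType.isLocallyNoetherian (snd X T).left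
  haveI : HasInjectiveResolutions (X ⊗ T).left.Modules := Groth.Agent.KFlatLib.hasInjectiveResolutions_modules
  have hfp : CohB1.IsFP M := Groth.Agent.KZ.LFRes.isFP_of_isCoh (Groth.Agent.CurveDeg.isCoh_of_isInvertible hM)
  have hfl : FlatMod.IsFlatOver (snd X T).left M := Groth.Agent.H23.Seesaw.isFlatOver_of_isInvertible _ hM
  have hdim : ∀ (t : T.left) (j : ℕ), g < j → Subsingleton (CohIII.fiberH (snd X T).left M t j) := fun t j hj => by
    refine Groth.Agent.CohPullX.subsingleton_fiberH_of_dim t g ?_ j hj
    haveI : Subsingleton ↥(Spec (CommRingCat.of k)) := inferInstanceAs (Subsingleton (PrimeSpectrum k))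
    haveI : Subsingleton ↥(Spec (T.left.residueField t)) := inferInstanceAs (Subsingleton (PrimeSpectrum _))
    have h1 : IsPullback ((snd X T).left.fiberι t ≫ (fst X T).left) ((snd X T).left.fiberToSpecResidueField t)
        X.hom (T.left.fromSpecResidueField t ≫ T.hom) :=
      (IsPullback.of_hasPullback (snd X T).left (T.left.fromSpecResidueField t)).paste_horiz
        (IsPullback.of_hasPullback X.hom T.hom)
    exact ((Groth.Agent.FibDim.topologicalKrullDim_baseChange h1).trans hg).le
  refine (IsLocallyConstant.iff_exists_open idx).2 fun t => ?_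
  obtain ⟨hvan, -⟩ := hidx t
  have h : ∀ j : ℕ, ∃ O : T.left.Opens, t ∈ O ∧ ∀ z ∈ O, j ≠ idx t → Subsingleton (CohIII.fiberH (snd X T).left M z j) := by
    intro j
    by_cases hj : j = idx t
    · exact ⟨⊤, trivial, fun z _ h => absurd hj h⟩
    · obtain ⟨O, hO, h⟩ := Groth.Agent.CohPullX.exists_subsingleton_fiberH_nhd hfp hfl t j (hvan j hj)
      exact ⟨O, hO, fun z hz _ => h z hz⟩
  choose O hO hOv using h
  refine ⟨⋂ j ∈ Finset.range (g + 1), (O j : Set T.left), isOpen_biInter_finset fun j _ => (O j).2,
    Set.mem_iInter₂.2 fun j _ => hO j, fun z hz => ?_⟩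
  obtain ⟨-, hne⟩ := hidx z
  by_contra hjt
  refine not_subsingleton_iff_nontrivial.2 hne ?_
  rcases le_or_gt (idx z) g with hle | hlt
  · exact hOv (idx z) z (Set.mem_iInter₂.1 hz _ (Finset.mem_range.2 (Nat.lt_succ_of_le hle))) hjt
  · exact hdim z _ hlt

end Groth.Agent.S17511
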