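import Groth.Statements.S17512
import Mathlib.GroupTheory.Index
import Mathlib.GroupTheory.Abelianization.Defs
import Mathlib.LinearAlgebra.LinearIndependent.Basic
import Mathlib.LinearAlgebra.Dimension.Constructions
import Mathlib.LinearAlgebra.LinearIndependent.Lemmas

set_option autoImplicit false
set_option backward.isDefEq.respectTransparency false
set_option backward.isDefEq.respectTransparency.types false
universe u
open ThetaRep

namespace Groth.Agent.S17512

/-- For the group of k-points of a non-degenerate theta group with constant K, let k be an algebraically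
closed field and Γ a group given with an injective homomorphism ι from kˣ onto the centre of Γ such
that K = Γ/ι(kˣ) is finite and commutative (all commutators lie in ι(kˣ)) of order prime to the
characteristic exponent of k — the group of k-points of a non-degenerate theta group 1 → G_m → G → K
→ 1 with rank(K) prime to char(k). Subgroups of K correspond to subgroups H of Γ containing ι(kˣ);
such an H is totally isotropic for the commutator pairing exactly when it is commutative, and its
orthogonal corresponds to the centralizer of H. For a subgroup H ⊇ ι(kˣ) the following are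
equivalent: (i) H is commutative and maximal among commutative subgroups of Γ; (ii) H is commutative
and [H : ι(kˣ)]² = [Γ : ι(kˣ)]; (iii) H is its own centralizer. (The published lemma is for an
arbitrary non-degenerate theta group scheme, where (iii) ⇔ (ii) ⇒ (i) always and (i) ⇒ (iii) needs k
algebraically closed; this row is the case of the group of k-points with K constant.) -/
theorem result
    (k : Type u) [Field k] [IsAlgClosed k]
    (Γ : Type u) [Group Γ] (ι : kˣ →* Γ) (hι : Function.Injective ι)
    (hcent : ι.range = Subgroup.center Γ) (hcomm : commutator Γ ≤ ι.range)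
    [Finite (Γ ⧸ ι.range)] (hcop : (Nat.card (Γ ⧸ ι.range)).Coprime (ringExpChar k))
    (H : Subgroup Γ) (hH : ι.range ≤ H) :
    List.TFAE [
      IsMulCommutative H ∧ ∀ H' : Subgroup Γ, IsMulCommutative H' → H ≤ H' → H' = H,
      IsMulCommutative H ∧ (ι.range.relIndex H) ^ 2 = ι.range.index,
      H = Subgroup.centralizer (H : Set Γ)] := by
  classical
  have hc : ∀ a b : Γ, ∃ t : kˣ, ι t = a * b * a⁻¹ * b⁻¹ := fun a b =>
    MonoidHom.mem_range.1 (hcomm (Subgroup.commutator_mem_commutator (Subgroup.mem_top a) (Subgroup.mem_top b)))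
  choose e he using hc
  have hz : ∀ (t : kˣ) (g : Γ), g * ι t = ι t * g := fun t g => by
    have : ι t ∈ Subgroup.center Γ := hcent ▸ ⟨t, rfl⟩
    exact Subgroup.mem_center_iff.1 this g
  have hl : ∀ a b c, e (a * b) c = e a c * e b c := fun a b c => hι (by
    rw [map_mul, he, he a c, he b c]
    have h2 : a * (b * c * b⁻¹ * c⁻¹) = (b * c * b⁻¹ * c⁻¹) * a := he b c ▸ hz _ a
    calc a * b * c * (a * b)⁻¹ * c⁻¹
        = a * (b * c * b⁻¹ * c⁻¹) * (c * a⁻¹ * c⁻¹) := by group
      _ = (b * c * b⁻¹ * c⁻¹) * a * (c * a⁻¹ * c⁻¹) := by rw [h2]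
      _ = (b * c * b⁻¹ * c⁻¹) * (a * c * a⁻¹ * c⁻¹) := by group
      _ = (a * c * a⁻¹ * c⁻¹) * (b * c * b⁻¹ * c⁻¹) := by
          rw [← he b c, ← hz (e b c) (a * c * a⁻¹ * c⁻¹)])
  have hswap : ∀ a b, e a b * e b a = 1 := fun a b => hι (by
    rw [map_mul, map_one, he, he]; group)
  have hr : ∀ a b c, e a (b * c) = e a b * e a c := fun a b c => by
    have h1 : ∀ x y, e x y = (e y x)⁻¹ := fun x y => eq_inv_of_mul_eq_one_left (hswap x y)
    rw [h1 a (b * c), hl, mul_inv, ← h1 a b, ← h1 a c]
  have hcom : ∀ a b, e a b = 1 ↔ b * a = a * b := fun a b => by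
    rw [← map_eq_one_iff ι hι, he, mul_inv_eq_one, mul_inv_eq_iff_eq_mul]
    exact eq_comm
  let C := Subgroup.centralizer (H : Set Γ)
  have hCmem : ∀ g, g ∈ C ↔ ∀ x : H, e g x = 1 := fun g => by
    rw [Subgroup.mem_centralizer_iff]
    exact ⟨fun h x => (hcom _ _).2 (h x x.2), fun h x hx => (hcom _ _).1 (h ⟨x, hx⟩)⟩
  have hZC : ι.range ≤ C := by
    rintro _ ⟨t, rfl⟩
    exact (hCmem _).2 fun x => (hcom _ _).2 (hz t x)
  haveI : C.Normal := ⟨fun n hn g => by
    have : g * n * g⁻¹ = ι (e g n) * n := by rw [he]; group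
    rw [this]
    exact C.mul_mem (hZC ⟨_, rfl⟩) hn⟩
  haveI : ι.range.Normal := by
    rw [hcent]; infer_instance
  haveI : (ι.range).FiniteIndex := Subgroup.finiteIndex_of_finite_quotient
  let h := ι.range.relIndex H
  let c := ι.range.relIndex C
  have hn : c * C.index = ι.range.index := Subgroup.relIndex_mul_index hZC
  have hnpos : ι.range.index ≠ 0 := Subgroup.FiniteIndex.index_ne_zero
  have hCfin : C.index ≠ 0 := fun h0 => hnpos (by rw [← hn, h0, mul_zero])
  haveI : C.FiniteIndex := ⟨hCfin⟩
  haveI hHfin : (ι.range.subgroupOf H).FiniteIndex := inferInstance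
  -- homomorphisms into the units of a field
  have key : ∀ (Q : Type u) [Group Q] [Finite Q], Finite (Q →* kˣ) ∧ Nat.card (Q →* kˣ) ≤ Nat.card Q := by
    intro Q _ _
    haveI := Fintype.ofFinite Q
    let v : (Q →* kˣ) → (Q → k) := fun φ q => (φ q : k)
    have hv : LinearIndependent k v := by
      refine (linearIndependent_monoidHom Q k).comp (fun φ : Q →* kˣ => (Units.coeHom k).comp φ) fun φ ψ h => ?_
      exact MonoidHom.ext fun q => Units.ext (DFunLike.congr_fun h q)
    haveI : Finite (Q →* kˣ) := hv.finite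
    haveI := Fintype.ofFinite (Q →* kˣ)
    refine ⟨inferInstance, ?_⟩
    rw [Nat.card_eq_fintype_card, Nat.card_eq_fintype_card, ← Module.finrank_fintype_fun_eq_card k (η := Q)]
    exact hv.fintype_card_le_finrank
  -- the two maps
  have h1 : C.index ≤ h := by
    let Φ : Γ →* ((H ⧸ ι.range.subgroupOf H) →* kˣ) := MonoidHom.mk'
      (fun g => QuotientGroup.lift (ι.range.subgroupOf H)
        (MonoidHom.mk' (fun x : H => e g x) fun x y => hr g x y)
        (fun x hx => by
          obtain ⟨t, ht⟩ := MonoidHom.mem_range.1 (Subgroup.mem_subgroupOf.1 hx)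
          rw [MonoidHom.mem_ker]
          show e g x = 1
          rw [← ht]
          exact (hcom _ _).2 (hz t g).symm))
      (fun a b => MonoidHom.ext fun q => QuotientGroup.induction_on q fun x => hl a b x)
    have hker : Φ.ker = C := by
      ext g
      rw [MonoidHom.mem_ker, hCmem]
      refine ⟨fun h x => DFunLike.congr_fun h (x : H ⧸ ι.range.subgroupOf H), fun h => MonoidHom.ext fun q => ?_⟩
      exact QuotientGroup.induction_on q fun x => h x
    obtain ⟨_, hle⟩ := key (H ⧸ ι.range.subgroupOf H)
    rw [← hker, Subgroup.index_ker]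
    exact (Nat.card_le_card_of_injective _ Subtype.val_injective).trans hle
  have h2 : h ≤ C.index := by
    let Ψ : H →* ((Γ ⧸ C) →* kˣ) := MonoidHom.mk'
      (fun x => QuotientGroup.lift C (MonoidHom.mk' (fun g => e g x) fun a b => hl a b x)
        (fun g hg => (MonoidHom.mem_ker).2 ((hCmem g).1 hg x)))
      (fun x y => MonoidHom.ext fun q => QuotientGroup.induction_on q fun g => hr g x y)
    have hker : Ψ.ker = ι.range.subgroupOf H := by
      ext x
      rw [MonoidHom.mem_ker, Subgroup.mem_subgroupOf, hcent, Subgroup.mem_center_iff]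
      refine ⟨fun h g => ((hcom g x).1 (DFunLike.congr_fun h (g : Γ ⧸ C))).symm,
        fun h => MonoidHom.ext fun q => ?_⟩
      exact QuotientGroup.induction_on q fun g => (hcom g x).2 (h g).symm
    obtain ⟨_, hle⟩ := key (Γ ⧸ C)
    show (ι.range.subgroupOf H).index ≤ _
    rw [← hker, Subgroup.index_ker]
    exact (Nat.card_le_card_of_injective _ Subtype.val_injective).trans hle
  have hCh : C.index = h := le_antisymm h1 h2
  have hHC : IsMulCommutative H → H ≤ C := fun hH' x hx => by
    rw [Subgroup.mem_centralizer_iff]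
    exact fun y hy => congrArg Subtype.val (hH'.is_comm.comm (⟨y, hy⟩ : H) ⟨x, hx⟩)
  have hcommOf : H = C → IsMulCommutative H := fun hEq => ⟨⟨fun x y => Subtype.ext (by
    have hx : (x : Γ) ∈ C := hEq ▸ x.2
    exact ((Subgroup.mem_centralizer_iff.1 hx) y y.2).symm)⟩⟩
  tfae_have 3 → 1 := fun hEq => ⟨hcommOf hEq, fun H' hH' hle => le_antisymm (fun x hx => by
    rw [hEq, Subgroup.mem_centralizer_iff]
    exact fun y hy => congrArg Subtype.val (hH'.is_comm.comm (⟨y, hle hy⟩ : H') ⟨x, hx⟩)) hle⟩
  tfae_have 1 → 3 := fun ⟨hH', hmax⟩ => by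
    refine le_antisymm (hHC hH') fun x hx => ?_
    have hcl : IsMulCommutative (Subgroup.closure ((H : Set Γ) ∪ {x})) := by
      refine Subgroup.isMulCommutative_closure ?_
      rintro a (ha | rfl) b (hb | rfl)
      · exact congrArg Subtype.val (hH'.is_comm.comm (⟨a, ha⟩ : H) ⟨b, hb⟩)
      · exact (Subgroup.mem_centralizer_iff.1 hx a ha)
      · exact (Subgroup.mem_centralizer_iff.1 hx b hb).symm
      · rfl
    have := hmax _ hcl (fun a ha => Subgroup.subset_closure (Or.inl ha))
    rw [← this]
    exact Subgroup.subset_closure (Or.inr rfl)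
  tfae_have 2 → 3 := fun ⟨hH', hsq⟩ => by
    refine le_antisymm (hHC hH') ?_
    have hpos : h ≠ 0 := fun h0 => hnpos (by rw [← hn, hCh, h0, mul_zero])
    have hc' : c = h := Nat.eq_of_mul_eq_mul_right (Nat.pos_of_ne_zero hpos)
      (by rw [← sq]; calc c * h = c * C.index := by rw [hCh]
                          _ = h ^ 2 := by rw [hn, ← hsq])
    have h3 := Subgroup.relIndex_mul_relIndex ι.range H C hH (hHC hH')
    refine Subgroup.relIndex_eq_one.1 (Nat.eq_of_mul_eq_mul_left (Nat.pos_of_ne_zero hpos) ?_)
    rw [mul_one]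
    exact h3.trans hc'
  tfae_have 3 → 2 := fun hEq => by
    refine ⟨hcommOf hEq, ?_⟩
    show h ^ 2 = _
    have hch : c = h := (congrArg ι.range.relIndex hEq).symm
    rw [← hn, hch, hCh, sq]
  tfae_finish

end Groth.Agent.S17512
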