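import Groth.Statements.S17513
import Groth.Agent.AVDegLib.MulN
import Groth.Agent.EtSplit24.Comp
import Mathlib.LinearAlgebra.FreeModule.PID

set_option autoImplicit false
set_option backward.isDefEq.respectTransparency false
set_option backward.isDefEq.respectTransparency.types false
set_option linter.style.haveILetI false
set_option linter.unusedSectionVars false
set_option maxHeartbeats 400000
universe u
open CategoryTheory CategoryTheory.Limits MonoidalCategory CartesianMonoidalCategory MonObj GrpObj AlgebraicGeometry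
open AbVar

namespace Groth.Agent.S17513

set_option maxHeartbeats 800000
open CategoryTheory.Limits

namespace Aux

variable {k : Type u} [Field k] (X : Over (Spec (CommRingCat.of k))) [GrpObj X] [IsCommMonObj X] (r : ℕ)

/-- The endomorphism of the power given by a matrix. -/
noncomputable def mh (α : Matrix (Fin r) (Fin r) ℤ) : (∏ᶜ fun _ : Fin r => X) ⟶ (∏ᶜ fun _ : Fin r => X) :=
  Pi.lift (fun i => ∏ j : Fin r, (Pi.π (fun _ : Fin r => X) j) ^ (α i j))

theorem mh_π (α : Matrix (Fin r) (Fin r) ℤ) (i : Fin r) :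
    mh X r α ≫ Pi.π (fun _ : Fin r => X) i = ∏ j : Fin r, (Pi.π (fun _ : Fin r => X) j) ^ (α i j) :=
  Pi.lift_π _ i

theorem comp_prod {Y Z : Over (Spec (CommRingCat.of k))} (f : Y ⟶ Z) (g : Fin r → (Z ⟶ X)) :
    f ≫ ∏ j, g j = ∏ j, f ≫ g j :=
  map_prod ({ toFun := fun h => f ≫ h, map_one' := MonObj.comp_one f,
              map_mul' := fun a b => MonObj.comp_mul f a b } : (Z ⟶ X) →* (Y ⟶ X)) g Finset.univ

theorem zpow_sum' {G : Type*} [CommGroup G] (x : G) (f : Fin r → ℤ) : ∏ i, x ^ f i = x ^ ∑ i, f i := by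
  induction (Finset.univ : Finset (Fin r)) using Finset.induction_on with
  | empty => simp
  | insert a s ha ih => rw [Finset.prod_insert ha, Finset.sum_insert ha, ih, zpow_add]

theorem mh_mul (α β : Matrix (Fin r) (Fin r) ℤ) : mh X r β ≫ mh X r α = mh X r (α * β) := by
  refine Pi.hom_ext _ _ fun i => ?_
  rw [Category.assoc, mh_π, mh_π, comp_prod]
  simp only [GrpObj.comp_zpow, mh_π, ← Finset.prod_zpow, ← zpow_mul]
  rw [Finset.prod_comm]
  refine Finset.prod_congr rfl fun l _ => ?_
  rw [zpow_sum', Matrix.mul_apply]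
  exact congrArg _ (Finset.sum_congr rfl fun j _ => mul_comm _ _)

theorem mh_one : mh X r 1 = 𝟙 _ := by
  refine Pi.hom_ext _ _ fun i => ?_
  rw [mh_π, Category.id_comp, Finset.prod_eq_single i (fun j _ hj => by rw [Matrix.one_apply_ne' hj, zpow_zero])
    (fun h => absurd (Finset.mem_univ i) h), Matrix.one_apply_eq, zpow_one]

theorem isIso_mh (U : Matrix (Fin r) (Fin r) ℤ) (hU : IsUnit U.det) : IsIso (mh X r U) :=
  ⟨mh X r U⁻¹, by rw [mh_mul, Matrix.nonsing_inv_mul _ hU, mh_one],
    by rw [mh_mul, Matrix.mul_nonsing_inv _ hU, mh_one]⟩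

theorem mh_diag_π (d : Fin r → ℤ) (i : Fin r) :
    mh X r (Matrix.diagonal d) ≫ Pi.π (fun _ : Fin r => X) i = Pi.π (fun _ : Fin r => X) i ≫ (𝟙 X) ^ d i := by
  rw [mh_π, GrpObj.comp_zpow, Category.comp_id, Finset.prod_eq_single i
    (fun j _ hj => by rw [Matrix.diagonal_apply_ne' _ hj, zpow_zero]) (fun h => absurd (Finset.mem_univ i) h),
    Matrix.diagonal_apply_eq]

/-- One coordinate at a time. -/
theorem isPullback_diag (i : Fin r) (d : ℤ) :
    IsPullback (Pi.π (fun _ : Fin r => X) i) (mh X r (Matrix.diagonal (Pi.mulSingle i d))) ((𝟙 X) ^ d)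
      (Pi.π (fun _ : Fin r => X) i) := by
  have hw : Pi.π (fun _ : Fin r => X) i ≫ (𝟙 X) ^ d =
      mh X r (Matrix.diagonal (Pi.mulSingle i d)) ≫ Pi.π (fun _ : Fin r => X) i := by
    rw [mh_diag_π, Pi.mulSingle_eq_same]
  refine IsPullback.of_isLimit (PullbackCone.IsLimit.mk hw
    (fun s => Pi.lift fun j => if j = i then s.fst else s.snd ≫ Pi.π (fun _ : Fin r => X) j)
    (fun s => by rw [Pi.lift_π, if_pos rfl]) (fun s => ?_) (fun s m h1 h2 => ?_))
  · refine Pi.hom_ext _ _ fun j => ?_
    rw [Category.assoc, mh_diag_π, Pi.lift_π_assoc]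
    by_cases h : j = i
    · subst h
      rw [if_pos rfl, Pi.mulSingle_eq_same]
      exact s.condition
    · rw [if_neg h, Pi.mulSingle_eq_of_ne h, zpow_one, Category.comp_id]
  · refine Pi.hom_ext _ _ fun j => ?_
    rw [Pi.lift_π]
    by_cases h : j = i
    · subst h
      rw [if_pos rfl, h1]
    · rw [if_neg h, ← h2, Category.assoc, mh_diag_π, Pi.mulSingle_eq_of_ne h, zpow_one, Category.comp_id]

variable [IsProper X.hom] [GeometricallyIntegral X.hom]

/-- The property proved. -/
def Good (g : ℕ) (α : Matrix (Fin r) (Fin r) ℤ) : Prop :=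
  IsFinite (mh X r α).left ∧ Flat (mh X r α).left ∧
    ∀ y : ↥(∏ᶜ fun _ : Fin r => X).left, Scheme.Hom.finrank (mh X r α).left y = α.det.natAbs ^ (2 * g)

theorem good_mul {g : ℕ} {α β : Matrix (Fin r) (Fin r) ℤ} (hα : Good X r g α) (hβ : Good X r g β) :
    Good X r g (α * β) := by
  obtain ⟨hαf, hαF, hαr⟩ := hα
  obtain ⟨hβf, hβF, hβr⟩ := hβ
  unfold Good
  rw [← mh_mul, Over.comp_left]
  refine ⟨inferInstance, inferInstance, fun y => ?_⟩
  rw [EtSplit24.finrank_comp_const _ _ _ hβr y, hαr, Matrix.det_mul, Int.natAbs_mul, mul_pow, mul_comm]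

theorem good_unit (g : ℕ) {U : Matrix (Fin r) (Fin r) ℤ} (hU : IsUnit U.det) : Good X r g U := by
  haveI := isIso_mh X r U hU
  haveI : IsIso (mh X r U).left := (Over.forget _).map_isIso (mh X r U)
  refine ⟨inferInstance, inferInstance, fun y => ?_⟩
  rw [Scheme.Hom.finrank_eq_one_of_isIso, Int.isUnit_iff_natAbs_eq.1 hU, one_pow]
  rfl

theorem good_single {g : ℕ} (hg : topologicalKrullDim ↥X.left = g) (i : Fin r) (d : ℤ) (hd : d ≠ 0) :
    Good X r g (Matrix.diagonal (Pi.mulSingle i d)) := by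
  obtain ⟨hf, hF, -⟩ := AVDegLib.zpow_props (A := X) d hd
  have h := (isPullback_diag X r i d).map (Over.forget _)
  have hf' : IsFinite (mh X r (Matrix.diagonal (Pi.mulSingle i d))).left :=
    MorphismProperty.of_isPullback (P := @IsFinite) h hf
  have hF' : Flat (mh X r (Matrix.diagonal (Pi.mulSingle i d))).left :=
    MorphismProperty.of_isPullback (P := @Flat) h hF
  haveI : IsFinite ((Over.forget (Spec (CommRingCat.of k))).map (𝟙 X ^ d)) := hf
  haveI : Flat ((Over.forget (Spec (CommRingCat.of k))).map (𝟙 X ^ d)) := hF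
  refine ⟨hf', hF', fun y => ?_⟩
  refine (Scheme.Hom.finrank_of_isPullback _ _ _ _ h y).trans ?_
  rw [Matrix.det_diagonal, Finset.prod_pi_mulSingle', if_pos (Finset.mem_univ i)]
  exact AVDegLib.finrank_zpow hg d hd _

theorem good_diag {g : ℕ} (hg : topologicalKrullDim ↥X.left = g) (d : Fin r → ℤ) (hd : ∀ i, d i ≠ 0) :
    Good X r g (Matrix.diagonal d) := by
  have key : ∀ s : Finset (Fin r), Good X r g (Matrix.diagonal (∏ i ∈ s, Pi.mulSingle i (d i))) := by
    intro s
    induction s using Finset.induction_on with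
    | empty =>
      refine good_unit X r g ?_
      simp
    | insert a s ha ih =>
      rw [Finset.prod_insert ha,
        show Matrix.diagonal (Pi.mulSingle a (d a) * ∏ x ∈ s, Pi.mulSingle x (d x)) =
          Matrix.diagonal (Pi.mulSingle a (d a)) * Matrix.diagonal (∏ x ∈ s, Pi.mulSingle x (d x)) from
          (Matrix.diagonal_mul_diagonal _ _).symm]
      exact good_mul X r (good_single X r hg a (d a) (hd a)) ih
  have h := key Finset.univ
  rwa [Finset.univ_prod_mulSingle] at h

/-- Smith normal form. -/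
theorem exists_smith (α : Matrix (Fin r) (Fin r) ℤ) (hα : α.det ≠ 0) :
    ∃ (U V : Matrix (Fin r) (Fin r) ℤ) (d : Fin r → ℤ), IsUnit U.det ∧ IsUnit V.det ∧ α = U * Matrix.diagonal d * V := by
  let b := Pi.basisFun ℤ (Fin r)
  let f : (Fin r → ℤ) →ₗ[ℤ] (Fin r → ℤ) := α.mulVecLin
  have hf : Function.Injective f := by
    rw [injective_iff_map_eq_zero]
    exact fun v hv => Matrix.eq_zero_of_mulVec_eq_zero hα hv
  let N : Submodule ℤ (Fin r → ℤ) := LinearMap.range f
  let e : (Fin r → ℤ) ≃ₗ[ℤ] N := LinearEquiv.ofInjective f hf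
  obtain ⟨bM, a, bN, hbN⟩ := Submodule.exists_smith_normal_form_of_rank_eq b (N := N) e.finrank_eq.symm
  refine ⟨b.toMatrix bM, LinearMap.toMatrix b bN e.toLinearMap, a, ?_, LinearEquiv.isUnit_det e b bN, ?_⟩
  · haveI := b.invertibleToMatrix bM
    exact Matrix.isUnit_det_of_invertible _
  ext l j
  rw [Matrix.mul_apply]
  have h1 : (e (b j) : Fin r → ℤ) = ∑ i, bN.repr (e (b j)) i • (bN i : Fin r → ℤ) := by
    conv_lhs => rw [← bN.sum_repr (e (b j))]
    simp only [Submodule.coe_sum, Submodule.coe_smul]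
  have h2 : (e (b j) : Fin r → ℤ) l = α l j := by
    show α.mulVec (b j) l = α l j
    simp [b, Matrix.mulVec_single]
  rw [← h2, h1, Finset.sum_apply]
  refine Finset.sum_congr rfl fun i _ => ?_
  rw [hbN i, Matrix.mul_diagonal, Module.Basis.toMatrix_apply, LinearMap.toMatrix_apply]
  simp [b, mul_comm, mul_left_comm]

end Aux


/-- Let X be an abelian variety over a field k (a proper, geometrically integral, commutative k-group
scheme) whose underlying space has Krull dimension g, let r be a natural number and α an r × r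
matrix with integer entries. Write X^r for the r-fold product of X over k and [α]_X : X^r → X^r for
the homomorphism (x_1, …, x_r) ↦ (Σ_j α_{1j} x_j, …, Σ_j α_{rj} x_j), i.e. the map whose i-th
component is the product, in the commutative group of maps X^r → X, of the powers pr_j^{α_{ij}}. If
det α ≠ 0 then [α]_X is finite and flat of constant degree |det α|^{2g} = det(α)^{2g}. (The
published statement covers det α = 0 too, with the convention that a non-finite homomorphism has
degree 0; that case says only that [α]_X is not finite and is not part of this row.) -/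
theorem result
    (k : Type u) [Field k] (X : Over (Spec (CommRingCat.of k))) [GrpObj X] [IsCommMonObj X]
    [IsProper X.hom] [GeometricallyIntegral X.hom]
    (g : ℕ) (hg : topologicalKrullDim ↥X.left = g)
    (r : ℕ) (α : Matrix (Fin r) (Fin r) ℤ) (hα : α.det ≠ 0)
    (φ : (∏ᶜ fun _ : Fin r => X) ⟶ (∏ᶜ fun _ : Fin r => X))
    (hφ : φ = Pi.lift (fun i => ∏ j : Fin r, (Pi.π (fun _ : Fin r => X) j) ^ (α i j))) :
    IsFinite φ.left ∧ Flat φ.left ∧
      ∀ y : ↥(∏ᶜ fun _ : Fin r => X).left, Scheme.Hom.finrank φ.left y = α.det.natAbs ^ (2 * g) := by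
  subst hφ
  obtain ⟨U, V, d, hU, hV, rfl⟩ := Aux.exists_smith r α hα
  rw [Matrix.det_mul, Matrix.det_mul, Matrix.det_diagonal] at hα
  have hd : ∀ i, d i ≠ 0 := fun i h =>
    hα (by rw [Finset.prod_eq_zero (Finset.mem_univ i) h, mul_zero, zero_mul])
  exact Aux.good_mul X r (Aux.good_mul X r (Aux.good_unit X r g hU) (Aux.good_diag X r hg d hd))
    (Aux.good_unit X r g hV)

end Groth.Agent.S17513
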