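import Groth.Statements.S17514
import Groth.Agent.AVTors.IsogPts
-- import your own Groth.Agent.* helpers here

set_option autoImplicit false
universe u
open CategoryTheory CategoryTheory.Limits MonoidalCategory CartesianMonoidalCategory MonObj GrpObj AlgebraicGeometry
open AbVar

namespace Groth.Agent.S17514

set_option linter.style.haveILetI false
set_option backward.isDefEq.respectTransparency false
set_option backward.isDefEq.respectTransparency.types false
set_option maxHeartbeats 1000000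

/-- Let k be a field with algebraic closure k̄, ℓ a prime number invertible in k, X and Y abelian
varieties over k (proper, geometrically integral, commutative k-group schemes), f : X → Y an isogeny
(a homomorphism which is finite and surjective) and i : N → X its kernel (the square formed by i, f,
the unit of Y and the structure map of N is cartesian). Let T_ℓ denote the Tate module formed with
k̄-valued points and T_ℓ f : T_ℓ X → T_ℓ Y the induced ℤ_ℓ-linear map. Then T_ℓ f is injective and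
its cokernel is isomorphic, as a group, to the ℓ-primary part of the finite group N(k̄) of k̄-valued
points of N (existence of an isomorphism; the published sequence 0 → T_ℓ X → T_ℓ Y → N_ℓ(k_s) → 0 is
moreover Galois-equivariant with a specific connecting map, and uses points over a separable
closure, which for ℓ-power torsion gives the same groups). -/
theorem result
    (k : Type u) [Field k] (ℓ : ℕ) [Fact ℓ.Prime] (hℓ : (ℓ : k) ≠ 0)
    (X Y : Over (Spec (CommRingCat.of k)))
    [GrpObj X] [IsCommMonObj X] [IsProper X.hom] [GeometricallyIntegral X.hom]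
    [GrpObj Y] [IsCommMonObj Y] [IsProper Y.hom] [GeometricallyIntegral Y.hom]
    (f : X ⟶ Y) [IsMonHom f] [IsFinite f.left] [Surjective f.left]
    (N : Over (Spec (CommRingCat.of k))) [GrpObj N] [IsCommMonObj N] (i : N ⟶ X) [IsMonHom i]
    (hN : AlgGrp.IsKernel i f) :
    Function.Injective (AbDual.tateMapₗ (l := ℓ)
        (T := Over.mk (Spec.map (CommRingCat.ofHom (algebraMap k (AlgebraicClosure k))))) f) ∧
      Nonempty ((AbDual.TateMod Y ℓ (Over.mk (Spec.map (CommRingCat.ofHom (algebraMap k (AlgebraicClosure k))))) ⧸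
          LinearMap.range (AbDual.tateMapₗ (l := ℓ)
            (T := Over.mk (Spec.map (CommRingCat.ofHom (algebraMap k (AlgebraicClosure k))))) f)) ≃+
        Additive ↥(CommGroup.primaryComponent
          (Over.mk (Spec.map (CommRingCat.ofHom (algebraMap k (AlgebraicClosure k)))) ⟶ N) ℓ)) := by
  let Ω := AlgebraicClosure k
  let T : Over (Spec (CommRingCat.of k)) := SGA7.pt Ω
  have hp : ℓ.Prime := Fact.out
  obtain ⟨a, u, hcard, hu⟩ := AVTors.exists_factor_card (Ω := Ω) f ℓ hp
  let MX := AbDual.TateMod X ℓ T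
  let MY := AbDual.TateMod Y ℓ T
  let F : MX →ₗ[ℤ_[ℓ]] MY := AbDual.tateMapₗ (l := ℓ) f
  haveI : Mono i := ⟨fun s t hst => hN.hom_ext hst (toUnit_unique _ _)⟩
  -- lifts of torsion points killed by `f` are killed by `ℓ ^ a`
  have hker : ∀ x : T ⟶ X, x ≫ f = 1 → ∀ n, x ^ (ℓ ^ n) = 1 → x ^ (ℓ ^ a) = 1 := fun x hx n hn => by
    have h1 := pow_gcd_eq_one.2 ⟨hn, AVTors.pow_card_kerPts f x hx⟩
    rw [hcard, Nat.Coprime.gcd_mul_right_cancel_right _ (hu.symm.pow_right n)] at h1
    obtain ⟨e, he⟩ := Nat.gcd_dvd_right (ℓ ^ n) (ℓ ^ a)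
    rw [he, pow_mul, h1, one_pow]
  choose L hLf hLt using fun y : MY => AVTors.exists_lift_torsion (Ω := Ω) f ℓ hcard hu a (AVTors.cpt a y).toMul
    (AbDual.TateMod.torsion y a)
  have hker' : ∀ y : MY, (L y ^ (ℓ ^ a)) ≫ f = 1 := fun y => by
    rw [MonObj.pow_comp, hLf]
    exact AbDual.TateMod.torsion y a
  have hNf : ∀ n : T ⟶ N, (n ≫ i) ≫ f = 1 := fun n => by
    rw [Category.assoc, hN.w, ← Category.assoc, toUnit_unique (n ≫ toUnit N) (toUnit _)]
    rfl
  have hlift : ∀ x : T ⟶ X, x ≫ f = 1 → ∃ n : T ⟶ N, n ≫ i = x := fun x hx =>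
    ⟨hN.lift x (toUnit T) hx, hN.lift_fst _ _ _⟩
  choose δ0 hδ0 using fun y => hlift _ (hker' y)
  have hprim : ∀ y, δ0 y ∈ CommGroup.primaryComponent (T ⟶ N) ℓ := fun y => by
    refine CommMonoid.mem_primaryComponent.2 ⟨a, (cancel_mono i).1 ?_⟩
    rw [MonObj.pow_comp, hδ0, MonObj.one_comp, ← pow_mul, ← pow_add]
    exact hLt y
  have hindep : ∀ (y : MY) (x : T ⟶ X), x ≫ f = (AVTors.cpt a y).toMul → ∀ n, x ^ (ℓ ^ n) = 1 →
      x ^ (ℓ ^ a) = L y ^ (ℓ ^ a) := fun y x hx n hn => by
    have h := hker (x * (L y)⁻¹) (by rw [MonObj.mul_comp, GrpObj.inv_comp, hx, hLf, mul_inv_cancel]) (n + (a + a)) (by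
      rw [mul_pow, inv_pow, pow_add, pow_mul, hn, one_pow, mul_comm (ℓ ^ n), pow_mul, hLt, one_pow, inv_one,
        _root_.one_mul])
    rwa [mul_pow, inv_pow, mul_inv_eq_one] at h
  let δ : MY →+ Additive ↥(CommGroup.primaryComponent (T ⟶ N) ℓ) :=
    AddMonoidHom.mk' (fun y => Additive.ofMul ⟨δ0 y, hprim y⟩) fun y y' => congrArg Additive.ofMul (Subtype.ext (by
      show δ0 (y + y') = δ0 y * δ0 y'
      refine (cancel_mono i).1 ?_
      rw [MonObj.mul_comp, hδ0, hδ0, hδ0, ← mul_pow]
      refine (hindep (y + y') (L y * L y') ?_ (a + a) ?_).symm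
      · rw [MonObj.mul_comp, hLf, hLf]; rfl
      · rw [mul_pow, hLt, hLt, _root_.one_mul]))
  have hcpt : ∀ (x : MX) m, (AVTors.cpt m (F x)).toMul = (AVTors.cpt m x).toMul ≫ f := fun _ _ => rfl
  have hsurj : Function.Surjective δ := by
    intro n
    let n0 : T ⟶ N := n.toMul.1
    obtain ⟨c, hc⟩ := CommMonoid.mem_primaryComponent.1 n.toMul.2
    obtain ⟨p, hp'⟩ := AVTors.exists_root_pt Ω X (ℓ ^ a) (pow_pos hp.pos a) (n0 ≫ i)
    have hpt : p ^ (ℓ ^ (a + c)) = 1 := by
      rw [pow_add, pow_mul, hp', ← MonObj.pow_comp, show n0 ^ (ℓ ^ c) = 1 from hc, MonObj.one_comp]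
    obtain ⟨y, hy⟩ := AVTors.exists_cpt_eq (A := Y) (l := ℓ) (fun b => AVTors.exists_root_pt Ω Y ℓ hp.pos b) a (p ≫ f)
      (by rw [← MonObj.pow_comp, hp', hNf])
    refine ⟨y, congrArg Additive.ofMul (Subtype.ext ((cancel_mono i).1 ?_))⟩
    show δ0 y ≫ i = n0 ≫ i
    rw [hδ0, ← hindep y p (congrArg Additive.toMul hy).symm _ hpt, hp']
  have hkerδ : (LinearMap.range F).toAddSubgroup = δ.ker := by
    ext y
    constructor
    · rintro ⟨x, rfl⟩
      refine congrArg Additive.ofMul (Subtype.ext ((cancel_mono i).1 ?_))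
      show δ0 (F x) ≫ i = (1 : T ⟶ N) ≫ i
      rw [hδ0, MonObj.one_comp, ← hindep (F x) (AVTors.cpt a x).toMul (hcpt x a).symm a (AbDual.TateMod.torsion x a)]
      exact AbDual.TateMod.torsion x a
    · intro hy
      have h0 : δ0 y = 1 := congrArg (fun z => (Additive.toMul z).1) hy
      have h0' : L y ^ (ℓ ^ a) = 1 := by rw [← hδ0, h0, MonObj.one_comp]
      choose p hpf hpt using fun m => AVTors.exists_lift_torsion (Ω := Ω) f ℓ hcard hu m (AVTors.cpt m y).toMul
        (AbDual.TateMod.torsion y m)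
      have hkey : ∀ m, (p (m + a) ^ (ℓ ^ a)) ^ (ℓ ^ m) = 1 := fun m => by
        rw [← pow_mul, mul_comm, pow_mul]
        refine (hindep y (p (m + a) ^ (ℓ ^ m)) ?_ (m + a + a) ?_).trans h0'
        · rw [MonObj.pow_comp, hpf, ← toMul_nsmul, add_comm m a, AVTors.cpt_add_eq]
        · rw [← pow_mul, mul_comm, pow_mul, hpt, one_pow]
      refine ⟨⟨fun m => Additive.ofMul (p (m + a) ^ (ℓ ^ a)),
        ⟨fun m => congrArg Additive.ofMul (hkey m), fun m => congrArg Additive.ofMul ?_⟩⟩, ?_⟩
      · show (p (m + 1 + a) ^ (ℓ ^ a)) ^ ℓ = p (m + a) ^ (ℓ ^ a)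
        rw [← pow_mul, mul_comm, pow_mul]
        have h := hker (p (m + 1 + a) ^ ℓ * (p (m + a))⁻¹) (by
          rw [MonObj.mul_comp, GrpObj.inv_comp, MonObj.pow_comp, hpf, hpf, ← toMul_nsmul,
            show m + 1 + a = m + a + 1 by omega]
          rw [show ℓ • AVTors.cpt (m + a + 1) y = AVTors.cpt (m + a) y from AbDual.TateMod.compat y (m + a),
            mul_inv_cancel]) (m + 1 + a + a) (by
          have e1 : (p (m + 1 + a) ^ ℓ) ^ (ℓ ^ (m + 1 + a + a)) = 1 := by
            rw [← pow_mul, mul_comm, pow_mul, hpt, one_pow]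
          have e2 : p (m + a) ^ (ℓ ^ (m + 1 + a + a)) = 1 := by
            rw [show m + 1 + a + a = (m + a + a) + 1 by omega, pow_succ, pow_mul, hpt, one_pow]
          rw [mul_pow, inv_pow, e1, e2, inv_one, _root_.one_mul])
        rwa [mul_pow, inv_pow, mul_inv_eq_one] at h
      · refine AbDual.TateMod.ext fun m => congrArg Additive.ofMul ?_
        show (p (m + a) ^ (ℓ ^ a)) ≫ f = (AVTors.cpt m y).toMul
        rw [MonObj.pow_comp, hpf, ← toMul_nsmul, AVTors.cpt_add_eq]
  refine ⟨fun x x' hxx => ?_, ⟨?_⟩⟩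
  · rw [← sub_eq_zero]
    have hz : F (x - x') = 0 := by rw [map_sub]; exact sub_eq_zero.2 hxx
    refine AbDual.TateMod.ext fun m => ?_
    show AVTors.cpt m (x - x') = 0
    rw [← AVTors.cpt_add_eq (x - x') m a]
    refine congrArg Additive.ofMul (hker (AVTors.cpt (m + a) (x - x')).toMul ?_ (m + a) (AbDual.TateMod.torsion _ (m + a)))
    rw [← hcpt, hz]
    rfl
  · exact (QuotientAddGroup.quotientAddEquivOfEq hkerδ).trans (QuotientAddGroup.quotientKerEquivOfSurjective δ hsurj)

end Groth.Agent.S17514
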