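import Groth.Statements.S17516
import Groth.Agent.Lib.AVPolPull

set_option autoImplicit false
set_option backward.isDefEq.respectTransparency false
set_option backward.isDefEq.respectTransparency.types false
set_option linter.style.haveILetI false
set_option linter.unusedSectionVars false
set_option maxHeartbeats 400000
universe u
open CategoryTheory CategoryTheory.Limits MonoidalCategory CartesianMonoidalCategory MonObj GrpObj AlgebraicGeometry
open AbVar

namespace Groth.Agent.S17516

open scoped CategoryTheory.Obj

/-- Let X and Y be abelian varieties over a field k (proper, geometrically integral, commutative k-group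
schemes) with given dual abelian varieties (X^t, φ_X) and (Y^t, φ_Y) for the fppf topology, let f :
X → Y be an isogeny — a homomorphism which is finite, flat and surjective — of constant degree d,
with transpose f^t : Y^t → X^t, and let λ : Y → Y^t be a polarization of Y (a homomorphism whose
base change to every algebraically closed field is the homomorphism φ_M attached to some ample
invertible module M) which is finite and flat of constant degree e. Then f^*λ := f^t ∘ λ ∘ f : X →
X^t is a polarization of X, and it is finite and flat of constant degree d² · e = deg(f)² · deg(λ). -/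
theorem result
    (k : Type u) [Field k] (X Xt Y Yt : Over (Spec (CommRingCat.of k)))
    [GrpObj X] [IsCommMonObj X] [IsProper X.hom] [GeometricallyIntegral X.hom] [GrpObj Xt] [IsCommMonObj Xt] [IsProper Xt.hom] [GeometricallyIntegral Xt.hom]
    [GrpObj Y] [IsCommMonObj Y] [IsProper Y.hom] [GeometricallyIntegral Y.hom] [GrpObj Yt] [IsCommMonObj Yt] [IsProper Yt.hom] [GeometricallyIntegral Yt.hom]
    (φX : AgPol.DualMap X Xt) (hX : AbDual.IsDualAV Scheme.fppfPrecoverage X Xt φX)
    (φY : AgPol.DualMap Y Yt) (hY : AbDual.IsDualAV Scheme.fppfPrecoverage Y Yt φY)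
    (f : X ⟶ Y) [IsMonHom f] [IsFinite f.left] [Flat f.left] [Surjective f.left]
    (d : ℕ) (hd : ∀ y : ↥Y.left, Scheme.Hom.finrank f.left y = d)
    (ft : Yt ⟶ Xt) (hft : AbDual.IsTranspose f φX φY ft)
    (lam : Y ⟶ Yt) (hlam : AgPol.IsPolarization Y Yt φY lam)
    [IsFinite lam.left] [Flat lam.left] (e : ℕ) (he : ∀ y : ↥Yt.left, Scheme.Hom.finrank lam.left y = e) :
    AgPol.IsPolarization X Xt φX (f ≫ lam ≫ ft) ∧ IsFinite (f ≫ lam ≫ ft).left ∧ Flat (f ≫ lam ≫ ft).left ∧
      ∀ x : ↥Xt.left, Scheme.Hom.finrank (f ≫ lam ≫ ft).left x = d ^ 2 * e := by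
  haveI : Smooth X.hom := S7795.result X
  haveI : Smooth Y.hom := S7795.result Y
  haveI : Smooth Xt.hom := S7795.result Xt
  haveI : Smooth Yt.hom := S7795.result Yt
  haveI : GeometricallyConnected X.hom := H23.CubeAb.geometricallyConnected_of_integral X.hom
  haveI : GeometricallyConnected Y.hom := H23.CubeAb.geometricallyConnected_of_integral Y.hom
  haveI : GeometricallyConnected Xt.hom := H23.CubeAb.geometricallyConnected_of_integral Xt.hom
  haveI : GeometricallyConnected Yt.hom := H23.CubeAb.geometricallyConnected_of_integral Yt.hom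
  haveI : IsMonHom ft := AVDeg.isMonHom_transpose hX hY hft
  haveI : IsMonHom lam := hlam.1
  obtain ⟨hfin, hfl, hsur, hdt⟩ := AVDeg.degree_eq hX hY hft hd
  haveI := hfin; haveI := hfl; haveI := hsur
  haveI : IsIntegral X.left := GeometricallyIntegral.isIntegral_of_subsingleton X.hom
  haveI : IsIntegral Y.left := GeometricallyIntegral.isIntegral_of_subsingleton Y.hom
  haveI : IsIntegral Xt.left := GeometricallyIntegral.isIntegral_of_subsingleton Xt.hom
  haveI : IsIntegral Yt.left := GeometricallyIntegral.isIntegral_of_subsingleton Yt.hom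
  haveI : IsLocallyNoetherian Y.left := LocallyOfFiniteType.isLocallyNoetherian Y.hom
  haveI : IsLocallyNoetherian Xt.left := LocallyOfFiniteType.isLocallyNoetherian Xt.hom
  haveI : IsLocallyNoetherian Yt.left := LocallyOfFiniteType.isLocallyNoetherian Yt.hom
  refine ⟨⟨inferInstance, fun Ω _ _ t => ?_⟩, ?_⟩
  · obtain ⟨M, hM, hMl⟩ := hlam.2 Ω t
    haveI : IsProper (Red.bc t X).hom := inferInstanceAs (IsProper (pullback.snd X.hom t))
    haveI : GeometricallyIntegral (Red.bc t X).hom := inferInstanceAs (GeometricallyIntegral (pullback.snd X.hom t))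
    haveI : IsProper (Red.bc t Y).hom := inferInstanceAs (IsProper (pullback.snd Y.hom t))
    haveI : GeometricallyIntegral (Red.bc t Y).hom := inferInstanceAs (GeometricallyIntegral (pullback.snd Y.hom t))
    haveI : IsProper (Red.bc t Xt).hom := inferInstanceAs (IsProper (pullback.snd Xt.hom t))
    haveI : GeometricallyIntegral (Red.bc t Xt).hom := inferInstanceAs (GeometricallyIntegral (pullback.snd Xt.hom t))
    haveI : IsProper (Red.bc t Yt).hom := inferInstanceAs (IsProper (pullback.snd Yt.hom t))
    haveI : GeometricallyIntegral (Red.bc t Yt).hom := inferInstanceAs (GeometricallyIntegral (pullback.snd Yt.hom t))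
    haveI : IsCommMonObj (Red.bc t X) := isCommMonObj_of_isProper_of_geometricallyIntegral _
    haveI : IsCommMonObj (Red.bc t Y) := isCommMonObj_of_isProper_of_geometricallyIntegral _
    haveI : IsCommMonObj (Red.bc t Xt) := isCommMonObj_of_isProper_of_geometricallyIntegral _
    haveI : IsCommMonObj (Red.bc t Yt) := isCommMonObj_of_isProper_of_geometricallyIntegral _
    let f' : Red.bc t X ⟶ Red.bc t Y := (Over.pullback t).map f
    haveI : IsMonHom f' := inferInstanceAs (IsMonHom ((Over.pullback t).map f))
    haveI : IsFinite f'.left := MorphismProperty.overPullbackMap (P := @IsFinite) _ f inferInstance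
    haveI : CompactSpace (Red.bc t X).left := QuasiCompact.compactSpace_of_compactSpace (Red.bc t X).hom
    refine ⟨(Scheme.Modules.pullback f'.left).obj M,
      AmpleVan.FiniteSurj.isAmple_pullback_of_isAffineHom f'.left hM, ?_⟩
    rw [Functor.map_comp, Functor.map_comp, AVLambda.eq_lam_of_isLambda hM.1 hMl]
    exact AVPolPull.isLambda_pull (AVDualBC.isDualAV hX) (AVDualBC.isDualAV hY) (AVDualBC.isTranspose hft) hM.1
  haveI : Surjective lam.left := by
    refine (Scheme.Hom.one_le_finrank_iff_surjective (f := lam.left)).1 fun y => ?_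
    have := Scheme.Hom.one_le_finrank_map lam.left (η[Y].left (IsLocalRing.closedPoint k))
    rw [he] at this
    exact (he y).symm ▸ this
  haveI : IsFinite (lam ≫ ft).left := by rw [Over.comp_left]; infer_instance
  haveI : Flat (lam ≫ ft).left := by rw [Over.comp_left]; infer_instance
  haveI : Surjective (lam ≫ ft).left := by rw [Over.comp_left]; infer_instance
  refine ⟨by rw [Over.comp_left]; infer_instance, by rw [Over.comp_left]; infer_instance, fun x => ?_⟩
  rw [AVTors.finrank_comp_eq f (lam ≫ ft) (η[Y].left (IsLocalRing.closedPoint k)) x, hd,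
    AVTors.finrank_comp_eq lam ft (η[Yt].left (IsLocalRing.closedPoint k)) x, he, hdt]
  ring

end Groth.Agent.S17516
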