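import Groth.Statements.S17517
-- import your own Groth.Agent.* helpers here

set_option autoImplicit false
universe u
open GIT

namespace Groth.Agent.S17517

open scoped InnerProductSpace

/-- Let `E` be a finite-dimensional real inner product space and `L` a full lattice in `E` (a discrete
subgroup spanning `E`) on which the inner product is integer valued; let `F` and `G` be nonempty
finite sets of real linear functionals on `E` taking integer values on `L`, with `f_min v = min_{f ∈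
F} f v` and `g_min v = min_{g ∈ G} g v`. If some vector `v` has `f_min v ≥ 0` and `g_min v > 0`,
then on the set `C_F` of nonzero `v` with `f_min v ≥ 0` the function `v ↦ g_min v / ‖v‖` attains a
greatest value `M`, and there is exactly one lattice vector `v₀ ∈ C_F` with `g_min v₀ / ‖v₀‖ = M` of
which every lattice vector `v ∈ C_F` with `g_min v / ‖v‖ = M` is an integer multiple. -/
theorem result
    (E : Type u) [NormedAddCommGroup E] [InnerProductSpace ℝ E] [FiniteDimensional ℝ E]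
    (L : Submodule ℤ E) [DiscreteTopology L] [IsZLattice ℝ L]
    (hint : ∀ x ∈ L, ∀ y ∈ L, ∃ n : ℤ, inner ℝ x y = (n : ℝ))
    (F G : Finset (Module.Dual ℝ E)) (hF : F.Nonempty) (hG : G.Nonempty)
    (hFi : ∀ f ∈ F, ∀ x ∈ L, ∃ n : ℤ, f x = (n : ℝ)) (hGi : ∀ g ∈ G, ∀ x ∈ L, ∃ n : ℤ, g x = (n : ℝ))
    (hpos : ∃ v : E, 0 ≤ F.inf' hF (fun f => f v) ∧ 0 < G.inf' hG (fun g => g v)) :
    ∃ M : ℝ, IsGreatest ((fun v => G.inf' hG (fun g => g v) / ‖v‖) ''
        {v : E | v ≠ 0 ∧ 0 ≤ F.inf' hF (fun f => f v)}) M ∧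
      ∃! v₀ : E, v₀ ∈ L ∧ v₀ ≠ 0 ∧ 0 ≤ F.inf' hF (fun f => f v₀) ∧
        G.inf' hG (fun g => g v₀) / ‖v₀‖ = M ∧
        ∀ v ∈ L, v ≠ 0 → 0 ≤ F.inf' hF (fun f => f v) → G.inf' hG (fun g => g v) / ‖v‖ = M →
          ∃ n : ℤ, v = n • v₀ := by
  classical
  haveI : Module.Finite ℤ L := ZLattice.module_finite ℝ L
  haveI : Module.Free ℤ L := ZLattice.module_free ℝ L
  let b := Module.Free.chooseBasis ℤ L
  let bR := b.ofZLatticeBasis ℝ L
  have hb : ∀ i, bR i ∈ L := fun i => by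
    rw [Module.Basis.ofZLatticeBasis_apply]; exact (b i).2
  have hFle : ∀ (r : ℝ) v, r ≤ F.inf' hF (fun f => f v) ↔ ∀ f ∈ F, r ≤ f v := fun r v =>
    Finset.le_inf'_iff hF _
  have hGle : ∀ (r : ℝ) v, r ≤ G.inf' hG (fun g => g v) ↔ ∀ g ∈ G, r ≤ g v := fun r v =>
    Finset.le_inf'_iff hG _
  have hGsmul : ∀ (c : ℝ) v, 0 ≤ c →
      G.inf' hG (fun g => g (c • v)) = c * G.inf' hG (fun g => g v) := by
    intro c v hc
    apply le_antisymm
    · obtain ⟨g, hg, hgv⟩ := G.exists_mem_eq_inf' hG (fun g => g v)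
      rw [hgv]
      refine le_trans (Finset.inf'_le (fun g : Module.Dual ℝ E => g (c • v)) hg) ?_
      rw [map_smul, smul_eq_mul]
    · rw [hGle]
      intro g hg
      rw [map_smul, smul_eq_mul]
      exact mul_le_mul_of_nonneg_left (Finset.inf'_le (fun g : Module.Dual ℝ E => g v) hg) hc
  let P : Set E := {v | (∀ f ∈ F, 0 ≤ f v) ∧ ∀ g ∈ G, 1 ≤ g v}
  have hPc : IsClosed P := by
    have : P = (⋂ f ∈ F, {v : E | 0 ≤ f v}) ∩ ⋂ g ∈ G, {v : E | 1 ≤ g v} := by ext v; simp [P]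
    rw [this]
    exact (isClosed_biInter fun f _ => isClosed_le continuous_const
      f.continuous_of_finiteDimensional).inter (isClosed_biInter fun g _ => isClosed_le continuous_const
      g.continuous_of_finiteDimensional)
  have hPx : Convex ℝ P := by
    intro x hx z hz s t hs ht hst
    refine ⟨fun f hf => ?_, fun g hg => ?_⟩
    · simp only [map_add, map_smul, smul_eq_mul]
      have h1 := mul_nonneg hs (hx.1 f hf)
      have h2 := mul_nonneg ht (hz.1 f hf)
      linarith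
    · simp only [map_add, map_smul, smul_eq_mul]
      have h1 := mul_le_mul_of_nonneg_left (hx.2 g hg) hs
      have h2 := mul_le_mul_of_nonneg_left (hz.2 g hg) ht
      linarith
  have hscale : ∀ v : E, 0 ≤ F.inf' hF (fun f => f v) → 0 < G.inf' hG (fun g => g v) →
      (G.inf' hG (fun g => g v))⁻¹ • v ∈ P := by
    intro v h1 h2
    refine ⟨fun f hf => ?_, fun g hg => ?_⟩
    · rw [map_smul, smul_eq_mul]
      exact mul_nonneg (inv_nonneg.2 h2.le) ((hFle 0 v).1 h1 f hf)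
    · rw [map_smul, smul_eq_mul]
      refine le_trans (le_of_eq (inv_mul_cancel₀ h2.ne').symm)
        (mul_le_mul_of_nonneg_left ?_ (inv_nonneg.2 h2.le))
      exact Finset.inf'_le (fun g : Module.Dual ℝ E => g v) hg
  obtain ⟨vp, hvp1, hvp2⟩ := hpos
  have hPne : P.Nonempty := ⟨_, hscale vp hvp1 hvp2⟩
  obtain ⟨w, hw, hwn⟩ := exists_norm_eq_iInf_of_complete_convex hPne hPc.isComplete hPx (0 : E)
  have hvar : ∀ v ∈ P, ⟪w, w⟫_ℝ ≤ ⟪w, v⟫_ℝ := by
    intro v hv
    have := (norm_eq_iInf_iff_real_inner_le_zero hPx hw).1 hwn v hv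
    rw [zero_sub, inner_neg_left, inner_sub_right] at this
    linarith
  have hwne : w ≠ 0 := by
    rintro rfl
    obtain ⟨g, hg⟩ := hG
    have := hw.2 g hg
    rw [map_zero] at this
    linarith
  have hwn0 : 0 < ‖w‖ := norm_pos_iff.2 hwne
  have hw1 : G.inf' hG (fun g => g w) = 1 := by
    have h1 : 1 ≤ G.inf' hG (fun g => g w) := (hGle 1 w).2 hw.2
    refine le_antisymm ?_ h1
    have hpos' : 0 < G.inf' hG (fun g => g w) := lt_of_lt_of_le one_pos h1
    have := hvar _ (hscale w ((hFle 0 w).2 hw.1) hpos')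
    rw [real_inner_smul_right, real_inner_self_eq_norm_sq] at this
    have h3 : (1 : ℝ) ≤ (G.inf' hG (fun g => g w))⁻¹ := by
      by_contra h
      have := mul_lt_of_lt_one_left (pow_pos hwn0 2) (not_le.1 h)
      linarith
    exact (one_le_inv₀ hpos').1 h3
  have hle : ∀ v : E, v ≠ 0 → 0 ≤ F.inf' hF (fun f => f v) →
      G.inf' hG (fun g => g v) / ‖v‖ ≤ 1 / ‖w‖ ∧
      (G.inf' hG (fun g => g v) / ‖v‖ = 1 / ‖w‖ → v = G.inf' hG (fun g => g v) • w) := by
    intro v hv hvF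
    set m := G.inf' hG (fun g => g v) with hm
    have hvn : 0 < ‖v‖ := norm_pos_iff.2 hv
    by_cases hm0 : m ≤ 0
    · have : m / ‖v‖ ≤ 0 := div_nonpos_of_nonpos_of_nonneg hm0 hvn.le
      have hp : 0 < 1 / ‖w‖ := by positivity
      exact ⟨by linarith, fun h => by linarith⟩
    · push_neg at hm0
      have hu := hvar _ (hscale v hvF hm0)
      rw [← hm] at hu
      have hcs := real_inner_le_norm w (m⁻¹ • v)
      rw [real_inner_self_eq_norm_sq] at hu
      have hun : ‖m⁻¹ • v‖ = ‖v‖ / m := by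
        rw [norm_smul, Real.norm_eq_abs, abs_of_pos (inv_pos.2 hm0), inv_mul_eq_div]
      have hge : ‖w‖ ≤ ‖v‖ / m := by
        rw [← hun]
        nlinarith
      have hle' : m * ‖w‖ ≤ ‖v‖ := by rw [le_div_iff₀ hm0] at hge; linarith
      refine ⟨by rw [div_le_div_iff₀ hvn hwn0]; linarith, fun h => ?_⟩
      rw [div_eq_div_iff hvn.ne' hwn0.ne'] at h
      have hne' : ‖m⁻¹ • v‖ = ‖w‖ := by rw [hun, div_eq_iff hm0.ne']; linarith
      have h0 : ‖m⁻¹ • v - w‖ ^ 2 ≤ 0 := by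
        rw [norm_sub_sq_real, hne', real_inner_comm]
        linarith
      have h1 : m⁻¹ • v - w = 0 := norm_eq_zero.1 (by nlinarith [norm_nonneg (m⁻¹ • v - w)])
      rw [← sub_eq_zero.1 h1, smul_smul, mul_inv_cancel₀ hm0.ne', one_smul]
  -- the active constraints and rationality of `w`
  let A : Finset (Module.Dual ℝ E) := F.filter (fun f => f w = 0) ∪ G.filter (fun g => g w = 1)
  have hAint : ∀ a ∈ A, ∀ x ∈ L, ∃ m : ℤ, a x = (m : ℝ) := by
    intro a ha
    rcases Finset.mem_union.1 ha with h | h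
    · exact hFi a (Finset.mem_filter.1 h).1
    · exact hGi a (Finset.mem_filter.1 h).1
  have hAval : ∀ a ∈ A, ∃ r : ℚ, a w = (r : ℝ) := by
    intro a ha
    rcases Finset.mem_union.1 ha with h | h
    · exact ⟨0, by simp [(Finset.mem_filter.1 h).2]⟩
    · exact ⟨1, by simp [(Finset.mem_filter.1 h).2]⟩
  have hperp : ∀ d : E, (∀ a ∈ A, a d = 0) → ⟪w, d⟫_ℝ = 0 := by
    suffices h : ∀ d : E, (∀ a ∈ A, a d = 0) → 0 ≤ ⟪w, d⟫_ℝ by
      intro d hd
      have h1 := h d hd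
      have h2 := h (-d) (fun a ha => by rw [map_neg, hd a ha, neg_zero])
      rw [inner_neg_right] at h2
      linarith
    intro d hd
    have aux : ∀ (f : Module.Dual ℝ E) (r : ℝ), r ≤ f w → (f w = r → f d = 0) →
        ∀ᶠ t in nhds (0 : ℝ), r ≤ f (w + t • d) := by
      intro f r hr hd0
      simp only [map_add, map_smul, smul_eq_mul]
      by_cases he : f w = r
      · simp [he, hd0 he]
      · have hlt : r < f w + (0 : ℝ) * f d := by
          simpa using lt_of_le_of_ne hr (Ne.symm he)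
        have hc : Continuous fun t : ℝ => f w + t * f d := by fun_prop
        exact (hc.continuousAt.eventually (lt_mem_nhds hlt)).mono fun t ht => ht.le
    have hev : ∀ᶠ t in nhds (0 : ℝ), w + t • d ∈ P := by
      refine Filter.Eventually.and ?_ ?_
      · exact (Filter.eventually_all_finset F).2 fun f hf => aux f 0 (hw.1 f hf) fun h =>
          hd f (Finset.mem_union_left _ (Finset.mem_filter.2 ⟨hf, h⟩))
      · exact (Filter.eventually_all_finset G).2 fun g hg => aux g 1 (hw.2 g hg) fun h =>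
          hd g (Finset.mem_union_right _ (Finset.mem_filter.2 ⟨hg, h⟩))
    obtain ⟨t, htP, ht⟩ := ((hev.filter_mono (nhdsWithin_le_nhds (s := Set.Ioi (0 : ℝ)))).and
      self_mem_nhdsWithin).exists
    have := hvar _ htP
    rw [inner_add_right, real_inner_smul_right] at this
    exact nonneg_of_mul_nonneg_right (by linarith) (Set.mem_Ioi.1 ht)
  have hspan : innerₗ E w ∈ Submodule.span ℝ (Set.range fun a : A => (a : Module.Dual ℝ E)) := by
    refine mem_span_of_iInf_ker_le_ker fun d hd => ?_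
    simp only [Submodule.mem_iInf, LinearMap.mem_ker] at hd
    simpa using hperp d fun a ha => hd ⟨a, ha⟩
  obtain ⟨μ, hμ⟩ := (Submodule.mem_span_range_iff_exists_fun ℝ).1 hspan
  obtain ⟨φ, hφ⟩ := (LinearMap.toSpanSingleton ℚ ℝ 1).exists_leftInverse_of_injective
    (LinearMap.ker_eq_bot.2 fun x z h => by simpa [Rat.smul_def] using h)
  have hφr : ∀ r : ℚ, φ (r : ℝ) = r := fun r => by
    have := LinearMap.congr_fun hφ r
    simpa [Rat.smul_def] using this
  have hφm : ∀ (r : ℚ) (x : ℝ), φ (x * (r : ℝ)) = φ x * r := fun r x => by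
    rw [mul_comm, ← Rat.smul_def, map_smul, smul_eq_mul, mul_comm]
  let c : Module.Free.ChooseBasisIndex ℤ L → ℝ := fun j => bR.repr w j
  let w' : E := ∑ j, (φ (c j) : ℝ) • bR j
  have hwc : ∑ j, c j • bR j = w := bR.sum_repr w
  have hAw' : ∀ a ∈ A, a w' = a w := by
    intro a ha
    obtain ⟨r, hr⟩ := hAval a ha
    choose m hm using fun j => hAint a ha _ (hb j)
    have h1 : ∑ j, c j * (m j : ℝ) = (r : ℝ) := by
      rw [← hr, ← hwc]
      simp [map_sum, map_smul, hm]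
    have h2 := congrArg φ h1
    rw [map_sum, hφr] at h2
    have h3 : ∀ j, φ (c j * (m j : ℝ)) = φ (c j) * (m j : ℚ) := fun j => by
      rw [← hφm]; norm_cast
    simp only [h3] at h2
    rw [hr, ← h2]
    simp [w', map_sum, map_smul, hm]
  have hw'span : ∃ ν : A → ℝ, ∑ a : A, ν a • (a : Module.Dual ℝ E) = innerₗ E w' := by
    refine ⟨fun a => (φ (μ a) : ℝ), bR.ext fun i => ?_⟩
    have h1 := LinearMap.congr_fun hμ (bR i)
    simp only [LinearMap.coe_sum, Finset.sum_apply, LinearMap.smul_apply, smul_eq_mul,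
      innerₗ_apply_apply] at h1
    choose m hm using fun a : A => hAint a a.2 _ (hb i)
    choose p hp using fun j => hint _ (hb j) _ (hb i)
    rw [← hwc, sum_inner] at h1
    simp only [real_inner_smul_left, hp, hm] at h1
    have h2 := congrArg φ h1
    rw [map_sum, map_sum] at h2
    have h3 : ∀ (x : ℝ) (m : ℤ), φ (x * (m : ℝ)) = φ x * (m : ℚ) := fun x m => by
      rw [← hφm]; norm_cast
    simp only [h3] at h2
    have h4 := congrArg (fun r : ℚ => (r : ℝ)) h2
    push_cast at h4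
    simp only [LinearMap.coe_sum, Finset.sum_apply, LinearMap.smul_apply, smul_eq_mul,
      innerₗ_apply_apply, w', sum_inner, real_inner_smul_left, hp, hm]
    exact h4
  have hww : w' = w := by
    obtain ⟨ν, hν⟩ := hw'span
    have h1 := LinearMap.congr_fun hν (w' - w)
    have h2 := LinearMap.congr_fun hμ (w' - w)
    have h0 : ∀ a : A, (a : Module.Dual ℝ E) (w' - w) = 0 := fun a => by
      rw [map_sub, hAw' a a.2, sub_self]
    simp [h0] at h1 h2
    have h5 : ⟪w' - w, w' - w⟫_ℝ = 0 := by rw [inner_sub_left]; linarith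
    exact sub_eq_zero.1 (inner_self_eq_zero.1 h5)
  -- a positive multiple of `w` in the lattice
  obtain ⟨N, hN, hNL⟩ : ∃ N : ℝ, 0 < N ∧ N • w ∈ L := by
    let d : ℕ := ∏ j, (φ (c j)).den
    have hd : 0 < d := Finset.prod_pos fun j _ => (φ (c j)).den_pos
    refine ⟨(d : ℝ), by exact_mod_cast hd, ?_⟩
    rw [← hww, Finset.smul_sum]
    refine sum_mem fun j _ => ?_
    obtain ⟨e, he⟩ : (φ (c j)).den ∣ d := Finset.dvd_prod_of_mem _ (Finset.mem_univ j)
    have : (d : ℝ) * (φ (c j) : ℝ) = (((φ (c j)).num * e : ℤ) : ℝ) := by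
      rw [he, Rat.cast_def (φ (c j))]
      push_cast
      field_simp
    rw [smul_smul, this, Int.cast_smul_eq_zsmul ℝ]
    exact zsmul_mem (hb j) _
  -- the primitive vector
  obtain ⟨j₀, hj₀⟩ : ∃ j, c j ≠ 0 := by
    by_contra h
    push_neg at h
    apply hwne
    rw [← hwc]
    simp [h]
  have hk : ∀ s : ℝ, s • w ∈ L → ∃ k : ℤ, s * c j₀ = (k : ℝ) := by
    intro s hs
    refine ⟨b.repr ⟨s • w, hs⟩ j₀, ?_⟩
    rw [← Module.Basis.ofZLatticeBasis_repr_apply ℝ L b ⟨s • w, hs⟩ j₀]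
    show s * c j₀ = bR.repr (s • w) j₀
    rw [map_smul, Finsupp.smul_apply, smul_eq_mul]
  have hex : ∃ m : ℕ, ∃ s : ℝ, 0 < s ∧ s • w ∈ L ∧ |s * c j₀| = (m : ℝ) := by
    obtain ⟨k, hkk⟩ := hk N hNL
    exact ⟨k.natAbs, N, hN, hNL, by rw [hkk, Nat.cast_natAbs, Int.cast_abs]⟩
  obtain ⟨s₀, hs₀, hs₀L, hm₀⟩ := Nat.find_spec hex
  have hgen : ∀ s : ℝ, 0 < s → s • w ∈ L → ∃ q : ℤ, s = (q : ℝ) * s₀ := by
    intro s hs hsL
    refine ⟨⌊s / s₀⌋, ?_⟩
    by_contra hne
    have h1 := Int.floor_le (s / s₀)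
    have h2 := Int.lt_floor_add_one (s / s₀)
    rw [le_div_iff₀ hs₀] at h1
    rw [div_lt_iff₀ hs₀] at h2
    set q : ℝ := (⌊s / s₀⌋ : ℝ) with hq
    have hpos' : 0 < s - q * s₀ := sub_pos.2 (lt_of_le_of_ne h1 (Ne.symm hne))
    have hlt : s - q * s₀ < s₀ := by linarith
    have hL' : (s - q * s₀) • w ∈ L := by
      rw [sub_smul, ← smul_smul, hq, Int.cast_smul_eq_zsmul ℝ]
      exact L.sub_mem hsL (zsmul_mem hs₀L _)
    obtain ⟨k, hkk⟩ := hk _ hL'
    have hle' : Nat.find hex ≤ k.natAbs :=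
      Nat.find_le ⟨_, hpos', hL', by rw [hkk, Nat.cast_natAbs, Int.cast_abs]⟩
    have h3 : |(s - q * s₀) * c j₀| < |s₀ * c j₀| := by
      rw [abs_mul, abs_mul, abs_of_pos hpos', abs_of_pos hs₀]
      exact mul_lt_mul_of_pos_right hlt (abs_pos.2 hj₀)
    rw [hkk, hm₀] at h3
    have : ((k.natAbs : ℕ) : ℝ) < (Nat.find hex : ℝ) := by
      rwa [Nat.cast_natAbs, Int.cast_abs]
    exact absurd (Nat.cast_lt.1 this) (not_lt.2 hle')
  have hv₀ : ∀ s : ℝ, 0 < s → G.inf' hG (fun g => g (s • w)) / ‖s • w‖ = 1 / ‖w‖ := by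
    intro s hs
    rw [hGsmul s w hs.le, hw1, norm_smul, Real.norm_eq_abs, abs_of_pos hs, mul_one]
    field_simp
  have hv₀F : ∀ s : ℝ, 0 < s → 0 ≤ F.inf' hF (fun f => f (s • w)) := by
    intro s hs
    rw [hFle]
    intro f hf
    rw [map_smul, smul_eq_mul]
    exact mul_nonneg hs.le (hw.1 f hf)
  have hsne : ∀ s : ℝ, 0 < s → s • w ≠ 0 := fun s hs => smul_ne_zero hs.ne' hwne
  have hray : ∀ v ∈ L, v ≠ 0 → 0 ≤ F.inf' hF (fun f => f v) →
      G.inf' hG (fun g => g v) / ‖v‖ = 1 / ‖w‖ → ∃ q : ℤ, 0 < q ∧ v = q • (s₀ • w) := by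
    intro v hvL hv hvF hveq
    have hv' := (hle v hv hvF).2 hveq
    set m := G.inf' hG (fun g => g v)
    have hmp : 0 < m := by
      by_contra h
      have h1 : m / ‖v‖ ≤ 0 := div_nonpos_of_nonpos_of_nonneg (not_lt.1 h) (norm_nonneg v)
      have h2 : (0 : ℝ) < 1 / ‖w‖ := by positivity
      linarith
    obtain ⟨q, hq⟩ := hgen m hmp (hv' ▸ hvL)
    refine ⟨q, ?_, ?_⟩
    · rw [hq] at hmp
      exact_mod_cast pos_of_mul_pos_left hmp hs₀.le
    · rw [hv', hq, ← Int.cast_smul_eq_zsmul ℝ, smul_smul]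
  refine ⟨1 / ‖w‖, ⟨⟨w, ⟨hwne, (hFle 0 w).2 hw.1⟩, by simp only; rw [hw1]⟩, ?_⟩,
    s₀ • w, ⟨hs₀L, hsne _ hs₀, hv₀F _ hs₀, hv₀ _ hs₀, fun v hvL hv hvF hveq => ?_⟩, ?_⟩
  · rintro r ⟨v, ⟨hv, hvF⟩, rfl⟩
    exact (hle v hv hvF).1
  · obtain ⟨q, -, hq⟩ := hray v hvL hv hvF hveq
    exact ⟨q, hq⟩
  · rintro v ⟨hvL, hv, hvF, hveq, huniv⟩
    obtain ⟨q, hq0, hq⟩ := hray v hvL hv hvF hveq
    obtain ⟨p, hp⟩ := huniv (s₀ • w) hs₀L (hsne _ hs₀) (hv₀F _ hs₀) (hv₀ _ hs₀)
    rw [hq, smul_smul] at hp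
    nth_rw 1 [← one_smul ℤ (s₀ • w)] at hp
    have hpq : (1 : ℤ) = p * q := by
      have h1 := congrArg (fun x : E => x) hp
      rw [← Int.cast_smul_eq_zsmul ℝ, ← Int.cast_smul_eq_zsmul ℝ] at h1
      exact_mod_cast smul_left_injective ℝ (hsne _ hs₀) h1
    have : q = 1 := Int.eq_one_of_mul_eq_one_left hq0.le hpq.symm
    rw [hq, this, one_smul]

end Groth.Agent.S17517
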