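import Groth.Statements.S1752
import Groth.Agent.KExact.SerreTop
-- import your own Groth.Agent.* helpers here

set_option autoImplicit false
set_option linter.style.haveILetI false
set_option backward.isDefEq.respectTransparency false
set_option backward.isDefEq.respectTransparency.types false

universe u
open CategoryTheory CategoryTheory.Limits AlgebraicGeometry
open Dual

namespace Groth.Agent.S1752

open Groth.Agent.KExact Groth.Agent.KFlatLib


/-- For X proper over a field k with dim X = d, there exist a coherent O_X-module ω (the dualizing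
module) and a k-linear map t : H^d(X, ω) → k such that for every quasi-coherent O_X-module F and
every k-linear form ψ on H^d(X, F) there is exactly one map φ : F → ω with ψ = t ∘ H^d(φ). In other
words ω represents F ↦ Hom_k(H^d(X, F), k). -/
theorem result (k : Type u) [Field k] (X : Scheme.{u}) [X.Over (Spec (CommRingCat.of k))] [IsProper (X ↘ Spec (CommRingCat.of k))] (d : ℕ) (hd : topologicalKrullDim X = d) : ∃ (ω : X.Modules) (t : Coh.HH X ω d →ₗ[k] k), Coh.IsCoh ω ∧ ∀ (F : X.Modules), Coh.IsQCoh F → ∀ ψ : Coh.HH X F d →ₗ[k] k, ∃! φ : F ⟶ ω, ∀ x : Coh.HH X F d, ψ x = t (Sheaf.H.map ((SheafOfModules.toSheaf X.ringCatSheaf).map φ) d x) := by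
  haveI : ∀ (U V : Scheme.{u}) (j : U ⟶ V) [IsOpenImmersion j],
      PreservesFiniteLimits (Scheme.Modules.restrictFunctor j) := fun U V j _ => inferInstance
  haveI : ∀ (R : CommRingCat.{u}), PreservesFiniteLimits (tilde.functor R) := fun R => QCoh.tilde_preservesFiniteLimits
  haveI := BCNat.isNoetherian_of_ft (X ↘ Spec (CommRingCat.of k))
  haveI := hasRpush_scheme (X ↘ Spec (CommRingCat.of k))
  have hf : DCoh.RpushPreservesQCoh (X ↘ Spec (CommRingCat.of k)) := fun K hK => isQCohD_rpush _ hK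
  obtain ⟨a, ⟨adj⟩⟩ := BCNat.exists_adj (X ↘ Spec (CommRingCat.of k)) hf
  obtain ⟨hω, hn⟩ := DualNormalized.field_normalized k
  let W : DCoh.DQCoh (Spec (CommRingCat.of k)) :=
    ⟨(DCoh.tildeD (CommRingCat.of k)).obj (Dual.inD k k), isQCohD_tildeD _ _⟩
  obtain ⟨-, hK, -⟩ := DualNormalized.proper_package (hf := hf) hω hn (X ↘ Spec (CommRingCat.of k)) adj W (Iso.refl _)
  haveI : X.IsSeparated := ⟨by rw [← terminal.comp_from (X ↘ Spec (CommRingCat.of k))]; infer_instance⟩
  have hgood : ∀ F : X.Modules, Coh.IsQCoh F → SerreTop.Good X d F := fun F hF =>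
    ⟨hF, fun i hi => Snapper.subsingleton_HH_of_dim_le hd.le hF hi⟩
  obtain ⟨t, ht⟩ := SerreTop.exists_trace (hf := hf) (Dual.inD k k) hω hn adj W (Iso.refl _) 0 d d
    (by rw [ringKrullDim_eq_zero_of_field]; rfl) hd rfl (hgood _ (DualNormalized.isCoh_hd hK _).1)
  let e : Dual.HD k (Dual.inD k k) (-((0 : ℕ) : ℤ)) ≃ₗ[k] k := H9Misc.DRingTel.homologyInD k
  refine ⟨_, e.toLinearMap.comp t, DualNormalized.isCoh_hd hK _, fun F hF ψ => ?_⟩
  obtain ⟨φ, hφ, huniq⟩ := ht F (hgood F hF) (e.symm.toLinearMap.comp ψ)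
  refine ⟨φ, fun x => ?_, fun φ' hφ' => huniq φ' fun x => ?_⟩
  · show ψ x = e _
    rw [← hφ x]
    exact (e.apply_symm_apply _).symm
  · show e.symm (ψ x) = _
    rw [hφ' x]
    exact e.symm_apply_apply _
end Groth.Agent.S1752
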