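import Groth.Statements.S17520
import Groth.Agent.StModLib.UnitBC
-- import your own Groth.Agent.* helpers here

set_option autoImplicit false
universe u
open CategoryTheory AlgebraicGeometry
open StMod

set_option backward.isDefEq.respectTransparency false
set_option backward.isDefEq.respectTransparency.types false

namespace Groth.Agent.S17520

/-- Let `S` be a quasi-separated scheme, `𝒳` an algebraic stack over `(Sch/S)` for the fppf topology,
`M` and `M'` algebraic spaces over `S` that are quasi-separated over `S`, `g : M' ⟶ M` a morphism of
algebraic spaces over `S`, `π : 𝒳 ⟶ M` a quasi-compact and quasi-separated morphism over `S`, and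
`π' : 𝒳 ×_M M' ⟶ M'` its base change (first projection of the 2-fibre product), the 2-fibre product
being assumed algebraic. If `π` is a good moduli space then so is `π'`, and `π'` is again
quasi-compact and quasi-separated. Here a good moduli space is a morphism to an algebraic space
along which pushforward takes surjections of quasi-coherent modules to maps surjective on sections
over every affine scheme etale over the target, and for which the canonical map from the functions
on any scheme etale over the target to the sections of the pushforward of the structure sheaf is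
bijective; cohomologically affine means the first of these two conditions. (The published statement
asks the algebraic spaces to be quasi-separated; the row takes them quasi-separated over a
quasi-separated base scheme `S`.) -/
theorem result
    (S : Scheme.{u}) [QuasiSeparatedSpace S]
    (𝒳 : AlgSt.Cat S) (h𝒳 : AlgSt.IsAlgStack Scheme.fppfPrecoverage 𝒳)
    (M M' : AlgSp.Space S) (hM : AlgSp.IsQuasiSeparatedSp M.obj) (hM' : AlgSp.IsQuasiSeparatedSp M'.obj)
    (g : M'.obj ⟶ M.obj) (π : 𝒳 ⥤ᵇ AlgSt.ofSp M.obj)
    (hqc : AlgSt.IsQuasiCompactMor Scheme.fppfPrecoverage π) (hqs : AlgSt.IsQuasiSeparatedMor π)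
    (h𝒳' : AlgSt.IsAlgStack Scheme.fppfPrecoverage (FibCat.fp (AlgSt.ofSpMap g) π))
    (h : StMod.IsGoodModuli π) :
    StMod.IsGoodModuli (FibCat.fpFst (AlgSt.ofSpMap g) π) ∧
      AlgSt.IsQuasiCompactMor Scheme.fppfPrecoverage (FibCat.fpFst (AlgSt.ofSpMap g) π) ∧
      AlgSt.IsQuasiSeparatedMor (FibCat.fpFst (AlgSt.ofSpMap g) π) := by
  have hM₀ := Groth.Agent.StModLib.hasQcProd_of_qs M hM
  exact ⟨⟨Groth.Agent.StModLib.isCohAffine_fpFst h𝒳 M M' hM₀ g π hqc hqs h.1,
    Groth.Agent.StModLib.unitIsIso_fpFst h𝒳 M M' hM₀ g π hqc hqs h⟩,
    Groth.Agent.AlgStLib.isQuasiCompactMor_fpFst _ hqc, Groth.Agent.AlgStLib.repByAlgSpWith_diag_fpFst hqs⟩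

end Groth.Agent.S17520
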