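import Groth.Statements.S17523
import Groth.Agent.StModLib.CohDescent
-- import your own Groth.Agent.* helpers here

set_option autoImplicit false
universe u
open CategoryTheory AlgebraicGeometry
open StMod

set_option backward.isDefEq.respectTransparency false
set_option backward.isDefEq.respectTransparency.types false

namespace Groth.Agent.S17523

/-- For targets that are algebraic spaces, let `S` be a quasi-separated scheme, `𝒳` an algebraic stack
over `(Sch/S)` for the fppf topology, `M` and `M'` algebraic spaces over `S` that are
quasi-separated over `S`, `g : M' ⟶ M` a morphism of algebraic spaces over `S`, `π : 𝒳 ⟶ M` a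
quasi-compact and quasi-separated morphism over `S`, and `π' : 𝒳 ×_M M' ⟶ M'` its base change (first
projection of the 2-fibre product), the 2-fibre product being assumed algebraic. Suppose `g` is
faithfully flat: flat (on etale charts) and surjective on points, and suppose `π'` is quasi-compact
and quasi-separated. If `π'` is cohomologically affine, then `π` is cohomologically affine. Here a
good moduli space is a morphism to an algebraic space along which pushforward takes surjections of
quasi-coherent modules to maps surjective on sections over every affine scheme etale over the
target, and for which the canonical map from the functions on any scheme etale over the target to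
the sections of the pushforward of the structure sheaf is bijective; cohomologically affine means
the first of these two conditions. (The published statement is for an arbitrary cartesian square of
algebraic stacks; this row is its case where the targets are algebraic spaces quasi-separated over a
quasi-separated base scheme `S`. Quasi-compactness and quasi-separatedness of `π` are assumed rather
than concluded: along a flat surjective `g` that is not quasi-compact they do not descend, while
exactness of pushforward does.) -/
theorem result
    (S : Scheme.{u}) [QuasiSeparatedSpace S]
    (𝒳 : AlgSt.Cat S) (h𝒳 : AlgSt.IsAlgStack Scheme.fppfPrecoverage 𝒳)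
    (M M' : AlgSp.Space S) (hM : AlgSp.IsQuasiSeparatedSp M.obj) (hM' : AlgSp.IsQuasiSeparatedSp M'.obj)
    (g : M'.obj ⟶ M.obj) (hgf : AlgSp.LocP @Flat g) (hgs : AlgSp.IsSurjectiveMor g)
    (π : 𝒳 ⥤ᵇ AlgSt.ofSp M.obj)
    (hqc : AlgSt.IsQuasiCompactMor Scheme.fppfPrecoverage π) (hqs : AlgSt.IsQuasiSeparatedMor π)
    (h𝒳' : AlgSt.IsAlgStack Scheme.fppfPrecoverage (FibCat.fp (AlgSt.ofSpMap g) π))
    (hqc' : AlgSt.IsQuasiCompactMor Scheme.fppfPrecoverage (FibCat.fpFst (AlgSt.ofSpMap g) π))
    (hqs' : AlgSt.IsQuasiSeparatedMor (FibCat.fpFst (AlgSt.ofSpMap g) π))
    (h' : StMod.IsCohAffine (FibCat.fpFst (AlgSt.ofSpMap g) π)) :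
    StMod.IsCohAffine π := by
  exact Groth.Agent.StModLib.isCohAffine_of_fpFst h𝒳.isStack.1 g hgf hgs π hqc hqs h' 

end Groth.Agent.S17523
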