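import Groth.Statements.S17524
import Groth.Agent.StModLib.GoodClosed
-- import your own Groth.Agent.* helpers here

set_option autoImplicit false
universe u
open CategoryTheory AlgebraicGeometry
open StMod

set_option backward.isDefEq.respectTransparency false
set_option backward.isDefEq.respectTransparency.types false

namespace Groth.Agent.S17524

/-- Let `S` be a quasi-separated scheme, `𝒳` an algebraic stack over `(Sch/S)` for the fppf topology,
`M` an algebraic space over `S` that is quasi-separated over `S`, and `π : 𝒳 ⟶ M` a quasi-compact
and quasi-separated good moduli space. Then `π` is surjective on points and universally closed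
(every base change of `π` to an algebraic stack is closed on points). Here a good moduli space is a
morphism to an algebraic space along which pushforward takes surjections of quasi-coherent modules
to maps surjective on sections over every affine scheme etale over the target, and for which the
canonical map from the functions on any scheme etale over the target to the sections of the
pushforward of the structure sheaf is bijective; cohomologically affine means the first of these two
conditions. (The published statement assumes `𝒳` quasi-separated, from which its proof derives that
`M` is quasi-separated, the property it uses; this row assumes the latter directly, with `M`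
quasi-separated over a quasi-separated base scheme.) -/
theorem result
    (S : Scheme.{u}) [QuasiSeparatedSpace S]
    (𝒳 : AlgSt.Cat S) (h𝒳 : AlgSt.IsAlgStack Scheme.fppfPrecoverage 𝒳)
    (M : AlgSp.Space S) (hM : AlgSp.IsQuasiSeparatedSp M.obj) (π : 𝒳 ⥤ᵇ AlgSt.ofSp M.obj)
    (hqc : AlgSt.IsQuasiCompactMor Scheme.fppfPrecoverage π) (hqs : AlgSt.IsQuasiSeparatedMor π)
    (h : StMod.IsGoodModuli π) :
    AlgSt.IsSurjective π ∧ AlgSt.IsUnivClosed Scheme.fppfPrecoverage π := by
  have hM₀ := Groth.Agent.StModLib.hasQcProd_of_qs M hM
  exact ⟨Groth.Agent.StModLib.surjective_of_isGoodModuli h𝒳 M hM₀ π hqc hqs h,
    Groth.Agent.StModLib.isUnivClosed_of_isGoodModuli h𝒳 M hM₀ π hqc hqs h⟩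

end Groth.Agent.S17524
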