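import Groth.Statements.S17534
-- import your own Groth.Agent.* helpers here
import Groth.Agent.HopfGalois.Red

set_option autoImplicit false
universe u
open CategoryTheory MonoidalCategory CartesianMonoidalCategory AlgebraicGeometry
open HopfRep

namespace Groth.Agent.S17534

/-- Let `k` be an algebraically closed field, `AG` a commutative Hopf algebra of finite type over `k`
which is linearly reductive (every finite-dimensional comodule semisimple; `G = Spec AG`), `AH` a
commutative Hopf algebra of finite type and `ψ : AG → AH` a surjective bialgebra map, so that `H =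
Spec AH → G` is a closed subgroup (assumed a homomorphism of group schemes), and let `q : G ⟶ Q`
present the `k`-scheme `Q` as the fppf quotient `G/H` (`q` surjective, flat and locally of finite
presentation, and the square with the projection and the multiplication `G × H → G` cartesian). If
`Q` is affine, then `H` is linearly reductive. (The direct direction — `Q` affine whenever `H` is
linearly reductive — holds without hypothesis on `G`; together they form the published equivalence.) -/
theorem result
    (k : Type u) [Field k] [IsAlgClosed k]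
    (AG AH : Type u) [CommRing AG] [HopfAlgebra k AG] [Algebra.FiniteType k AG]
    [CommRing AH] [HopfAlgebra k AH] [Algebra.FiniteType k AH]
    (hG : HopfRep.IsLinearlyReductive k AG)
    (ψ : AG →ₐc[k] AH) (hψ : Function.Surjective ψ)
    [IsMonHom (CoactBr.pt (ψ : AG →ₐ[k] AH))]
    (Q : Over (Spec (CommRingCat.of k))) (q : CoactBr.sp k AG ⟶ Q)
    (hq : RedSub.IsQuotient (CoactBr.pt (ψ : AG →ₐ[k] AH)) q) :
    IsAffine Q.left → HopfRep.IsLinearlyReductive k AH := by
  intro hQ
  haveI := hQ
  obtain ⟨hs, hfl, -, sq⟩ := hq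
  haveI := hs
  haveI := hfl
  let qL : Spec (CommRingCat.of AG) ⟶ Q.left := q.left
  haveI : Surjective qL := hs
  haveI : Flat qL := hfl
  let C := Γ(Q.left, ⊤)
  let φ : CommRingCat.of C ⟶ CommRingCat.of AG := Spec.preimage (qL ≫ Q.left.isoSpec.hom)
  let σ : CommRingCat.of k ⟶ CommRingCat.of C := Spec.preimage (Q.left.isoSpec.inv ≫ Q.hom)
  have hφ : Spec.map φ = qL ≫ Q.left.isoSpec.hom := Spec.map_preimage _
  have hσ : Spec.map σ = Q.left.isoSpec.inv ≫ Q.hom := Spec.map_preimage _
  have hσφ : σ ≫ φ = CommRingCat.ofHom (algebraMap k AG) := by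
    apply Spec.map_injective
    rw [Spec.map_comp, hφ, hσ, Category.assoc, Iso.hom_inv_id_assoc]
    exact Over.w q
  letI : Algebra k C := σ.hom.toAlgebra
  letI : Algebra C AG := φ.hom.toAlgebra
  haveI : IsScalarTower k C AG := IsScalarTower.of_algebraMap_eq' (congrArg CommRingCat.Hom.hom hσφ).symm
  haveI : Flat (Spec.map φ) := by rw [hφ]; infer_instance
  haveI : Surjective (Spec.map φ) := by rw [hφ]; infer_instance
  haveI : Module.FaithfullyFlat C AG := RingHom.faithfullyFlat_algebraMap_iff.mp
    (RingHom.FaithfullyFlat.iff_flat_and_comap_surjective.mpr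
      ⟨(HasRingHomProperty.Spec_iff (P := @AlgebraicGeometry.Flat)).mp ‹Flat (Spec.map φ)›,
        fun x => (Spec.map φ).surjective x⟩)
  obtain ⟨e, he1, he2⟩ := Groth.Agent.HopfGalois.exists_iso_tensor ψ
  have sqT : IsPullback (CoactBr.pt (Algebra.TensorProduct.includeLeft : AG →ₐ[k] TensorProduct k AG AH))
      (CoactBr.pt (Groth.Agent.HopfGalois.rho ψ)) q q :=
    sq.of_iso e.symm (Iso.refl _) (Iso.refl _) (Iso.refl _)
      (by rw [Iso.refl_hom, Category.comp_id, Iso.symm_hom, ← he1, Iso.inv_hom_id_assoc])
      (by rw [Iso.refl_hom, Category.comp_id, Iso.symm_hom, ← he2, Iso.inv_hom_id_assoc]) (by simp) (by simp)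
  have sqS := (sqT.map (Over.forget _)).of_iso (Iso.refl _) (Iso.refl _) (Iso.refl _) Q.left.isoSpec
    (fst' := Spec.map (CommRingCat.ofHom (Algebra.TensorProduct.includeLeft :
      AG →ₐ[k] TensorProduct k AG AH).toRingHom))
    (snd' := Spec.map (CommRingCat.ofHom (Groth.Agent.HopfGalois.rho ψ).toRingHom))
    (f' := Spec.map φ) (g' := Spec.map φ)
    ((Category.comp_id _).trans (Category.id_comp _).symm) ((Category.comp_id _).trans (Category.id_comp _).symm)
    (by rw [hφ]; exact (Category.id_comp _).symm) (by rw [hφ]; exact (Category.id_comp _).symm)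
  obtain ⟨β, hβ, hβt⟩ := Groth.Agent.HopfGalois.exists_bijective_of_isPullback (C := C) (A := AG) _ _ sqS
  obtain ⟨α, hα, h1⟩ := Groth.Agent.ComodLib.exists_integral_of_isLinearlyReductive hG
  refine Groth.Agent.HopfGalois.isLinearlyReductive_of_galois ψ hα h1 β hβ (fun x y => hβt x y) (fun c => ?_)
  have h' : φ ≫ CommRingCat.ofHom (Algebra.TensorProduct.includeLeft :
      AG →ₐ[k] TensorProduct k AG AH).toRingHom =
      φ ≫ CommRingCat.ofHom (Groth.Agent.HopfGalois.rho ψ).toRingHom :=
    Spec.map_injective (by rw [Spec.map_comp, Spec.map_comp]; exact sqS.w)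
  exact (congrArg (fun f => f.hom c) h').symm

end Groth.Agent.S17534
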