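import Groth.Statements.S17536
-- imports

set_option autoImplicit false
universe u v w
open W4c5adicflatcompl
open CAlg

namespace Groth.Agent.S17536

/-- If the A-module M is I-adically separated then so is the module of I-adically decaying functions
from a set Z to M. -/
theorem result {A : Type u} [CommRing A] (I : Ideal A) (Z : Type v)
    (M : Type w) [AddCommGroup M] [Module A M] [IsHausdorff I M] :
    IsHausdorff I (decaying I Z M) := by
  refine ⟨fun f hf => ?_⟩
  ext z
  apply IsHausdorff.haus ‹IsHausdorff I M›
  intro n
  have h := hf n
  rw [SModEq.sub_mem] at h ⊢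
  have h2 := Submodule.mem_map_of_mem (f := ((LinearMap.proj z).comp (decaying I Z M).subtype : decaying I Z M →ₗ[A] M)) h
  rw [Submodule.map_smul''] at h2
  have h3 : (I ^ n • Submodule.map ((LinearMap.proj z).comp (decaying I Z M).subtype : decaying I Z M →ₗ[A] M) ⊤) ≤ I ^ n • (⊤ : Submodule A M) :=
    Submodule.smul_mono le_rfl le_top
  simpa using h3 h2

end Groth.Agent.S17536
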