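import Groth.Statements.S9601
import Mathlib

set_option autoImplicit false
universe u
open CAlg

namespace Groth.Agent.S9601

/-- For a ring R, an ideal I of R and an R-module M, let M^ be the I-adic completion and K_n the kernel
of the projection M^ → M/IⁿM. The completion M^ is I-adically complete exactly when K_n = Iⁿ M^
holds for every n ≥ 1. -/
theorem result {R : Type u} [CommRing R] (I : Ideal R) (M : Type u) [AddCommGroup M] [Module R M] :
    IsAdicComplete I (AdicCompletion I M) ↔ ∀ n : ℕ, 1 ≤ n → LinearMap.ker (AdicCompletion.eval I M n) = I ^ n • (⊤ : Submodule R (AdicCompletion I M)) := by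
  constructor
  · intro hC n _
    refine le_antisymm (fun x hx => ?_) (AdicCompletion.pow_smul_top_le_ker_eval I n)
    choose a ha using fun m => Submodule.Quotient.mk_surjective _ (x.val m)
    let y : ℕ → AdicCompletion I M := fun m => AdicCompletion.of I M (a m)
    have hker : ∀ m, x - y m ∈ LinearMap.ker (AdicCompletion.eval I M m) := fun m => by
      simp [y, AdicCompletion.eval_of, ha]
    have hcau : ∀ {m k : ℕ}, m ≤ k → y m ≡ y k [SMOD I ^ m • (⊤ : Submodule R (AdicCompletion I M))] := by
      intro m k hmk
      rw [SModEq.sub_mem]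
      have h1 : a m - a k ∈ I ^ m • (⊤ : Submodule R M) := by
        rw [← Submodule.Quotient.eq, ha m, ← x.prop hmk, ← ha k]
        rfl
      have := Submodule.mem_map_of_mem (f := AdicCompletion.of I M) h1
      rw [Submodule.map_smul'', map_sub] at this
      exact Submodule.smul_mono le_rfl le_top this
    obtain ⟨L, hL⟩ := IsPrecomplete.prec hC.toIsPrecomplete hcau
    have hxL : x = L := by
      refine AdicCompletion.ext fun m => ?_
      have h1 := AdicCompletion.pow_smul_top_le_ker_eval I m (SModEq.sub_mem.1 (hL m))
      have h2 := hker m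
      rw [LinearMap.mem_ker] at h1 h2
      rw [map_sub, sub_eq_zero] at h1 h2
      exact h2.trans h1
    have h1 : y n ∈ I ^ n • (⊤ : Submodule R (AdicCompletion I M)) := by
      have h0 : a n ∈ I ^ n • (⊤ : Submodule R M) := by
        rw [← Submodule.Quotient.mk_eq_zero, ha n]; exact hx
      have := Submodule.mem_map_of_mem (f := AdicCompletion.of I M) h0
      rw [Submodule.map_smul''] at this
      exact Submodule.smul_mono le_rfl le_top this
    have h2 := Submodule.sub_mem _ h1 (SModEq.sub_mem.1 (hL n))
    rw [sub_sub_cancel, ← hxL] at h2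
    exact h2
  · intro h
    have h' : ∀ n, LinearMap.ker (AdicCompletion.eval I M n) = I ^ n • (⊤ : Submodule R (AdicCompletion I M)) := by
      intro n
      rcases Nat.eq_zero_or_pos n with rfl | hn
      · refine le_antisymm (fun x _ => by simp) (AdicCompletion.pow_smul_top_le_ker_eval I 0)
      · exact h n hn
    refine { haus' := fun x hx => ?_, prec' := fun f hf => ?_ }
    · refine AdicCompletion.ext fun n => ?_
      have h1 := hx n
      rw [SModEq.sub_mem, sub_zero, ← h', LinearMap.mem_ker] at h1
      exact h1
    · have hv : ∀ {m n : ℕ}, m ≤ n → (f n).val m = (f m).val m := by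
        intro m n hmn
        have h1 := SModEq.sub_mem.1 (hf hmn)
        rw [← h', LinearMap.mem_ker, map_sub, sub_eq_zero] at h1
        exact h1.symm
      refine ⟨⟨fun n => (f n).val n, fun {m n} hmn => ?_⟩, fun n => ?_⟩
      · show AdicCompletion.transitionMap I M hmn ((f n).val n) = (f m).val m
        rw [(f n).prop hmn, hv hmn]
      · rw [SModEq.sub_mem, ← h', LinearMap.mem_ker, map_sub, sub_eq_zero]
        rfl


end Groth.Agent.S9601
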