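import Groth.Statements.S17537
import Groth.Agent.S9601

set_option autoImplicit false
universe u v
open CAlg

namespace Groth.Agent.S17537
/-- The criterion in terms of kernels, for a module in any universe. -/
theorem ker_eval_le_iff {A : Type u} [CommRing A] (I : Ideal A) (M : Type v) [AddCommGroup M] [Module A M] :
    (∀ n, LinearMap.ker (AdicCompletion.eval I M n) ≤ I ^ n • (⊤ : Submodule A (AdicCompletion I M))) ↔
      ∀ (n : ℕ) (x : AdicCompletion I M), ∃ y : M,
        x - AdicCompletion.of I M y ∈ (I ^ n • ⊤ : Submodule A (AdicCompletion I M)) := by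
  constructor
  · intro h n x
    obtain ⟨y, hy⟩ := Submodule.mkQ_surjective _ (AdicCompletion.eval I M n x)
    refine ⟨y, h n ?_⟩
    rw [LinearMap.mem_ker, map_sub, AdicCompletion.eval_of, hy, sub_self]
  · intro h n x hx
    obtain ⟨y, hy⟩ := h n x
    have h1 := AdicCompletion.pow_smul_top_le_ker_eval I n hy
    rw [LinearMap.mem_ker] at hx h1
    rw [map_sub, hx, zero_sub, neg_eq_zero, AdicCompletion.eval_of, Submodule.mkQ_apply,
      Submodule.Quotient.mk_eq_zero] at h1
    have h2 := Submodule.mem_map_of_mem (f := AdicCompletion.of I M) h1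
    rw [Submodule.map_smul''] at h2
    have := Submodule.add_mem _ hy (Submodule.smul_mono le_rfl le_top h2)
    simpa using this

/-- For a commutative ring A, an ideal I and an A-module M, the I-adic completion M^ of M is itself
I-adically complete if and only if, for every n, every element of M^ is congruent modulo I^n M^ to
the image of an element of M (the maps M/I^n M → M^/I^n M^ are surjective). -/
theorem result {A : Type u} [CommRing A] (I : Ideal A)
    (M : Type v) [AddCommGroup M] [Module A M] :
    IsAdicComplete I (AdicCompletion I M) ↔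
      ∀ (n : ℕ) (x : AdicCompletion I M), ∃ y : M,
        x - AdicCompletion.of I M y ∈ (I ^ n • ⊤ : Submodule A (AdicCompletion I M)) := by
  rw [← ker_eval_le_iff]
  constructor
  · intro hC n x hx
    choose a ha using fun m => Submodule.Quotient.mk_surjective _ (x.val m)
    let y : ℕ → AdicCompletion I M := fun m => AdicCompletion.of I M (a m)
    have hker : ∀ m, x - y m ∈ LinearMap.ker (AdicCompletion.eval I M m) := fun m => by
      simp [y, AdicCompletion.eval_of, ha]
    have hcau : ∀ {m k : ℕ}, m ≤ k → y m ≡ y k [SMOD I ^ m • (⊤ : Submodule A (AdicCompletion I M))] := by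
      intro m k hmk
      rw [SModEq.sub_mem]
      have h1 : a m - a k ∈ I ^ m • (⊤ : Submodule A M) := by
        rw [← Submodule.Quotient.eq, ha m, ← x.prop hmk, ← ha k]
        rfl
      have := Submodule.mem_map_of_mem (f := AdicCompletion.of I M) h1
      rw [Submodule.map_smul'', map_sub] at this
      exact Submodule.smul_mono le_rfl le_top this
    obtain ⟨L, hL⟩ := IsPrecomplete.prec hC.toIsPrecomplete hcau
    have hxL : x = L := by
      refine AdicCompletion.ext fun m => ?_
      have h1 := AdicCompletion.pow_smul_top_le_ker_eval I m (SModEq.sub_mem.1 (hL m))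
      have h2 := hker m
      rw [LinearMap.mem_ker] at h1 h2
      rw [map_sub, sub_eq_zero] at h1 h2
      exact h2.trans h1
    have h1 : y n ∈ I ^ n • (⊤ : Submodule A (AdicCompletion I M)) := by
      have h0 : a n ∈ I ^ n • (⊤ : Submodule A M) := by
        rw [← Submodule.Quotient.mk_eq_zero, ha n]; exact hx
      have := Submodule.mem_map_of_mem (f := AdicCompletion.of I M) h0
      rw [Submodule.map_smul''] at this
      exact Submodule.smul_mono le_rfl le_top this
    have h2 := Submodule.sub_mem _ h1 (SModEq.sub_mem.1 (hL n))
    rw [sub_sub_cancel, ← hxL] at h2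
    exact h2
  · intro h
    have h' : ∀ n, LinearMap.ker (AdicCompletion.eval I M n) = I ^ n • (⊤ : Submodule A (AdicCompletion I M)) :=
      fun n => le_antisymm (h n) (AdicCompletion.pow_smul_top_le_ker_eval I n)
    refine { haus' := fun x hx => ?_, prec' := fun f hf => ?_ }
    · refine AdicCompletion.ext fun n => ?_
      have h1 := hx n
      rw [SModEq.sub_mem, sub_zero, ← h', LinearMap.mem_ker] at h1
      exact h1
    · have hv : ∀ {m n : ℕ}, m ≤ n → (f n).val m = (f m).val m := by
        intro m n hmn
        have h1 := SModEq.sub_mem.1 (hf hmn)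
        rw [← h', LinearMap.mem_ker, map_sub, sub_eq_zero] at h1
        exact h1.symm
      refine ⟨⟨fun n => (f n).val n, fun {m n} hmn => ?_⟩, fun n => ?_⟩
      · show AdicCompletion.transitionMap I M hmn ((f n).val n) = (f m).val m
        rw [(f n).prop hmn, hv hmn]
      · refine SModEq.sub_mem.2 ?_
        rw [← h', LinearMap.mem_ker]
        refine (map_sub _ _ _).trans (sub_eq_zero.2 ?_)
        rfl

end Groth.Agent.S17537
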