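import Groth.Statements.S17538
import Mathlib

set_option autoImplicit false
universe u v
open CAlg

namespace Groth.Agent.S17538

/-- For a commutative ring A, an ideal I and an A-module M, the canonical map from the I-adic completion
M^ to the I-adic completion of M^ admits an A-linear retraction (it is a split injection). (That M^
is I-adically separated is standard.) -/
theorem result {A : Type u} [CommRing A] (I : Ideal A)
    (M : Type v) [AddCommGroup M] [Module A M] :
    ∃ ψ : AdicCompletion I (AdicCompletion I M) →ₗ[A] AdicCompletion I M,
      ψ ∘ₗ AdicCompletion.of I (AdicCompletion I M) = LinearMap.id := by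
  have hk : ∀ n, (I ^ n • ⊤ : Submodule A (AdicCompletion I M)) ≤
      LinearMap.ker (AdicCompletion.eval I M n) := by
    intro n
    rw [Submodule.smul_le]
    intro r hr x _
    rw [LinearMap.mem_ker, map_smul]
    induction AdicCompletion.eval I M n x using Submodule.Quotient.induction_on with
    | H y =>
      rw [← Submodule.Quotient.mk_smul, Submodule.Quotient.mk_eq_zero]
      exact Submodule.smul_mem_smul hr trivial
  refine ⟨AdicCompletion.lift I
    (fun n => Submodule.liftQ _ (AdicCompletion.eval I M n) (hk n) ∘ₗ
      AdicCompletion.eval I (AdicCompletion I M) n) ?_, ?_⟩
  · intro m n hle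
    have key : ∀ y, AdicCompletion.transitionMap I M hle (Submodule.liftQ _ (AdicCompletion.eval I M n) (hk n) y) =
        Submodule.liftQ _ (AdicCompletion.eval I M m) (hk m)
          (AdicCompletion.transitionMap I (AdicCompletion I M) hle y) := fun y => by
      induction y using Submodule.Quotient.induction_on with
      | H z => exact z.2 hle
    refine LinearMap.ext fun x => ?_
    exact (key _).trans (congrArg _ (x.2 hle))
  · ext x n
    rfl

end Groth.Agent.S17538
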