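import Groth.Statements.S17539
import Mathlib
import Groth.Agent.AdicFreeLib.Basic

set_option autoImplicit false
universe u v w
open W4c5adicflatcompl
open CAlg

namespace Groth.Agent.S17539

/-- For a commutative ring A, an ideal I, a set Z and an A-module M whose I-adic completion M^ is itself
I-adically complete, the canonical map from the I-adic completion of Z →₀ M to the functions Z → M^,
whose z-th coordinate is the completion of evaluation at z, is injective with image the I-adically
decaying functions Z → M^. (The source states bijectivity of the inverse map, from decaying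
functions to the limit of the finitely supported functions Z → M/I^n M, induced by the projections
M^ → M/I^n M; the two formulations are equivalent.) -/
theorem result {A : Type u} [CommRing A] (I : Ideal A) (Z : Type v)
    (M : Type w) [AddCommGroup M] [Module A M] [IsAdicComplete I (AdicCompletion I M)] :
    Function.Injective
        (LinearMap.pi fun z : Z =>
          (AdicCompletion.map I (Finsupp.lapply (M := M) (R := A) z)).restrictScalars A) ∧
      LinearMap.range
        (LinearMap.pi fun z : Z =>
          (AdicCompletion.map I (Finsupp.lapply (M := M) (R := A) z)).restrictScalars A) =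
        decaying I Z (AdicCompletion I M) := by
  classical
  let Q : ∀ n : ℕ, (Z →₀ M) ⧸ (I ^ n • ⊤ : Submodule A (Z →₀ M)) →ₗ[A] Z →₀ M ⧸ (I ^ n • ⊤ : Submodule A M) := fun n =>
    Submodule.liftQ _ (Finsupp.mapRange.linearMap (I ^ n • ⊤ : Submodule A M).mkQ) fun f hf => by
      rw [LinearMap.mem_ker]
      ext z
      simpa [Submodule.Quotient.mk_eq_zero] using Groth.Agent.AdicFreeLib.finsupp_mem_pow_smul_iff.1 hf z
  have hQi : ∀ n, Function.Injective (Q n) := fun n => by
    rw [injective_iff_map_eq_zero]
    intro x hx
    obtain ⟨f, rfl⟩ := Submodule.Quotient.mk_surjective _ x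
    rw [Submodule.Quotient.mk_eq_zero, Groth.Agent.AdicFreeLib.finsupp_mem_pow_smul_iff]
    intro z
    have := DFunLike.congr_fun hx z
    simpa [Q, Submodule.Quotient.mk_eq_zero] using this
  have hQs : ∀ n, Function.Surjective (Q n) := fun n g => by
    choose l hl using fun z => Submodule.Quotient.mk_surjective _ (g z)
    refine ⟨Submodule.Quotient.mk (Finsupp.onFinset g.support (fun z => if g z = 0 then 0 else l z) (fun z hz => by
      rw [Finsupp.mem_support_iff]; intro h; simp [h] at hz)), Finsupp.ext fun z => ?_⟩
    by_cases h : g z = 0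
    · simp [Q, h]
    · simp [Q, h, hl]
  let π : ∀ n, AdicCompletion I (Z →₀ M) →ₗ[A] Z →₀ M ⧸ (I ^ n • ⊤ : Submodule A M) := fun n =>
    Q n ∘ₗ AdicCompletion.eval I (Z →₀ M) n
  have hT : ∀ {m n : ℕ} (h : m ≤ n) (q : (Z →₀ M) ⧸ (I ^ n • ⊤ : Submodule A (Z →₀ M))) (z : Z),
      AdicCompletion.transitionMap I M h (Q n q z) = Q m (AdicCompletion.transitionMap I (Z →₀ M) h q) z := by
    intro m n h q z
    obtain ⟨f, rfl⟩ := Submodule.Quotient.mk_surjective _ q
    simp [Q, AdicCompletion.transitionMap]
  obtain ⟨e, he⟩ := Groth.Agent.AdicFreeLib.exists_equiv_decaying (I := I) (Z := Z) (M := M) π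
    (fun {m n} h x z => by
      show AdicCompletion.transitionMap I M h (Q n (x.val n) z) = Q m (x.val m) z
      rw [hT, x.2 h])
    (fun x hx => AdicCompletion.ext fun n => hQi n (by rw [AdicCompletion.val_zero_apply, map_zero]; exact hx n))
    (fun y hy => by
      choose g hg using fun n => hQs n (y n)
      exact ⟨⟨g, fun {m n} h => hQi m (Finsupp.ext fun z => by rw [← hT, hg, hg, hy h])⟩, hg⟩)
  have key : ∀ x z, (LinearMap.pi fun z : Z => (AdicCompletion.map I (Finsupp.lapply (M := M) (R := A) z)).restrictScalars A) x z =
      (e x : Z → AdicCompletion I M) z := by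
    intro x z
    refine AdicCompletion.ext fun n => ?_
    rw [he, LinearMap.pi_apply, LinearMap.coe_restrictScalars, AdicCompletion.map_val_apply]
    obtain ⟨f, hf⟩ := Submodule.Quotient.mk_surjective _ (x.val n)
    show _ = Q n (x.val n) z
    rw [← hf]
    simp [Q]
  refine ⟨fun x y hxy => e.injective (Subtype.ext (funext fun z => by rw [← key, ← key, hxy])), ?_⟩
  ext f
  constructor
  · rintro ⟨x, rfl⟩
    rw [show _ = (e x : Z → AdicCompletion I M) from funext (key x)]
    exact (e x).2
  · intro hf
    obtain ⟨x, hx⟩ := e.surjective ⟨f, hf⟩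
    exact ⟨x, funext fun z => by rw [key, hx]⟩

end Groth.Agent.S17539
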