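import Groth.Statements.S1754
import Groth.Agent.GrLib8.Cutoff.Kollar
-- import your own Groth.Agent.* helpers here

set_option autoImplicit false
universe u
open LocCoh

namespace Groth.Agent.S1754

/-- Let A be a Noetherian domain and I a nonzero ideal. Suppose that for every prime q containing I and
every associated prime P of the completion B of the local ring A_q, the quotient B/P has dimension
at least 2. Then the local cohomology module H^1_I(A) is a finite A-module. (This is the affine
form, with coherence of j_*O_U for U = Spec A ∖ V(I) expressed as finiteness of H^1_I(A).) -/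
theorem result (A : Type u) [CommRing A] [IsDomain A] [IsNoetherianRing A] (I : Ideal A) (hI : I ≠ ⊥) (h : ∀ (q : PrimeSpectrum A), I ≤ q.asIdeal → ∀ P ∈ associatedPrimes (AdicCompletion (IsLocalRing.maximalIdeal (Localization.AtPrime q.asIdeal)) (Localization.AtPrime q.asIdeal)) (AdicCompletion (IsLocalRing.maximalIdeal (Localization.AtPrime q.asIdeal)) (Localization.AtPrime q.asIdeal)), (2 : WithBot ℕ∞) ≤ ringKrullDim (AdicCompletion (IsLocalRing.maximalIdeal (Localization.AtPrime q.asIdeal)) (Localization.AtPrime q.asIdeal) ⧸ P)) : Module.Finite A (LocCoh.H I 1 A) := by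
  exact Groth.Agent.GrLib8.Cutoff.Kollar.finite_H1_self I h

end Groth.Agent.S1754
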