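import Groth.Statements.S17540
import Mathlib
import Groth.Agent.AdicFreeLib.Basic

set_option autoImplicit false
universe u v w
open W4c5adicflatcompl
open CAlg

namespace Groth.Agent.S17540

/-- Let A be I-adically complete, M an I-adically complete A-module and m : Z → M a family. The images
of the m z generate M/IM (the span of the family together with IM is all of M) if and only if the
family I-adically generates M: every x in M is the I-adically convergent sum of g z • m z for some
I-adically decaying function g : Z → A. -/
theorem result {A : Type u} [CommRing A] (I : Ideal A) [IsAdicComplete I A]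
    (M : Type v) [AddCommGroup M] [Module A M] [IsAdicComplete I M] (Z : Type w) (m : Z → M) :
    Submodule.span A (Set.range m) ⊔ I • ⊤ = ⊤ ↔
      ∀ x : M, ∃ g : Z → A, g ∈ decaying I Z A ∧
        ∀ n : ℕ, ∃ S : Finset Z,
          (∀ z, z ∉ S → g z • m z ∈ (I ^ n • ⊤ : Submodule A M)) ∧
          x - (∑ z ∈ S, g z • m z) ∈ (I ^ n • ⊤ : Submodule A M) := by
  classical
  have htop : ∀ k : ℕ, (I ^ k • ⊤ : Submodule A A) = I ^ k := fun k => by rw [smul_eq_mul, Ideal.mul_top]
  constructor
  · intro hgen x
    have hspan : ∀ n, ∀ y ∈ (I ^ n • ⊤ : Submodule A M), ∃ c : Z →₀ A, (∀ z, c z ∈ I ^ n) ∧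
        y - Finsupp.linearCombination A m c ∈ (I ^ (n + 1) • ⊤ : Submodule A M) := by
      intro n y hy
      rw [← hgen] at hy
      induction hy using Submodule.smul_induction_on' with
      | smul a ha w hw =>
        obtain ⟨s, hs, t, ht, rfl⟩ := Submodule.mem_sup.1 hw
        obtain ⟨c, rfl⟩ := (Finsupp.mem_span_range_iff_exists_finsupp).1 hs
        refine ⟨a • c, fun z => by simpa using (I ^ n).mul_mem_right (c z) ha, ?_⟩
        rw [map_smul, Finsupp.linearCombination_apply, smul_add, add_sub_cancel_left, pow_succ, Submodule.mul_smul]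
        exact Submodule.smul_mem_smul ha ht
      | add a _ b _ ha hb =>
        obtain ⟨c, hc, hc'⟩ := ha
        obtain ⟨d, hd, hd'⟩ := hb
        refine ⟨c + d, fun z => add_mem (hc z) (hd z), ?_⟩
        rw [map_add, add_sub_add_comm]
        exact add_mem hc' hd'
    choose! c hc hcr using hspan
    let y : ℕ → M := fun n => Nat.rec x (fun k yk => yk - Finsupp.linearCombination A m (c k yk)) n
    have hy : ∀ n, y n ∈ (I ^ n • ⊤ : Submodule A M) := by
      intro n
      induction n with
      | zero => simp
      | succ n ih => exact hcr n _ ih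
    let G : ℕ → Z →₀ A := fun n => ∑ k ∈ Finset.range n, c k (y k)
    have hG : ∀ n, x - Finsupp.linearCombination A m (G n) = y n := by
      intro n
      induction n with
      | zero => simp [G, y]
      | succ n ih =>
        show _ = y n - Finsupp.linearCombination A m (c n (y n))
        have e : G (n + 1) = G n + c n (y n) := Finset.sum_range_succ _ _
        rw [e, map_add, ← ih, sub_sub]
    have hGc : ∀ z, ∀ {a b : ℕ}, a ≤ b → G a z ≡ G b z [SMOD (I ^ a • ⊤ : Submodule A A)] := by
      intro z a b h
      rw [SModEq.sub_mem, htop, ← neg_mem_iff, neg_sub]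
      obtain ⟨d, rfl⟩ := Nat.exists_eq_add_of_le h
      simp only [G, Finset.sum_range_add, Finsupp.add_apply, add_sub_cancel_left, Finsupp.finsetSum_apply]
      exact Ideal.sum_mem _ fun k _ => Ideal.pow_le_pow_right (Nat.le_add_right a k) (hc (a + k) _ (hy _) z)
    choose g hg using fun z => IsPrecomplete.prec (inferInstance : IsPrecomplete I A) (hGc z)
    have hgd : ∀ n z, z ∉ (G n).support → g z ∈ (I ^ n • ⊤ : Submodule A A) := fun n z hz => by
      have h := SModEq.sub_mem.1 (hg z n)
      rw [Finsupp.notMem_support_iff.1 hz, zero_sub] at h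
      exact neg_mem_iff.1 h
    refine ⟨g, fun n => (G n).support.finite_toSet.subset fun z hz => by_contra fun h => hz (hgd n z h), fun n => ?_⟩
    refine ⟨(G n).support, fun z hz => Submodule.smul_mem_smul (htop n ▸ hgd n z hz) Submodule.mem_top, ?_⟩
    have e : x - ∑ z ∈ (G n).support, g z • m z =
        y n + ∑ z ∈ (G n).support, (G n z - g z) • m z := by
      rw [← hG n, Finsupp.linearCombination_apply, Finsupp.sum]
      simp only [sub_smul, Finset.sum_sub_distrib]
      abel
    rw [e]
    exact add_mem (hy n) (Submodule.sum_mem _ fun z _ =>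
      Submodule.smul_mem_smul (htop n ▸ SModEq.sub_mem.1 (hg z n)) Submodule.mem_top)
  · intro h
    rw [eq_top_iff]
    intro x _
    obtain ⟨g, -, hg⟩ := h x
    obtain ⟨S, -, hS⟩ := hg 1
    rw [pow_one] at hS
    rw [← add_sub_cancel (∑ z ∈ S, g z • m z) x]
    exact Submodule.add_mem_sup (Submodule.sum_mem _ fun z _ => Submodule.smul_mem _ _ (Submodule.subset_span ⟨z, rfl⟩)) hS

end Groth.Agent.S17540
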