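import Groth.Statements.S17543
import Groth.Agent.AdicFreeLib.Noeth

set_option autoImplicit false
universe u v w
open W4c5adicflatcompl
open CAlg

namespace Groth.Agent.S17543

/-- Over a Noetherian ring A which is I-adically complete, for a finitely generated A-module M and a set
Z, the canonical map from M ⊗ (decaying functions Z → A) to functions Z → M is injective and its
image is the module of decaying functions Z → M. -/
theorem result {A : Type u} [CommRing A] [IsNoetherianRing A] (I : Ideal A)
    [IsAdicComplete I A] (Z : Type v) (M : Type w) [AddCommGroup M] [Module A M]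
    [Module.Finite A M] :
    Function.Injective
        ((TensorProduct.piScalarRightHom A A M Z) ∘ₗ ((decaying I Z A).subtype.lTensor M)) ∧
      LinearMap.range
        ((TensorProduct.piScalarRightHom A A M Z) ∘ₗ ((decaying I Z A).subtype.lTensor M)) =
        decaying I Z M := by
  classical
  obtain ⟨r, π, hπ⟩ := Module.Finite.exists_fin' A M
  set e : Fin r → M := fun i => π (Pi.single i 1) with he
  have hπe : ∀ v : Fin r → A, π v = ∑ i, v i • e i := fun v => by
    conv_lhs => rw [pi_eq_sum_univ v]
    simp only [map_sum, map_smul, he]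
    refine Finset.sum_congr rfl fun i _ => ?_
    congr 2
    funext t; simp [Pi.single_apply, eq_comm]
  set Θ := (TensorProduct.piScalarRightHom A A M Z) ∘ₗ ((decaying I Z A).subtype.lTensor M) with hΘ
  have hΘt : ∀ (m : M) (f : decaying I Z A) z, Θ (m ⊗ₜ f) z = (f : Z → A) z • m := fun m f z => by
    simp [hΘ]
  have hrep : ∀ t, ∃ f : Fin r → decaying I Z A, t = ∑ i, e i ⊗ₜ[A] f i := by
    intro t
    induction t with
    | zero => exact ⟨0, by simp⟩
    | tmul m f =>
      obtain ⟨v, rfl⟩ := hπ m
      exact ⟨fun i => v i • f, by simp [hπe, TensorProduct.sum_tmul, TensorProduct.smul_tmul]⟩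
    | add a b ha hb =>
      obtain ⟨f, rfl⟩ := ha
      obtain ⟨g, rfl⟩ := hb
      exact ⟨f + g, by simp [TensorProduct.tmul_add, Finset.sum_add_distrib]⟩
  refine ⟨?_, ?_⟩
  · rw [injective_iff_map_eq_zero]
    intro t ht
    obtain ⟨f, rfl⟩ := hrep t
    obtain ⟨s, k, c, hk, hfc⟩ := Groth.Agent.AdicFreeLib.exists_coords (LinearMap.ker π) f fun z => by
      have h := congrFun ht z
      rw [map_sum, Finset.sum_apply] at h
      rw [LinearMap.mem_ker, hπe]
      simpa [hΘt] using h
    simp only [hfc, TensorProduct.tmul_sum, ← TensorProduct.smul_tmul]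
    rw [Finset.sum_comm]
    refine Finset.sum_eq_zero fun j _ => ?_
    rw [← TensorProduct.sum_tmul, ← hπe, LinearMap.mem_ker.1 (hk j), TensorProduct.zero_tmul]
  · refine le_antisymm ?_ fun g hg => ?_
    · rintro g ⟨t, rfl⟩
      induction t with
      | zero => simp
      | tmul m f =>
        intro n
        refine (f.2 n).subset fun z hz hz' => hz ?_
        show Θ (m ⊗ₜ f) z ∈ _
        rw [hΘt]
        exact Submodule.smul_mem_smul (by rwa [smul_eq_mul, Ideal.mul_top] at hz') Submodule.mem_top
      | add a b ha hb => rw [map_add]; exact add_mem ha hb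
    · obtain ⟨h, hh, hhg⟩ := Groth.Agent.AdicFreeLib.exists_lift π hπ hg
      refine ⟨∑ i, e i ⊗ₜ (⟨fun z => h z i, fun n => (hh n).subset fun z hz hz' =>
        hz (Groth.Agent.AdicFreeLib.map_pow_smul (LinearMap.proj (φ := fun _ => A) i) hz')⟩ : decaying I Z A), funext fun z => ?_⟩
      rw [map_sum, Finset.sum_apply, ← hhg, hπe]
      exact Finset.sum_congr rfl fun i _ => hΘt _ _ _

end Groth.Agent.S17543
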