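import Groth.Statements.S17545
import Groth.Agent.AdicFreeLib.Noeth

set_option autoImplicit false
universe u v w
open W4c5adicflatcompl
open CAlg

namespace Groth.Agent.S17545

/-- For a Noetherian ring A which is I-adically complete and any set Z, the A-module of I-adically
decaying functions Z → A is flat. -/
theorem result {A : Type u} [CommRing A] [IsNoetherianRing A]
    (I : Ideal A) [IsAdicComplete I A] (Z : Type v) :
    Module.Flat A (decaying I Z A) := by
  rw [Module.Flat.iff_forall_isTrivialRelation]
  intro l a x hax
  obtain ⟨s, k, c, hk, hxc⟩ := Groth.Agent.AdicFreeLib.exists_coords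
    (LinearMap.ker (Fintype.linearCombination A a)) x fun z => by
      have h := congrArg (fun v : decaying I Z A => (v : Z → A) z) hax
      simp only [LinearMap.mem_ker, Fintype.linearCombination_apply, smul_eq_mul]
      simp_rw [mul_comm _ (a _)]
      simpa using h
  refine ⟨s, fun i j => k j i, c, hxc, fun j => ?_⟩
  have h := LinearMap.mem_ker.1 (hk j)
  simpa [Fintype.linearCombination_apply, mul_comm] using h

end Groth.Agent.S17545
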