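import Groth.Statements.S17548
import Mathlib
import Groth.Agent.AdicFreeLib.Basic

set_option autoImplicit false
universe u v w
open W4c5adicflatcompl
open CAlg

namespace Groth.Agent.S17548

/-- For a Noetherian ring A with I-adic completion Â, a set Z, an I-adically complete A-module M and any
function f : Z → M, there is a unique A-linear map from the module of I-adically decaying functions
Z → Â to M taking, for every z, the function supported at z with value 1 to f z. -/
theorem result {A : Type u} [CommRing A] [IsNoetherianRing A]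
    (I : Ideal A) (Z : Type v) [DecidableEq Z] (M : Type w) [AddCommGroup M] [Module A M]
    [IsAdicComplete I M] (f : Z → M) :
    ∃! φ : decaying I Z (AdicCompletion I A) →ₗ[A] M,
      ∀ z, φ (single I z (1 : AdicCompletion I A)) = f z := by
  have hI : I.FG := Ideal.fg_of_isNoetherianRing I
  haveI := AdicCompletion.isAdicComplete (M := A) hI
  let ρ : Z → AdicCompletion I A →ₗ[A] M := fun z =>
    (AdicCompletion.ofLinearEquiv I M).symm.toLinearMap ∘ₗ
      ((LinearMap.toSpanSingleton (AdicCompletion I A) (AdicCompletion I M) (AdicCompletion.of I M (f z))).restrictScalars A)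
  have hρ : ∀ z, ρ z 1 = f z := fun z => by simp [ρ]
  refine ⟨Groth.Agent.AdicFreeLib.sumMap ρ, fun z => (Groth.Agent.AdicFreeLib.sumMap_single ρ z 1).trans (hρ z),
    fun ψ hψ => Groth.Agent.AdicFreeLib.hom_ext hI fun z x => ?_⟩
  rw [Groth.Agent.AdicFreeLib.sumMap_single]
  let s : AdicCompletion I A →ₗ[A] decaying I Z (AdicCompletion I A) :=
    { toFun := fun a => single I z a
      map_add' := fun a b => Subtype.ext (funext fun t => by by_cases h : t = z <;> simp [h])
      map_smul' := fun c a => Subtype.ext (funext fun t => by by_cases h : t = z <;> simp [h]) }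
  show (ψ ∘ₗ s) x = ρ z x
  refine sub_eq_zero.1 (IsHausdorff.haus (inferInstance : IsHausdorff I M) _ fun n => SModEq.zero.2 ?_)
  obtain ⟨a, ha⟩ := Submodule.Quotient.mk_surjective _ (x.val n)
  have hx := Groth.Agent.AdicFreeLib.sub_of_mem_pow_smul x ha
  have hχ := Groth.Agent.AdicFreeLib.map_pow_smul (ψ ∘ₗ s - ρ z) hx
  have h1 : AdicCompletion.of I A a = a • (1 : AdicCompletion I A) := by
    rw [show (a • (1 : AdicCompletion I A)) = a • AdicCompletion.of I A 1 from rfl, ← map_smul, smul_eq_mul, mul_one]
  have h2 : (ψ ∘ₗ s - ρ z) (AdicCompletion.of I A a) = 0 := by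
    rw [h1, map_smul, LinearMap.sub_apply, LinearMap.comp_apply, show s 1 = single I z 1 from rfl, hψ, hρ, sub_self, smul_zero]
  rw [map_sub, h2, sub_zero, LinearMap.sub_apply] at hχ
  exact hχ

end Groth.Agent.S17548
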