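import Groth.Statements.S17549
import Groth.Agent.AdicFreeLib.Basic
import Groth.Agent.S17548

set_option autoImplicit false
universe u
open W4c5adicflatcompl
open CAlg

namespace Groth.Agent.S17549

/-- Over a Noetherian ring A with I-adic completion Â, an A-module P is I-adically projective
(I-adically complete, and every A-linear map from P to the target of a surjection between I-adically
complete modules lifts along that surjection) exactly when P is a retract of some module of
I-adically decaying functions Z → Â: there are a set Z, an A-linear map i from P to the decaying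
functions Z → Â and an A-linear map r back with r ∘ i the identity of P. Test modules, P and Z live
in the universe of A. -/
theorem result {A : Type u} [CommRing A] [IsNoetherianRing A]
    (I : Ideal A) (P : Type u) [AddCommGroup P] [Module A P] :
    IsAdicProjective I P ↔
      ∃ (Z : Type u) (i : P →ₗ[A] decaying I Z (AdicCompletion I A))
        (r : decaying I Z (AdicCompletion I A) →ₗ[A] P), r ∘ₗ i = LinearMap.id := by
  classical
  have hI : I.FG := Ideal.fg_of_isNoetherianRing I
  haveI := AdicCompletion.isAdicComplete (M := A) hI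
  constructor
  · rintro ⟨hP, hlift⟩
    haveI := hP
    obtain ⟨φ, hφ, -⟩ := Groth.Agent.S17548.result I P P id
    obtain ⟨χ, hχ⟩ := hlift (decaying I P (AdicCompletion I A)) P
      (Groth.Agent.AdicFreeLib.isAdicComplete_decaying hI) hP φ (fun p => ⟨_, hφ p⟩) LinearMap.id
    exact ⟨P, χ, φ, hχ⟩
  · rintro ⟨Z, i, r, hri⟩
    have hri' : ∀ p, r (i p) = p := fun p => LinearMap.congr_fun hri p
    haveI := Groth.Agent.AdicFreeLib.isAdicComplete_decaying (Z := Z) (M := AdicCompletion I A) (I := I) hI
    have hH : IsHausdorff I P := ⟨fun x hx => by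
      rw [← hri' x, IsHausdorff.haus (inferInstance : IsHausdorff I (decaying I Z (AdicCompletion I A))) (i x)
        fun n => SModEq.zero.2 (Groth.Agent.AdicFreeLib.map_pow_smul i (SModEq.zero.1 (hx n))), map_zero]⟩
    have hPre : IsPrecomplete I P := ⟨fun f hf => by
      obtain ⟨L, hL⟩ := IsPrecomplete.prec (inferInstance : IsPrecomplete I (decaying I Z (AdicCompletion I A)))
        (f := fun n => i (f n)) (fun h => SModEq.sub_mem.2 (by
          rw [← map_sub]; exact Groth.Agent.AdicFreeLib.map_pow_smul i (SModEq.sub_mem.1 (hf h))))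
      refine ⟨r L, fun n => SModEq.sub_mem.2 ?_⟩
      have := Groth.Agent.AdicFreeLib.map_pow_smul r (SModEq.sub_mem.1 (hL n))
      rwa [map_sub, hri'] at this⟩
    refine ⟨{ haus' := hH.haus', prec' := hPre.prec' }, fun M N _ _ _ _ hM hN φ hφ ψ => ?_⟩
    haveI := hM
    haveI := hN
    choose m hm using fun z => hφ (ψ (r (single I z 1)))
    obtain ⟨Φ, hΦ, -⟩ := Groth.Agent.S17548.result I Z M m
    refine ⟨Φ ∘ₗ i, ?_⟩
    have key : φ ∘ₗ Φ = ψ ∘ₗ r :=
      (Groth.Agent.S17548.result I Z N fun z => ψ (r (single I z 1))).unique
        (fun z => by rw [LinearMap.comp_apply, hΦ, hm]) (fun z => rfl)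
    rw [← LinearMap.comp_assoc, key, LinearMap.comp_assoc, hri, LinearMap.comp_id]

end Groth.Agent.S17549
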