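import Groth.Statements.S1755
import Groth.Agent.GrLib8.Cutoff.Kollar
-- import your own Groth.Agent.* helpers here

set_option autoImplicit false
universe u
open LocCoh

namespace Groth.Agent.S1755

/-- Kollár's criterion for finiteness of first local cohomology, sufficiency direction, in affine form.
Let A be a Noetherian ring, I an ideal and M a finite A-module. Suppose that for every associated
prime p of M not containing I, every prime q containing both p and I, and every associated prime P
of the completion C of the local ring A_q/pA_q at its maximal ideal, the quotient C/P has Krull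
dimension at least 2. Then H¹_I(M) is a finite A-module. (The criterion is an equivalence; only this
implication is asserted here.) -/
theorem result (A : Type u) [CommRing A] [IsNoetherianRing A] (I : Ideal A) (M : Type u) [AddCommGroup M] [Module A M] [Module.Finite A M] (h : ∀ p : Ideal A, p ∈ associatedPrimes A M → ¬ I ≤ p → ∀ (q : PrimeSpectrum A), p ≤ q.asIdeal → I ≤ q.asIdeal → ∀ P ∈ associatedPrimes (AdicCompletion ((IsLocalRing.maximalIdeal (Localization.AtPrime q.asIdeal)).map (Ideal.Quotient.mk (p.map (algebraMap A (Localization.AtPrime q.asIdeal))))) (Localization.AtPrime q.asIdeal ⧸ p.map (algebraMap A (Localization.AtPrime q.asIdeal)))) (AdicCompletion ((IsLocalRing.maximalIdeal (Localization.AtPrime q.asIdeal)).map (Ideal.Quotient.mk (p.map (algebraMap A (Localization.AtPrime q.asIdeal))))) (Localization.AtPrime q.asIdeal ⧸ p.map (algebraMap A (Localization.AtPrime q.asIdeal)))), (2 : WithBot ℕ∞) ≤ ringKrullDim (AdicCompletion ((IsLocalRing.maximalIdeal (Localization.AtPrime q.asIdeal)).map (Ideal.Quotient.mk (p.map (algebraMap A (Localization.AtPrime q.asIdeal))))) (Localization.AtPrime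 q.asIdeal ⧸ p.map (algebraMap A (Localization.AtPrime q.asIdeal))) ⧸ P)) : Module.Finite A (LocCoh.H I 1 M) := by
  refine Groth.Agent.LC.finite_H1_of_ass I M fun p hp hpI => Groth.Agent.GrLib8.Cutoff.Kollar.finite_H1 I (A ⧸ p) fun q hq P hP _ => ?_
  haveI := hp.1
  by_cases hpq : p ≤ q.asIdeal
  · exact Groth.Agent.GrLib8.Cutoff.Kollar.dim_le_of_quot p q hpq (h p hp hpI q hpq hq) P hP
  · obtain ⟨x, hx, hxq⟩ := SetLike.not_le_iff_exists.1 hpq
    have hu : IsUnit (algebraMap A (EGA4.Cpl (Localization.AtPrime q.asIdeal)) x) := by
      rw [IsScalarTower.algebraMap_apply A (Localization.AtPrime q.asIdeal)]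
      exact (IsLocalization.map_units (Localization.AtPrime q.asIdeal) (⟨x, hxq⟩ : q.asIdeal.primeCompl)).map _
    haveI : Subsingleton (TensorProduct A (EGA4.Cpl (Localization.AtPrime q.asIdeal)) (A ⧸ p)) :=
      subsingleton_of_forall_eq 0 fun z => by
        induction z using TensorProduct.induction_on with
        | zero => rfl
        | tmul b a =>
          obtain ⟨u, hu⟩ := hu
          have h0 : x • a = 0 := by
            obtain ⟨y, rfl⟩ := Ideal.Quotient.mk_surjective a
            exact Ideal.Quotient.eq_zero_iff_mem.2 (p.mul_mem_right _ hx)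
          rw [show b = x • (↑u⁻¹ * b) by rw [Algebra.smul_def, ← mul_assoc, ← hu, Units.mul_inv, one_mul],
            TensorProduct.smul_tmul, h0, TensorProduct.tmul_zero]
        | add a b ha hb => rw [ha, hb, add_zero]
    exact absurd hP (by simp [associatedPrimes.eq_empty_of_subsingleton])

end Groth.Agent.S1755
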