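import Groth.Statements.S17550
import Groth.Agent.AdicFreeLib.Basic

set_option autoImplicit false
universe u
open W4c5adicflatcompl
open scoped TensorProduct
open CAlg

namespace Groth.Agent.S17550

/-- For Noetherian rings A and B with B an A-algebra, ideals I of A and J of B with I B contained in J,
and an I-adically free A-module P, the J-adic completion of B ⊗ P is a J-adically free B-module (the
completed base change of an adically free module is adically free). -/
theorem result {A B : Type u} [CommRing A] [CommRing B] [Algebra A B]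
    [IsNoetherianRing A] [IsNoetherianRing B] (I : Ideal A) (J : Ideal B)
    (hIJ : I.map (algebraMap A B) ≤ J) (P : Type u) [AddCommGroup P] [Module A P]
    (hP : IsAdicFree I P) :
    IsAdicFree J (AdicCompletion J (B ⊗[A] P)) := by
  classical
  obtain ⟨Z, ⟨eP⟩⟩ := hP
  have hIfg : I.FG := Ideal.fg_of_isNoetherianRing I
  haveI := AdicCompletion.isAdicComplete (M := A) hIfg
  haveI := AdicCompletion.isAdicComplete (M := B) (I := J) (Ideal.fg_of_isNoetherianRing J)
  let eB : (B ⊗[A] P) ≃ₗ[B] B ⊗[A] decaying I Z (AdicCompletion I A) := eP.baseChange A B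
  let u : Z → B ⊗[A] decaying I Z (AdicCompletion I A) := fun z => (1 : B) ⊗ₜ single I z 1
  let ι : ∀ n, (A ⧸ (I ^ n • ⊤ : Submodule A A)) →ₗ[A] B ⧸ (J ^ n • ⊤ : Submodule B B) := fun n =>
    (I ^ n • ⊤ : Submodule A A).liftQ (((J ^ n • ⊤ : Submodule B B).mkQ.restrictScalars A) ∘ₗ Algebra.linearMap A B)
      fun a ha => by
        rw [smul_eq_mul, Ideal.mul_top] at ha
        refine LinearMap.mem_ker.2 ((Submodule.Quotient.mk_eq_zero _).2 ?_)
        rw [smul_eq_mul, Ideal.mul_top]
        refine Ideal.pow_right_mono hIJ n ?_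
        rw [← Ideal.map_pow]
        exact Ideal.mem_map_of_mem _ ha
  let g : ∀ n, decaying I Z (AdicCompletion I A) →ₗ[A] Z →₀ B ⧸ (J ^ n • ⊤ : Submodule B B) := fun n =>
    { toFun := fun f => (Finsupp.ofSupportFinite (fun z => ((f : Z → AdicCompletion I A) z).val n)
        ((f.2 n).subset fun z hz h => hz ((Groth.Agent.AdicFreeLib.mem_pow_smul_iff_val _ _).1 h))).mapRange (ι n) (map_zero _)
      map_add' := fun f f' => Finsupp.ext fun z => by
        show ι n (_ + _) = ι n _ + ι n _
        exact map_add _ _ _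
      map_smul' := fun a f => Finsupp.ext fun z => by
        show ι n (a • _) = a • ι n _
        exact map_smul _ _ _ }
  let θ : ∀ n, B ⊗[A] decaying I Z (AdicCompletion I A) →ₗ[B] Z →₀ B ⧸ (J ^ n • ⊤ : Submodule B B) := fun n =>
    TensorProduct.AlgebraTensorModule.lift ((LinearMap.id (R := B)).smulRight (g n))
  have hgu : ∀ n z, g n (single I z 1) = Finsupp.single z (Submodule.Quotient.mk 1) := fun n z => Finsupp.ext fun t => by
    show ι n ((((single I z (1 : AdicCompletion I A) : decaying I Z (AdicCompletion I A)) : Z → AdicCompletion I A) t).val n) = _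
    rw [coe_single, Finsupp.single_apply]
    by_cases h : z = t
    · subst h
      rw [Pi.single_eq_same, if_pos rfl]
      show Submodule.Quotient.mk (algebraMap A B 1) = _
      rw [map_one]
    · rw [Pi.single_eq_of_ne (Ne.symm h), if_neg h]
      exact map_zero _
  have hθL : ∀ n (c : Z →₀ B) z, θ n (Finsupp.linearCombination B u c) z = Submodule.Quotient.mk (c z) := by
    intro n c z
    induction c using Finsupp.induction_linear with
    | zero => simp
    | add a b ha hb => simp only [map_add, Finsupp.add_apply, ha, hb, Submodule.Quotient.mk_add]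
    | single t b =>
      rw [Finsupp.linearCombination_single, map_smul, Finsupp.smul_apply]
      show b • (((1 : B) • g n (single I t 1)) z) = _
      rw [one_smul, hgu]
      by_cases h : t = z
      · subst h; rw [Finsupp.single_eq_same, Finsupp.single_eq_same, ← Submodule.Quotient.mk_smul, show b • (1 : B) = b from mul_one b]
      · rw [Finsupp.single_eq_of_ne (Ne.symm h), Finsupp.single_eq_of_ne (Ne.symm h), smul_zero]; rfl
  have htens : ∀ n, ∀ f ∈ (I ^ n • ⊤ : Submodule A (decaying I Z (AdicCompletion I A))),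
      (1 : B) ⊗ₜ[A] f ∈ (J ^ n • ⊤ : Submodule B (B ⊗[A] decaying I Z (AdicCompletion I A))) := by
    intro n f hf
    induction hf using Submodule.smul_induction_on' with
    | smul a ha w _ =>
      rw [TensorProduct.tmul_smul, ← algebraMap_smul B a]
      exact Submodule.smul_mem_smul (Ideal.pow_right_mono hIJ n (by rw [← Ideal.map_pow]; exact Ideal.mem_map_of_mem _ ha)) Submodule.mem_top
    | add a _ b _ ha hb => rw [TensorProduct.tmul_add]; exact add_mem ha hb
  have happrox : ∀ n t, ∃ c : Z →₀ B,
      t - Finsupp.linearCombination B u c ∈ (J ^ n • ⊤ : Submodule B (B ⊗[A] decaying I Z (AdicCompletion I A))) := by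
    intro n t
    induction t with
    | zero => exact ⟨0, by simp⟩
    | tmul b f =>
      obtain ⟨S, hS⟩ := Groth.Agent.AdicFreeLib.exists_finset f n
      choose a ha using fun z => Submodule.Quotient.mk_surjective _ (((f : Z → AdicCompletion I A) z).val n)
      have hf : f - ∑ z ∈ S, a z • single I z (1 : AdicCompletion I A) ∈ (I ^ n • ⊤ : Submodule A (decaying I Z (AdicCompletion I A))) := by
        refine (Groth.Agent.AdicFreeLib.mem_pow_smul_iff hIfg).2 fun z => (Groth.Agent.AdicFreeLib.mem_pow_smul_iff_val _ _).2 ?_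
        rw [AddSubgroupClass.coe_sub, Pi.sub_apply, Submodule.coe_sum, Finset.sum_apply]
        simp only [Submodule.coe_smul, Pi.smul_apply, coe_single, Pi.single_apply, smul_ite, smul_zero]
        rw [Finset.sum_ite_eq]
        split_ifs with hz
        · show ((f : Z → AdicCompletion I A) z).val n - a z • (1 : AdicCompletion I A).val n = 0
          rw [sub_eq_zero, ← ha]
          show _ = a z • Submodule.Quotient.mk (1 : A)
          rw [← Submodule.Quotient.mk_smul, show a z • (1 : A) = a z from mul_one _]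
        · rw [sub_zero]
          exact (Groth.Agent.AdicFreeLib.mem_pow_smul_iff_val _ _).1 (hS z hz)
      refine ⟨∑ z ∈ S, Finsupp.single z (b * algebraMap A B (a z)), ?_⟩
      have h := Submodule.smul_mem _ b (htens n _ hf)
      rw [TensorProduct.tmul_sub, smul_sub, TensorProduct.smul_tmul', smul_eq_mul, mul_one,
        TensorProduct.tmul_sum, Finset.smul_sum] at h
      convert h using 2
      rw [map_sum]
      refine Finset.sum_congr rfl fun z _ => ?_
      rw [Finsupp.linearCombination_single, TensorProduct.tmul_smul, ← algebraMap_smul B (a z), smul_smul]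
    | add s t hs ht =>
      obtain ⟨c, hc⟩ := hs
      obtain ⟨d, hd⟩ := ht
      exact ⟨c + d, by rw [map_add, add_sub_add_comm]; exact add_mem hc hd⟩
  have hle : ∀ n, ∀ t ∈ (J ^ n • ⊤ : Submodule B (B ⊗[A] decaying I Z (AdicCompletion I A))), θ n t = 0 := by
    intro n t ht
    refine Finsupp.ext fun z => ?_
    have h := Groth.Agent.AdicFreeLib.finsupp_mem_pow_smul_iff.1 (Groth.Agent.AdicFreeLib.map_pow_smul (θ n) ht) z
    rw [← Submodule.range_mkQ (J ^ n • ⊤ : Submodule B B), LinearMap.range_eq_map, ← Submodule.map_smul'',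
      Submodule.mkQ_map_self, Submodule.mem_bot] at h
    rw [h, Finsupp.zero_apply]
  have hge : ∀ n t, θ n t = 0 → t ∈ (J ^ n • ⊤ : Submodule B (B ⊗[A] decaying I Z (AdicCompletion I A))) := by
    intro n t ht
    obtain ⟨c, hc⟩ := happrox n t
    have h0 := hle n _ hc
    rw [map_sub, ht, zero_sub, neg_eq_zero] at h0
    have hc2 : Finsupp.linearCombination B u c ∈ (J ^ n • ⊤ : Submodule B (B ⊗[A] decaying I Z (AdicCompletion I A))) := by
      refine Groth.Agent.AdicFreeLib.map_pow_smul _ (Groth.Agent.AdicFreeLib.finsupp_mem_pow_smul_iff.2 fun z => ?_)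
      rw [← Submodule.Quotient.mk_eq_zero, ← hθL, h0, Finsupp.zero_apply]
    simpa using add_mem hc hc2
  let π : ∀ n, AdicCompletion J (B ⊗[A] P) →ₗ[B] Z →₀ B ⧸ (J ^ n • ⊤ : Submodule B B) := fun n =>
    (J ^ n • ⊤ : Submodule B (B ⊗[A] P)).liftQ (θ n ∘ₗ eB.toLinearMap)
      (fun x hx => LinearMap.mem_ker.2 (hle n _ (Groth.Agent.AdicFreeLib.map_pow_smul eB.toLinearMap hx))) ∘ₗ
      AdicCompletion.eval J (B ⊗[A] P) n
  have hπ : ∀ n (x : AdicCompletion J (B ⊗[A] P)) t, Submodule.Quotient.mk t = x.val n → π n x = θ n (eB t) := by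
    intro n x t h
    show (J ^ n • ⊤ : Submodule B (B ⊗[A] P)).liftQ (θ n ∘ₗ eB.toLinearMap)
      (fun y hy => LinearMap.mem_ker.2 (hle n _ (Groth.Agent.AdicFreeLib.map_pow_smul eB.toLinearMap hy))) (x.val n) = _
    rw [← h]
    rfl
  obtain ⟨E, -⟩ := Groth.Agent.AdicFreeLib.exists_equiv_decaying (I := J) (M := B) π
    (fun {m n} h x z => by
      obtain ⟨t, ht⟩ := Submodule.Quotient.mk_surjective _ (x.val n)
      have ht' : Submodule.Quotient.mk t = x.val m := by rw [← x.2 h, ← ht]; rfl
      obtain ⟨c, hc⟩ := happrox n (eB t)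
      have h1 := hle n _ hc
      have h2 := hle m _ (Groth.Agent.AdicFreeLib.pow_smul_antitone h hc)
      rw [map_sub, sub_eq_zero] at h1 h2
      rw [hπ n x t ht, hπ m x t ht', h1, h2, hθL, hθL]
      rfl)
    (fun x hx => AdicCompletion.ext fun n => by
      obtain ⟨t, ht⟩ := Submodule.Quotient.mk_surjective _ (x.val n)
      have h := hge n _ ((hπ n x t ht).symm.trans (hx n))
      rw [← ht]
      refine (Submodule.Quotient.mk_eq_zero _).2 ?_
      simpa using Groth.Agent.AdicFreeLib.map_pow_smul eB.symm.toLinearMap h)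
    (fun y hy => by
      choose d hd using fun n => Finsupp.mapRange_surjective (Submodule.Quotient.mk (p := (J ^ n • ⊤ : Submodule B B))) rfl
        (Submodule.Quotient.mk_surjective _) (y n)
      have hdz : ∀ n z, Submodule.Quotient.mk (d n z) = y n z := fun n z => by rw [← hd n]; rfl
      refine ⟨⟨fun n => Submodule.Quotient.mk (eB.symm (Finsupp.linearCombination B u (d n))), fun {m n} h => ?_⟩, fun n =>
        (hπ n _ (eB.symm (Finsupp.linearCombination B u (d n))) ?_).trans (Finsupp.ext fun z => ?_)⟩
      · show Submodule.Quotient.mk _ = _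
        rw [Submodule.Quotient.eq, LinearMap.id_apply, ← map_sub, ← map_sub]
        refine Groth.Agent.AdicFreeLib.map_pow_smul eB.symm.toLinearMap (Groth.Agent.AdicFreeLib.map_pow_smul (Finsupp.linearCombination B u) (Groth.Agent.AdicFreeLib.finsupp_mem_pow_smul_iff.2 fun z => ?_))
        rw [Finsupp.sub_apply, ← Submodule.Quotient.eq, hdz, ← hy h, ← hdz]
        rfl
      · rfl
      · rw [LinearEquiv.apply_symm_apply, hθL, hdz])
  exact ⟨Z, ⟨E⟩⟩

end Groth.Agent.S17550
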