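import Groth.Statements.S17551
import Groth.Agent.AdicFreeLib.Local

set_option autoImplicit false
universe u
open W4c5adicflatcompl
open CAlg

namespace Groth.Agent.S17551

/-- For a complete Noetherian local ring A (maximal ideal m, m-adic completion Â) and an m-adic system
(M n, ψ n : M (n+1) → M n) of A-modules, meaning that each M n is a module over A/m^(n+1) and each ψ
n is surjective with kernel m^(n+1) M (n+1), if every M n is flat over A/m^(n+1) then the inverse
limit of the system is m-adically free (isomorphic to the m-adically decaying functions Z → Â for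
some set Z), and for every n its projection to M n is surjective with kernel m^(n+1) times the
limit. A, the M n and Z share one universe. -/
theorem result {A : Type u} [CommRing A] [IsNoetherianRing A] [IsLocalRing A]
    [IsAdicComplete (IsLocalRing.maximalIdeal A) A]
    (M : ℕ → Type u) [∀ n, AddCommGroup (M n)] [∀ n, Module A (M n)]
    [∀ n, Module (A ⧸ IsLocalRing.maximalIdeal A ^ (n + 1)) (M n)]
    [∀ n, IsScalarTower A (A ⧸ IsLocalRing.maximalIdeal A ^ (n + 1)) (M n)]
    [∀ n, Module.Flat (A ⧸ IsLocalRing.maximalIdeal A ^ (n + 1)) (M n)]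
    (ψ : ∀ n, M (n + 1) →ₗ[A] M n) (hψ : ∀ n, Function.Surjective (ψ n))
    (hker : ∀ n, LinearMap.ker (ψ n) =
      (IsLocalRing.maximalIdeal A ^ (n + 1) • ⊤ : Submodule A (M (n + 1)))) :
    IsAdicFree (IsLocalRing.maximalIdeal A) (sysLim M ψ) ∧
      ∀ n, Function.Surjective (sysProj M ψ n) ∧
        LinearMap.ker (sysProj M ψ n) =
          (IsLocalRing.maximalIdeal A ^ (n + 1) • ⊤ : Submodule A (sysLim M ψ)) := by
  classical
  obtain ⟨Z, e, hψe, hsurj, hcoef⟩ := Groth.Agent.AdicFreeLib.exists_bases M ψ hψ hker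
  set I := IsLocalRing.maximalIdeal A with hIdef
  have hI : I.FG := Ideal.fg_of_isNoetherianRing I
  haveI := AdicCompletion.isAdicComplete (M := A) hI
  have hcomb : ∀ n c, ψ n (Finsupp.linearCombination A (e (n + 1)) c) = Finsupp.linearCombination A (e n) c :=
    fun n c => by simp [Finsupp.linearCombination_apply, map_finsuppSum, hψe]
  have htop : ∀ k : ℕ, (I ^ k • ⊤ : Submodule A A) = I ^ k := fun k => by rw [smul_eq_mul, Ideal.mul_top]
  have hle : ∀ n, LinearMap.ker (Finsupp.linearCombination A (e n)) ≤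
      LinearMap.ker (Finsupp.mapRange.linearMap (α := Z) (I ^ n • ⊤ : Submodule A A).mkQ) := fun n c hc => by
    refine Finsupp.ext fun z => (Submodule.Quotient.mk_eq_zero _).2 ?_
    rw [htop]
    exact Ideal.pow_le_pow_right n.le_succ ((hcoef n c).1 hc z)
  let C : ∀ n, M n →ₗ[A] Z →₀ A ⧸ (I ^ n • ⊤ : Submodule A A) := fun n =>
    (LinearMap.ker (Finsupp.linearCombination A (e n))).liftQ _ (hle n) ∘ₗ
      (LinearMap.quotKerEquivOfSurjective _ (hsurj n)).symm.toLinearMap
  have hC : ∀ n c z, C n (Finsupp.linearCombination A (e n) c) z = Submodule.Quotient.mk (c z) := fun n c z => by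
    have h : (LinearMap.quotKerEquivOfSurjective _ (hsurj n)).symm (Finsupp.linearCombination A (e n) c) =
        Submodule.Quotient.mk c := by
      rw [LinearEquiv.symm_apply_eq]; rfl
    show (LinearMap.ker (Finsupp.linearCombination A (e n))).liftQ _ (hle n)
      ((LinearMap.quotKerEquivOfSurjective _ (hsurj n)).symm (Finsupp.linearCombination A (e n) c)) z = _
    rw [h]
    rfl
  let π : ∀ n, sysLim M ψ →ₗ[A] Z →₀ A ⧸ (I ^ n • ⊤ : Submodule A A) := fun n => C n ∘ₗ sysProj M ψ n
  have hπ : ∀ n (x : sysLim M ψ) c z, Finsupp.linearCombination A (e n) c = (x : ∀ k, M k) n →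
      π n x z = Submodule.Quotient.mk (c z) := fun n x c z h => by
    show C n ((x : ∀ k, M k) n) z = _
    rw [← h, hC]
  have hker_π : ∀ n (x : sysLim M ψ), π (n + 1) x = 0 ↔ (x : ∀ k, M k) n = 0 := by
    intro n x
    obtain ⟨c, hc⟩ := hsurj (n + 1) ((x : ∀ k, M k) (n + 1))
    have hx : Finsupp.linearCombination A (e n) c = (x : ∀ k, M k) n := by rw [← hcomb, hc, x.2 n]
    refine ⟨fun h => ?_, fun h => Finsupp.ext fun z => ?_⟩
    · rw [← hx, hcoef]
      intro z
      have := DFunLike.congr_fun h z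
      rwa [hπ _ x c z hc, Finsupp.zero_apply, Submodule.Quotient.mk_eq_zero, htop] at this
    · rw [hπ _ x c z hc, Finsupp.zero_apply, Submodule.Quotient.mk_eq_zero, htop]
      exact (hcoef n c).1 (hx.trans h) z
  obtain ⟨E, hE⟩ := Groth.Agent.AdicFreeLib.exists_equiv_decaying (I := I) (M := A) π
    (fun {m n} h x z => by
      induction h with
      | refl =>
        obtain ⟨c, hc⟩ := hsurj m ((x : ∀ k, M k) m)
        rw [hπ m x c z hc]; rfl
      | @step n h ih =>
        obtain ⟨c, hc⟩ := hsurj (n + 1) ((x : ∀ k, M k) (n + 1))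
        rw [hπ _ x c z hc]
        rw [hπ n x c z (by rw [← hcomb, hc, x.2 n])] at ih
        rw [← ih]
        rfl)
    (fun x hx => Subtype.ext (funext fun n => (hker_π n x).1 (hx (n + 1))))
    (fun y hy => by
      choose d hd using fun n => Finsupp.mapRange_surjective (Submodule.Quotient.mk (p := (I ^ (n + 1) • ⊤ : Submodule A A))) rfl
        (Submodule.Quotient.mk_surjective _) (y (n + 1))
      have hdz : ∀ n z, Submodule.Quotient.mk (d n z) = y (n + 1) z := fun n z => by rw [← hd n]; rfl
      refine ⟨⟨fun n => Finsupp.linearCombination A (e n) (d n), fun n => ?_⟩, fun n => Finsupp.ext fun z => ?_⟩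
      · rw [hcomb, ← sub_eq_zero, ← map_sub, hcoef]
        intro z
        rw [← htop, Finsupp.sub_apply, ← Submodule.Quotient.eq, hdz, ← hy (Nat.le_succ (n + 1)), ← hdz]
        rfl
      · rw [hπ n _ (d n) z rfl, ← hy (Nat.le_succ n), ← hdz]
        rfl)
  refine ⟨⟨Z, ⟨E⟩⟩, fun n => ⟨fun y => ?_, ?_⟩⟩
  · obtain ⟨c, rfl⟩ := hsurj n y
    exact ⟨⟨fun k => Finsupp.linearCombination A (e k) c, fun k => hcomb k c⟩, rfl⟩
  · refine le_antisymm (fun x hx => ?_) (fun x hx => ?_)
    · have h : π (n + 1) x = 0 := (hker_π n x).2 hx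
      have hm : E x ∈ (I ^ (n + 1) • ⊤ : Submodule A (decaying I Z (AdicCompletion I A))) :=
        (Groth.Agent.AdicFreeLib.mem_pow_smul_iff hI).2 fun z => (Groth.Agent.AdicFreeLib.mem_pow_smul_iff_val _ _).2 (by
          rw [hE, h]; rfl)
      simpa using Groth.Agent.AdicFreeLib.map_pow_smul E.symm.toLinearMap hm
    · have := Groth.Agent.AdicFreeLib.map_pow_smul E.toLinearMap hx
      refine (hker_π n x).1 (Finsupp.ext fun z => ?_)
      rw [← hE]
      exact (Groth.Agent.AdicFreeLib.mem_pow_smul_iff_val _ _).1 ((Groth.Agent.AdicFreeLib.mem_pow_smul_iff hI).1 this z)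

end Groth.Agent.S17551
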