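import Groth.Statements.S17552
import Groth.Agent.AdicFreeLib.Local
import Groth.Agent.S17551
import Groth.Agent.S17545

set_option autoImplicit false
universe u
open W4c5adicflatcompl
open CAlg

namespace Groth.Agent.S17552

/-- For a complete Noetherian local ring A (maximal ideal m, m-adic completion Â), an A-module M is
isomorphic to the module of m-adically decaying functions Z → Â for some set Z (m-adically free)
exactly when M is flat and m-adically complete. M and Z live in the universe of A. -/
theorem result {A : Type u} [CommRing A] [IsNoetherianRing A] [IsLocalRing A]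
    [IsAdicComplete (IsLocalRing.maximalIdeal A) A]
    (M : Type u) [AddCommGroup M] [Module A M] :
    IsAdicFree (IsLocalRing.maximalIdeal A) M ↔
      Module.Flat A M ∧ IsAdicComplete (IsLocalRing.maximalIdeal A) M := by
  classical
  have hI : (IsLocalRing.maximalIdeal A).FG := Ideal.fg_of_isNoetherianRing _
  haveI := AdicCompletion.isAdicComplete (M := A) hI
  constructor
  · rintro ⟨Z, ⟨e⟩⟩
    haveI := Groth.Agent.AdicFreeLib.isAdicComplete_decaying (Z := Z) (M := AdicCompletion (IsLocalRing.maximalIdeal A) A) (I := IsLocalRing.maximalIdeal A) hI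
    let c := AdicCompletion.ofLinearEquiv (IsLocalRing.maximalIdeal A) A
    let d : decaying (IsLocalRing.maximalIdeal A) Z A ≃ₗ[A] decaying (IsLocalRing.maximalIdeal A) Z (AdicCompletion (IsLocalRing.maximalIdeal A) A) :=
      LinearEquiv.ofLinear (Groth.Agent.AdicFreeLib.mapPi fun _ => c.toLinearMap)
        (Groth.Agent.AdicFreeLib.mapPi fun _ => c.symm.toLinearMap)
        (LinearMap.ext fun f => Subtype.ext (funext fun z => c.apply_symm_apply _))
        (LinearMap.ext fun f => Subtype.ext (funext fun z => c.symm_apply_apply _))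
    haveI := Groth.Agent.S17545.result (IsLocalRing.maximalIdeal A) Z
    refine ⟨Module.Flat.of_linearEquiv (e.trans d.symm), { haus' := ?_, prec' := ?_ }⟩
    · intro x hx
      rw [← e.symm_apply_apply x, IsHausdorff.haus (inferInstance : IsHausdorff _ (decaying (IsLocalRing.maximalIdeal A) Z (AdicCompletion (IsLocalRing.maximalIdeal A) A))) (e x)
        fun n => SModEq.zero.2 (Groth.Agent.AdicFreeLib.map_pow_smul e.toLinearMap (SModEq.zero.1 (hx n))), map_zero]
    · intro f hf
      obtain ⟨L, hL⟩ := IsPrecomplete.prec (inferInstance : IsPrecomplete _ (decaying (IsLocalRing.maximalIdeal A) Z (AdicCompletion (IsLocalRing.maximalIdeal A) A)))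
        (f := fun n => e (f n)) (fun h => SModEq.sub_mem.2 (by
          rw [← map_sub]; exact Groth.Agent.AdicFreeLib.map_pow_smul e.toLinearMap (SModEq.sub_mem.1 (hf h))))
      refine ⟨e.symm L, fun n => SModEq.sub_mem.2 ?_⟩
      simpa using Groth.Agent.AdicFreeLib.map_pow_smul e.symm.toLinearMap (SModEq.sub_mem.1 (hL n))
  · rintro ⟨hflat, hcomp⟩
    haveI := hflat
    haveI := hcomp
    let N : ℕ → Submodule A M := fun n => IsLocalRing.maximalIdeal A ^ (n + 1) • ⊤
    haveI : ∀ n, Module.Flat (A ⧸ IsLocalRing.maximalIdeal A ^ (n + 1)) (M ⧸ (IsLocalRing.maximalIdeal A ^ (n + 1) • ⊤ : Submodule A M)) :=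
      fun n => Module.Flat.of_linearEquiv
        ((TensorProduct.quotTensorEquivQuotSMul M (IsLocalRing.maximalIdeal A ^ (n + 1))).extendScalarsOfSurjective
          Ideal.Quotient.mk_surjective).symm
    let ψ : ∀ n, (M ⧸ N (n + 1)) →ₗ[A] M ⧸ N n := fun n =>
      Submodule.factor (Groth.Agent.AdicFreeLib.pow_smul_antitone (Nat.le_succ (n + 1)))
    have hψ : ∀ n, Function.Surjective (ψ n) := fun n x => by
      obtain ⟨m, rfl⟩ := Submodule.Quotient.mk_surjective _ x
      exact ⟨Submodule.Quotient.mk m, rfl⟩
    have hker : ∀ n, LinearMap.ker (ψ n) = (IsLocalRing.maximalIdeal A ^ (n + 1) • ⊤ : Submodule A (M ⧸ N (n + 1))) := fun n => by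
      rw [← Submodule.range_mkQ (N (n + 1)), LinearMap.range_eq_map, ← Submodule.map_smul'']
      exact Submodule.ker_liftQ _ _ _ |>.trans (by rw [LinearMap.comp_id, Submodule.ker_mkQ])
    obtain ⟨⟨Z, ⟨E⟩⟩, -⟩ := Groth.Agent.S17551.result (fun n => M ⧸ N n) ψ hψ hker
    let g : M →ₗ[A] sysLim (fun n => M ⧸ N n) ψ :=
      (LinearMap.pi fun n => (N n).mkQ).codRestrict _ fun x n => rfl
    have hg : Function.Bijective g := by
      constructor
      · rw [injective_iff_map_eq_zero]
        intro x hx
        refine IsHausdorff.haus (inferInstance : IsHausdorff (IsLocalRing.maximalIdeal A) M) x fun n => SModEq.zero.2 ?_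
        have h := congrArg (fun v : sysLim (fun n => M ⧸ N n) ψ => (v : ∀ k, M ⧸ N k) n) hx
        exact Groth.Agent.AdicFreeLib.pow_smul_antitone n.le_succ ((Submodule.Quotient.mk_eq_zero _).1 h)
      · intro y
        choose f hf using fun n => Submodule.Quotient.mk_surjective _ ((y : ∀ k, M ⧸ N k) n)
        have hmain : ∀ {m n : ℕ}, m ≤ n → f m - f n ∈ N m := by
          intro m n h
          induction h with
          | refl => rw [sub_self]; exact zero_mem _
          | @step n h ih =>
            have h2 : ψ n ((y : ∀ k, M ⧸ N k) (n + 1)) = (y : ∀ k, M ⧸ N k) n := y.2 n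
            rw [← hf, ← hf] at h2
            have h3 : f (n + 1) - f n ∈ N n := (Submodule.Quotient.eq (N n)).1 h2
            have h4 := Groth.Agent.AdicFreeLib.pow_smul_antitone (Nat.succ_le_succ h) h3
            have := sub_mem ih h4
            rwa [sub_sub_sub_cancel_right] at this
        obtain ⟨L, hL⟩ := IsPrecomplete.prec (inferInstance : IsPrecomplete (IsLocalRing.maximalIdeal A) M)
          (f := f) (fun h => SModEq.sub_mem.2 (Groth.Agent.AdicFreeLib.pow_smul_antitone (Nat.le_succ _) (hmain h)))
        refine ⟨L, Subtype.ext (funext fun n => ?_)⟩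
        show Submodule.Quotient.mk L = _
        rw [← hf, Submodule.Quotient.eq]
        have h1 : f (n + 1) - L ∈ N n := SModEq.sub_mem.1 (hL (n + 1))
        have := add_mem (hmain n.le_succ) h1
        rw [sub_add_sub_cancel] at this
        rw [← neg_mem_iff, neg_sub]
        exact this
    exact ⟨Z, ⟨(LinearEquiv.ofBijective g hg).trans E⟩⟩

end Groth.Agent.S17552
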