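import Groth.Statements.S17567
import Groth.Agent.H23.FlatClass
-- import your own Groth.Agent.* helpers here

set_option autoImplicit false
universe u
open CategoryTheory AlgebraicGeometry
open Bivar

namespace Groth.Agent.S17567

/-- Let f : X → Y be flat, locally of finite type and of relative dimension r (every irreducible
component of every fibre has dimension r), with δX the dimension function induced from δY. Then flat
pullback along the base changes of f is a bivariant class of degree −r: there is c ∈ A^{-r}(X → Y)
such that on every cartesian square (Y' → Y, X' = Y' ×_Y X, f' : X' → Y') and every k-cycle α on Y',
c ∩ [α] is the class of the cycle with the coefficients of (f')^*α (the binder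
Bivar.IsFlatPullClass, which also records flatness, finite type, the relative dimension and the
compatibility of δX). Here a pair (X, δ) with Cyc.IsSetup plays the role of a scheme locally of
finite type over the base (S, δ) (X locally Noetherian with universally catenary local rings, δ a
dimension function), Cyc.DeltaCompat records that a dimension function is the induced one, and
bivariant classes are taken in the operational sense of the prelude: additive operations on the Chow
groups CH_k (k-cycles modulo rational equivalence) of all test schemes, compatible with proper
pushforward, flat pullback and the Gysin maps of zero schemes of sections of invertible modules in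
representative form (Bivar.Cl for A^p(X → Y), Bivar.OpCl for A^p(X)). -/
theorem result (X Y : Scheme.{u}) (δX : X → ℤ) (δY : Y → ℤ) (hX : Cyc.IsSetup X δX) (hY : Cyc.IsSetup Y δY) (f : X ⟶ Y) [Flat f] [LocallyOfFiniteType f] (r : ℕ) (hr : Cyc.HasRelDim f r) (hδ : Cyc.DeltaCompat f δX δY) : ∃ c : Bivar.Cl (-(r : ℤ)) f δX δY, Bivar.IsFlatPullClass f r c := by
  
  exact ⟨Groth.Agent.H23.FlatClass.flatPull hX hY hr hδ, Groth.Agent.H23.FlatClass.isFlatPullClass hX hY hr hδ⟩

end Groth.Agent.S17567
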