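import Groth.Statements.S17569
import Groth.Agent.H23.PushClass
-- import your own Groth.Agent.* helpers here

set_option autoImplicit false
universe u
open CategoryTheory AlgebraicGeometry
open Bivar

namespace Groth.Agent.S17569

/-- Let f : X → Y be proper and g : Y → Z locally of finite type, with δX induced from δY along f and δY
induced from δZ along g, and let c ∈ A^p(X → Z) be a bivariant class for the composite X → Z. Then α
↦ f'_*(c ∩ α) is a bivariant class f_* ∘ c ∈ A^p(Y → Z): there is c' ∈ A^p(Y → Z) such that on every
cartesian square (Z' → Z, Y' = Z' ×_Z Y) and every fibre product X' = Y' ×_Y X (a square over X → Z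
by pasting), for every k-cycle α on Z' and every cycle β on X' representing c ∩ [α], the class c' ∩
[α] is the class of the pushforward of β along X' → Y' (the binder Bivar.IsProperPushClass, which
also records properness of f and the compatibility of δX). Here a pair (X, δ) with Cyc.IsSetup plays
the role of a scheme locally of finite type over the base (S, δ) (X locally Noetherian with
universally catenary local rings, δ a dimension function), Cyc.DeltaCompat records that a dimension
function is the induced one, and bivariant classes are taken in the operational sense of the
prelude: additive operations on the Chow groups CH_k (k-cycles modulo rational equivalence) of all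
test schemes, compatible with proper pushforward, flat pullback and the Gysin maps of zero schemes
of sections of invertible modules in representative form (Bivar.Cl for A^p(X → Y), Bivar.OpCl for
A^p(X)). -/
theorem result (X Y Z : Scheme.{u}) (δX : X → ℤ) (δY : Y → ℤ) (δZ : Z → ℤ) (hX : Cyc.IsSetup X δX) (hY : Cyc.IsSetup Y δY) (hZ : Cyc.IsSetup Z δZ) (f : X ⟶ Y) [IsProper f] (g : Y ⟶ Z) [LocallyOfFiniteType g] (hδf : Cyc.DeltaCompat f δX δY) (hδg : Cyc.DeltaCompat g δY δZ) (p : ℤ) (c : Bivar.Cl p (f ≫ g) δX δZ) : ∃ c' : Bivar.Cl p g δY δZ, Bivar.IsProperPushClass f g c c' := by
  
  exact ⟨Groth.Agent.H23.PushClass.push hX hY hδf hδg c, Groth.Agent.H23.PushClass.isProperPushClass hX hY hδf hδg c⟩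

end Groth.Agent.S17569
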