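import Groth.Statements.S17574
import Groth.Agent.H23.SelfInt
import Groth.Agent.H23.ProjBd.ZeroSection
import Groth.Agent.H23.GysinSq
-- import your own Groth.Agent.* helpers here

set_option autoImplicit false
universe u
open CategoryTheory AlgebraicGeometry
open Bivar CategoryTheory.Limits
open Groth.Agent Groth.Agent.H23

namespace Groth.Agent.S17574

/-- Let f : X' → X be locally of finite type, L an invertible O_X-module, and c ∈ A^p(X' → X) a
bivariant class. Then c ∘ c_1(L) = c_1(f^*L) ∘ c in A^{p+1}(X' → X): for every cartesian square (g :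
Y → X, Y' = Y ×_X X', g' : Y' → X') with g locally of finite type and every x ∈ CH_k(Y), c ∩
(c_1(g^*L) ∩ x) = c_1((g')^*f^*L) ∩ (c ∩ x) in CH_{k−1−p}(Y'). Here the first Chern classes of L on
X and of f^*L on X' are given as operational classes cX ∈ A^1(X), cX' ∈ A^1(X') through the binder
Bivar.IsC1Class, evaluated on the test schemes Y → X and Y' → X' of the square (Y' → X' is locally
of finite type as a base change of g), and the two sides, of weights k − p − 1 and k − 1 − p, are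
compared through the transport Bivar.chCast. Here a pair (X, δ) with Cyc.IsSetup plays the role of a
scheme locally of finite type over the base (S, δ) (X locally Noetherian with universally catenary
local rings, δ a dimension function), Cyc.DeltaCompat records that a dimension function is the
induced one, and bivariant classes are taken in the operational sense of the prelude: additive
operations on the Chow groups CH_k (k-cycles modulo rational equivalence) of all test schemes,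
compatible with proper pushforward, flat pullback and the Gysin maps of zero schemes of sections of
invertible modules in representative form (Bivar.Cl for A^p(X → Y), Bivar.OpCl for A^p(X)). -/
theorem result (X X' : Scheme.{u}) (δX : X → ℤ) (δX' : X' → ℤ) (hX : Cyc.IsSetup X δX) (hX' : Cyc.IsSetup X' δX') (f : X' ⟶ X) [LocallyOfFiniteType f] (hδ : Cyc.DeltaCompat f δX' δX) (L : X.Modules) (cX : Bivar.OpCl 1 X δX) (hcX : Bivar.IsC1Class L cX) (cX' : Bivar.OpCl 1 X' δX') (hcX' : Bivar.IsC1Class ((Scheme.Modules.pullback f).obj L) cX') (p : ℤ) (c : Bivar.Cl p f δX' δX) (s : Bivar.Sq f δX' δX) (k : ℤ) (x : ChowOps.CH s.Y' s.δY' k) : c.op s (k - 1) (cX.op ⟨s.Y', s.g, s.lft, s.δY', s.compatY⟩ k x) = Bivar.chCast s.X' s.δX' (sub_right_comm k p 1) (cX'.op ⟨s.X', s.g', MorphismProperty.of_isPullback s.isPullback s.lft, s.δX', s.compatX⟩ (k - p) (c.op s k x)) := by  classical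
  obtain ⟨α, hα, rfl⟩ := Bivar.exists_rep x
  let sY : Bivar.OSq X δX := ⟨s.Y', s.g, s.lft, s.δY', s.compatY⟩
  let sX : Bivar.OSq X' δX' :=
    ⟨s.X', s.g', MorphismProperty.of_isPullback s.isPullback s.lft, s.δX', s.compatX⟩
  have hs := ChowDesc.isSetup_osq hX sY
  have hsX := ChowDesc.isSetup_osq hX' sX
  haveI : IsLocallyNoetherian s.Y' := hs.1
  haveI : IsLocallyNoetherian s.X' := hsX.1
  haveI := s.lft
  haveI : LocallyOfFiniteType s.g' := sX.lft
  have hLs := PicClLib.isInvertible_pullback s.g hcX.1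
  obtain ⟨P, pr, M, σ, o, hp, hM, ho, hop, hD, ⟨e⟩⟩ :=
    ProjBd.ZeroSection.exists_data (InvEnd.isFinLocFreeOfRank_one hLs)
  haveI := hp
  haveI := ho
  let δP : P → ℤ := fun z => s.δY' (pr z) + FibDim.rd pr z
  have hδP : Cyc.DeltaCompat pr δP s.δY' := ChowDesc.deltaCompat_rd pr s.δY'
  let P₂ := pullback pr s.f'
  let fP : P₂ ⟶ P := pullback.fst pr s.f'
  let sP : P₂ ⟶ s.X' := pullback.snd pr s.f'
  let δP₂ : P₂ → ℤ := fun z => s.δX' (sP z) + FibDim.rd sP z
  let t : Bivar.Sq f δX' δX :=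
    { Y' := P
      X' := P₂
      g := pr ≫ s.g
      f' := fP
      g' := sP ≫ s.g'
      isPullback := (IsPullback.of_hasPullback pr s.f').paste_vert s.isPullback
      lft := inferInstance
      δY' := δP
      δX' := δP₂
      compatY := Bivar.deltaCompat_comp pr s.g _ _ _ hδP s.compatY
      compatX := Bivar.deltaCompat_comp sP s.g' _ _ _ (ChowDesc.deltaCompat_rd sP s.δX') s.compatX }
  let tY : Bivar.OSq X δX := ⟨P, pr ≫ s.g, inferInstance, δP, t.compatY⟩
  let tX : Bivar.OSq X' δX' := ⟨P₂, sP ≫ s.g', inferInstance, δP₂, t.compatX⟩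
  have hPs : Cyc.IsSetup P δP := ChowDesc.isSetup_osq hX tY
  have hPs₂ : Cyc.IsSetup P₂ δP₂ := ChowDesc.isSetup_osq hX' tX
  haveI := hPs.1
  haveI := hPs₂.1
  let o₂ : s.X' ⟶ P₂ := pullback.lift (s.f' ≫ o) (𝟙 _) (by rw [Category.assoc, hop]; simp)
  have ho₂ : o₂ ≫ sP = 𝟙 _ := pullback.lift_snd _ _ _
  have ho₁ : o₂ ≫ fP = s.f' ≫ o := pullback.lift_fst _ _ _
  have hsq : IsPullback o₂ s.f' fP o := (IsPullback.of_bot
    (by rw [ho₂, hop]; exact IsPullback.of_vert_isIso ⟨by simp⟩) ho₁.symm (IsPullback.of_hasPullback pr s.f')).flip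
  haveI : IsClosedImmersion o₂ := MorphismProperty.of_isPullback (P := @IsClosedImmersion) hsq.flip inferInstance
  have hD₂ := GysinSq.isZeroSchemeOf_pb hsq hM hD
  have hM₂ := PicClLib.isInvertible_pullback fP hM
  let e₂ : (Scheme.Modules.pullback o₂).obj ((Scheme.Modules.pullback fP).obj M) ≅
      (Scheme.Modules.pullback s.g').obj ((Scheme.Modules.pullback f).obj L) :=
    (Scheme.Modules.pullbackComp o₂ fP).app M ≪≫ (Scheme.Modules.pullbackCongr ho₁).app M ≪≫
      ((Scheme.Modules.pullbackComp s.f' o).app M).symm ≪≫ (Scheme.Modules.pullback s.f').mapIso e ≪≫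
      (Scheme.Modules.pullbackComp s.f' s.g).app L ≪≫ (Scheme.Modules.pullbackCongr s.isPullback.w).app L ≪≫
      ((Scheme.Modules.pullbackComp s.g' f).app L).symm
  have w₁ : o ≫ t.g = s.g := by show o ≫ pr ≫ s.g = s.g; rw [← Category.assoc, hop, Category.id_comp]
  have w₂ : o₂ ≫ t.f' = s.f' ≫ o := ho₁
  have w₃ : o₂ ≫ t.g' = s.g' := by show o₂ ≫ sP ≫ s.g' = s.g'; rw [← Category.assoc, ho₂, Category.id_comp]
  have hδ : s.δY' = fun d => δP (o d) := ChowDesc.delta_closedImmersion (s := tY) (t := sY) o w₁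
  have hδ₂ : s.δX' = fun d => δP₂ (o₂ d) := ChowDesc.delta_closedImmersion (s := tX) (t := sX) o₂ w₃
  have hoα := Bivar.cycMap_mem_Zk o s.δY' δP k hα
  obtain ⟨β, hβ, e1, e2⟩ := c.push t s o o₂ w₁ w₂ w₃ k α hα
  obtain ⟨β', hβ', e3, e4⟩ := c.gysin t s o o₂ w₁ w₂ w₃ M hM σ hD _ hD₂ k _ hoα
  obtain ⟨w, hw⟩ := RatSec.exists_sections hM
  obtain ⟨w', hw'⟩ := RatSec.exists_sections hM₂
  let γ := GysinLib.gysinCycle hM hPs.2.2 o σ (AlgebraicCycle.map o s.δY' δP α) hw
  have hγk : γ ∈ Cyc.Zk s.Y' s.δY' (k - 1) := GysinClass.gysinCycle_mem hM hPs.2.2 hδ hoα hw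
  let ζ₂ := GysinLib.gysinCycle hM₂ hPs₂.2.2 o₂ (KFlatLib.pb fP (U := ⊤) σ) (AlgebraicCycle.map o₂ s.δX' δP₂ β) hw'
  have hζ₂ : ζ₂ ∈ Cyc.Zk s.X' s.δX' (k - p - 1) :=
    GysinClass.gysinCycle_mem hM₂ hPs₂.2.2 hδ₂ (Bivar.cycMap_mem_Zk o₂ s.δX' δP₂ (k - p) hβ) hw'
  obtain ⟨ζ, hζ, hζe, e5⟩ := e4 w hw γ (fun _ => rfl) hγk w' hw'
  rw [SelfInt.c1Class_cl hX hcX sY hPs hM hD hδ e hα hw (γ := γ) (fun _ => rfl) hγk, e5, e1,
    SelfInt.c1Class_cl hX' hcX' sX hPs₂ hM₂ hD₂ hδ₂ e₂ hβ hw' (γ := ζ₂) (fun _ => rfl) hζ₂, Bivar.chCast_cl]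
  refine (ChowDesc.cl_eq_of_ratEquiv _ _ ?_).symm
  have h := SelfInt.gysin_congr hM₂ hPs₂.2.2 hD₂ hδ₂ hw' (ClEq.ratEquiv_of_cl_eq hPs₂.2.2 (e2.symm.trans e3))
    (ζ := ζ₂) (fun _ => rfl) hζe
  rw [show k - 1 - p = k - p - 1 by ring]
  exact h


end Groth.Agent.S17574
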