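import Groth.Statements.S6482
import Groth.Agent.CycLib.Envelope
-- import your own Groth.Agent.* helpers here

set_option autoImplicit false
universe u
open CategoryTheory AlgebraicGeometry
open CategoryTheory.Limits
open Cyc

namespace Groth.Agent.S6482

/-- Let f : Y → X be an envelope. Then f_* : Z_k(Y) → Z_k(X) is surjective, hence so is f_* : CH_k(Y) →
CH_k(X). An envelope is a proper, completely decomposed morphism (every point of the target has a
point over it with trivial residue field extension; this prelude's Cyc.IsCompletelyDecomposed). Here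
a pair (X, δ) with Cyc.IsSetup plays the role of a scheme locally of finite type over the base (S,
δ) (X locally Noetherian with universally catenary local rings, δ a dimension function), and
Cyc.DeltaCompat records that the dimension function upstairs is the induced one. -/
theorem result (X Y : Scheme.{u}) (δ : X → ℤ) (δY : Y → ℤ) (hX : Cyc.IsSetup X δ) (hY : Cyc.IsSetup Y δY) (f : Y ⟶ X) [IsProper f] (hcd : Cyc.IsCompletelyDecomposed f) (hδ : Cyc.DeltaCompat f δY δ) (k : ℤ) (α : AlgebraicCycle X ℤ) (hα : α ∈ Cyc.Zk X δ k) : ∃ β : AlgebraicCycle Y ℤ, β ∈ Cyc.Zk Y δY k ∧ AlgebraicCycle.map f δY δ β = α := by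
  choose s hs hsurj using hcd
  have hδs : ∀ x, δY (s x) = δ x := fun x => (Groth.Agent.CycLib.delta_eq_of_surjective f hδ (hsurj x)).trans (by rw [hs])
  refine ⟨Groth.Agent.CycLib.liftCycle f s α, fun y hy => ?_, ?_⟩
  · classical
    rw [Groth.Agent.CycLib.liftCycle_apply]
    split_ifs with h
    · refine hα _ fun h' => hy ?_
      rw [← h, hδs, h']
    · rfl
  · ext x
    rw [Groth.Agent.CycLib.map_liftCycle f s hs, AlgebraicCycle.mapCoeff, if_pos (show δY (s x) = δ (f (s x)) by rw [hδs, hs]),
      Groth.Agent.CycLib.residueDegree_of_surjective f (hsurj x), Nat.cast_one, mul_one]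

end Groth.Agent.S6482
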