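import Groth.Statements.S6484
import Mathlib
-- import your own Groth.Agent.* helpers here

set_option autoImplicit false
universe u
open CategoryTheory AlgebraicGeometry
open CategoryTheory.Limits
open Cyc

namespace Groth.Agent.S6484

/-- If f : Y → X is completely decomposed (this prelude's Cyc.IsCompletelyDecomposed: over every point
of X lies a point of Y with trivial residue field extension) and g : X' → X is any morphism of
schemes, then the base change Y ×_X X' → X' is completely decomposed. Consequently the base change
of an envelope (a proper completely decomposed morphism) is an envelope, properness being preserved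
by base change. (The published envelope statement takes X′ → X between schemes locally of finite
type over a base; this row allows any g.) -/
theorem result (X X' Y : Scheme.{u}) (f : Y ⟶ X) (g : X' ⟶ X) (hcd : Cyc.IsCompletelyDecomposed f) : Cyc.IsCompletelyDecomposed (pullback.snd f g) := by
  intro x'
  obtain ⟨y, hy, hsurj⟩ := hcd (g x')
  let e : X.residueField (g x') ⟶ Y.residueField y := (X.residueFieldCongr hy.symm).hom ≫ f.residueFieldMap y
  have hsurj' : Function.Surjective e.hom := by
    rw [CommRingCat.hom_comp]
    exact hsurj.comp (ConcreteCategory.bijective_of_isIso (X.residueFieldCongr hy.symm).hom).2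
  haveI : IsIso e := (ConcreteCategory.isIso_iff_bijective e).2 ⟨e.hom.injective, hsurj'⟩
  let a : Spec (X'.residueField x') ⟶ Y := Spec.map (inv e ≫ g.residueFieldMap x') ≫ Y.fromSpecResidueField y
  have hcomm : a ≫ f = X'.fromSpecResidueField x' ≫ g := by
    simp only [a, Category.assoc]
    rw [← Scheme.Hom.SpecMap_residueFieldMap_fromSpecResidueField f y, ← Category.assoc, ← Spec.map_comp,
      ← Scheme.Hom.SpecMap_residueFieldMap_fromSpecResidueField g x', ← Category.assoc]
    rw [Category.assoc (Scheme.Hom.residueFieldMap f y), show f.residueFieldMap y ≫ inv e ≫ g.residueFieldMap x' =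
        (X.residueFieldCongr hy).hom ≫ g.residueFieldMap x' by
      rw [← Category.assoc]
      congr 1
      rw [IsIso.comp_inv_eq]
      simp [e]]
    rw [Spec.map_comp, Category.assoc, Scheme.residueFieldCongr_fromSpecResidueField]
  let s := pullback.lift a (X'.fromSpecResidueField x') hcomm
  let p : Spec (X'.residueField x') := IsLocalRing.closedPoint _
  refine ⟨s p, ?_, ?_⟩
  · rw [← Scheme.Hom.comp_apply, pullback.lift_snd]
    exact X'.fromSpecResidueField_apply x' p
  · have hcomp : s ≫ pullback.snd f g = X'.fromSpecResidueField x' := pullback.lift_snd _ _ _
    have h1 := Scheme.residueFieldMap_comp s (pullback.snd f g) p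
    have h2 : Function.Surjective ((X'.fromSpecResidueField x').residueFieldMap p).hom := by
      intro b
      obtain ⟨c, rfl⟩ := Scheme.residue_surjective _ p b
      obtain ⟨d, rfl⟩ := (X'.fromSpecResidueField x').stalkMap_surjective p c
      exact ⟨X'.residue _ d, ConcreteCategory.congr_hom
        (Scheme.residue_residueFieldMap (X'.fromSpecResidueField x') p) d⟩
    have h3 : Function.Surjective ((s ≫ pullback.snd f g).residueFieldMap p).hom := by rw [hcomp]; exact h2
    rw [h1] at h3
    intro b
    obtain ⟨c, hc⟩ := h3 (s.residueFieldMap p b)
    exact ⟨c, (s.residueFieldMap p).hom.injective hc⟩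

end Groth.Agent.S6484
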