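import Groth.Statements.S17576
import Groth.Agent.H23.PushClass
import Groth.Agent.S6482
import Groth.Agent.S6484
-- import your own Groth.Agent.* helpers here

set_option autoImplicit false
universe u
open CategoryTheory AlgebraicGeometry
open Bivar

namespace Groth.Agent.S17576

/-- Let f : X → Y be locally of finite type, g : Y' → Y an envelope (a proper, completely decomposed
morphism: over every point of Y lies a point of Y' with trivial residue field extension) and X' = Y'
×_Y X. Then a bivariant class c ∈ A^p(X → Y) is determined by its restriction res(c) ∈ A^p(X' → Y'):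
two classes with the same restriction along the square (g, X') are equal. (The existence part — a
class c' on X' → Y' whose two restrictions to X' ×_X X' → Y' ×_Y Y' agree descends — is not stated
here.) Here a pair (X, δ) with Cyc.IsSetup plays the role of a scheme locally of finite type over
the base (S, δ) (X locally Noetherian with universally catenary local rings, δ a dimension
function), Cyc.DeltaCompat records that a dimension function is the induced one, and bivariant
classes are taken in the operational sense of the prelude: additive operations on the Chow groups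
CH_k (k-cycles modulo rational equivalence) of all test schemes, compatible with proper pushforward,
flat pullback and the Gysin maps of zero schemes of sections of invertible modules in representative
form (Bivar.Cl for A^p(X → Y), Bivar.OpCl for A^p(X)). -/
theorem result (X Y : Scheme.{u}) (δX : X → ℤ) (δY : Y → ℤ) (hX : Cyc.IsSetup X δX) (hY : Cyc.IsSetup Y δY) (f : X ⟶ Y) [LocallyOfFiniteType f] (hδ : Cyc.DeltaCompat f δX δY) (p : ℤ) (s₀ : Bivar.Sq f δX δY) [IsProper s₀.g] (hcd : Cyc.IsCompletelyDecomposed s₀.g) (c₁ c₂ : Bivar.Cl p f δX δY) (heq : c₁.res s₀ = c₂.res s₀) : c₁ = c₂ := by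
  
  refine Bivar.Cl.ext (funext fun s => funext fun k => AddMonoidHom.ext fun x => ?_)
  obtain ⟨α, hα, rfl⟩ := Bivar.exists_rep x
  haveI := s.lft
  haveI := s₀.lft
  haveI := Groth.Agent.H23.FlatClass.lft_f' s₀
  let t : Bivar.Sq s₀.f' s₀.δX' s₀.δY' :=
    ⟨Limits.pullback s₀.g s.g, Limits.pullback (Limits.pullback.fst s₀.g s.g) s₀.f',
      Limits.pullback.fst s₀.g s.g, Limits.pullback.fst _ _, Limits.pullback.snd _ _,
      IsPullback.of_hasPullback _ _, inferInstance,
      fun y => s₀.δY' (Limits.pullback.fst s₀.g s.g y) + FibDim.rd (Limits.pullback.fst s₀.g s.g) y,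
      fun y => s₀.δX' (Limits.pullback.snd (Limits.pullback.fst s₀.g s.g) s₀.f' y) +
        FibDim.rd (Limits.pullback.snd (Limits.pullback.fst s₀.g s.g) s₀.f') y,
      Groth.Agent.H23.ChowDesc.deltaCompat_rd _ _, Groth.Agent.H23.ChowDesc.deltaCompat_rd _ _⟩
  let T := s₀.paste t
  let h : T.Y' ⟶ s.Y' := Limits.pullback.snd s₀.g s.g
  haveI : IsProper h := MorphismProperty.pullback_snd s₀.g s.g ‹_›
  have w₁ : h ≫ s.g = T.g := (Limits.pullback.condition (f := s₀.g) (g := s.g)).symm
  let h' : T.X' ⟶ s.X' := s.isPullback.lift (T.f' ≫ h) T.g' (by rw [Category.assoc, w₁]; exact T.isPullback.w)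
  have w₂ : h' ≫ s.f' = T.f' ≫ h := s.isPullback.lift_fst _ _ _
  have w₃ : h' ≫ s.g' = T.g' := s.isPullback.lift_snd _ _ _
  haveI : IsProper h' :=
    MorphismProperty.of_isPullback (Groth.Agent.H23.FlatClass.isPullback_hom h h' w₁ w₂ w₃) ‹_›
  have hsY := Groth.Agent.H23.FlatClass.isSetup_Y' hY s
  have hTY := Groth.Agent.H23.FlatClass.isSetup_Y' hY T
  obtain ⟨β, hβ, e⟩ := Groth.Agent.S6482.result s.Y' T.Y' s.δY' T.δY' hsY hTY h
    (Groth.Agent.S6484.result Y s.Y' s₀.Y' s₀.g s.g hcd) (Groth.Agent.H23.FlatClass.deltaCompat_homY h w₁) k α hα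
  obtain ⟨β₁, hβ₁, e1, e1'⟩ := c₁.push s T h h' w₁ w₂ w₃ k β hβ
  obtain ⟨β₂, hβ₂, e2, e2'⟩ := c₂.push s T h h' w₁ w₂ w₃ k β hβ
  rw [Bivar.cl_congr e _ hα] at e1' e2'
  rw [e1', e2']
  have hδ' := Groth.Agent.H23.FlatClass.deltaCompat_homX h' w₃
  have hsX := Groth.Agent.H23.FlatClass.isSetup_X' hX s
  have hTX := Groth.Agent.H23.FlatClass.isSetup_X' hX T
  rw [← Groth.Agent.H23.PushClass.mapCH_cl h' hTX hsX hδ' hβ₁, ← Groth.Agent.H23.PushClass.mapCH_cl h' hTX hsX hδ' hβ₂,
    ← e1, ← e2]
  exact congrArg _ (DFunLike.congr_fun (congrFun (congrFun (congrArg Bivar.Cl.op heq) t) k) (ChowOps.cl β hβ))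

end Groth.Agent.S17576
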