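import Groth.Agent.CycCov7.Scheme
import Mathlib.AlgebraicGeometry.FunctionField
import Groth.Statements.S17584
-- import your own Groth.Agent.* helpers here

set_option autoImplicit false
open CategoryTheory CategoryTheory.Limits AlgebraicGeometry
open PosLin

namespace Groth.Agent.S17584

section helpers

open Groth.Agent TopologicalSpace Opposite

lemma bijective_app {X Y : Scheme.{0}} (f : X ⟶ Y) (hfs : IsIso (ClSub.unitToPush f)) (U : Y.Opens) :
    Function.Bijective (f.app U) :=
  ConcreteCategory.bijective_of_isIso ((ClSub.unitToPush f).app U)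

lemma isIntegrallyClosed_sections {X : Scheme.{0}} [IsIntegral X] (hX : Pi1.IsNormalScheme X) (U : X.Opens)
    [Nonempty U] : IsIntegrallyClosed Γ(X, U) := by
  classical
  haveI : FaithfulSMul Γ(X, U) X.functionField :=
    (faithfulSMul_iff_algebraMap_injective _ _).mpr (X.germToFunctionField_injective U)
  suffices key : ∀ q : X.functionField, IsIntegral Γ(X, U) q → ∃ s, algebraMap Γ(X, U) X.functionField s = q by
    refine (isIntegrallyClosed_iff (FractionRing Γ(X, U))).mpr fun {x} hx => ?_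
    letI := FractionRing.liftAlgebra Γ(X, U) X.functionField; let φ := IsScalarTower.toAlgHom Γ(X, U) (FractionRing Γ(X, U)) X.functionField
    obtain ⟨s, hs⟩ := key (φ x) (hx.map φ)
    exact ⟨s, φ.toRingHom.injective (show φ (algebraMap _ _ s) = φ x by rw [AlgHom.commutes, hs])⟩
  intro q hq
  have key : ∀ x : U, ∃ (V : X.Opens) (hV : V ≤ U) (hxV : x.1 ∈ V) (c : Γ(X, V)),
      X.presheaf.germ V (genericPoint X)
        ((genericPoint_spec X).mem_open_set_iff V.isOpen |>.mpr ⟨x.1, trivial, hxV⟩) c = q := by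
    intro x
    obtain ⟨_, ⟨V, hV, rfl⟩, hxV, hVU⟩ := X.isBasis_affineOpens.exists_subset_of_mem_open x.2 U.2
    haveI : Nonempty V := ⟨⟨x.1, hxV⟩⟩
    haveI : IsIntegrallyClosed Γ(X, V) := IsIntegrallyClosed.of_localization_maximal fun p _ _ =>
      (CycCov7.isNormal_Γ hX hV p).2
    haveI := functionField_isFractionRing_of_isAffineOpen X V hV
    have hint : IsIntegral Γ(X, V) q := by
      obtain ⟨P, hP, h⟩ := hq
      refine ⟨P.map (X.presheaf.map (homOfLE hVU).op).hom, hP.map _, ?_⟩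
      rw [Polynomial.eval₂_map]
      refine Eq.trans (congrArg (fun φ => Polynomial.eval₂ φ q P) ?_) h
      ext s
      exact X.presheaf.germ_res_apply (homOfLE hVU) _ _ s
    obtain ⟨c, hc⟩ := (isIntegrallyClosed_iff X.functionField).mp inferInstance hint
    exact ⟨V, hVU, hxV, c, hc⟩
  choose V hVU hxV c hc using key
  have hcompat : TopCat.Presheaf.IsCompatible X.sheaf.presheaf V c := by
    intro i j
    haveI : Nonempty (V i ⊓ V j : X.Opens) := by
      obtain ⟨z, hz⟩ := nonempty_preirreducible_inter (V i).2 (V j).2 ⟨i.1, hxV i⟩ ⟨j.1, hxV j⟩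
      exact ⟨⟨z, hz⟩⟩
    apply X.germToFunctionField_injective (V i ⊓ V j)
    exact (X.presheaf.germ_res_apply (Opens.infLELeft (V i) (V j)) _ _ (c i)).trans ((hc i).trans
      ((X.presheaf.germ_res_apply (Opens.infLERight (V i) (V j)) _ _ (c j)).trans (hc j)).symm)
  obtain ⟨s, hs, -⟩ := X.sheaf.existsUnique_gluing' V U (fun i => homOfLE (hVU i))
    (fun y hy => Opens.mem_iSup.mpr ⟨⟨y, hy⟩, hxV ⟨y, hy⟩⟩) c hcompat
  obtain ⟨i⟩ := (inferInstance : Nonempty U)
  refine ⟨s, Eq.trans ?_ (hc i)⟩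
  rw [← hs i]
  exact (X.presheaf.germ_res_apply (homOfLE (hVU i)) _ _ s).symm

end helpers

/-- Let X and Y each be a projective variety over the complex numbers (an integral scheme, proper over
ℂ, with an ample invertible module), and f : X → Y an algebraic fibre space (a surjective morphism
over ℂ with O_Y → f_*O_X an isomorphism). If X is normal, then Y is normal. -/
theorem result (X : Scheme.{0}) [X.Over (Spec (CommRingCat.of ℂ))] [IsIntegral X] [IsProper (X ↘ Spec (CommRingCat.of ℂ))]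
    (HX : X.Modules) (hHX : CohB1.IsAmple HX)
    (Y : Scheme.{0}) [Y.Over (Spec (CommRingCat.of ℂ))] [IsIntegral Y] [IsProper (Y ↘ Spec (CommRingCat.of ℂ))]
    (HY : Y.Modules) (hHY : CohB1.IsAmple HY)
    (f : X ⟶ Y) (hf : f ≫ (Y ↘ Spec (CommRingCat.of ℂ)) = X ↘ Spec (CommRingCat.of ℂ)) [Surjective f]
    (hfs : IsIso (ClSub.unitToPush f))
    (hX : Pi1.IsNormalScheme X) : Pi1.IsNormalScheme Y := by
  intro y
  haveI : IsDomain (Y.presheaf.stalk y) := inferInstance
  refine ⟨inferInstance, ?_⟩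
  obtain ⟨_, ⟨V, hV, rfl⟩, hyV, -⟩ := Y.isBasis_affineOpens.exists_subset_of_mem_open (Set.mem_univ y) isOpen_univ
  obtain ⟨x, hx⟩ := f.surjective y
  haveI : Nonempty V := ⟨⟨y, hyV⟩⟩
  haveI : Nonempty (f ⁻¹ᵁ V : X.Opens) := ⟨⟨x, show f.base x ∈ V by rw [hx]; exact hyV⟩⟩
  haveI : IsIntegrallyClosed Γ(X, f ⁻¹ᵁ V) := isIntegrallyClosed_sections hX _
  haveI : IsIntegrallyClosed Γ(Y, V) :=
    IsIntegrallyClosed.of_equiv (RingEquiv.ofBijective (f.app V).hom (bijective_app f hfs V)).symm
  letI := TopCat.Presheaf.algebra_section_stalk Y.presheaf (⟨y, hyV⟩ : V)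
  haveI := hV.isLocalization_stalk ⟨y, hyV⟩
  exact isIntegrallyClosed_of_isLocalization (Y.presheaf.stalk y)
    (hV.primeIdealOf ⟨y, hyV⟩).asIdeal.primeCompl (Ideal.primeCompl_le_nonZeroDivisors _)

end Groth.Agent.S17584
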