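import Groth.Statements.S17586
import Groth.Agent.Nakai.BigInt

set_option autoImplicit false
open CategoryTheory CategoryTheory.Limits AlgebraicGeometry
open PosLin

namespace Groth.Agent.S17586
set_option backward.isDefEq.respectTransparency false
set_option backward.isDefEq.respectTransparency.types false

/-- Let X be a projective variety over the complex numbers (an integral scheme, proper over ℂ, with an
ample invertible module) of dimension n, and L an invertible O_X-module (the module of a Cartier
divisor D). The following two characterisations of bigness of D are equivalent: (a) for every ample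
invertible O_X-module A there are m > 0 and a monomorphism A → L^⊗m (that is, mD is linearly
equivalent to A plus an effective divisor); (b) there are a constant C > 0 and m₁ such that dim_ℂ
H^0(X, L^⊗m) ≥ C·m^n for all m ≥ m₁. (In the text both are shown equivalent to D having Iitaka
dimension n; this row states their equivalence with each other.) -/
theorem result (X : Scheme.{0}) [X.Over (Spec (CommRingCat.of ℂ))] [IsIntegral X]
    [IsProper (X ↘ Spec (CommRingCat.of ℂ))] (H : X.Modules) (hH : CohB1.IsAmple H)
    (n : ℕ) (hn : topologicalKrullDim X = n)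
    (L : X.Modules) (hL : PicF.IsInvertible L) :
    (∀ A : X.Modules, CohB1.IsAmple A → ∃ (m : ℕ) (φ : A ⟶ CohB1.tensorPow L m), 0 < m ∧ Mono φ) ↔
      ∃ C : ℝ, 0 < C ∧ ∃ m₁ : ℕ, ∀ m : ℕ, m₁ ≤ m →
        C * (m : ℝ) ^ n ≤ (Module.finrank ℂ (Coh.HH X (CohB1.tensorPow L m) 0) : ℝ) := by
  have hd := NefBig.deg_genericPoint_of_dim (k := ℂ) hn
  constructor
  · intro h
    obtain ⟨c, hc, hev⟩ := NefBig.growth_of_forall_mono hd hH hL h
    obtain ⟨m₁, hm₁⟩ := Filter.eventually_atTop.1 hev
    refine ⟨(c : ℝ), Rat.cast_pos.2 hc, m₁, fun m hm => ?_⟩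
    have := (Rat.cast_le (K := ℝ)).2 (hm₁ m hm)
    push_cast at this
    exact this
  · rintro ⟨C, hC, m₁, h⟩ A hA
    obtain ⟨c, hc0, hcC⟩ := exists_rat_btwn hC
    have hg : NefBig.Grows ℂ L n := ⟨1, c, one_pos, Rat.cast_pos.1 hc0, Filter.eventually_atTop.2 ⟨m₁, fun μ hμ => by
      have h1 := (mul_le_mul_of_nonneg_right hcC.le (by positivity : (0 : ℝ) ≤ (μ : ℝ) ^ n)).trans (h μ hμ)
      rw [one_mul]
      exact (Rat.cast_le (K := ℝ)).1 (by push_cast; exact h1)⟩⟩
    exact NefBig.exists_mono_of_grows hd hL hg hA

end Groth.Agent.S17586
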