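import Groth.Agent.BigConeLib.Basic
import Groth.Statements.S17587
-- import your own Groth.Agent.* helpers here

set_option autoImplicit false
open CategoryTheory CategoryTheory.Limits AlgebraicGeometry
open PosLin

namespace Groth.Agent.S17587

set_option backward.isDefEq.respectTransparency false
set_option backward.isDefEq.respectTransparency.types false
attribute [local instance] H23.PicMul.clMonoid

/-- Let X be a projective variety over the complex numbers (an integral scheme, proper over ℂ, with an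
ample invertible module), and L an invertible O_X-module which is big, bigness being expressed
through the equivalent condition that every ample invertible O_X-module A admits a monomorphism A →
L^⊗m for some m > 0. Then the exponent of L is 1, that is, H^0(X, L^⊗m) ≠ 0 for every sufficiently
large m. -/
theorem result (X : Scheme.{0}) [X.Over (Spec (CommRingCat.of ℂ))] [IsIntegral X]
    [IsProper (X ↘ Spec (CommRingCat.of ℂ))] (H : X.Modules) (hH : CohB1.IsAmple H)
    (L : X.Modules) (hL : PicF.IsInvertible L)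
    (hbig : ∀ A : X.Modules, CohB1.IsAmple A → ∃ (m : ℕ) (φ : A ⟶ CohB1.tensorPow L m), 0 < m ∧ Mono φ) :
    ∃ m₁ : ℕ, ∀ m : ℕ, m₁ ≤ m → Nontrivial (Coh.HH X (CohB1.tensorPow L m) 0) := by
  letI := H23.PicMul.law X
  obtain ⟨B, hB, ⟨eB⟩⟩ := H23.PicInv.exists_inverse hL
  have hLB : PicF.cl L * PicF.cl B = 1 := by
    rw [← H23.PicMul.cl_tensor, H23.PicMul.one_def]; exact H23.PicMul.cl_eq_iff.2 ⟨eB⟩
  obtain ⟨n₁, -, h₁⟩ := BigConeLib.exists_mono_unit_pow (k := ℂ) hH hB
  obtain ⟨n₂, -, h₂⟩ := BigConeLib.exists_mono_unit_pow (k := ℂ) hH InvX.isInvertible_structureModule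
  obtain ⟨hA, f, hf⟩ := h₁ (max n₁ n₂) (le_max_left _ _)
  obtain ⟨hA', f', hf'⟩ := h₂ (max n₁ n₂) (le_max_right _ _)
  obtain ⟨m', φ, hm', hφ⟩ := hbig _ hA'
  obtain ⟨M, rfl⟩ := Nat.exists_eq_add_of_le' hm'
  let S : ℕ → Prop := fun m => ∃ g : Coh.structureModule X ⟶ CohB1.tensorPow L m, Mono g
  have hadd : ∀ a b, S a → S b → S (a + b) := fun a b ⟨g, hg⟩ ⟨g', hg'⟩ => by
    obtain ⟨e, he⟩ := NefBig.mono_of_mono_unit g (InvX.isInvertible_tensorPow hL b) (Q := CohB1.tensorPow L (a + b)) (by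
      rw [H23.PicMul.cl_tensorPow, H23.PicMul.cl_tensorPow, H23.PicMul.cl_tensorPow, pow_add])
    exact ⟨g' ≫ e, haveI := hg'; haveI := he; mono_comp _ _⟩
  have hmul : ∀ a j, S a → S (j * a) := fun a j ha => by
    induction j with
    | zero => rw [Nat.zero_mul]; exact ⟨𝟙 _, (inferInstance : Mono (𝟙 (Coh.structureModule X)))⟩
    | succ j ih => rw [Nat.succ_mul]; exact hadd _ _ ih ha
  have hM1 : S (M + 1) := ⟨f' ≫ φ, haveI := hf'; haveI := hφ; mono_comp _ _⟩
  have hM : S M := by
    obtain ⟨e, he⟩ := NefBig.mono_twist φ hB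
    obtain ⟨i⟩ := H23.PicMul.cl_eq_iff.1 (show
        PicF.cl (CohB1.tensorMod (CohB1.tensorMod (CohB1.tensorPow H (max n₁ n₂)) (Coh.structureModule X)) B) =
          PicF.cl (CohB1.tensorMod (CohB1.tensorPow H (max n₁ n₂)) B) by
      simp only [H23.PicMul.cl_tensor, ← H23.PicMul.one_def, mul_one])
    obtain ⟨j⟩ := H23.PicMul.cl_eq_iff.1 (show PicF.cl (CohB1.tensorMod (CohB1.tensorPow L (M + 1)) B) =
        PicF.cl (CohB1.tensorPow L M) by
      rw [H23.PicMul.cl_tensor, H23.PicMul.cl_tensorPow, H23.PicMul.cl_tensorPow, pow_succ, mul_assoc, hLB, mul_one])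
    exact ⟨f ≫ i.inv ≫ e ≫ j.hom, haveI := hf; haveI := he; inferInstance⟩
  refine ⟨M * M, fun m hm => ?_⟩
  obtain ⟨g, hg⟩ : S m := by
    rcases Nat.eq_zero_or_pos M with h0 | h0
    · simpa [h0] using hmul (M + 1) m hM1
    have hq : M ≤ m / M := (Nat.le_div_iff_mul_le h0).2 hm
    have hr := Nat.mod_lt m h0
    obtain ⟨d, hd⟩ := Nat.exists_eq_add_of_le (hr.le.trans hq)
    have h := hadd _ _ (hmul M d hM) (hmul (M + 1) (m % M) hM1)
    have e : d * M + m % M * (M + 1) = m := by
      conv_rhs => rw [← Nat.div_add_mod m M, hd]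
      ring
    rwa [e] at h
  haveI := hg
  exact CurveAmple.nontrivial_h0 (NefBig.one_ne_zero_of_mono g)

end Groth.Agent.S17587
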