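import Groth.Statements.S17588
import Groth.Agent.Nakai.BigInt

set_option autoImplicit false
open CategoryTheory CategoryTheory.Limits AlgebraicGeometry
open PosLin

namespace Groth.Agent.S17588
set_option backward.isDefEq.respectTransparency false
set_option backward.isDefEq.respectTransparency.types false

/-- Let X be a projective variety over the complex numbers (an integral scheme, proper over ℂ, with an
ample invertible module) of dimension n, L an invertible O_X-module which is numerically effective
(its restriction to every integral one-dimensional closed subscheme has non-negative degree), and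
L⁻¹ a tensor inverse of L. Then L is big, bigness being expressed through the equivalent growth
condition dim_ℂ H^0(X, L^⊗m) ≥ C·m^n for some constant C > 0 and all sufficiently large m, if and
only if the self-intersection number (L^n) = ∫ c_1(L)^n · [O_X] (the alternating sum of Euler
characteristics attached to n copies of L⁻¹) is positive. -/
theorem result (X : Scheme.{0}) [X.Over (Spec (CommRingCat.of ℂ))] [IsIntegral X]
    [IsProper (X ↘ Spec (CommRingCat.of ℂ))] (H : X.Modules) (hH : CohB1.IsAmple H)
    (n : ℕ) (hn : topologicalKrullDim X = n)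
    (L Linv : X.Modules) (hL : PicF.IsInvertible L) (hLinv : ClSub.IsInverseOf Linv L)
    (hnef : ∀ (Z : Scheme.{0}) (i : Z ⟶ X) [IsClosedImmersion i], IsIntegral Z → topologicalKrullDim Z = 1 →
      0 ≤ Pic13.curveDeg ℂ (i ≫ (X ↘ Spec (CommRingCat.of ℂ))) ((Scheme.Modules.pullback i).obj L)) :
    (∃ C : ℝ, 0 < C ∧ ∃ m₁ : ℕ, ∀ m : ℕ, m₁ ≤ m →
        C * (m : ℝ) ^ n ≤ (Module.finrank ℂ (Coh.HH X (CohB1.tensorPow L m) 0) : ℝ)) ↔
      0 < FGA.intNum ℂ X n (fun _ : Fin n => Linv) (Coh.structureModule X) := by
  have hd := NefBig.deg_genericPoint_of_dim (k := ℂ) hn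
  rw [← NefBig.grows_iff_intNum_pos hn hH hL hLinv hnef]
  constructor
  · rintro ⟨C, hC, m₁, h⟩
    obtain ⟨c, hc0, hcC⟩ := exists_rat_btwn hC
    exact ⟨1, c, one_pos, Rat.cast_pos.1 hc0, Filter.eventually_atTop.2 ⟨m₁, fun μ hμ => by
      have h1 := (mul_le_mul_of_nonneg_right hcC.le (by positivity : (0 : ℝ) ≤ (μ : ℝ) ^ n)).trans (h μ hμ)
      rw [one_mul]
      exact (Rat.cast_le (K := ℝ)).1 (by push_cast; exact h1)⟩⟩
  · intro hg
    obtain ⟨c, hc, hev⟩ := NefBig.growth_of_forall_mono hd hH hL fun A hA => NefBig.exists_mono_of_grows hd hL hg hA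
    obtain ⟨m₁, hm₁⟩ := Filter.eventually_atTop.1 hev
    refine ⟨(c : ℝ), Rat.cast_pos.2 hc, m₁, fun m hm => ?_⟩
    have := (Rat.cast_le (K := ℝ)).2 (hm₁ m hm)
    push_cast at this
    exact this

end Groth.Agent.S17588
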