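import Groth.Statements.S17589
import Groth.Agent.MulSect.Push
import Groth.Agent.Lib.ProjRegularPn
import Groth.Agent.S3572
import Groth.Agent.AmpleVan.FiniteSurj
import Groth.Agent.AmpleVan.RelVanish
import Groth.Agent.AmpleVan.FinGen
import Groth.Agent.BlowPointH1.Sections
import Groth.Agent.H9Misc.ProjVan
import Groth.Agent.PnCoh.Chow.Proper
import Groth.Agent.ExistEasy.PP.HatLemmas

set_option autoImplicit false
open CategoryTheory CategoryTheory.Limits AlgebraicGeometry
open PosLin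

namespace Groth.Agent.S17589

set_option backward.isDefEq.respectTransparency false
set_option backward.isDefEq.respectTransparency.types false
attribute [local instance] H23.PicMul.clMonoid

section

universe w

theorem app_tmul {X : Scheme.{w}} {T T' : X.Modules} (φ : T ⟶ T') (G : X.Modules) (t : Γ(G, ⊤)) (s : Γ(T, ⊤)) :
    ((DCoh.tensorBi.obj G).map φ).app ⊤ (InvX.tmul t s) = InvX.tmul t (φ.app ⊤ s) :=
  (congrArg (fun ψ : MonoidalCategoryStruct.tensorObj (DCoh.toP.obj G) (DCoh.toP.obj T) ⟶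
      DCoh.toP.obj ((DCoh.tensorBi.obj G).obj T') => ψ.app (Opposite.op ⊤) (KFlatLib.tm t s))
    (KFlatLib.unitShP_naturality (MonoidalCategoryStruct.whiskerLeft (DCoh.toP.obj G) (DCoh.toP.map φ)))).symm

theorem mul_surjective_of_span {X : Scheme.{w}} {N M L : X.Modules} (ψ : M ≅ L) (S : Set Γ(M, ⊤))
    (h : MulSect.span N M S = ⊤) :
    Function.Surjective ((toSheafify (Opens.grothendieckTopology X)
      (CohB1.tensorPre N L).presheaf).app (Opposite.op ⊤)) := by
  intro z
  obtain ⟨z', hz'⟩ := (ConcreteCategory.bijective_of_isIso (((DCoh.tensorBi.obj N).map ψ.hom).app ⊤)).2 z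
  have hm : z' ∈ MulSect.span N M S := h ▸ trivial
  rw [← hz']
  clear hz'
  induction hm using AddSubgroup.closure_induction with
  | mem y hy =>
    obtain ⟨⟨t, s⟩, rfl⟩ := hy
    exact ⟨KFlatLib.tm t (ψ.hom.app ⊤ s.1), (app_tmul ψ.hom N t s.1).symm⟩
  | zero => exact ⟨0, (map_zero _).trans (map_zero _).symm⟩
  | add a b _ _ ha hb =>
    obtain ⟨a', ha'⟩ := ha
    obtain ⟨b', hb'⟩ := hb
    exact ⟨a' + b', by rw [map_add, ha', hb']; exact (map_add _ a b).symm⟩
  | neg a _ ha =>
    obtain ⟨a', ha'⟩ := ha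
    exact ⟨-a', by rw [map_neg, ha']; exact (map_neg _ a).symm⟩

variable {k : Type w} [Field k] {n : ℕ}

open ProjRegular in
theorem twist_pow (m : ℕ) :
    Nonempty (Twist.twistProjSpace n k (m : ℤ) ≅ CohB1.tensorPow (Twist.twistProjSpace n k 1) m) := by
  induction m with
  | zero =>
    haveI : IsIso (PnCoh.Finite.oneHom (𝒜 := CohB1.polyGrading n k)) :=
      PnCoh.Finite.isIso_oneHom (coords k n) coords_mem coords_cover
    exact ⟨(asIso (PnCoh.Finite.oneHom (𝒜 := CohB1.polyGrading n k))).symm⟩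
  | succ m ih =>
    obtain ⟨e⟩ := ih
    obtain ⟨t⟩ := PnCoh.Finite.twist_tensor_iso (coords k n) coords_mem coords_cover (m : ℤ) 1
    exact ⟨(eqToIso (by rw [Nat.cast_succ]; rfl) ≪≫ t.symm) ≪≫ (H23.PicMul.cl_eq_iff.1 (by
      rw [show CohB1.tensorPow (Twist.twistProjSpace n k 1) (m + 1) =
        CohB1.tensorMod (CohB1.tensorPow (Twist.twistProjSpace n k 1) m) (Twist.twistProjSpace n k 1) from rfl,
        H23.PicMul.cl_tensor, H23.PicMul.cl_tensor, ← H23.PicMul.cl_eq_iff.2 ⟨e⟩]
      rfl)).some⟩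

/-- Sections of tensor powers of a globally generated invertible module multiply surjectively. -/
theorem main {X : Scheme.{w}} (q : X ⟶ Spec (CommRingCat.of k)) [IsProper q] (L : X.Modules)
    (hL : PicF.IsInvertible L) (hLg : Curv2.IsGloballyGenerated L) (F : X.Modules) (hF : Coh.IsCoh F) :
    ∃ m₀ : ℕ, 0 < m₀ ∧ ∀ a b : ℕ, m₀ ≤ a → m₀ ≤ b →
      Function.Surjective
        ((toSheafify (Opens.grothendieckTopology X)
          (CohB1.tensorPre (CohB1.tensorMod F (CohB1.tensorPow L a)) (CohB1.tensorPow L b)).presheaf).app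
          (Opposite.op ⊤)) := by
  haveI : IsLocallyNoetherian X := LocallyOfFiniteType.isLocallyNoetherian q
  haveI : CompactSpace X := HasAffineProperty.iff_of_isAffine.mp (inferInstance : QuasiCompact q)
  obtain ⟨ι, s, hs⟩ := BlowPointH1.exists_generatedBy hLg
  obtain ⟨N, j, hj⟩ := AmpleVan.exists_fin_generatedBy (CurveDeg.isCoh_of_isInvertible hL) s hs
  let s' : Fin (N + 1) → ProjUP.Γm L := Fin.cons (0 : Γ(L, ⊤)) (s ∘ j)
  have hs' : ProjUP.GeneratedBy L s' := fun x => eq_top_iff.2 ((hj x).ge.trans (Submodule.span_mono (by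
    rintro _ ⟨i, rfl⟩
    exact ⟨i.succ, rfl⟩)))
  obtain ⟨r, hr, τ, -⟩ := S3572.result N q L hL s' hs'
  haveI : IsProper (r ≫ CohB1.ProjSpace.toSpec N k) := hr ▸ inferInstance
  haveI : IsProper (CohB1.ProjSpace.toSpec N k) := PnCoh.Chow.isProper_toSpec N k
  haveI : IsProper r := IsProper.of_comp r (CohB1.ProjSpace.toSpec N k)
  haveI : IsLocallyNoetherian (CohB1.ProjSpace N k) :=
    LocallyOfFiniteType.isLocallyNoetherian (CohB1.ProjSpace.toSpec N k)
  have hG : Coh.IsCoh ((Coh.push r).obj F) := ExistEasy.isCoh_pushforward_proper r hF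
  obtain ⟨d₀, hd₀⟩ := H9Misc.ProjVan.exists_vanishing_twistBy (𝒜 := CohB1.polyGrading N k) _ hG
  have hψ : ∀ m : ℕ, Nonempty ((Scheme.Modules.pullback r).obj (Twist.twistProjSpace N k (m : ℤ)) ≅
      CohB1.tensorPow L m) := fun m => by
    obtain ⟨e⟩ := twist_pow (k := k) (n := N) m
    obtain ⟨e'⟩ := AmpleVan.RelVanish.pullback_tensorPow r (Twist.twistProjSpace N k 1) m
    obtain ⟨e''⟩ : Nonempty (CohB1.tensorPow ((Scheme.Modules.pullback r).obj (Twist.twistProjSpace N k 1)) m ≅
        CohB1.tensorPow L m) := H23.PicMul.cl_eq_iff.1 (by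
      rw [H23.PicMul.cl_tensorPow, H23.PicMul.cl_tensorPow, H23.PicMul.cl_eq_iff.2 ⟨τ⟩])
    exact ⟨(Scheme.Modules.pullback r).mapIso e ≪≫ e' ≪≫ e''⟩
  refine ⟨d₀.toNat + N + 1, Nat.succ_pos _, fun a b ha _ => ?_⟩
  obtain ⟨ψa⟩ := hψ a
  obtain ⟨ψb⟩ := hψ b
  let H := (Coh.push r).obj (CohB1.tensorMod F (CohB1.tensorPow L a))
  obtain ⟨eH⟩ : Nonempty (CohB1.tensorMod ((Coh.push r).obj F) (Twist.twistProjSpace N k (a : ℤ)) ≅ H) := by
    obtain ⟨e⟩ := AmpleVan.FiniteSurj.nonempty_push_twist r F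
      (PnCoh.Finite.isInvertible_twist (ProjRegular.coords k N) ProjRegular.coords_mem ProjRegular.coords_cover (a : ℤ))
    exact ⟨e ≪≫ (Coh.push r).mapIso ((DCoh.tensorBi.obj F).mapIso ψa)⟩
  have hR : ProjRegular.Reg0 (𝒜 := CohB1.polyGrading N k) H := fun q' hq' => by
    obtain ⟨e⟩ := ProjRegular.twist_twist_iso (k := k) (n := N) ((Coh.push r).obj F) (a : ℤ) (-(q' : ℤ))
    refine QCoh.subsingleton_HH_of_iso (e.symm ≪≫
      ((DCoh.tensorBi (X := CohB1.ProjSpace N k)).mapIso eH).app _) q' ?_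
    rcases le_or_gt q' N with hn | hn
    · obtain ⟨p, rfl⟩ := Nat.exists_eq_add_of_le' hq'
      exact hd₀ _ (by omega) p
    · exact ProjRegular.subsingleton_HH_high hG _ q' hn
  have hspan : MulSect.span H (Twist.twistProjSpace N k (b : ℤ)) Set.univ = ⊤ := by
    rw [← top_le_iff, ← ProjRegular.tensors_eq_top ProjRegular.coords_mem ProjRegular.coords_cover hR b (b : ℤ) rfl]
    refine AddSubgroup.closure_mono ?_
    rintro _ ⟨ts, rfl⟩
    exact ⟨(ts.1, ⟨ts.2, trivial⟩), rfl⟩
  exact mul_surjective_of_span ψb _ (MulSect.span_eq_top r _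
    (PnCoh.Finite.isInvertible_twist (ProjRegular.coords k N) ProjRegular.coords_mem ProjRegular.coords_cover (b : ℤ)) hspan)

end

/-- Let X be a projective variety over the complex numbers (an integral scheme, proper over ℂ, with an
ample invertible module) which is normal, L a globally generated invertible O_X-module and F a
coherent O_X-module. Then there is an integer m₀ > 0 such that for all a, b ≥ m₀ the map H^0(X, F ⊗
L^⊗a) ⊗ H^0(X, L^⊗b) → H^0(X, F ⊗ L^⊗a ⊗ L^⊗b) given by multiplication of sections is surjective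
(such a multiplication map is written as the map from the global sections of the sectionwise tensor
product presheaf to the global sections of its sheafification). The case F = O_X is the first
assertion of the lemma, surjectivity of H^0(X, L^⊗a) ⊗ H^0(X, L^⊗b) → H^0(X, L^⊗(a+b)) for a, b
large. -/
theorem result (X : Scheme.{0}) [X.Over (Spec (CommRingCat.of ℂ))] [IsIntegral X]
    [IsProper (X ↘ Spec (CommRingCat.of ℂ))] (H : X.Modules) (hH : CohB1.IsAmple H)
    (hXn : Pi1.IsNormalScheme X)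
    (L : X.Modules) (hL : PicF.IsInvertible L) (hLg : Curv2.IsGloballyGenerated L)
    (F : X.Modules) (hF : Coh.IsCoh F) :
    ∃ m₀ : ℕ, 0 < m₀ ∧ ∀ a b : ℕ, m₀ ≤ a → m₀ ≤ b →
      Function.Surjective
        ((toSheafify (Opens.grothendieckTopology X)
          (CohB1.tensorPre (CohB1.tensorMod F (CohB1.tensorPow L a)) (CohB1.tensorPow L b)).presheaf).app
          (Opposite.op ⊤)) := by
  exact main (k := ℂ) (X ↘ Spec (CommRingCat.of ℂ)) L hL hLg F hF

end Groth.Agent.S17589
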