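import Groth.Statements.S17593
import Groth.Agent.Hensel.ZeroLocus
import Groth.Agent.FlatModel.Open
-- import your own Groth.Agent.* helpers here

set_option autoImplicit false
universe u
open Hensel

namespace Groth.Agent.S17593

/-- Suppose (A, I) is a Henselian pair, and R is an A-algebra of finite presentation for which A → R is
flat at each prime of R that contains IR. Then there is an étale R-algebra R' such that R/IR →
R'/IR' is bijective and A → R' is flat. -/
theorem result (A : Type u) [CommRing A] (I : Ideal A) [HenselianRing A I]
    (R : Type u) [CommRing R] [Algebra A R] [Algebra.FinitePresentation A R]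
    (h : ∀ (p : Ideal R) [p.IsPrime], I.map (algebraMap A R) ≤ p → Module.Flat A (Localization.AtPrime p))
    : ∃ (R' : Type u) (_ : CommRing R') (_ : Algebra R R') (_ : Algebra A R') (_ : IsScalarTower A R R'),
      Algebra.Etale R R' ∧
      Function.Bijective (Ideal.quotientMap ((I.map (algebraMap A R)).map (algebraMap R R'))
        (algebraMap R R') Ideal.le_comap_map) ∧ Module.Flat A R' := by
  
  have e : ∀ q : PrimeSpectrum R, LocalizedModule q.asIdeal.primeCompl R ≃ₗ[A] Localization.AtPrime q.asIdeal :=
    fun q => (IsLocalizedModule.iso q.asIdeal.primeCompl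
      (Algebra.linearMap R (Localization.AtPrime q.asIdeal))).restrictScalars A
  obtain ⟨j, hj, hbij⟩ := Hensel.exists_away_zeroLocus (I.map (algebraMap A R)) _
    (FlatModel.isOpen_flatLocus (R := A) R) fun q hq => by
      have := h q.asIdeal ((PrimeSpectrum.mem_zeroLocus _ _).mp hq)
      exact Module.Flat.of_linearEquiv (e q)
  refine ⟨Localization.Away j, inferInstance, inferInstance, inferInstance, inferInstance,
    Algebra.Etale.of_isLocalizationAway j, hbij, ?_⟩
  refine Module.flat_of_isLocalized_maximal (Localization.Away j) (Localization.Away j)
    (fun P _ => Localization.AtPrime P) (fun P _ => Algebra.linearMap _ _) fun P _ => ?_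
  let p := PrimeSpectrum.comap (algebraMap R (Localization.Away j)) ⟨P, inferInstance⟩
  have hp : Module.Flat A (LocalizedModule p.asIdeal.primeCompl R) := hj p fun hq =>
    (inferInstance : P.IsPrime).ne_top
      (Ideal.eq_top_of_isUnit_mem _ hq (IsLocalization.Away.algebraMap_isUnit j))
  have : Module.Flat A (Localization.AtPrime p.asIdeal) := Module.Flat.of_linearEquiv (e p).symm
  have : IsLocalization.AtPrime (Localization.AtPrime P) p.asIdeal :=
    IsLocalization.isLocalization_isLocalization_atPrime_isLocalization (.powers j) _ P
  exact Module.Flat.of_linearEquiv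
    ((IsLocalization.algEquiv p.asIdeal.primeCompl (Localization.AtPrime P) (Localization.AtPrime p.asIdeal)).restrictScalars A).toLinearEquiv

end Groth.Agent.S17593
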