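import Groth.Statements.S17595
import Groth.Agent.Hensel.ZeroLocus
-- import your own Groth.Agent.* helpers here

set_option autoImplicit false
universe u
open Hensel

namespace Groth.Agent.S17595

/-- Suppose (A, I) is a Henselian pair, and R is an A-algebra of finite presentation for which A → R is
quasi-finite at each prime of R that contains IR. Then there is an étale R-algebra R' such that R/IR
→ R'/IR' is bijective and A → R' is quasi-finite. -/
theorem result (A : Type u) [CommRing A] (I : Ideal A) [HenselianRing A I]
    (R : Type u) [CommRing R] [Algebra A R] [Algebra.FinitePresentation A R]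
    (h : ∀ (p : Ideal R) [p.IsPrime], I.map (algebraMap A R) ≤ p → Algebra.QuasiFiniteAt A p)
    : ∃ (R' : Type u) (_ : CommRing R') (_ : Algebra R R') (_ : Algebra A R') (_ : IsScalarTower A R R'),
      Algebra.Etale R R' ∧
      Function.Bijective (Ideal.quotientMap ((I.map (algebraMap A R)).map (algebraMap R R'))
        (algebraMap R R') Ideal.le_comap_map) ∧ Algebra.QuasiFinite A R' := by
  
  obtain ⟨j, hj, hbij⟩ := Hensel.exists_away_zeroLocus (I.map (algebraMap A R)) _
    (Hensel.isOpen_setOf_quasiFiniteAt A) fun q hq => h q.asIdeal ((PrimeSpectrum.mem_zeroLocus _ _).mp hq)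
  refine ⟨Localization.Away j, inferInstance, inferInstance, inferInstance, inferInstance,
    Algebra.Etale.of_isLocalizationAway j, hbij, ?_⟩
  have := IsLocalization.Away.finitePresentation (S := Localization.Away j) j
  have : Algebra.FinitePresentation A (Localization.Away j) := Algebra.FinitePresentation.trans A R _
  refine Hensel.quasiFinite_of_forall_quasiFiniteAt A fun q => ?_
  let p := PrimeSpectrum.comap (algebraMap R (Localization.Away j)) q
  have : Algebra.QuasiFiniteAt A p.asIdeal := hj p fun hq => q.2.ne_top
    (Ideal.eq_top_of_isUnit_mem _ hq (IsLocalization.Away.algebraMap_isUnit j))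
  exact Algebra.QuasiFiniteAt.of_surjectiveOnStalks p.asIdeal (IsScalarTower.toAlgHom A R _)
    (RingHom.surjectiveOnStalks_of_isLocalization (Submonoid.powers j) _) q.asIdeal rfl

end Groth.Agent.S17595
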