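import Groth.Statements.S17598
import Groth.Agent.Hensel.HfpLift
import Groth.Agent.Hensel.LiftEtaleAlg
-- import your own Groth.Agent.* helpers here

set_option autoImplicit false
universe u
open Hensel

namespace Groth.Agent.S17598

/-- Let (A, I) be a Henselian pair and let B be a Henselization of the pair (R₀, IR₀) for a finitely
presented A-algebra R₀ (so A → B is a Henselian finitely presented map of Henselian pairs). Assume
that A/I^r → B/I^rB is étale for every r ≥ 1 (for Henselian finitely presented maps this is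
equivalent to the h-formally étale lifting property). Then there exist an étale A-algebra R, a
Henselization H of the pair (R, IR) and a surjective A-algebra map H → B whose kernel is a finitely
generated ideal contained in I^n H for every n. -/
theorem result (A : Type u) [CommRing A] (I : Ideal A)
    [HenselianRing A I] (R₀ : Type u) [CommRing R₀] [Algebra A R₀] [Algebra.FinitePresentation A R₀]
    (B : Type u) [CommRing B] [Algebra R₀ B] [Algebra A B] [IsScalarTower A R₀ B]
    (hB : Hens2.IsPairHenselization R₀ (I.map (algebraMap A R₀)) B)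
    (het : ∀ r : ℕ, 1 ≤ r → Algebra.Etale (A ⧸ I ^ r) (B ⧸ (I ^ r).map (algebraMap A B))) :
    ∃ (R : Type u) (_ : CommRing R) (_ : Algebra A R) (H : Type u) (_ : CommRing H) (_ : Algebra R H)
      (_ : Algebra A H) (_ : IsScalarTower A R H),
      Algebra.Etale A R ∧ Hens2.IsPairHenselization R (I.map (algebraMap A R)) H ∧
      ∃ φ : H →ₐ[A] B, Function.Surjective φ ∧ (RingHom.ker φ).FG ∧
        ∀ n : ℕ, RingHom.ker φ ≤ (I ^ n).map (algebraMap A H) := by
  
  open TensorProduct in
  have := het 1 le_rfl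
  obtain ⟨R, _, _, hR, ⟨e⟩⟩ := Hensel.exists_etale_algebra_lift (A := A) (T := A ⧸ I ^ 1)
    (C := B ⧸ (I ^ 1).map (algebraMap A B)) Ideal.Quotient.mk_surjective
  have hB1 : HenselianRing B (I.map (algebraMap A B)) := by
    have := hB.1
    rwa [Ideal.map_map, ← IsScalarTower.algebraMap_eq] at this
  have hJ : (I ^ 1).map (algebraMap A B) = I.map (algebraMap A B) := by rw [pow_one]
  let eq' : (B ⧸ (I ^ 1).map (algebraMap A B)) ≃ₐ[A] B ⧸ I.map (algebraMap A B) := Ideal.quotientEquivAlgOfEq A hJ
  obtain ⟨f, hf, -⟩ := Hensel.existsUnique_etale_lift_of_algebra (I.map (algebraMap A B)) (R := A)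
    (eq'.toAlgHom.comp ((e.toAlgHom.restrictScalars A).comp (Algebra.TensorProduct.includeRight (R := A) (A := A ⧸ I ^ 1))))
  have hfval : ∀ r, Ideal.Quotient.mk _ (f r) = eq' (e ((1 : A ⧸ I ^ 1) ⊗ₜ r)) := fun r => AlgHom.congr_fun hf r
  have hsurj : Function.Surjective ((Ideal.Quotient.mk (I.map (algebraMap A B))).comp f.toRingHom) := fun z => by
    have h1 : ∀ y : (A ⧸ I ^ 1) ⊗[A] R, ∃ r : R, (1 : A ⧸ I ^ 1) ⊗ₜ[A] r = y := fun y => by
      induction y using TensorProduct.induction_on with
      | zero => exact ⟨0, TensorProduct.tmul_zero _ _⟩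
      | add x y hx hy =>
        obtain ⟨a, rfl⟩ := hx
        obtain ⟨b, rfl⟩ := hy
        exact ⟨a + b, TensorProduct.tmul_add _ _ _⟩
      | tmul a r =>
        obtain ⟨a, rfl⟩ := Ideal.Quotient.mk_surjective a
        refine ⟨a • r, ?_⟩
        rw [← TensorProduct.smul_tmul, Algebra.smul_def, mul_one]
        rfl
    obtain ⟨r, hr⟩ := h1 (e.symm (eq'.symm z))
    refine ⟨r, (hfval r).trans ?_⟩
    rw [hr, e.apply_symm_apply, eq'.apply_symm_apply]
  obtain ⟨H, _, _, _, _, hH, φ, hφf, hφs, hφk⟩ := Hensel.exists_surjection_henz I hB f hsurj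
  refine ⟨R, inferInstance, inferInstance, H, inferInstance, inferInstance, inferInstance, inferInstance, hR, hH,
    φ, hφs, hφk, Hensel.ker_le_of_etale I het hH φ ⟨?_, ?_⟩⟩
  · refine (injective_iff_map_eq_zero _).mpr fun z hz => ?_
    obtain ⟨x, rfl⟩ := Ideal.Quotient.mk_surjective z
    have hmem : φ x ∈ I.map (algebraMap A B) := Ideal.Quotient.eq_zero_iff_mem.mp hz
    obtain ⟨r, hr⟩ := Hensel.exists_sub_mem_of_isPairHenselization _ hH x
    rw [Ideal.map_map, ← IsScalarTower.algebraMap_eq] at hr
    have h1 : φ (x - algebraMap R H r) ∈ I.map (algebraMap A B) := by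
      have := Ideal.mem_map_of_mem φ.toRingHom hr
      rwa [Ideal.map_map, φ.toRingHom_eq_coe, φ.comp_algebraMap] at this
    rw [map_sub, hφf] at h1
    have h2 : f r ∈ I.map (algebraMap A B) := by simpa using sub_mem hmem h1
    have h3 : (1 : A ⧸ I ^ 1) ⊗ₜ[A] r = 0 := by
      refine e.injective (eq'.injective ?_)
      rw [← hfval, map_zero, map_zero]
      exact Ideal.Quotient.eq_zero_iff_mem.mpr h2
    have h4 : r ∈ (I ^ 1).map (algebraMap A R) := by
      rw [← Ideal.Quotient.eq_zero_iff_mem]
      refine (Algebra.TensorProduct.quotIdealMapEquivTensorQuot R (I ^ 1)).injective ?_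
      rw [map_zero]
      have := congrArg (Algebra.TensorProduct.comm A (A ⧸ I ^ 1) R) h3
      rw [map_zero, Algebra.TensorProduct.comm_tmul] at this
      exact (Algebra.TensorProduct.quotIdealMapEquivTensorQuot_mk _ (I := I ^ 1) r).trans this
    rw [pow_one] at h4
    refine Ideal.Quotient.eq_zero_iff_mem.mpr ?_
    have h5 := Ideal.mem_map_of_mem (algebraMap R H) h4
    rw [Ideal.map_map, ← IsScalarTower.algebraMap_eq] at h5
    simpa using add_mem hr h5
  · intro z
    obtain ⟨b, rfl⟩ := Ideal.Quotient.mk_surjective z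
    obtain ⟨x, rfl⟩ := hφs b
    exact ⟨Ideal.Quotient.mk _ x, rfl⟩

end Groth.Agent.S17598
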