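import Groth.Statements.S17599
import Groth.Agent.Hensel.HfpLift
import Groth.Agent.Hensel.SmoothAlgLift
import Groth.Agent.Hensel.SmoothLift

set_option autoImplicit false
universe u
open Hensel

namespace Groth.Agent.S17599

/-- Let (A, I) be a Henselian pair and let B be a Henselization of the pair (R₀, IR₀) for a finitely
presented A-algebra R₀ (so A → B is a Henselian finitely presented map of Henselian pairs). Assume
that A/I^r → B/I^rB is smooth for every r ≥ 1 (for Henselian finitely presented maps this is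
equivalent to the h-formally smooth lifting property). Then there exist a smooth A-algebra R, a
Henselization H of the pair (R, IR) and a surjective A-algebra map H → B whose kernel is a finitely
generated ideal contained in I^n H for every n. -/
theorem result (A : Type u) [CommRing A] (I : Ideal A)
    [HenselianRing A I] (R₀ : Type u) [CommRing R₀] [Algebra A R₀] [Algebra.FinitePresentation A R₀]
    (B : Type u) [CommRing B] [Algebra R₀ B] [Algebra A B] [IsScalarTower A R₀ B]
    (hB : Hens2.IsPairHenselization R₀ (I.map (algebraMap A R₀)) B)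
    (het : ∀ r : ℕ, 1 ≤ r → Algebra.Smooth (A ⧸ I ^ r) (B ⧸ (I ^ r).map (algebraMap A B))) :
    ∃ (R : Type u) (_ : CommRing R) (_ : Algebra A R) (H : Type u) (_ : CommRing H) (_ : Algebra R H)
      (_ : Algebra A H) (_ : IsScalarTower A R H),
      Algebra.Smooth A R ∧ Hens2.IsPairHenselization R (I.map (algebraMap A R)) H ∧
      ∃ φ : H →ₐ[A] B, Function.Surjective φ ∧ (RingHom.ker φ).FG ∧
        ∀ n : ℕ, RingHom.ker φ ≤ (I ^ n).map (algebraMap A H) := by
  have := het 1 le_rfl
  obtain ⟨R, _, _, hR, g, hg, hgk⟩ := Hensel.exists_smooth_algebra_lift (A := A) (I ^ 1)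
    (C := B ⧸ (I ^ 1).map (algebraMap A B))
  have hB1 : HenselianRing B (I.map (algebraMap A B)) := by
    have := hB.1
    rwa [Ideal.map_map, ← IsScalarTower.algebraMap_eq] at this
  let eq' : (B ⧸ (I ^ 1).map (algebraMap A B)) ≃ₐ[A] B ⧸ I.map (algebraMap A B) :=
    Ideal.quotientEquivAlgOfEq A (by rw [pow_one])
  obtain ⟨f, hf⟩ := Hensel.exists_smooth_lift (A := B) (I.map (algebraMap A B)) (R := A) (S := R)
    (eq'.toAlgHom.comp g)
  have hfval : ∀ r, Ideal.Quotient.mk (I.map (algebraMap A B)) (f r) = eq' (g r) := fun r => AlgHom.congr_fun hf r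
  obtain ⟨H, _, _, _, _, hH, φ, hφf, hφs, hφk⟩ := Hensel.exists_surjection_henz I hB f fun z => by
    obtain ⟨r, hr⟩ := hg (eq'.symm z)
    exact ⟨r, (hfval r).trans ((congrArg eq' hr).trans (eq'.apply_symm_apply z))⟩
  refine ⟨R, inferInstance, inferInstance, H, inferInstance, inferInstance, inferInstance, inferInstance, hR, hH,
    φ, hφs, hφk, fun n x hx => ?_⟩
  have hk : ∀ y : H, φ y = 0 → y ∈ I.map (algebraMap A H) := by
    intro y hy
    obtain ⟨r, hr⟩ := Hensel.exists_sub_mem_of_isPairHenselization _ hH y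
    rw [Ideal.map_map, ← IsScalarTower.algebraMap_eq] at hr
    have h1 := Ideal.mem_map_of_mem φ.toRingHom hr
    rw [Ideal.map_map, φ.toRingHom_eq_coe, φ.comp_algebraMap, RingHom.coe_coe, map_sub, hy, hφf, zero_sub] at h1
    have h2 : eq' (g r) = 0 := by
      rw [← hfval]; exact Ideal.Quotient.eq_zero_iff_mem.mpr (neg_mem_iff.mp h1)
    have h3 : r ∈ RingHom.ker g := eq'.injective (h2.trans (map_zero _).symm)
    rw [hgk, pow_one] at h3
    have h5 := Ideal.mem_map_of_mem (algebraMap R H) h3
    rw [Ideal.map_map, ← IsScalarTower.algebraMap_eq] at h5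
    simpa using add_mem hr h5
  rcases Nat.eq_zero_or_pos n with rfl | hn
  · simp [Ideal.map_top]
  let J := (I ^ n).map (algebraMap A H)
  let E := H ⧸ J
  let C := B ⧸ (I ^ n).map (algebraMap A B)
  have hJ : J.map φ = (I ^ n).map (algebraMap A B) :=
    (Ideal.map_map (algebraMap A H) φ.toRingHom).trans (congrArg (Ideal.map · (I ^ n)) φ.comp_algebraMap)
  let p : E →ₐ[A] C := Ideal.quotientMapₐ _ φ (Ideal.map_le_iff_le_comap.mp hJ.le)
  have hp : Function.Surjective p := fun z => by
    obtain ⟨b, rfl⟩ := Ideal.Quotient.mk_surjective z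
    obtain ⟨y, rfl⟩ := hφs b
    exact ⟨Ideal.Quotient.mk _ y, rfl⟩
  let K : Submodule A E := LinearMap.ker p.toLinearMap
  have hsec : ∀ y ∈ K, ∃ z : H, φ z = 0 ∧ Ideal.Quotient.mk J z = y := by
    intro y hy
    obtain ⟨h, rfl⟩ := Ideal.Quotient.mk_surjective y
    have : φ h ∈ J.map φ := hJ.ge (Ideal.Quotient.eq_zero_iff_mem.mp (show Ideal.Quotient.mk _ (φ h) = 0 from hy))
    obtain ⟨j, hj, hje⟩ := (Ideal.mem_map_iff_of_surjective φ hφs).mp this
    exact ⟨h - j, by rw [map_sub, hje, sub_self], by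
      rw [map_sub, Ideal.Quotient.eq_zero_iff_mem.mpr hj, sub_zero]⟩
  have hbotE : (I ^ n).map (algebraMap A E) = ⊥ := by
    rw [show algebraMap A E = (Ideal.Quotient.mk J).comp (algebraMap A H) from rfl, ← Ideal.map_map,
      Ideal.map_quotient_self]
  have hbotC : (I ^ n).map (algebraMap A C) = ⊥ := by
    rw [show algebraMap A C = (Ideal.Quotient.mk _).comp (algebraMap A B) from rfl, ← Ideal.map_map,
      Ideal.map_quotient_self]
  have hnil : RingHom.ker p ^ n = ⊥ := by
    refine le_bot_iff.mp (le_trans (Ideal.pow_right_mono (J := I.map (algebraMap A E)) (fun y hy => ?_) n) ?_)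
    · obtain ⟨z, hz, rfl⟩ := hsec y hy
      have := Ideal.mem_map_of_mem (Ideal.Quotient.mk J) (hk z hz)
      rwa [Ideal.map_map] at this
    · rw [← Ideal.map_pow, hbotE]
  obtain ⟨v, hv⟩ := Hensel.liftsTrunc_of_formallySmooth I (B := B) (fun r hr => by have := het r hr; infer_instance)
    E C n (by omega) hbotE hbotC p hp ⟨n, by omega, hnil⟩ (Ideal.Quotient.mkₐ A _)
  let δ : H →ₗ[A] E := (Ideal.Quotient.mkₐ A J).toLinearMap - (v.comp φ).toLinearMap
  have hδ : ∀ h, δ h ∈ K := fun h => by
    show p (Ideal.Quotient.mk J h - v (φ h)) = 0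
    rw [map_sub, sub_eq_zero]
    exact (AlgHom.congr_fun hv (φ h)).symm
  have hKI : K ≤ I • K := by
    intro y hy
    obtain ⟨z, hz, rfl⟩ := hsec y hy
    have h1 : z ∈ (I • ⊤ : Submodule A H) := by rw [Ideal.smul_top_eq_map]; exact hk z hz
    have h2 : (I • (⊤ : Submodule A H)).map δ ≤ I • K := by
      rw [Submodule.map_smul'']
      exact Submodule.smul_mono le_rfl (by rintro _ ⟨h, -, rfl⟩; exact hδ h)
    have h3 : δ z = Ideal.Quotient.mk J z := by
      show Ideal.Quotient.mk J z - v (φ z) = _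
      rw [hz, map_zero, sub_zero]
    exact h3 ▸ h2 ⟨z, h1, rfl⟩
  have hpow : ∀ m : ℕ, K ≤ I ^ m • K := by
    intro m
    induction m with
    | zero => simp
    | succ m ih =>
      refine hKI.trans ((Submodule.smul_mono le_rfl ih).trans (le_of_eq ?_))
      rw [← Submodule.mul_smul, pow_succ']
  have hxK : Ideal.Quotient.mk J x ∈ K := by
    show Ideal.Quotient.mk _ (φ x) = 0
    rw [show φ x = 0 from hx, map_zero]
  have h6 : Ideal.Quotient.mk J x ∈ (I ^ n • ⊤ : Submodule A E) := Submodule.smul_mono le_rfl le_top (hpow n hxK)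
  rw [Ideal.smul_top_eq_map, Submodule.restrictScalars_mem, hbotE, Submodule.mem_bot] at h6
  exact Ideal.Quotient.eq_zero_iff_mem.mp h6
end Groth.Agent.S17599
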