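import Groth.Statements.S17601
import Groth.Agent.Hensel.HfpTruncation
-- import your own Groth.Agent.* helpers here

set_option autoImplicit false
universe u
open Hensel

namespace Groth.Agent.S17601

/-- Let (A, I) be a Henselian pair and let B be a Henselization of the pair (R₀, IR₀) for a finitely
presented A-algebra R₀ (so A → B is Henselian finitely presented). If B is flat over A and A/I^r →
B/I^rB is smooth for every r ≥ 1 (the h-formally smooth property, in its equivalent form for
Henselian finitely presented maps), then A → B is h-smooth: there is a smooth A-algebra R, with an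
R-algebra structure on B compatible with that of A, such that B is a Henselization of the pair (R,
IR). -/
theorem result (A : Type u) [CommRing A] (I : Ideal A)
    [HenselianRing A I] (R₀ : Type u) [CommRing R₀] [Algebra A R₀] [Algebra.FinitePresentation A R₀]
    (B : Type u) [CommRing B] [Algebra R₀ B] [Algebra A B] [IsScalarTower A R₀ B]
    (hB : Hens2.IsPairHenselization R₀ (I.map (algebraMap A R₀)) B) [Module.Flat A B]
    (het : ∀ r : ℕ, 1 ≤ r → Algebra.Smooth (A ⧸ I ^ r) (B ⧸ (I ^ r).map (algebraMap A B))) :
    ∃ (R : Type u) (_ : CommRing R) (_ : Algebra A R) (_ : Algebra R B) (_ : IsScalarTower A R B),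
      Algebra.Smooth A R ∧ Hens2.IsPairHenselization R (I.map (algebraMap A R)) B := by
  
  obtain ⟨S, _, _, _, _, hfp, hflat, hS⟩ := Hensel.exists_flat_model I hB
  obtain ⟨e, -⟩ := Hensel.exists_algEquiv_quotient_pow_tower I hS 1
  have := het 1 le_rfl
  have : Algebra.FormallySmooth (A ⧸ I ^ 1) (S ⧸ (I ^ 1).map (algebraMap A S)) :=
    Algebra.FormallySmooth.of_equiv e.symm
  obtain ⟨j, hj, hbij⟩ := Hensel.exists_away_zeroLocus (I.map (algebraMap A S)) _
    (Algebra.isOpen_smoothLocus (R := A) (A := S)) fun q hq =>
      Hensel.isSmoothAt_of_smooth_quotient (I ^ 1) q.asIdeal (by rw [pow_one]; exact (PrimeSpectrum.mem_zeroLocus _ _).mp hq)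
  obtain ⟨_, _, hj'⟩ := Hensel.exists_away_model I hS j hbij
  exact ⟨Localization.Away j, inferInstance, inferInstance, inferInstance, inferInstance,
    Algebra.basicOpen_subset_smoothLocus_iff_smooth.mp fun q hq => hj q hq, hj'⟩

end Groth.Agent.S17601
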