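import Groth.Statements.S17605
import Groth.Agent.Hensel.PairNbhd
-- import your own Groth.Agent.* helpers here

set_option autoImplicit false
universe u
open Hensel

namespace Groth.Agent.S17605

/-- Let A be a ring with an ideal I and let f₁, f₂ be elements of A such that D(f₂) ∩ V(I) ⊆ D(f₁) ∩
V(I) in Spec A. If H₁ is a Henselization of the pair (A_{f₁}, IA_{f₁}) and H₂ a Henselization of the
pair (A_{f₂}, IA_{f₂}), with their induced A-algebra structures, then there is exactly one A-algebra
map H₁ → H₂. -/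
theorem result (A : Type u) [CommRing A]
    (I : Ideal A) (f₁ f₂ : A)
    (h : (PrimeSpectrum.basicOpen f₂ : Set (PrimeSpectrum A)) ∩ PrimeSpectrum.zeroLocus (I : Set A) ⊆
      (PrimeSpectrum.basicOpen f₁ : Set (PrimeSpectrum A)) ∩ PrimeSpectrum.zeroLocus (I : Set A))
    (H₁ : Type u) [CommRing H₁] [Algebra (Localization.Away f₁) H₁] [Algebra A H₁]
    [IsScalarTower A (Localization.Away f₁) H₁]
    (hH₁ : Hens2.IsPairHenselization (Localization.Away f₁)
      (I.map (algebraMap A (Localization.Away f₁))) H₁)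
    (H₂ : Type u) [CommRing H₂] [Algebra (Localization.Away f₂) H₂] [Algebra A H₂]
    [IsScalarTower A (Localization.Away f₂) H₂]
    (hH₂ : Hens2.IsPairHenselization (Localization.Away f₂)
      (I.map (algebraMap A (Localization.Away f₂))) H₂) :
    Nonempty (H₁ →ₐ[A] H₂) ∧ Subsingleton (H₁ →ₐ[A] H₂) := by
  have hH := hH₂.1
  have hI : HenselianRing H₂ (I.map (algebraMap A H₂)) := by
    rwa [Ideal.map_map, ← IsScalarTower.algebraMap_eq] at hH
  have hu : IsUnit (algebraMap A H₂ f₁) := by
    by_contra hu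
    obtain ⟨M, hM, hf⟩ := exists_max_ideal_of_mem_nonunits hu
    have hIM : I.map (algebraMap A H₂) ≤ M := hI.jac.trans
      (fun x hx => Submodule.mem_sInf.mp hx M ⟨bot_le, hM⟩)
    have h2 : f₂ ∉ M.comap (algebraMap A H₂) := fun h2 => hM.ne_top (Ideal.eq_top_of_isUnit_mem _ h2 (by
      rw [IsScalarTower.algebraMap_apply A (Localization.Away f₂) H₂]
      exact (IsLocalization.Away.algebraMap_isUnit f₂).map _))
    have h1 := h (show (⟨M.comap (algebraMap A H₂), hM.isPrime.comap _⟩ : PrimeSpectrum A) ∈ _ from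
      ⟨h2, Ideal.map_le_iff_le_comap.mp hIM⟩)
    exact h1.1 hf
  let g : Localization.Away f₁ →ₐ[A] H₂ :=
    IsLocalization.Away.liftAlgHom (A := A) f₁ (f := Algebra.ofId A H₂) hu
  obtain ⟨G, hG, -⟩ := hH₁.2 H₂ (I.map (algebraMap A H₂)) g.toRingHom hI (by
    rw [Ideal.map_map, show g.toRingHom.comp (algebraMap A (Localization.Away f₁)) = algebraMap A H₂
      from g.comp_algebraMap])
  refine ⟨⟨{ G with commutes' := fun a => ?_ }⟩, ⟨fun φ ψ => ?_⟩⟩
  · show G (algebraMap A H₁ a) = _
    rw [IsScalarTower.algebraMap_apply A (Localization.Away f₁) H₁, ← RingHom.comp_apply, hG]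
    exact g.commutes a
  · refine Groth.Agent.Hensel.algHom_ext_of_isPairHenselization I hH₁ (I.map (algebraMap A H₂)) le_rfl fun r => ?_
    exact congrArg (fun k : Localization.Away f₁ →ₐ[A] H₂ => k r)
      (IsLocalization.algHom_ext (Submonoid.powers f₁) (Subsingleton.elim _ _) :
        φ.comp (IsScalarTower.toAlgHom A _ H₁) = ψ.comp (IsScalarTower.toAlgHom A _ H₁))

end Groth.Agent.S17605
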