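import Groth.Statements.S17607
import Groth.Agent.Hensel.Hfp
-- import your own Groth.Agent.* helpers here

set_option autoImplicit false
universe u
open Hensel

namespace Groth.Agent.S17607

/-- Let (A, I) and (B, IB) be Henselian pairs with B an A-algebra. Then the following are equivalent:
(i) A → B is Henselian finitely presented, i.e. there are n, a Henselization P of the pair
(A[X₁,…,Xₙ], I·A[X₁,…,Xₙ]) (a Henselized polynomial ring) and a surjective A-algebra map P → B with
finitely generated kernel; (ii) there are a finitely presented A-algebra R and an R-algebra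
structure on B compatible with that of A for which B is a Henselization of the pair (R, IR). -/
theorem result (A : Type u) [CommRing A] (I : Ideal A)
    [HenselianRing A I] (B : Type u) [CommRing B] [Algebra A B]
    [HenselianRing B (I.map (algebraMap A B))] :
    (∃ (n : ℕ) (P : Type u) (_ : CommRing P) (_ : Algebra (MvPolynomial (Fin n) A) P) (_ : Algebra A P)
        (_ : IsScalarTower A (MvPolynomial (Fin n) A) P),
        Hens2.IsPairHenselization (MvPolynomial (Fin n) A)
          (I.map (algebraMap A (MvPolynomial (Fin n) A))) P ∧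
        ∃ φ : P →ₐ[A] B, Function.Surjective φ ∧ (RingHom.ker φ).FG) ↔
    ∃ (R : Type u) (_ : CommRing R) (_ : Algebra A R) (_ : Algebra R B) (_ : IsScalarTower A R B),
      Algebra.FinitePresentation A R ∧ Hens2.IsPairHenselization R (I.map (algebraMap A R)) B := by
  
  constructor
  · rintro ⟨n, P, _, _, _, _, hP, φ, hφ, hker⟩
    exact Hensel.exists_model_of_surjective I hP φ hφ hker
  · rintro ⟨R, _, _, _, _, _, hR⟩
    obtain ⟨n, π, hπ, hπk⟩ := Algebra.FinitePresentation.out (R := A) (A := R)
    let Q := MvPolynomial (Fin n) A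
    let P := Hensel.PairHenz Q (I.map (algebraMap A Q))
    let : Algebra A P := Algebra.compHom P (algebraMap A Q)
    have : IsScalarTower A Q P := .of_algebraMap_eq' rfl
    have hP := Hensel.isPairHenselization_pairHenz Q (I.map (algebraMap A Q))
    let f : Q →ₐ[A] B := (IsScalarTower.toAlgHom A R B).comp π
    obtain ⟨g, hg, -⟩ := hP.2 B (I.map (algebraMap A B)) f.toRingHom inferInstance
      (by rw [Ideal.map_map, f.toRingHom_eq_coe, f.comp_algebraMap])
    let K : Ideal Q := RingHom.ker π
    have hq := Hensel.isPairHenselization_quotient hP K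
    let ε : (Q ⧸ K) ≃ₐ[A] R := Ideal.quotientKerAlgEquivOfSurjective hπ
    let : Algebra (Q ⧸ K) B := ((algebraMap R B).comp ε.toAlgHom.toRingHom).toAlgebra
    have hgK : K.map (algebraMap Q P) ≤ RingHom.ker g := Ideal.map_le_iff_le_comap.mpr fun x hx => by
      show g (algebraMap Q P x) = 0
      rw [← RingHom.comp_apply g, hg]
      show algebraMap R B (π x) = 0
      rw [show π x = 0 from hx, map_zero]
    let φ : P →ₐ[A] B := AlgHom.mk g fun a =>
      ((congrArg g (IsScalarTower.algebraMap_apply A Q P a)).trans congr($hg (algebraMap A Q a))).trans (f.commutes a)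
    obtain ⟨h, hh, -⟩ := hR.2 (P ⧸ K.map (algebraMap Q P)) _
      ((algebraMap (Q ⧸ K) (P ⧸ K.map (algebraMap Q P))).comp ε.symm.toAlgHom.toRingHom) hq.1 (le_of_eq (by
        rw [Ideal.map_map, RingHom.comp_assoc, ε.symm.toAlgHom.toRingHom_eq_coe, ε.symm.toAlgHom.comp_algebraMap,
          Ideal.map_map, Ideal.map_map]
        rfl))
    have hsurj : Function.Surjective g := fun b => by
      have h1 : ((Ideal.Quotient.lift _ g hgK).comp h) = RingHom.id B := (hR.2 B (I.map (algebraMap A B))
        (algebraMap R B) inferInstance (by rw [Ideal.map_map, ← IsScalarTower.algebraMap_eq])).unique (by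
          rw [RingHom.comp_assoc, hh]
          ext r
          obtain ⟨q, rfl⟩ := hπ r
          show Ideal.Quotient.lift _ g hgK (algebraMap (Q ⧸ K) _ (ε.symm (π q))) = _
          rw [show ε.symm (π q) = Ideal.Quotient.mk K q from ε.symm_apply_eq.mpr rfl]
          exact congr($hg q)) (RingHom.id_comp _)
      obtain ⟨x, hx⟩ := Ideal.Quotient.mk_surjective (h b)
      exact ⟨x, (congrArg (Ideal.Quotient.lift (K.map (algebraMap Q P)) g hgK) hx).trans congr($h1 b)⟩
    have h2 : h.comp (Ideal.Quotient.lift _ g hgK) = RingHom.id _ := by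
      refine (hq.2 _ _ (algebraMap (Q ⧸ K) (P ⧸ K.map (algebraMap Q P))) hq.1 le_rfl).unique ?_ (RingHom.id_comp _)
      refine Ideal.Quotient.ringHom_ext (RingHom.ext fun q => ?_)
      show h (g (algebraMap Q P q)) = _
      rw [← RingHom.comp_apply g, hg]
      show h (algebraMap R B (π q)) = _
      rw [← RingHom.comp_apply h, hh]
      show algebraMap (Q ⧸ K) _ (ε.symm (π q)) = _
      rw [show ε.symm (π q) = Ideal.Quotient.mk K q from ε.symm_apply_eq.mpr rfl]
      rfl
    refine ⟨n, P, inferInstance, inferInstance, inferInstance, inferInstance, hP, φ, hsurj, ?_⟩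
    have hker : RingHom.ker φ = K.map (algebraMap Q P) := le_antisymm (fun x hx => by
      rw [← Ideal.Quotient.eq_zero_iff_mem]
      have := congr($h2 (Ideal.Quotient.mk _ x))
      exact this.symm.trans ((congrArg h (show g x = 0 from hx)).trans (map_zero h))) hgK
    rw [hker]
    exact hπk.map _

end Groth.Agent.S17607
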