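import Groth.Statements.S17608
import Groth.Agent.Hensel.Hfp
-- import your own Groth.Agent.* helpers here

set_option autoImplicit false
universe u
open Hensel

namespace Groth.Agent.S17608

/-- Let (A, I) be a Henselian pair, let B be a Henselization of the pair (R, IR) for a finitely
presented A-algebra R, and let C be a Henselization of the pair (S, IS) for a finitely presented
B-algebra S, all algebra structures being compatible (so A → B and B → C are Henselian finitely
presented maps of Henselian pairs). Then the composite A → C is Henselian finitely presented: there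
are a finitely presented A-algebra T and a T-algebra structure on C compatible with that of A for
which C is a Henselization of the pair (T, IT). -/
theorem result (A : Type u) [CommRing A] (I : Ideal A) [HenselianRing A I]
    (R : Type u) [CommRing R] [Algebra A R] [Algebra.FinitePresentation A R]
    (B : Type u) [CommRing B] [Algebra R B] [Algebra A B] [IsScalarTower A R B]
    (hB : Hens2.IsPairHenselization R (I.map (algebraMap A R)) B)
    (S : Type u) [CommRing S] [Algebra B S] [Algebra A S] [IsScalarTower A B S] [Algebra.FinitePresentation B S]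
    (C : Type u) [CommRing C] [Algebra S C] [Algebra B C] [Algebra A C] [IsScalarTower B S C]
    [IsScalarTower A B C]
    (hC : Hens2.IsPairHenselization S (I.map (algebraMap A S)) C) :
    ∃ (T : Type u) (_ : CommRing T) (_ : Algebra A T) (_ : Algebra T C) (_ : IsScalarTower A T C),
      Algebra.FinitePresentation A T ∧ Hens2.IsPairHenselization T (I.map (algebraMap A T)) C := by
  
  classical
  obtain ⟨m, π, hπ, ⟨G, hG⟩⟩ := Algebra.FinitePresentation.out (R := B) (A := S)
  obtain ⟨U, _, _, _, _, hU', hU, hu⟩ := Hensel.exists_model_finset I hB (G.biUnion fun g => g.coeffs)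
  have hG' : ∀ g ∈ G, ∃ g' : MvPolynomial (Fin m) U, MvPolynomial.map (algebraMap U B) g' = g := fun g hg =>
    MvPolynomial.mem_range_map_iff_coeffs_subset.mpr fun x hx =>
      hu x (Finset.mem_biUnion.mpr ⟨g, hg, hx⟩)
  choose g' hg' using hG'
  let K : Ideal (MvPolynomial (Fin m) U) := Ideal.span ↑(Finset.univ.image fun x : G => g' x.1 x.2)
  let T := MvPolynomial (Fin m) U ⧸ K
  let σ : MvPolynomial (Fin m) U →+* S := π.toRingHom.comp (MvPolynomial.map (algebraMap U B))
  have hσ : ∀ x ∈ K, σ x = 0 := by
    intro x hx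
    refine (Ideal.span_le (I := RingHom.ker σ)).mpr (fun y hy => ?_) hx
    obtain ⟨z, -, rfl⟩ := Finset.mem_image.mp hy
    show π (MvPolynomial.map (algebraMap U B) (g' z.1 z.2)) = 0
    rw [hg']
    exact (hG.le (Ideal.subset_span z.2) : z.1 ∈ RingHom.ker π.toRingHom)
  let θ : T →+* S := Ideal.Quotient.lift K σ hσ
  let : Algebra T C := ((algebraMap S C).comp θ).toAlgebra
  have hθA : θ.comp (algebraMap A T) = algebraMap A S := by
    ext a
    show π (MvPolynomial.map (algebraMap U B) (MvPolynomial.C (algebraMap A U a))) = _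
    rw [MvPolynomial.map_C, ← IsScalarTower.algebraMap_apply A U B, ← MvPolynomial.algebraMap_eq, π.commutes,
      ← IsScalarTower.algebraMap_apply]
  have hSA : (algebraMap S C).comp (algebraMap A S) = algebraMap A C := by
    rw [IsScalarTower.algebraMap_eq A B S, ← RingHom.comp_assoc, ← IsScalarTower.algebraMap_eq B S C,
      ← IsScalarTower.algebraMap_eq]
  have : IsScalarTower A T C := .of_algebraMap_eq' (by
    show _ = ((algebraMap S C).comp θ).comp (algebraMap A T)
    rw [RingHom.comp_assoc, hθA, hSA])
  have hfpT : Algebra.FinitePresentation A T := by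
    have : Algebra.FinitePresentation A (MvPolynomial (Fin m) U) := Algebra.FinitePresentation.trans A U _
    exact Algebra.FinitePresentation.quotient ⟨_, rfl⟩
  have hCA : (I.map (algebraMap A S)).map (algebraMap S C) = I.map (algebraMap A C) := by
    rw [Ideal.map_map, hSA]
  refine ⟨T, inferInstance, inferInstance, inferInstance, inferInstance, hfpT, ?_, fun D _ J f hD hf => ?_⟩
  · rw [Ideal.map_map, ← IsScalarTower.algebraMap_eq]
    exact hCA ▸ hC.1
  rw [Ideal.map_map] at hf
  let fU : U →+* D := f.comp (algebraMap U T)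
  have hfUI : (I.map (algebraMap A U)).map fU ≤ J := by
    rw [Ideal.map_map, RingHom.comp_assoc, ← IsScalarTower.algebraMap_eq]; exact hf
  obtain ⟨gB, hgB, hgBu⟩ := hU.2 D J fU hD hfUI
  let ev : MvPolynomial (Fin m) B →+* D :=
    MvPolynomial.eval₂Hom gB fun j => f (Ideal.Quotient.mk K (MvPolynomial.X j))
  have hev : ev.comp (MvPolynomial.map (algebraMap U B)) = f.comp (Ideal.Quotient.mk K) := by
    refine MvPolynomial.ringHom_ext (fun u => ?_) fun j => ?_
    · simp only [ev, RingHom.comp_apply, MvPolynomial.map_C, MvPolynomial.eval₂Hom_C]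
      exact congr($hgB u)
    · simp [ev]
  have hevK : RingHom.ker π.toRingHom ≤ RingHom.ker ev := by
    rw [← hG]
    refine Ideal.span_le.mpr fun g hg => ?_
    show ev g = 0
    rw [← hg' g hg, ← RingHom.comp_apply ev, hev, RingHom.comp_apply]
    have hmem : g' g hg ∈ K := Ideal.subset_span
      (Finset.mem_image.mpr ⟨⟨g, hg⟩, Finset.mem_univ _, rfl⟩)
    rw [Ideal.Quotient.eq_zero_iff_mem.mpr hmem, map_zero]
  let fS : S →+* D := π.toRingHom.liftOfSurjective hπ ⟨ev, hevK⟩
  have hfS : ∀ q, fS (π q) = ev q := fun q =>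
    RingHom.liftOfSurjective_comp_apply π.toRingHom hπ ⟨ev, hevK⟩ q
  have hfSθ : fS.comp θ = f := Ideal.Quotient.ringHom_ext (RingHom.ext fun q =>
    (hfS _).trans congr($hev q))
  obtain ⟨g, hg, hguniq⟩ := hC.2 D J fS hD (by
    rw [Ideal.map_map, ← hθA, ← RingHom.comp_assoc, hfSθ]; exact hf)
  refine ⟨g, ?_, fun g₁ hg₁ => hguniq g₁ ?_⟩
  · show g.comp ((algebraMap S C).comp θ) = f
    rw [← RingHom.comp_assoc, hg, hfSθ]
  · show g₁.comp (algebraMap S C) = fS
    have h1 : g₁.comp ((algebraMap S C).comp θ) = f := hg₁
    have hB1 : g₁.comp (algebraMap B C) = gB := hgBu _ (RingHom.ext fun u => by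
      have := congr($h1 (Ideal.Quotient.mk K (MvPolynomial.C u)))
      show g₁ (algebraMap B C (algebraMap U B u)) = _
      rw [IsScalarTower.algebraMap_apply B S C, ← π.commutes]
      refine Eq.trans ?_ this
      show _ = g₁ (algebraMap S C (π (MvPolynomial.map (algebraMap U B) (MvPolynomial.C u))))
      rw [MvPolynomial.map_C]
      rfl)
    refine RingHom.ext fun s => ?_
    obtain ⟨q, rfl⟩ := hπ s
    refine Eq.trans ?_ (hfS q).symm
    refine congr($(MvPolynomial.ringHom_ext (f := (g₁.comp (algebraMap S C)).comp π.toRingHom) (g := ev)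
      (fun b => ?_) (fun j => ?_)) q)
    · simp only [ev, MvPolynomial.eval₂Hom_C, RingHom.comp_apply, ← hB1, AlgHom.toRingHom_eq_coe,
        RingHom.coe_coe]
      rw [← MvPolynomial.algebraMap_eq, π.commutes, ← IsScalarTower.algebraMap_apply B S C]
    · simp only [ev, MvPolynomial.eval₂Hom_X']
      rw [← congr($h1 (Ideal.Quotient.mk K (MvPolynomial.X j)))]
      show g₁ (algebraMap S C (π (MvPolynomial.X j))) =
        g₁ (algebraMap S C (π (MvPolynomial.map (algebraMap U B) (MvPolynomial.X j))))
      rw [MvPolynomial.map_X]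

end Groth.Agent.S17608
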