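import Groth.Statements.S17613
import Groth.Agent.Hensel.Hfp
import Groth.Agent.Hensel.PairHenzLimit
-- import your own Groth.Agent.* helpers here

set_option autoImplicit false
universe u
open Hensel

namespace Groth.Agent.S17613

/-- Let (A, I) be a Henselian pair and let B be a Henselization of the pair (R₀, IR₀) for a finitely
presented A-algebra R₀ (so A → B is Henselian finitely presented). Let (R_a) be a directed system of
A-algebras with A-compatible transition maps such that each (R_a, IR_a) is a Henselian pair, and let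
L be its direct limit with the induced A-algebra structure. Then the canonical map from the colimit
of the Hom_A(B, R_a) to Hom_A(B, L) is bijective: every A-algebra map B → L factors through some
R_a, and two A-algebra maps B → R_a whose composites with R_a → L agree become equal after passing
to some R_b. (Index set in the universe of the rings.) -/
theorem result (A : Type u) [CommRing A] (I : Ideal A)
    [HenselianRing A I] (R₀ : Type u) [CommRing R₀] [Algebra A R₀] [Algebra.FinitePresentation A R₀]
    (B : Type u) [CommRing B] [Algebra R₀ B] [Algebra A B] [IsScalarTower A R₀ B]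
    (hB : Hens2.IsPairHenselization R₀ (I.map (algebraMap A R₀)) B)
    {κ : Type u} [Preorder κ] [IsDirectedOrder κ] [Nonempty κ]
    (Ra : κ → Type u) [∀ a, CommRing (Ra a)] [∀ a, Algebra A (Ra a)]
    [∀ a, HenselianRing (Ra a) (I.map (algebraMap A (Ra a)))]
    (t : ∀ a b : κ, a ≤ b → (Ra a →+* Ra b)) [DirectedSystem Ra (fun a b h => t a b h)]
    (ht : ∀ (a b : κ) (h : a ≤ b), (t a b h).comp (algebraMap A (Ra a)) = algebraMap A (Ra b))
    [Algebra A (DirectLimit Ra t)]
    (halg : ∀ (a : κ) (x : A), algebraMap A (DirectLimit Ra t) x =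
      DirectLimit.Ring.of Ra t a (algebraMap A (Ra a) x)) :
    (∀ χ : B →ₐ[A] DirectLimit Ra t, ∃ (a : κ) (φ : B →ₐ[A] Ra a),
        ∀ x : B, DirectLimit.Ring.of Ra t a (φ x) = χ x) ∧
    ∀ (a : κ) (φ ψ : B →ₐ[A] Ra a),
      (∀ x : B, DirectLimit.Ring.of Ra t a (φ x) = DirectLimit.Ring.of Ra t a (ψ x)) →
      ∃ (b : κ) (h : a ≤ b), ∀ x : B, t a b h (φ x) = t a b h (ψ x) := by
  
  classical
  let L := DirectLimit Ra t
  have hL : HenselianRing L (⨆ a, (I.map (algebraMap A (Ra a))).map (DirectLimit.Ring.of Ra t a)) :=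
    Hensel.henselianRing_directLimit' _ (fun a b h => by rw [Ideal.map_map, ht]) inferInstance
  have hIa : ∀ a, (DirectLimit.Ring.of Ra t a).comp (algebraMap A (Ra a)) = algebraMap A L := fun a =>
    RingHom.ext fun x => (halg a x).symm
  have hIL : (⨆ a, (I.map (algebraMap A (Ra a))).map (DirectLimit.Ring.of Ra t a)) = I.map (algebraMap A L) := by
    simp only [Ideal.map_map, hIa]
    exact iSup_const
  rw [hIL] at hL
  have hof : ∀ (a b : κ) (h : a ≤ b) (x : Ra a), DirectLimit.Ring.of Ra t b (t a b h x) = DirectLimit.Ring.of Ra t a x :=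
    fun a b h x => DirectLimit.Ring.of_f ..
  have hex : ∀ z : L, ∃ (a : κ) (y : Ra a), DirectLimit.Ring.of Ra t a y = z := fun z => by
    induction z using DirectLimit.induction with
    | _ a y => exact ⟨a, y, rfl⟩
  have heq : ∀ (a : κ) (x y : Ra a), DirectLimit.Ring.of Ra t a x = DirectLimit.Ring.of Ra t a y →
      ∃ (b : κ) (h : a ≤ b), t a b h x = t a b h y := fun a x y hxy => by
    obtain ⟨b, h₁, h₂, e⟩ := Quotient.exact hxy
    exact ⟨b, h₁, e⟩
  obtain ⟨n, π, hπ, ⟨G, hG⟩⟩ := Algebra.FinitePresentation.out (R := A) (A := R₀)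
  let x : Fin n → B := fun i => algebraMap R₀ B (π (MvPolynomial.X i))
  have hext : ∀ (C : Type u) [CommRing C] [Algebra A C] [HenselianRing C (I.map (algebraMap A C))]
      (φ ψ : B →ₐ[A] C), (∀ i, φ (x i) = ψ (x i)) → φ = ψ := by
    intro C _ _ _ φ ψ h
    refine Hensel.algHom_ext_of_isPairHenselization I hB (I.map (algebraMap A C)) le_rfl fun r => ?_
    obtain ⟨q, rfl⟩ := hπ r
    exact AlgHom.congr_fun (MvPolynomial.algHom_ext (f := (φ.comp (IsScalarTower.toAlgHom A R₀ B)).comp π)
      (g := (ψ.comp (IsScalarTower.toAlgHom A R₀ B)).comp π) h) q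
  have hlift : ∀ (a : κ) (s : Finset (Fin n)) (c : Fin n → L), ∃ (b : κ) (_ : a ≤ b) (y : Fin n → Ra b),
      ∀ i ∈ s, DirectLimit.Ring.of Ra t b (y i) = c i := by
    intro a s c
    induction s using Finset.induction with
    | empty => exact ⟨a, le_rfl, 0, by simp⟩
    | insert i s hi ih =>
      obtain ⟨b, hb, y, hy⟩ := ih
      obtain ⟨b', z, hz⟩ := hex (c i)
      obtain ⟨d, h₁, h₂⟩ := exists_ge_ge b b'
      refine ⟨d, hb.trans h₁, fun j => if j = i then t b' d h₂ z else t b d h₁ (y j), fun j hj => ?_⟩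
      by_cases hji : j = i
      · simp only [if_pos hji, hof, hz, hji, if_true]
      · simp only [if_neg hji, hof, hy j ((Finset.mem_insert.mp hj).resolve_left hji)]
  refine ⟨fun χ => ?_, fun a φ ψ h => ?_⟩
  · obtain ⟨a₀⟩ := ‹Nonempty κ›
    obtain ⟨a, -, y, hy⟩ := hlift a₀ Finset.univ (fun i => χ (x i))
    have hkill : ∀ s : Finset (MvPolynomial (Fin n) A), s ⊆ G →
        ∃ (b : κ) (h : a ≤ b), ∀ g ∈ s, t a b h (MvPolynomial.aeval y g) = 0 := by
      intro s
      induction s using Finset.induction with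
      | empty => exact fun _ => ⟨a, le_rfl, by simp⟩
      | insert g s hg ih =>
        intro hs
        obtain ⟨b, hb, hbs⟩ := ih fun g' hg' => hs (Finset.mem_insert_of_mem hg')
        have h0 : DirectLimit.Ring.of Ra t b (t a b hb (MvPolynomial.aeval y g)) = DirectLimit.Ring.of Ra t b 0 := by
          rw [hof, map_zero]
          have h1 : π g = 0 := hG.le (Ideal.subset_span (hs (Finset.mem_insert_self g s)))
          let ofA : Ra a →ₐ[A] L := AlgHom.mk (DirectLimit.Ring.of Ra t a) fun z => congr($(hIa a) z)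
          have h2 : ofA.comp (MvPolynomial.aeval y) = (χ.comp (IsScalarTower.toAlgHom A R₀ B)).comp π :=
            MvPolynomial.algHom_ext fun i => by
              simp only [AlgHom.comp_apply, MvPolynomial.aeval_X]
              exact hy i (Finset.mem_univ i)
          refine (AlgHom.congr_fun h2 g).trans ?_
          simp [h1]
        obtain ⟨d, hd, hd0⟩ := heq _ _ _ h0
        refine ⟨d, hb.trans hd, fun g' hg' => ?_⟩
        have hc : ∀ z, t a d (hb.trans hd) z = t b d hd (t a b hb z) := fun z =>
          (DirectedSystem.map_map (f := fun i j h => t i j h) hb hd z).symm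
        rw [hc]
        rcases Finset.mem_insert.mp hg' with rfl | hg'
        · rw [hd0, map_zero]
        · rw [hbs g' hg', map_zero]
    obtain ⟨b, hb, hbG⟩ := hkill G subset_rfl
    let y' : Fin n → Ra b := fun i => t a b hb (y i)
    have hy' : ∀ g ∈ G, MvPolynomial.aeval y' g = 0 := fun g hg => by
      rw [← hbG g hg]
      let tA : Ra a →ₐ[A] Ra b := AlgHom.mk (t a b hb) fun z => congr($(ht a b hb) z)
      exact AlgHom.congr_fun (MvPolynomial.comp_aeval y tA).symm g
    have hker : RingHom.ker π.toRingHom ≤ RingHom.ker (MvPolynomial.aeval (R := A) y').toRingHom := by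
      rw [← hG]; exact Ideal.span_le.mpr hy'
    let f : R₀ →ₐ[A] Ra b := AlgHom.liftOfSurjective π hπ (MvPolynomial.aeval y') hker
    obtain ⟨g, hg, -⟩ := hB.2 (Ra b) (I.map (algebraMap A (Ra b))) f.toRingHom inferInstance
      (by rw [Ideal.map_map, f.toRingHom_eq_coe, f.comp_algebraMap])
    let φ : B →ₐ[A] Ra b := AlgHom.mk g fun z =>
      ((congrArg g (IsScalarTower.algebraMap_apply A R₀ B z)).trans congr($hg (algebraMap A R₀ z))).trans
        (f.commutes z)
    refine ⟨b, φ, fun z => ?_⟩
    let ofB : Ra b →ₐ[A] L := AlgHom.mk (DirectLimit.Ring.of Ra t b) fun z => congr($(hIa b) z)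
    refine AlgHom.congr_fun (hext L (ofB.comp φ) χ fun i => ?_) z
    show DirectLimit.Ring.of Ra t b (g (algebraMap R₀ B (π (MvPolynomial.X i)))) = _
    rw [← RingHom.comp_apply g, hg, f.toRingHom_eq_coe, RingHom.coe_coe, AlgHom.liftOfSurjective_apply,
      MvPolynomial.aeval_X, hof]
    exact hy i (Finset.mem_univ i)
  · have hall : ∀ s : Finset (Fin n), ∃ (b : κ) (hb : a ≤ b), ∀ i ∈ s, t a b hb (φ (x i)) = t a b hb (ψ (x i)) := by
      intro s
      induction s using Finset.induction with
      | empty => exact ⟨a, le_rfl, by simp⟩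
      | insert i s hi ih =>
        obtain ⟨b, hb, hbs⟩ := ih
        obtain ⟨d, hd, hd0⟩ := heq b (t a b hb (φ (x i))) (t a b hb (ψ (x i))) (by rw [hof, hof, h])
        refine ⟨d, hb.trans hd, fun j hj => ?_⟩
        have hc : ∀ z, t a d (hb.trans hd) z = t b d hd (t a b hb z) := fun z =>
          (DirectedSystem.map_map (f := fun i j h => t i j h) hb hd z).symm
        rw [hc, hc]
        rcases Finset.mem_insert.mp hj with rfl | hj
        · exact hd0
        · rw [hbs j hj]
    obtain ⟨b, hb, hbx⟩ := hall Finset.univ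
    let tA : Ra a →ₐ[A] Ra b := AlgHom.mk (t a b hb) fun z => congr($(ht a b hb) z)
    exact ⟨b, hb, AlgHom.congr_fun (hext (Ra b) (tA.comp φ) (tA.comp ψ) fun i => hbx i (Finset.mem_univ i))⟩

end Groth.Agent.S17613
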