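import Groth.Statements.S17612
import Groth.Agent.S17613
import Groth.Agent.HensSch7.HfpLocal.Glue
-- import your own Groth.Agent.* helpers here

set_option autoImplicit false
universe u
open Hensel

namespace Groth.Agent.S17612

/-- Let (A, I) and (B, IB) be Henselian pairs with B an A-algebra, and let f₁, …, fₙ ∈ B generate the
unit ideal of B. For each i let H_i be a Henselization of the pair (B_{f_i}, IB_{f_i}) with its
induced A-algebra structure, and assume that each H_i is, for a compatible algebra structure, a
Henselization of the pair (R_i, IR_i) for some finitely presented A-algebra R_i (that is, each A →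
H_i is Henselian finitely presented). Then A → B is Henselian finitely presented: B is, for a
compatible algebra structure, a Henselization of (T, IT) for some finitely presented A-algebra T.
(The published statement allows a finite cover by arbitrary affine opens of the affine Henselian
scheme of (B, IB); this is its case of basic opens, to which the published proof reduces.) -/
theorem result (A : Type u) [CommRing A] (I : Ideal A)
    [HenselianRing A I] (B : Type u) [CommRing B] [Algebra A B] [HenselianRing B (I.map (algebraMap A B))]
    (n : ℕ) (f : Fin n → B) (hf : Ideal.span (Set.range f) = ⊤)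
    (H : Fin n → Type u) [∀ i, CommRing (H i)] [∀ i, Algebra (Localization.Away (f i)) (H i)]
    [∀ i, Algebra B (H i)] [∀ i, Algebra A (H i)] [∀ i, IsScalarTower B (Localization.Away (f i)) (H i)]
    [∀ i, IsScalarTower A B (H i)]
    (hH : ∀ i, Hens2.IsPairHenselization (Localization.Away (f i))
      (I.map (algebraMap A (Localization.Away (f i)))) (H i))
    (R : Fin n → Type u) [∀ i, CommRing (R i)] [∀ i, Algebra A (R i)]
    [∀ i, Algebra.FinitePresentation A (R i)] [∀ i, Algebra (R i) (H i)]
    [∀ i, IsScalarTower A (R i) (H i)]
    (hR : ∀ i, Hens2.IsPairHenselization (R i) (I.map (algebraMap A (R i))) (H i)) :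
    ∃ (T : Type u) (_ : CommRing T) (_ : Algebra A T) (_ : Algebra T B) (_ : IsScalarTower A T B),
      Algebra.FinitePresentation A T ∧ Hens2.IsPairHenselization T (I.map (algebraMap A T)) B := by
  classical
  let F : ULift.{u} (Fin n) → B := fun i => f i.down
  have hF : Ideal.span (Set.range F) = ⊤ := by
    rw [show Set.range F = Set.range f from ULift.down_surjective.range_comp f]; exact hf
  have hA : ∀ i : ULift.{u} (Fin n),
      HensSch.IsHensAway B (I.map (algebraMap A B)) (F i) (H i.down) (algebraMap B (H i.down)) := by
    intro i
    have h := hH i.down
    have hL : (algebraMap (Localization.Away (f i.down)) (H i.down)).comp (algebraMap B (Localization.Away (f i.down))) =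
        algebraMap B (H i.down) := (IsScalarTower.algebraMap_eq B _ _).symm
    have hI : (I.map (algebraMap A B)).map (algebraMap B (Localization.Away (f i.down))) =
        I.map (algebraMap A (Localization.Away (f i.down))) := by
      rw [Ideal.map_map, ← IsScalarTower.algebraMap_eq]
    refine ⟨?_, ?_, fun C _ J g hC hJ hu => ?_⟩
    · rw [← hL, RingHom.comp_apply]
      exact RingHom.isUnit_map (algebraMap (Localization.Away (f i.down)) (H i.down)) (IsLocalization.Away.algebraMap_isUnit (S := Localization.Away (f i.down)) (f i.down))
    · rw [← hL, ← Ideal.map_map, hI]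
      exact h.1
    · obtain ⟨θ, hθ, hθu⟩ := h.2 C J (IsLocalization.Away.lift (S := Localization.Away (f i.down)) (f i.down) hu) hC
        (by rw [← hI, Ideal.map_map, IsLocalization.Away.lift_comp]; exact hJ)
      refine ⟨θ, ?_, fun θ' hθ' => hθu θ' (IsLocalization.ringHom_ext (Submonoid.powers (f i.down)) ?_)⟩
      · show θ.comp (algebraMap B (H i.down)) = g
        rw [← hL, ← RingHom.comp_assoc, hθ, IsLocalization.Away.lift_comp]
      · rw [RingHom.comp_assoc, hL, IsLocalization.Away.lift_comp]
        exact hθ'
  exact Groth.Agent.Hensel.exists_model_of_commutesColim I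
    (Groth.Agent.HensSch7.HfpLocal.commutesColim_of_cover (I := I) F hF (fun i => H i.down) hA
      (fun i => fun κ _ _ _ Ra _ _ _ t _ ht _ halg =>
        Groth.Agent.S17613.result A I (R i.down) (H i.down) (hR i.down) Ra t ht halg))

end Groth.Agent.S17612
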