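import Groth.Statements.S17617
import Groth.Agent.Hensel.HenselizationProps
import Groth.Agent.Hensel.PairBasic

set_option autoImplicit false
universe u
open Hensel

namespace Groth.Agent.S17617

/-- Let (A, I) be a Henselian pair and let M' → M → M'' be A-linear maps with zero composite. Then M' →
M → M'' is exact if and only if for every prime ideal p of A containing I and every Henselization H
of the pair (A_p, IA_p), the sequence H ⊗_A M' → H ⊗_A M → H ⊗_A M'' is exact. (The modules H ⊗_A M
are the stalks at p of the sheaf associated to M on the affine Henselian scheme of (A, I), and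
exactness of a sequence of such sheaves is exactness at every stalk, so this is the statement that
the sequence of modules is exact exactly when the associated sequence of sheaves is.) -/
theorem result (A : Type u) [CommRing A]
    (I : Ideal A) [HenselianRing A I]
    (M' M M'' : Type u) [AddCommGroup M'] [Module A M'] [AddCommGroup M] [Module A M]
    [AddCommGroup M''] [Module A M''] (f : M' →ₗ[A] M) (g : M →ₗ[A] M'') (hfg : g.comp f = 0) :
    Function.Exact f g ↔
    ∀ (p : Ideal A) [p.IsPrime], I ≤ p →
      ∀ (H : Type u) [CommRing H] [Algebra (Localization.AtPrime p) H] [Algebra A H]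
        [IsScalarTower A (Localization.AtPrime p) H],
        Hens2.IsPairHenselization (Localization.AtPrime p)
          (I.map (algebraMap A (Localization.AtPrime p))) H →
        Function.Exact (f.baseChange H) (g.baseChange H) := by
  open TensorProduct in
  refine ⟨fun h p _ _ H _ _ _ _ hH => ?_, fun h => ?_⟩
  · have := Groth.Agent.Hensel.flat_of_isPairHenselization _ hH
    have : Module.Flat A H := Module.Flat.trans A (Localization.AtPrime p) H
    exact Module.Flat.lTensor_exact H h
  intro x
  refine ⟨fun hx => ?_, fun ⟨y, hy⟩ => hy ▸ congr($hfg y)⟩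
  show x ∈ LinearMap.range f
  let Q := M ⧸ LinearMap.range f
  rw [← Submodule.Quotient.mk_eq_zero]
  let q : Q := Submodule.Quotient.mk x
  let J : Ideal A := LinearMap.ker (LinearMap.toSpanSingleton A Q q)
  suffices hJ : J = ⊤ by
    have h1 : (1 : A) ∈ J := hJ ▸ Submodule.mem_top
    rwa [LinearMap.mem_ker, LinearMap.toSpanSingleton_apply, one_smul] at h1
  by_contra hJ
  obtain ⟨m, hm, hle⟩ := Ideal.exists_le_maximal J hJ
  have hIm : I ≤ m := (HenselianRing.jac (I := I)).trans (by
    rw [Ideal.jacobson]; exact sInf_le ⟨bot_le, hm⟩)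
  obtain ⟨H, _, _, hH⟩ := Groth.Agent.Hensel.exists_isPairHenselization (Localization.AtPrime m)
    (I.map (algebraMap A (Localization.AtPrime m)))
  let : Algebra A H := ((algebraMap (Localization.AtPrime m) H).comp (algebraMap A _)).toAlgebra
  have : IsScalarTower A (Localization.AtPrime m) H := .of_algebraMap_eq fun _ => rfl
  have := Groth.Agent.Hensel.flat_of_isPairHenselization _ hH
  have : Module.Flat A H := Module.Flat.trans A (Localization.AtPrime m) H
  obtain ⟨z, hz⟩ := (h m hIm H hH ((1 : H) ⊗ₜ[A] x)).mp (by
    rw [LinearMap.baseChange_tmul, hx, TensorProduct.tmul_zero])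
  have hq : (1 : H) ⊗ₜ[A] q = 0 := by
    have e : (LinearMap.range f).mkQ.lTensor H ∘ₗ f.lTensor H = 0 := by
      rw [← LinearMap.lTensor_comp, LinearMap.range_mkQ_comp, LinearMap.lTensor_zero]
    have e' := congr($e z)
    rw [LinearMap.comp_apply, show f.lTensor H z = (1 : H) ⊗ₜ[A] x from hz,
      LinearMap.lTensor_tmul, LinearMap.zero_apply] at e'
    exact e'
  let ι := Submodule.liftQ J (LinearMap.toSpanSingleton A Q q) le_rfl
  have hι : Function.Injective (ι.lTensor H) := Module.Flat.lTensor_preserves_injective_linearMap ι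
    (LinearMap.ker_eq_bot.mp (Submodule.ker_liftQ_eq_bot _ _ _ le_rfl))
  have h1 : (1 : H) ⊗ₜ[A] (Submodule.Quotient.mk (1 : A) : A ⧸ J) = 0 := hι (by
    rw [map_zero, LinearMap.lTensor_tmul]
    rw [show ι (Submodule.Quotient.mk (1 : A)) = q from one_smul A q]
    exact hq)
  -- the residue field of `A` at `m` receives `H`
  let k := IsLocalRing.ResidueField (Localization.AtPrime m)
  obtain ⟨φ, hφ, -⟩ := hH.2 k ⊥ (IsLocalRing.residue _) Groth.Agent.Hensel.henselianRing_bot (by
    rw [Ideal.map_map, Ideal.map_le_iff_le_comap]
    intro a ha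
    rw [Ideal.mem_comap, Ideal.mem_bot, RingHom.comp_apply, IsLocalRing.residue_eq_zero_iff,
      IsLocalization.AtPrime.to_map_mem_maximal_iff (Localization.AtPrime m) m]
    exact hIm ha)
  let φ' : H →ₐ[A] k := { φ with commutes' := fun a => congr($hφ (algebraMap A (Localization.AtPrime m) a)) }
  let ev : (A ⧸ J) →ₗ[A] k := Submodule.liftQ J (Algebra.linearMap A k) fun a ha => by
    rw [LinearMap.mem_ker]
    show IsLocalRing.residue (Localization.AtPrime m) (algebraMap A _ a) = 0
    rw [IsLocalRing.residue_eq_zero_iff,
      IsLocalization.AtPrime.to_map_mem_maximal_iff (Localization.AtPrime m) m]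
    exact hle ha
  have h2 := congr((LinearMap.mul' A k ∘ₗ TensorProduct.map φ'.toLinearMap ev) $h1)
  simp [ev] at h2
  exact one_ne_zero (α := k) ((map_one (algebraMap A k)).symm.trans h2)

end Groth.Agent.S17617
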