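import Groth.Statements.S17619
import Groth.Agent.ZClosLib.FibAssIdeal
import Groth.Agent.S9664
import Groth.Agent.S9665

set_option autoImplicit false
universe u
open FlatMor

namespace Groth.Agent.S17619

open TensorProduct

/-- An associated prime of `B ⊗ Q` lies in the preimage of a prime of `A` under a retraction. -/
theorem assoc_le (A : Type u) [CommRing A] [IsNoetherianRing A] (B : Type u) [CommRing B] [Algebra A B]
    [IsNoetherianRing B] [Module.Flat A B] (hfib : FlatCA.GeomIntegralFibres A B) (u : B →ₐ[A] A)
    (Q : Type u) [AddCommGroup Q] [Module A Q] [Module.Finite A Q] (q : Ideal B) [q.IsPrime]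
    (hq : q ∈ associatedPrimes B (B ⊗[A] Q)) :
    q ≤ (q.comap (algebraMap A B)).comap u.toRingHom := by
  have h1 := Groth.Agent.ZClosLib.FibAssIdeal.comap_eq_of_mem_quot B Q hq
  have h2 := Groth.Agent.S9665.result B (q.comap (algebraMap A B)) q rfl
    (Groth.Agent.ZClosLib.FibAssIdeal.mem_ass_of_mem_associatedPrimes h1)
  obtain ⟨P, ⟨hP, m, hm⟩, hPq⟩ := (Groth.Agent.S9664.result B (q.comap (algebraMap A B)) q rfl).1 h2
  let p := q.comap (algebraMap A B)
  haveI : IsDomain (p.Fiber B) := by
    have h : AlgebraicGeometry.IsIntegral (AlgebraicGeometry.Spec (CommRingCat.of (p.Fiber B))) :=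
      hfib.geometrically_isIntegral _ _ _ (AlgebraicGeometry.isPullback_SpecMap_of_isPushout _ _ _ _
        (CommRingCat.isPushout_tensorProduct A p.ResidueField B).flip)
    exact (AlgebraicGeometry.affine_isIntegral_iff _).1 h
  letI := Algebra.TensorProduct.rightAlgebra (R := A) (A := p.ResidueField) (B := B)
  let l : FlatCA.fiberMod p B B ≃ₗ[p.Fiber B] p.Fiber B := TensorProduct.AlgebraTensorModule.rid B (p.Fiber B) (p.Fiber B)
  intro b hb
  have hb' : (Algebra.TensorProduct.includeRight (R := A) (A := p.ResidueField) (B := B)).toRingHom b ∈ P :=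
    Ideal.mem_comap.1 (hPq.symm ▸ hb)
  rw [hm, Submodule.mem_annihilator_span_singleton] at hb'
  have hb0 : (Algebra.TensorProduct.includeRight (R := A) (A := p.ResidueField) (B := B)).toRingHom b * l m = 0 := by
    rw [← smul_eq_mul, ← map_smul, hb', map_zero]
  rcases mul_eq_zero.1 hb0 with h0 | h0
  · let ε : p.Fiber B →ₐ[A] p.ResidueField :=
      Algebra.TensorProduct.lift (AlgHom.id A p.ResidueField) ((Algebra.ofId A p.ResidueField).comp u)
        fun _ _ => Commute.all _ _
    have h3 : algebraMap A p.ResidueField (u b) = 0 := by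
      have h4 := congrArg ε h0
      rw [map_zero] at h4
      rw [← h4]
      show _ = ε ((1 : p.ResidueField) ⊗ₜ[A] b)
      rw [Algebra.TensorProduct.lift_tmul, map_one, one_mul]
      rfl
    exact (Ideal.algebraMap_residueField_eq_zero.1 h3 : u b ∈ p)
  · exact absurd (hm.trans (by
      rw [l.map_eq_zero_iff.1 h0, Submodule.span_zero_singleton, Submodule.annihilator_bot])) hP.ne_top

/-- Let A be a Noetherian ring and B a smooth A-algebra whose fibres are geometrically integral, and let
u : B → A be an A-algebra retraction with kernel I (the situation reached, after a faithfully flat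
base change, in the proof that flat and pure modules are projective). Let B̂ be the I-adic
completion of B, presented as a B-algebra, compatibly an A-algebra, that is I B̂-adically complete
and for which every truncation B/I^n → B̂/I^n B̂ is bijective. Then the canonical map B → B̂ is
universally injective over A: it remains injective after tensoring over A with any A-module (modules
in the universe of A). -/
theorem result (A : Type u) [CommRing A]
    [IsNoetherianRing A] (B : Type u) [CommRing B] [Algebra A B] [Algebra.Smooth A B]
    (hfib : FlatCA.GeomIntegralFibres A B) (u : B →ₐ[A] A)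
    (Bh : Type u) [CommRing Bh] [Algebra B Bh] [Algebra A Bh] [IsScalarTower A B Bh]
    [IsAdicComplete ((RingHom.ker u).map (algebraMap B Bh)) Bh]
    (hq : ∀ n : ℕ, Function.Bijective (Ideal.quotientMap ((RingHom.ker u ^ n).map (algebraMap B Bh))
      (algebraMap B Bh) Ideal.le_comap_map)) :
    FlatCA.UnivInj A (IsScalarTower.toAlgHom A B Bh).toLinearMap := by
  haveI : IsNoetherianRing B := Algebra.FiniteType.isNoetherianRing A B
  refine (Groth.Agent.ZClosLib.AdicUI.univInj_iff _).2 ?_
  rw [Groth.Agent.CAlgUI.ui_iff_fp]
  intro Q _ _ hQ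
  haveI : Module.Finite A Q := inferInstance
  let I := RingHom.ker u
  rw [injective_iff_map_eq_zero]
  intro x hx
  refine Groth.Agent.ZClosLib.AdicUI.of_injective (R := B) (S := B) I (M := TensorProduct A B Q)
    (fun q hq => ?_) ((?_ : AdicCompletion.of I (TensorProduct A B Q) x = 0).trans (map_zero _).symm)
  · haveI : q.IsPrime := hq.isPrime
    have hle := assoc_le A B hfib u Q q hq
    intro htop
    rw [Algebra.algebraMap_self, Ideal.map_id] at htop
    have h1 : (⊤ : Ideal B) ≤ (q.comap (algebraMap A B)).comap u.toRingHom :=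
      htop ▸ sup_le (fun i hi => by
        show u i ∈ q.comap (algebraMap A B)
        rw [show u i = 0 from hi]
        exact zero_mem _) hle
    exact (Ideal.IsPrime.comap u.toRingHom (hK := Ideal.IsPrime.comap (algebraMap A B))).ne_top (top_le_iff.1 h1)
  · refine AdicCompletion.ext fun n => ?_
    let e := RingEquiv.ofBijective _ (hq n)
    let ψ : Bh →ₐ[A] B ⧸ I ^ n :=
      { (e.symm.toRingHom.comp (Ideal.Quotient.mk ((I ^ n).map (algebraMap B Bh)))) with
        commutes' := fun a => by
          show e.symm (Ideal.Quotient.mk _ (algebraMap A Bh a)) = algebraMap A (B ⧸ I ^ n) a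
          rw [RingEquiv.symm_apply_eq, IsScalarTower.algebraMap_apply A B Bh]
          rfl }
    have hψ : ∀ b, ψ (algebraMap B Bh b) = Submodule.Quotient.mk b := fun b => by
      show e.symm (Ideal.Quotient.mk _ (algebraMap B Bh b)) = _
      rw [RingEquiv.symm_apply_eq]
      rfl
    let N : Submodule A B := (I ^ n).restrictScalars A
    let π : B →ₗ[A] B ⧸ I ^ n := ψ.toLinearMap ∘ₗ (IsScalarTower.toAlgHom A B Bh).toLinearMap
    have hπ : LinearMap.ker π = N := by
      ext b
      show ψ (algebraMap B Bh b) = 0 ↔ b ∈ I ^ n
      rw [hψ, Submodule.Quotient.mk_eq_zero]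
    have hπs : Function.Surjective π := fun z => by
      obtain ⟨b, rfl⟩ := Submodule.Quotient.mk_surjective _ z
      exact ⟨b, hψ b⟩
    have hx' : π.rTensor Q x = 0 := by
      rw [LinearMap.rTensor_comp, LinearMap.comp_apply, hx, map_zero]
    have hex : Function.Exact N.subtype π := LinearMap.exact_iff.2 (by rw [Submodule.range_subtype]; exact hπ)
    obtain ⟨y, rfl⟩ := ((rTensor_exact Q hex hπs) x).1 hx'
    have hmem : N.subtype.rTensor Q y ∈ (I ^ n • ⊤ : Submodule B (TensorProduct A B Q)) := by
      clear hx hx'
      induction y using TensorProduct.induction_on with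
      | zero => simp
      | add a b ha hb => rw [map_add]; exact add_mem ha hb
      | tmul i m =>
        rw [LinearMap.rTensor_tmul, Submodule.subtype_apply,
          show ((i : B) ⊗ₜ[A] m : TensorProduct A B Q) = (i : B) • ((1 : B) ⊗ₜ[A] m) by
            rw [TensorProduct.smul_tmul', smul_eq_mul, mul_one]]
        exact Submodule.smul_mem_smul i.2 Submodule.mem_top
    exact (Submodule.Quotient.mk_eq_zero _).2 hmem

end Groth.Agent.S17619
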