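import Groth.Statements.S17620
import Groth.Agent.Hensel.HenselizationMisc
-- import your own Groth.Agent.* helpers here

set_option autoImplicit false
universe u
open Hensel

namespace Groth.Agent.S17620

/-- Let R be a local ring and J an ideal of R contained in the maximal ideal, let H be a Henselization
of the pair (R, J) which is a local ring with local structure map R → H, and let S be a strict
Henselization of the local ring H. Then S, with its composite R-algebra structure, is a strict
Henselization of the local ring R. (This is the identification of the strict Henselization of the
local ring of a scheme at a point with that of the local ring of its Henselization along a closed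
subscheme through the point.) -/
theorem result
    (R : Type u) [CommRing R] [IsLocalRing R] (J : Ideal R) (hJ : J ≤ IsLocalRing.maximalIdeal R)
    (H : Type u) [CommRing H] [IsLocalRing H] [Algebra R H] [IsLocalHom (algebraMap R H)]
    (hH : Hens2.IsPairHenselization R J H)
    (S : Type u) [CommRing S] [IsLocalRing S] [Algebra H S] [IsLocalHom (algebraMap H S)]
    [Hensel.IsStrictHenselization H S]
    [Algebra R S] [IsScalarTower R H S] [IsLocalHom (algebraMap R S)] :
    Hensel.IsStrictHenselization R S := by
  exact Groth.Agent.Hensel.isStrictHenselization_of_isPairHenselization R J hJ H hH S

end Groth.Agent.S17620
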