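import Groth.Statements.S17622
import Groth.Agent.Lib.NumTrivGrowth
import Groth.Agent.Lib.AsympCoh

set_option autoImplicit false
set_option backward.isDefEq.respectTransparency false
set_option backward.isDefEq.respectTransparency.types false
set_option linter.style.haveILetI false
set_option linter.unusedSectionVars false
set_option maxHeartbeats 400000
universe u
open CategoryTheory CategoryTheory.Limits AlgebraicGeometry
open Variety

namespace Groth.Agent.S17622

/-- Let X be an integral scheme, proper over an uncountable algebraically closed field k of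
characteristic zero and admitting an ample invertible module, of dimension n (stated in the source
over the complex numbers), L an invertible O_X-module and P an invertible O_X-module which is
numerically equivalent to zero, i.e. of degree 0 on every integral closed curve in X. Then ĥ^i(X, L
⊗ P) = ĥ^i(X, L) for every i ≥ 0, where ĥ^i(X, L) = limsup_m dim_k H^i(X, L^{⊗m}) · n!/m^n; so ĥ^i
only depends on the numerical class of L. -/
theorem result (k : Type u) [Field k] [IsAlgClosed k] [CharZero k] [Uncountable k] (X : Scheme.{u})
    [X.Over (Spec (CommRingCat.of k))] [AlgebraicGeometry.IsIntegral X]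
    [IsProper (X ↘ Spec (CommRingCat.of k))] (hproj : ∃ A : X.Modules, CohB1.IsAmple A)
    (n : ℕ) (hn : topologicalKrullDim X = n)
    (L : X.Modules) (hL : PicF.IsInvertible L) (P : X.Modules) (hP : PicF.IsInvertible P)
    (hnum : Pic13.IsNumEquivZero k X P) (i : ℕ) :
    W4c5asymptcohfn.hhat k X n i (CohB1.tensorMod L P) = W4c5asymptcohfn.hhat k X n i L := by
  obtain ⟨A, hA⟩ := hproj
  have hle : topologicalKrullDim X ≤ n := hn.le
  obtain ⟨C, hC⟩ := Groth.Agent.NumTrivTw.exists_dist k hA hle hL i
  have hP' : Groth.Agent.Pic13Lib.NumTriv.IsNT k P := ⟨hP, hnum⟩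
  have hLP := Groth.Agent.InvX.isInvertible_tensorMod hL hP
  refine Groth.Agent.AsympCoh.limsup_eq_of_dist (c := (n.factorial : ℝ)) ⟨C, fun m => ?_⟩
    (Groth.Agent.AsympCoh.isOrd_pow k hle hLP i) (Groth.Agent.AsympCoh.isOrd_pow k hle hL i) (Nat.cast_nonneg _)
  have h := hC m (CohB1.tensorPow P m) (hP'.pow k m)
  rw [Groth.Agent.NumTrivTw.finrank_cl k (N := CohB1.tensorMod (CohB1.tensorPow L m) (CohB1.tensorPow P m))
    (by open scoped Groth.Agent.H23.PicMul in
      rw [Groth.Agent.H23.PicMul.cl_tensor, Groth.Agent.H23.PicMul.cl_tensorPow, Groth.Agent.H23.PicMul.cl_tensorPow,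
        Groth.Agent.H23.PicMul.cl_tensorPow, Groth.Agent.H23.PicMul.cl_tensor, mul_pow])]
  exact h

end Groth.Agent.S17622
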