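import Groth.Statements.S17623
import Groth.Agent.Lib.GenFinCoh

set_option autoImplicit false
set_option backward.isDefEq.respectTransparency false
set_option backward.isDefEq.respectTransparency.types false
set_option linter.style.haveILetI false
set_option linter.unusedSectionVars false
set_option maxHeartbeats 400000
universe u
open CategoryTheory CategoryTheory.Limits AlgebraicGeometry
open Variety

namespace Groth.Agent.S17623

/-- Let X and Y be integral schemes, proper over an algebraically closed field k of characteristic zero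
and each admitting an ample invertible module (stated in the source over the complex numbers), with
X of dimension n, and let f : Y → X be a k-morphism which is dominant and generically finite of
degree d ≥ 1: f maps the generic point of Y to the generic point of X and the residue-field
extension there has finite degree d (so f is proper and surjective and Y has dimension n). Then for
every invertible O_X-module L and every i ≥ 0, ĥ^i(Y, f^*L) = d · ĥ^i(X, L), where ĥ^i(−, L) =
limsup_m dim_k H^i(−, L^{⊗m}) · n!/m^n. -/
theorem result (k : Type u) [Field k] [IsAlgClosed k] [CharZero k]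
    (X Y : Scheme.{u}) [X.Over (Spec (CommRingCat.of k))] [Y.Over (Spec (CommRingCat.of k))]
    [AlgebraicGeometry.IsIntegral X] [AlgebraicGeometry.IsIntegral Y]
    [IsProper (X ↘ Spec (CommRingCat.of k))] [IsProper (Y ↘ Spec (CommRingCat.of k))]
    (hXproj : ∃ A : X.Modules, CohB1.IsAmple A) (hYproj : ∃ B : Y.Modules, CohB1.IsAmple B)
    (n : ℕ) (hn : topologicalKrullDim X = n)
    (f : Y ⟶ X) (hf : f ≫ (X ↘ Spec (CommRingCat.of k)) = Y ↘ Spec (CommRingCat.of k))
    (hdom : f.base (genericPoint Y) = genericPoint X) (d : ℕ) (hd : f.residueDegree (genericPoint Y) = d)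
    (hd0 : 1 ≤ d) (L : X.Modules) (hL : PicF.IsInvertible L) (i : ℕ) :
    W4c5asymptcohfn.hhat k Y n i ((Scheme.Modules.pullback f).obj L) =
      (d : ℝ) * W4c5asymptcohfn.hhat k X n i L := by
  obtain ⟨B, hB⟩ := hYproj
  haveI := CurveCohLib.isNoetherian_of_proper (k := k) (X := Y)
  have hnY : topologicalKrullDim Y = n := by
    rw [VarDim.topologicalKrullDim_eq_deg_genericPoint (Y ↘ Spec (CommRingCat.of k)),
      (GenFinPush.fibre_generic k f hf hdom (by omega)).1,
      ← VarDim.topologicalKrullDim_eq_deg_genericPoint (X ↘ Spec (CommRingCat.of k)), hn]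
  obtain ⟨C, hC⟩ := GenFinPush.exists_dist_pullback_HH k f hf hdom hd hd0 hn hB hL i
  obtain ⟨C', hC'⟩ := AsympCoh.isOrd_pow k hn.le hL i
  have hb : AsympCoh.IsOrd n fun m => d * Module.finrank k (Coh.HH X (CohB1.tensorPow L m) i) :=
    ⟨d * C', fun m => le_of_le_of_eq (Nat.mul_le_mul_left d (hC' m)) (_root_.mul_assoc _ _ _).symm⟩
  refine (AsympCoh.limsup_eq_of_dist (c := (n.factorial : ℝ)) ⟨C, hC⟩
    (AsympCoh.isOrd_pow k hnY.le (PicClLib.isInvertible_pullback f hL) i) hb (Nat.cast_nonneg _)).trans ?_
  unfold AsympCoh.nseq W4c5asymptcohfn.hhat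
  rw [← AsympCoh.limsup_const_mul (Nat.cast_nonneg d)]
  · congr 1
    funext m
    push_cast
    ring
  · exact (AsympCoh.isOrd_pow k hn.le hL i).isBoundedUnder (Nat.cast_nonneg _)

end Groth.Agent.S17623
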