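import Groth.Statements.S17624
import Groth.Agent.Lib.AsympPull

set_option autoImplicit false
set_option backward.isDefEq.respectTransparency false
set_option backward.isDefEq.respectTransparency.types false
set_option linter.style.haveILetI false
set_option linter.unusedSectionVars false
set_option maxHeartbeats 400000
universe u
open CategoryTheory CategoryTheory.Limits AlgebraicGeometry
open Variety

namespace Groth.Agent.S17624

/-- Let X and Y be integral schemes, proper over an algebraically closed field k of characteristic zero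
and each admitting an ample invertible module (stated in the source over the complex numbers), of
dimensions n and e with e > n, and let f : Y → X be a dominant k-morphism (so proper and
surjective). Then for every invertible O_X-module L and every i ≥ 0, ĥ^i(Y, f^*L) = 0, where ĥ^i(Y,
M) = limsup_m dim_k H^i(Y, M^{⊗m}) · e!/m^e is normalised by the dimension e of Y. -/
theorem result (k : Type u) [Field k] [IsAlgClosed k] [CharZero k]
    (X Y : Scheme.{u}) [X.Over (Spec (CommRingCat.of k))] [Y.Over (Spec (CommRingCat.of k))]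
    [AlgebraicGeometry.IsIntegral X] [AlgebraicGeometry.IsIntegral Y]
    [IsProper (X ↘ Spec (CommRingCat.of k))] [IsProper (Y ↘ Spec (CommRingCat.of k))]
    (hXproj : ∃ A : X.Modules, CohB1.IsAmple A) (hYproj : ∃ B : Y.Modules, CohB1.IsAmple B)
    (n e : ℕ) (hn : topologicalKrullDim X = n) (he : topologicalKrullDim Y = e) (hne : n < e)
    (f : Y ⟶ X) (hf : f ≫ (X ↘ Spec (CommRingCat.of k)) = Y ↘ Spec (CommRingCat.of k))
    (hdom : f.base (genericPoint Y) = genericPoint X) (L : X.Modules) (hL : PicF.IsInvertible L) (i : ℕ) :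
    W4c5asymptcohfn.hhat k Y e i ((Scheme.Modules.pullback f).obj L) = 0 := by
  haveI := CurveCohLib.isNoetherian_of_proper (k := k) (X := Y)
  obtain ⟨C, hC⟩ := CohGrowth.isBdd_of_image_dim_lt k f (K := fun _ : Fin 1 => L) (fun _ => hL) (n + 1) ⊤
    (lt_of_le_of_lt ((Topology.IsInducing.subtypeVal).topologicalKrullDim_le.trans hn.le)
      (by exact_mod_cast Nat.lt_succ_self n)) (Coh.structureModule Y) QCoh.isCoh_structureModule'
    (fun _ _ => trivial) i
  set P := (Scheme.Modules.pullback f).obj L
  have hb : ∀ m, Module.finrank k (Coh.HH Y (CohB1.tensorPow P m) i) ≤ C * (m + 1) ^ n := fun m => by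
    refine le_of_eq_of_le (AsympCoh.finrank_pow_eq k P i m).symm ?_
    exact le_of_le_of_eq (hC fun _ => m) (by rw [CohGrowth.w_succ, AsympCoh.sum_one])
  refine le_antisymm ?_ ?_
  · refine AsympCoh.limsup_le_lim (fun m => by positivity)
      (g := fun m : ℕ => (C : ℝ) * 2 ^ n * (e.factorial : ℝ) * (1 / (m : ℝ)) ^ (e - n)) ?_ ?_
    · simpa [zero_pow (Nat.sub_ne_zero_of_lt hne)] using
        ((tendsto_one_div_atTop_nhds_zero_nat (𝕜 := ℝ)).pow (e - n)).const_mul ((C : ℝ) * 2 ^ n * (e.factorial : ℝ))
    · filter_upwards [Filter.eventually_gt_atTop 0] with m hm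
      have hm' : (0 : ℝ) < m := by exact_mod_cast hm
      have h1 : (Module.finrank k (Coh.HH Y (CohB1.tensorPow P m) i) : ℝ) ≤ C * ((m : ℝ) + 1) ^ n := by
        exact_mod_cast hb m
      have h2 := mul_le_mul_of_nonneg_left (AsympCoh.succ_pow_le (show 1 ≤ m from hm) n) (Nat.cast_nonneg (α := ℝ) C)
      rw [div_le_iff₀ (pow_pos hm' e)]
      calc _ ≤ (C : ℝ) * (2 ^ n * (m : ℝ) ^ n) * (e.factorial : ℝ) :=
            mul_le_mul_of_nonneg_right (h1.trans h2) (Nat.cast_nonneg _)
        _ = _ := by
          obtain ⟨q, rfl⟩ : ∃ q, e = n + q := ⟨e - n, by omega⟩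
          rw [Nat.add_sub_cancel_left, pow_add, one_div, inv_pow]
          field_simp
  · refine Filter.le_limsup_of_frequently_le (Filter.Frequently.of_forall fun m => by positivity) ?_
    refine AsympCoh.IsOrd.isBoundedUnder ⟨C, fun m => (hb m).trans ?_⟩ (Nat.cast_nonneg _)
    exact Nat.mul_le_mul_left _ (Nat.pow_le_pow_right (Nat.succ_pos m) hne.le)

end Groth.Agent.S17624
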