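import Groth.Statements.S17626
import Groth.Agent.Lib.BigVol

set_option autoImplicit false
set_option backward.isDefEq.respectTransparency false
set_option backward.isDefEq.respectTransparency.types false
set_option linter.style.haveILetI false
set_option linter.unusedSectionVars false
set_option maxHeartbeats 400000
universe u
open CategoryTheory CategoryTheory.Limits AlgebraicGeometry
open Variety

namespace Groth.Agent.S17626

/-- Let X be an integral scheme, proper over an algebraically closed field k of characteristic zero and
admitting an ample invertible module, of dimension n ≥ 1 (stated in the source over the complex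
numbers), and L an invertible O_X-module which is big, in the sense that its volume ĥ^0(X, L) =
limsup_m dim_k H^0(X, L^{⊗m}) · n!/m^n is positive. Then ĥ^n(X, L) = 0. (The published statement
allows n = 0, where it fails: X is then a point, every L is big and ĥ^0(X, L) = 1; the printed
argument uses that L and its inverse cannot both be big, which needs n ≥ 1.) -/
theorem result (k : Type u) [Field k] [IsAlgClosed k] [CharZero k] (X : Scheme.{u})
    [X.Over (Spec (CommRingCat.of k))] [AlgebraicGeometry.IsIntegral X]
    [IsProper (X ↘ Spec (CommRingCat.of k))] (hproj : ∃ A : X.Modules, CohB1.IsAmple A)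
    (n : ℕ) (hn : topologicalKrullDim X = n) (hn1 : 1 ≤ n)
    (L : X.Modules) (hL : PicF.IsInvertible L) (hbig : 0 < W4c5asymptcohfn.hhat k X n 0 L) :
    W4c5asymptcohfn.hhat k X n n L = 0 := by
  obtain ⟨H, hH⟩ := hproj
  obtain ⟨ν, j₀, hν, hj⟩ := BigVol.exists_top_eq_zero k hn hH hL
    (BigVol.oftenGrows_of_limsup_pos (Nat.cast_nonneg n.factorial) hbig) hn1
  have h := AsympCoh.limsup_tensorPow k hn.le hL hν n (Nat.cast_nonneg (α := ℝ) n.factorial)
  have h0 : Filter.limsup (AsympCoh.nseq (n.factorial : ℝ) n fun m =>
      Module.finrank k (Coh.HH X (CohB1.tensorPow (CohB1.tensorPow L ν) m) n)) Filter.atTop = 0 := by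
    refine (Filter.limsup_congr (Filter.eventually_atTop.2 ⟨j₀, fun m hm => ?_⟩)).trans (Filter.limsup_const 0)
    simp [AsympCoh.nseq, hj m hm]
  rw [h0] at h
  exact (mul_eq_zero.1 h.symm).resolve_left (pow_ne_zero _ (by exact_mod_cast hν.ne'))

end Groth.Agent.S17626
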