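import Groth.Statements.S17627
import Groth.Agent.Lib.AsympCoh

set_option autoImplicit false
set_option backward.isDefEq.respectTransparency false
set_option backward.isDefEq.respectTransparency.types false
set_option linter.style.haveILetI false
set_option linter.unusedSectionVars false
set_option maxHeartbeats 400000
universe u
open CategoryTheory CategoryTheory.Limits AlgebraicGeometry
open Variety

namespace Groth.Agent.S17627

/-- Let X be an integral scheme, proper over an algebraically closed field k of characteristic zero and
admitting an ample invertible module, of dimension n (stated in the source over the complex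
numbers), F a coherent O_X-module whose generic rank — the dimension of its stalk at the generic
point of X over the function field — is r, and L an invertible O_X-module. Then limsup_m dim_k
H^i(X, F ⊗ L^{⊗m}) · n!/m^n = r · ĥ^i(X, L) for every i ≥ 0, where ĥ^i(X, L) = limsup_m dim_k H^i(X,
L^{⊗m}) · n!/m^n. -/
theorem result (k : Type u) [Field k] [IsAlgClosed k] [CharZero k] (X : Scheme.{u})
    [X.Over (Spec (CommRingCat.of k))] [AlgebraicGeometry.IsIntegral X]
    [IsProper (X ↘ Spec (CommRingCat.of k))] (hproj : ∃ A : X.Modules, CohB1.IsAmple A)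
    (n : ℕ) (hn : topologicalKrullDim X = n)
    (F : X.Modules) (hF : Coh.IsCoh F) (r : ℕ)
    (hr : Module.finrank (X.presheaf.stalk (genericPoint X)) (F.presheaf.stalk (genericPoint X)) = r)
    (L : X.Modules) (hL : PicF.IsInvertible L) (i : ℕ) :
    W4c5asymptcohfn.hhatF k X n i F L = (r : ℝ) * W4c5asymptcohfn.hhat k X n i L := by
  haveI := CurveCohLib.isNoetherian_of_proper (k := k) (X := X)
  obtain ⟨C, hC⟩ := AsympCoh.isOrd_pow k hn.le hL i
  have hb : AsympCoh.IsOrd n fun m => r * Module.finrank k (Coh.HH X (CohB1.tensorPow L m) i) :=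
    ⟨r * C, fun m => le_of_le_of_eq (Nat.mul_le_mul_left r (hC m)) (_root_.mul_assoc _ _ _).symm⟩
  refine (AsympCoh.limsup_eq_of_dist (c := (n.factorial : ℝ)) (AsympCoh.exists_dist_rank k hn.le hL hF hr i)
    (AsympCoh.isOrd_twist k hn.le hL hF i) hb (Nat.cast_nonneg _)).trans ?_
  unfold AsympCoh.nseq W4c5asymptcohfn.hhat
  rw [← AsympCoh.limsup_const_mul (Nat.cast_nonneg r)]
  · congr 1
    funext m
    push_cast
    ring
  · exact (AsympCoh.isOrd_pow k hn.le hL i).isBoundedUnder (Nat.cast_nonneg _)

end Groth.Agent.S17627
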