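import Groth.Statements.S17629
import Groth.Agent.Lib.AsympCoh

set_option autoImplicit false
set_option backward.isDefEq.respectTransparency false
set_option backward.isDefEq.respectTransparency.types false
set_option linter.style.haveILetI false
set_option linter.unusedSectionVars false
set_option maxHeartbeats 400000
universe u
open CategoryTheory CategoryTheory.Limits AlgebraicGeometry
open Variety

namespace Groth.Agent.S17629

/-- Let X be an integral scheme, proper over an algebraically closed field k of characteristic zero and
admitting an ample invertible module, of dimension n (stated in the source over the complex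
numbers), let 0 → A → B → C → 0 be a short exact sequence of coherent O_X-modules and L an
invertible O_X-module. If the support of C has dimension < n, then limsup_m dim_k H^i(X, A ⊗ L^{⊗m})
· n!/m^n = limsup_m dim_k H^i(X, B ⊗ L^{⊗m}) · n!/m^n for every i ≥ 0. -/
theorem result (k : Type u) [Field k] [IsAlgClosed k] [CharZero k] (X : Scheme.{u})
    [X.Over (Spec (CommRingCat.of k))] [AlgebraicGeometry.IsIntegral X]
    [IsProper (X ↘ Spec (CommRingCat.of k))] (hproj : ∃ A : X.Modules, CohB1.IsAmple A)
    (n : ℕ) (hn : topologicalKrullDim X = n)
    (S : ShortComplex X.Modules) (hS : S.ShortExact)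
    (hA : Coh.IsCoh S.X₁) (hB : Coh.IsCoh S.X₂) (hC : Coh.IsCoh S.X₃)
    (hdim : topologicalKrullDim (CohB1.support S.X₃) < (n : WithBot ℕ∞))
    (L : X.Modules) (hL : PicF.IsInvertible L) (i : ℕ) :
    W4c5asymptcohfn.hhatF k X n i S.X₁ L = W4c5asymptcohfn.hhatF k X n i S.X₂ L := by
  exact AsympCoh.limsup_eq_of_dist (c := (n.factorial : ℝ)) (AsympCoh.exists_dist_left k hn.le hS hA hB hC hdim hL i)
    (AsympCoh.isOrd_twist k hn.le hL hA i) (AsympCoh.isOrd_twist k hn.le hL hB i) (Nat.cast_nonneg _)

end Groth.Agent.S17629
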