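import Groth.Statements.S1763
import Groth.Agent.LC.AssFilt

set_option autoImplicit false
universe u
open LocCoh

namespace Groth.Agent.S1763

/-- Fix a Noetherian ring A, an ideal I of A and a finitely generated A-module M. The local cohomology
module H¹_I(M) is finitely generated over A if and only if, for each associated prime p of M with I
⊄ p, the module H¹_I(A/p) is finitely generated over A. (Affine form, through finiteness of H¹_I, of
a statement about coherence of direct images along the inclusion of the open complement of V(I).) -/
theorem result (A : Type u) [CommRing A] [IsNoetherianRing A] (I : Ideal A) (M : Type u) [AddCommGroup M] [Module A M] [Module.Finite A M] : Module.Finite A (LocCoh.H I 1 M) ↔ ∀ p : Ideal A, p ∈ associatedPrimes A M → ¬ I ≤ p → Module.Finite A (LocCoh.H I 1 (A ⧸ p)) := by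
  refine ⟨fun h p hp _ => ?_, fun h => Groth.Agent.LC.finite_H1_of_ass I M h⟩
  obtain ⟨-, g, hg⟩ := (isAssociatedPrime_iff_exists_injective_linearMap p M).1 ((AssociatedPrimes.mem_iff).1 hp)
  exact Groth.Agent.LC.finite_H1_of_injective I g hg h

end Groth.Agent.S1763
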