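import Groth.Statements.S17632
import Groth.Agent.Lib.AsympCoh

set_option autoImplicit false
set_option backward.isDefEq.respectTransparency false
set_option backward.isDefEq.respectTransparency.types false
set_option linter.style.haveILetI false
set_option linter.unusedSectionVars false
set_option maxHeartbeats 400000
universe u
open CategoryTheory CategoryTheory.Limits AlgebraicGeometry
open Variety

namespace Groth.Agent.S17632

/-- Let X be an integral scheme, proper over an uncountable algebraically closed field k of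
characteristic zero and admitting an ample invertible module, of dimension n (stated in the source
over the complex numbers), L an invertible O_X-module and A an ample invertible O_X-module with
inverse A', i.e. A ⊗ A' ≅ O_X. Then for every i ≥ 0, (ĥ^i(X, L^{⊗p} ⊗ A') − ĥ^i(X, L^{⊗p})) / p^n
tends to 0 as p → ∞, where ĥ^i(X, M) = limsup_m dim_k H^i(X, M^{⊗m}) · n!/m^n. -/
theorem result (k : Type u) [Field k] [IsAlgClosed k] [CharZero k] [Uncountable k] (X : Scheme.{u})
    [X.Over (Spec (CommRingCat.of k))] [AlgebraicGeometry.IsIntegral X]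
    [IsProper (X ↘ Spec (CommRingCat.of k))] (hproj : ∃ A : X.Modules, CohB1.IsAmple A)
    (n : ℕ) (hn : topologicalKrullDim X = n)
    (L : X.Modules) (hL : PicF.IsInvertible L) (A A' : X.Modules) (hA : CohB1.IsAmple A)
    (hA' : ClSub.IsInverseOf A A') (i : ℕ) :
    Filter.Tendsto (fun p : ℕ =>
        (W4c5asymptcohfn.hhat k X n i (CohB1.tensorMod (CohB1.tensorPow L p) A') -
          W4c5asymptcohfn.hhat k X n i (CohB1.tensorPow L p)) / (p : ℝ) ^ n)
      Filter.atTop (nhds 0) := by
  open scoped Groth.Agent.H23.PicMul in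
  have hAi := AsympCoh.isInvertible_inverse hA.1 hA'
  have hLL : ∀ l, PicF.IsInvertible ((![L, A'] : Fin 2 → X.Modules) l) := by
    intro l
    fin_cases l
    · exact hL
    · exact hAi
  obtain ⟨C, hC0, hn0, hC⟩ := AsympCoh.exists_abs_sub_le k hn.le hLL i (Nat.cast_nonneg n.factorial)
  have e : ∀ (q : ℕ) (p : ℕ) (P : X.Modules), PicF.cl P = PicF.cl L ^ p * PicF.cl A' ^ q →
      W4c5asymptcohfn.hhat k X n i P = Filter.limsup (AsympCoh.nseq (n.factorial : ℝ) n fun m =>
        CohGrowth.hgt k (![L, A'] : Fin 2 → X.Modules) i (Coh.structureModule X) (fun l => m * ![p, q] l)) Filter.atTop := by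
    intro q p P hP
    unfold W4c5asymptcohfn.hhat AsympCoh.nseq
    congr 1
    funext m
    have h1 : PicF.cl (CohB1.tensorPow P m) =
        PicF.cl (Curv2.tensorPows (Coh.structureModule X) 2 ![L, A'] (fun l => m * ![p, q] l)) := by
      rw [H23.PicMul.cl_tensorPow, hP, IntCoeff.cl_tensorPows, Fin.prod_univ_two,
        show PicF.cl (Coh.structureModule X) = (1 : PicF.Cl X) from H23.PicMul.one_def.symm, _root_.one_mul,
        mul_pow, ← pow_mul, ← pow_mul]
      simp [mul_comm m]
    rw [(CurveCohLib.hhEquiv (k := k) (H23.PicMul.cl_eq_iff.1 h1).some i).finrank_eq]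
    rfl
  have hb : ∀ p : ℕ, |W4c5asymptcohfn.hhat k X n i (CohB1.tensorMod (CohB1.tensorPow L p) A') -
      W4c5asymptcohfn.hhat k X n i (CohB1.tensorPow L p)| ≤ C * ((p : ℝ) + 1) ^ (n - 1) := fun p => by
    rw [e 1 p _ (by rw [H23.PicMul.cl_tensor, H23.PicMul.cl_tensorPow, pow_one]),
      e 0 p _ (by rw [H23.PicMul.cl_tensorPow, pow_zero, _root_.mul_one])]
    refine (hC ![p, 1] ![p, 0]).trans (le_of_eq ?_)
    simp [Fin.sum_univ_two, Nat.dist]
  refine squeeze_zero_norm (a := fun p : ℕ => C * ((p : ℝ) + 1) ^ (n - 1) / (p : ℝ) ^ n) (fun p => ?_) ?_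
  · rw [Real.norm_eq_abs, abs_div, abs_of_nonneg (show (0 : ℝ) ≤ (p : ℝ) ^ n by positivity)]
    exact div_le_div_of_nonneg_right (hb p) (pow_nonneg (Nat.cast_nonneg p) n)
  · rcases n with _ | d
    · simp [hn0 rfl]
    · simp only [Nat.add_sub_cancel]
      have h1 : Filter.Tendsto (fun p : ℕ => C * (1 + 1 / (p : ℝ)) ^ d * (1 / (p : ℝ))) Filter.atTop (nhds 0) := by
        simpa using ((((tendsto_const_nhds (x := (1 : ℝ))).add tendsto_one_div_atTop_nhds_zero_nat).pow d).const_mul C).mul
          tendsto_one_div_atTop_nhds_zero_nat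
      refine h1.congr' ?_
      filter_upwards [Filter.eventually_gt_atTop 0] with p hp
      have : (p : ℝ) ≠ 0 := by exact_mod_cast hp.ne'
      rw [one_add_div this, div_pow, pow_succ]
      field_simp

end Groth.Agent.S17632
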