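import Groth.Statements.S17633
import Groth.Agent.Lib.AsympCoh

set_option autoImplicit false
set_option backward.isDefEq.respectTransparency false
set_option backward.isDefEq.respectTransparency.types false
set_option linter.style.haveILetI false
set_option linter.unusedSectionVars false
set_option maxHeartbeats 400000
universe u
open CategoryTheory CategoryTheory.Limits AlgebraicGeometry
open Variety

namespace Groth.Agent.S17633

/-- Let X be an integral scheme, proper over an uncountable algebraically closed field k of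
characteristic zero and admitting an ample invertible module, of dimension n (the published
statement is over the complex numbers), and let L_1, …, L_r be invertible O_X-modules with inverses
M_1, …, M_r. For a ∈ ℤ^r write L^a = ⊗_j L_j^{a_j} (negative powers taken through the M_j) and ‖a‖ =
max_j |a_j|. Then for every i (the published statement takes 0 ≤ i ≤ n; for i > n both sides vanish)
there is a constant C such that for all a, b ∈ ℤ^r, |ĥ^i(X, L^a) − ĥ^i(X, L^b)| ≤ C · Σ_{q=1}^{n}
max(‖a‖, ‖b‖)^{n−q} · ‖a − b‖^q, where ĥ^i(X, L) = limsup_m dim_k H^i(X, L^{⊗m}) · n!/m^n. (The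
published statement gives this Lipschitz-type estimate for ĥ^i as a function on the rational
Néron–Severi space with any fixed norm, together with its homogeneity of degree n; restricted to the
classes spanned by L_1, …, L_r with the maximum norm on coordinates it reads as here.) -/
theorem result (k : Type u) [Field k] [IsAlgClosed k] [CharZero k] [Uncountable k] (X : Scheme.{u})
    [X.Over (Spec (CommRingCat.of k))] [AlgebraicGeometry.IsIntegral X]
    [IsProper (X ↘ Spec (CommRingCat.of k))] (hproj : ∃ A : X.Modules, CohB1.IsAmple A)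
    (n : ℕ) (hn : topologicalKrullDim X = n)
    (r : ℕ) (L M : Fin r → X.Modules) (hL : ∀ j, PicF.IsInvertible (L j))
    (hM : ∀ j, ClSub.IsInverseOf (L j) (M j)) (i : ℕ) :
    ∃ C : ℝ, ∀ a b : Fin r → ℤ,
      |W4c5asymptcohfn.hhat k X n i (W4c5asymptcohfn.ztwist X L M a) -
          W4c5asymptcohfn.hhat k X n i (W4c5asymptcohfn.ztwist X L M b)| ≤
        C * (Finset.Icc 1 n).sum (fun q =>
          (max ‖(fun j => ((a j : ℤ) : ℝ))‖ ‖(fun j => ((b j : ℤ) : ℝ))‖) ^ (n - q) *
            ‖(fun j => ((a j - b j : ℤ) : ℝ))‖ ^ q) := by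
  obtain ⟨C, hC0, hn0, hC⟩ := AsympCoh.exists_abs_sub_le k hn.le (AsympCoh.append_invertible hL hM) i
    (Nat.cast_nonneg n.factorial)
  refine ⟨C * r * (2 * r) ^ (n - 1), fun a b => ?_⟩
  rw [AsympCoh.hhat_ztwist, AsympCoh.hhat_ztwist]
  refine (hC (AsympCoh.sgn a) (AsympCoh.sgn b)).trans ?_
  rcases Nat.eq_zero_or_pos n with h0 | h0
  · simp [hn0 h0, h0]
  set N := max ‖(fun j => ((a j : ℤ) : ℝ))‖ ‖(fun j => ((b j : ℤ) : ℝ))‖
  set δ := ‖(fun j => ((a j - b j : ℤ) : ℝ))‖
  have hN : 0 ≤ N := le_max_of_le_left (norm_nonneg _)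
  have hS : ((∑ l, max (AsympCoh.sgn a l) (AsympCoh.sgn b l) : ℕ) : ℝ) ≤ 2 * r * N := by
    have h1 : ∑ l, max (AsympCoh.sgn a l) (AsympCoh.sgn b l) ≤ ∑ l, AsympCoh.sgn a l + ∑ l, AsympCoh.sgn b l := by
      rw [← Finset.sum_add_distrib]
      exact Finset.sum_le_sum fun l _ => max_le (Nat.le_add_right _ _) (Nat.le_add_left _ _)
    have h2 := AsympCoh.sum_sgn a
    have h3 := AsympCoh.sum_sgn b
    have h4 : (r : ℝ) * ‖(fun j => ((a j : ℤ) : ℝ))‖ ≤ r * N := mul_le_mul_of_nonneg_left (le_max_left _ _) (Nat.cast_nonneg _)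
    have h5 : (r : ℝ) * ‖(fun j => ((b j : ℤ) : ℝ))‖ ≤ r * N := mul_le_mul_of_nonneg_left (le_max_right _ _) (Nat.cast_nonneg _)
    have h6 := (Nat.cast_le (α := ℝ)).2 h1
    rw [Nat.cast_add] at h6
    linarith
  calc _ ≤ C * (r * δ) * (2 * r * N) ^ (n - 1) := mul_le_mul
          (mul_le_mul_of_nonneg_left (AsympCoh.sum_dist_sgn a b) hC0)
          (pow_le_pow_left₀ (Nat.cast_nonneg _) hS _) (pow_nonneg (Nat.cast_nonneg _) _)
          (mul_nonneg hC0 (mul_nonneg (Nat.cast_nonneg _) (norm_nonneg _)))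
    _ = C * r * (2 * r) ^ (n - 1) * (N ^ (n - 1) * δ ^ 1) := by rw [mul_pow, pow_one]; ring
    _ ≤ _ := mul_le_mul_of_nonneg_left
          (Finset.single_le_sum (f := fun q => N ^ (n - q) * δ ^ q)
            (fun q _ => mul_nonneg (pow_nonneg hN _) (pow_nonneg (norm_nonneg _) _)) (Finset.mem_Icc.2 ⟨le_rfl, h0⟩))
          (by positivity)

end Groth.Agent.S17633
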