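import Groth.Statements.S17634
import Groth.Agent.Lib.AsympCoh

set_option autoImplicit false
set_option backward.isDefEq.respectTransparency false
set_option backward.isDefEq.respectTransparency.types false
set_option linter.style.haveILetI false
set_option linter.unusedSectionVars false
set_option maxHeartbeats 400000
universe u
open CategoryTheory CategoryTheory.Limits AlgebraicGeometry
open Variety

namespace Groth.Agent.S17634

/-- Let X be an integral scheme, proper over an uncountable algebraically closed field k of
characteristic zero and admitting an ample invertible module, of dimension n (stated in the source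
over the complex numbers), and L_1, …, L_r invertible O_X-modules with inverses M_1, …, M_r; for a ∈
ℤ^r write L^a = ⊗_j L_j^{a_j} (negative powers through the M_j) and ‖a‖ = max_j |a_j|. Then for
every i there is a constant C with ĥ^i(X, L^a) ≤ C · ‖a‖^n for all a ∈ ℤ^r, where ĥ^i(X, L) =
limsup_m dim_k H^i(X, L^{⊗m}) · n!/m^n. (The source states the bound for all real classes in the
Néron–Severi space with any fixed norm.) -/
theorem result (k : Type u) [Field k] [IsAlgClosed k] [CharZero k] [Uncountable k] (X : Scheme.{u})
    [X.Over (Spec (CommRingCat.of k))] [AlgebraicGeometry.IsIntegral X]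
    [IsProper (X ↘ Spec (CommRingCat.of k))] (hproj : ∃ A : X.Modules, CohB1.IsAmple A)
    (n : ℕ) (hn : topologicalKrullDim X = n)
    (r : ℕ) (L M : Fin r → X.Modules) (hL : ∀ j, PicF.IsInvertible (L j))
    (hM : ∀ j, ClSub.IsInverseOf (L j) (M j)) (i : ℕ) :
    ∃ C : ℝ, ∀ a : Fin r → ℤ,
      W4c5asymptcohfn.hhat k X n i (W4c5asymptcohfn.ztwist X L M a) ≤
        C * ‖(fun j => ((a j : ℤ) : ℝ))‖ ^ n := by
  obtain ⟨C, hC0, hC⟩ := AsympCoh.exists_le_multi k hn.le (AsympCoh.append_invertible hL hM) i
    (Nat.cast_nonneg n.factorial)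
  refine ⟨C * (r : ℝ) ^ n, fun a => ?_⟩
  rw [AsympCoh.hhat_ztwist]
  refine (hC (AsympCoh.sgn a)).trans ?_
  rw [_root_.mul_assoc, ← mul_pow]
  exact mul_le_mul_of_nonneg_left (pow_le_pow_left₀ (Nat.cast_nonneg _) (AsympCoh.sum_sgn a) n) hC0

end Groth.Agent.S17634
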