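import Groth.Statements.S17635
import Mathlib.Analysis.Normed.Module.Basic

set_option autoImplicit false
open Finset
open Variety

namespace Groth.Agent.S17635

/-- Let r and n be natural numbers and f : ℚ^r → ℝ a nonnegative function which is homogeneous of degree
n for positive rational scalars, f(q · v) = q^n · f(v) for q > 0; give ℚ^r the maximum norm ‖v‖ =
max_j |v_j| of its standard basis. Suppose that for every standard basis vector e_i there is a
constant C_i with |f(v − b · e_i) − f(v)| ≤ C_i · Σ_{q=1}^{n} ‖v‖^{n−q} · b^q for all v ∈ ℚ^r and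
all integers b ≥ 1. Then there is a constant C > 0 such that |f(v) − f(w)| ≤ C · Σ_{q=1}^{n}
max(‖v‖, ‖w‖)^{n−q} · ‖v − w‖^q for all v, w ∈ ℚ^r. (The source allows any norm on an r-dimensional
rational vector space with a chosen basis and argues with the maximum norm of that basis, which is
the case stated here.) -/
theorem result (r n : ℕ) (f : (Fin r → ℚ) → ℝ)
    (hf0 : ∀ v, 0 ≤ f v)
    (hhom : ∀ (q : ℚ) (v : Fin r → ℚ), 0 < q → f (q • v) = (q : ℝ) ^ n * f v)
    (hdir : ∀ i : Fin r, ∃ Ci : ℝ, ∀ (v : Fin r → ℚ) (b : ℕ), 1 ≤ b →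
      |f (v - (b : ℚ) • Pi.single i 1) - f v| ≤
        Ci * (Finset.Icc 1 n).sum (fun q => ‖(fun j => ((v j : ℚ) : ℝ))‖ ^ (n - q) * (b : ℝ) ^ q)) :
    ∃ C : ℝ, 0 < C ∧ ∀ v w : Fin r → ℚ,
      |f v - f w| ≤ C * (Finset.Icc 1 n).sum (fun q =>
        (max ‖(fun j => ((v j : ℚ) : ℝ))‖ ‖(fun j => ((w j : ℚ) : ℝ))‖) ^ (n - q) *
          ‖(fun j => ((v j - w j : ℚ) : ℝ))‖ ^ q) := by
  classical
  choose Ci hCi using hdir
  let nr : (Fin r → ℚ) → ℝ := fun v => ‖(fun j => ((v j : ℚ) : ℝ))‖
  let S : ℝ → ℝ → ℝ := fun M δ => (Finset.Icc 1 n).sum fun q => M ^ (n - q) * δ ^ q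
  have hnr : ∀ v, 0 ≤ nr v := fun v => norm_nonneg _
  have hcoord : ∀ (v : Fin r → ℚ) j, |((v j : ℚ) : ℝ)| ≤ nr v := fun v j =>
    (Real.norm_eq_abs _).symm.le.trans (norm_le_pi_norm (fun j => ((v j : ℚ) : ℝ)) j)
  have hle : ∀ (u : Fin r → ℚ) (M : ℝ), 0 ≤ M → (∀ j, |((u j : ℚ) : ℝ)| ≤ M) → nr u ≤ M := fun u M hM h =>
    (pi_norm_le_iff_of_nonneg hM).2 fun j => (Real.norm_eq_abs _).le.trans (h j)
  have hmono : ∀ M M' δ δ' : ℝ, 0 ≤ M → M ≤ M' → 0 ≤ δ → δ ≤ δ' → S M δ ≤ S M' δ' :=
    fun M M' δ δ' h1 h2 h3 h4 => Finset.sum_le_sum fun q _ => by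
      have : 0 ≤ M' := h1.trans h2
      gcongr
  have hS0 : ∀ M δ : ℝ, 0 ≤ M → 0 ≤ δ → 0 ≤ S M δ := fun M δ h1 h2 =>
    Finset.sum_nonneg fun q _ => by positivity
  let C := 1 + ∑ i, |Ci i|
  have hsum : (0 : ℝ) ≤ ∑ i, |Ci i| := Finset.sum_nonneg fun i _ => abs_nonneg (Ci i)
  refine ⟨C, by simp only [C]; linarith, ?_⟩
  -- the case of an integral difference
  have key : ∀ v w : Fin r → ℚ, (∀ j, ∃ z : ℤ, v j - w j = z) →
      |f v - f w| ≤ C * S (max (nr v) (nr w)) (nr (fun j => v j - w j)) := by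
    intro v w hz
    set M := max (nr v) (nr w)
    set δ := nr (fun j => v j - w j)
    let U : Finset (Fin r) → (Fin r → ℚ) := fun s j => if j ∈ s then w j else v j
    have hU : ∀ s, nr (U s) ≤ M := fun s => hle _ _ ((hnr v).trans (le_max_left _ _)) fun j => by
      show |((if j ∈ s then w j else v j : ℚ) : ℝ)| ≤ M
      split_ifs
      · exact (hcoord w j).trans (le_max_right _ _)
      · exact (hcoord v j).trans (le_max_left _ _)
    have main : ∀ s : Finset (Fin r), |f v - f (U s)| ≤ (∑ i ∈ s, |Ci i|) * S M δ := by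
      intro s
      induction s using Finset.induction with
      | empty => simp [U]
      | insert i s his ih =>
        have hstep : |f (U s) - f (U (insert i s))| ≤ |Ci i| * S M δ := by
          obtain ⟨z, hzi⟩ := hz i
          have hd : |((z : ℚ) : ℝ)| ≤ δ := by
            have := hcoord (fun j => v j - w j) i
            simp only [hzi] at this
            exact this
          have hb : ∀ (P Q : Fin r → ℚ) (b : ℕ), 1 ≤ b → Q = P - (b : ℚ) • Pi.single i 1 → nr P ≤ M →
              (b : ℝ) ≤ δ → |f Q - f P| ≤ |Ci i| * S M δ := by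
            intro P Q b hb1 hQ hP hbδ
            subst hQ
            refine (hCi i P b hb1).trans ?_
            refine mul_le_mul (le_abs_self _) (hmono (nr P) M b δ (hnr P) hP (by positivity) hbδ) ?_ (abs_nonneg _)
            exact hS0 (nr P) b (hnr P) (by positivity)
          have hUi : U s i = v i := by simp [U, his]
          have hins : U (insert i s) = U s - (z : ℚ) • Pi.single i 1 := by
            funext j
            by_cases hj : j = i
            · subst hj
              simp [U, his, ← hzi]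
            · simp [U, hj, Pi.single_apply]
          rcases lt_trichotomy z 0 with hneg | hzero | hpos
          · obtain ⟨b, hb'⟩ : ∃ b : ℕ, (b : ℤ) = -z := ⟨(-z).toNat, Int.toNat_of_nonneg (by omega)⟩
            have hbq : (b : ℚ) = -(z : ℚ) := by exact_mod_cast hb'
            refine hb (U (insert i s)) (U s) b (by omega) ?_ (hU _) ?_
            · rw [hins, hbq, neg_smul, sub_neg_eq_add, sub_add_cancel]
            · refine le_trans (le_of_eq ?_) hd
              have hbr : (b : ℝ) = -((z : ℚ) : ℝ) := by exact_mod_cast hb'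
              rw [abs_of_neg (by exact_mod_cast hneg : ((z : ℚ) : ℝ) < 0), hbr]
          · subst hzero
            rw [hins, Int.cast_zero, zero_smul, sub_zero, sub_self, abs_zero]
            exact mul_nonneg (abs_nonneg _) (hS0 _ _ ((hnr v).trans (le_max_left _ _)) (hnr _))
          · obtain ⟨b, hb'⟩ : ∃ b : ℕ, (b : ℤ) = z := ⟨z.toNat, Int.toNat_of_nonneg hpos.le⟩
            have hbq : (b : ℚ) = (z : ℚ) := by exact_mod_cast hb'
            rw [abs_sub_comm]
            refine hb (U s) (U (insert i s)) b (by omega) (by rw [hins, hbq]) (hU _) ?_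
            have hbr : (b : ℝ) = ((z : ℚ) : ℝ) := by exact_mod_cast hb'
            rw [hbr]
            exact (le_abs_self _).trans hd
        rw [Finset.sum_insert his, add_mul, add_comm]
        exact (abs_sub_le _ _ _).trans (add_le_add ih hstep)
    have huniv : U Finset.univ = w := by funext j; simp [U]
    have h := main Finset.univ
    rw [huniv] at h
    refine h.trans (mul_le_mul_of_nonneg_right ?_ (hS0 _ _ ((hnr v).trans (le_max_left _ _)) (hnr _)))
    show _ ≤ 1 + _
    linarith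
  intro v w
  show |f v - f w| ≤ C * S (max (nr v) (nr w)) (nr (fun j => v j - w j))
  let N : ℕ := ∏ j, (v j - w j).den
  have hN : 0 < N := Finset.prod_pos fun j _ => (v j - w j).den_pos
  have hz : ∀ j, ∃ z : ℤ, ((N : ℚ) • v) j - ((N : ℚ) • w) j = z := fun j => by
    obtain ⟨c, hc⟩ : (v j - w j).den ∣ N := Finset.dvd_prod_of_mem _ (Finset.mem_univ j)
    refine ⟨(v j - w j).num * c, ?_⟩
    rw [Pi.smul_apply, Pi.smul_apply, smul_eq_mul, smul_eq_mul, ← mul_sub, hc, Nat.cast_mul,
      Int.cast_mul, Int.cast_natCast, mul_right_comm, mul_comm ((v j - w j).den : ℚ), Rat.mul_den_eq_num]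
  have h := key ((N : ℚ) • v) ((N : ℚ) • w) hz
  have hNq : (0 : ℚ) < N := by exact_mod_cast hN
  have hNr : (0 : ℝ) < N := by exact_mod_cast hN
  have hscale : ∀ u : Fin r → ℚ, nr ((N : ℚ) • u) = N * nr u := fun u => by
    show ‖_‖ = _
    rw [show (fun j => ((((N : ℚ) • u) j : ℚ) : ℝ)) = (N : ℝ) • (fun j => ((u j : ℚ) : ℝ)) by
      funext j; simp, norm_smul, Real.norm_natCast]
  have hd : nr (fun j => ((N : ℚ) • v) j - ((N : ℚ) • w) j) = N * nr (fun j => v j - w j) := by
    rw [← hscale]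
    exact congrArg nr (funext fun j => by simp [mul_sub])
  rw [hhom _ _ hNq, hhom _ _ hNq, hscale, hscale, hd, ← mul_max_of_nonneg _ _ hNr.le, Rat.cast_natCast,
    ← mul_sub, abs_mul, abs_of_pos (pow_pos hNr n)] at h
  have hhomS : ∀ M δ : ℝ, S ((N : ℝ) * M) ((N : ℝ) * δ) = (N : ℝ) ^ n * S M δ := fun M δ => by
    show Finset.sum _ _ = _ * Finset.sum _ _
    rw [Finset.mul_sum]
    refine Finset.sum_congr rfl fun q hq => ?_
    obtain ⟨-, hq2⟩ := Finset.mem_Icc.1 hq
    have hp : (N : ℝ) ^ n = (N : ℝ) ^ (n - q) * (N : ℝ) ^ q := by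
      rw [← pow_add, Nat.sub_add_cancel hq2]
    rw [mul_pow, mul_pow, hp]
    ring
  rw [hhomS, mul_left_comm C] at h
  exact le_of_mul_le_mul_left h (pow_pos hNr n)

end Groth.Agent.S17635
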