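import Groth.Statements.S17637
import Groth.Agent.Lib.NumTrivVanish
import Groth.Agent.AmpleVan.FinGen
import Groth.Agent.BlowPointH1.Sections
import Groth.Agent.VAmpleX.Segre
import Groth.Agent.VAmpleX.Immersion
import Groth.Agent.VAmpleX.Eventually

set_option autoImplicit false
set_option backward.isDefEq.respectTransparency false
set_option backward.isDefEq.respectTransparency.types false
set_option linter.style.haveILetI false
set_option linter.unusedSectionVars false
set_option maxHeartbeats 400000
universe u
open CategoryTheory CategoryTheory.Limits AlgebraicGeometry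
open Variety

namespace Groth.Agent.S17637

/-- Let X be an integral scheme, proper over an algebraically closed field k of characteristic zero and
admitting an ample invertible module (the published statement is over the complex numbers). Then
there is a very ample invertible O_X-module A — A ≅ i^*O(1) for an immersion i : X → P^N_k over k —
such that A ⊗ N is again very ample for every invertible O_X-module N which is numerically
equivalent to zero. (The published statement also provides one flat family over a quasi-projective
base whose fibres include every divisor of every |A ⊗ N|; that clause is not stated here.) -/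
theorem result (k : Type u) [Field k] [IsAlgClosed k] [CharZero k] (X : Scheme.{u})
    [X.Over (Spec (CommRingCat.of k))] [AlgebraicGeometry.IsIntegral X]
    [IsProper (X ↘ Spec (CommRingCat.of k))] (hproj : ∃ A : X.Modules, CohB1.IsAmple A) :
    ∃ A : X.Modules, PicF.IsInvertible A ∧
      RelAmple.IsRelVeryAmplePn (X ↘ Spec (CommRingCat.of k)) A ∧
      ∀ N : X.Modules, PicF.IsInvertible N → Pic13.IsNumEquivZero k X N →
        RelAmple.IsRelVeryAmplePn (X ↘ Spec (CommRingCat.of k)) (CohB1.tensorMod A N) := by
  haveI := Groth.Agent.CurveCohLib.isNoetherian_of_proper (k := k) (X := X)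
  obtain ⟨H, hH⟩ := hproj
  obtain ⟨d₀, hd₀⟩ := Groth.Agent.NumTrivTw.exists_generated k hH
  obtain ⟨n₀, hn₀⟩ := Groth.Agent.VAmpleX.eventually_veryAmple (X ↘ Spec (CommRingCat.of k)) hH
    Groth.Agent.InvX.isInvertible_structureModule
  have hgen : ∀ N : X.Modules, PicF.IsInvertible N → Pic13.IsNumEquivZero k X N → ∀ M : X.Modules,
      PicF.cl M = PicF.cl (CohB1.tensorMod (CohB1.tensorMod (CohB1.tensorPow H n₀) (Coh.structureModule X))
        (CohB1.tensorMod (CohB1.tensorPow H d₀) N)) →
      RelAmple.IsRelVeryAmplePn (X ↘ Spec (CommRingCat.of k)) M := by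
    intro N hN hNT M hM
    have hG := Groth.Agent.InvX.isInvertible_tensorMod (Groth.Agent.InvX.isInvertible_tensorPow hH.1 d₀) hN
    obtain ⟨κ, s, hs⟩ := Groth.Agent.BlowPointH1.exists_generatedBy (hd₀ d₀ le_rfl N ⟨hN, hNT⟩)
    obtain ⟨m, j, hj⟩ := Groth.Agent.AmpleVan.exists_fin_generatedBy (Groth.Agent.AmpleVan.isCoh_invertible hG) s hs
    exact Groth.Agent.VAmpleX.isRelVeryAmplePn_of_iso _ (Groth.Agent.H23.PicMul.cl_eq_iff.1 hM.symm).some
      (Groth.Agent.VAmpleX.isRelVeryAmplePn_tensor_generated _
        (Groth.Agent.InvX.isInvertible_tensorMod (Groth.Agent.InvX.isInvertible_tensorPow hH.1 n₀)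
          Groth.Agent.InvX.isInvertible_structureModule) (hn₀ n₀ le_rfl) hG (s ∘ j) hj)
  refine ⟨CohB1.tensorPow H (n₀ + d₀), Groth.Agent.InvX.isInvertible_tensorPow hH.1 _,
    hgen _ Groth.Agent.InvX.isInvertible_structureModule (Groth.Agent.Pic13Lib.NumTriv.isNT_one k).2 _ ?_,
    fun N hN hNT => hgen N hN hNT _ ?_⟩
  all_goals open scoped Groth.Agent.H23.PicMul in
    simp only [Groth.Agent.H23.PicMul.cl_tensor, Groth.Agent.H23.PicMul.cl_tensorPow,
      ← Groth.Agent.H23.PicMul.one_def, mul_one, pow_add]
  all_goals open scoped Groth.Agent.H23.PicMul in exact mul_assoc _ _ _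

end Groth.Agent.S17637
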