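import Groth.Statements.S17642
import Groth.Agent.PnLight.Chart
import Groth.Agent.PnCoh.Chow.Proper
-- import your own Groth.Agent.* helpers here

set_option autoImplicit false
universe u
open CategoryTheory AlgebraicGeometry
open DerSch

namespace Groth.Agent.S17642

open Limits

theorem exists_hom_appTop {W Z : Scheme.{u}} [IsAffine Z] (φ : Γ(Z, ⊤) ⟶ Γ(W, ⊤)) :
    ∃ q : W ⟶ Z, q.appTop = φ := by
  refine ⟨W.toSpecΓ ≫ Spec.map φ ≫ Z.isoSpec.inv, ?_⟩
  simp [Scheme.isoSpec]

/-- Consider Noetherian schemes X and Y together with a morphism f : X ⟶ Y that is locally of finite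
type. Given affine open subsets U ⊆ X and V ⊆ Y such that f(U) ⊆ V, the restriction of f to U can be
written as a composite U ⟶ W ⟶ P ⟶ Y in which the first map U ⟶ W is an open immersion, the middle
map W ⟶ P is a closed immersion, and the last map P ⟶ Y is both smooth and proper. In the published
section every morphism is taken to be separated as a standing convention; since the printed proof
never uses this, no separatedness hypothesis appears here. -/
theorem result {X Y : Scheme.{u}}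
    [IsNoetherian X] [IsNoetherian Y] (f : X ⟶ Y) [LocallyOfFiniteType f]
    (U : X.Opens) (hU : IsAffineOpen U) (V : Y.Opens) (hV : IsAffineOpen V) (hUV : U ≤ f ⁻¹ᵁ V) :
    ∃ (W P : Scheme.{u}) (g : (U : Scheme.{u}) ⟶ W) (h : W ⟶ P) (k : P ⟶ Y),
      IsOpenImmersion g ∧ IsClosedImmersion h ∧ Smooth k ∧ IsProper k ∧ g ≫ h ≫ k = U.ι ≫ f := by
  classical
  haveI : IsAffine (V : Scheme.{u}) := hV
  haveI : IsAffine (U : Scheme.{u}) := hU
  let r : (U : Scheme.{u}) ⟶ (V : Scheme.{u}) := f.resLE V U hUV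
  have hr : r ≫ V.ι = U.ι ≫ f := Scheme.Hom.resLE_comp_ι f hUV
  haveI : LocallyOfFiniteType r := inferInstance
  have hft : r.appTop.hom.FiniteType :=
    (HasRingHomProperty.iff_of_isAffine (P := @LocallyOfFiniteType)).1 inferInstance
  letI := r.appTop.hom.toAlgebra
  obtain ⟨n, ψ, hψ⟩ := Algebra.FiniteType.iff_quotient_mvPolynomial''.1
    (show Algebra.FiniteType Γ((V : Scheme.{u}), ⊤) Γ((U : Scheme.{u}), ⊤) from hft)
  let D0 : (CohB1.ProjSpace n (ULift.{u} ℤ)).Opens := PnLight.D n (ULift.{u} ℤ) 0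
  have hD0 : IsAffineOpen D0 := PnLight.isAffineOpen_D n (ULift.{u} ℤ) 0
  haveI : IsAffine (D0 : Scheme.{u}) := hD0
  -- the coordinate map of the chart
  letI := (PnLight.str n (ULift.{u} ℤ) 0).toAlgebra
  let e := RingEquiv.ofBijective (MvPolynomial.aeval (R := Γ(Spec (CommRingCat.of (ULift.{u} ℤ)), ⊤))
      fun k => PnLight.a n (ULift.{u} ℤ) 0 (Fin.succAbove 0 k)).toRingHom
    (PnLight.aeval_bijective n (ULift.{u} ℤ) 0)
  let c : Γ(Spec (CommRingCat.of (ULift.{u} ℤ)), ⊤) →+* Γ((U : Scheme.{u}), ⊤) :=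
    ((Int.castRingHom _).comp ULift.ringEquiv.toRingHom).comp
      (Scheme.ΓSpecIso (CommRingCat.of (ULift.{u} ℤ))).hom.hom
  let φ : Γ(CohB1.ProjSpace n (ULift.{u} ℤ), D0) →+* Γ((U : Scheme.{u}), ⊤) :=
    (MvPolynomial.eval₂Hom c fun k => ψ (MvPolynomial.X k)).comp e.symm.toRingHom
  obtain ⟨q, hq⟩ := exists_hom_appTop (W := (U : Scheme.{u})) (Z := (D0 : Scheme.{u}))
    (D0.topIso.hom ≫ CommRingCat.ofHom φ)
  have hX : ∀ k, ψ (MvPolynomial.X k) ∈ q.appTop.hom.range := fun k => by
    refine ⟨D0.topIso.inv (e (MvPolynomial.X k)), ?_⟩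
    rw [hq, CommRingCat.comp_apply, Iso.inv_hom_id_apply]
    change MvPolynomial.eval₂Hom c (fun k => ψ (MvPolynomial.X k)) (e.symm (e (MvPolynomial.X k))) = _
    rw [RingEquiv.symm_apply_apply, MvPolynomial.eval₂Hom_X']
  -- map to the affine open of the projective space over `Y`
  let Z := pullback (D0.ι ≫ CohB1.ProjSpace.toSpec n (ULift.{u} ℤ))
    (specULiftZIsTerminal.from (V : Scheme.{u}))
  haveI : IsAffine Z := by
    dsimp only [Z]; infer_instance
  let g₀ : (U : Scheme.{u}) ⟶ Z := pullback.lift q r (specULiftZIsTerminal.hom_ext _ _)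
  haveI : IsClosedImmersion g₀ := IsClosedImmersion.of_surjective_of_isAffine g₀ (by
    intro z
    change z ∈ g₀.appTop.hom.range
    obtain ⟨p, rfl⟩ := hψ z
    induction p using MvPolynomial.induction_on with
    | C a =>
      refine ⟨(pullback.snd _ _ : Z ⟶ _).appTop a, ?_⟩
      rw [MvPolynomial.C_eq_smul_one, map_smul, map_one, Algebra.smul_def, mul_one]
      change (g₀ ≫ pullback.snd _ _).appTop a = r.appTop a
      simp only [g₀, pullback.lift_snd]
    | add a b ha hb => rw [map_add]; exact add_mem ha hb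
    | mul_X a k ha =>
      rw [map_mul]
      refine mul_mem ha ?_
      obtain ⟨w, hw⟩ := hX k
      refine ⟨(pullback.fst _ _ : Z ⟶ _).appTop w, ?_⟩
      rw [← hw]
      change (g₀ ≫ pullback.fst _ _).appTop w = q.appTop w
      simp only [g₀, pullback.lift_fst])
  let m : Z ⟶ CohB1.ProjSpaceOver n Y := pullback.map _ _ _ _ D0.ι V.ι (𝟙 _)
    (by simp) (specULiftZIsTerminal.hom_ext _ _)
  haveI : IsOpenImmersion m :=
    Scheme.pullback_map_isOpenImmersion _ _ _ _ D0.ι V.ι (𝟙 _) (by simp) (specULiftZIsTerminal.hom_ext _ _)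
  let i := g₀ ≫ m
  have hi : i ≫ CohB1.ProjSpaceOver.toBase n Y = U.ι ≫ f := by
    rw [← hr]
    change (pullback.lift q r _ ≫ pullback.map _ _ _ _ D0.ι V.ι (𝟙 _) _ _) ≫ pullback.snd _ _ = _
    rw [Category.assoc, pullback.map, pullback.lift_snd, pullback.lift_snd_assoc]
  haveI hprop : IsProper (CohB1.ProjSpaceOver.toBase n Y) := by
    haveI := PnCoh.Chow.isProper_toSpec n (ULift.{u} ℤ)
    exact MorphismProperty.pullback_snd _ _ inferInstance
  haveI hsm : Smooth (CohB1.ProjSpaceOver.toBase n Y) := by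
    haveI : Smooth (CohB1.ProjSpace.toSpec n (ULift.{u} ℤ)) :=
      SmoothOfRelativeDimension.smooth n _
    exact MorphismProperty.pullback_snd _ _ inferInstance
  haveI : QuasiCompact (i ≫ CohB1.ProjSpaceOver.toBase n Y) := by
    rw [hi]; infer_instance
  haveI : QuasiCompact i := QuasiCompact.of_comp i (CohB1.ProjSpaceOver.toBase n Y)
  obtain ⟨W, g, h, hg, hh, e⟩ := IsImmersion.isImmersion_iff_exists_of_quasiCompact.1
    (by dsimp only [i]; infer_instance : IsImmersion i)
  refine ⟨W, _, g, h, CohB1.ProjSpaceOver.toBase n Y, hg, hh, hsm, hprop, ?_⟩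
  rw [← Category.assoc, e, hi]

end Groth.Agent.S17642
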