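import Groth.Statements.S17643
import Groth.Agent.S17642
import Groth.Agent.KSixRel.AmpSmooth
import Groth.Agent.RelPC17.JacFibre
import Groth.Agent.PicClLib.Basic
import Groth.Prelude.Def_DerSch2
-- import your own Groth.Agent.* helpers here

set_option autoImplicit false
universe u
open CategoryTheory AlgebraicGeometry
attribute [local instance] HasDerivedCategory.standard
open DerSch

namespace Groth.Agent.S17643

set_option linter.style.haveILetI false
set_option backward.isDefEq.respectTransparency false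
set_option backward.isDefEq.respectTransparency.types false

attribute [local instance] HasDerivedCategory.standard

open Limits Groth.Agent.KSixRel Groth.Agent.KFlatLib Groth.Agent.RelPC17 Groth.Agent.H9Misc.DRingTor

/-- Along a smooth morphism tor amplitude over the base gives tor amplitude over the local ring of the
source, losing a bounded amount. -/
theorem amp_stalk_near {X Y : Scheme.{u}} (g : X ⟶ Y) [Smooth g] (x₀ : X) :
    ∃ (O : X.Opens) (n : ℕ), x₀ ∈ O ∧ ∀ x ∈ O, ∀ (a b : ℤ) (K : DRing.Cx (X.presheaf.stalk x)),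
      DRing.HasTorAmplitudeIn (Y.presheaf.stalk (g x)) a b
        (DRing.toD ((DRing.restrictCx (g.stalkMap x).hom).obj K)) →
      DRing.HasTorAmplitudeIn (X.presheaf.stalk x) (a - n) b (DRing.toD K) := by
  obtain ⟨U, hU, V, hV, hx₀, e, hs⟩ := (Smooth.iff_forall_exists_isStandardSmooth g).mp inferInstance x₀
  obtain ⟨n, hn⟩ : ∃ n, (g.appLE U V e).hom.IsStandardSmoothOfRelativeDimension n := by
    letI := (g.appLE U V e).hom.toAlgebra
    haveI : Algebra.IsStandardSmooth Γ(Y, U) Γ(X, V) := hs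
    obtain ⟨ι, σ, hσ, hι, ⟨P⟩⟩ := ‹Algebra.IsStandardSmooth Γ(Y, U) Γ(X, V)›.out
    exact ⟨P.dimension, ⟨ι, σ, hσ, hι, P, rfl⟩⟩
  obtain ⟨q, hqC, hq⟩ := hn.exists_etale_mvPolynomial
  refine ⟨V, n, hx₀, fun x hxV a b K h => ?_⟩
  let ρ : Γ(Y, U) →+* Y.presheaf.stalk (g x) := (Y.presheaf.germ U (g x) (e hxV)).hom
  let τ : Γ(X, V) →+* X.presheaf.stalk x := (X.presheaf.germ V x hxV).hom
  have hρ : ρ.Flat := by
    letI := Y.presheaf.algebra_section_stalk ⟨g x, e hxV⟩
    haveI := IsAffineOpen.isLocalization_stalk hU ⟨g x, e hxV⟩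
    exact IsLocalization.flat (Y.presheaf.stalk (g x)) (IsAffineOpen.primeIdealOf hU ⟨g x, e hxV⟩).asIdeal.primeCompl
  have hτ : letI := τ.toAlgebra; Algebra.WeaklyEtale Γ(X, V) (X.presheaf.stalk x) := by
    letI := X.presheaf.algebra_section_stalk ⟨x, hxV⟩
    haveI := IsAffineOpen.isLocalization_stalk hV ⟨x, hxV⟩
    exact weaklyEtale_of_isLocalization (IsAffineOpen.primeIdealOf hV ⟨x, hxV⟩).asIdeal.primeCompl
  have hsq : (g.stalkMap x).hom.comp ρ = τ.comp (g.appLE U V e).hom := by
    refine RingHom.ext fun r => ?_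
    show g.stalkMap x (Y.presheaf.germ U (g x) (e hxV) r) = X.presheaf.germ V x hxV ((g.appLE U V e).hom r)
    rw [Scheme.Hom.germ_stalkMap_apply]
    exact (X.presheaf.germ_res_apply (homOfLE e) x hxV (g.app U r)).symm
  have h₁ : DRing.HasTorAmplitudeIn Γ(Y, U) a b (DRing.toD ((DRing.restrictCx MvPolynomial.C).obj
      ((DRing.restrictCx q).obj ((DRing.restrictCx τ).obj K)))) := by
    rw [amp_res_comp _ q (g.appLE U V e).hom hqC.symm, amp_res_comp _ τ _ hsq]
    exact (amp_res_comp ρ _ _ rfl K).1 (amp_res_flat ρ hρ _ h)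
  have h₂ := amp_mvPolynomial Γ(Y, U) n a b _ h₁
  have hq' : letI := q.toAlgebra; Algebra.WeaklyEtale (MvPolynomial (Fin n) Γ(Y, U)) Γ(X, V) := by
    letI := q.toAlgebra
    haveI : Algebra.Etale (MvPolynomial (Fin n) Γ(Y, U)) Γ(X, V) := hq
    infer_instance
  exact amp_of_we τ hτ K (amp_of_we q hq' _ h₂)


/-- Let f : X ⟶ Y be a morphism of finite type between Noetherian schemes which is of finite
Tor-dimension (the structure sheaf of X, placed in degree 0, has finite tor amplitude stalkwise over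
the local rings of Y), U ⊆ X an affine open subset and V ⊆ Y an affine open subset with f(U) ⊆ V.
Then the restriction of f to U factors as U ⟶ W ⟶ Y with U ⟶ W a closed immersion of finite
Tor-dimension and W ⟶ Y smooth. The published section's standing conventions also take all morphisms
separated; the printed argument does not use this, so separatedness is not assumed here. -/
theorem result {X Y : Scheme.{u}}
    [IsNoetherian X] [IsNoetherian Y] (f : X ⟶ Y) [LocallyOfFiniteType f] (hf : DerSch.HasFiniteTorDim f)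
    (U : X.Opens) (hU : IsAffineOpen U) (V : Y.Opens) (hV : IsAffineOpen V) (hUV : U ≤ f ⁻¹ᵁ V) :
    ∃ (W : Scheme.{u}) (g : (U : Scheme.{u}) ⟶ W) (h : W ⟶ Y),
      IsClosedImmersion g ∧ DerSch.HasFiniteTorDim g ∧ Smooth h ∧ g ≫ h = U.ι ≫ f := by
  classical
  obtain ⟨W', P, g₁, h₁, hP, hg₁, hh₁, hs, -, e⟩ := Groth.Agent.S17642.result f U hU V hV hUV
  haveI := hg₁
  haveI := hh₁
  haveI := hs
  let i : (U : Scheme.{u}) ⟶ P := g₁ ≫ h₁
  haveI : IsImmersion i := inferInstanceAs (IsImmersion (g₁ ≫ h₁))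
  let g : (U : Scheme.{u}) ⟶ (i.coborderRange : Scheme.{u}) := i.liftCoborder
  let h := i.coborderRange.ι ≫ hP
  have hgh : g ≫ h = U.ι ≫ f := by
    show i.liftCoborder ≫ i.coborderRange.ι ≫ hP = _
    rw [← Category.assoc, i.liftCoborder_ι, Category.assoc, e]
  haveI hsmooth : Smooth h := inferInstanceAs (Smooth (i.coborderRange.ι ≫ hP))
  refine ⟨_, g, h, inferInstanceAs (IsClosedImmersion i.liftCoborder), ?_, hsmooth, hgh⟩
  obtain ⟨a, b, hab⟩ := hf
  choose O n hO hn using amp_stalk_near h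
  haveI : CompactSpace (U : Scheme.{u}) := isCompact_iff_compactSpace.1 hU.isCompact
  obtain ⟨t, ht⟩ := (isCompact_range g.continuous).elim_finite_subcover
    (fun w : (i.coborderRange : Scheme.{u}) => (O w : Set (i.coborderRange : Scheme.{u})))
    (fun w => (O w).isOpen) (fun w _ => Set.mem_iUnion.mpr ⟨w, hO w⟩)
  refine ⟨a - (t.sup n : ℕ), b, fun u => ?_⟩
  obtain ⟨w, hw, hgu⟩ := Set.mem_iUnion₂.mp (ht ⟨u, rfl⟩)
  have h₀ : DerSch.HasTorAmplitudeAt (g ≫ h) a b (DerSch.unitCx (U : Scheme.{u})) u := by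
    rw [hgh]
    obtain ⟨e₀⟩ := Groth.Agent.PicClLib.nonempty_pullback_structureModule U.ι
    let e₁ : (pullCx U.ι).obj (DerSch.unitCx X) ≅ DerSch.unitCx (U : Scheme.{u}) :=
      (HomologicalComplex.singleMapHomologicalComplex (Scheme.Modules.pullback U.ι) (ComplexShape.up ℤ) 0).app _ ≪≫
        (HomologicalComplex.single _ (ComplexShape.up ℤ) 0).mapIso e₀
    exact of_iso (DerivedCategory.Q.mapIso ((DerSch.stalkCxOver (U.ι ≫ f) u).mapIso e₁))
      ((JacFibre.hasTorAmplitudeAt_pullCx_iff U.ι f (DerSch.unitCx X) u a b).1 (hab _))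
  let G := DerSch.unitCx (U : Scheme.{u})
  let K₀ : DRing.Cx ((U : Scheme.{u}).presheaf.stalk u) :=
    ((DerSch.stalkFunctor (U : Scheme.{u}) u).mapHomologicalComplex (ComplexShape.up ℤ)).obj G
  let e₁ := (Functor.mapHomologicalComplexCompIso (F := DerSch.stalkFunctor (U : Scheme.{u}) u)
    (G := ModuleCat.restrictScalars (g.stalkMap u).hom) (Iso.refl (DerSch.stalkOver g u))
    (ComplexShape.up ℤ)).app G
  let e₂ := (Functor.mapHomologicalComplexCompIso (F := DerSch.stalkFunctor (U : Scheme.{u}) u)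
    (G := ModuleCat.restrictScalars ((g ≫ h).stalkMap u).hom) (Iso.refl (DerSch.stalkOver (g ≫ h) u))
    (ComplexShape.up ℤ)).app G
  have h₁ := hn w (g u) hgu a b ((DRing.restrictCx (g.stalkMap u).hom).obj K₀)
    ((amp_res_comp (h.stalkMap (g u)).hom (g.stalkMap u).hom ((g ≫ h).stalkMap u).hom
      (by rw [Scheme.Hom.stalkMap_comp]; rfl) K₀).2 (of_iso (DerivedCategory.Q.mapIso e₂.symm) h₀))
  exact mono (by have := Finset.le_sup (f := n) hw; omega) le_rfl (of_iso (DerivedCategory.Q.mapIso e₁) h₁)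

end Groth.Agent.S17643
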