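import Groth.Statements.S17644
import Groth.Agent.GabLib.Closed
-- import your own Groth.Agent.* helpers here

set_option autoImplicit false
universe w v u
open CategoryTheory CategoryTheory.Limits
open GabLoc

namespace Groth.Agent.S17644

/-- Let C be a Grothendieck abelian category and P a class of objects of C closed under subobjects,
quotient objects and coproducts (indexed by any small type). For an object M, the following are
equivalent: M is closed for the localizing closure of P (the smallest Serre class containing P and
closed under coproducts), i.e. every morphism to M from an object of that closure is zero and every
short exact sequence 0 ⟶ M ⟶ N ⟶ Y ⟶ 0 with Y in the closure splits; and the same two conditions for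
the objects of P only, i.e. Hom(X, M) = 0 and Ext¹(X, M) = 0 for all X in P. -/
theorem result {C : Type u} [Category.{v} C] [Abelian C]
    [IsGrothendieckAbelian.{w} C] (P : ObjectProperty C) [P.IsClosedUnderSubobjects] [P.IsClosedUnderQuotients]
    (hP : ∀ J : Type w, P.IsClosedUnderColimitsOfShape (Discrete J)) (M : C) :
    GabLoc.IsClosedFor (GabLoc.locClosure.{w} P) M ↔ GabLoc.IsClosedFor P M := Groth.Agent.GabLib.isClosedFor_locClosure_iff P M

end Groth.Agent.S17644
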