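import Groth.Statements.S17646
import Groth.Agent.GabLib.Uniform
-- import your own Groth.Agent.* helpers here

set_option autoImplicit false
universe w v u
open CategoryTheory CategoryTheory.Limits
open GabLoc

namespace Groth.Agent.S17646

/-- Let C be a Grothendieck abelian category, E an indecomposable injective object of C (E is nonzero
and whenever E ≅ A ⊞ B one of A, B is zero) and S₁, S₂ localizing classes of objects (Serre classes
closed under coproducts). If there are an object of S₁ with a nonzero morphism to E and an object of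
S₂ with a nonzero morphism to E, then there is an object belonging to both S₁ and S₂ with a nonzero
morphism to E. Thus, on the set of isomorphism classes of indecomposable injectives, the subsets of
those having S-torsion, S localizing, are closed under finite intersections (they are also closed
under unions, and form a topology). The published definition of the injective spectrum says
injective objects without the word indecomposable; the published proof of this step uses that each
point of the spectrum is uniform, which is the indecomposable reading taken here. -/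
theorem result {C : Type u} [Category.{v} C] [Abelian C]
    [IsGrothendieckAbelian.{w} C] (E : C) [Injective E] (hE : ¬ IsZero E)
    (hind : ∀ (A B : C), Nonempty (E ≅ A ⊞ B) → IsZero A ∨ IsZero B)
    (S₁ S₂ : ObjectProperty C) (h₁ : GabLoc.IsLocalizing.{w} S₁) (h₂ : GabLoc.IsLocalizing.{w} S₂)
    (ht₁ : GabLoc.HasTorsion S₁ E) (ht₂ : GabLoc.HasTorsion S₂ E) :
    GabLoc.HasTorsion (S₁ ⊓ S₂) E := by
  obtain ⟨Y₁, hY₁, f₁, hf₁⟩ := ht₁
  obtain ⟨Y₂, hY₂, f₂, hf₂⟩ := ht₂
  haveI := h₁.isSerreClass
  haveI := h₂.isSerreClass
  have hA₁ : S₁ (image f₁) := S₁.prop_of_epi (factorThruImage f₁) hY₁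
  have hA₂ : S₂ (image f₂) := S₂.prop_of_epi (factorThruImage f₂) hY₂
  let a₁ := image.ι f₁
  let a₂ := image.ι f₂
  let k := kernel.ι (a₁ ≫ cokernel.π a₂)
  by_cases hk : k ≫ a₁ = 0
  · exfalso
    have hk0 : k = 0 := by rw [← cancel_mono a₁, hk, zero_comp]
    obtain ⟨A, B, e, l₁, l₂, hl₁, hl₂⟩ := Groth.Agent.GabLib.exists_summand E a₁ a₂
      (Abelian.mono_of_kernel_ι_eq_zero _ hk0)
    rcases hind A B ⟨e⟩ with hA | hB
    · apply hf₁
      rw [← image.fac f₁, (IsZero.of_mono l₁ hA).eq_of_src (image.ι f₁) 0, comp_zero]
    · apply hf₂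
      rw [← image.fac f₂, (IsZero.of_mono l₂ hB).eq_of_src (image.ι f₂) 0, comp_zero]
  · refine ⟨kernel (a₁ ≫ cokernel.π a₂), ⟨S₁.prop_of_mono k hA₁, ?_⟩, k ≫ a₁, hk⟩
    let l := Abelian.monoLift a₂ (k ≫ a₁) (by rw [Category.assoc]; exact kernel.condition _)
    haveI : Mono l := mono_of_mono_fac (Abelian.monoLift_comp a₂ (k ≫ a₁) _)
    exact S₂.prop_of_mono l hA₂

end Groth.Agent.S17646
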