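import Groth.Statements.S17647
import Groth.Agent.QCohAb.Basic
import Groth.Agent.QCoh.Qcqs
import Mathlib.CategoryTheory.Localization.Adjunction
import Mathlib.CategoryTheory.Adjunction.Restrict

set_option autoImplicit false
universe u
open CategoryTheory CategoryTheory.Limits AlgebraicGeometry
open QCohCat

namespace Groth.Agent.S17647

/-- Let X be a scheme and U ⊆ X an open subset whose inclusion U ⟶ X is quasi-compact, Z = X ∖ U. Then
the restriction functor QCoh(X) ⥤ QCoh(U) between the categories of quasi-coherent modules is a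
localization functor for the class of morphisms of quasi-coherent O_X-modules whose kernel and
cokernel (computed in O_X-modules) have support contained in Z: the category QCoh(U) is the quotient
of QCoh(X) by the localizing subcategory of quasi-coherent modules supported in Z, the direct image
along U ⟶ X being the fully faithful right adjoint. No hypothesis is made on X beyond the
quasi-compactness of U ⟶ X. -/
theorem result (X : Scheme.{u})
    (U : X.Opens) [QuasiCompact U.ι] :
    (ObjectProperty.lift (QCohCat.isQCoh (↑U : Scheme.{u}))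
        (ObjectProperty.ι (QCohCat.isQCoh X) ⋙ Scheme.Modules.restrictFunctor U.ι)
        (fun M => @Scheme.Modules.isQuasicoherent_restrictFunctor (↑U : Scheme.{u}) X U.ι
          inferInstance M.obj M.property)).IsLocalization
      (fun (A B : QCohCat.QCoh X) (f : A ⟶ B) =>
        CohB1.support (kernel f.hom) ⊆ (↑U : Set X)ᶜ ∧
          CohB1.support (cokernel f.hom) ⊆ (↑U : Set X)ᶜ) := by
  have key : ∀ M : X.Modules, IsZero ((Scheme.Modules.restrictFunctor U.ι).obj M) ↔
      CohB1.support M ⊆ (↑U : Set X)ᶜ := by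
    intro M
    have hsec : IsZero ((Scheme.Modules.restrictFunctor U.ι).obj M) ↔ ∀ W : X.Opens, W ≤ U → ∀ s : Γ(M, W), s = 0 := by
      refine ⟨fun h W hW s => ?_, fun h => IsZero.iff_id_eq_zero _ |>.2 (Scheme.Modules.hom_ext _ _ fun W => ?_)⟩
      · have he : U.ι ''ᵁ (U.ι ⁻¹ᵁ W) = W := by
          rw [Scheme.Hom.image_preimage_eq_opensRange_inf, Scheme.Opens.opensRange_ι]
          exact inf_eq_right.2 hW
        refine (ConcreteCategory.bijective_of_isIso (M.presheaf.map (eqToHom he).op)).1 ?_
        rw [map_zero]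
        exact congr(($((IsZero.iff_id_eq_zero _).1 h)).app (U.ι ⁻¹ᵁ W) (M.presheaf.map (eqToHom he).op s))
      · ext s
        exact h _ ((Scheme.Hom.image_le_opensRange _ _).trans (Scheme.Opens.opensRange_ι U).le) s
    rw [hsec]
    refine ⟨fun h x hx hxU => hx (subsingleton_of_forall_eq 0 fun t => ?_), fun h W hW s => ?_⟩
    · obtain ⟨W, hxW, s, rfl⟩ := TopCat.Presheaf.germ_exist M.presheaf t
      have h1 := M.presheaf.germ_res_apply (homOfLE (inf_le_left : W ⊓ U ≤ W)) x ⟨hxW, hxU⟩ s
      refine h1.symm.trans ?_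
      refine (congrArg _ (h (W ⊓ U) inf_le_right (M.presheaf.map (homOfLE (inf_le_left : W ⊓ U ≤ W)).op s))).trans ?_
      exact map_zero _
    · refine QCoh.eq_zero_of_locally W s fun p hp => ?_
      have hsub : Subsingleton (M.presheaf.stalk p) := not_not.1 fun hn => h hn (hW hp)
      obtain ⟨V, hpV, i, j, hij⟩ := TopCat.Presheaf.germ_eq M.presheaf p hp hp s 0 (hsub.elim _ _)
      exact ⟨V, i, hpV, hij.trans (map_zero _)⟩
  have hiso : ∀ {A B : X.Modules} (g : A ⟶ B), IsIso ((Scheme.Modules.restrictFunctor U.ι).map g) ↔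
      CohB1.support (kernel g) ⊆ (↑U : Set X)ᶜ ∧ CohB1.support (cokernel g) ⊆ (↑U : Set X)ᶜ := by
    intro A B g
    haveI : PreservesColimitsOfSize.{0, 0} (Scheme.Modules.restrictFunctor U.ι) :=
      (Scheme.Modules.restrictAdjunction U.ι).leftAdjoint_preservesColimits
    rw [← key, ← key]
    let ek := PreservesKernel.iso (Scheme.Modules.restrictFunctor U.ι) g
    let ec := PreservesCokernel.iso (Scheme.Modules.restrictFunctor U.ι) g
    refine ⟨fun _ => ⟨(isZero_kernel_of_mono _).of_iso ek, (isZero_cokernel_of_epi _).of_iso ec⟩, fun ⟨hk, hc⟩ => ?_⟩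
    haveI : Mono ((Scheme.Modules.restrictFunctor U.ι).map g) :=
      Preadditive.mono_of_kernel_zero ((hk.of_iso ek.symm).eq_of_src _ _)
    haveI : Epi ((Scheme.Modules.restrictFunctor U.ι).map g) :=
      Preadditive.epi_of_cokernel_zero ((hc.of_iso ec.symm).eq_of_tgt _ _)
    exact isIso_of_mono_of_epi _
  let R : QCohCat.QCoh (↑U : Scheme.{u}) ⥤ QCohCat.QCoh X :=
    (QCohCat.isQCoh X).lift ((QCohCat.isQCoh (↑U : Scheme.{u})).ι ⋙ Scheme.Modules.pushforward U.ι)
      fun M => QCoh.isQCoh_pushforward U.ι M.property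
  let L := ObjectProperty.lift (QCohCat.isQCoh (↑U : Scheme.{u}))
        (ObjectProperty.ι (QCohCat.isQCoh X) ⋙ Scheme.Modules.restrictFunctor U.ι)
        (fun M => @Scheme.Modules.isQuasicoherent_restrictFunctor (↑U : Scheme.{u}) X U.ι
          inferInstance M.obj M.property)
  let adj : L ⊣ R := (Scheme.Modules.restrictAdjunction U.ι).restrictFullyFaithful
    (QCohCat.isQCoh X).fullyFaithfulι (QCohCat.isQCoh (↑U : Scheme.{u})).fullyFaithfulι
    (Iso.refl ((QCohCat.isQCoh X).ι ⋙ Scheme.Modules.restrictFunctor U.ι) :)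
    (Iso.refl ((QCohCat.isQCoh (↑U : Scheme.{u})).ι ⋙ Scheme.Modules.pushforward U.ι) :)
  haveI : R.Full := ⟨fun {M N} g => ⟨ObjectProperty.homMk ((Scheme.Modules.pushforward U.ι).preimage g.hom),
    ObjectProperty.hom_ext _ ((Scheme.Modules.pushforward U.ι).map_preimage g.hom)⟩⟩
  haveI : R.Faithful := ⟨fun {M N} g g' h => ObjectProperty.hom_ext _
    ((Scheme.Modules.pushforward U.ι).map_injective (congrArg (fun t => t.hom) h))⟩
  suffices hW : (MorphismProperty.isomorphisms _).inverseImage L =
      (fun (A B : QCohCat.QCoh X) (f : A ⟶ B) =>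
        CohB1.support (kernel f.hom) ⊆ (↑U : Set X)ᶜ ∧
          CohB1.support (cokernel f.hom) ⊆ (↑U : Set X)ᶜ) from hW ▸ adj.isLocalization
  ext A B f
  refine Iff.trans ?_ (hiso f.hom)
  refine ⟨fun h => ?_, fun h => ?_⟩
  · haveI : IsIso (L.map f) := h
    exact inferInstanceAs (IsIso ((QCohCat.isQCoh (↑U : Scheme.{u})).ι.map (L.map f)))
  · haveI : IsIso ((QCohCat.isQCoh (↑U : Scheme.{u})).ι.map (L.map f)) := h
    exact isIso_of_reflects_iso (L.map f) (QCohCat.isQCoh (↑U : Scheme.{u})).ι

end Groth.Agent.S17647
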