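import Groth.Statements.S17649
import Groth.Agent.QCoh.Qcqs
import Groth.Agent.QCoh.Sections

set_option autoImplicit false
universe u
open CategoryTheory CategoryTheory.Limits AlgebraicGeometry
open QCohCat

namespace Groth.Agent.S17649

/-- Suppose the scheme X is quasi-compact and quasi-separated, and take two quasi-compact opens U, V ⊆
X. Given a quasi-compact open W, denote by S_W the class of quasi-coherent O_X-modules that restrict
to zero on W. Then S_{U ∩ V} is the smallest localizing subcategory of Qcoh(X) that contains both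
S_U and S_V; concretely (this is the inclusion that is not formal): any quasi-coherent O_X-module F
satisfying F|_{U ∩ V} = 0 arises as an extension of a quasi-coherent module that is zero on V by a
quasi-coherent submodule that is zero on U — one can find a monomorphism A ⟶ F where A is
quasi-coherent, A|_U = 0 and (F/A)|_V = 0. -/
theorem result {X : Scheme.{u}}
    [CompactSpace X] [QuasiSeparatedSpace X] (U V : X.Opens) [QuasiCompact U.ι] [QuasiCompact V.ι]
    (F : X.Modules) (hF : Coh.IsQCoh F) (h : IsZero ((Scheme.Modules.restrictFunctor (U ⊓ V).ι).obj F)) :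
    ∃ (A : X.Modules) (i : A ⟶ F), Mono i ∧ Coh.IsQCoh A ∧
      IsZero ((Scheme.Modules.restrictFunctor U.ι).obj A) ∧
      IsZero ((Scheme.Modules.restrictFunctor V.ι).obj (cokernel i)) := by
  let u := (Scheme.Modules.restrictAdjunction U.ι).unit.app F
  have hF' : Coh.IsQCoh ((Scheme.Modules.pushforward U.ι).obj ((Scheme.Modules.restrictFunctor U.ι).obj F)) :=
    QCoh.isQCoh_pushforward U.ι (QCoh.isQCoh_restrict U.ι hF)
  have hzero : ∀ (W : X.Opens), W ≤ U ⊓ V → ∀ s : Γ(F, W), s = 0 := by
    intro W hW s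
    have hsub : Subsingleton Γ((Scheme.Modules.restrictFunctor (U ⊓ V).ι).obj F, (U ⊓ V).ι ⁻¹ᵁ W) := by
      refine subsingleton_of_forall_eq 0 fun x => ?_
      exact congr(($(IsZero.iff_id_eq_zero _ |>.1 h)).app ((U ⊓ V).ι ⁻¹ᵁ W) x)
    have he : (U ⊓ V).ι ''ᵁ ((U ⊓ V).ι ⁻¹ᵁ W) = W := by
      rw [Scheme.Hom.image_preimage_eq_opensRange_inf, Scheme.Opens.opensRange_ι]
      exact inf_eq_right.2 hW
    have hinj : Function.Injective (F.presheaf.map (eqToHom he).op) :=
      (ConcreteCategory.bijective_of_isIso (F.presheaf.map (eqToHom he).op)).1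
    refine hinj ?_
    rw [map_zero]
    exact hsub.elim _ _
  refine ⟨kernel u, kernel.ι u, inferInstance, QCoh.isQCoh_kernel hF hF' u, ?_, ?_⟩
  · refine IsZero.iff_id_eq_zero _ |>.2 (Scheme.Modules.hom_ext _ _ fun W => ?_)
    ext s
    refine QCoh.app_injective (kernel.ι u) (U.ι ''ᵁ W) ?_
    have hle : U.ι ''ᵁ W ≤ U := (Scheme.Hom.image_le_opensRange _ _).trans (Scheme.Opens.opensRange_ι U).le
    have h0 := congr(($(kernel.condition u)).app (U.ι ''ᵁ W) s)
    refine Eq.trans ?_ (map_zero _).symm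
    have he : U.ι ''ᵁ (U.ι ⁻¹ᵁ (U.ι ''ᵁ W)) = U.ι ''ᵁ W := by
      rw [Scheme.Hom.image_preimage_eq_opensRange_inf, Scheme.Opens.opensRange_ι]
      exact inf_eq_right.2 hle
    refine (ConcreteCategory.bijective_of_isIso (F.presheaf.map (eqToHom he).op)).1 ?_
    rw [map_zero]
    exact h0
  · refine IsZero.iff_id_eq_zero _ |>.2 (Scheme.Modules.hom_ext _ _ fun W => ?_)
    ext s
    refine QCoh.app_injective (Abelian.factorThruCoimage u) (V.ι ''ᵁ W) ?_
    have hle : V.ι ''ᵁ W ≤ V := (Scheme.Hom.image_le_opensRange _ _).trans (Scheme.Opens.opensRange_ι V).le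
    refine Eq.trans ?_ (map_zero _).symm
    refine hzero (U.ι ''ᵁ (U.ι ⁻¹ᵁ (V.ι ''ᵁ W))) ?_ _
    rw [Scheme.Hom.image_preimage_eq_opensRange_inf, Scheme.Opens.opensRange_ι]
    exact inf_le_inf le_rfl hle

end Groth.Agent.S17649
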