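import Groth.Statements.S7564
import Mathlib.Topology.Irreducible

set_option autoImplicit false
set_option backward.isDefEq.respectTransparency false
set_option backward.isDefEq.respectTransparency.types false
universe u
open PtTop

namespace Groth.Agent.S7564

/-- For a continuous surjection f : X → Y, if X has finitely many irreducible components, say n of them,
then Y has at most n irreducible components. -/
theorem result {X Y : Type u} [TopologicalSpace X] [TopologicalSpace Y]
    (f : X → Y) (hf : Continuous f) (hs : Function.Surjective f) (hfin : (irreducibleComponents X).Finite) :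
    (irreducibleComponents Y).Finite ∧ (irreducibleComponents Y).ncard ≤ (irreducibleComponents X).ncard := by
  classical
  have hsub : irreducibleComponents Y ⊆ (fun Z => closure (f '' Z)) '' irreducibleComponents X := by
    intro W hW
    obtain ⟨t, ht, hsub⟩ := isIrreducible_iff_sUnion_isClosed.1 hW.1 (hfin.toFinset.image fun Z => closure (f '' Z))
      (fun t ht => by obtain ⟨Z, -, rfl⟩ := Finset.mem_image.1 ht; exact isClosed_closure)
      (fun y _ => by
        obtain ⟨x, rfl⟩ := hs y
        exact ⟨_, Finset.mem_image_of_mem _ ((Set.Finite.mem_toFinset _).2 (irreducibleComponent_mem_irreducibleComponents x)),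
          subset_closure ⟨x, mem_irreducibleComponent, rfl⟩⟩)
    obtain ⟨Z, hZ, rfl⟩ := Finset.mem_image.1 ht
    have hZ' := (Set.Finite.mem_toFinset _).1 hZ
    exact ⟨Z, hZ', Set.Subset.antisymm (hW.2 ((hZ'.1.image f hf.continuousOn).closure) hsub) hsub⟩
  exact ⟨(hfin.image _).subset hsub, (Set.ncard_le_ncard hsub (hfin.image _)).trans (Set.ncard_image_le hfin)⟩

end Groth.Agent.S7564
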