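import Groth.Statements.S17652
import Mathlib
import Groth.Agent.UpperComp.Main
import Groth.Agent.S8345

set_option autoImplicit false
universe u
open CategoryTheory CategoryTheory.Limits AlgebraicGeometry TopologicalSpace
open FlatMor

namespace Groth.Agent.S17652

/-- Let k be a field, X and Y schemes of finite type over k and f : X → Y a k-morphism which is flat and
proper and whose fibres over the closed points of Y are geometrically reduced. For y in Y let N(y)
be the number of irreducible components of the geometric fibre of f at y (the base change of the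
fibre to an algebraic closure of the residue field κ(y)). Then N is upper semicontinuous on Y: every
point y has a neighbourhood on which N ≤ N(y). -/
theorem result (k : Type u) [Field k]
    (X Y : Scheme.{u}) [X.Over (Spec (CommRingCat.of k))] [Y.Over (Spec (CommRingCat.of k))]
    [LocallyOfFiniteType (X ↘ Spec (CommRingCat.of k))] [CompactSpace ↥X]
    [LocallyOfFiniteType (Y ↘ Spec (CommRingCat.of k))] [CompactSpace ↥Y]
    (f : X ⟶ Y) (hf : f ≫ (Y ↘ Spec (CommRingCat.of k)) = X ↘ Spec (CommRingCat.of k))
    [Flat f] [IsProper f]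
    (hred : ∀ y : ↥Y, IsClosed ({y} : Set ↥Y) → GeometricallyReduced (f.fiberToSpecResidueField y)) :
    UpperSemicontinuous (fun y : ↥Y =>
      Nat.card ↥(irreducibleComponents (↥(pullback f
        (Spec.map (CommRingCat.ofHom (algebraMap (Y.residueField y) (AlgebraicClosure (Y.residueField y)))) ≫
          Y.fromSpecResidueField y)) : Type u))) := by
  haveI : IsLocallyNoetherian Y := LocallyOfFiniteType.isLocallyNoetherian (Y ↘ Spec (CommRingCat.of k))
  haveI : AlgebraicGeometry.IsNoetherian Y := {}
  haveI : JacobsonSpace ↥Y := LocallyOfFiniteType.jacobsonSpace (Y ↘ Spec (CommRingCat.of k))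
  haveI : LocallyOfFinitePresentation f := inferInstance
  have hall : ∀ y : ↥Y, GeometricallyReduced (f.fiberToSpecResidueField y) := by
    intro y
    by_contra hy
    obtain ⟨n, Z, hZ, he⟩ := (S8345.result _).mp (S1301.result f).isConstructible.compl
    have hy' : y ∈ {y : ↥Y | GeometricallyReduced (f.fiberToSpecResidueField y)}ᶜ := hy
    rw [he, Set.mem_iUnion] at hy'
    obtain ⟨i, hi⟩ := hy'
    obtain ⟨z, hz, hzc⟩ := nonempty_inter_closedPoints (Set.nonempty_of_mem hi) (hZ i)
    have h1 : z ∈ ⋃ i, Z i := Set.mem_iUnion.2 ⟨i, hz⟩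
    rw [← he] at h1
    exact h1 (hred z hzc)
  let j : ∀ y : ↥Y, Spec (CommRingCat.of (AlgebraicClosure (Y.residueField y))) ⟶ Y := fun y =>
    Spec.map (CommRingCat.ofHom (algebraMap (Y.residueField y) (AlgebraicClosure (Y.residueField y)))) ≫
      Y.fromSpecResidueField y
  have hfin : ∀ y, (irreducibleComponents ↥(pullback f (j y))).Finite := fun y =>
    UpperComp.finite_components (pullback.snd f (j y))
  have hN : ∀ y, ((Nat.card ↥(irreducibleComponents ↥(pullback f (j y))) : ℕ) : ℕ∞) =
      MoreMor.nGeomIrredComp f y := by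
    intro y
    rw [Nat.card_coe_set_eq, (hfin y).cast_ncard_eq,
      ← UpperComp.nGeomIrredComp_of_isSepClosed (pullback.snd f (j y)) (IsLocalRing.closedPoint _),
      S1334.result f (pullback.snd f (j y)) _ _ (IsPullback.of_hasPullback f (j y)) _]
    refine congrArg _ ?_
    exact (Scheme.Hom.comp_apply _ _ _).trans (Scheme.fromSpecResidueField_apply y _)
  rw [upperSemicontinuous_iff_isOpen_preimage]
  intro n
  let φ : ℕ∞ → ℕ∞ → Prop := fun a _ => a < (n : ℕ∞)
  have hE : (fun y => Nat.card ↥(irreducibleComponents ↥(pullback f (j y)))) ⁻¹' Set.Iio n =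
      GeomComp5.level φ f := by
    ext y
    show _ < n ↔ MoreMor.nGeomIrredComp f y < (n : ℕ∞)
    rw [← hN y, Nat.cast_lt]
  show IsOpen ((fun y => Nat.card ↥(irreducibleComponents ↥(pullback f (j y)))) ⁻¹' Set.Iio n)
  rw [hE]
  refine SpecLib.isOpen_of_isConstructible_of_stable
    (GeomComp5.isLocallyConstructible_level φ f).isConstructible ?_
  intro a b hab ha
  exact lt_of_le_of_lt (UpperComp.nGeomIrredComp_le_of_specializes f hab (hall a)) ha

end Groth.Agent.S17652
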