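import Groth.Statements.S17653
import Groth.Agent.DimFormula.Jacobson
import Groth.Agent.AlgSpDec.FibreDimEtale

set_option backward.isDefEq.respectTransparency.types false
set_option backward.isDefEq.respectTransparency false
set_option linter.style.haveILetI false
-- import your own Groth.Agent.* helpers here

set_option autoImplicit false
universe u
open CategoryTheory CategoryTheory.Limits AlgebraicGeometry TopologicalSpace
open Variety

namespace Groth.Agent.S17653

/-- Suppose X and Y are locally Noetherian schemes of the same pure dimension d (every irreducible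
component of X and every irreducible component of Y has topological Krull dimension d), and π : X →
Y is a proper morphism between them. If there is a point x of X which is isolated in its fibre
π⁻¹(π(x)), i.e. some open neighbourhood of x meets that fibre only in x, then the image of π, with
the subspace topology, has the same dimension as Y. -/
theorem result
    (X Y : Scheme.{u}) [IsLocallyNoetherian X] [IsLocallyNoetherian Y] (π : X ⟶ Y) [IsProper π]
    (d : WithBot ℕ∞) (hX : ∀ Z ∈ irreducibleComponents ↥X, topologicalKrullDim ↥Z = d)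
    (hY : ∀ Z ∈ irreducibleComponents ↥Y, topologicalKrullDim ↥Z = d)
    (x : ↥X) (hx : ∃ U : X.Opens, x ∈ U ∧ ∀ x' ∈ U, π x' = π x → x' = x) :
    topologicalKrullDim ↥(Set.range (fun z : ↥X => π z)) = topologicalKrullDim ↥Y := by
  open Groth.Agent Topology in
  have key : ∀ (S : Scheme.{u}) (A B : Set S), IsClosed A → IsClosed B → A ⊆ B →
      topologicalKrullDim A ≤ topologicalKrullDim B := fun S A B _ _ h =>
    (Topology.IsEmbedding.inclusion h).toIsInducing.topologicalKrullDim_le
  haveI : LocallyOfFiniteType π := inferInstance
  -- the local fibre dimension at `x` vanishes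
  have h0 : FlatMor.fibreDimAt π x = 0 := by
    rw [AlgSpDec.fibreDimAt_eq_zero_iff]
    obtain ⟨U, hxU, hU⟩ := hx
    have : ({π.asFiber x} : Set ↥(π.fiber (π x))) = π.fiberι (π x) ⁻¹' U := by
      ext w
      refine ⟨?_, fun hw => ?_⟩
      · rintro rfl
        show π.fiberι (π x) (π.asFiber x) ∈ U
        rw [Scheme.Hom.fiberι_asFiber]; exact hxU
      · have h1 := hU _ hw (FibDim.fiber_apply_fiberι π w)
        exact (π.fiberι (π x)).isEmbedding.injective (h1.trans (Scheme.Hom.fiberι_asFiber π x).symm)
    rw [this]
    exact U.2.preimage (π.fiberι (π x)).continuous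
  obtain ⟨η, hη, hmax, -⟩ := DimFormula.exists_maximal_cd_eq_codim x
  have hrd : FibDim.rd π η = 0 := by
    have := FibDim.fibreDimAt_ge_rd π hη
    rw [h0] at this
    exact Nat.le_zero.1 (by exact_mod_cast this)
  have hcomp : closure ({η} : Set X) ∈ irreducibleComponents ↥X := by
    refine ⟨isIrreducible_singleton.closure, fun t ht hle => ?_⟩
    obtain ⟨g, hg⟩ : ∃ g, IsGenericPoint g (closure t) := QuasiSober.sober ht.closure isClosed_closure
    have h1 : g ⤳ η := hg.specializes (subset_closure (hle (subset_closure rfl)))
    obtain rfl := hmax g h1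
    exact subset_closure.trans hg.def.ge
  have hrange : IsClosed (Set.range fun z : ↥X => π z) := π.isClosedMap.isClosed_range
  have hYle : topologicalKrullDim ↥Y ≤ d := by
    haveI : QuasiSober ↥(Set.univ : Set Y) := isClosed_univ.isClosedEmbedding_subtypeVal.quasiSober
    rw [← (Homeomorph.Set.univ ↥Y).isHomeomorph.topologicalKrullDim_eq, DimFormula.topologicalKrullDim_subset]
    refine iSup_le fun l => ?_
    obtain ⟨g, hg⟩ : ∃ g, IsGenericPoint g (irreducibleComponent (l.last : ↥Y)) :=
      QuasiSober.sober isIrreducible_irreducibleComponent isClosed_irreducibleComponent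
    have hc : irreducibleComponent (l.last : ↥Y) = closure {g} := hg.def.symm
    haveI : QuasiSober ↥(closure ({g} : Set Y)) := isClosed_closure.isClosedEmbedding_subtypeVal.quasiSober
    rw [← hY _ (irreducibleComponent_mem_irreducibleComponents (l.last : ↥Y)), hc,
      DimFormula.topologicalKrullDim_subset]
    have hm : ∀ i, (l i : ↥Y) ∈ closure ({g} : Set Y) := fun i => specializes_iff_mem_closure.1
      ((hg.specializes mem_irreducibleComponent).trans (show (l i : ↥Y) ≤ (l.last : ↥Y) from
        l.monotone (Fin.le_last i)))
    exact le_trans le_rfl (Order.LTSeries.length_le_krullDim (LTSeries.mk l.length (fun i =>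
      (⟨(l i : ↥Y), hm i⟩ : ↥(closure ({g} : Set Y)))) fun i j hij => l.strictMono hij))
  refine le_antisymm ?_ (hYle.trans ?_)
  · rw [← (Homeomorph.Set.univ ↥Y).isHomeomorph.topologicalKrullDim_eq]
    exact key Y _ _ hrange isClosed_univ (Set.subset_univ _)
  have hW : closure ({π η} : Set Y) ⊆ Set.range fun z : ↥X => π z :=
    closure_minimal (Set.singleton_subset_iff.2 ⟨η, rfl⟩) hrange
  refine le_trans ?_ (key Y _ _ isClosed_closure hrange hW)
  rw [← hX _ hcomp]
  haveI : QuasiSober ↥(closure ({η} : Set X)) := isClosed_closure.isClosedEmbedding_subtypeVal.quasiSober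
  haveI : QuasiSober ↥(closure ({π η} : Set Y)) := isClosed_closure.isClosedEmbedding_subtypeVal.quasiSober
  rw [DimFormula.topologicalKrullDim_subset, DimFormula.topologicalKrullDim_subset]
  refine iSup_le fun l => ?_
  have hz : η ⤳ (l.head : ↥X) := specializes_iff_mem_closure.2 l.head.2
  have h1 : l.length ≤ DimFormula.cd η (l.head : ↥X) :=
    DimFormula.le_cd hz (l.map Subtype.val fun _ _ h => h) rfl (specializes_iff_mem_closure.2 l.last.2)
  have h2 := (DimFormula.cd_formula π hz).1
  rw [hrd] at h2
  obtain ⟨l', -, hlast, hlen⟩ := DimFormula.exists_cd_series (hz.map π.continuous)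
  have hm : ∀ i, l' i ∈ closure ({π η} : Set Y) := fun i => specializes_iff_mem_closure.1
    (hlast.trans (show l' i ≤ l'.last from l'.monotone (Fin.le_last i)))
  refine le_trans ?_ (Order.LTSeries.length_le_krullDim (LTSeries.mk l'.length (fun i =>
      (⟨l' i, hm i⟩ : ↥(closure ({π η} : Set Y)))) fun i j hij => l'.strictMono hij))
  show (l.length : WithBot ℕ∞) ≤ (l'.length : WithBot ℕ∞)
  exact_mod_cast (show l.length ≤ l'.length by omega)

end Groth.Agent.S17653
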