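import Groth.Statements.S17654
import Groth.Agent.CurveTree.DefAmple

set_option autoImplicit false
universe u
open CategoryTheory CategoryTheory.Limits AlgebraicGeometry TopologicalSpace
attribute [local instance] HasDerivedCategory.standard
open Curves

namespace Groth.Agent.S17654
set_option backward.isDefEq.respectTransparency false
set_option backward.isDefEq.respectTransparency.types false
set_option maxHeartbeats 2000000
set_option synthInstance.maxHeartbeats 200000
open Groth.Agent Groth.Agent.CurveGor CategoryTheory.Limits


/-- Let k be an algebraically closed field and B a connected scheme, proper over k, of dimension one,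
with at-worst-nodal singularities and H^1(B, O_B) = 0. Write ω_B for the dualizing module of B over
k, the cohomology sheaf in degree −1 of the upper-shriek pull-back of O_{Spec k} (the existence of
the upper-shriek functor is assumed), and similarly for closed subschemes of B. A locally free E on
such a curve is called deformation ample when it is generated by global sections and H^1(E ⊗ ω) = 0.
Let E be a finite locally free O_B-module such that (1) for every irreducible component Z of B,
taken with its reduced structure, E|_Z is generated by global sections, and (2) for some connected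
reduced closed subscheme B' of B whose support is a union of irreducible components of B, the
restriction E|_{B'} is deformation ample on B'. Then E is deformation ample: E is generated by
global sections and H^1(B, E ⊗ ω_B) = 0. (The source works over the complex numbers and with E of
positive rank; the proof is unchanged over any algebraically closed field, and rank zero is
trivially allowed.) -/
theorem result (k : Type u) [Field k] [IsAlgClosed k]
    (B : Scheme.{u}) [B.Over (Spec (CommRingCat.of k))] [IsProper (B ↘ Spec (CommRingCat.of k))]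
    [ConnectedSpace ↥B] (hdim : topologicalKrullDim ↥B = 1) (hnod : Curv2.AtWorstNodal k B)
    (hg : Subsingleton (Coh.HH B (Coh.structureModule B) 1))
    [DCoh.HasRpush (B ↘ Spec (CommRingCat.of k))] (h : DCoh.RpushPreservesQCoh (B ↘ Spec (CommRingCat.of k))) [DCoh.HasShriek (B ↘ Spec (CommRingCat.of k)) h]
    (OY : DCoh.DQCoh (Spec (CommRingCat.of k))) (hOY : Nonempty (OY.obj ≅ DCoh.inD (Spec (CommRingCat.of k)) (Coh.structureModule (Spec (CommRingCat.of k)))))
    (E : B.Modules) (hE : FlatMod.IsFinLocFree E)
    (hcomp : ∀ Z : B.IdealSheafData, IsIntegral Z.subscheme → topologicalKrullDim (Z.support : Set ↥B) = 1 →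
      Curv2.IsGloballyGenerated ((Scheme.Modules.pullback Z.subschemeι).obj E))
    (B' : B.IdealSheafData) [ConnectedSpace ↥B'.subscheme] [AlgebraicGeometry.IsReduced B'.subscheme]
    (hunion : ∀ x ∈ (B'.support : Set ↥B), ∃ Z : B.IdealSheafData, IsIntegral Z.subscheme ∧
      topologicalKrullDim (Z.support : Set ↥B) = 1 ∧ (Z.support : Set ↥B) ⊆ B'.support ∧ x ∈ (Z.support : Set ↥B))
    [DCoh.HasRpush (B'.subschemeι ≫ (B ↘ Spec (CommRingCat.of k)))] (h' : DCoh.RpushPreservesQCoh (B'.subschemeι ≫ (B ↘ Spec (CommRingCat.of k))))
    [DCoh.HasShriek (B'.subschemeι ≫ (B ↘ Spec (CommRingCat.of k))) h']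
    (hgg' : Curv2.IsGloballyGenerated ((Scheme.Modules.pullback B'.subschemeι).obj E))
    (hvan' : Subsingleton (Coh.HH B'.subscheme (CohB1.tensorMod ((Scheme.Modules.pullback B'.subschemeι).obj E)
      (DCoh.dualizingMod (B'.subschemeι ≫ (B ↘ Spec (CommRingCat.of k))) h' OY 1)) 1)) :
    Curv2.IsGloballyGenerated E ∧
      Subsingleton (Coh.HH B (CohB1.tensorMod E (DCoh.dualizingMod (B ↘ Spec (CommRingCat.of k)) h OY 1)) 1) := by
  classical
  haveI := CurveCohLib.isNoetherian_of_proper (k := k) (X := B)
  haveI := isReduced_of_nodal (k := k) hdim hnod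
  have hcgg : ∀ η ∈ genericPoints (B : Type u),
      Curv2.IsGloballyGenerated ((Scheme.Modules.pullback (CurveTree.comp η).subschemeι).obj E) := fun η hη => by
    obtain ⟨hi, hd, -⟩ := CurveTree.comp_data k hdim hnod hη
    exact hcomp _ hi hd
  have hgg := CurveTree.isGloballyGenerated_of_components k hdim hnod hg hE hcgg
  refine ⟨hgg, ?_⟩
  obtain ⟨t, ht, -⟩ := CurveDual.exists_dual hdim.le h OY hOY
  have hωi := isInvertible_dualizing_of_nodal hdim hnod h OY hOY
  generalize DCoh.dualizingMod (B ↘ Spec (CommRingCat.of k)) h OY 1 = ω at t ht hωi ⊢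
  have hc : IsCompUnion (B'.support : Set B) := CurveTree.isCompUnion_support k hdim B' hunion
  have hconn := CurveTree.isConnected_support B'
  obtain ⟨hd', hn'⟩ := CurveTree.sub_nodal k hdim hnod B'.support.isClosed hc hconn
  have e : B' = vI (B'.support : Set B) B'.support.isClosed := RedComap5.eq_vanishingIdeal B'
  letI oW : B'.subscheme.Over (Spec (CommRingCat.of k)) := ⟨B'.subschemeι ≫ (B ↘ Spec (CommRingCat.of k))⟩
  have hd : topologicalKrullDim B'.subscheme = 1 := by rw [e]; exact hd'
  have hn : @Curv2.AtWorstNodal k _ B'.subscheme oW := by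
    show @Curv2.AtWorstNodal k _ B'.subscheme ⟨B'.subschemeι ≫ (B ↘ Spec (CommRingCat.of k))⟩
    rw [e]; exact hn'
  haveI : IsProper (B'.subscheme ↘ Spec (CommRingCat.of k)) :=
    inferInstanceAs (IsProper (B'.subschemeι ≫ (B ↘ Spec (CommRingCat.of k))))
  haveI : DCoh.HasRpush (B'.subscheme ↘ Spec (CommRingCat.of k)) :=
    inferInstanceAs (DCoh.HasRpush (B'.subschemeι ≫ (B ↘ Spec (CommRingCat.of k))))
  haveI : DCoh.HasShriek (B'.subscheme ↘ Spec (CommRingCat.of k)) h' :=
    inferInstanceAs (DCoh.HasShriek (B'.subschemeι ≫ (B ↘ Spec (CommRingCat.of k))) h')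
  haveI := CurveCohLib.isNoetherian_of_proper (k := k) (X := B'.subscheme)
  obtain ⟨t', ht', -⟩ := CurveDual.exists_dual (X := B'.subscheme) (k := k) hd.le h' OY hOY
  have hωi' := isInvertible_dualizing_of_nodal (X := B'.subscheme) (k := k) hd hn h' OY hOY
  let ω' := DCoh.dualizingMod (B'.subschemeι ≫ (B ↘ Spec (CommRingCat.of k))) h' OY 1
  have hE' := CanonEval.isFinLocFree_pullback B'.subschemeι hE
  refine CurveDual.subsingleton_H1_of_hom ht
    (CurveTensor.isCoh_tensor hE (CurveDeg.isCoh_of_isInvertible hωi)).1 fun φ => ?_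
  obtain ⟨ψ, hψ⟩ := CurveTree.exists_untwist k hdim hnod hωi (E := E) φ
  haveI : Nonempty B'.subscheme := inferInstance
  let adj := Scheme.Modules.pullbackPushforwardAdjunction B'.subschemeι
  let ψ' : (Scheme.Modules.pullback B'.subschemeι).obj E ⟶ Coh.structureModule B'.subscheme :=
    (adj.homEquiv E (Coh.structureModule B'.subscheme)).symm (ψ ≫ ClSub.toSubscheme B')
  have hψ' : ψ' = 0 := by
    refine CurveTree.twist_injective (X := B'.subscheme) k hd hn hωi' ψ' ?_
    have hz := CurveDual.hom_eq_zero ht'
      (CurveTensor.isCoh_tensor hE' (CurveDeg.isCoh_of_isInvertible hωi')).1 hvan'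
      ((SheafHomX.ten ω').map ψ' ≫ (CurveTensor.structureTensorIso ω').hom)
    exact (cancel_mono (CurveTensor.structureTensorIso ω').hom).1 (hz.trans zero_comp.symm)
  have h0 : ψ ≫ ClSub.toSubscheme B' = 0 := by
    have h1 := congrArg (adj.homEquiv E (Coh.structureModule B'.subscheme)) hψ'
    rw [Equiv.apply_symm_apply] at h1
    refine h1.trans ?_
    rw [Adjunction.homEquiv_unit, Functor.map_zero, comp_zero]
  rw [hψ, CurveTree.eq_zero_of_restrict k hdim hnod hgg B' ψ h0]
  haveI := (SheafHomX.adj ω).isLeftAdjoint
  rw [Functor.map_zero, zero_comp]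


end Groth.Agent.S17654
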