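import Groth.Statements.S17656
import Groth.Agent.CurveGor.Nodal
import Groth.Agent.S17650
import Groth.Agent.DefAmple18.Main
import Groth.Agent.H23.Chern.Dual

set_option autoImplicit false
universe u
open CategoryTheory CategoryTheory.Limits AlgebraicGeometry TopologicalSpace
attribute [local instance] HasDerivedCategory.standard
open Curves

namespace Groth.Agent.S17656
set_option backward.isDefEq.respectTransparency false
set_option backward.isDefEq.respectTransparency.types false
set_option synthInstance.maxHeartbeats 200000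
set_option maxHeartbeats 2000000
attribute [local instance] HasDerivedCategory.standard
open Groth.Agent Groth.Agent.PnCoh.Finite in


/-- Let k be an algebraically closed field and B a connected scheme, proper over k, of dimension one,
with at-worst-nodal singularities and H^1(B, O_B) = 0, and let ω_B be its dualizing module over k
(the cohomology sheaf in degree −1 of the upper-shriek pull-back of O_{Spec k}; the existence of the
upper-shriek functor is assumed). Call a finite locally free O_B-module deformation ample when it is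
generated by global sections and H^1(B, E ⊗ ω_B) = 0. If 0 → E₁ → E₂ → E₃ → 0 is a short exact
sequence of finite locally free O_B-modules with E₁ and E₃ deformation ample, then E₂ is deformation
ample. (The source states this for a family of prestable genus-zero curves over an arbitrary base T,
with relative global generation and R^1 of the direct image in place of global generation and H^1;
this is the case T = Spec k of a field base, the general case needing relative duality not available
here. The source also assumes the sheaves nonzero (positive rank), which the conclusion does not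
need.) -/
theorem result (k : Type u) [Field k] [IsAlgClosed k]
    (B : Scheme.{u}) [B.Over (Spec (CommRingCat.of k))] [IsProper (B ↘ Spec (CommRingCat.of k))]
    [ConnectedSpace ↥B] (hdim : topologicalKrullDim ↥B = 1) (hnod : Curv2.AtWorstNodal k B)
    (hg : Subsingleton (Coh.HH B (Coh.structureModule B) 1))
    [DCoh.HasRpush (B ↘ Spec (CommRingCat.of k))] (h : DCoh.RpushPreservesQCoh (B ↘ Spec (CommRingCat.of k))) [DCoh.HasShriek (B ↘ Spec (CommRingCat.of k)) h]
    (OY : DCoh.DQCoh (Spec (CommRingCat.of k))) (hOY : Nonempty (OY.obj ≅ DCoh.inD (Spec (CommRingCat.of k)) (Coh.structureModule (Spec (CommRingCat.of k)))))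
    (S : ShortComplex B.Modules) (hS : S.ShortExact)
    (hE₁ : FlatMod.IsFinLocFree S.X₁) (hE₂ : FlatMod.IsFinLocFree S.X₂) (hE₃ : FlatMod.IsFinLocFree S.X₃)
    (h₁ : (Curv2.IsGloballyGenerated S.X₁ ∧ Subsingleton (Coh.HH B (CohB1.tensorMod S.X₁ (DCoh.dualizingMod (B ↘ Spec (CommRingCat.of k)) h OY 1)) 1))) (h₃ : (Curv2.IsGloballyGenerated S.X₃ ∧ Subsingleton (Coh.HH B (CohB1.tensorMod S.X₃ (DCoh.dualizingMod (B ↘ Spec (CommRingCat.of k)) h OY 1)) 1))) :
    (Curv2.IsGloballyGenerated S.X₂ ∧ Subsingleton (Coh.HH B (CohB1.tensorMod S.X₂ (DCoh.dualizingMod (B ↘ Spec (CommRingCat.of k)) h OY 1)) 1)) := by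
  haveI := CurveCohLib.isNoetherian_of_proper (k := k) (X := B)
  have hi := CurveGor.isInvertible_dualizing_of_nodal hdim hnod h OY hOY
  generalize DCoh.dualizingMod (B ↘ Spec (CommRingCat.of k)) h OY 1 = ω at hi h₁ h₃ ⊢
  refine ⟨?_, ?_⟩
  · haveI : HasExt.{u} B.Modules := IsGrothendieckAbelian.hasExt _
    haveI := S17650.result k B hdim hnod hg S.X₁ hE₁ h₁.1
    refine Euler.GG.isGloballyGenerated fun T g hg' => ?_
    haveI := hS.mono_f
    haveI := hS.epi_g
    have hfg : S.f ≫ g = 0 := DefAmple18.gg_elim h₁.1 T _ fun s => by rw [← Category.assoc]; exact hg' _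
    have hd : S.g ≫ hS.exact.desc g hfg = g := hS.exact.g_desc _ _
    rw [← hd, DefAmple18.gg_elim h₃.1 T (hS.exact.desc g hfg) fun s => ?_, comp_zero]
    obtain ⟨y, hy⟩ := (CurveCohLib.ker_deltaLin k hS 0).le
      (LinearMap.mem_ker.2 (Subsingleton.elim (α := Coh.HH B S.X₁ 1)
        (PnCoh.Finite.deltaLin k hS 0 (mapLin k s 0 CurveDual.oneH)) 0))
    obtain ⟨s', hs'⟩ := (CurveDual.bijective_extH₀ S.X₂).2 y
    have h2 : s' ≫ S.g = s := (CurveDual.bijective_extH₀ _).1 (by
      show Sheaf.H.map ((QCoh.toAbFunctor B).map (s' ≫ S.g)) 0 CurveDual.oneH = _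
      rw [Functor.map_comp, Sheaf.H.map_comp_apply]
      exact (congrArg _ hs').trans hy)
    rw [← h2, Category.assoc, hd]
    exact hg' s'
  · haveI := H23.Chern.isEquivalence_ten hi
    haveI : (SheafHomX.ten ω).IsEquivalence :=
      Functor.isEquivalence_of_iso ((KFlatLib.tensorBiFlipIso B).app ω).symm
    have hS' := hS.map_of_exact (SheafHomX.ten ω)
    haveI : Subsingleton (Coh.HH B ((SheafHomX.ten ω).obj S.X₁) 1) := h₁.2
    haveI : Subsingleton (Coh.HH B ((SheafHomX.ten ω).obj S.X₃) 1) := h₃.2
    refine subsingleton_of_forall_eq 0 fun y => ?_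
    obtain ⟨z, hz⟩ := (CurveCohLib.ker_mapLin_g k hS' 1).le (LinearMap.mem_ker.2
      (Subsingleton.elim (α := Coh.HH B ((SheafHomX.ten ω).obj S.X₃) 1) _ 0) : y ∈ _)
    rw [← hz, Subsingleton.elim (α := Coh.HH B ((SheafHomX.ten ω).obj S.X₁) 1) z 0, map_zero]


end Groth.Agent.S17656
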