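import Groth.Statements.S17658
import Mathlib.RingTheory.MvPolynomial.MonomialOrder

set_option autoImplicit false
universe u
open Surf

namespace Groth.Agent.S17658


open MvPolynomial

theorem mem_span_monomials {k : Type u} [Field k] (P : (Fin 4 →₀ ℕ) → Prop) (f : MvPolynomial (Fin 4) k) :
    f ∈ Submodule.span k {g : MvPolynomial (Fin 4) k | ∃ e, P e ∧ g = monomial e 1} ↔
      ∀ e ∈ f.support, P e := by
  classical
  constructor
  · intro hf
    induction hf using Submodule.span_induction with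
    | mem g hg =>
      obtain ⟨e, he, rfl⟩ := hg
      intro d hd
      rw [Finset.mem_singleton.1 (support_monomial_subset hd)]
      exact he
    | zero => simp
    | add g h _ _ hg hh =>
      intro d hd
      rcases Finset.mem_union.1 (support_add hd) with h1 | h1
      exacts [hg d h1, hh d h1]
    | smul c g _ hg => exact fun d hd => hg d (support_smul hd)
  · intro h
    rw [f.as_sum]
    refine Submodule.sum_mem _ fun e he => ?_
    rw [← mul_one (f.coeff e), ← smul_eq_mul, ← smul_monomial]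
    exact Submodule.smul_mem _ _ (Submodule.subset_span ⟨e, h e he, rfl⟩)

/-- A submodule is everything if it realises every leading monomial. -/
theorem eq_of_leading {k : Type u} [Field k] (mo : MonomialOrder (Fin 4)) (P : (Fin 4 →₀ ℕ) → Prop)
    (N : Submodule k (MvPolynomial (Fin 4) k))
    (hN : N ≤ Submodule.span k {g : MvPolynomial (Fin 4) k | ∃ e, P e ∧ g = monomial e 1})
    (hlead : ∀ e, P e → ∃ g ∈ N, g ≠ 0 ∧ mo.degree g = e) :
    N = Submodule.span k {g : MvPolynomial (Fin 4) k | ∃ e, P e ∧ g = monomial e 1} := by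
  classical
  refine le_antisymm hN (Submodule.span_le.2 ?_)
  rintro _ ⟨e, he, rfl⟩
  induction hs : mo.toSyn e using WellFoundedLT.induction generalizing e with
  | _ s ih =>
    obtain ⟨g, hgN, hg0, hge⟩ := hlead e he
    have hgP := (mem_span_monomials P g).1 (hN hgN)
    have hc : g.coeff e ≠ 0 := hge ▸ mo.coeff_degree_ne_zero_iff.2 hg0
    have hrest : g - monomial e (g.coeff e) ∈ N := by
      rw [(g - monomial e (g.coeff e)).as_sum]
      refine Submodule.sum_mem _ fun d hd => ?_
      rw [MvPolynomial.mem_support_iff, coeff_sub, coeff_monomial] at hd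
      have hde : d ≠ e := by
        rintro rfl
        simp at hd
      rw [if_neg (Ne.symm hde), sub_zero] at hd
      have hdg : d ∈ g.support := MvPolynomial.mem_support_iff.2 hd
      have hlt : mo.toSyn d < s := by
        rw [← hs]
        refine lt_of_le_of_ne (hge ▸ mo.le_degree hdg) fun h => hde (mo.toSyn.injective h)
      rw [← mul_one (coeff d _), ← smul_eq_mul, ← smul_monomial]
      exact Submodule.smul_mem _ _ (ih _ hlt d (hgP d hdg) rfl)
    have := N.sub_mem hgN hrest
    rw [sub_sub_cancel] at this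
    have h1 := N.smul_mem (g.coeff e)⁻¹ this
    rw [smul_monomial, smul_eq_mul, inv_mul_cancel₀ hc] at h1
    exact h1

/-- In the polynomial ring k[T₀,T₁,U,V] over a field k, bigraded by deg T₀ = deg T₁ = (0,1), deg U =
(1,−1), deg V = (1,0) (the Cox ring of the Hirzebruch surface F₁; its piece of bidegree (a,b) is the
space of sections of O(a(E+F)+bF)), let S_(a,b) denote the k-span of the monomials of bidegree
(a,b), so that S_(0,c) is the space of forms of degree c in T₀, T₁. A subspace W ⊆ S_(a,b) is called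
c-generating when W·S_(0,c) = S_(a,b+c). Fix a monomial order and natural numbers a, b, c, and let
W₀(a,b,c) be the set of monomials U^i V^(a−i) T₀^(b+i−j(c+1)) T₁^(j(c+1)) with 0 ≤ i ≤ a, j ≥ 0 and
j(c+1) < b+i, together with the monomials U^i V^(a−i) T₁^(b+i) with 0 ≤ i ≤ a. If every monomial of
W₀(a,b,c) is the leading monomial of some nonzero element of W, then W is c-generating. (The source
fixes the graded lexicographic order with U > V > T₀ > T₁ and works over the complex numbers; its
argument uses only that leading monomials are multiplicative and that W₀(a,b,c)·S_(0,c) contains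
every monomial of S_(a,b+c), so any monomial order and any field are allowed here. The printed index
j runs from 1; with that range the statement fails already for a = 0, b = c = 1 and W spanned by T₁,
and the range from 0 used here is the one matching the accompanying dimension count.) Variables are
indexed T₀ = 0, T₁ = 1, U = 2, V = 3. -/
theorem result (k : Type u) [Field k]
    (mo : MonomialOrder (Fin 4)) (a b c : ℕ) (W : Submodule k (MvPolynomial (Fin 4) k))
    (hW : W ≤ Submodule.span k {f : MvPolynomial (Fin 4) k | ∃ e : Fin 4 →₀ ℕ, e 2 + e 3 = a ∧ e 0 + e 1 = b + e 2 ∧ f = MvPolynomial.monomial e 1})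
    (h₁ : ∀ i j : ℕ, i ≤ a → j * (c + 1) < b + i → ∃ w ∈ W, w ≠ 0 ∧
      mo.degree w = Finsupp.single 0 (b + i - j * (c + 1)) + Finsupp.single 1 (j * (c + 1)) +
        Finsupp.single 2 i + Finsupp.single 3 (a - i))
    (h₂ : ∀ i : ℕ, i ≤ a → ∃ w ∈ W, w ≠ 0 ∧
      mo.degree w = Finsupp.single 1 (b + i) + Finsupp.single 2 i + Finsupp.single 3 (a - i)) :
    W * Submodule.span k {f : MvPolynomial (Fin 4) k | ∃ e : Fin 4 →₀ ℕ, e 2 + e 3 = 0 ∧ e 0 + e 1 = c + e 2 ∧ f = MvPolynomial.monomial e 1} =
      Submodule.span k {f : MvPolynomial (Fin 4) k | ∃ e : Fin 4 →₀ ℕ, e 2 + e 3 = a ∧ e 0 + e 1 = (b + c) + e 2 ∧ f = MvPolynomial.monomial e 1} := by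
  classical
  have conv : ∀ B : ℕ, ∀ A : ℕ, {f : MvPolynomial (Fin 4) k | ∃ e : Fin 4 →₀ ℕ, e 2 + e 3 = A ∧ e 0 + e 1 = B + e 2 ∧ f = MvPolynomial.monomial e 1} =
      {f : MvPolynomial (Fin 4) k | ∃ e : Fin 4 →₀ ℕ, (e 2 + e 3 = A ∧ e 0 + e 1 = B + e 2) ∧ f = MvPolynomial.monomial e 1} := by
    intro B A
    ext f
    simp [and_assoc]
  rw [conv] at hW ⊢
  rw [conv]
  refine eq_of_leading (k := k) mo _ _ ?_ ?_
  · refine Submodule.mul_le.2 fun f hf g hg => ?_
    rw [mem_span_monomials]
    intro d hd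
    obtain ⟨d₁, hd₁, d₂, hd₂, rfl⟩ := Finset.mem_add.1 (MvPolynomial.support_mul f g hd)
    have h1 := (mem_span_monomials _ f).1 (hW hf) d₁ hd₁
    have h2 := (mem_span_monomials _ g).1 hg d₂ hd₂
    simp only [Finsupp.add_apply]
    omega
  · intro e he
    have build : ∀ (m : Fin 4 →₀ ℕ) (t₀ t₁ : ℕ), (∃ w ∈ W, w ≠ 0 ∧ mo.degree w = m) → t₀ + t₁ = c →
        e 0 = m 0 + t₀ → e 1 = m 1 + t₁ → e 2 = m 2 → e 3 = m 3 →
        ∃ g ∈ W * Submodule.span k {f : MvPolynomial (Fin 4) k | ∃ e : Fin 4 →₀ ℕ, (e 2 + e 3 = 0 ∧ e 0 + e 1 = c + e 2) ∧ f = MvPolynomial.monomial e 1}, g ≠ 0 ∧ mo.degree g = e := by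
      intro m t₀ t₁ hw ht h0 h1 h2 h3
      obtain ⟨w, hwW, hw0, hwm⟩ := hw
      let s : Fin 4 →₀ ℕ := Finsupp.single 0 t₀ + Finsupp.single 1 t₁
      have hs0 : s 0 = t₀ ∧ s 1 = t₁ ∧ s 2 = 0 ∧ s 3 = 0 := by
        simp [s, Finsupp.add_apply, Finsupp.single_apply]
      have hm0 : (MvPolynomial.monomial s (1 : k)) ≠ 0 := by simp
      refine ⟨w * MvPolynomial.monomial s 1, Submodule.mul_mem_mul hwW
        (Submodule.subset_span ⟨s, ⟨by omega, by omega⟩, rfl⟩), mul_ne_zero hw0 hm0, ?_⟩
      rw [MonomialOrder.degree_mul hw0 hm0, MonomialOrder.degree_monomial, if_neg one_ne_zero, hwm]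
      ext i
      fin_cases i <;> simp only [Finsupp.add_apply] <;> simp_all
    obtain ⟨he1, he2⟩ := he
    have hi : e 2 ≤ a := by omega
    by_cases hcase : b + e 2 ≤ e 1
    · refine build _ (c - (e 1 - (b + e 2))) (e 1 - (b + e 2)) (h₂ (e 2) hi) (by omega) ?_ ?_ ?_ ?_ <;>
        simp [Finsupp.single_apply] <;> omega
    · have hdm := Nat.div_add_mod (e 1) (c + 1)
      have hlt := Nat.mod_lt (e 1) (show c + 1 > 0 by omega)
      have hcomm : e 1 / (c + 1) * (c + 1) = (c + 1) * (e 1 / (c + 1)) := Nat.mul_comm _ _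
      refine build _ (c - e 1 % (c + 1)) (e 1 % (c + 1)) (h₁ (e 2) (e 1 / (c + 1)) hi (by omega))
        (by omega) ?_ ?_ ?_ ?_ <;> simp [Finsupp.single_apply] <;> omega

end Groth.Agent.S17658
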