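import Groth.Statements.S17659
import Groth.Agent.Lib.DegComp
-- import your own Groth.Agent.* helpers here

set_option autoImplicit false
set_option linter.style.haveILetI false
set_option backward.isDefEq.respectTransparency false
set_option backward.isDefEq.respectTransparency.types false

universe u
open CategoryTheory CategoryTheory.Limits AlgebraicGeometry
open CIDisc

namespace Groth.Agent.S17659

open Groth.Agent

theorem le_one_of_lt_two {x : WithBot ℕ∞} (h : x < ((2 : ℕ) : WithBot ℕ∞)) : x ≤ 1 := by
  induction x with
  | bot => exact bot_le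
  | coe a =>
    have h' : a < ((2 : ℕ) : ℕ∞) := WithBot.coe_lt_coe.1 h
    induction a with
    | top => exact absurd h' (not_lt.2 le_top)
    | coe m =>
      have : m < 2 := by exact_mod_cast h'
      exact WithBot.coe_le_coe.2 (by exact_mod_cast (show m ≤ 1 by omega))


/-- Let X be a proper scheme over a field k all of whose irreducible components have dimension one, E a
finite locally free O_X-module of constant rank n and F a coherent O_X-module. Then χ(X, E ⊗ F) =
Σ_Z r_Z(F) · deg(E|_{Z_red}) + n · χ(X, F), the sum running over the irreducible components Z of X,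
where r_Z(F) is the length of the stalk of F at the generic point ξ_Z of Z as a module over
O_{X,ξ_Z}, and Z_red is Z with its reduced induced structure (the closed subscheme cut out by the
radical of the ideal of the component). The Noetherian hypothesis on X is a consequence of
properness over k and is stated for convenience. -/
theorem result (k : Type u) [Field k] (X : Scheme.{u}) [X.Over (Spec (CommRingCat.of k))]
    [IsProper (X ↘ (Spec (CommRingCat.of k)))] [IsNoetherian X]
    (hdim : ∀ Z ∈ irreducibleComponents (X : Type u), topologicalKrullDim Z = 1)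
    (n : ℕ) (E : X.Modules) (hE : FlatMod.IsFinLocFreeOfRank n E) (F : X.Modules) (hF : Coh.IsCoh F) :
    Curv2.euler k X (CohB1.tensorMod E F) =
      (∑ᶠ Z : irreducibleComponents (X : Type u),
        ((Module.length (X.presheaf.stalk Z.2.1.genericPoint) (F.presheaf.stalk Z.2.1.genericPoint)).toNat : ℤ) *
          @Curv2.deg k _ (X.irreducibleComponentIdeal Z.1 Z.2).radical.subscheme
            ⟨(X.irreducibleComponentIdeal Z.1 Z.2).radical.subschemeι ≫ (X ↘ (Spec (CommRingCat.of k)))⟩
            ((Scheme.Modules.pullback (X.irreducibleComponentIdeal Z.1 Z.2).radical.subschemeι).obj E) n) +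
        (n : ℤ) * Curv2.euler k X F := by
  classical
  have hle : ∀ x : X, FibDim.rd (X ↘ Spec (CommRingCat.of k)) x ≤ 1 := fun x => by
    obtain ⟨W, hW1, hW2, hW3⟩ := exists_preirreducible (closure ({x} : Set X)) (isIrreducible_singleton.closure).2
    have hW : W ∈ irreducibleComponents X :=
      ⟨⟨(Set.singleton_nonempty x).mono (subset_closure.trans hW2), hW1⟩, fun T hT hle => (hW3 T hT.2 hle).le⟩
    have h1 := H23.TopDim.dim_le_dim_of_subset hW2
    rw [hdim W hW, SnapLead.dim_closure k x] at h1
    exact_mod_cast h1
  have hC : Cyc.CohLe (SnapLead.δ k) (((2 : ℕ) : ℤ) - 1) F := ⟨hF, fun x _ => by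
    have := hle x
    simp only [SnapLead.δ]
    omega⟩
  have hd : topologicalKrullDim ↥(CohB1.support F) ≤ 1 :=
    le_one_of_lt_two (SnapLead.dim_support_lt k hC)
  have key := DegComp.euler_sum k hE hF hd
  have key' : Curv2.euler k X (CohB1.tensorMod E F) = (∑ᶠ ξ : X,
      (if topologicalKrullDim (closure ({ξ} : Set X)) = (1 : WithBot ℕ∞) then
        ((Module.length (X.presheaf.stalk ξ) (F.presheaf.stalk ξ)).toNat : ℤ) * DegComp.degAt k E n ξ else 0)) +
      (n : ℤ) * Curv2.euler k X F := eq_add_of_sub_eq key
  rw [key']
  congr 1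
  have hgen : ∀ Z : irreducibleComponents (X : Type u), closure ({Z.2.1.genericPoint} : Set X) = Z.1 := fun Z => by
    rw [(IsIrreducible.isGenericPoint_genericPoint_closure Z.2.1).def, (isClosed_of_mem_irreducibleComponents Z.1 Z.2).closure_eq]
  let g : irreducibleComponents (X : Type u) → X := fun Z => Z.2.1.genericPoint
  have hinj : Function.Injective g := fun A B h => Subtype.ext (by rw [← hgen A, ← hgen B]; exact congrArg (fun p => closure ({p} : Set X)) h)
  rw [← finsum_mem_univ, ← finsum_mem_inter_support_eq' _ (Set.range g) Set.univ fun ξ hξ => ?_,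
    finsum_mem_range hinj]
  · refine finsum_congr fun Z => ?_
    rw [hgen, if_pos (hdim Z.1 Z.2)]
    have hI : (X.irreducibleComponentIdeal Z.1 Z.2).radical = IntMult.ptIdeal (g Z) := by
      rw [← Scheme.IdealSheafData.vanishingIdeal_support, IntMult.ptIdeal]
      congr 1
      exact TopologicalSpace.Closeds.ext (hgen Z).symm
    rw [hI]
    rfl
  · refine ⟨fun _ => trivial, fun _ => ?_⟩
    simp only [Function.mem_support, ne_eq, ite_eq_right_iff, not_forall] at hξ
    obtain ⟨hdim1, -⟩ := hξ
    obtain ⟨W, hW1, hW2, hW3⟩ := exists_preirreducible (closure ({ξ} : Set X)) (isIrreducible_singleton.closure).2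
    have hW : W ∈ irreducibleComponents X :=
      ⟨⟨(Set.singleton_nonempty ξ).mono (subset_closure.trans hW2), hW1⟩, fun T hT hle => (hW3 T hT.2 hle).le⟩
    refine ⟨⟨W, hW⟩, ?_⟩
    have hsp : g ⟨W, hW⟩ ⤳ ξ := specializes_iff_mem_closure.2 (by
      rw [show closure ({g ⟨W, hW⟩} : Set X) = W from hgen ⟨W, hW⟩]; exact hW2 (subset_closure rfl))
    by_contra hne
    have hlt := CycLib.delta_lt (SnapLead.isDimFun k) hsp hne
    have h2 := SnapLead.dim_closure k ξ
    rw [hdim1] at h2
    simp only [SnapLead.δ] at hlt
    have h4 := hle (g ⟨W, hW⟩)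
    have h5 : FibDim.rd (X ↘ Spec (CommRingCat.of k)) ξ = 1 := by exact_mod_cast h2.symm
    omega
end Groth.Agent.S17659
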