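import Groth.Statements.S17661
import Groth.Agent.S0440
import Mathlib.AlgebraicGeometry.Morphisms.Smooth
import Mathlib.RingTheory.Smooth.Basic

set_option autoImplicit false
universe u
open CategoryTheory CategoryTheory.Limits AlgebraicGeometry
open Ribbon

namespace Groth.Agent.S17661

/-- Let k be a field, C a scheme locally of finite type over k and I ⊂ O_C a quasi-coherent ideal with
I² = 0, with closed subscheme D ⊂ C; suppose D is affine, connected and smooth over k and that I,
regarded as an O_D-module, is invertible (so C is a ribbon on the smooth affine scheme D, and D is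
the reduced scheme underlying C). Then the ribbon is split: the inclusion D → C admits a retraction
C → D over k. -/
theorem result (k : Type u) [Field k] (C : Scheme.{u}) [C.Over (Spec (CommRingCat.of k))]
    [LocallyOfFiniteType (C ↘ (Spec (CommRingCat.of k)))]
    (I : C.IdealSheafData) (hI : I ^ 2 = ⊥) [IsAffine I.subscheme] [ConnectedSpace I.subscheme]
    [Smooth (I.subschemeι ≫ (C ↘ (Spec (CommRingCat.of k))))]
    (hconormal : PicF.IsInvertible ((Scheme.Modules.pullback I.subschemeι).obj (ClSub.idealMod I))) :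
    ∃ r : C ⟶ I.subscheme, I.subschemeι ≫ r = 𝟙 I.subscheme ∧
      r ≫ I.subschemeι ≫ (C ↘ (Spec (CommRingCat.of k))) = C ↘ (Spec (CommRingCat.of k)) := by
  have hsurj : Function.Surjective I.subschemeι := fun c => by
    have h := I.support_pow 2 two_ne_zero
    rw [hI, Scheme.IdealSheafData.support_bot] at h
    have hc : c ∈ (I.support : Set C) := by rw [← h]; trivial
    rw [← Scheme.IdealSheafData.range_subschemeι] at hc
    exact hc
  haveI : IsAffine C := Groth.Agent.S0440.result I.subschemeι hsurj
  set φ := I.subschemeι.appTop with hφ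
  have hker : RingHom.ker φ.hom = I.ideal ⟨⊤, isAffineOpen_top C⟩ := I.ker_subschemeι_app ⟨⊤, isAffineOpen_top C⟩
  have hnil : IsNilpotent (RingHom.ker φ.hom) :=
    ⟨2, by
      have h := congrFun (I.ideal_pow 2) ⟨⊤, isAffineOpen_top C⟩
      rw [hI, Pi.pow_apply] at h
      rw [hker, ← h, Scheme.IdealSheafData.ideal_bot]
      rfl⟩
  have hφs : Function.Surjective φ.hom := (IsClosedImmersion.isAffine_surjective_of_isAffine I.subschemeι).2
  have hsm : (I.subschemeι ≫ (C ↘ Spec (CommRingCat.of k))).appTop.hom.Smooth :=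
    HasRingHomProperty.appTop @Smooth _ inferInstance
  have hfs := hsm.formallySmooth
  rw [Scheme.Hom.comp_appTop, CommRingCat.hom_comp] at hfs
  set K := Γ(Spec (CommRingCat.of k), ⊤)
  letI := (C ↘ Spec (CommRingCat.of k)).appTop.hom.toAlgebra
  letI := (φ.hom.comp (C ↘ Spec (CommRingCat.of k)).appTop.hom).toAlgebra
  haveI : Algebra.FormallySmooth K Γ(I.subscheme, ⊤) := hfs
  let φ' : Γ(C, ⊤) →ₐ[K] Γ(I.subscheme, ⊤) := { φ.hom with commutes' := fun _ => rfl }
  let s := Algebra.FormallySmooth.liftOfSurjective (AlgHom.id K Γ(I.subscheme, ⊤)) φ' hφs hnil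
  have hs : φ'.comp s = AlgHom.id K _ := Algebra.FormallySmooth.comp_liftOfSurjective _ φ' hφs hnil
  let r : C ⟶ I.subscheme := C.isoSpec.hom ≫ Spec.map (CommRingCat.ofHom s.toRingHom) ≫ I.subscheme.isoSpec.inv
  have hr : r.appTop = CommRingCat.ofHom s.toRingHom := by
    have h1 : r ≫ I.subscheme.toSpecΓ = C.toSpecΓ ≫ Spec.map (CommRingCat.ofHom s.toRingHom) := by
      simp [r, Scheme.isoSpec]
    have h2 := congrArg Scheme.Hom.appTop h1
    simp only [Scheme.Hom.comp_appTop, Scheme.toSpecΓ_appTop, Scheme.ΓSpecIso_naturality, cancel_epi] at h2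
    exact (cancel_epi _).1 h2
  refine ⟨r, ext_of_isAffine ?_, ext_of_isAffine ?_⟩
  · rw [Scheme.Hom.comp_appTop, hr, Scheme.Hom.id_appTop]
    exact CommRingCat.hom_ext (RingHom.ext fun a => AlgHom.congr_fun hs a)
  · rw [Scheme.Hom.comp_appTop, Scheme.Hom.comp_appTop, hr]
    exact CommRingCat.hom_ext (RingHom.ext fun a => s.commutes a)

end Groth.Agent.S17661
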