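import Groth.Statements.S17662
import Mathlib.LinearAlgebra.Matrix.Determinant.Basic
import Mathlib.LinearAlgebra.Matrix.NonsingularInverse
import Mathlib.Data.Finset.Sort
-- import your own Groth.Agent.* helpers here

set_option autoImplicit false
universe u
open CIDisc

namespace Groth.Agent.S17662

/-- Let R be a commutative ring, M an r × n matrix over R and e ≥ 0; for each e-element set L of row
indices let A_L be an e × r matrix over R, and form the square matrix, indexed by the e-element sets
of row indices, whose (L, L') entry is the e × e minor of A_L on the columns L'. If the determinant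
of that square matrix is a unit, then the sum over L of the ideals generated by the e × e minors of
the products A_L · M is the ideal generated by all e × e minors of M. (In the source R is the
coordinate ring of an affine scheme X of codimension e cut out by f_1, …, f_r in affine n-space, M
is the image of the Jacobian matrix of the f_j, the A_L have entries in the ground field and cut out
complete intersections Z_L = V(A_L · f), so that the two sides are Σ_L Jac(Z_L) and Jac(X); the
source states the equality for general A_L and establishes it under the present invertibility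
condition, which it shows to be generic.) -/
theorem result {R : Type u} [CommRing R] (e r n : ℕ)
    (M : Matrix (Fin r) (Fin n) R)
    (A : {s : Finset (Fin r) // s.card = e} → Matrix (Fin e) (Fin r) R)
    (hA : IsUnit (Matrix.det (Matrix.of fun i j : {s : Finset (Fin r) // s.card = e} =>
      ((A i).submatrix id (j.1.orderEmbOfFin j.2)).det))) :
    (⨆ i, Ideal.span (Set.range fun t : {s : Finset (Fin n) // s.card = e} =>
        ((A i * M).submatrix id (t.1.orderEmbOfFin t.2)).det)) =
      Ideal.span (Set.range fun p : {s : Finset (Fin r) // s.card = e} × {s : Finset (Fin n) // s.card = e} =>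
        (M.submatrix (p.1.1.orderEmbOfFin p.1.2) (p.2.1.orderEmbOfFin p.2.2)).det) := by
  classical
  have key : ∀ {k : ℕ} (B : Matrix (Fin e) (Fin r) R) (N : Matrix (Fin r) (Fin k) R) (c : Fin e → Fin k),
      ((B * N).submatrix id c).det = ∑ p : {s : Finset (Fin r) // s.card = e},
        (B.submatrix id (p.1.orderEmbOfFin p.2)).det * (N.submatrix (p.1.orderEmbOfFin p.2) c).det := by
    intro k B N c
    let D := (Matrix.detRowAlternating : (Fin e → R) [⋀^Fin e]→ₗ[R] R).toMultilinearMap
    let g : (Fin e → Fin r) → R := fun f => (∏ i, N (f i) (c i)) * (B.submatrix id f).det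
    have h1 : ((B * N).submatrix id c).det = ∑ f, g f := by
      rw [← Matrix.det_transpose]
      show D _ = _
      rw [show (((B * N).submatrix id c).transpose : Fin e → Fin e → R) =
          (fun i => ∑ j : Fin r, N j (c i) • (fun l => B l j)) by
        funext i l; simp [Matrix.mul_apply, mul_comm], MultilinearMap.map_sum]
      refine Finset.sum_congr rfl fun f _ => ?_
      rw [MultilinearMap.map_smul_univ, smul_eq_mul]
      congr 1
      exact (Matrix.det_transpose _).trans rfl
    let em : {s : Finset (Fin r) // s.card = e} × Equiv.Perm (Fin e) → (Fin e → Fin r) :=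
      fun q => q.1.1.orderEmbOfFin q.1.2 ∘ q.2
    have hem : Function.Injective em := by
      rintro ⟨⟨s, hs⟩, σ⟩ ⟨⟨t, ht⟩, τ⟩ h
      have hst : s = t := by
        have h2 := congrArg Set.range h
        simp only [em, Set.range_comp, σ.surjective.range_eq, τ.surjective.range_eq, Set.image_univ,
          Finset.range_orderEmbOfFin, Finset.coe_inj] at h2
        exact h2
      subst hst
      have : σ = τ := Equiv.ext fun i => (s.orderEmbOfFin hs).injective (congrFun h i)
      rw [this]
    have hout : ∀ f, f ∉ Set.range em → g f = 0 := by
      intro f hf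
      by_cases hi : Function.Injective f
      · exfalso
        refine hf ?_
        have hs : (Finset.univ.image f).card = e := by
          rw [Finset.card_image_of_injective _ hi, Finset.card_univ, Fintype.card_fin]
        have hmem : ∀ i, ∃ j, (Finset.univ.image f).orderEmbOfFin hs j = f i := fun i => by
          have : f i ∈ Set.range ((Finset.univ.image f).orderEmbOfFin hs) := by
            rw [Finset.range_orderEmbOfFin]; simp
          exact this
        choose σ hσ using hmem
        have hσi : Function.Injective σ := fun a b h => hi (by rw [← hσ a, ← hσ b, h])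
        exact ⟨⟨⟨_, hs⟩, Equiv.ofBijective σ (Finite.injective_iff_bijective.1 hσi)⟩, funext hσ⟩
      · simp only [Function.Injective, not_forall] at hi
        obtain ⟨a, b, hab, hne⟩ := hi
        show _ * (B.submatrix id f).det = 0
        rw [Matrix.det_zero_of_column_eq hne (fun i => by simp [hab]), mul_zero]
    rw [h1, ← Fintype.sum_of_injective em hem (fun q => g (em q)) g hout (fun q => rfl), Fintype.sum_prod_type]
    refine Finset.sum_congr rfl fun p _ => ?_
    rw [Matrix.det_apply' (N.submatrix _ c), Finset.mul_sum]
    refine Finset.sum_congr rfl fun σ _ => ?_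
    show _ * (B.submatrix id (p.1.orderEmbOfFin p.2 ∘ σ)).det = _
    rw [show B.submatrix id (p.1.orderEmbOfFin p.2 ∘ σ) = (B.submatrix id (p.1.orderEmbOfFin p.2)).submatrix id σ from rfl,
      Matrix.det_permute']
    simp only [Function.comp_apply, Matrix.submatrix_apply, em]
    ring
  let ι := {s : Finset (Fin r) // s.card = e}
  let D : Matrix ι ι R := Matrix.of fun i j => ((A i).submatrix id (j.1.orderEmbOfFin j.2)).det
  let v : {s : Finset (Fin n) // s.card = e} → ι → R := fun t p =>
    (M.submatrix (p.1.orderEmbOfFin p.2) (t.1.orderEmbOfFin t.2)).det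
  let J := Ideal.span (Set.range fun p : {s : Finset (Fin r) // s.card = e} × {s : Finset (Fin n) // s.card = e} =>
        (M.submatrix (p.1.1.orderEmbOfFin p.1.2) (p.2.1.orderEmbOfFin p.2.2)).det)
  have hw : ∀ (i : ι) t, ((A i * M).submatrix id (t.1.orderEmbOfFin t.2)).det = (D.mulVec (v t)) i :=
    fun i t => key (A i) M _
  refine le_antisymm (iSup_le fun i => Ideal.span_le.2 ?_) (Ideal.span_le.2 ?_)
  · rintro _ ⟨t, rfl⟩
    show ((A i * M).submatrix id (t.1.orderEmbOfFin t.2)).det ∈ J
    rw [hw]
    simp only [Matrix.mulVec, dotProduct]
    exact Submodule.sum_mem J fun p _ => Ideal.mul_mem_left J _ (Ideal.subset_span ⟨(p, t), rfl⟩)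
  · rintro _ ⟨⟨p, t⟩, rfl⟩
    have hinv : D⁻¹.mulVec (D.mulVec (v t)) = v t := by
      rw [Matrix.mulVec_mulVec, Matrix.nonsing_inv_mul D hA, Matrix.one_mulVec]
    show v t p ∈ _
    rw [← hinv]
    simp only [Matrix.mulVec, dotProduct]
    refine Submodule.sum_mem _ fun i _ => Ideal.mul_mem_left _ _ ?_
    have h := hw i t
    simp only [Matrix.mulVec, dotProduct] at h
    rw [← h]; exact Ideal.mem_iSup_of_mem i (Ideal.subset_span ⟨t, rfl⟩)

end Groth.Agent.S17662
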