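import Groth.Statements.S17667
import Groth.Agent.Ribbon18.Pic
-- import your own Groth.Agent.* helpers here

set_option autoImplicit false
universe u
open CategoryTheory CategoryTheory.Limits AlgebraicGeometry
open Ribbon

namespace Groth.Agent.S17667

/-- Let C be a ribbon of arithmetic genus g on the projective line over a field k — a proper k-scheme
with a quasi-coherent ideal I ⊂ O_C, I² = 0, whose closed subscheme D is k-isomorphic to P^1 and
such that I, as an O_D-module, is isomorphic to O_{P^1}(-g-1) — and take the group law on Pic C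
given by the tensor product. Then H^1(C, I) = H^1(P^1, O(-g-1)) is a k-vector space of dimension g
and Pic C ≅ H^1(C, I) × ℤ as abelian groups, by an isomorphism whose ℤ-component on the class of an
invertible O_C-module L is the degree χ(L|_D) - χ(O_D) of the restriction of L to D. (Existence of
such an isomorphism; the source derives it from the units sequence 0 → I → O_C^× → O_D^× → 1. Stated
over an arbitrary field.) -/
theorem result (k : Type u) [Field k] (C : Scheme.{u}) [C.Over (Spec (CommRingCat.of k))]
    [IsProper (C ↘ (Spec (CommRingCat.of k)))]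
    (I : C.IdealSheafData) (hI : I ^ 2 = ⊥)
    (e : I.subscheme ≅ CohB1.ProjSpace 1 k)
    (he : e.hom ≫ CohB1.ProjSpace.toSpec 1 k = I.subschemeι ≫ (C ↘ (Spec (CommRingCat.of k))))
    (g : ℕ)
    (hconormal : Nonempty ((Scheme.Modules.pullback I.subschemeι).obj (ClSub.idealMod I) ≅
      (Scheme.Modules.pullback e.hom).obj (Twist.twistProjSpace 1 k (-((g : ℤ) + 1)))))
    [PicGrp.Law C] :
    Module.finrank k (Coh.HH C (ClSub.idealMod I) 1) = g ∧
    ∃ φ : Additive (PicLoc.PicSet C) ≃+ Coh.HH C (ClSub.idealMod I) 1 × ℤ,
      ∀ (L : C.Modules) (hL : PicF.IsInvertible L),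
        (φ (Additive.ofMul (PicGrp.cls L hL))).2 =
          @Curv2.deg k _ I.subscheme ⟨I.subschemeι ≫ (C ↘ (Spec (CommRingCat.of k)))⟩
            ((Scheme.Modules.pullback I.subschemeι).obj L) 1 := by
  exact Groth.Agent.Ribbon18.exists_pic hI e he g hconormal

end Groth.Agent.S17667
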