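import Groth.Agent.H23.ExtCap
import Groth.Statements.S17675
-- import your own Groth.Agent.* helpers here

set_option autoImplicit false
universe u
open CategoryTheory CategoryTheory.Limits AlgebraicGeometry
open Bivar
open Groth.Agent Groth.Agent.H23

namespace Groth.Agent.S17675

/-- Together with the observation preceding it: let k be a field, X proper over k, Y locally of finite
type over k, P = X ×_k Y with its projections q₁, q₂, and let X, Y, P carry the dimension functions
induced from the base point (dimension of the closure of a point). Let f : Y → X be a k-morphism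
with graph γ : Y → P, let c be an operational class of degree p on X (an element of the operational
Chow group A^p(X): compatible operations on the Chow groups of all schemes locally of finite type
over X, not a cycle class), and let z be an m-cycle on Y. Suppose that in the Chow group CH_m(P) the
class of the pushforward γ_* z is a finite combination Σ_i n_i [u_i × v_i] of classes of exterior
products, u_i an a_i-cycle on X and v_i an (m − a_i)-cycle on Y; here the exterior product u × v is
the m-cycle on P whose coefficient at a point z over (x, y) with dim z = dim x + dim y is u(x) v(y)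
times the length of O_{P,z}/(m_x, m_y), and 0 at other points. Let β_i be any (a_i − p)-cycle on X
whose class is c ∩ [u_i]. Then c ∩ [z], with c acting on Y through f, is the class in CH_{m−p}(Y) of
the cycle Σ_i n_i deg(β_i) v_i; the degree of β_i is zero unless a_i = p. (The published statement
takes k algebraically closed, X complete with finitely many orbits of a connected solvable group, Y
= X, f the identity and γ the diagonal, and decomposes the push-forward along the diagonal of the
class of an invariant subvariety into products of classes of invariant subvarieties; in the printed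
argument f is any morphism, any such decomposition is allowed, and k only needs to be a field. The
printed schemes are separated and of finite type over k; here Y may be any scheme locally of finite
type over k, a wider class of test schemes.) -/
theorem result
    {k : Type u} [Field k] {X Y P : Scheme.{u}}
    (pX : X ⟶ Spec (.of k)) (pY : Y ⟶ Spec (.of k)) [IsProper pX] [LocallyOfFiniteType pY]
    (q₁ : P ⟶ X) (q₂ : P ⟶ Y) (hP : IsPullback q₁ q₂ pX pY)
    (δX : X → ℤ) (δY : Y → ℤ) (δP : P → ℤ)
    (hX : Cyc.IsSetup X δX) (hY : Cyc.IsSetup Y δY) (hPδ : Cyc.IsSetup P δP)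
    (hδX : Cyc.DeltaCompat pX δX (fun _ => 0)) (hδY : Cyc.DeltaCompat pY δY (fun _ => 0))
    (hδP : Cyc.DeltaCompat q₁ δP δX)
    (f : Y ⟶ X) (hf : f ≫ pX = pY) (hfl : LocallyOfFiniteType f) (hfδ : Cyc.DeltaCompat f δY δX)
    (γ : Y ⟶ P) [IsClosedImmersion γ] (hγ₁ : γ ≫ q₁ = f) (hγ₂ : γ ≫ q₂ = 𝟙 Y)
    {p m : ℤ} (c : Bivar.OpCl p X δX) (z : AlgebraicCycle Y ℤ) (hz : z ∈ Cyc.Zk Y δY m)
    {ι : Type} [Fintype ι] (n : ι → ℤ) (a : ι → ℤ)
    (u : ι → AlgebraicCycle X ℤ) (hu : ∀ i, u i ∈ Cyc.Zk X δX (a i))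
    (v : ι → AlgebraicCycle Y ℤ) (hv : ∀ i, v i ∈ Cyc.Zk Y δY (m - a i))
    (ζ : ι → AlgebraicCycle P ℤ) (hζm : ∀ i, ζ i ∈ Cyc.Zk P δP m)
    (hζ : ∀ (i : ι) (t : P), ζ i t =
          if δP t = δX (q₁ t) + δY (q₂ t) then
            u i (q₁ t) * v i (q₂ t) *
              ((Module.length (P.presheaf.stalk t) (P.presheaf.stalk t ⧸
                (Ideal.map (q₁.stalkMap t).hom (IsLocalRing.maximalIdeal (X.presheaf.stalk (q₁ t))) ⊔
                  Ideal.map (q₂.stalkMap t).hom (IsLocalRing.maximalIdeal (Y.presheaf.stalk (q₂ t)))))).toNat : ℤ)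
          else 0)
    (hdec : ChowOps.cl (AlgebraicCycle.map γ δY δP z) (Bivar.cycMap_mem_Zk γ δY δP m hz) =
      ∑ i, n i • ChowOps.cl (ζ i) (hζm i))
    (β : ι → AlgebraicCycle X ℤ) (hβ : ∀ i, β i ∈ Cyc.Zk X δX (a i - p))
    (hcβ : ∀ i, c.cap (a i) (ChowOps.cl (u i) (hu i)) = ChowOps.cl (β i) (hβ i))
    (H : (∑ i, (n i * ChowOps.deg pX δX (β i)) • v i) ∈ Cyc.Zk Y δY (m - p)) :
    c.op ⟨Y, f, hfl, δY, hfδ⟩ m (ChowOps.cl z hz) =
      ChowOps.cl (∑ i, (n i * ChowOps.deg pX δX (β i)) • v i) H := by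
  haveI := ExtCap.isProper_snd hP
  let sP := ExtCap.sP hP hδP
  have hq₂ := ExtCap.deltaCompat_snd hP hδX hδY hδP
  obtain ⟨β₀, hβ₀, e1, e2⟩ := c.push sP ⟨Y, f, hfl, δY, hfδ⟩ γ hγ₁ m z hz
  have hγδ : Cyc.DeltaCompat γ δY δP :=
    ChowDesc.deltaCompat_hom (s := sP) (t := ⟨Y, f, hfl, δY, hfδ⟩) γ hγ₁
  have e3 : PushClass.mapCH q₂ hPδ hY hq₂ (m - p)
      (c.op sP m (ChowOps.cl (AlgebraicCycle.map γ δY δP z) (Bivar.cycMap_mem_Zk γ δY δP m hz))) =
      c.op ⟨Y, f, hfl, δY, hfδ⟩ m (ChowOps.cl z hz) := by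
    rw [e2, PushClass.mapCH_cl, e1]
    refine Bivar.cl_congr ?_ _ _
    rw [CycLib.map_map γ q₂ hγδ hq₂, CycLib.map_congr hγ₂]
    exact ExtCap.map_id' β₀
  rw [← e3, hdec, map_sum, map_sum]
  choose Hi hi using fun i => ExtCap.cap_cross hP hX hY hPδ hδX hδY hδP c (hu i) (hβ i) (hcβ i) (hv i) (hζm i)
    (fun t => hζ i t)
  have hmem : ∀ i, (n i * ChowOps.deg pX δX (β i)) • v i ∈ Cyc.Zk Y δY (m - p) := fun i => by
    rw [mul_smul]
    exact ExtCap.zsmul_mem _ (Hi i)
  rw [ExtCap.cl_sum Finset.univ (fun i => (n i * ChowOps.deg pX δX (β i)) • v i) hmem H]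
  refine Finset.sum_congr rfl fun i _ => ?_
  rw [map_zsmul, map_zsmul, hi i, ← ExtCap.cl_zsmul (n i) _ (Hi i) (ExtCap.zsmul_mem _ (Hi i))]
  exact Bivar.cl_congr (mul_smul _ _ _).symm _ _

end Groth.Agent.S17675
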