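import Groth.Statements.S17677
import Groth.Agent.ComodLib.Contraction
-- import your own Groth.Agent.* helpers here

set_option autoImplicit false
universe u
open Hoch

namespace Groth.Agent.S17677

/-- Let k be a commutative ring, M a commutative monoid and V a right comodule over the monoid bialgebra
k[M] (a quasi-coherent module with an action of the diagonalizable monoid scheme Spec k[M]). Then
every 1-cocycle of the Hochschild complex of V is a 1-coboundary, i.e. the first Hochschild
cohomology module of the diagonalizable monoid with coefficients in V is zero. (The source works
over an algebraic space with M finitely generated and cancellative, hypotheses it uses only to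
identify modules under the monoid with comodules; the cocycle computation, which is the affine
statement given here, uses neither.) -/
theorem result (k : Type u) [CommRing k] (M : Type u)
    [AddCommMonoid M] (V : Type u) [AddCommGroup V] [Module k V]
    [HopfRep.Comod k (AddMonoidAlgebra k M) V] :
    Hoch.cocycles k (AddMonoidAlgebra k M) V 1 ≤ Hoch.coboundaries k (AddMonoidAlgebra k M) V 1 := by
  obtain ⟨α, hα, h1⟩ := Groth.Agent.ComodLib.isIntegral_coeff_zero k M
  exact Groth.Agent.ComodLib.cocycles_le_coboundaries_of_rightIntegral hα.isRightIntegral h1 0

end Groth.Agent.S17677
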