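import Groth.Statements.S17678
import Mathlib.RingTheory.RingHom.Flat
import Mathlib.Algebra.MonoidAlgebra.Basic
-- import your own Groth.Agent.* helpers here

set_option autoImplicit false
universe u v
open DiagMon

namespace Groth.Agent.S17678

/-- Let R be a commutative ring and N an abelian group. Then the ring map R[N] → R[N × N] of monoid
algebras induced by the diagonal n ↦ (n, n), which is the comorphism of the multiplication morphism
of the diagonalizable group scheme Spec R[N] over Spec R, is flat. (The published statement asserts
flatness for every cancellative commutative monoid N, on the ground that N acts freely on N × N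
through the diagonal; but for the submonoid N of the natural numbers generated by 2 and 3, the pairs
(x, x − 1) with x ≥ 3 form one orbit class that is not a free orbit, and the corresponding direct
summand of k[N × N] is the ideal t³k[t] viewed as a module over k[t², t³], which is not flat. The
statement is therefore given for groups, where N × N is a free N-set with basis the pairs (0, b).) -/
theorem result (R : Type u) [CommRing R] (N : Type v)
    [AddCommGroup N] :
    (AddMonoidAlgebra.mapDomainRingHom R ((AddMonoidHom.id N).prod (AddMonoidHom.id N))).Flat := by
  let sh : N × N ≃+ N × N :=
    { toFun := fun x => (x.2 + x.1, x.2)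
      invFun := fun x => (x.1 - x.2, x.2)
      left_inv := fun x => by simp
      right_inv := fun x => by simp
      map_add' := fun x y => by ext <;> simp only [Prod.fst_add, Prod.snd_add] <;> abel }
  let e : AddMonoidAlgebra (AddMonoidAlgebra R N) N ≃+* AddMonoidAlgebra R (N × N) :=
    AddMonoidAlgebra.curryRingEquiv.symm.trans (AddMonoidAlgebra.mapDomainRingEquiv R sh)
  have h : AddMonoidAlgebra.mapDomainRingHom R ((AddMonoidHom.id N).prod (AddMonoidHom.id N)) =
      e.toRingHom.comp AddMonoidAlgebra.singleZeroRingHom := by
    apply AddMonoidAlgebra.ringHom_ext
    · intro r; simp [e, sh]
    · intro n; simp [e, sh]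
  rw [h]
  refine RingHom.Flat.comp ?_ (RingHom.Flat.of_bijective e.bijective)
  have : (AddMonoidAlgebra.singleZeroRingHom : AddMonoidAlgebra R N →+* AddMonoidAlgebra (AddMonoidAlgebra R N) N) =
      algebraMap _ _ := by ext <;> simp
  rw [this, RingHom.flat_algebraMap_iff]
  infer_instance

end Groth.Agent.S17678
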