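import Groth.Statements.S17679
import Mathlib.LinearAlgebra.Dimension.Constructions
import Mathlib.LinearAlgebra.Dimension.OrzechProperty
import Mathlib.LinearAlgebra.Dimension.Free
import Mathlib.RingTheory.FiniteType
import Mathlib.RingTheory.Finiteness.Basic
-- import your own Groth.Agent.* helpers here

set_option autoImplicit false
open DiagMon

namespace Groth.Agent.S17679

/-- For n ≥ 1 the minimal number of generators of ℤ^n as an additive monoid is n + 1: some n + 1
elements generate ℤ^n as a monoid, and every finite set generating ℤ^n as a monoid has at least n +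
1 elements. (For n = 0 the empty set generates the zero monoid, so the count n + 1 is stated for n ≥
1 only.) -/
theorem result (n : ℕ) (hn : 1 ≤ n) :
    (∃ s : Finset (Fin n → ℤ), s.card = n + 1 ∧ AddSubmonoid.closure (s : Set (Fin n → ℤ)) = ⊤) ∧
    ∀ s : Finset (Fin n → ℤ), AddSubmonoid.closure (s : Set (Fin n → ℤ)) = ⊤ → n + 1 ≤ s.card := by
  classical
  constructor
  · let e : Fin (n+1) → (Fin n → ℤ) := Fin.cons (fun _ => -1) (fun i => Pi.single i 1)
    have he : Function.Injective e := by
      rw [Fin.cons_injective_iff]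
      refine ⟨?_, fun a b h => ?_⟩
      · rintro ⟨i, hi⟩
        simpa using congrFun hi i
      · by_contra hne
        simpa [Pi.single_eq_of_ne hne] using congrFun h a
    refine ⟨Finset.univ.image e, by simp [Finset.card_image_of_injective _ he], ?_⟩
    rw [Finset.coe_image, Finset.coe_univ, Set.image_univ, eq_top_iff]
    set C := AddSubmonoid.closure (Set.range e)
    have hp : ∀ i, Pi.single i (1:ℤ) ∈ C := fun i => AddSubmonoid.subset_closure ⟨i.succ, by simp [e]⟩
    have hm : (fun _ => (-1:ℤ)) ∈ C := AddSubmonoid.subset_closure ⟨0, by simp [e]⟩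
    intro v _
    obtain ⟨c, hc⟩ : ∃ c : ℕ, ∀ i, 0 ≤ v i + c := ⟨∑ i, (v i).natAbs, fun i => by
      have := Finset.single_le_sum (f := fun i => (v i).natAbs) (fun _ _ => Nat.zero_le _) (Finset.mem_univ i)
      omega⟩
    have hv : v = c • (fun _ => (-1:ℤ)) + ∑ i, (v i + c).toNat • Pi.single i (1:ℤ) := by
      ext j
      simp [Finset.sum_apply, Pi.single_apply, max_eq_left (hc j)]
    rw [hv]
    exact C.add_mem (C.nsmul_mem hm _) (C.sum_mem fun i _ => C.nsmul_mem (hp i) _)
  · intro s hs
    by_contra hlt
    push Not at hlt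
    have hspan : ⊤ ≤ Submodule.span ℤ (Set.range ((↑) : ↥(s : Set (Fin n → ℤ)) → Fin n → ℤ)) := by
      intro v _
      rw [Subtype.range_coe]
      have hle : AddSubmonoid.closure (s : Set (Fin n → ℤ)) ≤
          (Submodule.span ℤ (s : Set (Fin n → ℤ))).toAddSubmonoid :=
        AddSubmonoid.closure_le.mpr Submodule.subset_span
      exact hle (hs ▸ trivial)
    have hle' : Module.finrank ℤ (Fin n → ℤ) ≤ s.card := by
      have h := finrank_range_le_card (R := ℤ) ((↑) : ↥(s : Set (Fin n → ℤ)) → Fin n → ℤ)
      rw [Set.finrank, top_le_iff.mp hspan, finrank_top] at h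
      simpa using h
    simp only [Module.finrank_fintype_fun_eq_card, Fintype.card_fin] at hle'
    have hli := linearIndependent_of_top_le_span_of_card_eq_finrank hspan (by simp; omega)
    let B := Module.Basis.mk hli hspan
    have hpos : ∀ v ∈ AddSubmonoid.closure (s : Set (Fin n → ℤ)), ∀ i, 0 ≤ B.coord i v := by
      intro v hv
      induction hv using AddSubmonoid.closure_induction with
      | mem x hx =>
        intro i
        have : x = B ⟨x, hx⟩ := by simp [B]
        rw [this, Module.Basis.coord_apply, Module.Basis.repr_self, Finsupp.single_apply]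
        split_ifs <;> simp
      | zero => simp
      | add x y _ _ hx hy => intro i; rw [map_add]; exact add_nonneg (hx i) (hy i)
    obtain ⟨x, hx⟩ : s.Nonempty := Finset.card_pos.mp (by omega)
    have := hpos (-x) (hs ▸ trivial) ⟨x, hx⟩
    have hB : x = B ⟨x, hx⟩ := by simp [B]
    have h1 : B.coord ⟨x, hx⟩ x = 1 := by
      conv_lhs => arg 2; rw [hB]
      simp
    rw [map_neg, h1] at this
    norm_num at this

end Groth.Agent.S17679
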