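import Groth.Statements.S17680
import Groth.Agent.FlatWeil.Group
-- import your own Groth.Agent.* helpers here

set_option autoImplicit false
set_option backward.isDefEq.respectTransparency false
set_option synthInstance.maxHeartbeats 400000
set_option backward.isDefEq.respectTransparency.types false
set_option maxHeartbeats 1000000
universe u
open CategoryTheory MonoidalCategory CartesianMonoidalCategory MonObj GrpObj AlgebraicGeometry
open AlgGrp

open CategoryTheory.Limits
set_option linter.style.haveILetI false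

namespace Groth.Agent.S17680

/-- Let S be a scheme, G a flat S-group scheme of finite presentation with connected fibres, and X an
S-scheme locally of finite presentation on which G acts; assume that S is locally Noetherian or that
X is quasi-separated over S. Then the subfunctor of G-fixed points of X, whose T-points are the
T-points x of X with g · x_{T'} = x_{T'} for every S-scheme T' over T and every T'-point g of G, is
represented by a closed subscheme of X whose inclusion is of finite presentation. (The source allows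
X to be an algebraic space over S; this row is the case of a scheme.) -/
theorem result (S : Scheme.{u})
    (G : Over S) [GrpObj G] [Flat G.hom] [LocallyOfFinitePresentation G.hom] [QuasiCompact G.hom]
    [QuasiSeparated G.hom] (hconn : ∀ s : S, ConnectedSpace (G.hom.fiber s))
    (X : Over S) [LocallyOfFinitePresentation X.hom] (hS : IsLocallyNoetherian S ∨ QuasiSeparated X.hom)
    (a : AlgGrp.Action G X) :
    ∃ (F : Scheme.{u}) (f : F ⟶ X.left), IsClosedImmersion f ∧ LocallyOfFinitePresentation f ∧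
      ∀ (T : Over S) (x : T ⟶ X), (∃ y : T.left ⟶ F, y ≫ f = x.left) ↔
        ∀ (T' : Over S) (t : T' ⟶ T) (g : T' ⟶ G), lift g (t ≫ x) ≫ a.act = t ≫ x := by
  have hconn' : ∀ s : S, _root_.IsConnected (G.hom ⁻¹' {s}) := fun s => by
    haveI := hconn s
    rw [← G.hom.range_fiberι s]
    exact isConnected_range (G.hom.fiberι s).continuous
  let A : G ⊗ X ⟶ X := a.act
  let B : G ⊗ X ⟶ X := snd G X
  let O : (G ⊗ X).left.Opens := ⨆ U : X.left.affineOpens, A.left ⁻¹ᵁ U.1 ⊓ B.left ⁻¹ᵁ U.1
  -- the unit section stays in `O`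
  let ue : X ⟶ G ⊗ X := lift (toUnit X ≫ η[G]) (𝟙 X)
  have hue : ue ≫ A = 𝟙 X := by
    have h := congrArg (lift (toUnit X) (𝟙 X) ≫ ·) a.one_act
    simp only [lift_whiskerRight_assoc, lift_leftUnitor_hom] at h
    exact h
  have hunit : ∀ q : X.left, ue.left q ∈ O := fun q => by
    obtain ⟨U, hU, hqU, -⟩ := exists_isAffineOpen_mem_and_subset (show q ∈ (⊤ : X.left.Opens) from trivial)
    refine TopologicalSpace.Opens.mem_iSup.mpr ⟨⟨U, hU⟩, ?_, ?_⟩
    · show A.left (ue.left q) ∈ U
      rw [← Scheme.Hom.comp_apply, ← Over.comp_left, hue]; exact hqU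
    · show B.left (ue.left q) ∈ U
      rw [← Scheme.Hom.comp_apply, ← Over.comp_left, show ue ≫ B = 𝟙 X from lift_snd _ _]; exact hqU
  haveI : Flat (snd G X).left := inferInstanceAs (Flat (pullback.snd G.hom X.hom))
  haveI : LocallyOfFinitePresentation (snd G X).left :=
    inferInstanceAs (LocallyOfFinitePresentation (pullback.snd G.hom X.hom))
  let f := O.ι ≫ (snd G X).left
  haveI : Surjective f := ⟨fun q => ⟨⟨ue.left q, hunit q⟩, by
    show (snd G X).left (ue.left q) = q
    rw [← Scheme.Hom.comp_apply, ← Over.comp_left, lift_snd]; rfl⟩⟩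
  let OS : Over S := Over.mk (O.ι ≫ (G ⊗ X).hom)
  let jO : OS ⟶ G ⊗ X := Over.homMk O.ι rfl
  obtain ⟨E, i, hi, hifp, hE⟩ := FlatWeil.exists_equalizer (jO ≫ A) (jO ≫ B) fun p => by
    obtain ⟨U, hU⟩ := TopologicalSpace.Opens.mem_iSup.mp p.2
    exact ⟨U.1, U.2, hU.1, hU.2⟩
  haveI := hi
  haveI : LocallyOfFinitePresentation i := hifp inferInstance
  obtain ⟨F, t, ht, hF, htfp⟩ := FlatWeil.exists_weil f (FlatWeil.primFibres_open hconn' X O) i
  refine ⟨F, t, ht, htfp inferInstance, fun T x => (hF T.left x.left).trans ⟨?_, fun hx => ?_⟩⟩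
  · rintro ⟨l, hl⟩
    -- the open of `T ⊗ G` lying over `O`
    let σ : T ⊗ G ⟶ G ⊗ X := lift (snd T G) (fst T G ≫ x)
    let U : (T ⊗ G).left.Opens := σ.left ⁻¹ᵁ O
    have hU : ∀ q : T.left, ∃ z ∈ U, (fst T G).left z = q := fun q => by
      let u : T ⟶ T ⊗ G := lift (𝟙 T) (toUnit T ≫ η[G])
      have hu : u ≫ σ = x ≫ ue := by
        apply CartesianMonoidalCategory.hom_ext
        · simp [u, σ, ue]
        · simp [u, σ, ue]
      refine ⟨u.left q, ?_, ?_⟩
      · show σ.left (u.left q) ∈ O
        rw [← Scheme.Hom.comp_apply, ← Over.comp_left, hu]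
        exact hunit _
      · rw [← Scheme.Hom.comp_apply, ← Over.comp_left, lift_fst]; rfl
    let jU : Over.mk (U.ι ≫ (T ⊗ G).hom) ⟶ T ⊗ G := Over.homMk U.ι rfl
    have hr : Set.range (U.ι ≫ σ.left) ⊆ Set.range O.ι := by
      rintro _ ⟨z, rfl⟩
      rw [Scheme.Opens.range_ι]
      exact z.2
    let w := IsOpenImmersion.lift O.ι (U.ι ≫ σ.left) hr
    have hw : w ≫ O.ι = U.ι ≫ σ.left := IsOpenImmersion.lift_fac _ _ _
    have hcond : (U.ι ≫ (fst T G).left) ≫ x.left = w ≫ f := by
      rw [reassoc_of% hw, Category.assoc, ← Over.comp_left, ← Over.comp_left, lift_snd]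
    let m := pullback.lift (f := x.left) (g := f) (U.ι ≫ (fst T G).left) w hcond
    have hfix : jU ≫ σ ≫ A = jU ≫ σ ≫ B := by
      ext1
      have h1 := (hE _ w).mp ⟨m ≫ l, by rw [Category.assoc, hl]; exact pullback.lift_snd _ _ _⟩
      simp only [jO, Over.comp_left, Over.homMk_left, reassoc_of% hw] at h1
      exact h1
    obtain ⟨Q, o, r₁, r₂, hepi, hr₁, hr₂⟩ := FlatWeil.epi_mul hconn' T U hU
    have hmul : ∀ {Z : Over S} (g h : Z ⟶ G) (p : Z ⟶ X),
        lift (g * h) p ≫ A = lift g (lift h p ≫ A) ≫ A := fun g h p => by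
      have h' := congrArg (lift (lift g h) p ≫ ·) a.mul_act
      simpa [A, Hom.mul_def] using h'
    have key : σ ≫ A = σ ≫ B := by
      haveI := hepi
      rw [← cancel_epi (o ≫ T ◁ μ[G])]
      have h1 := congrArg (r₁ ≫ ·) hfix
      have h2 := congrArg (r₂ ≫ ·) hfix
      simp only [jU, reassoc_of% hr₁, reassoc_of% hr₂] at h1 h2
      let g₁ := o ≫ snd T (G ⊗ G) ≫ fst G G
      let g₂ := o ≫ snd T (G ⊗ G) ≫ snd G G
      let p := o ≫ fst T (G ⊗ G) ≫ x
      have e1 : lift g₁ p ≫ A = p := by
        have : o ≫ T ◁ fst G G ≫ σ = lift g₁ p := by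
          apply CartesianMonoidalCategory.hom_ext <;> simp [σ, g₁, p]
        calc lift g₁ p ≫ A = o ≫ T ◁ fst G G ≫ σ ≫ A := by rw [← this]; simp
          _ = o ≫ T ◁ fst G G ≫ σ ≫ B := h1
          _ = p := by simp [B, σ, p]
      have e2 : lift g₂ p ≫ A = p := by
        have : o ≫ T ◁ snd G G ≫ σ = lift g₂ p := by
          apply CartesianMonoidalCategory.hom_ext <;> simp [σ, g₂, p]
        calc lift g₂ p ≫ A = o ≫ T ◁ snd G G ≫ σ ≫ A := by rw [← this]; simp
          _ = o ≫ T ◁ snd G G ≫ σ ≫ B := h2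
          _ = p := by simp [B, σ, p]
      have e3 : (o ≫ T ◁ μ[G]) ≫ σ = lift (g₁ * g₂) p := by
        apply CartesianMonoidalCategory.hom_ext
        · simp [σ, g₁, g₂, Hom.mul_def, ← comp_lift_assoc]
        · simp [σ, p]
      rw [← Category.assoc (o ≫ T ◁ μ[G]), ← Category.assoc (o ≫ T ◁ μ[G]), e3, hmul, e2, e1]
      exact (lift_snd _ _).symm
    intro T' s g
    have h := congrArg (lift s g ≫ ·) key
    have e : lift s g ≫ σ = lift g (s ≫ x) := by
      apply CartesianMonoidalCategory.hom_ext <;> simp [σ]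
    simp only [reassoc_of% e, A, B, lift_snd] at h
    exact h
  · -- a fixed point is good
    let Pp : Over S := Over.mk (pullback.fst x.left f ≫ T.hom)
    let s : Pp ⟶ T := Over.homMk (pullback.fst x.left f) rfl
    let z : Pp ⟶ G ⊗ X := Over.homMk (pullback.snd x.left f ≫ O.ι) (by
      show (pullback.snd x.left f ≫ O.ι) ≫ (G ⊗ X).hom = pullback.fst x.left f ≫ T.hom
      rw [Category.assoc, ← Over.w (snd G X), ← Over.w x]
      exact (pullback.condition_assoc (f := x.left) (g := f) X.hom).symm.trans rfl)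
    have hz : z ≫ snd G X = s ≫ x := Over.OverMorphism.ext (by
      show (pullback.snd x.left f ≫ O.ι) ≫ _ = pullback.fst x.left f ≫ x.left
      rw [Category.assoc, pullback.condition])
    have hzA : z ≫ A = z ≫ B := by
      have h := hx Pp s (z ≫ fst G X)
      rw [← hz, ← comp_lift, lift_fst_snd, Category.comp_id] at h
      exact h
    exact (hE _ (pullback.snd x.left f)).mpr (by
      have := congrArg CommaMorphism.left hzA
      simpa [z, jO] using this)

end Groth.Agent.S17680
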