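import Groth.Statements.S17681
import Groth.Agent.GrpSchLib.AntiAffineHom
import Groth.Agent.AlgSpLib.EtLocalInst
import Mathlib.AlgebraicGeometry.Morphisms.Etale
import Mathlib.AlgebraicGeometry.Morphisms.QuasiFinite
import Mathlib.AlgebraicGeometry.ResidueField

set_option autoImplicit false
set_option linter.style.haveILetI false
universe u
open CategoryTheory MonoidalCategory CartesianMonoidalCategory MonObj AlgebraicGeometry CategoryTheory.Limits

namespace Groth.Agent.S17681

/-- Two maps into an etale scheme over the target which lie over one point of the base agree as soon as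
they agree somewhere on a connected source. -/
theorem eq_of_connected {P X Y : Scheme.{u}} [PreconnectedSpace P] (f : X ⟶ Y) [Etale f] (a b : P ⟶ X)
    (w : a ≫ f = b ≫ f) (y : Y) (hy : ∀ p, f (a p) = y) {E : Scheme.{u}} [Nonempty E] (e : E ⟶ P)
    (he : e ≫ a = e ≫ b) : a = b := by
  haveI := AlgSpLib.locallyQuasiFinite_of_formallyUnramified f
  let c := pullback.lift a b w
  let g := pullback.fst f f ≫ f
  haveI : LocallyQuasiFinite g := inferInstance
  have hsub : Set.range c ⊆ g ⁻¹' {y} := by
    rintro _ ⟨p, rfl⟩
    show (c ≫ pullback.fst f f ≫ f) p = y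
    rw [pullback.lift_fst_assoc]
    exact hy p
  have hd : _root_.IsDiscrete (g ⁻¹' {y}) := g.isDiscrete_preimage_singleton y
  have hc : _root_.IsPreconnected (Set.range c) := by
    rw [← Set.image_univ]
    exact isPreconnected_univ.image _ c.continuous.continuousOn
  have hs : (Set.range c).Subsingleton := by
    haveI := (hd.mono hsub).to_subtype
    haveI := Subtype.preconnectedSpace hc
    exact fun u hu v hv => congrArg Subtype.val
      (PreconnectedSpace.constant (Y := ↥(Set.range c)) inferInstance (f := id) continuous_id (x := ⟨u, hu⟩) (y := ⟨v, hv⟩))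
  have hr : Set.range c ⊆ Set.range (pullback.diagonal f) := by
    obtain ⟨z⟩ := ‹Nonempty E›
    intro q hq
    rw [hs hq ⟨e z, rfl⟩]
    refine ⟨(e ≫ a) z, ?_⟩
    have : e ≫ c = (e ≫ a) ≫ pullback.diagonal f := by
      ext
      · simp only [c, Category.assoc, pullback.lift_fst, pullback.diagonal_fst, Category.comp_id]
      · simp only [c, Category.assoc, pullback.lift_snd, pullback.diagonal_snd, Category.comp_id, he]
    exact (congrArg (fun φ => φ z) this).symm
  haveI : IsOpenImmersion (pullback.diagonal f) := inferInstance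
  have hfac := IsOpenImmersion.lift_fac (pullback.diagonal f) c hr
  have h1 := congrArg (· ≫ pullback.fst f f) hfac
  have h2 := congrArg (· ≫ pullback.snd f f) hfac
  simp only [Category.assoc, pullback.diagonal_fst, pullback.diagonal_snd, Category.comp_id, c,
    pullback.lift_fst, pullback.lift_snd] at h1 h2
  exact h1.symm.trans h2

/-- Let S be a scheme, G a flat S-group scheme of finite presentation with connected fibres, X and Y
S-schemes locally of finite presentation with actions of G, and f : X → Y an étale G-equivariant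
S-morphism; assume that S is locally Noetherian or that X and Y are quasi-separated over S. Then f
reflects fixed points: a T-point x of X whose image in Y is fixed by G after every base change T' →
T is itself fixed by G after every base change, so that the fixed-point subfunctor of X is the
preimage of that of Y. (The source allows X and Y to be algebraic spaces over S; this row is the
case of schemes.) -/
theorem result (S : Scheme.{u})
    (G : Over S) [GrpObj G] [Flat G.hom] [LocallyOfFinitePresentation G.hom] [QuasiCompact G.hom]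
    [QuasiSeparated G.hom] (hconn : ∀ s : S, ConnectedSpace (G.hom.fiber s))
    (X Y : Over S) [LocallyOfFinitePresentation X.hom] [LocallyOfFinitePresentation Y.hom]
    (hS : IsLocallyNoetherian S ∨ (QuasiSeparated X.hom ∧ QuasiSeparated Y.hom))
    (a : AlgGrp.Action G X) (b : AlgGrp.Action G Y) (f : X ⟶ Y) [Etale f.left]
    (hf : a.act ≫ f = (G ◁ f) ≫ b.act) (T : Over S) (x : T ⟶ X)
    (hx : ∀ (T' : Over S) (t : T' ⟶ T) (g : T' ⟶ G), lift g (t ≫ x ≫ f) ≫ b.act = t ≫ x ≫ f)
    (T' : Over S) (t : T' ⟶ T) (g : T' ⟶ G) : lift g (t ≫ x) ≫ a.act = t ≫ x := by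
  let A : G ⊗ T ⟶ X := (G ◁ x) ≫ a.act
  let B : G ⊗ T ⟶ X := snd G T ≫ x
  suffices hAB : A = B by
    have := congrArg (lift g t ≫ ·) hAB
    simpa [A, B] using this
  have hy : A ≫ f = B ≫ f := by
    have := hx (G ⊗ T) (snd G T) (fst G T)
    refine Eq.trans ?_ (this.trans (Category.assoc _ _ _).symm)
    rw [show A ≫ f = ((G ◁ x) ≫ a.act) ≫ f from rfl, Category.assoc, hf, ← Category.assoc]
    congr 1
    ext <;> simp
  ext1
  let c := pullback.lift A.left B.left (congrArg CommaMorphism.left hy)
  haveI : IsOpenImmersion (pullback.diagonal f.left) := inferInstance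
  suffices hr : Set.range c ⊆ Set.range (pullback.diagonal f.left) by
    have hfac := IsOpenImmersion.lift_fac (pullback.diagonal f.left) c hr
    have h1 := congrArg (· ≫ pullback.fst f.left f.left) hfac
    have h2 := congrArg (· ≫ pullback.snd f.left f.left) hfac
    simp only [Category.assoc, pullback.diagonal_fst, pullback.diagonal_snd, Category.comp_id, c,
      pullback.lift_fst, pullback.lift_snd] at h1 h2
    exact h1.symm.trans h2
  rintro _ ⟨z, rfl⟩
  let q : T.left := (snd G T).left z
  let τ := T.left.fromSpecResidueField q ≫ T.hom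
  let T₀ : Over S := Over.mk τ
  let i : T₀ ⟶ T := Over.homMk (T.left.fromSpecResidueField q) rfl
  haveI : ConnectedSpace ↥(Red.bc τ G).left := by
    let s := T.hom q
    let ιs := S.fromSpecResidueField s
    let φ := T.hom.residueFieldMap q
    have hφ : Spec.map φ ≫ ιs = τ := T.hom.SpecMap_residueFieldMap_fromSpecResidueField q
    haveI : ConnectedSpace ↥(Red.bc ιs G).left := hconn s
    have hbc := GrpSchLib.AntiAffine.connectedSpace_bc (k := S.residueField s) (Red.bc ιs G) φ.hom
    let e₁ : pullback (pullback.snd G.hom ιs) (Spec.map φ) ≅ pullback G.hom τ :=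
      pullbackLeftPullbackSndIso G.hom ιs (Spec.map φ) ≪≫ pullback.congrHom rfl hφ
    haveI : ConnectedSpace ↥(pullback (pullback.snd G.hom ιs) (Spec.map φ)) := hbc
    exact e₁.hom.homeomorph.surjective.connectedSpace e₁.hom.continuous
  haveI : ConnectedSpace ↥(G ⊗ T₀).left := ‹ConnectedSpace ↥(Red.bc τ G).left›
  have key : (G ◁ i).left ≫ A.left = (G ◁ i).left ≫ B.left := by
    let e : T₀ ⟶ G ⊗ T₀ := lift (toUnit T₀ ≫ η[G]) (𝟙 T₀)
    haveI : Nonempty T₀.left := inferInstanceAs (Nonempty ↥(Spec _))
    refine eq_of_connected f.left _ _ ?_ ((x ≫ f).left q) (fun p => ?_) e.left ?_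
    · rw [Category.assoc, Category.assoc]
      exact congrArg (fun ψ => (G ◁ i).left ≫ CommaMorphism.left ψ) hy
    · have : (G ◁ i).left ≫ A.left ≫ f.left = (snd G T₀).left ≫ T.left.fromSpecResidueField q ≫ (x ≫ f).left := by
        have h := congrArg (fun ψ => (G ◁ i ≫ ψ).left) hy
        simp only [B, whiskerLeft_snd_assoc, Category.assoc] at h
        exact h
      show ((G ◁ i).left ≫ A.left ≫ f.left) p = _
      rw [this]
      show (x ≫ f).left (T.left.fromSpecResidueField q _) = _
      rw [Scheme.fromSpecResidueField_apply]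
    · have : e ≫ (G ◁ i) ≫ A = e ≫ (G ◁ i) ≫ B := by
        have h1 : e ≫ (G ◁ i) ≫ A = i ≫ x := by
          have h := congrArg (lift (toUnit T₀) (i ≫ x) ≫ ·) a.one_act
          simp only [lift_whiskerRight_assoc, lift_leftUnitor_hom] at h
          simpa [A, e] using h
        simpa [B, e] using h1
      exact congrArg CommaMorphism.left this
  obtain ⟨w, hw⟩ : z ∈ Set.range (G ◁ i).left := by
    rw [Over.whiskerLeft_left]
    have h := Scheme.Pullback.range_map (f := G.hom) (g := τ) G.hom T.hom (𝟙 G.left) i.left (𝟙 S)
      (by simp) (by simp [τ, i, T₀])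
    refine h.ge ⟨by simp, ?_⟩
    show q ∈ Set.range (T.left.fromSpecResidueField q)
    rw [Scheme.range_fromSpecResidueField]
    exact rfl
  refine ⟨((G ◁ i).left ≫ A.left) w, ?_⟩
  have : (G ◁ i).left ≫ c = ((G ◁ i).left ≫ A.left) ≫ pullback.diagonal f.left := by
    ext
    · simp only [c, Category.assoc, pullback.lift_fst, pullback.diagonal_fst, Category.comp_id]
    · simp only [c, Category.assoc, pullback.lift_snd, pullback.diagonal_snd, Category.comp_id, key]
  rw [← hw]
  exact (congrArg (fun φ => φ w) this).symm

end Groth.Agent.S17681
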