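import Groth.Statements.S17682
-- import your own Groth.Agent.* helpers here

set_option autoImplicit false
universe u v w u'
open DiagMon

namespace Groth.Agent.S17682

/-- Let R be a commutative ring, A a commutative R-algebra graded by a commutative monoid M, N a
submonoid of M and R' a commutative R-algebra. For every R-algebra homomorphism F : A → R' vanishing
on the homogeneous elements of degree outside N there is a unique R-algebra homomorphism f : A →
R'[M] which is graded (a homogeneous element of degree m goes to a multiple of X^m), vanishes on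
homogeneous elements of degree outside N, and composes with the augmentation X^m ↦ 1 to F. In the
dictionary where an M-grading of A is an action of the diagonalizable monoid scheme Spec R[M] on
Spec A and graded maps A → R'[M] supported on N are equivariant maps from the monoid scheme of N
over R', this says that the attractor of Spec A for the magnet N is represented by the closed
subscheme of Spec A defined by the homogeneous elements of degree outside N. -/
theorem result (R : Type u) [CommRing R]
    (A : Type v) [CommRing A] [Algebra R A] (M : Type w) [AddCommMonoid M] [DecidableEq M]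
    (𝒜 : M → Submodule R A) [GradedAlgebra 𝒜] (N : AddSubmonoid M) (R' : Type u') [CommRing R']
    [Algebra R R'] (F : A →ₐ[R] R') (hF : ∀ m, m ∉ N → ∀ a ∈ 𝒜 m, F a = 0) :
    ∃! f : A →ₐ[R] AddMonoidAlgebra R' M,
      (∀ m, ∀ a ∈ 𝒜 m, f a =
          AddMonoidAlgebra.single m (Bialgebra.counitAlgHom R' (AddMonoidAlgebra R' M) (f a))) ∧
      (∀ m, m ∉ N → ∀ a ∈ 𝒜 m, f a = 0) ∧
      ∀ a, Bialgebra.counitAlgHom R' (AddMonoidAlgebra R' M) (f a) = F a := by
  classical
  let g : ∀ m, 𝒜 m →ₗ[R] AddMonoidAlgebra R' M := fun m =>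
    ((AddMonoidAlgebra.lsingle m : R' →ₗ[R'] AddMonoidAlgebra R' M).restrictScalars R) ∘ₗ F.toLinearMap ∘ₗ (𝒜 m).subtype
  have h1 : g 0 (GradedMonoid.GOne.one (A := fun m => ↥(𝒜 m))) = 1 := by simp [g, AddMonoidAlgebra.one_def]
  have h2 : ∀ {i j} (ai : 𝒜 i) (aj : 𝒜 j), g _ (GradedMonoid.GMul.mul (A := fun m => ↥(𝒜 m)) ai aj) = g _ ai * g _ aj :=
    fun {i j} ai aj => by simp [g, AddMonoidAlgebra.single_mul_single]
  let f : A →ₐ[R] AddMonoidAlgebra R' M :=
    (DirectSum.toAlgebra R (fun m => 𝒜 m) g h1 h2).comp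
      (DirectSum.decomposeAlgEquiv 𝒜).toAlgHom
  have hf : ∀ m, ∀ a ∈ 𝒜 m, f a = AddMonoidAlgebra.single m (F a) := by
    intro m a ha
    simp only [f, AlgHom.comp_apply]
    show DirectSum.toAlgebra R (fun m => 𝒜 m) g h1 h2 (DirectSum.decompose 𝒜 a) = _
    rw [DirectSum.decompose_of_mem 𝒜 ha]
    refine (DirectSum.toSemiring_of (fun i => (g i).toAddMonoidHom) h1 h2 m ⟨a, ha⟩).trans ?_
    simp [g]
  have hε : ∀ m (r : R'), Bialgebra.counitAlgHom R' (AddMonoidAlgebra R' M) (AddMonoidAlgebra.single m r) = r := by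
    intro m r
    simp [Bialgebra.counitAlgHom_apply]
  have hcomp : ∀ a, Bialgebra.counitAlgHom R' (AddMonoidAlgebra R' M) (f a) = F a := by
    intro a
    rw [← DirectSum.sum_support_decompose 𝒜 a]
    simp only [map_sum]
    refine Finset.sum_congr rfl fun m _ => ?_
    rw [hf m _ (DirectSum.decompose 𝒜 a m).2, hε]
  refine ⟨f, ⟨fun m a ha => by rw [hcomp, hf m a ha], fun m hm a ha => by rw [hf m a ha, hF m hm a ha, AddMonoidAlgebra.single_zero],
    hcomp⟩, ?_⟩
  rintro f' ⟨h1, -, h3⟩
  apply AlgHom.ext
  intro a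
  rw [← DirectSum.sum_support_decompose 𝒜 a]
  simp only [map_sum]
  refine Finset.sum_congr rfl fun m _ => ?_
  rw [h1 m _ (DirectSum.decompose 𝒜 a m).2, h3, hf m _ (DirectSum.decompose 𝒜 a m).2]

end Groth.Agent.S17682
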