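import Groth.Statements.S17683
import Mathlib.Algebra.MonoidAlgebra.MapDomain
-- import your own Groth.Agent.* helpers here

set_option autoImplicit false
universe u
open DiagMon

namespace Groth.Agent.S17683

/-- Let N be a commutative monoid and F a submonoid of N. The additive projection ℤ[N] → ℤ[F] of monoid
algebras keeping the monomials with exponent in F and killing the others is multiplicative, i.e. F
is a face of N, if and only if for all x, y in N the sum x + y lies in F exactly when both x and y
do. -/
theorem result {N : Type u} [AddCommMonoid N] (F : AddSubmonoid N) :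
    (∀ a b : AddMonoidAlgebra ℤ N,
        AddMonoidAlgebra.comapDomain ((↑) : F → N) Subtype.val_injective (a * b) =
          AddMonoidAlgebra.comapDomain ((↑) : F → N) Subtype.val_injective a *
            AddMonoidAlgebra.comapDomain ((↑) : F → N) Subtype.val_injective b) ↔
      ∀ x y : N, x + y ∈ F ↔ (x ∈ F ∧ y ∈ F) := by
  classical
  have e0 : ∀ (z : N) (t : ℤ), z ∉ F → AddMonoidAlgebra.comapDomain ((↑) : F → N) Subtype.val_injective
      (AddMonoidAlgebra.single z t) = 0 := by
    intro z t hz
    ext w
    have : z ≠ (w : N) := fun c => hz (c ▸ w.2)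
    simp [this]
  constructor
  · intro h x y
    refine ⟨fun hxy => ?_, fun hxy => F.add_mem hxy.1 hxy.2⟩
    by_contra hne
    have h1 := h (AddMonoidAlgebra.single x 1) (AddMonoidAlgebra.single y 1)
    rw [AddMonoidAlgebra.single_mul_single, mul_one] at h1
    have h3 : AddMonoidAlgebra.comapDomain ((↑) : F → N) Subtype.val_injective
        (AddMonoidAlgebra.single x (1 : ℤ)) = 0 ∨
        AddMonoidAlgebra.comapDomain ((↑) : F → N) Subtype.val_injective
        (AddMonoidAlgebra.single y (1 : ℤ)) = 0 := by
      rcases not_and_or.mp hne with hx | hy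
      · exact Or.inl (e0 _ _ hx)
      · exact Or.inr (e0 _ _ hy)
    have h2 := congrArg (fun q => q.coeff ⟨x + y, hxy⟩) h1
    rcases h3 with h3 | h3 <;> simp [h3] at h2
  · intro h a b
    induction a using AddMonoidAlgebra.induction_linear with
    | zero => simp [AddMonoidAlgebra.comapDomain_zero]
    | add f g hf hg => simp [add_mul, AddMonoidAlgebra.comapDomain_add, hf, hg]
    | single x r =>
      induction b using AddMonoidAlgebra.induction_linear with
      | zero => simp [AddMonoidAlgebra.comapDomain_zero]
      | add f g hf hg => simp [mul_add, AddMonoidAlgebra.comapDomain_add, hf, hg]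
      | single y s =>
        rw [AddMonoidAlgebra.single_mul_single]
        by_cases hxy : x + y ∈ F
        · obtain ⟨hx, hy⟩ := (h x y).mp hxy
          have e : ∀ (z : F) (t : ℤ), AddMonoidAlgebra.comapDomain ((↑) : F → N) Subtype.val_injective
              (AddMonoidAlgebra.single (z : N) t) = AddMonoidAlgebra.single z t := by
            intro z t
            ext w
            simp [Finsupp.single_apply]
          rw [e ⟨x + y, hxy⟩ (r * s), e ⟨x, hx⟩ r, e ⟨y, hy⟩ s, AddMonoidAlgebra.single_mul_single]
          rfl
        · rw [e0 _ _ hxy]
          rcases not_and_or.mp (fun q => hxy ((h x y).mpr q)) with hx | hy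
          · rw [e0 _ _ hx, zero_mul]
          · rw [e0 _ _ hy, mul_zero]

end Groth.Agent.S17683
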