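import Groth.Statements.S17685
import Groth.Agent.GrpSchLib.CoincidenceBase
-- import your own Groth.Agent.* helpers here

set_option autoImplicit false
universe u
open CategoryTheory MonoidalCategory CartesianMonoidalCategory MonObj GrpObj AlgebraicGeometry
open AlgGrp

namespace Groth.Agent.S17685

/-- Let S be a scheme, F an S-scheme that is finite locally free over S (finite, flat and locally of
finite presentation) with a section e of F over S which is a surjective closed immersion (an
infinitesimal pointed S-scheme), and X an S-scheme with an action of the pointed scheme F, i.e. an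
S-morphism F ×_S X → X through which e acts as the identity. Then the subfunctor of F-fixed points
of X, whose T-points are the T-points x of X with g · x_{T'} = x_{T'} for every S-scheme T' over T
and every T'-point g of F, is represented by a closed subscheme of X. (The source allows F and X to
be algebraic spaces over S; this row is the case of schemes.) -/
theorem result (S : Scheme.{u})
    (F X : Over S) (e : 𝟙_ (Over S) ⟶ F) (act : F ⊗ X ⟶ X) (he : (e ▷ X) ≫ act = (λ_ X).hom)
    [IsFinite F.hom] [Flat F.hom] [LocallyOfFinitePresentation F.hom]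
    [IsClosedImmersion e.left] [Surjective e.left] :
    ∃ (Z : Scheme.{u}) (i : Z ⟶ X.left), IsClosedImmersion i ∧
      ∀ (T : Over S) (x : T ⟶ X), (∃ y : T.left ⟶ Z, y ≫ i = x.left) ↔
        ∀ (T' : Over S) (t : T' ⟶ T) (g : T' ⟶ F), lift g (t ≫ x) ≫ act = t ≫ x := by
  obtain ⟨E, i, hi, hE⟩ := GrpSchLib.exists_equalizer_of_common_affine act
    (CartesianMonoidalCategory.snd F X) fun p => by
      have hsurj : Surjective (X ◁ e).left :=
        MorphismProperty.of_isPullback (P := @Surjective) (GrpSchLib.isPullback_whiskerLeft e).flip
          (inferInstanceAs (Surjective e.left))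
      obtain ⟨q, hq⟩ := hsurj.surj ((β_ F X).hom.left p)
      have hp : (e ▷ X).left ((β_ X (𝟙_ (Over S))).hom.left q) = p := by
        rw [← Scheme.Hom.comp_apply, ← Over.comp_left, ← BraidedCategory.braiding_naturality_right,
          Over.comp_left, Scheme.Hom.comp_apply, hq, ← Scheme.Hom.comp_apply, ← Over.comp_left,
          SymmetricCategory.symmetry]
        rfl
      obtain ⟨U, hU, hUp, -⟩ := exists_isAffineOpen_mem_and_subset
        (show (CartesianMonoidalCategory.snd F X).left p ∈ (⊤ : X.left.Opens) from trivial)
      refine ⟨U, hU, ?_, hUp⟩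
      have : (e ▷ X) ≫ act = (e ▷ X) ≫ CartesianMonoidalCategory.snd F X := by
        rw [he, whiskerRight_snd]
        rfl
      rwa [← hp, ← Scheme.Hom.comp_apply, ← Over.comp_left, this, Over.comp_left,
        Scheme.Hom.comp_apply, hp]
  obtain ⟨Z, j, hj, h⟩ := GrpSchLib.exists_coincidence i hE (GrpSchLib.hasIdeals_of_finite_flat i)
  refine ⟨Z.left, j.left, hj, fun T x => Iff.trans ?_ ((h T x).trans ?_)⟩
  · exact ⟨fun ⟨y, hy⟩ => ⟨Over.homMk y (by rw [← Over.w j, ← Category.assoc, hy, Over.w x]),
      Over.OverMorphism.ext hy⟩, fun ⟨y, hy⟩ => ⟨y.left, congrArg CommaMorphism.left hy⟩⟩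
  · rw [whiskerLeft_snd, GrpSchLib.whiskerLeft_eq_iff]

end Groth.Agent.S17685
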