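import Groth.Statements.S17687
-- import your own Groth.Agent.* helpers here

set_option autoImplicit false
universe u v w
open DiagMon

namespace Groth.Agent.S17687

/-- Let R be a commutative ring and A a commutative R-algebra of finite type graded by a commutative
monoid M. Then the set of ideals J_N, N running over all submonoids of M, where J_N is generated by
the homogeneous elements of degree not in N (the ideal of the attractor of Spec A for the magnet N),
is finite: Spec A has finitely many attractors and hence finitely many pure magnets. (The source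
assumes Spec A of finite presentation over the base; its proof uses only a finite set of homogeneous
algebra generators, so finite type is assumed here.) -/
theorem result (R : Type u) [CommRing R] (A : Type v) [CommRing A]
    [Algebra R A] [Algebra.FiniteType R A] (M : Type w) [AddCommMonoid M] [DecidableEq M]
    (𝒜 : M → Submodule R A) [GradedAlgebra 𝒜] :
    (Set.range fun N : AddSubmonoid M => Ideal.span {a : A | ∃ m : M, m ∉ N ∧ a ∈ 𝒜 m}).Finite := by
  classical
  obtain ⟨s, hs⟩ := Algebra.FiniteType.out (R := R) (A := A)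
  let T : Finset (M × A) := s.biUnion fun a =>
    ((DirectSum.decompose 𝒜 a).support).image fun m => (m, (DirectSum.decompose 𝒜 a m : A))
  have hT : ∀ x ∈ T, x.2 ∈ 𝒜 x.1 := by
    intro x hx
    obtain ⟨a, -, hx⟩ := Finset.mem_biUnion.mp hx
    obtain ⟨m, -, rfl⟩ := Finset.mem_image.mp hx
    exact (DirectSum.decompose 𝒜 a m).2
  let P : Set A := Prod.snd '' (T : Set (M × A))
  have hgen : Algebra.adjoin R P = ⊤ := by
    rw [eq_top_iff, ← hs, Algebra.adjoin_le_iff]
    intro a ha
    rw [← DirectSum.sum_support_decompose 𝒜 a]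
    refine Subalgebra.sum_mem _ fun m hm => Algebra.subset_adjoin ⟨(m, _), ?_, rfl⟩
    exact Finset.mem_biUnion.mpr ⟨a, ha, Finset.mem_image.mpr ⟨m, hm, rfl⟩⟩
  refine ((T.powerset.finite_toSet).image fun U : Finset (M × A) => Ideal.span (Prod.snd '' (U : Set (M × A)))).subset ?_
  rintro _ ⟨N, rfl⟩
  refine ⟨T.filter fun x => x.1 ∉ N, Finset.mem_coe.mpr (Finset.mem_powerset.mpr (Finset.filter_subset _ _)), ?_⟩
  refine le_antisymm (Ideal.span_mono ?_) (Ideal.span_le.mpr ?_)
  · rintro _ ⟨x, hx, rfl⟩
    obtain ⟨hxT, hxN⟩ := Finset.mem_filter.mp (Finset.mem_coe.mp hx)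
    exact ⟨x.1, hxN, hT x hxT⟩
  set J := Ideal.span (Prod.snd '' ((T.filter fun x => x.1 ∉ N : Finset (M × A)) : Set (M × A))) with hJ
  have hmon : ∀ x ∈ Submonoid.closure P, ∃ d, x ∈ 𝒜 d ∧ (d ∉ N → x ∈ J) := by
    intro x hx
    induction hx using Submonoid.closure_induction with
    | mem x hx =>
      obtain ⟨y, hy, rfl⟩ := hx
      exact ⟨y.1, hT y hy, fun hd => Ideal.subset_span ⟨y, Finset.mem_coe.mpr (Finset.mem_filter.mpr ⟨hy, hd⟩), rfl⟩⟩
    | one => exact ⟨0, SetLike.one_mem_graded 𝒜, fun h => absurd N.zero_mem h⟩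
    | mul x y _ _ hx hy =>
      obtain ⟨d, hxd, hxJ⟩ := hx
      obtain ⟨d', hyd, hyJ⟩ := hy
      refine ⟨d + d', SetLike.mul_mem_graded hxd hyd, fun h => ?_⟩
      by_cases hd : d ∈ N
      · exact J.mul_mem_left x (hyJ fun hd' => h (N.add_mem hd hd'))
      · exact J.mul_mem_right y (hxJ hd)
  rintro a ⟨m, hmN, ha⟩
  have hspan : a ∈ Submodule.span R (Submonoid.closure P : Set A) := by
    rw [← Algebra.adjoin_eq_span, hgen]; trivial
  have key : ∀ z ∈ Submodule.span R (Submonoid.closure P : Set A), (DirectSum.decompose 𝒜 z m : A) ∈ J := by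
    intro z hz
    induction hz using Submodule.span_induction with
    | mem x hx =>
      obtain ⟨d, hxd, hxJ⟩ := hmon x hx
      rcases eq_or_ne d m with rfl | hne
      · rw [DirectSum.decompose_of_mem_same 𝒜 hxd]; exact hxJ hmN
      · rw [DirectSum.decompose_of_mem_ne 𝒜 hxd hne]; exact J.zero_mem
    | zero => simp
    | add x y _ _ hx hy => simp only [DirectSum.decompose_add, DirectSum.add_apply, Submodule.coe_add]; exact J.add_mem hx hy
    | smul r x _ hx => simp only [DirectSum.decompose_smul, DirectSum.smul_apply, Submodule.coe_smul]; exact Submodule.smul_of_tower_mem _ r hx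
  have h := key a hspan
  rwa [DirectSum.decompose_of_mem_same 𝒜 ha] at h

end Groth.Agent.S17687
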