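import Groth.Statements.S17688
import Groth.Agent.GrpSchLib.GenericFibreExt

set_option autoImplicit false
universe u
open CategoryTheory CategoryTheory.Limits AlgebraicGeometry MonObj
open Neron

namespace Groth.Agent.S17688

/-- Let R be a discrete valuation ring whose fraction field K has characteristic p > 0, and let U be a
flat, separated, commutative group scheme over Spec R whose generic fibre U_K is annihilated by a
power p^N of p (in the group of endomorphisms of U_K as a K-scheme, the p^N-th power of the identity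
is the unit). Then for every prime ℓ invertible in R the ℓ-th power map of U (the ℓ-th power of the
identity in the group of R-morphisms U → U) is an isomorphism. -/
theorem result
    (R : Type u) [CommRing R] [IsDomain R] [IsDiscreteValuationRing R]
    (p : ℕ) (hp : p.Prime) [CharP (FractionRing R) p]
    (U : Over (Spec (CommRingCat.of R))) [GrpObj U] [IsCommMonObj U] [Flat U.hom] [IsSeparated U.hom]
    (N : ℕ) (hN : (𝟙 (Red.bc (Neron.genPt R) U) : Red.bc (Neron.genPt R) U ⟶ Red.bc (Neron.genPt R) U) ^ (p ^ N) = 1)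
    (ℓ : ℕ) (hℓ : ℓ.Prime) (hℓu : IsUnit (ℓ : R)) :
    IsIso ((𝟙 U : U ⟶ U) ^ ℓ) := by
  have hne : ℓ ≠ p := by
    rintro rfl
    have hinj := IsFractionRing.injective R (FractionRing R)
    have h0 : ((ℓ : R)) = 0 := hinj (by rw [map_natCast, map_zero]; exact CharP.cast_eq_zero _ _)
    exact not_isUnit_zero (h0 ▸ hℓu)
  have hgen : (𝟙 U : U ⟶ U) ^ (p ^ N) = 1 := by
    refine Groth.Agent.GrpSchLib.hom_ext_of_generic (IsFractionRing.injective R (FractionRing R)) _ _ ?_
    let F := Over.pullback (Neron.genPt R)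
    have hpow : ∀ m : ℕ, F.map ((𝟙 U : U ⟶ U) ^ m) = (𝟙 (Red.bc (Neron.genPt R) U) : Red.bc (Neron.genPt R) U ⟶ Red.bc (Neron.genPt R) U) ^ m := by
      intro m
      induction m with
      | zero => rw [pow_zero, pow_zero]; exact F.map_one
      | succ m ih => rw [pow_succ, pow_succ, Functor.map_mul, ih, CategoryTheory.Functor.map_id]
    have h := congrArg (fun k => Over.Hom.left k ≫ pullback.fst U.hom (Neron.genPt R))
      ((hpow (p ^ N)).trans (hN.trans (F.map_one (X := U) (M := U)).symm))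
    exact (pullback.lift_fst _ _ _).symm.trans (h.trans (pullback.lift_fst _ _ _))
  have hcop : Nat.Coprime ℓ (p ^ N) := ((Nat.coprime_primes hℓ hp).2 hne).pow_right N
  obtain ⟨m, hm⟩ : ∃ m : ℕ, ∃ k : ℕ, ℓ * m = k * p ^ N + 1 := by
    rcases Nat.eq_zero_or_pos N with rfl | hN0
    · refine ⟨1, ℓ - 1, ?_⟩
      have := hℓ.one_lt
      simp
      omega
    have h1 : 1 < p ^ N := Nat.one_lt_pow hN0.ne' hp.one_lt
    obtain ⟨m, hm⟩ := Nat.exists_mul_mod_eq_one_of_coprime hcop h1
    refine ⟨m, ℓ * m / p ^ N, ?_⟩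
    have := Nat.div_add_mod (ℓ * m) (p ^ N)
    rw [hm.2, Nat.mul_comm] at this
    exact this.symm
  obtain ⟨k, hk⟩ := hm
  have key : ∀ a b : ℕ, ((𝟙 U : U ⟶ U) ^ a) ≫ ((𝟙 U : U ⟶ U) ^ b) = (𝟙 U : U ⟶ U) ^ (a * b) := by
    intro a b
    induction b with
    | zero => simp
    | succ b ih => rw [pow_succ, MonObj.comp_mul, ih, Category.comp_id, Nat.mul_succ, pow_add]
  have hone : (𝟙 U : U ⟶ U) ^ (ℓ * m) = 𝟙 U := by
    rw [hk, pow_succ, mul_comm k, pow_mul, hgen, one_pow, _root_.one_mul]
  exact ⟨(𝟙 U : U ⟶ U) ^ m, (key ℓ m).trans hone, (key m ℓ).trans (by rw [mul_comm]; exact hone)⟩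

end Groth.Agent.S17688
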