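import Groth.Statements.S17689
import Groth.Agent.MorLib.RingUnivHomeo
import Mathlib.FieldTheory.PurelyInseparable.Basic
import Mathlib.RingTheory.IntegralClosure.IntegrallyClosed
-- import your own Groth.Agent.* helpers here

set_option autoImplicit false
universe u
open CategoryTheory AlgebraicGeometry
open Neron

namespace Groth.Agent.S17689

/-- Let R ⊆ S be a finite extension of discrete valuation rings (the structure map R → S is injective
and S is a finite R-module) such that the induced extension K ⊆ L of fraction fields is purely
inseparable. Then the morphism Spec S → Spec R is a universal homeomorphism: every base change of it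
is a homeomorphism on underlying spaces. (No excellence hypothesis is needed here.) -/
theorem result
    (R S K L : Type u) [CommRing R] [IsDomain R] [IsDiscreteValuationRing R]
    [CommRing S] [IsDomain S] [IsDiscreteValuationRing S] [Algebra R S] [Module.Finite R S] [FaithfulSMul R S]
    [Field K] [Field L] [Algebra R K] [IsFractionRing R K] [Algebra S L] [IsFractionRing S L]
    [Algebra K L] [Algebra R L] [IsScalarTower R S L] [IsScalarTower R K L] [IsPurelyInseparable K L] :
    FlatMor.IsUnivHomeo (Spec.map (CommRingCat.ofHom (algebraMap R S))) := by
    have hSL : Function.Injective (algebraMap S L) := IsFractionRing.injective S L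
    have hRK : Function.Injective (algebraMap R K) := IsFractionRing.injective R K
    refine Groth.Agent.MorLib.RUH.isUnivHomeo_of_injective _ (FaithfulSMul.algebraMap_injective R S)
      (fun s => Algebra.IsIntegral.isIntegral s) ?_
    obtain ⟨q, hq⟩ := ExpChar.exists K
    haveI := hq
    have hpow : ∀ s : S, ∃ n : ℕ, s ^ q ^ n ∈ (algebraMap R S).range := fun s => by
      obtain ⟨n, y, hy⟩ := IsPurelyInseparable.pow_mem K q (algebraMap S L s)
      have hint : IsIntegral R y := by
        refine (isIntegral_algHom_iff (IsScalarTower.toAlgHom R K L) (algebraMap K L).injective).mp ?_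
        change IsIntegral R (algebraMap K L y)
        rw [hy]
        exact ((Algebra.IsIntegral.isIntegral (R := R) s).map (IsScalarTower.toAlgHom R S L)).pow _
      obtain ⟨r, rfl⟩ := IsIntegrallyClosed.isIntegral_iff.mp hint
      refine ⟨n, r, hSL ?_⟩
      rw [← IsScalarTower.algebraMap_apply, map_pow, ← hy, ← IsScalarTower.algebraMap_apply]
    intro F _ f g hfg
    ext s
    obtain ⟨n, r, hr⟩ := hpow s
    have h1 : f s ^ q ^ n = g s ^ q ^ n := by
      rw [← map_pow, ← map_pow, ← hr]
      exact RingHom.congr_fun hfg r
    rcases hq with ⟨⟩ | ⟨hp⟩
    · simpa using h1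
    · haveI := Fact.mk hp
      have hpR : (q : R) = 0 := hRK (by rw [map_natCast, map_zero, CharP.cast_eq_zero])
      haveI : CharP F q := (CharP.charP_iff_prime_eq_zero hp).mpr (by
        simpa using congrArg (f.comp (algebraMap R S)) hpR)
      haveI : ExpChar F q := .prime hp
      exact iterateFrobenius_inj F q n h1

end Groth.Agent.S17689
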