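import Groth.Statements.S1769
import Groth.Agent.KExact.CohShriek
-- import your own Groth.Agent.* helpers here

set_option autoImplicit false
set_option linter.style.haveILetI false
set_option backward.isDefEq.respectTransparency false
set_option backward.isDefEq.respectTransparency.types false

universe u
open CategoryTheory CategoryTheory.Limits AlgebraicGeometry
attribute [local instance] HasDerivedCategory.standard
open Dual

namespace Groth.Agent.S1769

open Groth.Agent.KExact Groth.Agent.KFlatLib
set_option linter.style.haveILetI false
set_option backward.isDefEq.respectTransparency false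


/-- Let Y be a Noetherian scheme and f : X → Y a proper morphism. Assume the derived direct image Rf_*
exists and preserves quasi-coherence of cohomology sheaves (both known results), so that it
restricts to a functor D_QCoh(O_X) → D_QCoh(O_Y), and let a : D_QCoh(O_Y) → D_QCoh(O_X) be a right
adjoint of this restricted functor. If K in D_QCoh(O_Y) is bounded below (H^i(K) = 0 for all i below
some integer c) and all its cohomology sheaves are coherent, then every cohomology sheaf of a(K) is
coherent. (The published statement is about the upper shriek functor f^!; it is stated here for a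
proper morphism f, in which case f^! is the right adjoint a of Rf_*.) -/
theorem result (X Y : Scheme.{u}) [IsNoetherian Y] (f : X ⟶ Y) [IsProper f] [DCoh.HasRpush f] (h : ∀ K : DCoh.D X, DCoh.IsQCohD K → DCoh.IsQCohD ((DCoh.Rpush f).obj K)) (a : DCoh.DQCoh Y ⥤ DCoh.DQCoh X) (adj : (ObjectProperty.lift DCoh.IsQCohD (ObjectProperty.ι DCoh.IsQCohD ⋙ DCoh.Rpush f) (fun K => h K.obj K.property)) ⊣ a) (K : DCoh.DQCoh Y) (c : ℤ) (hKc : ∀ i : ℤ, i < c → IsZero (DCoh.HD K.obj i)) (hK : ∀ i : ℤ, Coh.IsCoh (DCoh.HD K.obj i)) (i : ℤ) : Coh.IsCoh (DCoh.HD (a.obj K).obj i) := by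
  haveI : IsNoetherian X := BCNat.isNoetherian_of_ft f
  have hb : Dual3.IsBddBelowQ Y K := ⟨c, (DerivedCategory.isGE_iff _ _).2 hKc⟩
  obtain ⟨e⟩ := AffineLift.nonempty_rho_id (𝟙 X) rfl
  exact isCohD_of_iso (e.app (a.obj K).obj) (CohShriek.isCohD_shriek (𝟙 X) f (hφ := h) adj K hb hK) i
end Groth.Agent.S1769
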