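import Groth.Statements.S17690
import Groth.Agent.CompleteNagata.Global
import Groth.Agent.NagataLib.IntClosure
import Mathlib.RingTheory.DiscreteValuationRing.TFAE
import Mathlib.FieldTheory.PurelyInseparable.Basic

set_option autoImplicit false
universe u
open Neron

namespace Groth.Agent.S17690

/-- Let R be an excellent discrete valuation ring (Noetherian, universally catenary, G-ring, J-2) with
fraction field K, and let L be a finite purely inseparable field extension of K. Then the integral
closure S of R in L is a discrete valuation ring, and S is a finite R-module. -/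
theorem result
    (R K L : Type u) [CommRing R] [IsDomain R] [IsDiscreteValuationRing R] (hR : EGA4.IsExcellent R)
    [Field K] [Algebra R K] [IsFractionRing R K] [Field L] [Algebra K L] [FiniteDimensional K L]
    [IsPurelyInseparable K L] [Algebra R L] [IsScalarTower R K L] :
    IsDiscreteValuationRing ↥(integralClosure R L) ∧ Module.Finite R ↥(integralClosure R L) := by
  obtain ⟨hN, hC, hG, hJ⟩ := hR
  have hnag : CAlg.IsNagata R := Groth.Agent.CompleteNagata.isNagata_of_isQuasiExcellent R ⟨hN, hG, hJ⟩
  obtain ⟨π, hπ⟩ := IsDiscreteValuationRing.exists_irreducible R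
  haveI : Algebra.FiniteType R K := by
    refine ⟨⟨{(algebraMap R K π)⁻¹}, ?_⟩⟩
    rw [eq_top_iff]
    intro x _
    obtain ⟨a, b, hb, rfl⟩ := IsFractionRing.div_surjective (A := R) x
    obtain ⟨n, u, rfl⟩ := IsDiscreteValuationRing.eq_unit_mul_pow_irreducible (nonZeroDivisors.ne_zero hb) hπ
    rw [map_mul, map_pow, div_eq_mul_inv, mul_inv, ← inv_pow]
    refine Subalgebra.mul_mem _ (Subalgebra.algebraMap_mem _ a) (Subalgebra.mul_mem _ ?_
      (Subalgebra.pow_mem _ (Algebra.subset_adjoin (by simp)) n))
    rw [show (algebraMap R K (u : R))⁻¹ = algebraMap R K ((u⁻¹ : Rˣ) : R) from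
      (eq_inv_of_mul_eq_one_left (by rw [← map_mul, Units.inv_mul, map_one])).symm]
    exact Subalgebra.algebraMap_mem _ _
  haveI : Algebra.FiniteType R L := Algebra.FiniteType.trans (inferInstance : Algebra.FiniteType R K) inferInstance
  haveI hfin : Module.Finite R (integralClosure R L) :=
    Groth.Agent.NagataLib.finite_integralClosure_domain hnag L
  refine ⟨?_, hfin⟩
  set B := integralClosure R L
  haveI : IsNoetherianRing B := IsNoetherianRing.of_finite R B
  haveI : IsIntegrallyClosed B := integralClosure.isIntegrallyClosedOfFiniteExtension K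
  have hinj : Function.Injective (algebraMap R L) := by
    rw [IsScalarTower.algebraMap_eq R K L]
    exact (algebraMap K L).injective.comp (IsFractionRing.injective R K)
  haveI : FaithfulSMul R B := (faithfulSMul_iff_algebraMap_injective R B).2
    fun a b h => hinj (congrArg Subtype.val h)
  have hmem : ∀ b : B, ∃ (n : ℕ) (r : R), b ^ (ringExpChar K) ^ n = algebraMap R B r := by
    intro b
    obtain ⟨n, x, hx⟩ := IsPurelyInseparable.pow_mem K (ringExpChar K) (b : L)
    have hxi : IsIntegral R x := by
      refine (isIntegral_algebraMap_iff (algebraMap K L).injective).1 ?_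
      rw [hx]
      exact b.2.pow _
    obtain ⟨r, rfl⟩ := IsIntegrallyClosed.isIntegral_iff.1 hxi
    exact ⟨n, r, Subtype.ext (hx.symm.trans (IsScalarTower.algebraMap_apply R K L r).symm)⟩
  haveI : IsLocalRing B := by
    refine IsLocalRing.of_unique_max_ideal ?_
    obtain ⟨M, hM⟩ := Ideal.exists_maximal B
    refine ⟨M, hM, fun M' hM' => ?_⟩
    have key : ∀ P : Ideal B, P.IsMaximal → ∀ b : B, b ∈ P ↔ ∀ n r, b ^ (ringExpChar K) ^ n = algebraMap R B r →
        r ∈ IsLocalRing.maximalIdeal R := by
      intro P hP b
      haveI := hP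
      have hc : P.comap (algebraMap R B) = IsLocalRing.maximalIdeal R :=
        IsLocalRing.eq_maximalIdeal (Ideal.isMaximal_comap_of_isIntegral_of_isMaximal P)
      constructor
      · intro hb n r hr
        rw [← hc, Ideal.mem_comap, ← hr]
        exact Ideal.pow_mem_of_mem _ hb _ (pow_pos (expChar_pos K _) n)
      · intro h
        obtain ⟨n, r, hr⟩ := hmem b
        refine hP.isPrime.mem_of_pow_mem ((ringExpChar K) ^ n) ?_
        rw [hr, ← Ideal.mem_comap, hc]
        exact h n r hr
    exact Ideal.ext fun b => (key M' hM' b).trans (key M hM b).symm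
  haveI : Ring.DimensionLEOne B := inferInstance
  haveI : IsDedekindDomain B := {}
  have hnf : ¬ IsField B := fun h => IsDiscreteValuationRing.not_isField R
    (Algebra.IsIntegral.isField_iff_isField (FaithfulSMul.algebraMap_injective R B) |>.2 h)
  exact ((IsDiscreteValuationRing.TFAE B hnf).out 2 0).1 ‹IsDedekindDomain B›

end Groth.Agent.S17690
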