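import Groth.Statements.S1770
import Groth.Agent.KFlatLib.Scheme.RpushPerfect
import Groth.Agent.KFlatLib.Scheme.AdjointCoproduct
-- import your own Groth.Agent.* helpers here

set_option autoImplicit false
universe u
open CategoryTheory CategoryTheory.Limits AlgebraicGeometry
attribute [local instance] HasDerivedCategory.standard
open Dual

namespace Groth.Agent.S1770

/-- Let f : X → Y be a flat proper morphism of Noetherian schemes. Assume the derived direct image Rf_*
exists and preserves quasi-coherence of cohomology sheaves (both known results), so that it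
restricts to a functor D_QCoh(O_X) → D_QCoh(O_Y), and let a : D_QCoh(O_Y) → D_QCoh(O_X) be a right
adjoint of this restricted functor. Then a commutes with direct sums: it preserves all coproducts
indexed by types in the ambient universe. (The published statement is for perfect proper morphisms;
a flat proper morphism is a special case.) -/
theorem result (X Y : Scheme.{u}) [IsNoetherian X] [IsNoetherian Y] (f : X ⟶ Y) [IsProper f] [Flat f] [DCoh.HasRpush f] (h : ∀ K : DCoh.D X, DCoh.IsQCohD K → DCoh.IsQCohD ((DCoh.Rpush f).obj K)) (a : DCoh.DQCoh Y ⥤ DCoh.DQCoh X) (adj : (ObjectProperty.lift DCoh.IsQCohD (ObjectProperty.ι DCoh.IsQCohD ⋙ DCoh.Rpush f) (fun K => h K.obj K.property)) ⊣ a) (J : Type u) : PreservesColimitsOfShape (Discrete J) a := by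
  haveI : (DCoh.Rpush f).Additive :=
    (KFlatLib.exists_rightDerived_triangle (Scheme.Modules.pushforward f) _
      (Pretriangulated.contractible_distinguished (DCoh.toD X ((HomologicalComplex.single X.Modules (ComplexShape.up ℤ) 0).obj (Coh.structureModule X))))).1
  haveI : (ObjectProperty.lift DCoh.IsQCohD (ObjectProperty.ι DCoh.IsQCohD ⋙ DCoh.Rpush f)
      (fun K => h K.obj K.property)).Additive :=
    ⟨fun {_ _ g g'} => ObjectProperty.hom_ext _ ((DCoh.Rpush f).map_add (f := g.hom) (g := g'.hom))⟩
  exact KFlatLib.AdjCoprod.preservesCoproducts_rightAdjoint adj (fun P hP => KFlatLib.locSP_rpush f hP) J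

end Groth.Agent.S1770
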