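import Groth.Statements.S17714
import Groth.Agent.ToddLib.Basic

set_option autoImplicit false
open MoretBailly

namespace Groth.Agent.S17714

/-- Let n ≥ 2 and d ≥ 1 be natural numbers with n congruent to 0 or 1 modulo 4, and s an integer with 2s
> n + d + 1. Write B(x) = x/(1 - e^(-x)) for the exponential generating series of the Bernoulli
numbers (B'_1 = 1/2). Then for all sufficiently large natural numbers p the coefficient of x^n in
B(-dx)^(-1) B(-dpx) B(x)^(n+1) e^((dp-d-n-1+s)x) is strictly negative. (The published statement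
asserts this for every n ≥ 2 not congruent to 2 modulo 4. For n congruent to 3 modulo 4 the
coefficient is a polynomial in p of degree n - 1 with leading coefficient (2s-d-n-1) B'_(n-1)
d^(n-1)/(2 (n-1)!) > 0, so it is eventually positive: for n = 3, d = 1, s = 3 it equals (p^2 -
1)/24. The residues 0 and 1 are exactly the ones the leading-term argument gives.) -/
theorem result (n d : ℕ) (s : ℤ) (hn : 2 ≤ n)
    (hmod : n % 4 = 0 ∨ n % 4 = 1) (hd : 1 ≤ d) (hs : (n : ℤ) + d + 1 < 2 * s) :
    ∃ P : ℕ, ∀ p : ℕ, P ≤ p →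
      PowerSeries.coeff n ((PowerSeries.rescale (-(d : ℚ)) (bernoulli'PowerSeries ℚ))⁻¹ * PowerSeries.rescale (-((d : ℚ) * p)) (bernoulli'PowerSeries ℚ) * bernoulli'PowerSeries ℚ ^ (n + 1) * PowerSeries.rescale ((d : ℚ) * p - d - n - 1 + s) (PowerSeries.exp ℚ)) < 0 := by
  obtain ⟨P, hP, h⟩ := ToddLib.leading_terms n d s hn
  have hd0 : (0 : ℚ) < d := by exact_mod_cast hd
  have hs' : (0 : ℚ) < 2 * (s : ℚ) - d - n - 1 := by
    have : ((n : ℤ) : ℚ) + (d : ℤ) + 1 < 2 * (s : ℚ) := by exact_mod_cast hs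
    push_cast at this
    linarith
  rcases hmod with h4 | h4
  · have hb : bernoulli' (n - 1) = 0 ∨ n - 1 = 1 := by
      by_cases h1 : n - 1 = 1
      · exact Or.inr h1
      · exact Or.inl (bernoulli'_eq_zero_of_odd (Nat.odd_iff.mpr (by omega)) (by omega))
    have hb' : bernoulli' (n - 1) = 0 := hb.resolve_right (by omega)
    have hn0 := ToddLib.bernoulli'_neg_of_mod4 (n := n) (by omega) h4
    obtain ⟨N, hN⟩ := ToddLib.eventually_neg P (bernoulli' n * (d : ℚ) ^ n / (Nat.factorial n : ℚ)) (n - 1)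
      (div_neg_of_neg_of_pos (mul_neg_of_neg_of_pos hn0 (by positivity)) (by positivity)) (hP.trans (by omega))
    refine ⟨N, fun p hp => lt_of_eq_of_lt ?_ (hN p hp)⟩
    rw [h, hb', show n - 1 + 1 = n by omega]
    ring
  · have hb' : bernoulli' n = 0 := bernoulli'_eq_zero_of_odd (Nat.odd_iff.mpr (by omega)) (by omega)
    have hn0 := ToddLib.bernoulli'_neg_of_mod4 (n := n - 1) (by omega) (by omega)
    obtain ⟨N, hN⟩ := ToddLib.eventually_neg P
      ((2 * (s : ℚ) - d - n - 1) / 2 * bernoulli' (n - 1) * (d : ℚ) ^ (n - 1) / (Nat.factorial (n - 1) : ℚ)) (n - 2)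
      (div_neg_of_neg_of_pos (mul_neg_of_neg_of_pos (mul_neg_of_pos_of_neg (by linarith) hn0) (by positivity))
        (by positivity)) hP
    refine ⟨N, fun p hp => lt_of_eq_of_lt ?_ (hN p hp)⟩
    rw [h, hb', show n - 2 + 1 = n - 1 by omega]
    ring

end Groth.Agent.S17714
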