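import Groth.Statements.S17719
import Groth.Agent.RegUFD.Basic
import Groth.Agent.Proj16.DVRFg

set_option autoImplicit false
universe u
open scoped TensorProduct
open CAlg

namespace Groth.Agent.S17719
open MvPowerSeries IsLocalRing Finset

section Node

variable {R : Type u} [CommRing R]

/-- Supported on the two axes. -/
def Axis (f : MvPowerSeries (Fin 2) R) : Prop := ∀ p : Fin 2 →₀ ℕ, p 0 ≠ 0 → p 1 ≠ 0 → coeff p f = 0

/-- The relation `f g = s` modulo `x y - r`. -/
def Rel (r : R) (f g : MvPowerSeries (Fin 2) R) (s : R) : Prop :=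
  ∃ h, f * g - C s = (X 0 * X 1 - C r) * h

/-- The exponent of `x y`. -/
noncomputable def diag : Fin 2 →₀ ℕ := Finsupp.single 0 1 + Finsupp.single 1 1

theorem diag_apply (i : Fin 2) : diag i = 1 := by
  fin_cases i <;> simp [diag]

theorem add_smul_diag_apply (p : Fin 2 →₀ ℕ) (k : ℕ) (i : Fin 2) : (p + k • diag) i = p i + k := by
  simp [diag_apply]

theorem axis_eq {i j : Fin 2} (hij : i ≠ j) {p : Fin 2 →₀ ℕ} (h : p 0 = 0 ∨ p 1 = 0) : p i = 0 ∨ p j = 0 := by
  fin_cases i <;> fin_cases j <;> simp_all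
  all_goals omega

theorem ext_pair {i j : Fin 2} (hij : i ≠ j) {p q : Fin 2 →₀ ℕ} (hi : p i = q i) (hj : p j = q j) : p = q := by
  ext t
  fin_cases i <;> fin_cases j <;> fin_cases t <;> simp_all

theorem pair_apply_left {i j : Fin 2} (hij : i ≠ j) (a b : ℕ) :
    (Finsupp.single i a + Finsupp.single j b : Fin 2 →₀ ℕ) i = a := by
  simp [Finsupp.single_apply, hij.symm]

theorem pair_apply_right {i j : Fin 2} (hij : i ≠ j) (a b : ℕ) :
    (Finsupp.single i a + Finsupp.single j b : Fin 2 →₀ ℕ) j = b := by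
  simp [Finsupp.single_apply, hij]

theorem X_mul_X_eq : (X 0 * X 1 : MvPowerSeries (Fin 2) R) = monomial diag 1 := by
  rw [X_def, X_def, monomial_mul_monomial, one_mul]; rfl

theorem coeff_rel_mul (r : R) (h : MvPowerSeries (Fin 2) R) (p : Fin 2 →₀ ℕ) :
    coeff (p + diag) ((X 0 * X 1 - C r) * h) = coeff p h - r * coeff (p + diag) h := by
  rw [sub_mul, map_sub, coeff_C_mul, X_mul_X_eq, add_comm, coeff_add_monomial_mul, one_mul]

theorem coeff_rel_mul_axis (r : R) (h : MvPowerSeries (Fin 2) R) {p : Fin 2 →₀ ℕ} (hp : p 0 = 0 ∨ p 1 = 0) :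
    coeff p ((X 0 * X 1 - C r) * h) = - (r * coeff p h) := by
  classical
  rw [sub_mul, map_sub, coeff_C_mul, X_mul_X_eq, coeff_monomial_mul, if_neg, zero_sub]
  intro hle
  have h0 := hle 0
  have h1 := hle 1
  rw [diag_apply] at h0 h1
  omega

/-- Telescoping along a diagonal. -/
theorem sum_diag (r : R) (h : MvPowerSeries (Fin 2) R) {p : Fin 2 →₀ ℕ} (hp : p 0 = 0 ∨ p 1 = 0) :
    ∀ K, ∑ k ∈ range (K + 1), coeff (p + k • diag) ((X 0 * X 1 - C r) * h) * r ^ k =
      - (r ^ (K + 1) * coeff (p + K • diag) h) := by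
  intro K
  induction K with
  | zero =>
    rw [zero_add, sum_range_one, zero_smul, add_zero, coeff_rel_mul_axis r h hp]
    ring
  | succ K ih =>
    rw [sum_range_succ, ih, succ_nsmul, ← add_assoc, coeff_rel_mul]
    ring

theorem enat_cancel {x : ℕ∞} {μ c : ℕ} (h : ((μ + c + 1 : ℕ) : ℕ∞) ≤ x + (c : ℕ∞)) :
    ((μ + 1 : ℕ) : ℕ∞) ≤ x := by
  cases x with
  | top => exact le_top
  | coe x =>
    rw [← Nat.cast_add, Nat.cast_le] at h
    rw [Nat.cast_le]; omega

theorem enat_add_lt {W : ℕ} {a b : ℕ∞} (h : a + b < (W : ℕ∞)) : ∃ m n : ℕ, a = m ∧ b = n := by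
  cases a with
  | top => simp at h
  | coe a => cases b with
    | top => simp at h
    | coe b => exact ⟨a, b, rfl, rfl⟩

/-- The weight of a coefficient. -/
noncomputable def wt (v : AddValuation R ℕ∞) (e : ℕ) (i : Fin 2) (f : MvPowerSeries (Fin 2) R) (p : Fin 2 →₀ ℕ) : ℕ∞ :=
  v (coeff p f) + ((e * p i : ℕ) : ℕ∞)

theorem exists_lead (v : AddValuation R ℕ∞) {e : ℕ} (he : 1 ≤ e) (i j : Fin 2)
    (f : MvPowerSeries (Fin 2) R) (hf : ∃ p, wt v e i f p ≠ ⊤) :
    ∃ (p₀ : Fin 2 →₀ ℕ) (W : ℕ), wt v e i f p₀ = W ∧ (∀ p, (W : ℕ∞) ≤ wt v e i f p) ∧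
      ∀ p, (p j : ℤ) - p i < (p₀ j : ℤ) - p₀ i → ((W + 1 : ℕ) : ℕ∞) ≤ wt v e i f p := by
  classical
  obtain ⟨p, hp⟩ := hf
  obtain ⟨n, hn⟩ := ENat.ne_top_iff_exists.1 hp
  have hex : ∃ n : ℕ, ∃ p, wt v e i f p = n := ⟨n, p, hn.symm⟩
  have hmin : ∀ p, (Nat.find hex : ℕ∞) ≤ wt v e i f p := fun p => by
    cases h : wt v e i f p with
    | top => exact le_top
    | coe m => exact Nat.cast_le.2 (Nat.find_min' hex ⟨p, h⟩)
  obtain ⟨N, hN, hNmin⟩ := Int.exists_least_of_bdd
    (P := fun N : ℤ => ∃ p, wt v e i f p = Nat.find hex ∧ (p j : ℤ) - p i = N)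
    ⟨-(Nat.find hex : ℤ), fun z ⟨p, hp, hz⟩ => by
      have h1 : ((e * p i : ℕ) : ℕ∞) ≤ wt v e i f p := le_add_self
      rw [hp, Nat.cast_le] at h1
      have h2 : p i ≤ e * p i := Nat.le_mul_of_pos_left _ he
      omega⟩
    (by obtain ⟨p, hp⟩ := Nat.find_spec hex; exact ⟨_, p, hp, rfl⟩)
  obtain ⟨p₀, hp₀, rfl⟩ := hN
  refine ⟨p₀, Nat.find hex, hp₀, hmin, fun p hlt => ?_⟩
  have hne : wt v e i f p ≠ (Nat.find hex : ℕ∞) := fun h => absurd (hNmin _ ⟨p, h, rfl⟩) (not_le.2 hlt)
  have := lt_of_le_of_ne (hmin p) (Ne.symm hne)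
  rw [Nat.cast_add, Nat.cast_one]
  exact Order.add_one_le_of_lt this

/-- Off the leading pair the weight is larger. -/
theorem term_bound (v : AddValuation R ℕ∞) (e : ℕ) {i j : Fin 2} (hij : i ≠ j) {f g : MvPowerSeries (Fin 2) R}
    (hf : Axis f) (hg : Axis g) {p₀ q₀ p q : Fin 2 →₀ ℕ} {A B c c' k₀ k : ℕ}
    (hAmin : ∀ p, (A : ℕ∞) ≤ wt v e i f p) (hBmin : ∀ q, (B : ℕ∞) ≤ wt v e i g q)
    (hAlt : ∀ p, (p j : ℤ) - p i < (p₀ j : ℤ) - p₀ i → ((A + 1 : ℕ) : ℕ∞) ≤ wt v e i f p)
    (hBlt : ∀ p, (p j : ℤ) - p i < (q₀ j : ℤ) - q₀ i → ((B + 1 : ℕ) : ℕ∞) ≤ wt v e i g p)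
    (hc : c + k₀ = p₀ i + q₀ i) (hc' : c' + k₀ = p₀ j + q₀ j)
    (hi : p i + q i = c + k) (hj : p j + q j = c' + k)
    (hp₀ : p₀ i = 0 ∨ p₀ j = 0) (hq₀ : q₀ i = 0 ∨ q₀ j = 0)
    (hne : k = k₀ → p = p₀ → q = q₀ → False) :
    ((A + B + 1 : ℕ) : ℕ∞) ≤ wt v e i f p + wt v e i g q := by
  rcases lt_trichotomy ((p j : ℤ) - p i) ((p₀ j : ℤ) - p₀ i) with h1 | h1 | h1
  · refine le_trans (le_of_eq ?_) (add_le_add (hAlt p h1) (hBmin q))
    rw [← Nat.cast_add]; congr 1; omega
  · by_cases hp : p 0 = 0 ∨ p 1 = 0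
    · by_cases hq : q 0 = 0 ∨ q 1 = 0
      · have hp' := axis_eq hij hp
        have hq' := axis_eq hij hq
        exfalso
        refine hne (by omega) (ext_pair hij (by omega) (by omega)) (ext_pair hij (by omega) (by omega))
      · rw [not_or] at hq
        simp only [wt, hg q hq.1 hq.2, v.map_zero, top_add, add_top, le_top]
    · rw [not_or] at hp
      simp only [wt, hf p hp.1 hp.2, v.map_zero, top_add, le_top]
  · refine le_trans (le_of_eq ?_) (add_le_add (hAmin p) (hBlt q (by omega)))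
    rw [← Nat.cast_add]; congr 1

/-- Gauss multiplicativity of the weights. -/
theorem le_wt_add_wt (v : AddValuation R ℕ∞) {r : R} {e : ℕ} (he : 1 ≤ e) (hr : v r = e) {i j : Fin 2}
    (hij : i ≠ j) {f g : MvPowerSeries (Fin 2) R} (hf : Axis f) (hg : Axis g) {s : R} (hrel : Rel r f g s)
    (p q : Fin 2 →₀ ℕ) : v s ≤ wt v e i f p + wt v e i g q := by
  classical
  by_contra hlt
  rw [not_le] at hlt
  have hfin : wt v e i f p + wt v e i g q ≠ ⊤ := hlt.ne_top
  replace hfin := WithTop.add_ne_top.1 hfin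
  obtain ⟨p₀, A, hA, hAmin, hAlt⟩ := exists_lead v he i j f ⟨p, hfin.1⟩
  obtain ⟨q₀, B, hB, hBmin, hBlt⟩ := exists_lead v he i j g ⟨q, hfin.2⟩
  have hs : ((A + B : ℕ) : ℕ∞) < v s := by
    refine lt_of_le_of_lt ?_ hlt
    push_cast
    exact add_le_add (hAmin p) (hBmin q)
  have hp₀ : p₀ i = 0 ∨ p₀ j = 0 := by
    refine axis_eq hij ?_
    by_contra! h
    rw [wt, hf p₀ h.1 h.2, v.map_zero, top_add] at hA
    exact ENat.top_ne_natCast _ hA
  have hq₀ : q₀ i = 0 ∨ q₀ j = 0 := by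
    refine axis_eq hij ?_
    by_contra! h
    rw [wt, hg q₀ h.1 h.2, v.map_zero, top_add] at hB
    exact ENat.top_ne_natCast _ hB
  obtain ⟨c, c', k₀, hck⟩ : ∃ c c' k₀ : ℕ, c + k₀ = p₀ i + q₀ i ∧ c' + k₀ = p₀ j + q₀ j ∧ (c = 0 ∨ c' = 0) :=
    ⟨(p₀ i + q₀ i) - (p₀ j + q₀ j), (p₀ j + q₀ j) - (p₀ i + q₀ i), min (p₀ i + q₀ i) (p₀ j + q₀ j),
      by omega, by omega, by omega⟩
  obtain ⟨b, hbi, hbj⟩ : ∃ b : Fin 2 →₀ ℕ, b i = c ∧ b j = c' :=
    ⟨_, pair_apply_left hij c c', pair_apply_right hij c c'⟩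
  have hb : b 0 = 0 ∨ b 1 = 0 := by
    rcases hck.2.2 with h | h
    · rw [h] at hbi
      fin_cases i
      · exact Or.inl hbi
      · exact Or.inr hbi
    · rw [h] at hbj
      fin_cases j
      · exact Or.inl hbj
      · exact Or.inr hbj
  have hpq : p₀ + q₀ = b + k₀ • diag := by
    refine ext_pair hij ?_ ?_
    · rw [add_smul_diag_apply, hbi, Finsupp.add_apply]; omega
    · rw [add_smul_diag_apply, hbj, Finsupp.add_apply]; omega
  obtain ⟨h, hh⟩ := hrel
  let T : (Σ _ : ℕ, (Fin 2 →₀ ℕ) × (Fin 2 →₀ ℕ)) → R := fun t => coeff t.2.1 f * coeff t.2.2 g * r ^ t.1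
  obtain ⟨K, hK⟩ : ∃ K : ℕ, K = k₀ + A + B := ⟨_, rfl⟩
  let I := (range (K + 1)).sigma fun k => Finset.HasAntidiagonal.antidiagonal (b + k • diag)
  have hvT : ∀ t ∈ I, v (T t) + ((e * c : ℕ) : ℕ∞) = wt v e i f t.2.1 + wt v e i g t.2.2 := by
    rintro ⟨k, p, q⟩ ht
    rw [mem_sigma, Finset.HasAntidiagonal.mem_antidiagonal] at ht
    have hi : p i + q i = c + k := by
      rw [← Finsupp.add_apply, show p + q = b + k • diag from ht.2, add_smul_diag_apply, hbi]
    simp only [T, wt, AddValuation.map_mul, AddValuation.map_pow, hr]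
    rw [show k • (e : ℕ∞) = ((k * e : ℕ) : ℕ∞) by push_cast; rw [nsmul_eq_mul], add_assoc, ← Nat.cast_add,
      add_add_add_comm (v (coeff p f)), ← Nat.cast_add]
    congr 2
    calc k * e + e * c = e * (p i + q i) := by rw [hi]; ring
      _ = _ := by ring
  have hmem : (⟨k₀, p₀, q₀⟩ : Σ _ : ℕ, (Fin 2 →₀ ℕ) × (Fin 2 →₀ ℕ)) ∈ I :=
    mem_sigma.2 ⟨mem_range.2 (show k₀ < K + 1 by omega), Finset.HasAntidiagonal.mem_antidiagonal.2 hpq⟩
  have hmain := hvT _ hmem
  rw [hA, hB] at hmain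
  obtain ⟨μ, hμ⟩ : ∃ μ : ℕ, v (T ⟨k₀, p₀, q₀⟩) = μ := by
    cases h : v (T ⟨k₀, p₀, q₀⟩) with
    | top => rw [h, top_add, ← Nat.cast_add] at hmain; exact absurd hmain (ENat.top_ne_natCast _)
    | coe m => exact ⟨m, rfl⟩
  rw [hμ, ← Nat.cast_add, ← Nat.cast_add, Nat.cast_inj] at hmain
  have hother : ∀ t ∈ I.erase ⟨k₀, p₀, q₀⟩, ((μ + 1 : ℕ) : ℕ∞) ≤ v (T t) := by
    intro t ht
    obtain ⟨hne, htI⟩ := mem_erase.1 ht
    refine enat_cancel (c := e * c) ?_
    rw [hmain, hvT t htI]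
    obtain ⟨k, p, q⟩ := t
    rw [mem_sigma, Finset.HasAntidiagonal.mem_antidiagonal] at htI
    have hi : p i + q i = c + k := by
      rw [← Finsupp.add_apply, show p + q = b + k • diag from htI.2, add_smul_diag_apply, hbi]
    have hj : p j + q j = c' + k := by
      rw [← Finsupp.add_apply, show p + q = b + k • diag from htI.2, add_smul_diag_apply, hbj]
    exact term_bound v e hij hf hg hAmin hBmin hAlt hBlt hck.1 hck.2.1 hi hj hp₀ hq₀ fun h1 h2 h3 => hne (by subst h1 h2 h3; rfl)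
  have htot : ((μ + 1 : ℕ) : ℕ∞) ≤ v (∑ t ∈ I, T t) := by
    have e1 : ∑ t ∈ I, T t = ∑ k ∈ range (K + 1), coeff (b + k • diag) (f * g) * r ^ k := by
      rw [Finset.sum_sigma]
      refine sum_congr rfl fun k _ => ?_
      rw [coeff_mul, sum_mul]
    rw [e1, show f * g = C s + (X 0 * X 1 - C r) * h by rw [← hh]; ring]
    simp only [map_add, add_mul, sum_add_distrib, sum_diag r h hb]
    refine le_trans (le_min ?_ ?_) (v.map_add _ _)
    · refine v.map_le_sum fun k _ => ?_
      rw [coeff_C]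
      split_ifs with h0
      · have hci : c + k = 0 := by rw [← hbi, ← add_smul_diag_apply, h0]; rfl
        obtain ⟨hc0, rfl⟩ : c = 0 ∧ k = 0 := by omega
        rw [pow_zero, mul_one]
        have : μ = A + B := by rw [hc0] at hmain; omega
        rw [this, Nat.cast_add (A + B), Nat.cast_one]
        exact Order.add_one_le_of_lt hs
      · rw [zero_mul, v.map_zero]; exact le_top
    · rw [v.map_neg, v.map_mul, v.map_pow, hr]
      refine le_trans ?_ le_self_add
      rw [nsmul_eq_mul, ← Nat.cast_mul, Nat.cast_le]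
      have : K + 1 ≤ (K + 1) * e := Nat.le_mul_of_pos_right _ he
      omega
  rw [← add_sum_erase _ _ hmem] at htot
  have hrest : ((μ + 1 : ℕ) : ℕ∞) ≤ v (∑ t ∈ I.erase ⟨k₀, p₀, q₀⟩, T t) := v.map_le_sum hother
  have := le_trans (le_min htot hrest) (v.map_sub _ _)
  rw [add_sub_cancel_right, hμ, Nat.cast_le] at this
  omega

end Node

section Dvd

variable {R : Type u} [CommRing R] [IsDomain R] [UniqueFactorizationMonoid R]

theorem dvd_of_forall_prime : ∀ {a : R}, a ≠ 0 → ∀ {b : R},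
    (∀ π, Prime π → π ∣ a → emultiplicity π a ≤ emultiplicity π b) → a ∣ b := by
  intro a
  induction a using UniqueFactorizationMonoid.induction_on_prime with
  | h₁ => intro h; exact absurd rfl h
  | h₂ x hx => intro _ b _; exact hx.dvd
  | h₃ x π hx0 hπ ih =>
    intro _ b h
    obtain ⟨b', rfl⟩ : π ∣ b := by
      have h1 := h π hπ (dvd_mul_right _ _)
      rw [← pow_one π, pow_dvd_iff_le_emultiplicity]
      refine le_trans ?_ h1
      rw [← pow_dvd_iff_le_emultiplicity, pow_one]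
      exact dvd_mul_right _ _
    refine mul_dvd_mul_left π (ih hx0 fun ρ hρ hρx => ?_)
    have h1 := h ρ hρ (hρx.mul_left π)
    rw [emultiplicity_mul hρ, emultiplicity_mul hρ] at h1
    refine (WithTop.add_le_add_iff_left ?_).1 h1
    exact finiteMultiplicity_iff_emultiplicity_ne_top.1
      (FiniteMultiplicity.of_not_isUnit hρ.not_isUnit hπ.ne_zero)

end Dvd

section Unit

variable {R : Type u} [CommRing R] {A : Type u} [CommRing A] (q : MvPowerSeries (Fin 2) R →+* A)

/-- A series supported on one axis. -/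
def onAxis (i j : Fin 2) (a : ℕ → R) : MvPowerSeries (Fin 2) R := fun p => if p i = 0 then a (p j) else 0

theorem coeff_onAxis (i j : Fin 2) (a : ℕ → R) (p : Fin 2 →₀ ℕ) :
    coeff p (onAxis i j a) = if p i = 0 then a (p j) else 0 := rfl

theorem coeff_X_pow_mul' (i : Fin 2) (k : ℕ) (g : MvPowerSeries (Fin 2) R) (p : Fin 2 →₀ ℕ) :
    coeff p (X i ^ k * g) = if k ≤ p i then coeff (p - Finsupp.single i k) g else 0 := by
  classical
  rw [X_pow_eq, coeff_monomial_mul, one_mul]
  simp only [Finsupp.single_le_iff]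

theorem C_mul_onAxis (i j : Fin 2) (c : R) (a : ℕ → R) :
    C c * onAxis i j a = onAxis i j fun t => c * a t := by
  ext p
  rw [coeff_C_mul, coeff_onAxis, coeff_onAxis]
  split_ifs <;> simp

/-- Factoring out the dominant monomial. -/
theorem exists_factor {r : R} {i j : Fin 2} (hij : i ≠ j) (hq : q (X j) * q (X i) = q (C r))
    {f : MvPowerSeries (Fin 2) R} (hf : Axis f) {k : ℕ} {c : R}
    (hk : coeff (Finsupp.single j k) f = c)
    (h1 : ∀ n, k ≤ n → c ∣ coeff (Finsupp.single j n) f)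
    (h2 : ∀ t, t < k → c * r ^ (k - t) ∣ coeff (Finsupp.single j t) f)
    (h3 : ∀ n, c * r ^ k ∣ coeff (Finsupp.single i (n + 1)) f) :
    ∃ u : MvPowerSeries (Fin 2) R, IsUnit u ∧ q f = q (C c * X j ^ k * u) := by
  classical
  choose P hP using fun n => h1 (k + n) (Nat.le_add_right k n)
  choose Q hQ using h3
  have hz' : ∀ t, ∃ z, t < k → coeff (Finsupp.single j t) f = c * r ^ (k - t) * z := fun t => by
    by_cases h : t < k
    · obtain ⟨z, hz⟩ := h2 t h; exact ⟨z, fun _ => hz⟩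
    · exact ⟨0, fun h' => absurd h' h⟩
  choose z hz using hz'
  let P' : ℕ → R := fun n => if n = 0 then 1 else P n
  have hP' : ∀ n, coeff (Finsupp.single j (k + n)) f = c * P' n := fun n => by
    by_cases h : n = 0
    · subst h; simp [P', hk]
    · simp only [P', if_neg h]
      exact hP n
  let u : MvPowerSeries (Fin 2) R := onAxis i j P' + ∑ t ∈ range k, C (z t) * X i ^ (k - t) +
    X i ^ (k + 1) * onAxis j i Q
  have hu : IsUnit u := by
    rw [isUnit_iff_constantCoeff]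
    have e0 : constantCoeff u = 1 := by
      simp only [u, map_add, map_sum, map_mul, map_pow, constantCoeff_X, constantCoeff_C]
      rw [zero_pow (by omega), zero_mul, add_zero, sum_eq_zero (fun t ht => by
        rw [zero_pow (by have := mem_range.1 ht; omega), mul_zero]), add_zero,
        ← coeff_zero_eq_constantCoeff, coeff_onAxis]
      simp [P']
    rw [e0]; exact isUnit_one
  refine ⟨u, hu, ?_⟩
  have hfdec : f = ∑ t ∈ range k, C (coeff (Finsupp.single j t) f) * X j ^ t +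
      X j ^ k * (C c * onAxis i j P') + X i * (C (c * r ^ k) * onAxis j i Q) := by
    ext p
    rw [C_mul_onAxis, C_mul_onAxis, map_add, map_add, map_sum, coeff_X_pow_mul', ← pow_one (X i), coeff_X_pow_mul',
      coeff_onAxis, coeff_onAxis]
    simp only [coeff_C_mul, coeff_X_pow, Finsupp.coe_tsub, Pi.sub_apply, mul_ite, mul_one, mul_zero,
      Finsupp.single_eq_same, Finsupp.single_eq_of_ne hij, Finsupp.single_eq_of_ne hij.symm, tsub_zero]
    by_cases hpi : p i = 0
    · rw [if_neg (show ¬ 1 ≤ p i by omega), add_zero]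
      have hp : p = Finsupp.single j (p j) := ext_pair hij
        (by rw [hpi, Finsupp.single_eq_of_ne hij]) (by simp)
      rcases lt_or_ge (p j) k with h | h
      · rw [if_neg (show ¬ k ≤ p j by omega), add_zero, sum_eq_single (p j), if_pos hp]
        · exact congrArg (fun x => coeff x f) hp
        · intro t _ hne
          rw [if_neg]
          intro h'; exact hne (by rw [h']; simp)
        · intro h'; exact absurd (mem_range.2 h) h'
      · rw [sum_eq_zero (fun t ht => by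
          rw [if_neg]; intro h'; have := mem_range.1 ht; rw [h'] at h; simp at h; omega), zero_add, if_pos h,
          if_pos hpi, ← hP', Nat.add_sub_cancel' h]
        exact congrArg (fun x => coeff x f) hp
    · rw [sum_eq_zero (fun t _ => by
        rw [if_neg]; intro h'; exact hpi (by rw [h', Finsupp.single_eq_of_ne hij])), zero_add,
        if_pos (show 1 ≤ p i by omega)]
      simp only [hpi, if_false, ite_self, zero_add]
      by_cases hpj : p j = 0
      · rw [if_pos hpj, ← hQ]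
        refine congrArg (fun x => coeff x f) (ext_pair hij ?_ ?_)
        · rw [Finsupp.single_eq_same]; omega
        · rw [hpj, Finsupp.single_eq_of_ne hij.symm]
      · rw [if_neg hpj]
        exact hf p (by fin_cases i <;> fin_cases j <;> simp_all) (by fin_cases i <;> fin_cases j <;> simp_all)
  have hpow : ∀ n, q (X j) ^ n * q (X i) ^ n = q (C r) ^ n := fun n => by rw [← mul_pow, hq]
  conv_lhs => rw [hfdec]
  simp only [u, map_add, map_sum, map_mul, map_pow, mul_add, mul_sum]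
  rw [add_comm (∑ t ∈ range k, q (C (coeff (Finsupp.single j t) f)) * q (X j) ^ t)]
  refine congrArg₂ (· + ·) (congrArg₂ (· + ·) (by ring) (sum_congr rfl fun t ht => ?_)) ?_
  · rw [hz t (mem_range.1 ht), map_mul, map_mul, map_mul, map_mul, map_pow, map_pow, ← hpow]
    conv_rhs => rw [show k = t + (k - t) from (Nat.add_sub_cancel' (mem_range.1 ht).le).symm, pow_add]
    simp only [Nat.add_sub_cancel_left]
    ring
  · rw [← hpow, pow_succ]; ring

end Unit

section Main

variable {R : Type u} [CommRing R] [IsDomain R] [IsLocalRing R] [IsNoetherianRing R] [UniqueFactorizationMonoid R]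
  {A : Type u} [CommRing A] (q : MvPowerSeries (Fin 2) R →+* A)

/-- The desired shape. -/
def Concl (f : MvPowerSeries (Fin 2) R) : Prop :=
  ∃ (c : R) (m n : ℕ) (u : MvPowerSeries (Fin 2) R), IsUnit u ∧ m * n = 0 ∧
    q f = q (C c * X 0 ^ n * X 1 ^ m * u)

theorem concl_base {r : R} (hq : q (X 0) * q (X 1) = q (C r)) (hr : r ≠ 0) (hrm : r ∈ maximalIdeal R)
    {f g : MvPowerSeries (Fin 2) R} (hf : Axis f) (hg : Axis g) {s : R} (hs : s ≠ 0)
    (hprimes : ∀ π, Prime π → π ∣ s → π ∣ r) (hrel : Rel r f g s) : Concl q f := by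
  classical
  have hv : ∀ π : R, Prime π → π ∣ r → ∀ (i j : Fin 2), i ≠ j → ∀ p p' : Fin 2 →₀ ℕ,
      emultiplicity π s ≤ (emultiplicity π (coeff p f) + (p i : ℕ∞) * emultiplicity π r) +
        (emultiplicity π (coeff p' g) + (p' i : ℕ∞) * emultiplicity π r) := by
    intro π hπ hπr i j hij p p'
    have hfin : FiniteMultiplicity π r := FiniteMultiplicity.of_not_isUnit hπ.not_isUnit hr
    obtain ⟨e, he⟩ := ENat.ne_top_iff_exists.1 (finiteMultiplicity_iff_emultiplicity_ne_top.1 hfin)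
    have he1 : 1 ≤ e := by
      have : ((1 : ℕ) : ℕ∞) ≤ emultiplicity π r := pow_dvd_iff_le_emultiplicity.1 (by rwa [pow_one])
      rw [← he, Nat.cast_le] at this; exact this
    have := le_wt_add_wt (multiplicity_addValuation hπ) he1 he.symm hij hf hg hrel p p'
    rw [← he]
    simpa [wt, multiplicity_addValuation_apply, mul_comm] using this
  have hT : ∀ (k : ℕ) (p p' : Fin 2 →₀ ℕ), p + p' = k • diag → s ∣ coeff p f * coeff p' g * r ^ k := by
    intro k p p' hpp
    refine dvd_of_forall_prime hs fun π hπ hπs => ?_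
    refine le_trans (hv π hπ (hprimes π hπ hπs) 0 1 (by decide) p p') (le_of_eq ?_)
    have h0 : p 0 + p' 0 = k := by
      rw [← Finsupp.add_apply, hpp]; simp [diag_apply]
    rw [emultiplicity_mul hπ, emultiplicity_mul hπ, emultiplicity_pow hπ, ← h0]
    push_cast
    ring
  obtain ⟨k, p₀, q₀, w, hpq, hw⟩ : ∃ (k : ℕ) (p p' : Fin 2 →₀ ℕ) (w : Rˣ),
      p + p' = k • diag ∧ coeff p f * coeff p' g * r ^ k = s * w := by
    by_contra! hno
    obtain ⟨h, hh⟩ := hrel
    have hdiv : ∀ K, r ^ (K + 1) ∣ s := by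
      intro K
      have h1 := sum_diag r h (p := 0) (Or.inl rfl) K
      rw [← hh] at h1
      have hmem : ∀ k ∈ range (K + 1), coeff (0 + k • diag) (f * g) * r ^ k ∈ Ideal.span {s} * maximalIdeal R := by
        intro k _
        rw [coeff_mul, sum_mul]
        refine Ideal.sum_mem _ fun pp hpp => ?_
        rw [Finset.HasAntidiagonal.mem_antidiagonal, zero_add] at hpp
        obtain ⟨t, ht⟩ := hT k _ _ hpp
        rw [ht]
        refine Ideal.mul_mem_mul (Ideal.mem_span_singleton_self _) ((mem_maximalIdeal t).2 fun hu => ?_)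
        exact hno k _ _ hu.unit hpp ht
      obtain ⟨t, ht, hts⟩ := Ideal.mem_span_singleton_mul.1 (Ideal.sum_mem _ hmem)
      have hC : ∑ k ∈ range (K + 1), coeff (0 + k • diag) (C s : MvPowerSeries (Fin 2) R) * r ^ k = s := by
        rw [sum_eq_single 0]
        · rw [zero_smul, add_zero, coeff_zero_C, pow_zero, mul_one]
        · intro k _ hk
          rw [coeff_C, if_neg, zero_mul]
          intro h0
          have := congrArg (fun x : Fin 2 →₀ ℕ => x 0) h0
          simp [diag_apply] at this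
          exact hk this
        · intro h0; exact absurd (mem_range.2 (by omega)) h0
      simp only [map_sub, sub_mul, sum_sub_distrib, hC, ← hts] at h1
      have hu : IsUnit (1 - t) := (IsLocalRing.isUnit_or_isUnit_one_sub_self t).resolve_left ht
      refine hu.dvd_mul_right.1 ⟨coeff (0 + K • diag) h, ?_⟩
      linear_combination -h1
    refine hs ((Submodule.mem_bot R).1 ?_)
    rw [← Ideal.iInf_pow_eq_bot_of_isLocalRing (Ideal.span {r}) (fun h => ?_)]
    · refine Ideal.mem_iInf.2 fun n => ?_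
      rw [Ideal.span_singleton_pow, Ideal.mem_span_singleton]
      exact (pow_dvd_pow r n.le_succ).trans (hdiv n)
    · exact (maximalIdeal R).ne_top_iff_one.1 (maximalIdeal.isMaximal R).ne_top
        ((Ideal.span_singleton_le_iff_mem _).2 hrm (h ▸ Submodule.mem_top))
  set c := coeff p₀ f with hc
  have hc0 : c ≠ 0 := fun h => by
    rw [h, zero_mul, zero_mul] at hw
    exact (mul_ne_zero hs w.ne_zero) hw.symm
  have hd0 : coeff q₀ g ≠ 0 := fun h => by
    rw [h, mul_zero, zero_mul] at hw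
    exact (mul_ne_zero hs w.ne_zero) hw.symm
  have hsw : ∀ π : R, Prime π → emultiplicity π s =
      emultiplicity π c + emultiplicity π (coeff q₀ g) + (k : ℕ∞) * emultiplicity π r := fun π hπ => by
    have := congrArg (emultiplicity π) hw
    rw [emultiplicity_mul hπ, emultiplicity_mul hπ, emultiplicity_pow hπ, emultiplicity_mul hπ,
      emultiplicity_of_isUnit_right hπ.not_isUnit w.isUnit, add_zero] at this
    exact this.symm
  -- the coefficient at `p₀` dominates
  have hdom : ∀ (i j : Fin 2), i ≠ j → ∀ π : R, Prime π → π ∣ r → ∀ p,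
      emultiplicity π c + (p₀ i : ℕ∞) * emultiplicity π r ≤
        emultiplicity π (coeff p f) + (p i : ℕ∞) * emultiplicity π r := by
    intro i j hij π hπ hπr p
    have h1 := hv π hπ hπr i j hij p q₀
    have hsum : (k : ℕ∞) = (p₀ i : ℕ∞) + (q₀ i : ℕ∞) := by
      rw [← Nat.cast_add, ← Finsupp.add_apply, hpq]; simp [diag_apply]
    rw [hsw π hπ, hsum, add_mul, add_add_add_comm] at h1
    refine (WithTop.add_le_add_iff_right ?_).1 h1
    refine WithTop.add_ne_top.2 ⟨?_, ?_⟩
    · exact finiteMultiplicity_iff_emultiplicity_ne_top.1 (FiniteMultiplicity.of_not_isUnit hπ.not_isUnit hd0)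
    · refine WithTop.mul_ne_top (ENat.natCast_ne_top _) ?_
      exact finiteMultiplicity_iff_emultiplicity_ne_top.1 (FiniteMultiplicity.of_not_isUnit hπ.not_isUnit hr)
  have hp₀ : p₀ 0 = 0 ∨ p₀ 1 = 0 := by
    by_contra! h
    exact hc0 (hf p₀ h.1 h.2)
  have hq₀ : q₀ 0 = 0 ∨ q₀ 1 = 0 := by
    by_contra! h
    exact hd0 (hg q₀ h.1 h.2)
  have hprimes' : ∀ π : R, Prime π → ∀ n, π ∣ c * r ^ n → π ∣ r := fun π hπ n h => by
    rcases hπ.dvd_or_dvd h with h | h
    · refine hprimes π hπ ?_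
      rcases hπ.dvd_or_dvd (hw ▸ (h.mul_right _).mul_right _ : π ∣ s * w) with h' | h'
      · exact h'
      · exact absurd (isUnit_of_dvd_unit h' w.isUnit) hπ.not_isUnit
    · exact hπ.dvd_of_dvd_pow h
  have key : ∀ i j : Fin 2, i ≠ j → q (X j) * q (X i) = q (C r) → p₀ i = 0 →
      ∃ u, IsUnit u ∧ q f = q (C c * X j ^ (p₀ j) * u) := by
    intro i j hij hq' hpi
    have hp : p₀ = Finsupp.single j (p₀ j) := ext_pair hij
      (by rw [hpi, Finsupp.single_eq_of_ne hij]) (by simp)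
    refine exists_factor q hij hq' hf (by rw [← hp]) (fun n _ => ?_) (fun t ht => ?_) (fun n => ?_)
    · refine dvd_of_forall_prime hc0 fun π hπ hπc => ?_
      have hπr := hprimes' π hπ 0 (by rwa [pow_zero, mul_one])
      simpa [hpi, Finsupp.single_eq_of_ne hij] using hdom i j hij π hπ hπr (Finsupp.single j n)
    · refine dvd_of_forall_prime (mul_ne_zero hc0 (pow_ne_zero _ hr)) fun π hπ hπc => ?_
      have h1 := hdom j i hij.symm π hπ (hprimes' π hπ _ hπc) (Finsupp.single j t)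
      rw [Finsupp.single_eq_same, show p₀ j = (p₀ j - t) + t by omega, Nat.cast_add, add_mul, ← add_assoc] at h1
      rw [emultiplicity_mul hπ, emultiplicity_pow hπ]
      refine (WithTop.add_le_add_iff_right ?_).1 h1
      exact WithTop.mul_ne_top (ENat.natCast_ne_top _)
        (finiteMultiplicity_iff_emultiplicity_ne_top.1 (FiniteMultiplicity.of_not_isUnit hπ.not_isUnit hr))
    · refine dvd_of_forall_prime (mul_ne_zero hc0 (pow_ne_zero _ hr)) fun π hπ hπc => ?_
      rw [emultiplicity_mul hπ, emultiplicity_pow hπ]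
      simpa [Finsupp.single_eq_of_ne hij.symm] using
        hdom j i hij.symm π hπ (hprimes' π hπ _ hπc) (Finsupp.single i (n + 1))
  rcases hp₀ with h | h
  · obtain ⟨u, hu, he⟩ := key 0 1 (by decide) (by rw [mul_comm, hq]) h
    exact ⟨c, p₀ 1, 0, u, hu, mul_zero _, by rw [he, pow_zero, mul_one]⟩
  · obtain ⟨u, hu, he⟩ := key 1 0 (by decide) hq h
    exact ⟨c, 0, p₀ 0, u, hu, zero_mul _, by rw [he, pow_zero, mul_one]⟩

/-- A prime not dividing `r` divides a factor. -/
theorem exists_strip {r : R} (hrm : r ∈ maximalIdeal R) {π : R} (hπ : Prime π) (hπr : ¬ π ∣ r)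
    {f g : MvPowerSeries (Fin 2) R} (hf : Axis f) (hg : Axis g) {s : R} (hπs : π ∣ s) (hrel : Rel r f g s) :
    (∀ p, π ∣ coeff p f) ∨ (∀ p, π ∣ coeff p g) := by
  classical
  let P : Ideal R := Ideal.span {π}
  haveI : P.IsPrime := (Ideal.span_singleton_prime hπ.ne_zero).2 hπ
  haveI : Nontrivial (R ⧸ P) := Ideal.Quotient.nontrivial_iff.2 Ideal.IsPrime.ne_top'
  haveI : IsLocalRing (R ⧸ P) :=
    IsLocalRing.of_surjective' (Ideal.Quotient.mk P) Ideal.Quotient.mk_surjective
  let L := FractionRing (R ⧸ P)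
  have hr0 : Ideal.Quotient.mk P r ≠ 0 := fun h =>
    hπr (Ideal.mem_span_singleton.1 (Ideal.Quotient.eq_zero_iff_mem.1 h))
  have hrD : Ideal.Quotient.mk P r ∈ maximalIdeal (R ⧸ P) := (mem_maximalIdeal _).2 fun hu => by
    have : IsLocalHom (Ideal.Quotient.mk P) :=
      IsLocalHom.of_surjective _ Ideal.Quotient.mk_surjective
    exact (mem_maximalIdeal r).1 hrm (isUnit_of_map_unit _ r hu)
  obtain ⟨V, hV, hVmem, hloc⟩ := Proj16.exists_dvr_dominating (R ⧸ P) L
    ⟨_, hrD, fun h => hr0 (IsFractionRing.injective (R ⧸ P) L (h.trans (map_zero _).symm))⟩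
  haveI := hV
  let φ : R →+* V := ((algebraMap (R ⧸ P) L).codRestrict V.toSubring hVmem).comp (Ideal.Quotient.mk P)
  let v : AddValuation R ℕ∞ := (IsDiscreteValuationRing.addVal V).comap φ
  have hker : ∀ x, v x = ⊤ ↔ π ∣ x := fun x => by
    show IsDiscreteValuationRing.addVal V (φ x) = ⊤ ↔ _
    rw [IsDiscreteValuationRing.addVal_eq_top_iff, ← Ideal.mem_span_singleton, ← Ideal.Quotient.eq_zero_iff_mem]
    refine ⟨fun h => IsFractionRing.injective (R ⧸ P) L ((congrArg Subtype.val h).trans (map_zero _).symm),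
      fun h => ?_⟩
    show ((algebraMap (R ⧸ P) L).codRestrict V.toSubring hVmem) (Ideal.Quotient.mk P x) = 0
    rw [show Ideal.Quotient.mk P x = 0 from h, map_zero]
  obtain ⟨e, he⟩ := ENat.ne_top_iff_exists.1 (fun h => hπr ((hker r).1 h))
  have he1 : 1 ≤ e := by
    rw [Nat.one_le_iff_ne_zero]
    rintro rfl
    have hu : IsUnit (φ r) := IsDiscreteValuationRing.addVal_eq_zero_iff.1 he.symm
    exact (mem_maximalIdeal (Ideal.Quotient.mk P r)).1 hrD (hloc.map_nonunit _ hu)
  by_contra! h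
  obtain ⟨⟨p, hp⟩, ⟨p', hp'⟩⟩ := h
  have h1 := le_wt_add_wt v he1 he.symm (show (0 : Fin 2) ≠ 1 by decide) hf hg hrel p p'
  rw [(hker s).2 hπs, top_le_iff] at h1
  rcases (WithTop.add_eq_top.1 h1).imp WithTop.add_eq_top.1 WithTop.add_eq_top.1 with (h | h) | (h | h)
  · exact hp ((hker _).1 h)
  · exact ENat.natCast_ne_top _ h
  · exact hp' ((hker _).1 h)
  · exact ENat.natCast_ne_top _ h

theorem rel_cancel {r π s : R} (hπ : Prime π) {f g : MvPowerSeries (Fin 2) R}
    (hrel : Rel r (C π * f) g (π * s)) : Rel r f g s := by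
  classical
  obtain ⟨h, hh⟩ := hrel
  let P : Ideal R := Ideal.span {π}
  haveI : P.IsPrime := (Ideal.span_singleton_prime hπ.ne_zero).2 hπ
  let ψ := MvPowerSeries.map (σ := Fin 2) (Ideal.Quotient.mk P)
  have hψ : ψ (C π) = 0 := by
    rw [MvPowerSeries.map_C, Ideal.Quotient.eq_zero_iff_mem.2 (Ideal.mem_span_singleton_self π), map_zero]
  have h0 : ψ h = 0 := by
    have e := congrArg ψ hh
    simp only [map_sub, map_mul, hψ, zero_mul, sub_zero] at e
    refine (mul_eq_zero.1 e.symm).resolve_left fun h1 => ?_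
    have h2 := congrArg (coeff diag) h1
    have hd : diag ≠ 0 := fun h => by
      have := congrArg (fun x : Fin 2 →₀ ℕ => x 0) h
      simp [diag_apply] at this
    rw [MvPowerSeries.map_C, MvPowerSeries.map_X, MvPowerSeries.map_X, X_mul_X_eq, map_sub, coeff_monomial_same,
      coeff_C, if_neg hd, sub_zero, map_zero] at h2
    exact one_ne_zero h2
  have hdvd : ∀ p, ∃ z, coeff p h = π * z := fun p => by
    have := congrArg (coeff p) h0
    rw [MvPowerSeries.coeff_map, map_zero, Ideal.Quotient.eq_zero_iff_mem, Ideal.mem_span_singleton] at this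
    exact this
  choose z hz using hdvd
  let h' : MvPowerSeries (Fin 2) R := z
  have hh' : h = C π * h' := by
    ext p
    rw [coeff_C_mul]
    exact hz p
  refine ⟨h', mul_left_cancel₀ (a := C π) (fun h0 => hπ.ne_zero (C_injective (h0.trans (map_zero _).symm))) ?_⟩
  rw [hh'] at hh
  simp only [map_mul] at hh
  linear_combination hh

theorem concl_of_rel {r : R} (hq : q (X 0) * q (X 1) = q (C r)) (hr : r ≠ 0) (hrm : r ∈ maximalIdeal R)
    (s : R) : s ≠ 0 → ∀ f g : MvPowerSeries (Fin 2) R, Axis f → Axis g → Rel r f g s → Concl q f := by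
  refine wellFounded_dvdNotUnit.induction (C := fun s => s ≠ 0 → ∀ f g : MvPowerSeries (Fin 2) R,
    Axis f → Axis g → Rel r f g s → Concl q f) s fun s ih hs f g hf hg hrel => ?_
  by_cases hall : ∀ π, Prime π → π ∣ s → π ∣ r
  · exact concl_base q hq hr hrm hf hg hs hall hrel
  push Not at hall
  obtain ⟨π, hπ, ⟨s', rfl⟩, hπr⟩ := hall
  have hs' : s' ≠ 0 := right_ne_zero_of_mul hs
  have hlt : DvdNotUnit s' (π * s') := ⟨hs', π, hπ.not_isUnit, mul_comm _ _⟩
  have hdiv : ∀ f : MvPowerSeries (Fin 2) R, Axis f → (∀ p, π ∣ coeff p f) →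
      ∃ f', Axis f' ∧ f = C π * f' := by
    intro f hf h
    choose z hz using h
    let z' : MvPowerSeries (Fin 2) R := z
    refine ⟨z', fun p h0 h1 => ?_, ?_⟩
    · have := hz p
      rw [hf p h0 h1] at this
      exact (mul_eq_zero.1 this.symm).resolve_left hπ.ne_zero
    · ext p
      rw [coeff_C_mul]
      exact hz p
  rcases exists_strip hrm hπ hπr hf hg ⟨s', rfl⟩ hrel with h | h
  · obtain ⟨f', hf', rfl⟩ := hdiv f hf h
    obtain ⟨c, m, n, u, hu, hmn, he⟩ := ih s' hlt hs' f' g hf' hg (rel_cancel hπ hrel)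
    exact ⟨π * c, m, n, u, hu, hmn, by rw [map_mul, he, ← map_mul]; congr 1; rw [map_mul]; ring⟩
  · obtain ⟨g', hg', rfl⟩ := hdiv g hg h
    refine ih s' hlt hs' f g' hf hg' (rel_cancel hπ ?_)
    obtain ⟨w, hw⟩ := hrel
    exact ⟨w, by rw [← hw]; ring⟩

end Main

/-- Series in `r`. -/
theorem exists_sumr {R : Type u} [CommRing R] [IsLocalRing R] [IsAdicComplete (maximalIdeal R) R] {r : R}
    (hr : r ∈ maximalIdeal R) :
    ∃ S : (ℕ → R) → R, ∀ a, S a = a 0 + r * S (fun n => a (n + 1)) := by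
  have hex : ∀ a : ℕ → R, ∃ L, ∀ n, L - ∑ k ∈ range n, a k * r ^ k ∈ maximalIdeal R ^ n := by
    intro a
    obtain ⟨L, hL⟩ := IsPrecomplete.prec (I := maximalIdeal R) (M := R) inferInstance
      (f := fun n => ∑ k ∈ range n, a k * r ^ k) (fun {m n} hmn => by
        rw [SModEq.sub_mem, smul_eq_mul, Ideal.mul_top, ← sum_range_add_sum_Ico _ hmn, sub_add_cancel_left]
        refine neg_mem (Ideal.sum_mem _ fun k hk => ?_)
        exact Ideal.mul_mem_left _ _ (Ideal.pow_le_pow_right (mem_Ico.1 hk).1 (Ideal.pow_mem_pow hr k)))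
    refine ⟨L, fun n => ?_⟩
    have := (hL n).symm
    rwa [SModEq.sub_mem, smul_eq_mul, Ideal.mul_top] at this
  choose S hS using hex
  refine ⟨S, fun a => sub_eq_zero.1 (IsHausdorff.haus (I := maximalIdeal R) inferInstance _ fun n => ?_)⟩
  rw [SModEq.zero, smul_eq_mul, Ideal.mul_top]
  have h1 := Ideal.pow_le_pow_right (Nat.le_succ n) (hS a (n + 1))
  have h2 := Ideal.mul_mem_left _ r (hS (fun k => a (k + 1)) n)
  have e : ∑ k ∈ range (n + 1), a k * r ^ k = a 0 + r * ∑ k ∈ range n, a (k + 1) * r ^ k := by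
    rw [sum_range_succ', mul_sum, pow_zero, mul_one, add_comm]
    congr 1
    exact sum_congr rfl fun k _ => by ring
  have := sub_mem h1 h2
  rw [e] at this
  convert this using 1
  ring

theorem exists_axis {R : Type u} [CommRing R] [IsLocalRing R] [IsAdicComplete (maximalIdeal R) R] {r : R}
    (hr : r ∈ maximalIdeal R) (f : MvPowerSeries (Fin 2) R) :
    ∃ h, Axis (f - (X 0 * X 1 - C r) * h) := by
  obtain ⟨S, hS⟩ := exists_sumr hr
  let h : MvPowerSeries (Fin 2) R := fun p => S fun n => coeff (p + (n + 1) • diag) f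
  refine ⟨h, fun p h0 h1 => ?_⟩
  have hp : p = (p - diag) + diag := by
    refine ext_pair (show (0 : Fin 2) ≠ 1 by decide) ?_ ?_ <;> simp [diag_apply] <;> omega
  rw [hp, map_sub, coeff_rel_mul]
  show coeff _ f - (S (fun n => coeff (p - diag + (n + 1) • diag) f) -
    r * S (fun n => coeff (p - diag + diag + (n + 1) • diag) f)) = 0
  rw [hS (fun n => coeff (p - diag + (n + 1) • diag) f)]
  have : (fun n => coeff (p - diag + (n + 1 + 1) • diag) f) = fun n => coeff (p - diag + diag + (n + 1) • diag) f :=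
    funext fun n => by rw [succ_nsmul' diag (n + 1), add_assoc]
  simp only [this, zero_add, one_smul]
  ring

open TensorProduct in
/-- Clearing denominators of a generic unit. -/
theorem exists_mul_eq {R A : Type u} [CommRing R] [CommRing A] [Algebra R A] (a : A)
    (ha : IsUnit (a ⊗ₜ[R] (1 : FractionRing R) : A ⊗[R] FractionRing R)) :
    ∃ s ∈ nonZeroDivisors R, ∃ b, a * b = algebraMap R A s := by
  obtain ⟨z, hz⟩ := IsUnit.exists_right_inv ha
  obtain ⟨⟨b, ⟨_, t, ht, rfl⟩⟩, he⟩ := IsLocalization.surj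
    (Algebra.algebraMapSubmonoid A (nonZeroDivisors R)) z
  have e2 : algebraMap A (A ⊗[R] FractionRing R) (a * b) = algebraMap A _ (algebraMap R A t) := by
    rw [map_mul, ← he, ← mul_assoc, show algebraMap A (A ⊗[R] FractionRing R) a * z = 1 from hz, one_mul]
  obtain ⟨⟨_, w, hw, rfl⟩, hwe⟩ := (IsLocalization.eq_iff_exists
    (Algebra.algebraMapSubmonoid A (nonZeroDivisors R)) _).1 e2
  refine ⟨w * t, mul_mem hw ht, algebraMap R A w * b, ?_⟩
  rw [mul_left_comm, map_mul]
  exact hwe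

open MvPowerSeries in
/-- Let R be a regular local ring, complete for its maximal ideal, with fraction field K; let r be a
non-zero element of R and A the quotient of the power series ring in two variables x, y over R by
the ideal generated by xy − r. If an element a of A maps to a unit of A ⊗_R K, then there are an
element s of R, natural numbers m and n with mn = 0 and a unit u of A with a = s xⁿ yᵐ u. -/
theorem result
    (R : Type u) [CommRing R] [IsRegularLocalRing R]
    [IsAdicComplete (IsLocalRing.maximalIdeal R) R]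
    (r : R) (hr : r ≠ 0)
    (a : (MvPowerSeries (Fin 2) R ⧸ Ideal.span {(X 0 * X 1 - C r : MvPowerSeries (Fin 2) R)}))
    (ha : IsUnit (a ⊗ₜ[R] (1 : FractionRing R) :
      (MvPowerSeries (Fin 2) R ⧸ Ideal.span {(X 0 * X 1 - C r : MvPowerSeries (Fin 2) R)}) ⊗[R] FractionRing R)) :
    ∃ (s : R) (m n : ℕ) (u : (MvPowerSeries (Fin 2) R ⧸ Ideal.span {(X 0 * X 1 - C r : MvPowerSeries (Fin 2) R)})ˣ),
      m * n = 0 ∧ a = Ideal.Quotient.mk _ (C s * X 0 ^ n * X 1 ^ m) * (u : (MvPowerSeries (Fin 2) R ⧸ Ideal.span {(X 0 * X 1 - C r : MvPowerSeries (Fin 2) R)})) := by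
  classical
  obtain ⟨hdom, hufd⟩ := RegUFD.ufd R
  haveI := hdom
  haveI := hufd
  let I : Ideal (MvPowerSeries (Fin 2) R) := Ideal.span {(X 0 * X 1 - C r : MvPowerSeries (Fin 2) R)}
  let q : MvPowerSeries (Fin 2) R →+* (MvPowerSeries (Fin 2) R ⧸ I) := Ideal.Quotient.mk I
  have hqrel : q (X 0 * X 1 - C r) = 0 := Ideal.Quotient.eq_zero_iff_mem.2 (Ideal.mem_span_singleton_self _)
  by_cases hrm : IsUnit r
  · have hu : IsUnit (X 0 * X 1 - C r : MvPowerSeries (Fin 2) R) := by
      rw [isUnit_iff_constantCoeff]; simpa using hrm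
    haveI : Subsingleton (MvPowerSeries (Fin 2) R ⧸ I) :=
      Ideal.Quotient.subsingleton_iff.2 (Ideal.span_singleton_eq_top.2 hu)
    exact ⟨1, 0, 0, 1, rfl, Subsingleton.elim _ _⟩
  have hrm' : r ∈ maximalIdeal R := (mem_maximalIdeal r).2 hrm
  obtain ⟨s, hs', b, hb⟩ := exists_mul_eq a ha
  have hs : s ≠ 0 := nonZeroDivisors.ne_zero hs'
  obtain ⟨f₀, rfl⟩ := Ideal.Quotient.mk_surjective a
  obtain ⟨g₀, rfl⟩ := Ideal.Quotient.mk_surjective b
  obtain ⟨h₁, hf⟩ := exists_axis hrm' f₀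
  obtain ⟨h₂, hg⟩ := exists_axis hrm' g₀
  have hqf : ∀ f h, q (f - (X 0 * X 1 - C r) * h) = q f := fun f h => by
    rw [map_sub, map_mul, hqrel, zero_mul, sub_zero]
  have hrel : Rel r (f₀ - (X 0 * X 1 - C r) * h₁) (g₀ - (X 0 * X 1 - C r) * h₂) s := by
    have : q ((f₀ - (X 0 * X 1 - C r) * h₁) * (g₀ - (X 0 * X 1 - C r) * h₂) - C s) = 0 := by
      rw [map_sub, map_mul, hqf, hqf, sub_eq_zero]; exact hb
    exact Ideal.mem_span_singleton.1 (Ideal.Quotient.eq_zero_iff_mem.1 this)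
  have hq : q (X 0) * q (X 1) = q (C r) := by
    rw [← map_mul, ← sub_eq_zero, ← map_sub]; exact hqrel
  obtain ⟨c, m, n, u, hu, hmn, he⟩ := concl_of_rel q hq hr hrm' s hs _ _ hf hg hrel
  refine ⟨c, m, n, (hu.map q).unit, hmn, ?_⟩
  rw [hqf] at he
  rw [IsUnit.unit_spec, ← map_mul]
  exact he

end Groth.Agent.S17719
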