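import Groth.Statements.S17720
import Mathlib

set_option autoImplicit false
universe u
open CAlg

namespace Groth.Agent.S17720

open MvPowerSeries IsLocalRing

/-- The coefficient of `X i`. -/
noncomputable def lin {A : Type u} [CommRing A] (i : Fin 2) : MvPowerSeries (Fin 2) A →ₗ[A] A :=
  coeff (Finsupp.single i 1)

lemma lin_mul {A : Type u} [CommRing A] (i : Fin 2) (f g : MvPowerSeries (Fin 2) A) :
    lin i (f * g) = constantCoeff f * lin i g + lin i f * constantCoeff g := by
  classical
  rw [lin, coeff_mul, Finsupp.antidiagonal_single, show Finset.HasAntidiagonal.antidiagonal 1 = ({(0, 1), (1, 0)} : Finset (ℕ × ℕ)) from rfl]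
  simp

lemma lin_C {A : Type u} [CommRing A] (i : Fin 2) (a : A) : lin i (C a : MvPowerSeries (Fin 2) A) = 0 := by
  classical
  simp [lin, coeff_C]

lemma lin_X {A : Type u} [CommRing A] (i j : Fin 2) :
    lin i (X j : MvPowerSeries (Fin 2) A) = if i = j then 1 else 0 := by
  classical
  simp [lin, coeff_X, Finsupp.single_left_inj]

lemma exists_decomp {A : Type u} [CommRing A] (f : MvPowerSeries (Fin 2) A) :
    ∃ g h, f = C (constantCoeff f) + X 0 * g + X 1 * h := by
  classical
  let h : MvPowerSeries (Fin 2) A := fun d => if d 0 = 0 then coeff (d + Finsupp.single 1 1) f else 0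
  have hd : (X 0 : MvPowerSeries (Fin 2) A) ∣ f - C (constantCoeff f) - X 1 * h := by
    rw [X_dvd_iff]
    intro d hd
    rw [map_sub, map_sub, coeff_C]
    by_cases h1 : d 1 = 0
    · have : d = 0 := by ext i; fin_cases i <;> assumption
      subst this
      simp [X_def, coeff_monomial_mul]
    · have hd' : d = (d - Finsupp.single 1 1) + Finsupp.single 1 1 := by
        ext i
        fin_cases i
        · simp [hd]
        · simp; omega
      have hne : d ≠ 0 := fun e => h1 (by rw [e]; rfl)
      rw [if_neg hne, sub_zero]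
      have e2 : coeff d (X 1 * h) = coeff (d - Finsupp.single 1 1) h := by
        conv_lhs => rw [hd', add_comm]
        rw [X_def, coeff_add_monomial_mul, one_mul]
      rw [e2]
      show coeff d f - (if (d - Finsupp.single 1 1 : Fin 2 →₀ ℕ) 0 = 0 then coeff ((d - Finsupp.single 1 1) + Finsupp.single 1 1) f else 0) = 0
      rw [if_pos (by simp [hd]), ← hd', sub_self]
  obtain ⟨g, hg⟩ := hd
  exact ⟨g, h, by rw [← hg]; ring⟩

theorem mem_span_of_equiv (A : Type u) [CommRing A] [IsLocalRing A]
    (α β : A) (hα : α ∈ maximalIdeal A) (hβ : β ∈ maximalIdeal A)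
    (φ : (MvPowerSeries (Fin 2) A ⧸ Ideal.span {(X 0 * X 1 - C α : MvPowerSeries (Fin 2) A)}) ≃ₐ[A] (MvPowerSeries (Fin 2) A ⧸ Ideal.span {(X 0 * X 1 - C β : MvPowerSeries (Fin 2) A)})) :
    α ∈ Ideal.span {β} := by
  classical
  let Rα : MvPowerSeries (Fin 2) A := X 0 * X 1 - C α
  let Rβ : MvPowerSeries (Fin 2) A := X 0 * X 1 - C β
  let πα : MvPowerSeries (Fin 2) A →+* _ := Ideal.Quotient.mk (Ideal.span {Rα})
  let πβ : MvPowerSeries (Fin 2) A →+* _ := Ideal.Quotient.mk (Ideal.span {Rβ})
  let Φ : MvPowerSeries (Fin 2) A →+* _ := φ.toRingEquiv.toRingHom.comp πα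
  have hC : ∀ a, Φ (C a) = πβ (C a) := fun a => by
    have h1 : ∀ γ : A, algebraMap A (MvPowerSeries (Fin 2) A ⧸ Ideal.span {(X 0 * X 1 - C γ : MvPowerSeries (Fin 2) A)}) a =
        Ideal.Quotient.mk _ (C a) := fun γ => rfl
    show φ (Ideal.Quotient.mk _ (C a)) = Ideal.Quotient.mk _ (C a)
    rw [← h1, ← h1, AlgEquiv.commutes]
  have hmk : ∀ {s t}, πβ s = πβ t → ∃ H, s - t = Rβ * H := fun h =>
    Ideal.mem_span_singleton.1 (Ideal.Quotient.eq.1 h)
  obtain ⟨U, hU⟩ := Ideal.Quotient.mk_surjective (Φ (X 0))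
  obtain ⟨V, hV⟩ := Ideal.Quotient.mk_surjective (Φ (X 1))
  change πβ U = _ at hU
  change πβ V = _ at hV
  -- constants of `U`, `V` lie in the maximal ideal
  have hm : ∀ (G : MvPowerSeries (Fin 2) A) (i : Fin 2), πβ G = Φ (X i) → constantCoeff G ∈ maximalIdeal A := by
    intro G i hG
    rw [mem_maximalIdeal, mem_nonunits_iff]
    intro hu
    have : IsUnit (Φ (X i)) := hG ▸ (MvPowerSeries.isUnit_iff_constantCoeff.2 hu).map πβ
    have h2 : IsUnit (πα (X i)) := (isUnit_map_iff φ _).1 this

    obtain ⟨g, hg⟩ := isUnit_iff_exists_inv.1 h2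
    obtain ⟨g, rfl⟩ := Ideal.Quotient.mk_surjective g
    rw [← map_mul, ← map_one πα] at hg
    obtain ⟨H, hH⟩ := Ideal.mem_span_singleton.1 (Ideal.Quotient.eq.1 hg)
    have := congrArg constantCoeff hH
    simp [Rα] at this
    exact (mem_nonunits_iff.1 ((mem_maximalIdeal α).1 hα)) (IsUnit.of_mul_eq_one _ this.symm)
  have hU0 := hm U 0 hU
  have hV0 := hm V 1 hV
  let k : A →+* ResidueField A := residue A
  have hkU : k (constantCoeff U) = 0 := (residue_eq_zero_iff _).2 hU0
  have hkV : k (constantCoeff V) = 0 := (residue_eq_zero_iff _).2 hV0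
  have hkβ : k β = 0 := (residue_eq_zero_iff _).2 hβ
  -- `X i` is generated by constants, `U` and `V`
  have hgen : ∀ i : Fin 2, ∃ P Q : A, ∀ j : Fin 2,
      k P * k (lin j U) + k Q * k (lin j V) = k (if j = i then 1 else 0) := by
    intro i
    obtain ⟨z, hz⟩ := φ.surjective (πβ (X i))
    obtain ⟨F, hF⟩ : ∃ F, πα F = z := Ideal.Quotient.mk_surjective z
    obtain ⟨g, h, hgh⟩ := exists_decomp F
    obtain ⟨G, hG⟩ : ∃ G, πβ G = Φ g := Ideal.Quotient.mk_surjective _
    obtain ⟨H', hH'⟩ : ∃ H', πβ H' = Φ h := Ideal.Quotient.mk_surjective _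
    have e : πβ (X i) = πβ (C (constantCoeff F) + U * G + V * H') := by
      rw [← hz, ← hF, map_add, map_add, map_mul, map_mul, hU, hV, hG, hH', ← hC, ← map_mul, ← map_mul,
        ← map_add, ← map_add, ← hgh]
      rfl
    obtain ⟨W, hW⟩ := hmk e
    refine ⟨constantCoeff G, constantCoeff H', fun j => ?_⟩
    have h1 := congrArg (fun s => k (lin j s)) hW
    simp only [map_neg, map_sub, map_add, lin_mul, lin_C, lin_X, Rβ, map_mul, constantCoeff_X, constantCoeff_C,
      hkU, hkV, hkβ, map_zero, zero_mul, mul_zero, zero_add, add_zero, sub_zero, zero_sub, neg_zero] at h1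
    rw [sub_eq_zero] at h1
    rw [h1]
    ring
  obtain ⟨P, Q, hPQ⟩ := hgen 0
  obtain ⟨P', Q', hPQ'⟩ := hgen 1
  have hdet : IsUnit (lin 0 U * lin 1 V - lin 1 U * lin 0 V) := by
    rw [← notMem_maximalIdeal, ← residue_eq_zero_iff]
    intro h0
    have a := hPQ 0
    have b := hPQ 1
    have c := hPQ' 0
    have d := hPQ' 1
    rw [if_pos rfl, map_one] at a d
    rw [if_neg (show (1 : Fin 2) ≠ 0 by decide), map_zero] at b
    rw [if_neg (show (0 : Fin 2) ≠ 1 by decide), map_zero] at c
    have h0' : k (lin 0 U) * k (lin 1 V) - k (lin 1 U) * k (lin 0 V) = 0 := by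
      rw [← map_mul, ← map_mul, ← map_sub]; exact h0
    have : (1 : ResidueField A) = 0 := by
      linear_combination (k P * k Q' - k Q * k P') * h0' - a * (k P' * k (lin 1 U) + k Q' * k (lin 1 V)) +
        (k P' * k (lin 0 U) + k Q' * k (lin 0 V)) * b - d
    exact one_ne_zero this
  -- the relation `U V = α`
  have e : πβ (U * V) = πβ (C α) := by
    rw [map_mul, hU, hV, ← map_mul, ← hC]
    show φ (πα _) = φ (πα _)
    congr 1
    exact Ideal.Quotient.eq.2 (Ideal.mem_span_singleton_self _)
  obtain ⟨W, hW⟩ := hmk e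
  let q : A →+* A ⧸ Ideal.span {β} := Ideal.Quotient.mk _
  have hqβ : q β = 0 := Ideal.Quotient.eq_zero_iff_mem.2 (Ideal.mem_span_singleton_self β)
  have hlin : ∀ j : Fin 2, q (constantCoeff U) * q (lin j V) + q (lin j U) * q (constantCoeff V) = 0 := by
    intro j
    have h1 := congrArg (fun s => q (lin j s)) hW
    simp only [map_neg, map_sub, map_add, lin_mul, lin_C, lin_X, Rβ, map_mul, constantCoeff_X, constantCoeff_C,
      hqβ, map_zero, zero_mul, mul_zero, zero_add, add_zero, sub_zero, zero_sub, neg_zero] at h1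
    exact h1
  have hu : q (constantCoeff U) = 0 := by
    refine (hdet.map q).mul_left_eq_zero.1 ?_
    simp only [map_sub, map_mul]
    linear_combination q (lin 0 U) * hlin 1 - q (lin 1 U) * hlin 0
  have h1 := congrArg (fun s => q (constantCoeff s)) hW
  simp only [map_neg, map_sub, map_mul, Rβ, constantCoeff_X, constantCoeff_C, hqβ, hu, map_zero, zero_mul, mul_zero,
    sub_zero, zero_sub, neg_zero, neg_eq_zero] at h1
  exact Ideal.Quotient.eq_zero_iff_mem.1 h1

open MvPowerSeries IsLocalRing in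
/-- Let A be a Noetherian local ring and α, β two elements of its maximal ideal. If the quotient of the
power series ring in two variables over A by xy − α is isomorphic, as an A-algebra, to the quotient
by xy − β, then αA = βA. (The published statement allows any local ring A; it is taken Noetherian
here, the case in which an algebra isomorphism between these complete local rings is continuous for
their adic topologies.) -/
theorem result
    (A : Type u) [CommRing A] [IsLocalRing A] [IsNoetherianRing A]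
    (α β : A) (hα : α ∈ maximalIdeal A) (hβ : β ∈ maximalIdeal A)
    (φ : (MvPowerSeries (Fin 2) A ⧸ Ideal.span {(X 0 * X 1 - C α : MvPowerSeries (Fin 2) A)}) ≃ₐ[A] (MvPowerSeries (Fin 2) A ⧸ Ideal.span {(X 0 * X 1 - C β : MvPowerSeries (Fin 2) A)})) :
    Ideal.span {α} = Ideal.span {β} := by
  refine le_antisymm ?_ ?_ <;> rw [Ideal.span_singleton_le_iff_mem]
  · exact mem_span_of_equiv A α β hα hβ φ
  · exact mem_span_of_equiv A β α hβ hα φ.symm

end Groth.Agent.S17720
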