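import Groth.Statements.S17721
import Mathlib

set_option autoImplicit false
universe u
open CAlg

namespace Groth.Agent.S17721

open Polynomial IsLocalRing in
/-- Let R be a complete discrete valuation ring with fraction field K, and f a polynomial over R with
non-zero constant term a₀ such that a₀ does not divide some coefficient of f of positive degree
(equivalently, the Newton polygon of f has a side of negative slope). Let b be the power series over
K with b · f = a₀, the expansion of the geometric series in 1 − f/a₀. Then the valuations of the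
coefficients b_j are not bounded below: for every non-zero c in R there is an index j with c · b_j
outside R. -/
theorem result
    (R : Type u) [CommRing R] [IsDomain R] [IsDiscreteValuationRing R]
    [IsAdicComplete (maximalIdeal R) R]
    (K : Type u) [Field K] [Algebra R K] [IsFractionRing R K]
    (f : R[X]) (h0 : f.coeff 0 ≠ 0) (hslope : ∃ i : ℕ, 0 < i ∧ ¬ (f.coeff 0 ∣ f.coeff i))
    (b : PowerSeries K)
    (hb : b * ((f.map (algebraMap R K) : K[X]) : PowerSeries K) = PowerSeries.C (algebraMap R K (f.coeff 0))) :
    ∀ c : R, c ≠ 0 → ∃ j : ℕ, algebraMap R K c * PowerSeries.coeff j b ∉ (algebraMap R K).range := by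
  classical
  intro c hc
  by_contra hne
  push Not at hne
  choose β hβ using hne
  let g : PowerSeries R := PowerSeries.mk β
  have hgb : g.map (algebraMap R K) = PowerSeries.C (algebraMap R K c) * b := by
    ext j
    rw [PowerSeries.coeff_map, PowerSeries.coeff_mk, PowerSeries.coeff_C_mul, hβ]
  have hgf : g * (f : PowerSeries R) = PowerSeries.C (c * f.coeff 0) := by
    apply PowerSeries.map_injective _ (IsFractionRing.injective R K)
    rw [map_mul, hgb, PowerSeries.map_C, map_mul, map_mul, ← Polynomial.polynomial_map_coe, mul_assoc, hb]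
  obtain ⟨ϖ, hϖ⟩ := IsDiscreteValuationRing.exists_irreducible R
  have hprime : Prime ϖ := hϖ.prime
  obtain ⟨m, u, hu⟩ := IsDiscreteValuationRing.eq_unit_mul_pow_irreducible h0 hϖ
  obtain ⟨i, hi0, hi⟩ := hslope
  have hdesc : ∀ (m : ℕ) (f : R[X]) (g : PowerSeries R) (u : Rˣ) (d : R), f.coeff 0 = ↑u * ϖ ^ m →
      ¬ f.coeff 0 ∣ f.coeff i → d ≠ 0 → g * (f : PowerSeries R) = PowerSeries.C d → False := by
    intro m
    induction m with
    | zero =>
      intro f g u d h0 hi _ _
      exact hi (by rw [h0, pow_zero, mul_one]; exact u.isUnit.dvd)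
    | succ m ih =>
      intro f g u d h0 hi hd hgf
      by_cases hall : ∀ j, ϖ ∣ f.coeff j
      · obtain ⟨f', rfl⟩ := (Polynomial.C_dvd_iff_dvd_coeff ϖ f).2 hall
        rw [Polynomial.coeff_C_mul, pow_succ', mul_left_comm] at h0
        have h0' := mul_left_cancel₀ hprime.ne_zero h0
        have hi' : ¬ f'.coeff 0 ∣ f'.coeff i := fun hh => hi (by
          rw [Polynomial.coeff_C_mul, Polynomial.coeff_C_mul]; exact mul_dvd_mul_left ϖ hh)
        refine ih f' (PowerSeries.C ϖ * g) u d h0' hi' hd ?_
        rw [← hgf, Polynomial.coe_mul, Polynomial.coe_C]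
        ring
      · -- `f` is primitive, with constant term divisible by `ϖ`
        have : (Ideal.span {ϖ}).IsPrime := (Ideal.span_singleton_prime hprime.ne_zero).2 hprime
        let π := Ideal.Quotient.mk (Ideal.span {ϖ})
        have hfne : PowerSeries.map π (f : PowerSeries R) ≠ 0 := fun hz => hall fun j => by
          have := congrArg (PowerSeries.coeff j) hz
          rwa [PowerSeries.coeff_map, map_zero, Polynomial.coeff_coe, Ideal.Quotient.eq_zero_iff_mem,
            Ideal.mem_span_singleton] at this
        obtain ⟨l, v, hv⟩ := IsDiscreteValuationRing.eq_unit_mul_pow_irreducible hd hϖ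
        clear hd
        induction l generalizing g d v with
        | zero =>
          have h2 := congrArg (PowerSeries.coeff 0) hgf
          rw [PowerSeries.coeff_zero_eq_constantCoeff, map_mul, PowerSeries.constantCoeff_C, hv, pow_zero,
            mul_one] at h2
          rw [show PowerSeries.constantCoeff (f : PowerSeries R) = f.coeff 0 from Polynomial.constantCoeff_coe f,
            h0] at h2
          exact hprime.not_unit (isUnit_of_dvd_unit (⟨PowerSeries.constantCoeff g * (↑u * ϖ ^ m), by
            rw [← h2, pow_succ']; ring⟩ : ϖ ∣ (v : R)) v.isUnit)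
        | succ l ihl =>
          have h2 := congrArg (PowerSeries.map π) hgf
          rw [map_mul, PowerSeries.map_C, hv,
            show π (↑v * ϖ ^ (l + 1)) = 0 from Ideal.Quotient.eq_zero_iff_mem.2
              (Ideal.mem_span_singleton.2 (dvd_mul_of_dvd_right (dvd_pow_self ϖ (by omega)) _)), map_zero] at h2
          have hg0 := (mul_eq_zero.1 h2).resolve_right hfne
          have hdvd : ∀ j, ϖ ∣ PowerSeries.coeff j g := fun j => by
            have := congrArg (PowerSeries.coeff j) hg0
            rwa [PowerSeries.coeff_map, map_zero, Ideal.Quotient.eq_zero_iff_mem, Ideal.mem_span_singleton] at this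
          choose g' hg' using hdvd
          refine ihl (PowerSeries.mk g') (↑v * ϖ ^ l) ?_ v rfl
          have hgg : g = PowerSeries.C ϖ * PowerSeries.mk g' := by
            ext j; rw [PowerSeries.coeff_C_mul, PowerSeries.coeff_mk, hg']
          refine mul_left_cancel₀ (a := PowerSeries.C ϖ) ((map_ne_zero_iff _ PowerSeries.C_injective).2 hprime.ne_zero) ?_
          rw [← mul_assoc, ← hgg, hgf, ← map_mul, hv, pow_succ', mul_left_comm]
  exact hdesc m f g u _ hu hi (mul_ne_zero hc h0) hgf

end Groth.Agent.S17721
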