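import Groth.Statements.S17722
import Groth.Agent.CAlgDescent.Principal

set_option autoImplicit false
universe u
open CAlg

namespace Groth.Agent.S17722

/-- Let R → R' be a faithfully flat ring map between Noetherian integrally closed local domains, and p
an ideal of R. If the ideal pR' generated by the image of p is principal, then p is principal. (The
second assertion of the published lemma, descent of unique factorization, is not part of this row.) -/
theorem result
    (R R' : Type u) [CommRing R] [CommRing R'] [IsDomain R] [IsDomain R']
    [IsNoetherianRing R] [IsNoetherianRing R'] [IsLocalRing R] [IsLocalRing R']
    [IsIntegrallyClosed R] [IsIntegrallyClosed R']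
    [Algebra R R'] [Module.FaithfullyFlat R R']
    (p : Ideal R) (hp : (p.map (algebraMap R R')).IsPrincipal) :
    p.IsPrincipal := by
  exact Groth.Agent.CAlgDescent.isPrincipal_of_map p hp

end Groth.Agent.S17722
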