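import Groth.Statements.S17725
import Mathlib.Topology.Sober
import Mathlib.Topology.NoetherianSpace
import Mathlib.Topology.Connected.Clopen
import Mathlib.AlgebraicGeometry.Noetherian

set_option autoImplicit false
set_option backward.isDefEq.respectTransparency false
set_option backward.isDefEq.respectTransparency.types false
universe u
open SpecSp

namespace Groth.Agent.S17725

open AlgebraicGeometry in
/-- In a connected Noetherian scheme any two points p, q are linked by a finite chain of points p = x₁,
…, xₙ = q such that for each i one of x_i, x_{i+1} is a specialization of the other; equivalently, p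
and q are related by the equivalence relation generated by the specialization relation. -/
theorem result
    (X : Scheme.{u}) [IsNoetherian X] [ConnectedSpace X] (p q : X) :
    Relation.EqvGen (fun x y : X => x ⤳ y) p q := by
  let C : Set X := {x | Relation.EqvGen (fun x y : X => x ⤳ y) p x}
  have hclose : ∀ Z ∈ irreducibleComponents X, (Z ∩ C).Nonempty → Z ⊆ C := by
    rintro Z hZ ⟨w, hw, hwC⟩ z hz
    have hη := hZ.1.isGenericPoint_genericPoint (isClosed_of_mem_irreducibleComponents Z hZ)
    exact .trans _ _ _ (.trans _ _ _ hwC (.symm _ _ (.rel _ _ (hη.specializes hw)))) (.rel _ _ (hη.specializes hz))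
  have hcl : ∀ D : Set X, (∀ Z ∈ irreducibleComponents X, (Z ∩ D).Nonempty → Z ⊆ D) → IsClosed D := by
    intro D hD
    have e : D = ⋃₀ {Z | Z ∈ irreducibleComponents X ∧ Z ⊆ D} := by
      refine Set.Subset.antisymm (fun x hx => ?_) (Set.sUnion_subset fun Z hZ => hZ.2)
      exact ⟨irreducibleComponent x, ⟨irreducibleComponent_mem_irreducibleComponents x,
        hD _ (irreducibleComponent_mem_irreducibleComponents x) ⟨x, mem_irreducibleComponent, hx⟩⟩, mem_irreducibleComponent⟩
    rw [e, Set.sUnion_eq_biUnion]
    exact (TopologicalSpace.NoetherianSpace.finite_irreducibleComponents.subset fun Z hZ => hZ.1).isClosed_biUnion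
      fun Z hZ => isClosed_of_mem_irreducibleComponents Z hZ.1
  have hcompl : IsClosed Cᶜ := hcl _ fun Z hZ ⟨w, hw, hwC⟩ z hz hzC => hwC (hclose Z hZ ⟨z, hz, hzC⟩ hw)
  have huniv : C = Set.univ :=
    (isClopen_iff.1 ⟨hcl C hclose, isClosed_compl_iff.1 hcompl⟩).resolve_left (Set.nonempty_iff_ne_empty.1 ⟨p, .refl _⟩)
  exact (Set.eq_univ_iff_forall.1 huniv q : q ∈ C)

end Groth.Agent.S17725
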