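import Groth.Statements.S17726
import Mathlib

set_option autoImplicit false
universe u
open CAlg

namespace Groth.Agent.S17726

/-- Let f and g be non-zero-divisors of a commutative ring A, not both units; think of them as local
equations, at a point of the union of the supports, of two effective Cartier divisors E and D. If
the ideals generated by g^{m₁} and f^{n₁} coincide, and likewise for g^{m₂} and f^{n₂}, then m₁ n₂ =
m₂ n₁. So all pairs (m, n) with m D = n E locally at the point are proportional, and the saturation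
of the monoid they form is generated by a single element. -/
theorem result
    (A : Type u) [CommRing A] (f g : A)
    (hf : f ∈ nonZeroDivisors A) (hg : g ∈ nonZeroDivisors A) (hfg : ¬ (IsUnit f ∧ IsUnit g))
    (m₁ n₁ m₂ n₂ : ℕ)
    (h₁ : Ideal.span {g ^ m₁} = Ideal.span {f ^ n₁})
    (h₂ : Ideal.span {g ^ m₂} = Ideal.span {f ^ n₂}) :
    m₁ * n₂ = m₂ * n₁ := by
  have key : ∀ a b : ℕ, a ≤ b → Ideal.span {g ^ a} = Ideal.span {g ^ b} → a = b ∨ IsUnit g := by
    intro a b hab h
    obtain ⟨c, rfl⟩ := Nat.exists_eq_add_of_le hab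
    rcases Nat.eq_zero_or_pos c with hc | hc
    · left; omega
    · right
      have hm : g ^ a ∈ Ideal.span {g ^ (a + c)} := h ▸ Ideal.mem_span_singleton_self _
      obtain ⟨r, hr⟩ := Ideal.mem_span_singleton.1 hm
      have : g ^ c * r = 1 := (mem_nonZeroDivisors_iff_right.1 (pow_mem hg a) (g ^ c * r - 1)
        (by linear_combination -hr) |> sub_eq_zero.1)
      exact (isUnit_pow_iff hc.ne').1 (IsUnit.of_mul_eq_one _ this)
  have e : Ideal.span {g ^ (m₁ * n₂)} = Ideal.span {g ^ (m₂ * n₁)} := by
    rw [pow_mul, pow_mul, ← Ideal.span_singleton_pow (g ^ m₁) n₂, ← Ideal.span_singleton_pow (g ^ m₂) n₁, h₁, h₂,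
      Ideal.span_singleton_pow, Ideal.span_singleton_pow, ← pow_mul, ← pow_mul, mul_comm]
  have hu : m₁ * n₂ = m₂ * n₁ ∨ IsUnit g := by
    rcases le_total (m₁ * n₂) (m₂ * n₁) with h | h
    · exact key _ _ h e
    · exact (key _ _ h e.symm).imp Eq.symm id
  rcases hu with h | hgu
  · exact h
  · have hz : ∀ m n : ℕ, Ideal.span {g ^ m} = Ideal.span {f ^ n} → n = 0 := by
      intro m n h
      by_contra hn
      rw [Ideal.span_singleton_eq_top.2 (hgu.pow m)] at h
      exact hfg ⟨(isUnit_pow_iff hn).1 (Ideal.span_singleton_eq_top.1 h.symm), hgu⟩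
    simp [hz _ _ h₁, hz _ _ h₂]

end Groth.Agent.S17726
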