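import Groth.Statements.S17727
-- import your own Groth.Agent.* helpers here

set_option autoImplicit false
universe u
open Neron

namespace Groth.Agent.S17727

open CategoryTheory AlgebraicGeometry in
/-- Let f : E → S be a morphism of schemes and U ⊆ S a schematically dense open subscheme such that f
restricts to an isomorphism over U and the preimage of U is schematically dense in E. Then for every
section σ of f and every point s of S there is an open neighbourhood W of σ(s) in E on which f
restricts to an open immersion. (The published statements conclude that the section lands in the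
étale locus of f, in one published form for an algebraic space E, in another for f locally of finite
type over a Noetherian base; the affine-local argument gives the sharper conclusion recorded here,
for schemes.) -/
theorem result
    {E S : Scheme.{u}} (f : E ⟶ S) (U : S.Opens) (hU : CInt.IsSchematicallyDense U)
    (hiso : IsIso (morphismRestrict f U)) (hdense : CInt.IsSchematicallyDense (f ⁻¹ᵁ U))
    (σ : S ⟶ E) (hσ : σ ≫ f = 𝟙 S) (s : S) :
    ∃ W : E.Opens, σ.base s ∈ W ∧ IsOpenImmersion (W.ι ≫ f) := by
    obtain ⟨_, ⟨Wa0, hWa', rfl⟩, hsW, -⟩ :=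
      E.isBasis_affineOpens.exists_subset_of_mem_open (Set.mem_univ (σ.base s)) isOpen_univ
    obtain ⟨Wa, rfl⟩ : ∃ Wa : E.Opens, Wa = Wa0 := ⟨_, rfl⟩
    have hWa : IsAffineOpen Wa := hWa'
    let W : E.Opens := Wa ⊓ (TopologicalSpace.Opens.map f.base).obj ((TopologicalSpace.Opens.map σ.base).obj Wa)
    have hfσ : ∀ t, f.base (σ.base t) = t := fun t => congrArg (fun g : S ⟶ S => g.base t) hσ
    refine ⟨W, ⟨hsW, show σ.base (f.base (σ.base s)) ∈ Wa by rw [hfσ]; exact hsW⟩, ?_⟩
    have hr : Set.range W.ι.base ⊆ (Wa : Set E) := by rw [W.range_ι]; exact fun _ hp => hp.1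
    have hr' : Set.range ((W.ι ≫ f) ≫ σ).base ⊆ (Wa : Set E) := by
      rintro _ ⟨p, rfl⟩
      exact p.2.2
    let g₁ : (W : Scheme.{u}) ⟶ (Wa : Scheme.{u}) := IsOpenImmersion.lift Wa.ι W.ι (by rwa [Wa.range_ι])
    let g₂ : (W : Scheme.{u}) ⟶ (Wa : Scheme.{u}) := IsOpenImmersion.lift Wa.ι ((W.ι ≫ f) ≫ σ) (by rwa [Wa.range_ι])
    let D : (W : Scheme.{u}).Opens := (TopologicalSpace.Opens.map W.ι.base).obj ((TopologicalSpace.Opens.map f.base).obj U)
    have hU' : D.ι ≫ W.ι = D.ι ≫ (W.ι ≫ f) ≫ σ := by
      let V : E.Opens := (TopologicalSpace.Opens.map f.base).obj U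
      have hσU : Set.range (U.ι ≫ σ).base ⊆ Set.range V.ι.base := by
        rw [V.range_ι]
        rintro _ ⟨p, rfl⟩
        show f.base (σ.base p.1) ∈ U
        rw [hfσ]; exact p.2
      let t : (U : Scheme.{u}) ⟶ (V : Scheme.{u}) := IsOpenImmersion.lift V.ι (U.ι ≫ σ) hσU
      have ht : t ≫ morphismRestrict f U = 𝟙 _ := by
        rw [← cancel_mono U.ι, Category.assoc, morphismRestrict_ι, IsOpenImmersion.lift_fac_assoc,
          Category.assoc, hσ, Category.comp_id, Category.id_comp]
      have ht' : morphismRestrict f U ≫ t = 𝟙 _ := by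
        rw [← cancel_mono (morphismRestrict f U), Category.assoc, ht, Category.comp_id, Category.id_comp]
      have key : V.ι = V.ι ≫ f ≫ σ := by
        conv_lhs => rw [← Category.id_comp V.ι, ← ht', Category.assoc, IsOpenImmersion.lift_fac]
        rw [← morphismRestrict_ι_assoc]
      have hDV : Set.range (D.ι ≫ W.ι).base ⊆ Set.range V.ι.base := by
        rw [V.range_ι]
        rintro _ ⟨p, rfl⟩
        exact p.2
      have h3 := IsOpenImmersion.lift_fac V.ι (D.ι ≫ W.ι) hDV
      refine h3.symm.trans ((congrArg (fun t => IsOpenImmersion.lift V.ι (D.ι ≫ W.ι) hDV ≫ t) key).trans ?_)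
      rw [← Category.assoc, h3]
      simp only [Category.assoc]
    have hg : g₁ = g₂ := by
      have : IsAffine (Wa : Scheme.{u}) := hWa
      refine ext_of_isAffine ?_
      have hD : D.ι ≫ g₁ = D.ι ≫ g₂ := by
        rw [← cancel_mono Wa.ι, Category.assoc, Category.assoc, IsOpenImmersion.lift_fac, IsOpenImmersion.lift_fac]
        exact hU'
      ext a
      have h1 := ConcreteCategory.congr_hom (congrArg Scheme.Hom.appTop hD) a
      have hinj : Function.Injective D.ι.appTop := by
        change Function.Injective (D.ι.app ⊤)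
        rw [D.ι_app ⊤]
        intro x y hxy
        let T : E.Opens := W.ι.opensFunctor.obj ⊤
        refine hdense T ?_
        have hle : T ⊓ (TopologicalSpace.Opens.map f.base).obj U ≤
            W.ι.opensFunctor.obj (D.ι.opensFunctor.obj ((TopologicalSpace.Opens.map D.ι.base).obj ⊤)) := by
          rintro p ⟨⟨q, -, rfl⟩, hp⟩
          exact ⟨q, ⟨⟨q, hp⟩, trivial, rfl⟩, rfl⟩
        have hh := congrArg (E.presheaf.map (homOfLE hle).op) hxy
        refine Eq.trans ?_ (hh.trans ?_)
        · refine Eq.trans ?_ (ConcreteCategory.congr_hom (E.presheaf.map_comp _ _) _)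
          exact ConcreteCategory.congr_hom (congrArg E.presheaf.map (Subsingleton.elim _ _)) x
        · refine Eq.trans (ConcreteCategory.congr_hom (E.presheaf.map_comp _ _) _).symm ?_
          exact ConcreteCategory.congr_hom (congrArg E.presheaf.map (Subsingleton.elim _ _)) y
      exact hinj h1
    have e : W.ι = (W.ι ≫ f) ≫ σ := by
      exact (IsOpenImmersion.lift_fac Wa.ι W.ι (by rwa [Wa.range_ι])).symm.trans
        ((congrArg (· ≫ Wa.ι) hg).trans (IsOpenImmersion.lift_fac _ _ _))
    let V0 : S.Opens := (TopologicalSpace.Opens.map σ.base).obj Wa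
    have hWV : Set.range (W.ι ≫ f).base ⊆ Set.range V0.ι.base := by
      rw [V0.range_ι]; rintro _ ⟨p, rfl⟩; exact p.2.2
    have hVW : Set.range (V0.ι ≫ σ).base ⊆ Set.range W.ι.base := by
      rw [W.range_ι]
      rintro _ ⟨p, rfl⟩
      exact ⟨p.2, show σ.base (f.base (σ.base p.1)) ∈ Wa by rw [hfσ]; exact p.2⟩
    let a := IsOpenImmersion.lift V0.ι (W.ι ≫ f) hWV
    let b := IsOpenImmersion.lift W.ι (V0.ι ≫ σ) hVW
    have hab : a ≫ b = 𝟙 _ := by
      rw [← cancel_mono W.ι, Category.assoc, IsOpenImmersion.lift_fac, IsOpenImmersion.lift_fac_assoc,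
        Category.id_comp, ← e]
    have hba : b ≫ a = 𝟙 _ := by
      rw [← cancel_mono V0.ι, Category.assoc, IsOpenImmersion.lift_fac, IsOpenImmersion.lift_fac_assoc,
        Category.assoc, hσ, Category.comp_id, Category.id_comp]
    have : IsIso a := ⟨b, hab, hba⟩
    rw [← IsOpenImmersion.lift_fac V0.ι (W.ι ≫ f) hWV]
    infer_instance

end Groth.Agent.S17727
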