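import Groth.Statements.S17728
import Mathlib.RingTheory.Flat.FaithfullyFlat.Algebra
import Groth.Agent.SchClosure.Basic

set_option autoImplicit false
universe u
open Neron

namespace Groth.Agent.S17728

open TensorProduct in
/-- a faithfully flat algebra which has trivial diagonal away from a dense open is trivial -/
lemma bijective_of_dense {A B : Type u} [CommRing A] [CommRing B] [Algebra A B]
    [Module.FaithfullyFlat A B] {ι : Type*} [Fintype ι] (g : ι → A)
    (hB : ∀ (n : ℕ) (b : B), (∀ i, algebraMap A B (g i) ^ n * b = 0) → b = 0)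
    (hz : ∀ (c : B) (i : ι), ∃ n : ℕ, g i ^ n • (c ⊗ₜ[A] (1 : B) - (1 : B) ⊗ₜ[A] c) = 0) :
    Function.Bijective (algebraMap A B) := by
  classical
  refine ⟨FaithfulSMul.algebraMap_injective A B, fun c => ?_⟩
  choose n hn using hz c
  let N := Finset.univ.sup n
  set z := c ⊗ₜ[A] (1 : B) - (1 : B) ⊗ₜ[A] c with hzdef
  have hN : ∀ i, g i ^ N • z = 0 := fun i => by
    obtain ⟨k, hk⟩ := Nat.exists_eq_add_of_le (Finset.le_sup (Finset.mem_univ i) : n i ≤ N)
    rw [show N = n i + k from hk, add_comm, pow_add, mul_smul, hn, smul_zero]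
  let φ : B →ₗ[A] (ι → B) := LinearMap.pi fun i => LinearMap.lsmul A B (g i ^ N)
  have hφ : Function.Injective φ := by
    rw [injective_iff_map_eq_zero]
    intro b hb
    refine hB N b fun i => ?_
    have := congrFun hb i
    simpa [φ, Algebra.smul_def] using this
  have hT := Module.Flat.lTensor_preserves_injective_linearMap (M := B) φ hφ
  have hz0 : z = 0 := by
    apply hT
    rw [map_zero]
    apply (TensorProduct.piRight A A B (fun _ : ι => B)).injective
    rw [map_zero]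
    funext i
    have key : ∀ w : B ⊗[A] B,
        TensorProduct.piRight A A B (fun _ : ι => B) (φ.lTensor B w) i = g i ^ N • w := by
      intro w
      induction w using TensorProduct.induction_on with
      | zero => simp
      | tmul a b => simp [φ, TensorProduct.tmul_smul]
      | add a b ha hb => simp only [map_add, Pi.add_apply, ha, hb, smul_add]
    rw [key, hN]
    rfl
  let M := LinearMap.range (Algebra.linearMap A B)
  have h1 : (M.mkQ.lTensor B) z = 0 := by rw [hz0, map_zero]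
  have h0 : (Submodule.Quotient.mk (1 : B) : B ⧸ M) = 0 :=
    (Submodule.Quotient.mk_eq_zero _).2 ⟨1, by simp⟩
  rw [hzdef, map_sub, LinearMap.lTensor_tmul, LinearMap.lTensor_tmul, Submodule.mkQ_apply,
    Submodule.mkQ_apply, h0, tmul_zero, zero_sub, neg_eq_zero] at h1
  have h2 : (Submodule.Quotient.mk c : B ⧸ M) = 0 :=
    Module.FaithfullyFlat.tensorProduct_mk_injective (A := A) (B := B) (B ⧸ M) (by simpa using h1)
  exact (Submodule.Quotient.mk_eq_zero _).1 h2

open CategoryTheory AlgebraicGeometry in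
lemma preimage_basicOpen_fromSpecStalk {S : Scheme.{u}} {V : S.Opens} (g : Γ(S, V)) {y : S} (hy : y ∈ V) :
    S.fromSpecStalk y ⁻¹ᵁ S.basicOpen g = PrimeSpectrum.basicOpen (S.presheaf.germ V y hy g) := by
  rw [Scheme.preimage_basicOpen, Scheme.fromSpecStalk_app hy]
  simp only [CommRingCat.comp_apply]
  rw [Scheme.basicOpen_res, basicOpen_eq_of_affine']
  have hle : (PrimeSpectrum.basicOpen (S.presheaf.germ V y hy g) :
      (Spec (S.presheaf.stalk y)).Opens) ≤ S.fromSpecStalk y ⁻¹ᵁ V := by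
    intro p _
    have : S.fromSpecStalk y p ∈ Set.range (S.fromSpecStalk y) := ⟨p, rfl⟩
    rw [Scheme.range_fromSpecStalk] at this
    exact this.mem_open V.2 hy
  rw [← CommRingCat.comp_apply (Scheme.ΓSpecIso _).inv, Iso.inv_hom_id, CommRingCat.id_apply]
  exact inf_eq_right.mpr hle

open CategoryTheory AlgebraicGeometry TensorProduct in
lemma bijective_stalkMap {X S : Scheme.{u}} [IsNoetherian S] (f : X ⟶ S)
    (U : S.Opens) (hiso : IsIso (f ∣_ U)) (hdense : CInt.IsSchematicallyDense (f ⁻¹ᵁ U))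
    (x : X) (hfl : (f.stalkMap x).hom.Flat) : Function.Bijective (f.stalkMap x).hom := by
  haveI := hiso
  let A := S.presheaf.stalk (f x)
  let B := X.presheaf.stalk x
  algebraize [(f.stalkMap x).hom]
  haveI : IsLocalHom (algebraMap A B) := inferInstanceAs (IsLocalHom (f.stalkMap x).hom)
  haveI : Module.FaithfullyFlat A B := Module.FaithfullyFlat.of_flat_of_isLocalHom
  obtain ⟨V, hV, hyV, -⟩ := exists_isAffineOpen_mem_and_subset (x := f x) (U := (⊤ : S.Opens)) trivial
  let ι := {g : Γ(S, V) // S.basicOpen g ≤ U}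
  have hcov : ((U ⊓ V : S.Opens) : Set S) ⊆ ⋃ g : ι, (S.basicOpen g.1 : Set S) := fun z hz => by
    obtain ⟨g, hg, hzg⟩ := hV.exists_basicOpen_le (V := U) ⟨z, hz.1⟩ hz.2
    exact Set.mem_iUnion.2 ⟨⟨g, hg⟩, hzg⟩
  obtain ⟨t, ht⟩ := (TopologicalSpace.NoetherianSpace.isCompact _).elim_finite_subcover _
    (fun g : ι => (S.basicOpen g.1).2) hcov
  refine bijective_of_dense (fun i : t => S.presheaf.germ V (f x) hyV i.1.1) ?_ ?_
  · intro n b hb
    obtain ⟨W₀, hxW₀, s₀, rfl⟩ := TopCat.Presheaf.exists_germ_eq X.presheaf b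
    have key : ∀ i : t, ∃ W : X.Opens, x ∈ W ∧ ∃ (h₀ : W ≤ W₀) (hf : W ≤ f ⁻¹ᵁ V),
        f.appLE V W hf i.1.1 ^ n * X.presheaf.map (homOfLE h₀).op s₀ = 0 := by
      intro i
      have hxI : x ∈ W₀ ⊓ f ⁻¹ᵁ V := ⟨hxW₀, hyV⟩
      have hz : X.presheaf.germ (W₀ ⊓ f ⁻¹ᵁ V) x hxI
          (f.appLE V (W₀ ⊓ f ⁻¹ᵁ V) inf_le_right i.1.1 ^ n *
            X.presheaf.map (homOfLE inf_le_left).op s₀) =
          X.presheaf.germ (W₀ ⊓ f ⁻¹ᵁ V) x hxI 0 := by
        rw [map_mul, map_pow, TopCat.Presheaf.germ_res_apply, map_zero]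
        refine Eq.trans ?_ (hb i)
        congr 2
        rw [Scheme.Hom.appLE, CommRingCat.comp_apply]
        erw [TopCat.Presheaf.germ_res_apply]
        exact (Scheme.Hom.germ_stalkMap_apply f V x hyV i.1.1).symm
      obtain ⟨W, hxW, i₁, i₂, e⟩ := TopCat.Presheaf.germ_eq X.presheaf x _ _ _ _ hz
      refine ⟨W, hxW, i₁.le.trans inf_le_left, i₁.le.trans inf_le_right, ?_⟩
      rw [map_mul, map_pow, map_zero, Scheme.Hom.appLE, CommRingCat.comp_apply] at e
      simp only [← CommRingCat.comp_apply, Category.assoc, ← Functor.map_comp] at e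
      rw [Scheme.Hom.appLE]
      exact e
    choose W hxW h₀ hf hW using key
    obtain ⟨T, hxT, hT₀, hTf, hT⟩ : ∃ T : X.Opens, x ∈ T ∧ T ≤ W₀ ∧ T ≤ f ⁻¹ᵁ V ∧ ∀ i, T ≤ W i := by
      refine ⟨(W₀ ⊓ f ⁻¹ᵁ V) ⊓ Finset.univ.inf W, ⟨⟨hxW₀, hyV⟩, ?_⟩, inf_le_left.trans inf_le_left,
        inf_le_left.trans inf_le_right, fun i => inf_le_right.trans (Finset.inf_le (Finset.mem_univ i))⟩
      rw [TopologicalSpace.Opens.coe_finset_inf, Finset.inf_set_eq_iInter]
      exact Set.mem_iInter₂.2 fun i _ => hxW i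
    rw [← X.presheaf.germ_res_apply (homOfLE hT₀) x hxT s₀]
    suffices hs : X.presheaf.map (homOfLE hT₀).op s₀ = 0 by rw [hs, map_zero]
    refine hdense T ?_
    rw [map_zero]
    refine X.sheaf.eq_of_locally_eq' (fun i : t => T ⊓ f ⁻¹ᵁ S.basicOpen i.1.1) (T ⊓ f ⁻¹ᵁ U)
      (fun i => homOfLE (le_inf inf_le_left (inf_le_right.trans (f.preimage_mono i.1.2)))) ?_ _ _ ?_
    · intro z hz
      obtain ⟨i, hi, hzi⟩ := Set.mem_iUnion₂.1 (ht ⟨hz.2, hTf hz.1⟩)
      exact TopologicalSpace.Opens.mem_iSup.2 ⟨⟨i, hi⟩, hz.1, hzi⟩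
    · intro i
      change X.presheaf.map _ (X.presheaf.map _ (X.presheaf.map _ s₀)) = X.presheaf.map _ 0
      rw [map_zero]
      simp only [← CommRingCat.comp_apply, ← Functor.map_comp]
      let Ti : X.Opens := T ⊓ f ⁻¹ᵁ S.basicOpen i.1.1
      have e := congrArg (X.presheaf.map (homOfLE (inf_le_left.trans (hT i) : Ti ≤ W i)).op) (hW i)
      rw [map_mul, map_pow, map_zero, ← CommRingCat.comp_apply (f.appLE V (W i) (hf i)),
        Scheme.Hom.appLE_map] at e
      have hu : IsUnit (f.appLE V Ti ((inf_le_left.trans hTf)) i.1.1) := by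
        rw [← f.map_appLE (inf_le_right : Ti ≤ f ⁻¹ᵁ S.basicOpen i.1.1) (homOfLE (S.basicOpen_le i.1.1)).op,
          CommRingCat.comp_apply]
        exact (S.toRingedSpace.isUnit_res_basicOpen i.1.1).map _
      rw [← CommRingCat.comp_apply, ← Functor.map_comp] at e
      exact ((hu.pow n).mul_right_eq_zero).1 e
  · intro c i
    let a := S.presheaf.germ V (f x) hyV i.1.1
    let L := Localization.Away (algebraMap A (B ⊗[A] B) a)
    let pl : B →+* L := (algebraMap (B ⊗[A] B) L).comp Algebra.TensorProduct.includeLeftRingHom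
    let pr : B →+* L := (algebraMap (B ⊗[A] B) L).comp
      (Algebra.TensorProduct.includeRight : B →ₐ[A] B ⊗[A] B).toRingHom
    have hplr : pl.comp (algebraMap A B) = pr.comp (algebraMap A B) := by
      ext r
      simp only [pl, pr, RingHom.comp_apply]
      congr 1
      exact ((Algebra.TensorProduct.includeLeft : B →ₐ[A] B ⊗[A] B).commutes r).trans
        ((Algebra.TensorProduct.includeRight : B →ₐ[A] B ⊗[A] B).commutes r).symm
    have hunit : IsUnit (pl (algebraMap A B a)) := by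
      have := IsLocalization.Away.algebraMap_isUnit (S := L) (algebraMap A (B ⊗[A] B) a)
      exact this
    let ql : Spec (CommRingCat.of L) ⟶ X := Spec.map (CommRingCat.ofHom pl) ≫ X.fromSpecStalk x
    let qr : Spec (CommRingCat.of L) ⟶ X := Spec.map (CommRingCat.ofHom pr) ≫ X.fromSpecStalk x
    have hq : ql ≫ f = qr ≫ f := by
      simp only [ql, qr, Category.assoc, ← Scheme.SpecMap_stalkMap_fromSpecStalk]
      rw [← Category.assoc, ← Category.assoc, ← Spec.map_comp, ← Spec.map_comp]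
      congr 2
      exact CommRingCat.hom_ext hplr
    have hrl : Set.range ql ⊆ Set.range (f ⁻¹ᵁ U).ι := by
      rintro _ ⟨P, rfl⟩
      rw [Scheme.Opens.range_ι]
      refine i.1.2 ?_
      have h0 : Spec.map (CommRingCat.ofHom pl ) P ∈ X.fromSpecStalk x ⁻¹ᵁ (f ⁻¹ᵁ S.basicOpen i.1.1) := by
        rw [← Scheme.Hom.comp_preimage, ← Scheme.SpecMap_stalkMap_fromSpecStalk,
          Scheme.Hom.comp_preimage, preimage_basicOpen_fromSpecStalk i.1.1 hyV]
        intro h
        exact P.isPrime.ne_top (Ideal.eq_top_of_isUnit_mem _ h hunit)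
      exact h0
    have hrr : Set.range qr ⊆ Set.range (f ⁻¹ᵁ U).ι := by
      rintro _ ⟨P, rfl⟩
      rw [Scheme.Opens.range_ι]
      show f (qr P) ∈ U
      rw [← Scheme.Hom.comp_apply, ← hq]
      have := hrl ⟨P, rfl⟩
      rw [Scheme.Opens.range_ι] at this
      exact this
    have hlr : ql = qr := by
      rw [← IsOpenImmersion.lift_fac (f ⁻¹ᵁ U).ι ql hrl, ← IsOpenImmersion.lift_fac (f ⁻¹ᵁ U).ι qr hrr]
      congr 1
      rw [← cancel_mono (f ∣_ U), ← cancel_mono U.ι]
      simp only [Category.assoc, morphismRestrict_ι, IsOpenImmersion.lift_fac_assoc, hq]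
    have hpc : pl c = pr c := by
      have := Spec.map_injective ((cancel_mono (X.fromSpecStalk x)).1 hlr)
      exact RingHom.congr_fun (congrArg CommRingCat.Hom.hom this) c
    obtain ⟨⟨_, n, rfl⟩, hn⟩ := (IsLocalization.eq_iff_exists (Submonoid.powers (algebraMap A (B ⊗[A] B) a)) L).1 hpc
    refine ⟨n, ?_⟩
    rw [Algebra.smul_def, map_pow, mul_sub, sub_eq_zero]
    exact hn

open CategoryTheory AlgebraicGeometry in
lemma etale_of_section {X S : Scheme.{u}} (f : X ⟶ S) (U : S.Opens) (hiso : IsIso (f ∣_ U))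
    (hdense : CInt.IsSchematicallyDense (f ⁻¹ᵁ U)) (x : X)
    (V : S.Opens) (hV : f x ∈ V) (σ : V.toScheme ⟶ X) (hσ : σ ≫ f = V.ι) (hσx : σ ⟨f x, hV⟩ = x) :
    ∃ W : X.Opens, x ∈ W ∧ Etale (W.ι ≫ f) := by
  haveI := hiso
  obtain ⟨W, hW, hxW, -⟩ := exists_isAffineOpen_mem_and_subset (x := x) (U := (⊤ : X.Opens)) trivial
  let V' : S.Opens := V.ι ''ᵁ (σ ⁻¹ᵁ W)
  have hxV' : f x ∈ V' := ⟨⟨f x, hV⟩, by show σ ⟨f x, hV⟩ ∈ W; rw [hσx]; exact hxW, rfl⟩
  let W' : X.Opens := W ⊓ f ⁻¹ᵁ V'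
  refine ⟨W', ⟨hxW, hxV'⟩, ?_⟩
  have hV'V : V' ≤ V := by rintro _ ⟨v, -, rfl⟩; exact v.2
  let g : W'.toScheme ⟶ V'.toScheme := f.resLE V' W' inf_le_right
  have hg : g ≫ V'.ι = W'.ι ≫ f := Scheme.Hom.resLE_comp_ι _ _
  have hr : Set.range (S.homOfLE hV'V ≫ σ) ⊆ Set.range W'.ι := by
    rintro _ ⟨v, rfl⟩
    rw [Scheme.Opens.range_ι]
    obtain ⟨v', hv', he⟩ := v.2
    have hv : S.homOfLE hV'V v = v' := by
      apply V.ι.isOpenEmbedding.injective
      rw [← Scheme.Hom.comp_apply, Scheme.homOfLE_ι]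
      exact he.symm
    refine ⟨?_, ?_⟩
    · rw [Scheme.Hom.comp_apply, hv]; exact hv'
    · show f ((S.homOfLE hV'V ≫ σ) v) ∈ V'
      rw [← Scheme.Hom.comp_apply, Category.assoc, hσ, Scheme.homOfLE_ι]
      exact v.2
  let s : V'.toScheme ⟶ W'.toScheme := IsOpenImmersion.lift W'.ι (S.homOfLE hV'V ≫ σ) hr
  have hs : s ≫ W'.ι = S.homOfLE hV'V ≫ σ := IsOpenImmersion.lift_fac _ _ _
  have hsg : s ≫ g = 𝟙 _ := by
    rw [← cancel_mono V'.ι, Category.assoc, hg, reassoc_of% hs, hσ, Scheme.homOfLE_ι, Category.id_comp]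
  haveI : IsSeparated g := by
    haveI : IsAffine W.toScheme := hW
    haveI : IsSeparated (W'.ι ≫ f) := by
      rw [← X.homOfLE_ι (inf_le_left : W' ≤ W), Category.assoc]
      infer_instance
    rw [← hg] at *
    exact IsSeparated.of_comp g V'.ι
  haveI : IsClosedImmersion s := by
    haveI : IsClosedImmersion (s ≫ g) := by rw [hsg]; infer_instance
    exact IsClosedImmersion.of_comp s g
  haveI : IsSchemeTheoreticallyDominant s := by
    refine ⟨Scheme.IdealSheafData.ext (funext fun T => ?_)⟩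
    rw [Scheme.IdealSheafData.ideal_bot, Pi.bot_apply, eq_bot_iff]
    intro a ha
    rw [Ideal.mem_bot]
    -- sections are determined on the dense open
    let jO : W'.toScheme.Opens := W'.ι ⁻¹ᵁ (f ⁻¹ᵁ U)
    have hfac : (jO.ι ≫ g) ≫ s = jO.ι := by
      rw [← cancel_mono W'.ι, Category.assoc, hs]
      have h1 : Set.range (((jO.ι ≫ g) ≫ S.homOfLE hV'V ≫ σ)) ⊆ Set.range (f ⁻¹ᵁ U).ι := by
        rintro _ ⟨z, rfl⟩
        rw [Scheme.Opens.range_ι]
        show f (((jO.ι ≫ g) ≫ S.homOfLE hV'V ≫ σ) z) ∈ U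
        rw [← Scheme.Hom.comp_apply]
        simp only [Category.assoc, hσ, Scheme.homOfLE_ι, hg, Scheme.Hom.comp_apply]
        exact z.2
      have h2 : Set.range (jO.ι ≫ W'.ι) ⊆ Set.range (f ⁻¹ᵁ U).ι := by
        rintro _ ⟨z, rfl⟩
        rw [Scheme.Opens.range_ι]
        exact z.2
      rw [← IsOpenImmersion.lift_fac (f ⁻¹ᵁ U).ι _ h1, ← IsOpenImmersion.lift_fac (f ⁻¹ᵁ U).ι _ h2]
      congr 1
      rw [← cancel_mono (f ∣_ U), ← cancel_mono U.ι]
      simp only [Category.assoc, morphismRestrict_ι, IsOpenImmersion.lift_fac_assoc, hσ,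
        Scheme.homOfLE_ι, hg]
    have ha2 : jO.ι.app T.1 a = 0 := by
      have hle : s.ker ≤ jO.ι.ker := by
        rw [← hfac]
        exact Scheme.Hom.le_ker_comp _ _
      exact RingHom.mem_ker.1 (jO.ι.ideal_ker_le T (hle T ha))
    refine (injective_iff_map_eq_zero _).1 (hdense (W'.ι ''ᵁ T.1)) a ?_
    erw [Scheme.Opens.ι_app] at ha2
    have hle : W'.ι ''ᵁ T.1 ⊓ f ⁻¹ᵁ U ≤ W'.ι ''ᵁ (jO.ι ''ᵁ (jO.ι ⁻¹ᵁ T.1)) := by
      rintro _ ⟨⟨t, ht, rfl⟩, htU⟩
      exact ⟨t, ⟨⟨t, htU⟩, ht, rfl⟩, rfl⟩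
    have := (congrArg (X.presheaf.map (homOfLE hle).op) ha2).trans (map_zero (X.presheaf.map (homOfLE hle).op).hom)
    refine Eq.trans ?_ this
    erw [← CommRingCat.comp_apply]
    refine congrArg
      (fun (m : X.presheaf.obj (Opposite.op (W'.ι ''ᵁ T.1)) ⟶ Γ(X, W'.ι ''ᵁ T.1 ⊓ f ⁻¹ᵁ U)) =>
        CategoryTheory.ConcreteCategory.hom m a) ?_
    erw [← X.presheaf.map_comp]
    rfl
  have : IsIso s := by
    have : IsIso s.imageι := (Scheme.isIso_subschemeι_iff_eq_bot _).2 s.ker_eq_bot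
    rw [← s.toImage_imageι]
    infer_instance
  haveI : IsIso g := by
    rw [show g = inv s from IsIso.eq_inv_of_hom_inv_id hsg]
    infer_instance
  rw [← hg]
  infer_instance


open CategoryTheory AlgebraicGeometry in
/-- Let S be a Noetherian scheme, U ⊆ S a dense open subscheme and f : X → S a morphism locally of
finite type which restricts to an isomorphism over U and for which the preimage of U is
schematically dense in X. For a point x of X the following are equivalent: f is étale on some open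
neighbourhood of x; f is flat at x, that is, the local ring of X at x is flat over the local ring of
S at f(x); some open neighbourhood V of f(x) carries a section σ of f over V passing through x. -/
theorem result
    {X S : Scheme.{u}} [IsNoetherian S] (f : X ⟶ S) [LocallyOfFiniteType f]
    (U : S.Opens) (hU : Dense (U : Set S))
    (hiso : IsIso (morphismRestrict f U)) (hdense : CInt.IsSchematicallyDense (f ⁻¹ᵁ U))
    (x : X) :
    List.TFAE [
      ∃ W : X.Opens, x ∈ W ∧ Etale (W.ι ≫ f),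
      (f.stalkMap x).hom.Flat,
      ∃ (V : S.Opens) (hV : f.base x ∈ V) (σ : (V : Scheme.{u}) ⟶ X),
        σ ≫ f = V.ι ∧ σ.base ⟨f.base x, hV⟩ = x] := by
  tfae_have 1 → 2 := by
    rintro ⟨W, hxW, hW⟩
    haveI := hW
    let w : W.toScheme := ⟨x, hxW⟩
    have h := Flat.stalkMap (W.ι ≫ f) w
    replace h : ((f.stalkMap (W.ι w) ≫ W.ι.stalkMap w).hom).Flat :=
      (Scheme.Hom.stalkMap_comp W.ι f w).symm ▸ h
    rw [CommRingCat.hom_comp] at h
    let e := (asIso (W.ι.stalkMap w)).commRingCatIsoToRingEquiv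
    have h' := RingHom.Flat.comp h (RingHom.Flat.of_bijective (f := e.symm.toRingHom) e.symm.bijective)
    have he : e.symm.toRingHom.comp ((W.ι.stalkMap w).hom.comp (f.stalkMap (W.ι w)).hom) =
        (f.stalkMap (W.ι w)).hom := RingHom.ext fun a => e.symm_apply_apply _
    rwa [he] at h'
  tfae_have 2 → 3 := by
    intro hfl
    have hbij := bijective_stalkMap f U hiso hdense x hfl
    haveI : IsIso (f.stalkMap x) := (ConcreteCategory.isIso_iff_bijective _).2 hbij
    obtain ⟨V, hyV, σ, hσ, hσf⟩ := spread_out_of_isGermInjective' (X := S) (x := f x) (𝟙 S) f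
      (Spec.map (inv (f.stalkMap x)) ≫ X.fromSpecStalk x) (by
        rw [Category.assoc, ← Scheme.SpecMap_stalkMap_fromSpecStalk, Category.comp_id, ← Category.assoc,
          ← Spec.map_comp, IsIso.hom_inv_id, Spec.map_id, Category.id_comp])
    rw [Category.comp_id] at hσf
    refine ⟨V, hyV, σ, hσf, ?_⟩
    let c₀ : Spec (S.presheaf.stalk (f x)) := IsLocalRing.closedPoint (S.presheaf.stalk (f x))
    have h := congrArg (fun m => m c₀) hσ
    simp only [Scheme.Hom.comp_apply] at h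
    have h1 : V.fromSpecStalkOfMem (f x) hyV c₀ = ⟨f x, hyV⟩ := by
      apply V.ι.isOpenEmbedding.injective
      rw [← Scheme.Hom.comp_apply, Scheme.Opens.fromSpecStalkOfMem_ι]
      exact Scheme.fromSpecStalk_closedPoint
    rw [h1] at h
    have h2 : Spec.map (inv (f.stalkMap x)) c₀ =
        IsLocalRing.closedPoint (X.presheaf.stalk x) := IsLocalRing.comap_closedPoint (inv (f.stalkMap x)).hom
    rw [h2, Scheme.fromSpecStalk_closedPoint] at h
    exact h.symm
  tfae_have 3 → 1 := by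
    rintro ⟨V, hV, σ, hσ, hσx⟩
    exact etale_of_section f U hiso hdense x V hV σ hσ hσx
  tfae_finish

end Groth.Agent.S17728
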