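import Groth.Statements.S17729
import Groth.Agent.NodeNZD6.Algebra
import Groth.Agent.S3834

set_option autoImplicit false
set_option backward.isDefEq.respectTransparency false
set_option backward.isDefEq.respectTransparency.types false
universe u
open DualGr

namespace Groth.Agent.S17729

open CategoryTheory AlgebraicGeometry IsLocalRing in
/-- Let R be a complete Noetherian local ring and C → Spec R a morphism locally of finite type, smooth
over a schematically dense open subscheme U of Spec R. Let c be a point of C over the closed point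
whose local ring is formally a node of thickness (a) over R for an element a of R: the completion of
the local ring at c is isomorphic, compatibly with R, to R̂[[x,y]]/(xy − a). Then a is a
non-zero-divisor in R. (The published statement is for a semistable curve over a locally Noetherian
base and a non-smooth point over a separably closed field, with the node presentation supplied by
the local structure of such curves; it is stated here over the spectrum of a complete Noetherian
local ring with the node presentation as a hypothesis, the case to which the argument reduces, and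
semistability plays no further role.) -/
theorem result
    (R : Type u) [CommRing R] [IsNoetherianRing R] [IsLocalRing R]
    [IsAdicComplete (maximalIdeal R) R]
    {C : Scheme.{u}} (f : C ⟶ Spec (CommRingCat.of R)) [LocallyOfFiniteType f]
    (U : (Spec (CommRingCat.of R)).Opens) (hU : CInt.IsSchematicallyDense U)
    (hsm : Smooth (morphismRestrict f U))
    (c : C) (hc : f.base c = closedPoint R) (a : R)
    (hnode : DualGr.IsThickNode (DualGr.stalkHom f c) a) :
    a ∈ nonZeroDivisors R := by
    classical
    haveI : IsNoetherian (Spec (CommRingCat.of R)) := inferInstance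
    obtain ⟨t, ht, htU⟩ := (Groth.Agent.S3834.result (Spec (CommRingCat.of R)) (.inl inferInstance) U).1 hU
    let iso := Scheme.ΓSpecIso (CommRingCat.of R)
    let t₀ : R := iso.hom t
    have htb : (Spec (CommRingCat.of R)).basicOpen t = PrimeSpectrum.basicOpen t₀ :=
      basicOpen_eq_of_affine' t
    have ht₀ : t₀ ∈ nonZeroDivisors R := by
      rw [mem_nonZeroDivisors_iff_right] at ht ⊢
      intro x hx
      have h1 := ht (iso.inv x) (by
        apply (ConcreteCategory.bijective_of_isIso iso.hom).1
        simpa [t₀] using hx)
      have h2 := congrArg iso.hom h1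
      simpa using h2
    by_contra ha
    -- an associated prime containing `a`
    obtain ⟨p, hp, hap⟩ : ∃ p ∈ associatedPrimes R R, a ∈ p := by
      have h : a ∈ {r : R | ∃ x : R, x ≠ 0 ∧ r • x = 0} := by
        rw [mem_nonZeroDivisors_iff_right] at ha
        push Not at ha
        obtain ⟨x, hx, hx0⟩ := ha
        exact ⟨x, hx0, by rw [smul_eq_mul, mul_comm, hx]⟩
      rw [← biUnion_associatedPrimes_eq_zero_divisors R R] at h
      simpa using h
    haveI : p.IsPrime := hp.1
    have ht₀p : t₀ ∉ p := fun h => by
      have h' : t₀ ∈ ⋃ p ∈ associatedPrimes R R, (p : Set R) := Set.mem_biUnion hp h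
      rw [biUnion_associatedPrimes_eq_zero_divisors R R] at h'
      obtain ⟨x, hx0, hx⟩ := h'
      exact hx0 (mem_nonZeroDivisors_iff_right.1 ht₀ x (by rw [mul_comm, ← smul_eq_mul]; exact hx))
    have hpU : (⟨p, inferInstance⟩ : PrimeSpectrum R) ∈ U := by
      refine htU ?_
      rw [htb]
      exact ht₀p
    -- an affine chart at `c`
    obtain ⟨_, ⟨W, hW, rfl⟩, hcW, -⟩ :=
      C.isBasis_affineOpens.exists_subset_of_mem_open (Set.mem_univ c) isOpen_univ
    let φ : R →+* Γ(C, W) := (f.appLE ⊤ W le_top).hom.comp iso.inv.hom
    letI : Algebra R Γ(C, W) := φ.toAlgebra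
    haveI : Algebra.FiniteType R Γ(C, W) :=
      (LocallyOfFiniteType.finiteType_appLE f (isAffineOpen_top _) hW le_top).comp
        (RingHom.FiniteType.of_surjective _ (ConcreteCategory.bijective_of_isIso iso.inv).2)
    have hcomp : hW.fromSpec ≫ f = Spec.map (CommRingCat.ofHom φ) := by
      rw [← IsAffineOpen.SpecMap_appLE_fromSpec f (isAffineOpen_top _) hW le_top, IsAffineOpen.fromSpec_top,
        Scheme.isoSpec_Spec_inv, ← Spec.map_comp]
      rfl
    letI : Algebra Γ(C, W) (C.presheaf.stalk c) := (C.presheaf.germ W c hcW).hom.toAlgebra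
    haveI := hW.isLocalization_stalk ⟨c, hcW⟩
    letI : Algebra R (C.presheaf.stalk c) := (DualGr.stalkHom f c).toAlgebra
    haveI : IsScalarTower R Γ(C, W) (C.presheaf.stalk c) := IsScalarTower.of_algebraMap_eq fun r => by
      show (C.presheaf.germ ⊤ c trivial).hom (f.appTop.hom (iso.inv.hom r)) =
        (C.presheaf.germ W c hcW).hom ((f.appLE ⊤ W le_top).hom (iso.inv.hom r))
      rw [Scheme.Hom.appLE, CommRingCat.comp_apply]
      exact (C.presheaf.germ_res_apply (homOfLE le_top) c hcW _).symm
    refine Groth.Agent.NodeNZD6.notMem_of_node (hW.primeIdealOf ⟨c, hcW⟩).asIdeal a hnode p (fun P hP hPp => ?_) hap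
    let P' : PrimeSpectrum Γ(C, W) := ⟨P, hP⟩
    have hz : f.base (hW.fromSpec P') = (⟨p, inferInstance⟩ : PrimeSpectrum R) := by
      rw [← Scheme.Hom.comp_apply, hcomp]
      exact PrimeSpectrum.ext hPp
    have hzW : hW.fromSpec P' ∈ W := by
      rw [← SetLike.mem_coe, ← hW.range_fromSpec]
      exact ⟨P', rfl⟩
    obtain ⟨g, hgle, hgz⟩ := hW.exists_basicOpen_le (V := f ⁻¹ᵁ U) ⟨hW.fromSpec P', show f.base (hW.fromSpec P') ∈ U by rw [hz]; exact hpU⟩ hzW
    refine ⟨g, ?_, Γ(C, C.basicOpen g), inferInstance, inferInstance, ((algebraMap Γ(C, W) Γ(C, C.basicOpen g)).comp φ).toAlgebra,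
      hW.isLocalization_basicOpen g, ?_, ?_⟩
    · have h : P' ∈ hW.fromSpec ⁻¹ᵁ C.basicOpen g := hgz
      rw [hW.fromSpec_preimage_basicOpen g] at h
      exact h
    · letI : Algebra R Γ(C, C.basicOpen g) := ((algebraMap Γ(C, W) Γ(C, C.basicOpen g)).comp φ).toAlgebra
      exact IsScalarTower.of_algebraMap_eq fun _ => rfl
    · have hsm' : Smooth ((C.basicOpen g).ι ≫ f) := by
        haveI := hsm
        rw [← C.homOfLE_ι (hgle : C.basicOpen g ≤ f ⁻¹ᵁ U), Category.assoc, ← morphismRestrict_ι]
        infer_instance
      haveI : IsAffine (C.basicOpen g).toScheme := hW.basicOpen g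
      haveI := hsm'
      have h1 := HasRingHomProperty.appTop @Smooth ((C.basicOpen g).ι ≫ f) hsm'
      have h2 : ((algebraMap Γ(C, W) Γ(C, C.basicOpen g)).comp φ).Smooth := by
        have h3 : (f.appLE ⊤ (C.basicOpen g) le_top).hom.Smooth := by
          have h4 : ((C.basicOpen g).ι ≫ f).appTop =
              f.appLE ⊤ (C.basicOpen g) le_top ≫ (C.basicOpen g).topIso.inv := by
            rw [Scheme.Hom.comp_appTop, Scheme.Opens.topIso_inv, Scheme.Hom.appLE, Category.assoc]
            simp [Scheme.Opens.ι_appTop]
            rw [← Functor.map_comp]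
            rfl
          rw [h4] at h1
          exact (RingHom.Smooth.respectsIso.cancel_right_isIso (f.appLE ⊤ (C.basicOpen g) le_top)
            (C.basicOpen g).topIso.inv).1 h1
        have h5 : (algebraMap Γ(C, W) Γ(C, C.basicOpen g)).comp φ =
            (f.appLE ⊤ (C.basicOpen g) le_top).hom.comp iso.inv.hom := by
          rw [← f.appLE_map (U := ⊤) (V := W) (V' := C.basicOpen g) le_top (homOfLE (C.basicOpen_le g)).op]
          rfl
        rw [h5]
        exact (RingHom.Smooth.respectsIso.cancel_left_isIso iso.inv (f.appLE ⊤ (C.basicOpen g) le_top)).2 h3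
      exact h2

end Groth.Agent.S17729
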