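import Groth.Statements.S17732
import Groth.Agent.CDivEq.Basic

set_option autoImplicit false
universe u
open CDiv

namespace Groth.Agent.S17732

open AlgebraicGeometry in
/-- Let X be a Noetherian scheme and D, E effective Cartier divisors on X, encoded by their ideal
sheaves, each locally generated on an affine open by a single non-zero-divisor. Assume that the
union of the supports of D and E is connected (or empty) and that every point of X has an affine
open neighbourhood on which the m-th power of the ideal of D equals the n-th power of the ideal of E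
for some (m, n) ≠ (0, 0). Then there is a pair (m, n) ≠ (0, 0) for which this equality holds on
every affine open of X, that is, m D = n E globally. -/
theorem result
    (X : Scheme.{u}) [IsNoetherian X] (D E : X.IdealSheafData)
    (hD : (∀ x : X, ∃ U : X.affineOpens, x ∈ (U : X.Opens) ∧ ∃ g : Γ(X, U), g ∈ nonZeroDivisors Γ(X, U) ∧ D.ideal U = Ideal.span {g}))
    (hE : (∀ x : X, ∃ U : X.affineOpens, x ∈ (U : X.Opens) ∧ ∃ g : Γ(X, U), g ∈ nonZeroDivisors Γ(X, U) ∧ E.ideal U = Ideal.span {g}))
    (hconn : IsPreconnected ((D.support : Set X) ∪ (E.support : Set X)))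
    (hloc : ∀ x : X, ∃ U : X.affineOpens, x ∈ (U : X.Opens) ∧
      ∃ m n : ℕ, (m, n) ≠ (0, 0) ∧ D.ideal U ^ m = E.ideal U ^ n) :
    ∃ m n : ℕ, (m, n) ≠ (0, 0) ∧ ∀ U : X.affineOpens, D.ideal U ^ m = E.ideal U ^ n := by
    exact Groth.Agent.CDivEq.exists_pow_eq_pow D E hD hE hconn hloc

end Groth.Agent.S17732
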