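import Groth.Statements.S17734
import Groth.Agent.LimPic.Basic
import Groth.Agent.Pi1Ext.SpreadLim
import Groth.Agent.MorLib.BaseChangeLim
import Groth.Agent.PicClLib.Basic
set_option backward.isDefEq.respectTransparency false
set_option backward.isDefEq.respectTransparency.types false
set_option maxHeartbeats 800000

set_option autoImplicit false
universe u
open PicF

namespace Groth.Agent.S17734

open CategoryTheory AlgebraicGeometry Limits in
/-- Let f : X → S be a proper morphism of finite presentation, s a point of S, and L an invertible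
module on the base change X^s of X to the spectrum of the local ring of S at s. Then there are an
open neighbourhood V of s in S and an invertible module L' on the open subscheme f⁻¹(V) = X ×_S V
such that the pullback of L' along the canonical morphism X^s → f⁻¹(V) (the unique one compatible
with the projection X^s → X) is isomorphic to L. -/
theorem result
    {X S : Scheme.{u}} (f : X ⟶ S) [IsProper f] [LocallyOfFinitePresentation f] (s : S)
    (L : (pullback f (S.fromSpecStalk s)).Modules) (hL : PicF.IsInvertible L) :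
    ∃ (V : S.Opens) (_ : s ∈ V) (L' : (↑(f ⁻¹ᵁ V) : Scheme.{u}).Modules), PicF.IsInvertible L' ∧
      ∀ (ι : pullback f (S.fromSpecStalk s) ⟶ ↑(f ⁻¹ᵁ V)),
        ι ≫ (f ⁻¹ᵁ V).ι = pullback.fst f (S.fromSpecStalk s) →
        Nonempty ((Scheme.Modules.pullback ι).obj L' ≅ L) := by
  let D := Groth.Agent.Pi1Ext.SpreadLim.specs S s
  let c := Groth.Agent.Pi1Ext.SpreadLim.cone S s
  obtain ⟨w₀⟩ : Nonempty (Groth.Agent.Pi1Ext.SpreadLim.Nbhd S s) := inferInstance
  let t₀ : D.obj w₀ ⟶ S := Groth.Agent.Pi1Ext.SpreadLim.toX S s w₀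
  let xi : pullback f t₀ ⟶ D.obj w₀ := pullback.snd f t₀
  let qX : pullback f (S.fromSpecStalk s) ⟶ pullback f t₀ :=
    pullback.lift (pullback.fst _ _) (pullback.snd _ _ ≫ c.π.app w₀) (by
      refine pullback.condition.trans ?_
      exact (congrArg (pullback.snd _ _ ≫ ·) (Groth.Agent.Pi1Ext.SpreadLim.π_toX S s w₀).symm).trans (Category.assoc _ _ _).symm)
  have hX : IsPullback qX (pullback.snd f (S.fromSpecStalk s)) xi (c.π.app w₀) := by
    refine IsPullback.of_right ?_ (pullback.lift_snd _ _ _) (IsPullback.of_hasPullback f t₀)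
    rw [pullback.lift_fst, Groth.Agent.Pi1Ext.SpreadLim.π_toX S s w₀]
    exact IsPullback.of_hasPullback f (S.fromSpecStalk s)
  let hlim := Groth.Agent.MorLib.BC.isLimitCone D xi hX (Groth.Agent.Pi1Ext.SpreadLim.isLimit S s)
  haveI : ∀ {a b : Groth.Agent.Pi1Ext.SpreadLim.Nbhd S s} (g : a ⟶ b), IsAffineHom (D.map g) := fun g => inferInstance
  haveI : IsProper xi := MorphismProperty.pullback_snd (P := @IsProper) f t₀ inferInstance
  haveI : ∀ j, CompactSpace ↥((Groth.Agent.MorLib.BC.diag D xi).obj j) := fun j =>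
    QuasiCompact.compactSpace_of_compactSpace (pullback.snd xi (D.map j.hom))
  haveI : ∀ j, QuasiSeparatedSpace ↥((Groth.Agent.MorLib.BC.diag D xi).obj j) := fun j =>
    quasiSeparatedSpace_of_quasiSeparated (pullback.snd xi (D.map j.hom))
  obtain ⟨j, M, hM, ⟨e⟩⟩ := Groth.Agent.LimPic.exists_invertible hlim L hL
  let V : S.Opens := j.left.1
  have hV : IsAffineOpen V := j.left.2.1
  let b₁ : (↑(f ⁻¹ᵁ V) : Scheme.{u}) ⟶ D.obj j.left := (f ∣_ V) ≫ hV.isoSpec.hom
  have hb₁ : b₁ ≫ Groth.Agent.Pi1Ext.SpreadLim.toX S s j.left = (f ⁻¹ᵁ V).ι ≫ f := by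
    show ((f ∣_ V) ≫ hV.isoSpec.hom) ≫ hV.fromSpec = _
    rw [Category.assoc, IsAffineOpen.isoSpec_hom_fromSpec, morphismRestrict_ι]
  let b₀ : (↑(f ⁻¹ᵁ V) : Scheme.{u}) ⟶ pullback f t₀ := pullback.lift (f ⁻¹ᵁ V).ι (b₁ ≫ D.map j.hom) (by
    rw [← hb₁, Category.assoc]
    exact congrArg (b₁ ≫ ·) (Groth.Agent.Pi1Ext.SpreadLim.map_toX S s j.hom).symm)
  let a : (↑(f ⁻¹ᵁ V) : Scheme.{u}) ⟶ (Groth.Agent.MorLib.BC.diag D xi).obj j :=
    pullback.lift b₀ b₁ (pullback.lift_snd _ _ _)
  refine ⟨V, j.left.2.2, (Scheme.Modules.pullback a).obj M, Groth.Agent.PicClLib.isInvertible_pullback a hM,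
    fun ι hι => ⟨(Scheme.Modules.pullbackComp ι a).app M ≪≫ (Scheme.Modules.pullbackCongr ?_).app M ≪≫ e⟩⟩
  haveI : Mono t₀ := inferInstance
  haveI : Mono (D.map j.hom) := by
    haveI : Mono (D.map j.hom ≫ t₀) := by rw [Groth.Agent.Pi1Ext.SpreadLim.map_toX S s j.hom]; infer_instance
    exact mono_of_mono (D.map j.hom) t₀
  refine (cancel_mono (pullback.fst xi (D.map j.hom) ≫ pullback.fst f t₀)).1 ?_
  show (ι ≫ a) ≫ _ = (Groth.Agent.MorLib.BC.proj D xi hX j) ≫ _
  rw [Category.assoc, pullback.lift_fst_assoc, pullback.lift_fst, hι, Groth.Agent.MorLib.BC.proj_fst_assoc,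
    pullback.lift_fst]

end Groth.Agent.S17734
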