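import Groth.Statements.S17737
import Mathlib

set_option autoImplicit false
set_option backward.isDefEq.respectTransparency false
set_option backward.isDefEq.respectTransparency.types false
universe u
open DualGr

namespace Groth.Agent.S17737

open MvPowerSeries in
theorem exists_decomp {C : Type u} [CommRing C] (f : MvPowerSeries (Fin 2) C) :
    ∃ g h : MvPowerSeries (Fin 2) C,
      f = MvPowerSeries.C (MvPowerSeries.constantCoeff f) + X 0 * g + X 1 * h := by
  let r : MvPowerSeries (Fin 2) C := fun m => if m 0 = 0 then 0 else coeff m f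
  have hr : ∀ m, coeff m r = if m 0 = 0 then 0 else coeff m f := fun m => rfl
  obtain ⟨g, hg⟩ : X 0 ∣ r := X_dvd_iff.2 fun m hm => by rw [hr, if_pos hm]
  obtain ⟨h, hh⟩ : X 1 ∣ f - MvPowerSeries.C (constantCoeff f) - r := X_dvd_iff.2 fun m hm => by
    rw [map_sub, map_sub, hr, coeff_C]
    by_cases h0 : m 0 = 0
    · have : m = 0 := by ext i; fin_cases i <;> assumption
      subst this
      simp
    · have : m ≠ 0 := fun e => h0 (by simp [e])
      simp [h0, this]
  exact ⟨g, h, by rw [← hg, add_assoc, ← hh]; ring⟩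

theorem eq_zero_of_vecMul_eq_zero {S : Type u} [CommRing S] {s t x0 x1 y0 y1 : S}
    (hu : IsUnit (x0 * y1 - x1 * y0)) (h0 : s * y0 + t * x0 = 0) (h1 : s * y1 + t * x1 = 0) :
    s = 0 ∧ t = 0 :=
  ⟨hu.mul_left_eq_zero.1 (by linear_combination x0 * h1 - x1 * h0),
    hu.mul_left_eq_zero.1 (by linear_combination y1 * h0 - y0 * h1)⟩

theorem mem_span_of_equiv (R : Type u) [CommRing R] [IsLocalRing R] [IsNoetherianRing R] (a b : R)
    (ha : a ∈ IsLocalRing.maximalIdeal R)
    (Φ : DualGr.nodeRing R b ≃+* DualGr.nodeRing R a)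
    (hΦ : ∀ r : R, Φ (Ideal.Quotient.mk _ (MvPowerSeries.C (algebraMap R (Curv2.cpl R) r))) =
      Ideal.Quotient.mk _ (MvPowerSeries.C (algebraMap R (Curv2.cpl R) r))) :
    b ∈ Ideal.span {a} := by
  classical
  let C' := Curv2.cpl R
  let PS := MvPowerSeries (Fin 2) C'
  let ι : R →+* C' := algebraMap R C'
  let I : Ideal C' := Ideal.span {ι a}
  let S := C' ⧸ I
  haveI : IsLocalRing S := by
    haveI : Nontrivial S := Ideal.Quotient.nontrivial_iff.2 (fun h => by
      obtain ⟨c, hc⟩ := Ideal.mem_span_singleton'.1 (h.symm ▸ Submodule.mem_top : (1 : C') ∈ I)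
      exact ha ((isUnit_of_map_unit (algebraMap R C') a (IsUnit.of_mul_eq_one c (mul_comm c _ ▸ hc)))))
    exact IsLocalRing.of_surjective' (Ideal.Quotient.mk I) Ideal.Quotient.mk_surjective
  let ev : PS →+* S := (Ideal.Quotient.mk I).comp MvPowerSeries.constantCoeff
  let e : Fin 2 → (Fin 2 →₀ ℕ) := fun i => Finsupp.single i 1
  let d : Fin 2 → PS →+ S := fun i =>
    (Ideal.Quotient.mk I).toAddMonoidHom.comp (MvPowerSeries.coeff (e i)).toAddMonoidHom
  have hmul : ∀ i f g, d i (f * g) = ev f * d i g + d i f * ev g := fun i f g => by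
    show Ideal.Quotient.mk I (MvPowerSeries.coeff (e i) (f * g)) = _
    rw [MvPowerSeries.coeff_mul, Finsupp.antidiagonal_single, Finset.sum_map, Finset.Nat.sum_antidiagonal_succ]
    simp only [Finset.Nat.antidiagonal_zero, Finset.sum_singleton, map_add, map_mul, Function.Embedding.coe_prodMap,
      Function.Embedding.coeFn_mk, Prod.map_apply, Finsupp.single_zero, MvPowerSeries.coeff_zero_eq_constantCoeff]
    rfl
  let rel : R → PS := fun r => MvPowerSeries.X 0 * MvPowerSeries.X 1 - MvPowerSeries.C (ι r)
  have evX : ∀ j, ev (MvPowerSeries.X j) = 0 := fun j => by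
    show Ideal.Quotient.mk I (MvPowerSeries.constantCoeff (MvPowerSeries.X j)) = 0
    rw [MvPowerSeries.constantCoeff_X, map_zero]
  have evC : ∀ c, ev (MvPowerSeries.C c) = Ideal.Quotient.mk I c := fun c => by
    show Ideal.Quotient.mk I (MvPowerSeries.constantCoeff (MvPowerSeries.C c)) = _
    rw [MvPowerSeries.constantCoeff_C]
  have dC : ∀ i c, d i (MvPowerSeries.C c) = 0 := fun i c => by
    show Ideal.Quotient.mk I (MvPowerSeries.coeff (e i) (MvPowerSeries.C c)) = 0
    rw [MvPowerSeries.coeff_C, if_neg (by simp [e]), map_zero]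
  have dX : ∀ i j, d i (MvPowerSeries.X j) = if i = j then 1 else 0 := fun i j => by
    show Ideal.Quotient.mk I (MvPowerSeries.coeff (e i) (MvPowerSeries.X j)) = _
    rw [MvPowerSeries.coeff_X]
    by_cases hij : i = j
    · simp [e, hij]
    · rw [if_neg (fun h => hij (Finsupp.single_left_injective one_ne_zero h)), if_neg hij, map_zero]
  have ha0 : Ideal.Quotient.mk I (ι a) = 0 := Ideal.Quotient.eq_zero_iff_mem.2 (Ideal.mem_span_singleton_self _)
  have evrel : ev (rel a) = 0 := by simp only [rel, map_sub, map_mul, evX, evC, ha0, mul_zero, sub_zero]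
  have drel : ∀ i, d i (rel a) = 0 := fun i => by
    simp only [rel, map_sub, hmul, dC, evX, zero_mul, mul_zero, add_zero, sub_zero]
  let evA : DualGr.nodeRing R a →+* S := Ideal.Quotient.lift _ ev (fun x hx => by
    obtain ⟨c, rfl⟩ := Ideal.mem_span_singleton'.1 hx
    rw [map_mul, show ev (rel a) = 0 from evrel, mul_zero])
  have dwell : ∀ i (x y : PS), Ideal.Quotient.mk (Ideal.span {rel a}) x = Ideal.Quotient.mk _ y → d i x = d i y := by
    intro i x y hxy
    obtain ⟨c, hc⟩ := Ideal.mem_span_singleton'.1 (Ideal.Quotient.eq.1 hxy)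
    rw [← sub_eq_zero, ← map_sub, ← hc, hmul, drel, evrel, mul_zero, mul_zero, add_zero]
  -- the transported data on the second presentation
  let mkb : PS →+* DualGr.nodeRing R b := Ideal.Quotient.mk _
  let mka : PS →+* DualGr.nodeRing R a := Ideal.Quotient.mk _
  have hlift : ∀ f : PS, ∃ g : PS, mka g = Φ (mkb f) := fun f => Ideal.Quotient.mk_surjective _
  choose L hL using hlift
  let P : PS → S := fun f => ev (L f)
  let D : Fin 2 → PS → S := fun i f => d i (L f)
  have hP : ∀ f g, mka g = Φ (mkb f) → P f = ev g := fun f g hg =>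
    congrArg evA ((hL f).trans hg.symm)
  have hD : ∀ i f g, mka g = Φ (mkb f) → D i f = d i g := fun i f g hg => dwell i _ _ ((hL f).trans hg.symm)
  have Padd : ∀ f g, P (f + g) = P f + P g := fun f g => by
    rw [hP (f + g) (L f + L g) (by rw [map_add, hL, hL, map_add, map_add]), map_add]
  have Pmul : ∀ f g, P (f * g) = P f * P g := fun f g => by
    rw [hP (f * g) (L f * L g) (by rw [map_mul, hL, hL, map_mul, map_mul]), map_mul]
  have Dadd : ∀ i f g, D i (f + g) = D i f + D i g := fun i f g => by
    rw [hD i (f + g) (L f + L g) (by rw [map_add, hL, hL, map_add, map_add]), map_add]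
  have Dmul : ∀ i f g, D i (f * g) = P f * D i g + D i f * P g := fun i f g => by
    rw [hD i (f * g) (L f * L g) (by rw [map_mul, hL, hL, map_mul, map_mul]), hmul]
  have hconst : ∀ r : R, mka (MvPowerSeries.C (ι r)) = Φ (mkb (MvPowerSeries.C (ι r))) := fun r => (hΦ r).symm
  have hXY : mkb (MvPowerSeries.X 0 * MvPowerSeries.X 1) = mkb (MvPowerSeries.C (ι b)) :=
    Ideal.Quotient.eq.2 (Ideal.mem_span_singleton_self _)
  let x := MvPowerSeries.X (R := C') (0 : Fin 2)
  let y := MvPowerSeries.X (R := C') (1 : Fin 2)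
  have hb : P x * P y = Ideal.Quotient.mk I (ι b) := by
    rw [← Pmul, hP _ _ ((hconst b).trans (congrArg Φ hXY.symm)), evC]
  have hbD : ∀ i, P x * D i y + D i x * P y = 0 := fun i => by
    rw [← Dmul, hD i _ _ ((hconst b).trans (congrArg Φ hXY.symm)), dC]
  -- reduction modulo the maximal ideal
  let res := IsLocalRing.residue S
  have hsurjP : ∀ z : S, ∃ f, P f = z := fun z => by
    obtain ⟨c, rfl⟩ := Ideal.Quotient.mk_surjective z
    obtain ⟨f, hf⟩ := Ideal.Quotient.mk_surjective (Φ.symm (mka (MvPowerSeries.C c)))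
    exact ⟨f, by rw [hP f (MvPowerSeries.C c) (by rw [show mkb f = _ from hf, RingEquiv.apply_symm_apply]), evC]⟩
  have hPX : ∀ j, res (P (MvPowerSeries.X j)) = 0 := fun j => by
    refine (IsLocalRing.residue_eq_zero_iff _).2 fun hu => ?_
    obtain ⟨w, hw⟩ := hu.exists_right_inv
    obtain ⟨f, rfl⟩ := hsurjP w
    have h1 : IsUnit (1 - MvPowerSeries.X j * f) := MvPowerSeries.isUnit_iff_constantCoeff.2 (by simp)
    obtain ⟨v, hv⟩ := h1.exists_right_inv
    have hP1 : P 1 = 1 := by rw [hP 1 1 (by rw [map_one, map_one, map_one]), map_one]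
    have h2 := congrArg P (show MvPowerSeries.X j * f * v + (1 - MvPowerSeries.X j * f) * v = v by ring)
    rw [hv, Padd, Pmul, Pmul, hw, one_mul, hP1] at h2
    exact one_ne_zero (α := S) (by linear_combination h2)
  have hDC : ∀ i (c : C'), res (D i (MvPowerSeries.C c)) = 0 := fun i c => by
    obtain ⟨r, hr⟩ := (AdicCompletion.residueField_map_bijective_of_fg (IsNoetherian.noetherian
      (IsLocalRing.maximalIdeal R))).2 (IsLocalRing.residue C' c)
    obtain ⟨r, rfl⟩ := IsLocalRing.residue_surjective r
    rw [IsLocalRing.ResidueField.map_residue] at hr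
    have hm : c - ι r ∈ (IsLocalRing.maximalIdeal R).map ι := by
      rw [← AdicCompletion.maximalIdeal_eq_map]
      exact Ideal.Quotient.eq.1 hr.symm
    have hgen : ∀ z ∈ (IsLocalRing.maximalIdeal R).map ι, res (D i (MvPowerSeries.C z)) = 0 := fun z hz => by
      induction hz using Submodule.span_induction with
      | mem z hz =>
        obtain ⟨m, hm, rfl⟩ := hz
        rw [hD i _ _ (hconst m), dC, map_zero]
      | zero => rw [map_zero, hD i 0 0 (by rw [map_zero, map_zero, map_zero]), map_zero, map_zero]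
      | add z w _ _ hz hw => rw [map_add, Dadd, map_add, hz, hw, add_zero]
      | smul u z hzm hz =>
        rw [smul_eq_mul, map_mul, Dmul, map_add, map_mul, map_mul, hz, mul_zero, zero_add]
        refine mul_eq_zero_of_right _ ?_
        clear hz
        induction hzm using Submodule.span_induction with
        | mem z hz =>
          obtain ⟨m, hm, rfl⟩ := hz
          rw [hP _ _ (hconst m), evC, IsLocalRing.residue_eq_zero_iff]
          intro hu
          exact hm (isUnit_of_map_unit (algebraMap R C') m ((Ideal.Quotient.mk_surjective.isLocalHom).1 _ hu))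
        | zero => rw [map_zero, hP 0 0 (by rw [map_zero, map_zero, map_zero]), map_zero, map_zero]
        | add z w _ _ hz hw => rw [map_add, Padd, map_add, hz, hw, add_zero]
        | smul v z _ hz => rw [smul_eq_mul, map_mul, Pmul, map_mul, hz, mul_zero]
    rw [show c = ι r + (c - ι r) by ring, map_add, Dadd, map_add, hgen _ hm, add_zero, hD i _ _ (hconst r), dC,
      map_zero]
  have hdec : ∀ f, ∃ g h : S, ∀ i, res (D i f) = res g * res (D i x) + res h * res (D i y) := fun f => by
    obtain ⟨g, h, hf⟩ := exists_decomp f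
    refine ⟨P g, P h, fun i => ?_⟩
    rw [hf, Dadd, Dadd, Dmul, Dmul]
    simp only [map_add, map_mul, hPX, hDC, zero_mul, zero_add]
    simp only [x, y]
    ring
  have hone : ∀ j, ∃ g h : S, ∀ i, (if i = j then 1 else 0) = res g * res (D i x) + res h * res (D i y) := fun j => by
    obtain ⟨f, hf⟩ := Ideal.Quotient.mk_surjective (Φ.symm (mka (MvPowerSeries.X j)))
    obtain ⟨g, h, hgh⟩ := hdec f
    refine ⟨g, h, fun i => ?_⟩
    rw [← hgh i, hD i f (MvPowerSeries.X j) (by rw [show mkb f = _ from hf, RingEquiv.apply_symm_apply]), dX]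
    split <;> simp
  obtain ⟨g0, h0, hg0⟩ := hone 0
  obtain ⟨g1, h1, hg1⟩ := hone 1
  have a00 := hg0 0; have a10 := hg0 1; have a01 := hg1 0; have a11 := hg1 1
  simp only [Fin.isValue, if_true, one_ne_zero, zero_ne_one, if_false] at a00 a10 a01 a11
  have hdet : IsUnit (D 0 x * D 1 y - D 1 x * D 0 y) := by
    rw [← IsLocalRing.residue_ne_zero_iff_isUnit]
    intro h
    have h' : res (D 0 x) * res (D 1 y) - res (D 1 x) * res (D 0 y) = 0 := by rw [← map_mul, ← map_mul, ← map_sub]; exact h
    apply one_ne_zero (α := IsLocalRing.ResidueField S)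
    linear_combination (res g0 * res h1 - res h0 * res g1) * h' +
      (res g1 * res (D 1 x) + res h1 * res (D 1 y)) * a00 -
      (res g1 * res (D 0 x) + res h1 * res (D 0 y)) * a10 + a11
  obtain ⟨hs, ht⟩ := eq_zero_of_vecMul_eq_zero hdet (s := P x) (t := P y)
    (by linear_combination hbD 0) (by linear_combination hbD 1)
  rw [hs, zero_mul, eq_comm, Ideal.Quotient.eq_zero_iff_mem] at hb
  haveI : Module.FaithfullyFlat R C' := Module.FaithfullyFlat.of_flat_of_isLocalHom
  rw [← Ideal.comap_map_eq_self_of_faithfullyFlat (B := C') (Ideal.span {a}), Ideal.mem_comap,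
    Ideal.map_span, Set.image_singleton]
  exact hb

open IsLocalRing in
/-- Let R be a Noetherian local ring, A a local ring with a ring map φ : R → A, and a, b two elements of
the maximal ideal of R such that A is formally a node over R both of thickness (a) and of thickness
(b): the completion of A is isomorphic, compatibly with R, to R̂[[x,y]]/(xy − a) and also to
R̂[[x,y]]/(xy − b). Then aR = bR. (This is the uniqueness assertion: the element in a node
presentation is not unique but the principal ideal it generates is; it is stated for presentations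
with the element taken in R, whose ideal in R is then determined.) -/
theorem result
    (R A : Type u) [CommRing R] [IsLocalRing R] [IsNoetherianRing R] [CommRing A] [IsLocalRing A]
    (φ : R →+* A) (a b : R) (ha : a ∈ maximalIdeal R) (hb : b ∈ maximalIdeal R)
    (h₁ : DualGr.IsThickNode φ a) (h₂ : DualGr.IsThickNode φ b) :
    Ideal.span {a} = Ideal.span {b} := by
    obtain ⟨e₁, h₁⟩ := h₁
    obtain ⟨e₂, h₂⟩ := h₂
    refine le_antisymm ?_ ?_ <;> rw [Ideal.span_singleton_le_iff_mem]
    · refine mem_span_of_equiv R b a hb (e₁.symm.trans e₂) fun r => ?_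
      rw [RingEquiv.trans_apply, ← h₁, RingEquiv.symm_apply_apply, h₂]
    · refine mem_span_of_equiv R a b ha (e₂.symm.trans e₁) fun r => ?_
      rw [RingEquiv.trans_apply, ← h₂, RingEquiv.symm_apply_apply, h₁]

end Groth.Agent.S17737
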