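import Groth.Statements.S17738
import Groth.Agent.QsAlgLib.Factor

set_option autoImplicit false
universe u
open CategoryTheory AlgebraicGeometry
open QsChow

namespace Groth.Agent.S17738

/-- Take a field k and an irreducible normal k-variety X (a separated scheme of finite type over k all
of whose local rings are integrally closed domains) and let L be a finite Galois extension of k. If
the base change of X to L is not irreducible, then there is an intermediate field F of L over k,
different from k, such that the structure morphism of X factors through a k-morphism from X to Spec
F. -/
theorem result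
    (k : Type u) [Field k] (X : Scheme.{u}) [X.Over (Spec (CommRingCat.of k))]
    [IrreducibleSpace X] (hX : Pi1.IsNormalScheme X)
    [IsSeparated (X ↘ Spec (CommRingCat.of k))] [LocallyOfFiniteType (X ↘ Spec (CommRingCat.of k))]
    [QuasiCompact (X ↘ Spec (CommRingCat.of k))]
    (L : Type u) [Field L] [Algebra k L] [FiniteDimensional k L] [IsGalois k L]
    (hred : ¬ IrreducibleSpace ↥(Curv2.bc k X L)) :
    ∃ F : IntermediateField k L, F ≠ ⊥ ∧
      ∃ g : X ⟶ Spec (CommRingCat.of F),
        g ≫ Spec.map (CommRingCat.ofHom (algebraMap k F)) = X ↘ Spec (CommRingCat.of k) := by
  exact Groth.Agent.QsAlgLib.exists_factor hX L hred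

end Groth.Agent.S17738
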