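import Groth.Statements.S17743
import Groth.Agent.QsAlgLib.Point
import Mathlib.GroupTheory.Archimedean

set_option autoImplicit false
universe u
open CategoryTheory AlgebraicGeometry
open QsChow

namespace Groth.Agent.S17743

/-- Let K be a separable algebraic field extension of k and suppose that some intermediate field L of K
over k is finite Galois over k with degree [L:k] not of the form p^n for a prime p and n ≥ 0 (so
[L:k] has at least two prime factors). Then the subgroup of the Chow group of zero-cycles of Spec k
generated by the classes of push-forwards from Spec F, over the intermediate fields F of K over k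
that are finite over k and different from k, is the whole group; that is, the conormed Chow group of
the point relative to K over k is zero. (Degree 1 = p^0 must be excluded: for L = K = k the quotient
is ℤ.) -/
theorem result
    (k : Type u) [Field k] (K : Type u) [Field K] [Algebra k K] [Algebra.IsSeparable k K]
    (L : IntermediateField k K) [FiniteDimensional k L] [IsGalois k L]
    (hL : ∀ p n : ℕ, p.Prime → Module.finrank k L ≠ p ^ n) :
    QsChow.ptNormSubgroup k K = ⊤ := by
  classical
  apply AddSubgroup.map_injective (f := (QsAlgLib.degEquiv k).toAddMonoidHom) (QsAlgLib.degEquiv k).injective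
  refine Eq.trans ?_ (AddSubgroup.map_top_of_surjective _ (QsAlgLib.degEquiv k).surjective).symm
  rw [QsAlgLib.map_ptNormSubgroup]
  obtain ⟨g, hg⟩ := Int.subgroup_cyclic (AddSubgroup.closure {d : ℤ | ∃ (F : IntermediateField k K)
    (_ : FiniteDimensional k F) (_ : F ≠ ⊥) (m : ℤ), d = m * (Module.finrank k F : ℤ)})
  rw [← AddSubgroup.zmultiples_eq_closure] at hg
  rw [hg]
  by_cases h1 : g.natAbs = 1
  · refine eq_top_iff.2 fun z _ => AddSubgroup.mem_zmultiples_iff.2 ?_
    rcases Int.natAbs_eq_iff.1 h1 with h | h
    · exact ⟨z, by simp [h]⟩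
    · exact ⟨-z, by simp [h]⟩
  exfalso
  obtain ⟨q, hq, hqg⟩ := Nat.exists_prime_and_dvd h1
  haveI : Fact q.Prime := ⟨hq⟩
  suffices ∃ F : IntermediateField k K, FiniteDimensional k F ∧ F ≠ ⊥ ∧ ¬ q ∣ Module.finrank k F by
    obtain ⟨F, hF, hne, hnd⟩ := this
    have hm : (Module.finrank k F : ℤ) ∈ AddSubgroup.zmultiples g :=
      hg ▸ AddSubgroup.subset_closure ⟨F, hF, hne, 1, (one_mul _).symm⟩
    obtain ⟨z, hz⟩ := AddSubgroup.mem_zmultiples_iff.1 hm
    apply hnd
    rw [← Int.natCast_dvd_natCast, ← hz, smul_eq_mul]
    exact (Int.natCast_dvd.2 hqg).mul_left z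
  by_cases hqL : q ∣ Module.finrank k L
  · obtain ⟨P⟩ := (inferInstance : Nonempty (Sylow q (L ≃ₐ[k] L)))
    obtain ⟨F, hF, hmul⟩ := QsAlgLib.exists_field_of_subgroup L (P : Subgroup (L ≃ₐ[k] L))
    rw [P.card_eq_multiplicity, IsGalois.card_aut_eq_finrank] at hmul
    refine ⟨F, hF, ?_, ?_⟩
    · rintro rfl
      rw [IntermediateField.finrank_bot, one_mul] at hmul
      exact hL q _ hq hmul.symm
    · intro hd
      have hdvd : q * q ^ (Module.finrank k L).factorization q ∣ Module.finrank k L :=
        (mul_dvd_mul_right hd _).trans (dvd_of_eq hmul)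
      rw [← pow_succ'] at hdvd
      have := (hq.pow_dvd_iff_le_factorization (Module.finrank_pos (R := k) (M := L)).ne').1 hdvd
      omega
  · refine ⟨L, inferInstance, ?_, hqL⟩
    rintro rfl
    exact hL 2 0 Nat.prime_two (IntermediateField.finrank_bot)

end Groth.Agent.S17743
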