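import Groth.Statements.S17744
import Groth.Agent.QsAlgLib.Point

set_option autoImplicit false
universe u
open CategoryTheory AlgebraicGeometry
open QsChow

namespace Groth.Agent.S17744

/-- Let K be a separable algebraic field extension of k, let L be an intermediate field of K over k that
is finite Galois over k of degree p^n with p prime and n ≥ 1, and suppose that every intermediate
field of K over k that is finite over k has degree a power of p. Then the subgroup of the Chow group
of zero-cycles of Spec k generated by the classes of push-forwards from Spec F, over the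
intermediate fields F of K over k that are finite over k and different from k, has index p; that is,
the conormed Chow group of the point relative to K over k is cyclic of order p (the field with p
elements, in the source's ring language). (For n = 0, i.e. L = k, the assertion fails with K = k, so
n ≥ 1 is required.) -/
theorem result
    (k : Type u) [Field k] (K : Type u) [Field K] [Algebra k K] [Algebra.IsSeparable k K]
    (L : IntermediateField k K) [FiniteDimensional k L] [IsGalois k L]
    (p n : ℕ) (hp : p.Prime) (hn : 1 ≤ n) (hL : Module.finrank k L = p ^ n)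
    (hF : ∀ F : IntermediateField k K, FiniteDimensional k F → ∃ e : ℕ, Module.finrank k F = p ^ e) :
    (QsChow.ptNormSubgroup k K).index = p := by
  classical
  haveI : Fact p.Prime := ⟨hp⟩
  rw [← AddSubgroup.index_map_equiv _ (QsAlgLib.degEquiv k)]
  show ((QsChow.ptNormSubgroup k K).map (QsAlgLib.degEquiv k).toAddMonoidHom).index = p
  rw [QsAlgLib.map_ptNormSubgroup]
  have he : AddSubgroup.closure {d : ℤ | ∃ (F : IntermediateField k K)
      (_ : FiniteDimensional k F) (_ : F ≠ ⊥) (m : ℤ), d = m * (Module.finrank k F : ℤ)} =
      AddSubgroup.zmultiples (p : ℤ) := by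
    refine le_antisymm ((AddSubgroup.closure_le _).2 ?_) ?_
    · rintro d ⟨F, hFfin, hne, m, rfl⟩
      obtain ⟨e, he⟩ := hF F hFfin
      have he1 : e ≠ 0 := fun h => hne (IntermediateField.finrank_eq_one_iff.1 (by rw [he, h, pow_zero]))
      refine AddSubgroup.mem_zmultiples_iff.2 ⟨m * (p : ℤ) ^ (e - 1), ?_⟩
      rw [smul_eq_mul, mul_assoc, ← pow_succ, Nat.sub_add_cancel (Nat.pos_of_ne_zero he1), he]
      push_cast
      rfl
    · rw [AddSubgroup.zmultiples_le]
      have hG : Nat.card (L ≃ₐ[k] L) = p ^ n := by rw [IsGalois.card_aut_eq_finrank, hL]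
      obtain ⟨H, hH⟩ := Sylow.exists_subgroup_card_pow_prime p (G := L ≃ₐ[k] L) (n := n - 1)
        (hG ▸ pow_dvd_pow p (Nat.sub_le n 1))
      obtain ⟨F, hFfin, hmul⟩ := QsAlgLib.exists_field_of_subgroup L H
      rw [hH, hL] at hmul
      have hFp : Module.finrank k F = p := by
        apply Nat.eq_of_mul_eq_mul_right (pow_pos hp.pos (n - 1))
        rw [hmul, ← pow_succ', Nat.sub_add_cancel hn]
      refine AddSubgroup.subset_closure ⟨F, hFfin, ?_, 1, by rw [hFp, one_mul]⟩
      rintro rfl
      rw [IntermediateField.finrank_bot] at hFp
      exact hp.one_lt.ne hFp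
  rw [he, Int.index_zmultiples, Int.natAbs_natCast]

end Groth.Agent.S17744
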