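import Groth.Statements.S17745
import Groth.Agent.QsAlgLib.Section

set_option autoImplicit false
universe u
open CategoryTheory AlgebraicGeometry
open QsChow

namespace Groth.Agent.S17745

/-- For a field extension K of k (separable algebraic) and a k-scheme X with weight function δ, call
norm subgroup of CH_j(X) the subgroup generated by the classes of the push-forwards to X of j-cycles
on the base changes X_F, over the intermediate fields F of K over k that are finite over k and
different from k (the quotient by it is the degree-j part of the conormed Chow group of X relative
to K over k). Let F be an intermediate field of K over k, finite over k and different from k, and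
let X be a smooth variety over F (a scheme with a smooth, separated and quasi-compact morphism g to
Spec F), regarded as a k-scheme by composing g with Spec F → Spec k. Then for every weight function
δ on X (a dimension function induced from weight 0 on Spec k) and every integer j the norm subgroup
of CH_j(X) relative to K over k is the whole Chow group: all conormed Chow groups of X vanish. (The
source's F is tacitly different from k; for F = k the assertion fails, e.g. with K = k.) -/
theorem result
    (k : Type u) [Field k] (K : Type u) [Field K] [Algebra k K] [Algebra.IsSeparable k K]
    (F : IntermediateField k K) [FiniteDimensional k F] (hF : F ≠ ⊥)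
    (X : Scheme.{u}) [X.Over (Spec (CommRingCat.of k))] (g : X ⟶ Spec (CommRingCat.of F))
    (hg : g ≫ Spec.map (CommRingCat.ofHom (algebraMap k F)) = X ↘ Spec (CommRingCat.of k))
    (hsm : Smooth g) [IsSeparated g] [QuasiCompact g]
    (δ : X → ℤ) (hδ : Cyc.IsSetup X δ)
    (hcompat : Cyc.DeltaCompat (X ↘ Spec (CommRingCat.of k)) δ (fun _ => 0)) (j : ℤ) :
    QsChow.normSubgroup k K X δ j = ⊤ := by
  exact Groth.Agent.QsAlgLib.normSubgroup_eq_top k K F hF X g hg δ j

end Groth.Agent.S17745
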