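import Groth.Statements.S17750
import Groth.Agent.LC.CanonIdeal

set_option autoImplicit false
universe u
open Goren

namespace Groth.Agent.S17750

/-- Let B be a regular local ring and p a prime ideal of B such that the integral domain B ⧸ p is a
unique factorization domain. If the local ring B ⧸ p is Cohen–Macaulay then it is Gorenstein, i.e.
has finite injective dimension as a module over itself. (For a unique factorization domain that is a
quotient of a regular local ring, Cohen–Macaulay and Gorenstein are equivalent; the converse
implication holds for every Noetherian local ring.) -/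
theorem result (B : Type u) [CommRing B] [IsRegularLocalRing B] (p : Ideal B) [p.IsPrime] [UniqueFactorizationMonoid (B ⧸ p)] [LocCoh.IsCohenMacaulayLocalRing (B ⧸ p)] : LocCoh.IsGorensteinLocalRing (B ⧸ p) := by
  haveI := Groth.Agent.LC.gorenstein_of_isRegularLocalRing (R := B)
  obtain ⟨n, -, -, hn, -⟩ := Groth.Agent.CohenLib.exists_fin_sop (B ⧸ p)
  obtain ⟨E, _, _, f, hf⟩ := Groth.Agent.LC.exists_injectiveHull (B ⧸ p) (IsLocalRing.ResidueField (B ⧸ p))
  have hπ : Function.Surjective (algebraMap B (B ⧸ p)) := Ideal.Quotient.mk_surjective
  obtain ⟨K, hK, ⟨eK⟩⟩ := Groth.Agent.LC.Canon.exists_canon_of_surjective hn hf hπ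
  haveI := hK
  exact Groth.Agent.LC.Canon.gorenstein_of_ufd hn hf eK hπ

end Groth.Agent.S17750
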