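import Groth.Statements.S17751
import Groth.Agent.LC.PrimeSel

set_option autoImplicit false
universe u
open LocCoh

namespace Groth.Agent.S17751

/-- Suppose R is a Noetherian ring, r is a natural number, and I is an ideal of R. Then there are
elements f_1, …, f_r of I such that for every prime ideal p of R of height less than r, p contains I
if and only if p contains f_1, …, f_r. (For r = 0 there is nothing to prove.) -/
theorem result (R : Type u) [CommRing R] [IsNoetherianRing R] (I : Ideal R) (r : ℕ) : ∃ f : Fin r → R, (∀ i, f i ∈ I) ∧ ∀ (p : Ideal R) [p.IsPrime], p.height < r → (I ≤ p ↔ Ideal.span (Set.range f) ≤ p) := by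
  exact Groth.Agent.LC.exists_gens_height_lt I r

end Groth.Agent.S17751
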