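import Groth.Statements.S17753
import Groth.Agent.LC.PrimeSel

set_option autoImplicit false
universe u
open LocCoh

namespace Groth.Agent.S17753

/-- Let R be a Noetherian local ring of Krull dimension d and I a proper ideal of R. Then there are d
elements f_1, …, f_d of I such that I and the ideal they generate have the same radical, so the
arithmetic rank of I is at most d. (The published statement has no properness hypothesis; for the
unit ideal of a field, d = 0 and no empty family generates the unit ideal up to radical, and the
published proof uses that the maximal ideal contains I.) -/
theorem result (R : Type u) [CommRing R] [IsNoetherianRing R] [IsLocalRing R] (d : ℕ) (hd : ringKrullDim R = d) (I : Ideal R) (hI : I ≠ ⊤) : ∃ f : Fin d → R, (∀ i, f i ∈ I) ∧ I.radical = (Ideal.span (Set.range f)).radical := by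
  exact Groth.Agent.LC.exists_gens_radical_eq_of_local d hd I hI

end Groth.Agent.S17753
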