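import Groth.Statements.S17758
import Groth.Agent.LC.ConnMain

set_option autoImplicit false
universe u
open LocCoh

namespace Groth.Agent.S17758

/-- Let R be a complete Noetherian local domain of Krull dimension d with maximal ideal m, and I a
proper ideal of R of arithmetic rank at most d − 2: there are elements f_1, …, f_t with t + 2 ≤ d
such that I and (f_1, …, f_t) have the same radical. Then the punctured spectrum of R ⧸ I, viewed as
the set of prime ideals of R that contain I and differ from m, is a nonempty connected subset of
Spec R. (Connectedness is taken here to include nonemptiness, so the unit ideal, whose punctured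
spectrum is empty, is excluded; for a proper I nonemptiness is automatic, since otherwise I would be
m-primary and m would be minimal over an ideal generated by t ≤ d − 2 elements, against Krull's
height bound.) -/
theorem result (R : Type u) [CommRing R] [IsDomain R] [IsNoetherianRing R] [IsLocalRing R] [IsAdicComplete (IsLocalRing.maximalIdeal R) R] (d : ℕ) (hd : ringKrullDim R = d) (t : ℕ) (ht : t + 2 ≤ d) (f : Fin t → R) (I : Ideal R) (hItop : I ≠ ⊤) (hI : I.radical = (Ideal.span (Set.range f)).radical) : IsConnected {x : PrimeSpectrum R | I ≤ x.asIdeal ∧ x.asIdeal ≠ IsLocalRing.maximalIdeal R} := by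
  classical
  open Groth.Agent.LC IsLocalRing in
  have := isLocalRing_quot hItop
  let S : Finset R := Finset.univ.image f
  have hS : (Ideal.span (S : Set R)).radical = I.radical := by
    simp only [S]
    rw [Finset.coe_image, Finset.coe_univ, Set.image_univ, hI]
  have hScard : S.card ≤ t := Finset.card_image_le.trans (by simp)
  obtain ⟨c, hc⟩ := exists_connDim_nat (R := R)
  obtain ⟨s, p, hp, hpd, hs⟩ := exists_subdim_nat (R := R)
  obtain ⟨c', hc'⟩ := exists_connDim_nat (R := R ⧸ I)
  have hp0 : p = ⊥ := le_bot_iff.1 (hp.2 ⟨Ideal.isPrime_bot, le_rfl⟩ bot_le)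
  have hsd : s = d := by
    subst hp0
    rw [ringKrullDim_eq_of_ringEquiv (RingEquiv.quotientBot R), hd, Nat.cast_inj] at hpd
    exact hpd.symm
  have hcd : c = d := by
    have heq : LocCoh.connDim (PrimeSpectrum R) = LocCoh.subdim (PrimeSpectrum R) :=
      (connDim_eq_subdim_iff (by
        rw [PrimeSpectrum.topologicalKrullDim_eq_ringKrullDim, hd]
        exact WithBot.coe_lt_coe.2 (ENat.natCast_lt_top d))).2 inferInstance
    rw [hc, hs, Nat.cast_inj] at heq
    omega
  have hmain := min_connDim_subdim_le_ara I hItop S hS hc hs hc'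
  have hc'1 : 1 ≤ c' := by omega
  -- the closed point
  let σ := Ideal.Quotient.mk I
  let Z : Set (PrimeSpectrum (R ⧸ I)) := {⟨maximalIdeal (R ⧸ I), inferInstance⟩}
  have hZc : IsClosed Z := (PrimeSpectrum.isClosed_singleton_iff_isMaximal _).2 (maximalIdeal.isMaximal _)
  have hconn : IsConnected Zᶜ := by
    by_contra h
    have h1 := connDim_le hZc h
    rw [hc'] at h1
    have h2 : topologicalKrullDim ↥Z ≤ 0 := topologicalKrullDim_zero_of_discreteTopology ↥Z
    exact absurd (Nat.cast_le (α := WithBot ℕ∞).1 ((h1.trans h2).trans_eq Nat.cast_zero.symm)) (by omega)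
  have himg : PrimeSpectrum.comap σ '' Zᶜ =
      {x : PrimeSpectrum R | I ≤ x.asIdeal ∧ x.asIdeal ≠ maximalIdeal R} := by
    have hcomap : (maximalIdeal (R ⧸ I)).comap σ = maximalIdeal R := by
      have := IsLocalHom.of_surjective σ Ideal.Quotient.mk_surjective
      exact maximalIdeal_comap σ
    ext x
    constructor
    · rintro ⟨y, hy, rfl⟩
      refine ⟨fun z hz => ?_, fun h => hy (PrimeSpectrum.ext ?_)⟩
      · show σ z ∈ y.asIdeal
        rw [Ideal.Quotient.eq_zero_iff_mem.2 hz]
        exact zero_mem _
      · refine Ideal.comap_injective_of_surjective σ Ideal.Quotient.mk_surjective ?_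
        exact h.trans hcomap.symm
    · rintro ⟨hIx, hxm⟩
      have hr : x ∈ Set.range (PrimeSpectrum.comap σ) := by
        rw [range_comap_of_surjective _ _ Ideal.Quotient.mk_surjective, Ideal.mk_ker]
        exact hIx
      obtain ⟨y, rfl⟩ := hr
      refine ⟨y, fun hy => hxm ?_, rfl⟩
      rw [Set.mem_singleton_iff.1 hy]
      exact hcomap
  rw [← himg]
  exact hconn.image _ (PrimeSpectrum.continuous_comap σ).continuousOn

end Groth.Agent.S17758
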