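import Groth.Statements.S17761
import Groth.Agent.LC.TopDim3

set_option autoImplicit false
universe u
open LocCoh

namespace Groth.Agent.S17761

/-- Let R be a Noetherian local ring with maximal ideal m and M a finitely generated R-module whose
support has positive dimension n. Then the local cohomology module H^n_m(M) is not a finitely
generated R-module. -/
theorem result (R : Type u) [CommRing R] [IsNoetherianRing R] [IsLocalRing R] (M : Type u) [AddCommGroup M] [Module R M] [Module.Finite R M] (n : ℕ) (hn0 : 0 < n) (hn : Module.supportDim R M = n) : ¬ Module.Finite R (LocCoh.H (IsLocalRing.maximalIdeal R) n M) := by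
  exact (Groth.Agent.LC.nontrivial_and_not_finite_H n M hn).2 hn0

end Groth.Agent.S17761
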