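import Groth.Statements.S17763
import Groth.Agent.LC.TopDim3

set_option autoImplicit false
universe u
open LocCoh

namespace Groth.Agent.S17763

/-- Let R be a Noetherian local ring of Krull dimension d. Then the following are equivalent: (1)
H^d_I(R) = 0 for every ideal I of R such that R ⧸ I has positive dimension; (2) H^d_p(R) = 0 for
every prime ideal p of R such that R ⧸ p has dimension one. -/
theorem result (R : Type u) [CommRing R] [IsNoetherianRing R] [IsLocalRing R] (d : ℕ) (hd : ringKrullDim R = d) : (∀ I : Ideal R, 0 < ringKrullDim (R ⧸ I) → Subsingleton (LocCoh.H I d R)) ↔ (∀ (p : Ideal R) [p.IsPrime], ringKrullDim (R ⧸ p) = 1 → Subsingleton (LocCoh.H p d R)) := by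
  refine ⟨fun h p _ hp => h p (by rw [hp]; exact zero_lt_one), fun h I hI => ?_⟩
  obtain ⟨q, hIq, hq⟩ := Groth.Agent.LC.exists_prime_dim_one hI
  exact Groth.Agent.LC.subsingleton_H_of_le_of_subsingleton hIq
    ((IsLocalRing.le_maximalIdeal q.isPrime.ne_top).trans
      (IsLocalRing.jacobson_eq_maximalIdeal ⊥ bot_ne_top).ge) hd.le le_rfl (h q.asIdeal hq)

end Groth.Agent.S17763
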