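import Groth.Statements.S17764
import Groth.Agent.LC.InjNoeth

set_option autoImplicit false
universe u
open InjHull

namespace Groth.Agent.S17764

/-- Let R be a commutative ring and M an R-module which is torsion-free (no nonzero element of R kills a
nonzero element of M) and divisible (multiplication by every nonzero element of R is surjective on
M). Then M is an injective R-module. (Over a ring with zero divisors the two hypotheses force M =
0.) -/
theorem result (R : Type u) [CommRing R] (M : Type u) [AddCommGroup M] [Module R M] [NoZeroSMulDivisors R M] (hdiv : ∀ r : R, r ≠ 0 → Function.Surjective (fun m : M => r • m)) : Module.Injective R M := by
  exact Groth.Agent.LC.injective_of_divisible M hdiv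

end Groth.Agent.S17764
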