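import Groth.Statements.S17765
import Groth.Agent.LC.GorLoc

set_option autoImplicit false
universe u
open CategoryTheory
open LocCoh

namespace Groth.Agent.S17765

/-- Let B be a regular local ring, M a finitely generated B-module and p an associated prime ideal of M.
Then the height of p is at most the projective dimension of M: for every n such that M has
projective dimension at most n, ht p ≤ n. -/
theorem result (B : Type u) [CommRing B] [IsRegularLocalRing B] (M : Type u) [AddCommGroup M] [Module B M] [Module.Finite B M] (p : Ideal B) (hp : p ∈ associatedPrimes B M) (n : ℕ) (hn : HasProjectiveDimensionLE (ModuleCat.of B M) n) : p.height ≤ n := by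
  have := Groth.Agent.LC.gorenstein_of_isRegularLocalRing (R := B)
  have hpp : p.IsPrime := hp.isPrime
  let A := Localization.AtPrime p
  have := Groth.Agent.LC.gorenstein_localized (R := B) p
  have hass := Module.associatedPrimes.mem_associatedPrimes_atPrime_of_mem_associatedPrimes hp
  obtain ⟨-, g, hg⟩ := (isAssociatedPrime_iff_exists_injective_linearMap (IsLocalRing.maximalIdeal A)
    (LocalizedModule p.primeCompl M)).1 ((AssociatedPrimes.mem_iff).1 hass)
  have : Module.Finite A (LocalizedModule p.primeCompl M) :=
    Module.Finite.of_isLocalizedModule p.primeCompl (LocalizedModule.mkLinearMap _ M)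
  obtain ⟨d, hd, -, hv⟩ := Groth.Agent.LC.gorenstein_basic (R := A)
  have hh : p.height = d := by
    rw [IsLocalization.AtPrime.ringKrullDim_eq_height p A] at hd
    exact_mod_cast hd
  rw [hh]
  by_contra hlt
  have hnd : n + 1 ≤ d := by
    by_contra h'
    exact hlt (by exact_mod_cast (by omega : d ≤ n))
  let T : ShortComplex (ModuleCat.{u} A) := ShortComplex.mk
    (X₁ := ModuleCat.of A (A ⧸ IsLocalRing.maximalIdeal A))
    (X₂ := ModuleCat.of A (LocalizedModule p.primeCompl M))
    (X₃ := ModuleCat.of A (LocalizedModule p.primeCompl M ⧸ LinearMap.range g))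
    (ModuleCat.ofHom g) (ModuleCat.ofHom (LinearMap.range g).mkQ)
    (ModuleCat.hom_ext (LinearMap.ext fun z => (Submodule.Quotient.mk_eq_zero _).2 ⟨z, rfl⟩))
  have hT : T.ShortExact :=
    { exact := (ShortComplex.ShortExact.moduleCat_exact_iff_function_exact _).2
        (LinearMap.exact_map_mkQ_range g)
      mono_f := (ModuleCat.mono_iff_injective _).2 hg
      epi_g := (ModuleCat.epi_iff_surjective _).2 (Submodule.mkQ_surjective _) }
  let m : PrimeSpectrum A := ⟨IsLocalRing.maximalIdeal A, inferInstance⟩
  have hm : Order.height m = d := by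
    rw [← PrimeSpectrum.height_eq_orderHeight]
    have := IsLocalRing.maximalIdeal_height_eq_ringKrullDim (R := A)
    rw [hd] at this
    exact (by exact_mod_cast this : (IsLocalRing.maximalIdeal A).height = d)
  obtain ⟨e, he⟩ := Groth.Agent.LC.ext_height_ne_zero d m hm 1
    (IsLocalRing.maximalIdeal A).one_notMem
  have h1 := hv (LocalizedModule p.primeCompl M ⧸ LinearMap.range g) (d + 1) (Nat.lt_succ_self d)
  obtain ⟨w, hw⟩ := Abelian.Ext.contravariant_sequence_exact₁ hT (ModuleCat.of A A) e
    (n₁ := d + 1) (by omega) (@Subsingleton.elim _ h1 _ _)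
  have h2 : Subsingleton (Abelian.Ext (ModuleCat.of B M) (ModuleCat.of B B) d) :=
    HasProjectiveDimensionLT.subsingleton _ (n + 1) d hnd _
  obtain ⟨ee⟩ := Groth.Agent.LC.exists_extLoc_ring p.primeCompl M d
  have h3 : Subsingleton (Abelian.Ext (ModuleCat.of A (LocalizedModule p.primeCompl M))
      (ModuleCat.of A A) d) := ee.symm.toEquiv.subsingleton
  apply he
  rw [← hw, @Subsingleton.elim _ h3 w 0, Abelian.Ext.comp_zero, smul_zero]

end Groth.Agent.S17765
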