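import Groth.Statements.S17766
import Groth.Agent.GrLib8.CanonHeight
import Groth.Agent.LC.CanonGor
import Groth.Agent.LC.CanonIdeal
-- import your own Groth.Agent.* helpers here

set_option autoImplicit false
universe u
open CategoryTheory Opposite
open LocCoh

namespace Groth.Agent.S17766

/-- Let B be a regular local ring, p a prime ideal of B of height r, and suppose that A = B ⧸ p is
Cohen–Macaulay. Then the B-module Ext^r_B(A, B) is isomorphic either to A itself or to a proper
ideal I of A which is unmixed of height one, i.e. every associated prime of A ⧸ I has height one in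
A (existence of a B-linear isomorphism in each case). -/
theorem result (B : Type u) [CommRing B] [IsRegularLocalRing B] (p : Ideal B) [p.IsPrime] [LocCoh.IsCohenMacaulayLocalRing (B ⧸ p)] (r : ℕ) (hr : p.height = r) : Nonempty (((Ext B (ModuleCat.{u} B) r).obj (op (ModuleCat.of B (B ⧸ p)))).obj (ModuleCat.of B B) ≃ₗ[B] (B ⧸ p)) ∨ ∃ I : Ideal (B ⧸ p), I ≠ ⊤ ∧ (∀ q ∈ associatedPrimes (B ⧸ p) ((B ⧸ p) ⧸ I), q.height = 1) ∧ Nonempty (((Ext B (ModuleCat.{u} B) r).obj (op (ModuleCat.of B (B ⧸ p)))).obj (ModuleCat.of B B) ≃ₗ[B] I) := by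
  classical
  haveI : IsNoetherianRing B := inferInstance
  haveI hG : LocCoh.IsGorensteinLocalRing B := Groth.Agent.LC.gorenstein_of_isRegularLocalRing
  haveI := Groth.Agent.LC.isCohenMacaulayLocalRing_of_gorenstein (R := B)
  obtain ⟨n, -, -, hn, -⟩ := Groth.Agent.CohenLib.exists_fin_sop (B ⧸ p)
  obtain ⟨E, _, _, f, hf⟩ := Groth.Agent.LC.exists_injectiveHull (B ⧸ p) (IsLocalRing.ResidueField (B ⧸ p))
  have hπ : Function.Surjective (algebraMap B (B ⧸ p)) := Ideal.Quotient.mk_surjective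
  obtain ⟨N, hN, -, -⟩ := Groth.Agent.LC.gorenstein_basic (R := B)
  have hc : n + r = N := by
    have h := Groth.Agent.LC.height_add_ringKrullDim_quotient (R := B) p (Ideal.IsPrime.ne_top inferInstance)
    rw [hn, hr, hN] at h
    exact_mod_cast h
  obtain ⟨K, _, _, hK, ⟨ι⟩⟩ := Groth.Agent.LC.Canon.exists_extModule (S := B) hπ r
  haveI := hK
  obtain ⟨eK⟩ := Groth.Agent.LC.Canon.canon_of_ext hf hπ hN hc K ι
  obtain ⟨I, hI0, ⟨θ⟩⟩ := Groth.Agent.LC.Canon.exists_ideal_equiv hn hf eK hπ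
  let e0 := (Groth.Agent.LC.ExtBridge.bridge (projectiveResolution (ModuleCat.of B (B ⧸ p))) (ModuleCat.of B B) r).trans
    (ι.symm.trans (θ.restrictScalars B))
  rcases eq_or_ne I ⊤ with h | h
  · exact Or.inl ⟨e0.trans (((LinearEquiv.ofEq _ _ h).trans Submodule.topEquiv).restrictScalars B)⟩
  · exact Or.inr ⟨I, h, fun q hq => Groth.Agent.GrLib8.CanonHeight.height_eq_one_of_mem_ass hn hf eK θ hI0 q hq, ⟨e0⟩⟩

end Groth.Agent.S17766
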