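import Groth.Statements.S17768
import Groth.Agent.GrLib8.PieceProp
import Groth.Agent.LC.Artinian
import Groth.Agent.GrLib8.ArtTors
-- import your own Groth.Agent.* helpers here

set_option autoImplicit false
universe u
open GrLC

namespace Groth.Agent.S17768

/-- Let R = ⊕_{n ≥ 0} R_n be a Noetherian positively ℤ-graded ring which is *local with unique
homogeneous maximal ideal m (equivalently R_0 is local), and let M be a finitely generated graded
R-module. Then for every i and every n the homogeneous piece H^i_m(M)_n of the graded local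
cohomology with support in m, computed from any *injective resolution of M in the graded category,
is an Artinian R_0-module. -/
theorem result (R : Type u) [CommRing R] [IsNoetherianRing R] (𝒜 : ℤ → AddSubgroup R) [GradedRing 𝒜] (hpos : ∀ n : ℤ, n < 0 → 𝒜 n = ⊥) (m : HomogeneousIdeal 𝒜) (hm : GrLC.IsStarLocal 𝒜 m) (M : Type u) [AddCommGroup M] [Module R M] [Module.Finite R M] (ℳ : ℤ → AddSubgroup M) [DirectSum.Decomposition ℳ] [SetLike.GradedSMul 𝒜 ℳ] (E : GrLC.StarInjRes 𝒜 ℳ) (i : ℕ) (n : ℤ) : IsArtinian (GrLC.deg0 𝒜) (E.Hcomp m i n) := by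
  classical
  have hpos' := GrLib8.nonneg_of_bot hpos
  have hirr := GrLib8.irrel_le_of_isStarLocal hpos hm
  let m0 : Ideal (GrLC.deg0 𝒜) := m.toIdeal.comap (GrLC.deg0 𝒜).subtype
  haveI hmax : m0.IsMaximal := by
    refine Ideal.isMaximal_iff.2 ⟨fun h1 => hm.1.1 (HomogeneousIdeal.toIdeal_injective ?_), fun J x hle hx hxJ => ?_⟩
    · rw [HomogeneousIdeal.toIdeal_top]; exact (Ideal.eq_top_iff_one _).2 h1
    · let K : HomogeneousIdeal 𝒜 := m ⊔ ⟨Ideal.span {(x : R)}, Ideal.homogeneous_span 𝒜 _ fun y hy => by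
        rw [Set.mem_singleton_iff] at hy; exact ⟨0, hy ▸ x.2⟩⟩
      have hK : K = ⊤ := hm.1.2 K (lt_of_le_of_ne le_sup_left fun he => hx (by
        show (x : R) ∈ m.toIdeal
        rw [he, HomogeneousIdeal.toIdeal_sup]
        exact Ideal.mem_sup_right (Ideal.mem_span_singleton_self _)))
      have h1 : (1 : R) ∈ m.toIdeal ⊔ Ideal.span {(x : R)} := by
        have : (1 : R) ∈ K.toIdeal := by rw [hK]; trivial
        rwa [HomogeneousIdeal.toIdeal_sup] at this
      obtain ⟨u, hu, v, hv, huv⟩ := Submodule.mem_sup.1 h1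
      obtain ⟨r, rfl⟩ := Ideal.mem_span_singleton'.1 hv
      have h := congrArg (fun y => (DirectSum.decompose 𝒜 y 0 : R)) huv
      simp only [DirectSum.decompose_add, DirectSum.add_apply, AddMemClass.coe_add,
        DirectSum.decompose_of_mem_same 𝒜 (SetLike.one_mem_graded 𝒜)] at h
      rw [show r * (x : R) = r • (x : R) from rfl, GrLib8.decompose_smul_of_mem 𝒜 𝒜 x.2, sub_zero] at h
      have he : (1 : GrLC.deg0 𝒜) = ⟨_, (DirectSum.decompose 𝒜 u 0).2⟩ + ⟨_, (DirectSum.decompose 𝒜 r 0).2⟩ * x :=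
        Subtype.ext h.symm
      rw [he]
      exact add_mem (hle (m.isHomogeneous 0 hu)) (Ideal.mul_mem_left _ _ hxJ)
  let Φ : ∀ (A : Type u) [AddCommGroup A] [Module (GrLC.deg0 𝒜) A], Prop := fun A _ _ => IsArtinian (GrLC.deg0 𝒜) A
  have hΦ : GrLib8.MidClosed Φ := ⟨fun A B C _ _ _ _ _ _ f g hex (_ : IsArtinian _ A) (_ : IsArtinian _ C) =>
      isArtinian_of_range_eq_ker f g (LinearMap.exact_iff.1 hex).symm,
    fun A _ _ _ => inferInstanceAs (IsArtinian _ A)⟩
  have h0 : ∀ (X : GrLC.GMod.{u} 𝒜) [Module.Finite R X.carrier] (g : ℤ), GrLib8.HP m Φ X 0 g := fun X _ g F => by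
    obtain ⟨ι₀, hι, htors⟩ := GrLib8.exists_H0_piece (a := m) F g
    haveI := GrLib8.finite_comp 𝒜 hpos' X.gr g
    haveI : Module.Finite (GrLC.deg0 𝒜) (F.Hcomp m 0 g) := Module.Finite.of_injective ι₀ hι
    refine GrLib8.isArtinian_of_powerTorsion m0 fun y => ?_
    obtain ⟨k, hk⟩ := htors y
    refine ⟨k, fun r hr => hι ?_⟩
    rw [map_smul, map_zero]
    exact Subtype.ext (hk r (Ideal.le_comap_pow (GrLC.deg0 𝒜).subtype k hr))
  have hL : ∀ (i : ℕ) (X : GrLC.GMod.{u} 𝒜) [Module.Finite R X.carrier],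
      LocCoh.IsPowerTorsion (GrSyz.irrel 𝒜).toIdeal X.carrier → ∀ (g : ℤ), GrLib8.HP m Φ X i g := by
    intro i
    induction i with
    | zero => exact fun X _ _ g => h0 X g
    | succ i ih =>
      intro X _ hX g
      obtain ⟨T, Q, j, p, _, _, hT, hQ, hj, hp, hji, hps, hjp, -⟩ := GrLib8.exists_tors_seq m X
      refine GrLib8.hp_middle hΦ hj hp hji hps hjp (GrLib8.hp_of_hVan hΦ (GrLib8.hVan_of_torsion hT i _)) ?_
      have hQt : LocCoh.IsPowerTorsion (GrSyz.irrel 𝒜).toIdeal Q.carrier := fun q => by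
        obtain ⟨w, rfl⟩ := hps q
        obtain ⟨k, hk⟩ := hX w
        exact ⟨k, fun r hr => by rw [← map_smul, hk r hr, map_zero]⟩
      obtain ⟨x, hx, hxm, hreg⟩ := GrLib8.exists_regular_zero 𝒜 hpos' m hQt hQ
      obtain ⟨Y, π, _, hμ, hπg, hinj, hπ, hex, -⟩ := GrLib8.exists_regular_seq hx hreg
      have hYt : LocCoh.IsPowerTorsion (GrSyz.irrel 𝒜).toIdeal Y.carrier := fun q => by
        obtain ⟨w, rfl⟩ := hπ q
        obtain ⟨k, hk⟩ := hQt w
        exact ⟨k, fun r hr => by rw [← map_smul, hk r hr, map_zero]⟩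
      intro E
      obtain ⟨-, hi⟩ := GrLib8.exists_les _ π hμ hπg hinj hπ hex E E (GrLib8.starRes Y.gr) m
      obtain ⟨δ, hδ, -, -, e3⟩ := hi i
      let x0 : GrLC.deg0 𝒜 := ⟨x, hx⟩
      let ψ := GrLib8.pieceMap (GrLib8.starRes Y.gr) E m δ hδ (show g + -(0 : ℤ) = g by ring)
      haveI : IsArtinian (GrLC.deg0 𝒜) ((GrLib8.starRes Y.gr).Hcomp m i g) := ih Y hYt g _
      haveI : IsArtinian (GrLC.deg0 𝒜) (LinearMap.range ψ) :=
        isArtinian_of_surjective _ ψ.rangeRestrict ψ.surjective_rangeRestrict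
      refine LC.isArtinian_of_principal x0 (fun y => ?_) (isArtinian_of_le (t := LinearMap.range ψ) fun y hy => ?_)
      · obtain ⟨z, hz⟩ := GrLib8.toH_surj E m (i + 1) (y : E.H m (i + 1))
        obtain ⟨k, hk⟩ := z.2.1
        refine ⟨k, fun r hr => Subtype.ext ?_⟩
        rw [Ideal.span_singleton_pow, Ideal.mem_span_singleton'] at hr
        obtain ⟨c, rfl⟩ := hr
        show ((c : R) * x ^ k) • (y : E.H m (i + 1)) = 0
        rw [mul_smul, ← hz, ← map_smul, show x ^ k • z = 0 from Subtype.ext (hk _ (Ideal.pow_mem_pow hxm k)), map_zero,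
          smul_zero]
      · rw [Submodule.mem_torsionBySet_iff] at hy
        have hy0 : x • (y : E.H m (i + 1)) = 0 :=
          congrArg Subtype.val (hy ⟨x0, Ideal.mem_span_singleton_self x0⟩ :)
        have hy1 : GrLib8.hmap E E m _ hμ (i + 1) (y : E.H m (i + 1)) = 0 := by
          rw [GrLib8.hmap_smul_id m hμ hx]; exact hy0
        obtain ⟨w, hw, hwe⟩ := GrLib8.exists_preimage_Hgr _ _ m δ hδ y.2 ((e3 _).1 hy1)
        refine ⟨⟨w, ?_⟩, Subtype.ext hwe⟩
        rwa [show g - -(0 : ℤ) = g by ring] at hw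
  have hall := GrLib8.hp_all hpos' hΦ hirr h0 fun X _ hX i g => hL i X hX g
  let X := GrLib8.gmodPieces 𝒜 ℳ
  haveI : Module.Finite R X.carrier := inferInstanceAs (Module.Finite R M)
  obtain ⟨e⟩ := GrLib8.nonempty_piece_equiv E (GrLib8.starRes X.gr) m i n
  haveI : IsArtinian _ ((GrLib8.starRes X.gr).Hcomp m i n) := hall i X n (GrLib8.starRes X.gr)
  exact isArtinian_of_linearEquiv e.symm

end Groth.Agent.S17768
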