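import Groth.Statements.S17770
import Groth.Agent.GrLib8.SerreFormula
import Groth.Agent.GrLib8.StarLocalArt
import Groth.Agent.LC.CdDim
-- import your own Groth.Agent.* helpers here

set_option autoImplicit false
universe u
open BigOperators
open GrLC

namespace Groth.Agent.S17770

/-- Let R = ⊕_{n ≥ 0} R_n be a Noetherian positively ℤ-graded ring which is standard graded (irrelevant
ideal generated by R_1), with R_0 Artinian, *local with unique homogeneous maximal ideal m, and of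
Krull dimension d. Let M be a finitely generated graded R-module, H_M(n) = ℓ_{R_0}(M_n) its Hilbert
function and P_M ∈ ℚ[X] its Hilbert polynomial, i.e. a polynomial with P_M(n) = H_M(n) for all
sufficiently large n (taken as given). Then for every integer n, H_M(n) − P_M(n) = Σ_{i = 0}^{d}
(−1)^i ℓ_{R_0}(H^i_m(M)_n), where H^i_m(M)_n are the homogeneous pieces of graded local cohomology
with support in m computed from any *injective resolution of M (their lengths are finite, and the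
pieces vanish for i > d). -/
theorem result (R : Type u) [CommRing R] [IsNoetherianRing R] (𝒜 : ℤ → AddSubgroup R) [GradedRing 𝒜] (hpos : ∀ n : ℤ, n < 0 → 𝒜 n = ⊥) (hstd : Ideal.span (⋃ n ∈ Set.Ioi (0 : ℤ), (𝒜 n : Set R)) = Ideal.span ((𝒜 1 : AddSubgroup R) : Set R)) [IsArtinianRing (GrLC.deg0 𝒜)] (m : HomogeneousIdeal 𝒜) (hm : GrLC.IsStarLocal 𝒜 m) (d : ℕ) (hd : ringKrullDim R = d) (M : Type u) [AddCommGroup M] [Module R M] [Module.Finite R M] (ℳ : ℤ → AddSubgroup M) [DirectSum.Decomposition ℳ] [SetLike.GradedSMul 𝒜 ℳ] (E : GrLC.StarInjRes 𝒜 ℳ) (P : Polynomial ℚ) (hP : ∃ N : ℤ, ∀ n : ℤ, N ≤ n → P.eval (n : ℚ) = ((Module.length (GrLC.deg0 𝒜) (GrLC.comp 𝒜 ℳ n)).toNat : ℚ)) (n : ℤ) : ((Module.length (GrLC.deg0 𝒜) (GrLC.comp 𝒜 ℳ n)).toNat : ℚ) - P.eval (n : ℚ) = ∑ i ∈ Finset.range (d + 1), (-1 : ℚ) ^ i * ((Module.length (GrLC.deg0 𝒜) (E.Hcomp m i n)).toNat : ℚ) := by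
  classical
  let X := GrLib8.gmodPieces 𝒜 ℳ
  haveI : Module.Finite R X.carrier := inferInstanceAs (Module.Finite R M)
  have hd' : ∀ (Y : GrLC.GMod.{u} 𝒜) (i : ℕ) (g : ℤ), d < i → GrLib8.HVan m Y i g := fun Y i g hi F => by
    haveI : Subsingleton (LocCoh.H m.toIdeal i Y.carrier) := LC.cdLE_of_ringKrullDim_le m.toIdeal hd.le Y.carrier i hi
    obtain ⟨e⟩ := GrLib8.nonempty_H_equiv Y.gr F m i
    haveI := e.toEquiv.subsingleton
    exact GrLib8.Hcomp_eq_bot_of_subsingleton F m i g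
  obtain ⟨N, hN⟩ := hP
  have hP' : ∃ c : ℤ, ∀ g, c < g → P.eval (g : ℚ) = (GrLib8.lenN (S := GrLC.deg0 𝒜) (GrLC.comp 𝒜 X.gr g) : ℚ) :=
    ⟨N, fun g hg => (hN g hg.le).trans (congrArg Nat.cast (GrLib8.lenN_congr (LinearEquiv.refl _ _)))⟩
  have hform := GrLib8.formula (GrLib8.nonneg_of_bot hpos) (GrLib8.irrel_le_of_isStarLocal hpos hm)
    (GrLib8.exists_pow_le_irrel hpos hm) d hd' X P hP' n
  have hlen : ∀ i, (Module.length (GrLC.deg0 𝒜) (E.Hcomp m i n)).toNat = GrLib8.lenH m X i n := fun i => by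
    obtain ⟨e⟩ := GrLib8.nonempty_piece_equiv E (GrLib8.starRes X.gr) m i n
    exact GrLib8.lenN_congr e
  simp only [hlen]
  have hM : ((Module.length (GrLC.deg0 𝒜) (GrLC.comp 𝒜 ℳ n)).toNat : ℚ) =
      (GrLib8.lenN (S := GrLC.deg0 𝒜) (GrLC.comp 𝒜 X.gr n) : ℚ) := rfl
  rw [hM, ← hform, GrLib8.eulerH, sub_sub_cancel]
  push_cast
  rfl

end Groth.Agent.S17770
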