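import Groth.Statements.S17771
import Groth.Agent.GrLib8.StarDepth
import Groth.Agent.GrLib8.GamTransfer
import Groth.Agent.GrLib8.RegLC
import Groth.Agent.GrLib8.FilterInj
-- import your own Groth.Agent.* helpers here

set_option autoImplicit false
universe u
open GrLC

namespace Groth.Agent.S17771

/-- Let R = ⊕_{n ≥ 0} R_n be a positively ℤ-graded ring which is standard graded (irrelevant ideal
generated by R_1), with R_0 Artinian, *local with unique homogeneous maximal ideal m, and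
Cohen–Macaulay of Krull dimension d. Then the a-invariant of R is at least −d: the end (largest
nonzero degree) of the graded local cohomology module H^d_m(R), computed from any *injective
resolution of R in the graded category, is ≥ −d. (Equality holds exactly for polynomial rings
R_0[T_1, …, T_d]; that characterisation is not part of this statement.) -/
theorem result (R : Type u) [CommRing R] [LocCoh.IsCohenMacaulayRing R] (𝒜 : ℤ → AddSubgroup R) [GradedRing 𝒜] (hpos : ∀ n : ℤ, n < 0 → 𝒜 n = ⊥) (hstd : Ideal.span (⋃ n ∈ Set.Ioi (0 : ℤ), (𝒜 n : Set R)) = Ideal.span ((𝒜 1 : AddSubgroup R) : Set R)) [IsArtinianRing (GrLC.deg0 𝒜)] (m : HomogeneousIdeal 𝒜) (hm : GrLC.IsStarLocal 𝒜 m) (d : ℕ) (hd : ringKrullDim R = d) (I : GrLC.StarInjRes 𝒜 𝒜) : (((-(d : ℤ) : ℤ) : WithTop ℤ) : WithBot (WithTop ℤ)) ≤ GrLC.endDeg (I.Hgr m d) := by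
  classical
  by_contra hlt
  let X := GrLib8.gmodPieces 𝒜 𝒜
  haveI : Module.Finite R X.carrier := inferInstanceAs (Module.Finite R R)
  obtain ⟨k, hk⟩ := GrLib8.exists_pow_le_irrel hpos hm
  have hle := GrLib8.irrel_le_of_isStarLocal hpos hm
  have hv : ∀ p : ℕ, GrLib8.HVan (GrSyz.irrel 𝒜) X p (0 - (p : ℤ)) := fun p => by
    refine GrLib8.hVan_of_gam_eq (fun Y => (GrLib8.gam_eq_of_pow_le hle hk Y.carrier).symm)
      ((GrLib8.hVan_of_pieces_res I).2 ?_)
    rcases eq_or_ne p d with rfl | hne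
    · by_contra hb
      exact hlt (le_iSup₂_of_le (0 - (p : ℤ)) (fun h => hb ((GrLib8.Hgr_eq_bot_iff I m p _).1 h)) (by simp))
    · exact GrLib8.Hcomp_eq_bot_of_ne hpos hm hd hne I _
  have hirr : (GrSyz.irrel 𝒜).toIdeal = Ideal.span ((𝒜 1 : AddSubgroup R) : Set R) :=
    GrLib8.irrel_toIdeal_eq.trans hstd
  obtain ⟨T, hT, hTeq⟩ := Submodule.fg_span_iff_fg_span_finset_subset ((𝒜 1 : AddSubgroup R) : Set R) |>.1
    (IsNoetherian.noetherian (Ideal.span ((𝒜 1 : AddSubgroup R) : Set R)))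
  have hof : Ideal.ofList T.toList = (GrSyz.irrel 𝒜).toIdeal := by
    rw [hirr]
    refine Eq.trans ?_ hTeq.symm
    show Ideal.span _ = Ideal.span _
    congr 1
    ext y
    simp
  let o : X.carrier := (1 : R)
  have ho : o ∈ X.gr 0 := (SetLike.one_mem_graded 𝒜 : (1 : R) ∈ 𝒜 0)
  have h1 : o ∈ Ideal.ofList T.toList • (⊤ : Submodule R X.carrier) :=
    GrLib8.mem_smul_top_of_diagonal X T.toList (fun y hy => hT (Finset.mem_toList.1 hy)) hof.ge 0 hv o ho
  have h2 : (1 : R) ∈ (GrSyz.irrel 𝒜).toIdeal := by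
    rw [← hof]
    have h3 : (1 : R) ∈ Ideal.ofList T.toList • (⊤ : Submodule R R) := h1
    rwa [smul_eq_mul, Ideal.mul_top] at h3
  exact (GrLib8.isMaximal_of_isStarLocal hpos hm).ne_top ((Ideal.eq_top_iff_one _).2 (hle h2))

end Groth.Agent.S17771
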