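import Groth.Statements.S17772
import Groth.Agent.GrLib8.StarDepth
import Groth.Agent.S17770
-- import your own Groth.Agent.* helpers here

set_option autoImplicit false
universe u
open GrLC

namespace Groth.Agent.S17772

/-- Let R = ⊕_{n ≥ 0} R_n be a positively ℤ-graded ring which is standard graded (irrelevant ideal
generated by R_1), with R_0 Artinian, *local with unique homogeneous maximal ideal m, and
Cohen–Macaulay of Krull dimension d; let H_R(n) = ℓ_{R_0}(R_n) be its Hilbert function and P_R ∈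
ℚ[X] its Hilbert polynomial (a polynomial agreeing with H_R for all large n, taken as given). Then
the a-invariant of R, the largest degree in which H^d_m(R) is nonzero (computed from any *injective
resolution of R), equals the supremum of the integers n with P_R(n) ≠ H_R(n). (The published text
writes 'min' for this supremum; the set of such n is unbounded below whenever it is nonempty, e.g.
all n < 0 for a polynomial ring over a field, and the published one-line proof H_R(n) − P_R(n) =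
(−1)^d ℓ(H^d_m(R)_n) identifies the set with the nonzero degrees of H^d_m(R), whose largest element
is a(R).) -/
theorem result (R : Type u) [CommRing R] [LocCoh.IsCohenMacaulayRing R] (𝒜 : ℤ → AddSubgroup R) [GradedRing 𝒜] (hpos : ∀ n : ℤ, n < 0 → 𝒜 n = ⊥) (hstd : Ideal.span (⋃ n ∈ Set.Ioi (0 : ℤ), (𝒜 n : Set R)) = Ideal.span ((𝒜 1 : AddSubgroup R) : Set R)) [IsArtinianRing (GrLC.deg0 𝒜)] (m : HomogeneousIdeal 𝒜) (hm : GrLC.IsStarLocal 𝒜 m) (d : ℕ) (hd : ringKrullDim R = d) (I : GrLC.StarInjRes 𝒜 𝒜) (P : Polynomial ℚ) (hP : ∃ N : ℤ, ∀ n : ℤ, N ≤ n → P.eval (n : ℚ) = ((Module.length (GrLC.deg0 𝒜) (GrLC.comp 𝒜 𝒜 n)).toNat : ℚ)) : GrLC.endDeg (I.Hgr m d) = ⨆ (n : ℤ) (_ : P.eval (n : ℚ) ≠ ((Module.length (GrLC.deg0 𝒜) (GrLC.comp 𝒜 𝒜 n)).toNat : ℚ)), ((n : WithTop ℤ) : WithBot (WithTop ℤ)) := by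
  classical
  haveI : Module.Finite R R := Module.Finite.self R
  have hform : ∀ n : ℤ, ((Module.length (GrLC.deg0 𝒜) (GrLC.comp 𝒜 𝒜 n)).toNat : ℚ) - P.eval (n : ℚ) =
      (-1 : ℚ) ^ d * ((Module.length (GrLC.deg0 𝒜) (I.Hcomp m d n)).toNat : ℚ) := fun n => by
    rw [S17770.result R 𝒜 hpos hstd m hm d hd R 𝒜 I P hP n, Finset.sum_eq_single d]
    · intro i _ hi
      haveI := Submodule.subsingleton_iff_eq_bot.2 (GrLib8.Hcomp_eq_bot_of_ne hpos hm hd hi I n)
      rw [Module.length_eq_zero_iff.2 ‹_›]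
      simp
    · exact fun h => absurd (Finset.self_mem_range_succ d) h
  have hfin : ∀ n : ℤ, Module.length (GrLC.deg0 𝒜) (I.Hcomp m d n) ≠ ⊤ := fun n => by
    let X := GrLib8.gmodPieces 𝒜 𝒜
    haveI : Module.Finite R X.carrier := inferInstanceAs (Module.Finite R R)
    obtain ⟨e⟩ := GrLib8.nonempty_piece_equiv I (GrLib8.starRes X.gr) m d n
    haveI := GrLib8.finite_piece (GrLib8.nonneg_of_bot hpos) (GrLib8.irrel_le_of_isStarLocal hpos hm)
      (GrLib8.exists_pow_le_irrel hpos hm) X d n (GrLib8.starRes X.gr)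
    rw [e.length_eq]
    exact GrLib8.length_ne_top_of_finite _
  have key : ∀ n : ℤ, I.Hgr m d n ≠ ⊥ ↔
      P.eval (n : ℚ) ≠ ((Module.length (GrLC.deg0 𝒜) (GrLC.comp 𝒜 𝒜 n)).toNat : ℚ) := fun n => by
    rw [ne_eq, GrLib8.Hgr_eq_bot_iff, ← Submodule.subsingleton_iff_eq_bot, ← Module.length_eq_zero_iff (R := GrLC.deg0 𝒜), ne_comm, ← sub_ne_zero,
      hform n, mul_ne_zero_iff, Nat.cast_ne_zero, ne_eq, ne_eq, ENat.toNat_eq_zero, not_or]
    exact ⟨fun h => ⟨pow_ne_zero _ (by norm_num), h, hfin n⟩, fun h => h.2.1⟩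
  unfold GrLC.endDeg
  exact iSup_congr fun n => iSup_congr_Prop (key n) fun _ => rfl

end Groth.Agent.S17772
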