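import Groth.Agent.FlatCxLib.BoundedFlat
import Groth.Agent.H9Misc.TorBalance
import Groth.Statements.S17773
-- import your own Groth.Agent.* helpers here

set_option autoImplicit false
universe u
open CategoryTheory CategoryTheory.Limits
open CAlg

noncomputable section

namespace Groth.Agent.S17773

section helpers

open CategoryTheory.Limits MonoidalCategory ChainComplex HomologicalComplex

universe w v

variable {C : Type w} [Category.{v} C] [Abelian C]

set_option backward.isDefEq.respectTransparency.types false in
set_option backward.defeqAttrib.useBackward true in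
/-- A projective resolution maps to every resolution. -/
lemma exists_lift {Z : C} (P : ProjectiveResolution Z) (F : ChainComplex C ℕ)
    (φ : F ⟶ (ChainComplex.single₀ C).obj Z) [QuasiIso φ] : ∃ ψ : P.complex ⟶ F, ψ ≫ φ = P.π := by
  have hdπ : F.d 1 0 ≫ φ.f 0 = 0 := by rw [← φ.comm 1 0, single_obj_d, comp_zero]
  have hcol : IsColimit (CokernelCofork.ofπ (φ.f 0) hdπ) := by
    refine IsColimit.ofIsoColimit (F.opcyclesIsCokernel 1 0 (by simp)) ?_
    refine Cofork.ext (F.isoHomologyι₀.symm ≪≫ isoOfQuasiIsoAt φ 0 ≪≫
      singleObjHomologySelfIso _ _ _) ?_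
    rw [← cancel_mono (singleObjHomologySelfIso (ComplexShape.down ℕ) 0 _).inv,
      ← cancel_mono (ChainComplex.isoHomologyι₀ _).hom]
    dsimp
    simp only [ChainComplex.isoHomologyι₀_inv_naturality_assoc, p_opcyclesMap_assoc, ChainComplex.single₀_obj_zero,
      Category.assoc, Iso.hom_inv_id, Category.comp_id, isoHomologyι_inv_hom_id,
      singleObjHomologySelfIso_inv_homologyι, singleObjOpcyclesSelfIso_hom, single₀ObjXSelf, Iso.refl_inv,
      Category.id_comp]
  haveI : Epi (φ.f 0) := epi_of_isColimit_cofork hcol
  have hex0 : (ShortComplex.mk _ _ hdπ).Exact := ShortComplex.exact_of_g_is_cokernel _ hcol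
  have hexs : ∀ n, (ShortComplex.mk _ _ (F.d_comp_d (n + 2) (n + 1) n)).Exact := fun n =>
    ((HomologicalComplex.exactAt_iff' _ (n + 2) (n + 1) n) (by simp) (by simp)).1
      ((quasiIsoAt_iff_exactAt' φ (n + 1) (ChainComplex.exactAt_succ_single_obj _ _)).1 inferInstance)
  let f₀ : P.complex.X 0 ⟶ F.X 0 := Projective.factorThru (P.π.f 0) (φ.f 0)
  have h₀ : f₀ ≫ φ.f 0 = P.π.f 0 := Projective.factorThru_comp _ _
  let f₁ : P.complex.X 1 ⟶ F.X 1 := hex0.liftFromProjective (P.complex.d 1 0 ≫ f₀)
    ((Category.assoc _ _ _).trans ((congrArg (P.complex.d 1 0 ≫ ·) h₀).trans P.complex_d_comp_π_f_zero))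
  refine ⟨ChainComplex.mkHom _ _ f₀ f₁ (hex0.liftFromProjective_comp _ _) fun n p =>
    ⟨(hexs n).liftFromProjective (P.complex.d (n + 2) (n + 1) ≫ p.2.1) (by simp [p.2.2]),
      (hexs n).liftFromProjective_comp _ _⟩, ?_⟩
  ext
  simpa using h₀

end helpers

/-- Let R be a commutative ring, M and N two R-modules, and F a flat resolution of M: a chain complex F
of flat R-modules concentrated in non-negative degrees together with a quasi-isomorphism from F to M
placed in degree 0. Then for every i ≥ 0 the i-th homology module of the complex F ⊗_R N is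
isomorphic to Tor_i^R(M, N), the i-th left derived functor of − ⊗_R N evaluated at M (existence of
an isomorphism of R-modules). -/
theorem result (R : Type u) [CommRing R] (M N : Type u) [AddCommGroup M] [Module R M] [AddCommGroup N] [Module R N] (F : ChainComplex (ModuleCat.{u} R) ℕ) (hF : ∀ i : ℕ, Module.Flat R (F.X i)) (φ : F ⟶ (ChainComplex.single₀ (ModuleCat.{u} R)).obj (ModuleCat.of R M)) [QuasiIso φ] (i : ℕ) : Nonempty ((((MonoidalCategory.tensorRight (ModuleCat.of R N)).mapHomologicalComplex (ComplexShape.down ℕ)).obj F).homology i ≅ ((Tor' (ModuleCat.{u} R) i).obj (ModuleCat.of R M)).obj (ModuleCat.of R N)) := by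
  let P : ProjectiveResolution (ModuleCat.of R M) := ProjectiveResolution.of _
  obtain ⟨ψ, hψ⟩ := exists_lift P F φ
  haveI : QuasiIso (ψ ≫ φ) := by rw [hψ]; infer_instance
  haveI : QuasiIso ψ := quasiIso_of_comp_right ψ φ
  let G := MonoidalCategory.tensorRight (ModuleCat.of R N)
  haveI : QuasiIso (HomologicalComplex.extendMap ψ ComplexShape.embeddingDownNat) :=
    (HomologicalComplex.quasiIso_extendMap_iff ψ ComplexShape.embeddingDownNat).2 inferInstance
  have hflat : ∀ (K : ChainComplex (ModuleCat.{u} R) ℕ), (∀ j, Module.Flat R (K.X j)) →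
      ∀ i : ℤ, Module.Flat R ((K.extend ComplexShape.embeddingDownNat).X i) := fun K hK i => by
    by_cases h : ∃ j, ComplexShape.embeddingDownNat.f j = i
    · obtain ⟨j, hj⟩ := h
      haveI := hK j
      exact Module.Flat.of_linearEquiv (K.extendXIso ComplexShape.embeddingDownNat hj).toLinearEquiv
    · haveI := ModuleCat.subsingleton_of_isZero (K.isZero_extend_X ComplexShape.embeddingDownNat i
        (fun j hj => h ⟨j, hj⟩))
      infer_instance
  have hbd : ∀ (K : ChainComplex (ModuleCat.{u} R) ℕ) (i : ℤ), (0 : ℤ) < i →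
      Limits.IsZero ((K.extend ComplexShape.embeddingDownNat).X i) := fun K i hi =>
    K.isZero_extend_X ComplexShape.embeddingDownNat i fun j hj => by
      simp at hj; omega
  haveI hq := Groth.Agent.FlatCxLib.quasiIso_tensorRight (P.complex.extend ComplexShape.embeddingDownNat)
    (F.extend ComplexShape.embeddingDownNat)
    (hflat _ fun j => by haveI := (IsProjective.iff_projective _).2 (P.projective j); infer_instance)
    (hflat _ hF) (hbd _) (hbd _) (HomologicalComplex.extendMap ψ ComplexShape.embeddingDownNat) (ModuleCat.of R N)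
  have hn := Groth.Agent.H9Misc.TorBalance.mapExtendIso_natural G P.complex ψ
  let g := (G.mapHomologicalComplex (ComplexShape.down ℕ)).map ψ
  haveI : QuasiIso (HomologicalComplex.extendMap g ComplexShape.embeddingDownNat) := by
    have h1 : QuasiIso ((G.mapHomologicalComplex (ComplexShape.up ℤ)).map
      (HomologicalComplex.extendMap ψ ComplexShape.embeddingDownNat)) := hq
    have h2 : QuasiIso ((Groth.Agent.H9Misc.TorBalance.mapExtendIso G P.complex).hom ≫
        HomologicalComplex.extendMap g ComplexShape.embeddingDownNat) := by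
      rw [← hn]; infer_instance
    exact quasiIso_of_comp_left (Groth.Agent.H9Misc.TorBalance.mapExtendIso G P.complex).hom _
  haveI : QuasiIso g := (HomologicalComplex.quasiIso_extendMap_iff g ComplexShape.embeddingDownNat).1 inferInstance
  exact ⟨(asIso (HomologicalComplex.homologyMap g i)).symm ≪≫ (P.isoLeftDerivedObj G i).symm⟩

end Groth.Agent.S17773
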