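import Groth.Statements.S17776
import Groth.Agent.LC.ExtCechZero
import Mathlib.Algebra.Category.ModuleCat.Kernels
-- import your own Groth.Agent.* helpers here

set_option autoImplicit false
universe u
open CategoryTheory CategoryTheory.Limits
attribute [local instance] HasDerivedCategory.standard
open LocCoh

namespace Groth.Agent.S17776

/-- Let R be an arbitrary commutative ring, x_1, …, x_n a finite list of elements of R generating the
ideal I, and M an R-module. Then the degree-zero cohomology of the extended Čech complex 0 → M → ⊕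
M_{x_i} → ⊕ M_{x_i x_j} → ⋯ is isomorphic to Γ_I(M), the submodule of elements of M annihilated by
some power of I (existence of an isomorphism of R-modules; R need not be Noetherian). -/
theorem result (R : Type u) [CommRing R] (fs : List R) (M : Type u) [AddCommGroup M] [Module R M] : Nonempty (DerCA.extCechH fs (ModuleCat.of R M) 0 ≅ (DRing.gammaI (Ideal.span {x | x ∈ fs})).obj (ModuleCat.of R M)) := by
  open CategoryTheory CategoryTheory.Limits Groth.Agent.LC in
  let K := DerCA.extCech (ModuleCat.of R M) fs
  obtain ⟨e, he⟩ := ExtCech.exists_X0_iso (ModuleCat.of R M) fs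
  have hd : K.d (-1) 0 = 0 := (ExtCech.isZero_extCech_X_neg _ fs (-1) (by omega)).eq_of_src _ _
  let e1 : K.cycles 0 ≅ K.homology 0 := K.isoHomologyπ (-1) 0 (by simp) hd
  let e2 : K.cycles 0 ≅ ModuleCat.of R (LinearMap.ker (K.d 0 1).hom) :=
    IsLimit.conePointUniqueUpToIso (K.cyclesIsKernel 0 1 (by simp)) (ModuleCat.kernelIsLimit _)
  have hmap : (LinearMap.ker (K.d 0 1).hom).map e.toLinearEquiv.toLinearMap =
      DRing.torsionSub (Ideal.span {x : R | x ∈ fs}) M := by
    ext m
    rw [Submodule.mem_map, ExtCech.mem_torsionSub_span_iff]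
    constructor
    · rintro ⟨x, hx, rfl⟩
      exact (he x).1 hx
    · intro h
      refine ⟨e.toLinearEquiv.symm m, (he _).2 (fun f hf => ?_), e.toLinearEquiv.apply_symm_apply m⟩
      obtain ⟨k, hk⟩ := h f hf
      exact ⟨k, (congrArg (fun z : M => f ^ k • z) (e.toLinearEquiv.apply_symm_apply m)).trans hk⟩
  exact ⟨e1.symm ≪≫ e2 ≪≫ ((e.toLinearEquiv.submoduleMap _).trans (LinearEquiv.ofEq _ _ hmap)).toModuleIso⟩

end Groth.Agent.S17776
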