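import Groth.Statements.S17781
import Mathlib.Tactic.Linarith
import Mathlib.Tactic.Ring
import Mathlib.Tactic.Positivity
import Mathlib.Tactic.IntervalCases
import Mathlib.Algebra.Order.Chebyshev
import Mathlib.Algebra.Polynomial.Degree.Lemmas
import Mathlib.Algebra.Polynomial.Eval.Degree
import Mathlib.Algebra.Polynomial.Taylor
import Mathlib.Data.Nat.Choose.Lucas
import Mathlib.Data.Nat.Factorization.Basic

set_option autoImplicit false
open Variety

namespace Groth.Agent.S17781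


theorem not_dvd_choose_pred (p : ℕ) [hp : Fact p.Prime] :
    ∀ a m : ℕ, 0 < m → ¬ p ∣ (p ^ a * m - 1).choose (p ^ a - 1) := by
  intro a
  induction a with
  | zero => intro m _; simp [hp.out.ne_one]
  | succ a ih =>
    intro m hm h
    have key := Choose.choose_modEq_choose_mod_mul_choose_div_nat (n := p ^ (a + 1) * m - 1) (k := p ^ (a + 1) - 1) (p := p)
    have hp2 := hp.out.two_le
    have hdm : ∀ t : ℕ, 0 < t → (p * t - 1) % p = p - 1 ∧ (p * t - 1) / p = t - 1 := by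
      intro t ht
      obtain ⟨s, rfl⟩ : ∃ s, t = s + 1 := ⟨t - 1, by omega⟩
      have hs : p * (s + 1) - 1 = (p - 1) + p * s := by rw [Nat.mul_add, mul_one]; omega
      refine ⟨?_, ?_⟩
      · rw [hs, Nat.add_mul_mod_self_left, Nat.mod_eq_of_lt (by omega)]
      · rw [hs, Nat.add_mul_div_left _ _ (by omega), Nat.div_eq_of_lt (by omega)]; omega
    obtain ⟨h1, h2⟩ := hdm (p ^ a * m) (Nat.mul_pos (pow_pos hp.out.pos _) hm)
    obtain ⟨h3, h4⟩ := hdm (p ^ a) (pow_pos hp.out.pos _)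
    rw [← mul_assoc, ← pow_succ'] at h1 h2
    rw [← pow_succ'] at h3 h4
    rw [h1, h2, h3, h4, Nat.choose_self, one_mul] at key
    exact ih m hm ((Nat.ModEq.dvd_iff key dvd_rfl).1 h)

theorem choose_mul_eq (d n : ℕ) (hd : 0 < d) (hn : 0 < n) :
    d.choose n * n = d * (d - 1).choose (n - 1) := by
  obtain ⟨d, rfl⟩ : ∃ e, d = e + 1 := ⟨d - 1, by omega⟩
  obtain ⟨n, rfl⟩ : ∃ e, n = e + 1 := ⟨n - 1, by omega⟩
  simpa using (Nat.add_one_mul_choose_eq d n).symm

/-- Let d ≥ 1 and N ≥ 1 be integers and let I(d, N) be the greatest common divisor of the quotients d/δ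
over the divisors δ of d with 1 ≤ δ ≤ N. Then I(d, N) equals the greatest common divisor of the
integers χ(d, n) = 1 − (−1)^n C(d − 1, n) for 1 ≤ n ≤ N (χ(d, n) is the Euler characteristic of O_H
for a degree-d hypersurface H in projective n-space). Both greatest common divisors are taken in ℤ,
normalised to be non-negative. -/
theorem result (d N : ℕ) (hd : 1 ≤ d) (hN : 1 ≤ N) :
    (Finset.Icc 1 N).gcd (fun n => 1 - (-1 : ℤ) ^ n * ((d - 1).choose n : ℤ)) =
      ((Finset.Icc 1 N).filter (fun δ => δ ∣ d)).gcd (fun δ => ((d / δ : ℕ) : ℤ)) := by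
  classical
  set f : ℕ → ℤ := fun n => 1 - (-1 : ℤ) ^ n * ((d - 1).choose n : ℤ) with hf
  set G := (Finset.Icc 1 N).gcd f with hG
  set H := ((Finset.Icc 1 N).filter (fun δ => δ ∣ d)).gcd (fun δ => ((d / δ : ℕ) : ℤ)) with hH
  have hf0 : f 0 = 0 := by simp [hf]
  have hstep : ∀ n : ℕ, f (n + 1) - f n = (-1 : ℤ) ^ n * (d.choose (n + 1) : ℤ) := by
    intro n
    obtain ⟨e, rfl⟩ : ∃ e, d = e + 1 := ⟨d - 1, by omega⟩
    simp only [hf, add_tsub_cancel_right, Nat.choose_succ_succ', Nat.cast_add, pow_succ]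
    ring
  have hGf : ∀ n, n ≤ N → G ∣ f n := fun n hn => by
    rcases Nat.eq_zero_or_pos n with rfl | h
    · rw [hf0]; exact dvd_zero _
    · exact Finset.gcd_dvd (Finset.mem_Icc.2 ⟨h, hn⟩)
  have hGc : ∀ n, 0 < n → n ≤ N → G ∣ (d.choose n : ℤ) := by
    intro n hn hnN
    obtain ⟨n, rfl⟩ : ∃ e, n = e + 1 := ⟨n - 1, by omega⟩
    have h1 : G ∣ (-1 : ℤ) ^ n * (d.choose (n + 1) : ℤ) :=
      hstep n ▸ dvd_sub (hGf _ hnN) (hGf _ (by omega))
    have h2 : ((-1 : ℤ) ^ n) * ((-1 : ℤ) ^ n * (d.choose (n + 1) : ℤ)) = d.choose (n + 1) := by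
      rw [← mul_assoc, ← mul_pow]; simp
    exact h2 ▸ h1.mul_left _
  have hHc : ∀ n, 0 < n → n ≤ N → H ∣ (d.choose n : ℤ) := by
    intro n hn hnN
    have hg : 0 < n.gcd d := Nat.gcd_pos_of_pos_left _ hn
    refine (Finset.gcd_dvd (b := n.gcd d) ?_).trans (Int.natCast_dvd_natCast.2 ?_)
    · simp only [Finset.mem_filter, Finset.mem_Icc]
      exact ⟨⟨hg, (Nat.gcd_le_left _ hn).trans hnN⟩, Nat.gcd_dvd_right _ _⟩
    · have hco : (d / n.gcd d).Coprime (n / n.gcd d) := (Nat.coprime_div_gcd_div_gcd hg).symm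
      refine hco.dvd_of_dvd_mul_right ⟨(d - 1).choose (n - 1), ?_⟩
      have h := choose_mul_eq d n (by omega) hn
      apply Nat.eq_of_mul_eq_mul_left hg
      have e1 : n.gcd d * (n / n.gcd d) = n := Nat.mul_div_cancel' (Nat.gcd_dvd_left n d)
      have e2 : n.gcd d * (d / n.gcd d) = d := Nat.mul_div_cancel' (Nat.gcd_dvd_right n d)
      rw [← mul_assoc, ← mul_assoc, mul_assoc (n.gcd d) (d.choose n), mul_comm (d.choose n),
        ← mul_assoc, e1, e2, mul_comm n, h]
  have hHf : ∀ n, n ≤ N → H ∣ f n := by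
    intro n
    induction n with
    | zero => intro _; rw [hf0]; exact dvd_zero _
    | succ n ih =>
      intro hn
      rw [show f (n + 1) = f n + (-1 : ℤ) ^ n * (d.choose (n + 1) : ℤ) by rw [← hstep]; ring]
      exact dvd_add (ih (by omega)) ((hHc _ (by omega) hn).mul_left _)
  have h1 : H ∣ G := Finset.dvd_gcd fun n hn => hHf n (Finset.mem_Icc.1 hn).2
  have h2 : G ∣ H := by
    refine Finset.dvd_gcd fun δ hδ => ?_
    simp only [Finset.mem_filter, Finset.mem_Icc] at hδ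
    obtain ⟨⟨hδ1, hδN⟩, hδd⟩ := hδ
    rw [← Int.natAbs_dvd_natAbs, Int.natAbs_natCast]
    have hGd : G.natAbs ∣ d := by
      have := hGc 1 one_pos hN
      rw [Nat.choose_one_right] at this
      exact Int.ofNat_dvd_left.1 (dvd_trans (Int.natAbs_dvd.2 dvd_rfl) this) 
    refine (Nat.dvd_iff_prime_pow_dvd_dvd _ _).2 fun p k hp hpk => ?_
    haveI := Fact.mk hp
    obtain ⟨a, u, hu, rfl⟩ := Nat.exists_eq_pow_mul_and_not_dvd (show δ ≠ 0 by omega) p hp.ne_one
    have hpad : p ^ a ∣ d := (dvd_mul_right _ _).trans hδd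
    have hq : p ^ a ≤ N := (Nat.le_mul_of_pos_right _ (Nat.pos_of_ne_zero (by rintro rfl; simp at hu))).trans hδN
    have hc := choose_mul_eq d (p ^ a) (by omega) (pow_pos hp.pos _)
    have hnd : ¬ p ∣ (d - 1).choose (p ^ a - 1) := by
      have := not_dvd_choose_pred p a (d / p ^ a) (Nat.div_pos (Nat.le_of_dvd (by omega) hpad) (pow_pos hp.pos _))
      rwa [Nat.mul_div_cancel' hpad] at this
    have h3 : p ^ k ∣ d.choose (p ^ a) :=
      hpk.trans (Int.ofNat_dvd_left.1 (dvd_trans (Int.natAbs_dvd.2 dvd_rfl) (hGc _ (pow_pos hp.pos _) hq)))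
    have h4 : p ^ k * p ^ a ∣ d := by
      have : p ^ k * p ^ a ∣ d * (d - 1).choose (p ^ a - 1) := hc ▸ Nat.mul_dvd_mul_right h3 _
      rw [← pow_add] at this ⊢
      exact (Nat.Coprime.pow_left _ (hp.coprime_iff_not_dvd.2 hnd)).dvd_of_dvd_mul_right this
    rw [Nat.dvd_div_iff_mul_dvd hδd]
    have hco : (p ^ (a + k)).Coprime u := Nat.Coprime.pow_left _ (hp.coprime_iff_not_dvd.2 hu)
    have := hco.mul_dvd_of_dvd_of_dvd (by rwa [add_comm, pow_add]) ((dvd_mul_left u _).trans hδd)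
    calc p ^ a * u * p ^ k = p ^ (a + k) * u := by ring
      _ ∣ d := this
  have e1 : normalize G = G := Finset.normalize_gcd
  have e2 : normalize H = H := Finset.normalize_gcd
  rw [← e1, ← e2]
  exact normalize_eq_normalize h2 h1

end Groth.Agent.S17781
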