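import Groth.Statements.S17783
import Groth.Agent.DivEuler.Fibre
import Groth.Agent.DivEuler.Filt
import Groth.Agent.H26.FibreSeq
import Groth.Agent.RegBlow6.Geometry

set_option autoImplicit false
universe u
open CategoryTheory CategoryTheory.Limits AlgebraicGeometry
open Variety

set_option backward.isDefEq.respectTransparency false
set_option backward.isDefEq.respectTransparency.types false
set_option linter.style.haveILetI false

namespace Groth.Agent.S17783

/-- Let R be a discrete valuation ring with fraction field K, let 𝒳 be a normal scheme, proper and flat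
over Spec R, with generic fibre the K-scheme X, and let m ≥ 1 be an integer such that the special
fibre of 𝒳 is m times an effective Cartier divisor D, i.e. the ideal sheaf 𝔪_R · O_𝒳 of the special
fibre is the m-th power of the ideal sheaf of D. Then m divides the Euler characteristic χ(X, O_X).
(The published statement asks only that the special fibre be divisible by m as a Cartier divisor and
deduces from normality that the quotient divisor is effective; the divisor is taken effective here.) -/
theorem result (R : Type u) [CommRing R] [IsDomain R]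
    [IsDiscreteValuationRing R] (𝒳 : Scheme.{u}) (p : 𝒳 ⟶ Spec (CommRingCat.of R)) [IsProper p] [Flat p]
    (hn : Pi1.IsNormalScheme 𝒳) (X : Scheme.{u}) [X.Over (Spec (CommRingCat.of (FractionRing R)))]
    (hX : Models.IsModel R 𝒳 p X (X ↘ Spec (CommRingCat.of (FractionRing R)))) (m : ℕ) (hm : 1 ≤ m)
    (I : 𝒳.IdealSheafData) (hI : BlowUp.IsEffCartierIdeal I)
    (hIm : I ^ m = Models.specialFibreIdeal R (Over.mk p)) :
    (m : ℤ) ∣ Curv2.euler (FractionRing R) X (Coh.structureModule X) := by
  obtain ⟨-, -, -, g, hg⟩ := hX
  let k := IsLocalRing.ResidueField R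
  let i₀ : Spec (CommRingCat.of k) ⟶ Spec (CommRingCat.of R) :=
    Spec.map (CommRingCat.ofHom (IsLocalRing.residue R))
  haveI : IsClosedImmersion i₀ :=
    IsClosedImmersion.spec_of_surjective _ (IsLocalRing.residue_surjective (R := R))
  let Y := pullback p i₀
  letI : Y.Over (Spec (CommRingCat.of k)) := ⟨pullback.snd p i₀⟩
  haveI : IsProper (Y ↘ Spec (CommRingCat.of k)) := MorphismProperty.pullback_snd p i₀ ‹IsProper p›
  have hpt : i₀ (IsLocalRing.closedPoint k) = IsLocalRing.closedPoint R :=
    IsLocalRing.comap_closedPoint (IsLocalRing.residue R)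
  rw [Groth.Agent.DivEuler.euler_generic_eq_euler_closed p
    (Spec.map (CommRingCat.ofHom (algebraMap R (FractionRing R)))) g hg i₀ hpt (pullback.fst p i₀)
    (IsPullback.of_hasPullback p i₀)]
  haveI : IsLocallyNoetherian 𝒳 := LocallyOfFiniteType.isLocallyNoetherian p
  have hker : (pullback.fst p i₀).ker = I ^ m := by
    rw [hIm, Scheme.IdealSheafData.ker_fst_of_isClosedImmersion,
      show i₀.ker = Curv2.idealSheaf R (IsLocalRing.maximalIdeal R) from
        Groth.Agent.RegBlow6.ker_specMk (IsLocalRing.maximalIdeal R)]
    rfl
  obtain ⟨ϖ, hirr⟩ := IsDiscreteValuationRing.exists_irreducible R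
  haveI : Flat (Over.mk p).hom := ‹Flat p›
  obtain ⟨hz, hS⟩ := Groth.Agent.H26.FibreSeq.shortExact (Over.mk p) hirr.maximalIdeal_eq hirr.ne_zero
  refine Groth.Agent.DivEuler.dvd_euler k (pullback.fst p i₀) I hI m hm hker ?_
  rw [hIm]
  exact (IsLimit.conePointUniqueUpToIso hS.fIsKernel (kernelIsKernel _)).symm

end Groth.Agent.S17783
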