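import Groth.Statements.S19920
import Groth.Agent.H26.MultPoint
import Groth.Agent.H26.MultIndex
import Groth.Agent.H26.FibreQuot

set_option autoImplicit false
universe u
open CategoryTheory CategoryTheory.Limits AlgebraicGeometry
open Models

namespace Groth.Agent.S19920

/-- Let R be a discrete valuation ring that is Henselian, whose residue field k is algebraically closed,
with fraction field K, and let 𝒳 be an R-scheme of finite type, flat over R, whose generic fibre is
X (𝒳 is a model of the K-scheme X) and special fibre Y = 𝒳 ⊗_R k. Then the index of X over K (the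
greatest common divisor of the degrees of its closed points) divides the multiplicity of Y (the
greatest common divisor of the lengths of the local rings of Y at its points of codimension 0): for
every point η of Y which is maximal for specialization, the local ring O_{Y,η} has finite length ℓ
and ℓ lies in the subgroup of ℤ generated by the degrees of the closed points of X. -/
theorem result (R : Type u) [CommRing R]
    [IsDomain R] [IsDiscreteValuationRing R] [HenselianLocalRing R] (hk : IsAlgClosed (IsLocalRing.ResidueField R))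
    (X : Scheme.{u}) (f : X ⟶ Spec (CommRingCat.of (FractionRing R)))
    (𝒳 : Scheme.{u}) (p : 𝒳 ⟶ Spec (CommRingCat.of R)) (h𝒳 : Models.IsModel R 𝒳 p X f)
    (η : ↥(Models.specialFibre R 𝒳 p)) (hη : ∀ y : ↥(Models.specialFibre R 𝒳 p), y ⤳ η → y = η) :
    ∃ ℓ : ℕ, Module.length ((Models.specialFibre R 𝒳 p).presheaf.stalk η) ((Models.specialFibre R 𝒳 p).presheaf.stalk η) = ℓ ∧
      (ℓ : ℤ) ∈ Curv2.indexSubgroup f := by
  classical
  obtain ⟨hflat, hlft, -, g, hg⟩ := h𝒳
  haveI := hflat
  haveI := hlft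
  haveI : LocallyOfFiniteType f := MorphismProperty.of_isPullback hg hlft
  haveI := hk
  obtain ⟨ϖ, hϖirr⟩ := IsDiscreteValuationRing.exists_irreducible R
  have hϖ : IsLocalRing.maximalIdeal R = Ideal.span {ϖ} := hϖirr.maximalIdeal_eq
  let i := Spec.map (CommRingCat.ofHom (IsLocalRing.residue R))
  haveI : IsClosedImmersion i :=
    IsClosedImmersion.spec_of_surjective _ (IsLocalRing.residue_surjective (R := R))
  let q : Models.specialFibre R 𝒳 p ⟶ 𝒳 := pullback.fst p i
  haveI : IsClosedImmersion q := inferInstanceAs (IsClosedImmersion (pullback.fst p i))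
  obtain ⟨U, hU, hξU, -⟩ := exists_isAffineOpen_mem_and_subset (x := q η) (U := ⊤) trivial
  let φ : R →+* Γ(𝒳, U) := (p.appLE ⊤ U le_top).hom.comp (Scheme.ΓSpecIso (CommRingCat.of R)).inv.hom
  algebraize [φ]
  haveI : Algebra.FiniteType R Γ(𝒳, U) := by
    refine RingHom.finiteType_algebraMap.1 ?_
    exact (HasRingHomProperty.appLE @LocallyOfFiniteType p hlft ⟨⊤, isAffineOpen_top _⟩ ⟨U, hU⟩ le_top).comp
      (RingHom.FiniteType.of_surjective _
        (Scheme.ΓSpecIso (CommRingCat.of R)).commRingCatIsoToRingEquiv.symm.surjective)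
  haveI : Module.Flat R Γ(𝒳, U) := by
    refine RingHom.flat_algebraMap_iff.1 ?_
    exact (RingHom.Flat.of_bijective
      (Scheme.ΓSpecIso (CommRingCat.of R)).commRingCatIsoToRingEquiv.symm.bijective).comp
      (HasRingHomProperty.appLE @Flat p hflat ⟨⊤, isAffineOpen_top _⟩ ⟨U, hU⟩ le_top)
  have hcomm : hU.fromSpec ≫ p = Spec.map (CommRingCat.ofHom (algebraMap R Γ(𝒳, U))) := by
    have h1 := IsAffineOpen.SpecMap_appLE_fromSpec p (isAffineOpen_top (Spec (CommRingCat.of R))) hU
      (le_top : U ≤ p ⁻¹ᵁ ⊤)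
    rw [← h1, IsAffineOpen.fromSpec_top, Scheme.isoSpec_Spec_inv, ← Spec.map_comp]
    rfl
  let P := hU.primeIdealOf ⟨q η, hξU⟩
  haveI : P.asIdeal.IsPrime := P.isPrime
  have hpt : ∀ Q : Spec Γ(𝒳, U), hU.fromSpec Q ∈ Set.range q ↔ algebraMap R Γ(𝒳, U) ϖ ∈ Q.asIdeal := by
    intro Q
    have h0 : p (hU.fromSpec Q) = Spec.map (CommRingCat.ofHom (algebraMap R Γ(𝒳, U))) Q := by
      rw [← hcomm]; rfl
    show _ ∈ Set.range (pullback.fst p i) ↔ _
    erw [Scheme.Pullback.range_fst, Set.mem_preimage, h0]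
    constructor
    · rintro ⟨c, hc⟩
      have hc' : c = IsLocalRing.closedPoint (IsLocalRing.ResidueField R) :=
        Subsingleton.elim (α := PrimeSpectrum (IsLocalRing.ResidueField R)) _ _
      have h := congrArg PrimeSpectrum.asIdeal hc
      have hmem : ϖ ∈ (i c).asIdeal := by
        show IsLocalRing.residue R ϖ ∈ c.asIdeal
        rw [(IsLocalRing.residue_eq_zero_iff ϖ).2 (hϖ ▸ Ideal.mem_span_singleton_self ϖ)]
        exact zero_mem _
      rw [h] at hmem
      exact hmem
    · intro h
      refine ⟨IsLocalRing.closedPoint _, PrimeSpectrum.ext ?_⟩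
      have hle : IsLocalRing.maximalIdeal R ≤ Q.asIdeal.comap (algebraMap R Γ(𝒳, U)) := by
        rw [hϖ, Ideal.span_singleton_le_iff_mem]; exact h
      show Ideal.comap (IsLocalRing.residue R) (IsLocalRing.maximalIdeal _) = Q.asIdeal.comap (algebraMap R Γ(𝒳, U))
      rw [← (IsLocalRing.maximalIdeal.isMaximal R).eq_of_le (Q.isPrime.comap _).ne_top hle]
      exact IsLocalRing.eq_maximalIdeal (Ideal.comap_isMaximal_of_surjective _ IsLocalRing.residue_surjective)
  have hPw : algebraMap R Γ(𝒳, U) ϖ ∈ P.asIdeal := (hpt P).1 ⟨η, (hU.fromSpec_primeIdealOf ⟨q η, hξU⟩).symm⟩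
  have hPq : hU.fromSpec P = q η := hU.fromSpec_primeIdealOf ⟨q η, hξU⟩
  have hP : P.asIdeal ∈ (Ideal.span {algebraMap R Γ(𝒳, U) ϖ}).minimalPrimes := by
    refine ⟨⟨P.isPrime, (Ideal.span_singleton_le_iff_mem _).2 hPw⟩, fun Q ⟨hQ, hQw⟩ hle => ?_⟩
    obtain ⟨y, hy⟩ := (hpt ⟨Q, hQ⟩).2 (hQw (Ideal.mem_span_singleton_self _))
    have hsp : (⟨Q, hQ⟩ : Spec Γ(𝒳, U)) ⤳ P := (PrimeSpectrum.le_iff_specializes _ _).1 hle
    have hsp' : q y ⤳ q η := by
      rw [hy, ← hPq]
      exact hsp.map hU.fromSpec.continuous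
    have hyη := hη y (q.isEmbedding.isInducing.specializes_iff.1 hsp')
    rw [hyη, ← hPq] at hy
    have h := hU.fromSpec.isOpenEmbedding.injective hy
    show P.asIdeal ≤ Q
    exact le_of_eq (congrArg PrimeSpectrum.asIdeal h)
  obtain ⟨E, hEr, hEa, a, hEfin, hEfree, hlen⟩ :=
    Groth.Agent.H26.MultPoint.exists_finite_free_point R hϖ Γ(𝒳, U) P.asIdeal hP
  refine ⟨Module.finrank R E, ?_, ?_⟩
  · letI := TopCat.Presheaf.algebra_section_stalk 𝒳.presheaf (⟨q η, hξU⟩ : U)
    haveI : IsLocalization.AtPrime (𝒳.presheaf.stalk (q η)) P.asIdeal := hU.isLocalization_stalk ⟨q η, hξU⟩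
    let e := IsLocalization.algEquiv P.asIdeal.primeCompl (Localization.AtPrime P.asIdeal) (𝒳.presheaf.stalk (q η))
    have hker : RingHom.ker (q.stalkMap η).hom =
        (Ideal.span {algebraMap R (Localization.AtPrime P.asIdeal) ϖ}).map e.toRingEquiv.toRingHom := by
      refine (Groth.Agent.H26.FibreQuot.ker_stalkMap_residue p η).trans ?_
      rw [hϖ, Ideal.map_span, Set.image_singleton, Ideal.map_span, Set.image_singleton]
      refine congrArg (fun t => Ideal.span {t}) ?_
      show _ = e (algebraMap R (Localization.AtPrime P.asIdeal) ϖ)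
      rw [IsScalarTower.algebraMap_apply R Γ(𝒳, U) (Localization.AtPrime P.asIdeal), e.commutes]
      show (𝒳.presheaf.germ ⊤ (q η) trivial).hom (Coh.toGlobal p ϖ) =
        (𝒳.presheaf.germ U (q η) hξU).hom ((p.appLE ⊤ U le_top).hom ((Scheme.ΓSpecIso (CommRingCat.of R)).inv.hom ϖ))
      rw [Scheme.Hom.appLE, CommRingCat.comp_apply, TopCat.Presheaf.germ_res_apply]
      rfl
    let ψ : Localization.AtPrime P.asIdeal ⧸ Ideal.span {algebraMap R (Localization.AtPrime P.asIdeal) ϖ} ≃+*
        (Models.specialFibre R 𝒳 p).presheaf.stalk η :=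
      (Ideal.quotientEquiv _ _ e.toRingEquiv hker).trans
        (RingHom.quotientKerEquivOfSurjective (q.stalkMap_surjective η))
    letI := ψ.toRingHom.toAlgebra
    rw [← hlen, ← Module.length_eq_of_surjective
      (S := Localization.AtPrime P.asIdeal ⧸ Ideal.span {algebraMap R (Localization.AtPrime P.asIdeal) ϖ})
      (R := (Models.specialFibre R 𝒳 p).presheaf.stalk η) ψ.surjective]
    exact ((LinearEquiv.ofBijective (Algebra.linearMap
      (Localization.AtPrime P.asIdeal ⧸ Ideal.span {algebraMap R (Localization.AtPrime P.asIdeal) ϖ})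
      ((Models.specialFibre R 𝒳 p).presheaf.stalk η)) ψ.bijective).length_eq).symm
  · let EK := TensorProduct R (FractionRing R) E
    let j : Spec (CommRingCat.of EK) ⟶ 𝒳 :=
      Spec.map (CommRingCat.ofHom ((Algebra.TensorProduct.includeRight : E →ₐ[R] EK).comp a).toRingHom) ≫ hU.fromSpec
    have hj : j ≫ p = Spec.map (CommRingCat.ofHom (algebraMap (FractionRing R) EK)) ≫
        Spec.map (CommRingCat.ofHom (algebraMap R (FractionRing R))) := by
      rw [Category.assoc, hcomm, ← Spec.map_comp, ← Spec.map_comp, ← CommRingCat.ofHom_comp,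
        ← CommRingCat.ofHom_comp]
      refine congrArg (fun t => Spec.map (CommRingCat.ofHom t)) ?_
      rw [AlgHom.toRingHom_eq_coe, AlgHom.comp_algebraMap, ← IsScalarTower.algebraMap_eq]
    rw [← Module.finrank_baseChange (R := FractionRing R) (S := R) (M' := E)]
    exact Groth.Agent.H26.MultIndex.finrank_mem_of_finite f EK (hg.lift j _ hj) (hg.lift_snd j _ hj)

end Groth.Agent.S19920
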