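import Groth.Statements.S17784
import Groth.Agent.MultRoot.Root
import Groth.Agent.S19920
import Groth.Agent.S17783
import Groth.Agent.Pi1Birat.Basic
import Groth.Agent.Lib.EulerEtale
-- import your own Groth.Agent.* helpers here

set_option autoImplicit false
universe u
open CategoryTheory CategoryTheory.Limits AlgebraicGeometry
open Variety

namespace Groth.Agent.S17784

/-- Suppose R is a discrete valuation ring that is Henselian, whose residue field is algebraically
closed, and write K for its fraction field; let X be a regular proper K-scheme which admits a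
regular proper model over R (a flat finite-type R-scheme, proper over R and with all local rings
regular, whose generic fibre is X). Then the index of X over K divides χ(X, O_X): the Euler
characteristic of the structure sheaf lies in the subgroup of ℤ generated by the degrees of the
closed points of X. -/
theorem result (R : Type u) [CommRing R]
    [IsDomain R] [IsDiscreteValuationRing R] [HenselianLocalRing R] (hk : IsAlgClosed (IsLocalRing.ResidueField R))
    (X : Scheme.{u}) [X.Over (Spec (CommRingCat.of (FractionRing R)))] [IsProper (X ↘ Spec (CommRingCat.of (FractionRing R)))] (hXreg : Models.IsRegularScheme X)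
    (𝒳 : Scheme.{u}) (p : 𝒳 ⟶ Spec (CommRingCat.of R)) (h𝒳 : Models.IsRegularProperModel R 𝒳 p X (X ↘ Spec (CommRingCat.of (FractionRing R)))) :
    Curv2.euler (FractionRing R) X (Coh.structureModule X) ∈ Curv2.indexSubgroup (X ↘ Spec (CommRingCat.of (FractionRing R))) := by
  obtain ⟨hmod, hproper, hreg⟩ := h𝒳
  haveI := hproper
  haveI : Flat p := hmod.1
  let f := X ↘ Spec (CommRingCat.of (FractionRing R))
  obtain ⟨a, ha⟩ := Int.subgroup_cyclic (Curv2.indexSubgroup f)
  have hmem : ∀ z : ℤ, z ∈ Curv2.indexSubgroup f ↔ a.natAbs ∣ z.natAbs := fun z => by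
    rw [ha, Int.natAbs_dvd_natAbs, AddSubgroup.mem_closure_singleton]
    exact ⟨fun ⟨n, hn⟩ => ⟨n, by rw [← hn, smul_eq_mul, mul_comm]⟩,
      fun ⟨n, hn⟩ => ⟨n, by rw [hn, smul_eq_mul, mul_comm]⟩⟩
  rcases Nat.eq_zero_or_pos a.natAbs with h0 | hpos
  · -- no closed points, so `X` is empty
    haveI : JacobsonSpace X := LocallyOfFiniteType.jacobsonSpace f
    haveI : IsEmpty X := ⟨fun x => by
      obtain ⟨z, -, hz⟩ := nonempty_inter_closedPoints (X := X) (Z := Set.univ) ⟨x, trivial⟩ isClosed_univ.isLocallyClosed
      have h := (hmem (f.residueDegree z)).1 (AddSubgroup.subset_closure ⟨z, hz, rfl⟩)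
      rw [h0, zero_dvd_iff, Int.natAbs_natCast] at h
      exact Groth.Agent.MultRoot.residueDegree_ne_zero f hz h⟩
    rw [Groth.Agent.EulerEtale.euler_of_support_eq_empty _
      (Set.eq_empty_of_forall_notMem fun x => isEmptyElim x)]
    exact zero_mem _
  · have hg : ∀ η : ↥(Models.specialFibre R 𝒳 p), (∀ z : ↥(Models.specialFibre R 𝒳 p), z ⤳ η → z = η) →
        ∃ l : ℕ, Module.length ((Models.specialFibre R 𝒳 p).presheaf.stalk η)
          ((Models.specialFibre R 𝒳 p).presheaf.stalk η) = l ∧ a.natAbs ∣ l := fun η hη => by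
      obtain ⟨l, hl, hl'⟩ := Groth.Agent.S19920.result R hk X f 𝒳 p hmod η hη
      exact ⟨l, hl, by simpa using (hmem l).1 hl'⟩
    haveI : LocallyOfFiniteType p := hmod.2.1
    haveI : CompactSpace 𝒳 := QuasiCompact.compactSpace_of_compactSpace p
    obtain ⟨I, hI, hIg⟩ := Groth.Agent.MultRoot.exists_root p hreg a.natAbs hg
    have h := Groth.Agent.S17783.result R 𝒳 p (Groth.Agent.Pi1Birat.isNormal_of_regular hreg) X hmod
      a.natAbs hpos I hI hIg
    exact (hmem _).2 (Int.natCast_dvd.1 h)

end Groth.Agent.S17784
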