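import Groth.Statements.S17785
import Mathlib
import Groth.Agent.KrullAkiExt.Basic

set_option autoImplicit false
set_option linter.style.haveILetI false
universe u
open Variety

namespace Groth.Agent.S17785


open Polynomial

/-- If a number divides all multiplicities of `a` then `a` is a unit times a power. -/
theorem exists_unit_mul_pow {S : Type*} [CommRing S] [IsDomain S] [UniqueFactorizationMonoid S] (I : ℕ)
    (hI : I ≠ 0) (a : S) :
    a ≠ 0 → (∀ p, Prime p → I ∣ multiplicity p a) → ∃ (u : Sˣ) (z : S), a = u * z ^ I := by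
  refine UniqueFactorizationMonoid.induction_on_coprime a (fun h => absurd rfl h)
    (fun hx _ _ => ⟨hx.unit, 1, by simp⟩) (fun {p} i hp _ h => ?_) (fun {x y} hxy hx hy h0 h => ?_)
  · have := h p hp
    rw [multiplicity_pow_self_of_prime hp] at this
    obtain ⟨c, rfl⟩ := this
    exact ⟨1, p ^ c, by rw [Units.val_one, one_mul, ← pow_mul, mul_comm]⟩
  · obtain ⟨hx0, hy0⟩ := mul_ne_zero_iff.1 h0
    have hsplit : ∀ p, Prime p → I ∣ multiplicity p x ∧ I ∣ multiplicity p y := by
      intro p hp
      have := h p hp
      rw [multiplicity_mul hp (FiniteMultiplicity.of_prime_left hp h0)] at this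
      rcases (not_and_or.1 fun hc : p ∣ x ∧ p ∣ y => hp.not_isUnit (hxy hc.1 hc.2)) with hn | hn
      · rw [multiplicity_eq_zero.2 hn, zero_add] at this
        exact ⟨by rw [multiplicity_eq_zero.2 hn]; exact dvd_zero _, this⟩
      · rw [multiplicity_eq_zero.2 hn, add_zero] at this
        exact ⟨this, by rw [multiplicity_eq_zero.2 hn]; exact dvd_zero _⟩
    obtain ⟨u, z, rfl⟩ := hx hx0 fun p hp => (hsplit p hp).1
    obtain ⟨v, w, rfl⟩ := hy hy0 fun p hp => (hsplit p hp).2
    exact ⟨u * v, z * w, by push_cast; ring⟩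

theorem isPrincipalIdealRing_integralClosure (R : Type u) [CommRing R] [IsDomain R]
    [IsDiscreteValuationRing R] (K : Type u) [Field K] [Algebra R K] [IsFractionRing R K] (ϖ : R)
    (hϖ : Irreducible ϖ) (L : Type u) [Field L] [Algebra K L] [FiniteDimensional K L] [Algebra R L]
    [IsScalarTower R K L] :
    IsPrincipalIdealRing (integralClosure R L) := by
  let S := integralClosure R L
  have hinj : Function.Injective (algebraMap R S) := fun a b h => IsFractionRing.injective R K
    ((algebraMap K L).injective (by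
      rw [← IsScalarTower.algebraMap_apply, ← IsScalarTower.algebraMap_apply]
      exact congrArg Subtype.val h))
  haveI : IsNoetherianRing S :=
    Groth.Agent.KrullAkiExt.isNoetherianRing_of_injective (R := R) (K := K) L S Subtype.val_injective
  haveI : IsIntegrallyClosed S := integralClosure.isIntegrallyClosedOfFiniteExtension K
  haveI : Algebra.IsIntegral R S := IsIntegralClosure.isIntegral_algebra R L
  have hcomap : ∀ P : Ideal S, P ≠ ⊥ → P.IsPrime → P.comap (algebraMap R S) = IsLocalRing.maximalIdeal R := by
    intro P hP hPp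
    have hne : P.comap (algebraMap R S) ≠ ⊥ := mt Ideal.eq_bot_of_comap_eq_bot hP
    haveI := Ideal.comap_isPrime (algebraMap R S) P
    exact IsLocalRing.eq_maximalIdeal ((inferInstance : (P.comap (algebraMap R S)).IsPrime).isMaximal hne)
  haveI : Ring.DimensionLEOne S := ⟨fun {P} hP hPp => by
    haveI := hPp
    exact Ideal.isMaximal_of_isIntegral_of_isMaximal_comap (R := R) P
      ((hcomap P hP hPp).symm ▸ IsLocalRing.maximalIdeal.isMaximal R)⟩
  haveI : IsDedekindDomain S := {}
  refine IsPrincipalIdealRing.of_finite_maximals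
    (((Ideal.finite_minimalPrimes_of_isNoetherianRing S (Ideal.span {algebraMap R S ϖ})).union
      (Set.finite_singleton ⊥)).subset fun P hP => ?_)
  by_cases hP0 : P = ⊥
  · exact Or.inr hP0
  refine Or.inl ?_
  have hmem : algebraMap R S ϖ ∈ P := by
    show ϖ ∈ P.comap (algebraMap R S)
    rw [hcomap P hP0 hP.isPrime]
    exact (IsLocalRing.mem_maximalIdeal _).2 hϖ.not_isUnit
  refine ⟨⟨hP.isPrime, (Ideal.span_singleton_le_iff_mem _).2 hmem⟩, fun Q hQ hQP => ?_⟩
  have hQ0 : Q ≠ ⊥ := fun h => hϖ.ne_zero (hinj (by
    rw [map_zero]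
    have := hQ.2 (Ideal.mem_span_singleton_self _)
    rwa [h, Ideal.mem_bot] at this))
  haveI := hQ.1
  exact ((hQ.1.isMaximal hQ0).eq_of_le hP.ne_top hQP).ge

/-- Let R be a discrete valuation ring with fraction field K and uniformizer π, and let d, N ≥ 1.
Consider the hypersurface X in projective N-space over K defined by x_0^d = π x_1^d + π^2 x_2^d + ⋯
+ π^N x_N^d. Its index over K — the greatest common divisor of the degrees of its closed points,
equivalently of the degrees [L : K] of the finite field extensions L over which the equation has a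
non-zero solution — equals I(d, N), the greatest common divisor of the quotients d/δ over the
divisors δ of d with 1 ≤ δ ≤ N. Stated as an equality of subgroups of ℤ: the subgroup generated by
those degrees [L : K] is the subgroup generated by I(d, N). -/
theorem result (R : Type u) [CommRing R] [IsDomain R]
    [IsDiscreteValuationRing R] (K : Type u) [Field K] [Algebra R K] [IsFractionRing R K]
    (ϖ : R) (hϖ : Irreducible ϖ) (d N : ℕ) (hd : 1 ≤ d) (hN : 1 ≤ N) :
    AddSubgroup.closure {m : ℤ | ∃ (L : Type u) (_ : Field L) (_ : Algebra K L),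
        FiniteDimensional K L ∧ m = (Module.finrank K L : ℤ) ∧
        ∃ x : Fin (N + 1) → L, x ≠ 0 ∧
          x 0 ^ d = ∑ i : Fin N, algebraMap K L (algebraMap R K (ϖ ^ ((i : ℕ) + 1))) * x i.succ ^ d} =
      AddSubgroup.zmultiples ((((Finset.Icc 1 N).filter (fun δ => δ ∣ d)).gcd (fun δ => d / δ) : ℕ) : ℤ) := by
  set I := ((Finset.Icc 1 N).filter (fun δ => δ ∣ d)).gcd (fun δ => d / δ) with hIdef
  have hI : I ≠ 0 := fun h => by
    have := Finset.gcd_eq_zero_iff.1 h 1 (Finset.mem_filter.2 ⟨Finset.mem_Icc.2 ⟨le_rfl, hN⟩, one_dvd d⟩)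
    rw [Nat.div_one] at this
    omega
  refine le_antisymm ((AddSubgroup.closure_le _).2 ?_) ?_
  · rintro m ⟨L, _, _, hfin, rfl, x, hx, heq⟩
    rw [SetLike.mem_coe, Int.mem_zmultiples_iff, Int.natCast_dvd_natCast]
    letI : Algebra R L := ((algebraMap K L).comp (algebraMap R K)).toAlgebra
    haveI : IsScalarTower R K L := .of_algebraMap_eq' rfl
    let S := integralClosure R L
    haveI : IsPrincipalIdealRing S := isPrincipalIdealRing_integralClosure R K ϖ hϖ L
    haveI : IsFractionRing S L := integralClosure.isFractionRing_of_finite_extension K L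
    obtain ⟨b, hb⟩ := IsLocalization.exist_integer_multiples (nonZeroDivisors S) Finset.univ x
    choose y hy using fun i => hb i (Finset.mem_univ i)
    have hb0 : algebraMap S L b ≠ 0 := IsFractionRing.to_map_ne_zero_of_mem_nonZeroDivisors b.2
    let π : S := algebraMap R S ϖ
    have hπ0 : π ≠ 0 := fun h => hϖ.ne_zero (IsFractionRing.injective R K ((algebraMap K L).injective (by
      rw [map_zero, map_zero, ← IsScalarTower.algebraMap_apply]
      exact congrArg Subtype.val h)))
    let T : Fin (N + 1) → S := fun i => π ^ (i : ℕ) * y i ^ d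
    have hT : T 0 = ∑ i : Fin N, T i.succ := by
      refine Subtype.val_injective ?_
      show algebraMap S L (T 0) = algebraMap S L _
      simp only [T, Fin.val_zero, pow_zero, one_mul, map_sum, map_mul, map_pow, Fin.val_succ]
      rw [hy, Algebra.smul_def, mul_pow, heq, Finset.mul_sum]
      refine Finset.sum_congr rfl fun i _ => ?_
      rw [hy, Algebra.smul_def, mul_pow, map_pow]
      simp only [π, ← IsScalarTower.algebraMap_apply R S L, map_pow]
      rw [← IsScalarTower.algebraMap_apply R K L]
      ring
    have hy0 : ∀ i, x i ≠ 0 → T i ≠ 0 := fun i hi => mul_ne_zero (pow_ne_zero _ hπ0) (pow_ne_zero _ fun h => by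
      have := hy i
      rw [h, map_zero, Algebra.smul_def, eq_comm] at this
      exact hi ((mul_eq_zero.1 this).resolve_left hb0))
    have key : ∀ p : S, Prime p → I ∣ multiplicity p π := by
      intro p hp
      classical
      let M : Finset (Fin (N + 1)) := Finset.univ.filter fun i => T i ≠ 0
      obtain ⟨i₀, hi₀⟩ := Function.ne_iff.1 hx
      obtain ⟨i, hi, hmin⟩ := Finset.exists_min_image M (fun i => multiplicity p (T i))
        ⟨i₀, Finset.mem_filter.2 ⟨Finset.mem_univ _, hy0 _ hi₀⟩⟩
      have hTi : T i ≠ 0 := (Finset.mem_filter.1 hi).2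
      have hfi := FiniteMultiplicity.of_prime_left hp hTi
      obtain ⟨j, hji, hTj, hj⟩ : ∃ j, j ≠ i ∧ T j ≠ 0 ∧ multiplicity p (T j) = multiplicity p (T i) := by
        by_contra! hne
        have hdvd : ∀ j, j ≠ i → p ^ (multiplicity p (T i) + 1) ∣ T j := fun j hj => by
          by_cases hTj : T j = 0
          · rw [hTj]; exact dvd_zero _
          · exact pow_dvd_of_le_multiplicity (Nat.lt_of_le_of_ne
              (hmin j (Finset.mem_filter.2 ⟨Finset.mem_univ _, hTj⟩)) (hne j hj hTj).symm)
        have h1 : p ^ (multiplicity p (T i) + 1) ∣ T i := by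
          rcases Fin.eq_zero_or_eq_succ i with rfl | ⟨i', rfl⟩
          · exact (congrArg (p ^ _ ∣ ·) hT).mpr (Finset.dvd_sum fun j _ => hdvd _ (Fin.succ_ne_zero j))
          · rw [← Finset.add_sum_erase _ (fun j => T j.succ) (Finset.mem_univ i')] at hT
            have h0 := hdvd 0 (Fin.succ_ne_zero i').symm
            rw [hT] at h0
            refine (dvd_add_left (Finset.dvd_sum fun j hj => hdvd _ ?_)).1 h0
            exact fun h => (Finset.mem_erase.1 hj).1 (Fin.succ_injective _ h)
        exact absurd (hfi.pow_dvd_iff_le_multiplicity.1 h1) (by omega)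
      have hmul : ∀ i, T i ≠ 0 → multiplicity p (T i) = (i : ℕ) * multiplicity p π + d * multiplicity p (y i) := by
        intro i hi
        rw [multiplicity_mul hp (FiniteMultiplicity.of_prime_left hp hi),
          (FiniteMultiplicity.of_prime_left hp hπ0).multiplicity_pow hp,
          (FiniteMultiplicity.of_prime_left hp
            (fun h => hi (by simp only [T, h, zero_pow (by omega : d ≠ 0), mul_zero]))).multiplicity_pow hp]
      rw [hmul i hTi, hmul j hTj] at hj
      have main : ∀ (a b : ℕ) (A B : ℕ), a < b → b ≤ N →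
          a * multiplicity p π + d * A = b * multiplicity p π + d * B → I ∣ multiplicity p π := by
        intro a b A B hab hbN h
        set e := multiplicity p π
        have hde : d ∣ (b - a) * e := ⟨A - B, by
          rw [Nat.sub_mul, Nat.mul_sub]; omega⟩
        set δ := Nat.gcd d (b - a)
        have hδd : δ ∣ d := Nat.gcd_dvd_left _ _
        have hδ : δ ∈ (Finset.Icc 1 N).filter (fun δ => δ ∣ d) :=
          Finset.mem_filter.2 ⟨Finset.mem_Icc.2 ⟨Nat.gcd_pos_of_pos_left _ (by omega),
            (Nat.le_of_dvd (by omega) (Nat.gcd_dvd_right _ _)).trans (by omega)⟩, hδd⟩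
        refine (Finset.gcd_dvd hδ).trans ?_
        have hδ0 : 0 < δ := Nat.gcd_pos_of_pos_left _ (by omega)
        refine (Nat.coprime_div_gcd_div_gcd hδ0).dvd_of_dvd_mul_left ?_
        obtain ⟨c, hc⟩ := hde
        refine ⟨c, Nat.eq_of_mul_eq_mul_right hδ0 ?_⟩
        have h1 : (b - a) / δ * δ = b - a := Nat.div_mul_cancel (Nat.gcd_dvd_right _ _)
        have h2 : d / δ * δ = d := Nat.div_mul_cancel hδd
        calc (b - a) / δ * e * δ = (b - a) / δ * δ * e := by ring
          _ = d / δ * δ * c := by rw [h1, h2, hc]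
          _ = d / δ * c * δ := by ring
      rcases lt_or_gt_of_ne (Fin.val_ne_of_ne hji) with h | h
      · exact main _ _ _ _ h (Nat.le_of_lt_succ i.2) hj
      · exact main _ _ _ _ h (Nat.le_of_lt_succ j.2) hj.symm
    obtain ⟨u, z, hz⟩ := exists_unit_mul_pow I hI π hπ0 key
    have hnorm : ∀ w : S, ∃ a : R, algebraMap R K a = Algebra.norm K (w : L) := fun w =>
      IsIntegrallyClosed.isIntegral_iff.1 (Algebra.isIntegral_norm K w.2)
    obtain ⟨a, ha⟩ := hnorm (u : S)
    obtain ⟨a', ha'⟩ := hnorm (↑u⁻¹ : S)
    obtain ⟨c, hc⟩ := hnorm z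
    have haa : a * a' = 1 := IsFractionRing.injective R K (by
      rw [map_mul, ha, ha', ← map_mul, ← Subalgebra.coe_mul, Units.mul_inv, Subalgebra.coe_one, map_one, map_one])
    have hn : ϖ ^ Module.finrank K L = a * c ^ I := IsFractionRing.injective R K (by
      have hzL : algebraMap K L (algebraMap R K ϖ) = ((u : S) : L) * (z : L) ^ I := by
        rw [← IsScalarTower.algebraMap_apply]
        exact congrArg Subtype.val hz
      rw [map_mul (algebraMap R K), map_pow (algebraMap R K) c, map_pow (algebraMap R K) ϖ, ha, hc,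
        ← Algebra.norm_algebraMap (S := L), hzL, map_mul (Algebra.norm K), map_pow (Algebra.norm K)])
    have hc0 : c ≠ 0 := fun h => by
      rw [h, zero_pow hI, mul_zero] at hn
      exact pow_ne_zero _ hϖ.ne_zero hn
    obtain ⟨m, v, rfl⟩ := IsDiscreteValuationRing.eq_unit_mul_pow_irreducible hc0 hϖ
    have hau : IsUnit a := IsUnit.of_mul_eq_one _ haa
    have := IsDiscreteValuationRing.unit_mul_pow_congr_pow hϖ hϖ 1 (hau.unit * v ^ I) (Module.finrank K L) (m * I)
      (by rw [Units.val_one, one_mul, hn, Units.val_mul, Units.val_pow_eq_pow_val, IsUnit.unit_spec, mul_pow,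
            pow_mul, mul_assoc])
    exact ⟨m, by rw [this, mul_comm]⟩
  · rw [AddSubgroup.zmultiples_le]
    set H := AddSubgroup.closure {m : ℤ | ∃ (L : Type u) (_ : Field L) (_ : Algebra K L),
        FiniteDimensional K L ∧ m = (Module.finrank K L : ℤ) ∧
        ∃ x : Fin (N + 1) → L, x ≠ 0 ∧
          x 0 ^ d = ∑ i : Fin N, algebraMap K L (algebraMap R K (ϖ ^ ((i : ℕ) + 1))) * x i.succ ^ d}
    have hgen : ∀ δ ∈ (Finset.Icc 1 N).filter (fun δ => δ ∣ d), ((d / δ : ℕ) : ℤ) ∈ H := by
      intro δ hδ
      obtain ⟨hδN, hδd⟩ := Finset.mem_filter.1 hδ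
      obtain ⟨hδ1, hδN⟩ := Finset.mem_Icc.1 hδN
      obtain ⟨m, rfl⟩ := hδd
      rw [Nat.mul_div_cancel_left m hδ1]
      have hm : m ≠ 0 := fun h => by rw [h, mul_zero] at hd; omega
      let f : R[X] := X ^ m - C ϖ
      have hf : f.Monic := monic_X_pow_sub_C ϖ hm
      have hfd : f.natDegree = m := natDegree_X_pow_sub_C
      have hirr : Irreducible f := by
        have hP : (Ideal.span {ϖ}).IsPrime := (Ideal.span_singleton_prime hϖ.ne_zero).2 hϖ.prime
        refine Polynomial.IsEisensteinAt.irreducible (𝓟 := Ideal.span {ϖ}) ?_ hP hf.isPrimitive (by omega)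
        refine hf.isEisensteinAt_of_mem_of_notMem hP.ne_top (fun {i} hi => ?_) ?_
        · rw [hfd] at hi
          rw [coeff_sub, coeff_X_pow, if_neg (by omega), zero_sub, neg_mem_iff, coeff_C]
          split
          · exact Ideal.mem_span_singleton_self _
          · exact zero_mem _
        · rw [coeff_sub, coeff_X_pow, if_neg (by omega), zero_sub, coeff_C_zero, neg_mem_iff,
            Ideal.span_singleton_pow, Ideal.mem_span_singleton]
          intro h
          obtain ⟨w, hw⟩ := h
          refine hϖ.not_isUnit (IsUnit.of_mul_eq_one w (mul_left_cancel₀ hϖ.ne_zero ?_))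
          rw [mul_one]; linear_combination -hw
      haveI : Fact (Irreducible (f.map (algebraMap R K))) :=
        ⟨(Polynomial.Monic.irreducible_iff_irreducible_map_fraction_map hf).1 hirr⟩
      let L := AdjoinRoot (f.map (algebraMap R K))
      have hne : f.map (algebraMap R K) ≠ 0 := (hf.map _).ne_zero
      haveI : FiniteDimensional K L := (AdjoinRoot.powerBasis hne).finite
      refine AddSubgroup.subset_closure ⟨L, inferInstance, inferInstance, inferInstance, ?_, ?_⟩
      · rw [(AdjoinRoot.powerBasis hne).finrank, AdjoinRoot.powerBasis_dim, hf.natDegree_map, hfd]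
      · let t : L := AdjoinRoot.root _
        have ht : t ^ m = algebraMap K L (algebraMap R K ϖ) := by
          have := AdjoinRoot.eval₂_root (f.map (algebraMap R K))
          rw [eval₂_map, eval₂_sub, eval₂_X_pow, eval₂_C, sub_eq_zero] at this
          exact this
        let j : Fin N := ⟨δ - 1, by omega⟩
        refine ⟨Fin.cons t (Function.update (0 : Fin N → L) j 1), fun h => ?_, ?_⟩
        · have := congrFun h j.succ
          simp at this
        · rw [Fin.cons_zero, Finset.sum_eq_single j (fun b _ hb => by
              rw [Fin.cons_succ, Function.update_of_ne hb, Pi.zero_apply, zero_pow (by omega), mul_zero])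
            (fun h => absurd (Finset.mem_univ j) h), Fin.cons_succ, Function.update_self, one_pow, mul_one,
            show (j : ℕ) + 1 = δ by simp [j]; omega, map_pow, map_pow, ← ht, ← pow_mul, mul_comm]
    rw [hIdef]
    generalize (Finset.Icc 1 N).filter (fun δ => δ ∣ d) = s at hgen
    induction s using Finset.induction with
    | empty => simp
    | insert a t _ ih =>
      rw [Finset.gcd_insert, gcd_eq_nat_gcd, Nat.gcd_eq_gcd_ab]
      exact add_mem (by rw [mul_comm]; exact H.zsmul_mem (hgen a (Finset.mem_insert_self _ _)) _)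
        (by rw [mul_comm]; exact H.zsmul_mem (ih fun x hx => hgen x (Finset.mem_insert_of_mem hx)) _)

end Groth.Agent.S17785
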