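import Groth.Statements.S1779
import Groth.Agent.KFlatLib.Ring.DualizingFlat
import Groth.Agent.S0543
import Mathlib.RingTheory.AdicCompletion.AsTensorProduct
-- import your own Groth.Agent.* helpers here

set_option autoImplicit false
universe u
open CategoryTheory
attribute [local instance] HasDerivedCategory.standard
open Dual

namespace Groth.Agent.S1779

/-- Let A be a Noetherian ring, I an ideal and ω a dualizing complex for A. Assuming the derived base
change functor to the I-adic completion exists, the base change of ω is a dualizing complex for the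
I-adic completion of A. -/
theorem result (A : Type u) [CommRing A] [IsNoetherianRing A] (I : Ideal A) [DRing.HasLBaseChange (algebraMap A (AdicCompletion I A))] (ω : Dual.D A) (hω : Dual.IsDualizing A ω) : Dual.IsDualizing (AdicCompletion I A) ((DRing.LBaseChange (algebraMap A (AdicCompletion I A))).obj ω) := by
  haveI := Groth.Agent.KFlatLib.hasLBase (algebraMap A (AdicCompletion I A))
  haveI : IsNoetherianRing (AdicCompletion I A) := Groth.Agent.S0543.result A I
  haveI : Module.Flat A (AdicCompletion I A) := AdicCompletion.flat_of_isNoetherian I
  have hfg : I.FG := IsNoetherian.noetherian I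
  haveI := AdicCompletion.isAdicComplete_self I hfg
  refine Groth.Agent.KFlatLib.isDualizing_LBaseChange hω fun n hn =>
    Groth.Agent.KFlatLib.exists_map_eq_of_surjective I (fun x => ?_) (IsAdicComplete.le_jacobson_bot _) n hn
  obtain ⟨y, rfl⟩ := Ideal.Quotient.mk_surjective x
  obtain ⟨a, ha⟩ := Ideal.Quotient.mk_surjective (AdicCompletion.evalOneₐ I y)
  refine ⟨a, Ideal.Quotient.eq.2 ?_⟩
  rw [← AdicCompletion.ker_evalOneₐ_eq_map I hfg, RingHom.mem_ker, map_sub, sub_eq_zero]
  exact ((AdicCompletion.evalOneₐ I).commutes a).trans ha

end Groth.Agent.S1779
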