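import Groth.Statements.S2946
import Groth.Agent.H26.LefIdem
import Groth.Agent.H23.PullPush

set_option autoImplicit false
universe u
open CategoryTheory CategoryTheory.Limits AlgebraicGeometry
open Lef

namespace Groth.Agent.S2946

/-- Let X be a locally Noetherian scheme and 𝓘 a quasi-coherent ideal sheaf with Y = V(𝓘), and suppose
Lef(X, Y) holds (this prelude's Lef.LefCond). Then for every open U of X containing Y, Y is
connected if and only if U is connected. -/
theorem result (X : Scheme.{u}) [IsLocallyNoetherian X] (𝓘 : X.IdealSheafData) (h : Lef.LefCond X 𝓘) (U : X.Opens) (hU : (𝓘.support : Set X) ⊆ (U : Set X)) : ConnectedSpace (𝓘.support : Set X) ↔ ConnectedSpace U := by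
  classical
  open Groth.Agent.H26.LefIdem in
  let J := 𝓘.comap U.ι
  have hsupp : ∀ u : U.toScheme, u ∈ (J.support : Set U.toScheme) ↔ U.ι u ∈ (𝓘.support : Set X) := fun u => by
    show u ∈ ((𝓘.comap U.ι).support : Set U.toScheme) ↔ _
    rw [Scheme.IdealSheafData.support_comap]
    rfl
  have hconn : ConnectedSpace (𝓘.support : Set X) ↔ ConnectedSpace (J.support : Set U.toScheme) := by
    rw [← isConnected_iff_connectedSpace, ← isConnected_iff_connectedSpace]
    have himg : U.ι '' (J.support : Set U.toScheme) = (𝓘.support : Set X) := by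
      ext x
      exact ⟨fun ⟨u, hu, e⟩ => e ▸ (hsupp u).1 hu, fun hx => ⟨⟨x, hU hx⟩, (hsupp _).2 hx, rfl⟩⟩
    rw [← himg]
    refine ⟨fun hc => ⟨hc.nonempty.of_image, (U.ι.isEmbedding.isInducing.isPreconnected_image).1 hc.2⟩,
      fun hc => hc.image _ U.ι.continuous.continuousOn⟩
  rw [hconn, show ConnectedSpace U ↔ ConnectedSpace U.toScheme from Iff.rfl]
  have hD : FlatMod.IsFinLocFree (Coh.structureModule U.toScheme) :=
    Groth.Agent.H23.PullPush.isFinLocFree_of_isInvertible fun s =>
      ⟨⊤, trivial, ⟨Scheme.Modules.restrictUnitIso _⟩⟩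
  obtain ⟨hinj, hsurj⟩ := h U hU (Coh.structureModule U.toScheme) hD
  -- functions with the same reductions are equal
  let Y : ℕ → Scheme.{u} := fun n => (J ^ (n + 1)).subscheme
  let ι : ∀ n, Y n ⟶ U.toScheme := fun n => (J ^ (n + 1)).subschemeι
  have hrange : ∀ n, Set.range (ι n) = (J.support : Set U.toScheme) := fun n => by
    rw [Scheme.IdealSheafData.range_subschemeι, Scheme.IdealSheafData.support_pow_succ]
  have hred : ∀ e f : Γ(U.toScheme, ⊤), (∀ n, (ι n).app ⊤ e = (ι n).app ⊤ f) → e = f := by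
    intro e f hef
    have := hinj (Groth.Agent.QCoh.homOfTop e) (Groth.Agent.QCoh.homOfTop f) fun n =>
      Groth.Agent.H26.LefIdem.hom_ext_one _ _ (by
        show (ι n).app ⊤ ((Groth.Agent.QCoh.homOfTop (P := Coh.structureModule U.toScheme) e).app ⊤ (1 : Γ(U.toScheme, ⊤))) =
          (ι n).app ⊤ ((Groth.Agent.QCoh.homOfTop (P := Coh.structureModule U.toScheme) f).app ⊤ (1 : Γ(U.toScheme, ⊤)))
        rw [Groth.Agent.H26.LefIdem.app_homOfTop, Groth.Agent.H26.LefIdem.app_homOfTop]
        exact hef n)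
    rw [← Groth.Agent.H26.LefIdem.app_homOfTop (P := Coh.structureModule U.toScheme) e, this]
    exact Groth.Agent.H26.LefIdem.app_homOfTop (P := Coh.structureModule U.toScheme) f
  constructor
  · intro hY
    -- `U` is connected
    haveI : ∀ n, ConnectedSpace (Y n) := fun n => by
      rw [connectedSpace_iff_univ]
      refine (((ι n).isEmbedding.isInducing.isPreconnected_image).1 ?_ |> fun hp => ⟨?_, hp⟩)
      · rw [Set.image_univ, hrange, ← isPreconnected_iff_preconnectedSpace.symm]
        infer_instance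
      · obtain ⟨⟨y, hy⟩⟩ := hY.toNonempty
        rw [← hrange n] at hy
        exact ⟨hy.choose, trivial⟩
    obtain ⟨⟨y, hy⟩⟩ := hY.toNonempty
    haveI : Nonempty U.toScheme := ⟨y⟩
    rw [connectedSpace_iff_clopen]
    refine ⟨inferInstance, fun C hC => ?_⟩
    obtain ⟨e, he, heC⟩ := Groth.Agent.H26.LefIdem.exists_idempotent hC
    have hpre : ∀ n, ((Y n).basicOpen ((ι n).app ⊤ e) : Set (Y n)) = ι n ⁻¹' C := fun n => by
      rw [← heC]
      exact congrArg SetLike.coe (Scheme.preimage_basicOpen (ι n) e).symm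
    have hclop := hC.preimage (continuous_subtype_val (p := (· ∈ (J.support : Set U.toScheme))))
    have hall : (∀ y ∈ (J.support : Set U.toScheme), y ∈ C) ∨ (∀ y ∈ (J.support : Set U.toScheme), y ∉ C) := by
      rcases isClopen_iff.1 hclop with h0 | h0
      · exact .inr fun y hy hyC => (h0 ▸ (show (⟨y, hy⟩ : (J.support : Set U.toScheme)) ∈ Subtype.val ⁻¹' C from hyC) : _ ∈ (∅ : Set _))
      · exact .inl fun y hy => (h0.symm ▸ trivial : (⟨y, hy⟩ : (J.support : Set U.toScheme)) ∈ Subtype.val ⁻¹' C)
    rcases hall with h1 | h0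
    · right
      have : e = 1 := hred _ _ fun n => by
        rw [map_one]
        refine Groth.Agent.H26.LefIdem.ext_of_basicOpen (he.map _) IsIdempotentElem.one ?_
        refine Eq.trans ?_ (Scheme.basicOpen_of_isUnit (Y n) (f := (1 : Γ(Y n, ⊤))) isUnit_one).symm
        ext1
        refine (hpre n).trans ?_
        exact Set.eq_univ_of_forall fun q => h1 _ (hrange n ▸ ⟨q, rfl⟩)
      rw [← heC, this, Scheme.basicOpen_of_isUnit _ isUnit_one]
      rfl
    · left
      have : e = 0 := hred _ _ fun n => by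
        rw [map_zero]
        refine Groth.Agent.H26.LefIdem.ext_of_basicOpen (he.map _) IsIdempotentElem.zero ?_
        refine Eq.trans ?_ (Scheme.basicOpen_zero (Y n) ⊤).symm
        ext1
        refine (hpre n).trans ?_
        exact Set.eq_empty_of_forall_notMem fun q hq => h0 _ (hrange n ▸ ⟨q, rfl⟩) hq
      rw [← heC, this, Scheme.basicOpen_zero]
      rfl
  · intro hUc
    haveI := hUc
    have hne : Nonempty (J.support : Set U.toScheme) := by
      by_contra hno
      haveI : ∀ n, IsEmpty (Y n) := fun n => ⟨fun q => hno ⟨⟨ι n q, hrange n ▸ ⟨q, rfl⟩⟩⟩⟩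
      obtain ⟨w⟩ : Nonempty U.toScheme := inferInstance
      have h01 : (1 : Γ(U.toScheme, ⊤)) = 0 := hred _ _ fun n => Subsingleton.elim _ _
      have := congrArg (U.toScheme.presheaf.germ ⊤ w trivial) h01
      rw [map_one, map_zero] at this
      exact one_ne_zero this
    rw [connectedSpace_iff_clopen]
    refine ⟨hne, fun Z hZ => ?_⟩
    let g : ∀ n, Y n → (J.support : Set U.toScheme) := fun n q => ⟨ι n q, hrange n ▸ ⟨q, rfl⟩⟩
    have hZn : ∀ n, IsClopen (g n ⁻¹' Z) := fun n => hZ.preimage ((ι n).continuous.subtype_mk _)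
    choose en hen henZ using fun n => Groth.Agent.H26.LefIdem.exists_idempotent (hZn n)
    let y : ∀ n, Coh.structureModule U.toScheme ⟶ ClSub.quotMod (J ^ (n + 1)) := fun n =>
      Groth.Agent.QCoh.homOfTop (P := ClSub.quotMod (J ^ (n + 1))) (en n)
    have hy1 : ∀ n, (y n).app ⊤ (1 : Γ(U.toScheme, ⊤)) = en n := fun n =>
      Groth.Agent.H26.LefIdem.app_homOfTop (P := ClSub.quotMod (J ^ (n + 1))) (en n)
    have hy : Lef.IsFormalHom J (Coh.structureModule U.toScheme) y := fun n => by
      refine Groth.Agent.H26.LefIdem.hom_ext_one _ _ ?_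
      rw [hy1]
      let inc := Scheme.IdealSheafData.inclusion (Lef.pow_succ_le J n)
      have hinc : inc ≫ ι (n + 1) = ι n := Scheme.IdealSheafData.inclusion_subschemeι _
      refine Eq.trans (congrArg (fun t => (Lef.quotMap (Lef.pow_succ_le J n)).app ⊤ t) (hy1 (n + 1))) ?_
      have key : inc.app ⊤ (en (n + 1)) = en n := by
        refine Groth.Agent.H26.LefIdem.ext_of_basicOpen ((hen _).map _) (hen _) ?_
        ext1
        rw [henZ]
        refine Eq.trans (congrArg SetLike.coe (Scheme.preimage_basicOpen inc (en (n + 1))).symm) ?_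
        ext q
        show inc q ∈ ((Y (n+1)).basicOpen (en (n + 1)) : Set (Y (n + 1))) ↔ _
        rw [henZ, Set.mem_preimage, Set.mem_preimage]
        have : g (n + 1) (inc q) = g n q := Subtype.ext (by
          show ι (n + 1) (inc q) = ι n q
          rw [← Scheme.Hom.comp_apply, hinc])
        rw [this]
      refine Eq.trans ?_ key
      simp [Lef.quotMap, ClSub.unitToPush, inc]
      rfl
    obtain ⟨φ, hφ⟩ := hsurj y hy
    let e : Γ(U.toScheme, ⊤) := φ.app ⊤ (1 : Γ(U.toScheme, ⊤))
    have hen' : ∀ n, (ι n).app ⊤ e = en n := fun n => by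
      rw [← hy1 n, ← hφ n]
      rfl
    have he : IsIdempotentElem e := hred _ _ fun n => by rw [map_mul, hen' n]; exact hen n
    have hmem : ∀ z : (J.support : Set U.toScheme), z ∈ Z ↔ (z : U.toScheme) ∈ U.toScheme.basicOpen e := by
      rintro ⟨z, hz⟩
      obtain ⟨q, rfl⟩ := (hrange 0).symm ▸ hz
      have h1 : q ∈ ι 0 ⁻¹ᵁ U.toScheme.basicOpen e ↔ q ∈ g 0 ⁻¹' Z := by
        rw [Scheme.preimage_basicOpen, hen' 0, ← henZ 0]
        rfl
      exact h1.symm
    rcases Groth.Agent.H26.LefIdem.eq_one_or_zero_of_connected he with h0 | h1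
    · left
      refine Set.eq_empty_of_forall_notMem fun z hz => ?_
      have := (hmem z).1 hz
      rw [h0, Scheme.basicOpen_zero] at this
      exact this
    · right
      refine Set.eq_univ_of_forall fun z => (hmem z).2 ?_
      rw [h1, Scheme.basicOpen_of_isUnit _ isUnit_one]
      trivial

end Groth.Agent.S2946
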