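import Groth.Statements.S17790
import Groth.Agent.SGA10.PureConn
import Groth.Agent.S2946
-- import your own Groth.Agent.* helpers here

set_option autoImplicit false
set_option backward.isDefEq.respectTransparency false
set_option backward.isDefEq.respectTransparency.types false
set_option linter.style.haveILetI false
universe u
open CategoryTheory CategoryTheory.Limits AlgebraicGeometry
open Pi1

namespace Groth.Agent.S17790

/-- Let A be a Noetherian local ring and I an ideal for which A is I-adically complete and A/I is local;
write X = Spec A, Y = V(I) and U for the punctured spectrum. Suppose that A is pure (the pair formed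
by X and its closed point is pure) and that the effective Lefschetz condition Leff(U, U ∩ Y) holds.
Then Y minus the closed point, i.e. U ∩ Y, is a connected (nonempty) subset of X. -/
theorem result (A : Type u) [CommRing A] [IsLocalRing A] [IsNoetherianRing A] (I : Ideal A) [IsAdicComplete I A] [IsLocalRing (A ⧸ I)] (hpure : SGA2.IsPurePair (Spec (CommRingCat.of A)) (FEt.puncturedSpec A)) (hleff : LefX.LeffCond (↑(FEt.puncturedSpec A) : Scheme.{u}) ((Spec.map (CommRingCat.ofHom (Ideal.Quotient.mk I))).ker.comap (FEt.puncturedSpec A).ι)) : IsConnected (((Spec.map (CommRingCat.ofHom (Ideal.Quotient.mk I))).ker.support : Set ↥(Spec (CommRingCat.of A))) ∩ (FEt.puncturedSpec A : Set ↥(Spec (CommRingCat.of A)))) := by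
  let U := FEt.puncturedSpec A
  let K := (Spec.map (CommRingCat.ofHom (Ideal.Quotient.mk I))).ker
  haveI : IsLocallyNoetherian (U : Scheme.{u}) := isLocallyNoetherian_of_isOpenImmersion U.ι
  haveI := Groth.Agent.SGA10.isConnected_punctured_of_isEquivalence
    (Groth.Agent.SGA10.isPurePair_punctured_iff.1 hpure)
  have h1 : ConnectedSpace ((⊤ : (U : Scheme.{u}).Opens) : Set ↥(U : Scheme.{u})) :=
    isConnected_iff_connectedSpace.1 isConnected_univ
  have h2 : _root_.IsConnected ((K.comap U.ι).support : Set ↥(U : Scheme.{u})) :=
    isConnected_iff_connectedSpace.2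
      ((Groth.Agent.S2946.result (U : Scheme.{u}) (K.comap U.ι) hleff.1 ⊤ fun _ _ => trivial).2 h1)
  have h3 := h2.image U.ι U.ι.continuous.continuousOn
  have himg : U.ι '' ((K.comap U.ι).support : Set ↥(U : Scheme.{u})) =
      (K.support : Set ↥(Spec (CommRingCat.of A))) ∩ (U : Set ↥(Spec (CommRingCat.of A))) := by
    rw [Scheme.IdealSheafData.support_comap]
    rw [TopologicalSpace.Closeds.coe_preimage, Set.image_preimage_eq_inter_range, Scheme.Opens.range_ι]
  rw [← himg]
  exact h3

end Groth.Agent.S17790
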