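import Groth.Statements.S17794
import Groth.Agent.GITQuot.Fppf
import Groth.Agent.GrpdLib.QuotSheaf
import Groth.Agent.GrpSchLib.RankOneBig
import Groth.Agent.AlgSpPts.Sep

set_option autoImplicit false
universe u
open CategoryTheory CategoryTheory.Limits MonoidalCategory CartesianMonoidalCategory MonObj GrpObj AlgebraicGeometry
open GrpSch

namespace Groth.Agent.S17794

set_option backward.isDefEq.respectTransparency false
set_option backward.isDefEq.respectTransparency.types false

/-- Over a scheme to which a point of `H` lifts, `f` is the trivial torsor under its kernel. -/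
theorem isPullback_of_lift {S : Scheme.{u}} {G H N V : Over S} [GrpObj G] [GrpObj H] (f : G ⟶ H) [IsMonHom f]
    (i : N ⟶ G) (hi : AlgGrp.IsKernel i f) (g : V ⟶ G) :
    IsPullback ((fst N V ≫ i) * (snd N V ≫ g)) (snd N V) f (g ≫ f) := by
  have hif : i ≫ f = 1 := by rw [hi.w]; rfl
  have w : ((fst N V ≫ i) * (snd N V ≫ g)) ≫ f = snd N V ≫ g ≫ f := by
    rw [MonObj.mul_comp, Category.assoc, hif, MonObj.comp_one, _root_.one_mul, Category.assoc]
  have key : ∀ {T : Over S} (a : T ⟶ G) (b : T ⟶ V), a ≫ f = b ≫ g ≫ f →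
      ∃ n : T ⟶ N, n ≫ i = a * (b ≫ g)⁻¹ := fun {T} a b hab => by
    have h1 : (a * (b ≫ g)⁻¹) ≫ f = toUnit T ≫ η[H] := by
      rw [MonObj.mul_comp, GrpObj.inv_comp, Category.assoc, hab, _root_.mul_inv_cancel]
      rfl
    exact ⟨hi.lift _ _ h1, hi.lift_fst _ _ _⟩
  have hmono : ∀ {T : Over S} (n₁ n₂ : T ⟶ N), n₁ ≫ i = n₂ ≫ i → n₁ = n₂ := fun n₁ n₂ h =>
    hi.hom_ext h (toUnit_unique _ _)
  refine IsPullback.of_isLimit' ⟨w⟩ (PullbackCone.IsLimit.mk _
    (fun s => lift (key s.fst s.snd s.condition).choose s.snd) (fun s => ?_) (fun s => ?_) (fun s m h₁ h₂ => ?_))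
  · rw [MonObj.comp_mul, lift_fst_assoc, lift_snd_assoc, (key s.fst s.snd s.condition).choose_spec,
      _root_.inv_mul_cancel_right]
  · exact lift_snd _ _
  · refine CartesianMonoidalCategory.hom_ext _ _ (hmono _ _ ?_) (h₂.trans (lift_snd _ _).symm)
    rw [lift_fst, (key s.fst s.snd s.condition).choose_spec]
    rw [MonObj.comp_mul, ← Category.assoc, ← Category.assoc, h₂] at h₁
    exact eq_mul_inv_of_mul_eq h₁

/-- Let S be a scheme and f : G → H a homomorphism of S-group schemes, both of finite presentation over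
S (locally of finite presentation, quasi-compact and quasi-separated), and let i : N → G be the
kernel of f (the square formed by i, f, the unit section of H and N → S is cartesian). Then f is
faithfully flat (flat and surjective) if and only if the map of representable sheaves h_G → h_H
induced by f on the big fppf site of S is an epimorphism of sheaves of sets and N is flat over S. -/
theorem result {S : Scheme.{u}} {G H N : Over S} [GrpObj G] [GrpObj H] (f : G ⟶ H) [IsMonHom f] [LocallyOfFinitePresentation G.hom] [QuasiCompact G.hom] [QuasiSeparated G.hom] [LocallyOfFinitePresentation H.hom] [QuasiCompact H.hom] [QuasiSeparated H.hom] (i : N ⟶ G) (hi : AlgGrp.IsKernel i f) : (Flat f.left ∧ Surjective f.left) ↔ (Epi (QuotSh.repMap Scheme.fppfPrecoverage f) ∧ Flat N.hom) := by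
  have : LocallyOfFinitePresentation f.left :=
    have : LocallyOfFinitePresentation (f.left ≫ H.hom) := by rw [Over.w f]; infer_instance
    Groth.Agent.AlgSpPts.locallyOfFinitePresentation_of_comp f.left H.hom
  constructor
  · rintro ⟨hfl, hsu⟩
    refine ⟨?_, ?_⟩
    · have hls := Groth.Agent.GrpdLib.isLocallySurjective_of_cover Scheme.fppfPrecoverage f
        (Precoverage.generate_mem_toGrothendieck (Scheme.Hom.singleton_mem_fppfPrecoverage f.left))
      rw [← Sheaf.isLocallySurjective_iff_epi]
      exact (Presheaf.isLocallySurjective_presheafToSheaf_map_iff _ _).2 hls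
    · have h : Flat (toUnit N).left := MorphismProperty.of_isPullback (hi.map (Over.forget S)) hfl
      simpa using h
  · rintro ⟨hepi, hN⟩
    have hls : Presheaf.IsLocallySurjective (QuotSh.J Scheme.fppfPrecoverage S)
        (Functor.whiskerRight (yoneda.map f) uliftFunctor.{u + 1, u}) :=
      (Presheaf.isLocallySurjective_presheafToSheaf_map_iff _ _).1
        ((Sheaf.isLocallySurjective_iff_epi _).2 hepi)
    have hmem := hls.imageSieve_mem (U := H) ⟨𝟙 H⟩
    rw [GrothendieckTopology.mem_over_iff] at hmem
    obtain ⟨I, W, w, hw, hwf, hwp, hsurj⟩ := Groth.Agent.GITQuot.exists_cover hmem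
    have hlift : ∀ j, ∃ g : Over.mk (w j ≫ H.hom) ⟶ G, (g ≫ f).left = w j := fun j => by
      obtain ⟨x, hx⟩ := (Sieve.overEquiv_iff _ _).1 (hw j)
      refine ⟨x.down, ?_⟩
      have := congrArg (fun z => (ULift.down z).left) hx
      simpa using this
    choose g hg using hlift
    let P : I → Scheme.{u} := fun j => (N ⊗ Over.mk (w j ≫ H.hom)).left
    let p : ∀ j, P j ⟶ G.left := fun j => ((fst _ _ ≫ i) * (snd _ _ ≫ g j) : N ⊗ Over.mk (w j ≫ H.hom) ⟶ G).left
    let q : ∀ j, P j ⟶ W j := fun j => (snd N (Over.mk (w j ≫ H.hom))).left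
    have sq : ∀ j, IsPullback (p j) (q j) f.left (w j) := fun j => by
      have := (isPullback_of_lift f i hi (g j)).map (Over.forget S)
      simp only [Over.forget_map, hg] at this
      exact this
    have hpflat : ∀ j, Flat (p j) := fun j => MorphismProperty.of_isPullback (sq j).flip (hwf j)
    have hqflat : ∀ j, Flat (q j) := fun j =>
      inferInstanceAs (Flat (pullback.snd N.hom (w j ≫ H.hom)))
    refine ⟨?_, ⟨fun y => ?_⟩⟩
    · let π : ∐ P ⟶ G.left := Limits.Sigma.desc p
      have : Flat π := IsZariskiLocalAtSource.of_openCover (sigmaOpenCover P) fun j => by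
        change Flat (Limits.Sigma.ι P j ≫ π); rw [Limits.Sigma.ι_desc]; exact hpflat j
      have : Surjective π := ⟨fun x => by
        obtain ⟨j, z, hz⟩ := hsurj (f.left x)
        obtain ⟨z', h1, -⟩ := Scheme.Pullback.exists_preimage_pullback (f := f.left) (g := w j) x z hz.symm
        refine ⟨Limits.Sigma.ι P j ((sq j).isoPullback.inv z'), ?_⟩
        rw [← Scheme.Hom.comp_apply, Limits.Sigma.ι_desc, ← Scheme.Hom.comp_apply, IsPullback.isoPullback_inv_fst, h1]⟩
      have : Flat (π ≫ f.left) := IsZariskiLocalAtSource.of_openCover (sigmaOpenCover P) fun j => by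
        change Flat (Limits.Sigma.ι P j ≫ π ≫ f.left)
        rw [Limits.Sigma.ι_desc_assoc, (sq j).w]
        have := hqflat j
        have := hwf j
        infer_instance
      exact Groth.Agent.GrpSchLib.RankOne.flat_of_comp π f.left
    · obtain ⟨j, z, hz⟩ := hsurj y
      refine ⟨(g j).left z, ?_⟩
      have := congrArg (fun m : W j ⟶ H.left => m z) (hg j)
      simpa [hz] using this

end Groth.Agent.S17794
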