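import Mathlib
import Groth.Statements.S17797
-- import your own Groth.Agent.* helpers here

set_option autoImplicit false
universe u
open CAlg

namespace Groth.Agent.S17797

/-- Suppose k is a field of characteristic zero and S is a local domain that is an essentially
finite-type k-algebra. Then there are an extension field K of k, a K-algebra A of finite type and a
maximal ideal m of A such that S is isomorphic over k to the localization A_m. -/
theorem result (k : Type u) [Field k] [CharZero k] (S : Type u) [CommRing S] [IsDomain S] [IsLocalRing S] [Algebra k S] [Algebra.EssFiniteType k S] : ∃ (K : Type u) (_ : Field K) (_ : Algebra k K) (A : Type u) (_ : CommRing A) (_ : Algebra K A) (_ : Algebra k A) (_ : IsScalarTower k K A) (_ : Algebra.FiniteType K A) (m : Ideal A) (_ : m.IsMaximal), Nonempty (S ≃ₐ[k] Localization.AtPrime m) := by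
  classical
  let κ := IsLocalRing.ResidueField S
  -- lift a transcendence basis of the residue field
  obtain ⟨s, hs⟩ := exists_isTranscendenceBasis k κ
  choose t ht using fun x : s => IsLocalRing.residue_surjective (x : κ)
  let φ : MvPolynomial s k →ₐ[k] S := MvPolynomial.aeval t
  have hres : ∀ f, IsLocalRing.residue S (φ f) = MvPolynomial.aeval (Subtype.val : s → κ) f := by
    intro f
    have : (IsScalarTower.toAlgHom k S κ).comp φ = MvPolynomial.aeval (Subtype.val : s → κ) :=
      MvPolynomial.algHom_ext fun i => by simp [φ, IsLocalRing.ResidueField.algebraMap_eq, ht, κ]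
    exact AlgHom.congr_fun this f
  have hunit : ∀ y : nonZeroDivisors (MvPolynomial s k), IsUnit (φ y) := by
    intro y
    refine IsLocalRing.residue_ne_zero_iff_isUnit _ |>.mp ?_
    rw [hres]
    intro h
    exact nonZeroDivisors.ne_zero y.2 ((algebraicIndependent_iff.mp hs.1) _ h)
  let K := FractionRing (MvPolynomial s k)
  let i : K →ₐ[k] S := IsLocalization.liftAlgHom hunit
  letI : Algebra K S := i.toRingHom.toAlgebra
  haveI : IsScalarTower k K S := IsScalarTower.of_algebraMap_eq fun x => (i.commutes x).symm
  haveI : Algebra.EssFiniteType K S := Algebra.EssFiniteType.of_comp k K S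
  let A := Algebra.EssFiniteType.subalgebra K S
  let m : Ideal A := Ideal.comap A.val.toRingHom (IsLocalRing.maximalIdeal S)
  -- the residue field is algebraic over K
  haveI hKκ : Algebra.IsIntegral K κ := by
    refine ⟨fun z => ?_⟩
    haveI := hs.isAlgebraic_field
    have hz : IsIntegral (IntermediateField.adjoin k (Set.range (Subtype.val : s → κ))) z :=
      (Algebra.IsAlgebraic.isAlgebraic z).isIntegral
    let j : K →ₐ[k] κ := IsScalarTower.toAlgHom k K κ
    have hle : IntermediateField.adjoin k (Set.range (Subtype.val : s → κ)) ≤ j.fieldRange := by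
      rw [IntermediateField.adjoin_le_iff]
      rintro _ ⟨x, rfl⟩
      refine ⟨algebraMap (MvPolynomial s k) K (MvPolynomial.X x), ?_⟩
      change IsLocalRing.residue S (i (algebraMap (MvPolynomial s k) K (MvPolynomial.X x))) = x
      rw [show i (algebraMap (MvPolynomial s k) K (MvPolynomial.X x)) = φ (MvPolynomial.X x) from
        IsLocalization.lift_eq _ _]
      simp [φ, ht]
    let e : K ≃ₐ[k] j.fieldRange := AlgEquiv.ofInjectiveField j
    let g : IntermediateField.adjoin k (Set.range (Subtype.val : s → κ)) →+* K :=
      e.symm.toAlgHom.toRingHom.comp (IntermediateField.inclusion hle).toRingHom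
    refine hz.map_of_comp_eq g (RingHom.id κ) (RingHom.ext fun y => ?_)
    change j (e.symm (IntermediateField.inclusion hle y)) = (y : κ)
    have h1 : (e (e.symm (IntermediateField.inclusion hle y)) : κ) = (y : κ) := by
      rw [AlgEquiv.apply_symm_apply]
      rfl
    exact h1
  -- so the centre of S on A is maximal
  haveI hm : m.IsMaximal := by
    haveI : m.IsPrime := Ideal.IsPrime.comap _
    let ψ : (A ⧸ m) →ₐ[K] κ := Ideal.Quotient.liftₐ m ((IsScalarTower.toAlgHom K S κ).comp A.val)
      fun a ha => (IsLocalRing.residue_eq_zero_iff _).mpr ha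
    have hψ : Function.Injective ψ := by
      refine RingHom.lift_injective_of_ker_le_ideal m _ fun a ha => ?_
      exact (IsLocalRing.residue_eq_zero_iff _).mp ha
    haveI : Algebra.IsIntegral K (A ⧸ m) := Algebra.IsIntegral.of_injective ψ hψ
    exact Ideal.Quotient.maximal_of_isField m
      (isField_of_isIntegral_of_isField' (R := K) (S := A ⧸ m) (Field.toIsField K))
  have hsub : Algebra.EssFiniteType.submonoid K S = m.primeCompl := by
    ext a
    change IsUnit (a : S) ↔ ¬ ((a : S) ∈ IsLocalRing.maximalIdeal S)
    rw [IsLocalRing.mem_maximalIdeal, mem_nonunits_iff, not_not]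
  haveI : IsLocalization.AtPrime S m := by
    have := Algebra.EssFiniteType.isLocalization (R := K) (S := S)
    rw [hsub] at this
    exact this
  exact ⟨K, inferInstance, inferInstance, A, inferInstance, inferInstance, inferInstance,
    inferInstance, inferInstance, m, hm,
    ⟨(IsLocalization.algEquiv m.primeCompl S (Localization.AtPrime m)).restrictScalars k⟩⟩

end Groth.Agent.S17797
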