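import Groth.Statements.S17802
import Groth.Agent.GrLib8.ConormalDepth.Depth

set_option autoImplicit false
universe u
open LocCoh

namespace Groth.Agent.S17802

/-- Let (R, m) be a universally catenary Noetherian local domain, I ⊆ m an ideal with R/I
equidimensional, and r a natural number such that the associated graded ring ⊕ Iⁿ/Iⁿ⁺¹, i.e. the
Rees algebra of I modulo the ideal generated by I, satisfies Serre's condition S_r. Let ad(I) be the
analytic deviation: the Krull dimension of ⊕ Iⁿ/mIⁿ (the Rees algebra modulo m) minus the height of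
I. Then for every n ≥ 0 and every prime ideal p ⊇ I of R, the depth of the R_p-module (Iⁿ/Iⁿ⁺¹)_p is
at least min(r, dim (R/I)_p − ad(I)); equivalently every natural number d with d ≤ r and d + dim(⊕
Iⁿ/mIⁿ) ≤ height(p/I) + ht(I) satisfies d ≤ depth (Iⁿ/Iⁿ⁺¹)_p. -/
theorem result (R : Type u) [CommRing R] [IsDomain R] [IsLocalRing R] [IsNoetherianRing R] (huc : CAlg.IsUniversallyCatenary R) (I : Ideal R) (hI : I ≤ IsLocalRing.maximalIdeal R) (heq : EGA4.IsEquidim (R ⧸ I)) (r : ℕ) (hS : LocCoh.HasSk r (↥(reesAlgebra I) ⧸ Ideal.map (algebraMap R ↥(reesAlgebra I)) I) (↥(reesAlgebra I) ⧸ Ideal.map (algebraMap R ↥(reesAlgebra I)) I)) (n : ℕ) (p : Ideal R) [p.IsPrime] (hp : I ≤ p) (d : ℕ) (hdr : d ≤ r) (hd : (d : WithBot ℕ∞) + ringKrullDim (↥(reesAlgebra I) ⧸ Ideal.map (algebraMap R ↥(reesAlgebra I)) (IsLocalRing.maximalIdeal R)) ≤ (((p.map (Ideal.Quotient.mk I)).height : ℕ∞) : WithBot ℕ∞) + ((I.height : ℕ∞) : WithBot ℕ∞)) : (d : ℕ∞) ≤ LocCoh.depth (Localization.AtPrime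 p) (LocalizedModule p.primeCompl (↥(I ^ n) ⧸ (I • (⊤ : Submodule R ↥(I ^ n))))) := by
  exact Groth.Agent.GrLib8.ConormalDepth.main huc I r hS n p hp d hdr hd

end Groth.Agent.S17802
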