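import Groth.Statements.S17804
import Groth.Agent.GrpSchLib.ImageFactor
import Groth.Agent.GrpSchLib.SemiabIsog
import Groth.Agent.H23.FinCondSch
import Groth.Agent.AlgSpDec.SchImageChart
import Groth.Agent.AssLib.FlatField
import Groth.Agent.GrpdLib.QuasiSection
-- import your own Groth.Agent.* helpers here

set_option autoImplicit false
set_option linter.style.haveILetI false
set_option backward.isDefEq.respectTransparency.types false
set_option maxHeartbeats 1000000
universe u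
open CategoryTheory CategoryTheory.Limits MonoidalCategory CartesianMonoidalCategory MonObj GrpObj AlgebraicGeometry
open GrpSch

namespace Groth.Agent.S17804

/-- Let k be a field, G a commutative group scheme locally of finite type over k, H ⊆ G a closed
subgroup scheme of finite type over k, and q : G → Q the quotient G/H (q is flat, surjective,
locally of finite presentation, and G ×_k H → G ×_Q G, (g, h) ↦ (g, gh), is an isomorphism). Let n ≥
1 and M ≥ 1 be integers. Then G contains a closed subgroup scheme G_M annihilated by n^N for some N,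
with image in Q killed by n^M, such that the induced homomorphism from G_M to the kernel Q[n^M] of
multiplication by n^M on Q is flat and surjective. -/
theorem result (k : Type u) [Field k] {G H Q : Over (Spec (CommRingCat.of k))} [GrpObj G] [IsCommMonObj G] [GrpObj H] [GrpObj Q] [LocallyOfFiniteType G.hom] [LocallyOfFiniteType H.hom] [QuasiCompact H.hom] (iH : H ⟶ G) [IsMonHom iH] (hcl : IsClosedImmersion iH.left) (q : G ⟶ Q) [IsMonHom q] (hq : RedSub.IsQuotient iH q) (n : ℕ) (hn : 0 < n) (M : ℕ) (hM : 0 < M) : ∃ (G' : Over (Spec (CommRingCat.of k))) (_ : GrpObj G') (j : G' ⟶ G) (_ : IsMonHom j), IsClosedImmersion j.left ∧ (∃ N : ℕ, ∀ (T : Over (Spec (CommRingCat.of k))) (g : T ⟶ G'), g ^ (n ^ N) = 1) ∧ (∀ (T : Over (Spec (CommRingCat.of k))) (g : T ⟶ G'), (g ≫ j ≫ q) ^ (n ^ M) = 1) ∧ ∀ (K : Over (Spec (CommRingCat.of k))) [GrpObj K] (κ : K ⟶ Q) [IsMonHom κ], AlgGrp.IsKernel κ ((𝟙 Q) ^ (n ^ M)) → ∀ ℓ : G' ⟶ K, ℓ ≫ κ = j ≫ q → Flat ℓ.left ∧ Surjective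 ℓ.left := by
  haveI := hcl
  obtain ⟨hqs, hqf, -, hsq⟩ := hq
  haveI := hqs; haveI := hqf
  haveI : Mono iH := GrpSchLib.SemiabIsog.mono_ci iH
  haveI : IsSeparated G.hom := GrpSchLib.AntiAffine.isSeparated_grp G
  haveI : IsCommMonObj H := GrpSchLib.SemiabIsog.isCommMonObj_of_mono iH
  -- the subgroup is the kernel
  have hq1 : ∀ {T : Over (Spec (CommRingCat.of k))} (h : T ⟶ H), h ≫ iH ≫ q = 1 := fun {T} h => by
    have := congrArg ((lift 1 h : T ⟶ G ⊗ H) ≫ ·) hsq.w
    simp only [← Category.assoc, lift_fst, lift_whiskerLeft, ← Hom.mul_def, _root_.one_mul,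
      MonObj.one_comp] at this
    rw [← Category.assoc, this]
  have hq2 : ∀ {T : Over (Spec (CommRingCat.of k))} (g : T ⟶ G), g ≫ q = 1 → ∃ h : T ⟶ H, h ≫ iH = g := fun {T} g hg => by
    refine ⟨hsq.lift 1 g (by rw [MonObj.one_comp, hg]) ≫ snd G H, ?_⟩
    have h2 := hsq.lift_snd (1 : T ⟶ G) g (by rw [MonObj.one_comp, hg])
    have h1 := hsq.lift_fst (1 : T ⟶ G) g (by rw [MonObj.one_comp, hg])
    rw [← CartesianMonoidalCategory.lift_comp_fst_snd (hsq.lift (1 : T ⟶ G) g (by rw [MonObj.one_comp, hg])),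
      ← Category.assoc, lift_whiskerLeft, ← Hom.mul_def, h1, _root_.one_mul] at h2
    exact h2
  have hpow : ∀ {A B : Over (Spec (CommRingCat.of k))} [GrpObj A] [GrpObj B] {T : Over (Spec (CommRingCat.of k))}
      (x : T ⟶ A) (φ : A ⟶ B) [IsMonHom φ] (m : ℕ), (x ^ m) ≫ φ = (x ≫ φ) ^ m := fun x φ _ m => MonObj.pow_comp x m φ
  -- stabilisation of the images of the powers
  have hex : ∀ j : ℕ, ∃ (I : Over (Spec (CommRingCat.of k))) (_ : GrpObj I) (p : H ⟶ I) (i : I ⟶ H), IsMonHom p ∧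
      IsMonHom i ∧ p ≫ i = (𝟙 H) ^ (n ^ j) ∧ IsClosedImmersion i.left ∧ Flat p.left ∧ Surjective p.left ∧
      LocallyOfFiniteType I.hom ∧ QuasiCompact I.hom := fun j =>
    haveI := GrpSchLib.SemiabIsog.isMonHom_powMap (P := H) (n ^ j)
    GrpSchLib.ImageFactor.exists_image ((𝟙 H) ^ (n ^ j))
  choose I hI p i hp hi hpi hic hpf hps hIl hIq using hex
  haveI : IsLocallyNoetherian H.left := LocallyOfFiniteType.isLocallyNoetherian H.hom
  haveI : CompactSpace H.left := (quasiCompact_iff_compactSpace H.hom).mp inferInstance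
  haveI : AlgebraicGeometry.IsNoetherian H.left := ⟨⟩
  haveI : IsSeparated H.hom := GrpSchLib.AntiAffine.isSeparated_grp H
  have hker : ∀ j, (p j ≫ i j).left.ker = (i j).left.ker := fun j => by
    haveI := hpf j; haveI := hps j
    rw [Over.comp_left, Scheme.Hom.ker_comp, AlgSpDec.ker_eq_bot_of_flat_surjective (p j).left,
      ← Scheme.IdealSheafData.map_bot]
  have hmono : Monotone fun j => (i j).left.ker := monotone_nat_of_le_succ fun j => by
    show (i j).left.ker ≤ (i (j + 1)).left.ker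
    rw [← hker (j + 1), hpi, show (𝟙 H) ^ (n ^ (j + 1)) = ((𝟙 H) ^ n) ≫ ((𝟙 H) ^ (n ^ j)) by
      rw [MonObj.comp_pow, Category.comp_id, ← pow_mul, pow_succ'], Over.comp_left, ← hpi j, Over.comp_left,
      ← Category.assoc]
    exact Scheme.Hom.le_ker_comp _ _
  haveI := H23.FinCondSch.wellFoundedGT (X := H.left)
  obtain ⟨j₀, hj₀⟩ := wellFoundedGT_iff_monotone_chain_condition.mp inferInstance ⟨_, hmono⟩
  haveI := hic (j₀ + M)
  have hle : (i (j₀ + M)).left.ker ≤ (i j₀).left.ker := (hj₀ _ (Nat.le_add_right _ _)).ge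
  let a : I j₀ ⟶ I (j₀ + M) := Over.homMk (IsClosedImmersion.lift (i (j₀ + M)).left (i j₀).left hle) (by
    rw [← Over.w (i (j₀ + M)), ← Category.assoc, IsClosedImmersion.lift_fac, Over.w])
  have ha : a ≫ i (j₀ + M) = i j₀ := Over.OverMorphism.ext (IsClosedImmersion.lift_fac _ _ _)
  -- the subgroup
  haveI := GrpSchLib.SemiabIsog.isMonHom_powMap (P := G) (n ^ (j₀ + M))
  obtain ⟨K₁, _, i₁, hi₁m, hi₁c, -, hi₁k⟩ := GrpSchLib.exists_kernel ((𝟙 G) ^ (n ^ (j₀ + M)))
  let G' : Over (Spec (CommRingCat.of k)) := pullback (i₁ ≫ (𝟙 G) ^ (n ^ M)) iH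
  let r : G' ⟶ K₁ := pullback.fst _ _
  let j : G' ⟶ G := r ≫ i₁
  haveI : IsClosedImmersion r.left := MorphismProperty.of_isPullback
    ((IsPullback.of_hasPullback (i₁ ≫ (𝟙 G) ^ (n ^ M)) iH).map (Over.forget _)).flip hcl
  haveI hjc : IsClosedImmersion j.left := inferInstanceAs (IsClosedImmersion (r.left ≫ i₁.left))
  haveI : Mono j := GrpSchLib.SemiabIsog.mono_ci j
  have hjN : ∀ {T : Over (Spec (CommRingCat.of k))} (x : T ⟶ G'), (x ≫ j) ^ (n ^ (j₀ + M)) = 1 := fun {T} x => by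
    have h := congrArg ((x ≫ r) ≫ ·) hi₁k.w
    simp only [MonObj.one_eq_one, MonObj.comp_one, MonObj.comp_pow, Category.comp_id, Category.assoc] at h
    exact h
  have hjM : ∀ {T : Over (Spec (CommRingCat.of k))} (x : T ⟶ G'), ∃ h : T ⟶ H, h ≫ iH = (x ≫ j) ^ (n ^ M) :=
    fun {T} x => ⟨x ≫ pullback.snd _ _, by
      refine (Category.assoc _ _ _).trans ((congrArg (x ≫ ·) pullback.condition).symm.trans ?_)
      simp only [MonObj.comp_pow, Category.comp_id]
      rfl⟩
  have hlift : ∀ {T : Over (Spec (CommRingCat.of k))} (g : T ⟶ G), g ^ (n ^ (j₀ + M)) = 1 →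
      (∃ h : T ⟶ H, h ≫ iH = g ^ (n ^ M)) → ∃ x : T ⟶ G', x ≫ j = g := fun {T} g h1 ⟨h, h2⟩ => by
    obtain ⟨g₁, hg₁⟩ : ∃ g₁ : T ⟶ K₁, g₁ ≫ i₁ = g :=
      ⟨hi₁k.lift g (toUnit _) (by rw [MonObj.comp_pow, Category.comp_id, h1, MonObj.one_eq_one, MonObj.comp_one]),
        hi₁k.lift_fst _ _ _⟩
    refine ⟨pullback.lift g₁ h (by rw [MonObj.comp_pow, MonObj.comp_pow, Category.comp_id, hg₁, h2]), ?_⟩
    show pullback.lift g₁ h _ ≫ r ≫ i₁ = g
    rw [pullback.lift_fst_assoc, hg₁]
  obtain ⟨e, he⟩ := hlift η[G] (by rw [MonObj.one_eq_one, one_pow])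
    ⟨1, by rw [MonObj.one_comp, MonObj.one_eq_one, one_pow]⟩
  obtain ⟨m, hm⟩ := hlift ((fst G' G' ≫ j) * (snd G' G' ≫ j)) (by rw [mul_pow, hjN, hjN, _root_.one_mul]) (by
    obtain ⟨h₁, hh₁⟩ := hjM (fst G' G'); obtain ⟨h₂, hh₂⟩ := hjM (snd G' G')
    exact ⟨h₁ * h₂, by rw [MonObj.mul_comp, hh₁, hh₂, mul_pow]⟩)
  obtain ⟨v, hv⟩ := hlift j⁻¹ (by
    rw [inv_pow, show j = 𝟙 G' ≫ j from (Category.id_comp _).symm, hjN, inv_one]) (by
    obtain ⟨h₁, hh₁⟩ := hjM (𝟙 G')
    rw [Category.id_comp] at hh₁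
    exact ⟨h₁⁻¹, by rw [GrpObj.inv_comp, hh₁, inv_pow]⟩)
  obtain ⟨str, hj⟩ := GrpSchLib.exists_grpObj_of_mono j e he m hm v hv
  letI := str
  haveI := hj
  have hjQ : ∀ {T : Over (Spec (CommRingCat.of k))} (g : T ⟶ G'), (g ≫ j ≫ q) ^ (n ^ M) = 1 := fun {T} g => by
    obtain ⟨h, hh⟩ := hjM g
    rw [← Category.assoc, ← hpow, ← hh, Category.assoc, hq1]
  refine ⟨G', str, j, hj, hjc, ⟨j₀ + M, fun T g => (cancel_mono j).1 ?_⟩, fun T g => hjQ g, ?_⟩
  · rw [hpow, hjN, MonObj.one_comp]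
  intro K _ κ _ hκ ℓ hℓ
  have hκN : ∀ {T : Over (Spec (CommRingCat.of k))} (x : T ⟶ K), (x ≫ κ) ^ (n ^ M) = 1 := fun x => by
    have := congrArg (x ≫ ·) hκ.w
    simpa only [MonObj.one_eq_one, MonObj.comp_one, MonObj.comp_pow, Category.comp_id] using this
  haveI : Mono κ := ⟨fun x y hxy => hκ.hom_ext hxy (toUnit_unique _ _)⟩
  haveI : IsMonHom ℓ := by
    constructor <;> simp [← cancel_mono κ, hℓ]
  -- lift points of the kernel
  let P : Over (Spec (CommRingCat.of k)) := pullback q κ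
  let π : P ⟶ K := pullback.snd q κ
  let x : P ⟶ G := pullback.fst q κ
  have hxπ : x ≫ q = π ≫ κ := pullback.condition
  haveI : Surjective π.left := MorphismProperty.of_isPullback
    ((IsPullback.of_hasPullback q κ).map (Over.forget _)) hqs
  haveI : Flat π.left := MorphismProperty.of_isPullback
    ((IsPullback.of_hasPullback q κ).map (Over.forget _)) hqf
  obtain ⟨h, hh⟩ := hq2 (x ^ (n ^ M)) (by rw [hpow, hxπ, hκN])
  let T' : Over (Spec (CommRingCat.of k)) := pullback (p (j₀ + M)) (h ≫ p j₀ ≫ a)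
  let h' : T' ⟶ H := pullback.fst _ _
  let c : T' ⟶ P := pullback.snd _ _
  haveI : Surjective c.left := MorphismProperty.of_isPullback
    ((IsPullback.of_hasPullback (p (j₀ + M)) (h ≫ p j₀ ≫ a)).map (Over.forget _)) (hps (j₀ + M))
  haveI : Flat c.left := MorphismProperty.of_isPullback
    ((IsPullback.of_hasPullback (p (j₀ + M)) (h ≫ p j₀ ≫ a)).map (Over.forget _)) (hpf (j₀ + M))
  have hh' : h' ^ (n ^ (j₀ + M)) = (c ≫ h) ^ (n ^ j₀) := by
    have := congrArg (· ≫ i (j₀ + M)) (pullback.condition (f := p (j₀ + M)) (g := h ≫ p j₀ ≫ a))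
    simp only [Category.assoc, ha, hpi, MonObj.comp_pow, Category.comp_id] at this
    exact this
  obtain ⟨y, hy⟩ := hlift ((c ≫ x) / (h' ≫ iH)) (by
    rw [div_pow, ← hpow h' iH, hh', hpow, Category.assoc, hh, ← MonObj.comp_pow, ← MonObj.comp_pow, ← pow_mul,
      ← pow_add, add_comm M j₀, div_self'])
    ⟨(c ≫ h) / h' ^ (n ^ M), by
      rw [GrpObj.div_comp, Category.assoc, hh, hpow, div_pow, MonObj.comp_pow]⟩
  let τ : T' ⟶ K := c ≫ π
  have hy' : y ≫ ℓ = τ := by
    rw [← cancel_mono κ, Category.assoc, hℓ, ← Category.assoc, hy, GrpObj.div_comp, Category.assoc, hxπ,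
      Category.assoc h' iH q, hq1, div_one]
    exact (Category.assoc _ _ _).symm
  haveI : Surjective τ.left := inferInstanceAs (Surjective (c.left ≫ π.left))
  haveI : Flat τ.left := inferInstanceAs (Flat (c.left ≫ π.left))
  haveI hsur : Surjective ℓ.left := by
    haveI : Surjective (y.left ≫ ℓ.left) := by rw [← Over.comp_left, hy']; infer_instance
    exact Surjective.of_comp y.left ℓ.left
  refine ⟨?_, hsur⟩
  -- flatness from the shear
  let Z : Over (Spec (CommRingCat.of k)) := pullback τ ℓ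
  let z₁ : Z ⟶ T' := pullback.fst τ ℓ
  let z₂ : Z ⟶ G' := pullback.snd τ ℓ
  let N : Over (Spec (CommRingCat.of k)) := pullback ℓ η[K]
  let s : N ⟶ G' := pullback.fst ℓ η[K]
  have hs : s ≫ ℓ = 1 := by
    show pullback.fst ℓ η[K] ≫ ℓ = 1
    rw [pullback.condition, MonObj.one_eq_one, MonObj.comp_one]
  let u : T' ⊗ N ⟶ Z := pullback.lift (fst T' N) ((fst T' N ≫ y) * (snd T' N ≫ s)) (by
    rw [MonObj.mul_comp, Category.assoc, hy', Category.assoc, hs, MonObj.comp_one, _root_.mul_one])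
  let w : Z ⟶ N := pullback.lift ((z₁ ≫ y)⁻¹ * z₂) (toUnit Z) (by
    rw [MonObj.mul_comp, GrpObj.inv_comp, Category.assoc, hy', MonObj.one_eq_one, MonObj.comp_one,
      show z₁ ≫ τ = z₂ ≫ ℓ from pullback.condition, inv_mul_cancel])
  let E : T' ⊗ N ≅ Z :=
    { hom := u
      inv := lift z₁ w
      hom_inv_id := by
        refine CartesianMonoidalCategory.hom_ext _ _ ?_ ?_
        · rw [Category.assoc, lift_fst, Category.id_comp]; exact pullback.lift_fst _ _ _
        · rw [Category.assoc, lift_snd, Category.id_comp]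
          refine pullback.hom_ext ?_ (toUnit_unique _ _)
          rw [Category.assoc, pullback.lift_fst, MonObj.comp_mul, GrpObj.comp_inv, ← Category.assoc,
            show u ≫ z₁ = fst T' N from pullback.lift_fst _ _ _,
            show u ≫ z₂ = _ from pullback.lift_snd _ _ _, inv_mul_cancel_left]
      inv_hom_id := by
        refine pullback.hom_ext ?_ ?_
        · rw [Category.assoc, pullback.lift_fst, lift_fst, Category.id_comp]
        · rw [Category.assoc, pullback.lift_snd, MonObj.comp_mul, lift_fst_assoc, lift_snd_assoc,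
            pullback.lift_fst, mul_inv_cancel_left, Category.id_comp] }
  haveI : Flat N.hom := AssLib.flat_over_field N.hom
  haveI : Flat z₁.left := by
    have he : E.hom ≫ z₁ = fst T' N := pullback.lift_fst _ _ _
    haveI : IsIso E.hom.left := ((Over.forget _).mapIso E).isIso_hom
    haveI : Flat (fst T' N).left := inferInstanceAs (Flat (pullback.fst T'.hom N.hom))
    rw [← MorphismProperty.cancel_left_of_respectsIso @Flat E.hom.left, ← Over.comp_left, he]
    infer_instance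
  haveI : Flat z₂.left := MorphismProperty.of_isPullback
    ((IsPullback.of_hasPullback τ ℓ).map (Over.forget _)) ‹Flat τ.left›
  haveI : Surjective z₂.left := MorphismProperty.of_isPullback
    ((IsPullback.of_hasPullback τ ℓ).map (Over.forget _)) ‹Surjective τ.left›
  refine GrpdLib.flat_of_flat_comp z₂.left ℓ.left ?_
  rw [← Over.comp_left, show z₂ ≫ ℓ = z₁ ≫ τ from pullback.condition.symm, Over.comp_left]
  infer_instance

end Groth.Agent.S17804
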