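import Groth.Statements.S17807
import Groth.Agent.CurvePts22.Twist
import Groth.Agent.S1536
import Groth.Agent.GrpSchLib.SmoothReduced
-- import your own Groth.Agent.* helpers here

set_option autoImplicit false
set_option linter.style.haveILetI false
set_option backward.isDefEq.respectTransparency false
set_option backward.isDefEq.respectTransparency.types false
set_option synthInstance.maxHeartbeats 100000
set_option maxHeartbeats 800000
universe u
open CategoryTheory CategoryTheory.Limits AlgebraicGeometry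
open JacVar

namespace Groth.Agent.S17807

/-- Let C be a smooth proper geometrically connected curve of genus g > 0 over a field k with a
k-rational point, and let L be an invertible module on C with h¹(C, L) > 0. Under these hypotheses,
C contains some nonempty open U with the following property: whenever Q is a k-rational point of C
and M is an invertible module satisfying M ⊗ I_Q ≅ L (so M is L(Q)), one has h¹(C, M) = h¹(C, L) − 1
if Q belongs to U, and h¹(C, M) = h¹(C, L) if Q does not. (The published statement is phrased for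
all closed points Q; for a closed point of degree d > 1 the drop can exceed one, so this row states
it for k-rational points Q.) -/
theorem result (k : Type u) [Field k]
    (C : Scheme.{u}) [C.Over (Spec (CommRingCat.of k))]
    [IsProper (C ↘ Spec (CommRingCat.of k))] [Smooth (C ↘ Spec (CommRingCat.of k))] [GeometricallyConnected (C ↘ Spec (CommRingCat.of k))]
    (hdim : topologicalKrullDim ↥C = 1)
    (hg : 0 < Curv2.genus k C)
    (σ₀ : Spec (CommRingCat.of k) ⟶ C) (hσ₀ : σ₀ ≫ (C ↘ Spec (CommRingCat.of k)) = 𝟙 _)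
    (L : C.Modules) (hL : PicF.IsInvertible L) (hL1 : 0 < Module.finrank k (Coh.HH C L 1)) :
    ∃ U : C.Opens, (U : Set ↥C).Nonempty ∧
      ∀ (σ : Spec (CommRingCat.of k) ⟶ C) (hσ : σ ≫ (C ↘ Spec (CommRingCat.of k)) = 𝟙 _) (M : C.Modules) (hM : PicF.IsInvertible M)
        (hML : Nonempty (CohB1.tensorMod M (ClSub.idealMod σ.ker) ≅ L)),
        ((∀ p, σ.base p ∈ U) → Module.finrank k (Coh.HH C M 1) = Module.finrank k (Coh.HH C L 1) - 1) ∧
        ((∀ p, σ.base p ∉ U) → Module.finrank k (Coh.HH C M 1) = Module.finrank k (Coh.HH C L 1)) := by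
  haveI := CurveStable.isIntegral_of_geometricallyConnected k (X := C)
  haveI := CurveCohLib.isNoetherian_of_proper (k := k) (X := C)
  haveI := Groth.Agent.GrpSchLib.geometricallyReduced_of_smooth (C ↘ Spec (CommRingCat.of k))
  have hone : Module.finrank k (Coh.HH C (Coh.structureModule C) 0) = 1 := Groth.Agent.S1536.result k C
  obtain ⟨ω, μ, hω⟩ := CurveDuality.exists_isDualizing k hdim
  letI := H23.PicMul.clMonoid C
  obtain ⟨D, hD, ⟨eD⟩⟩ := H23.PicInv.exists_inverse hL
  have hN := H23.PicMul.isInvertible_tensor hD hω.inv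
  let N := CohB1.tensorMod D ω
  have hLN : Module.finrank k (Coh.HH C L 1) = Module.finrank k (Coh.HH C N 0) :=
    CurveDuality.finrank_h1_eq k hω hdim hL eD
  refine ⟨⨆ s : Coh.structureModule C ⟶ N, CohB1.genLocus N s, ?_, fun σ hσ M hM hML => ?_⟩
  · obtain ⟨s, hs⟩ := CurveRR.exists_hom_ne_zero k (P := N) (by omega)
    obtain ⟨z, hz⟩ := CurveTwistBC.exists_mem_genLocus_of_ne_zero hN hs
    exact ⟨z, TopologicalSpace.Opens.mem_iSup.2 ⟨s, hz⟩⟩
  obtain ⟨p, hp, hker, hpt, he⟩ := CurvePts22.ker_eq_ptIdeal k σ hσ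
  rw [hker] at hML
  have hI := CurvePoint.isInvertible_ptMod p hp k hdim
  have hcl : PicF.cl M * PicF.cl (CurvePoint.ptMod p hp) = PicF.cl L := H23.PicMul.cl_eq_iff.2 hML
  have hLD : PicF.cl L * PicF.cl D = 1 := H23.PicMul.cl_eq_iff.2 ⟨eD⟩
  obtain ⟨eM⟩ := H23.PicMul.cl_eq_iff.1 (show PicF.cl (CohB1.tensorMod M (CohB1.tensorMod D (CurvePoint.ptMod p hp))) =
      PicF.cl (Coh.structureModule C) by
    rw [H23.PicMul.cl_tensor, H23.PicMul.cl_tensor, ← H23.PicMul.one_def, ← hLD, ← hcl, mul_right_comm, mul_assoc])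
  have aux : ∀ (D' W : C.Modules) (eM' : CohB1.tensorMod M D' ≅ Coh.structureModule C)
      (eN' : CohB1.tensorMod D' ω ≅ W),
      Module.finrank k (Coh.HH C M 1) = Module.finrank k (Coh.HH C W 0) := fun D' W eM' eN' =>
    (CurveDuality.finrank_h1_eq k hω hdim hM eM').trans (CurveCohLib.hhEquiv (k := k) eN' 0).finrank_eq
  obtain ⟨eN⟩ : Nonempty (CohB1.tensorMod (CohB1.tensorMod D (CurvePoint.ptMod p hp)) ω ≅
      CohB1.tensorMod N (CurvePoint.ptMod p hp)) := by
    refine H23.PicMul.cl_eq_iff.1 ?_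
    show _ = PicF.cl (CohB1.tensorMod (CohB1.tensorMod D ω) (CurvePoint.ptMod p hp))
    rw [H23.PicMul.cl_tensor, H23.PicMul.cl_tensor, H23.PicMul.cl_tensor, H23.PicMul.cl_tensor]
    exact mul_right_comm _ _ _
  have hMN : Module.finrank k (Coh.HH C M 1) =
      Module.finrank k (Coh.HH C (CohB1.tensorMod N (CurvePoint.ptMod p hp)) 0) := aux _ _ eM eN
  obtain ⟨hdrop, hbase⟩ := CurvePts22.finrank_twist_rat k hdim hN he
  refine ⟨fun h => ?_, fun h => ?_⟩
  · obtain ⟨s, hs⟩ := TopologicalSpace.Opens.mem_iSup.1 (hpt ▸ h (IsLocalRing.closedPoint k))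
    have hd := hdrop s hs
    rw [hMN, hLN]
    exact Nat.eq_sub_of_add_eq hd
  · rw [hMN, hLN]
    exact hbase fun s hs => h (IsLocalRing.closedPoint k) (hpt.symm ▸ TopologicalSpace.Opens.mem_iSup.2 ⟨s, hs⟩)

end Groth.Agent.S17807
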