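import Groth.Statements.S17810
import Groth.Agent.PicCurve.JacData

set_option autoImplicit false
set_option linter.style.haveILetI false
set_option backward.isDefEq.respectTransparency false
set_option backward.isDefEq.respectTransparency.types false
set_option maxHeartbeats 1000000
set_option synthInstance.maxHeartbeats 400000
universe u
open CategoryTheory CategoryTheory.Limits AlgebraicGeometry MonoidalCategory CartesianMonoidalCategory MonObj
open JacVar

namespace Groth.Agent.S17810

/-- The case of a curve with a rational point. Let C be a smooth proper geometrically connected curve of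
genus g > 0 over a field k with a k-rational point P, (J, ψ) its Jacobian (a commutative group
scheme over k, coarse moduli scheme on all k-schemes for degree-0 line bundles on C modulo twisting
from the base, group law induced by tensor product), j : C ⟶ J the Abel map with base point P, and F
: C ×_k C ⟶ J the morphism (x, y) ↦ j(x) · j(y)⁻¹, which sends (x, y) to the class of O(x − y) and
does not depend on P. Then for every abelian variety A over k (commutative group scheme, proper,
smooth and geometrically irreducible over k) and every morphism φ : C ×_k C ⟶ A over k which maps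
the diagonal to the zero of A, there is a unique homomorphism of group schemes J ⟶ A whose composite
with F is φ. (Stated when C has a rational point, through which F is written; the published
statement covers every C by descent.) -/
theorem result (k : Type u) [Field k]
    (C : Scheme.{u}) [C.Over (Spec (CommRingCat.of k))]
    [IsProper (C ↘ Spec (CommRingCat.of k))] [Smooth (C ↘ Spec (CommRingCat.of k))] [GeometricallyConnected (C ↘ Spec (CommRingCat.of k))]
    (hdim : topologicalKrullDim ↥C = 1)
    (hg : 0 < Curv2.genus k C)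
    (σ : Spec (CommRingCat.of k) ⟶ C) (hσ : σ ≫ (C ↘ Spec (CommRingCat.of k)) = 𝟙 _)
    (J : Over (Spec (CommRingCat.of k))) [GrpObj J] [IsCommMonObj J]
    (ψ : (ModFun.PicDeg (C ↘ Spec (CommRingCat.of k)) 0).Hom ⊤ J) (hJ : Jac.IsJacobian (C ↘ Spec (CommRingCat.of k)) ⊤ J ψ)
    (j : Over.mk (C ↘ Spec (CommRingCat.of k)) ⟶ J) (hj : Jac.IsAbelJacobiAt (C ↘ Spec (CommRingCat.of k)) σ ψ j)
    (A : Over (Spec (CommRingCat.of k))) [GrpObj A] [IsCommMonObj A]
    [IsProper A.hom] [Smooth A.hom] [GeometricallyIrreducible A.hom]
    (φ : Over.mk (C ↘ Spec (CommRingCat.of k)) ⊗ Over.mk (C ↘ Spec (CommRingCat.of k)) ⟶ A)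
    (hφ : lift (𝟙 (Over.mk (C ↘ Spec (CommRingCat.of k)))) (𝟙 (Over.mk (C ↘ Spec (CommRingCat.of k)))) ≫ φ = toUnit _ ≫ η[A]) :
    ∃! χ : J ⟶ A, IsMonHom χ ∧
      ((fst (Over.mk (C ↘ Spec (CommRingCat.of k))) (Over.mk (C ↘ Spec (CommRingCat.of k))) ≫ j) * (snd (Over.mk (C ↘ Spec (CommRingCat.of k))) (Over.mk (C ↘ Spec (CommRingCat.of k))) ≫ j)⁻¹) ≫ χ = φ := by
  haveI : SmoothOfRelativeDimension 1 (C ↘ Spec (CommRingCat.of k)) :=
    Groth.Agent.PicTangent.JacDeg.smoothOfRelativeDimension_one _
      (Groth.Agent.EllLaw.fibre_dim_of_field _ hdim)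
  obtain ⟨ζ, hc, hm, hp, hs, hgi⟩ := Groth.Agent.PicCurve.exists_data (C ↘ Spec (CommRingCat.of k)) σ hσ hJ
  haveI := hp
  haveI := hs
  haveI := hgi
  haveI : GeometricallyIntegral A.hom := Groth.Agent.PicCurve.geometricallyIntegral_of_smooth _
  exact Groth.Agent.PicCurve.existsUnique_factor_diff (C ↘ Spec (CommRingCat.of k)) σ hσ hc.1 hm
    (Groth.Agent.PicCurve.isAbel_of_classifies _ σ hσ hc hj)
    (Groth.Agent.PicCurve.fiberRank_genus (C ↘ Spec (CommRingCat.of k)) _ rfl) hg A φ hφ

end Groth.Agent.S17810
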