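import Groth.Statements.S17814
import Groth.Agent.FibLe16.Basic
-- import your own Groth.Agent.* helpers here

set_option autoImplicit false
universe u
open CategoryTheory CategoryTheory.Limits AlgebraicGeometry
open SDiv

namespace Groth.Agent.S17814
open Groth.Agent

/-- Let T be a reduced locally Noetherian scheme, π : 𝒞 ⟶ T a proper smooth morphism of relative
dimension 1, and D, D' relative effective divisors on 𝒞/T: closed subschemes whose ideal sheaves are
locally generated by a single nonzerodivisor and which are flat over T. If for every point t of T
the fibre of D over t contains the fibre of D' as closed subschemes of 𝒞_t (containment of ideal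
sheaves the other way), then D contains D': the ideal sheaf of D is contained in that of D'. (The
published statement has no hypothesis on T; over T = Spec k[ε] the divisors x = 0 and x = ε on the
projective line have equal fibres while neither contains the other. This row assumes T reduced and
locally Noetherian.) -/
theorem result {𝒞 T : Scheme.{u}} [IsLocallyNoetherian T] [AlgebraicGeometry.IsReduced T]
    (π : 𝒞 ⟶ T) [IsProper π] [SmoothOfRelativeDimension 1 π]
    (D D' : 𝒞.IdealSheafData)
    (hD : BlowUp.IsEffCartierIdeal D ∧ Flat (D.subschemeι ≫ π))
    (hD' : BlowUp.IsEffCartierIdeal D' ∧ Flat (D'.subschemeι ≫ π))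
    (hfib : ∀ t : ↥T, D.comap (pullback.fst π (T.fromSpecResidueField t)) ≤
      D'.comap (pullback.fst π (T.fromSpecResidueField t))) :
    D ≤ D' := by
  exact FibLe16.le_of_fibre π D D' hD'.2 hfib

end Groth.Agent.S17814
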