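import Groth.Statements.S17815
import Groth.Agent.Torelli18.Main

set_option autoImplicit false
set_option backward.isDefEq.respectTransparency false
set_option backward.isDefEq.respectTransparency.types false
set_option linter.style.haveILetI false
set_option maxHeartbeats 1000000
set_option synthInstance.maxHeartbeats 400000
universe u
open CategoryTheory CategoryTheory.Limits AlgebraicGeometry MonoidalCategory CartesianMonoidalCategory MonObj
open JacVar

namespace Groth.Agent.S17815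

/-- The non-hyperelliptic case. Let k be an algebraically closed field, C and C' smooth proper connected
curves of genus g ≥ 2 over k with k-points P and P', (J, ψ) and (J', ψ') their Jacobians
(commutative group schemes over k, coarse moduli schemes on all k-schemes for degree-0 line bundles
modulo twisting from the base, group law induced by tensor product), j and j' the Abel maps with
base points P and P', and β : J ≅ J' an isomorphism of group schemes over k. Suppose C is not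
hyperelliptic: no invertible module of degree 2 on C has a two-dimensional space of global sections.
Then the isomorphism, the sign and the translation in Torelli's conclusion are uniquely determined
by β, P and P': if isomorphisms α₁, α₂ : C ≅ C' over k, k-points c₁, c₂ of J' and signs s₁, s₂ ∈ {1,
−1} satisfy j' ∘ α_i = (β ∘ j)^{s_i} · c_i for i = 1, 2, then α₁ = α₂, s₁ = s₂ and c₁ = c₂. (The
published statement takes β an isomorphism of the canonically polarized Jacobians; this row allows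
any isomorphism of group schemes β.) -/
theorem result (k : Type u) [Field k] [IsAlgClosed k]
    (C : Scheme.{u}) [C.Over (Spec (CommRingCat.of k))]
    [IsProper (C ↘ Spec (CommRingCat.of k))] [Smooth (C ↘ Spec (CommRingCat.of k))] [GeometricallyConnected (C ↘ Spec (CommRingCat.of k))]
    (hdim : topologicalKrullDim ↥C = 1)
    (C' : Scheme.{u}) [C'.Over (Spec (CommRingCat.of k))]
    [IsProper (C' ↘ Spec (CommRingCat.of k))] [Smooth (C' ↘ Spec (CommRingCat.of k))] [GeometricallyConnected (C' ↘ Spec (CommRingCat.of k))]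
    (hdim' : topologicalKrullDim ↥C' = 1)
    (g : ℕ) (hg : Curv2.genus k C = g) (hg' : Curv2.genus k C' = g) (hg2 : 2 ≤ g)
    (σ : Spec (CommRingCat.of k) ⟶ C) (hσ : σ ≫ (C ↘ Spec (CommRingCat.of k)) = 𝟙 _) (σ' : Spec (CommRingCat.of k) ⟶ C') (hσ' : σ' ≫ (C' ↘ Spec (CommRingCat.of k)) = 𝟙 _)
    (J : Over (Spec (CommRingCat.of k))) [GrpObj J] [IsCommMonObj J]
    (ψ : (ModFun.PicDeg (C ↘ Spec (CommRingCat.of k)) 0).Hom ⊤ J) (hJ : Jac.IsJacobian (C ↘ Spec (CommRingCat.of k)) ⊤ J ψ)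
    (J' : Over (Spec (CommRingCat.of k))) [GrpObj J'] [IsCommMonObj J']
    (ψ' : (ModFun.PicDeg (C' ↘ Spec (CommRingCat.of k)) 0).Hom ⊤ J') (hJ' : Jac.IsJacobian (C' ↘ Spec (CommRingCat.of k)) ⊤ J' ψ')
    (j : Over.mk (C ↘ Spec (CommRingCat.of k)) ⟶ J) (hj : Jac.IsAbelJacobiAt (C ↘ Spec (CommRingCat.of k)) σ ψ j)
    (j' : Over.mk (C' ↘ Spec (CommRingCat.of k)) ⟶ J') (hj' : Jac.IsAbelJacobiAt (C' ↘ Spec (CommRingCat.of k)) σ' ψ' j')
    (β : J ≅ J') [IsMonHom β.hom]
    (hnh : ¬ ∃ L : C.Modules, PicF.IsInvertible L ∧ Curv2.deg k C L 1 = 2 ∧ Module.finrank k (Coh.HH C L 0) = 2)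
    (α₁ α₂ : C ≅ C') (hα₁ : α₁.hom ≫ (C' ↘ Spec (CommRingCat.of k)) = (C ↘ Spec (CommRingCat.of k))) (hα₂ : α₂.hom ≫ (C' ↘ Spec (CommRingCat.of k)) = (C ↘ Spec (CommRingCat.of k)))
    (c₁ c₂ : 𝟙_ (Over (Spec (CommRingCat.of k))) ⟶ J') (s₁ s₂ : ℤ) (hs₁ : s₁ = 1 ∨ s₁ = -1) (hs₂ : s₂ = 1 ∨ s₂ = -1)
    (h₁ : Over.homMk α₁.hom hα₁ ≫ j' = (j ≫ β.hom) ^ s₁ * (toUnit (Over.mk (C ↘ Spec (CommRingCat.of k))) ≫ c₁))
    (h₂ : Over.homMk α₂.hom hα₂ ≫ j' = (j ≫ β.hom) ^ s₂ * (toUnit (Over.mk (C ↘ Spec (CommRingCat.of k))) ≫ c₂)) :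
    α₁ = α₂ ∧ s₁ = s₂ ∧ c₁ = c₂ := by
  let f := C ↘ Spec (CommRingCat.of k)
  let f' := C' ↘ Spec (CommRingCat.of k)
  haveI : SmoothOfRelativeDimension 1 f :=
    Groth.Agent.PicTangent.JacDeg.smoothOfRelativeDimension_one _ (Groth.Agent.EllLaw.fibre_dim_of_field _ hdim)
  haveI : SmoothOfRelativeDimension 1 f' :=
    Groth.Agent.PicTangent.JacDeg.smoothOfRelativeDimension_one _ (Groth.Agent.EllLaw.fibre_dim_of_field _ hdim')
  haveI : IsIntegral C := by
    haveI := Groth.Agent.PicTangent.JacDeg.geometricallyIntegral f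
    exact GeometricallyIntegral.isIntegral_of_subsingleton f
  haveI : IsIntegral C' := by
    haveI := Groth.Agent.PicTangent.JacDeg.geometricallyIntegral f'
    exact GeometricallyIntegral.isIntegral_of_subsingleton f'
  let A₁ : Over.mk f ⟶ Over.mk f' := Over.homMk α₁.hom hα₁
  let A₂ : Over.mk f ⟶ Over.mk f' := Over.homMk α₂.hom hα₂
  have i₁ : Function.Injective (show C ⟶ C' from A₁.left) := α₁.hom.homeomorph.injective
  have i₂ : Function.Injective (show C ⟶ C' from A₂.left) := α₂.hom.homeomorph.injective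
  have hs : s₁ = s₂ := by
    by_contra hne
    have hs' : s₂ = -s₁ := by rcases hs₁ with h | h <;> rcases hs₂ with h' | h' <;> omega
    subst hs'
    obtain ⟨L, hL, hLd, hL0⟩ := Groth.Agent.Torelli18.exists_pencil f f' σ' hσ' hJ' hj' hdim hdim' (by
      show 1 ≤ Curv2.genus k C'
      omega) A₁ A₂ i₁ fun x y hx hy => by
      rw [Groth.Agent.Torelli18.eval_rel (j ≫ β.hom) A₁ j' s₁ c₁ h₁ x hx,
        Groth.Agent.Torelli18.eval_rel (j ≫ β.hom) A₂ j' (-s₁) c₂ h₂ x hx,
        Groth.Agent.Torelli18.eval_rel (j ≫ β.hom) A₁ j' s₁ c₁ h₁ y hy,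
        Groth.Agent.Torelli18.eval_rel (j ≫ β.hom) A₂ j' (-s₁) c₂ h₂ y hy,
        _root_.mul_mul_mul_comm, zpow_neg, mul_inv_cancel, _root_.mul_mul_mul_comm, zpow_neg, mul_inv_cancel]
    haveI : IsLocallyNoetherian C' := LocallyOfFiniteType.isLocallyNoetherian f'
    have hq := (Groth.Agent.CurveDeg.isCoh_of_isInvertible hL).1
    refine hnh ⟨(Scheme.Modules.pullback α₁.hom).obj L, Groth.Agent.PicClLib.isInvertible_pullback _ hL, ?_, ?_⟩
    · rw [Groth.Agent.Torelli18.deg_pullback α₁.hom hα₁ hq]; exact hLd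
    · rw [Groth.Agent.Torelli18.finrank_HH_pullback α₁.hom hα₁ hq]; exact hL0
  subst hs
  have hA : A₁ = A₂ := by
    refine Groth.Agent.Torelli18.eq_of_translate f f' σ' hσ' hJ' hj' hdim hdim' (by
      show 2 ≤ Curv2.genus k C'
      omega) A₁ A₂ i₁ i₂ fun x y hx hy => ?_
    rw [Groth.Agent.Torelli18.eval_rel (j ≫ β.hom) A₁ j' s₁ c₁ h₁ x hx,
      Groth.Agent.Torelli18.eval_rel (j ≫ β.hom) A₂ j' s₁ c₂ h₂ y hy,
      Groth.Agent.Torelli18.eval_rel (j ≫ β.hom) A₁ j' s₁ c₁ h₁ y hy,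
      Groth.Agent.Torelli18.eval_rel (j ≫ β.hom) A₂ j' s₁ c₂ h₂ x hx]
    ac_rfl
  have hα : α₁ = α₂ := Iso.ext (congrArg (fun a : Over.mk f ⟶ Over.mk f' => a.left) hA)
  subst hα
  have hc : c₁ = c₂ := by
    let p : 𝟙_ (Over (Spec (CommRingCat.of k))) ⟶ Over.mk f := Over.homMk σ hσ
    have h := mul_left_cancel (h₁.symm.trans h₂)
    have h' := congrArg (p ≫ ·) h
    have hp : ∀ c : 𝟙_ (Over (Spec (CommRingCat.of k))) ⟶ J', p ≫ toUnit (Over.mk f) ≫ c = c := fun c => by
      rw [← Category.assoc, toUnit_unique (p ≫ toUnit (Over.mk f)) (𝟙 _), Category.id_comp]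
    exact (hp c₁).symm.trans (h'.trans (hp c₂))
  exact ⟨rfl, rfl, hc⟩

end Groth.Agent.S17815
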