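import Groth.Statements.S17816
import Groth.Agent.PicCurve.Corr

set_option autoImplicit false
set_option linter.style.haveILetI false
set_option linter.unusedSectionVars false
set_option backward.isDefEq.respectTransparency false
set_option backward.isDefEq.respectTransparency.types false
set_option maxHeartbeats 1000000
set_option synthInstance.maxHeartbeats 400000
universe u
open CategoryTheory CategoryTheory.Limits AlgebraicGeometry MonoidalCategory CartesianMonoidalCategory MonObj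
open JacVar

namespace Groth.Agent.S17816

open Groth.Agent Groth.Agent.H23 Groth.Agent.H23.PicMul Groth.Agent.EllLaw Groth.Agent.PicCurve Groth.Agent.PicTangent Groth.Agent.PicTangent.JacDiff Groth.Agent.Pic13Lib
open scoped Groth.Agent.H23.PicMul

attribute [local instance] PicMul.clMonoid

/-- Let k be a field and C₁, C₂ smooth proper geometrically connected curves of positive genus over k
with k-points P₁ and P₂; let (J₁, ψ₁) and (J₂, ψ₂) be their Jacobians (commutative group schemes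
over k, coarse moduli schemes on all k-schemes for degree-0 line bundles modulo twisting from the
base, group law induced by tensor product), j₁ : C₁ ⟶ J₁ the Abel map with base point P₁, and M a
universal degree-0 family on C₂ × J₂ which is trivial along P₂ × J₂ and whose classifying morphism
under ψ₂ is the identity of J₂ (the sheaf M^{P₂}). For a homomorphism χ : J₁ ⟶ J₂ let Φ(χ) be the
class of the pullback of M along 1 × (χ ∘ j₁) : C₂ × C₁ ⟶ C₂ × J₂. Then χ ↦ Φ(χ) is a bijection from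
the homomorphisms of group schemes J₁ ⟶ J₂ onto the isomorphism classes of divisorial
correspondences between (C₂, P₂) and (C₁, P₁), i.e. classes of invertible modules on C₂ ×_k C₁
trivial on P₂ × C₁ and on C₂ × P₁: each Φ(χ) is such a class, Φ is injective on homomorphisms, and
every such class is Φ(χ) for a homomorphism χ. -/
theorem result (k : Type u) [Field k]
    (C₁ : Scheme.{u}) [C₁.Over (Spec (CommRingCat.of k))]
    [IsProper (C₁ ↘ Spec (CommRingCat.of k))] [Smooth (C₁ ↘ Spec (CommRingCat.of k))] [GeometricallyConnected (C₁ ↘ Spec (CommRingCat.of k))]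
    (hdim₁ : topologicalKrullDim ↥C₁ = 1)
    (C₂ : Scheme.{u}) [C₂.Over (Spec (CommRingCat.of k))]
    [IsProper (C₂ ↘ Spec (CommRingCat.of k))] [Smooth (C₂ ↘ Spec (CommRingCat.of k))] [GeometricallyConnected (C₂ ↘ Spec (CommRingCat.of k))]
    (hdim₂ : topologicalKrullDim ↥C₂ = 1)
    (hg₁ : 0 < Curv2.genus k C₁) (hg₂ : 0 < Curv2.genus k C₂)
    (σ₁ : Spec (CommRingCat.of k) ⟶ C₁) (hσ₁ : σ₁ ≫ (C₁ ↘ Spec (CommRingCat.of k)) = 𝟙 _) (σ₂ : Spec (CommRingCat.of k) ⟶ C₂) (hσ₂ : σ₂ ≫ (C₂ ↘ Spec (CommRingCat.of k)) = 𝟙 _)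
    (J₁ : Over (Spec (CommRingCat.of k))) [GrpObj J₁] [IsCommMonObj J₁]
    (ψ₁ : (ModFun.PicDeg (C₁ ↘ Spec (CommRingCat.of k)) 0).Hom ⊤ J₁) (hJ₁ : Jac.IsJacobian (C₁ ↘ Spec (CommRingCat.of k)) ⊤ J₁ ψ₁)
    (J₂ : Over (Spec (CommRingCat.of k))) [GrpObj J₂] [IsCommMonObj J₂]
    (ψ₂ : (ModFun.PicDeg (C₂ ↘ Spec (CommRingCat.of k)) 0).Hom ⊤ J₂) (hJ₂ : Jac.IsJacobian (C₂ ↘ Spec (CommRingCat.of k)) ⊤ J₂ ψ₂)
    (j₁ : Over.mk (C₁ ↘ Spec (CommRingCat.of k)) ⟶ J₁) (hj₁ : Jac.IsAbelJacobiAt (C₁ ↘ Spec (CommRingCat.of k)) σ₁ ψ₁ j₁)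
    (Pu : (PicF.XT (C₂ ↘ Spec (CommRingCat.of k)) J₂).Modules) (hPu : ModFun.IsUnivFamily ⊤ (ModFun.PicDeg (C₂ ↘ Spec (CommRingCat.of k)) 0) J₂ Pu)
    (hPn : Jac.IsNormAlong (C₂ ↘ Spec (CommRingCat.of k)) σ₂ hσ₂ J₂ Pu)
    (hT₂ : (⊤ : ObjectProperty (Over (Spec (CommRingCat.of k)))) J₂) (hPuψ : ψ₂.app J₂ Pu hT₂ hPu.1 = 𝟙 J₂) :
    (∀ χ : J₁ ⟶ J₂, IsMonHom χ →
      (PicF.IsInvertibleCl (PicF.pullCl (PicF.XTmap (C₂ ↘ Spec (CommRingCat.of k)) (j₁ ≫ χ)) (PicF.cl Pu)) ∧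
        PicF.IsTrivialCl (PicF.pullCl (PicF.secT (C₂ ↘ Spec (CommRingCat.of k)) σ₂ hσ₂ (Over.mk (C₁ ↘ Spec (CommRingCat.of k)))) (PicF.pullCl (PicF.XTmap (C₂ ↘ Spec (CommRingCat.of k)) (j₁ ≫ χ)) (PicF.cl Pu))) ∧
        PicF.IsTrivialCl (PicF.pullCl (PicF.XTmap (C₂ ↘ Spec (CommRingCat.of k)) (Over.homMk σ₁ hσ₁ : 𝟙_ (Over (Spec (CommRingCat.of k))) ⟶ Over.mk (C₁ ↘ Spec (CommRingCat.of k)))) (PicF.pullCl (PicF.XTmap (C₂ ↘ Spec (CommRingCat.of k)) (j₁ ≫ χ)) (PicF.cl Pu))))) ∧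
    (∀ χ₁ χ₂ : J₁ ⟶ J₂, IsMonHom χ₁ → IsMonHom χ₂ →
      PicF.pullCl (PicF.XTmap (C₂ ↘ Spec (CommRingCat.of k)) (j₁ ≫ χ₁)) (PicF.cl Pu) = PicF.pullCl (PicF.XTmap (C₂ ↘ Spec (CommRingCat.of k)) (j₁ ≫ χ₂)) (PicF.cl Pu) → χ₁ = χ₂) ∧
    (∀ c : PicF.Cl (PicF.XT (C₂ ↘ Spec (CommRingCat.of k)) (Over.mk (C₁ ↘ Spec (CommRingCat.of k)))),
      (PicF.IsInvertibleCl (c) ∧
        PicF.IsTrivialCl (PicF.pullCl (PicF.secT (C₂ ↘ Spec (CommRingCat.of k)) σ₂ hσ₂ (Over.mk (C₁ ↘ Spec (CommRingCat.of k)))) (c)) ∧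
        PicF.IsTrivialCl (PicF.pullCl (PicF.XTmap (C₂ ↘ Spec (CommRingCat.of k)) (Over.homMk σ₁ hσ₁ : 𝟙_ (Over (Spec (CommRingCat.of k))) ⟶ Over.mk (C₁ ↘ Spec (CommRingCat.of k)))) (c))) →
      ∃ χ : J₁ ⟶ J₂, IsMonHom χ ∧ PicF.pullCl (PicF.XTmap (C₂ ↘ Spec (CommRingCat.of k)) (j₁ ≫ χ)) (PicF.cl Pu) = c) := by
  let f₁ := C₁ ↘ Spec (CommRingCat.of k)
  let f₂ := C₂ ↘ Spec (CommRingCat.of k)
  haveI : SmoothOfRelativeDimension 1 f₁ :=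
    Groth.Agent.PicTangent.JacDeg.smoothOfRelativeDimension_one _
      (Groth.Agent.EllLaw.fibre_dim_of_field _ hdim₁)
  haveI : SmoothOfRelativeDimension 1 f₂ :=
    Groth.Agent.PicTangent.JacDeg.smoothOfRelativeDimension_one _
      (Groth.Agent.EllLaw.fibre_dim_of_field _ hdim₂)
  obtain ⟨ζ₁, hc₁, hm₁, hp₁, hs₁, hi₁⟩ := exists_data f₁ σ₁ hσ₁ hJ₁
  obtain ⟨ζ₂, hc₂, hm₂, hp₂, hs₂, hi₂⟩ := exists_data f₂ σ₂ hσ₂ hJ₂
  haveI := hp₁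
  haveI := hs₁
  haveI := hi₁
  haveI := hp₂
  haveI := hi₂
  haveI := hs₂
  have hA := isAbel_of_classifies f₁ σ₁ hσ₁ hc₁ hj₁
  have hPu' : PicF.cl Pu = ζ₂.1 := cl_eq_of_norm f₂ σ₂ hσ₂ hc₂ hT₂ hPu.1 hPn hPuψ
  have hcls : ∀ χ : J₁ ⟶ J₂, PicF.pullCl (PicF.XTmap f₂ (j₁ ≫ χ)) (PicF.cl Pu) = cls f₂ σ₂ hσ₂ ζ₂ (j₁ ≫ χ) :=
    fun χ => congrArg _ hPu'
  let p : 𝟙_ (Over (Spec (CommRingCat.of k))) ⟶ Over.mk f₁ := Over.homMk σ₁ hσ₁
  have hpj : p ≫ j₁ = η[J₁] := by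
    have e : p ≫ cst f₁ σ₁ hσ₁ (Over.mk f₁) = p := Over.OverMorphism.ext (by
      show σ₁ ≫ f₁ ≫ σ₁ = σ₁
      rw [← Category.assoc, hσ₁, Category.id_comp])
    rw [← e, Category.assoc, cst_comp_abel f₁ σ₁ hσ₁ hc₁.1 hm₁ hA, MonObj.comp_one, MonObj.one_eq_one]
  have hn₁ : ∀ s, CohIII.fiberRank f₁ (Coh.structureModule C₁) 1 s = Curv2.genus k C₁ := fiberRank_genus f₁ _ rfl
  refine ⟨fun χ hχ => ?_, fun χ₁ χ₂ h₁ h₂ e => ?_, fun c hc => ?_⟩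
  · haveI := hχ
    refine ⟨PicClLib.isInvertibleCl_pullCl _ ⟨Pu, rfl, ((picDeg_ok_iff f₂).1 hPu.1).1⟩, ?_, ?_⟩
    · rw [hcls]
      exact (RigPoints.pullRig f₂ σ₂ hσ₂ (j₁ ≫ χ) ζ₂).2.2
    · show PicF.pullCl (PicF.XTmap f₂ p) (PicF.pullCl _ _) = _
      rw [hcls, pull_cls, reassoc_of% hpj, IsMonHom.one_hom, MonObj.one_eq_one, cls_one f₂ σ₂ hσ₂ hm₂]
      exact PicMul.one_def
  · haveI := h₁
    haveI := h₂
    rw [hcls, hcls] at e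
    exact hom_eq_of_comp f₁ σ₁ hσ₁ hn₁ hc₁.1 hm₁ hA hg₁ χ₁ χ₂ (hom_ext_rel f₂ σ₂ hσ₂ hc₂.1 (Rel.of_eq e))
  · obtain ⟨hci, hct, hc0⟩ := hc
    haveI : IsIntegral (Over.mk f₁).left := by
      haveI := Groth.Agent.PicTangent.JacDeg.geometricallyIntegral f₁
      haveI : GeometricallyIntegral (Over.mk f₁).hom := ‹GeometricallyIntegral f₁›
      exact H23.MaxAbelian.isIntegral_of_geometricallyIntegral
    obtain ⟨g, hg0, hg⟩ := exists_pointed f₂ σ₂ hσ₂ hc₂.1 hm₂ p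
      ⟨c, hci, hct⟩ hc0
    haveI : IsSeparated J₂.hom := inferInstance
    obtain ⟨χ, ⟨hχ, hχj⟩, -⟩ := existsUnique_factor f₁ σ₁ hσ₁ hc₁.1 hm₁ hA hn₁ hg₁ J₂ g (by
      show (p ≫ g).left = _
      rw [hg0, MonObj.one_eq_one])
    refine ⟨χ, hχ, ?_⟩
    rw [hcls, hχj]
    exact hg

end Groth.Agent.S17816
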