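import Groth.Statements.S17817
import Groth.Agent.CurveInAV.Final
import Groth.Agent.PicCurve.JacData

set_option autoImplicit false
set_option backward.isDefEq.respectTransparency false
set_option backward.isDefEq.respectTransparency.types false
set_option linter.style.haveILetI false
universe u
open CategoryTheory CategoryTheory.Limits AlgebraicGeometry MonoidalCategory CartesianMonoidalCategory MonObj
open JacVar

namespace Groth.Agent.S17817

/-- Let k be an infinite field and A an abelian variety over k (a commutative group scheme, proper,
smooth and geometrically irreducible over k) of positive dimension. Then there is a closed subscheme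
C of A which is a smooth proper geometrically connected curve over k such that, for every k-rational
point P of C, every Jacobian (J, ψ) of C (commutative group scheme over k, coarse moduli scheme on
all k-schemes for degree-0 line bundles modulo twisting from the base, group law induced by tensor
product), every Abel map j : C ⟶ J with base point P and every homomorphism χ : J ⟶ A with χ ∘ j
equal to the inclusion of C followed by translation by the inverse of P, the morphism χ is
surjective: A is a quotient of the Jacobian of C. (The universal property is expressed through a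
rational point of C; for C without rational points only the existence of the curve is asserted
here.) -/
theorem result (k : Type u) [Field k] [Infinite k]
    (A : Over (Spec (CommRingCat.of k))) [GrpObj A] [IsCommMonObj A]
    [IsProper A.hom] [Smooth A.hom] [GeometricallyIrreducible A.hom]
    (hA : 1 ≤ topologicalKrullDim ↥A.left) :
    ∃ (C : Scheme.{u}) (i : C ⟶ A.left), IsClosedImmersion i ∧ IsProper (i ≫ A.hom) ∧ Smooth (i ≫ A.hom) ∧
      GeometricallyConnected (i ≫ A.hom) ∧ topologicalKrullDim ↥C = 1 ∧
      ∀ (σ : Spec (CommRingCat.of k) ⟶ C) (hσ : σ ≫ (i ≫ A.hom) = 𝟙 _)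
        (J : Over (Spec (CommRingCat.of k))) [GrpObj J] [IsCommMonObj J] (ψ : (ModFun.PicDeg (i ≫ A.hom) 0).Hom ⊤ J),
        Jac.IsJacobian (i ≫ A.hom) ⊤ J ψ →
        ∀ (j : Over.mk (i ≫ A.hom) ⟶ J), Jac.IsAbelJacobiAt (i ≫ A.hom) σ ψ j →
        ∀ (χ : J ⟶ A), IsMonHom χ →
          j ≫ χ = (Over.homMk i rfl : Over.mk (i ≫ A.hom) ⟶ A) *
            (toUnit (Over.mk (i ≫ A.hom)) ≫ (Over.homMk (σ ≫ i) ((Category.assoc σ i A.hom).trans hσ) : 𝟙_ (Over (Spec (CommRingCat.of k))) ⟶ A))⁻¹ →
          Function.Surjective χ.left.base := by
  obtain ⟨C, i, hC⟩ := Groth.Agent.CurveInAV.exists_good_curve (A := A) hA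
  haveI := hC.clImm
  haveI := hC.smooth
  haveI := hC.geometricallyConnected
  refine ⟨C, i, hC.clImm, inferInstance, SmoothOfRelativeDimension.smooth 1 _, hC.geometricallyConnected,
    by simpa using hC.dim, ?_⟩
  intro σ hσ J _ _ ψ hJ j _ χ hχ hjχ
  obtain ⟨ζ, -, -, h1, -, h3⟩ := Groth.Agent.PicCurve.exists_data (i ≫ A.hom) σ hσ hJ
  haveI := h1
  haveI := h3
  haveI := hχ
  exact Groth.Agent.CurveInAV.surjective_of_good χ hC j _ hjχ σ hσ

end Groth.Agent.S17817
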