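import Groth.Statements.S17818
import Groth.Agent.PicCurve.Corr

set_option autoImplicit false
set_option linter.style.haveILetI false
set_option linter.unusedSectionVars false
set_option backward.isDefEq.respectTransparency false
set_option backward.isDefEq.respectTransparency.types false
set_option maxHeartbeats 1000000
set_option synthInstance.maxHeartbeats 400000
universe u
open CategoryTheory CategoryTheory.Limits AlgebraicGeometry MonoidalCategory CartesianMonoidalCategory MonObj
open JacVar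

namespace Groth.Agent.S17818

open Groth.Agent Groth.Agent.H23 Groth.Agent.H23.PicMul Groth.Agent.EllLaw Groth.Agent.PicCurve Groth.Agent.PicTangent Groth.Agent.PicTangent.JacDiff Groth.Agent.Pic13Lib
open scoped Groth.Agent.H23.PicMul

attribute [local instance] PicMul.clMonoid

/-- Let C be a smooth proper geometrically connected curve of genus g > 0 over a field k with a
k-rational point P, (J, ψ) its Jacobian (a commutative group scheme over k, coarse moduli scheme on
all k-schemes for degree-0 line bundles modulo twisting from the base, group law induced by tensor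
product), M the universal family on C × J normalised along P × J whose classifying morphism under ψ
is the identity (the sheaf M^P), j : C ⟶ J the Abel map with base point P, and L^P the module on C ×
C with L^P ⊗ I_Δ ≅ pr₁^* I_P ⊗ pr₂^* I_P, i.e. O(Δ − C × P − P × C). If N is an invertible module on
C × J, trivial along P × J and along C × 0 (a divisorial correspondence between (C, P) and J), whose
pullback along 1 × j is isomorphic to L^P, then N is isomorphic to M. -/
theorem result (k : Type u) [Field k]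
    (C : Scheme.{u}) [C.Over (Spec (CommRingCat.of k))]
    [IsProper (C ↘ Spec (CommRingCat.of k))] [Smooth (C ↘ Spec (CommRingCat.of k))] [GeometricallyConnected (C ↘ Spec (CommRingCat.of k))]
    (hdim : topologicalKrullDim ↥C = 1)
    (hg : 0 < Curv2.genus k C)
    (σ : Spec (CommRingCat.of k) ⟶ C) (hσ : σ ≫ (C ↘ Spec (CommRingCat.of k)) = 𝟙 _)
    (J : Over (Spec (CommRingCat.of k))) [GrpObj J] [IsCommMonObj J]
    (ψ : (ModFun.PicDeg (C ↘ Spec (CommRingCat.of k)) 0).Hom ⊤ J) (hJ : Jac.IsJacobian (C ↘ Spec (CommRingCat.of k)) ⊤ J ψ)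
    (Pu : (PicF.XT (C ↘ Spec (CommRingCat.of k)) J).Modules) (hPu : ModFun.IsUnivFamily ⊤ (ModFun.PicDeg (C ↘ Spec (CommRingCat.of k)) 0) J Pu)
    (hPn : Jac.IsNormAlong (C ↘ Spec (CommRingCat.of k)) σ hσ J Pu)
    (hT : (⊤ : ObjectProperty (Over (Spec (CommRingCat.of k)))) J) (hPuψ : ψ.app J Pu hT hPu.1 = 𝟙 J)
    (j : Over.mk (C ↘ Spec (CommRingCat.of k)) ⟶ J) (hj : Jac.IsAbelJacobiAt (C ↘ Spec (CommRingCat.of k)) σ ψ j)
    (LP : (PicF.XT (C ↘ Spec (CommRingCat.of k)) (Over.mk (C ↘ Spec (CommRingCat.of k)))).Modules) (hLPi : PicF.IsInvertible LP)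
    (hLP : Nonempty (CohB1.tensorMod LP (ClSub.idealMod (pullback.diagonal (C ↘ Spec (CommRingCat.of k))).ker) ≅
      CohB1.tensorMod ((Scheme.Modules.pullback (pullback.fst (C ↘ Spec (CommRingCat.of k)) (C ↘ Spec (CommRingCat.of k)))).obj (ClSub.idealMod σ.ker))
        ((Scheme.Modules.pullback (pullback.snd (C ↘ Spec (CommRingCat.of k)) (C ↘ Spec (CommRingCat.of k)))).obj (ClSub.idealMod σ.ker))))
    (N : (PicF.XT (C ↘ Spec (CommRingCat.of k)) J).Modules) (hN : PicF.IsInvertible N)
    (hNP : Jac.IsNormAlong (C ↘ Spec (CommRingCat.of k)) σ hσ J N)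
    (hN0 : PicF.IsTrivialCl (PicF.pullCl (PicF.XTmap (C ↘ Spec (CommRingCat.of k)) (η[J])) (PicF.cl N)))
    (hNj : Nonempty ((Scheme.Modules.pullback (PicF.XTmap (C ↘ Spec (CommRingCat.of k)) j)).obj N ≅ LP)) :
    Nonempty (N ≅ Pu) := by
  let f := C ↘ Spec (CommRingCat.of k)
  haveI : SmoothOfRelativeDimension 1 f :=
    Groth.Agent.PicTangent.JacDeg.smoothOfRelativeDimension_one _
      (Groth.Agent.EllLaw.fibre_dim_of_field _ hdim)
  obtain ⟨ζ, hc, hm, hp, hs, hgi⟩ := exists_data f σ hσ hJ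
  haveI := hp
  haveI := hs
  haveI := hgi
  have hA := isAbel_of_classifies f σ hσ hc hj
  have hPu' : PicF.cl Pu = ζ.1 := cl_eq_of_norm f σ hσ hc hT hPu.1 hPn hPuψ
  let ζi := invCl ζ.2.1
  have hζi : PicF.IsInvertibleCl ζi := invCl_invertible _
  have hζii : ζ.1 * ζi = 1 := (_root_.mul_comm _ _).trans (invCl_mul _)
  have hsec : PicF.pullCl (PicF.secT f σ hσ J) ζi = 1 := by
    have e := congrArg (PicF.pullCl (PicF.secT f σ hσ J)) hζii
    rw [PicMul.pullCl_mul, show PicF.pullCl (PicF.secT f σ hσ J) ζ.1 = 1 from ζ.2.2, _root_.one_mul, PicMul.pullCl_one] at e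
    exact e
  let c : PicF.Rig f σ hσ J := ⟨PicF.cl N * ζi, PicMul.isInvertibleCl_mul ⟨N, rfl, hN⟩ hζi, by
    show PicF.pullCl _ _ = _
    rw [PicMul.pullCl_mul, hsec, _root_.mul_one]
    exact hNP⟩
  have h0 : ∀ {T : Over (Spec (CommRingCat.of k))} (g : T ⟶ J),
      PicF.pullCl (PicF.XTmap f g) c.1 * cls f σ hσ ζ g = PicF.pullCl (PicF.XTmap f g) (PicF.cl N) := fun {T} g => by
    show PicF.pullCl _ (_ * ζi) * PicF.pullCl _ ζ.1 = _
    rw [PicMul.pullCl_mul, _root_.mul_assoc, ← PicMul.pullCl_mul, _root_.mul_comm ζi, hζii, PicMul.pullCl_one, _root_.mul_one]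
  have hc0 : PicF.pullCl (PicF.XTmap f η[J]) c.1 = 1 := by
    have h := h0 η[J]
    rwa [MonObj.one_eq_one, cls_one f σ hσ hm, _root_.mul_one, ← MonObj.one_eq_one,
      show PicF.pullCl (PicF.XTmap f η[J]) (PicF.cl N) = 1 from hN0] at h
  have hcj : Rel f (Over.mk f) (PicF.pullCl (PicF.XTmap f j) c.1) 1 := by
    obtain ⟨M, hMc, hM⟩ := cl_section_invertible f σ hσ
    have hLP' : Rel f (Over.mk f) (PicF.cl LP) (δ f (Over.mk f) (cst f σ hσ _) (𝟙 _)) := by
      obtain ⟨e⟩ := hLP
      have h : PicF.cl LP * pt f (Over.mk f) (𝟙 _) =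
          pt f (Over.mk f) (cst f σ hσ _) * PicF.pullCl (PicF.XTproj f (Over.mk f)) (PicF.cl M) := by
        rw [pt_diag, ← PicMul.cl_tensor, ← fromX_section f σ hσ, hMc]
        exact (PicMul.cl_eq_iff.2 ⟨e⟩).trans (PicMul.cl_tensor _ _)
      refine ⟨M, hM, ?_⟩
      rw [δ, _root_.mul_right_comm, ← h, _root_.mul_assoc, pt_mul_ptInv, _root_.mul_one]
    have h := h0 j
    rw [show PicF.pullCl (PicF.XTmap f j) (PicF.cl N) = PicF.cl LP from PicMul.cl_eq_iff.2 hNj] at h
    let a := invCl (cls_invertible f σ hσ ζ j)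
    have haa : cls f σ hσ ζ j * a = 1 := (_root_.mul_comm _ _).trans (invCl_mul _)
    have h' := ((Rel.of_eq h).trans (hLP'.trans (isAbel_rel f σ hσ ζ hA (𝟙 _)).symm)).mul (Rel.refl (f := f) a)
    rw [Category.id_comp, _root_.mul_assoc, haa, _root_.mul_one] at h'
    exact h'
  have key := eq_one_of_pull f σ hσ (fiberRank_genus f _ rfl) hc.1 hm hA hg c hc0 hcj
  apply PicMul.cl_eq_iff.1
  rw [hPu']
  have e : PicF.cl N * ζi = 1 := key
  calc PicF.cl N = PicF.cl N * (ζi * ζ.1) := by rw [_root_.mul_comm ζi, hζii, _root_.mul_one]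
    _ = ζ.1 := by rw [← _root_.mul_assoc, e, _root_.one_mul]

end Groth.Agent.S17818
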