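import Groth.Statements.S17825
import Mathlib.AlgebraicGeometry.Morphisms.Separated

set_option autoImplicit false
universe u
open CategoryTheory CategoryTheory.Limits AlgebraicGeometry
open JacVar

namespace Groth.Agent.S17825

/-- Let S be a scheme, Y an S-scheme separated over S, F a presheaf of sets on the category of
S-schemes, f : h_Y ⟶ F a morphism from the functor of points of Y, and s : F ⟶ h_Y a section of f (s
followed by f is the identity). Then F is represented by a closed subscheme of Y: there are an
S-scheme Z, a morphism i : Z ⟶ Y over S which is a closed immersion, and an isomorphism F ≅ h_Z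
whose composite with h_i : h_Z ⟶ h_Y is s. (The published lemma treats the case where Y is the r-th
symmetric power of a curve, F the functor of degree-r invertible families modulo twisting and f the
divisor-class map.) -/
theorem result {S : Scheme.{u}} (Y : Over S) [IsSeparated Y.hom]
    (F : (Over S)ᵒᵖ ⥤ Type u) (f : yoneda.obj Y ⟶ F) (s : F ⟶ yoneda.obj Y) (hsf : s ≫ f = 𝟙 F) :
    ∃ (Z : Over S) (i : Z ⟶ Y), IsClosedImmersion i.left ∧
      ∃ e : F ≅ yoneda.obj Z, e.hom ≫ yoneda.map i = s := by
  let ε : Y ⟶ Y := yoneda.preimage (f ≫ s)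
  have hε : yoneda.map ε = f ≫ s := yoneda.map_preimage _
  refine ⟨equalizer ε (𝟙 Y), equalizer.ι ε (𝟙 Y), inferInstance, ?_⟩
  have hfix : ∀ (T : (Over S)ᵒᵖ) (z : F.obj T), s.app T z ≫ ε = s.app T z ≫ 𝟙 Y := by
    intro T z
    rw [Category.comp_id]
    change (yoneda.map ε).app T (s.app T z) = _
    rw [hε]
    change s.app T (f.app T (s.app T z)) = _
    exact congrArg (s.app T) (types_congr_hom (NatTrans.congr_app hsf T) z)
  refine ⟨NatIso.ofComponents (fun T => Equiv.toIso
    { toFun := fun z => equalizer.lift (s.app T z) (hfix T z)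
      invFun := fun w => f.app T (w ≫ equalizer.ι ε (𝟙 Y))
      left_inv := fun z => by
        change f.app T (equalizer.lift (s.app T z) (hfix T z) ≫ _) = z
        rw [equalizer.lift_ι]
        exact types_congr_hom (NatTrans.congr_app hsf T) z
      right_inv := fun w => by
        apply equalizer.hom_ext
        rw [equalizer.lift_ι]
        change (f ≫ s).app T (w ≫ equalizer.ι ε (𝟙 Y)) = _
        rw [← hε]
        change (w ≫ equalizer.ι ε (𝟙 Y)) ≫ ε = _
        rw [Category.assoc, equalizer.condition, Category.comp_id] }) ?_, ?_⟩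
  · intro T T' a
    ext z
    apply equalizer.hom_ext
    change equalizer.lift (s.app T' (F.map a z)) _ ≫ _ = (a.unop ≫ equalizer.lift (s.app T z) _) ≫ _
    rw [equalizer.lift_ι, Category.assoc, equalizer.lift_ι]
    exact NatTrans.naturality_apply s a z
  · ext T z
    change equalizer.lift (s.app T z) _ ≫ equalizer.ι ε (𝟙 Y) = s.app T z
    exact equalizer.lift_ι _ _


end Groth.Agent.S17825
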