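import Groth.Statements.S1783
import Groth.Agent.KFlatLib.Ring.ShriekVia
-- import your own Groth.Agent.* helpers here

set_option autoImplicit false
universe u
open CategoryTheory
attribute [local instance] HasDerivedCategory.standard
open Dual2

namespace Groth.Agent.S1783

/-- Let R → A be a ring map of finite type between Noetherian rings, where φ^!(K) is formed from a
presentation ψ : R[x_1, …, x_n] → A as RHom_P(A, K ⊗^L_R P)[n], assuming the derived base change to
P exists and taking for RHom_P(A, −) a right adjoint of restriction of scalars along ψ. If K in D(R)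
has vanishing cohomology below some degree, then so does φ^!(K); if moreover all cohomology modules
of K are finite R-modules, then all cohomology modules of φ^!(K) are finite A-modules. -/
theorem result (R A : Type u) [CommRing R] [CommRing A] [IsNoetherianRing R] [IsNoetherianRing A] [Algebra R A] (n : ℕ) (ψ : MvPolynomial (Fin n) R →ₐ[R] A) (hψ : Function.Surjective ψ) [DRing.HasLBaseChange (algebraMap R (MvPolynomial (Fin n) R))] (Rψ : Dual.D (MvPolynomial (Fin n) R) ⥤ Dual.D A) (adj : DRing.restrictD ψ.toRingHom ⊣ Rψ) (K : Dual.D R) (a : ℤ) (hKa : ∀ i : ℤ, i < a → Subsingleton (Dual.HD R K i)) : (∃ b : ℤ, ∀ i : ℤ, i < b → Subsingleton (Dual.HD A (Dual2.shriekVia n Rψ K) i)) ∧ ((∀ i : ℤ, Module.Finite R (Dual.HD R K i)) → ∀ i : ℤ, Module.Finite A (Dual.HD A (Dual2.shriekVia n Rψ K) i)) := by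
  let P := MvPolynomial (Fin n) R
  haveI := Groth.Agent.KFlatLib.hasLBase (algebraMap R P)
  haveI : K.IsGE a := (DerivedCategory.isGE_iff _ _).2 fun j hj =>
    @ModuleCat.isZero_of_subsingleton _ _ _ (hKa j hj)
  obtain ⟨e₁⟩ := Groth.Agent.KFlatLib.nonempty_LBaseChange_iso (algebraMap R P)
  let L := (DTen.LBase (algebraMap R P)).obj K
  haveI : L.IsGE a := Groth.Agent.KFlatLib.isGE_LBase_flat K a
  haveI : (Rψ.obj L).IsGE a := Groth.Agent.KFlatLib.isGE_shriek _ Rψ adj L a
  let e : Dual2.shriekVia n Rψ K ≅ (Rψ.obj L)⟦(n : ℤ)⟧ :=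
    (shiftFunctor _ (n : ℤ)).mapIso (Rψ.mapIso (e₁.app K))
  let eH : ∀ i : ℤ, Dual.HD A (Dual2.shriekVia n Rψ K) i ≃ₗ[A] Dual.HD A (Rψ.obj L) ((n : ℤ) + i) := fun i =>
    ((DerivedCategory.homologyFunctor (ModuleCat A) i).mapIso e ≪≫
      ((DerivedCategory.homologyFunctor (ModuleCat A) 0).shiftIso (n : ℤ) i ((n : ℤ) + i) rfl).app _).toLinearEquiv
  refine ⟨⟨a - n, fun i hi => ?_⟩, fun hK i => ?_⟩
  · haveI : Subsingleton (Dual.HD A (Rψ.obj L) ((n : ℤ) + i)) :=
      ModuleCat.subsingleton_of_isZero (DerivedCategory.isZero_of_isGE _ a _ (by omega))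
    exact (eH i).injective.subsingleton
  · letI := ψ.toRingHom.toAlgebra
    haveI : Module.Finite P A := Module.Finite.of_surjective (Algebra.linearMap P A) hψ
    haveI := Groth.Agent.KFlatLib.finite_hd_shriek (A := P) (B := A) Rψ adj L a
      (fun j => Groth.Agent.KFlatLib.finite_hd_LBase (B := P) K j (hK j)) ((n : ℤ) + i)
    exact Module.Finite.equiv (eH i).symm

end Groth.Agent.S1783
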