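import Groth.Statements.S17832
import Groth.Agent.AutTan16.Lift
import Groth.Agent.PnCoh.Chow.Proper
-- import your own Groth.Agent.* helpers here

set_option autoImplicit false
universe u
open CategoryTheory MonoidalCategory CartesianMonoidalCategory MonObj GrpObj AlgebraicGeometry
open AutSch

namespace Groth.Agent.S17832
open Groth.Agent

/-- Over an algebraically closed field k, let X and Y be normal projective varieties (integral k-schemes
whose local rings are integrally closed domains, each admitting a closed immersion into a projective
space over k) and f : X → Y a birational k-morphism: f restricts to an isomorphism over some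
non-empty open subset of Y. Let (GX, aX) and (GY, aY) be the automorphism group schemes of X and Y
with their universal actions, both locally of finite type, and let H be a closed subgroup scheme of
GY (e : H → GY a homomorphism which is a closed immersion) whose action on Y through e lifts to an
action b of H on X for which f is equivariant. Then the homomorphism ρ : H → GX through which b is
obtained from the universal action is a closed immersion. (The published statement takes for H the
reduced automorphism group of Y; the form here allows any closed subgroup scheme of the automorphism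
group scheme whose action lifts.) -/
theorem result (k : Type u) [Field k] [IsAlgClosed k]
    (X Y : Over (Spec (CommRingCat.of k))) [IsIntegral X.left] [IsIntegral Y.left]
    (hXn : Pi1.IsNormalScheme X.left) (hYn : Pi1.IsNormalScheme Y.left)
    (hX : RelProj.IsHProjective X.hom) (hY : RelProj.IsHProjective Y.hom)
    (f : X ⟶ Y) (U : Y.left.Opens) (hU : (U : Set ↥Y.left).Nonempty) (hf : IsIso (f.left ∣_ U))
    (GX : Over (Spec (CommRingCat.of k))) [GrpObj GX] [LocallyOfFiniteType GX.hom] (aX : AlgGrp.Action GX X)
    (hGX : AutSch.Represents X GX aX)
    (GY : Over (Spec (CommRingCat.of k))) [GrpObj GY] [LocallyOfFiniteType GY.hom] (aY : AlgGrp.Action GY Y)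
    (hGY : AutSch.Represents Y GY aY)
    (H : Over (Spec (CommRingCat.of k))) [GrpObj H] (e : H ⟶ GY) [IsMonHom e] (he : IsClosedImmersion e.left)
    (b : AlgGrp.Action H X) (hb : (H ◁ f) ≫ (e ▷ Y) ≫ aY.act = b.act ≫ f)
    (ρ : H ⟶ GX) [IsMonHom ρ] (hρ : (ρ ▷ X) ≫ aX.act = b.act) :
    IsClosedImmersion ρ.left := by
  have hpr : ∀ {Z : Over (Spec (CommRingCat.of k))}, RelProj.IsHProjective Z.hom → IsProper Z.hom := by
    rintro Z ⟨n, i, hi, hiw⟩
    haveI := hi
    haveI := PnCoh.Chow.isProper_toSpec n (ULift.{u} ℤ)
    haveI : IsProper (CohB1.ProjSpaceOver.toBase n (Spec (CommRingCat.of k))) :=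
      MorphismProperty.of_isPullback (IsPullback.of_hasPullback (CohB1.ProjSpace.toSpec n (ULift.{u} ℤ))
        (specULiftZIsTerminal.from (Spec (CommRingCat.of k)))) ‹_›
    rw [← hiw]; infer_instance
  haveI := hpr hX
  haveI := hpr hY
  haveI : IsProper (f.left ≫ Y.hom) := by rw [Over.w f]; infer_instance
  haveI : IsProper f.left := IsProper.of_comp f.left Y.hom
  haveI : QuasiSeparatedSpace X.left := quasiSeparatedSpace_of_quasiSeparated X.hom
  haveI : IsLocallyNoetherian X.left := LocallyOfFiniteType.isLocallyNoetherian X.hom
  exact AutTan16.isClosedImmersion_lift aX (AutTan16.isIso_app_of_birational hYn f.left U hU hf) U hU hf hGX hGY e he b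
    hb ρ hρ

end Groth.Agent.S17832
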