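import Groth.Statements.S17833
import Groth.Agent.GrpSchLib.AntiAffineHom
import Groth.Agent.FBaseLib.Basic
import Groth.Agent.GrpSchLib.SmoothReduced
import Groth.Agent.S18068
import Mathlib.AlgebraicGeometry.Sites.Fpqc
import Mathlib.AlgebraicGeometry.Morphisms.Proper
import Mathlib.FieldTheory.IsAlgClosed.Basic


set_option autoImplicit false
universe u
open CategoryTheory MonoidalCategory CartesianMonoidalCategory MonObj GrpObj AlgebraicGeometry
open AlgGrp

namespace Groth.Agent.S17833

/-- Over an algebraically closed field k, let G be a connected smooth k-group scheme of finite type (in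
the terminology of the notes, a smooth connected algebraic group), and H an affine normal subgroup
scheme of G such that the quotient G/H is an abelian variety: here j : H → G is the kernel of a flat
surjective homomorphism q : G → Q of k-group schemes with Q proper over k, and H is affine. Then an
automorphism u of the algebraic group G which fixes H pointwise (j ∘ u = j) and induces the identity
of Q (q ∘ u = q) is the identity. Equivalently, the map from the group of automorphisms of G fixing
H pointwise to the automorphism group of G/H is injective. -/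
theorem result (k : Type u) [Field k] [IsAlgClosed k]
    (G H Q : Over (Spec (CommRingCat.of k))) [GrpObj G] [GrpObj H] [GrpObj Q]
    [Smooth G.hom] [QuasiCompact G.hom] [ConnectedSpace ↥G.left]
    [IsAffine H.left] [IsProper Q.hom]
    (j : H ⟶ G) [IsMonHom j] (q : G ⟶ Q) [IsMonHom q] [Flat q.left] [Surjective q.left]
    (hker : AlgGrp.IsKernel j q)
    (u : G ≅ G) [IsMonHom u.hom] (hH : j ≫ u.hom = j) (hQ : u.hom ≫ q = q) :
    u.hom = 𝟙 G := by
  haveI := Groth.Agent.S18068.isIntegral_grp G
  haveI : QuasiCompact q.left := by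
    haveI : QuasiCompact (q.left ≫ Q.hom) := by rw [Over.w q]; infer_instance
    exact QuasiCompact.of_comp q.left Q.hom
  haveI : IsReduced Q.left := FBaseLib.isReduced_of_flat_surjective q.left
  haveI : IrreducibleSpace Q.left := by
    rw [irreducibleSpace_def, Set.top_eq_univ, ← q.left.surjective.range_eq, ← Set.image_univ]
    exact (IrreducibleSpace.isIrreducible_univ _).image _ q.left.continuous.continuousOn
  haveI : IsIntegral Q.left := isIntegral_of_irreducibleSpace_of_isReduced _
  have hQ' : Function.Bijective Q.hom.appTop := by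
    letI : Field Γ(Q.left, ⊤) := (isField_of_universallyClosed k Q.hom).toField
    letI : Field Γ(Spec (CommRingCat.of k), ⊤) :=
      ((Scheme.ΓSpecIso (CommRingCat.of k)).commRingCatIsoToRingEquiv.toMulEquiv.isField (Field.toIsField k)).toField
    letI := Q.hom.appTop.hom.toAlgebra
    haveI : Algebra.IsIntegral Γ(Spec (CommRingCat.of k), ⊤) Γ(Q.left, ⊤) :=
      ⟨isIntegral_appTop_of_universallyClosed Q.hom⟩
    haveI : IsAlgClosed Γ(Spec (CommRingCat.of k), ⊤) :=
      IsAlgClosed.of_ringEquiv k _ (Scheme.ΓSpecIso (CommRingCat.of k)).commRingCatIsoToRingEquiv.symm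
    exact IsAlgClosed.algebraMap_bijective_of_isIntegral
  let d : G ⟶ G := u.hom * (𝟙 G)⁻¹
  have hdq : d ≫ q = 1 := by
    rw [MonObj.mul_comp, GrpObj.inv_comp, hQ, Category.id_comp, mul_inv_cancel]
  obtain ⟨d', hd'⟩ : ∃ d' : G ⟶ H, d' ≫ j = d := by
    refine ⟨hker.lift d (toUnit G) ?_, hker.lift_fst _ _ _⟩
    rw [hdq, MonObj.one_eq_one, MonObj.comp_one]
  haveI : Mono j := ⟨fun {T} x y hxy => hker.hom_ext hxy (toUnit_unique _ _)⟩
  have hinv : ∀ {T : Over (Spec (CommRingCat.of k))} (a b : T ⟶ G), a ≫ q = b ≫ q → a ≫ d' = b ≫ d' := by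
    intro T a b hab
    have h1 : (a⁻¹ * b) ≫ q = 1 := by rw [MonObj.mul_comp, GrpObj.inv_comp, hab, inv_mul_cancel]
    have e0 : (a⁻¹ * b) ≫ q = toUnit T ≫ η[Q] := by rw [h1, MonObj.one_eq_one, MonObj.comp_one]
    let h := hker.lift (a⁻¹ * b) (toUnit T) e0
    have hh : h ≫ j = a⁻¹ * b := hker.lift_fst _ _ _
    have hu : (a⁻¹ * b) ≫ u.hom = a⁻¹ * b := by rw [← hh, Category.assoc, hH]
    rw [MonObj.mul_comp, GrpObj.inv_comp] at hu
    rw [← cancel_mono j, Category.assoc, Category.assoc, hd', MonObj.comp_mul, MonObj.comp_mul, GrpObj.comp_inv,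
      GrpObj.comp_inv, Category.comp_id, Category.comp_id]
    have hbu : b ≫ u.hom = (a ≫ u.hom) * (a⁻¹ * b) := by rw [← hu, mul_inv_cancel_left]
    rw [hbu, _root_.mul_assoc, _root_.mul_assoc, mul_inv_cancel, _root_.mul_one]
  have hcomp : ∀ {Z : Scheme.{u}} (g₁ g₂ : Z ⟶ G.left), g₁ ≫ q.left = g₂ ≫ q.left → g₁ ≫ d'.left = g₂ ≫ d'.left := by
    intro Z g₁ g₂ hg
    have hw : g₂ ≫ G.hom = g₁ ≫ G.hom := by rw [← Over.w q, reassoc_of% hg]
    exact congrArg CommaMorphism.left
      (hinv (T := Over.mk (g₁ ≫ G.hom)) (Over.homMk g₁ rfl) (Over.homMk g₂ hw) (Over.OverMorphism.ext hg))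
  let e₀ := EffectiveEpi.desc q.left d'.left hcomp
  have he₀ : q.left ≫ e₀ = d'.left := EffectiveEpi.fac q.left d'.left hcomp
  let e : Q ⟶ H := Over.homMk e₀ (by
    rw [← cancel_epi q.left, reassoc_of% he₀, Over.w d', Over.w q])
  have he : q ≫ e = d' := Over.OverMorphism.ext he₀
  have hconst : d' = toUnit G ≫ η[G] ≫ d' := by
    rw [← he]
    conv_lhs => rw [GrpSchLib.AntiAffine.eq_const_of_isAffine hQ' e (η[G] ≫ q)]
    simp
  have hd : d = 1 := by
    rw [← hd', hconst, Category.assoc, Category.assoc, hd', MonObj.comp_mul, GrpObj.comp_inv, IsMonHom.one_hom,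
      Category.comp_id, mul_inv_cancel, MonObj.comp_one]
  exact mul_inv_eq_one.1 hd

end Groth.Agent.S17833
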