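import Groth.Statements.S17837
import Groth.Agent.AutTan16.Descend
import Groth.Agent.PnCoh.Chow.Proper
-- import your own Groth.Agent.* helpers here

set_option autoImplicit false
universe u
open CategoryTheory MonoidalCategory CartesianMonoidalCategory MonObj GrpObj AlgebraicGeometry
open AutSch

namespace Groth.Agent.S17837
open Groth.Agent

/-- Over an algebraically closed field k, let f : X → Y be a fibration: X and Y are projective varieties
(integral k-schemes with closed immersions into projective spaces over k) and f is a k-morphism with
O_Y → f_*O_X an isomorphism (bijective on sections over every open of Y). Let (GX, aX) be the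
automorphism group scheme of X with its universal action, locally of finite type, and let the
k-group scheme Gf with its action af on X represent the automorphisms of f: the families φ of
automorphisms of X parametrised by T whose associated T-automorphism of X × T descends along f × T
to the T-automorphism associated with some family of automorphisms of Y. Then the homomorphism ρ :
Gf → GX through which af is obtained from the universal action (the first projection from the
automorphism group scheme of f) is a closed immersion. -/
theorem result (k : Type u) [Field k] [IsAlgClosed k]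
    (X Y : Over (Spec (CommRingCat.of k))) [IsIntegral X.left] [IsIntegral Y.left]
    (hX : RelProj.IsHProjective X.hom) (hY : RelProj.IsHProjective Y.hom)
    (f : X ⟶ Y) (hf : ∀ U : Y.left.Opens, IsIso (f.left.app U))
    (GX : Over (Spec (CommRingCat.of k))) [GrpObj GX] [LocallyOfFiniteType GX.hom] (aX : AlgGrp.Action GX X)
    (hGX : AutSch.Represents X GX aX)
    (Gf : Over (Spec (CommRingCat.of k))) [GrpObj Gf] (af : AlgGrp.Action Gf X)
    (hGf : AutSch.RepresentsSub X
      (fun T φ => ∃ ψ : Y ⊗ T ⟶ Y, AutSch.IsAutFamily ψ ∧ AutSch.endOf φ ≫ (f ▷ T) = (f ▷ T) ≫ AutSch.endOf ψ) Gf af)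
    (ρ : Gf ⟶ GX) [IsMonHom ρ] (hρ : (ρ ▷ X) ≫ aX.act = af.act) :
    IsClosedImmersion ρ.left := by
  have hpr : ∀ {Z : Over (Spec (CommRingCat.of k))}, RelProj.IsHProjective Z.hom → IsProper Z.hom := by
    rintro Z ⟨n, i, hi, hiw⟩
    haveI := hi
    haveI := PnCoh.Chow.isProper_toSpec n (ULift.{u} ℤ)
    haveI : IsProper (CohB1.ProjSpaceOver.toBase n (Spec (CommRingCat.of k))) :=
      MorphismProperty.of_isPullback (IsPullback.of_hasPullback (CohB1.ProjSpace.toSpec n (ULift.{u} ℤ))
        (specULiftZIsTerminal.from (Spec (CommRingCat.of k)))) ‹_›
    rw [← hiw]; infer_instance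
  haveI := hpr hX
  haveI := hpr hY
  haveI : IsProper (f.left ≫ Y.hom) := by rw [Over.w f]; infer_instance
  haveI : IsProper f.left := IsProper.of_comp f.left Y.hom
  haveI : QuasiSeparatedSpace X.left := quasiSeparatedSpace_of_quasiSeparated X.hom
  exact AutTan16.isClosedImmersion_descend aX hf hGX af hGf ρ hρ

end Groth.Agent.S17837
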