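import Groth.Statements.S17839
import Groth.Agent.CycLib.LFT
import Groth.Agent.CotTLib.CI
import Groth.Agent.LC.GorLoc
-- import your own Groth.Agent.* helpers here

set_option autoImplicit false
universe u
open CategoryTheory AlgebraicGeometry
open Cyc

namespace Groth.Agent.S17839

/-- Let S be a locally Noetherian scheme all of whose local rings are regular and universally catenary,
and δS : S → ℤ the function with δS(s) = −dim O_{S,s}. Let f : X ⟶ S be locally of finite type and δ
: X → ℤ the induced function, δ(x) = δS(f x) + trdeg_{κ(f x)} κ(x) — the S-dimension: for X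
irreducible with generic point ξ, δ(ξ) is the transcendence degree of the function field of X over
κ(f ξ) minus dim O_{S, f ξ}. Then δ is a dimension function on X: it drops strictly along every
nontrivial specialization and by exactly one along immediate ones; equivalently, for irreducible
closed subsets V ⊆ W of X with generic points v and w, codim(V, W) = δ(w) − δ(v). (The published
statement fixes S Noetherian, excellent, regular and separated and X separated of finite type over
S; its proof uses only the hypotheses listed.) -/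
theorem result {X S : Scheme.{u}} (f : X ⟶ S)
    [LocallyOfFiniteType f] [IsLocallyNoetherian S]
    (hreg : ∀ s : S, IsRegularLocalRing (S.presheaf.stalk s))
    (huc : ∀ s : S, CAlg.IsUniversallyCatenary (S.presheaf.stalk s))
    (δS : S → ℤ) (hδS : ∀ s : S, ringKrullDim (S.presheaf.stalk s) = ((-δS s).toNat : WithBot ℕ∞) ∧ δS s ≤ 0)
    (δ : X → ℤ) (hδ : Cyc.DeltaCompat f δ δS) :
    Cyc.IsDimFun X δ := by
  refine Groth.Agent.CycLib.isDimFun_of_deltaCompat f ⟨inferInstance, huc, ?_⟩ hδ
  intro s t h hne
  have key : ∀ a b : S, a ⤳ b → (Groth.Agent.DimFormula.cd a b : ℤ) = δS a - δS b := by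
    intro a b hab
    have h1 := Groth.Agent.CycLib.ringKrullDim_locQuot hab
    have ha := Groth.Agent.DimFormula.ringKrullDim_stalk a
    have hb := Groth.Agent.DimFormula.ringKrullDim_stalk b
    rw [(hδS a).1] at ha
    rw [(hδS b).1] at hb
    haveI : IsRegularLocalRing (S.presheaf.stalk b) := hreg b
    haveI hcm : LocCoh.IsCohenMacaulayLocalRing (S.presheaf.stalk b) :=
      { supportDim_eq_depth := Groth.Agent.CotTLib.isCM_of_isRegularLocalRing (S.presheaf.stalk b) }
    let P := (Groth.Agent.CDiv6.primeOf hab).asIdeal
    have hadd := Groth.Agent.LC.height_add_ringKrullDim_quotient (R := S.presheaf.stalk b) P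
      (Groth.Agent.CDiv6.primeOf hab).isPrime.ne_top
    rw [Groth.Agent.CDiv6.height_primeOf hab, ← Groth.Agent.DimFormula.coe_codim,
      Groth.Agent.DimFormula.ringKrullDim_stalk_quotient, Groth.Agent.CDiv6.fromSpecStalk_primeOf,
      Groth.Agent.DimFormula.ringKrullDim_stalk] at hadd
    have e1 : (-δS a).toNat = Groth.Agent.DimFormula.codim a := by exact_mod_cast ha
    have e2 : (-δS b).toNat = Groth.Agent.DimFormula.codim b := by exact_mod_cast hb
    have e3 : Groth.Agent.DimFormula.cd a b + Groth.Agent.DimFormula.codim a = Groth.Agent.DimFormula.codim b := by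
      exact_mod_cast hadd
    have := (hδS a).2
    have := (hδS b).2
    omega
  have h0 : Groth.Agent.DimFormula.cd s t ≠ 0 := fun h0 => hne ((Groth.Agent.DimFormula.cd_eq_zero_iff h).1 h0)
  have h1 := key s t h
  refine ⟨by omega, fun himm => ?_⟩
  suffices Groth.Agent.DimFormula.cd s t ≤ 1 by omega
  obtain ⟨l, hl0, hl1, hl⟩ := Groth.Agent.DimFormula.exists_cd_series h
  rw [← hl]
  by_contra hlen
  push Not at hlen
  let z := l ⟨1, by omega⟩
  have hz1 : l.head < z := l.strictMono (show (0 : Fin (l.length + 1)) < ⟨1, by omega⟩ by rw [Fin.lt_def]; simp)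
  have hz2 : z < l.last := l.strictMono (show (⟨1, by omega⟩ : Fin (l.length + 1)) < Fin.last _ by
    rw [Fin.lt_def]; simp; omega)
  have hzx : z ⤳ t := hl0 ▸ hz1.le
  have hzl : l.last ⤳ z := hz2.le
  rcases himm z (hl1.trans hzl) hzx with e | e
  · exact hz2.not_ge (show l.last ≤ z from e ▸ hl1)
  · exact hz1.not_ge (show z ≤ l.head from e ▸ hl0 ▸ le_rfl)

end Groth.Agent.S17839
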