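import Groth.Statements.S17840
import Groth.Agent.CycLib.Flat
-- import your own Groth.Agent.* helpers here

set_option autoImplicit false
universe u
open CategoryTheory AlgebraicGeometry
open Cyc

namespace Groth.Agent.S17840

/-- Let (Y, δY) be a locally Noetherian scheme with universally catenary local rings and a dimension
function, f : X ⟶ Y a flat morphism locally of finite type between irreducible schemes with generic
points ξ and η, and δX the induced function on X, δX(x) = δY(f x) + trdeg_{κ(f x)} κ(x). Put d =
δX(ξ) − δY(η). Then d ≥ 0, every irreducible component of every fibre of f has dimension d, and for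
every point x of X the fibre of f over f(x) has dimension d. (The published statement is for schemes
separated of finite type over a Noetherian excellent regular separated base S with δ the S-dimension
— transcendence degree of the residue field minus the dimension of the local ring of S at the image
point — and for the fibre over every point of Y; the fibre over a point outside f(X) is empty, so
the dimension statement is made here at points of the image; this row allows any dimension function
δY on a locally Noetherian Y with universally catenary local rings, with δX induced from it.) -/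
theorem result {X Y : Scheme.{u}} (f : X ⟶ Y) [Flat f] [LocallyOfFiniteType f]
    [IrreducibleSpace X] [IrreducibleSpace Y] (δX : X → ℤ) (δY : Y → ℤ) (hY : Cyc.IsSetup Y δY)
    (hδ : Cyc.DeltaCompat f δX δY) :
    0 ≤ δX (genericPoint X) - δY (genericPoint Y) ∧
      Cyc.HasRelDim f (δX (genericPoint X) - δY (genericPoint Y)).toNat ∧
      ∀ x : X, topologicalKrullDim ↥(f.fiber (f x)) =
        ((δX (genericPoint X) - δY (genericPoint Y)).toNat : WithBot ℕ∞) := by
  haveI := hY.1
  have hξ := Groth.Agent.CycLib.deltaCompat_eq f hδ (genericPoint X)
  have hgen : f (genericPoint X) = genericPoint Y := by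
    obtain ⟨x', hx', hfx'⟩ := Groth.Agent.CycLib.exists_generization f (x := genericPoint X) (y := genericPoint Y)
      ((genericPoint_spec Y).specializes (Set.mem_univ _))
    rw [← hfx', hx'.antisymm ((genericPoint_spec X).specializes (Set.mem_univ x')) |>.eq]
  rw [hgen] at hξ
  set d := (δX (genericPoint X) - δY (genericPoint Y)).toNat with hd
  have hd' : Groth.Agent.FibDim.rd f (genericPoint X) = d := by omega
  have hrel : Cyc.HasRelDim f d := (Groth.Agent.CycLib.hasRelDim_iff f).2 fun z hz =>
    (Groth.Agent.CycLib.rd_eq_generic f hz (hY.2.1 _)).trans hd'
  refine ⟨by omega, hrel, fun x => ?_⟩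
  rw [Groth.Agent.VarDim.topologicalKrullDim_eq_iSup_deg (k := Y.residueField (f x))
    (f.fiberToSpecResidueField (f x))]
  refine le_antisymm (iSup_le fun a => ?_) ?_
  · obtain ⟨b, hb, hbmax⟩ := Groth.Agent.FibDim.exists_maximal_generization a
    refine le_trans (WithBot.coe_le_coe.2 (Nat.cast_le.2
      (Groth.Agent.VarDim.deg_le_of_specializes (k := Y.residueField (f x)) (f.fiberToSpecResidueField (f x)) hb))) ?_
    rw [Groth.Agent.FibDim.deg_fiber f (f x) b, (Groth.Agent.CycLib.hasRelDim_iff f).1 hrel _
      ((Groth.Agent.FibDim.fibMax_fiberι_iff f b).2 hbmax)]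
    exact le_rfl
  · obtain ⟨b, -, hbmax⟩ := Groth.Agent.FibDim.exists_maximal_generization (f.asFiber x)
    refine le_trans ?_ (le_iSup _ b)
    rw [Groth.Agent.FibDim.deg_fiber f (f x) b, (Groth.Agent.CycLib.hasRelDim_iff f).1 hrel _
      ((Groth.Agent.FibDim.fibMax_fiberι_iff f b).2 hbmax)]
    exact le_rfl

end Groth.Agent.S17840
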