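import Groth.Statements.S17842
-- import your own Groth.Agent.* helpers here

import Groth.Agent.SurfRes.Projective
import Groth.Agent.SurfRes.Tfae

set_option autoImplicit false
set_option backward.isDefEq.respectTransparency false
set_option backward.isDefEq.respectTransparency.types false
universe u
open CategoryTheory AlgebraicGeometry
open Resolve

namespace Groth.Agent.S17842

/-- Let S be a Noetherian separated scheme whose affine opens have excellent coordinate rings and whose
local rings are regular, and let X be an integral scheme, separated and of finite type over S with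
dim X ≤ 2 (Krull dimension). Then the alteration assumption A(S, ℤ, ≤ 2) holds for X: there are an
integral scheme X₁ all of whose local rings are regular and a projective morphism φ : X₁ ⟶ X which
is an alteration (proper, dominant, finite over a nonempty open of X) of degree one, that is, an
isomorphism over some nonempty open of X. -/
theorem result {X S : Scheme.{u}} (p : X ⟶ S)
    [IsNoetherian S] [S.IsSeparated] (hexc : ∀ U : S.affineOpens, EGA4.IsExcellent Γ(S, U))
    (hreg : ∀ s : S, IsRegularLocalRing (S.presheaf.stalk s))
    [IsIntegral X] [IsSeparated p] [LocallyOfFiniteType p] [QuasiCompact p]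
    (hdim : topologicalKrullDim ↥X ≤ 2) :
    ∃ (X₁ : Scheme.{u}) (φ : X₁ ⟶ X), IsIntegral X₁ ∧
      (∀ x : X₁, IsRegularLocalRing (X₁.presheaf.stalk x)) ∧ RelProj.IsProjective φ ∧
      Curv2.IsAlteration φ ∧ ∃ V : X.Opens, (V : Set X).Nonempty ∧ IsIso (φ ∣_ V) := by
  haveI : IsLocallyNoetherian X := LocallyOfFiniteType.isLocallyNoetherian p
  haveI : CompactSpace X := QuasiCompact.compactSpace_of_compactSpace p
  haveI : IsNoetherian X := {}
  haveI : X.IsSeparated := Scheme.IsSeparated.mk (by rw [← Limits.terminal.comp_from p]; infer_instance)
  obtain ⟨X₁, φ, hint, hregX, hproj, hP, V, hV, hiso⟩ := SurfRes.exists_projective_resolution p hexc hdim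
  haveI := hint
  haveI := hP
  haveI := hiso
  exact ⟨X₁, φ, hint, hregX, hproj, ⟨hP, hint, inferInstance,
    SurfRes.isDominant_of_map_generic φ (SurfSeq.map_generic φ (RegRes.isIso_generic_of_restrict φ V hV)),
    V, hV, inferInstance⟩, V, hV, hiso⟩

end Groth.Agent.S17842
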