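import Mathlib
import Groth.Statements.S17843
-- import your own Groth.Agent.* helpers here

set_option autoImplicit false
universe u v
open CAlg

namespace Groth.Agent.S17843


section helpers

open Polynomial

variable {R : Type u} [CommRing R] {S : Type v} [CommRing S] [Algebra R S] (r : R)

lemma map_comp_scale (d : ℕ) (P : Polynomial R) :
    (P.comp (C (r ^ d) * X)).map (algebraMap R S) =
      (P.map (algebraMap R S)).comp (C (algebraMap R S (r ^ d)) * X) := by
  simp [Polynomial.map_comp]

lemma scale_scale (d e : ℕ) (P : Polynomial R) :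
    (P.comp (C (r ^ e) * X)).comp (C (r ^ d) * X) = P.comp (C (r ^ (d + e)) * X) := by
  rw [Polynomial.comp_assoc]
  congr 1
  simp [pow_add]
  ring

lemma exists_lift [IsLocalization.Away r S] (w : Polynomial S) :
    ∃ e : ℕ, ∀ d, e ≤ d → ∃ W : Polynomial R, W.map (algebraMap R S) = C (algebraMap R S (r ^ d)) * w := by
  induction w using Polynomial.induction_on' with
  | add a b ha hb =>
      obtain ⟨e₁, h₁⟩ := ha
      obtain ⟨e₂, h₂⟩ := hb
      refine ⟨max e₁ e₂, fun d hd => ?_⟩
      obtain ⟨W₁, hW₁⟩ := h₁ d (le_trans (le_max_left _ _) hd)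
      obtain ⟨W₂, hW₂⟩ := h₂ d (le_trans (le_max_right _ _) hd)
      exact ⟨W₁ + W₂, by rw [Polynomial.map_add, hW₁, hW₂, mul_add]⟩
  | monomial j a =>
      obtain ⟨⟨c, ⟨_, e, rfl⟩⟩, hc⟩ := IsLocalization.surj (Submonoid.powers r) a
      refine ⟨e, fun d hd => ⟨Polynomial.monomial j (r ^ (d - e) * c), ?_⟩⟩
      rw [Polynomial.map_monomial, Polynomial.C_mul_monomial, map_mul, ← hc]
      congr 1
      conv_rhs => rw [← Nat.sub_add_cancel hd, pow_add, map_mul]
      ring

lemma killed [IsLocalization.Away r S] (P : Polynomial R) (hP : P.map (algebraMap R S) = 0)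
    (h0 : P.coeff 0 = 0) : ∃ E : ℕ, ∀ d, E ≤ d → P.comp (C (r ^ d) * X) = 0 := by
  have hk : ∀ j, ∃ e : ℕ, r ^ e * P.coeff j = 0 := fun j => by
    have h1 : algebraMap R S (P.coeff j) = 0 := by
      rw [← Polynomial.coeff_map, hP, Polynomial.coeff_zero]
    obtain ⟨⟨_, e, rfl⟩, he⟩ := (IsLocalization.map_eq_zero_iff (Submonoid.powers r) S _).mp h1
    exact ⟨e, he⟩
  choose e he using hk
  refine ⟨P.support.sup e, fun d hd => Polynomial.ext fun j => ?_⟩
  rw [Polynomial.comp_C_mul_X_coeff, Polynomial.coeff_zero]
  rcases eq_or_ne j 0 with rfl | hj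
  · simp [h0]
  by_cases hjs : P.coeff j = 0
  · simp [hjs]
  have h2 : e j ≤ d * j := le_trans (le_trans (Finset.le_sup (Polynomial.mem_support_iff.mpr hjs)) hd)
    (Nat.le_mul_of_pos_right d (Nat.pos_of_ne_zero hj))
  obtain ⟨k, hk⟩ := Nat.exists_eq_add_of_le h2
  rw [← pow_mul, hk, pow_add, ← mul_assoc, mul_comm (P.coeff j), he, zero_mul]

end helpers


/-- In the case of an affine scheme of finite presentation, let B be a finitely presented R-algebra, r ∈
R, and x : B → R[1/r][T] an R-algebra homomorphism whose value at T = 0, a homomorphism B → R[1/r],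
is induced by a homomorphism x̃₀ : B → R. Then for every large enough n, the homomorphism x(rⁿT) : B
→ R[1/r][T] is induced by a homomorphism x̃ : B → R[T] whose value at T = 0 is x̃₀. The published
statement is for algebraic spaces locally of finite presentation over R; this row takes an affine
scheme of finite presentation. -/
theorem result
    (R : Type u) (B : Type v) [CommRing R] [CommRing B] [Algebra R B]
    [Algebra.FinitePresentation R B] (r : R)
    (x : B →ₐ[R] Polynomial (Localization.Away r))
    (x₀ : B →ₐ[R] R)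
    (hx₀ : (algebraMap R (Localization.Away r)).comp x₀.toRingHom =
      (Polynomial.evalRingHom 0).comp x.toRingHom) :
    ∃ N : ℕ, ∀ n : ℕ, N ≤ n →
      ∃ y : B →ₐ[R] Polynomial R,
        (Polynomial.evalRingHom 0).comp y.toRingHom = x₀.toRingHom ∧
        (Polynomial.mapRingHom (algebraMap R (Localization.Away r))).comp y.toRingHom =
          (Polynomial.aeval (Polynomial.C (algebraMap R (Localization.Away r) (r ^ n)) * Polynomial.X) :
              Polynomial (Localization.Away r) →ₐ[Localization.Away r] Polynomial (Localization.Away r)).toRingHom.comp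
            x.toRingHom := by
  set L := Localization.Away r with hL
  obtain ⟨k, π, hπ, hker⟩ := Algebra.FinitePresentation.out (R := R) (A := B)
  -- constant terms and higher terms of the images of the generators
  let a : Fin k → R := fun i => x₀ (π (MvPolynomial.X i))
  let w : Fin k → Polynomial L := fun i => (x (π (MvPolynomial.X i))).divX
  have hz : ∀ i, x (π (MvPolynomial.X i)) =
      Polynomial.C (algebraMap R L (a i)) + Polynomial.X * w i := by
    intro i
    have h1 : algebraMap R L (a i) = (x (π (MvPolynomial.X i))).eval 0 :=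
      RingHom.congr_fun hx₀ (π (MvPolynomial.X i))
    rw [h1, ← Polynomial.coeff_zero_eq_eval_zero, add_comm]
    exact (Polynomial.X_mul_divX_add _).symm
  choose e he using fun i => exists_lift (S := L) r (w i)
  set e₀ := Finset.univ.sup e
  choose W hW using fun i => he i e₀ (Finset.le_sup (Finset.mem_univ i))
  let y₀ : MvPolynomial (Fin k) R →ₐ[R] Polynomial R := MvPolynomial.aeval fun i =>
    Polynomial.C (a i) + Polynomial.X * (W i).comp (Polynomial.C (r ^ e₀) * Polynomial.X)
  -- constant term of the base lift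
  have h0 : ∀ f, (y₀ f).eval 0 = x₀ (π f) := by
    intro f
    have : (Polynomial.aeval (0 : R)).comp y₀ = x₀.comp π := by
      refine MvPolynomial.algHom_ext fun i => ?_
      simp [y₀, a]
    have := AlgHom.congr_fun this f
    simpa [Polynomial.coe_aeval_eq_eval] using this
  -- the base lift induces x(r^e₀ T)
  have hmap : ∀ f, (y₀ f).map (algebraMap R L) =
      (x (π f)).comp (Polynomial.C (algebraMap R L (r ^ e₀)) * Polynomial.X) := by
    intro f
    have : (Polynomial.mapRingHom (algebraMap R L)).comp y₀.toRingHom =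
        (Polynomial.compRingHom (Polynomial.C (algebraMap R L (r ^ e₀)) * Polynomial.X)).comp
          (x.toRingHom.comp π.toRingHom) := by
      refine MvPolynomial.ringHom_ext (fun c => ?_) (fun i => ?_)
      · simp [y₀]
        rfl
      · simp only [RingHom.comp_apply, AlgHom.toRingHom_eq_coe, RingHom.coe_coe, y₀,
          MvPolynomial.aeval_X, Polynomial.coe_mapRingHom, Polynomial.coe_compRingHom_apply]
        rw [hz, Polynomial.map_add, Polynomial.map_C, Polynomial.map_mul, Polynomial.map_X,
          map_comp_scale, hW]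
        simp only [Polynomial.add_comp, Polynomial.C_comp, Polynomial.mul_comp, Polynomial.X_comp]
        ring
    exact RingHom.congr_fun this f
  -- kill the finitely many relations
  obtain ⟨s, hs⟩ := hker
  have hkill : ∀ f : MvPolynomial (Fin k) R, π f = 0 →
      ∃ E : ℕ, ∀ d, E ≤ d → (y₀ f).comp (Polynomial.C (r ^ d) * Polynomial.X) = 0 := by
    intro f hf
    refine killed (S := L) r _ ?_ ?_
    · rw [hmap, hf, map_zero, Polynomial.zero_comp]
    · rw [Polynomial.coeff_zero_eq_eval_zero, h0, hf, map_zero]
  have hmem : ∀ f ∈ s, π f = 0 := fun f hf => by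
    have : f ∈ RingHom.ker π.toRingHom := hs ▸ Ideal.subset_span hf
    exact this
  choose! E hE using fun f hf => hkill f (hmem f hf)
  refine ⟨e₀ + s.sup E, fun n hn => ?_⟩
  let Y : MvPolynomial (Fin k) R →ₐ[R] Polynomial R :=
    (Polynomial.aeval (Polynomial.C (r ^ (n - e₀)) * Polynomial.X)).comp y₀
  have hY : ∀ f, Y f = (y₀ f).comp (Polynomial.C (r ^ (n - e₀)) * Polynomial.X) := fun f => rfl
  have hle : RingHom.ker π.toRingHom ≤ RingHom.ker Y.toRingHom := by
    rw [← hs, Ideal.span_le]
    intro f hf
    have : Y f = 0 := by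
      rw [hY]
      exact hE f hf _ (le_trans (Finset.le_sup hf) (by omega))
    exact this
  refine ⟨AlgHom.liftOfSurjective π hπ Y hle, RingHom.ext fun b => ?_, RingHom.ext fun b => ?_⟩
  · obtain ⟨f, rfl⟩ := hπ b
    simp only [RingHom.comp_apply, AlgHom.toRingHom_eq_coe, RingHom.coe_coe,
      AlgHom.liftOfSurjective_apply, hY, Polynomial.coe_evalRingHom, Polynomial.eval_comp]
    simp [h0]
  · obtain ⟨f, rfl⟩ := hπ b
    simp only [RingHom.comp_apply, AlgHom.toRingHom_eq_coe, RingHom.coe_coe,
      AlgHom.liftOfSurjective_apply, hY, Polynomial.coe_mapRingHom]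
    rw [map_comp_scale, hmap, Polynomial.comp_assoc]
    have hc : ((Polynomial.C (algebraMap R L (r ^ e₀)) * Polynomial.X).comp
        (Polynomial.C (algebraMap R L (r ^ (n - e₀))) * Polynomial.X)) =
        Polynomial.C (algebraMap R L (r ^ n)) * Polynomial.X := by
      rw [Polynomial.mul_comp, Polynomial.C_comp, Polynomial.X_comp, ← mul_assoc, ← map_mul,
        ← map_mul, ← pow_add, Nat.add_sub_cancel' (show e₀ ≤ n by omega)]
    rw [hc]
    rfl

end Groth.Agent.S17843
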