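import Groth.Statements.S17847
import Groth.Agent.RedRank.TorusFinite
import Groth.Agent.RedRank.ConjDense
import Groth.Agent.RedRank.ReductiveRank
import Groth.Agent.SubgroupNbhd.Contain
-- import your own Groth.Agent.* helpers here

set_option backward.isDefEq.respectTransparency false
set_option backward.isDefEq.respectTransparency.types false
set_option linter.style.haveILetI false
set_option synthInstance.maxHeartbeats 200000
set_option maxHeartbeats 1000000
set_option autoImplicit false
open CategoryTheory CategoryTheory.Limits MonoidalCategory CartesianMonoidalCategory MonObj GrpObj AlgebraicGeometry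
universe u
open Red

namespace Groth.Agent.S17847

open GrpSchLib RedRank in
/-- The preimage of a central point is central when a maximal torus is given. -/
theorem core {S : Scheme.{u}} {G' G T₀ : Over S} [GrpObj G'] [GrpObj G] [GrpObj T₀] [Smooth G'.hom] [IsAffineHom G'.hom]
    (hconn : ∀ s : S, _root_.IsConnected (G'.hom.base ⁻¹' {s})) {i : T₀ ⟶ G'} (hi : Red.IsMaximalTorus i)
    (hsc : Red.IsCentralizerOf i i) (f : G' ⟶ G) [IsMonHom f] [IsFinite f.left]
    (hcen : ∀ {T : Over S} (k y : T ⟶ G'), k ≫ f = 1 → k * y = y * k)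
    {X : Over S} (x : X ⟶ G')
    (hx : ∀ {T' : Over S} (p : T' ⟶ X) (y : T' ⟶ G'), (p ≫ x ≫ f) * (y ≫ f) = (y ≫ f) * (p ≫ x ≫ f)) :
    (snd G' X ≫ x) * fst G' X = fst G' X * (snd G' X ≫ x) := by
  haveI := hi.1; haveI := hi.2.1
  haveI : Smooth T₀.hom := FixTorus.smooth_of_isTorus hi.2.2.1
  haveI : IsSeparated G'.hom := inferInstance
  have hκ : ∀ {W : Over S} (p : W ⟶ X) (y : W ⟶ G'), ((p ≫ x) * y * (p ≫ x)⁻¹ * y⁻¹) ≫ f = 1 := by
    intro W p y
    simp only [MonObj.mul_comp, GrpObj.inv_comp, Category.assoc]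
    rw [hx p y]
    group
  let R := X.hom
  let F := Over.pullback R
  haveI : F.IsRightAdjoint := (Over.mapPullbackAdj R).isRightAdjoint
  haveI : IsSeparated (Red.bc R G').hom := inferInstanceAs (IsSeparated (pullback.snd G'.hom R))
  haveI : LocallyOfFinitePresentation (Red.bc R G').hom :=
    inferInstanceAs (LocallyOfFinitePresentation (pullback.snd G'.hom R))
  haveI : QuasiCompact (Red.bc R G').hom := inferInstanceAs (QuasiCompact (pullback.snd G'.hom R))
  haveI : IsFinite (F.map f).left := MorphismProperty.baseChange_map R f ‹IsFinite f.left›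
  -- the structure point of a scheme over `X`
  let st : ∀ Y : Over X.left, (Over.map R).obj Y ⟶ X := fun Y => Over.homMk Y.hom rfl
  let P := (Over.map R).obj (Red.bc R T₀)
  let t : P ⟶ T₀ := DSPtsLib.theta R (𝟙 (Red.bc R T₀))
  obtain ⟨u, hu⟩ := (DSPtsLib.theta_bijective (g := R) (Y := Red.bc R T₀) (H := G')).2
    ((st _ ≫ x) * (t ≫ i) * (st _ ≫ x)⁻¹ * (t ≫ i)⁻¹)
  have hθ : ∀ {Y : Over X.left} (a : Y ⟶ Red.bc R T₀), DSPtsLib.theta R (a ≫ u) =
      (st Y ≫ x) * (DSPtsLib.theta R a ≫ i) * (st Y ≫ x)⁻¹ * (DSPtsLib.theta R a ≫ i)⁻¹ := by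
    intro Y a
    have h1 : (Over.map R).map a ≫ st _ = st Y := Over.OverMorphism.ext (Over.w a)
    have h2 : (Over.map R).map a ≫ t = DSPtsLib.theta R a := by
      rw [← DSPtsLib.theta_comp, Category.comp_id]
    rw [DSPtsLib.theta_comp, hu]
    simp only [MonObj.comp_mul, GrpObj.comp_inv, ← Category.assoc]
    rw [h1, h2]
  have humul : ∀ {Y : Over X.left} (a b : Y ⟶ Red.bc R T₀), (a * b) ≫ u = (a ≫ u) * (b ≫ u) := by
    intro Y a b
    refine (DSPtsLib.theta_bijective (g := R) (Y := Y) (H := G')).1 ?_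
    rw [DSPtsLib.theta_mul, hθ, hθ, hθ, DSPtsLib.theta_mul, MonObj.mul_comp]
    set k := st Y ≫ x
    set p := DSPtsLib.theta R a ≫ i
    set q := DSPtsLib.theta R b ≫ i
    have hq := hκ (st Y) q
    calc k * (p * q) * k⁻¹ * (p * q)⁻¹ = k * p * k⁻¹ * ((k * q * k⁻¹ * q⁻¹) * p⁻¹) := by group
      _ = k * p * k⁻¹ * (p⁻¹ * (k * q * k⁻¹ * q⁻¹)) := by rw [hcen _ p⁻¹ hq]
      _ = _ := by group
  haveI : IsMonHom u := by
    refine ⟨?_, ?_⟩
    · have h := humul (1 : 𝟙_ (Over X.left) ⟶ Red.bc R T₀) 1
      rw [_root_.one_mul] at h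
      have h2 : (1 : 𝟙_ (Over X.left) ⟶ Red.bc R T₀) ≫ u = 1 := left_eq_mul.mp h
      simpa [MonObj.one_eq_one] using h2
    · rw [MonObj.mul_eq_mul, humul, MonObj.mul_eq_mul, MonObj.comp_mul, tensorHom_fst, tensorHom_snd]
  have huf : u ≫ F.map f = 1 := by
    refine (DSPtsLib.theta_bijective (g := R) (Y := Red.bc R T₀) (H := G)).1 ?_
    rw [SubgroupNbhd.theta_map, HomUnitLocus.theta_one, hu]
    exact hκ _ _
  have hu1 : u = 1 := TorusFinite.eq_one (SolvGrp.isTorus_bc R hi.2.2.1) (F.map f) u huf
  have hcomm : ∀ {W : Over S} (p : W ⟶ X) (v : W ⟶ T₀), (p ≫ x) * (v ≫ i) = (v ≫ i) * (p ≫ x) := by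
    intro W p v
    let Y : Over X.left := Over.mk p.left
    let e : W ⟶ (Over.map R).obj Y := Over.homMk (𝟙 _) (by
      show 𝟙 _ ≫ p.left ≫ R = W.hom
      rw [Category.id_comp]; exact Over.w p)
    let e' : (Over.map R).obj Y ⟶ W := Over.homMk (𝟙 _) (by
      show 𝟙 _ ≫ W.hom = p.left ≫ R
      rw [Category.id_comp]; exact (Over.w p).symm)
    have hee : e ≫ e' = 𝟙 _ := Over.OverMorphism.ext (Category.id_comp _)
    obtain ⟨a, ha⟩ := (DSPtsLib.theta_bijective (g := R) (Y := Y) (H := T₀)).2 (e' ≫ v)
    have h := hθ a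
    rw [hu1, MonObj.comp_one, HomUnitLocus.theta_one, ha] at h
    have h' := congrArg (e ≫ ·) h
    simp only [MonObj.comp_one, MonObj.comp_mul, GrpObj.comp_inv, ← Category.assoc] at h'
    rw [show e ≫ st Y = p from Over.OverMorphism.ext (Category.id_comp _), hee, Category.id_comp] at h'
    have h3 := mul_inv_eq_one.mp h'.symm
    rwa [mul_inv_eq_iff_eq_mul] at h3
  refine ConjDense.ext_of_conj hconn hi hsc _ _ fun {W} p u v => ?_
  simp only [MonObj.comp_mul, lift_fst, lift_snd_assoc]
  set a := p ≫ x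
  have hk := hκ p u
  have hv := hcomm p v
  calc a * (u * (v ≫ i) * u⁻¹) = (a * u * a⁻¹ * u⁻¹) * (u * (a * (v ≫ i)) * u⁻¹) := by group
    _ = (a * u * a⁻¹ * u⁻¹) * (u * ((v ≫ i) * a) * u⁻¹) := by rw [hv]
    _ = (a * u * a⁻¹ * u⁻¹) * (u * (v ≫ i) * u⁻¹) * (u * a * u⁻¹) := by group
    _ = (u * (v ≫ i) * u⁻¹) * (a * u * a⁻¹ * u⁻¹) * (u * a * u⁻¹) := by rw [hcen _ _ hk]
    _ = _ := by group

/-- Suppose G' and G are reductive S-group schemes and f : G' → G is a central isogeny between them,
meaning a homomorphism that is finite, flat and surjective with central kernel (every point of G'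
killed by f commutes with every point of G'). Then the centre of G' is the preimage of the centre of
G: a point x of G' with values in an S-scheme T is central (commutes with all points of G' with
values in T-schemes) if and only if f(x) is central in G in the same sense. -/
theorem result
    {S : Scheme.{u}} {G' G : Over S} [GrpObj G'] [GrpObj G]
    (hG' : Red.IsReductive G') (hG : Red.IsReductive G) (f : G' ⟶ G) [IsMonHom f]
    (hfin : IsFinite f.left) (hfl : Flat f.left) (hsurj : Surjective f.left)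
    (hcen : ∀ (T : Over S) (k y : T ⟶ G'), k ≫ f = 1 → k * y = y * k)
    (T : Over S) (x : T ⟶ G') :
    (∀ (T' : Over S) (p : T' ⟶ T) (y : T' ⟶ G'), (p ≫ x) * y = y * (p ≫ x)) ↔
      (∀ (T' : Over S) (p : T' ⟶ T) (z : T' ⟶ G), (p ≫ x ≫ f) * z = z * (p ≫ x ≫ f)) := by
  haveI := hG'.1; haveI := hG'.2.1; haveI := hG.2.1; haveI := hfin; haveI := hfl; haveI := hsurj
  refine ⟨fun h T' p z => ?_, fun h T' p y => ?_⟩
  · let q := pullback.fst z.left f.left
    let Q : Over S := Over.mk (q ≫ T'.hom)
    let q' : Q ⟶ T' := Over.homMk q rfl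
    let y : Q ⟶ G' := Over.homMk (pullback.snd z.left f.left) (by
      show pullback.snd _ _ ≫ G'.hom = q ≫ T'.hom
      rw [← Over.w f, ← pullback.condition_assoc, Over.w z])
    have hy : y ≫ f = q' ≫ z := Over.OverMorphism.ext pullback.condition.symm
    haveI : Flat q'.left := MorphismProperty.pullback_fst (P := @Flat) _ _ inferInstance
    haveI : Surjective q'.left := MorphismProperty.pullback_fst (P := @Surjective) _ _ inferInstance
    haveI : QuasiCompact q'.left := MorphismProperty.pullback_fst (P := @QuasiCompact) _ _ inferInstance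
    haveI : Epi q' := (FpqcDescLib.covers_of_isCovering (FpqcDescLib.isCovering_of_quasiCompact q'.left)).over_epi
    rw [← cancel_epi q', MonObj.comp_mul, MonObj.comp_mul, ← hy]
    have h1 := congrArg (· ≫ f) (h Q (q' ≫ p) y)
    simp only [MonObj.mul_comp, Category.assoc] at h1
    exact h1
  · have hconn := RedRank.ReductiveRank.isConnected_fibre hG'
    obtain ⟨S', g, hge, hgs, T₀, _, i, hi⟩ :=
      RedRank.UnipZero.hasMaxTorusEtaleLocally hconn (RedRank.ReductiveRank.unipotentRankZero hG')
    haveI := hge; haveI := hgs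
    let F := Over.pullback g
    haveI : F.IsRightAdjoint := (Over.mapPullbackAdj g).isRightAdjoint
    haveI : Smooth (Red.bc g G').hom := inferInstanceAs (Smooth (pullback.snd G'.hom g))
    haveI : IsAffineHom (Red.bc g G').hom := MorphismProperty.pullback_snd (P := @IsAffineHom) _ _ inferInstance
    haveI : IsFinite (F.map f).left := MorphismProperty.baseChange_map g f ‹IsFinite f.left›
    have key := core (RedCentre.isConnected_fibre_bc g G' hconn) hi (RedRank.ReductiveRank.selfCent_bc hG' g hi)
      (F.map f)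
      (fun {W} k y hk => by
        refine (DSPtsLib.theta_bijective (g := g) (Y := W) (H := G')).1 ?_
        rw [DSPtsLib.theta_mul, DSPtsLib.theta_mul]
        refine hcen _ _ _ ?_
        rw [← SubgroupNbhd.theta_map, hk, GrpSchLib.HomUnitLocus.theta_one])
      (F.map x) (fun {W} p' y => by
        refine (DSPtsLib.theta_bijective (g := g) (Y := W) (H := G)).1 ?_
        rw [DSPtsLib.theta_mul, DSPtsLib.theta_mul]
        rw [← Category.assoc p', SubgroupNbhd.theta_map, SubgroupNbhd.theta_map, SubgroupNbhd.theta_map, Category.assoc]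
        exact h _ (DSPtsLib.theta g p') (DSPtsLib.theta g y ≫ f))
    have hall : (snd G' T ≫ x) * fst G' T = fst G' T * (snd G' T ≫ x) := by
      let Q : Over S := (Over.map g).obj (Red.bc g (G' ⊗ T))
      let q : Q ⟶ G' ⊗ T := DSPtsLib.theta g (𝟙 _)
      haveI : Epi q := by
        haveI : Surjective q.left := by
          rw [DSPtsLib.theta_left, Over.id_left, Category.id_comp]
          exact MorphismProperty.pullback_fst (P := @Surjective) _ _ inferInstance
        haveI : Flat q.left := by
          rw [DSPtsLib.theta_left, Over.id_left, Category.id_comp]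
          exact MorphismProperty.pullback_fst (P := @Flat) _ _ inferInstance
        haveI : Epi q.left := Flat.epi_of_flat_of_surjective _
        exact Over.epi_of_epi_left _
      rw [← cancel_epi q, ← SubgroupNbhd.theta_map g, ← SubgroupNbhd.theta_map g]
      congr 1
      rw [Category.id_comp, Category.id_comp]
      have e := congrArg ((lift (F.map (fst G' T)) (F.map (snd G' T))) ≫ ·) key
      simp only [MonObj.comp_mul, lift_fst] at e
      erw [lift_snd_assoc, ← F.map_comp] at e
      rw [show F.map ((snd G' T ≫ x) * fst G' T) = F.map (snd G' T ≫ x) * F.map (fst G' T) from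
          map_mul F.homMonoidHom _ _,
        show F.map (fst G' T * (snd G' T ≫ x)) = F.map (fst G' T) * F.map (snd G' T ≫ x) from
          map_mul F.homMonoidHom _ _]
      exact e
    have h1 := congrArg (lift y p ≫ ·) hall
    simpa only [MonObj.comp_mul, lift_fst, lift_snd_assoc] using h1

end Groth.Agent.S17847
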