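import Groth.Statements.S17849
import Mathlib.RepresentationTheory.Homological.GroupCohomology.LowDegree
import Mathlib.Algebra.Homology.ShortComplex.ShortExact
import Mathlib.Algebra.Homology.ShortComplex.ModuleCat
import Mathlib.GroupTheory.GroupAction.Quotient

set_option autoImplicit false
open CategoryTheory
open GalLat

namespace Groth.Agent.S17849

open CategoryTheory groupCohomology

variable {k : Type} [CommRing k] {Γ : Type} [Group Γ]

theorem isZero_H1_iff {H : Type} [Group H] (B : Rep k H) :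
    Limits.IsZero (groupCohomology B 1) ↔
      ∀ f : H → B.V, (∀ g h, f (g * h) = B.ρ g (f h) + f g) → ∃ a, ∀ g, f g = B.ρ g a - a := by
  rw [ModuleCat.isZero_iff_subsingleton]
  constructor
  · intro h f hf
    have h0 := (H1π_eq_zero_iff (A := B) ⟨f, (mem_cocycles₁_iff f).2 hf⟩).1 (Subsingleton.elim _ _)
    obtain ⟨a, ha⟩ := h0
    exact ⟨a, fun g => ((congrFun ha g).symm.trans (d₀₁_hom_apply B a g))⟩
  · intro h
    refine subsingleton_of_forall_eq 0 fun x => ?_
    refine H1_induction_on x fun y => (H1π_eq_zero_iff y).2 ?_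
    obtain ⟨a, ha⟩ := h y.1 ((mem_cocycles₁_iff y.1).1 y.2)
    exact ⟨a, funext fun g => (d₀₁_hom_apply B a g).trans (ha g).symm⟩

variable (X : Type) [MulAction Γ X]

/-- Linear maps out of a permutation lattice. -/
noncomputable def perm {W : Type} [AddCommGroup W] [Module k W] (v : X → W) : MonoidAlgebra k X →ₗ[k] W :=
  Finsupp.linearCombination k v ∘ₗ (MonoidAlgebra.coeffLinearEquiv k).toLinearMap

omit [MulAction Γ X] in
theorem perm_single {W : Type} [AddCommGroup W] [Module k W] (v : X → W) (x : X) (n : k) :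
    perm X v (MonoidAlgebra.single x n) = n • v x := by
  simp [perm]

omit [MulAction Γ X] in
theorem perm_ext {W : Type} [AddCommGroup W] [Module k W] {F G : MonoidAlgebra k X →ₗ[k] W}
    (h : ∀ x, F (MonoidAlgebra.single x 1) = G (MonoidAlgebra.single x 1)) : F = G := by
  refine LinearMap.ext fun f => ?_
  induction f using MonoidAlgebra.induction_linear with
  | zero => simp
  | add a b ha hb => simp [ha, hb]
  | single x n =>
    rw [show MonoidAlgebra.single x n = n • MonoidAlgebra.single x (1 : k) by simp, map_smul, map_smul, h]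

section Twist

variable (Λ : Rep k Γ) (C : Γ → X → Λ.V)

/-- The action on `Λ × k[X]` twisted by a cocycle. -/
noncomputable def act (g : Γ) : Λ.V × MonoidAlgebra k X →ₗ[k] Λ.V × MonoidAlgebra k X :=
  LinearMap.prod (Λ.ρ g ∘ₗ LinearMap.fst k _ _ + perm X (C g) ∘ₗ LinearMap.snd k _ _)
    (Representation.ofMulAction k Γ X g ∘ₗ LinearMap.snd k _ _)

theorem act_mul (hC : ∀ g h x, C (g * h) x = Λ.ρ g (C h x) + C g (h • x)) (g h : Γ) :
    act X Λ C (g * h) = act X Λ C g ∘ₗ act X Λ C h := by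
  have e : perm X (C (g * h)) = Λ.ρ g ∘ₗ perm X (C h) + perm X (C g) ∘ₗ Representation.ofMulAction k Γ X h :=
    perm_ext X fun x => by
      simp only [LinearMap.add_apply, LinearMap.comp_apply, Representation.ofMulAction_single, perm_single, one_smul]
      exact hC g h x
  refine LinearMap.ext fun p => Prod.ext ?_ ?_
  · simp only [act, LinearMap.comp_apply, LinearMap.prod_apply, Function.prod, LinearMap.add_apply,
      LinearMap.fst_apply, LinearMap.snd_apply, e, map_add, map_mul, Module.End.mul_apply]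
    abel
  · simp [act, map_mul, Module.End.mul_apply]

theorem act_one (hC : ∀ g h x, C (g * h) x = Λ.ρ g (C h x) + C g (h • x)) : act X Λ C 1 = LinearMap.id := by
  have h1 : ∀ x, C 1 x = 0 := fun x => by simpa using hC 1 1 x
  have e : (perm X (C 1) : MonoidAlgebra k X →ₗ[k] Λ.V) = 0 := perm_ext X fun x => by simp [perm_single, h1]
  exact LinearMap.ext fun p => Prod.ext (by simp [act, e]) (by simp [act])

/-- The twisted representation. -/
noncomputable def twist (hC : ∀ g h x, C (g * h) x = Λ.ρ g (C h x) + C g (h • x)) :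
    Representation k Γ (Λ.V × MonoidAlgebra k X) where
  toFun := act X Λ C
  map_one' := act_one X Λ C hC
  map_mul' g h := act_mul X Λ C hC g h

theorem twist_apply (hC : ∀ g h x, C (g * h) x = Λ.ρ g (C h x) + C g (h • x)) (g : Γ) (l : Λ.V)
    (f : MonoidAlgebra k X) :
    twist X Λ C hC g (l, f) = (Λ.ρ g l + perm X (C g) f, Representation.ofMulAction k Γ X g f) := rfl

end Twist

theorem forward (Λ : Rep k Γ) (h : ∀ Γ' : Subgroup Γ, Limits.IsZero (groupCohomology (Rep.res Γ'.subtype Λ) 1))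
    (E : ShortComplex (Rep k Γ)) (hE : E.ShortExact) (i : E.X₁ ≅ Λ) (j : E.X₃ ≅ Rep.ofMulAction k Γ X) :
    Nonempty E.Splitting := by
  classical
  haveI := hE.mono_f
  haveI := hE.epi_g
  have hinj : Function.Injective E.f.hom := (Rep.mono_iff_injective E.f).1 inferInstance
  have hsurj : Function.Surjective E.g.hom := (Rep.epi_iff_surjective E.g).1 inferInstance
  have hex : LinearMap.range E.f.hom.toLinearMap = LinearMap.ker E.g.hom.toLinearMap :=
    (hE.exact.map (forget₂ (Rep k Γ) (ModuleCat k))).moduleCat_range_eq_ker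
  choose e he using fun x : X => hsurj (j.inv.hom (MonoidAlgebra.single x 1))
  let incl : Λ ⟶ E.X₂ := i.inv ≫ E.f
  have hincl : Function.Injective incl.hom := fun a b hab => by
    have h1 : i.inv.hom a = i.inv.hom b := hinj (by simpa [incl] using hab)
    simpa using congrArg i.hom.hom h1
  have hrange : ∀ z, E.g.hom z = 0 → ∃ l, incl.hom l = z := fun z hz => by
    obtain ⟨w, hw⟩ : z ∈ LinearMap.range E.f.hom.toLinearMap := hex ▸ hz
    exact ⟨i.hom.hom w, by simpa [incl] using hw⟩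
  have hzero : ∀ l, E.g.hom (incl.hom l) = 0 := fun l => by
    have h1 : incl ≫ E.g = 0 := by simp [incl, E.zero]
    exact congr($(congrArg Rep.Hom.hom h1) l)
  have hb : ∀ (g : Γ) (x : X), E.X₃.ρ g (j.inv.hom (MonoidAlgebra.single x 1)) =
      j.inv.hom (MonoidAlgebra.single (g • x) 1) := fun g x => by
    rw [← Rep.hom_comm_apply]
    exact congrArg _ (Representation.ofMulAction_single g x 1)
  have hfix : ∀ x : X, ∃ e' : E.X₂.V, E.g.hom e' = j.inv.hom (MonoidAlgebra.single x 1) ∧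
      ∀ g : Γ, g • x = x → E.X₂.ρ g e' = e' := by
    intro x
    have hd : ∀ g : MulAction.stabilizer Γ x, ∃ l, incl.hom l = E.X₂.ρ g (e x) - e x := fun g => by
      refine hrange _ ?_
      rw [map_sub, Rep.hom_comm_apply, he, hb, g.2, sub_self]
    choose f hf using hd
    obtain ⟨a, ha⟩ := (isZero_H1_iff _).1 (h (MulAction.stabilizer Γ x)) f (fun g g' => hincl (by
      show incl.hom (f (g * g')) = incl.hom (Λ.ρ g (f g') + f g)
      rw [map_add, Rep.hom_comm_apply, hf, hf, hf, map_sub, Subgroup.coe_mul, map_mul, Module.End.mul_apply]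
      abel))
    refine ⟨e x - incl.hom a, by rw [map_sub, he, hzero, sub_zero], fun g hg => ?_⟩
    have h1 : incl.hom (f ⟨g, hg⟩) = incl.hom (Λ.ρ g a - a) := congrArg _ (ha ⟨g, hg⟩)
    rw [hf, map_sub, Rep.hom_comm_apply] at h1
    change E.X₂.ρ g (e x) - e x = _ at h1
    rw [map_sub, ← sub_eq_zero]
    linear_combination (norm := abel) h1
  choose e' he' hfix' using hfix
  let rep : X → X := fun x => (Quotient.mk (MulAction.orbitRel Γ X) x).out
  have hrep : ∀ x, x ∈ MulAction.orbit Γ (rep x) := fun x => by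
    have := Quotient.mk_out (s := MulAction.orbitRel Γ X) x
    exact MulAction.mem_orbit_symm.1 this
  choose γ hγ using hrep
  replace hγ : ∀ x, γ x • rep x = x := hγ
  have hrep' : ∀ (g : Γ) x, rep (g • x) = rep x := fun g x =>
    congrArg Quotient.out (Quotient.sound (MulAction.mem_orbit x g))
  let v : X → E.X₂.V := fun x => E.X₂.ρ (γ x) (e' (rep x))
  have hv : ∀ (g : Γ) x, E.X₂.ρ g (v x) = v (g • x) := fun g x => by
    have h1 : ((γ (g • x))⁻¹ * g * γ x) • rep x = rep x := by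
      have h2 := hγ (g • x)
      simp only [hrep'] at h2
      rw [mul_smul, mul_smul, hγ x, inv_smul_eq_iff]
      exact h2.symm
    show E.X₂.ρ g (E.X₂.ρ (γ x) (e' (rep x))) = E.X₂.ρ (γ (g • x)) (e' (rep (g • x)))
    rw [hrep']
    conv_rhs => rw [← hfix' (rep x) _ h1]
    rw [← Module.End.mul_apply, ← Module.End.mul_apply, ← map_mul, ← map_mul]
    congr 2
    group
  have hgv : ∀ x, E.g.hom (v x) = j.inv.hom (MonoidAlgebra.single x 1) := fun x => by
    show E.g.hom (E.X₂.ρ (γ x) (e' (rep x))) = _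
    rw [Rep.hom_comm_apply, he', hb]
    exact congrArg (fun y => j.inv.hom (MonoidAlgebra.single y 1)) (hγ x)
  let s₀ : Rep.ofMulAction k Γ X ⟶ E.X₂ := Rep.ofHom ⟨perm X v, fun g => by
    refine perm_ext X fun x => ?_
    simp only [LinearMap.comp_apply, Representation.ofMulAction_single, perm_single, one_smul]
    exact (hv g x).symm⟩
  have hs : s₀ ≫ E.g = j.inv := Rep.hom_ext (by
    ext : 1
    refine perm_ext X fun x => ?_
    show E.g.hom (perm X v (MonoidAlgebra.single x 1)) = _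
    rw [perm_single, one_smul]
    exact hgv x)
  exact ⟨ShortComplex.Splitting.ofExactOfSection E hE.exact (j.hom ≫ s₀)
    (by rw [Category.assoc, hs, Iso.hom_inv_id]) hE.mono_f⟩

theorem backward [Finite Γ] (Λ : Rep k Γ)
    (h : ∀ (X : Type) [MulAction Γ X] [Finite X] (E : ShortComplex (Rep k Γ)),
      E.ShortExact → Nonempty (E.X₁ ≅ Λ) → Nonempty (E.X₃ ≅ Rep.ofMulAction k Γ X) → Nonempty E.Splitting)
    (Γ' : Subgroup Γ) : Limits.IsZero (groupCohomology (Rep.res Γ'.subtype Λ) 1) := by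
  rw [isZero_H1_iff]
  intro c hc
  let X := Γ ⧸ Γ'
  let σ : X → Γ := Quotient.out
  have hσ : ∀ (g : Γ) (x : X), (σ (g • x))⁻¹ * g * σ x ∈ Γ' := fun g x => by
    rw [mul_assoc, ← QuotientGroup.eq]
    show (QuotientGroup.mk (σ (g • x)) : X) = g • QuotientGroup.mk (σ x)
    rw [QuotientGroup.out_eq', QuotientGroup.out_eq']
  let C : Γ → X → Λ.V := fun g x => Λ.ρ (σ (g • x)) (c ⟨_, hσ g x⟩)
  have hC : ∀ g g' x, C (g * g') x = Λ.ρ g (C g' x) + C g (g' • x) := fun g g' x => by
    have e : (⟨_, hσ (g * g') x⟩ : Γ') = ⟨_, hσ g (g' • x)⟩ * ⟨_, hσ g' x⟩ := Subtype.ext (by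
      show (σ ((g * g') • x))⁻¹ * (g * g') * σ x = (σ (g • g' • x))⁻¹ * g * σ (g' • x) * ((σ (g' • x))⁻¹ * g' * σ x)
      rw [mul_smul]; group)
    show Λ.ρ (σ ((g * g') • x)) (c _) = Λ.ρ g (Λ.ρ (σ (g' • x)) (c _)) + Λ.ρ (σ (g • g' • x)) (c _)
    rw [e, hc, map_add, mul_smul]
    congr 1
    show Λ.ρ (σ (g • g' • x)) (Λ.ρ ((σ (g • g' • x))⁻¹ * g * σ (g' • x)) _) = _
    rw [← Module.End.mul_apply, ← Module.End.mul_apply, ← map_mul, ← map_mul]
    congr 2
    group
  let M : Rep k Γ := Rep.of (twist X Λ C hC)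
  let f : Λ ⟶ M := Rep.ofHom ⟨LinearMap.inl k _ _, fun g => LinearMap.ext fun l => Prod.ext (by simp [twist_apply]) (by simp [twist_apply])⟩
  let p : M ⟶ Rep.ofMulAction k Γ X := Rep.ofHom ⟨LinearMap.snd k _ _, fun g => LinearMap.ext fun _ => rfl⟩
  let E : ShortComplex (Rep k Γ) := ShortComplex.mk f p (by ext; rfl)
  have hE : E.ShortExact := by
    have : Mono E.f := (Rep.mono_iff_injective f).2 LinearMap.inl_injective
    have : Epi E.g := (Rep.epi_iff_surjective p).2 LinearMap.snd_surjective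
    refine ⟨?_⟩
    rw [← ShortComplex.exact_map_iff_of_faithful E (forget₂ (Rep k Γ) (ModuleCat k)), ShortComplex.moduleCat_exact_iff]
    rintro ⟨l, z⟩ (hz : z = 0)
    exact ⟨l, Prod.ext rfl hz.symm⟩
  obtain ⟨S⟩ := h X E hE ⟨Iso.refl _⟩ ⟨Iso.refl _⟩
  let x₀ : X := QuotientGroup.mk 1
  obtain ⟨⟨μ, z⟩, hμ⟩ : ∃ m, m = S.s.hom (MonoidAlgebra.single x₀ 1) := ⟨_, rfl⟩
  have hz : z = MonoidAlgebra.single x₀ 1 := by
    have h1 : p.hom (S.s.hom (MonoidAlgebra.single x₀ 1)) = MonoidAlgebra.single x₀ 1 :=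
      congr($(congrArg Rep.Hom.hom S.s_g) (MonoidAlgebra.single x₀ 1))
    rw [← hμ] at h1
    exact h1
  have hs0 : σ x₀ ∈ Γ' := by
    have h1 : (QuotientGroup.mk (σ x₀) : X) = QuotientGroup.mk 1 := QuotientGroup.out_eq' x₀
    simpa using QuotientGroup.eq.1 h1
  refine ⟨-(μ + c ⟨σ x₀, hs0⟩), fun g => ?_⟩
  have hgx : (g : Γ) • x₀ = x₀ := QuotientGroup.eq.2 (by simp)
  have h1 := Rep.hom_comm_apply S.s (g : Γ) (MonoidAlgebra.single x₀ 1)
  rw [show (Rep.ofMulAction k Γ X).ρ (g : Γ) (MonoidAlgebra.single x₀ 1) = MonoidAlgebra.single ((g : Γ) • x₀) 1 from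
    Representation.ofMulAction_single _ _ _, hgx] at h1
  have h2 : μ = Λ.ρ g μ + C g x₀ := by
    have h3 : ((μ, z) : Λ.V × MonoidAlgebra k X) = twist X Λ C hC g (μ, z) := by
      conv_lhs => rw [hμ]
      rw [hμ]
      exact h1
    rw [twist_apply, hz, perm_single, one_smul] at h3
    exact congrArg Prod.fst h3
  let h₀ : Γ' := ⟨σ x₀, hs0⟩
  have hC0 : C g x₀ = c g + Λ.ρ g (c h₀) - c h₀ := by
    have e : (⟨_, hσ (g : Γ) x₀⟩ : Γ') = h₀⁻¹ * g * h₀ := Subtype.ext (by
      show (σ ((g : Γ) • x₀))⁻¹ * g * σ x₀ = _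
      rw [hgx]; rfl)
    have h4 := hc h₀ (h₀⁻¹ * g * h₀)
    rw [show h₀ * (h₀⁻¹ * g * h₀) = g * h₀ by group, hc g h₀] at h4
    show Λ.ρ (σ ((g : Γ) • x₀)) (c ⟨_, hσ (g : Γ) x₀⟩) = _
    rw [e, hgx]
    change Λ.ρ g (c h₀) + c g = Λ.ρ (σ x₀) (c (h₀⁻¹ * g * h₀)) + c h₀ at h4
    linear_combination (norm := abel) -h4
  show c g = Λ.ρ g (-(μ + c h₀)) - -(μ + c h₀)
  rw [hC0] at h2
  rw [map_neg, map_add]
  linear_combination (norm := abel) -h2


/-- For a finite group Γ and a Γ-lattice Λ (finitely generated free ℤ-module with Γ-action) the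
following are equivalent: (i) H¹(Γ', Λ) = 0 for every subgroup Γ' ≤ Γ; (ii) Ext¹ over ℤ[Γ] of P into
Λ vanishes for every permutation lattice P = ℤ[X], X a finite Γ-set. Condition (ii) is stated
through Yoneda extensions: every short exact sequence 0 → Λ' → E → P → 0 of ℤ-linear
Γ-representations with Λ' ≅ Λ and P ≅ ℤ[X] splits. (These are the lattices called coflasque.) The
group, the lattice and the Γ-sets are taken in the lowest universe. -/
theorem result
    (Γ : Type) [Group Γ] [Finite Γ] (Λ : Rep ℤ Γ) [Module.Free ℤ Λ.V] [Module.Finite ℤ Λ.V] :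
    (∀ Γ' : Subgroup Γ, Limits.IsZero (groupCohomology (Rep.res Γ'.subtype Λ) 1)) ↔
      ∀ (X : Type) [MulAction Γ X] [Finite X] (E : ShortComplex (Rep ℤ Γ)),
        E.ShortExact → Nonempty (E.X₁ ≅ Λ) → Nonempty (E.X₃ ≅ Rep.ofMulAction ℤ Γ X) →
          Nonempty E.Splitting := by
  constructor
  · rintro h X _ _ E hE ⟨i⟩ ⟨j⟩
    exact forward X Λ h E hE i j
  · exact fun h => backward Λ h

end Groth.Agent.S17849
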