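import Groth.Statements.S17854
import Mathlib.RingTheory.Etale.Locus
import Mathlib.RingTheory.Kaehler.JacobiZariski
import Mathlib.RingTheory.Unramified.Field
import Mathlib.RingTheory.LocalRing.Module
import Mathlib.RingTheory.Kaehler.Polynomial
import Mathlib.FieldTheory.Finite.Basic
import Mathlib.RingTheory.Jacobson.Ring

set_option autoImplicit false
open TensorProduct
universe u
open EtAlg

namespace Groth.Agent.S17854

open TensorProduct in
/-- If the residue field `R/m` is finite, the differentials of suitable elements form a basis at `m`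
and their residues generate the residue field. -/
theorem exists_coords
    (k : Type u) [CommRing k] [IsLocalRing k] [Finite (IsLocalRing.ResidueField k)]
    (R : Type u) [CommRing R] [Algebra k R] [Algebra.FiniteType k R]
    (m : Ideal R) [m.IsMaximal] (hm : m.comap (algebraMap k R) = IsLocalRing.maximalIdeal k)
    (d : ℕ) (hd : 0 < d)
    (hdim : Module.finrank (R ⧸ m) ((R ⧸ m) ⊗[R] KaehlerDifferential k R) = d) :
    ∃ (x : Fin d → R) (b : Module.Basis (Fin d) (R ⧸ m) ((R ⧸ m) ⊗[R] KaehlerDifferential k R)),
      (∀ i, b i = 1 ⊗ₜ KaehlerDifferential.D k R (x i)) ∧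
      Function.Surjective ((Ideal.Quotient.mk m).comp ((MvPolynomial.aeval x : MvPolynomial (Fin d) k →ₐ[k] R) : MvPolynomial (Fin d) k →+* R)) := by
  classical
  let := Ideal.Quotient.field m
  let K := IsLocalRing.ResidueField k
  let : Algebra K (R ⧸ m) := (Ideal.Quotient.lift (IsLocalRing.maximalIdeal k)
    (algebraMap k (R ⧸ m)) (fun a ha => Ideal.Quotient.eq_zero_iff_mem.mpr
      (show a ∈ m.comap (algebraMap k R) from hm ▸ ha))).toAlgebra
  have : IsScalarTower k K (R ⧸ m) := .of_algebraMap_eq fun a => rfl
  have : Algebra.FiniteType K (R ⧸ m) := Algebra.FiniteType.of_restrictScalars_finiteType k K _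
  have : Module.Finite K (R ⧸ m) := finite_of_finite_type_of_isJacobsonRing K _
  have : Finite (R ⧸ m) := Module.finite_of_finite K
  have : Algebra.FormallyUnramified k K :=
    Algebra.FormallyUnramified.of_surjective (Algebra.ofId k K) IsLocalRing.residue_surjective
  have : Algebra.FormallyUnramified K (R ⧸ m) := Algebra.FormallyUnramified.of_isSeparable K _
  have : Algebra.FormallyUnramified k (R ⧸ m) := Algebra.FormallyUnramified.comp k K _
  have hsurj : ∀ z : (R ⧸ m) ⊗[R] KaehlerDifferential k R,
      ∃ a ∈ m, z = 1 ⊗ₜ KaehlerDifferential.D k R a := fun z => by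
    have hs : Function.Surjective (algebraMap R (R ⧸ m)) := Ideal.Quotient.mk_surjective
    obtain ⟨c, hc⟩ := (KaehlerDifferential.exact_kerCotangentToTensor_mapBaseChange k R _ hs z).mp
      (Subsingleton.elim _ _)
    obtain ⟨a, rfl⟩ := Ideal.toCotangent_surjective _ c
    exact ⟨a.1, Ideal.Quotient.eq_zero_iff_mem.mp a.2, hc.symm⟩
  have : Module.Finite (R ⧸ m) ((R ⧸ m) ⊗[R] KaehlerDifferential k R) := inferInstance
  let b := Module.finBasisOfFinrankEq _ _ hdim
  obtain ⟨u, hu⟩ := IsCyclic.exists_generator (α := (R ⧸ m)ˣ)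
  obtain ⟨t, ht⟩ := Ideal.Quotient.mk_surjective (I := m) (u : R ⧸ m)
  let i₀ : Fin d := ⟨0, hd⟩
  choose a ha hab using fun i => hsurj (b i - if i = i₀ then 1 ⊗ₜ KaehlerDifferential.D k R t else 0)
  let x : Fin d → R := fun i => (if i = i₀ then t else 0) + a i
  refine ⟨x, b, fun i => ?_, fun z => ?_⟩
  · by_cases h : i = i₀
    · simp only [x, if_pos h, map_add, tmul_add, ← hab, add_sub_cancel]
    · simp only [x, if_neg h, zero_add, ← hab, sub_zero]
  · have hx : Ideal.Quotient.mk m (x i₀) = u := by
      simp [x, Ideal.Quotient.eq_zero_iff_mem.mpr (ha i₀), ht]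
    rcases eq_or_ne z 0 with rfl | hz
    · exact ⟨0, map_zero _⟩
    · obtain ⟨n, hn⟩ := (mem_powers_iff_mem_zpowers.mpr (hu (Units.mk0 z hz)))
      refine ⟨MvPolynomial.X i₀ ^ n, ?_⟩
      have := congrArg Units.val hn
      simp only [Units.val_pow_eq_pow_val, Units.val_mk0] at this
      simp [hx, this]

open TensorProduct in
/-- A smooth point with a family of differentials forming a basis of the fibre is an etale point
of the coordinate map. -/
theorem isEtaleAt_coords (k : Type u) [CommRing k] (R : Type u) [CommRing R] [Algebra k R]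
    [Algebra.EssFiniteType k R] (m : Ideal R) [m.IsMaximal] [Algebra.IsSmoothAt k m] (d : ℕ)
    (x : Fin d → R) (b : Module.Basis (Fin d) (R ⧸ m) ((R ⧸ m) ⊗[R] KaehlerDifferential k R))
    (hb : ∀ i, b i = 1 ⊗ₜ KaehlerDifferential.D k R (x i))
    [Algebra (MvPolynomial (Fin d) k) R] [IsScalarTower k (MvPolynomial (Fin d) k) R]
    (hx : ∀ i, algebraMap (MvPolynomial (Fin d) k) R (MvPolynomial.X i) = x i) :
    Algebra.IsEtaleAt (MvPolynomial (Fin d) k) m := by
  classical
  let P := MvPolynomial (Fin d) k
  let S := Localization.AtPrime m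
  have : IsScalarTower k P S := .of_algebraMap_eq fun a => by
    rw [IsScalarTower.algebraMap_apply P R S, ← IsScalarTower.algebraMap_apply k P R,
      ← IsScalarTower.algebraMap_apply k R S]
  have : Algebra.FormallySmooth k S := ‹Algebra.IsSmoothAt k m›
  have : Algebra.EssFiniteType R S := .of_isLocalization _ m.primeCompl
  have : Algebra.EssFiniteType k S := .comp k R S
  let v : Fin d → KaehlerDifferential k S := fun i => KaehlerDifferential.D k S (algebraMap R S (x i))
  let F := IsLocalRing.ResidueField S
  have hFs : Function.Surjective (algebraMap R F) :=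
    m.algebraMap_residueField_surjective
  -- the fibre of `Ω[S⁄k]` is that of `Ω[R⁄k]`
  have hloc : IsBaseChange S (KaehlerDifferential.map k k R S) :=
    IsLocalizedModule.isBaseChange m.primeCompl S _
  have hbc := hloc.comp (TensorProduct.isBaseChange S (KaehlerDifferential k S) F)
  let e : (R ⧸ m) ≃ₗ[R] F := LinearEquiv.ofBijective
    (Algebra.linearMap (R ⧸ m) F |>.restrictScalars R) m.bijective_algebraMap_quotient_residueField
  let T : (R ⧸ m) ⊗[R] KaehlerDifferential k R ≃ₗ[R] F ⊗[S] KaehlerDifferential k S :=
    (TensorProduct.congr e (LinearEquiv.refl R _)).trans (hbc.equiv.restrictScalars R)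
  have hT : ∀ i, T (b i) = 1 ⊗ₜ v i := fun i => by
    rw [hb]
    have he : e 1 = 1 := map_one (algebraMap (R ⧸ m) F)
    simp [T, v, IsBaseChange.equiv_tmul, he]
  have hbij : Function.Bijective (Finsupp.linearCombination F (TensorProduct.mk S F _ 1 ∘ v)) := by
    constructor
    · rw [← LinearMap.ker_eq_bot, LinearMap.ker_eq_bot']
      intro c hc
      choose r hr using fun i => hFs (c i)
      rw [Finsupp.linearCombination_apply, Finsupp.sum_fintype _ _ (by simp)] at hc
      have h0 : ∑ i, algebraMap R (R ⧸ m) (r i) • b i = 0 := T.injective (by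
        rw [map_sum, map_zero]; refine Eq.trans (Finset.sum_congr rfl fun i _ => ?_) hc
        rw [algebraMap_smul, map_smul, hT, ← hr, algebraMap_smul]; rfl)
      have := (Fintype.linearIndependent_iff.mp b.linearIndependent) _ h0
      ext i
      rw [← hr i, IsScalarTower.algebraMap_apply R (R ⧸ m) F, this i, map_zero, Finsupp.zero_apply]
    · intro z
      let c := b.repr (T.symm z)
      choose r hr using fun i => Ideal.Quotient.mk_surjective (I := m) (c i)
      refine ⟨Finsupp.equivFunOnFinite.symm fun i => algebraMap R F (r i), ?_⟩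
      rw [Finsupp.linearCombination_apply, Finsupp.sum_fintype _ _ (by simp)]
      calc ∑ i, algebraMap R F (r i) • (1 : F) ⊗ₜ[S] v i
          = T (∑ i, algebraMap R (R ⧸ m) (r i) • b i) := by
            rw [map_sum]; simp only [algebraMap_smul, map_smul, hT]
        _ = z := by
            simp only [Ideal.Quotient.algebraMap_eq, hr]
            rw [b.sum_repr, T.apply_symm_apply]
  have hv := Module.IsLocalRing.linearCombination_bijective_of_flat v hbij
  let w := (KaehlerDifferential.mvPolynomialBasis k (Fin d)).baseChange S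
  have hf : Function.Bijective (KaehlerDifferential.mapBaseChange k P S) := by
    have : (KaehlerDifferential.mapBaseChange k P S).comp w.repr.symm.toLinearMap =
        Finsupp.linearCombination S v := by
      ext i
      simp [w, v, ← hx, IsScalarTower.algebraMap_apply P R S, P]
    refine ((Function.Bijective.of_comp_iff _ w.repr.symm.bijective).mp ?_)
    show Function.Bijective ⇑((KaehlerDifferential.mapBaseChange k P S).comp w.repr.symm.toLinearMap)
    rw [this]
    exact hv
  refine (Algebra.formallyEtale_iff P S).mpr ⟨⟨fun z z' => ?_⟩, ⟨fun z z' => ?_⟩⟩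
  · have h : ∀ z : KaehlerDifferential P S, z = 0 := fun z => by
      obtain ⟨y, rfl⟩ := KaehlerDifferential.map_surjective k P S z
      obtain ⟨u, rfl⟩ := hf.2 y
      exact (KaehlerDifferential.exact_mapBaseChange_map k P S).apply_apply_eq_zero u
    rw [h z, h z']
  · have h : ∀ z : Algebra.H1Cotangent P S, z = 0 := fun z => by
      have hz : Algebra.H1Cotangent.δ k P S z = 0 := hf.1 (by
        rw [(Algebra.H1Cotangent.exact_δ_mapBaseChange k P S).apply_apply_eq_zero z, map_zero])
      obtain ⟨y, rfl⟩ := (Algebra.H1Cotangent.exact_map_δ k P S z).mp hz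
      rw [Subsingleton.elim y 0, map_zero]
    rw [h z, h z']

/-- In the case of a base with finite residue field, let k be a local ring whose residue field is
finite, R a finitely presented k-algebra and m a maximal ideal of R over the maximal ideal of k such
that R is smooth over k at m of relative dimension d > 0 (the module of Kähler differentials of R
over k has rank d at m). Then there are g ∉ m and an étale k-algebra homomorphism φ : k[x₁, …, x_d]
→ R[1/g] which induces an isomorphism of residue fields at m, i.e. k[x₁, …, x_d] → R[1/g]/m R[1/g]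
is surjective. The published statement is for any local ring k; this row takes the residue field of
k finite. -/
theorem result
    (k : Type u) [CommRing k] [IsLocalRing k] [Finite (IsLocalRing.ResidueField k)]
    (R : Type u) [CommRing R] [Algebra k R] [Algebra.FinitePresentation k R]
    (m : Ideal R) [m.IsMaximal] (hm : m.comap (algebraMap k R) = IsLocalRing.maximalIdeal k)
    [Algebra.IsSmoothAt k m] (d : ℕ) (hd : 0 < d)
    (hdim : Module.finrank (R ⧸ m) ((R ⧸ m) ⊗[R] KaehlerDifferential k R) = d) :
    ∃ g : R, g ∉ m ∧ ∃ φ : MvPolynomial (Fin d) k →ₐ[k] Localization.Away g,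
      φ.toRingHom.Etale ∧
      Function.Surjective
        ((Ideal.Quotient.mk (m.map (algebraMap R (Localization.Away g)))).comp φ.toRingHom) := by
  obtain ⟨x, b, hb, hsurj⟩ := exists_coords k R m hm d hd hdim
  let P := MvPolynomial (Fin d) k
  let φ0 : P →ₐ[k] R := MvPolynomial.aeval x
  let : Algebra P R := φ0.toRingHom.toAlgebra
  have : IsScalarTower k P R := .of_algebraMap_eq fun a => (φ0.commutes a).symm
  have : Algebra.FinitePresentation P R :=
    .of_restrict_scalars_finitePresentation k _ _
  have : Algebra.IsEtaleAt P m :=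
    isEtaleAt_coords k R m d x b hb fun i => MvPolynomial.aeval_X x i
  obtain ⟨g, hg, het⟩ := Algebra.exists_etale_of_isEtaleAt (R := P) m
  let L := Localization.Away g
  let φ : P →ₐ[k] L := (IsScalarTower.toAlgHom k R L).comp φ0
  have hφ : φ.toRingHom = algebraMap P L :=
    RingHom.ext fun p => (IsScalarTower.algebraMap_apply P R L p).symm
  refine ⟨g, hg, φ, ?_, fun z => ?_⟩
  · rw [hφ]; exact RingHom.etale_algebraMap.mpr het
  obtain ⟨z, rfl⟩ := Ideal.Quotient.mk_surjective z
  obtain ⟨⟨r, s⟩, rfl⟩ := IsLocalization.mk'_surjective (Submonoid.powers g) z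
  let := Ideal.Quotient.field m
  have hs : (s : R) ∉ m := by
    obtain ⟨n, hn⟩ := s.2
    exact fun h => hg (‹m.IsMaximal›.isPrime.mem_of_pow_mem n ((show g ^ n = s from hn) ▸ h))
  obtain ⟨p, hp⟩ := hsurj (Ideal.Quotient.mk m r * (Ideal.Quotient.mk m s)⁻¹)
  refine ⟨p, (Ideal.Quotient.eq).mpr ?_⟩
  have hmem : φ0 p * s - r ∈ m := Ideal.Quotient.eq_zero_iff_mem.mp (by
    rw [map_sub, map_mul, show Ideal.Quotient.mk m (φ0 p) = _ from hp,
      inv_mul_cancel_right₀ (fun h => hs (Ideal.Quotient.eq_zero_iff_mem.mp h)), sub_self])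
  obtain ⟨w, hw⟩ := IsLocalization.map_units L s
  have : (φ.toRingHom p - IsLocalization.mk' L r s) * w ∈ m.map (algebraMap R L) := by
    rw [sub_mul, hw, IsLocalization.mk'_spec]
    have := Ideal.mem_map_of_mem (algebraMap R L) hmem
    rwa [map_sub, map_mul] at this
  simpa using Ideal.mul_mem_right (↑w⁻¹ : L) _ this

end Groth.Agent.S17854
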