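import Groth.Statements.S17855
import Groth.Agent.QuillenLib.Patch

set_option autoImplicit false
open CategoryTheory CategoryTheory.Limits MonoidalCategory CartesianMonoidalCategory MonObj GrpObj AlgebraicGeometry
universe u
open NonAbH1

namespace Groth.Agent.S17855

/-- For a group scheme locally of finite presentation, let R be a ring, G an R-group scheme locally of
finite presentation over S = Spec R, and r, r' ∈ R generating the unit ideal; let A = R[1/r], A' =
R[1/r'], B = R[1/rr']. For an R-algebra C write G₀(C) for the set of S-morphisms Spec C[T] → G whose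
restriction along T ↦ 0 (the S-morphism Spec C → Spec C[T]) is the unit. Then G₀(B) = G₀(A)·G₀(A'):
every g ∈ G₀(B) is the product, in the group of Spec B[T]-points of G, of the pullback of some g₁ ∈
G₀(A) and the pullback of some g₂ ∈ G₀(A') along Spec B[T] → Spec A[T], Spec A'[T]. The S-morphisms
induced by T ↦ 0 and by the localisation maps are taken as data determined by their underlying
scheme maps. The published statement also allows more general group functors and graded algebras. -/
theorem result
    (R : Type u) [CommRing R]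
    (G : Over (Spec (CommRingCat.of R))) [GrpObj G] [LocallyOfFinitePresentation G.hom]
    (r r' : R) (hrr : Ideal.span ({r, r'} : Set R) = ⊤)
    (A A' B : Type u) [CommRing A] [CommRing A'] [CommRing B] [Algebra R A] [Algebra R A'] [Algebra R B]
    [IsLocalization.Away r A] [IsLocalization.Away r' A'] [IsLocalization.Away (r * r') B]
    [Algebra A B] [Algebra A' B] [IsScalarTower R A B] [IsScalarTower R A' B]
    (eA : Over.mk (Spec.map (CommRingCat.ofHom (algebraMap R (A)))) ⟶ Over.mk (Spec.map (CommRingCat.ofHom (algebraMap R (Polynomial A)))))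
    (heA : eA.left = Spec.map (CommRingCat.ofHom (Polynomial.evalRingHom (0 : A))))
    (eA' : Over.mk (Spec.map (CommRingCat.ofHom (algebraMap R (A')))) ⟶ Over.mk (Spec.map (CommRingCat.ofHom (algebraMap R (Polynomial A')))))
    (heA' : eA'.left = Spec.map (CommRingCat.ofHom (Polynomial.evalRingHom (0 : A'))))
    (eB : Over.mk (Spec.map (CommRingCat.ofHom (algebraMap R (B)))) ⟶ Over.mk (Spec.map (CommRingCat.ofHom (algebraMap R (Polynomial B)))))
    (heB : eB.left = Spec.map (CommRingCat.ofHom (Polynomial.evalRingHom (0 : B))))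
    (tA : Over.mk (Spec.map (CommRingCat.ofHom (algebraMap R (Polynomial B)))) ⟶ Over.mk (Spec.map (CommRingCat.ofHom (algebraMap R (Polynomial A)))))
    (htA : tA.left = Spec.map (CommRingCat.ofHom (Polynomial.mapRingHom (algebraMap A B))))
    (tA' : Over.mk (Spec.map (CommRingCat.ofHom (algebraMap R (Polynomial B)))) ⟶ Over.mk (Spec.map (CommRingCat.ofHom (algebraMap R (Polynomial A')))))
    (htA' : tA'.left = Spec.map (CommRingCat.ofHom (Polynomial.mapRingHom (algebraMap A' B))))
    (g : Over.mk (Spec.map (CommRingCat.ofHom (algebraMap R (Polynomial B)))) ⟶ G) (hg : eB ≫ g = 1) :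
    ∃ (g₁ : Over.mk (Spec.map (CommRingCat.ofHom (algebraMap R (Polynomial A)))) ⟶ G) (g₂ : Over.mk (Spec.map (CommRingCat.ofHom (algebraMap R (Polynomial A')))) ⟶ G),
      eA ≫ g₁ = 1 ∧ eA' ≫ g₂ = 1 ∧ g = (tA ≫ g₁) * (tA' ≫ g₂) := by
  open Groth.Agent.QuillenLib in
  obtain ⟨g₁, g₂, h1, h2, e⟩ :
      ∃ (g₁ : O R (Polynomial A) ⟶ G) (g₂ : O R (Polynomial A') ⟶ G),
        om (ev0 R A) ≫ g₁ = 1 ∧ om (ev0 R A') ≫ g₂ = 1 ∧
          g = (om (Polynomial.mapAlgHom (IsScalarTower.toAlgHom R A B)) ≫ g₁) *
            (om (Polynomial.mapAlgHom (IsScalarTower.toAlgHom R A' B)) ≫ g₂) := by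
    have hA : IsLocAt (IsScalarTower.toAlgHom R A B) r' := isLocAt_away (r := r) _ rfl
    haveI : IsLocalization.Away (r' * r) B := by rw [_root_.mul_comm]; infer_instance
    have hA' : IsLocAt (IsScalarTower.toAlgHom R A' B) r := isLocAt_away (r := r') _ rfl
    refine exists_patch hA hA' hrr g ?_
    rw [show om (ev0 R B) = eB from Over.OverMorphism.ext (by
      rw [heB, om_left]; congr 2)]
    exact hg
  refine ⟨g₁, g₂, ?_, ?_, ?_⟩
  · rw [show eA = Groth.Agent.QuillenLib.om (Groth.Agent.QuillenLib.ev0 R A) from Over.OverMorphism.ext (by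
      rw [heA, Groth.Agent.QuillenLib.om_left]; congr 2)]
    exact h1
  · rw [show eA' = Groth.Agent.QuillenLib.om (Groth.Agent.QuillenLib.ev0 R A') from Over.OverMorphism.ext (by
      rw [heA', Groth.Agent.QuillenLib.om_left]; congr 2)]
    exact h2
  · rw [show tA = Groth.Agent.QuillenLib.om (Polynomial.mapAlgHom (IsScalarTower.toAlgHom R A B)) from
      Over.OverMorphism.ext (by rw [htA, Groth.Agent.QuillenLib.om_left]; congr 2),
      show tA' = Groth.Agent.QuillenLib.om (Polynomial.mapAlgHom (IsScalarTower.toAlgHom R A' B)) from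
      Over.OverMorphism.ext (by rw [htA', Groth.Agent.QuillenLib.om_left]; congr 2)]
    exact e

end Groth.Agent.S17855
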