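import Groth.Statements.S17856
import Groth.Agent.PiPts7.Main

set_option autoImplicit false
open CategoryTheory AlgebraicGeometry
universe u
open Algz

namespace Groth.Agent.S17856

/-- Let `X` be a quasi-compact quasi-separated scheme and `A i` an arbitrary family of commutative
rings. Sending a morphism from the spectrum of the product ring to `X` to the family of its
composites with the morphisms `Spec (A i) ⟶ Spec (∏ A i)` induced by the projections is a bijection
onto the set of all families of morphisms `Spec (A i) ⟶ X`. (Both quasi-compactness and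
quasi-separatedness of `X` are needed.) -/
theorem result (X : Scheme.{u}) [CompactSpace X] [QuasiSeparatedSpace X]
    {ι : Type u} (A : ι → CommRingCat.{u}) :
    Function.Bijective (fun f : Spec (CommRingCat.of (∀ i, A i)) ⟶ X =>
      fun i : ι => Spec.map (CommRingCat.ofHom (Pi.evalRingHom (fun j => (A j : Type u)) i)) ≫ f) := by
  refine ⟨pointsPi_injective A X, fun g => ?_⟩
  obtain ⟨M, hM⟩ := Groth.Agent.PiPts7.exists_morphism (T := fun i => Spec (A i)) g
  refine ⟨Spec.map (CommRingCat.ofHom (RingHom.pi fun i =>
    (Scheme.ΓSpecIso (A i)).hom.hom.comp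
      (Pi.evalRingHom (fun j => (Γ(Spec (A j), ⊤) : Type u)) i))) ≫ M, funext fun i => ?_⟩
  rw [← hM i, Groth.Agent.PiPts7.toPi]
  refine (Category.assoc _ _ _).symm.trans ?_
  congr 1
  rw [← SpecMap_ΓSpecIso_hom, ← Spec.map_comp, ← Spec.map_comp]
  rfl

end Groth.Agent.S17856
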